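import Groth.Statements.S12240
import Groth.Agent.S12235
import Groth.Agent.S1585
import Groth.Agent.FEtCat.NormalizationGeneric
import Groth.Agent.RedSub.Basic
import Groth.Agent.RegLoc.UFD
import Groth.Agent.CurveCoh.Integral
-- import your own Groth.Agent.* helpers here

set_option linter.style.haveILetI false
set_option backward.isDefEq.respectTransparency false
set_option backward.isDefEq.respectTransparency.types false
set_option maxHeartbeats 1000000

set_option autoImplicit false
universe u
open CategoryTheory CategoryTheory.Limits AlgebraicGeometry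
open Curves

namespace Groth.Agent.S12240

open Groth.Agent TopologicalSpace

/-- An integral normal scheme finite birational over an integral one is its normalization. -/
theorem exists_iso_normalization {T Z : Scheme.{u}} [IsIntegral T] [IsIntegral Z] (hT : Pi1.IsNormalScheme T)
    [QuasiCompact (Z.fromSpecStalk (genericPoint Z))] [QuasiSeparated (Z.fromSpecStalk (genericPoint Z))]
    (g : T ⟶ Z) [IsIntegralHom g] (U : Z.Opens) (hU : genericPoint Z ∈ U) [IsIso (g ∣_ U)] :
    ∃ e : T ≅ Curv2.normalization Z, e.hom ≫ Curv2.normalizationι Z = g := by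
  let f : Spec (CommRingCat.of Z.functionField) ⟶ Z := Z.fromSpecStalk (genericPoint Z)
  haveI : QuasiCompact f := ‹QuasiCompact (Z.fromSpecStalk (genericPoint Z))›
  haveI : QuasiSeparated f := ‹QuasiSeparated (Z.fromSpecStalk (genericPoint Z))›
  have hrange : Set.range f ⊆ (U : Set Z) := fun z hz =>
    (Z.range_fromSpecStalk.le hz : z ⤳ genericPoint Z).mem_open U.2 hU
  let f' : Spec (CommRingCat.of Z.functionField) ⟶ (U : Scheme.{u}) := IsOpenImmersion.lift U.ι f (by rwa [Scheme.Opens.range_ι])
  haveI : IsPreimmersion (f' ≫ U.ι) := by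
    rw [IsOpenImmersion.lift_fac]; infer_instance
  haveI : IsPreimmersion f' := IsPreimmersion.of_comp f' U.ι
  let h : Spec (CommRingCat.of Z.functionField) ⟶ T := f' ≫ inv (g ∣_ U) ≫ (g ⁻¹ᵁ U).ι
  have H : f = h ≫ g := by
    simp only [h, Category.assoc]
    rw [← morphismRestrict_ι, IsIso.inv_hom_id_assoc, IsOpenImmersion.lift_fac]
  haveI : IsPreimmersion h := inferInstanceAs (IsPreimmersion (f' ≫ inv (g ∣_ U) ≫ (g ⁻¹ᵁ U).ι))
  have hne : Nonempty ((g ⁻¹ᵁ U : T.Opens) : Scheme.{u}) := ⟨inv (g ∣_ U) ⟨_, hU⟩⟩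
  haveI := hne
  haveI : Nonempty (U : Scheme.{u}) := ⟨⟨_, hU⟩⟩
  haveI : IrreducibleSpace ↥((g ⁻¹ᵁ U : T.Opens) : Scheme.{u}) := inferInstance
  haveI : IrreducibleSpace ↥(U : Scheme.{u}) := inferInstance
  have hh : h default = genericPoint T := by
    have h1 : f' default = genericPoint (U : Scheme.{u}) := by
      apply U.ι.isOpenEmbedding.injective
      rw [← Scheme.Hom.comp_apply, IsOpenImmersion.lift_fac, genericPoint_eq_of_isOpenImmersion U.ι,
        show (default : Spec (CommRingCat.of Z.functionField)) = IsLocalRing.closedPoint _ from Subsingleton.elim _ _]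
      exact Z.fromSpecStalk_closedPoint
    show (f' ≫ inv (g ∣_ U) ≫ (g ⁻¹ᵁ U).ι) default = _
    rw [Scheme.Hom.comp_apply, Scheme.Hom.comp_apply, h1, genericPoint_eq_of_isOpenImmersion (inv (g ∣_ U)),
      genericPoint_eq_of_isOpenImmersion (g ⁻¹ᵁ U).ι]
  haveI := FEtCat.NormalizationGeneric.isIso_normalizationDesc hT f h hh g H
  refine ⟨(asIso (f.normalizationDesc h g H)).symm, ?_⟩
  rw [Iso.symm_hom, asIso_inv, IsIso.inv_comp_eq]
  exact (f.normalizationDesc_comp h g H).symm

/-- Stated over the field where the nonsingular projective model is already smooth. Let K be a field and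
X a proper geometrically irreducible curve over K (proper over K, integral, of dimension one) whose
normalization Y = X^ν is smooth over K. Then for every field extension Ω of K the base change Y_Ω,
together with its map to X_Ω, is the normalization of the reduction (X_Ω)_red: there is an
isomorphism from Y_Ω to the normalization of (X_Ω)_red whose composite with the normalization map
and the closed immersion (X_Ω)_red → X_Ω is the base change Y_Ω → X_Ω of Y → X. (Applied to the
reduction of the base change of a geometrically irreducible proper curve to a field over which its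
nonsingular projective model becomes smooth, this says that the smooth model is compatible with all
further field extensions; the instance hypotheses on (X_Ω)_red — integrality and the two conditions
needed to form the normalization — always hold.) -/
theorem result (K : Type u) [Field K] (X : Scheme.{u})
    [X.Over (Spec (CommRingCat.of K))] [IsIntegral X] [IsProper (X ↘ (Spec (CommRingCat.of K)))]
    [GeometricallyIrreducible (X ↘ (Spec (CommRingCat.of K)))] (hdim : topologicalKrullDim X = 1)
    [QuasiCompact (X.fromSpecStalk (genericPoint X))] [QuasiSeparated (X.fromSpecStalk (genericPoint X))]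
    (hsm : Smooth (Curv2.normalizationι X ≫ (X ↘ (Spec (CommRingCat.of K)))))
    (Ω : Type u) [Field Ω] [Algebra K Ω]
    [IsIntegral ((Curv2.bc K X Ω).nilradical).subscheme]
    [QuasiCompact ((((Curv2.bc K X Ω).nilradical).subscheme).fromSpecStalk (genericPoint ((Curv2.bc K X Ω).nilradical).subscheme))]
    [QuasiSeparated ((((Curv2.bc K X Ω).nilradical).subscheme).fromSpecStalk (genericPoint ((Curv2.bc K X Ω).nilradical).subscheme))] :
    ∃ e : Limits.pullback (Curv2.normalizationι X ≫ (X ↘ (Spec (CommRingCat.of K))))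
          (Spec.map (CommRingCat.ofHom (algebraMap K Ω))) ≅
        Curv2.normalization ((Curv2.bc K X Ω).nilradical).subscheme,
      e.hom ≫ Curv2.normalizationι ((Curv2.bc K X Ω).nilradical).subscheme ≫ ((Curv2.bc K X Ω).nilradical).subschemeι =
        Limits.pullback.map (Curv2.normalizationι X ≫ (X ↘ (Spec (CommRingCat.of K))))
          (Spec.map (CommRingCat.ofHom (algebraMap K Ω))) (X ↘ (Spec (CommRingCat.of K)))
          (Spec.map (CommRingCat.ofHom (algebraMap K Ω))) (Curv2.normalizationι X) (𝟙 _) (𝟙 _)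
          (Category.comp_id _) ((Category.comp_id _).trans (Category.id_comp _).symm) := by
  set Z := ((Curv2.bc K X Ω).nilradical).subscheme
  set ι := ((Curv2.bc K X Ω).nilradical).subschemeι
  set ν := Curv2.normalizationι X
  set s := X ↘ Spec (CommRingCat.of K)
  set g := Spec.map (CommRingCat.ofHom (algebraMap K Ω))
  obtain ⟨hfin, -, ⟨U, hU, hiso⟩, hint, -⟩ := S1585.result K X
  haveI : IsFinite ν := hfin
  haveI : IsIntegral (Curv2.normalization X) := hint
  haveI : IsIso (ν ∣_ U) := hiso
  haveI : Flat g := (HasRingHomProperty.Spec_iff (P := @Flat)).2 (RingHom.flat_algebraMap_iff.2 inferInstance)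
  haveI : Surjective g := ⟨fun y => ⟨(IsLocalRing.closedPoint Ω : PrimeSpectrum Ω),
    Subsingleton.elim (α := PrimeSpectrum K) _ _⟩⟩
  have h1 : IrreducibleSpace ↥(pullback s g) :=
    GeometricallyIrreducible.geometrically_irreducibleSpace (f := s) g
      (pullback.fst _ _) (pullback.snd _ _) (.of_hasPullback _ _)
  haveI := S12235.irreducibleSpace_pullback ν s g U hU h1
  set T := pullback (ν ≫ s) g
  haveI : Smooth (ν ≫ s) := hsm
  letI : T.Over (Spec (CommRingCat.of Ω)) := ⟨pullback.snd (ν ≫ s) g⟩
  haveI : Smooth (T ↘ Spec (CommRingCat.of Ω)) := (inferInstance : Smooth (pullback.snd (ν ≫ s) g))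
  haveI : ∀ y : T, _root_.IsReduced (T.presheaf.stalk y) := fun y =>
    haveI := CurveCoh.isDomain_stalk Ω T y
    inferInstance
  haveI : IsReduced T := isReduced_of_isReduced_stalk _
  haveI : IsIntegral T := isIntegral_of_irreducibleSpace_of_isReduced T
  have hT : Pi1.IsNormalScheme T := fun y => by
    haveI := CurveDVR.isRegularLocalRing_stalk (T ↘ Spec (CommRingCat.of Ω)) y
    haveI : IsDomain (T.presheaf.stalk y) := CurveCoh.isDomain_stalk Ω T y
    haveI := RegLoc.UFD.uniqueFactorizationMonoid (T.presheaf.stalk y)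
    exact ⟨inferInstance, inferInstance⟩
  let m : T ⟶ pullback s g := pullback.map (ν ≫ s) g s g ν (𝟙 _) (𝟙 _)
    (Category.comp_id _) ((Category.comp_id _).trans (Category.id_comp _).symm)
  have hsq : IsPullback (pullback.fst (ν ≫ s) g) m ν (pullback.fst s g) := by
    refine IsPullback.of_bot ?_ (by simp [m]) (IsPullback.of_hasPullback s g)
    convert IsPullback.of_hasPullback (ν ≫ s) g using 1
    simp [m]
  haveI : IsFinite m := MorphismProperty.of_isPullback hsq inferInstance
  haveI : IsIso (m ∣_ (pullback.fst s g ⁻¹ᵁ U)) := by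
    have e := (isPullback_morphismRestrict m (pullback.fst s g ⁻¹ᵁ U)).flip.paste_horiz hsq
    rw [← morphismRestrict_ι (pullback.fst s g) U] at e
    exact (MorphismProperty.isomorphisms Scheme.{u}).of_isPullback
      (IsPullback.of_right' e (isPullback_morphismRestrict ν U).flip) (inferInstance : IsIso (ν ∣_ U))
  have hker : ι.ker ≤ m.ker := by
    rw [Scheme.IdealSheafData.ker_subschemeι]
    refine le_of_eq_of_le (Scheme.IdealSheafData.vanishingIdeal_top).symm ?_
    exact RedSub.vanishingIdeal_le_ker m ⊤ (Set.subset_univ _)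
  let l : T ⟶ Z := IsClosedImmersion.lift ι m hker
  have hl : l ≫ ι = m := IsClosedImmersion.lift_fac _ _ _
  haveI : IsFinite (l ≫ ι) := by rw [hl]; infer_instance
  haveI : IsFinite l := IsFinite.of_comp l ι
  haveI : IsIso (l ∣_ (ι ⁻¹ᵁ (pullback.fst s g ⁻¹ᵁ U))) := by
    haveI : IsIso ((l ∣_ (ι ⁻¹ᵁ (pullback.fst s g ⁻¹ᵁ U))) ≫ (ι ∣_ (pullback.fst s g ⁻¹ᵁ U))) := by
      have h := morphismRestrict_comp l ι (pullback.fst s g ⁻¹ᵁ U)
      have h' : IsIso ((l ≫ ι) ∣_ (pullback.fst s g ⁻¹ᵁ U)) := by rw [hl]; infer_instance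
      exact h ▸ h'
    haveI : IsSplitEpi (ι ∣_ (pullback.fst s g ⁻¹ᵁ U)) :=
      ⟨⟨⟨inv ((l ∣_ (ι ⁻¹ᵁ (pullback.fst s g ⁻¹ᵁ U))) ≫ (ι ∣_ (pullback.fst s g ⁻¹ᵁ U))) ≫
          (l ∣_ (ι ⁻¹ᵁ (pullback.fst s g ⁻¹ᵁ U))), by rw [Category.assoc, IsIso.inv_hom_id]⟩⟩⟩
    haveI : IsIso (ι ∣_ (pullback.fst s g ⁻¹ᵁ U)) := isIso_of_mono_of_isSplitEpi _
    exact IsIso.of_isIso_comp_right _ (ι ∣_ (pullback.fst s g ⁻¹ᵁ U))
  have hgen : genericPoint Z ∈ ι ⁻¹ᵁ (pullback.fst s g ⁻¹ᵁ U) := by
    haveI : Surjective (pullback.fst s g) := MorphismProperty.pullback_fst _ _ inferInstance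
    haveI : Surjective ι := ⟨fun y => by
      show y ∈ Set.range ι
      rw [Scheme.IdealSheafData.range_subschemeι, Scheme.support_nilradical]
      trivial⟩
    obtain ⟨x, hx⟩ := hU
    obtain ⟨t, ht⟩ := (pullback.fst s g).surjective x
    obtain ⟨z, hz⟩ := ι.surjective t
    refine (genericPoint_specializes z).mem_open (ι ⁻¹ᵁ (pullback.fst s g ⁻¹ᵁ U)).2 ?_
    show pullback.fst s g (ι z) ∈ U
    rw [hz, ht]; exact hx
  obtain ⟨e, he⟩ := exists_iso_normalization hT l _ hgen
  refine ⟨e, ?_⟩
  rw [← Category.assoc, he]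
  exact hl

end Groth.Agent.S12240
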