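import Groth.Statements.S12244
import Groth.Agent.S12239
import Groth.Agent.FlatMor.FlatAtBC
import Groth.Agent.CAlg76.SmoothRelDim


set_option autoImplicit false
universe u
open FlatMor

namespace Groth.Agent.S12244


open _root_.TensorProduct

/-- A prime of a pushout over a compatible pair. -/
theorem exists_over {R R' T T' : Type u} [CommRing R] [CommRing R'] [CommRing T] [CommRing T']
    [Algebra R R'] [Algebra R T] [Algebra R' T'] [Algebra R T'] [Algebra T T']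
    [IsScalarTower R R' T'] [IsScalarTower R T T'] [Algebra.IsPushout R R' T T']
    (p : Ideal R) [p.IsPrime] (p' : Ideal R') [p'.IsPrime] [p'.LiesOver p] (y : Ideal T) [y.IsPrime] [y.LiesOver p] :
    ∃ Q : Ideal T', Q.IsPrime ∧ Q.LiesOver p' ∧ Q.LiesOver y := by
  haveI : Algebra.IsPushout R T R' T' := Algebra.IsPushout.symm inferInstance
  obtain ⟨Q, hQ, h1, h2⟩ := FlatMor.FlatAtBC.exists_prime_of_pushout p y p' (S' := T')
    (Ideal.LiesOver.over (p := p) (P := y)).symm (Ideal.LiesOver.over (p := p) (P := p')).symm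
  exact ⟨Q, hQ, ⟨h2.symm⟩, ⟨h1.symm⟩⟩

theorem isBaseChange_restrict {B B' A A' M M' : Type u} [CommRing B] [CommRing B'] [CommRing A] [CommRing A']
    [Algebra B B'] [Algebra B A] [Algebra B' A'] [Algebra B A'] [Algebra A A']
    [IsScalarTower B B' A'] [IsScalarTower B A A'] [Algebra.IsPushout B B' A A']
    [AddCommGroup M] [Module A M] [Module B M] [IsScalarTower B A M]
    [AddCommGroup M'] [Module A' M'] [Module A M'] [IsScalarTower A A' M'] [Module B' M'] [IsScalarTower B' A' M']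
    [Module B M'] [IsScalarTower B A M'] [IsScalarTower B B' M']
    (f : M →ₗ[A] M') (hf : IsBaseChange A' f) : IsBaseChange B' (f.restrictScalars B) :=
  IsBaseChange.of_equiv ((Algebra.IsPushout.cancelBaseChange B B' A A' M).symm ≪≫ₗ hf.equiv.restrictScalars B')
    fun x => by simp [Algebra.IsPushout.cancelBaseChange_symm_tmul, hf.equiv_tmul]

/-- The local dimension of the fibre support is unchanged. -/
theorem locDim_baseChange {R R' S S' N N' : Type u} [CommRing R] [CommRing R'] [CommRing S] [CommRing S']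
    [Algebra R R'] [Algebra R S] [Algebra R' S'] [Algebra R S'] [Algebra S S']
    [IsScalarTower R R' S'] [IsScalarTower R S S'] [Algebra.IsPushout R R' S S']
    [AddCommGroup N] [Module S N] [Module R N] [IsScalarTower R S N] [Module.Finite S N]
    [AddCommGroup N'] [Module S' N'] [Module R' N'] [IsScalarTower R' S' N'] [Module S N'] [IsScalarTower S S' N']
    (f : N →ₗ[S] N') (hf : IsBaseChange S' f)
    (p : Ideal R) [p.IsPrime] (p' : Ideal R') [p'.IsPrime] [hp' : p'.LiesOver p]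
    (hκ : Function.Bijective (Ideal.ResidueField.mapₐ p p' (Algebra.ofId R R') hp'.over))
    (q : Ideal S) [q.IsPrime] [q.LiesOver p] (q' : Ideal S') [q'.IsPrime] [q'.LiesOver q] [q'.LiesOver p'] (n : ℕ)
    (h1 : ∃ (ξ : PrimeSpectrum (p.Fiber S)) (hξ : ξ ∈ Module.support (p.Fiber S) (FlatCA.fiberMod p S N)),
      ξ.asIdeal = FlatCA.fiberIdeal p q ∧
      FlatMor.localDim (Module.support (p.Fiber S) (FlatCA.fiberMod p S N)) ⟨ξ, hξ⟩ = n) :
    ∃ (ξ' : PrimeSpectrum (p'.Fiber S')) (hξ' : ξ' ∈ Module.support (p'.Fiber S') (FlatCA.fiberMod p' S' N')),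
      ξ'.asIdeal = FlatCA.fiberIdeal p' q' ∧
      FlatMor.localDim (Module.support (p'.Fiber S') (FlatCA.fiberMod p' S' N')) ⟨ξ', hξ'⟩ = n := by
  have huS : ∀ (q₁ : Ideal S') [q₁.IsPrime], q₁.LiesOver q → q₁.LiesOver p' → q₁ = q' := fun q₁ _ _ _ =>
    S12239.unique_over (S := S) p p' hκ q q₁ q'
  haveI : Module.Finite S' N' := Module.Finite.equiv hf.equiv
  obtain ⟨ξ, hξ, hξq, hloc⟩ := h1
  let hh := PrimeSpectrum.homeomorphOfRingEquiv (S12239.fibreEquiv (S := S) (S' := S') p p' hκ)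
  let i := (Algebra.TensorProduct.includeRight : S →ₐ[R] p.Fiber S).toRingHom
  let i' := (Algebra.TensorProduct.includeRight : S' →ₐ[R'] p'.Fiber S').toRingHom
  have hsupp : ∀ x : PrimeSpectrum (p.Fiber S), x ∈ Module.support (p.Fiber S) (FlatCA.fiberMod p S N) ↔
      PrimeSpectrum.comap i x ∈ Module.support S N := by
    letI : Algebra S (p.Fiber S) := Algebra.TensorProduct.rightAlgebra
    intro x
    show x ∈ Module.support (p.Fiber S) ((p.Fiber S) ⊗[S] N) ↔ _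
    rw [Dim.support_tensor S (p.Fiber S) (p.Fiber S) N]
    have h0 : x ∈ Module.support (p.Fiber S) (p.Fiber S) := by
      rw [Module.mem_support_iff_of_finite, Module.annihilator_eq_bot.mpr inferInstance]
      exact bot_le
    exact ⟨fun h => h.2, fun h => ⟨h0, h⟩⟩
  have hsupp' : ∀ x : PrimeSpectrum (p'.Fiber S'), x ∈ Module.support (p'.Fiber S') (FlatCA.fiberMod p' S' N') ↔
      hh x ∈ Module.support (p.Fiber S) (FlatCA.fiberMod p S N) := by
    letI : Algebra S' (p'.Fiber S') := Algebra.TensorProduct.rightAlgebra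
    intro x
    have h0 : x ∈ Module.support (p'.Fiber S') (p'.Fiber S') := by
      rw [Module.mem_support_iff_of_finite, Module.annihilator_eq_bot.mpr inferInstance]
      exact bot_le
    show x ∈ Module.support (p'.Fiber S') ((p'.Fiber S') ⊗[S'] N') ↔ _
    rw [Dim.support_tensor S' (p'.Fiber S') (p'.Fiber S') N', hsupp, S12231.support_baseChange hf,
      Module.support_eq_zeroLocus (M := N)]
    have hxS : (PrimeSpectrum.comap i (hh x)).asIdeal =
        (PrimeSpectrum.comap i' x).asIdeal.comap (algebraMap S S') := by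
      show (hh x).asIdeal.comap i = (x.asIdeal.comap i').comap (algebraMap S S')
      rw [Ideal.comap_comap, ← S12239.comap_fibre_point (S := S) (S' := S') p p' hκ (hh x), Homeomorph.symm_apply_apply]
    refine ⟨fun h => ?_, fun h => ⟨h0, ?_⟩⟩
    · exact (Ideal.map_le_iff_le_comap.mp h.2).trans_eq hxS.symm
    · exact Ideal.map_le_iff_le_comap.mpr (le_of_le_of_eq h hxS)
  let ξ' : PrimeSpectrum (p'.Fiber S') := hh.symm ξ
  have hξ' : ξ' ∈ Module.support (p'.Fiber S') (FlatCA.fiberMod p' S' N') :=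
    (hsupp' _).mpr (by rw [Homeomorph.apply_symm_apply]; exact hξ)
  refine ⟨ξ', hξ', ?_, ?_⟩
  · let Q : Ideal S' := ξ'.asIdeal.comap i'
    haveI : Q.IsPrime := Ideal.IsPrime.comap _
    haveI : Q.LiesOver p' :=
      ⟨((congrArg PrimeSpectrum.asIdeal ((PrimeSpectrum.preimageOrderIsoFiber R' S' ⟨p', inferInstance⟩).symm ξ').2)).symm⟩
    haveI : Q.LiesOver q := ⟨by
      show q = (ξ'.asIdeal.comap i').comap (algebraMap S S')
      rw [Ideal.comap_comap]
      refine (S12239.comap_fibre_point (S := S) (S' := S') p p' hκ ξ).symm ▸ ?_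
      rw [hξq]
      exact (FlatMisc.Fiber.comap_fiberIdeal p q).symm⟩
    have hQ : Q = q' := huS Q inferInstance inferInstance
    haveI := RGFlat.fiberIdeal_isPrime p' q'
    refine congrArg PrimeSpectrum.asIdeal (?_ : ξ' = ⟨FlatCA.fiberIdeal p' q', inferInstance⟩)
    apply (PrimeSpectrum.preimageOrderIsoFiber R' S' ⟨p', inferInstance⟩).symm.injective
    refine Subtype.ext (PrimeSpectrum.ext ?_)
    exact hQ.trans (FlatMisc.Fiber.comap_fiberIdeal p' q').symm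
  · let e : Module.support (p'.Fiber S') (FlatCA.fiberMod p' S' N') ≃ₜ Module.support (p.Fiber S) (FlatCA.fiberMod p S N) :=
      hh.subtype hsupp'
    have hee : e ⟨ξ', hξ'⟩ = ⟨ξ, hξ⟩ := Subtype.ext (hh.apply_symm_apply ξ)
    rw [← hloc]
    refine le_antisymm ?_ ?_
    · have := FlatMisc.FibreDimScheme.localDim_homeo e.symm (e ⟨ξ', hξ'⟩)
      rw [Homeomorph.symm_apply_apply, hee] at this
      exact this
    · have := FlatMisc.FibreDimScheme.localDim_homeo e ⟨ξ', hξ'⟩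
      rw [hee] at this
      exact this


open TensorProduct in
/-- All schemes are affine. Let R → S be of finite type, N a finite S-module, p ⊆ R and q ⊆ S primes, 𝒟
a complete dévissage of N/S/R over p in the prelude's algebraic form and 𝒜 a datum making it a
complete dévissage at q (primes qB_i ⊆ B_i over p with purely transcendental residue fields, unique
primes qA_i ⊆ A_i over them, threaded through q and through the maps B_i → A_{i+1}, relative
dimensions d_i of R → B_i equal to the local dimension of the fibre support of M_i at qB_i). Let R →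
R' be a ring map and p' a prime over p with κ(p) → κ(p') bijective, S' the base change of S, N' = N
⊗_S S', and q' a prime of S' over q and over p'. Let 𝒟' be a complete dévissage of N'/S'/R' over p'
of the same length whose rings A'_i, B'_i (i below the length) are base changes of A_i, B_i along R
→ R' compatibly with B_i → A_i, B_i → A_{i+1}, S → A_0 and S' → A'_0, and whose modules M'_i are
base changes of M_i along A_i → A'_i compatibly with N ≅ M_0 and N' ≅ M'_0. Assume moreover that at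
every index at or beyond the length the ring B'_i has a prime over p' and A'_i a prime over that one
(the structure's families run over all natural numbers and constrain nothing at those indices, while
a datum at a point asks for such primes at every index; the condition touches only this
unconstrained tail and holds, for instance, when the tail repeats the last genuine step — without it
the zero ring could sit there and no datum would exist). Then 𝒟' is a complete dévissage at q' with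
the same relative dimensions: there is a datum 𝒜' for (𝒟', q') with d' = d whose primes qB'_i, qA'_i
lie over qB_i, qA_i for every step i below the length. -/
theorem result
    (R S : Type u) [CommRing R] [CommRing S] [Algebra R S] [Algebra.FiniteType R S]
    (N : Type u) [AddCommGroup N] [Module S N] [Module.Finite S N]
    (p : Ideal R) [p.IsPrime] (q : Ideal S) [q.IsPrime] (𝒟 : FlatCA.CompleteDevissage R S N p)
    (𝒜 : FlatCA.CompleteDevissageAt R S N p q 𝒟)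
    (R' : Type u) [CommRing R'] [Algebra R R'] (p' : Ideal R') [p'.IsPrime] [hp' : p'.LiesOver p]
    (hκ : Function.Bijective (Ideal.ResidueField.mapₐ p p' (Algebra.ofId R R') hp'.over))
    (S' : Type u) [CommRing S'] [Algebra R' S'] [Algebra R S'] [Algebra S S'] [IsScalarTower R R' S']
    [IsScalarTower R S S'] [Algebra.IsPushout R R' S S']
    (N' : Type u) [AddCommGroup N'] [Module S' N'] [Module S N'] [IsScalarTower S S' N']
    (f : N →ₗ[S] N') (hf : IsBaseChange S' f)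
    (q' : Ideal S') [q'.IsPrime] [q'.LiesOver q] [q'.LiesOver p']
    (𝒟' : FlatCA.CompleteDevissage R' S' N' p') (hn : 𝒟'.n = 𝒟.n)
    (htail : ∀ i, 𝒟.n ≤ i → ∃ (Q : Ideal (𝒟'.B i)) (P : Ideal (𝒟'.A i)),
      Q.IsPrime ∧ P.IsPrime ∧ Q.LiesOver p' ∧ P.LiesOver Q)
    [aA : ∀ i : Fin 𝒟.n, Algebra (𝒟.A i) (𝒟'.A i)] [rA : ∀ i : Fin 𝒟.n, Algebra R (𝒟'.A i)]
      [∀ i : Fin 𝒟.n, IsScalarTower R (R') (𝒟'.A i)] [∀ i : Fin 𝒟.n, IsScalarTower R (𝒟.A i) (𝒟'.A i)]
      [aB : ∀ i : Fin 𝒟.n, Algebra (𝒟.B i) (𝒟'.B i)] [rB : ∀ i : Fin 𝒟.n, Algebra R (𝒟'.B i)]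
      [∀ i : Fin 𝒟.n, IsScalarTower R (R') (𝒟'.B i)] [∀ i : Fin 𝒟.n, IsScalarTower R (𝒟.B i) (𝒟'.B i)]
      [bA : ∀ i : Fin 𝒟.n, Algebra (𝒟.B i) (𝒟'.A i)] [∀ i : Fin 𝒟.n, IsScalarTower (𝒟.B i) (𝒟.A i) (𝒟'.A i)]
      [∀ i : Fin 𝒟.n, IsScalarTower (𝒟.B i) (𝒟'.B i) (𝒟'.A i)]
      [bA' : ∀ i : Fin 𝒟.n, Algebra (𝒟.B i) (𝒟'.A (i + 1))]
      [∀ i : Fin 𝒟.n, IsScalarTower (𝒟.B i) (𝒟'.B i) (𝒟'.A (i + 1))]
      [sA : Algebra S (𝒟'.A 0)] [IsScalarTower S (S') (𝒟'.A 0)]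
      [mA : ∀ i : Fin 𝒟.n, Module (𝒟.A i) (𝒟'.M i)] [∀ i : Fin 𝒟.n, IsScalarTower (𝒟.A i) (𝒟'.A i) (𝒟'.M i)]
      (gM : ∀ i : Fin 𝒟.n, 𝒟.M i →ₗ[𝒟.A i] 𝒟'.M i)
    (hbc : (letI := aA ⟨0, 𝒟.pos⟩; IsScalarTower S (𝒟.A 0) (𝒟'.A 0)) ∧
      (∀ x : N, 𝒟'.isoN (f x) = gM ⟨0, 𝒟.pos⟩ (𝒟.isoN x)) ∧
      (∀ (i : Fin 𝒟.n) (h : (i : ℕ) + 1 < 𝒟.n),
        letI := aA ⟨i + 1, h⟩; IsScalarTower (𝒟.B i) (𝒟.A (i + 1)) (𝒟'.A (i + 1))) ∧
      ∀ i : Fin 𝒟.n,
        Algebra.IsPushout R R' (𝒟.A i) (𝒟'.A i) ∧ Algebra.IsPushout R R' (𝒟.B i) (𝒟'.B i) ∧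
        IsBaseChange (𝒟'.A i) (gM i)) :
    ∃ 𝒜' : FlatCA.CompleteDevissageAt R' S' N' p' q' 𝒟', 𝒜'.d = 𝒜.d ∧
      ∀ i : Fin 𝒟.n, (𝒜'.qB i).LiesOver (𝒜.qB i) ∧ (𝒜'.qA i).LiesOver (𝒜.qA i) := by
  obtain ⟨h00, hN0, hstep, hbc⟩ := hbc
  haveI : ∀ i, (𝒜.qA i).IsPrime := 𝒜.hqA
  haveI : ∀ i, (𝒜.qB i).IsPrime := 𝒜.hqB
  haveI : ∀ i, (𝒜.qB i).LiesOver p := 𝒜.overB
  haveI : ∀ i, (𝒜.qA i).LiesOver (𝒜.qB i) := 𝒜.overA
  haveI : ∀ i, (𝒜.qA i).LiesOver p := fun i => Ideal.LiesOver.trans (𝒜.qA i) (𝒜.qB i) p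
  have hB : ∀ i : Fin 𝒟.n, ∃ Q : Ideal (𝒟'.B i), Q.IsPrime ∧ Q.LiesOver p' ∧ Q.LiesOver (𝒜.qB i) := fun i =>
    haveI := (hbc i).2.1
    exists_over p p' (𝒜.qB i)
  have hA : ∀ i : Fin 𝒟.n, ∃ Q : Ideal (𝒟'.A i), Q.IsPrime ∧ Q.LiesOver p' ∧ Q.LiesOver (𝒜.qA i) := fun i =>
    haveI := (hbc i).1
    exists_over p p' (𝒜.qA i)
  haveI : ∀ i : Fin 𝒟.n, IsScalarTower R (𝒟'.B i) (𝒟'.A i) := fun i => IsScalarTower.of_algebraMap_eq fun x => by
    rw [IsScalarTower.algebraMap_apply R R' (𝒟'.A i), IsScalarTower.algebraMap_apply R' (𝒟'.B i) (𝒟'.A i),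
      ← IsScalarTower.algebraMap_apply R R' (𝒟'.B i)]
  choose yB hyB1 hyB2 hyB3 using hB
  choose zA hzA1 hzA2 hzA3 using hA
  choose tB tA htB1 htA1 htB2 htA2 using htail
  let qB : ∀ i, Ideal (𝒟'.B i) := fun i => if h : i < 𝒟.n then yB ⟨i, h⟩ else tB i (not_lt.mp h)
  let qA : ∀ i, Ideal (𝒟'.A i) := fun i => if h : i < 𝒟.n then zA ⟨i, h⟩ else tA i (not_lt.mp h)
  have eB : ∀ i (h : i < 𝒟.n), qB i = yB ⟨i, h⟩ := fun i h => dif_pos h
  have eA : ∀ i (h : i < 𝒟.n), qA i = zA ⟨i, h⟩ := fun i h => dif_pos h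
  have eB' : ∀ i (h : ¬ i < 𝒟.n), qB i = tB i (not_lt.mp h) := fun i h => dif_neg h
  have eA' : ∀ i (h : ¬ i < 𝒟.n), qA i = tA i (not_lt.mp h) := fun i h => dif_neg h
  have hcB : ∀ i : Fin 𝒟.n, (zA i).comap (algebraMap (𝒟'.B i) (𝒟'.A i)) = yB i := by
    intro i
    haveI := (hbc i).2.1
    haveI := hzA1 i; haveI := hzA2 i; haveI := hzA3 i
    haveI := hyB1 i; haveI := hyB2 i; haveI := hyB3 i
    let Q := (zA i).comap (algebraMap (𝒟'.B i) (𝒟'.A i))
    haveI : Q.IsPrime := Ideal.IsPrime.comap _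
    haveI : Q.LiesOver p' := ⟨by
      show p' = ((zA i).comap _).comap (algebraMap R' (𝒟'.B i))
      rw [Ideal.comap_comap, ← IsScalarTower.algebraMap_eq]
      exact Ideal.LiesOver.over (P := zA i) (p := p')⟩
    haveI : Q.LiesOver (𝒜.qB i) := ⟨by
      show 𝒜.qB i = ((zA i).comap _).comap (algebraMap (𝒟.B i) (𝒟'.B i))
      rw [Ideal.comap_comap, ← IsScalarTower.algebraMap_eq, IsScalarTower.algebraMap_eq (𝒟.B i) (𝒟.A i) (𝒟'.A i),
        ← Ideal.comap_comap, ← Ideal.under, ← Ideal.under, ← Ideal.over_def (zA i) (𝒜.qA i),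
        ← Ideal.over_def (𝒜.qA i) (𝒜.qB i)]⟩
    exact S12239.unique_over (S := 𝒟.B i) p p' hκ (𝒜.qB i) Q (yB i)
  have hqB : ∀ i, (qB i).IsPrime := fun i => by
    by_cases h : i < 𝒟.n
    · rw [eB i h]; exact hyB1 ⟨i, h⟩
    · rw [eB' i h]; exact htB1 i _
  have hqA : ∀ i, (qA i).IsPrime := fun i => by
    by_cases h : i < 𝒟.n
    · rw [eA i h]; exact hzA1 ⟨i, h⟩
    · rw [eA' i h]; exact htA1 i _
  have overB : ∀ i, (qB i).LiesOver p' := fun i => by
    by_cases h : i < 𝒟.n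
    · rw [eB i h]; exact hyB2 ⟨i, h⟩
    · rw [eB' i h]; exact htB2 i _
  have overA : ∀ i, (qA i).LiesOver (qB i) := fun i => by
    by_cases h : i < 𝒟.n
    · rw [eA i h, eB i h]; exact ⟨(hcB ⟨i, h⟩).symm⟩
    · rw [eA' i h, eB' i h]; exact htA2 i _
  have liesB : ∀ i : Fin 𝒟.n, (qB i).LiesOver (𝒜.qB i) := fun i => by rw [eB i i.2]; exact hyB3 i
  have liesA : ∀ i : Fin 𝒟.n, (qA i).LiesOver (𝒜.qA i) := fun i => by rw [eA i i.2]; exact hzA3 i
  have overA' : ∀ i, (qA i).LiesOver p' := fun i =>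
    haveI := overA i; haveI := overB i; Ideal.LiesOver.trans (qA i) (qB i) p'
  refine ⟨{ qB := qB, qA := qA, hqB := hqB, hqA := hqA, overB := overB, overA := overA, pureTrans := ?_, uniq := ?_, q0 := ?_, qStep := ?_, d := 𝒜.d, relDim := ?_, locDim := ?_ }, rfl, fun i => ⟨liesB i, liesA i⟩⟩
  · intro i hi
    obtain ⟨j, rfl⟩ : ∃ j : Fin 𝒟.n, (j : ℕ) = i := ⟨⟨i, hn ▸ hi⟩, rfl⟩
    haveI := (hbc j).2.1
    haveI := hqB j; haveI := overB j; haveI : (qB j).LiesOver (𝒜.qB j) := liesB j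
    exact S12239.pureTrans_baseChange (S := 𝒟.B j) p p' hκ (𝒜.qB j) (qB j) (𝒜.pureTrans j j.2)
  · intro i hi Q hQ hQB
    obtain ⟨j, rfl⟩ : ∃ j : Fin 𝒟.n, (j : ℕ) = i := ⟨⟨i, hn ▸ hi⟩, rfl⟩
    haveI := (hbc j).1
    haveI := hqA j; haveI := overA' j; haveI : (qA j).LiesOver (𝒜.qA j) := liesA j
    haveI := hqB j; haveI := overB j; haveI : (qB j).LiesOver (𝒜.qB j) := liesB j
    haveI := hQB
    let C₁ := Q.comap (algebraMap (𝒟.A j) (𝒟'.A j))
    haveI : C₁.IsPrime := Ideal.IsPrime.comap _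
    haveI : Q.LiesOver (𝒜.qA j) := ⟨(𝒜.uniq j j.2 C₁ ⟨by
      show 𝒜.qB j = (Q.comap (algebraMap (𝒟.A j) (𝒟'.A j))).comap (algebraMap (𝒟.B j) (𝒟.A j))
      rw [Ideal.comap_comap, ← IsScalarTower.algebraMap_eq, IsScalarTower.algebraMap_eq (𝒟.B j) (𝒟'.B j) (𝒟'.A j),
        ← Ideal.comap_comap]
      exact (Ideal.LiesOver.over (P := qB j) (p := 𝒜.qB j)).trans
        (congrArg (Ideal.comap (algebraMap (𝒟.B j) (𝒟'.B j))) (Ideal.LiesOver.over (P := Q) (p := qB j)))⟩).symm⟩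
    haveI : Q.LiesOver p' := Ideal.LiesOver.trans Q (qB j) p'
    exact S12239.unique_over (S := 𝒟.A j) p p' hκ (𝒜.qA j) Q (qA j)
  · let j : Fin 𝒟.n := ⟨0, 𝒟.pos⟩
    letI : Algebra (𝒟.A 0) (𝒟'.A 0) := aA j
    haveI : IsScalarTower S (𝒟.A 0) (𝒟'.A 0) := h00
    haveI := hqA 0; haveI := overA' 0; haveI : (qA 0).LiesOver (𝒜.qA 0) := liesA j
    let Q := (qA 0).comap (algebraMap S' (𝒟'.A 0))
    haveI : Q.IsPrime := Ideal.IsPrime.comap _
    haveI : Q.LiesOver p' := ⟨by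
      show p' = ((qA 0).comap _).comap (algebraMap R' S')
      rw [Ideal.comap_comap, ← IsScalarTower.algebraMap_eq]
      exact Ideal.LiesOver.over (P := qA 0) (p := p')⟩
    haveI : Q.LiesOver q := ⟨by
      show q = ((qA 0).comap _).comap (algebraMap S S')
      rw [Ideal.comap_comap, ← IsScalarTower.algebraMap_eq, IsScalarTower.algebraMap_eq S (𝒟.A 0) (𝒟'.A 0),
        ← Ideal.comap_comap]
      exact 𝒜.q0.symm.trans (congrArg (Ideal.comap (algebraMap S (𝒟.A 0))) (Ideal.LiesOver.over (P := qA 0) (p := 𝒜.qA 0)))⟩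
    exact S12239.unique_over (S := S) p p' hκ q Q q'
  · intro i hi
    obtain ⟨j, rfl⟩ : ∃ j : Fin 𝒟.n, (j : ℕ) = i := ⟨⟨i, by omega⟩, rfl⟩
    have hi1 : j + 1 < 𝒟.n := by omega
    let j' : Fin 𝒟.n := ⟨j + 1, hi1⟩
    haveI := (hbc j).2.1
    letI : Algebra (𝒟.A (j + 1)) (𝒟'.A (j + 1)) := aA j'
    haveI := hqA (j + 1); haveI := overA' (j + 1); haveI : (qA (j + 1)).LiesOver (𝒜.qA (j + 1)) := liesA j'
    haveI := hqB j; haveI := overB j; haveI : (qB j).LiesOver (𝒜.qB j) := liesB j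
    haveI : IsScalarTower (𝒟.B j) (𝒟.A (j + 1)) (𝒟'.A (j + 1)) := hstep j hi1
    let Q := (qA (j + 1)).comap (algebraMap (𝒟'.B j) (𝒟'.A (j + 1)))
    haveI : Q.IsPrime := Ideal.IsPrime.comap _
    haveI : Q.LiesOver p' := ⟨by
      show p' = ((qA (j + 1)).comap _).comap (algebraMap R' (𝒟'.B j))
      rw [Ideal.comap_comap, ← IsScalarTower.algebraMap_eq]
      exact Ideal.LiesOver.over (P := qA (j + 1)) (p := p')⟩
    haveI : Q.LiesOver (𝒜.qB j) := ⟨by
      show 𝒜.qB j = ((qA (j + 1)).comap (algebraMap (𝒟'.B j) (𝒟'.A (j + 1)))).comap (algebraMap (𝒟.B j) (𝒟'.B j))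
      rw [Ideal.comap_comap, ← IsScalarTower.algebraMap_eq, IsScalarTower.algebraMap_eq (𝒟.B j) (𝒟.A (j + 1)) (𝒟'.A (j + 1)),
        ← Ideal.comap_comap]
      exact (𝒜.qStep j hi1).symm.trans
        (congrArg (Ideal.comap (algebraMap (𝒟.B j) (𝒟.A (j + 1)))) (Ideal.LiesOver.over (P := qA (j + 1)) (p := 𝒜.qA (j + 1))))⟩
    exact S12239.unique_over (S := 𝒟.B j) p p' hκ (𝒜.qB j) Q (qB j)
  · intro i hi
    obtain ⟨j, rfl⟩ : ∃ j : Fin 𝒟.n, (j : ℕ) = i := ⟨⟨i, hn ▸ hi⟩, rfl⟩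
    haveI := (hbc j).2.1
    haveI := AlgebraicGeometry.smoothOfRelativeDimension_isStableUnderBaseChange (n := 𝒜.d j)
    exact S12231.of_isPushout_spec _ R R' (𝒟.B j) (𝒟'.B j) (𝒜.relDim j j.2)
  · intro i hi
    obtain ⟨j, rfl⟩ : ∃ j : Fin 𝒟.n, (j : ℕ) = i := ⟨⟨i, hn ▸ hi⟩, rfl⟩
    haveI := hqB j; haveI := overB j; haveI : (qB j).LiesOver (𝒜.qB j) := liesB j
    haveI := (hbc j).1
    haveI := (hbc j).2.1
    haveI := 𝒟.finiteBA j j.2
    haveI := 𝒟.finiteM j j.2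
    haveI : Module.Finite (𝒟.B j) (𝒟.M j) := Module.Finite.trans (𝒟.A j) (𝒟.M j)
    haveI : Algebra.IsPushout (𝒟.B j) (𝒟'.B j) (𝒟.A j) (𝒟'.A j) :=
      haveI : Algebra.IsPushout R (𝒟.B j) R' (𝒟'.B j) := Algebra.IsPushout.symm inferInstance
      Algebra.IsPushout.symm ((Algebra.IsPushout.comp_iff (R := R) (S := 𝒟.B j) (R' := R') (S' := 𝒟'.B j)
        (T := 𝒟.A j) (T' := 𝒟'.A j)).mp (Algebra.IsPushout.symm inferInstance))
    letI : Module (𝒟.B j) (𝒟'.M j) := Module.compHom _ (algebraMap (𝒟.B j) (𝒟'.B j))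
    haveI : IsScalarTower (𝒟.B j) (𝒟'.B j) (𝒟'.M j) := IsScalarTower.of_algebraMap_smul fun _ _ => rfl
    haveI : IsScalarTower (𝒟.B j) (𝒟.A j) (𝒟'.M j) := IsScalarTower.of_algebraMap_smul fun b x => by
      rw [← IsScalarTower.algebraMap_smul (𝒟'.A j), ← IsScalarTower.algebraMap_apply,
        IsScalarTower.algebraMap_apply (𝒟.B j) (𝒟'.B j) (𝒟'.A j), IsScalarTower.algebraMap_smul,
        IsScalarTower.algebraMap_smul]
    exact locDim_baseChange ((gM j).restrictScalars (𝒟.B j)) (isBaseChange_restrict (gM j) (hbc j).2.2)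
      p p' hκ (𝒜.qB j) (qB j) (𝒜.d j) (𝒜.locDim j j.2)

end Groth.Agent.S12244
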