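import Groth.Statements.S12245
import Groth.Agent.GeomIrredNhd.Main
import Groth.Agent.EtaleDev.Fibre
import Groth.Agent.IndAlg.EtaleLift
import Mathlib.LinearAlgebra.TensorProduct.RightExactness
-- import your own Groth.Agent.* helpers here

set_option autoImplicit false
universe u
open FlatMor

namespace Groth.Agent.S12245

open _root_.TensorProduct

open AlgebraicGeometry CategoryTheory

theorem surjective_residue_of_surjective {A B : Type u} [CommRing A] [CommRing B] [Algebra A B]
    (h : Function.Surjective (algebraMap A B)) (P : Ideal A) [P.IsPrime] (Q : Ideal B) [Q.IsPrime]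
    (hPQ : P = Q.comap (algebraMap A B)) : Function.Surjective (Ideal.ResidueField.map P Q (algebraMap A B) hPQ) := by
  intro w
  obtain ⟨a, b, hb, rfl⟩ := IsFractionRing.div_surjective (A := B ⧸ Q) w
  obtain ⟨a, rfl⟩ := Ideal.Quotient.mk_surjective a
  obtain ⟨b, rfl⟩ := Ideal.Quotient.mk_surjective b
  obtain ⟨a, rfl⟩ := h a
  obtain ⟨b, rfl⟩ := h b
  exact ⟨algebraMap A _ a / algebraMap A _ b, by
    rw [map_div₀, Ideal.ResidueField.map_algebraMap, Ideal.ResidueField.map_algebraMap]
    rfl⟩

/-- Cancellation of an etale map on the base of a smooth algebra. -/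
theorem smoothRelDim_etale {R R' D D' : Type u} [CommRing R] [CommRing R'] [CommRing D] [CommRing D']
    [Algebra R R'] [Algebra R D] [Algebra R' D'] [Algebra D D'] [Algebra R D'] [IsScalarTower R R' D']
    [IsScalarTower R D D'] [Algebra.Etale R R'] [Algebra.Etale D D'] (n : ℕ) (hsm : FlatCA.SmoothRelDim n R D) :
    FlatCA.SmoothRelDim n R' D' := by
  let P := R' ⊗[R] D
  letI : Algebra D P := Algebra.TensorProduct.rightAlgebra
  haveI : Algebra.IsPushout R R' D P := TensorProduct.isPushout
  let l : P →ₐ[R'] D' := Algebra.TensorProduct.lift (Algebra.ofId R' D') (IsScalarTower.toAlgHom R D D')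
    (fun _ _ => Commute.all _ _)
  letI : Algebra P D' := l.toRingHom.toAlgebra
  haveI : IsScalarTower D P D' := IsScalarTower.of_algebraMap_eq fun s => by
    refine (Eq.trans ?_ (Algebra.TensorProduct.lift_tmul (Algebra.ofId R' D') (IsScalarTower.toAlgHom R D D')
      (fun _ _ => Commute.all _ _) 1 s).symm)
    rw [map_one, one_mul]
    rfl
  haveI : IsScalarTower R' P D' := IsScalarTower.of_algebraMap_eq fun r => (l.commutes r).symm
  haveI : Algebra.Etale D P := by
    haveI : Algebra.Etale D (D ⊗[R] R') := inferInstance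
    exact Algebra.Etale.of_equiv (A := D ⊗[R] R')
      (AlgEquiv.ofRingEquiv (f := (Algebra.TensorProduct.comm R D R').toRingEquiv) fun _ => rfl)
  haveI : Algebra.Etale P D' := Algebra.Etale.of_restrictScalars D P D'
  haveI h1 : SmoothOfRelativeDimension n (Spec.map (CommRingCat.ofHom (algebraMap R' P))) := by
    haveI := smoothOfRelativeDimension_isStableUnderBaseChange (n := n)
    exact S12231.of_isPushout_spec _ R R' D P hsm
  haveI : Etale (Spec.map (CommRingCat.ofHom (algebraMap P D'))) :=
    HasRingHomProperty.Spec_iff.mpr (RingHom.etale_algebraMap.mpr inferInstance)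
  have h' : SmoothOfRelativeDimension (0 + n) (Spec.map (CommRingCat.ofHom (algebraMap P D')) ≫
      Spec.map (CommRingCat.ofHom (algebraMap R' P))) := inferInstance
  rw [← Spec.map_comp, ← CommRingCat.ofHom_comp, ← IsScalarTower.algebraMap_eq, Nat.zero_add] at h'
  exact h'

/-- Pure transcendence along trivial residue extensions. -/
theorem pureTrans_nhd {R R' D D' : Type u} [CommRing R] [CommRing R'] [CommRing D] [CommRing D']
    [Algebra R R'] [Algebra R D] [Algebra R' D'] [Algebra D D']
    (hcomm : (algebraMap R' D').comp (algebraMap R R') = (algebraMap D D').comp (algebraMap R D))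
    {p : Ideal R} [p.IsPrime] {p' : Ideal R'} [p'.IsPrime] {y : Ideal D} [y.IsPrime] {y' : Ideal D'} [y'.IsPrime]
    [hy : y.LiesOver p] [hy' : y'.LiesOver p'] [hp : p'.LiesOver p] [hyy : y'.LiesOver y]
    (hR : Function.Bijective (Ideal.ResidueField.mapₐ p p' (Algebra.ofId R R') hp.over))
    (hD : Function.Bijective (Ideal.ResidueField.mapₐ y y' (Algebra.ofId D D') hyy.over))
    (h : FlatCA.PurelyTranscendental p y) : FlatCA.PurelyTranscendental p' y' := by
  refine FlatMor62.FieldFib.purelyTranscendental_of_equiv (Ideal.ResidueField.mapₐ p p' (Algebra.ofId R R') hp.over).toRingHom hR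
    (Ideal.ResidueField.mapₐ y y' (Algebra.ofId D D') hyy.over).toRingHom hD (fun a => ?_) h
  refine FlatMor62.LocalStruct.residueField_ext
    ((Ideal.ResidueField.mapₐ y y' (Algebra.ofId D D') hyy.over).toRingHom.comp
      (Ideal.ResidueField.mapₐ p y (Algebra.ofId R D) hy.over).toRingHom)
    ((Ideal.ResidueField.mapₐ p' y' (Algebra.ofId R' D') hy'.over).toRingHom.comp
      (Ideal.ResidueField.mapₐ p p' (Algebra.ofId R R') hp.over).toRingHom) (fun x => ?_) a
  show Ideal.ResidueField.map y y' (algebraMap D D') hyy.over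
      (Ideal.ResidueField.map p y (algebraMap R D) hy.over (algebraMap R p.ResidueField x)) =
    Ideal.ResidueField.map p' y' (algebraMap R' D') hy'.over
      (Ideal.ResidueField.map p p' (algebraMap R R') hp.over (algebraMap R p.ResidueField x))
  rw [Ideal.ResidueField.map_algebraMap, Ideal.ResidueField.map_algebraMap, Ideal.ResidueField.map_algebraMap,
    Ideal.ResidueField.map_algebraMap]
  exact congrArg (algebraMap D' y'.ResidueField) (RingHom.congr_fun hcomm x).symm

set_option maxHeartbeats 3200000
set_option backward.isDefEq.respectTransparency.types false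

open TensorProduct AlgebraicGeometry in
/-- All schemes are affine. Let R → S be of finite type, N a finite S-module, p ⊆ R and q ⊆ S primes
with q over p, and (C, D, G, n; z, y) a one-step dévissage of N/S/R at q (one-step dévissage over p;
z a prime of C over q and over the prime y of D, unique over y; κ(y)/κ(p) purely transcendental;
local dimension of the fibre support at q equal to n). Let (R, p) → (R', p') and (D, y) → (D', y')
be elementary étale ring maps at those primes (étale, prime over prime, trivial residue field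
extension) with D' an R'-algebra compatibly with D and R, and y' over p'. Then there are: an
elementary étale ring map (R', p') → (R'', p''); an R''-algebra D'' which is an affine open of the
base change of D' to R'' (an open immersion on spectra out of a pushout T of D' along R' → R''),
compatibly with D' and R'', with a prime y'' over y' and over p''; the base change C'' of C along D
→ D'' with a prime z'' over z and y'' and the base change G'' of G to C''; an elementary étale ring
map (S, q) → (S'', q'') with S'' an R''-algebra compatibly with R → S and a surjection S'' → C''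
compatible with S → C and with D'' → C'' over R'', z'' lying over q''; and the base change N'' of N
to S'' — such that (C'', D'', G'', n; z'', y'') is a one-step dévissage of N''/S''/R'' at q''
(including the four pointed conditions). -/
theorem result
    (R S : Type u) [CommRing R] [CommRing S] [Algebra R S] [Algebra.FiniteType R S]
    (N : Type u) [AddCommGroup N] [Module S N] [Module R N] [IsScalarTower R S N] [Module.Finite S N]
    (p : Ideal R) [p.IsPrime] (q : Ideal S) [q.IsPrime] [q.LiesOver p]
    (C D G : Type u) [CommRing C] [CommRing D] [Algebra S C] [Algebra R C] [IsScalarTower R S C]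
    [Algebra R D] [Algebra D C] [IsScalarTower R D C] [AddCommGroup G] [Module C G] [Module S G]
    [IsScalarTower S C G] (n : ℕ)
    (h : FlatCA.IsOneStepDevissage R S N p C D G n)
    (z : Ideal C) [z.IsPrime] (y : Ideal D) [y.IsPrime] [z.LiesOver q] [z.LiesOver y] [y.LiesOver p]
    (h1 : ∃ (ξ : PrimeSpectrum (p.Fiber S)) (hξ : ξ ∈ Module.support (p.Fiber S) (FlatCA.fiberMod p S N)),
      ξ.asIdeal = FlatCA.fiberIdeal p q ∧
      FlatMor.localDim (Module.support (p.Fiber S) (FlatCA.fiberMod p S N)) ⟨ξ, hξ⟩ = n)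
    (h3 : ∀ (z₁ : Ideal C) [z₁.IsPrime], z₁.LiesOver y → z₁ = z)
    (h4 : FlatCA.PurelyTranscendental p y)
    (R' : Type u) [CommRing R'] [Algebra R R'] (p' : Ideal R') [p'.IsPrime] (hR' : FlatCA.IsEtaleNhd R R' p p')
    (D' : Type u) [CommRing D'] [Algebra D D'] [Algebra R' D'] [Algebra R D'] [IsScalarTower R R' D']
    [IsScalarTower R D D'] (y' : Ideal D') [y'.IsPrime] (hD' : FlatCA.IsEtaleNhd D D' y y') [y'.LiesOver p'] :
    ∃ (R'' : Type u) (_ : CommRing R'') (_ : Algebra R' R'') (_ : Algebra R R'') (_ : IsScalarTower R R' R'')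
      (p'' : Ideal R'') (_ : p''.IsPrime),
      FlatCA.IsEtaleNhd R' R'' p' p'' ∧
    ∃ (T : Type u) (_ : CommRing T) (_ : Algebra R' T) (_ : Algebra R'' T) (_ : Algebra D' T)
      (_ : IsScalarTower R' R'' T) (_ : IsScalarTower R' D' T),
      Algebra.IsPushout R' R'' D' T ∧
    ∃ (D'' : Type u) (_ : CommRing D'') (_ : Algebra T D'') (_ : Algebra D' D'') (_ : Algebra R'' D'')
      (_ : Algebra D D'') (_ : Algebra R D'') (_ : IsScalarTower D' T D'') (_ : IsScalarTower R'' T D'')
      (_ : IsScalarTower D D' D'') (_ : IsScalarTower R R'' D'') (_ : IsScalarTower R D D'')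
      (y'' : Ideal D'') (_ : y''.IsPrime) (_ : y''.LiesOver y') (_ : y''.LiesOver p''),
      IsOpenImmersion (Spec.map (CommRingCat.ofHom (algebraMap T D''))) ∧
    ∃ (C'' : Type u) (_ : CommRing C'') (_ : Algebra C C'') (_ : Algebra D'' C'') (_ : Algebra D C'')
      (_ : Algebra R'' C'') (_ : IsScalarTower D D'' C'') (_ : IsScalarTower D C C'') (_ : IsScalarTower R'' D'' C'')
      (z'' : Ideal C'') (_ : z''.IsPrime) (_ : z''.LiesOver z) (_ : z''.LiesOver y''),
      Algebra.IsPushout D D'' C C'' ∧
    ∃ (G'' : Type u) (_ : AddCommGroup G'') (_ : Module C'' G'') (_ : Module C G'') (_ : IsScalarTower C C'' G'')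
      (gG : G →ₗ[C] G''), IsBaseChange C'' gG ∧
    ∃ (S'' : Type u) (_ : CommRing S'') (_ : Algebra S S'') (_ : Algebra R'' S'') (_ : Algebra R S'')
      (_ : IsScalarTower R S S'') (_ : IsScalarTower R R'' S'') (q'' : Ideal S'') (_ : q''.IsPrime)
      (_ : Algebra S'' C'') (_ : Algebra S C'') (_ : IsScalarTower S S'' C'') (_ : IsScalarTower S C C'')
      (_ : IsScalarTower R'' S'' C'') (_ : Module S'' G'') (_ : IsScalarTower S'' C'' G''),
      FlatCA.IsEtaleNhd S S'' q q'' ∧ z''.LiesOver q'' ∧
    ∃ (N'' : Type u) (_ : AddCommGroup N'') (_ : Module S'' N'') (_ : Module S N'') (_ : IsScalarTower S S'' N'')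
      (_ : Module R'' N'') (_ : IsScalarTower R'' S'' N'') (gN : N →ₗ[S] N''), IsBaseChange S'' gN ∧
      FlatCA.IsOneStepDevissage R'' S'' N'' p'' C'' D'' G'' n ∧
      (∃ (ξ : PrimeSpectrum (p''.Fiber S'')) (hξ : ξ ∈ Module.support (p''.Fiber S'') (FlatCA.fiberMod p'' S'' N'')),
        ξ.asIdeal = FlatCA.fiberIdeal p'' q'' ∧
        FlatMor.localDim (Module.support (p''.Fiber S'') (FlatCA.fiberMod p'' S'' N'')) ⟨ξ, hξ⟩ = n) ∧
      (∀ (z₂ : Ideal C'') [z₂.IsPrime], z₂.LiesOver y'' → z₂ = z'') ∧
      FlatCA.PurelyTranscendental p'' y'' := by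
  classical
  obtain ⟨⟨e⟩, hsurj, hfp, hDC, hCG, hsm, hgi, hdim⟩ := h
  haveI := hfp
  haveI := hDC
  haveI := hCG
  obtain ⟨heR', hop', hbR'⟩ := hR'
  obtain ⟨heD', hoy', hbD'⟩ := hD'
  haveI := heR'
  haveI := heD'
  haveI := hop'
  haveI := hoy'
  have hsm' : FlatCA.SmoothRelDim n R' D' := smoothRelDim_etale n hsm
  have hcomm' : (algebraMap R' D').comp (algebraMap R R') = (algebraMap D D').comp (algebraMap R D) := by
    rw [← IsScalarTower.algebraMap_eq, ← IsScalarTower.algebraMap_eq]
  have hPT' : FlatCA.PurelyTranscendental p' y' := pureTrans_nhd hcomm' hbR' hbD' h4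
  obtain ⟨R'', _, _, p'', _, D'', _, _, _, c, y'', _, hy''y', hy''p'', ⟨heR'', hop'', hbR''⟩, ⟨heD'', hoy'', hbD''⟩,
    hc1, hc2, hopen, hsm'', hgi''⟩ := GeomIrredNhd.exists_nhd R' D' n hsm' p' y' hPT'
  haveI := heR''
  haveI := heD''
  haveI := hop''
  haveI := hy''p''
  haveI := hy''y'
  letI : Algebra R R'' := ((algebraMap R' R'').comp (algebraMap R R')).toAlgebra
  haveI : IsScalarTower R R' R'' := IsScalarTower.of_algebraMap_eq fun _ => rfl
  haveI hpp : p''.LiesOver p := Ideal.LiesOver.trans p'' p' p
  haveI : Algebra.Etale R R'' := Algebra.Etale.comp R R' R''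
  have hκ : Function.Bijective (Ideal.ResidueField.mapₐ p p'' (Algebra.ofId R R'') hpp.over) :=
    FlatMor62.LocalStruct.bijective_map_comp (algebraMap R R') (algebraMap R' R'') hop'.over hop''.over hpp.over hbR' hbR''
  let T := R'' ⊗[R'] D'
  letI aD'T : Algebra D' T := Algebra.TensorProduct.rightAlgebra
  letI aTD : Algebra T D'' := c.toAlgebra
  letI aDD : Algebra D D'' := ((algebraMap D' D'').comp (algebraMap D D')).toAlgebra
  letI aRD : Algebra R D'' := ((algebraMap R'' D'').comp (algebraMap R R'')).toAlgebra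
  haveI tDD : IsScalarTower D D' D'' := IsScalarTower.of_algebraMap_eq fun _ => rfl
  haveI tRD : IsScalarTower R R'' D'' := IsScalarTower.of_algebraMap_eq fun _ => rfl
  haveI : IsScalarTower D' T D'' := IsScalarTower.of_algebraMap_eq fun x => (RingHom.congr_fun hc2 x).symm
  haveI : IsScalarTower R'' T D'' := IsScalarTower.of_algebraMap_eq fun x => (RingHom.congr_fun hc1 x).symm
  haveI tRDD : IsScalarTower R D D'' := IsScalarTower.of_algebraMap_eq fun x => by
    show algebraMap R'' D'' (algebraMap R' R'' (algebraMap R R' x)) = algebraMap D' D'' (algebraMap D D' (algebraMap R D x))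
    rw [show algebraMap D D' (algebraMap R D x) = algebraMap R' D' (algebraMap R R' x) from (RingHom.congr_fun hcomm' x).symm,
      ← hc1, ← hc2, RingHom.comp_apply, RingHom.comp_apply, ← IsScalarTower.algebraMap_apply R' R'' T]
    exact congrArg c (Algebra.TensorProduct.tmul_one_eq_one_tmul (algebraMap R R' x))
  haveI hyy : y''.LiesOver y := Ideal.LiesOver.trans y'' y' y
  haveI : Algebra.Etale D D'' := Algebra.Etale.comp D D' D''
  have hbD : Function.Bijective (Ideal.ResidueField.mapₐ y y'' (Algebra.ofId D D'') hyy.over) :=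
    FlatMor62.LocalStruct.bijective_map_comp (algebraMap D D') (algebraMap D' D'') hoy'.over hoy''.over hyy.over hbD' hbD''
  -- the finite piece
  let C'' := D'' ⊗[D] C
  letI aCC : Algebra C C'' := Algebra.TensorProduct.rightAlgebra
  haveI : Algebra.IsPushout D D'' C C'' := TensorProduct.isPushout
  obtain ⟨z'', hz''p, hz''y, hz''z, hz''b, hz''u⟩ := FlatMor62.FieldFib.existsUnique_prime (S := C) y y'' z hbD
  haveI := hz''p
  haveI hz1 : z''.LiesOver z := ⟨hz''z.symm⟩
  haveI hz2 : z''.LiesOver y'' := ⟨hz''y.symm⟩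
  haveI : IsScalarTower R'' D'' C'' := inferInstance
  haveI : IsScalarTower R R'' C'' := IsScalarTower.of_algebraMap_eq fun _ => rfl
  haveI : IsScalarTower R C C'' := IsScalarTower.of_algebraMap_eq fun x => by
    show algebraMap R D'' x ⊗ₜ[D] (1 : C) = (1 : D'') ⊗ₜ[D] algebraMap R C x
    rw [IsScalarTower.algebraMap_apply R D D'',
      IsScalarTower.algebraMap_apply R D C]
    exact Algebra.TensorProduct.tmul_one_eq_one_tmul (algebraMap R D x)
  haveI : Algebra.Etale C C'' := by
    haveI : Algebra.Etale C (C ⊗[D] D'') := inferInstance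
    exact Algebra.Etale.of_equiv (A := C ⊗[D] D'')
      (AlgEquiv.ofRingEquiv (f := (Algebra.TensorProduct.comm D C D'').toRingEquiv) fun _ => rfl)
  let A := R'' ⊗[R] S
  let B₀ := R'' ⊗[R] C
  letI : Algebra S A := Algebra.TensorProduct.rightAlgebra
  letI : Algebra C B₀ := Algebra.TensorProduct.rightAlgebra
  haveI : Algebra.Etale S A := by
    haveI : Algebra.Etale S (S ⊗[R] R'') := inferInstance
    exact Algebra.Etale.of_equiv (A := S ⊗[R] R'')
      (AlgEquiv.ofRingEquiv (f := (Algebra.TensorProduct.comm R S R'').toRingEquiv) fun _ => rfl)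
  haveI : Algebra.Etale C B₀ := by
    haveI : Algebra.Etale C (C ⊗[R] R'') := inferInstance
    exact Algebra.Etale.of_equiv (A := C ⊗[R] R'')
      (AlgEquiv.ofRingEquiv (f := (Algebra.TensorProduct.comm R C R'').toRingEquiv) fun _ => rfl)
  let l : B₀ →ₐ[R''] C'' := Algebra.TensorProduct.lift (Algebra.ofId R'' C'') (IsScalarTower.toAlgHom R C C'')
    (fun _ _ => Commute.all _ _)
  letI aBC : Algebra B₀ C'' := l.toRingHom.toAlgebra
  haveI : IsScalarTower C B₀ C'' := IsScalarTower.of_algebraMap_eq fun x => by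
    refine (Eq.trans ?_ (Algebra.TensorProduct.lift_tmul (Algebra.ofId R'' C'') (IsScalarTower.toAlgHom R C C'')
      (fun _ _ => Commute.all _ _) 1 x).symm)
    rw [map_one, one_mul]
    rfl
  haveI : Algebra.Etale B₀ C'' := Algebra.Etale.of_restrictScalars C B₀ C''
  let φ₀ : A →ₐ[R] B₀ := Algebra.TensorProduct.map (AlgHom.id R R'') (IsScalarTower.toAlgHom R S C)
  have hφ₀ : Function.Surjective φ₀ :=
    Algebra.TensorProduct.map_surjective _ _ Function.surjective_id hsurj
  let I := RingHom.ker φ₀.toRingHom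
  let e₀ : (A ⧸ I) ≃+* B₀ := RingHom.quotientKerEquivOfSurjective (f := φ₀.toRingHom) hφ₀
  letI : Algebra (A ⧸ I) C'' := ((algebraMap B₀ C'').comp e₀.toRingHom).toAlgebra
  letI aAC : Algebra A C'' := ((algebraMap B₀ C'').comp φ₀.toRingHom).toAlgebra
  haveI : IsScalarTower A (A ⧸ I) C'' := ⟨fun a b c => by
    obtain ⟨b, rfl⟩ := Ideal.Quotient.mk_surjective b
    show algebraMap B₀ C'' (φ₀ (a * b)) * c = algebraMap B₀ C'' (φ₀ a) * (algebraMap B₀ C'' (φ₀ b) * c)
    rw [map_mul, map_mul, mul_assoc]⟩
  haveI : Algebra.Etale (A ⧸ I) C'' := RingHom.etale_algebraMap.mp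
    (RingHom.Etale.stableUnderComposition _ _ (RingHom.Etale.of_bijective e₀.bijective)
      (RingHom.etale_algebraMap.mpr (inferInstance : Algebra.Etale B₀ C'')))
  obtain ⟨S'', _, _, heS, ⟨ε⟩⟩ := Groth.Agent.IndAlg.EtaleLift.exists_lift A I C''
  haveI := heS
  letI aSC'' : Algebra S'' C'' := (ε.toRingEquiv.toRingHom.comp (Ideal.Quotient.mk (I.map (algebraMap A S'')))).toAlgebra
  haveI : IsScalarTower A S'' C'' := IsScalarTower.of_algebraMap_eq fun a => (ε.commutes a).symm
  have hπs : Function.Surjective (algebraMap S'' C'') := ε.surjective.comp Ideal.Quotient.mk_surjective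
  letI aSS : Algebra S S'' := ((algebraMap A S'').comp (algebraMap S A)).toAlgebra
  haveI : IsScalarTower S A S'' := IsScalarTower.of_algebraMap_eq fun _ => rfl
  letI aR''S : Algebra R'' S'' := ((algebraMap A S'').comp (algebraMap R'' A)).toAlgebra
  letI aRS'' : Algebra R S'' := ((algebraMap R'' S'').comp (algebraMap R R'')).toAlgebra
  haveI : IsScalarTower R R'' S'' := IsScalarTower.of_algebraMap_eq fun _ => rfl
  haveI : IsScalarTower R S S'' := IsScalarTower.of_algebraMap_eq fun x => by
    show algebraMap A S'' (algebraMap R R'' x ⊗ₜ[R] (1 : S)) = algebraMap A S'' ((1 : R'') ⊗ₜ[R] algebraMap R S x)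
    rw [Algebra.TensorProduct.tmul_one_eq_one_tmul]
  letI aSC2 : Algebra S C'' := ((algebraMap C C'').comp (algebraMap S C)).toAlgebra
  haveI : IsScalarTower S C C'' := IsScalarTower.of_algebraMap_eq fun _ => rfl
  haveI tSSC : IsScalarTower S S'' C'' := IsScalarTower.of_algebraMap_eq fun s => by
    show algebraMap C C'' (algebraMap S C s) = algebraMap S'' C'' (algebraMap A S'' (algebraMap S A s))
    rw [← IsScalarTower.algebraMap_apply A S'' C'', IsScalarTower.algebraMap_apply C B₀ C'']
    rfl
  haveI : IsScalarTower R'' S'' C'' := IsScalarTower.of_algebraMap_eq fun r => by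
    show algebraMap R'' C'' r = algebraMap S'' C'' (algebraMap A S'' (algebraMap R'' A r))
    rw [← IsScalarTower.algebraMap_apply A S'' C'']
    show _ = l (φ₀ (r ⊗ₜ[R] (1 : S)))
    refine (Eq.trans ?_ (congrArg l (Algebra.TensorProduct.map_tmul (AlgHom.id R R'') (IsScalarTower.toAlgHom R S C) r 1).symm))
    rw [map_one]
    refine (Eq.trans ?_ (Algebra.TensorProduct.lift_tmul (Algebra.ofId R'' C'') (IsScalarTower.toAlgHom R C C'')
      (fun _ _ => Commute.all _ _) r 1).symm)
    rw [map_one, mul_one]
    rfl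
  -- the finite piece as a base change
  have hI : I ≤ (RingHom.ker (algebraMap S C)).map (algebraMap S A) := by
    refine le_of_eq ?_
    exact Algebra.TensorProduct.lTensor_ker (A := R'') (IsScalarTower.toAlgHom R S C) hsurj
  let L : S'' ⊗[S] C →ₐ[S''] C'' := Algebra.TensorProduct.lift (Algebra.ofId S'' C'') (IsScalarTower.toAlgHom S C C'')
    (fun _ _ => Commute.all _ _)
  have hL : ∀ s : S'', L (s ⊗ₜ[S] (1 : C)) = algebraMap S'' C'' s := fun s => by simp [L]
  have hLbij : Function.Bijective L := by
    refine ⟨(injective_iff_map_eq_zero L).mpr fun t ht => ?_, fun w => ?_⟩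
    · obtain ⟨s, rfl⟩ : ∃ s : S'', algebraMap S'' (S'' ⊗[S] C) s = t := by
        clear ht
        induction t using TensorProduct.induction_on with
        | zero => exact ⟨0, map_zero _⟩
        | tmul a b =>
          obtain ⟨b, rfl⟩ := hsurj b
          refine ⟨a * algebraMap S S'' b, ?_⟩
          rw [Algebra.TensorProduct.algebraMap_apply, Algebra.algebraMap_self, RingHom.id_apply,
            Algebra.algebraMap_eq_smul_one (A := C) b, ← TensorProduct.smul_tmul, Algebra.smul_def, mul_comm]
        | add x y hx hy =>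
          obtain ⟨a, rfl⟩ := hx
          obtain ⟨b, rfl⟩ := hy
          exact ⟨a + b, map_add _ _ _⟩
      rw [AlgHom.commutes] at ht
      have hs : s ∈ I.map (algebraMap A S'') :=
        Ideal.Quotient.eq_zero_iff_mem.mp (ε.injective (ht.trans (map_zero ε).symm))
      have hle : I.map (algebraMap A S'') ≤ RingHom.ker (algebraMap S'' (S'' ⊗[S] C)) := by
        refine (Ideal.map_mono hI).trans ?_
        rw [Ideal.map_map, ← IsScalarTower.algebraMap_eq]
        refine Ideal.map_le_iff_le_comap.mpr fun x hx => ?_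
        show algebraMap S'' (S'' ⊗[S] C) (algebraMap S S'' x) = 0
        rw [← IsScalarTower.algebraMap_apply, Algebra.TensorProduct.algebraMap_apply,
          Algebra.TensorProduct.tmul_one_eq_one_tmul, show algebraMap S C x = 0 from hx, TensorProduct.tmul_zero]
      exact hle hs
    · obtain ⟨s, rfl⟩ := hπs w
      exact ⟨s ⊗ₜ[S] 1, hL s⟩
  letI aCT : Algebra C (S'' ⊗[S] C) := Algebra.TensorProduct.rightAlgebra
  haveI poSC : Algebra.IsPushout S S'' C C'' := by
    haveI : Algebra.IsPushout S S'' C (S'' ⊗[S] C) := TensorProduct.isPushout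
    refine Algebra.IsPushout.of_equiv (S' := S'' ⊗[S] C) (AlgEquiv.ofBijective L hLbij) (RingHom.ext fun x => ?_)
    show L ((1 : S'') ⊗ₜ[S] x) = algebraMap C C'' x
    simp [L]
  -- the points
  let q'' : Ideal S'' := z''.comap (algebraMap S'' C'')
  haveI hq''p : q''.IsPrime := Ideal.IsPrime.comap _
  haveI hzq : z''.LiesOver q'' := ⟨rfl⟩
  have hq''q : q''.comap (algebraMap S S'') = q := by
    show (z''.comap _).comap _ = q
    rw [Ideal.comap_comap, ← IsScalarTower.algebraMap_eq, IsScalarTower.algebraMap_eq S C C'', ← Ideal.comap_comap]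
    exact (congrArg (Ideal.comap (algebraMap S C)) hz''z).trans (Ideal.LiesOver.over (P := z) (p := q)).symm
  haveI hqq : q''.LiesOver q := ⟨hq''q.symm⟩
  haveI hz3 : z''.LiesOver p'' := Ideal.LiesOver.trans z'' y'' p''
  haveI : q''.LiesOver p'' := ⟨by
    show p'' = (z''.comap (algebraMap S'' C'')).comap (algebraMap R'' S'')
    rw [Ideal.comap_comap, ← IsScalarTower.algebraMap_eq]
    exact hz3.over⟩
  haveI : Algebra.Etale S S'' := Algebra.Etale.comp S A S''
  have heqq : FlatCA.IsEtaleNhd S S'' q q'' := by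
    refine ⟨inferInstance, hqq, RingHom.injective _, fun w => ?_⟩
    obtain ⟨v₁, hv₁⟩ := (hz''b (h := hz''z.symm)).2 (Ideal.ResidueField.map q'' z'' (algebraMap S'' C'') hzq.over w)
    obtain ⟨v, rfl⟩ := surjective_residue_of_surjective hsurj q z (Ideal.LiesOver.over (P := z) (p := q)) v₁
    refine ⟨v, (Ideal.ResidueField.map q'' z'' (algebraMap S'' C'') hzq.over).injective ?_⟩
    rw [← hv₁]
    refine FlatMor62.LocalStruct.residueField_ext
      ((Ideal.ResidueField.map q'' z'' (algebraMap S'' C'') hzq.over).comp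
        (Ideal.ResidueField.mapₐ q q'' (Algebra.ofId S S'') hqq.over).toRingHom)
      ((Ideal.ResidueField.map z z'' (algebraMap C C'') hz''z.symm).comp
        (Ideal.ResidueField.map q z (algebraMap S C) (Ideal.LiesOver.over (P := z) (p := q)))) (fun x => ?_) v
    simp only [RingHom.comp_apply, Ideal.ResidueField.map_algebraMap]
    erw [AlgHom.commutes, IsScalarTower.algebraMap_apply S S'' q''.ResidueField, Ideal.ResidueField.map_algebraMap]
    rw [← IsScalarTower.algebraMap_apply S S'' C'', ← IsScalarTower.algebraMap_apply S C C'']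
  -- the modules
  let N'' := S'' ⊗[S] N
  let gN : N →ₗ[S] N'' := TensorProduct.mk S S'' N 1
  have hgN : IsBaseChange S'' gN := TensorProduct.isBaseChange S N S''
  let G'' := C'' ⊗[C] G
  let gG : G →ₗ[C] G'' := TensorProduct.mk C C'' G 1
  have hgG : IsBaseChange C'' gG := TensorProduct.isBaseChange C G C''
  letI mRN : Module R'' N'' := inferInstance
  haveI tRN : IsScalarTower R'' S'' N'' := inferInstance
  haveI tSG : IsScalarTower S'' C'' G'' := inferInstance
  let eNG : N'' ≃ₗ[S''] G'' :=
    e.baseChange S S'' ≪≫ₗ (Algebra.IsPushout.cancelBaseChange S S'' C C'' G).symm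
  haveI hCfp : Algebra.FinitePresentation S'' C'' :=
    Algebra.FinitePresentation.equiv (Algebra.IsPushout.equiv S S'' C C'')
  haveI hDCf : Module.Finite D'' C'' := inferInstance
  haveI hCGf : Module.Finite C'' G'' := inferInstance
  obtain ⟨hdim'', hξ''⟩ := EtaleDev.fibre_etale p p'' hκ gN hgN q q'' hq''q n hdim h1
  refine ⟨R'', inferInstance, inferInstance, inferInstance, inferInstance, p'', inferInstance,
    ⟨heR'', hop'', hbR''⟩,
    T, inferInstance, inferInstance, inferInstance, aD'T, inferInstance, inferInstance, inferInstance,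
    D'', inferInstance, aTD, inferInstance, inferInstance, aDD, aRD, inferInstance, inferInstance, tDD, tRD, tRDD,
    y'', inferInstance, hy''y', hy''p'', hopen,
    C'', inferInstance, aCC, inferInstance, inferInstance, inferInstance, inferInstance, inferInstance, inferInstance,
    z'', hz''p, hz1, hz2, inferInstance,
    G'', inferInstance, inferInstance, inferInstance, inferInstance, gG, hgG,
    S'', inferInstance, aSS, aR''S, aRS'', inferInstance, inferInstance, q'', hq''p,
    aSC'', aSC2, tSSC, inferInstance, inferInstance, inferInstance, tSG, heqq, hzq,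
    N'', inferInstance, inferInstance, inferInstance, inferInstance, mRN, tRN, gN, hgN,
    ⟨⟨eNG⟩, hπs, hCfp, hDCf, hCGf, hsm'', ?_, hdim''⟩, hξ'', ?_, ?_⟩
  · haveI : GeometricallyIntegral (Spec.map (CommRingCat.ofHom (algebraMap R'' D''))) := hgi''
    show GeometricallyIrreducible (Spec.map (CommRingCat.ofHom (algebraMap R'' D'')))
    infer_instance
  · intro z₂ _ hz₂
    refine hz''u z₂ inferInstance hz₂.over.symm (h3 _ ⟨?_⟩)
    show y = (z₂.comap (algebraMap C C'')).comap (algebraMap D C)
    rw [Ideal.comap_comap, ← IsScalarTower.algebraMap_eq, IsScalarTower.algebraMap_eq D D'' C'', ← Ideal.comap_comap]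
    exact hyy.over.trans (congrArg (Ideal.comap (algebraMap D D'')) hz₂.over)
  · exact pureTrans_nhd (by rw [← IsScalarTower.algebraMap_eq, ← IsScalarTower.algebraMap_eq]) hκ hbD h4

end Groth.Agent.S12245
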