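import Groth.Statements.S12249
import Groth.Agent.ArtFunLib.Cotangent
import Groth.Agent.ArtFunLib.Pullback

set_option autoImplicit false
universe u v
open CategoryTheory
open Deform

namespace Groth.Agent.S12249

open Groth.Agent.ArtFunLib

/-- Let k be an algebraically closed field and F a set-valued functor on local Artinian k-algebras with
residue field k such that F(k) is a single point. If F has a semiuniversal formal element and its
tangent space F(k[ε]) is reduced to one element, then F(A) consists of exactly one element for every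
A: F is the constant one-point functor h_k. -/
theorem result
    {k : Type u} [Field k] [IsAlgClosed k]
    (F : ArtFun.Art k k ⥤ Type v) (h0 : ArtFun.H0 F) (hF : ArtFun.HasHull F)
    (ht : Subsingleton (ArtFun.TangentSpace F)) (A : ArtFun.Art k k) :
    Nonempty (F.obj A) ∧ Subsingleton (F.obj A) := by
  haveI := h0.2
  obtain ⟨H⟩ := hF
  have hs := surjective_app_of_versal H.miniversal.1
  refine ⟨⟨F.map (⟨Algebra.ofId k A, AlgHom.ext fun c => A.res.commutes c⟩ : ArtFun.Art.base k k ⟶ A) h0.1.some⟩, ?_⟩
  haveI : Subsingleton (F.obj (ArtFun.Art.dual k k)) := ht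
  refine surjective_induction (P := fun B X _ => Subsingleton (F.obj X) → Subsingleton (F.obj B))
    (fun B X e he h => ⟨fun a b => (map_bijective F e he).1 (Subsingleton.elim _ _)⟩)
    (fun B C X p q hp _ ih hX => ?_) (ArtFun.Art.toBase A) A.res_surjective h0.2
  haveI := ih hX
  obtain ⟨P, p₁, p₂, g, hT⟩ := exists_tangentSquare p hp
  obtain ⟨Δ, hΔ₁, hΔ₂⟩ := exists_lift hT.self (𝟙 B) (𝟙 B) rfl
  refine ⟨fun y₁ y₂ => ?_⟩
  obtain ⟨w, hw₁, hw₂⟩ := (cmp_surj_iff F hT.self).1
    (s1_of_versal H.miniversal.1 hs _ _ _ _ hT.self hp.1) y₁ y₂ (Subsingleton.elim _ _)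
  have hw : w = F.map Δ y₁ := (cmp_inj_iff F hT.split).1
    (heps_of_miniversal H.miniversal hs _ _ hT.split).1 _ _
    (by rw [hw₁, map_map, hΔ₁, map_id_app]) (Subsingleton.elim _ _)
  rw [← hw₂, hw, map_map, hΔ₂, map_id_app]

end Groth.Agent.S12249
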