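import Groth.Statements.S1225
import Groth.Agent.RGFlat.RelAssSpec

set_option autoImplicit false
universe u
open FlatMor

namespace Groth.Agent.S1225

open IsLocalRing in
/-- Ring form, X = Spec B affine: let A be a local ring, B a finite type A-algebra and N a finite
B-module which is flat over A and pure along the closed fibre. Then a B-linear map φ from N to any
B-module is injective if and only if its localization at q is injective for every prime q of B over
𝔪_A whose extension to the closed fibre ring is an associated prime of the closed fibre module. -/
theorem result {A B : Type u} [CommRing A] [IsLocalRing A] [CommRing B] [Algebra A B] [Algebra.FiniteType A B]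
    (N : Type u) [AddCommGroup N] [Module B N] [Module A N] [IsScalarTower A B N] [Module.Finite B N] [Module.Flat A N]
    (hpure : FlatCA.IsPureAlong A B N (maximalIdeal A))
    (N' : Type u) [AddCommGroup N'] [Module B N'] (φ : N →ₗ[B] N') :
    Function.Injective φ ↔ ∀ (q : Ideal B) [q.IsPrime], q.LiesOver (maximalIdeal A) →
      FlatCA.fiberIdeal (maximalIdeal A) q ∈ associatedPrimes ((maximalIdeal A).Fiber B) (FlatCA.fiberMod (maximalIdeal A) B N) →
      Function.Injective (LocalizedModule.map q.primeCompl φ) := by
  refine ⟨fun hinj q _ _ _ => ?_, Groth.Agent.RGFlat.injective_of_pure hpure φ⟩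
  exact LocalizedModule.map_injective q.primeCompl φ hinj

end Groth.Agent.S1225
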