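import Groth.Statements.S12252
import Groth.Agent.ArtFunLib.Hull

set_option autoImplicit false
universe u v
open CategoryTheory
open Deform

namespace Groth.Agent.S12252

open Groth.Agent.ArtFunLib

/-- Let k be an algebraically closed field, Λ a complete local Noetherian k-algebra with residue field k
and F a set-valued functor on local Artinian Λ-algebras with residue field k. If (R, u) and (S, v)
both prorepresent F (complete local Noetherian Λ-algebras with residue field k carrying universal
families), then there is a unique isomorphism of Λ-algebras R ≅ S, compatible with the augmentations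
to k, along which the universal family of R is transported to that of S. -/
theorem result
    {k Λ : Type u} [Field k] [IsAlgClosed k] [CommRing Λ] [IsLocalRing Λ] [IsNoetherianRing Λ]
    [IsAdicComplete (IsLocalRing.maximalIdeal Λ) Λ] [Algebra k Λ] [Algebra Λ k] [IsScalarTower k Λ k]
    {F : ArtFun.Art Λ k ⥤ Type v} (P Q : ArtFun.ProRep F) :
    ∃! e : P.ring.carrier ≃ₐ[Λ] Q.ring.carrier,
      ∃ he : Q.ring.res.comp e.toAlgHom = P.ring.res, P.family.along e.toAlgHom he = Q.family := by
  haveI := (h0_of_prorep P).2
  obtain ⟨f, hf, hfu⟩ := exists_along_eq_of_versal (isMiniversal_of_isUniversal _ P.universal).1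
    (fun _ => ⟨basePoint _ _, Subsingleton.elim _ _⟩) Q.ring Q.family.toFormalElt
  obtain ⟨g, hg, hgu⟩ := exists_along_eq_of_versal (isMiniversal_of_isUniversal _ Q.universal).1
    (fun _ => ⟨basePoint _ _, Subsingleton.elim _ _⟩) P.ring P.family.toFormalElt
  have uniq : ∀ (X Y : ArtFun.ProRep F) (a b : X.ring.carrier →ₐ[Λ] Y.ring.carrier)
      (ha : Y.ring.res.comp a = X.ring.res) (hb : Y.ring.res.comp b = X.ring.res),
      (X.family.along a ha).toFormalElt = (X.family.along b hb).toFormalElt → a = b :=
    fun X Y a b ha hb h => eq_of_trunc_eq fun n =>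
      congrArg Subtype.val ((X.universal _).1 (congrArg (fun u => u.elt n) h))
  have efg := toFormalElt_injective hfu
  have egf := toFormalElt_injective hgu
  have h₁ : f.comp g = AlgHom.id Λ _ := uniq Q Q _ _
    (by rw [← AlgHom.comp_assoc, hf, hg]) (AlgHom.comp_id _) (by
      change ((Q.family.along g hg).along f hf).toFormalElt = Q.family.toFormalElt
      rw [egf, efg])
  have h₂ : g.comp f = AlgHom.id Λ _ := uniq P P _ _
    (by rw [← AlgHom.comp_assoc, hg, hf]) (AlgHom.comp_id _) (by
      change ((P.family.along f hf).along g hg).toFormalElt = P.family.toFormalElt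
      rw [efg, egf])
  refine ⟨AlgEquiv.ofAlgHom f g h₁ h₂, ⟨hf, efg⟩, fun e ⟨he, hee⟩ => ?_⟩
  refine AlgEquiv.ext fun r => congrArg (fun a : P.ring.carrier →ₐ[Λ] Q.ring.carrier => a r)
    (uniq P Q e.toAlgHom f he hf ?_)
  rw [hee, efg]

end Groth.Agent.S12252
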