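import Groth.Statements.S12254
import Groth.Agent.DefSchLib.Aut
import Groth.Agent.DefSchLib.Rigid

set_option autoImplicit false
universe u
open CategoryTheory CategoryTheory.Limits AlgebraicGeometry
open Deform

namespace Groth.Agent.S12254

/-- Let k be an algebraically closed field and X a projective k-scheme, given with a closed immersion
into some P^n_k over k. Then the space of infinitesimal automorphisms H^0(X, T_X) =
Hom_{O_X}(Ω_{X/k}, O_X) vanishes if and only if, for every local Artinian k-algebra A with residue
field k and every deformation of X over A (a scheme flat over Spec A together with a morphism from X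
identifying X with the closed fibre), the only automorphism of the total space over Spec A
compatible with the inclusion of X is the identity. -/
theorem result
    {k : Type u} [Field k] [IsAlgClosed k] (X : Scheme.{u}) (x : X ⟶ Spec (CommRingCat.of k))
    [LocallyOfFiniteType x] [IsSeparated x] [QuasiCompact x]
    (hproj : ∃ (n : ℕ) (c : X ⟶ CohB1.ProjSpaceOver n (Spec (CommRingCat.of k))),
      IsClosedImmersion c ∧ c ≫ CohB1.ProjSpaceOver.toBase n (Spec (CommRingCat.of k)) = x) :
    Subsingleton (Omega.sheaf x ⟶ Coh.structureModule X) ↔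
      ∀ (A : ArtFun.Art k k) (ξ : ArtFun.DefSch X x A) (e : ξ.Iso ξ), e.iso.hom = 𝟙 ξ.total := by
  open Groth.Agent.DefSchLib Groth.Agent.AffDef in
  constructor
  · intro h A ξ e
    refine eq_id_of_no_der A.res.toRingHom A.res_surjective (ker_res_eq A) ξ.isPullback (fun D U s => ?_) e.iso.hom
      e.hom_f e.i_hom
    obtain ⟨α, hα⟩ := D.exists_ofHom
    have h0 := SDer.ofHom_add α α U s
    rw [Subsingleton.elim (α + α) α, hα U s] at h0
    exact left_eq_add.1 h0
  · intro h
    have hw : (𝟙 X) ≫ x = (x ≫ Spec.map (CommRingCat.ofHom (D1 k).res.toRingHom)) ≫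
        Spec.map (CommRingCat.ofHom (algebraMap k (D1 k))) := by
      rw [Category.id_comp, Category.assoc, ← Spec.map_comp, ← CommRingCat.ofHom_comp,
        show (D1 k).res.toRingHom.comp (algebraMap k (D1 k)) = RingHom.id k from RingHom.ext (D1 k).res.commutes,
        CommRingCat.ofHom_id, Spec.map_id, Category.comp_id]
    have hsq := IsPullback.of_hasPullback x (Spec.map (CommRingCat.ofHom (algebraMap k (D1 k))))
    let i := hsq.lift _ _ hw
    have hiq : i ≫ pullback.fst _ _ = 𝟙 X := hsq.lift_fst _ _ _
    have hig := hsq.lift_snd _ _ hw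
    refine ⟨fun a b => ?_⟩
    let ξ : ArtFun.DefSch X x (D1 k) := ⟨_, _, flat_g hsq, i, isPullback_fibre hiq hig hsq⟩
    have hzero : ∀ D : SDer x, autHom hsq D = autHom hsq (SDer.zero x) := fun D =>
      (h (D1 k) ξ ⟨autIso hsq hiq hig D, autHom_snd hsq D, i_autHom hsq hiq hig D⟩).trans
        (autHom_zero hsq (SDer.zero x) fun _ _ => rfl).symm
    refine SDer.ofHom_injective fun U s => ?_
    rw [autHom_injective hsq hiq hig _ _ (hzero (SDer.ofHom a)) U s, autHom_injective hsq hiq hig _ _ (hzero (SDer.ofHom b)) U s]

end Groth.Agent.S12254
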