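import Groth.Statements.S12256
import Groth.Agent.AffDef.Dual
import Groth.Agent.ArtFunLib.FlatSeq

set_option autoImplicit false
universe u
open CategoryTheory CategoryTheory.Limits AlgebraicGeometry
open Deform

namespace Groth.Agent.S12256

open CategoryTheory AlgebraicGeometry Limits MvPolynomial

noncomputable section

section Ring

variable {A B : Type u} [CommRing A] [CommRing B]

/-- `A[x, y]/(f)`. -/
abbrev PQ (f : MvPolynomial (Fin 2) A) : Type u := MvPolynomial (Fin 2) A ⧸ Ideal.span {f}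

/-- Change of coefficients. -/
def pqMap (g : A →+* B) (f : MvPolynomial (Fin 2) A) (f' : MvPolynomial (Fin 2) B)
    (h : MvPolynomial.map g f = f') : PQ f →+* PQ f' :=
  Ideal.quotientMap _ (MvPolynomial.map g) (by
    rw [← Ideal.map_le_iff_le_comap, Ideal.map_span, Set.image_singleton, h])

lemma pqMap_mk (g : A →+* B) (f : MvPolynomial (Fin 2) A) (f' : MvPolynomial (Fin 2) B)
    (h : MvPolynomial.map g f = f') (p : MvPolynomial (Fin 2) A) :
    pqMap g f f' h (Ideal.Quotient.mk _ p) = Ideal.Quotient.mk _ (MvPolynomial.map g p) :=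
  Ideal.quotientMap_mk

lemma pqMap_surjective (g : A →+* B) (hg : Function.Surjective g) (f : MvPolynomial (Fin 2) A)
    (f' : MvPolynomial (Fin 2) B) (h : MvPolynomial.map g f = f') : Function.Surjective (pqMap g f f' h) := by
  intro y
  obtain ⟨y, rfl⟩ := Ideal.Quotient.mk_surjective y
  obtain ⟨p, rfl⟩ := MvPolynomial.map_surjective g hg y
  exact ⟨Ideal.Quotient.mk _ p, pqMap_mk g f _ h p⟩

lemma pqMap_comp (g : A →+* B) (f : MvPolynomial (Fin 2) A) (f' : MvPolynomial (Fin 2) B)
    (h : MvPolynomial.map g f = f') :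
    (pqMap g f f' h).comp (algebraMap A (PQ f)) = (algebraMap B (PQ f')).comp g := by
  refine RingHom.ext fun a => ?_
  change pqMap g f f' h (Ideal.Quotient.mk _ (C a)) = Ideal.Quotient.mk _ (C (g a))
  rw [pqMap_mk, MvPolynomial.map_C]

lemma ker_pqMap (g : A →+* B) (hg : Function.Surjective g) (f : MvPolynomial (Fin 2) A)
    (f' : MvPolynomial (Fin 2) B) (h : MvPolynomial.map g f = f') :
    RingHom.ker (pqMap g f f' h) = (RingHom.ker g).map (algebraMap A (PQ f)) := by
  refine le_antisymm (fun x hx => ?_) (Ideal.map_le_iff_le_comap.2 fun a ha => ?_)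
  · obtain ⟨p, rfl⟩ := Ideal.Quotient.mk_surjective x
    rw [RingHom.mem_ker, pqMap_mk, Ideal.Quotient.eq_zero_iff_mem, Ideal.mem_span_singleton] at hx
    obtain ⟨c, hc⟩ := hx
    obtain ⟨c, rfl⟩ := MvPolynomial.map_surjective g hg c
    have h1 : p - f * c ∈ RingHom.ker (MvPolynomial.map (σ := Fin 2) g) := by
      rw [RingHom.mem_ker, map_sub, map_mul, h, hc, sub_self]
    rw [MvPolynomial.ker_map] at h1
    have h2 := Ideal.mem_map_of_mem (Ideal.Quotient.mk (Ideal.span {f})) h1
    rw [Ideal.map_map, map_sub, map_mul, Ideal.Quotient.eq_zero_iff_mem.2 (Ideal.mem_span_singleton_self f),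
      zero_mul, sub_zero] at h2
    exact h2
  · change pqMap g f f' h (algebraMap A (PQ f) a) = 0
    rw [← RingHom.comp_apply, pqMap_comp, RingHom.comp_apply, show g a = 0 from ha, map_zero]

end Ring

variable {k : Type u} [Field k]

/-- `xy`. -/
abbrev fz (k : Type u) [Field k] : MvPolynomial (Fin 2) k := X 0 * X 1

/-- `xy - u`. -/
def fu {A : Type u} [CommRing A] (u : A) : MvPolynomial (Fin 2) A := X 0 * X 1 - C u

lemma map_fu {A B : Type u} [CommRing A] [CommRing B] (g : A →+* B) (u : A) :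
    MvPolynomial.map g (fu u) = fu (g u) := by
  simp [fu]

lemma map_fu_zero (A : ArtFun.Art k k) (u : A) (hu : A.res u = 0) :
    MvPolynomial.map A.res.toRingHom (fu u) = fz k := by
  rw [map_fu, show A.res.toRingHom u = 0 from hu, fu, map_zero, sub_zero]

/-- The augmentation of the family. -/
def nodeProj (A : ArtFun.Art k k) (u : A) (hu : A.res u = 0) : PQ (fu u) →+* PQ (fz k) :=
  pqMap A.res.toRingHom _ _ (map_fu_zero A u hu)

lemma flat_node (A : ArtFun.Art k k) (u : A) (hu : A.res u = 0) : Module.Flat A (PQ (fu u)) := by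
  rw [ArtFunLib.FlatSeq.flat_quotient_iff]
  rintro x ⟨h1, h2⟩
  obtain ⟨c, rfl⟩ := Ideal.mem_span_singleton.1 h1
  have hm : RingHom.ker (MvPolynomial.map (σ := Fin 2) A.res.toRingHom)
      = (IsLocalRing.maximalIdeal A).map (algebraMap A (MvPolynomial (Fin 2) A)) := by
    rw [MvPolynomial.ker_map, show RingHom.ker A.res.toRingHom = IsLocalRing.maximalIdeal A from
      IsLocalRing.eq_maximalIdeal (RingHom.ker_isMaximal_of_surjective _ A.res_surjective)]
    rfl
  refine mul_comm (fu u) c ▸ Ideal.mul_mem_mul ?_ (Ideal.mem_span_singleton_self _)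
  change c ∈ (IsLocalRing.maximalIdeal A).map (algebraMap A (MvPolynomial (Fin 2) A))
  rw [← hm, RingHom.mem_ker]
  have h3 : fu u * c ∈ RingHom.ker (MvPolynomial.map (σ := Fin 2) A.res.toRingHom) := hm ▸ h2
  rw [RingHom.mem_ker, map_mul, map_fu_zero A u hu] at h3
  rcases mul_eq_zero.1 h3 with h4 | h4
  · exact absurd h4 (mul_ne_zero (MvPolynomial.X_ne_zero _) (MvPolynomial.X_ne_zero _))
  · exact h4

/-- The family `xy = u`. -/
def node (A : ArtFun.Art k k) (u : A) (hu : A.res u = 0) :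
    ArtFun.DefSch (Spec (CommRingCat.of (PQ (fz k)))) (Spec.map (CommRingCat.ofHom (algebraMap k (PQ (fz k))))) A where
  total := Spec (CommRingCat.of (PQ (fu u)))
  f := Spec.map (CommRingCat.ofHom (algebraMap A (PQ (fu u))))
  flat := Flat.SpecMap_iff.2 (RingHom.flat_algebraMap_iff.2 (flat_node A u hu))
  i := Spec.map (CommRingCat.ofHom (nodeProj A u hu))
  isPullback := AffDef.isPullback_of_ker _ A.res_surjective _ _ _
    (pqMap_surjective _ A.res_surjective _ _ _) (pqMap_comp _ _ _ _) (ker_pqMap _ A.res_surjective _ _ _)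

/-- Base change of the family. -/
theorem map_node {A B : ArtFun.Art k k} (g : A ⟶ B) (hg : Function.Surjective g) (u : A) (hu : A.res u = 0)
    (v : B) (hv : B.res v = 0) (huv : g u = v) :
    (ArtFun.defFunctor (Λ := k) (Spec (CommRingCat.of (PQ (fz k))))
      (Spec.map (CommRingCat.ofHom (algebraMap k (PQ (fz k)))))).map g (node A u hu).cl = (node B v hv).cl := by
  have hh : MvPolynomial.map g.toAlgHom.toRingHom (fu u) = fu v := by rw [← huv]; exact map_fu _ u
  have sq : IsPullback (Spec.map (CommRingCat.ofHom (pqMap g.toAlgHom.toRingHom _ _ hh))) (node B v hv).f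
      (node A u hu).f (ArtFun.Art.specMap g) :=
    AffDef.isPullback_of_ker _ hg _ _ _ (pqMap_surjective _ hg _ _ _) (pqMap_comp _ _ _ _) (ker_pqMap _ hg _ _ _)
  rw [ArtFun.defFunctor_map_cl]
  refine Quotient.sound ⟨⟨sq.isoPullback.symm, sq.isoPullback_inv_snd, ?_⟩⟩
  rw [Iso.symm_hom]
  apply sq.hom_ext
  · refine ((Category.assoc _ _ _).trans (congrArg (((node A u hu).baseChange g).i ≫ ·) sq.isoPullback_inv_fst)).trans
      ((ArtFun.DefSch.baseChange_i_fst _ _).trans ?_)
    change Spec.map (CommRingCat.ofHom (nodeProj A u hu))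
      = Spec.map (CommRingCat.ofHom (nodeProj B v hv)) ≫ Spec.map _
    rw [← Spec.map_comp, ← CommRingCat.ofHom_comp]
    congr 2
    refine Ideal.Quotient.ringHom_ext (RingHom.ext fun p => ?_)
    change nodeProj A u hu (Ideal.Quotient.mk _ p) = nodeProj B v hv (pqMap _ _ _ hh (Ideal.Quotient.mk _ p))
    rw [pqMap_mk]
    refine (pqMap_mk _ _ _ _ p).trans (Eq.trans ?_ (pqMap_mk _ _ _ _ _).symm)
    rw [MvPolynomial.map_map, show B.res.toRingHom.comp g.toAlgHom.toRingHom = A.res.toRingHom from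
      congrArg AlgHom.toRingHom g.res_comp]
  · exact ((Category.assoc _ _ _).trans (congrArg (((node A u hu).baseChange g).i ≫ ·) sq.isoPullback_inv_snd)).trans
      ((ArtFun.DefSch.baseChange_i_f _ _).trans (node B v hv).i_f.symm)

section Rescale

variable {A : Type u} [CommRing A]

/-- Multiply `x` by a constant. -/
def scale (c : A) : MvPolynomial (Fin 2) A →ₐ[A] MvPolynomial (Fin 2) A :=
  MvPolynomial.aeval ![C c * X 0, X 1]

lemma scale_fu (c u : A) : scale c (fu (c * u)) = C c * fu u := by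
  simp [scale, fu, mul_sub, mul_assoc]

/-- `A[x,y]/(xy - c u) → A[x,y]/(xy - u)`, `x ↦ c x`. -/
def scaleQ (c u : A) : PQ (fu (c * u)) →ₐ[A] PQ (fu u) :=
  Ideal.quotientMapₐ _ (scale c) (by
    rw [Ideal.span_singleton_le_iff_mem, Ideal.mem_comap, scale_fu]
    exact Ideal.mul_mem_left _ _ (Ideal.mem_span_singleton_self _))

lemma scale_comp (c d : A) (h : c * d = 1) (p : MvPolynomial (Fin 2) A) : scale c (scale d p) = p := by
  refine DFunLike.congr_fun (f := (scale c).comp (scale d)) (g := AlgHom.id A _) (MvPolynomial.algHom_ext ?_) p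
  have h0 : ∀ e : A, scale e (X 0) = C e * X 0 := fun e => by simp [scale]
  have h1 : ∀ e : A, scale e (X 1) = X 1 := fun e => by simp [scale]
  have hC : ∀ e a : A, scale e (C a) = C a := fun e a => (scale e).commutes a
  refine Fin.forall_fin_two.2 ⟨?_, ?_⟩
  · rw [AlgHom.comp_apply, h0, map_mul, hC, h0, ← mul_assoc, ← map_mul, mul_comm d c, h, map_one, one_mul]
    rfl
  · rw [AlgHom.comp_apply, h1, h1]
    rfl

lemma scaleQ_mk (c u : A) (p : MvPolynomial (Fin 2) A) :
    scaleQ c u (Ideal.Quotient.mk _ p) = Ideal.Quotient.mk _ (scale c p) := rfl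

end Rescale

lemma map_scale_of_res_one (A : ArtFun.Art k k) (c : A) (hc : A.res c = 1) (p : MvPolynomial (Fin 2) A) :
    MvPolynomial.map A.res.toRingHom (scale c p) = MvPolynomial.map A.res.toRingHom p := by
  induction p using MvPolynomial.induction_on with
  | C a => simp [scale]
  | add p q hp hq => rw [map_add, map_add, map_add, hp, hq]
  | mul_X p i hp =>
    rw [map_mul (scale c), map_mul, map_mul, hp]
    congr 1
    have hc' : A.res.toRingHom c = 1 := hc
    fin_cases i
    · simp [scale, hc, hc']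
    · simp [scale]

/-- `xy = u` and `xy = c u` are isomorphic for `c ≡ 1`. -/
theorem node_scale (A : ArtFun.Art k k) (u : A) (hu : A.res u = 0) (c : A) (hc : A.res c = 1)
    (v : A) (hv : A.res v = 0) (hcuv : c * u = v) : (node A u hu).cl = (node A v hv).cl := by
  subst hcuv
  obtain ⟨d, hd⟩ : ∃ d, d * c = 1 := by
    obtain ⟨d, hd⟩ := (IsLocalRing.notMem_maximalIdeal (x := c)).1 (fun h => by
      rw [ArtFun.Art.mem_maximalIdeal_iff, hc] at h; exact one_ne_zero h) |>.exists_left_inv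
    exact ⟨d, hd⟩
  let S : PQ (fu (c * u)) →ₐ[A] PQ (fu u) := scaleQ c u
  let T : PQ (fu u) →ₐ[A] PQ (fu (c * u)) :=
    Ideal.quotientMapₐ _ (scale d) (by
      rw [Ideal.span_singleton_le_iff_mem, Ideal.mem_comap,
        show fu u = fu (d * (c * u)) by rw [← mul_assoc, hd, one_mul], scale_fu]
      exact Ideal.mul_mem_left _ _ (Ideal.mem_span_singleton_self _))
  have hST : ∀ p, scale c (scale d p) = p := scale_comp c d (by rw [mul_comm, hd])
  have hTS : ∀ p, scale d (scale c p) = p := scale_comp d c hd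
  let E : PQ (fu (c * u)) ≃ₐ[A] PQ (fu u) := AlgEquiv.ofAlgHom S T
    (Ideal.Quotient.algHom_ext _ (AlgHom.ext fun p => congrArg (Ideal.Quotient.mk _) (hST p)))
    (Ideal.Quotient.algHom_ext _ (AlgHom.ext fun p => congrArg (Ideal.Quotient.mk _) (hTS p)))
  refine Quotient.sound ⟨⟨Scheme.Spec.mapIso E.toRingEquiv.toCommRingCatIso.op, ?_, ?_⟩⟩
  · change Spec.map (CommRingCat.ofHom S.toRingHom) ≫ Spec.map _ = Spec.map _
    rw [← Spec.map_comp, ← CommRingCat.ofHom_comp]
    congr 2
    exact S.comp_algebraMap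
  · change Spec.map _ ≫ Spec.map (CommRingCat.ofHom S.toRingHom) = Spec.map _
    rw [← Spec.map_comp, ← CommRingCat.ofHom_comp]
    congr 2
    refine Ideal.Quotient.ringHom_ext (RingHom.ext fun p => ?_)
    change nodeProj A u hu (Ideal.Quotient.mk _ (scale c p)) = nodeProj A (c * u) hv (Ideal.Quotient.mk _ p)
    refine (pqMap_mk _ _ _ _ _).trans (Eq.trans ?_ (pqMap_mk _ _ _ _ p).symm)
    rw [map_scale_of_res_one A c hc p]

/-- The smoothing `xy = ε` is not trivial. -/
theorem node_eps_ne :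
    (node (ArtFun.Art.dual k k) (DualNumber.eps : DualNumber k) (TrivSqZeroExt.fst_inr k 1)).cl
      ≠ (node (ArtFun.Art.dual k k) (0 : DualNumber k) (map_zero _)).cl := by
  intro h
  obtain ⟨e⟩ := Quotient.exact h
  set D := ArtFun.Art.dual k k
  let ε : D := (DualNumber.eps : DualNumber k)
  let g : CommRingCat.of (PQ (fu (0 : D))) ⟶ CommRingCat.of (PQ (fu ε)) := Spec.preimage e.iso.hom
  have hg : Spec.map g = e.iso.hom := Spec.map_preimage _
  have h4 : g ≫ CommRingCat.ofHom (nodeProj D ε (TrivSqZeroExt.fst_inr k 1))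
      = CommRingCat.ofHom (nodeProj D 0 (map_zero _)) := Spec.map_injective (by
    rw [Spec.map_comp, hg]; exact e.i_hom)
  have h4' : ∀ y, nodeProj D ε (TrivSqZeroExt.fst_inr k 1) (g.hom y) = nodeProj D 0 (map_zero _) y := fun y =>
    RingHom.congr_fun (congrArg CommRingCat.Hom.hom h4) y
  set π := nodeProj D ε (TrivSqZeroExt.fst_inr k 1) with hπ
  have hk : RingHom.ker π = Ideal.span {algebraMap D (PQ (fu ε)) ε} :=
    (ker_pqMap _ D.res_surjective _ _ _).trans (AffDef.map_ker_res (algebraMap D (PQ (fu ε))))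
  have hlift : ∀ i : Fin 2, ∃ a, g.hom (Ideal.Quotient.mk _ (X i))
      = Ideal.Quotient.mk _ (X i) + algebraMap D (PQ (fu ε)) ε * a := by
    intro i
    have h1 : g.hom (Ideal.Quotient.mk _ (X i)) - Ideal.Quotient.mk _ (X i) ∈ RingHom.ker π := by
      rw [RingHom.mem_ker, map_sub, h4', sub_eq_zero]
      exact (pqMap_mk _ _ _ _ _).trans ((by simp : _ = _).trans (pqMap_mk _ _ _ _ _).symm)
    rw [hk, Ideal.mem_span_singleton] at h1
    obtain ⟨a, ha⟩ := h1
    exact ⟨a, by rw [← ha, add_sub_cancel]⟩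
  obtain ⟨a, ha⟩ := hlift 0
  obtain ⟨b, hb⟩ := hlift 1
  let x : PQ (fu ε) := Ideal.Quotient.mk _ (X 0)
  let y : PQ (fu ε) := Ideal.Quotient.mk _ (X 1)
  let e' : PQ (fu ε) := algebraMap D (PQ (fu ε)) ε
  have hxy : x * y = e' := by
    refine sub_eq_zero.1 ?_
    change Ideal.Quotient.mk (Ideal.span {fu ε}) (X 0) * Ideal.Quotient.mk _ (X 1) - Ideal.Quotient.mk _ (C ε) = 0
    rw [← map_mul, ← map_sub, Ideal.Quotient.eq_zero_iff_mem]
    exact Ideal.mem_span_singleton_self _
  have hzero : g.hom (Ideal.Quotient.mk _ (X 0)) * g.hom (Ideal.Quotient.mk _ (X 1)) = 0 := by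
    rw [← map_mul, ← map_mul, show Ideal.Quotient.mk (Ideal.span {fu (0 : D)}) (X 0 * X 1) = 0 from
      Ideal.Quotient.eq_zero_iff_mem.2 (Ideal.mem_span_singleton.2 ⟨1, by simp [fu]⟩), map_zero]
  have hee : e' * e' = 0 := by
    change algebraMap D (PQ (fu ε)) ε * algebraMap D (PQ (fu ε)) ε = 0
    rw [← map_mul, show ε * ε = 0 from DualNumber.eps_mul_eps, map_zero]
  have h5 : e' * (1 + x * b + y * a) = 0 := by
    rw [ha, hb] at hzero
    linear_combination hzero - hxy - (a * b) * hee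
  have h6 : 1 + x * b + y * a ∈ (IsLocalRing.maximalIdeal D).map (algebraMap D (PQ (fu ε))) := by
    refine AffDef.mem_map_maximalIdeal _
      (RingHom.flat_algebraMap_iff.2 (flat_node D ε (TrivSqZeroExt.fst_inr k 1))) (J := ⊥) (t := ε) ?_ ?_
    · intro h0
      exact one_ne_zero (congrArg TrivSqZeroExt.snd (Ideal.mem_bot.1 h0) : (1 : k) = 0)
    · change e' * (1 + x * b + y * a) ∈ _
      rw [h5]; exact zero_mem _
  rw [← show RingHom.ker π = (IsLocalRing.maximalIdeal D).map (algebraMap D (PQ (fu ε))) by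
      rw [hπ, ← IsLocalRing.eq_maximalIdeal (RingHom.ker_isMaximal_of_surjective _ D.res_surjective)]
      exact ker_pqMap _ D.res_surjective _ _ _, RingHom.mem_ker, map_add, map_add, map_mul, map_mul, map_one] at h6
  let ev : PQ (fz k) →+* k := Ideal.Quotient.lift _ (MvPolynomial.eval (0 : Fin 2 → k)) (fun p hp => by
    obtain ⟨c, rfl⟩ := Ideal.mem_span_singleton.1 hp
    simp [fz])
  have hev : ∀ i : Fin 2, ev (π (Ideal.Quotient.mk _ (X i))) = 0 := by
    intro i
    rw [show π (Ideal.Quotient.mk _ (X i)) = Ideal.Quotient.mk _ (X i) from (pqMap_mk _ _ _ _ _).trans (by simp)]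
    simp [ev]
  have h7 := congrArg ev h6
  rw [map_zero, map_add, map_add, map_mul, map_mul, map_one, hev 0, hev 1] at h7
  simp at h7

section Art

variable (k)

theorem isLocalRing_of_nil {R : Type u} [CommRing R] [Nontrivial R] [Algebra k R] (r : R →ₐ[k] k)
    (h : ∀ a, r a = 0 → IsNilpotent a) : IsLocalRing R := by
  refine IsLocalRing.of_isUnit_or_isUnit_one_sub_self fun a => ?_
  by_cases ha : r a = 0
  · exact Or.inr (h a ha).isUnit_one_sub
  · left
    have h1 : IsNilpotent (1 - algebraMap k R (r a)⁻¹ * a) := h _ (by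
      rw [map_sub, map_one, map_mul, AlgHom.commutes]
      exact sub_eq_zero.2 (inv_mul_cancel₀ ha).symm)
    have h2 := h1.isUnit_one_sub
    rw [sub_sub_cancel] at h2
    exact isUnit_of_mul_isUnit_right h2

abbrev A2 := DualNumber (DualNumber k)

def res2 : A2 k →ₐ[k] k :=
  (TrivSqZeroExt.fstHom k k k).comp (TrivSqZeroExt.fstHom k (DualNumber k) (DualNumber k))

lemma res2_apply (x : A2 k) : res2 k x = x.fst.fst := rfl

lemma nil2 (x : A2 k) (hx : res2 k x = 0) : IsNilpotent x := by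
  rw [TrivSqZeroExt.isNilpotent_iff_isNilpotent_fst, TrivSqZeroExt.isNilpotent_iff_isNilpotent_fst]
  rw [res2_apply] at hx
  rw [hx]
  exact IsNilpotent.zero

/-- `ab` in `k[a, b]/(a², b²)`. -/
def ab : A2 k := TrivSqZeroExt.inr DualNumber.eps

lemma mul_ab (x : A2 k) : x * ab k = algebraMap k (A2 k) (res2 k x) * ab k := by
  refine TrivSqZeroExt.ext ?_ ?_
  · simp [ab]
  · refine TrivSqZeroExt.ext ?_ ?_ <;> simp [ab, res2_apply, TrivSqZeroExt.algebraMap_eq_inl']

instance : IsScalarTower k (A2 k) (A2 k) := ⟨fun c x y => by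
  change (c • x) * y = c • (x * y)
  refine TrivSqZeroExt.ext ?_ ?_
  · simp
  · refine TrivSqZeroExt.ext ?_ ?_ <;> simp⟩

instance : Module.Finite k (A2 k) :=
  haveI : Module.Finite k (DualNumber k) := inferInstanceAs (Module.Finite k (k × k))
  inferInstanceAs (Module.Finite k (DualNumber k × DualNumber k))

/-- `k[a,b]/(a²,b²) ×_k k[ε]`. -/
abbrev P2 := AlgHom.equalizer ((res2 k).comp (AlgHom.fst k (A2 k) (DualNumber k)))
  ((TrivSqZeroExt.fstHom k k k).comp (AlgHom.snd k (A2 k) (DualNumber k)))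

def resP : P2 k →ₐ[k] k := (res2 k).comp ((AlgHom.fst k (A2 k) (DualNumber k)).comp (P2 k).val)

instance : Module.Finite k (P2 k) :=
  haveI : Module.Finite k (DualNumber k) := inferInstanceAs (Module.Finite k (k × k))
  Module.Finite.of_injective (P2 k).val.toLinearMap Subtype.val_injective

lemma nilP (x : P2 k) (hx : resP k x = 0) : IsNilpotent x := by
  obtain ⟨n, hn⟩ := nil2 k x.1.1 hx
  obtain ⟨m, hm⟩ : IsNilpotent x.1.2 := by
    rw [TrivSqZeroExt.isNilpotent_iff_isNilpotent_fst, show TrivSqZeroExt.fst x.1.2 = 0 from x.2.symm.trans hx]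
    exact IsNilpotent.zero
  refine ⟨n + m, Subtype.ext (Prod.ext ?_ ?_)⟩
  · change x.1.1 ^ (n + m) = 0
    rw [pow_add, hn, zero_mul]
  · change x.1.2 ^ (n + m) = 0
    rw [pow_add, hm, mul_zero]

abbrev artA : ArtFun.Art k k :=
  haveI : IsLocalRing (A2 k) := isLocalRing_of_nil (R := A2 k) k (res2 k) (nil2 k)
  haveI := IsArtinianRing.of_finite k (A2 k)
  ArtFun.Art.of (A2 k) (res2 k) fun c => ⟨algebraMap k _ c, (res2 k).commutes c⟩

abbrev artP : ArtFun.Art k k :=
  haveI : IsLocalRing (P2 k) := isLocalRing_of_nil (R := P2 k) k (resP k) (nilP k)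
  haveI := IsArtinianRing.of_finite k (P2 k)
  ArtFun.Art.of (P2 k) (resP k) fun c => ⟨algebraMap k _ c, (resP k).commutes c⟩

def pFst : artP k ⟶ artA k :=
  ArtFun.Art.homMk ((AlgHom.fst k (A2 k) (DualNumber k)).comp (P2 k).val) rfl

def addFun (z : P2 k) : A2 k := z.1.1 + algebraMap k (A2 k) (TrivSqZeroExt.snd z.1.2) * ab k

def addHom : P2 k →ₐ[k] A2 k where
  toFun := addFun k
  map_one' := by simp [addFun]
  map_zero' := by simp [addFun]
  map_add' z w := by
    simp only [addFun, Subalgebra.coe_add, Prod.fst_add, Prod.snd_add, TrivSqZeroExt.snd_add, map_add]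
    ring
  map_mul' z w := by
    have hz : res2 k z.1.1 = TrivSqZeroExt.fst z.1.2 := z.2
    have hw : res2 k w.1.1 = TrivSqZeroExt.fst w.1.2 := w.2
    have h0 : ab k * ab k = 0 := TrivSqZeroExt.inr_mul_inr _ _ _
    simp only [addFun, Subalgebra.coe_mul, Prod.fst_mul, Prod.snd_mul, DualNumber.snd_mul, ← hz, ← hw, map_add, map_mul]
    linear_combination (-(algebraMap k (A2 k) (TrivSqZeroExt.snd z.1.2))) * mul_ab k w.1.1
      - algebraMap k (A2 k) (TrivSqZeroExt.snd w.1.2) * mul_ab k z.1.1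
      - algebraMap k (A2 k) (TrivSqZeroExt.snd z.1.2) * algebraMap k (A2 k) (TrivSqZeroExt.snd w.1.2) * h0
  commutes' c := by simp [addFun, TrivSqZeroExt.algebraMap_eq_inl']

def pAdd : artP k ⟶ artA k :=
  ArtFun.Art.homMk (addHom k) (AlgHom.ext fun z => by
    change res2 k (z.1.1 + algebraMap k (A2 k) (TrivSqZeroExt.snd z.1.2) * ab k) = res2 k z.1.1
    rw [map_add, map_mul, show res2 k (ab k) = 0 by simp [res2_apply, ab], mul_zero, add_zero])

def pSnd : artP k ⟶ ArtFun.Art.dual k k :=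
  ArtFun.Art.homMk ((AlgHom.snd k (A2 k) (DualNumber k)).comp (P2 k).val) (AlgHom.ext fun z => z.2.symm)

lemma pFst_surjective : Function.Surjective (pFst k) := fun x =>
  ⟨⟨(x, algebraMap k _ (res2 k x)), ((TrivSqZeroExt.fstHom k k k).commutes _).symm⟩, rfl⟩

lemma pAdd_surjective : Function.Surjective (pAdd k) := fun (x : A2 k) =>
  ⟨⟨(x, algebraMap k _ (res2 k x)), ((TrivSqZeroExt.fstHom k k k).commutes _).symm⟩, by
    change x + algebraMap k (A2 k) (TrivSqZeroExt.snd (algebraMap k (DualNumber k) (res2 k x))) * ab k = x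
    simp [TrivSqZeroExt.algebraMap_eq_inl]⟩

lemma pSnd_surjective : Function.Surjective (pSnd k) := fun x =>
  ⟨⟨(algebraMap k _ (TrivSqZeroExt.fst (x : DualNumber k)), x), (res2 k).commutes _⟩, rfl⟩

lemma jointly_injective (z w : artP k) (h1 : pFst k z = pFst k w) (h2 : pAdd k z = pAdd k w) : z = w := by
  obtain ⟨⟨x, y⟩, hz⟩ := z
  obtain ⟨⟨x', y'⟩, hw⟩ := w
  change x = x' at h1
  subst h1
  change x + algebraMap k (A2 k) (TrivSqZeroExt.snd y) * ab k = x + algebraMap k (A2 k) (TrivSqZeroExt.snd y') * ab k at h2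
  have h3 := congrArg TrivSqZeroExt.snd (congrArg TrivSqZeroExt.snd (add_left_cancel h2))
  simp [ab, TrivSqZeroExt.algebraMap_eq_inl'] at h3
  have h4 : TrivSqZeroExt.fst y = TrivSqZeroExt.fst y' := hz.symm.trans hw
  exact Subtype.ext (Prod.ext rfl (TrivSqZeroExt.ext h4 h3))

end Art

end

/-- Let k be an algebraically closed field and C = Spec k[x, y]/(xy) the union of the two coordinate
axes in the affine plane. Then the local moduli functor Def_C, of isomorphism classes of
deformations of C over local Artinian k-algebras with residue field k, is not prorepresentable by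
any complete local Noetherian k-algebra with residue field k. -/
theorem result
    {k : Type u} [Field k] [IsAlgClosed k] :
    ¬ ArtFun.IsProrepresentable (ArtFun.defFunctor (Λ := k)
      (Spec (CommRingCat.of (MvPolynomial (Fin 2) k ⧸
        Ideal.span {(MvPolynomial.X 0 * MvPolynomial.X 1 : MvPolynomial (Fin 2) k)})))
      (Spec.map (CommRingCat.ofHom (algebraMap k (MvPolynomial (Fin 2) k ⧸
        Ideal.span {(MvPolynomial.X 0 * MvPolynomial.X 1 : MvPolynomial (Fin 2) k)}))))) := by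
  rintro ⟨H⟩
  let t : A2 k := TrivSqZeroExt.inl DualNumber.eps
  have ht : res2 k t = 0 := TrivSqZeroExt.fst_inr k 1
  let U₁ : artP k := ⟨(t, 0), ht⟩
  let U₂ : artP k := ⟨(t, DualNumber.eps), ht.trans (TrivSqZeroExt.fst_inr k 1).symm⟩
  have hU₁ : (artP k).res U₁ = 0 := ht
  have hU₂ : (artP k).res U₂ = 0 := ht
  have htA : (artA k).res t = 0 := ht
  have h₁ : (pFst k) U₁ = t := rfl
  have h₂ : (pFst k) U₂ = t := rfl
  have h₃ : (pAdd k) U₁ = t := by
    change t + algebraMap k (A2 k) (TrivSqZeroExt.snd (0 : DualNumber k)) * ab k = t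
    simp
  let c : A2 k := 1 + TrivSqZeroExt.inr 1
  have hc : (artA k).res c = 1 := by
    change res2 k c = 1
    simp [res2_apply, c]
  have h₄ : (pAdd k) U₂ = c * t := by
    change t + algebraMap k (A2 k) (TrivSqZeroExt.snd (DualNumber.eps : DualNumber k)) * ab k = c * t
    refine TrivSqZeroExt.ext ?_ ?_
    · simp [t, c, ab]
    · refine TrivSqZeroExt.ext ?_ ?_ <;> simp [t, c, ab]
  have hct : (artA k).res (c * t) = 0 := by
    change res2 k (c * t) = 0
    rw [map_mul, ht, mul_zero]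
  obtain ⟨φ₁, e₁⟩ := (H.universal (artP k)).2 (node (artP k) U₁ hU₁).cl
  obtain ⟨φ₂, e₂⟩ := (H.universal (artP k)).2 (node (artP k) U₂ hU₂).cl
  have key : ∀ (g : artP k ⟶ artA k), (ArtFun.defFunctor _ _).map g (node (artP k) U₁ hU₁).cl
      = (ArtFun.defFunctor _ _).map g (node (artP k) U₂ hU₂).cl → ∀ r, g (φ₁.1 r) = g (φ₂.1 r) := by
    intro g hg r
    rw [← e₁, ← e₂, ← H.family.natural, ← H.family.natural] at hg
    exact DFunLike.congr_fun (congrArg Subtype.val ((H.universal _).1 hg)) r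
  have hφ : φ₁ = φ₂ := by
    refine Subtype.ext (AlgHom.ext fun r => jointly_injective k _ _ (key (pFst k) ?_ r) (key (pAdd k) ?_ r))
    · rw [map_node (pFst k) (pFst_surjective k) U₁ hU₁ t htA h₁, map_node (pFst k) (pFst_surjective k) U₂ hU₂ t htA h₂]
    · rw [map_node (pAdd k) (pAdd_surjective k) U₁ hU₁ t htA h₃,
        map_node (pAdd k) (pAdd_surjective k) U₂ hU₂ (c * t) hct h₄]
      exact node_scale (artA k) t htA c hc (c * t) hct rfl
  have h5 : (ArtFun.defFunctor _ _).map (pSnd k) (node (artP k) U₂ hU₂).cl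
      = (ArtFun.defFunctor _ _).map (pSnd k) (node (artP k) U₁ hU₁).cl := by
    rw [← e₁, ← e₂, hφ]
  rw [map_node (pSnd k) (pSnd_surjective k) U₂ hU₂ (DualNumber.eps : DualNumber k) (TrivSqZeroExt.fst_inr k 1) rfl,
    map_node (pSnd k) (pSnd_surjective k) U₁ hU₁ (0 : DualNumber k) (map_zero _) rfl] at h5
  exact node_eps_ne h5

end Groth.Agent.S12256
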