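import Groth.Statements.S12257
import Groth.Agent.ArtFunLib.Tangent
import Groth.Agent.ArtFunLib.Pullback

set_option autoImplicit false
universe u v
open CategoryTheory CategoryTheory.Limits
open Deform

namespace Groth.Agent.S12257

open Groth.Agent.ArtFunLib

/-- Let k be an algebraically closed field, Λ a complete local Noetherian k-algebra with residue field
k, and F, G, H set-valued functors on local Artinian Λ-algebras with residue field k, each with
one-point value at k. If F → G is a smooth morphism of functors and H → G is any morphism, then the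
second projection F ×_G H → H of the fibre product of functors is smooth. -/
theorem result
    {k Λ : Type u} [Field k] [IsAlgClosed k] [CommRing Λ] [IsLocalRing Λ] [IsNoetherianRing Λ]
    [IsAdicComplete (IsLocalRing.maximalIdeal Λ) Λ] [Algebra k Λ] [Algebra Λ k] [IsScalarTower k Λ k]
    {F G H : ArtFun.Art Λ k ⥤ Type v} (η : F ⟶ G) (θ : H ⟶ G)
    (hF : ArtFun.H0 F) (hG : ArtFun.H0 G) (hH : ArtFun.H0 H) (hη : ArtFun.IsSmooth η) :
    ArtFun.IsSmooth (pullback.snd η θ) := by
  rw [isSmooth_iff_lifts] at *
  intro B A μ hμ x y e
  obtain ⟨a, ha, hb⟩ := hη μ hμ ((Limits.pullback.fst η θ).app A x) (θ.app B y) (by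
    change _ = _
    rw [← NatTrans.naturality_apply θ]
    exact (congrArg (θ.app A) e).trans (pullback_elt_cond η θ A x).symm)
  obtain ⟨z, hz₁, hz₂⟩ := pullback_elt η θ B a y hb
  refine ⟨z, pullback_elt_ext η θ A ?_ ?_, hz₂⟩
  · rw [NatTrans.naturality_apply (Limits.pullback.fst η θ), hz₁, ha]
  · rw [NatTrans.naturality_apply (Limits.pullback.snd η θ), hz₂, e]
    rfl

end Groth.Agent.S12257
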