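import Groth.Statements.S12258
import Groth.Agent.ArtFunLib.Cotangent
import Groth.Agent.ArtFunLib.Pullback

set_option autoImplicit false
universe u v
open CategoryTheory CategoryTheory.Limits
open Deform

namespace Groth.Agent.S12258

open Groth.Agent.ArtFunLib

/-- Let k be an algebraically closed field, Λ a complete local Noetherian k-algebra with residue field
k, and F, G set-valued functors on local Artinian Λ-algebras with residue field k, each with
one-point value at k. If F and G are smooth functors, i.e. F(B) → F(A) and G(B) → G(A) are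
surjective for every surjection B → A, then the product functor F × G is smooth. -/
theorem result
    {k Λ : Type u} [Field k] [IsAlgClosed k] [CommRing Λ] [IsLocalRing Λ] [IsNoetherianRing Λ]
    [IsAdicComplete (IsLocalRing.maximalIdeal Λ) Λ] [Algebra k Λ] [Algebra Λ k] [IsScalarTower k Λ k]
    {F G : ArtFun.Art Λ k ⥤ Type v}
    (hF : ArtFun.H0 F) (hG : ArtFun.H0 G) (sF : ArtFun.IsSmoothFunctor F) (sG : ArtFun.IsSmoothFunctor G) :
    ArtFun.IsSmoothFunctor (F ⨯ G) := by
  intro B A μ hμ x
  obtain ⟨a, ha⟩ := sF μ hμ ((Limits.prod.fst : F ⨯ G ⟶ F).app A x)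
  obtain ⟨b, hb⟩ := sG μ hμ ((Limits.prod.snd : F ⨯ G ⟶ G).app A x)
  have sq : IsPullback (Limits.prod.fst : F ⨯ G ⟶ F) Limits.prod.snd
      (Limits.terminal.from F) (Limits.terminal.from G) :=
    IsPullback.of_is_product (Limits.prodIsProd F G) Limits.terminalIsTerminal
  have sqA := sq.map ((evaluation _ _).obj B)
  have sqB := sq.map ((evaluation _ _).obj A)
  have hT : Subsingleton ((⊤_ (ArtFun.Art Λ k ⥤ Type v)).obj B) := by
    refine ⟨fun s t => ?_⟩
    have hi := Limits.terminalIsTerminal.isTerminalObj ((evaluation (ArtFun.Art Λ k) (Type v)).obj B)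
      (⊤_ (ArtFun.Art Λ k ⥤ Type v))
    letI := (Limits.Types.isTerminalEquivUnique _ hi : Unique _)
    haveI : Subsingleton (((evaluation (ArtFun.Art Λ k) (Type v)).obj B).obj (⊤_ (ArtFun.Art Λ k ⥤ Type v))) := inferInstance
    exact @Subsingleton.elim _ this s t
  obtain ⟨z, hz₁, hz₂⟩ := CategoryTheory.Limits.Types.exists_of_isPullback sqA a b
    (hT.elim _ _)
  refine ⟨z, CategoryTheory.Limits.Types.ext_of_isPullback sqB ?_ ?_⟩
  · exact (NatTrans.naturality_apply (Limits.prod.fst : F ⨯ G ⟶ F) μ z).trans ((congrArg (F.map μ) hz₁).trans ha)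
  · exact (NatTrans.naturality_apply (Limits.prod.snd : F ⨯ G ⟶ G) μ z).trans ((congrArg (G.map μ) hz₂).trans hb)

end Groth.Agent.S12258
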