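import Groth.Statements.S12261
import Groth.Agent.HilbLoc.FinDim
import Groth.Agent.S12253
import Groth.Agent.ProjProper.Basic

set_option autoImplicit false
universe u
open CategoryTheory CategoryTheory.Limits AlgebraicGeometry
open Deform

namespace Groth.Agent.S12261

/-- Let k be an algebraically closed field, Y a separated k-scheme of finite type and X ⊆ Y the closed
subscheme of a quasi-coherent ideal sheaf I₀; assume X is projective over k, i.e. X admits a closed
immersion over k into some projective space P^n_k. Then the local Hilbert functor of X in Y (closed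
subschemes of Y ×_k Spec A flat over Spec A restricting to X on the closed fibre, for A local
Artinian with residue field k) is prorepresentable by a complete local Noetherian k-algebra with
residue field k. (The published statement assumes only that the space of global sections of the
normal sheaf of X in Y is finite-dimensional, X projective being the named instance; this row states
the projective case.) -/
theorem result
    {k : Type u} [Field k] [IsAlgClosed k] (Y : Scheme.{u}) (y : Y ⟶ Spec (CommRingCat.of k))
    [LocallyOfFiniteType y] [IsSeparated y] [QuasiCompact y] (I₀ : Y.IdealSheafData)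
    (hproj : ∃ (n : ℕ) (c : I₀.subscheme ⟶ CohB1.ProjSpaceOver n (Spec (CommRingCat.of k))),
      IsClosedImmersion c ∧ c ≫ CohB1.ProjSpaceOver.toBase n (Spec (CommRingCat.of k)) = I₀.subschemeι ≫ y) :
    ArtFun.IsProrepresentable (ArtFun.localHilb Y y I₀) := by
  obtain ⟨n, c, hc, hcx⟩ := hproj
  haveI : IsProper (CohB1.ProjSpaceOver.toBase n (Spec (CommRingCat.of k))) :=
    Groth.Agent.ProjProper.Basic.isProper_toBase n _
  haveI : IsProper (I₀.subschemeι ≫ y) := by rw [← hcx]; infer_instance
  suffices H : ∀ (Z : Scheme.{u}) (i : Z ⟶ Y) (_ : IsClosedImmersion i) (_ : IsProper (i ≫ y)),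
      ArtFun.IsProrepresentable (ArtFun.localHilb Y y i.ker) by
    have h := H _ I₀.subschemeι inferInstance ‹_›
    rwa [Scheme.IdealSheafData.ker_subschemeι] at h
  intro Z i _ _
  have hH0 := Groth.Agent.HilbLoc.h0_localHilb y i.ker
  have heps : ArtFun.Heps (ArtFun.localHilb Y y i.ker) := fun _ _ _ _ h =>
    Groth.Agent.HilbLoc.cmp_bijective_localHilb h fun c => (ArtFun.Art.dual k k).res_surjective c
  obtain ⟨T⟩ := Groth.Agent.ArtFunLib.nonempty_tangentStr (ArtFun.localHilb Y y i.ker) hH0 heps
  letI := T
  exact Groth.Agent.ArtFunLib.isProrepresentable_of_conditions hH0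
    (fun _ _ _ _ _ _ _ _ h hf => (Groth.Agent.HilbLoc.cmp_bijective_localHilb h hf.1).2) heps
    (Groth.Agent.HilbLoc.hfin_localHilb i)
    (fun _ _ _ _ _ _ h hf => Groth.Agent.HilbLoc.cmp_bijective_localHilb h hf.1)
    (Groth.Agent.ArtFunLib.seesDerivations_of_surjective fun c => ⟨c, rfl⟩)

end Groth.Agent.S12261
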