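import Groth.Statements.S12263
import Groth.Agent.AffDef.Section

set_option autoImplicit false
universe u
open CategoryTheory CategoryTheory.Limits AlgebraicGeometry
open Deform

namespace Groth.Agent.S12263

open CategoryTheory AlgebraicGeometry Limits IsLocalRing

theorem exists_section {k A B B₀ : Type u} [Field k] [CommRing A] [IsLocalRing A] [IsArtinianRing A] [CommRing B]
    [Algebra k B] [CommRing B₀] [Algebra k B₀]
    (hT : ∀ E : Exal.Ext k B₀ B₀, E.IsTrivial) (φ : A →+* B) (hflat : φ.Flat) (π : B →ₐ[k] B₀)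
    (hπ : Function.Surjective π) (hker : RingHom.ker π.toRingHom = (maximalIdeal A).map φ) :
    ∃ s : B₀ →ₐ[k] B, ∀ b, π (s b) = b := by
  have hle : ∀ J ≤ maximalIdeal A, ∀ y ∈ J.map φ, π y = 0 := fun J hJ y hy =>
    RingHom.mem_ker.1 (hker.ge (Ideal.map_mono hJ hy) : y ∈ RingHom.ker π.toRingHom)
  have key : ∀ J ≤ maximalIdeal A, ∃ s : B₀ →ₐ[k] B ⧸ J.map φ,
      ∀ b0 (y : B), Ideal.Quotient.mk (J.map φ) y = s b0 → π y = b0 := by
    refine AffDef.ideal_induction (fun J => ∃ s : B₀ →ₐ[k] B ⧸ J.map φ,
      ∀ b0 (y : B), Ideal.Quotient.mk (J.map φ) y = s b0 → π y = b0) ?_ ?_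
    · refine ⟨((Ideal.quotientEquivAlgOfEq k (show RingHom.ker π = (maximalIdeal A).map φ from hker)).toAlgHom).comp
        (Ideal.quotientKerAlgEquivOfSurjective hπ).symm.toAlgHom, fun b0 y hy => ?_⟩
      obtain ⟨c, rfl⟩ := hπ b0
      have hc : (Ideal.quotientKerAlgEquivOfSurjective hπ).symm (π c) = Ideal.Quotient.mk _ c := by
        rw [AlgEquiv.symm_apply_eq, Ideal.quotientKerAlgEquivOfSurjective_apply]
        rfl
      simp only [AlgHom.coe_comp, AlgEquiv.coe_toAlgHom, Function.comp_apply, hc, Ideal.quotientEquivAlgOfEq_mk] at hy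
      rw [Ideal.Quotient.mk_eq_mk_iff_sub_mem] at hy
      exact sub_eq_zero.1 ((map_sub π y c).symm.trans (hle _ le_rfl _ hy))
    · intro J t ht htJ htm hJ ⟨s', hs'⟩
      let q : (B ⧸ J.map φ) →ₐ[k] B ⧸ (J ⊔ Ideal.span {t}).map φ := Ideal.Quotient.factorₐ k (Ideal.map_mono le_sup_left)
      let E := AlgHom.equalizer (q.comp (AlgHom.fst k (B ⧸ J.map φ) B₀)) (s'.comp (AlgHom.snd k (B ⧸ J.map φ) B₀))
      have hmem : ∀ x : (B ⧸ J.map φ) × B₀, x ∈ E ↔ q x.1 = s' x.2 := fun x => Iff.rfl
      have hE : ∀ (y : B) (b0 : B₀), (Ideal.Quotient.mk (J.map φ) y, b0) ∈ E ↔ Ideal.Quotient.mk ((J ⊔ Ideal.span {t}).map φ) y = s' b0 :=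
        fun y b0 => Iff.rfl
      have hmt : Ideal.span {t} * maximalIdeal A ≤ J :=
        Ideal.span_singleton_mul_le_iff.2 fun a ha => by rw [mul_comm]; exact htm a ha
      have hzero : ∀ y : B, π y = 0 → Ideal.Quotient.mk (J.map φ) (φ t * y) = 0 := by
        intro y hy
        rw [Ideal.Quotient.eq_zero_iff_mem]
        refine Ideal.map_mono hmt ?_
        rw [Ideal.map_mul, Ideal.map_span, Set.image_singleton, ← hker]
        exact Ideal.mul_mem_mul (Ideal.mem_span_singleton_self _) hy
      have hzero' : ∀ y z : B, π y = π z →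
          Ideal.Quotient.mk (J.map φ) (φ t * y) = Ideal.Quotient.mk (J.map φ) (φ t * z) := by
        intro y z h
        rw [← sub_eq_zero, ← map_sub, ← mul_sub]
        exact hzero _ (by rw [map_sub, h, sub_self])
      have htmem : ∀ y : B, Ideal.Quotient.mk ((J ⊔ Ideal.span {t}).map φ) (φ t * y) = 0 := fun y =>
        Ideal.Quotient.eq_zero_iff_mem.2 (Ideal.mul_mem_right _ _ (Ideal.mem_map_of_mem φ
          (Submodule.mem_sup_right (Ideal.mem_span_singleton_self t))))
      let incl : B₀ →+ E :=
        { toFun := fun z => ⟨(Ideal.Quotient.mk (J.map φ) (φ t * Function.surjInv hπ z), 0), (hE _ _).2 (by rw [htmem, map_zero])⟩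
          map_zero' := Subtype.ext (Prod.ext (hzero _ (Function.surjInv_eq hπ 0)) rfl)
          map_add' := fun z w => Subtype.ext (Prod.ext (by
            change _ = Ideal.Quotient.mk (J.map φ) _ + Ideal.Quotient.mk (J.map φ) _
            rw [← map_add, ← mul_add]
            exact hzero' _ _ (by rw [Function.surjInv_eq hπ, map_add, Function.surjInv_eq hπ, Function.surjInv_eq hπ]))
            (add_zero _).symm) }
      let proj : E →ₐ[k] B₀ := (AlgHom.snd k (B ⧸ J.map φ) B₀).comp E.val
      have hext : Exal.IsExtension proj incl := by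
        refine ⟨fun b0 => ?_, fun z w h => ?_, fun x => ?_, fun x z => ?_⟩
        · obtain ⟨y, hy⟩ := Ideal.Quotient.mk_surjective (s' b0)
          exact ⟨⟨(Ideal.Quotient.mk _ y, b0), (hE _ _).2 hy⟩, rfl⟩
        · have h1 : Ideal.Quotient.mk (J.map φ) (φ t * Function.surjInv hπ z)
              = Ideal.Quotient.mk (J.map φ) (φ t * Function.surjInv hπ w) := congrArg (fun e : E => e.1.1) h
          rw [Ideal.Quotient.mk_eq_mk_iff_sub_mem, ← mul_sub] at h1
          have h2 := hle _ le_rfl _ (AffDef.mem_map_maximalIdeal φ hflat htJ h1)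
          rwa [map_sub, Function.surjInv_eq hπ, Function.surjInv_eq hπ, sub_eq_zero] at h2
        · obtain ⟨⟨y, b0⟩, hx⟩ := x
          obtain ⟨y, rfl⟩ := Ideal.Quotient.mk_surjective y
          constructor
          · intro h0
            have hb : b0 = 0 := h0
            subst hb
            have h1 := (hE _ _).1 hx
            rw [map_zero, Ideal.Quotient.eq_zero_iff_mem, Ideal.map_sup, Ideal.map_span, Set.image_singleton,
              Submodule.mem_sup] at h1
            obtain ⟨u, hu, v, hv, rfl⟩ := h1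
            obtain ⟨c, rfl⟩ := Ideal.mem_span_singleton.1 hv
            refine ⟨π c, Subtype.ext (Prod.ext ?_ rfl)⟩
            change Ideal.Quotient.mk (J.map φ) (φ t * _) = Ideal.Quotient.mk _ (u + φ t * c)
            rw [map_add (Ideal.Quotient.mk (J.map φ)) u, Ideal.Quotient.eq_zero_iff_mem.2 hu, zero_add]
            exact hzero' _ _ (Function.surjInv_eq hπ _)
          · rintro ⟨z, hz⟩
            exact (congrArg (fun e : E => e.1.2) hz).symm
        · obtain ⟨⟨y, b0⟩, hx⟩ := x
          obtain ⟨y, rfl⟩ := Ideal.Quotient.mk_surjective y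
          refine Subtype.ext (Prod.ext ?_ (mul_zero b0))
          change Ideal.Quotient.mk (J.map φ) y * Ideal.Quotient.mk (J.map φ) (φ t * _) = _
          rw [← map_mul, mul_left_comm]
          refine hzero' _ _ ?_
          have hyb : π y = b0 := hs' b0 y ((hE _ _).1 hx)
          rw [map_mul, Function.surjInv_eq hπ, hyb, Function.surjInv_eq hπ]
          rfl
      obtain ⟨σ, hσ⟩ := hT ⟨E, proj, incl, hext⟩
      refine ⟨((AlgHom.fst k (B ⧸ J.map φ) B₀).comp E.val).comp σ, fun b0 y hy => ?_⟩
      refine hs' b0 y ?_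
      have h1 := (hmem (σ b0).1).1 (σ b0).2
      rw [show (σ b0).1.2 = b0 from hσ b0] at h1
      rw [← h1]
      exact congrArg q hy
  obtain ⟨s, hs⟩ := key ⊥ bot_le
  have hbot : ((⊥ : Ideal A).map φ) = ⊥ := Ideal.map_bot
  refine ⟨((Ideal.Quotient.liftₐ _ (AlgHom.id k B) fun a ha => ?_ : (B ⧸ (⊥ : Ideal A).map φ) →ₐ[k] B)).comp s,
    fun b => ?_⟩
  · rw [hbot] at ha
    exact ha
  · obtain ⟨y, hy⟩ := Ideal.Quotient.mk_surjective (s b)
    rw [AlgHom.comp_apply, ← hy]
    exact hs b y hy

/-- Let k be an algebraically closed field and B₀ a finitely generated commutative k-algebra. Suppose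
T^1_{B₀} = 0 in the form: every k-algebra extension of B₀ by the B₀-module B₀ (square-zero kernel)
is trivial. Then B₀ is rigid: every deformation of Spec B₀ over a local Artinian k-algebra A with
residue field k (a scheme flat over Spec A together with a cartesian square exhibiting Spec B₀ as
the fibre over the closed point) is isomorphic, over Spec A and under Spec B₀, to the product
deformation Spec B₀ ×_k Spec A. (The published statement is for a k-algebra B₀, Noetherian by the
standing convention; this row takes B₀ finitely generated over k, the case covered by the results on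
algebraic schemes that its proof cites. It also asserts a semiuniversal formal element when T^1_{B₀}
is finite-dimensional, in particular for isolated singularities; those clauses are instances of
results on all algebraic schemes and are not repeated here. The first-order deformations of B₀
correspond to the k-algebra extensions of B₀ by B₀, the trivial deformation to the trivial
extension.) -/
theorem result
    {k : Type u} [Field k] [IsAlgClosed k] (B₀ : Type u) [CommRing B₀] [Algebra k B₀] [Algebra.FiniteType k B₀]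
    (hT : ∀ E : Exal.Ext k B₀ B₀, E.IsTrivial) (A : ArtFun.Art k k)
    (ξ : ArtFun.DefSch (Spec (CommRingCat.of B₀)) (Spec.map (CommRingCat.ofHom (algebraMap k B₀))) A) :
    Nonempty (ξ.Iso (ArtFun.DefSch.trivial (Spec (CommRingCat.of B₀))
      (Spec.map (CommRingCat.ofHom (algebraMap k B₀))) inferInstance A)) := by
  have hes : Function.Surjective A.res.toRingHom := A.res_surjective
  obtain ⟨B, _, φ, π, j, hjf, hji, hπs, hcomm, hker, hflat⟩ :=
    AffDef.exists_affine A.res.toRingHom hes (AffDef.isNilpotent_ker A.res) (algebraMap k B₀) ξ.total ξ.f ξ.i ξ.isPullback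
  letI : Algebra k B := (φ.comp (algebraMap k A)).toAlgebra
  let πA : B →ₐ[k] B₀ :=
    { π with
      commutes' := fun c => by
        change π (φ (algebraMap k A c)) = _
        rw [← RingHom.comp_apply π φ, hcomm, RingHom.comp_apply]
        exact congrArg _ (A.res.commutes c) }
  have hm : RingHom.ker A.res.toRingHom = IsLocalRing.maximalIdeal A :=
    IsLocalRing.eq_maximalIdeal (RingHom.ker_isMaximal_of_surjective _ hes)
  obtain ⟨s, hs⟩ := exists_section hT φ (hflat ξ.flat) πA hπs (hker.trans (by rw [hm]))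
  obtain ⟨ψ, hψ, hψi, -⟩ := AffDef.exists_iso_trivial A.res ξ.total ξ.f ξ.i φ (hflat ξ.flat) π j hjf hji
    hcomm hker s.toRingHom (RingHom.ext hs) s.comp_algebraMap
  exact ⟨⟨ψ, hψ, by
    apply pullback.hom_ext
    · exact (((Category.assoc _ _ _).trans hψi).trans (ArtFun.DefSch.baseChange_i_fst (ArtFun.DefSch.self _ _ _) _).symm)
    · refine (Category.assoc _ _ _).trans ((congrArg (ξ.i ≫ ·) hψ).trans (ξ.i_f.trans ?_))
      exact (ArtFun.DefSch.baseChange_i_f (ArtFun.DefSch.self _ _ _) _).symm⟩⟩

end Groth.Agent.S12263
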