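import Groth.Statements.S12269
import Groth.Agent.CotTLib.Smooth
import Groth.Agent.ExtShift.Basic

set_option autoImplicit false
universe u
open CategoryTheory
open Deform

namespace Groth.Agent.S12269

theorem isRegularLocalRing_minimal (B : Type u) [CommRing B] [IsReduced B] (q : Ideal B) [q.IsPrime]
    (hq : q ∈ (⊥ : Ideal B).minimalPrimes) : IsRegularLocalRing (Localization.AtPrime q) := by
  let L := Localization.AtPrime q
  have : IsReduced L := inferInstance
  have hbot : IsLocalRing.maximalIdeal L = ⊥ := by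
    refine le_bot_iff.1 fun x hx => ?_
    suffices x ∈ nilradical L by simpa [nilradical_eq_zero L] using this
    rw [nilradical_eq_sInf, Submodule.mem_sInf]
    intro (P' : Ideal L) hP'
    have hP'' : P'.IsPrime := hP'
    have hle : P'.comap (algebraMap B L) ≤ q := by
      refine (Ideal.comap_mono (IsLocalRing.le_maximalIdeal hP''.ne_top)).trans ?_
      exact le_of_eq (IsLocalization.AtPrime.comap_maximalIdeal L q)
    have hge : q ≤ P'.comap (algebraMap B L) := hq.2 ⟨Ideal.IsPrime.comap _, bot_le⟩ hle
    rw [← IsLocalization.map_comap q.primeCompl L P']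
    rw [← Localization.AtPrime.map_eq_maximalIdeal] at hx
    exact Ideal.map_mono hge hx
  letI := ((IsLocalRing.isField_iff_maximalIdeal_eq).2 hbot).toField
  exact (inferInstance : IsRegularLocalRing L)


/-- A homomorphism out of `L₂` to a reduced algebra kills the kernel of `d₂`. -/
theorem apply_eq_zero {k : Type u} [Field k] (B₀ : Type u) [CommRing B₀] [Algebra k B₀] {ι σ : Type u} [Finite ι]
    (P : Algebra.Presentation k B₀ ι σ) [IsReduced B₀] (ψ : CotT.L2 P →ₗ[B₀] B₀) (z : CotT.L2 P)
    (hz : CotT.d2 P z = 0) : ψ z = 0 := by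
  classical
  obtain ⟨q, rfl⟩ := Groth.Agent.CotTLib.cls_surjective P z
  rw [Groth.Agent.CotTLib.d2_cls] at hz
  have hq := Groth.Agent.CotTLib.algebraMap_apply_of_one_tmul_eq_zero P hz
  suffices ψ (Groth.Agent.CotTLib.cls P q) ∈ nilradical B₀ by
    simpa [nilradical_eq_zero B₀] using this
  rw [nilradical_eq_sInf, Submodule.mem_sInf]
  intro (P0 : Ideal B₀) hP0
  have hP0' : P0.IsPrime := hP0
  obtain ⟨q0, hq0, hle0⟩ := Ideal.exists_minimalPrimes_le (I := (⊥ : Ideal B₀)) (J := P0) bot_le
  refine hle0 ?_
  have : q0.IsPrime := hq0.1.1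
  let R := P.toExtension.Ring
  let π : R →+* B₀ := algebraMap R B₀
  let p : Ideal R := q0.comap π
  have hker : RingHom.ker π ≤ p := Ideal.ker_le_comap π
  have hsurj : Function.Surjective π := P.toExtension.algebraMap_surjective
  have hreg : ∀ (q' : Ideal B₀) [q'.IsPrime], q'.comap π = p →
      IsRegularLocalRing (Localization.AtPrime q') := fun q' _ hq' => by
    obtain rfl : q' = q0 := Ideal.comap_injective_of_surjective π hsurj hq'
    exact isRegularLocalRing_minimal B₀ q' hq0
  haveI : Algebra.FiniteType k B₀ :=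
    haveI : Algebra.FiniteType k P.toExtension.Ring := inferInstanceAs (Algebra.FiniteType k (MvPolynomial ι k))
    Algebra.FiniteType.of_surjective (IsScalarTower.toAlgHom k P.toExtension.Ring B₀) hsurj
  obtain ⟨r, y, hy, hspan⟩ := Groth.Agent.CotTLib.locallyRegular_of_le P p hker hreg
  let L := Localization.AtPrime p
  have hj : ∀ a : CotT.relMod P, Groth.Agent.CotTLib.jf (fun s => algebraMap R L (CotT.rel P s))
      (a.mapRange (algebraMap R L) (map_zero _)) = algebraMap _ L (CotT.jmap P a) := fun a => by
    induction a using Finsupp.induction_linear with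
    | zero => simp
    | add a b ha hb => rw [Finsupp.mapRange_add (map_add _), map_add, ha, hb, map_add, map_add]
    | single s r => simp only [Finsupp.mapRange_single, Finsupp.linearCombination_single, CotT.jmap_single, map_mul, smul_eq_mul]; rfl
  have hloc := Groth.Agent.CotTLib.mem_koszul_of_coeff_mem (fun s => algebraMap R L (CotT.rel P s)) y hy hspan
    ((q : CotT.relMod P).mapRange (algebraMap R L) (map_zero _))
    (by rw [hj, show CotT.jmap P (q : CotT.relMod P) = 0 from q.2, map_zero])
    (fun s => by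
      rw [Finsupp.mapRange_apply]
      obtain ⟨a, ha⟩ := Groth.Agent.CotTLib.exists_jmap_eq P (hq s)
      rw [← ha, ← hj]
      exact Finsupp.mem_span_range_iff_exists_finsupp.2 ⟨_, rfl⟩)
  obtain ⟨t, ht, htq⟩ := Groth.Agent.CotTLib.exists_smul_mem_koszul (CotT.rel P) (q : CotT.relMod P) p hloc
  have h0 : π t • ψ (Groth.Agent.CotTLib.cls P q) = 0 := by
    rw [← map_smul, algebraMap_smul, ← map_smul (Groth.Agent.CotTLib.cls P),
      Groth.Agent.CotTLib.cls_eq_zero P (q := t • q) htq, map_zero]
  exact (‹q0.IsPrime›.mem_or_mem (show π t * ψ (Groth.Agent.CotTLib.cls P q) ∈ q0 by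
    rw [← smul_eq_mul, h0]; exact zero_mem _)).resolve_left ht

/-- `Hom(image of d₂, B) = Hom(L₂, B)`. -/
theorem lcomp_bijective {k : Type u} [Field k] (B₀ : Type u) [CommRing B₀] [Algebra k B₀] {ι σ : Type u} [Finite ι]
    (P : Algebra.Presentation k B₀ ι σ) [IsReduced B₀] :
    Function.Bijective (LinearMap.lcomp B₀ B₀ (CotT.d2 P).rangeRestrict) := by
  refine ⟨fun x y e => LinearMap.ext fun c => ?_, fun ψ => ?_⟩
  · obtain ⟨z, hz⟩ := (CotT.d2 P).surjective_rangeRestrict c
    rw [← hz]
    exact LinearMap.congr_fun e z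
  · refine ⟨(LinearMap.ker (CotT.d2 P)).liftQ ψ (fun z hz => apply_eq_zero B₀ P ψ z hz) ∘ₗ
      (CotT.d2 P).quotKerEquivRange.symm.toLinearMap, LinearMap.ext fun z => ?_⟩
    change (LinearMap.ker (CotT.d2 P)).liftQ ψ (fun z hz => apply_eq_zero B₀ P ψ z hz)
      ((CotT.d2 P).quotKerEquivRange.symm ((CotT.d2 P).rangeRestrict z)) = ψ z
    rw [show (CotT.d2 P).quotKerEquivRange.symm ((CotT.d2 P).rangeRestrict z) = Submodule.Quotient.mk z from
      (LinearEquiv.symm_apply_eq _).2 (Subtype.ext rfl)]
    rfl

/-- `Ext¹` from a presentation whose kernel receives a map inducing a bijection on duals. -/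
theorem ext_of_factor {R : Type u} [CommRing R] {K F C L N : Type u} [AddCommGroup K] [Module R K]
    [AddCommGroup F] [Module R F] [AddCommGroup C] [Module R C] [AddCommGroup L] [Module R L]
    [AddCommGroup N] [Module R N] [Module.Projective R F] (f : K →ₗ[R] F) (g : F →ₗ[R] C)
    (hex : Function.Exact f g) (hf : Function.Injective f) (hg : Function.Surjective g)
    (π : L →ₗ[R] K) (d : L →ₗ[R] F) (hd : ∀ z, f (π z) = d z)
    (hρ : Function.Bijective (LinearMap.lcomp R N π)) :
    Nonempty (((L →ₗ[R] N) ⧸ LinearMap.range (LinearMap.lcomp R N d)) ≃ₗ[R]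
      Abelian.Ext (ModuleCat.of R C) (ModuleCat.of R N) 1) := by
  have hmap : (LinearMap.range (LinearMap.lcomp R N f)).map
      (LinearEquiv.ofBijective (LinearMap.lcomp R N π) hρ : (K →ₗ[R] N) →ₗ[R] (L →ₗ[R] N)) =
      LinearMap.range (LinearMap.lcomp R N d) := by
    rw [← LinearMap.range_comp]
    congr 1
    exact LinearMap.ext fun φ => LinearMap.ext fun z => congrArg φ (hd z)
  exact ⟨(Submodule.Quotient.equiv _ _ (LinearEquiv.ofBijective (LinearMap.lcomp R N π) hρ) hmap).symm.trans
    (Groth.Agent.ExtShift.extOneEquiv f g hex hf hg N)⟩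

/-- Let k be an algebraically closed field and B₀ a reduced k-algebra given with a finite presentation P
= k[X_i]/I (finitely many variables and relations); let T² = T²(B₀/k, B₀) be the second cotangent
module computed from P and I/I² the conormal module of the presentation. Then T² and Ext¹_{B₀}(I/I²,
B₀) are isomorphic B₀-modules (existence of a B₀-linear isomorphism; the published one is induced by
the chosen presentation). (The published statement allows the quotient of any smooth k-algebra; this
row takes a polynomial presentation.) -/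
theorem result
    {k : Type u} [Field k] [IsAlgClosed k] (B₀ : Type u) [CommRing B₀] [Algebra k B₀] {ι σ : Type u} [Finite ι] [Finite σ]
    (P : Algebra.Presentation k B₀ ι σ) [IsReduced B₀] :
    Nonempty (CotT.T2 P B₀ ≃ₗ[B₀]
      Abelian.Ext (ModuleCat.of B₀ P.toExtension.Cotangent) (ModuleCat.of B₀ B₀) 1) := by
  classical
  let K := LinearMap.range (CotT.d2 P)
  haveI : Module.Projective B₀ (CotT.L1 P) := Module.Projective.of_basis (CotT.L1basis P)
  have hex : Function.Exact K.subtype (CotT.toCot P) := fun x =>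
    ((Groth.Agent.CotTLib.exact_d2_toCot P x).trans
      ⟨fun ⟨z, hz⟩ => ⟨⟨x, z, hz⟩, rfl⟩, fun ⟨c, hc⟩ => hc ▸ c.2⟩)
  exact ext_of_factor (C := P.toExtension.Cotangent) (K := ↥(LinearMap.range (CotT.d2 P))) (L := CotT.L2 P) (N := B₀) K.subtype (CotT.toCot P) hex Subtype.val_injective
    (Groth.Agent.CotTLib.toCot_surjective P) (CotT.d2 P).rangeRestrict (CotT.d2 P) (fun _ => rfl)
    (lcomp_bijective B₀ P)

end Groth.Agent.S12269
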