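import Groth.Statements.S1227
import Mathlib.Algebra.Module.Projective
import Mathlib.LinearAlgebra.TensorProduct.RightExactness

set_option autoImplicit false
universe u
open FlatMor

namespace Groth.Agent.S1227

open TensorProduct in
/-- Let u be a surjective linear map from a projective A-module M to an A-module N. Then there is an
ideal I of A such that for every A-algebra B, the base change u ⊗ 1 from B ⊗ M to B ⊗ N is bijective
if and only if the image of I in B is zero. -/
theorem result {A : Type u} [CommRing A] {M N : Type u} [AddCommGroup M] [Module A M] [Module.Projective A M]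
    [AddCommGroup N] [Module A N] (u : M →ₗ[A] N) (hu : Function.Surjective u) :
    ∃ I : Ideal A, ∀ (B : Type u) [CommRing B] [Algebra A B],
      Function.Bijective (u.baseChange B) ↔ I.map (algebraMap A B) = ⊥ := by
  classical
  let I : Ideal A := Ideal.span (Set.range fun q : LinearMap.ker u × (M →ₗ[A] A) => q.2 q.1)
  refine ⟨I, fun B _ _ => ?_⟩
  have hex : Function.Exact ((LinearMap.ker u).subtype.baseChange B) (u.baseChange B) :=
    lTensor_exact B (LinearMap.exact_subtype_ker_map u) hu
  have hsurj : Function.Surjective (u.baseChange B) := LinearMap.lTensor_surjective B hu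
  constructor
  · intro hb
    rw [eq_bot_iff, Ideal.map_le_iff_le_comap, Ideal.span_le]
    rintro _ ⟨⟨k, φ⟩, rfl⟩
    have h0 : (1 : B) ⊗ₜ[A] (k : M) = 0 := hb.1 (by simp [LinearMap.mem_ker.mp k.2])
    have := congrArg ((TensorProduct.rid A B).toLinearMap ∘ₗ φ.lTensor B) h0
    simpa [Algebra.smul_def] using this
  · intro hI
    refine ⟨?_, hsurj⟩
    rw [injective_iff_map_eq_zero]
    intro x hx
    obtain ⟨y, rfl⟩ := (hex x).mp hx
    clear hx
    induction y with
    | zero => simp
    | add a b ha hb => rw [map_add, ha, hb, add_zero]
    | tmul b k =>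
      obtain ⟨s, hs⟩ := Module.Projective.out (R := A) (P := M)
      rw [LinearMap.baseChange_tmul, Submodule.subtype_apply, ← hs (k : M),
        Finsupp.linearCombination_apply, Finsupp.sum, TensorProduct.tmul_sum]
      refine Finset.sum_eq_zero fun m _ => ?_
      have hc : algebraMap A B (s k m) = 0 := by
        rw [← Ideal.mem_bot, ← hI]
        exact Ideal.mem_map_of_mem _ (Ideal.subset_span ⟨⟨k, Finsupp.lapply m ∘ₗ s⟩, rfl⟩)
      rw [TensorProduct.tmul_smul, ← IsScalarTower.algebraMap_smul B (s k m), hc, zero_smul]

end Groth.Agent.S1227
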