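import Groth.Statements.S12271
import Groth.Agent.HilbLoc.ObsH1
import Groth.Agent.HilbLoc.ObsDim
import Groth.Agent.HilbLoc.FinDim
import Groth.Agent.ProjProper.Basic
import Groth.Agent.ModShf.GrothAb

set_option autoImplicit false
universe u
open CategoryTheory CategoryTheory.Limits AlgebraicGeometry
attribute [local instance] HasDerivedCategory.standard
open Deform

namespace Groth.Agent.S12271

/-- Let k be an algebraically closed field, Y a separated k-scheme of finite type and i : X → Y a
regular closed immersion over k (its ideal is locally generated by a regular sequence) with X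
projective over k; let N = Hom_{O_X}(I/I², O_X) be the normal sheaf (sheaf Hom of the conormal sheaf
of i, as a right adjoint, assumed to exist). Let R̄ be a complete local Noetherian k-algebra with
residue field k prorepresenting the local Hilbert functor of X in Y (closed subschemes of Y ×_k Spec
A flat over A restricting to X, X ⊆ Y given by the kernel ideal of i), i.e. carrying a universal
family — the formal universal deformation of X in Y. Then dim R̄ ≤ h⁰(X, N); h⁰(X, N) ≤ dim R̄ +
h¹(X, N); and dim R̄ = h⁰(X, N) if and only if X is unobstructed in Y, i.e. the local Hilbert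
functor takes every surjection B → A of local Artinian k-algebras with residue field k to a
surjective map. (The published statement writes the second bound as h⁰(N) − h¹(N) ≤ dim R̄.) -/
theorem result
    {k : Type u} [Field k] [IsAlgClosed k] (Y : Scheme.{u}) (y : Y ⟶ Spec (CommRingCat.of k))
    [LocallyOfFiniteType y] [IsSeparated y] [QuasiCompact y]
    (X : Scheme.{u}) [X.Over (Spec (CommRingCat.of k))] (i : X ⟶ Y) [IsClosedImmersion i] (hi : i ≫ y = X ↘ (Spec (CommRingCat.of k)))
    (hreg : Mor2.IsRegularClosedImmersion i)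
    (hproj : ∃ (n : ℕ) (c : X ⟶ CohB1.ProjSpaceOver n (Spec (CommRingCat.of k))),
      IsClosedImmersion c ∧ c ≫ CohB1.ProjSpaceOver.toBase n (Spec (CommRingCat.of k)) = X ↘ (Spec (CommRingCat.of k)))
    [DCoh.HasSheafHom (Omega.conormal i)]
    (R : ArtFun.ProRep (ArtFun.localHilb Y y i.ker)) :
    ringKrullDim R.ring.carrier ≤ ((Module.finrank k (Coh.HH X ((DCoh.sheafHom (Omega.conormal i)).obj (Coh.structureModule X)) 0) : ℕ∞) : WithBot ℕ∞) ∧
      ((Module.finrank k (Coh.HH X ((DCoh.sheafHom (Omega.conormal i)).obj (Coh.structureModule X)) 0) : ℕ∞) : WithBot ℕ∞) ≤ ringKrullDim R.ring.carrier + ((Module.finrank k (Coh.HH X ((DCoh.sheafHom (Omega.conormal i)).obj (Coh.structureModule X)) 1) : ℕ∞) : WithBot ℕ∞) ∧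
      (ringKrullDim R.ring.carrier = ((Module.finrank k (Coh.HH X ((DCoh.sheafHom (Omega.conormal i)).obj (Coh.structureModule X)) 0) : ℕ∞) : WithBot ℕ∞) ↔ ArtFun.IsSmoothFunctor (ArtFun.localHilb Y y i.ker)) := by
  open Groth.Agent in
  haveI : EnoughInjectives X.Modules := ModShf.schemeModulesEnoughInjectives _
  haveI : HasExt.{u} X.Modules := hasExt_of_enoughInjectives.{u} _
  obtain ⟨n, c, hc, hcx⟩ := hproj
  haveI := ProjProper.Basic.isProper_toBase n (Spec (CommRingCat.of k))
  haveI : IsProper (X ↘ Spec (CommRingCat.of k)) := by rw [← hcx]; infer_instance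
  have hloc := HilbLoc.locH1_of_isRegularClosedImmersion i hreg
  haveI := HilbLoc.finite_H1 (k := k) i hloc 1
  obtain ⟨T⟩ := HilbLoc.hasObsTheory_H1 (x := y) i hi.symm hloc
  let η := ArtFunLib.NatFam.ofFamily R.family
  have hm := ArtFun.CRing.mem_maximalIdeal_iff R.ring
  obtain ⟨h1, h2, -⟩ := HilbLoc.ObsDim.bounds R.ring.res hm η R.universal T
  -- the tangent space
  have hH0 := HilbLoc.h0_localHilb y i.ker
  have heps : ArtFun.Heps (ArtFun.localHilb Y y i.ker) := fun _ _ _ _ h =>
    HilbLoc.cmp_bijective_localHilb h fun c => (ArtFun.Art.dual k k).res_surjective c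
  obtain ⟨TF⟩ := ArtFunLib.nonempty_tangentStr (ArtFun.localHilb Y y i.ker) hH0 heps
  letI := TF
  have h0R : ArtFun.H0 (ArtFun.hR R.ring.carrier R.ring.res) := ArtFunLib.h0_hR _ _
  have hepsR : ArtFun.Heps (ArtFun.hR R.ring.carrier R.ring.res) := fun _ _ _ _ h => ArtFunLib.isLeftExact_hR _ _ _ _ _ _ h
  obtain ⟨TR⟩ := ArtFunLib.nonempty_tangentStr (ArtFun.hR R.ring.carrier R.ring.res) h0R hepsR
  letI := TR
  obtain ⟨l, hl⟩ := ArtFunLib.exists_tangentLinear h0R hepsR η
  have hlb : Function.Bijective l := by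
    rw [show (l : _ → _) = η.app (ArtFun.Art.dual k k) from funext hl]
    exact R.universal _
  obtain ⟨e⟩ := HilbLoc.nonempty_tangent_linearEquiv i hi.symm (I₀ := i.ker) rfl
  have hcot := (HilbLoc.ModuliDim.finrank_tangentSpace_hR R.ring.res hm).symm.trans
    ((LinearEquiv.ofBijective l hlb).trans e).finrank_eq
  rw [hcot] at h1 h2
  refine ⟨h1, h2, fun hd => ?_, fun hsm => ?_⟩
  · have hs := HilbLoc.ObsDim.smooth_of_dim_eq R.ring (hd.trans (by rw [hcot]; rfl))
    intro B A μ hμ v
    obtain ⟨φ, rfl⟩ := (R.universal A).2 v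
    obtain ⟨ψ, rfl⟩ := hs μ hμ φ
    exact ⟨R.family.app B ψ, (R.family.natural μ ψ).symm⟩
  · have hs : ArtFun.IsSmoothFunctor (ArtFun.hR R.ring.carrier R.ring.res) := fun B A μ hμ φ => by
      obtain ⟨v, hv⟩ := hsm μ hμ (R.family.app A φ)
      obtain ⟨ψ, rfl⟩ := (R.universal B).2 v
      exact ⟨ψ, (R.universal A).1 ((R.family.natural μ ψ).trans hv)⟩
    obtain ⟨-, hdim⟩ := HilbLoc.ModuliDim.regular_of_smooth R.ring.res hm hs
    rw [hdim, hcot]
    rfl

end Groth.Agent.S12271
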