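import Groth.Statements.S12279
import Groth.Agent.Helper63.ArtLift
import Groth.Agent.PerfTri.Betti
import Groth.Agent.KFlat.Hom
import Groth.Agent.KFlat.LocFree

set_option autoImplicit false
universe u
open CategoryTheory CategoryTheory.Limits AlgebraicGeometry
open scoped TensorProduct
attribute [local instance] HasDerivedCategory.standard
open DefT

namespace Groth.Agent.S12279

open Groth.Agent Groth.Agent.Helper63 AlgebraicGeometry IsLocalRing

/-- The closed fibre of a deformation. -/
theorem exists_iso_cfib_defSch {k : Type u} [Field k] {X₀ : Scheme.{u}} {x : X₀ ⟶ Spec (CommRingCat.of k)}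
    {A : ArtFun.Art k k} (ξ : ArtFun.DefSch X₀ x A) :
    ∃ e : letI : ξ.total.Over (Spec (CommRingCat.of A)) := ⟨ξ.f⟩
      X₀ ≅ FormalFun.cfib (A : Type u) ξ.total,
      letI : ξ.total.Over (Spec (CommRingCat.of A)) := ⟨ξ.f⟩
      e.hom ≫ FormalFun.cι (A : Type u) ξ.total = ξ.i := by
  letI : ξ.total.Over (Spec (CommRingCat.of A)) := ⟨ξ.f⟩
  let s : Spec (CommRingCat.of k) := closedPoint k
  haveI hci : IsClosedImmersion (ArtFun.Art.specRes A) :=
    IsClosedImmersion.spec_of_surjective _ A.res_surjective
  haveI : IsLocalHom A.res.toRingHom := IsLocalHom.of_surjective _ A.res_surjective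
  have hs : ArtFun.Art.specRes A s = closedPoint A := IsLocalRing.comap_closedPoint A.res.toRingHom
  obtain ⟨e, he⟩ := FormalFun.exists_fiber_iso_fst ξ.isPullback s (closedPoint A) hs
  haveI : IsIso (x.fiberι s) := by
    haveI : AlgebraicGeometry.IsReduced (Spec (CommRingCat.of k)) := inferInstance
    haveI : AlgebraicGeometry.Surjective ((Spec (CommRingCat.of k)).fromSpecResidueField s) :=
      ⟨fun t => ⟨Classical.arbitrary _, Subsingleton.elim _ _⟩⟩
    haveI : IsClosedImmersion ((Spec (CommRingCat.of k)).fromSpecResidueField s) :=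
      IsClosedImmersion.of_isPreimmersion _ (by
        rw [Scheme.range_fromSpecResidueField]; exact (isClosed_discrete _))
    haveI : IsIso ((Spec (CommRingCat.of k)).fromSpecResidueField s) :=
      isIso_of_isClosedImmersion_of_surjective _
    exact inferInstanceAs (IsIso (pullback.fst _ _))
  refine ⟨(asIso (x.fiberι s)).symm ≪≫ e, ?_⟩
  rw [Iso.trans_hom, Iso.symm_hom, asIso_inv, Category.assoc]
  exact (IsIso.inv_comp_eq _).2 he

section Fib

variable {A : Type u} [CommRing A] [IsLocalRing A] {Y Z : Scheme.{u}} [Y.Over (Spec (CommRingCat.of A))]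
  {i : Z ⟶ Y} (e : Z ≅ FormalFun.cfib A Y) (he : e.hom ≫ FormalFun.cι A Y = i)

include he in
/-- Transport of isomorphisms to the closed fibre. -/
theorem cfibIso {M N : Y.Modules} (a : (Scheme.Modules.pullback i).obj M ≅ (Scheme.Modules.pullback i).obj N) :
    Nonempty ((Scheme.Modules.pullback (FormalFun.cι A Y)).obj M ≅
      (Scheme.Modules.pullback (FormalFun.cι A Y)).obj N) := by
  have h : e.inv ≫ i = FormalFun.cι A Y := by rw [← he, Iso.inv_hom_id_assoc]
  let c := fun M => (Scheme.Modules.pullbackCongr h).symm.app M ≪≫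
    ((Scheme.Modules.pullbackComp e.inv i).app M).symm
  exact ⟨c M ≪≫ (Scheme.Modules.pullback e.inv).mapIso a ≪≫ (c N).symm⟩

include he in
theorem subsingleton_fib [IsClosedImmersion i] {F G : Y.Modules} (hF : FlatMod.IsFinLocFree F)
    [DCoh.HasSheafHom F] [G.IsQuasicoherent] {E : Z.Modules} [DCoh.HasSheafHom E]
    (a : (Scheme.Modules.pullback i).obj F ≅ E) (b : (Scheme.Modules.pullback i).obj G ≅ E)
    (h1 : Subsingleton (Coh.HH Z ((DCoh.sheafHom E).obj E) 1)) :
    Subsingleton (Coh.HH Y ((DCoh.sheafHom F).obj ((Scheme.Modules.pushforward (FormalFun.cι A Y)).obj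
      ((Scheme.Modules.pullback (FormalFun.cι A Y)).obj G))) 1) := by
  let c := FormalFun.cι A Y
  let P := (Scheme.Modules.pullback c).obj G
  haveI : IsIso ((Scheme.Modules.pullbackPushforwardAdjunction e.hom).unit.app P) := by
    refine (ClUnit.isIso_unit_iff_stalk e.hom P).2 ⟨fun z r hr t => ?_, fun y hy => (hy ⟨e.inv y, ?_⟩).elim⟩
    · rw [show r = 0 from (ConcreteCategory.bijective_of_isIso (e.hom.stalkMap z)).1 (hr.trans (map_zero _).symm), zero_smul]
    · exact congr($(e.inv_hom_id).base y)
  let s : (Scheme.Modules.pushforward c).obj P ≅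
      (Scheme.Modules.pushforward i).obj ((Scheme.Modules.pullback i).obj G) :=
    (Scheme.Modules.pushforward c).mapIso (asIso ((Scheme.Modules.pullbackPushforwardAdjunction e.hom).unit.app P)) ≪≫
      (Scheme.Modules.pushforwardComp e.hom c).app ((Scheme.Modules.pullback e.hom).obj P) ≪≫
      (Scheme.Modules.pushforwardCongr he).app ((Scheme.Modules.pullback e.hom).obj P) ≪≫
      (Scheme.Modules.pushforward i).mapIso ((Scheme.Modules.pullbackComp e.hom c).app G ≪≫
        (Scheme.Modules.pullbackCongr he).app G)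
  haveI := KFlat.hasSheafHom_scheme ((Scheme.Modules.pullback i).obj F)
  obtain ⟨η⟩ := FormalFun.nonempty_homPushIso i F
  refine FormalFun.subsingleton_HH_iso (((DCoh.sheafHom F).mapIso s).trans
    (η.app ((Scheme.Modules.pullback i).obj G))).symm 1 ?_
  haveI : Coh.IsQCoh ((DCoh.sheafHom ((Scheme.Modules.pullback i).obj F)).obj
      ((Scheme.Modules.pullback i).obj G)) := by
    haveI : ((Scheme.Modules.pullback i).obj G).IsQuasicoherent := QCoh.isQuasicoherent_pullback _ _
    exact ArtLift.isQuasicoherent_sheafHom (KFlat.LocFree.isFinLocFree_pull i hF)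
  refine FormalFun.subsingleton_HH_push i _ 1 ?_
  obtain ⟨θ⟩ := FormalFun.nonempty_sheafHomIso a
  exact FormalFun.subsingleton_HH_iso (θ.app _ ≪≫ (DCoh.sheafHom E).mapIso b).symm 1 h1

end Fib

/-- Let k be a field and X₀ a k-scheme; let C' → C be a surjection of local Artinian k-algebras with
residue field k whose kernel J is annihilated by the maximal ideal of C', X' a deformation of X₀
over C' (a scheme flat over Spec C' with a morphism from X₀ identifying X₀ with the closed fibre)
and X = X' ×_{Spec C'} Spec C its base change. Let F be a finite locally free O_X-module, F₀ its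
restriction to X₀ and End F₀ = Hom_{O_{X₀}}(F₀, F₀) its sheaf of endomorphisms (the sheaf Hom,
assumed to exist as the right adjoint of tensoring with F₀). If H^1(X₀, End F₀) = 0, then any two
finite locally free O_{X'}-modules F' and F'' whose restrictions to X are both isomorphic to F are
isomorphic. (The published statement says that the set of extensions of F over X', when non-empty,
is a torsor under H^1(X₀, End F₀ ⊗ J), for deformations over arbitrary local Artin rings; this row
states the consequence when H^1(X₀, End F₀) = 0, over local Artinian k-algebras, and compares the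
extensions only as O_{X'}-modules.) -/
theorem result
    {k : Type u} [Field k] (X₀ : Scheme.{u}) (x : X₀ ⟶ Spec (CommRingCat.of k))
    {C' C : ArtFun.Art k k} (p : C' ⟶ C) (hp : ArtFun.Art.IsSemismallExt p)
    (X' : ArtFun.DefSch X₀ x C')
    (F : (X'.baseChange p).total.Modules) (hF : FlatMod.IsFinLocFree F)
    [DCoh.HasSheafHom ((Scheme.Modules.pullback (X'.baseChange p).i).obj F)]
    (h1 : Subsingleton (Coh.HH X₀ ((DCoh.sheafHom ((Scheme.Modules.pullback (X'.baseChange p).i).obj F)).obj
        ((Scheme.Modules.pullback (X'.baseChange p).i).obj F)) 1))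
    (F' F'' : X'.total.Modules) (hF' : FlatMod.IsFinLocFree F') (hF'' : FlatMod.IsFinLocFree F'')
    (e' : Nonempty ((Scheme.Modules.pullback (pullback.fst X'.f (ArtFun.Art.specMap p))).obj F' ≅ F))
    (e'' : Nonempty ((Scheme.Modules.pullback (pullback.fst X'.f (ArtFun.Art.specMap p))).obj F'' ≅ F)) :
    Nonempty (F' ≅ F'') := by
  letI : X'.total.Over (Spec (CommRingCat.of C')) := ⟨X'.f⟩
  haveI : Flat (X'.total ↘ Spec (CommRingCat.of C')) := X'.flat
  obtain ⟨N, hN⟩ : IsNilpotent (IsLocalRing.maximalIdeal C') := by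
    rw [← IsLocalRing.jacobson_eq_maximalIdeal ⊥ bot_ne_top]
    exact IsArtinianRing.isNilpotent_jacobson_bot
  have hi := (pullback.lift_fst _ _ _ : (X'.baseChange p).i ≫ pullback.fst X'.f (ArtFun.Art.specMap p) = X'.i)
  obtain ⟨e, he⟩ := exists_iso_cfib_defSch X'
  haveI : IsClosedImmersion X'.i := by
    haveI := FormalFun.isClosedImmersion_cι (C' : Type u) X'.total
    rw [← he]; infer_instance
  haveI := PerfTri.Betti.isQuasicoherent_of_isFinLocFree hF'
  haveI := PerfTri.Betti.isQuasicoherent_of_isFinLocFree hF''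
  haveI := KFlat.hasSheafHom_scheme F'
  haveI := KFlat.hasSheafHom_scheme F''
  obtain ⟨e'⟩ := e'
  obtain ⟨e''⟩ := e''
  let res : ∀ {M : X'.total.Modules},
      ((Scheme.Modules.pullback (pullback.fst X'.f (ArtFun.Art.specMap p))).obj M ≅ F) →
      ((Scheme.Modules.pullback X'.i).obj M ≅ (Scheme.Modules.pullback (X'.baseChange p).i).obj F) :=
    fun {M} t => ((Scheme.Modules.pullbackCongr hi).app M).symm ≪≫
      ((Scheme.Modules.pullbackComp (X'.baseChange p).i
        (pullback.fst X'.f (ArtFun.Art.specMap p))).app M).symm ≪≫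
      (Scheme.Modules.pullback (X'.baseChange p).i).mapIso t
  let a' := res e'
  let a'' := res e''
  refine ArtLift.nonempty_iso (C' : Type u) X'.total N hN F' F'' hF' hF''
    (subsingleton_fib e he hF' a' a'' h1) (subsingleton_fib e he hF'' a'' a' h1) ?_
  exact (cfibIso e he (a' ≪≫ a''.symm)).some

end Groth.Agent.S12279
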