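import Groth.Statements.S1228
import Groth.Agent.S1219
-- import your own Groth.Agent.* helpers here

set_option autoImplicit false
universe u
open FlatMor

namespace Groth.Agent.S1228

open TensorProduct

/-- For a projective module, an element dies after base change iff its coordinates do. -/
theorem tmul_eq_zero_iff {A N : Type u} [CommRing A] [AddCommGroup N] [Module A N] (s : N →ₗ[A] N →₀ A)
    (hs : Function.LeftInverse (Finsupp.linearCombination A id) s) (A' : Type u) [CommRing A'] [Algebra A A'] (x : N) :
    (1 : A') ⊗ₜ[A] x = 0 ↔ ∀ n, algebraMap A A' (s x n) = 0 := by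
  constructor
  · intro h n
    have := congrArg ((TensorProduct.rid A A').toLinearMap ∘ₗ ((Finsupp.lapply n).comp s).lTensor A') h
    simp only [map_zero, LinearMap.comp_apply, LinearMap.lTensor_tmul, LinearEquiv.coe_coe, TensorProduct.rid_tmul,
      Finsupp.lapply_apply] at this
    rwa [Algebra.algebraMap_eq_smul_one]
  · intro h
    rw [← hs x, Finsupp.linearCombination_apply, Finsupp.sum, TensorProduct.tmul_sum]
    refine Finset.sum_eq_zero fun n _ => ?_
    rw [← TensorProduct.smul_tmul, ← Algebra.algebraMap_eq_smul_one, h n, TensorProduct.zero_tmul]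

open TensorProduct in
/-- Ring form, S = Spec A and X = Spec B affine, test schemes affine: let B be a finitely presented
A-algebra, N a finitely presented B-module which is flat over A and pure relative to Spec A, and u a
surjective B-linear map from N to a B-module N'. Then the functor 'u becomes an isomorphism after
base change' is represented by a closed subscheme of Spec A: there is an ideal I of A such that for
every A-algebra A' the base change A' ⊗_A N → A' ⊗_A N' is bijective if and only if IA' = 0. If N'
is finitely presented then I is finitely generated. -/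
theorem result {A B : Type u} [CommRing A] [CommRing B] [Algebra A B] [Algebra.FinitePresentation A B]
    (N : Type u) [AddCommGroup N] [Module B N] [Module A N] [IsScalarTower A B N] [Module.FinitePresentation B N] [Module.Flat A N]
    (hpure : FlatCA.IsPure A B N)
    (N' : Type u) [AddCommGroup N'] [Module B N'] [Module A N'] [IsScalarTower A B N'] (u : N →ₗ[B] N') (hu : Function.Surjective u) :
    ∃ I : Ideal A, (∀ (A' : Type u) [CommRing A'] [Algebra A A'],
        Function.Bijective ((u.restrictScalars A).baseChange A') ↔ I.map (algebraMap A A') = ⊥) ∧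
      (Module.FinitePresentation B N' → I.FG) := by
  classical
  haveI : Module.Projective A N := (S1219.result (A := A) (B := B) N).mpr hpure
  obtain ⟨s, hs⟩ := (inferInstance : Module.Projective A N).out
  let K := LinearMap.ker u
  let I : Ideal A := Ideal.span {a | ∃ k ∈ K, ∃ n, s k n = a}
  refine ⟨I, fun A' _ _ => ?_, fun hfp => ?_⟩
  · have hsurj : Function.Surjective ((u.restrictScalars A).baseChange A') :=
      LinearMap.lTensor_surjective A' (g := u.restrictScalars A) hu
    constructor
    · intro hb
      rw [Ideal.map_span, Ideal.span_eq_bot]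
      rintro _ ⟨a, ⟨k, hk, n, rfl⟩, rfl⟩
      refine (tmul_eq_zero_iff s hs A' k).mp (hb.1 ?_) n
      rw [map_zero, LinearMap.baseChange_tmul, LinearMap.restrictScalars_apply, LinearMap.mem_ker.mp hk,
        TensorProduct.tmul_zero]
    · intro hI
      refine ⟨?_, hsurj⟩
      rw [injective_iff_map_eq_zero]
      intro x hx
      obtain ⟨y, rfl⟩ := ((lTensor_exact A' (f := (LinearMap.ker (u.restrictScalars A)).subtype)
        (LinearMap.exact_subtype_ker_map (u.restrictScalars A)) hu) x).mp hx
      induction y using TensorProduct.induction_on with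
      | zero => rw [map_zero]
      | tmul a k =>
        have h0 : (1 : A') ⊗ₜ[A] (k : N) = 0 := (tmul_eq_zero_iff s hs A' _).mpr fun n => by
          rw [← Ideal.mem_bot, ← hI]
          exact Ideal.mem_map_of_mem _ (Ideal.subset_span ⟨k, k.2, n, rfl⟩)
        rw [LinearMap.lTensor_tmul, Submodule.subtype_apply, show a ⊗ₜ[A] (k : N) = a • ((1 : A') ⊗ₜ[A] (k : N)) by
          rw [TensorProduct.smul_tmul', smul_eq_mul, mul_one], h0, smul_zero]
      | add y z hy hz =>
        have h2 : ∀ w, (u.restrictScalars A).baseChange A'
            ((LinearMap.ker (u.restrictScalars A)).subtype.lTensor A' w) = 0 := fun w => by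
          show (u.restrictScalars A).lTensor A' _ = 0
          rw [← LinearMap.lTensor_comp_apply, LinearMap.comp_ker_subtype, LinearMap.lTensor_zero, LinearMap.zero_apply]
        rw [map_add, hy (h2 y), hz (h2 z), add_zero]
  · haveI := hfp
    obtain ⟨G, hG⟩ := Module.FinitePresentation.fg_ker u hu
    let J : Ideal A := Ideal.span ↑(G.biUnion fun k => (s k).support.image (s k))
    have hJ : ∀ k ∈ K, (1 : A ⧸ J) ⊗ₜ[A] k = 0 := by
      intro k hk
      change k ∈ LinearMap.ker u at hk
      rw [← hG] at hk
      induction hk using Submodule.span_induction with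
      | mem g hg =>
        refine (tmul_eq_zero_iff s hs _ g).mpr fun n => Ideal.Quotient.eq_zero_iff_mem.mpr ?_
        by_cases hn : s g n = 0
        · rw [hn]
          exact zero_mem _
        · exact Ideal.subset_span (Finset.mem_biUnion.mpr
            ⟨g, hg, Finset.mem_image.mpr ⟨n, Finsupp.mem_support_iff.mpr hn, rfl⟩⟩)
      | zero => rw [TensorProduct.tmul_zero]
      | add a b _ _ ha hb => rw [TensorProduct.tmul_add, ha, hb, add_zero]
      | smul b a _ ha =>
        have := congrArg ((DistribSMul.toLinearMap A N b).lTensor (A ⧸ J)) ha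
        rwa [map_zero, LinearMap.lTensor_tmul] at this
    refine ⟨G.biUnion fun k => (s k).support.image (s k), le_antisymm ?_ ?_⟩
    · refine Ideal.span_le.mpr fun a ha => ?_
      obtain ⟨g, hg, hn⟩ := Finset.mem_biUnion.mp ha
      obtain ⟨n, -, rfl⟩ := Finset.mem_image.mp hn
      exact Ideal.subset_span ⟨g, (Submodule.span_le.mp hG.le) hg, n, rfl⟩
    · refine Ideal.span_le.mpr ?_
      rintro _ ⟨k, hk, n, rfl⟩
      exact Ideal.Quotient.eq_zero_iff_mem.mp ((tmul_eq_zero_iff s hs _ k).mp (hJ k hk) n)

end Groth.Agent.S1228
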