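import Groth.Statements.S12285
import Groth.Agent.CotTLib.Nine

set_option autoImplicit false
universe u w m
open scoped TensorProduct
open DefT

namespace Groth.Agent.S12285

lemma exact_conj {X Y Y' Z : Type*} [Zero Z] {f : X → Y} {g : Y → Z} {e : Y → Y'} {f' : X → Y'}
    {g' : Y' → Z} (he : Function.Bijective e) (hf : ∀ x, f' x = e (f x)) (hg : ∀ y, g y = g' (e y))
    (h : Function.Exact f g) : Function.Exact f' g' := fun y' => by
  obtain ⟨y, rfl⟩ := he.2 y'
  rw [← hg]
  exact (h y).trans ⟨fun ⟨x, hx⟩ => ⟨x, by rw [hf, hx]⟩, fun ⟨x, hx⟩ => ⟨x, he.1 (by rw [← hf, hx])⟩⟩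

lemma exact_left {X X' Y Z : Type*} [Zero Z] {g : X → Y} {g' : X' → Y} {e : X → X'} {δ : Y → Z}
    (he : Function.Bijective e) (hg : ∀ y, g y = g' (e y)) (h : Function.Exact g δ) : Function.Exact g' δ :=
  fun y => (h y).trans ⟨fun ⟨x, hx⟩ => ⟨e x, by rw [← hg, hx]⟩, fun ⟨x', hx⟩ => by
    obtain ⟨x, rfl⟩ := he.2 x'
    exact ⟨x, by rw [hg, hx]⟩⟩

lemma exact_right {X Y Z Z' : Type*} [Zero Z] [Zero Z'] {δ : X → Y} {f : Y → Z} {f' : Y → Z'} {e : Z → Z'}
    (h0 : e 0 = 0) (he : Function.Bijective e) (hf : ∀ x, f' x = e (f x)) (h : Function.Exact δ f) :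
    Function.Exact δ f' :=
  fun y => ⟨fun hy => (h y).1 (he.1 (by rw [← hf, hy, h0])), fun hy => by rw [hf, (h y).2 hy, h0]⟩


/-- Let A → B → C be ring homomorphisms and M a C-module. Compute T^i(C/B, M), T^i(C/A, M) and T^i(B/A,
M) from the choice-free presentations (every element a variable, every kernel element a relation),
and let T^i(C/B, M) → T^i(C/A, M) and T^i(C/A, M) → T^i(B/A, M) be the maps induced by the morphisms
of presentations given by A → B over the identity of C and by B → C over the identity of A. Then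
T^0(C/B, M) → T^0(C/A, M) is injective, the sequences T^i(C/B, M) → T^i(C/A, M) → T^i(B/A, M) are
exact for i = 0, 1, 2, and there are additive connecting maps δ₀ : T^0(B/A, M) → T^1(C/B, M) and δ₁
: T^1(B/A, M) → T^2(C/B, M) making the nine-term sequence 0 → T^0(C/B) → T^0(C/A) → T^0(B/A) →
T^1(C/B) → T^1(C/A) → T^1(B/A) → T^2(C/B) → T^2(C/A) → T^2(B/A) exact. (The connecting maps are
asserted to exist with this exactness only, and only as additive maps; the published statement is an
exact sequence of C-modules, with C-linear connecting maps.) -/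
theorem result
    (A B C : Type u) [CommRing A] [CommRing B] [CommRing C] [Algebra A B] [Algebra B C] [Algebra A C]
    [IsScalarTower A B C] (M : Type u) [AddCommGroup M] [Module C M] [Module B M] [IsScalarTower B C M] :
    Function.Injective ((CotT.canonHom A C B C).T0pull M) ∧
    Function.Exact ((CotT.canonHom A C B C).T0pull M) ((CotT.canonHom A B A C).T0pull M) ∧
    Function.Exact ((CotT.canonHom A C B C).T1pull M) ((CotT.canonHom A B A C).T1pull M) ∧
    Function.Exact ((CotT.canonHom A C B C).T2pull M) ((CotT.canonHom A B A C).T2pull M) ∧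
    ∃ (δ₀ : CotT.T0 (CotT.canon A B) M →+ CotT.T1 (CotT.canon B C) M)
      (δ₁ : CotT.T1 (CotT.canon A B) M →+ CotT.T2 (CotT.canon B C) M),
      Function.Exact ((CotT.canonHom A B A C).T0pull M) δ₀ ∧ Function.Exact δ₀ ((CotT.canonHom A C B C).T1pull M) ∧
      Function.Exact ((CotT.canonHom A B A C).T1pull M) δ₁ ∧ Function.Exact δ₁ ((CotT.canonHom A C B C).T2pull M) := by
  let P := CotT.canon A B
  let P' := CotT.canon B C
  let e := Groth.Agent.CotTLib.someHom (CotT.canon A C) (Groth.Agent.CotTLib.compP P P')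
  let o := Groth.Agent.CotTLib.outHom P P'
  let i := Groth.Agent.CotTLib.inHom P P'
  have bc0 := Groth.Agent.CotTLib.T0pull_bijective M e
  have bc1 := Groth.Agent.CotTLib.T1pull_bijective M e
  have bc2 := Groth.Agent.CotTLib.T2pull_bijective M e
  have o0 : ∀ x, (CotT.canonHom A C B C).T0pull M x = e.T0pull M (o.T0pull M x) := fun x => by
    rw [← Groth.Agent.CotTLib.T0pull_compHom o e, Groth.Agent.CotTLib.T0pull_eq (Groth.Agent.CotTLib.compHom o e) (CotT.canonHom A C B C) M]
  have o1 : ∀ x, (CotT.canonHom A C B C).T1pull M x = e.T1pull M (o.T1pull M x) := fun x => by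
    rw [← Groth.Agent.CotTLib.T1pull_compHom o e, Groth.Agent.CotTLib.T1pull_eq (Groth.Agent.CotTLib.compHom o e) (CotT.canonHom A C B C) M]
  have o2 : ∀ x, (CotT.canonHom A C B C).T2pull M x = e.T2pull M (o.T2pull M x) := fun x => by
    rw [← Groth.Agent.CotTLib.T2pull_compHom o e, Groth.Agent.CotTLib.T2pull_eq (Groth.Agent.CotTLib.compHom o e) (CotT.canonHom A C B C) M]
  have i0 : ∀ y, i.T0pull M y = (CotT.canonHom A B A C).T0pull M (e.T0pull M y) := fun y => by
    rw [← Groth.Agent.CotTLib.T0pull_compHom e (CotT.canonHom A B A C), Groth.Agent.CotTLib.T0pull_eq (Groth.Agent.CotTLib.compHom e (CotT.canonHom A B A C)) i M]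
  have i1 : ∀ y, i.T1pull M y = (CotT.canonHom A B A C).T1pull M (e.T1pull M y) := fun y => by
    rw [← Groth.Agent.CotTLib.T1pull_compHom e (CotT.canonHom A B A C), Groth.Agent.CotTLib.T1pull_eq (Groth.Agent.CotTLib.compHom e (CotT.canonHom A B A C)) i M]
  have i2 : ∀ y, i.T2pull M y = (CotT.canonHom A B A C).T2pull M (e.T2pull M y) := fun y => by
    rw [← Groth.Agent.CotTLib.T2pull_compHom e (CotT.canonHom A B A C), Groth.Agent.CotTLib.T2pull_eq (Groth.Agent.CotTLib.compHom e (CotT.canonHom A B A C)) i M]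
  obtain ⟨hi, h0, h1, h2, δ₀, δ₁, a, b, c, d⟩ := Groth.Agent.CotTLib.nine_comp P P' M
  exact ⟨fun x y h => hi (bc0.1 (by rw [← o0, ← o0, h])),
    exact_conj bc0 o0 i0 h0, exact_conj bc1 o1 i1 h1, exact_conj bc2 o2 i2 h2, δ₀, δ₁,
    exact_left bc0 i0 a, exact_right (map_zero _) bc1 o1 b,
    exact_left bc1 i1 c, exact_right (map_zero _) bc2 o2 d⟩

end Groth.Agent.S12285
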