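import Groth.Statements.S12286

set_option autoImplicit false
universe u w m
open scoped TensorProduct
open DefT

namespace Groth.Agent.S12286

open TensorProduct

/-- Let A → B be a ring homomorphism, P a presentation of B over A and M a B-module. The canonical
B-linear map from the A-derivations Der_A(B, M) = Hom_B(Ω_{B/A}, M) to T^0(B/A, M) (the kernel of
Hom_B(L₀, M) → Hom_B(L₁, M), L₀ = B ⊗_R Ω_{R/A}), sending a derivation D to b ⊗ dr ↦ b·D(r̄), is
bijective. -/
theorem result
    (A B : Type u) [CommRing A] [CommRing B] [Algebra A B] (ι σ : Type w) (P : Algebra.Presentation A B ι σ)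
    (M : Type m) [AddCommGroup M] [Module B M] [Module A M] [IsScalarTower A B M] :
    Function.Bijective (CotT.derToT0 P M) := by
  have hsurj := P.toExtension.algebraMap_surjective
  constructor
  · intro D D' h
    refine Derivation.ext fun b => ?_
    obtain ⟨r, rfl⟩ := hsurj b
    have := congrArg (fun f : CotT.T0 P M => (f : CotT.L0 P →ₗ[B] M) ((1 : B) ⊗ₜ KaehlerDifferential.D A P.toExtension.Ring r)) h
    simpa using this
  · intro φ
    let F : P.toExtension.Ring → M := fun r => (φ : CotT.L0 P →ₗ[B] M) ((1 : B) ⊗ₜ KaehlerDifferential.D A P.toExtension.Ring r)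
    have Fadd : ∀ r r', F (r + r') = F r + F r' := fun r r' => by
      simp only [F, map_add, TensorProduct.tmul_add]
    have Fsub : ∀ r r', F (r - r') = F r - F r' := fun r r' => by
      simp only [F, map_sub, TensorProduct.tmul_sub]
    have Fmul : ∀ r r', F (r * r') = algebraMap _ B r • F r' + algebraMap _ B r' • F r := fun r r' => by
      have h1 : ∀ (t : P.toExtension.Ring) (x : Ω[P.toExtension.Ring⁄A]),
          (φ : CotT.L0 P →ₗ[B] M) ((1 : B) ⊗ₜ (t • x)) = algebraMap _ B t • (φ : CotT.L0 P →ₗ[B] M) ((1 : B) ⊗ₜ x) :=
        fun t x => by rw [← LinearMap.map_smul, TensorProduct.tmul_smul, algebraMap_smul]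
      simp only [F, Derivation.leibniz, TensorProduct.tmul_add, map_add, h1]
    have Fconst : ∀ a : A, F (algebraMap A _ a) = 0 := fun a => by
      simp only [F, Derivation.map_algebraMap, TensorProduct.tmul_zero, map_zero]
    have F0 : ∀ r, algebraMap P.toExtension.Ring B r = 0 → F r = 0 := fun r hr => by
      have : r ∈ LinearMap.range (CotT.jmap P) := by rw [CotT.range_jmap]; exact hr
      obtain ⟨f, rfl⟩ := this
      have h := LinearMap.congr_fun (LinearMap.mem_ker.1 φ.2) ((1 : B) ⊗ₜ f)
      rw [CotT.d1Star_apply, LinearMap.comp_apply, CotT.d1_tmul, one_smul, LinearMap.zero_apply] at h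
      exact h
    have Feq : ∀ r r', algebraMap P.toExtension.Ring B r = algebraMap _ B r' → F r = F r' := fun r r' h =>
      sub_eq_zero.1 (by rw [← Fsub]; exact F0 _ (by rw [map_sub, h, sub_self]))
    let s := Function.surjInv hsurj
    have hs : ∀ b, algebraMap P.toExtension.Ring B (s b) = b := Function.surjInv_eq hsurj
    let D : Derivation A B M := Derivation.mk'
      { toFun := fun b => F (s b)
        map_add' := fun b c => by rw [← Fadd]; exact Feq _ _ (by simp only [map_add, hs])
        map_smul' := fun a b => by
          rw [Feq (s (a • b)) (algebraMap A _ a * s b) (by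
            rw [map_mul, hs, hs, ← IsScalarTower.algebraMap_apply, Algebra.smul_def]), Fmul, Fconst, smul_zero, add_zero,
            ← IsScalarTower.algebraMap_apply, algebraMap_smul]
          rfl }
      (fun b c => by
        change F (s (b * c)) = b • F (s c) + c • F (s b)
        rw [Feq (s (b * c)) (s b * s c) (by simp only [map_mul, hs]), Fmul, hs, hs])
    refine ⟨D, Subtype.ext ((P.cotangentSpaceBasis).ext fun i => ?_)⟩
    rw [CotT.derToT0_apply, CotT.derLift_basis, Algebra.Generators.cotangentSpaceBasis_apply]
    refine (Feq (s (P.val i)) (MvPolynomial.X i) ?_).trans rfl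
    rw [hs, CotT.algebraMap_toExtension, MvPolynomial.aeval_X]

end Groth.Agent.S12286
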