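import Groth.Statements.S12287
import Groth.Agent.CotTLib.Functor

set_option autoImplicit false
universe u w m
open scoped TensorProduct
open DefT

namespace Groth.Agent.S12287

/-- Let B be an A-algebra that is isomorphic over A to a polynomial ring A[x_j] in some set of
variables. Then for every B-module M the modules T^1(B/A, M) and T^2(B/A, M), computed from the
choice-free presentation of B over A (every element of B a variable, every element of the kernel a
relation), are zero. -/
theorem result
    (A B : Type u) [CommRing A] [CommRing B] [Algebra A B] (κ : Type u) (e : MvPolynomial κ A ≃ₐ[A] B)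
    (M : Type u) [AddCommGroup M] [Module B M] :
    Subsingleton (CotT.T1 (CotT.canon A B) M) ∧ Subsingleton (CotT.T2 (CotT.canon A B) M) := by
  have haeval : (MvPolynomial.aeval (R := A) fun i => e (MvPolynomial.X i)) = e.toAlgHom :=
    MvPolynomial.algHom_ext fun i => by simp
  have hsurj : Function.Surjective (MvPolynomial.aeval (R := A) fun i => e (MvPolynomial.X i)) := by
    rw [haeval]
    exact e.surjective
  let G := Algebra.Generators.ofSurjective _ hsurj
  have hker : G.ker = ⊥ := by
    rw [eq_bot_iff]
    intro x hx
    rw [Algebra.Generators.ker_eq_ker_aeval_val, RingHom.mem_ker] at hx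
    rw [Submodule.mem_bot]
    apply e.injective
    rw [map_zero, ← hx]
    exact (AlgHom.congr_fun haeval x).symm
  let P : Algebra.Presentation A B κ PEmpty.{u + 1} :=
    { toGenerators := G
      relation := fun s => s.elim
      span_range_relation_eq_ker := by rw [hker, Set.range_eq_empty, Ideal.span_empty] }
  have h1 : Subsingleton (CotT.T1 P M) := by
    refine ⟨fun x y => ?_⟩
    induction x using Submodule.Quotient.induction_on with
    | H x =>
      induction y using Submodule.Quotient.induction_on with
      | H y =>
        congr 1
        exact Subtype.ext ((CotT.L1basis P).ext fun s => s.elim)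
  have h2 : Subsingleton (CotT.T2 P M) := by
    refine ⟨fun x y => ?_⟩
    induction x using Submodule.Quotient.induction_on with
    | H x =>
      induction y using Submodule.Quotient.induction_on with
      | H y =>
        congr 1
        refine Groth.Agent.CotTLib.linearMap_ext_L2 P fun q => ?_
        rw [show q = 0 from Subtype.ext (Finsupp.ext fun s => s.elim), map_zero, map_zero, map_zero]
  exact ⟨(Groth.Agent.CotTLib.T1equiv (CotT.canon A B) M P).toEquiv.subsingleton,
    (Groth.Agent.CotTLib.T2equiv (CotT.canon A B) M P).toEquiv.subsingleton⟩

end Groth.Agent.S12287
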