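import Groth.Statements.S12288
import Groth.Agent.CotTLib.Vanish

set_option autoImplicit false
universe u w m
open scoped TensorProduct
open DefT

namespace Groth.Agent.S12288

/-- Let A be a local ring and A → B a surjective ring homomorphism whose kernel is generated by a
regular sequence a_1, …, a_r on A (each a_i is a non-zero-divisor on A/(a_1, …, a_{i-1}) and the
ideal is proper). Then T^2(B/A, M) = 0 for every B-module M, the module being computed from the
choice-free presentation of B over A. -/
theorem result
    (A B : Type u) [CommRing A] [IsLocalRing A] [CommRing B] [Algebra A B]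
    (hs : Function.Surjective (algebraMap A B)) (rs : List A) (hreg : RingTheory.Sequence.IsRegular A rs)
    (hI : RingHom.ker (algebraMap A B) = Ideal.ofList rs) (M : Type u) [AddCommGroup M] [Module B M] :
    Subsingleton (CotT.T2 (CotT.canon A B) M) := by
  let v : PEmpty.{u + 1} → B := PEmpty.elim
  have haeval : ∀ a, MvPolynomial.aeval (R := A) v (MvPolynomial.C a) = algebraMap A B a := fun a =>
    MvPolynomial.aeval_C _ a
  have hsurj : Function.Surjective (MvPolynomial.aeval (R := A) v) := fun b => by
    obtain ⟨a, rfl⟩ := hs b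
    exact ⟨_, haeval a⟩
  let G := Algebra.Generators.ofSurjective v hsurj
  let e : A ≃+* MvPolynomial PEmpty.{u + 1} A := (MvPolynomial.isEmptyRingEquiv A PEmpty.{u + 1}).symm
  have he : ∀ a, e a = MvPolynomial.C a := fun a => rfl
  let f : Fin rs.length → MvPolynomial PEmpty.{u + 1} A := fun i => MvPolynomial.C (rs.get i)
  have hker : Ideal.span (Set.range f) = G.ker := by
    rw [Algebra.Generators.ker_eq_ker_aeval_val]
    refine le_antisymm (Ideal.span_le.2 ?_) fun x hx => ?_
    · rintro _ ⟨i, rfl⟩
      rw [SetLike.mem_coe, RingHom.mem_ker]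
      refine (haeval _).trans ?_
      rw [← RingHom.mem_ker, hI]
      exact Ideal.subset_span (rs.get_mem i)
    · obtain ⟨a, rfl⟩ := e.surjective x
      rw [RingHom.mem_ker, he] at hx
      have ha : a ∈ Ideal.ofList rs := by
        rw [← hI, RingHom.mem_ker, ← haeval]
        exact hx
      have h1 := Ideal.mem_map_of_mem (MvPolynomial.C : A →+* MvPolynomial PEmpty.{u + 1} A) ha
      rw [Ideal.map_ofList] at h1
      rw [he]
      refine Ideal.span_mono ?_ h1
      intro y hy
      obtain ⟨z, hz, rfl⟩ := List.mem_map.1 hy
      obtain ⟨i, rfl⟩ := List.mem_iff_get.1 hz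
      exact ⟨i, rfl⟩
  let P : Algebra.Presentation A B PEmpty.{u + 1} (Fin rs.length) :=
    { toGenerators := G
      relation := f
      span_range_relation_eq_ker := hker }
  have hwr : RingTheory.Sequence.IsWeaklyRegular (MvPolynomial PEmpty.{u + 1} A) (List.ofFn f) := by
    rw [show List.ofFn f = rs.map (algebraMap A (MvPolynomial PEmpty.{u + 1} A)) by
      conv_rhs => rw [← List.ofFn_get rs, List.map_ofFn]
      rfl, RingTheory.Sequence.isWeaklyRegular_map_algebraMap_iff]
    exact ((MvPolynomial.isEmptyAlgEquiv A PEmpty.{u + 1}).symm.toLinearEquiv.isWeaklyRegular_congr rs).1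
      hreg.toIsWeaklyRegular
  have := Groth.Agent.CotTLib.subsingleton_T2_of_trivial P M fun q =>
    (Groth.Agent.CotTLib.mem_trivRel_iff_koszul P _).2
      (Groth.Agent.CotTLib.ker_le_koszul_of_isWeaklyRegular f hwr q.2)
  exact (Groth.Agent.CotTLib.T2equiv (CotT.canon A B) M P).toEquiv.subsingleton

end Groth.Agent.S12288
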