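import Groth.Statements.S1229
import Groth.Agent.FlatLocusIdeal.Chain
import Groth.Agent.S1252
import Groth.Agent.S6928
import Groth.Agent.Hensel.Local
import Groth.Agent.FlatMor.EssStage.Transfer
import Mathlib.RingTheory.EssentialFiniteness
import Mathlib.RingTheory.Etale.Basic

set_option autoImplicit false
universe u
open FlatMor

namespace Groth.Agent.S1229

set_option linter.style.haveILetI false

open TensorProduct IsLocalRing Groth.Agent.FlatLocusIdeal

attribute [local instance] Algebra.TensorProduct.rightAlgebra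

/-- The residue field at the closed point of a local algebra, as point of an étale neighbourhood. -/
theorem exists_section {A Ae : Type u} [CommRing A] [HenselianLocalRing A] [CommRing Ae] [Algebra A Ae]
    (p' : Ideal Ae) [p'.IsPrime] (h : FlatCA.IsEtaleNhd A Ae (maximalIdeal A) p') :
    ∃ σ : Ae →ₐ[A] A, (maximalIdeal A).comap σ.toRingHom = p' ∧ ∀ x : Ae, ∃ a : A, x - algebraMap A Ae a ∈ p' := by
  obtain ⟨het, hov, hbij⟩ := h
  haveI := het
  let e := AlgEquiv.ofBijective (Ideal.ResidueField.mapₐ (maximalIdeal A) p' (Algebra.ofId A Ae) hov.over) hbij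
  let j : (maximalIdeal A).ResidueField →ₐ[A] ResidueField A :=
    Ideal.ResidueField.liftₐ (maximalIdeal A) (Algebra.ofId A (ResidueField A))
      (fun a ha => (residue_eq_zero_iff a).mpr ha) fun a ha => (notMem_maximalIdeal.mp ha).map (residue A)
  let τ : Ae →ₐ[A] ResidueField A := (j.comp e.symm.toAlgHom).comp (IsScalarTower.toAlgHom A Ae p'.ResidueField)
  obtain ⟨f, hf, -⟩ := Groth.Agent.Hensel.existsUnique_algHom_residue (T := A) Ae τ
  refine ⟨f, ?_, fun x => ?_⟩
  · ext x
    show f x ∈ maximalIdeal A ↔ x ∈ p'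
    rw [← residue_eq_zero_iff, hf]
    show j (e.symm (algebraMap Ae p'.ResidueField x)) = 0 ↔ x ∈ p'
    rw [map_eq_zero_iff j j.toRingHom.injective, map_eq_zero_iff e.symm e.symm.injective,
      Ideal.algebraMap_residueField_eq_zero]
  · obtain ⟨a, ha⟩ := (maximalIdeal A).algebraMap_residueField_surjective (e.symm (algebraMap Ae p'.ResidueField x))
    refine ⟨a, ?_⟩
    rw [← Ideal.algebraMap_residueField_eq_zero, map_sub, sub_eq_zero, ← e.apply_symm_apply (algebraMap Ae p'.ResidueField x),
      ← ha, e.commutes, IsScalarTower.algebraMap_apply A Ae p'.ResidueField]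

/-- The ideal for a finite type algebra over a henselian local ring. -/
theorem hasIdeal_of_supp {A S : Type u} [CommRing A] [HenselianLocalRing A] [CommRing S] [Algebra A S]
    [Algebra.FiniteType A S] (N : Type u) [AddCommGroup N] [Module S N] [Module A N] [IsScalarTower A S N]
    [Module.Finite S N] (q : Ideal S) [q.IsPrime] [q.LiesOver (maximalIdeal A)]
    (hsupp : ∃ x ∈ Module.support ((maximalIdeal A).Fiber S) (FlatCA.fiberMod (maximalIdeal A) S N),
      x.asIdeal = FlatCA.fiberIdeal (maximalIdeal A) q) :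
    ∃ I : Ideal A, ∀ (A' : Type u) [CommRing A'] [IsLocalRing A'] [Algebra A A'] [IsLocalHom (algebraMap A A')],
      Good A q N A' ↔ I.map (algebraMap A A') = ⊥ := by
  obtain ⟨Ae, S', _, _, _, _, _, _, _, _, p', q', hp', hq', heA, heS, hlies, hdev⟩ :=
    Groth.Agent.S1252.result N (maximalIdeal A) q hsupp
  haveI := hp'
  haveI := hq'
  haveI := hlies
  obtain ⟨σ, hσ, happrox⟩ := exists_section p' heA
  obtain ⟨hetA, -⟩ := heA
  obtain ⟨hetS, hovS, -⟩ := heS
  haveI := hetA
  haveI := hetS
  let P0 := Ae ⊗[A] S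
  let g : P0 →ₐ[Ae] S' := Algebra.TensorProduct.lift (Algebra.ofId Ae S') (IsScalarTower.toAlgHom A S S')
    fun _ _ => Commute.all _ _
  letI : Algebra P0 S' := g.toRingHom.toAlgebra
  haveI : IsScalarTower Ae P0 S' := IsScalarTower.of_algebraMap_eq fun a => (g.commutes a).symm
  haveI : IsScalarTower S P0 S' := IsScalarTower.of_algebraMap_eq fun s => by
    show algebraMap S S' s = g ((1 : Ae) ⊗ₜ[A] s)
    show algebraMap S S' s = Algebra.TensorProduct.lift (Algebra.ofId Ae S') (IsScalarTower.toAlgHom A S S') _ ((1 : Ae) ⊗ₜ[A] s)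
    rw [Algebra.TensorProduct.lift_tmul, map_one, one_mul]
    rfl
  haveI : Algebra.Etale S P0 :=
    Algebra.Etale.of_equiv (A := S ⊗[A] Ae) { Algebra.TensorProduct.comm A S Ae with commutes' := fun s => rfl }
  haveI : Algebra.Etale P0 S' := Algebra.Etale.of_restrictScalars (R := S) (A := P0) (B := S')
  let qP : Ideal P0 := q'.comap (algebraMap P0 S')
  haveI : qP.IsPrime := Ideal.comap_isPrime _ _
  have hqP : qP.comap (algebraMap S P0) = q := by
    rw [Ideal.comap_comap, ← IsScalarTower.algebraMap_eq, hovS.over]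
  have hqPe : qP.comap (algebraMap Ae P0) = p' := by
    rw [Ideal.comap_comap, ← IsScalarTower.algebraMap_eq, hlies.over]
  let N' := S' ⊗[P0] (P0 ⊗[S] N)
  haveI : IsScalarTower S S' N' := IsScalarTower.of_algebraMap_smul fun s x => by
    rw [IsScalarTower.algebraMap_apply S P0 S', IsScalarTower.algebraMap_smul, IsScalarTower.algebraMap_smul]
  let f : N →ₗ[S] N' := ((TensorProduct.mk P0 S' (P0 ⊗[S] N) 1).restrictScalars S).comp (TensorProduct.mk S P0 N 1)
  have hf : IsBaseChange S' f :=
    (TensorProduct.isBaseChange S N P0).comp (TensorProduct.isBaseChange P0 _ S')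
  obtain ⟨D, ⟨E⟩⟩ := hdev N' f hf
  letI : Algebra Ae A := σ.toRingHom.toAlgebra
  haveI : IsScalarTower A Ae A := IsScalarTower.of_algebraMap_eq fun a => (σ.commutes a).symm
  have hs : Function.Surjective (algebraMap Ae A) := fun a => ⟨algebraMap A Ae a, σ.commutes a⟩
  obtain ⟨I, hI⟩ := hasIdeal_of_devissage hs p' hσ D q' E
  refine ⟨I, fun A' _ _ _ _ => ?_⟩
  letI : Algebra Ae A' := ((algebraMap A A').comp σ.toRingHom).toAlgebra
  haveI : IsScalarTower Ae A A' := IsScalarTower.of_algebraMap_eq fun _ => rfl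
  haveI : IsScalarTower A Ae A' := IsScalarTower.of_algebraMap_eq fun a => by
    show algebraMap A A' a = algebraMap A A' (σ (algebraMap A Ae a))
    rw [σ.commutes]
    rfl
  have hm' : (maximalIdeal A').comap (algebraMap Ae A') = p' := by
    rw [IsScalarTower.algebraMap_eq Ae A A', ← Ideal.comap_comap, IsLocalRing.maximalIdeal_comap]
    exact hσ
  refine (good_iff_baseChange N q qP hqP A' fun P hP hPq hPe => ?_).trans
    ((good_iff_of_flat (P0 ⊗[S] N) qP q' rfl A').trans (hI A'))
  haveI := hP
  rw [hm'] at hPe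
  have key : ∀ z : Ae ⊗[A] S, ∃ s : S, ∀ (Q : Ideal P0), Q.comap (algebraMap Ae P0) = p' →
      z - algebraMap S P0 s ∈ Q := by
    intro z
    induction z using TensorProduct.induction_on with
    | zero => exact ⟨0, fun Q _ => by simp⟩
    | tmul x s =>
      obtain ⟨a, ha⟩ := happrox x
      refine ⟨a • s, fun Q hQ => ?_⟩
      rw [show x ⊗ₜ[A] s - algebraMap S P0 (a • s) = algebraMap Ae P0 (x - algebraMap A Ae a) * ((1 : Ae) ⊗ₜ[A] s) from by
        rw [show algebraMap S P0 (a • s) = (1 : Ae) ⊗ₜ[A] (a • s) from rfl, TensorProduct.tmul_smul,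
          TensorProduct.smul_tmul', ← Algebra.algebraMap_eq_smul_one,
          show algebraMap Ae P0 (x - algebraMap A Ae a) = (x - algebraMap A Ae a) ⊗ₜ[A] (1 : S) from rfl,
          Algebra.TensorProduct.tmul_mul_tmul, mul_one, one_mul, TensorProduct.sub_tmul]]
      exact Ideal.mul_mem_right _ _ (hQ.ge ha)
    | add x y hx hy =>
      obtain ⟨s, hs⟩ := hx
      obtain ⟨t, ht⟩ := hy
      exact ⟨s + t, fun Q hQ => by rw [map_add, add_sub_add_comm]; exact Ideal.add_mem _ (hs Q hQ) (ht Q hQ)⟩
  ext z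
  obtain ⟨s, hs'⟩ := key z
  have h1 := hs' P hPe
  have h2 := hs' qP hqPe
  have h3 : algebraMap S P0 s ∈ P ↔ algebraMap S P0 s ∈ qP :=
    (SetLike.ext_iff.mp hPq s).trans (SetLike.ext_iff.mp hqP s).symm
  constructor
  · intro hz
    have := h3.mp (by simpa using Ideal.sub_mem _ hz h1)
    simpa using Ideal.add_mem _ h2 this
  · intro hz
    have := h3.mpr (by simpa using Ideal.sub_mem _ hz h2)
    simpa using Ideal.add_mem _ h1 this

/-- The point is in the support of the fibre module when the localisation is nonzero. -/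
theorem mem_support {A S B : Type u} [CommRing A] [IsLocalRing A] [CommRing S] [Algebra A S] [CommRing B]
    [IsLocalRing B] [Algebra A B] [IsLocalHom (algebraMap A B)] [Algebra S B] [IsScalarTower A S B]
    {N M : Type u} [AddCommGroup N] [Module S N] [Module A N] [IsScalarTower A S N]
    [AddCommGroup M] [Module B M] [Module.Finite B M] [Module S M] [IsScalarTower S B M] [Nontrivial M]
    (h : N →ₗ[S] M) (hspan : Submodule.span B (Set.range h) = ⊤) :
    ∃ x ∈ Module.support ((maximalIdeal A).Fiber S) (FlatCA.fiberMod (maximalIdeal A) S N),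
      x.asIdeal = FlatCA.fiberIdeal (maximalIdeal A) ((maximalIdeal B).comap (algebraMap S B)) := by
  let κ := (maximalIdeal A).ResidueField
  let kB := ResidueField B
  let j : κ →ₐ[A] kB := Ideal.ResidueField.liftₐ (maximalIdeal A) (Algebra.ofId A kB)
    (fun a ha => by
      show algebraMap A kB a = 0
      rw [IsScalarTower.algebraMap_apply A B kB]
      exact (residue_eq_zero_iff _).mpr (map_nonunit (algebraMap A B) a ha))
    fun a ha => (notMem_maximalIdeal.mp ha).map (Algebra.ofId A kB)
  let G : (maximalIdeal A).Fiber S →ₐ[A] kB := Algebra.TensorProduct.lift j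
    ((IsScalarTower.toAlgHom A B kB).comp (IsScalarTower.toAlgHom A S B)) fun _ _ => Commute.all _ _
  let x : PrimeSpectrum ((maximalIdeal A).Fiber S) := ⟨RingHom.ker G.toRingHom, RingHom.ker_isPrime _⟩
  have hG : ∀ s : S, G ((1 : κ) ⊗ₜ[A] s) = residue B (algebraMap S B s) := fun s => by
    show j 1 * _ = _
    rw [map_one, one_mul]
    rfl
  have hsurj : Function.Surjective
      (Algebra.TensorProduct.includeRight (R := A) (A := κ) (B := S)).toRingHom :=
    TensorProduct.mk_surjective A S κ (maximalIdeal A).algebraMap_residueField_surjective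
  refine ⟨x, ?_, ?_⟩
  · have hW : ∃ n : N, (1 : kB) ⊗ₜ[B] h n ≠ 0 := by
      by_contra hcon
      push Not at hcon
      have hzero : ∀ m : M, (1 : kB) ⊗ₜ[B] m = 0 := fun m => by
        have hm : m ∈ Submodule.span B (Set.range h) := hspan.symm ▸ Submodule.mem_top
        induction hm using Submodule.span_induction with
        | mem y hy => obtain ⟨n, rfl⟩ := hy; exact hcon n
        | zero => exact TensorProduct.tmul_zero _ _
        | add u v _ _ hu hv => rw [TensorProduct.tmul_add, hu, hv, add_zero]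
        | smul c u _ hu => rw [TensorProduct.tmul_smul, hu, smul_zero]
      haveI : Subsingleton (kB ⊗[B] M) := subsingleton_of_forall_eq 0 fun z => by
        obtain ⟨m, rfl⟩ := TensorProduct.mk_surjective B M kB residue_surjective z
        exact hzero m
      haveI : Subsingleton M := (IsLocalRing.subsingleton_tensorProduct (R := B) (M := M)).mp ‹_›
      exact false_of_nontrivial_of_subsingleton M
    obtain ⟨n, hn⟩ := hW
    rw [Module.mem_support_iff']
    refine ⟨(1 : (maximalIdeal A).Fiber S) ⊗ₜ[S] n, fun c hc h0 => hc ?_⟩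
    obtain ⟨s, rfl⟩ := hsurj c
    let Φ : (maximalIdeal A).Fiber S →+ N →+ kB ⊗[B] M :=
      { toFun := fun f =>
          { toFun := fun m => G f ⊗ₜ[B] h m
            map_zero' := by rw [map_zero, TensorProduct.tmul_zero]
            map_add' := fun a b => by rw [map_add, TensorProduct.tmul_add] }
        map_zero' := AddMonoidHom.ext fun m => by
          show G 0 ⊗ₜ[B] h m = 0
          rw [map_zero, TensorProduct.zero_tmul]
        map_add' := fun f f' => AddMonoidHom.ext fun m => by
          show G (f + f') ⊗ₜ[B] h m = G f ⊗ₜ[B] h m + G f' ⊗ₜ[B] h m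
          rw [map_add, TensorProduct.add_tmul] }
    have hΦ : ∀ (s : S) (f : (maximalIdeal A).Fiber S) (m : N), Φ (s • f) m = Φ f (s • m) := fun s f m => by
      show G (s • f) ⊗ₜ[B] h m = G f ⊗ₜ[B] h (s • m)
      rw [Algebra.smul_def, map_mul, show algebraMap S ((maximalIdeal A).Fiber S) s = (1 : κ) ⊗ₜ[A] s from rfl, hG,
        map_smul, ← IsScalarTower.algebraMap_smul B s (h m), ← TensorProduct.smul_tmul, Algebra.smul_def]
      rfl
    let Ψ := TensorProduct.liftAddHom (R := S) Φ hΦ
    have h0' : ((((1 : κ) ⊗ₜ[A] s) * 1) ⊗ₜ[S] n : (maximalIdeal A).Fiber S ⊗[S] N) = 0 := h0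
    have h1 := congrArg Ψ h0'
    rw [map_zero, mul_one] at h1
    have h2 : G ((1 : κ) ⊗ₜ[A] s) ⊗ₜ[B] h n = (0 : kB ⊗[B] M) := h1
    show G ((1 : κ) ⊗ₜ[A] s) = 0
    by_contra hne
    refine hn ?_
    have h3 := congrArg (fun z : kB ⊗[B] M => (G ((1 : κ) ⊗ₜ[A] s))⁻¹ • z) h2
    simp only [TensorProduct.smul_tmul', smul_eq_mul, inv_mul_cancel₀ hne, smul_zero] at h3
    exact h3
  · show RingHom.ker G.toRingHom = _
    rw [← Ideal.map_comap_of_surjective _ hsurj (RingHom.ker G.toRingHom)]
    refine congrArg (Ideal.map _) ?_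
    ext s
    show G ((1 : κ) ⊗ₜ[A] s) = 0 ↔ algebraMap S B s ∈ maximalIdeal B
    rw [hG, residue_eq_zero_iff]

/-- Flatness above the closed points is computed on a finite type model. -/
theorem good_iff_above {A B S : Type u} [CommRing A] [IsLocalRing A] [CommRing B] [IsLocalRing B] [CommRing S]
    [Algebra A B] [Algebra A S] [Algebra S B] [IsScalarTower A S B] (T : Submonoid S) [IsLocalization T B]
    (hT : ∀ t ∈ T, IsUnit (algebraMap S B t))
    (hS : ∀ b : B, ∃ t ∈ T, ∃ p, algebraMap S B t * b = algebraMap S B p)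
    (q : Ideal S) [q.IsPrime] (hq : q = (maximalIdeal B).comap (algebraMap S B))
    {N M : Type u} [AddCommGroup N] [Module S N] [Module A N] [IsScalarTower A S N]
    [AddCommGroup M] [Module B M] [Module A M] [IsScalarTower A B M] [Module S M] [IsScalarTower S B M]
    (h : N →ₗ[S] M) [IsLocalizedModule T h]
    (A' B' M' : Type u) [CommRing A'] [IsLocalRing A'] [Algebra A A']
    [CommRing B'] [Algebra B B'] [Algebra A' B'] [Algebra A B'] [IsScalarTower A B B'] [IsScalarTower A A' B']
    [Algebra.IsPushout A B A' B']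
    [AddCommGroup M'] [Module B' M'] [Module B M'] [IsScalarTower B B' M'] [Module A' M'] [IsScalarTower A' B' M']
    (f : M →ₗ[B] M') (hf : IsBaseChange B' f) :
    (∀ (q : Ideal B') [q.IsPrime], (maximalIdeal A').map (algebraMap A' B') ⊔ (maximalIdeal B).map (algebraMap B B') ≤ q →
        FlatCA.FlatAt A' q M') ↔ Good A q N A' := by
  subst hq
  have hqT : ∀ t ∈ T, t ∉ (maximalIdeal B).comap (algebraMap S B) := fun t ht hm => hm (hT t ht)
  haveI : Algebra.IsPushout A S A' (TensorProduct A A' S) := Algebra.IsPushout.symm inferInstance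
  let π' : TensorProduct A A' S →ₐ[A'] B' := Algebra.TensorProduct.lift (Algebra.ofId A' B')
    ((IsScalarTower.toAlgHom A B B').comp (IsScalarTower.toAlgHom A S B)) fun _ _ => Commute.all _ _
  have hπ' : ∀ p, π' (algebraMap S (TensorProduct A A' S) p) = algebraMap B B' (algebraMap S B p) := fun p => by
    show π' ((1 : A') ⊗ₜ[A] p) = _
    simp [π']
  have key := fun (q' : Ideal B') (_ : q'.IsPrime) =>
    Groth.Agent.FlatMor.EssStage.flatAt_baseChange_iff (R := A) (R' := A') T hT hS h π' hπ'
      (TensorProduct.mk S (TensorProduct A A' S) N 1) (TensorProduct.isBaseChange S N (TensorProduct A A' S)) f hf q'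
  constructor
  · intro hM Q _ hQq hQm
    obtain ⟨q', hq', rfl⟩ := Groth.Agent.FlatMor.EssStage.exists_prime_lift (R := A) (R' := A') T hS π' hπ' Q
      (fun p hp => by
        obtain ⟨c, hc⟩ := (IsLocalization.map_eq_zero_iff T B p).mp hp
        have hpq : p ∈ (maximalIdeal B).comap (algebraMap S B) :=
          ((inferInstance : ((maximalIdeal B).comap (algebraMap S B)).IsPrime).mem_or_mem (hc ▸ zero_mem _ : (c : S) * p ∈ (maximalIdeal B).comap (algebraMap S B))).resolve_left (hqT c c.2)
        exact hQq.ge hpq)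
      (fun t ht hm => hqT t ht (hQq.le hm))
    haveI := hq'
    refine (key q' hq').mpr (hM q' (sup_le (Ideal.map_le_iff_le_comap.mpr fun a ha => ?_)
      (Ideal.map_le_iff_le_comap.mpr fun b hb => ?_)))
    · have := hQm.ge ha
      rw [Ideal.mem_comap, Ideal.mem_comap, AlgHom.commutes] at this
      exact this
    · obtain ⟨t, ht, p, hp⟩ := hS b
      have hp1 : p ∈ (maximalIdeal B).comap (algebraMap S B) := show algebraMap S B p ∈ maximalIdeal B from hp ▸ Ideal.mul_mem_left _ _ hb
      have h2 := hQq.ge hp1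
      rw [Ideal.mem_comap, Ideal.mem_comap, hπ', ← hp, map_mul] at h2
      exact (Ideal.unit_mul_mem_iff_mem q' ((hT t ht).map _)).1 h2
  · intro hgood q' _ hle
    obtain ⟨hlA, hlB⟩ := sup_le_iff.mp hle
    refine (key q' inferInstance).mp (hgood _ ?_ ?_)
    · ext s
      rw [Ideal.mem_comap, Ideal.mem_comap, hπ']
      constructor
      · intro h
        show algebraMap S B s ∈ maximalIdeal B
        by_contra hn
        exact (inferInstance : q'.IsPrime).ne_top (q'.eq_top_of_isUnit_mem h ((notMem_maximalIdeal.mp hn).map _))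
      · exact fun h => hlB (Ideal.mem_map_of_mem _ h)
    · ext a
      rw [Ideal.mem_comap, Ideal.mem_comap, AlgHom.commutes]
      constructor
      · intro h
        by_contra hn
        exact (inferInstance : q'.IsPrime).ne_top (q'.eq_top_of_isUnit_mem h ((notMem_maximalIdeal.mp hn).map _))
      · exact fun h => hlA (Ideal.mem_map_of_mem _ h)

/-- A quotient is the colimit of the quotients by the finitely generated subideals. -/
theorem isColimit_fg {A : Type u} [CommRing A] (I : Ideal A)
    [∀ i : {J : Ideal A // J.FG ∧ J ≤ I}, Algebra (A ⧸ i.1) (A ⧸ I)]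
    (halg : ∀ (i : {J : Ideal A // J.FG ∧ J ≤ I}) (a : A),
      algebraMap (A ⧸ i.1) (A ⧸ I) (Ideal.Quotient.mk i.1 a) = Ideal.Quotient.mk I a) :
    FlatCA.IsDirectedColimitRing (fun i : {J : Ideal A // J.FG ∧ J ≤ I} => A ⧸ i.1)
      (fun i j h => Ideal.Quotient.factor (show i.1 ≤ j.1 from h)) (A ⧸ I) := by
    refine ⟨⟨fun i j => ⟨⟨i.1 ⊔ j.1, Submodule.FG.sup i.2.1 j.2.1, sup_le i.2.2 j.2.2⟩, (le_sup_left : i.1 ≤ i.1 ⊔ j.1),
      (le_sup_right : j.1 ≤ i.1 ⊔ j.1)⟩⟩,
      ⟨⟨⊥, Submodule.fg_bot, bot_le⟩⟩, fun i => ?_, fun i j k hij hjk => ?_, fun i j h => ?_, fun a => ?_, fun i x hx => ?_⟩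
    · exact Ideal.Quotient.ringHom_ext (RingHom.ext fun a => rfl)
    · exact Ideal.Quotient.ringHom_ext (RingHom.ext fun a => rfl)
    · exact Ideal.Quotient.ringHom_ext (RingHom.ext fun a => (halg j a).trans (halg i a).symm)
    · obtain ⟨b, rfl⟩ := Ideal.Quotient.mk_surjective a
      exact ⟨⟨⊥, Submodule.fg_bot, bot_le⟩, Ideal.Quotient.mk _ b, halg _ b⟩
    · obtain ⟨a, rfl⟩ := Ideal.Quotient.mk_surjective x
      have ha : a ∈ I := Ideal.Quotient.eq_zero_iff_mem.mp ((halg i a).symm.trans hx)
      exact ⟨⟨i.1 ⊔ Ideal.span {a}, Submodule.FG.sup i.2.1 (Submodule.fg_span_singleton a),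
        sup_le i.2.2 (Ideal.span_le.mpr (Set.singleton_subset_iff.mpr ha))⟩, (le_sup_left : i.1 ≤ i.1 ⊔ Ideal.span {a}),
        Ideal.Quotient.eq_zero_iff_mem.mpr (Ideal.mem_sup_right (Ideal.mem_span_singleton_self a))⟩

/-- A stage of a directed colimit of local algebras at which the base change is flat above the closed points. -/
theorem exists_stage {A B : Type u} [CommRing A] [CommRing B] [IsLocalRing B] [Algebra A B]
    (hB : FlatCA.EssFinitePresentation A B)
    (M : Type u) [AddCommGroup M] [Module B M] [Module A M] [IsScalarTower A B M] [Module.FinitePresentation B M]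
    {ι : Type u} [Preorder ι] (G : ι → Type u) [∀ i, CommRing (G i)] [∀ i, Algebra A (G i)]
    (g : ∀ i j, i ≤ j → G i →+* G j) (hgR : ∀ i j (h : i ≤ j), (g i j h).comp (algebraMap A (G i)) = algebraMap A (G j))
    (R' : Type u) [CommRing R'] [Algebra A R'] [∀ i, Algebra (G i) R'] [∀ i, IsScalarTower A (G i) R']
    (hcolim : FlatCA.IsDirectedColimitRing G g R') (m : Ideal A)
    (h : ∀ (q : Ideal (R' ⊗[A] B)) [q.IsPrime],
      (m.map (algebraMap A R')).map (algebraMap R' (R' ⊗[A] B)) ⊔ (IsLocalRing.maximalIdeal B).map (algebraMap B (R' ⊗[A] B)) ≤ q →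
        FlatCA.FlatAt R' q ((R' ⊗[A] B) ⊗[B] M)) :
    ∃ i : ι, ∀ (q : Ideal (G i ⊗[A] B)) [q.IsPrime],
      (m.map (algebraMap A (G i))).map (algebraMap (G i) (G i ⊗[A] B)) ⊔
        (IsLocalRing.maximalIdeal B).map (algebraMap B (G i ⊗[A] B)) ≤ q →
      FlatCA.FlatAt (G i) q ((G i ⊗[A] B) ⊗[B] M) := by
  haveI : Algebra.IsPushout A B R' (R' ⊗[A] B) := Algebra.IsPushout.symm inferInstance
  obtain ⟨-, hne, -⟩ := id hcolim
  obtain ⟨i, hi⟩ := Groth.Agent.S6928.result hB (M := M) G g hgR R' hcolim (fun i => m.map (algebraMap A (G i)))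
    (fun i j h => by rw [Ideal.map_map, hgR]) (S' := R' ⊗[A] B) (M' := (R' ⊗[A] B) ⊗[B] M)
    (TensorProduct.mk B (R' ⊗[A] B) M 1) (TensorProduct.isBaseChange B M (R' ⊗[A] B)) (IsLocalRing.maximalIdeal B)
    (fun q _ hle => h q (le_trans (sup_le_sup_right (Ideal.map_mono
      (hne.elim fun i₀ => le_trans (le_of_eq (by rw [Ideal.map_map, ← IsScalarTower.algebraMap_eq]))
        (le_iSup (fun i => (m.map (algebraMap A (G i))).map (algebraMap (G i) R')) i₀))) _) hle))
  refine ⟨i, fun q _ hle => ?_⟩
  haveI : Algebra.IsPushout A B (G i) (G i ⊗[A] B) := Algebra.IsPushout.symm inferInstance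
  exact hi (G i ⊗[A] B) ((G i ⊗[A] B) ⊗[B] M) (TensorProduct.mk B (G i ⊗[A] B) M 1)
    (TensorProduct.isBaseChange B M (G i ⊗[A] B)) q hle

open IsLocalRing in
/-- The ideal vanishes at a stage. -/
theorem exists_stage_vanishing {A B : Type u} [CommRing A] [IsLocalRing A] [CommRing B] [IsLocalRing B] [Algebra A B]
    (hB : FlatCA.EssFinitePresentation A B)
    (M : Type u) [AddCommGroup M] [Module B M] [Module A M] [IsScalarTower A B M] [Module.FinitePresentation B M]
    (I : Ideal A)
    (hA : ∀ (A' B' M' : Type u) [CommRing A'] [IsLocalRing A'] [Algebra A A'] [IsLocalHom (algebraMap A A')]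
        [CommRing B'] [Algebra B B'] [Algebra A' B'] [Algebra A B'] [IsScalarTower A B B'] [IsScalarTower A A' B']
        [Algebra.IsPushout A B A' B']
        [AddCommGroup M'] [Module B' M'] [Module B M'] [IsScalarTower B B' M'] [Module A' M'] [IsScalarTower A' B' M']
        (f : M →ₗ[B] M'), IsBaseChange B' f →
        ((∀ (q : Ideal B') [q.IsPrime], (maximalIdeal A').map (algebraMap A' B') ⊔ (maximalIdeal B).map (algebraMap B B') ≤ q →
            FlatCA.FlatAt A' q M') ↔ I.map (algebraMap A A') = ⊥))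
    {ι : Type u} [Preorder ι] (G : ι → Type u) [∀ i, CommRing (G i)] [∀ i, IsLocalRing (G i)] [∀ i, Algebra A (G i)]
    [∀ i, IsLocalHom (algebraMap A (G i))]
    (g : ∀ i j, i ≤ j → G i →+* G j) (hgR : ∀ i j (h : i ≤ j), (g i j h).comp (algebraMap A (G i)) = algebraMap A (G j))
    (R' : Type u) [CommRing R'] [IsLocalRing R'] [Algebra A R'] [IsLocalHom (algebraMap A R')]
    [∀ i, Algebra (G i) R'] [∀ i, IsScalarTower A (G i) R']
    (hcolim : FlatCA.IsDirectedColimitRing G g R')
    (hmG : ∀ i, (maximalIdeal A).map (algebraMap A (G i)) = maximalIdeal (G i))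
    (hmR : (maximalIdeal A).map (algebraMap A R') = maximalIdeal R')
    (hI : I.map (algebraMap A R') = ⊥) : ∃ i, I.map (algebraMap A (G i)) = ⊥ := by
  haveI : Algebra.IsPushout A B R' (R' ⊗[A] B) := Algebra.IsPushout.symm inferInstance
  obtain ⟨i, hi⟩ := exists_stage hB M G g hgR R' hcolim (maximalIdeal A)
    fun q _ hle => (hA R' (R' ⊗[A] B) ((R' ⊗[A] B) ⊗[B] M) _ (TensorProduct.isBaseChange B M (R' ⊗[A] B))).mpr
      hI q (by rwa [hmR] at hle)
  haveI : Algebra.IsPushout A B (G i) (G i ⊗[A] B) := Algebra.IsPushout.symm inferInstance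
  exact ⟨i, (hA (G i) (G i ⊗[A] B) ((G i ⊗[A] B) ⊗[B] M) _ (TensorProduct.isBaseChange B M (G i ⊗[A] B))).mp
    fun q _ hle => hi q (by rwa [hmG])⟩

open IsLocalRing in
/-- Finite generation of the ideal, from descent of flatness. -/
theorem fg_of_flatness {A B : Type u} [CommRing A] [IsLocalRing A] [CommRing B] [IsLocalRing B] [Algebra A B]
    (hB : FlatCA.EssFinitePresentation A B)
    (M : Type u) [AddCommGroup M] [Module B M] [Module A M] [IsScalarTower A B M] [Module.FinitePresentation B M]
    (I : Ideal A)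
    (hA : ∀ (A' B' M' : Type u) [CommRing A'] [IsLocalRing A'] [Algebra A A'] [IsLocalHom (algebraMap A A')]
        [CommRing B'] [Algebra B B'] [Algebra A' B'] [Algebra A B'] [IsScalarTower A B B'] [IsScalarTower A A' B']
        [Algebra.IsPushout A B A' B']
        [AddCommGroup M'] [Module B' M'] [Module B M'] [IsScalarTower B B' M'] [Module A' M'] [IsScalarTower A' B' M']
        (f : M →ₗ[B] M'), IsBaseChange B' f →
        ((∀ (q : Ideal B') [q.IsPrime], (maximalIdeal A').map (algebraMap A' B') ⊔ (maximalIdeal B).map (algebraMap B B') ≤ q →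
            FlatCA.FlatAt A' q M') ↔ I.map (algebraMap A A') = ⊥)) : I.FG := by
  classical
  by_cases hI : I = ⊤
  · exact hI ▸ Module.Finite.fg_top
  haveI : Nontrivial (A ⧸ I) := Ideal.Quotient.nontrivial_iff.mpr hI
  haveI : IsLocalRing (A ⧸ I) := IsLocalRing.of_surjective' (Ideal.Quotient.mk I) Ideal.Quotient.mk_surjective
  haveI : IsLocalHom (algebraMap A (A ⧸ I)) := IsLocalHom.of_surjective _ Ideal.Quotient.mk_surjective
  haveI : ∀ i : {J : Ideal A // J.FG ∧ J ≤ I}, IsLocalRing (A ⧸ i.1) := fun i =>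
    haveI : Nontrivial (A ⧸ i.1) := Ideal.Quotient.nontrivial_iff.mpr fun h => hI (top_le_iff.mp (h ▸ i.2.2))
    IsLocalRing.of_surjective' (Ideal.Quotient.mk i.1) Ideal.Quotient.mk_surjective
  haveI : ∀ i : {J : Ideal A // J.FG ∧ J ≤ I}, IsLocalHom (algebraMap A (A ⧸ i.1)) := fun i =>
    IsLocalHom.of_surjective _ Ideal.Quotient.mk_surjective
  letI : ∀ i : {J : Ideal A // J.FG ∧ J ≤ I}, Algebra (A ⧸ i.1) (A ⧸ I) := fun i => (Ideal.Quotient.factor i.2.2).toAlgebra
  haveI : ∀ i : {J : Ideal A // J.FG ∧ J ≤ I}, IsScalarTower A (A ⧸ i.1) (A ⧸ I) := fun i =>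
    IsScalarTower.of_algebraMap_eq fun a => rfl
  have hmax : ∀ J : Ideal A, ∀ [IsLocalRing (A ⧸ J)], IsLocalHom (algebraMap A (A ⧸ J)) →
      (maximalIdeal A).map (algebraMap A (A ⧸ J)) = maximalIdeal (A ⧸ J) := fun J _ hloc => by
    haveI := hloc
    conv_lhs => rw [← IsLocalRing.maximalIdeal_comap (algebraMap A (A ⧸ J))]
    exact Ideal.map_comap_of_surjective _ Ideal.Quotient.mk_surjective _
  obtain ⟨i, h⟩ := exists_stage_vanishing hB M I hA (fun i : {J : Ideal A // J.FG ∧ J ≤ I} => A ⧸ i.1)
    (fun i j h => Ideal.Quotient.factor (show i.1 ≤ j.1 from h)) (fun i j h => RingHom.ext fun a => rfl) (A ⧸ I)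
    (isColimit_fg I fun i a => rfl) (fun i => hmax i.1 inferInstance) (hmax I inferInstance)
    (by rw [Ideal.Quotient.algebraMap_eq, Ideal.map_quotient_self])
  have hle : I ≤ i.1 := fun a ha => by
    have h2 := Ideal.mem_map_of_mem (algebraMap A (A ⧸ i.1)) ha
    rw [h, Ideal.mem_bot] at h2
    exact Ideal.Quotient.eq_zero_iff_mem.mp h2
  rw [le_antisymm hle i.2.2]
  exact i.2.1

open IsLocalRing in
/-- Let A be a henselian local ring, A → B a local homomorphism of local rings which is essentially of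
finite type, and M a finite B-module. Then some ideal I of A has the following property: for any
local ring A' with a local structure map from A, writing B', M' for the base changes of B, M to A'
(any models), M' is flat over A' at all primes of B' lying above both maximal ideals exactly when
IA' = 0. If A → B is essentially of finite presentation and M is finitely presented over B then I is
finitely generated. -/
theorem result {A B : Type u} [CommRing A] [HenselianLocalRing A] [CommRing B] [IsLocalRing B] [Algebra A B]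
    [IsLocalHom (algebraMap A B)] [Algebra.EssFiniteType A B]
    (M : Type u) [AddCommGroup M] [Module B M] [Module A M] [IsScalarTower A B M] [Module.Finite B M] :
    ∃ I : Ideal A,
      (∀ (A' B' M' : Type u) [CommRing A'] [IsLocalRing A'] [Algebra A A'] [IsLocalHom (algebraMap A A')]
        [CommRing B'] [Algebra B B'] [Algebra A' B'] [Algebra A B'] [IsScalarTower A B B'] [IsScalarTower A A' B']
        [Algebra.IsPushout A B A' B']
        [AddCommGroup M'] [Module B' M'] [Module B M'] [IsScalarTower B B' M'] [Module A' M'] [IsScalarTower A' B' M']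
        (f : M →ₗ[B] M'), IsBaseChange B' f →
        ((∀ (q : Ideal B') [q.IsPrime], (maximalIdeal A').map (algebraMap A' B') ⊔ (maximalIdeal B).map (algebraMap B B') ≤ q →
            FlatCA.FlatAt A' q M') ↔ I.map (algebraMap A A') = ⊥)) ∧
      (FlatCA.EssFinitePresentation A B → Module.FinitePresentation B M → I.FG) := by
  classical
  let S := Algebra.EssFiniteType.subalgebra A B
  let T := Algebra.EssFiniteType.submonoid A B
  have hT : ∀ t ∈ T, IsUnit (algebraMap S B t) := fun t ht => ht
  have hS : ∀ b : B, ∃ t ∈ T, ∃ p, algebraMap S B t * b = algebraMap S B p := fun b => by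
    obtain ⟨⟨p, t⟩, h⟩ := IsLocalization.surj T b
    exact ⟨t, t.2, p, by rw [mul_comm]; exact h⟩
  let q : Ideal S := (maximalIdeal B).comap (algebraMap S B)
  have hqT : ∀ t ∈ T, t ∉ q := fun t ht hm => hm ht
  haveI : q.LiesOver (maximalIdeal A) := ⟨by
    rw [Ideal.under_def, Ideal.comap_comap, ← IsScalarTower.algebraMap_eq, IsLocalRing.maximalIdeal_comap]⟩
  obtain ⟨G, hG⟩ := (Module.Finite.fg_top : (⊤ : Submodule B M).FG)
  let N : Submodule S M := Submodule.span S (G : Set M)
  haveI : Module.Finite S N := Module.Finite.span_of_finite S G.finite_toSet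
  haveI : IsScalarTower A S M := IsScalarTower.of_algebraMap_smul fun a m => by
    rw [← IsScalarTower.algebraMap_smul B (algebraMap A S a) m, ← IsScalarTower.algebraMap_apply,
      IsScalarTower.algebraMap_smul]
  haveI : IsLocalizedModule T N.subtype := by
    refine ⟨fun t => ?_, fun m => ?_, fun {x₁ x₂} he => ⟨1, by rw [one_smul, one_smul]; exact Subtype.ext he⟩⟩
    · rw [Module.End.isUnit_iff]
      have := (Module.End.isUnit_iff _).mp ((hT t t.2).map (algebraMap B (Module.End B M)))
      convert this using 1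
      funext m
      exact (IsScalarTower.algebraMap_smul B (t : S) m).symm
    · have hm : m ∈ Submodule.span B (G : Set M) := hG.symm ▸ Submodule.mem_top
      induction hm using Submodule.span_induction with
      | mem x hx => exact ⟨⟨⟨x, Submodule.subset_span hx⟩, 1⟩, one_smul _ _⟩
      | zero => exact ⟨⟨0, 1⟩, by simp⟩
      | add x y _ _ hx hy =>
        obtain ⟨⟨a, s⟩, ha⟩ := hx
        obtain ⟨⟨b, t⟩, hb⟩ := hy
        refine ⟨⟨(t : S) • a + (s : S) • b, s * t⟩, ?_⟩
        simp only [Submonoid.smul_def] at ha hb ⊢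
        rw [smul_add, map_add, map_smul, map_smul, ← ha, ← hb, Submonoid.coe_mul, mul_comm, mul_smul,
          smul_smul (s : S) (t : S), mul_comm (s : S) t]
      | smul c x _ hx =>
        obtain ⟨⟨a, s⟩, ha⟩ := hx
        obtain ⟨t, ht, p, hp⟩ := hS c
        refine ⟨⟨p • a, ⟨t, ht⟩ * s⟩, ?_⟩
        simp only [Submonoid.smul_def] at ha ⊢
        rw [map_smul, ← ha, Submonoid.coe_mul, mul_smul, ← IsScalarTower.algebraMap_smul B p ((s : S) • x), ← hp,
          mul_smul, IsScalarTower.algebraMap_smul, smul_comm c (s : S) x]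
  have hspan : Submodule.span B (Set.range N.subtype) = ⊤ := top_le_iff.mp
    (hG.symm.le.trans (Submodule.span_mono fun x hx => ⟨⟨x, Submodule.subset_span hx⟩, rfl⟩))
  have hmain : ∃ I : Ideal A, ∀ (A' : Type u) [CommRing A'] [IsLocalRing A'] [Algebra A A']
      [IsLocalHom (algebraMap A A')], Groth.Agent.FlatLocusIdeal.Good A q N A' ↔ I.map (algebraMap A A') = ⊥ := by
    rcases subsingleton_or_nontrivial M with hM | hM
    · haveI : Subsingleton N := ⟨fun a b => Subtype.ext (Subsingleton.elim _ _)⟩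
      exact ⟨⊥, fun A' _ _ _ _ => iff_of_true (Groth.Agent.FlatLocusIdeal.good_of_subsingleton _ _ A') Ideal.map_bot⟩
    · exact hasIdeal_of_supp N q (mem_support N.subtype hspan)
  obtain ⟨I, hI⟩ := hmain
  have hA : ∀ (A' B' M' : Type u) [CommRing A'] [IsLocalRing A'] [Algebra A A'] [IsLocalHom (algebraMap A A')]
        [CommRing B'] [Algebra B B'] [Algebra A' B'] [Algebra A B'] [IsScalarTower A B B'] [IsScalarTower A A' B']
        [Algebra.IsPushout A B A' B']
        [AddCommGroup M'] [Module B' M'] [Module B M'] [IsScalarTower B B' M'] [Module A' M'] [IsScalarTower A' B' M']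
        (f : M →ₗ[B] M'), IsBaseChange B' f →
        ((∀ (q : Ideal B') [q.IsPrime], (maximalIdeal A').map (algebraMap A' B') ⊔ (maximalIdeal B).map (algebraMap B B') ≤ q →
            FlatCA.FlatAt A' q M') ↔ I.map (algebraMap A A') = ⊥) := by
    intro A' B' M' _ _ _ _ _ _ _ _ _ _ _ _ _ _ _ _ _ f hf
    exact (good_iff_above T hT hS q rfl N.subtype A' B' M' f hf).trans (hI A')
  refine ⟨I, hA, fun hB hM => ?_⟩
  exact fg_of_flatness hB M I hA

end Groth.Agent.S1229
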