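import Groth.Statements.S12291
import Groth.Agent.CotTLib.CI
import Groth.Agent.S12288

set_option autoImplicit false
universe u w m
open scoped TensorProduct
open DefT

namespace Groth.Agent.S12291

open IsLocalRing

/-- Local shorthand for linear combinations. -/
noncomputable abbrev jf' {S : Type*} [CommRing S] {σ : Type*} (f : σ → S) : (σ →₀ S) →ₗ[S] S :=
  Finsupp.linearCombination S f


/-- Let k be an algebraically closed field and A a regular local k-algebra with residue field k such
that T^1(A/k, N) = 0 and T^2(A/k, N) = 0 for all A-modules N; let I be a proper ideal of A and B =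
A/I. Then B is cut out of A as a local complete intersection — meaning I is generated by some list
of r elements with r + dim B = dim A, i.e. by dim A − dim B elements — exactly when T^2(B/k, M)
vanishes for each B-module M. The T^i are computed from the choice-free presentations. (The
published statement assumes only that A is a regular local k-algebra with residue field k; its proof
uses the vanishing of T^1(A/k, −) and T^2(A/k, −), which holds when A is essentially of finite type
over k and which this row carries as a hypothesis.) -/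
theorem result
    (k A : Type u) [Field k] [IsAlgClosed k] [CommRing A] [IsRegularLocalRing A] [Algebra k A]
    (hres : Function.Surjective (algebraMap k (IsLocalRing.ResidueField A)))
    (hT : ∀ (N : Type u) [AddCommGroup N] [Module A N],
      Subsingleton (CotT.T1 (CotT.canon k A) N) ∧ Subsingleton (CotT.T2 (CotT.canon k A) N))
    (I : Ideal A) (hI : I ≠ ⊤) :
    (∃ rs : List A, Ideal.ofList rs = I ∧ (rs.length : WithBot ℕ∞) + ringKrullDim (A ⧸ I) = ringKrullDim A) ↔
      ∀ (M : Type u) [AddCommGroup M] [Module (A ⧸ I) M], Subsingleton (CotT.T2 (CotT.canon k (A ⧸ I)) M) := by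
  classical
  letI : Algebra A (A ⧸ I) := Ideal.Quotient.algebra A
  have hs : Function.Surjective (algebraMap A (A ⧸ I)) := Ideal.Quotient.mk_surjective
  have hker : RingHom.ker (algebraMap A (A ⧸ I)) = I := Ideal.mk_ker
  have hle : I ≤ maximalIdeal A := le_maximalIdeal hI
  haveI : Nontrivial (A ⧸ I) := Ideal.Quotient.nontrivial_iff.mpr hI
  haveI : IsLocalRing (A ⧸ I) := IsLocalRing.of_surjective' _ hs
  have htr : (∀ (M : Type u) [AddCommGroup M] [Module (A ⧸ I) M], Subsingleton (CotT.T2 (CotT.canon k (A ⧸ I)) M)) ↔
      ∀ (M : Type u) [AddCommGroup M] [Module (A ⧸ I) M], Subsingleton (CotT.T2 (CotT.canon A (A ⧸ I)) M) :=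
    ⟨fun h M _ _ => (Groth.Agent.CotTLib.subsingleton_T2_iff_of_vanish hT M).2 (h M),
      fun h M _ _ => (Groth.Agent.CotTLib.subsingleton_T2_iff_of_vanish hT M).1 (h M)⟩
  rw [htr]
  constructor
  · rintro ⟨rs, hrs, hdim⟩ M _ _
    have hrsm : ∀ x ∈ rs, x ∈ maximalIdeal A := fun x hx => hle (hrs ▸ Ideal.subset_span hx)
    refine Groth.Agent.S12288.result A (A ⧸ I) hs rs ?_ (hker.trans hrs.symm) M
    rw [IsLocalRing.isRegular_iff_isWeaklyRegular_of_subset_maximalIdeal hrsm]
    haveI : LocCoh.IsCohenMacaulayLocalRing A := Groth.Agent.Depth.isCohenMacaulayLocalRing_of_isRegularLocalRing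
    obtain ⟨s, hs1, hs2⟩ := Ideal.exists_finset_card_eq_height_of_isNoetherianRing (maximalIdeal (A ⧸ I))
    have hq : ∀ x : A ⧸ I, ∃ a, algebraMap A (A ⧸ I) a = x := hs
    choose g hg using hq
    let zs : List A := s.toList.map g
    have hsm : ∀ x ∈ s, x ∈ maximalIdeal (A ⧸ I) := fun x hx => hs1.1.2 (Ideal.subset_span hx)
    have hzs : ∀ x ∈ zs, x ∈ maximalIdeal A := fun x hx => by
      obtain ⟨z, hz, rfl⟩ := List.mem_map.1 hx
      have h1 := hsm z (Finset.mem_toList.1 hz)
      rw [mem_maximalIdeal, mem_nonunits_iff]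
      intro hu
      exact h1 (hg z ▸ hu.map _)
    have hall : Ideal.ofList (rs ++ zs) ≤ maximalIdeal A := by
      rw [Ideal.ofList, Ideal.span_le]
      intro x hx
      rcases List.mem_append.1 hx with h | h
      exacts [hrsm x h, hzs x h]
    have hrad : maximalIdeal A ≤ (Module.annihilator A A ⊔ Ideal.ofList (rs ++ zs)).radical := by
      refine le_trans ?_ (Ideal.radical_mono le_sup_right)
      rw [Ideal.ofList_append, hrs, Ideal.radical_eq_sInf]
      refine le_sInf fun q hq => ?_
      obtain ⟨hle', hqp⟩ := hq
      have hqI : I ≤ q := le_sup_left.trans hle'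
      have hmap : (q.map (algebraMap A (A ⧸ I))).IsPrime := Ideal.map_isPrime_of_surjective hs (hker.le.trans hqI)
      have hsq : Ideal.span (s : Set (A ⧸ I)) ≤ q.map (algebraMap A (A ⧸ I)) := by
        rw [Ideal.span_le]
        intro x hx
        rw [SetLike.mem_coe, ← hg x]
        exact Ideal.mem_map_of_mem _ (hle' (Submodule.mem_sup_right
          (Ideal.subset_span (List.mem_map.2 ⟨x, Finset.mem_toList.2 hx, rfl⟩))))
      have h2 := hs1.2 ⟨hmap, hsq⟩ (le_maximalIdeal hmap.ne_top)
      intro a ha
      have h3 : algebraMap A (A ⧸ I) a ∈ q.map (algebraMap A (A ⧸ I)) := h2 (by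
        rw [← IsLocalRing.map_maximalIdeal_of_surjective _ hs]
        exact Ideal.mem_map_of_mem _ ha)
      have h4 : a ∈ (q.map (algebraMap A (A ⧸ I))).comap (algebraMap A (A ⧸ I)) := h3
      rw [Ideal.comap_map_of_surjective _ hs, ← RingHom.ker_eq_comap_bot, hker, sup_eq_left.2 hqI] at h4
      exact h4
    have hlen : ((rs ++ zs).length : WithBot ℕ∞) ≤ Module.supportDim A A := by
      rw [Module.supportDim_self_eq_ringKrullDim, ← hdim, List.length_append,
        ← IsLocalRing.maximalIdeal_height_eq_ringKrullDim (R := A ⧸ I), ← hs2, List.length_map,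
        Finset.length_toList, Nat.cast_add]
      exact le_of_eq rfl
    exact ((RingTheory.Sequence.isWeaklyRegular_append_iff A rs zs).1
      (Groth.Agent.CMSeq.isWeaklyRegular_of_radical (rs ++ zs) A
        (Groth.Agent.Depth.isCohenMacaulayModule_self A) hall hrad hlen)).1
  · intro h
    obtain ⟨T, hTc, hTs⟩ := Submodule.FG.exists_span_finset_card_eq_spanFinrank (IsNoetherian.noetherian I)
    let y : Fin T.card → A := fun i => (T.equivFin.symm i : A)
    have hy : Ideal.span (Set.range y) = I := by
      rw [show Set.range y = (T : Set A) by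
        ext z
        exact ⟨by rintro ⟨i, rfl⟩; exact (T.equivFin.symm i).2, fun hz => ⟨T.equivFin ⟨z, hz⟩, by simp [y]⟩⟩]
      exact hTs
    have hym : ∀ i, y i ∈ maximalIdeal A := fun i => hle (hy ▸ Ideal.subset_span ⟨i, rfl⟩)
    have hmin : ∀ c : Fin T.card →₀ A, Groth.Agent.CotTLib.jf y c = 0 → ∀ i, c i ∈ maximalIdeal A := by
      intro c hc i
      by_contra hi
      rw [mem_maximalIdeal, mem_nonunits_iff, not_not] at hi
      obtain ⟨u, hu⟩ := hi
      have hmem : y i ∈ Ideal.span (y '' {i}ᶜ) := by
        have h1 : jf' y (c.erase i) = -(c i * y i) := by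
          rw [eq_neg_iff_add_eq_zero]
          conv_rhs => rw [← hc, ← Finsupp.erase_add_single i c, map_add, Finsupp.linearCombination_single]
          rfl
        have h2 : c i * y i ∈ Ideal.span (y '' {i}ᶜ) := by
          rw [← neg_mem_iff, ← h1]
          refine (Finsupp.mem_span_image_iff_linearCombination A).2 ⟨c.erase i, ?_, rfl⟩
          rw [Finsupp.mem_supported, Finsupp.support_erase]
          intro x hx
          simp only [Finset.coe_erase, Set.mem_diff, Set.mem_singleton_iff] at hx
          exact hx.2
        exact (Ideal.unit_mul_mem_iff_mem _ (hu ▸ u.isUnit)).1 h2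
      have hspan : Ideal.span (y '' {i}ᶜ) = I := by
        refine le_antisymm (by rw [← hy]; exact Ideal.span_mono (Set.image_subset_range _ _)) ?_
        rw [← hy, Ideal.span_le]
        rintro _ ⟨j, rfl⟩
        rcases eq_or_ne j i with rfl | hj
        · exact hmem
        · exact Ideal.subset_span ⟨j, hj, rfl⟩
      have hcard : (y '' {i}ᶜ).ncard < T.card := by
        refine lt_of_le_of_lt (Set.ncard_image_le (Set.toFinite _)) ?_
        rw [Set.ncard_compl, Set.ncard_singleton, Nat.card_fin]
        have := i.pos
        omega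
      have h3 : I.spanFinrank ≤ (y '' {i}ᶜ).ncard := by
        conv_lhs => rw [← hspan]
        exact Submodule.spanFinrank_span_le_ncard_of_finite (Set.toFinite _)
      omega
    have hk := Groth.Agent.CotTLib.ker_le_koszul_of_T2 hs y (hy.trans hker.symm) (hker.le.trans hle) hmin h
    have hreg := Groth.Agent.CotTLib.isWeaklyRegular_of_ker_le_koszul y hym hk
    have hlist : Ideal.ofList (List.ofFn y) = I := by
      rw [Ideal.ofList, ← hy]; congr 1; ext z; simp
    refine ⟨List.ofFn y, hlist, ?_⟩
    have hmem : ∀ x ∈ List.ofFn y, x ∈ maximalIdeal A := fun x hx => hle (hlist ▸ Ideal.subset_span hx)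
    have := ringKrullDim_add_length_eq_ringKrullDim_of_isRegular (List.ofFn y)
      ((IsLocalRing.isRegular_iff_isWeaklyRegular_of_subset_maximalIdeal hmem).2 hreg)
    rw [hlist] at this
    rw [add_comm]
    exact this

end Groth.Agent.S12291
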