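import Groth.Statements.S12295
import Groth.Agent.CotTLib.Functor
import Groth.Agent.CotTLib.Nine

set_option autoImplicit false
universe u w m
open scoped TensorProduct
open DefT

namespace Groth.Agent.S12295

open CotT Groth.Agent.CotTLib

theorem exists_collapse {k B : Type u} [CommRing k] [CommRing B] [Algebra k B] {ι σ : Type w}
    (P : Algebra.Presentation k B ι σ) :
    ∃ (P'' : Algebra.Presentation P.toExtension.Ring B PEmpty.{1} σ) (h : PresHom P P''),
      (∀ x, h.ringHom x = (MvPolynomial.C x : MvPolynomial PEmpty.{1} P.toExtension.Ring)) ∧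
        ∀ s, h.relVal s = Finsupp.single s 1 := by
  let R := P.toExtension.Ring
  have haev : ∀ a, MvPolynomial.aeval (R := R) (PEmpty.elim : PEmpty.{1} → B) (MvPolynomial.C a) =
      algebraMap R B a := fun a => MvPolynomial.aeval_C _ a
  have hsurj : Function.Surjective (MvPolynomial.aeval (R := R) (PEmpty.elim : PEmpty.{1} → B)) := fun b => by
    obtain ⟨a, rfl⟩ := P.toExtension.algebraMap_surjective b
    exact ⟨_, haev a⟩
  let G := Algebra.Generators.ofSurjective (PEmpty.elim : PEmpty.{1} → B) hsurj
  have hker : Ideal.span (Set.range fun s => (MvPolynomial.C (rel P s) : MvPolynomial PEmpty.{1} R)) = G.ker := by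
    rw [Algebra.Generators.ker_eq_ker_aeval_val]
    refine le_antisymm (Ideal.span_le.2 ?_) fun x hx => ?_
    · rintro _ ⟨s, rfl⟩
      exact (haev _).trans (algebraMap_rel P s)
    · obtain ⟨a, rfl⟩ := (MvPolynomial.isEmptyRingEquiv R PEmpty.{1}).symm.surjective x
      have h0 : algebraMap R B a = 0 := (haev a).symm.trans hx
      have h1 := Ideal.mem_map_of_mem (MvPolynomial.C : R →+* MvPolynomial PEmpty.{1} R)
        (show a ∈ Ideal.span (Set.range (rel P)) by
          rw [show Ideal.span (Set.range (rel P)) = RingHom.ker (algebraMap R B) from P.span_range_relation_eq_ker]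
          exact h0)
      rw [Ideal.map_span, ← Set.range_comp] at h1
      exact h1
  let P'' : Algebra.Presentation R B PEmpty.{1} σ :=
    { toGenerators := G
      relation := fun s => MvPolynomial.C (rel P s)
      span_range_relation_eq_ker := hker }
  let f : Algebra.Generators.Hom P.toGenerators P''.toGenerators :=
    { val := fun i => MvPolynomial.C (Xv P i)
      aeval_val := fun i => (haev _).trans (algebraMap_Xv i) }
  have key : ∀ x, f.toExtensionHom.toRingHom x = (MvPolynomial.C x : MvPolynomial PEmpty.{1} R) :=
    RingHom.congr_fun (f := f.toExtensionHom.toRingHom) (g := MvPolynomial.C)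
      (MvPolynomial.ringHom_ext (fun a => f.toExtensionHom.toRingHom_algebraMap a) fun i =>
        MvPolynomial.aeval_X (R := k) (S₁ := MvPolynomial PEmpty.{1} R) _ i)
  let h : PresHom P P'' :=
    { hom := f
      relVal := fun s => Finsupp.single s 1
      jmap_relVal := fun s => by
        rw [jmap_single, one_mul, key] }
  exact ⟨P'', h, key, fun _ => rfl⟩

theorem T2pull_bijective {A A' B ι σ : Type*} {ι' σ' : Type*} [CommRing A] [CommRing A'] [CommRing B]
    [Algebra A B] [Algebra A' B] [Algebra A A'] [IsScalarTower A A' B]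
    {P : Algebra.Presentation A B ι σ} {P' : Algebra.Presentation A' B ι' σ'} (h : PresHom P P')
    (hr : Function.Bijective h.ringHom) (hm : Function.Bijective h.relModMap)
    (M : Type*) [AddCommGroup M] [Module B M] : Function.Bijective (h.T2pull M) := by
  have hlift : ∀ y ∈ trivRel P', ∃ x ∈ trivRel P, h.relModMap x = y := fun y hy => by
    induction hy using Submodule.span_induction with
    | mem x hx =>
      obtain ⟨a, b, rfl⟩ := hx
      obtain ⟨a, rfl⟩ := hm.2 a
      obtain ⟨b, rfl⟩ := hm.2 b
      refine ⟨_, Submodule.subset_span ⟨a, b, rfl⟩, ?_⟩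
      rw [map_sub, LinearMap.map_smulₛₗ, LinearMap.map_smulₛₗ, PresHom.jmap_relModMap, PresHom.jmap_relModMap]
    | zero => exact ⟨0, Submodule.zero_mem _, map_zero _⟩
    | add x y _ _ hx hy =>
      obtain ⟨a, ha, rfl⟩ := hx
      obtain ⟨b, hb, rfl⟩ := hy
      exact ⟨a + b, Submodule.add_mem _ ha hb, map_add _ _ _⟩
    | smul r x _ hx =>
      obtain ⟨a, ha, rfl⟩ := hx
      obtain ⟨r, rfl⟩ := hr.2 r
      exact ⟨r • a, Submodule.smul_mem _ _ ha, LinearMap.map_smulₛₗ _ _ _⟩
  have hk : Function.Bijective h.relKerMap := by
    refine ⟨fun a b e => Subtype.ext (hm.1 (congrArg Subtype.val e)), fun q => ?_⟩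
    obtain ⟨f, hf⟩ := hm.2 (q : relMod P')
    have hz : h.ringHom (jmap P f) = 0 := by
      rw [← PresHom.jmap_relModMap, hf]
      exact q.2
    exact ⟨⟨f, hr.1 (hz.trans (map_zero _).symm)⟩, Subtype.ext hf⟩
  have cls_map : ∀ q, h.L2map (cls P q) = cls P' (h.relKerMap q) := fun q => by
    rw [cls_apply, PresHom.L2map_mk_tmul, map_one]
    rfl
  -- relations killed in the target are trivial
  have hLkey : ∀ q q', h.relKerMap q = q' → cls P' q' = 0 → cls P q = 0 := by
    intro q q' e hq'
    have htriv : (q' : relMod P') ∈ trivRel P' := mem_trivRel_of_cls_eq_zero P' hq'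
    obtain ⟨x, hx, hxy⟩ := hlift _ htriv
    refine cls_eq_zero P ?_
    have : x = (q : relMod P) := hm.1 (by rw [hxy, ← e]; rfl)
    rw [← this]
    exact hx
  have hL2 : Function.Bijective h.L2map := by
    refine ⟨(injective_iff_map_eq_zero _).2 fun z hz => ?_, fun z => ?_⟩
    · obtain ⟨q, rfl⟩ := cls_surjective P z
      exact hLkey q _ rfl (by rw [← cls_map, hz])
    · obtain ⟨q', rfl⟩ := cls_surjective P' z
      obtain ⟨q, rfl⟩ := hk.2 q'
      exact ⟨cls P q, cls_map q⟩
  have hp2 : Function.Bijective (h.pull2 M) := by
    refine ⟨fun x y e => LinearMap.ext fun z => ?_, fun ψ => ?_⟩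
    · obtain ⟨w, rfl⟩ := hL2.2 z
      exact LinearMap.congr_fun e w
    · let l : L2 P →ₗ[B] L2 P' :=
        { toFun := fun z => h.L2map z
          map_add' := fun x y => map_add h.L2map x y
          map_smul' := fun c x => (LinearMap.map_smulₛₗ h.L2map c x).trans rfl }
      let L : L2 P ≃ₗ[B] L2 P' := LinearEquiv.ofBijective l hL2
      refine ⟨ψ ∘ₗ L.symm.toLinearMap, LinearMap.ext fun z => ?_⟩
      change ψ (L.symm (L z)) = ψ z
      rw [LinearEquiv.symm_apply_apply]
  have hp1 : Function.Surjective (h.pull1 M) := fun φ => by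
    let g : relMod P' → relMod P := Function.surjInv hm.2
    refine ⟨(L1basis P').constr ℕ fun s => φ ((1 : B) ⊗ₜ g (Finsupp.single s 1)), LinearMap.ext fun z => ?_⟩
    set χ := (L1basis P').constr ℕ fun s => φ ((1 : B) ⊗ₜ g (Finsupp.single s 1))
    have key : ∀ y : relMod P', χ ((1 : B) ⊗ₜ y) = φ ((1 : B) ⊗ₜ g y) := fun y => by
      induction y using Finsupp.induction_linear with
      | zero =>
        have : g 0 = 0 := hm.1 ((Function.surjInv_eq hm.2 0).trans (map_zero _).symm)
        rw [this, TensorProduct.tmul_zero, TensorProduct.tmul_zero, map_zero, map_zero]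
      | add a b ha hb =>
        have : g (a + b) = g a + g b := hm.1 (by
          simp only [g, map_add, Function.surjInv_eq hm.2])
        rw [this, TensorProduct.tmul_add, TensorProduct.tmul_add, map_add, map_add, ha, hb]
      | single s r =>
        obtain ⟨r, rfl⟩ := hr.2 r
        have hg : g (Finsupp.single s (h.ringHom r)) = r • g (Finsupp.single s 1) := hm.1 (by
          simp only [g, LinearMap.map_smulₛₗ, Function.surjInv_eq hm.2, Finsupp.smul_single, smul_eq_mul, mul_one])
        rw [hg, show (Finsupp.single s (h.ringHom r) : relMod P') = h.ringHom r • Finsupp.single s 1 by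
          rw [Finsupp.smul_single, smul_eq_mul, mul_one], TensorProduct.tmul_smul, TensorProduct.tmul_smul,
          ← algebraMap_smul B (h.ringHom r), ← algebraMap_smul B r, map_smul, map_smul, h.algebraMap_ringHom,
          Algebra.algebraMap_self, RingHom.id_apply, ← L1basis_apply, Module.Basis.constr_basis]
    obtain ⟨f, rfl⟩ := exists_one_tmul P z
    rw [PresHom.pull1_apply, PresHom.L1map_tmul, map_one, key, show g (h.relModMap f) = f from
      hm.1 (Function.surjInv_eq hm.2 _)]
  refine ⟨(injective_iff_map_eq_zero _).2 fun y hy => ?_, fun y => ?_⟩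
  · induction y using Submodule.Quotient.induction_on with
    | H ψ =>
      change (Submodule.Quotient.mk (h.pull2 M ψ) : T2 P M) = 0 at hy
      obtain ⟨χ, hχ⟩ := (T2_mk_eq_zero_iff P M _).1 hy
      obtain ⟨χ, rfl⟩ := hp1 χ
      refine (T2_mk_eq_zero_iff P' M _).2 ⟨χ, hp2.1 ?_⟩
      rw [← hχ]
      exact h.pull2_d2Star M χ
  · induction y using Submodule.Quotient.induction_on with
    | H ψ =>
      obtain ⟨χ, rfl⟩ := hp2.2 ψ
      exact ⟨Submodule.Quotient.mk χ, rfl⟩


/-- Let k be a commutative ring, B a k-algebra and P a presentation of B over k with polynomial ring R =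
k[x_i] (any set of variables), so that B = R/I; let P' be a presentation of B over R with no
polynomial variables (R itself mapping onto B, with chosen generators of I), and M a B-module. Then
T^2(B/R, M), computed from P', and T^2(B/k, M), computed from P, are isomorphic B-modules.
(Existence of a B-linear isomorphism only; the published statement has finitely many variables over
a field and notes that any base ring works.) -/
theorem result
    (k B : Type u) [CommRing k] [CommRing B] [Algebra k B] (ι σ ι' σ' : Type w)
    (P : Algebra.Presentation k B ι σ) [IsEmpty ι']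
    (P' : Algebra.Presentation P.toExtension.Ring B ι' σ')
    (M : Type m) [AddCommGroup M] [Module B M] :
    Nonempty (CotT.T2 P' M ≃ₗ[B] CotT.T2 P M) := by
  obtain ⟨P'', h, hring, hval⟩ := exists_collapse P
  have hrb : Function.Bijective h.ringHom := by
    rw [show (h.ringHom : P.toExtension.Ring → P''.toExtension.Ring) =
      (MvPolynomial.isEmptyRingEquiv P.toExtension.Ring PEmpty.{1}).symm from funext hring]
    exact RingEquiv.bijective _
  have hmr : ∀ f, h.relModMap f = Finsupp.mapRange h.ringHom (map_zero _) f := fun f => by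
    induction f using Finsupp.induction_linear with
    | zero => simp
    | add f g hf hg => rw [map_add, hf, hg, Finsupp.mapRange_add (map_add _)]
    | single s r =>
      rw [CotT.PresHom.relModMap_single, hval, Finsupp.mapRange_single, Finsupp.smul_single, smul_eq_mul, mul_one]
  have hmb : Function.Bijective h.relModMap := by
    rw [show (h.relModMap : CotT.relMod P → CotT.relMod P'') = Finsupp.mapRange h.ringHom (map_zero _) from
      funext hmr]
    exact ⟨Finsupp.mapRange_injective _ (map_zero _) hrb.1, Finsupp.mapRange_surjective _ (map_zero _) hrb.2⟩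
  exact ⟨(Groth.Agent.CotTLib.T2equiv P' M P'').trans
    (LinearEquiv.ofBijective (h.T2pull M) (T2pull_bijective h hrb hmb M))⟩

end Groth.Agent.S12295
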