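import Groth.Statements.S12297
import Groth.Agent.CotTLib.Localization
import Groth.Agent.CotTLib.Smooth

set_option autoImplicit false
universe u w m
open scoped TensorProduct
open DefT

namespace Groth.Agent.S12297

/-- Let k be an algebraically closed field, B a finitely generated k-algebra, m a maximal ideal of B and
B_m the localization, a local k-algebra with residue field k. Then B_m is a regular local ring if
and only if T^1(B_m/k, M) = 0 for all B_m-modules M, and in that case T^2(B_m/k, M) = 0 for all M as
well; the T^i are computed from the choice-free presentation of B_m over k. (The published statement
is for a local k-algebra with residue field k, k algebraically closed, proved by localization from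
the finitely generated case; this row states it for the localizations of finitely generated
k-algebras at maximal ideals, the case that proof covers.) -/
theorem result
    (k B : Type u) [Field k] [IsAlgClosed k] [CommRing B] [Algebra k B] [Algebra.FiniteType k B]
    (m : Ideal B) [m.IsMaximal] :
    (IsRegularLocalRing (Localization.AtPrime m) ↔
      ∀ (M : Type u) [AddCommGroup M] [Module (Localization.AtPrime m) M],
        Subsingleton (CotT.T1 (CotT.canon k (Localization.AtPrime m)) M)) ∧
    (IsRegularLocalRing (Localization.AtPrime m) →
      ∀ (M : Type u) [AddCommGroup M] [Module (Localization.AtPrime m) M],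
        Subsingleton (CotT.T2 (CotT.canon k (Localization.AtPrime m)) M)) := by
  have := Groth.Agent.CotTLib.isGeometricallyReduced_residueField k B m
  have hiff : Algebra.FormallySmooth k (Localization.AtPrime m) ↔ IsRegularLocalRing (Localization.AtPrime m) :=
    Groth.Agent.S9442.result k B m
  refine ⟨hiff.symm.trans Groth.Agent.CotTLib.formallySmooth_iff_T1_canon, fun h M _ _ => ?_⟩
  have := hiff.2 h
  have : Algebra.FinitePresentation k B := Algebra.FinitePresentation.of_finiteType.1 inferInstance
  obtain ⟨f, hf, hsm⟩ := Algebra.IsSmoothAt.exists_notMem_smooth (R := k) m
  exact Groth.Agent.CotTLib.subsingleton_T2_atPrime k B m f hf M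

end Groth.Agent.S12297
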