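import Groth.Statements.S12299
import Groth.Agent.ArtFunLib.Hull

set_option autoImplicit false
universe u v
open CategoryTheory
open ArtFun

namespace Groth.Agent.S12299

open Groth.Agent.ArtFunLib

/-- Let k be an algebraically closed field, F a set-valued functor on local Artinian k-algebras with
residue field k, and (R, ξ) a miniversal family for F, with R a complete local Noetherian k-algebra
with residue field k: the morphism h_R → F has the lifting property along surjections and is
bijective on the dual numbers. Let S be a complete local Noetherian k-algebra with residue field k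
and g₁, g₂ : R → S two k-algebra maps compatible with the augmentations along which ξ induces the
same formal family over S (the same compatible sequence in the F(S/m^(n+1))). Then g₁ and g₂ induce
the same map R → S/m_S², so the map R/m_R² → S/m_S² attached to a formal family over S is well
defined. (Coefficient rings are taken Noetherian here.) -/
theorem result
    {k : Type u} [Field k] [IsAlgClosed k] {F : ArtFun.Art k k ⥤ Type v}
    (R : ArtFun.CRing k k) (ξ : ArtFun.Family R.carrier R.res F) (hξ : ArtFun.IsMiniversal ξ)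
    (S : ArtFun.CRing k k) (g₁ g₂ : R.carrier →ₐ[k] S.carrier)
    (hg₁ : S.res.comp g₁ = R.res) (hg₂ : S.res.comp g₂ = R.res)
    (h : (ξ.along g₁ hg₁).toFormalElt = (ξ.along g₂ hg₂).toFormalElt) :
    (S.truncHom 1).1.comp g₁ = (S.truncHom 1).1.comp g₂ := by
  haveI : Module.Finite k k := inferInstance
  let φ₁ : ArtFun.HomSet R.carrier R.res (S.trunc 1) :=
    ⟨(S.truncHom 1).1.comp g₁, by rw [← AlgHom.comp_assoc, (S.truncHom 1).2, hg₁]⟩
  let φ₂ : ArtFun.HomSet R.carrier R.res (S.trunc 1) :=
    ⟨(S.truncHom 1).1.comp g₂, by rw [← AlgHom.comp_assoc, (S.truncHom 1).2, hg₂]⟩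
  have e : ξ.app _ φ₁ = ξ.app _ φ₂ := congrArg (fun u => u.elt 1) h
  let σ : ArtFun.Art.base k k ⟶ S.trunc 1 :=
    ⟨Algebra.ofId k _, AlgHom.ext fun c => (S.trunc 1).res.commutes c⟩
  have hE : IsLocalRing.maximalIdeal (S.trunc 1) ^ 2 = ⊥ := by
    refine le_bot_iff.1 ((Ideal.pow_right_mono (ArtFun.CRing.maximalIdeal_quot_le S 1) 2).trans ?_)
    rw [← Ideal.map_pow, Ideal.map_le_iff_le_comap]
    exact fun a ha => Ideal.mem_comap.2 (Ideal.mem_bot.2 (Ideal.Quotient.eq_zero_iff_mem.2 ha))
  refine AlgHom.ext fun a => ?_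
  by_contra hne
  have hm : φ₁.1 a - φ₂.1 a ∈ IsLocalRing.maximalIdeal (S.trunc 1) := by
    rw [ArtFun.Art.mem_maximalIdeal_iff, map_sub, sub_eq_zero]
    exact (congrArg (fun f : R.carrier →ₐ[k] k => f a) φ₁.2).trans
      (congrArg (fun f : R.carrier →ₐ[k] k => f a) φ₂.2).symm
  obtain ⟨ψ, hψ, -⟩ := exists_toDual_ne_zero σ hE hm (sub_ne_zero.2 hne)
  have := hξ.2.1 (show ξ.app _ (ArtFun.HomSet.map ψ φ₁) = ξ.app _ (ArtFun.HomSet.map ψ φ₂) by
    rw [ξ.natural, ξ.natural, e])
  refine hψ ?_
  rw [map_sub, show ψ (φ₁.1 a) = ψ (φ₂.1 a) from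
    congrArg (fun t : ArtFun.HomSet R.carrier R.res _ => t.1 a) this, sub_self]
  rfl

end Groth.Agent.S12299
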