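import Groth.Statements.S12304
import Groth.Agent.ArtFunLib.Smooth
import Mathlib.AlgebraicGeometry.Noetherian

set_option autoImplicit false
universe u
open CategoryTheory CategoryTheory.Limits AlgebraicGeometry
open ArtFun

namespace Groth.Agent.S12304

section Aux

open Groth.Agent.ArtFunLib

lemma subsingleton_spec {k : Type u} [Field k] (A : ArtFun.Art k k) : Subsingleton ↥(ArtFun.Art.spec A) :=
  ⟨fun p q => PrimeSpectrum.ext (by
    have hp : p.asIdeal.IsMaximal := IsArtinianRing.isMaximal_of_isPrime p.asIdeal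
    have hq : q.asIdeal.IsMaximal := IsArtinianRing.isMaximal_of_isPrime q.asIdeal
    exact (IsLocalRing.eq_maximalIdeal hp).trans (IsLocalRing.eq_maximalIdeal hq).symm)⟩

end Aux

/-- Let k be an algebraically closed field, M a locally Noetherian k-scheme and x₀ : Spec k → M a
k-rational point. For a local Artinian k-algebra A with residue field k consider the k-morphisms
Spec A → M whose restriction along the closed point Spec k → Spec A is x₀ (the local functor of M at
x₀, a morphism A → B acting by composition with Spec B → Spec A). This functor is pro-representable: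
there are a complete local Noetherian k-algebra R with residue field k and bijections, natural in A,
between the augmentation-compatible k-algebra maps R → A and these morphisms. (The published
statement is phrased for the fine moduli scheme M of a moduli problem, whose local functor at the
point of a given object is this one; M is taken locally Noetherian here so that the coefficient ring
is Noetherian.) -/
theorem result
    {k : Type u} [Field k] [IsAlgClosed k] (M : Scheme.{u}) (m : M ⟶ Spec (CommRingCat.of k))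
    [IsLocallyNoetherian M] (x₀ : Spec (CommRingCat.of k) ⟶ M) (hx₀ : x₀ ≫ m = 𝟙 _) :
    ∃ (R : ArtFun.CRing k k)
      (e : ∀ A : ArtFun.Art k k, ArtFun.HomSet R.carrier R.res A ≃
        {g : ArtFun.Art.spec A ⟶ M // g ≫ m = ArtFun.Art.specMap (ArtFun.Art.ofBase A) ∧ ArtFun.Art.specRes A ≫ g = x₀}),
      ∀ (A B : ArtFun.Art k k) (h : A ⟶ B) (φ : ArtFun.HomSet R.carrier R.res A),
        ((e B) (ArtFun.HomSet.map h φ)).1 = ArtFun.Art.specMap h ≫ ((e A) φ).1 := by
  open Groth.Agent.ArtFunLib in
  obtain ⟨U, hU, hxU, -⟩ := exists_isAffineOpen_mem_and_subset (U := (⊤ : M.Opens))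
    (x := x₀ default) trivial
  let B : CommRingCat.{u} := Γ(M, U)
  let j : Spec B ⟶ M := hU.fromSpec
  haveI : IsNoetherianRing B := IsLocallyNoetherian.component_noetherian ⟨U, hU⟩
  let α : CommRingCat.of k ⟶ B := Spec.preimage (j ≫ m)
  letI : Algebra k B := α.hom.toAlgebra
  have hrange : ∀ {A : ArtFun.Art k k} (g : ArtFun.Art.spec A ⟶ M), ArtFun.Art.specRes A ≫ g = x₀ →
      Set.range g ⊆ Set.range j := fun {A} g hg => by
    rintro _ ⟨p, rfl⟩
    rw [show Set.range j = (U : Set M) from hU.range_fromSpec]
    haveI := subsingleton_spec A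
    rw [Subsingleton.elim p (ArtFun.Art.specRes A default)]
    rw [← Scheme.Hom.comp_apply, hg]
    exact hxU
  have hx₀r : Set.range x₀ ⊆ Set.range j := by
    rintro _ ⟨p, rfl⟩
    rw [show Set.range j = (U : Set M) from hU.range_fromSpec]
    haveI : Subsingleton ↥(Spec (CommRingCat.of k)) := inferInstanceAs (Subsingleton (PrimeSpectrum k))
    rw [Subsingleton.elim p default]
    exact hxU
  let r : B ⟶ CommRingCat.of k := Spec.preimage (IsOpenImmersion.lift j x₀ hx₀r)
  have hr : Spec.map r ≫ j = x₀ := by rw [Spec.map_preimage, IsOpenImmersion.lift_fac]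
  have hα : Spec.map α = j ≫ m := Spec.map_preimage _
  have hαr : α ≫ r = 𝟙 _ := by
    apply Spec.map_injective
    rw [Spec.map_comp, hα, ← Category.assoc, hr, hx₀, Spec.map_id]
  let resB : B →ₐ[k] k :=
    { r.hom with commutes' := fun c => congrArg (fun f : CommRingCat.of k ⟶ CommRingCat.of k => f.hom c) hαr }
  have hsurj : Function.Surjective resB := fun c => ⟨algebraMap k B c, resB.commutes c⟩
  obtain ⟨P, ι, hP⟩ := exists_dense (Λ := k) (Q := B) (resQ := resB) hsurj
  have hto : ∀ {A : ArtFun.Art k k} (φ : ArtFun.HomSet P.carrier P.res A),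
      ((Spec.map (CommRingCat.ofHom (φ.1.comp ι).toRingHom) ≫ j) ≫ m = ArtFun.Art.specMap (ArtFun.Art.ofBase A)) ∧
      ArtFun.Art.specRes A ≫ Spec.map (CommRingCat.ofHom (φ.1.comp ι).toRingHom) ≫ j = x₀ := fun {A} φ => by
    refine ⟨?_, ?_⟩
    · rw [Category.assoc, ← hα, ← Spec.map_comp]
      congr 1
      exact CommRingCat.hom_ext (RingHom.ext fun c => (φ.1.comp ι).commutes c)
    · rw [← Category.assoc, ← Spec.map_comp, ← hr]
      congr 2
      refine CommRingCat.hom_ext (RingHom.ext fun b => ?_)
      exact (congrArg (fun f : P.carrier →ₐ[k] k => f (ι b)) φ.2).trans (congrArg (fun f : B →ₐ[k] k => f b) hP.res)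
  refine ⟨P, fun A => Equiv.ofBijective (fun φ => ⟨_, hto φ⟩) ⟨fun φ₁ φ₂ h => ?_, fun g => ?_⟩, fun A B' h φ => ?_⟩
  · refine hP.homSet_ext (AlgHom.coe_ringHom_injective ?_)
    have h1 := (cancel_mono j).1 (congrArg Subtype.val h)
    exact congrArg CommRingCat.Hom.hom (Spec.map_injective h1)
  · obtain ⟨g, hg₁, hg₂⟩ := g
    let ψ : B ⟶ CommRingCat.of A := Spec.preimage (IsOpenImmersion.lift j g (hrange g hg₂))
    have hψ : Spec.map ψ ≫ j = g := by rw [Spec.map_preimage, IsOpenImmersion.lift_fac]
    have hc : α ≫ ψ = CommRingCat.ofHom (algebraMap k A) := by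
      apply Spec.map_injective
      rw [Spec.map_comp, hα, ← Category.assoc, hψ, hg₁]
      rfl
    let ψA : B →ₐ[k] A :=
      { ψ.hom with commutes' := fun c => congrArg (fun f : CommRingCat.of k ⟶ CommRingCat.of A => f.hom c) hc }
    have hres : A.res.comp ψA = resB := by
      refine AlgHom.coe_ringHom_injective ?_
      have h1 : ψ ≫ CommRingCat.ofHom A.res.toRingHom = r := by
        apply Spec.map_injective
        rw [← cancel_mono j, Spec.map_comp, Category.assoc, hψ, hr]
        exact hg₂
      exact congrArg CommRingCat.Hom.hom h1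
    obtain ⟨φ, hφ⟩ := hP.exists_extend ⟨ψA, hres⟩
    refine ⟨φ, Subtype.ext ?_⟩
    change Spec.map (CommRingCat.ofHom (φ.1.comp ι).toRingHom) ≫ j = g
    rw [hφ, ← hψ]
    rfl
  · change Spec.map (CommRingCat.ofHom ((h.toAlgHom.comp φ.1).comp ι).toRingHom) ≫ j =
      ArtFun.Art.specMap h ≫ Spec.map (CommRingCat.ofHom (φ.1.comp ι).toRingHom) ≫ j
    rw [← Category.assoc (ArtFun.Art.specMap h), ← Spec.map_comp]
    rfl

end Groth.Agent.S12304
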