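import Groth.Statements.S12306
import Groth.Agent.CotTLib.SmoothAway
import Groth.Agent.CotTLib.Rigid

set_option autoImplicit false
universe u
open CotT

namespace Groth.Agent.S12306

/-- Let k be an algebraically closed field and B₀ a finitely generated k-algebra which is not smooth
over k and is rigid, in the sense that the cotangent module T¹(B₀/k, B₀) (from the choice-free
presentation) vanishes. Let A be a finitely generated k-algebra which is a domain, smooth over k of
Krull dimension one, t ∈ A an element generating a maximal ideal, and B a finitely generated flat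
A-algebra, a k-algebra compatibly with A, whose fibre B/tB is k-isomorphic to B₀. Then this family
does not smooth Spec B₀: there is a prime of B not containing t at which B is not smooth over A.
(The published statement asserts that a singular rigid scheme admits no smoothing by any flat
family; this row states it for flat families with affine total space over an affine nonsingular
curve whose point is cut out by one equation.) -/
theorem result
    {k : Type u} [Field k] [IsAlgClosed k] (B₀ : Type u) [CommRing B₀] [Algebra k B₀] [Algebra.FiniteType k B₀]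
    (hsing : ¬ Algebra.Smooth k B₀) (hrigid : Subsingleton (CotT.T1 (CotT.canon k B₀) B₀))
    (A B : Type u) [CommRing A] [CommRing B] [IsDomain A] [Algebra k A] [Algebra.FiniteType k A]
    [Algebra.Smooth k A] (hdim : ringKrullDim A = 1) (t : A) (ht : (Ideal.span {t}).IsMaximal)
    [Algebra A B] [Algebra.FiniteType A B] [Module.Flat A B] [Algebra k B] [IsScalarTower k A B]
    (e : (B ⧸ Ideal.span {algebraMap A B t}) ≃ₐ[k] B₀) :
    ∃ q : PrimeSpectrum B, algebraMap A B t ∉ q.asIdeal ∧ q ∉ Algebra.smoothLocus A B := by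
  by_contra hcon
  push_neg at hcon
  have : IsNoetherianRing A := Algebra.FiniteType.isNoetherianRing k A
  have : Algebra.FinitePresentation A B := Algebra.FinitePresentation.of_finiteType.1 inferInstance
  let P := Algebra.Presentation.ofFinitePresentation A B
  obtain ⟨N, φ, hφ⟩ := CotTLib.exists_pow_factor_of_basicOpen_subset P (algebraMap A B t)
    fun q hq => hcon q hq
  have htor := CotTLib.Rigid.torsionBy_of_factor P.toExtension t N φ hφ
  -- `t` is a nonzero element with residue field `k`
  have ht0 : t ≠ 0 := by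
    rintro rfl
    rw [Ideal.span_singleton_eq_bot.2 rfl] at ht
    have hA : IsField A := Ring.isField_iff_maximal_bot.2 ht
    letI := hA.toField
    rw [ringKrullDim_eq_zero_of_field] at hdim
    exact zero_ne_one hdim
  have htN : t ^ N ∉ Ideal.span {t ^ (N + 1)} := by
    rw [Ideal.mem_span_singleton']
    rintro ⟨c, hc⟩
    refine ht.ne_top (Ideal.span_singleton_eq_top.2 ?_)
    have h : c * t = 1 := mul_right_cancel₀ (pow_ne_zero N ht0)
      (by rw [one_mul, mul_assoc, ← pow_succ', hc])
    exact IsUnit.of_mul_eq_one c (by rw [mul_comm, h])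
  obtain ⟨ε₀, hεt, hdec⟩ : ∃ ε₀ : A →ₐ[k] k, ε₀ t = 0 ∧
      ∀ a : A, ∃ (c : k) (a' : A), a = algebraMap k A c + t * a' := by
    have := ht
    letI := Ideal.Quotient.field (Ideal.span {t})
    have : Module.Finite k (A ⧸ Ideal.span {t}) :=
      finite_of_finite_type_of_isJacobsonRing k (A ⧸ Ideal.span {t})
    have hbij := IsAlgClosed.algebraMap_bijective_of_isIntegral (k := k) (K := A ⧸ Ideal.span {t})
    refine ⟨(AlgEquiv.ofBijective (Algebra.ofId k _) hbij).symm.toAlgHom.comp
      (Ideal.Quotient.mkₐ k _), ?_, fun a => ?_⟩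
    · rw [AlgHom.comp_apply, show Ideal.Quotient.mkₐ k (Ideal.span {t}) t = 0 from
        Ideal.Quotient.eq_zero_iff_mem.2 (Ideal.mem_span_singleton_self t), map_zero]
    · obtain ⟨c, hc⟩ := hbij.2 (Ideal.Quotient.mk _ a)
      have hm : a - algebraMap k A c ∈ Ideal.span {t} :=
        Ideal.Quotient.eq.1 hc.symm
      obtain ⟨a', ha'⟩ := Ideal.mem_span_singleton'.1 hm
      exact ⟨c, a', by rw [mul_comm, ha']; ring⟩
  have hreg : ∀ b : B, algebraMap A B t * b = 0 → b = 0 := fun b hb =>
    ((Module.Flat.isSMulRegular_of_nonZeroDivisors (M := B)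
      (mem_nonZeroDivisors_of_ne_zero ht0)).right_eq_zero_of_smul (by rw [Algebra.smul_def, hb]))
  -- rigidity trivialises the family to order `N`
  let P₀ := CotT.canon k B₀
  have hr : ∀ χ : P₀.toExtension.Cotangent →ₗ[B₀] B₀,
      ∃ ψ : P₀.toExtension.CotangentSpace →ₗ[B₀] B₀, ψ ∘ₗ P₀.toExtension.cotangentComplex = χ :=
    fun χ => (CotTLib.homToT1_eq_zero_iff P₀ B₀ χ).1 (Subsingleton.elim _ _)
  have : Algebra.FormallySmooth k P₀.toExtension.Ring :=
    inferInstanceAs (Algebra.FormallySmooth k (MvPolynomial B₀ k))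
  have : Algebra.FormallySmooth A P.toExtension.Ring :=
    inferInstanceAs (Algebra.FormallySmooth A (MvPolynomial _ A))
  obtain ⟨σ, hσ⟩ := CotTLib.Rigid.exists_section hreg e P₀.toExtension hr N
  -- every square-zero extension of `B₀` splits
  apply hsing
  let f : MvPolynomial B₀ k →ₐ[k] B₀ := MvPolynomial.aeval id
  have hf : Function.Surjective f := fun b => ⟨MvPolynomial.X b, MvPolynomial.aeval_X _ _⟩
  let E₀ := MvPolynomial B₀ k ⧸ RingHom.ker f.toRingHom ^ 2
  let π₀ : E₀ →ₐ[k] B₀ := f.kerSquareLift
  have hπ₀ : ∀ x, π₀ (Ideal.Quotient.mk _ x) = f x := fun x => rfl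
  have hsq : ∀ x y, π₀ x = 0 → π₀ y = 0 → x * y = 0 := fun x y hx hy => by
    obtain ⟨x, rfl⟩ := Ideal.Quotient.mk_surjective x
    obtain ⟨y, rfl⟩ := Ideal.Quotient.mk_surjective y
    rw [← map_mul, Ideal.Quotient.eq_zero_iff_mem, pow_two]
    exact Ideal.mul_mem_mul hx hy
  obtain ⟨ψ, hψ, hψ0⟩ := CotTLib.Rigid.rigid_splits hdec ε₀ hεt htN hreg e σ hσ P.toExtension htor π₀
    (fun b => ⟨Ideal.Quotient.mk _ (MvPolynomial.X b), (hπ₀ _).trans (MvPolynomial.aeval_X _ _)⟩) hsq
    (fun b : B₀ => Ideal.Quotient.mk _ (MvPolynomial.X b))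
  have hval : ∀ x, π₀ (MvPolynomial.aeval (fun b : B₀ =>
      (Ideal.Quotient.mk _ (MvPolynomial.X b) : E₀)) x) = f x := fun x => by
    have : π₀.comp (MvPolynomial.aeval fun b : B₀ =>
        (Ideal.Quotient.mk _ (MvPolynomial.X b) : E₀)) = f := MvPolynomial.algHom_ext fun b => by
      rw [AlgHom.comp_apply, MvPolynomial.aeval_X, hπ₀]
    exact AlgHom.congr_fun this x
  let s : B₀ →ₐ[k] E₀ := (Ideal.Quotient.liftₐ (RingHom.ker f) ψ fun x hx => hψ0 x ((hval x).trans hx)).comp
    (Ideal.quotientKerAlgEquivOfSurjective hf).symm.toAlgHom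
  have : Algebra.FormallySmooth k B₀ := (Algebra.FormallySmooth.iff_split_surjection f hf).2
    ⟨s, AlgHom.ext fun b => by
      obtain ⟨x, rfl⟩ := hf b
      have h1 : (Ideal.quotientKerAlgEquivOfSurjective hf).symm (f x) = Ideal.Quotient.mk _ x :=
        (AlgEquiv.symm_apply_eq _).2 rfl
      simp only [s, AlgHom.comp_apply, AlgHom.id_apply, AlgEquiv.coe_toAlgHom, h1]
      exact (hψ x).trans (hval x)⟩
  exact ⟨this, Algebra.FinitePresentation.of_finiteType.1 inferInstance⟩

end Groth.Agent.S12306
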