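import Groth.Statements.S12308
import Groth.Agent.AffDef.AffHull

set_option autoImplicit false
universe u
open CategoryTheory AlgebraicGeometry
open SGA7

namespace Groth.Agent.S12308

/-- Suppose Λ is a Noetherian local ring, complete for its maximal ideal, whose residue field is k (so
the map Λ → k is surjective), and work with functors on local Artinian Λ-algebras having residue
field k. Take X₀ to be an affine scheme of finite type over k, together with an open subscheme U ⊆
X₀ that is smooth over k and has finite complement (thus X₀ fails to be smooth at only finitely many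
points). Under these assumptions the deformation functor of X₀, which sends A to isomorphism classes
of schemes flat over Spec A whose closed fibre is X₀, has a hull; equivalently, there is a
miniversal family defined over a complete local Noetherian Λ-algebra with residue field k. -/
theorem result (Λ k : Type u) [CommRing Λ] [IsLocalRing Λ] [IsNoetherianRing Λ]
    [IsAdicComplete (IsLocalRing.maximalIdeal Λ) Λ] [Field k] [Algebra Λ k]
    (hk : Function.Surjective (algebraMap Λ k))
    (X : Scheme.{u}) [IsAffine X] (x : X ⟶ Spec (CommRingCat.of k)) [LocallyOfFiniteType x]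
    (U : X.Opens) (hU : Smooth (U.ι ≫ x)) (hfin : ((U : Set X)ᶜ).Finite) :
    ArtFun.HasHull (ArtFun.defFunctor (Λ := Λ) X x) := by
  haveI : Module.Finite Λ k := Module.Finite.of_surjective (Algebra.linearMap Λ k) hk
  letI : Algebra k Γ(X, ⊤) := (DefSchLib.str x ⊤).toAlgebra
  let α : Spec (CommRingCat.of Γ(X, ⊤)) ≅ X := X.isoSpec.symm
  have hα : α.hom ≫ x = Spec.map (CommRingCat.ofHom (algebraMap k Γ(X, ⊤))) := by
    change X.isoSpec.inv ≫ x = Spec.map (CommRingCat.ofHom (DefSchLib.str x ⊤))
    rw [DefSchLib.specMap_str x (isAffineOpen_top X), IsAffineOpen.fromSpec_top]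
  haveI : Algebra.FiniteType k Γ(X, ⊤) := by
    have h : LocallyOfFiniteType (Spec.map (CommRingCat.ofHom (algebraMap k Γ(X, ⊤)))) := hα ▸ inferInstance
    exact RingHom.finiteType_algebraMap.1 ((HasRingHomProperty.Spec_iff (P := @LocallyOfFiniteType)).1 h)
  haveI : Algebra.FinitePresentation k Γ(X, ⊤) := Algebra.FinitePresentation.of_finiteType.1 inferInstance
  haveI : IsNoetherianRing Γ(X, ⊤) := Algebra.FiniteType.isNoetherianRing k _
  let P := (Algebra.Presentation.ofFinitePresentation k Γ(X, ⊤)).reindex
    (Equiv.ulift : ULift.{u} _ ≃ _) (Equiv.ulift : ULift.{u} _ ≃ _)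
  have hns : ((Algebra.smoothLocus k Γ(X, ⊤))ᶜ).Finite := by
    refine (hfin.preimage (f := fun p => α.hom p) (α.hom.isOpenEmbedding.injective.injOn)).subset ?_
    intro p hp hpU
    refine hp ?_
    obtain ⟨f, hpf, hf⟩ : ∃ f, p ∈ PrimeSpectrum.basicOpen f ∧
        (PrimeSpectrum.basicOpen f : Set (PrimeSpectrum Γ(X, ⊤))) ⊆ α.hom ⁻¹' (U : Set X) := by
      obtain ⟨_, ⟨f, rfl⟩, h1, h2⟩ := PrimeSpectrum.isTopologicalBasis_basic_opens.exists_subset_of_mem_open hpU
        (α.hom.continuous.isOpen_preimage _ U.isOpen)
      exact ⟨f, h1, h2⟩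
    refine (Algebra.basicOpen_subset_smoothLocus_iff_smooth.2 ?_) hpf
    let Rf := Localization.Away f
    let j : Spec (CommRingCat.of Rf) ⟶ Spec (CommRingCat.of Γ(X, ⊤)) :=
      Spec.map (CommRingCat.ofHom (algebraMap _ Rf))
    haveI : IsOpenImmersion j := IsOpenImmersion.of_isLocalization f
    have hr : Set.range (j ≫ α.hom) ⊆ Set.range U.ι := by
      rw [Scheme.Opens.range_ι]
      rintro _ ⟨q, rfl⟩
      exact hf ((PrimeSpectrum.localization_away_comap_range Rf f).subset ⟨q, rfl⟩)
    have hsm : Smooth (Spec.map (CommRingCat.ofHom (algebraMap k Rf))) := by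
      have e : Spec.map (CommRingCat.ofHom (algebraMap k Rf)) =
          IsOpenImmersion.lift U.ι (j ≫ α.hom) hr ≫ (U.ι ≫ x) := by
        rw [IsOpenImmersion.lift_fac_assoc, Category.assoc, hα, ← Spec.map_comp, ← CommRingCat.ofHom_comp,
          ← IsScalarTower.algebraMap_eq]
      haveI : IsOpenImmersion (IsOpenImmersion.lift U.ι (j ≫ α.hom) hr) :=
        haveI : IsOpenImmersion (IsOpenImmersion.lift U.ι (j ≫ α.hom) hr ≫ U.ι) := by
          rw [IsOpenImmersion.lift_fac]; infer_instance
        IsOpenImmersion.of_comp _ U.ι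
      rw [e]
      infer_instance
    exact RingHom.smooth_algebraMap.1 ((HasRingHomProperty.Spec_iff (P := @Smooth)).1 hsm)
  haveI := AffDef.finite_T1_of_finite_nonsmooth P hns
  exact AffDef.hasHull α hα P hk

end Groth.Agent.S12308
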