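import Groth.Statements.S12310
import Groth.Agent.LCIDef67.Lift
import Groth.Agent.AffDef.Basic
import Groth.Agent.ArtFunLib.Basic

set_option autoImplicit false
universe u
open CategoryTheory AlgebraicGeometry
open SGA7

namespace Groth.Agent.S12310

section

open ArtFun ArtFun.Art IsLocalRing

variable {Λ k : Type u} [CommRing Λ] [Field k] [Algebra Λ k]

theorem lift_small (A₀ : Type u) [CommRing A₀] [Algebra k A₀] (hA : LCI.IsLCI k A₀) {A' A : Art Λ k} (p : A' ⟶ A)
    (hp : IsSmallExt p) :
    Function.Surjective ((defFunctor (Λ := Λ) (Spec (CommRingCat.of A₀))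
      (Spec.map (CommRingCat.ofHom (algebraMap k A₀)))).map p) := by
  classical
  intro u
  induction u using Quotient.inductionOn with
  | h ξ =>
  have hker : ∀ C : Art Λ k, RingHom.ker C.res.toRingHom = maximalIdeal C := fun C =>
    Ideal.ext fun a => (mem_maximalIdeal_iff C a).symm
  obtain ⟨B, _, φ, π, j, hjf, hji, hπs, hπφ, hπker, hflat⟩ := AffDef.exists_affine A.res.toRingHom
    A.res_surjective (by rw [hker]; exact (isArtinianRing_iff_isNilpotent_maximalIdeal A).1 inferInstance)
    (algebraMap k A₀) ξ.total ξ.f ξ.i ξ.isPullback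
  rw [hker] at hπker
  obtain ⟨-, n, f, hf, hJ⟩ := hA
  choose b hb using fun i => hπs (f (MvPolynomial.X i))
  let Φ : MvPolynomial (Fin n) A' →+* B := MvPolynomial.eval₂Hom (φ.comp p.toAlgHom.toRingHom) b
  let q : MvPolynomial (Fin n) A' →+* MvPolynomial (Fin n) k := MvPolynomial.map A'.res.toRingHom
  have hΦC : Φ.comp (algebraMap A' (MvPolynomial (Fin n) A')) = φ.comp p.toAlgHom.toRingHom :=
    RingHom.ext fun a => MvPolynomial.eval₂Hom_C _ _ a
  have hq : Function.Surjective q := MvPolynomial.map_surjective _ A'.res_surjective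
  have hfq : f.toRingHom.comp q = π.comp Φ := MvPolynomial.ringHom_ext (fun a => by
      show f (MvPolynomial.map A'.res.toRingHom (MvPolynomial.C a)) = π (Φ (MvPolynomial.C a))
      rw [MvPolynomial.map_C, MvPolynomial.eval₂Hom_C, ← MvPolynomial.algebraMap_eq, f.commutes,
        RingHom.comp_apply, ← RingHom.comp_apply π φ, hπφ, RingHom.comp_apply]
      exact congrArg (algebraMap k A₀) (res_app p a).symm)
    fun i => by
      show f (MvPolynomial.map A'.res.toRingHom (MvPolynomial.X i)) = π (Φ (MvPolynomial.X i))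
      rw [MvPolynomial.map_X, MvPolynomial.eval₂Hom_X', hb]
  have hΦ : Function.Surjective Φ := by
    obtain ⟨N, hN⟩ := (isArtinianRing_iff_isNilpotent_maximalIdeal A).1 inferInstance
    have key : ∀ (m : ℕ) (y : B), ∃ s, y - Φ s ∈ (maximalIdeal A ^ m).map φ := fun m => by
      induction m with
      | zero => exact fun y => ⟨0, by rw [pow_zero, Ideal.one_eq_top, Ideal.map_top]; trivial⟩
      | succ m ih =>
        intro y
        obtain ⟨s, hs⟩ := ih y
        suffices ∀ z ∈ (maximalIdeal A ^ m).map φ, ∃ w, z - Φ w ∈ (maximalIdeal A ^ (m + 1)).map φ by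
          obtain ⟨w, hw⟩ := this _ hs
          exact ⟨s + w, by rw [map_add, ← sub_sub]; exact hw⟩
        intro z hz
        induction hz using Submodule.span_induction with
        | mem z hz =>
          obtain ⟨a, ha, rfl⟩ := hz
          obtain ⟨a', rfl⟩ := hp.1 a
          exact ⟨MvPolynomial.C a', by rw [MvPolynomial.eval₂Hom_C, RingHom.comp_apply]; simp⟩
        | zero => exact ⟨0, by simp⟩
        | add z z' _ _ hz hz' =>
          obtain ⟨w, hw⟩ := hz
          obtain ⟨w', hw'⟩ := hz'
          exact ⟨w + w', by rw [map_add, add_sub_add_comm]; exact add_mem hw hw'⟩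
        | smul c z hz' hz =>
          obtain ⟨w, hw⟩ := hz
          obtain ⟨c₀, hc₀⟩ := (hf.comp hq) (π c)
          have hc : c - Φ c₀ ∈ (maximalIdeal A).map φ := by
            rw [← hπker, RingHom.mem_ker, map_sub, ← RingHom.comp_apply π Φ, ← hfq, sub_eq_zero]
            exact hc₀.symm
          refine ⟨c₀ * w, ?_⟩
          rw [map_mul, smul_eq_mul, show c * z - Φ c₀ * Φ w = (c - Φ c₀) * z + Φ c₀ * (z - Φ w) by ring]
          refine add_mem ?_ (Ideal.mul_mem_left _ _ hw)
          rw [pow_succ', Ideal.map_mul]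
          exact Ideal.mul_mem_mul hc hz'
    intro y
    obtain ⟨s, hs⟩ := key N y
    rw [hN, Ideal.zero_eq_bot, Ideal.map_bot, Ideal.mem_bot, sub_eq_zero] at hs
    exact ⟨s, hs.symm⟩
  obtain ⟨t, ht⟩ := hp.2.2.1.principal
  have ht0 : t ≠ 0 := fun h => hp.2.1 (by rw [ht, h]; exact Ideal.span_singleton_eq_bot.2 rfl)
  have htm : ∀ a ∈ maximalIdeal A', a * t = 0 := fun a ha => by
    rw [← Ideal.mem_bot, ← hp.2.2.2, ht]
    exact Ideal.mul_mem_mul ha (Ideal.mem_span_singleton_self t)
  obtain ⟨B', _, φ', Φ', hfl', hΦ's, hcomm, hker', hπ'ker⟩ := LCIDef67.exists_lift p.toAlgHom.toRingHom hp.1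
    (t := t) (by exact ht) ht0 htm φ (hflat ξ.flat) π hπker Φ hΦ hΦC q hq
    (by rw [MvPolynomial.ker_map, hker]; rfl) f.toRingHom hf hfq hJ
  have hπ'φ' : (π.comp Φ').comp φ' = (algebraMap k A₀).comp A'.res.toRingHom := by
    rw [RingHom.comp_assoc, hcomm, ← RingHom.comp_assoc, hπφ, RingHom.comp_assoc]
    exact congrArg (algebraMap k A₀).comp (congrArg AlgHom.toRingHom p.res_comp)
  let η : DefSch (Spec (CommRingCat.of A₀)) (Spec.map (CommRingCat.ofHom (algebraMap k A₀))) A' :=
    { total := Spec (CommRingCat.of B')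
      f := Spec.map (CommRingCat.ofHom φ')
      flat := Flat.SpecMap_iff.2 hfl'
      i := Spec.map (CommRingCat.ofHom (π.comp Φ'))
      isPullback := AffDef.isPullback_of_ker _ A'.res_surjective _ _ _ (hπs.comp hΦ's) hπ'φ'
        (by rw [hπ'ker, hker]) }
  refine ⟨η.cl, ?_⟩
  rw [defFunctor_map_cl]
  have sq : IsPullback (j.inv ≫ Spec.map (CommRingCat.ofHom Φ')) ξ.f η.f (specMap p) :=
    (AffDef.isPullback_of_ker _ hp.1 φ' Φ' φ hΦ's hcomm hker').of_iso j (Iso.refl _) (Iso.refl _) (Iso.refl _)
      (by simp [η]) (by simp [hjf]) (by simp [η]) (by simp; rfl)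
  refine Quotient.sound ⟨⟨sq.isoPullback.symm, sq.isoPullback_inv_snd, ?_⟩⟩
  rw [Iso.symm_hom]
  apply sq.hom_ext
  · refine ((Category.assoc _ _ _).trans (congrArg ((η.baseChange p).i ≫ ·) sq.isoPullback_inv_fst)).trans
      ((DefSch.baseChange_i_fst _ _).trans ?_)
    show Spec.map (CommRingCat.ofHom (π.comp Φ')) = ξ.i ≫ j.inv ≫ Spec.map (CommRingCat.ofHom Φ')
    rw [← hji, Category.assoc, j.hom_inv_id_assoc, ← Spec.map_comp, ← CommRingCat.ofHom_comp]
  · exact ((Category.assoc _ _ _).trans (congrArg ((η.baseChange p).i ≫ ·) sq.isoPullback_inv_snd)).trans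
      ((DefSch.baseChange_i_f _ _).trans ξ.i_f.symm)

end

/-- Suppose Λ is a Noetherian local ring, complete for its maximal-ideal-adic topology, whose residue
field is k (so Λ → k is surjective), and work with functors defined on local Artinian Λ-algebras
having residue field k. Take a finite-type k-algebra A₀ that is a local complete intersection over k
(meaning it admits a presentation as a quotient of a polynomial algebra in finitely many variables
whose kernel is Koszul-regular), and put X₀ = Spec A₀. Then X₀ has a smooth deformation functor (the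
functor of isomorphism classes of schemes flat over Spec A whose closed fibre is X₀): given any
surjection A' → A, each deformation over A can be lifted to one over A'. -/
theorem result (Λ k : Type u) [CommRing Λ] [IsLocalRing Λ] [IsNoetherianRing Λ]
    [IsAdicComplete (IsLocalRing.maximalIdeal Λ) Λ] [Field k] [Algebra Λ k]
    (hk : Function.Surjective (algebraMap Λ k))
    (A₀ : Type u) [CommRing A₀] [Algebra k A₀] (hA : LCI.IsLCI k A₀) :
    ArtFun.IsSmoothFunctor (ArtFun.defFunctor (Λ := Λ) (Spec (CommRingCat.of A₀))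
      (Spec.map (CommRingCat.ofHom (algebraMap k A₀)))) := by
  classical
  haveI : Module.Finite Λ k :=
    Module.Finite.of_surjective (Algebra.linearMap Λ k) hk
  intro A' A μ hμ
  refine Groth.Agent.ArtFunLib.surjective_induction
    (P := fun B C g => Function.Surjective ((ArtFun.defFunctor (Λ := Λ) (Spec (CommRingCat.of A₀))
      (Spec.map (CommRingCat.ofHom (algebraMap k A₀)))).map g)) (fun B C g hg => ?_)
    (fun B C D g h hg _ hh => ?_) μ hμ
  · haveI := Groth.Agent.ArtFunLib.isIso_of_bijective g hg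
    exact ((CategoryTheory.isIso_iff_bijective _).1 inferInstance).2
  · intro u
    obtain ⟨v, rfl⟩ := hh u
    obtain ⟨w, hw⟩ := lift_small A₀ hA g hg v
    exact ⟨w, by rw [← Groth.Agent.ArtFunLib.map_map, hw]⟩

end Groth.Agent.S12310
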