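import Groth.Statements.S12314

set_option autoImplicit false
universe u
open CategoryTheory CategoryTheory.Limits AlgebraicGeometry MonObj
open SGA7

namespace Groth.Agent.S12314

/-- Let R be a henselian discrete valuation ring with fraction field K and residue field k, Ω a
separable closure of K, W a valuation subring of Ω lying over R, A and C abelian varieties over K
(proper, geometrically integral commutative group schemes), and u : C → A an isogeny, in the form:
there are a homomorphism v : A → C and an integer n > 0 with v ∘ u = n and u ∘ v = n. Let ℓ be a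
prime invertible in k and consider the ℓ-adic Tate modules of the Ω-points of C and A; call an
element fixed when all its components are fixed by the inertia group at W (for such ℓ the fixed part
is the inertia invariants). Then T_ℓ(u) maps the fixed part of T_ℓ(C) into the fixed part of T_ℓ(A)
and induces an isogeny between them: T_ℓ(u) is injective, and n times every fixed element of T_ℓ(A)
is the image of a fixed element of T_ℓ(C). (The case of a prime equal to the residue characteristic,
where the fixed part is defined through the Néron model, is not stated.) -/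
theorem result (R K Ω : Type u) [CommRing R] [IsDomain R] [IsDiscreteValuationRing R] [HenselianLocalRing R]
    [Field K] [Algebra R K] [IsFractionRing R K] [Field Ω] [Algebra K Ω] [IsSepClosure K Ω]
    (W : ValuationSubring Ω) (hW : SGA7.LiesOver K R W)
    (A C : Over (Spec (CommRingCat.of K))) [GrpObj A] [IsCommMonObj A] [IsProper A.hom] [GeometricallyIntegral A.hom]
    [GrpObj C] [IsCommMonObj C] [IsProper C.hom] [GeometricallyIntegral C.hom]
    (u : C ⟶ A) [IsMonHom u] (v : A ⟶ C) [IsMonHom v] (n : ℕ) (hn : 0 < n)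
    (huv : u ≫ v = (𝟙 C) ^ n) (hvu : v ≫ u = (𝟙 A) ^ n)
    (l : ℕ) (hl : l.Prime) (hlp : (l : IsLocalRing.ResidueField R) ≠ 0) :
    (∀ z : AbDual.TateMod C l (SGA7.pt Ω),
      (∀ (τ : Ω ≃ₐ[K] Ω) (m : ℕ), SGA7.IsInertia W τ →
        SGA7.galAct τ (AbDual.TateMod.component C l (SGA7.pt Ω) m z).toMul =
          (AbDual.TateMod.component C l (SGA7.pt Ω) m z).toMul) →
      (∀ (τ : Ω ≃ₐ[K] Ω) (m : ℕ), SGA7.IsInertia W τ →
        SGA7.galAct τ (AbDual.TateMod.component A l (SGA7.pt Ω) m (AbDual.tateMap u z)).toMul =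
          (AbDual.TateMod.component A l (SGA7.pt Ω) m (AbDual.tateMap u z)).toMul)) ∧
    (∀ z : AbDual.TateMod C l (SGA7.pt Ω), AbDual.tateMap (l := l) (T := SGA7.pt Ω) u z = 0 → z = 0) ∧
    (∀ y : AbDual.TateMod A l (SGA7.pt Ω),
      (∀ (τ : Ω ≃ₐ[K] Ω) (m : ℕ), SGA7.IsInertia W τ →
        SGA7.galAct τ (AbDual.TateMod.component A l (SGA7.pt Ω) m y).toMul =
          (AbDual.TateMod.component A l (SGA7.pt Ω) m y).toMul) →
      ∃ z : AbDual.TateMod C l (SGA7.pt Ω),
        (∀ (τ : Ω ≃ₐ[K] Ω) (m : ℕ), SGA7.IsInertia W τ →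
        SGA7.galAct τ (AbDual.TateMod.component C l (SGA7.pt Ω) m z).toMul =
          (AbDual.TateMod.component C l (SGA7.pt Ω) m z).toMul) ∧
        AbDual.tateMap (l := l) (T := SGA7.pt Ω) u z = n • y) := by
  refine ⟨fun z hz τ m hτ => ?_, fun z hz => ?_, fun y hy => ⟨AbDual.tateMap v y, fun τ m hτ => ?_, ?_⟩⟩
  · show SGA7.specAut τ ≫ ((AbDual.TateMod.component C l (SGA7.pt Ω) m z).toMul ≫ u) = _
    rw [← Category.assoc]
    exact congrArg (· ≫ u) (hz τ m hτ)
  · have h1 : ∀ m, n • (z : ℕ → Additive (SGA7.pt Ω ⟶ C)) m = 0 := fun m => by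
      have h := congrArg (fun w : AbDual.TateMod A l (SGA7.pt Ω) => (AbDual.TateMod.component A l _ m w).toMul) hz
      change ((z : ℕ → Additive (SGA7.pt Ω ⟶ C)) m).toMul ≫ u = 1 at h
      have h' := congrArg (· ≫ v) h
      simp only [Category.assoc, huv, MonObj.one_comp, MonObj.comp_pow, Category.comp_id] at h'
      exact congrArg Additive.ofMul h'
    have hit : ∀ (j m : ℕ), (l ^ j) • (z : ℕ → Additive (SGA7.pt Ω ⟶ C)) (m + j) =
        (z : ℕ → Additive (SGA7.pt Ω ⟶ C)) m := fun j => by
      induction j with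
      | zero => intro m; simp
      | succ j ih =>
        intro m
        rw [pow_succ, mul_smul, ← Nat.add_assoc, AbDual.TateMod.compat, ih]
    obtain ⟨e, n', hn', rfl⟩ := Nat.exists_eq_pow_mul_and_not_dvd hn.ne' l hl.ne_one
    refine AbDual.TateMod.ext fun m => ?_
    have h2 : n' • (z : ℕ → Additive (SGA7.pt Ω ⟶ C)) m = 0 := by
      rw [← hit e m, smul_comm, ← mul_smul, h1]
    have h3 : (l ^ m) • (z : ℕ → Additive (SGA7.pt Ω ⟶ C)) m = 0 := AbDual.TateMod.torsion z m
    have hco : Nat.Coprime n' (l ^ m) := Nat.Coprime.pow_right m ((hl.coprime_iff_not_dvd.2 hn').symm)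
    have h4 := addOrderOf_dvd_iff_nsmul_eq_zero.2 h2
    have h5 := addOrderOf_dvd_iff_nsmul_eq_zero.2 h3
    have := Nat.dvd_gcd h4 h5
    rw [hco, Nat.dvd_one] at this
    exact AddMonoid.addOrderOf_eq_one_iff.1 this
  · show SGA7.specAut τ ≫ ((AbDual.TateMod.component A l (SGA7.pt Ω) m y).toMul ≫ v) = _
    rw [← Category.assoc]
    exact congrArg (· ≫ v) (hy τ m hτ)
  · refine AbDual.TateMod.ext fun m => ?_
    show Additive.ofMul ((((y : ℕ → Additive (SGA7.pt Ω ⟶ A)) m).toMul ≫ v) ≫ u) = _
    rw [Category.assoc, hvu, MonObj.comp_pow, Category.comp_id]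
    rfl

end Groth.Agent.S12314
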