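import Groth.Statements.S12315
import Groth.Agent.ArtFunLib.Hull

set_option autoImplicit false
universe u v
open CategoryTheory
open SGA7

namespace Groth.Agent.S12315

open Groth.Agent.ArtFunLib

/-- Let Λ be a complete Noetherian local ring with residue field k (the map Λ → k surjective), and
consider functors on the category of local Artinian Λ-algebras with residue field k. Let F be such a
functor, R a complete local Noetherian Λ-algebra with residue field k, and ξ a family of F over R (a
morphism h_R → F) which is injective on k[ε]: distinct augmented Λ-algebra maps R → k[ε] give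
distinct elements of F(k[ε]). Then every endomorphism of the pair (R, ξ), that is every Λ-algebra
map α : R → R compatible with the augmentation such that transporting ξ along α gives back ξ, is an
automorphism of R. (The published statement is for formal objects of a cofibred groupoid; this row
is the case of a set-valued functor.) -/
theorem result (Λ k : Type u) [CommRing Λ] [IsLocalRing Λ] [IsNoetherianRing Λ]
    [IsAdicComplete (IsLocalRing.maximalIdeal Λ) Λ] [Field k] [Algebra Λ k]
    (hk : Function.Surjective (algebraMap Λ k))
    (F : ArtFun.Art Λ k ⥤ Type v) (R : ArtFun.CRing Λ k) (ξ : ArtFun.Family R.carrier R.res F)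
    (hinj : Function.Injective (ξ.app (ArtFun.Art.dual Λ k)))
    (α : R.carrier →ₐ[Λ] R.carrier) (hα : R.res.comp α = R.res) (hξ : ξ.along α hα = ξ) :
    Function.Bijective α := by
  haveI : Module.Finite Λ k := Module.Finite.of_surjective (Algebra.linearMap Λ k) hk
  have hsurj : Function.Surjective α := surjective_of_tangent_injective α hα fun θ₁ θ₂ e => by
    refine hinj ?_
    have h1 := congrArg (fun ζ : ArtFun.Family R.carrier R.res F => ζ.app (ArtFun.Art.dual Λ k) θ₁) hξ
    have h2 := congrArg (fun ζ : ArtFun.Family R.carrier R.res F => ζ.app (ArtFun.Art.dual Λ k) θ₂) hξ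
    rw [← h1, ← h2]
    exact congrArg (ξ.app (ArtFun.Art.dual Λ k)) (Subtype.ext e)
  exact ⟨injective_of_surjective_ringEnd α.toRingHom hsurj, hsurj⟩

end Groth.Agent.S12315
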