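import Groth.Statements.S12316
import Groth.Agent.ArtFunLib.Cmp

set_option autoImplicit false
universe u v
open CategoryTheory
open SGA7

namespace Groth.Agent.S12316

open Groth.Agent.ArtFunLib

/-- Suppose Λ is a Noetherian local ring, complete for its maximal ideal, whose residue field is k (so Λ
→ k is surjective), and work with functors defined on the category of local Artinian Λ-algebras
having residue field k. Take morphisms φ : F → G and ψ : G → H of such functors. Assume that each of
F(k), G(k), H(k) consists of a single point; that for G the comparison map on fibre products A₁ ×_A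
A₂ is surjective as soon as A₂ → A is surjective, and is bijective for products of the form A' ×_k
k[ε]; that for H the comparison map is bijective on every fibre product A₁ ×_A A₂ with A₂ → A
surjective; and that the induced map on tangent spaces G(k[ε]) → H(k[ε]) coming from ψ is injective.
Under these assumptions, φ ≫ ψ is smooth if and only if both φ and ψ are smooth. (The published
statement is for functors of cofibred groupoids with G semi-homogeneous and H homogeneous; this row
is the case of set-valued functors.) -/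
theorem result (Λ k : Type u) [CommRing Λ] [IsLocalRing Λ] [IsNoetherianRing Λ]
    [IsAdicComplete (IsLocalRing.maximalIdeal Λ) Λ] [Field k] [Algebra Λ k]
    (hk : Function.Surjective (algebraMap Λ k))
    {F G H : ArtFun.Art Λ k ⥤ Type v} (φ : F ⟶ G) (ψ : G ⟶ H)
    (hF : ArtFun.H0 F) (hG : ArtFun.H0 G ∧ ArtFun.S1 G ∧ ArtFun.Heps G) (hH0 : ArtFun.H0 H)
    (hH : ∀ ⦃B A A' A'' : ArtFun.Art Λ k⦄ (p' : B ⟶ A') (p'' : B ⟶ A'') (f' : A' ⟶ A) (f'' : A'' ⟶ A)
      (h : ArtFun.Art.IsFibreProd p' p'' f' f''), Function.Surjective f'' → Function.Bijective (ArtFun.cmp H h))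
    (hψ : Function.Injective (ArtFun.TangentSpace.map ψ)) :
    ArtFun.IsSmooth (φ ≫ ψ) ↔ (ArtFun.IsSmooth φ ∧ ArtFun.IsSmooth ψ) := by
  haveI : Module.Finite Λ k := Module.Finite.of_surjective (Algebra.linearMap Λ k) hk
  rw [isSmooth_iff_lifts, isSmooth_iff_lifts, isSmooth_iff_lifts]
  refine ⟨fun h => ?_, fun ⟨h1, h2⟩ B A μ hμ x y e => ?_⟩
  · have hφ : ∀ ⦃B A : ArtFun.Art Λ k⦄ (μ : B ⟶ A), Function.Surjective μ →
        (NatFam.ofNatTrans φ).Lifts μ := by
      intro B A μ hμ x y e
      have e' : G.map μ y = φ.app A x := e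
      obtain ⟨z, hz1, hz2⟩ := h μ hμ x (ψ.app B y)
        ((NatTrans.naturality_apply ψ μ y).symm.trans (congrArg (ψ.app A) e'))
      refine ⟨z, hz1, injective_rel_of_tangent_injective (NatFam.ofNatTrans ψ)
        (fun B A A' p₁ p₂ f hh hf => hG.2.1 p₁ p₂ f f hh hf.1) hG.2.2
        (fun B A A' p₁ p₂ f hh hf => (hH p₁ p₂ f f hh hf.1).1) hψ μ hμ _ _ ?_ hz2⟩
      rw [e', ← hz1]
      exact (NatTrans.naturality_apply φ μ z).symm
    have hsurj : ∀ A, Function.Surjective (φ.app A) :=
      surjective_of_lifts (NatFam.ofNatTrans φ) hφ fun y => by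
        haveI := hG.1.2
        obtain ⟨x⟩ := hF.1
        exact ⟨x, Subsingleton.elim _ _⟩
    refine ⟨hφ, fun B A μ hμ x y e => ?_⟩
    obtain ⟨a, rfl⟩ := hsurj A x
    obtain ⟨a', ha', hy'⟩ := h μ hμ a y e
    refine ⟨φ.app B a', ?_, hy'⟩
    rw [← ha']
    exact (NatTrans.naturality_apply φ μ a').symm
  · obtain ⟨w, hw1, hw2⟩ := h2 μ hμ (φ.app A x) y e
    obtain ⟨z, hz1, hz2⟩ := h1 μ hμ x w hw1
    exact ⟨z, hz1, (congrArg (ψ.app B) hz2).trans hw2⟩

end Groth.Agent.S12316
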