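import Groth.Statements.S12320
import Groth.Agent.ArtFunLib.Cmp

set_option autoImplicit false
universe u v
open CategoryTheory
open SGA7

namespace Groth.Agent.S12320

open Groth.Agent.ArtFunLib

/-- Suppose Λ is a Noetherian local ring, complete for its maximal ideal, whose residue field is k (so
that Λ → k is onto), and work with functors defined on the category of local Artinian Λ-algebras
having residue field k. Take such a functor F for which F(k) is a singleton, for which the
comparison map F(A₁ ×_A A₂) → F(A₁) ×_{F(A)} F(A₂) is surjective as soon as A₂ → A is surjective,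
and for which this map is bijective in the case A' ×_k k[ε]. Call an element a ∈ F(R) versal for
small prolongations of the base point when, given any object R₀ whose augmentation R₀ → k is a small
extension and any b ∈ F(R₀), some morphism R → R₀ sends a to b. Assume a ∈ F(R) has this versality
property, that π₁ : R₁ → R is a small extension together with a₁ ∈ F(R₁) whose image is a, and that
g : R' → R is a morphism together with a' ∈ F(R') whose image is a. Then a morphism f : R' → R₁
satisfying f ≫ π₁ = g and sending a' to a₁ exists exactly when some morphism f : R' → R₁ satisfying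
f ≫ π₁ = g exists at all. (The published statement concerns semi-homogeneous cofibred groupoids;
this row treats only the set-valued functor case.) -/
theorem result (Λ k : Type u) [CommRing Λ] [IsLocalRing Λ] [IsNoetherianRing Λ]
    [IsAdicComplete (IsLocalRing.maximalIdeal Λ) Λ] [Field k] [Algebra Λ k]
    (hk : Function.Surjective (algebraMap Λ k))
    (F : ArtFun.Art Λ k ⥤ Type v) (hF : ArtFun.H0 F ∧ ArtFun.S1 F ∧ ArtFun.Heps F)
    {R R₁ R' : ArtFun.Art Λ k} (π₁ : R₁ ⟶ R) (hπ : ArtFun.Art.IsSmallExt π₁) (g : R' ⟶ R)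
    (a : F.obj R) (a₁ : F.obj R₁) (a' : F.obj R') (h₁ : F.map π₁ a₁ = a) (h' : F.map g a' = a)
    (hvers : ∀ (R₀ : ArtFun.Art Λ k), ArtFun.Art.IsSmallExt (ArtFun.Art.toBase R₀) →
      ∀ b : F.obj R₀, ∃ φ : R ⟶ R₀, F.map φ a = b) :
    (∃ f : R' ⟶ R₁, f ≫ π₁ = g ∧ F.map f a' = a₁) ↔ (∃ f : R' ⟶ R₁, f ≫ π₁ = g) := by
  haveI : Module.Finite Λ k := Module.Finite.of_surjective (Algebra.linearMap Λ k) hk
  haveI := hF.1.2
  refine ⟨fun ⟨f, hf, _⟩ => ⟨f, hf⟩, fun ⟨f₀, hf₀⟩ => ?_⟩
  obtain ⟨P, p₁, p₂, q, hT⟩ := exists_tangentSquare π₁ hπ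
  obtain ⟨w, hw₁, hw₂⟩ := (cmp_surj_iff F hT.self).1 (hF.2.1 _ _ _ _ hT.self hπ.1)
    (F.map f₀ a') a₁ (by rw [map_map, hf₀, h', h₁])
  have hsmall : ArtFun.Art.IsSmallExt (ArtFun.Art.toBase (ArtFun.Art.dual Λ k)) := by
    have e1 : ∀ x : DualNumber k, TrivSqZeroExt.fst x = 0 → ∃ c : DualNumber k, c * DualNumber.eps = x :=
      fun x hx => ⟨TrivSqZeroExt.inl (TrivSqZeroExt.snd x), TrivSqZeroExt.ext (by simp [hx]) (by simp)⟩
    have e2 : ∀ c : DualNumber k, TrivSqZeroExt.fst (c * DualNumber.eps) = 0 := fun c => by simp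
    have e3 : ∀ c : DualNumber k, TrivSqZeroExt.fst c = 0 → c * DualNumber.eps = 0 := fun c hc =>
      TrivSqZeroExt.ext (by simp) (by simp [hc])
    have e4 : (DualNumber.eps : DualNumber k) ≠ 0 := fun h0 => by
      have := congrArg TrivSqZeroExt.snd h0
      simp at this
    refine isSmallExt_of_ker_eq_span (ArtFun.Art.dual Λ k).res_surjective
      (t := (DualNumber.eps : DualNumber k)) (Ideal.ext fun x => ?_) e4
      (fun c hc => e3 c ((ArtFun.Art.mem_maximalIdeal_iff _ c).1 hc))
    rw [RingHom.mem_ker]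
    constructor
    · intro hx
      exact Ideal.mem_span_singleton'.2 (e1 x hx)
    · intro hx
      obtain ⟨c, rfl⟩ := Ideal.mem_span_singleton'.1 hx
      exact e2 c
  obtain ⟨φ, hφ⟩ := hvers _ hsmall (F.map q w)
  obtain ⟨f, hf1, hf2⟩ := exists_lift hT.split f₀ (g ≫ φ)
    (by rw [ArtFun.Art.eq_toBase (f₀ ≫ _), ArtFun.Art.eq_toBase ((g ≫ φ) ≫ _)])
  refine ⟨f ≫ p₂, by rw [Category.assoc, ← hT.self.w, ← Category.assoc, hf1, hf₀], ?_⟩
  have e : F.map f a' = w := (cmp_inj_iff F hT.split).1 (hF.2.2 _ _ hT.split).1 _ _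
    (by rw [map_map, hf1, hw₁]) (by rw [map_map, hf2, ← map_map, h', hφ])
  rw [← map_map, e, hw₂]

end Groth.Agent.S12320
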