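import Groth.Statements.S12321
import Groth.Agent.SemiVersal.Universal

set_option autoImplicit false
universe u v
open CategoryTheory
open SGA7

namespace Groth.Agent.S12321

/-- Suppose Λ is a Noetherian local ring that is complete, and k is its residue field, so the map Λ → k
is surjective. We look at functors on the category of local Artinian Λ-algebras whose residue field
is k. Take such a functor F for which F(k) is a single point, the comparison map F(A₁ ×_A A₂) →
F(A₁) ×_{F(A)} F(A₂) is surjective whenever A₂ → A is surjective, and this map is bijective for A'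
×_k k[ε]. Call an element a ∈ F(R) versal for small prolongations of the base point when, for each
object R₀ whose augmentation R₀ → k is a small extension and each b ∈ F(R₀), some morphism R → R₀
sends a to b. Assume a ∈ F(R) has this property. Then one can find an object R', a morphism q : R' →
R and an element a' ∈ F(R') whose image is a, satisfying the following. First, q is surjective and
the maximal ideal annihilates its kernel. Second, q induces an isomorphism m_{R'}/(m_{R'}² + m_Λ R')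
→ m_R/(m_R² + m_Λ R) between relative cotangent spaces (only injectivity is stated; surjectivity
comes for free). Third, a' is versal for small prolongations of a: given any small extension π₁ : R₁
→ R and any a₁ ∈ F(R₁) with image a, there is f : R' → R₁ satisfying f ≫ π₁ = q and sending a' to
a₁. (The published statement concerns semi-homogeneous cofibred groupoids; this row treats the case
of set-valued functors.) -/
theorem result (Λ k : Type u) [CommRing Λ] [IsLocalRing Λ] [IsNoetherianRing Λ]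
    [IsAdicComplete (IsLocalRing.maximalIdeal Λ) Λ] [Field k] [Algebra Λ k]
    (hk : Function.Surjective (algebraMap Λ k))
    (F : ArtFun.Art Λ k ⥤ Type v) (hF : ArtFun.H0 F ∧ ArtFun.S1 F ∧ ArtFun.Heps F)
    (R : ArtFun.Art Λ k) (a : F.obj R)
    (hvers : ∀ (R₀ : ArtFun.Art Λ k), ArtFun.Art.IsSmallExt (ArtFun.Art.toBase R₀) →
      ∀ b : F.obj R₀, ∃ φ : R ⟶ R₀, F.map φ a = b) :
    ∃ (R' : ArtFun.Art Λ k) (q : R' ⟶ R) (a' : F.obj R'), F.map q a' = a ∧
      ArtFun.Art.IsSemismallExt q ∧
      (∀ x' : R', x' ∈ IsLocalRing.maximalIdeal (R' : Type u) →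
        q x' ∈ (IsLocalRing.maximalIdeal (R : Type u)) ^ 2 ⊔ (IsLocalRing.maximalIdeal Λ).map (algebraMap Λ R) →
        x' ∈ (IsLocalRing.maximalIdeal (R' : Type u)) ^ 2 ⊔ (IsLocalRing.maximalIdeal Λ).map (algebraMap Λ R')) ∧
      ∀ (R₁ : ArtFun.Art Λ k) (π₁ : R₁ ⟶ R), ArtFun.Art.IsSmallExt π₁ →
        ∀ a₁ : F.obj R₁, F.map π₁ a₁ = a → ∃ f : R' ⟶ R₁, f ≫ π₁ = q ∧ F.map f a' = a₁ := by
  classical
  have : Module.Finite Λ k := Module.Finite.of_surjective (Algebra.linearMap Λ k) hk
  have hmΛ : RingHom.ker (algebraMap Λ k) = IsLocalRing.maximalIdeal Λ :=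
    have := RingHom.ker_isMaximal_of_surjective (algebraMap Λ k) hk
    IsLocalRing.eq_maximalIdeal this
  obtain ⟨hF0, hF1, hF2⟩ := hF
  haveI := hF0.2
  obtain ⟨E, p, hp, hcot, huniv⟩ := Groth.Agent.SemiVersal.exists_universal hk R
  obtain ⟨J₀, hJ₀, hJ₀', ⟨a', ha'⟩, hmin⟩ := Groth.Agent.ArtFunLib.exists_least_liftable hF1 p hp a
  let R' := ArtFun.Art.quot E J₀ hJ₀'
  let mk : E ⟶ R' := ArtFun.Art.quotMk E J₀ hJ₀'
  let q : R' ⟶ R := ArtFun.Art.quotFactor hJ₀' p hJ₀
  have hmk : Function.Surjective mk := Ideal.Quotient.mk_surjective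
  have hmkq : ∀ e, q (mk e) = p e := fun e => rfl
  have hmkq' : mk ≫ q = p := ArtFun.Art.hom_ext (AlgHom.ext hmkq)
  have hqs : Function.Surjective q := fun r => by
    obtain ⟨e, rfl⟩ := hp.1 r
    exact ⟨mk e, hmkq e⟩
  have hqsemi : ArtFun.Art.IsSemismallExt q := by
    refine ⟨hqs, le_bot_iff.1 (Ideal.mul_le.2 fun u hu v hv => ?_)⟩
    obtain ⟨u, rfl⟩ := hmk u
    obtain ⟨v, rfl⟩ := hmk v
    have h1 : u * v ∈ IsLocalRing.maximalIdeal E * RingHom.ker p.toAlgHom :=
      Ideal.mul_mem_mul ((Groth.Agent.ArtFunLib.apply_mem_maximalIdeal_iff mk u).1 hu) ((hmkq v).symm.trans hv)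
    rw [hp.2, Ideal.mem_bot] at h1
    rw [Ideal.mem_bot, ← map_mul, h1, map_zero]
  have hmap : ∀ {A B : ArtFun.Art Λ k} (f : A ⟶ B) (hf : Function.Surjective f),
      (Groth.Agent.ArtFunLib.relSq A).map f.toAlgHom.toRingHom = Groth.Agent.ArtFunLib.relSq B := by
    intro A B f hf
    have hm : (IsLocalRing.maximalIdeal A).map f.toAlgHom.toRingHom = IsLocalRing.maximalIdeal B := by
      refine le_antisymm (Ideal.map_le_iff_le_comap.2 fun a ha => Groth.Agent.ArtFunLib.apply_mem_maximalIdeal f ha)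
        fun b hb => ?_
      obtain ⟨a, rfl⟩ := hf b
      exact Ideal.mem_map_of_mem _ ((Groth.Agent.ArtFunLib.apply_mem_maximalIdeal_iff f a).1 hb)
    rw [Groth.Agent.ArtFunLib.relSq, Ideal.map_sup, Ideal.map_pow, Ideal.map_map, hm]
    congr 2
    exact f.toAlgHom.comp_algebraMap
  refine ⟨R', q, a', ha', hqsemi, fun x' _ hx' => ?_, fun R₁ π₁ hπ₁ a₁ ha₁ => ?_⟩
  · rw [sup_comm, ← hmΛ] at hx'
    obtain ⟨e, rfl⟩ := hmk x'
    change p e ∈ Groth.Agent.ArtFunLib.relSq R at hx'
    rw [← hmap p hp.1] at hx'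
    obtain ⟨e', he', hee⟩ := (Ideal.mem_map_iff_of_surjective _ hp.1).1 hx'
    have he : e ∈ Groth.Agent.ArtFunLib.relSq E := by
      have : e - e' ∈ RingHom.ker p.toAlgHom := by
        change p (e - e') = 0
        rw [map_sub, sub_eq_zero]
        exact hee.symm
      simpa using add_mem (hcot this) he'
    rw [sup_comm, ← hmΛ]
    show mk e ∈ Groth.Agent.ArtFunLib.relSq R'
    rw [← hmap mk hmk]
    exact Ideal.mem_map_of_mem _ he
  · obtain ⟨g₁, hg₁⟩ := huniv R₁ R π₁ (𝟙 R) hπ₁.isSemismallExt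
    rw [Category.comp_id] at hg₁
    obtain ⟨D, d, d', hD⟩ := Groth.Agent.ArtFunLib.exists_isFibreProd q π₁ hπ₁.1
    obtain ⟨z, hz, -⟩ := (Groth.Agent.ArtFunLib.cmp_surj_iff F hD).1 (hF1 _ _ _ _ hD hπ₁.1) a' a₁
      (ha'.trans ha₁.symm)
    obtain ⟨g, hgd, hgd'⟩ := Groth.Agent.ArtFunLib.exists_lift hD mk g₁ (hmkq'.trans hg₁.symm)
    have hd := Groth.Agent.ArtFunLib.isSmallExt_fst hD hπ₁
    obtain ⟨t, ht, ht0, hm⟩ := Groth.Agent.ArtFunLib.exists_generator hd
    have hgd_apply : ∀ e, d (g e) = mk e := fun e => congrArg (fun f : E ⟶ R' => f e) hgd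
    have hgp : g ≫ (d ≫ q) = p := by rw [← Category.assoc, hgd, hmkq']
    have hkerg : RingHom.ker g.toAlgHom ≤ RingHom.ker p.toAlgHom := fun e he => by
      have h1 : p e = q (d (g e)) := congrArg (fun f : E ⟶ R => f e) hgp.symm
      change p e = 0
      rw [h1, show g e = 0 from he, map_zero, map_zero]
    have hns : ¬ Function.Surjective g := by
      intro hgs
      have hk' := Groth.Agent.ArtFunLib.ker_le_maximalIdeal g
      obtain ⟨y, hy⟩ := (Groth.Agent.ArtFunLib.map_bijective F _
        (Groth.Agent.ArtFunLib.quotFactor_bijective hk' g le_rfl hgs le_rfl)).2 z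
      have hle := hmin _ hkerg hk' ⟨y, by
        have e : ArtFun.Art.quotFactor hk' p hkerg = ArtFun.Art.quotFactor hk' g le_rfl ≫ (d ≫ q) :=
          ArtFun.Art.hom_ext (AlgHom.ext fun w => by
            obtain ⟨w, rfl⟩ := Ideal.Quotient.mk_surjective w
            exact congrArg (fun f : E ⟶ R => f w) hgp.symm)
        rw [e, ← Groth.Agent.ArtFunLib.map_map, hy, ← Groth.Agent.ArtFunLib.map_map, hz, ha']⟩
      -- `d` would be injective
      apply ht0
      obtain ⟨e, he⟩ := hgs t
      have hdt : d t = 0 := RingHom.mem_ker.1 (show t ∈ RingHom.ker d.toAlgHom by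
        rw [ht]; exact Ideal.mem_span_singleton_self t)
      have : e ∈ J₀ := Ideal.Quotient.eq_zero_iff_mem.1 ((hgd_apply e).symm.trans ((congrArg d.toAlgHom he).trans hdt))
      rw [← he]
      exact hle this
    have hJg : J₀ ≤ RingHom.ker g.toAlgHom := by
      intro e he
      by_contra hne
      apply hns
      have h1 : g e ∈ RingHom.ker d.toAlgHom := by
        change d (g e) = 0
        rw [hgd_apply]
        exact Ideal.Quotient.eq_zero_iff_mem.2 he
      rw [ht, Ideal.mem_span_singleton'] at h1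
      obtain ⟨c, hc⟩ := h1
      have hcu : IsUnit c := IsLocalRing.notMem_maximalIdeal.1 fun h => hne (by
        change g e = 0
        rw [← hc, hm c h])
      intro w
      obtain ⟨u, hu⟩ := hmk (d w)
      have h2 : w - g u ∈ RingHom.ker d.toAlgHom := by
        change d (w - g u) = 0
        rw [map_sub, hgd_apply, hu, sub_self]
      rw [ht, Ideal.mem_span_singleton'] at h2
      obtain ⟨b, hb⟩ := h2
      -- `b * t = (b / c) * g e`, and scalars lift to `E`
      obtain ⟨b', hb'⟩ := E.res_surjective (D.res (b * hcu.unit.inv))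
      refine ⟨u + b' * e, ?_⟩
      rw [map_add, map_mul, ← hc]
      have hdiff : g b' * c - b ∈ IsLocalRing.maximalIdeal D := by
        rw [ArtFun.Art.mem_maximalIdeal_iff, map_sub, map_mul, ArtFun.Art.res_app g, hb', ← map_mul,
          mul_assoc, Units.inv_eq_val_inv, IsUnit.val_inv_mul, mul_one, sub_self]
      linear_combination hm _ hdiff + hb
    obtain ⟨l, hl⟩ : ∃ l : R' ⟶ D, ∀ e, l (mk e) = g e :=
      ⟨ArtFun.Art.quotFactor hJ₀' g hJg, fun e => rfl⟩
    have hld : l ≫ d = 𝟙 R' := ArtFun.Art.hom_ext (AlgHom.ext fun w => by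
      obtain ⟨w, rfl⟩ := hmk w
      exact (congrArg d.toAlgHom (hl w)).trans (hgd_apply w))
    let f := l ≫ d'
    have hfq : f ≫ π₁ = q := by
      rw [Category.assoc, ← hD.w, ← Category.assoc, hld, Category.id_comp]
    -- move `f` along the tangent space
    obtain ⟨P, p₁, p₂, gd, hT⟩ := Groth.Agent.ArtFunLib.exists_tangentSquare π₁ hπ₁
    obtain ⟨z', hz₁, hz₂⟩ := (Groth.Agent.ArtFunLib.cmp_surj_iff F hT.self).1
      (hF1 _ _ _ _ hT.self hπ₁.1) (F.map f a') a₁ (by
        rw [Groth.Agent.ArtFunLib.map_map, hfq, ha', ha₁])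
    have hsmall : ArtFun.Art.IsSmallExt (ArtFun.Art.toBase (ArtFun.Art.dual Λ k)) := by
      refine Groth.Agent.ArtFunLib.isSmallExt_of_ker_eq_span (ArtFun.Art.dual Λ k).res_surjective
        (t := (TrivSqZeroExt.inr 1 : DualNumber k)) ?_ ?_ ?_
      · refine le_antisymm (fun w hw => ?_) ((Ideal.span_singleton_le_iff_mem _).2 rfl)
        change TrivSqZeroExt.fst (R := k) (M := k) w = 0 at hw
        refine Ideal.mem_span_singleton'.2 ⟨(TrivSqZeroExt.inl (TrivSqZeroExt.snd (R := k) (M := k) w) : DualNumber k), ?_⟩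
        exact TrivSqZeroExt.ext ((TrivSqZeroExt.fst_mul _ _).trans (by simp [hw])) ((DualNumber.snd_mul _ _).trans (by simp))
      · intro h
        have := congrArg (TrivSqZeroExt.snd (R := k) (M := k)) h
        simp at this
        exact one_ne_zero (this.trans rfl)
      · intro w hw
        rw [ArtFun.Art.mem_maximalIdeal_iff] at hw
        change TrivSqZeroExt.fst (R := k) (M := k) w = 0 at hw
        exact TrivSqZeroExt.ext ((TrivSqZeroExt.fst_mul _ _).trans ((show _ = (0 : k) by simp).trans rfl)) ((DualNumber.snd_mul _ _).trans ((show _ = (0 : k) by simp [hw]).trans rfl))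
    obtain ⟨φ, hφ⟩ := hvers _ hsmall (F.map gd z')
    obtain ⟨w, hw₁, hw₂⟩ := Groth.Agent.ArtFunLib.exists_lift hT.split f (q ≫ φ)
      ((ArtFun.Art.eq_toBase _).trans (ArtFun.Art.eq_toBase _).symm)
    have hwz : F.map w a' = z' := (Groth.Agent.ArtFunLib.cmp_inj_iff F hT.split).1 (hF2 _ _ hT.split).1 _ _
      (by rw [Groth.Agent.ArtFunLib.map_map, hw₁, hz₁])
      (by rw [Groth.Agent.ArtFunLib.map_map, hw₂, ← Groth.Agent.ArtFunLib.map_map, ha', hφ])
    refine ⟨w ≫ p₂, ?_, ?_⟩
    · rw [Category.assoc, ← hT.self.w, ← Category.assoc, hw₁, hfq]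
    · rw [← Groth.Agent.ArtFunLib.map_map, hwz, hz₂]

end Groth.Agent.S12321
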