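import Groth.Statements.S1234
import Groth.Agent.FlatMisc.WeakAssFlat
import Groth.Agent.S1233
import Groth.Agent.Hensel.EtLike
import Mathlib.Tactic.TFAE

set_option autoImplicit false
universe u
open FlatMor

namespace Groth.Agent.S1234

open TensorProduct IsLocalRing in
theorem iff_of_isEtLike {R S : Type u} [CommRing R] [IsLocalRing R] [CommRing S] [IsLocalRing S]
    [Algebra R S] (h : Groth.Agent.Hensel.IsEtLike R S) (M : Type u) [AddCommGroup M] [Module R M] :
    maximalIdeal S ∈ FlatCA.weakAss S (S ⊗[R] M) ↔ maximalIdeal R ∈ FlatCA.weakAss R M := by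
  classical
  have := h.flat
  have := h.isLocalHom
  have hover : (maximalIdeal S).LiesOver (maximalIdeal R) := inferInstance
  constructor
  · intro hS
    obtain ⟨z, hz, hp⟩ := Groth.Agent.WeakAss.mem_weakAss_iff.mp hS
    obtain ⟨F, hF⟩ := TensorProduct.exists_finset z
    obtain ⟨A, _, _, hA, θ, hθ⟩ := h.stage (F.image Prod.fst)
    let : Algebra A S := θ.toRingHom.toAlgebra
    have : IsScalarTower R A S := .of_algebraMap_eq' θ.comp_algebraMap.symm
    have : Module.Flat A S := Algebra.FormallyUnramified.flat_of_restrictScalars R A S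
    choose! a ha using fun x (hx : x ∈ F) => hθ x.1 (Finset.mem_image_of_mem _ hx)
    let w : A ⊗[R] M := ∑ x ∈ F, a x ⊗ₜ x.2
    let c := TensorProduct.AlgebraTensorModule.cancelBaseChange R A S S M
    have hc : ∀ b : A, c (1 ⊗ₜ (b • w)) = algebraMap A S b • z := by
      intro b
      have : c (1 ⊗ₜ w) = z := by
        rw [hF]
        simp only [w, TensorProduct.tmul_sum, map_sum]
        refine Finset.sum_congr rfl fun x hx => ?_
        rw [TensorProduct.AlgebraTensorModule.cancelBaseChange_tmul, Algebra.smul_def, mul_one]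
        exact congrArg (· ⊗ₜ[R] x.2) (ha x hx)
      rw [TensorProduct.tmul_smul, ← algebraMap_smul (R := A) S b ((1 : S) ⊗ₜ[A] w), map_smul, this]
    let q : Ideal A := (maximalIdeal S).comap (algebraMap A S)
    have : q.LiesOver (maximalIdeal R) := ⟨by
      rw [Ideal.under_def, Ideal.comap_comap, ← IsScalarTower.algebraMap_eq]
      exact hover.over⟩
    have hq : q ∈ FlatCA.weakAss A (A ⊗[R] M) := by
      refine Groth.Agent.WeakAss.mem_weakAss_iff.mpr ⟨w, fun b hb => hz _ ?_, fun f hf => ?_⟩
      · rw [← hc, hb, TensorProduct.tmul_zero, map_zero]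
      · obtain ⟨s, hs, n, hn⟩ := hp (algebraMap A S f) hf
        have h0 : (algebraMap A S f) ^ n • z = 0 := by
          rw [mul_smul] at hn
          exact (not_not.1 fun hne => hs hne : IsUnit s).smul_eq_zero.mp hn
        rw [← map_pow, ← hc, map_eq_zero_iff c c.injective] at h0
        have h1 := Groth.Agent.FlatMisc.WeakAssFlat.ann_one_tmul (B := S) (f ^ n • w) 1
          (by rw [h0, smul_zero])
        obtain ⟨r, hr, hrq⟩ : ∃ r ∈ (Submodule.span A {f ^ n • w}).annihilator, r ∉ q := by
          by_contra hcon
          push Not at hcon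
          exact (maximalIdeal.isMaximal S).ne_top ((Ideal.eq_top_iff_one _).mpr
            (Ideal.map_le_iff_le_comap.mpr hcon h1))
        exact ⟨r, hrq, n, by rw [mul_smul]; exact Groth.Agent.WeakAss.mem_ann.mp hr⟩
    exact (Groth.Agent.S1233.result M (maximalIdeal R) q).mp hq
  · refine Groth.Agent.FlatMisc.WeakAssFlat.mem_of_mem _ _ ?_
    rw [h.map_max, Ideal.minimalPrimes_eq_subsingleton_self]
    rfl

open TensorProduct IsLocalRing in
/-- Ring form, S = Spec A: let M be an A-module and p a prime of A; let Ah be a henselization and Ash a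
strict henselization of the local ring A_p. The following are equivalent: p is a weakly associated
prime of M; the maximal ideal of A_p is a weakly associated prime of M_p; the maximal ideal of Ah is
a weakly associated prime of Ah ⊗ M_p; the maximal ideal of Ash is a weakly associated prime of Ash
⊗ M_p. -/
theorem result {A : Type u} [CommRing A] (M : Type u) [AddCommGroup M] [Module A M] (p : Ideal A) [p.IsPrime]
    (Ah Ash : Type u) [CommRing Ah] [IsLocalRing Ah] [CommRing Ash] [IsLocalRing Ash]
    [Algebra (Localization.AtPrime p) Ah] [IsLocalHom (algebraMap (Localization.AtPrime p) Ah)] [Hensel.IsHenselization (Localization.AtPrime p) Ah]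
    [Algebra (Localization.AtPrime p) Ash] [IsLocalHom (algebraMap (Localization.AtPrime p) Ash)] [Hensel.IsStrictHenselization (Localization.AtPrime p) Ash] :
    [p ∈ FlatCA.weakAss A M,
     maximalIdeal (Localization.AtPrime p) ∈ FlatCA.weakAss (Localization.AtPrime p) (LocalizedModule p.primeCompl M),
     maximalIdeal Ah ∈ FlatCA.weakAss Ah (Ah ⊗[Localization.AtPrime p] LocalizedModule p.primeCompl M),
     maximalIdeal Ash ∈ FlatCA.weakAss Ash (Ash ⊗[Localization.AtPrime p] LocalizedModule p.primeCompl M)].TFAE := by
  tfae_have 1 ↔ 2 := by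
    rw [← Groth.Agent.WeakAss.mem_weakAss_localizedModule_iff (M := M) p.primeCompl
      (Set.disjoint_left.mpr fun x hx hx' => hx hx')]
    have h := Groth.Agent.WeakAss.mem_weakAss_comap_iff (R := A) (N := LocalizedModule p.primeCompl M)
      p.primeCompl (maximalIdeal (Localization.AtPrime p))
    rwa [← Ideal.under_def, IsLocalization.AtPrime.under_maximalIdeal (Localization.AtPrime p) p] at h
  tfae_have 2 ↔ 3 := (iff_of_isEtLike (Groth.Agent.Hensel.isEtLike_of_isHenselization _ Ah) _).symm
  tfae_have 2 ↔ 4 :=
    (iff_of_isEtLike (Groth.Agent.Hensel.isEtLike_of_isStrictHenselization _ Ash) _).symm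
  tfae_finish

end Groth.Agent.S1234
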