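import Groth.Statements.S1238
import Groth.Agent.RGFlat.GenericWeakAss

set_option autoImplicit false
universe u
open FlatMor

namespace Groth.Agent.S1238

/-- Ring form, X = Spec S, S = Spec R affine: let R be a ring with finitely many weakly associated
primes and S a finite type R-algebra. Then the set of primes q of S with S_q flat over R is open in
Spec S, and every such q has a basic open neighbourhood D(g) with S_g flat and of finite
presentation over R. -/
theorem result {R S : Type u} [CommRing R] [CommRing S] [Algebra R S] [Algebra.FiniteType R S]
    (hR : (FlatCA.weakAss R R).Finite) :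
    IsOpen {q : PrimeSpectrum S | Module.Flat R (Localization.AtPrime q.asIdeal)} ∧
    ∀ (q : Ideal S) [q.IsPrime], Module.Flat R (Localization.AtPrime q) → ∃ g : S, g ∉ q ∧
      Algebra.FinitePresentation R (Localization.Away g) ∧ Module.Flat R (Localization.Away g) := by
  refine ⟨isOpen_iff_forall_mem_open.mpr fun q hq => ?_, fun q _ hq => ?_⟩
  · obtain ⟨g, hg, hall, -, -⟩ := RGFlat.exists_away_relative (N := S) hR q.asIdeal hq
    exact ⟨PrimeSpectrum.basicOpen g, fun Q hQ => hall Q.asIdeal hQ, (PrimeSpectrum.basicOpen g).isOpen, hg⟩
  · obtain ⟨g, hg, -, hflat, hrel⟩ := RGFlat.exists_away_relative (N := S) hR q hq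
    haveI : IsLocalizedModule (Submonoid.powers g) (Algebra.linearMap S (Localization.Away g)) :=
      (isLocalizedModule_iff_isLocalization (A := S) (Aₛ := Localization.Away g) (S := Submonoid.powers g)).mpr
        (by rw [Algebra.algebraMapSubmonoid_self]; infer_instance)
    obtain ⟨m, φ, hφ, hfp⟩ := hrel (Localization.Away g) (Localization.Away g) (Algebra.linearMap S (Localization.Away g))
    refine ⟨g, hg, ?_, hflat⟩
    letI : Algebra (MvPolynomial (Fin m) R) (Localization.Away g) := φ.toRingHom.toAlgebra
    haveI : Module.FinitePresentation (MvPolynomial (Fin m) R) (Localization.Away g) := hfp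
    exact Algebra.FinitePresentation.of_surjective hφ
      (Module.FinitePresentation.fg_ker (Algebra.linearMap (MvPolynomial (Fin m) R) (Localization.Away g)) hφ)

end Groth.Agent.S1238
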