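import Groth.Statements.S1241
import Groth.Agent.HP.ProjFibre
-- import your own Groth.Agent.* helpers here

set_option autoImplicit false
universe u
open FlatMor

namespace Groth.Agent.S1241

open TensorProduct in
/-- Ring form, X = Spec S and S = Spec R affine: let S be a finitely presented R-algebra, N a finitely
presented S-module and p a prime of R such that N_q is flat over R for every prime q of S over p.
Then there are an étale R-algebra R' with a prime p' over p having the same residue field, and an
étale S-algebra S' with a compatible R'-algebra structure, such that every prime of S over p is the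
contraction of a prime of S' and S' ⊗_S N is a projective R'-module. -/
theorem result {R S : Type u} [CommRing R] [CommRing S] [Algebra R S] [Algebra.FinitePresentation R S]
    (N : Type u) [AddCommGroup N] [Module S N] [Module R N] [IsScalarTower R S N] [Module.FinitePresentation S N]
    (p : Ideal R) [p.IsPrime] (hflat : ∀ (q : Ideal S) [q.IsPrime], q.LiesOver p → FlatCA.FlatAt R q N) :
    ∃ (R' S' : Type u) (_ : CommRing R') (_ : CommRing S') (_ : Algebra R R') (_ : Algebra S S') (_ : Algebra R' S')
      (_ : Algebra R S') (_ : IsScalarTower R R' S') (_ : IsScalarTower R S S')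
      (p' : Ideal R') (_ : p'.IsPrime),
      FlatCA.IsEtaleNhd R R' p p' ∧ Algebra.Etale S S' ∧
      (∀ (q : Ideal S) [q.IsPrime], q.LiesOver p → ∃ q' : Ideal S', q'.IsPrime ∧ q'.comap (algebraMap S S') = q) ∧
      Module.Projective R' (RestrictScalars R' S' (S' ⊗[S] N)) := by
  letI : ∀ (R' : Type u) [CommRing R'] [Algebra R R'], Algebra S (R' ⊗[R] S) := fun _ _ _ =>
    Algebra.TensorProduct.rightAlgebra
  obtain ⟨R', _, _, p', _, hnhd, ι, _, g, hcov, hproj⟩ := Groth.Agent.HP.exists_projective_fibre N p hflat
  haveI := hnhd.1
  haveI := Groth.Agent.RGFlat.Spreading.isScalarTower_tensor (A := R) (B := S) R'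
  haveI : Algebra.IsPushout R S R' (R' ⊗[R] S) := Algebra.IsPushout.symm inferInstance
  haveI : Algebra.Etale S (R' ⊗[R] S) := Algebra.Etale.of_equiv (Algebra.IsPushout.equiv R S R' (R' ⊗[R] S))
  let C := Π i, Localization.Away (g i)
  haveI : Algebra.Etale (R' ⊗[R] S) C := Groth.Agent.HP.etale_prod g
  haveI : Algebra.Etale S C := Algebra.Etale.comp S (R' ⊗[R] S) C
  haveI hRS : IsScalarTower R S C := IsScalarTower.of_algebraMap_eq fun a => by
    rw [IsScalarTower.algebraMap_apply R (R' ⊗[R] S) C, IsScalarTower.algebraMap_apply R S (R' ⊗[R] S),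
      ← IsScalarTower.algebraMap_apply S (R' ⊗[R] S) C]
  refine ⟨R', C, inferInstance, inferInstance, inferInstance, inferInstance, inferInstance, inferInstance,
    inferInstance, hRS, p', inferInstance, hnhd, inferInstance, fun q _ hq => ?_, ?_⟩
  · obtain ⟨i, x, hx, hxq⟩ := hcov q hq
    refine ⟨x.comap (Pi.evalRingHom (fun j => Localization.Away (g j)) i), Ideal.comap_isPrime _ _, ?_⟩
    rw [Ideal.comap_comap]
    exact hxq
  · let e : RestrictScalars R' C (C ⊗[S] N) ≃ₗ[R'] C ⊗[S] N :=
      (RestrictScalars.addEquiv R' C _).toLinearEquiv fun a m => by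
        rw [RestrictScalars.addEquiv_map_smul, algebraMap_smul]
    exact Module.Projective.of_equiv e.symm

end Groth.Agent.S1241
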