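import Groth.Statements.S12417
-- import your own Groth.Agent.* helpers here

set_option autoImplicit false
universe u
open CategoryTheory AlgebraicGeometry
open Props

namespace Groth.Agent.S12417

/-- Let X be a quasi-compact quasi-separated scheme and P a property of opens of X such that (a) P holds
for every affine open, and (b) whenever a quasi-compact open U has a finite affine open covering U =
V_1 ∪ … ∪ V_n with P holding for every intersection V_i ∩ V_j, P holds for U. Then P holds for every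
quasi-compact open of X. -/
theorem result (X : Scheme.{u}) [CompactSpace X] [QuasiSeparatedSpace X]
    (P : X.Opens → Prop) (ha : ∀ U : X.Opens, IsAffineOpen U → P U)
    (hb : ∀ (U : X.Opens) (n : ℕ) (V : Fin n → X.Opens), IsCompact (U : Set X) →
      (∀ i, IsAffineOpen (V i)) → ⨆ i, V i = U → (∀ i j, P (V i ⊓ V j)) → P U)
    (U : X.Opens) (hU : IsCompact (U : Set X)) : P U := by
  classical
  have haff : ∀ W : X.Opens, IsAffineOpen W → ∀ U : X.Opens, U ≤ W → IsCompact (U : Set X) → P U := by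
    intro W hW U hUW hUc
    obtain ⟨s, hs, hUs⟩ := hUc.elim_finite_subcover_image
      (b := {f : Γ(X, W) | (X.basicOpen f : Set X) ⊆ U}) (c := fun f => (X.basicOpen f : Set X))
      (fun f _ => (X.basicOpen f).2) (fun x hx => by
        obtain ⟨f, hf, hxf⟩ := hW.exists_basicOpen_le (V := U) ⟨x, hx⟩ (hUW hx)
        exact Set.mem_biUnion hf hxf) |>.imp fun s h => (⟨h.1, h.2⟩ : s ⊆ _ ∧ _)
    have := hUs.1.to_subtype
    obtain ⟨n, ⟨e⟩⟩ := Finite.exists_equiv_fin s
    refine hb U n (fun i => X.basicOpen (e.symm i).1) hUc (fun i => hW.basicOpen _) ?_ fun i j => ?_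
    · refine le_antisymm (iSup_le fun i => ?_) fun x hx => ?_
      · exact hs (e.symm i).2
      · obtain ⟨f, hf, hxf⟩ := Set.mem_iUnion₂.mp (hUs.2 hx)
        exact TopologicalSpace.Opens.mem_iSup.mpr ⟨e ⟨f, hf⟩, by simpa using hxf⟩
    · rw [← Scheme.basicOpen_mul]
      exact ha _ (hW.basicOpen _)
  obtain ⟨s, hs, hUs⟩ := isCompact_and_isOpen_iff_finite_and_eq_biUnion_affineOpens.mp
    (⟨hU, U.2⟩ : IsCompact (U : Set X) ∧ IsOpen (U : Set X))
  have := hs.to_subtype
  obtain ⟨n, ⟨e⟩⟩ := Finite.exists_equiv_fin s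
  refine hb U n (fun i => ((e.symm i).1 : X.Opens)) hU (fun i => (e.symm i).1.2) ?_ fun i j => ?_
  · ext x
    rw [TopologicalSpace.Opens.coe_iSup, hUs]
    simp only [Set.mem_iUnion, SetLike.mem_coe]
    exact ⟨fun ⟨i, hi⟩ => ⟨(e.symm i).1, (e.symm i).2, hi⟩,
      fun ⟨V, hV, hxV⟩ => ⟨e ⟨V, hV⟩, by simpa using hxV⟩⟩
  · exact haff _ (e.symm i).1.2 _ inf_le_left
      (QuasiSeparatedSpace.inter_isCompact _ _ (e.symm i).1.1.2 (IsAffineOpen.isCompact (e.symm i).1.2)
        (e.symm j).1.1.2 (IsAffineOpen.isCompact (e.symm j).1.2))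

end Groth.Agent.S12417
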