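import Groth.Statements.S12418
-- import your own Groth.Agent.* helpers here

set_option autoImplicit false
universe u
open CAlg

namespace Groth.Agent.S12418

/-- Let R be a Noetherian ring and b ∈ R; for x outside the ideal (b) put I_x = ((b) : x), the ideal of
r with r x ∈ (b). If s ∉ (b) and I_s is maximal among the I_x (x ∉ (b)), then I_s is prime. -/
theorem result {R : Type u} [CommRing R] [IsNoetherianRing R]
    (b s : R) (hs : s ∉ Ideal.span {b})
    (hmax : ∀ x : R, x ∉ Ideal.span {b} →
      Submodule.colon (Ideal.span {b}) (Ideal.span {s}) ≤ Submodule.colon (Ideal.span {b}) (Ideal.span {x}) →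
      Submodule.colon (Ideal.span {b}) (Ideal.span {x}) = Submodule.colon (Ideal.span {b}) (Ideal.span {s})) :
    (Submodule.colon (Ideal.span {b}) (Ideal.span ({s} : Set R))).IsPrime := by
  refine ⟨?_, ?_⟩
  · intro h
    have h1 : (1 : R) ∈ Submodule.colon (Ideal.span {b}) (Ideal.span ({s} : Set R)) := h ▸ Submodule.mem_top
    have := Submodule.mem_colon.mp h1 s (Ideal.mem_span_singleton_self s)
    exact hs (by simpa using this)
  · intro x y hxy
    by_contra! hc
    have key : ∀ z r : R, r ∈ Submodule.colon (Ideal.span {b}) (Ideal.span ({z} : Set R)) ↔ r * z ∈ Ideal.span {b} := by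
      intro z r
      constructor
      · intro h
        exact Submodule.mem_colon.mp h z (Ideal.mem_span_singleton_self z)
      · intro h
        refine Submodule.mem_colon.mpr fun w hw => ?_
        obtain ⟨c, rfl⟩ := Ideal.mem_span_singleton'.mp hw
        have : r * (c * z) = c * (r * z) := by ring
        simpa [smul_eq_mul, this] using Ideal.mul_mem_left _ c h
    have hys : y * s ∉ Ideal.span {b} := fun h => hc.2 ((key s y).mpr h)
    have hle : Submodule.colon (Ideal.span {b}) (Ideal.span ({s} : Set R)) ≤
        Submodule.colon (Ideal.span {b}) (Ideal.span ({y * s} : Set R)) := by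
      intro r hr
      rw [key] at hr ⊢
      have : r * (y * s) = y * (r * s) := by ring
      rw [this]
      exact Ideal.mul_mem_left _ _ hr
    have hx : x ∈ Submodule.colon (Ideal.span {b}) (Ideal.span ({y * s} : Set R)) := by
      rw [key, ← mul_assoc]
      exact (key s (x * y)).mp hxy
    rw [hmax _ hys hle] at hx
    exact hc.1 hx

end Groth.Agent.S12418
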