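import Groth.Statements.S12419
import Groth.Agent.FlatNilp.Basic
import Groth.Agent.LocFlat.Basic
import Mathlib.RingTheory.Ideal.Quotient.Basic
import Mathlib.RingTheory.LocalRing.RingHom.Basic
-- import your own Groth.Agent.* helpers here

set_option autoImplicit false
universe u
open TensorProduct
open CAlg

namespace Groth.Agent.S12419


open scoped TensorProduct
set_option linter.style.haveILetI false

theorem flat_quotient (A B A' : Type u) [CommRing A] [CommRing B] [CommRing A'] [IsLocalRing A] [Algebra A B]
    [Algebra A A'] [Module.Flat A' (A' ⊗[A] B)] (K : Ideal A') (t : ℕ)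
    (ht : IsLocalRing.maximalIdeal A ^ t ≤ K.comap (algebraMap A A')) :
    Module.Flat (A ⧸ K.comap (algebraMap A A')) ((A ⧸ K.comap (algebraMap A A')) ⊗[A] B) := by
  let J := K.comap (algebraMap A A')
  let R := A ⧸ J
  let R' := A' ⧸ K
  letI : Algebra R R' := (Ideal.quotientMap K (algebraMap A A') le_rfl).toAlgebra
  haveI : IsScalarTower A R R' := IsScalarTower.of_algebraMap_eq (fun _ => rfl)
  have hinj : Function.Injective (algebraMap R R') := Ideal.quotientMap_injective' le_rfl
  let I : Ideal R := (IsLocalRing.maximalIdeal A).map (Ideal.Quotient.mk J)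
  haveI : Module.Flat R' (R' ⊗[A] B) :=
    Groth.Agent.FlatNilp.flat_baseChange_of_tower A' R' B
  haveI : Module.Flat R' (R' ⊗[R] (R ⊗[A] B)) :=
    Groth.Agent.FlatNilp.flat_baseChange_twice R R' B
  have hI : IsNilpotent I := ⟨t, by
    rw [← Ideal.map_pow, Ideal.zero_eq_bot, Ideal.map_eq_bot_iff_le_ker, Ideal.mk_ker]
    exact ht⟩
  by_cases htop : J = ⊤
  · haveI : Subsingleton R := Ideal.Quotient.subsingleton_iff.mpr htop
    haveI : Subsingleton (R ⊗[A] B) := Module.subsingleton R _
    infer_instance
  haveI : I.IsMaximal := by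
    haveI : Nontrivial R := Ideal.Quotient.nontrivial_iff.mpr htop
    haveI : IsLocalRing R := IsLocalRing.of_surjective' (Ideal.Quotient.mk J) Ideal.Quotient.mk_surjective
    show ((IsLocalRing.maximalIdeal A).map (Ideal.Quotient.mk J)).IsMaximal
    rw [IsLocalRing.map_maximalIdeal_of_surjective _ Ideal.Quotient.mk_surjective]
    infer_instance
  letI : Field (R ⧸ I) := Ideal.Quotient.field I
  haveI : Module.Flat (R ⧸ I) ((R ⧸ I) ⊗[R] (R ⊗[A] B)) := Module.Flat.of_free
  exact Groth.Agent.FlatNilp.flat_of_nilpotent R' hinj I hI (R ⊗[A] B)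

/-- Let A → B be a local homomorphism of Noetherian local rings, m the maximal ideal of A, and φ : A →
A' a ring homomorphism to a semi-local Noetherian ring A' with Jacobson radical r', such that
φ⁻¹(r') = m and such that every power m^n contains φ⁻¹(r'^N) for some N. Then B is flat over A if
and only if A' ⊗_A B is flat over A'. (Given φ⁻¹(r') = m, the condition on powers says that the
m-adic topology of A is induced by the r'-adic topology of A', equivalently that the induced
homomorphism of adic completions is injective, which is how the published statement phrases this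
hypothesis.) -/
theorem result (A B A' : Type u) [CommRing A] [CommRing B]
    [CommRing A'] [IsNoetherianRing A] [IsLocalRing A] [IsNoetherianRing B] [IsLocalRing B]
    [Algebra A B] [IsLocalHom (algebraMap A B)] [IsNoetherianRing A'] [Finite (MaximalSpectrum A')]
    [Algebra A A']
    (hrad : (Ideal.jacobson (⊥ : Ideal A')).comap (algebraMap A A') = IsLocalRing.maximalIdeal A)
    (htop : ∀ n : ℕ, ∃ N : ℕ,
      ((Ideal.jacobson (⊥ : Ideal A')) ^ N).comap (algebraMap A A') ≤ (IsLocalRing.maximalIdeal A) ^ n) :
    Module.Flat A B ↔ Module.Flat A' (A' ⊗[A] B) := by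
  constructor
  · intro h
    infer_instance
  intro h
  refine Groth.Agent.LocFlat.flat_of_forall_pow (S := B) B (IsLocalRing.maximalIdeal A)
    (Groth.Agent.LocFlat.map_le_jacobson _ (IsLocalRing.maximalIdeal.isMaximal A).ne_top) ?_
  intro n X Y _ _ _ _ a ha hY
  obtain ⟨N, hN⟩ := htop n
  haveI := flat_quotient A B A' ((Ideal.jacobson (⊥ : Ideal A')) ^ N) N
    (Ideal.map_le_iff_le_comap.mp (((Ideal.map_pow _ _ N).trans_le
      (Ideal.pow_right_mono (Ideal.map_le_iff_le_comap.mpr hrad.ge) N))))
  refine Groth.Agent.FlatNilp.rTensor_injective_of_killed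
    (((Ideal.jacobson (⊥ : Ideal A')) ^ N).comap (algebraMap A A')) B a ha fun r hr y => ?_
  have := Submodule.smul_mem_smul (hN hr) (Submodule.mem_top (x := y))
  rw [hY] at this
  exact this

end Groth.Agent.S12419
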