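import Groth.Statements.S12420
import Groth.Agent.Chevalley.Basic
import Groth.Agent.RegLoc.Completion
import Mathlib.RingTheory.EssentialFiniteness
import Mathlib.RingTheory.Flat.TorsionFree
import Mathlib.RingTheory.Flat.Localization
import Mathlib.RingTheory.Flat.FaithfullyFlat.Algebra
import Mathlib.RingTheory.Ideal.MinimalPrime.Basic
-- import your own Groth.Agent.* helpers here

set_option autoImplicit false
universe u
open CAlg

namespace Groth.Agent.S12420


open scoped TensorProduct
open IsLocalRing
set_option linter.style.haveILetI false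

theorem key (A D : Type u) [CommRing A] [CommRing D] [IsNoetherianRing A] [IsLocalRing A] [IsLocalRing D]
    [IsDomain D] [Algebra A D] (hinj : Function.Injective (algebraMap A D)) [IsLocalHom (algebraMap A D)]
    [Algebra.EssFiniteType A D] [IsDomain (AdicCompletion (maximalIdeal A) A)] (j : ℕ) :
    ∃ n : ℕ, ((maximalIdeal D) ^ n).comap (algebraMap A D) ≤ (maximalIdeal A) ^ j := by
  let C := AdicCompletion (maximalIdeal A) A
  haveI : IsNoetherianRing C := Groth.Agent.RegLoc.Completion.isNoetherianRing_adicCompletion' _
  haveI : Module.FaithfullyFlat A C := Module.FaithfullyFlat.of_flat_of_isLocalHom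
  haveI : Algebra.EssFiniteType C (C ⊗[A] D) := inferInstance
  haveI : IsNoetherianRing (C ⊗[A] D) := Algebra.EssFiniteType.isNoetherianRing C (C ⊗[A] D)
  have hle : maximalIdeal A ≤ RingHom.ker (Algebra.ofId A (ResidueField D)).toRingHom := by
    intro a ha
    change algebraMap A (ResidueField D) a = 0
    rw [IsScalarTower.algebraMap_apply A D (ResidueField D), ResidueField.algebraMap_eq, residue_eq_zero_iff]
    exact (map_nonunit (algebraMap A D) a ha)
  let ψ : C ⊗[A] D →ₐ[A] ResidueField D := Algebra.TensorProduct.lift
    ((Ideal.Quotient.liftₐ (maximalIdeal A) (Algebra.ofId A (ResidueField D)) hle).comp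
      (AdicCompletion.evalOneₐ (maximalIdeal A)))
    (IsScalarTower.toAlgHom A D (ResidueField D)) (fun _ _ => Commute.all _ _)
  let P : Ideal (C ⊗[A] D) := RingHom.ker ψ.toRingHom
  haveI : P.IsPrime := RingHom.ker_isPrime _
  let L := Localization.AtPrime P
  haveI : IsNoetherianRing L := IsLocalization.isNoetherianRing P.primeCompl L inferInstance
  let θ : C →+* L := (algebraMap (C ⊗[A] D) L).comp (algebraMap C (C ⊗[A] D))
  haveI hF : Module.Flat C (C ⊗[A] FractionRing D) := by
    haveI : Module.Flat A (FractionRing D) := by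
      haveI : FaithfulSMul A D := (faithfulSMul_iff_algebraMap_injective A D).mpr hinj
      haveI : IsDomain A := hinj.isDomain
      haveI : Module.Flat A (FractionRing A) := IsLocalization.flat _ (nonZeroDivisors A)
      letI : Algebra (FractionRing A) (FractionRing D) := FractionRing.liftAlgebra A (FractionRing D)
      haveI : Module.Flat (FractionRing A) (FractionRing D) := Module.Flat.of_free
      exact Module.Flat.trans A (FractionRing A) (FractionRing D)
    infer_instance
  have hθ : RingHom.ker θ = ⊥ := by
    rw [eq_bot_iff]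
    intro c hc
    by_contra hc0
    obtain ⟨⟨g, hg⟩, hgc⟩ := (IsLocalization.map_eq_zero_iff P.primeCompl L _).mp hc
    have hι : Function.Injective (LinearMap.lTensor C (IsScalarTower.toAlgHom A D (FractionRing D)).toLinearMap) :=
      Module.Flat.lTensor_preserves_injective_linearMap _ (IsFractionRing.injective D (FractionRing D))
    have hlin : ∀ (c : C) (x : C ⊗[A] D),
        LinearMap.lTensor C (IsScalarTower.toAlgHom A D (FractionRing D)).toLinearMap (algebraMap C (C ⊗[A] D) c * x) =
          c • LinearMap.lTensor C (IsScalarTower.toAlgHom A D (FractionRing D)).toLinearMap x := by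
      intro c x
      induction x using TensorProduct.induction_on with
      | zero => simp
      | tmul a b => simp [TensorProduct.smul_tmul']
      | add x y hx hy => simp only [mul_add, map_add, smul_add, hx, hy]
    have h2 := hlin c g
    have hgc' : algebraMap C (C ⊗[A] D) c * g = 0 := (mul_comm _ _).trans hgc
    rw [hgc', map_zero] at h2
    have hreg : IsSMulRegular (C ⊗[A] FractionRing D) c :=
      Module.Flat.isSMulRegular_of_nonZeroDivisors (mem_nonZeroDivisors_of_ne_zero hc0)
    have h3 : g = 0 := hι (by
      rw [map_zero]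
      exact hreg (show c • _ = c • (0 : C ⊗[A] FractionRing D) by rw [← h2, smul_zero]))
    exact hg (h3 ▸ P.zero_mem)
  let K : ℕ → Ideal C := fun n => (maximalIdeal L ^ n).comap θ
  have hK : Antitone K := fun a b h => Ideal.comap_mono (Ideal.pow_le_pow_right h)
  have hK0 : ⨅ n, K n = ⊥ := by
    have hne : maximalIdeal L ≠ ⊤ := (maximalIdeal.isMaximal L).ne_top
    have e : ⨅ i : ℕ, maximalIdeal L ^ i = ⊥ := @Ideal.iInf_pow_eq_bot_of_isLocalRing L _ (maximalIdeal L) inferInstance inferInstance hne
    show (⨅ n, (maximalIdeal L ^ n).comap θ) = ⊥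
    rw [← Ideal.comap_iInf]
    exact (congrArg (Ideal.comap θ) e).trans hθ
  obtain ⟨n, hn⟩ := Groth.Agent.Chevalley.exists_le_pow K hK hK0 j
  refine ⟨n, fun a ha => ?_⟩
  have h1 : algebraMap A C a ∈ maximalIdeal C ^ j := by
    refine hn ?_
    show θ (algebraMap A C a) ∈ maximalIdeal L ^ n
    have e : θ (algebraMap A C a) =
        (algebraMap (C ⊗[A] D) L).comp
          (Algebra.TensorProduct.includeRight (R := A) (A := C) (B := D)).toRingHom (algebraMap A D a) := by
      simp [θ, ← IsScalarTower.algebraMap_apply]
    rw [e]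
    let r := (algebraMap (C ⊗[A] D) L).comp
      (Algebra.TensorProduct.includeRight (R := A) (A := C) (B := D)).toRingHom
    have hr : (maximalIdeal D).map r ≤ maximalIdeal L := by
      rw [Ideal.map_le_iff_le_comap]
      intro d hd
      rw [Ideal.mem_comap, ← Localization.AtPrime.map_eq_maximalIdeal]
      refine Ideal.mem_map_of_mem (algebraMap (C ⊗[A] D) L) ?_
      show ψ (1 ⊗ₜ[A] d) = 0
      simp [ψ]
      exact hd
    exact (Ideal.map_pow r _ n).trans_le (Ideal.pow_right_mono hr n) (Ideal.mem_map_of_mem r ha)
  rw [AdicCompletion.maximalIdeal_eq_map, ← Ideal.map_pow] at h1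
  have h2 := Ideal.mem_comap.mpr h1
  rwa [Ideal.comap_map_eq_self_of_faithfullyFlat] at h2

/-- Let φ : A → A' be an injective local homomorphism of Noetherian local rings, essentially of finite
type, such that the adic completion of A at its maximal ideal m is an integral domain. Then every
power m^j contains φ⁻¹(m'^n) for some n, m' the maximal ideal of A': the m-adic topology of A is
induced from the m'-adic topology of A'. (Equivalently, the induced homomorphism of completions Â →
Â' is injective, which is how the published statement phrases the conclusion; the inclusion of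
ideals is what its proof establishes.) -/
theorem result (A A' : Type u) [CommRing A]
    [CommRing A'] [IsNoetherianRing A] [IsNoetherianRing A'] [IsLocalRing A] [IsLocalRing A'] [Algebra A A']
    (hinj : Function.Injective (algebraMap A A')) [IsLocalHom (algebraMap A A')] [Algebra.EssFiniteType A A']
    [IsDomain (AdicCompletion (IsLocalRing.maximalIdeal A) A)] (j : ℕ) :
    ∃ n : ℕ, ((IsLocalRing.maximalIdeal A') ^ n).comap (algebraMap A A') ≤ (IsLocalRing.maximalIdeal A) ^ j := by
  let C := AdicCompletion (IsLocalRing.maximalIdeal A) A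
  haveI : Module.FaithfullyFlat A C := Module.FaithfullyFlat.of_flat_of_isLocalHom
  have hC : Function.Injective (algebraMap A C) := by
    rw [RingHom.injective_iff_ker_eq_bot, RingHom.ker_eq_comap_bot, ← Ideal.map_bot (f := algebraMap A C),
      Ideal.comap_map_eq_self_of_faithfullyFlat]
  haveI : IsDomain A := hC.isDomain
  have hb : (⊥ : Ideal A) ∈ ((⊥ : Ideal A').comap (algebraMap A A')).minimalPrimes := by
    rw [← RingHom.ker_eq_comap_bot, (RingHom.injective_iff_ker_eq_bot _).mp hinj, Ideal.minimalPrimes_eq_subsingleton_self]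
    rfl
  obtain ⟨P, hPmin, hPc⟩ := Ideal.exists_minimalPrimes_comap_eq (algebraMap A A') ⊥ hb
  haveI := hPmin.1.1
  haveI : IsLocalRing (A' ⧸ P) := IsLocalRing.of_surjective' (Ideal.Quotient.mk P) Ideal.Quotient.mk_surjective
  haveI hloc := IsLocalHom.of_surjective (Ideal.Quotient.mk P) Ideal.Quotient.mk_surjective
  haveI : IsLocalHom (algebraMap A (A' ⧸ P)) := by
    rw [IsScalarTower.algebraMap_eq A A' (A' ⧸ P)]
    exact RingHom.isLocalHom_comp _ _
  haveI : Algebra.EssFiniteType A (A' ⧸ P) := Algebra.EssFiniteType.comp A A' (A' ⧸ P)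
  have hinj' : Function.Injective (algebraMap A (A' ⧸ P)) := by
    rw [RingHom.injective_iff_ker_eq_bot, IsScalarTower.algebraMap_eq A A' (A' ⧸ P), ← RingHom.comap_ker,
      Ideal.Quotient.algebraMap_eq, Ideal.mk_ker, hPc]
  obtain ⟨n, hn⟩ := key A (A' ⧸ P) hinj' j
  refine ⟨n, fun a ha => hn ?_⟩
  rw [Ideal.mem_comap, IsScalarTower.algebraMap_apply A A' (A' ⧸ P)]
  exact (Ideal.map_pow (Ideal.Quotient.mk P) _ n).trans_le
    (Ideal.pow_right_mono (IsLocalRing.map_maximalIdeal_of_surjective _ Ideal.Quotient.mk_surjective).le n)
    (Ideal.mem_map_of_mem (Ideal.Quotient.mk P) ha)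

end Groth.Agent.S12420
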