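import Groth.Statements.S12421


set_option autoImplicit false
universe u
open TensorProduct
open Desc

namespace Groth.Agent.S12421

/-- Let R → R' be faithfully flat and M an R-module. With δ¹ : M ⊗ R' → M ⊗ (R' ⊗ R'), m ⊗ r ↦ m ⊗ (1 ⊗
r) − m ⊗ (r ⊗ 1), and δ² : M ⊗ (R' ⊗ R') → M ⊗ (R' ⊗ (R' ⊗ R')), m ⊗ x ↦ m ⊗ (1 ⊗ x) − m ⊗ (ins₁ x)
+ m ⊗ (ins₂ x), where ins₁ (r₁ ⊗ r₂) = r₁ ⊗ (1 ⊗ r₂) and ins₂ (r₁ ⊗ r₂) = r₁ ⊗ (r₂ ⊗ 1), the
sequence M ⊗ R' → M ⊗ R'^{⊗2} → M ⊗ R'^{⊗3} is exact: the kernel of δ² is the image of δ¹. (The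
published statement asserts exactness of the whole complex; this row states exactness at M ⊗ R′ ⊗ R′
only.) -/
theorem result (R R' : Type u) [CommRing R] [CommRing R'] [Algebra R R']
    [Module.FaithfullyFlat R R'] (M : Type u) [AddCommGroup M] [Module R M] :
    Function.Exact
      (LinearMap.lTensor M (Algebra.TensorProduct.includeRight : R' →ₐ[R] R' ⊗[R] R').toLinearMap -
        LinearMap.lTensor M
          (Algebra.TensorProduct.includeLeft : R' →ₐ[R] R' ⊗[R] R').toLinearMap)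
      (LinearMap.lTensor M
          (Algebra.TensorProduct.includeRight : R' ⊗[R] R' →ₐ[R] R' ⊗[R] (R' ⊗[R] R')).toLinearMap -
        LinearMap.lTensor M
          (Algebra.TensorProduct.map (AlgHom.id R R')
            (Algebra.TensorProduct.includeRight : R' →ₐ[R] R' ⊗[R] R')).toLinearMap +
        LinearMap.lTensor M
          (Algebra.TensorProduct.map (AlgHom.id R R')
            (Algebra.TensorProduct.includeLeft : R' →ₐ[R] R' ⊗[R] R')).toLinearMap) := by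
  set d1 : R' →ₗ[R] R' ⊗[R] R' := (Algebra.TensorProduct.includeRight : R' →ₐ[R] R' ⊗[R] R').toLinearMap -
    (Algebra.TensorProduct.includeLeft : R' →ₐ[R] R' ⊗[R] R').toLinearMap with hd1
  set d2 : R' ⊗[R] R' →ₗ[R] R' ⊗[R] (R' ⊗[R] R') :=
    (Algebra.TensorProduct.includeRight : R' ⊗[R] R' →ₐ[R] R' ⊗[R] (R' ⊗[R] R')).toLinearMap -
      (Algebra.TensorProduct.map (AlgHom.id R R')
        (Algebra.TensorProduct.includeRight : R' →ₐ[R] R' ⊗[R] R')).toLinearMap +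
      (Algebra.TensorProduct.map (AlgHom.id R R')
        (Algebra.TensorProduct.includeLeft : R' →ₐ[R] R' ⊗[R] R')).toLinearMap with hd2
  suffices h : Function.Exact (d1.lTensor M) (d2.lTensor M) by
    simpa only [hd1, hd2, LinearMap.lTensor_sub, LinearMap.lTensor_add] using h
  refine Module.FaithfullyFlat.lTensor_reflects_exact R R' _ _ (LinearMap.exact_iff.2 (le_antisymm ?_ ?_))
  · intro z hz
    let μ : R' ⊗[R] (R' ⊗[R] R') →ₗ[R] R' ⊗[R] R' :=
      (LinearMap.mul' R R').rTensor R' ∘ₗ (TensorProduct.assoc R R' R' R').symm.toLinearMap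
    let μ2 : R' ⊗[R] (R' ⊗[R] (R' ⊗[R] R')) →ₗ[R] R' ⊗[R] (R' ⊗[R] R') :=
      (LinearMap.mul' R R').rTensor (R' ⊗[R] R') ∘ₗ
        (TensorProduct.assoc R R' R' (R' ⊗[R] R')).symm.toLinearMap
    let h : R' ⊗[R] (M ⊗[R] (R' ⊗[R] R')) →ₗ[R] R' ⊗[R] (M ⊗[R] R') :=
      (TensorProduct.leftComm R M R' R').toLinearMap ∘ₗ μ.lTensor M ∘ₗ
        (TensorProduct.leftComm R R' M (R' ⊗[R] R')).toLinearMap
    let h2 : R' ⊗[R] (M ⊗[R] (R' ⊗[R] (R' ⊗[R] R'))) →ₗ[R] R' ⊗[R] (M ⊗[R] (R' ⊗[R] R')) :=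
      (TensorProduct.leftComm R M R' (R' ⊗[R] R')).toLinearMap ∘ₗ μ2.lTensor M ∘ₗ
        (TensorProduct.leftComm R R' M (R' ⊗[R] (R' ⊗[R] R'))).toLinearMap
    have key : h2 ∘ₗ (d2.lTensor M).lTensor R' + (d1.lTensor M).lTensor R' ∘ₗ h = LinearMap.id := by
      ext x m y w
      simp [h, h2, μ, μ2, d1, d2, TensorProduct.tmul_sub, TensorProduct.tmul_add]
    have := LinearMap.congr_fun key z
    simp only [LinearMap.add_apply, LinearMap.comp_apply, LinearMap.id_apply, LinearMap.mem_ker.1 hz,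
      map_zero, zero_add] at this
    exact ⟨_, this⟩
  · rintro _ ⟨z, rfl⟩
    have : d2 ∘ₗ d1 = 0 := by ext y; simp [d1, d2, TensorProduct.tmul_sub, ← Algebra.TensorProduct.one_def]
    rw [LinearMap.mem_ker, ← LinearMap.comp_apply, ← LinearMap.lTensor_comp, ← LinearMap.lTensor_comp, this,
      LinearMap.lTensor_zero, LinearMap.lTensor_zero, LinearMap.zero_apply]


end Groth.Agent.S12421
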