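import Groth.Statements.S12423
import Groth.Agent.S5021
import Groth.Agent.S12422
import Groth.Agent.Omega.StalkSplit
import Groth.Agent.EpiLocus.Universal

set_option autoImplicit false
universe u
open CategoryTheory CategoryTheory.Limits AlgebraicGeometry
open NonsingVar

namespace Groth.Agent.S12423

open Groth.Agent.Omega.StalkAlg in
/-- A retraction of the conormal differential of local rings gives formal smoothness. -/
theorem formallySmooth_of_retraction {A B C : Type u} [CommRing A] [CommRing B] [CommRing C]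
    {π : B →+* C} {σ : A →+* B} {P Q : Type u} [AddCommGroup P] [Module C P] [AddCommGroup Q] [Module C Q]
    {κ : RingHom.ker π →+ P} {δ : B →+ Q} (hπ : Function.Surjective π)
    (hB : letI := σ.toAlgebra; Algebra.FormallySmooth A B)
    (hP : IsKerUniv π κ) (hu : IsDerUniv π σ δ)
    (hδmul : ∀ a b, δ (a * b) = π a • δ b + π b • δ a) (hδzero : ∀ a, δ (σ a) = 0)
    {φ : P →ₗ[C] Q} (hφ : ∀ a, φ (κ a) = δ a.1) (r : Q →ₗ[C] P) (hr : ∀ p, r (φ p) = p) :
    (π.comp σ).FormallySmooth := by
  letI := σ.toAlgebra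
  letI : Algebra B C := π.toAlgebra
  letI : Algebra A C := (π.comp σ).toAlgebra
  haveI : IsScalarTower A B C := IsScalarTower.of_algebraMap_eq fun _ => rfl
  show Algebra.FormallySmooth A C
  refine (Algebra.FormallySmooth.iff_split_injection (P := B) hπ).2 ?_
  obtain ⟨l, hl, -⟩ := hu (TensorProduct B C (KaehlerDifferential A B))
    (AddMonoidHom.mk' (fun b => (1 : C) ⊗ₜ[B] KaehlerDifferential.D A B b) fun a b => by
      simp [TensorProduct.tmul_add])
    (fun a b => by
      show (1 : C) ⊗ₜ[B] KaehlerDifferential.D A B (a * b) = _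
      rw [(KaehlerDifferential.D A B).leibniz, TensorProduct.tmul_add]
      simp only [AddMonoidHom.mk'_apply, TensorProduct.smul_tmul', smul_eq_mul, mul_one]
      rw [← TensorProduct.smul_tmul, ← TensorProduct.smul_tmul]
      simp [Algebra.smul_def, RingHom.algebraMap_toAlgebra])
    (fun a => by
      show (1 : C) ⊗ₜ[B] KaehlerDifferential.D A B (algebraMap A B a) = 0
      rw [Derivation.map_algebraMap, TensorProduct.tmul_zero])
  -- the cotangent space receives the universal map
  letI : Module C Q := inferInstance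
  letI modQ : Module B Q := Module.compHom Q π
  haveI : IsScalarTower B C Q := ⟨fun b c q => by
    show (π b * c) • q = π b • c • q
    rw [mul_smul]⟩
  letI modP : Module B P := Module.compHom P π
  haveI : IsScalarTower B C P := ⟨fun b c q => by
    show (π b * c) • q = π b • c • q
    rw [mul_smul]⟩
  have hmul : ∀ a b, δ (a * b) = π a • δ b + π b • δ a := hδmul
  have hzero : ∀ a, δ (σ a) = 0 := hδzero
  letI : Module A Q := Module.compHom Q (π.comp σ)
  haveI : IsScalarTower A B Q := ⟨fun a b q => by
    show π (σ a * b) • q = π (σ a) • π b • q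
    rw [map_mul, mul_smul]⟩
  let D : Derivation A B Q :=
    { toFun := δ
      map_add' := map_add δ
      map_smul' := fun a b => by
        show δ (σ a * b) = π (σ a) • δ b
        rw [hmul, hzero, smul_zero, add_zero]
      map_one_eq_zero' := by
        show δ 1 = 0
        rw [← map_one σ]; exact hzero 1
      leibniz' := fun a b => hmul a b }
  let u : TensorProduct B C (KaehlerDifferential A B) →ₗ[B] Q :=
    TensorProduct.lift ((LinearMap.lsmul C Q).restrictScalars₁₂ B B |>.compl₂ D.liftKaehlerDifferential)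
  let eq : C →+* B ⧸ RingHom.ker (algebraMap B C) :=
    (RingHom.quotientKerEquivOfSurjective (f := algebraMap B C) hπ).symm.toRingHom
  letI : Module C (RingHom.ker (algebraMap B C)).Cotangent := Module.compHom _ eq
  haveI : IsScalarTower B C (RingHom.ker (algebraMap B C)).Cotangent :=
    IsScalarTower.of_algebraMap_smul fun b x => by
      show eq (algebraMap B C b) • x = b • x
      rw [show eq (algebraMap B C b) = algebraMap B (B ⧸ RingHom.ker (algebraMap B C)) b from
        (RingEquiv.symm_apply_eq _).2 rfl, IsScalarTower.algebraMap_smul]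
  let v : RingHom.ker π →+ (RingHom.ker (algebraMap B C)).Cotangent :=
    (RingHom.ker (algebraMap B C)).toCotangent.toAddMonoidHom
  obtain ⟨w, hw, -⟩ := hP (RingHom.ker (algebraMap B C)).Cotangent v fun b a => by
    show (RingHom.ker (algebraMap B C)).toCotangent (b • a) = π b • (RingHom.ker (algebraMap B C)).toCotangent a
    rw [map_smul]
    exact (IsScalarTower.algebraMap_smul C b _).symm
  refine ⟨(w.restrictScalars B) ∘ₗ (r.restrictScalars B) ∘ₗ u, LinearMap.ext fun x => ?_⟩
  obtain ⟨a, rfl⟩ := Ideal.toCotangent_surjective _ x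
  show w (r (u (KaehlerDifferential.kerCotangentToTensor A B C (Ideal.toCotangent _ a)))) = _
  rw [KaehlerDifferential.kerCotangentToTensor_toCotangent]
  have h1 : u ((1 : C) ⊗ₜ[B] KaehlerDifferential.D A B a.1) = δ a.1 := by
    simp [u, D, Derivation.liftKaehlerDifferential_comp_D]
  rw [h1, ← hφ, hr, hw]
  rfl

open Groth.Agent.PullStalk.Sky Groth.Agent.PullStalk.Exact Groth.Agent.Omega.StalkConormal in
/-- A closed subscheme with locally free differentials and injective conormal differential is smooth. -/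
theorem smooth_of_mono {X Y S : Scheme.{u}} (i : Y ⟶ X) [IsClosedImmersion i] {f : X ⟶ S} [Smooth f]
    [IsLocallyNoetherian S] {ΩX : X.Modules} {dX : OmegaSh.Der f ΩX} (hX : OmegaSh.IsUniversal dX)
    {ΩY : Y.Modules} {dY : OmegaSh.Der (i ≫ f) ΩY} (hY : OmegaSh.IsUniversal dY)
    {φ : Omega.conormal i ⟶ (Scheme.Modules.pullback i).obj ΩX} (hφ : OmegaSh.IsConormalDiff i dX φ)
    (hΩ : FlatMod.IsFinLocFree ΩY) [Mono φ] : Smooth (i ≫ f) := by
  haveI : IsLocallyNoetherian X := LocallyOfFiniteType.isLocallyNoetherian f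
  haveI : LocallyOfFinitePresentation (i ≫ f) :=
    LocallyOfFinitePresentation.iff_locallyOfFiniteType.2 inferInstance
  obtain ⟨c, hc, -⟩ := Omega.Basic.existsUnique_diffCompat (h := i) (b := 𝟙 S) (f' := i ≫ f) (f := f)
    (Category.comp_id _) hX dY
  obtain ⟨w, hS, hepi⟩ := Omega.CotangentSeq.exact_and_epi hX hY hφ hc
  haveI := hepi
  refine Scheme.Hom.smoothLocus_eq_top_iff.1 (top_le_iff.1 fun y _ => ?_)
  obtain ⟨δ, hmul, hzero, hδ, hu⟩ := exists_pullDer i y hX
  obtain ⟨κ, hsmul, hκ, hP⟩ := exists_conormal i y i.isEmbedding.isInducing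
  obtain ⟨hinj, hex, hsurj⟩ := stalk_exact (S := ShortComplex.mk φ c w) ⟨hS⟩ y
  haveI := (EpiLocus.free_stalk_of_isFinLocFree hΩ y).1
  obtain ⟨sec, hsec⟩ := Module.projective_lifting_property (stalkLin c y) LinearMap.id hsurj
  have hker : ∀ q, ∃ p, stalkLin φ y p = q - sec (stalkLin c y q) := fun q => (hex _).1 (by
    rw [map_sub, show stalkLin c y (sec (stalkLin c y q)) = stalkLin c y q from
      LinearMap.congr_fun hsec _, sub_self])
  choose r hr using hker
  let rl : ((Scheme.Modules.pullback i).obj ΩX).presheaf.stalk y →ₗ[Y.presheaf.stalk y]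
      (Omega.conormal i).presheaf.stalk y :=
    { toFun := r
      map_add' := fun a b => hinj (by
        show stalkLin φ y _ = stalkLin φ y _
        simp only [map_add, hr]; abel)
      map_smul' := fun t a => hinj (by
        show stalkLin φ y _ = stalkLin φ y _
        simp only [map_smul, hr, RingHom.id_apply, smul_sub]) }
  show ((i ≫ f).stalkMap y).hom.FormallySmooth
  rw [Scheme.Hom.stalkMap_comp]
  refine formallySmooth_of_retraction (i.stalkMap_surjective y)
    (Omega.StalkSmooth.formallySmooth_stalkMap_of_smooth f (i y)) hP hu hmul hzero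
    (Omega.StalkSeq.conormalDiff_stalk i.isEmbedding.isInducing hφ y κ hκ δ hδ) rl fun p => hinj ?_
  show stalkLin φ y (r (stalkLin φ y p)) = stalkLin φ y p
  rw [hr, show stalkLin c y (stalkLin φ y p) = 0 from (hex _).2 ⟨p, rfl⟩, map_zero, sub_zero]

/-- Let k be an algebraically closed field, X a nonsingular variety over k (integral, separated and of
finite type over k, all local rings regular) of dimension n, i : Y → X an irreducible closed
subscheme of dimension q with ideal sheaf I, (Ω_X, d_X) and (Ω_Y, d_Y) sheaves of differentials of X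
and Y over k (universal derivations), and φ : I/I² → i^*Ω_X the canonical map from the conormal
sheaf (class of a local section s of I ↦ pullback of d_X s). Then Y is nonsingular if and only if
(1) Ω_Y is locally free and (2) φ is a monomorphism (the conormal sequence 0 → I/I² → i^*Ω_X → Ω_Y →
0 is exact on the left too). Moreover in that case I/I² is locally free of rank n − q, the
codimension of Y. (The clause that I is then locally generated by n − q sections is not restated.) -/
theorem result (k : Type u) [Field k]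
    [IsAlgClosed k] (n q : ℕ)
    (X : Scheme.{u}) [X.Over (Spec (CommRingCat.of k))] [IsIntegral X] [IsSeparated (X ↘ (Spec (CommRingCat.of k)))]
    [LocallyOfFiniteType (X ↘ (Spec (CommRingCat.of k)))] [QuasiCompact (X ↘ (Spec (CommRingCat.of k)))]
    (hreg : ∀ x : ↥X, IsRegularLocalRing ↑(X.presheaf.stalk x))
    (hn : topologicalKrullDim ↥X = (n : WithBot ℕ∞))
    (Y : Scheme.{u}) (i : Y ⟶ X) [IsClosedImmersion i] [IrreducibleSpace ↥Y]
    (hq : topologicalKrullDim ↥Y = (q : WithBot ℕ∞))
    (ΩX : X.Modules) (dX : OmegaSh.Der (X ↘ (Spec (CommRingCat.of k))) ΩX) (hX : OmegaSh.IsUniversal dX)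
    (ΩY : Y.Modules) (dY : OmegaSh.Der (i ≫ (X ↘ (Spec (CommRingCat.of k)))) ΩY) (hY : OmegaSh.IsUniversal dY)
    (φ : Omega.conormal i ⟶ (Scheme.Modules.pullback i).obj ΩX) (hφ : OmegaSh.IsConormalDiff i dX φ) :
    ((∀ y : ↥Y, IsRegularLocalRing ↑(Y.presheaf.stalk y)) ↔ (FlatMod.IsFinLocFree ΩY ∧ Mono φ)) ∧
      ((∀ y : ↥Y, IsRegularLocalRing ↑(Y.presheaf.stalk y)) →
        FlatMod.IsFinLocFreeOfRank (n - q) (Omega.conormal i)) := by
  haveI : Smooth (X ↘ Spec (CommRingCat.of k)) := FFCurve.smooth_of_regular _ hreg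
  letI : Y.Over (Spec (CommRingCat.of k)) := ⟨i ≫ (X ↘ Spec (CommRingCat.of k))⟩
  haveI : IsSeparated (Y ↘ Spec (CommRingCat.of k)) :=
    inferInstanceAs (IsSeparated (i ≫ (X ↘ Spec (CommRingCat.of k))))
  haveI : LocallyOfFiniteType (Y ↘ Spec (CommRingCat.of k)) :=
    inferInstanceAs (LocallyOfFiniteType (i ≫ (X ↘ Spec (CommRingCat.of k))))
  haveI : QuasiCompact (Y ↘ Spec (CommRingCat.of k)) :=
    inferInstanceAs (QuasiCompact (i ≫ (X ↘ Spec (CommRingCat.of k))))
  have hY' := hY
  clear hY
  have hS : ∀ s : Spec (CommRingCat.of k), IsRegularLocalRing ((Spec (CommRingCat.of k)).presheaf.stalk s) := by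
    intro s
    obtain rfl : s = genericPoint (Spec (CommRingCat.of k)) := Subsingleton.elim (α := PrimeSpectrum k) _ _
    letI : Field ((Spec (CommRingCat.of k)).presheaf.stalk (genericPoint (Spec (CommRingCat.of k)))) :=
      inferInstanceAs (Field (Spec (CommRingCat.of k)).functionField)
    infer_instance
  refine ⟨⟨fun hY => ?_, fun ⟨hΩ, hm⟩ => ?_⟩, fun hY => ?_⟩
  · haveI : Smooth (i ≫ (X ↘ Spec (CommRingCat.of k))) := FFCurve.smooth_of_regular _ hY
    refine ⟨fun y => ?_, S5021.mono_conormalDiff_of_smooth hX hφ⟩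
    obtain ⟨U, hy, hU⟩ := (S12422.result k q Y hq ΩY dY hY').2 hY y
    exact ⟨U, q, hy, hU⟩
  · have hsm : Smooth (i ≫ (X ↘ Spec (CommRingCat.of k))) := smooth_of_mono i hX hY' hφ hΩ
    exact S15942.regular_of_smooth (i ≫ (X ↘ Spec (CommRingCat.of k))) hS
  · haveI : Smooth (i ≫ (X ↘ Spec (CommRingCat.of k))) := FFCurve.smooth_of_regular _ hY
    intro y
    obtain ⟨U, r, hy, hU, hr⟩ := S5021.result (X ↘ Spec (CommRingCat.of k)) i y
    have h1 := S12422.fibreDimAt_eq k n hn (i y)
    have h2 := S12422.fibreDimAt_eq k q hq y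
    rw [h1, show FlatMor.fibreDimAt (i ≫ (X ↘ Spec (CommRingCat.of k))) y = (q : WithBot ℕ∞) from h2] at hr
    have h3 : n = q + r := by exact_mod_cast hr
    obtain rfl : r = n - q := by omega
    exact ⟨U, hy, hU⟩

end Groth.Agent.S12423
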