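import Groth.Statements.S12424
import Groth.Agent.Cubic.Restrict
import Mathlib.Algebra.MvPolynomial.NoZeroDivisors

set_option autoImplicit false
universe u
open Cubic

namespace Groth.Agent.S12424

open Groth.Agent.Cubic MvPolynomial
open Groth.Agent.Cubic.Basic (B)


/-- Let k be an algebraically closed field of characteristic zero and S = V_+(f) ⊂ P^3_k a smooth cubic
surface, f a nonzero homogeneous cubic in four variables with the Jacobian condition at every
nonzero zero. For every hyperplane H of P^3_k the scheme-theoretic intersection S ∩ H is reduced;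
concretely, for every 4 × 3 matrix A of rank 3 over k (a linear parametrisation of H), the ternary
cubic obtained from f by substituting X_i ↦ Σ_j A_{ij} Y_j is squarefree. -/
theorem result (k : Type u) [Field k] [IsAlgClosed k] [CharZero k]
    (f : MvPolynomial (Fin 4) k) (hf : f.IsHomogeneous 3) (hf0 : f ≠ 0)
    (hsm : ∀ v : Fin 4 → k, v ≠ 0 → MvPolynomial.eval v f = 0 →
      ∃ i : Fin 4, MvPolynomial.eval v (MvPolynomial.pderiv i f) ≠ 0)
    (A : Matrix (Fin 4) (Fin 3) k) (hA : A.rank = 3) :
    Squarefree (MvPolynomial.aeval (fun i : Fin 4 => ∑ j : Fin 3, MvPolynomial.C (A i j) * MvPolynomial.X j) f) := by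
  set g := MvPolynomial.aeval (fun i : Fin 4 => ∑ j : Fin 3, MvPolynomial.C (A i j) * MvPolynomial.X j) f
    with hgdef
  have hev : ∀ y, MvPolynomial.eval y g = MvPolynomial.eval (A.mulVec y) f := fun y => by
    rw [hgdef, Basic.eval_subst]
  have hgh : g.IsHomogeneous 3 := hf.aeval _ fun i =>
    IsHomogeneous.sum _ _ _ fun j _ => isHomogeneous_C_mul_X _ _
  have hrange : Module.finrank k ↥(LinearMap.range A.mulVecLin) = 3 := hA
  have hinj : Function.Injective A.mulVecLin := by
    rw [← LinearMap.ker_eq_bot, ← Submodule.finrank_eq_zero]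
    have := LinearMap.finrank_range_add_finrank_ker A.mulVecLin
    rw [hrange, Module.finrank_fin_fun] at this
    omega
  obtain ⟨u₀, -, hu₀⟩ := Restrict.exists_notMem_of_finrank_lt
    (U := LinearMap.range A.mulVecLin) (W := ⊤) (by rw [hrange, finrank_top, Module.finrank_fin_fun]; norm_num)
  have hsup : LinearMap.range A.mulVecLin ⊔ Submodule.span k {u₀} = ⊤ := by
    refine Submodule.eq_top_of_finrank_eq ?_
    have hlt : LinearMap.range A.mulVecLin < LinearMap.range A.mulVecLin ⊔ Submodule.span k {u₀} := by
      refine lt_of_le_of_ne le_sup_left fun h => hu₀ ?_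
      rw [h]
      exact Submodule.mem_sup_right (Submodule.mem_span_singleton_self u₀)
    have h5 := Submodule.finrank_lt_finrank_of_lt hlt
    have h6 := Submodule.finrank_le (LinearMap.range A.mulVecLin ⊔ Submodule.span k {u₀})
    rw [hrange] at h5
    rw [Module.finrank_fin_fun] at h6 ⊢
    omega
  -- no line consists of critical points of the restricted form
  have key : ∀ y₁ y₂ : Fin 3 → k, LinearIndependent k ![y₁, y₂] →
      ¬ ∀ s t : k, ∀ i, MvPolynomial.eval (s • y₁ + t • y₂) (pderiv i g) = 0 := by
    intro y₁ y₂ hli hcrit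
    obtain ⟨s, t, hst, hz⟩ := Restrict.exists_binary_zero (B f (A.mulVec y₁) u₀)
      (B (Basic.dd (A.mulVec y₂) f) (A.mulVec y₁) u₀) (B f (A.mulVec y₂) u₀)
    set y := s • y₁ + t • y₂ with hy
    have hy0 : y ≠ 0 := fun h => by
      have := LinearIndependent.pair_iff.mp hli s t h
      tauto
    have hBg : ∀ z, B g y z = 0 := fun z => by
      simp [B, Basic.eval_dd, hy, hcrit s t]
    have hgy : MvPolynomial.eval y g = 0 := by
      have := Basic.B_self hgh y
      rw [hBg] at this
      simpa using this.symm
    have hAy : A.mulVec y ≠ 0 := fun h => hy0 (hinj (by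
      rw [map_zero]
      exact h))
    obtain ⟨d, hd⟩ := Basic.exists_B_ne_of_pderiv_ne (hsm _ hAy (by rw [← hev]; exact hgy))
    apply hd
    obtain ⟨r, ⟨z, rfl⟩, r', hr', rfl⟩ := Submodule.mem_sup.mp
      (show d ∈ LinearMap.range A.mulVecLin ⊔ Submodule.span k {u₀} by rw [hsup]; trivial)
    obtain ⟨c, rfl⟩ := Submodule.mem_span_singleton.mp hr'
    have h1 : B f (A.mulVec y) (A.mulVec z) = 0 := by
      have e1 := hev (y + (1 : k) • z)
      have e2 := hev (y + (-1 : k) • z)
      rw [Matrix.mulVec_add, Matrix.mulVec_smul, Basic.eval_line hgh, Basic.eval_line hf, hBg,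
        ← hev y, ← hev z] at e1 e2
      linear_combination -(e1 - e2) / 2
    have h2 : B f (A.mulVec y) u₀ = 0 := by
      rw [hy, Matrix.mulVec_add, Matrix.mulVec_smul, Matrix.mulVec_smul, Basic.B_line_left hf,
        Basic.B_smul_left hf]
      have e : B (Basic.dd (A.mulVec y₂) f) (s • A.mulVec y₁) u₀ =
          s * B (Basic.dd (A.mulVec y₂) f) (A.mulVec y₁) u₀ := by
        rw [Basic.B_symm_deg_two (Basic.isHomogeneous_dd _ hf), Basic.B_smul_right,
          Basic.B_symm_deg_two (Basic.isHomogeneous_dd _ hf)]
      rw [e]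
      linear_combination hz
    rw [Basic.B_add_right, Basic.B_smul_right, h2, show A.mulVecLin z = A.mulVec z from rfl, h1]
    ring
  have he12 : LinearIndependent k ![(![1, 0, 0] : Fin 3 → k), ![0, 1, 0]] :=
    LinearIndependent.pair_iff.mpr fun s t h => ⟨by simpa using congrFun h 0, by simpa using congrFun h 1⟩
  have hg0 : g ≠ 0 := fun hz => key _ _ he12 fun s t i => by simp [hz]
  intro d hd
  obtain ⟨e, he⟩ := hd
  have hd0 : d ≠ 0 := fun h => hg0 (by rw [he, h]; simp)
  have he0 : e ≠ 0 := fun h => hg0 (by rw [he, h]; simp)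
  have hdeg : d.totalDegree + d.totalDegree + e.totalDegree = 3 := by
    have h3 := hgh.totalDegree hg0
    rw [he, MvPolynomial.totalDegree_mul_of_isDomain (mul_ne_zero hd0 hd0) he0,
      MvPolynomial.totalDegree_mul_of_isDomain hd0 hd0] at h3
    exact h3
  rcases Nat.eq_zero_or_pos d.totalDegree with h0 | h0
  · rw [totalDegree_eq_zero_iff_eq_C.mp h0]
    refine (isUnit_iff_ne_zero.mpr ?_).map C
    intro hc
    apply hd0
    rw [totalDegree_eq_zero_iff_eq_C.mp h0, hc, C_0]
  exfalso
  have hd1 : d.totalDegree = 1 := by omega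
  set c := coeff 0 d with hc
  let L : (Fin 3 → k) →ₗ[k] k :=
    { toFun := fun x => MvPolynomial.eval x (homogeneousComponent 1 d)
      map_add' := Basic.eval_add_deg_one (homogeneousComponent_isHomogeneous 1 d)
      map_smul' := fun a x => by
        simpa using Basic.eval_smul_deg_one (homogeneousComponent_isHomogeneous 1 d) a x }
  have hdL : ∀ x, MvPolynomial.eval x d = c + L x := fun x => by
    conv_lhs => rw [← sum_homogeneousComponent d, hd1]
    simp [Finset.sum_range_succ, homogeneousComponent_zero, L, hc]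
  have hL0 : L ≠ 0 := fun h => by
    have : d = C c := MvPolynomial.funext fun x => by rw [hdL, h]; simp
    rw [this, totalDegree_C] at hd1
    omega
  have hcrit : ∀ x, MvPolynomial.eval x d = 0 → ∀ i, MvPolynomial.eval x (pderiv i g) = 0 := fun x hx i => by
    rw [he]; simp [pderiv_mul, hx]
  have hscale : ∀ (i : Fin 3) (s : k) (y : Fin 3 → k),
      MvPolynomial.eval (s • y) (pderiv i g) = s ^ 2 * MvPolynomial.eval y (pderiv i g) := fun i s y => by
    have := Basic.B_smul_left hgh s y (Pi.single i 1)
    simpa [B, Basic.eval_dd_single] using this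
  have hc0 : c = 0 := by
    by_contra hc'
    have hLp : ∀ i, Restrict.lin L * pderiv i g = 0 := fun i => MvPolynomial.funext fun y => by
      rw [map_mul, Restrict.eval_lin, map_zero]
      rcases eq_or_ne (L y) 0 with h | h
      · rw [h, zero_mul]
      · have h1 := hcrit ((-c / L y) • y) (by rw [hdL, map_smul, smul_eq_mul]; field_simp; ring) i
        rw [hscale] at h1
        have : (-c / L y) ^ 2 ≠ 0 := pow_ne_zero 2 (div_ne_zero (neg_ne_zero.mpr hc') h)
        rw [(mul_eq_zero.mp h1).resolve_left this, mul_zero]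
    have hlin : Restrict.lin L ≠ 0 := fun h => hL0 (LinearMap.ext fun y => by
      rw [← Restrict.eval_lin L y, h]; simp)
    exact key _ _ he12 fun s t i => by rw [(mul_eq_zero.mp (hLp i)).resolve_left hlin, map_zero]
  have hker : Module.finrank k ↥(LinearMap.ker L) = 2 := by
    have h1 := LinearMap.finrank_range_add_finrank_ker L
    rw [LinearMap.range_eq_top.mpr (LinearMap.surjective hL0), finrank_top, Module.finrank_self,
      Module.finrank_fin_fun] at h1
    omega
  let b := Module.finBasisOfFinrankEq k ↥(LinearMap.ker L) hker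
  refine key (b 0 : Fin 3 → k) (b 1 : Fin 3 → k) ?_ fun s t i => hcrit _ ?_ i
  · refine LinearIndependent.pair_iff.mpr fun s t h => ?_
    have h' : s • b 0 + t • b 1 = 0 := Subtype.ext (by simpa using h)
    have := Fintype.linearIndependent_iff.mp b.linearIndependent ![s, t] (by simpa using h')
    exact ⟨this 0, this 1⟩
  · rw [hdL, hc0, zero_add, map_add, map_smul, map_smul, LinearMap.mem_ker.mp (b 0).2,
      LinearMap.mem_ker.mp (b 1).2]
    simp

end Groth.Agent.S12424
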