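import Groth.Statements.S12430
import Groth.Agent.VBLib.LineCalc
import Groth.Agent.CurveDVR.Stalk
import Groth.Agent.ProperFin.Descend

set_option autoImplicit false
universe u
open CategoryTheory CategoryTheory.Limits AlgebraicGeometry
open Curves

namespace Groth.Agent.S12430

/-- Let C be a curve over an algebraically closed field k (integral, proper over k, of dimension one,
all local rings regular) and E a locally free O_C-module of rank 2 which is normalized — H^0(C, E) ≠
0 while H^0(C, E ⊗ M) = 0 for every invertible O_C-module M of negative degree. Then for every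
nonzero morphism s : O_C → E the cokernel of s is an invertible O_C-module (so E is an extension of
an invertible module by O_C). -/
theorem result (k : Type u) [Field k] [IsAlgClosed k] (C : Scheme.{u}) [C.Over (Spec (CommRingCat.of k))]
    [IsIntegral C] [IsProper (C ↘ (Spec (CommRingCat.of k)))] (hdimC : topologicalKrullDim C = 1)
    (hregC : ∀ x : C, IsRegularLocalRing (C.presheaf.stalk x))
    (E : C.Modules) (hE : FlatMod.IsFinLocFreeOfRank 2 E)
    (hE0 : Nontrivial (Coh.HH C E 0))
    (hEneg : ∀ M : C.Modules, PicF.IsInvertible M → Curv2.deg k C M 1 < 0 → Subsingleton (Coh.HH C (CohB1.tensorMod E M) 0))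
    (s : Coh.structureModule C ⟶ E) (hs : s ≠ 0) :
    PicF.IsInvertible (cokernel s) := by
  haveI := (inferInstance : IsProper (C ↘ Spec (CommRingCat.of k)))
  haveI := FFCurve.regCurve_of_regular k hdimC hregC
  have hX : VBLib.GoodCurve k C := ⟨inferInstance, FFCurve.hv k hdimC, hdimC⟩
  haveI := hX.isLocallyNoetherian
  have hO := VBLib.ofRank_one_of_invertible (LFFrame.isInvertible_structureModule C)
  have hOf := VBLib.isFinLocFree_of_ofRank hO
  have hOc := VBLib.isCoh_of_ofRank hO
  have hE' := VBLib.isFinLocFree_of_ofRank hE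
  have hEc := VBLib.isCoh_of_ofRank hE
  have hI := VBLib.isFinLocFree_image hX.pid s hOc hE'
  obtain ⟨-, hrk⟩ := hX.dg_kernel_image s hOc hEc
  haveI : Mono s := VBLib.mono_of_rk_kernel s (VBLib.isFinLocFree_kernel hX.pid s hOf hEc) (by
    have : VBLib.rk (Abelian.image s) ≠ 0 := fun h0 => hs (VBLib.eq_zero_of_rk_image s hI h0)
    rw [VBLib.rk_eq hO] at hrk
    omega)
  obtain ⟨M, j, i, hji, hj, hi, hM, hQ, hM1, hMd⟩ := hX.exists_saturation s hOc hE'
  haveI := hj
  haveI := hi
  rw [VBLib.rk_eq hO] at hM1
  have hOd : VBLib.dg k (Coh.structureModule C) = 0 := by simp [VBLib.dg, Curv2.deg, VBLib.rk_eq hO]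
  rcases eq_or_lt_of_le hMd with heq | hlt
  · haveI := (hX.dg_le_of_mono j hOc (VBLib.isCoh_of_isFinLocFree hM) ((VBLib.rk_eq hO).trans hM1.symm)).2 heq
    have hQ2 := (hX.dg_mono_cokernel i (VBLib.isCoh_of_isFinLocFree hM) hEc).2
    rw [VBLib.rk_eq hE] at hQ2
    have e : cokernel s ≅ cokernel i := cokernelIsoOfEq hji.symm ≪≫ cokernelEpiComp j i
    exact PicCl.isInvertible_of_iso e.symm (VBLib.LineCalc.isInvertible_of_rk_one hQ (by omega))
  · exfalso
    have hMi := VBLib.LineCalc.isInvertible_of_rk_one hM hM1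
    obtain ⟨hD, ⟨d⟩⟩ := VBLib.DualDeg.invertible_dual hMi
    have hDr := VBLib.ofRank_one_of_invertible hD
    haveI := hEneg _ hD (by
      rw [VBLib.dg_eq hDr, hX.dg_dual hM]
      omega)
    obtain ⟨i', hi'⟩ := VBLib.exists_mono_tensor hD i
    haveI := hi'
    haveI : Subsingleton (Coh.HH C (CohB1.tensorMod M (RefHull.dual M)) 0) :=
      (ProperFin.hMap_zero_injective i').subsingleton
    haveI : Subsingleton (Coh.HH C (Coh.structureModule C) 0) :=
      (ProperFin.hMap_zero_injective d.inv).subsingleton
    have h := VBLib.finrank_H0_structure_eq_one (VBLib.bijective_toGlobal_of_isAlgClosed (k := k) (X := C))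
    rw [Module.finrank_zero_of_subsingleton] at h
    exact zero_ne_one h

end Groth.Agent.S12430
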