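import Groth.Statements.S12431
import Groth.Agent.VBLib.SelfExt
import Groth.Agent.VBLib.SplitOne
import Groth.Agent.VBLib.HomOne
import Groth.Agent.S12430

set_option autoImplicit false
universe u
open CategoryTheory CategoryTheory.Limits AlgebraicGeometry
open Curves

set_option linter.style.haveILetI false
namespace Groth.Agent.S12431

open Groth.Agent.VBLib in
/-- A normalized indecomposable bundle of degree zero is a nonsplit self extension of `O`. -/
lemma exists_ext (k : Type u) [Field k] [IsAlgClosed k] (C : Scheme.{u}) [C.Over (Spec (CommRingCat.of k))]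
    [IsIntegral C] [IsProper (C ↘ (Spec (CommRingCat.of k)))] (hdimC : topologicalKrullDim C = 1)
    (hregC : ∀ x : C, IsRegularLocalRing (C.presheaf.stalk x)) (hg : Curv2.genus k C = 1)
    (E : C.Modules) (hE : FlatMod.IsFinLocFreeOfRank 2 E)
    (hE0 : Nontrivial (Coh.HH C E 0))
    (hEneg : ∀ M : C.Modules, PicF.IsInvertible M → Curv2.deg k C M 1 < 0 → Subsingleton (Coh.HH C (CohB1.tensorMod E M) 0))
    (hEind : ∀ L₁ L₂ : C.Modules, PicF.IsInvertible L₁ → PicF.IsInvertible L₂ → IsEmpty (E ≅ L₁ ⊞ L₂))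
    (hEdeg : Curv2.deg k C E 2 = 0) :
    ∃ (i : Coh.structureModule C ⟶ E) (q : E ⟶ Coh.structureModule C) (w : i ≫ q = 0),
      (ShortComplex.mk i q w).ShortExact ∧ ¬ IsSplitEpi q := by
  haveI := FFCurve.regCurve_of_regular k hdimC hregC
  have hX : GoodCurve k C := ⟨inferInstance, FFCurve.hv k hdimC, hdimC⟩
  haveI := hX.isLocallyNoetherian
  have hb := bijective_toGlobal_of_isAlgClosed (k := k) (X := C)
  have hOi := LFFrame.isInvertible_structureModule C
  have hO := ofRank_one_of_invertible hOi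
  have hOf := isFinLocFree_of_ofRank hO
  have hOc := isCoh_of_ofRank hO
  have hE' := isFinLocFree_of_ofRank hE
  have hEc := isCoh_of_ofRank hE
  obtain ⟨c, hc⟩ := exists_ne (0 : Coh.HH C E 0)
  let s : Coh.structureModule C ⟶ E := Props.GenLocus.homOfSec (GenusZero.toSec E c)
  have hs : s ≠ 0 := fun h0 => hc ((GenusZero.toSec E).injective (by
    rw [map_zero (GenusZero.toSec E)]
    have h1 := Props.GenLocus.sec_homOfSec (GenusZero.toSec E c) ⊤
    rw [show Props.GenLocus.homOfSec (GenusZero.toSec E c) = 0 from h0, QCoh.res_self] at h1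
    exact h1.symm))
  obtain ⟨-, hrk⟩ := hX.dg_kernel_image s hOc hEc
  haveI : Mono s := mono_of_rk_kernel s (isFinLocFree_kernel hX.pid s hOf hEc) (by
    have : rk (Abelian.image s) ≠ 0 := fun h0 =>
      hs (eq_zero_of_rk_image s (isFinLocFree_image hX.pid s hOc hE') h0)
    rw [rk_eq hO] at hrk
    omega)
  have hQ := S12430.result k C hdimC hregC E hE hE0 hEneg s hs
  have hQr := ofRank_one_of_invertible hQ
  have hQf := isFinLocFree_of_ofRank hQr
  have hOd : dg k (Coh.structureModule C) = 0 := by simp [dg, Curv2.deg, rk_eq hO]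
  have hd := (hX.dg_mono_cokernel s hOc hEc).1
  rw [hOd, ← dg_eq hE, hEdeg] at hd
  let S := ShortComplex.mk s (cokernel.π s) (cokernel.condition s)
  have hS : S.ShortExact := { exact := S.exact_of_g_is_cokernel (cokernelIsCokernel s) }
  by_cases hz : ∀ φ : Coh.structureModule C ⟶ cokernel s, φ = 0
  · haveI := hX.isSplitEpi_one hb hg hS hOf hQf hz
    obtain ⟨e⟩ := nonempty_iso_biprod hS
    exact ((hEind _ _ hOi hQ).false e).elim
  · push Not at hz
    obtain ⟨φ, hφ⟩ := hz
    haveI := (hX.line_hom hOf hQf (rk_eq hO) (rk_eq hQr) φ hφ).2.2 (by omega)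
    let S' := ShortComplex.mk s (cokernel.π s ≫ inv φ) (by simp)
    have hS' : S'.ShortExact := ShortComplex.shortExact_of_iso
      (ShortComplex.isoMk (S₁ := S) (S₂ := S') (Iso.refl _) (Iso.refl _) (asIso φ).symm (by simp [S, S']) (by simp [S, S'])) hS
    refine ⟨s, cokernel.π s ≫ inv φ, by simp, hS', fun h => ?_⟩
    haveI := h
    obtain ⟨e⟩ := nonempty_iso_biprod hS'
    exact (hEind _ _ hOi hOi).false e


/-- Uniqueness, e = 0 case: let C be an elliptic curve over an algebraically closed field k — integral,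
proper over k, of dimension one, all local rings regular, of genus 1 — and let E and E′ be locally
free O_C-modules of rank 2 which are normalized (H^0(C, E) ≠ 0 while H^0(C, E ⊗ M) = 0 for every
invertible M of negative degree; likewise for E′), indecomposable (not isomorphic to a direct sum of
two invertible modules) and of degree 0, where deg E = χ(E) − 2χ(O_C). Then E and E′ are isomorphic:
there is exactly one elliptic ruled surface with invariant e = 0 and indecomposable E. -/
theorem result (k : Type u) [Field k] [IsAlgClosed k] (C : Scheme.{u}) [C.Over (Spec (CommRingCat.of k))]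
    [IsIntegral C] [IsProper (C ↘ (Spec (CommRingCat.of k)))] (hdimC : topologicalKrullDim C = 1)
    (hregC : ∀ x : C, IsRegularLocalRing (C.presheaf.stalk x)) (hg : Curv2.genus k C = 1)
    (E : C.Modules) (hE : FlatMod.IsFinLocFreeOfRank 2 E)
    (hE0 : Nontrivial (Coh.HH C E 0))
    (hEneg : ∀ M : C.Modules, PicF.IsInvertible M → Curv2.deg k C M 1 < 0 → Subsingleton (Coh.HH C (CohB1.tensorMod E M) 0))
    (hEind : ∀ L₁ L₂ : C.Modules, PicF.IsInvertible L₁ → PicF.IsInvertible L₂ → IsEmpty (E ≅ L₁ ⊞ L₂))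
    (hEdeg : Curv2.deg k C E 2 = 0)
    (E' : C.Modules) (hE' : FlatMod.IsFinLocFreeOfRank 2 E')
    (hE'0 : Nontrivial (Coh.HH C E' 0))
    (hE'neg : ∀ M : C.Modules, PicF.IsInvertible M → Curv2.deg k C M 1 < 0 → Subsingleton (Coh.HH C (CohB1.tensorMod E' M) 0))
    (hE'ind : ∀ L₁ L₂ : C.Modules, PicF.IsInvertible L₁ → PicF.IsInvertible L₂ → IsEmpty (E' ≅ L₁ ⊞ L₂))
    (hE'deg : Curv2.deg k C E' 2 = 0) :
    Nonempty (E ≅ E') := by
  obtain ⟨i, q, w, hS, hn⟩ := exists_ext k C hdimC hregC hg E hE hE0 hEneg hEind hEdeg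
  obtain ⟨i', q', w', hS', hn'⟩ := exists_ext k C hdimC hregC hg E' hE' hE'0 hE'neg hE'ind hE'deg
  exact VBLib.SelfExt.nonempty_iso (k := k) hg hS hS' hn hn' 

end Groth.Agent.S12431
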