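import Groth.Statements.S12432
import Groth.Agent.JacPts.CliffEq
import Groth.Agent.FFCurve.Slope
import Groth.Agent.FFCurve.CanonicalEmbed
import Groth.Agent.FFCurve.Nondegenerate
import Groth.Agent.FFCurve.Smooth

set_option autoImplicit false
universe u
open CategoryTheory CategoryTheory.Limits AlgebraicGeometry
open Curves

namespace Groth.Agent.S12432

open FunFld in
/-- A nonnegative divisor of positive degree over an algebraically closed field contains a point. -/
lemma exists_sub_single {k : Type u} [Field k] [IsAlgClosed k] {K : Type u} [Field K] [Algebra k K]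
    (hK : IsFunctionField k K) {D : Divisor k K} (hD : 0 ≤ D) (hd : 0 < D.deg) :
    ∃ P : Place k K, 0 ≤ D - Finsupp.single P 1 ∧ (D - Finsupp.single P 1).deg = D.deg - 1 := by
  classical
  obtain ⟨P, hP⟩ : ∃ P, 0 < D P := by
    by_contra! h
    have := FF.deg_mono (show D ≤ 0 from fun Q => h Q)
    rw [FF.deg_zero'] at this
    omega
  refine ⟨P, fun Q => ?_, by rw [FF.deg_sub, FF.deg_single, FF.deg_eq_one hK]; ring⟩
  rw [Finsupp.sub_apply, Finsupp.single_apply]
  have h0 : (0 : ℤ) ≤ D Q := hD Q
  show (0 : ℤ) ≤ _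
  split_ifs with e
  · subst e; omega
  · omega


/-- In degree d = 6 the curve is canonical. Take k algebraically closed and suppose X is a curve over k
(integral, proper over k, one-dimensional, with every local ring regular), equipped with a closed
immersion i : X → P^3_k over k whose image lies in no plane — that is, any nonzero global section of
O(1) on P^3_k pulls back to a nonzero global section of i^*O(1). Assume the hyperplane section is
special, meaning H^1(X, i^*O(1)) ≠ 0, and that deg i^*O(1) = 6. Then i^*O(1) is isomorphic to the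
canonical sheaf Ω_{X/k}, and X has genus 4 (so X is a canonical curve of genus 4; the isomorphism is
asserted to exist as O_X-modules). -/
theorem result (k : Type u) [Field k] [IsAlgClosed k] (X : Scheme.{u}) [X.Over (Spec (CommRingCat.of k))]
    [IsIntegral X] [IsProper (X ↘ (Spec (CommRingCat.of k)))] (hdim : topologicalKrullDim X = 1)
    (hreg : ∀ x : X, IsRegularLocalRing (X.presheaf.stalk x))
    (i : X ⟶ CohB1.ProjSpace 3 k) [IsClosedImmersion i] (hi : i ≫ CohB1.ProjSpace.toSpec 3 k = (X ↘ (Spec (CommRingCat.of k))))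
    (hplane : ∀ s : LinSer.Sect (CohB1.ProjSpace 3 k) (Twist.twistProjSpace 3 k 1), s ≠ 0 →
      OmegaSh.pullSect i (Twist.twistProjSpace 3 k 1) ⊤ s ≠ 0)
    (hspecial : Nontrivial (Coh.HH X ((Scheme.Modules.pullback i).obj (Twist.twistProjSpace 3 k 1)) 1))
    (hdeg : Curv2.deg k X ((Scheme.Modules.pullback i).obj (Twist.twistProjSpace 3 k 1)) 1 = 6) :
    Nonempty (((Scheme.Modules.pullback i).obj (Twist.twistProjSpace 3 k 1)) ≅ Omega.sheaf (X ↘ (Spec (CommRingCat.of k)))) ∧ Curv2.genus k X = 4 := by
  classical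
  haveI := FFCurve.smooth_of_regular (X ↘ Spec (CommRingCat.of k)) hreg
  haveI := FFCurve.regCurve_of_regular k hdim hreg
  have hL := PicCl.isInvertible_pullback i (ProjTwist.isInvertible_twistProjSpace 3 k 1)
  haveI : Module.Finite k (Coh.HH X ((Scheme.Modules.pullback i).obj (Twist.twistProjSpace 3 k 1)) 0) :=
    EulerChar.finite_HH k _ (VBLib.isCoh_of_ofRank (ProjTwist.isFinLocFreeOfRank_one hL)) 0
  haveI : Module.Finite k (Coh.HH X ((Scheme.Modules.pullback i).obj (Twist.twistProjSpace 3 k 1)) 1) :=
    EulerChar.finite_HH k _ (VBLib.isCoh_of_ofRank (ProjTwist.isFinLocFreeOfRank_one hL)) 1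
  have h4 := FFCurve.succ_le_h0_pullback k i hi hplane
  have h1pos : 0 < Module.finrank k (Coh.HH X ((Scheme.Modules.pullback i).obj (Twist.twistProjSpace 3 k 1)) 1) :=
    Module.finrank_pos_iff.2 hspecial
  have hK := FFCurve.isFunctionField_of_isAlgClosed (X := X) k hdim
  obtain ⟨-, hcl⟩ := FFCurve.clifford_or_eq (k := k) hdim hreg hL (le_trans (by norm_num) h4)
  have hone := FFCurve.finrank_one k hdim hK hL
  have hsep := FFCurve.isSep_of_closedImmersion k hdim i hi hL
  rw [FFCurve.deg_eq k hdim hK hL] at hdeg hcl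
  rw [FFCurve.finrank_zero k hdim hK hL] at hcl h4
  rw [FFCurve.genus_eq_genus k hdim hK] at hcl ⊢
  set D := FFCurve.divOf k hdim hL with hD
  set g := FunFld.genus k X.functionField
  have hell : FunFld.ell D = 4 := by omega
  have hle : D.deg ≤ 2 * (g : ℤ) - 2 := by
    by_contra hn
    have := FF.ell_eq_of_deg_ge hK (D := D) (by omega)
    omega
  have hge : ¬ D.deg < 2 * (g : ℤ) - 2 := fun hlt => by
    obtain ⟨E, hEd, hEl, z, hz, hDE⟩ := JacPts.CliffEq.clifford_eq hK (D := D) (by omega) hlt (by omega)
    obtain ⟨w, hw, hnn⟩ := FF.exists_nonneg_equiv hK (D := E) (by omega)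
    have hE'd : (E + FunFld.div k w).deg = 2 := by rw [FF.deg_add, FF.deg_div hK.1, add_zero, hEd]
    obtain ⟨P, hP0, hP1⟩ := exists_sub_single hK hnn (by omega)
    obtain ⟨Q, hQ0, hQ1⟩ := exists_sub_single hK hP0 (by omega)
    have h0 : E + FunFld.div k w - Finsupp.single P 1 - Finsupp.single Q 1 = 0 := by
      refine le_antisymm (fun R => ?_) hQ0
      by_contra hR
      change ¬ _ ≤ (0 : ℤ) at hR
      have hle : Finsupp.single R (1 : ℤ) ≤ E + FunFld.div k w - Finsupp.single P 1 - Finsupp.single Q 1 := fun S => by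
        rw [Finsupp.single_apply]
        split_ifs with e
        · subst e; omega
        · exact hQ0 S
      have := FF.deg_mono hle
      rw [FF.deg_single, FF.deg_eq_one hK] at this
      omega
    have h2 := JacPts.CliffEq.succ_le_ell_nsmul hK hEl 2
    have hs := hsep P Q
    rw [hell] at hDE
    have hdiv : D - Finsupp.single P 1 - Finsupp.single Q 1 = 2 • E + FunFld.div k (z * w⁻¹) := by
      rw [FF.div_mul hK.1 hz (inv_ne_zero hw), FF.div_inv hK.1, hDE,
        show (4 - 1 : ℕ) • E = 2 • E + E from succ_nsmul E 2]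
      calc 2 • E + E + FunFld.div k z - Finsupp.single P 1 - Finsupp.single Q 1
          = 2 • E + (FunFld.div k z + -FunFld.div k w) +
              (E + FunFld.div k w - Finsupp.single P 1 - Finsupp.single Q 1) := by abel
        _ = _ := by rw [h0, add_zero]
    rw [hdiv, FF.ell_add_div hK (mul_ne_zero hz (inv_ne_zero hw))] at hs
    omega
  have hg : g = 4 := by omega
  refine ⟨?_, hg⟩
  obtain ⟨z, hz, he⟩ := JacPts.CliffEq.eq_canonical hK (FFCurve.isCanonical_omega k hdim) (F := D)
    (by omega) (by omega)
  exact FFCurve.nonempty_iso_of_div k hdim hL (FFCurve.isInvertible_omega k hdim) hz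
    (by rw [← hD, he, add_sub_cancel_right])

end Groth.Agent.S12432
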