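import Groth.Statements.S12436
import Groth.Agent.Blow44.CurveComap
import Groth.Agent.FFCurve.Point
import Groth.Agent.RedSub.Basic
import Groth.Agent.TwistFlat.HilbInt
import Groth.Agent.PicLaw.Swap
import Groth.Agent.VBLib.RR

set_option autoImplicit false
universe u
open CategoryTheory CategoryTheory.Limits AlgebraicGeometry
open Surf

namespace Groth.Agent.S12436

/-- Let π : X → C be a ruled surface over an algebraically closed field k — X a surface (integral, of
dimension two, all local rings regular, with a closed immersion into some P^n_k over k), C a curve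
(integral, proper over k, of dimension one, all local rings regular), π a surjective k-morphism with
every closed fibre isomorphic to P^1_k, σ a section — let C₀ = σ(C) with ideal sheaf ker σ, and let
f = π⁻¹(y) be the fibre over a closed point y, with ideal m_y·O_X. Then C₀.f = 1 and f² = 0; in
terms of the intersection number (L·M) = χ(O) − χ(L) − χ(M) + χ(L ⊗ M) of the ideal sheaves,
(I_{C₀}·I_f) = 1 and (I_f·I_f) = 0. -/
theorem result (k : Type u) [Field k] [IsAlgClosed k] (X : Scheme.{u}) [X.Over (Spec (CommRingCat.of k))]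
    [IsIntegral X] (hdim : topologicalKrullDim X = 2) (hreg : ∀ x : X, IsRegularLocalRing (X.presheaf.stalk x))
    (hproj : ∃ (n : ℕ) (ι : X ⟶ CohB1.ProjSpace n k), IsClosedImmersion ι ∧ ι ≫ CohB1.ProjSpace.toSpec n k = (X ↘ (Spec (CommRingCat.of k))))
    (C : Scheme.{u}) [C.Over (Spec (CommRingCat.of k))]
    [IsIntegral C] [IsProper (C ↘ (Spec (CommRingCat.of k)))] (hdimC : topologicalKrullDim C = 1)
    (hregC : ∀ x : C, IsRegularLocalRing (C.presheaf.stalk x))
    (π : X ⟶ C) (hπ : π ≫ (C ↘ (Spec (CommRingCat.of k))) = (X ↘ (Spec (CommRingCat.of k)))) (hsurj : Function.Surjective π)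
    (hfib : ∀ y : C, IsClosed ({y} : Set C) → Nonempty (pullback π (C.fromSpecResidueField y) ≅ CohB1.ProjSpace 1 k))
    (σ : C ⟶ X) (hσ : σ ≫ π = 𝟙 C)
    [HasInjectiveResolutions X.Modules] (y : C) (hy : IsClosed ({y} : Set C)) :
    FGA.intNum k X 2 ![ClSub.idealMod σ.ker, (ClSub.idealMod ((Scheme.IdealSheafData.vanishingIdeal ⟨{y}, hy⟩).comap π))] (Coh.structureModule X) = 1 ∧
      FGA.intNum k X 2 ![(ClSub.idealMod ((Scheme.IdealSheafData.vanishingIdeal ⟨{y}, hy⟩).comap π)), (ClSub.idealMod ((Scheme.IdealSheafData.vanishingIdeal ⟨{y}, hy⟩).comap π))] (Coh.structureModule X) = 0 := by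
  obtain ⟨n, ι, hι, hιk⟩ := hproj
  haveI := hι
  haveI := SurfRR.isProper_of_closedImmersion k ι hιk
  haveI := EulerChar.isNoetherian k (X := X)
  haveI := EulerChar.isNoetherian k (X := C)
  have hd : topologicalKrullDim X ≤ (2 : ℕ) := hdim.le
  -- the point
  let I := Scheme.IdealSheafData.vanishingIdeal (X := C) ⟨{y}, hy⟩
  haveI := FFCurve.regCurve_of_regular k hdimC hregC
  have hIi : PicF.IsInvertible (ClSub.idealMod I) := FFCurve.isInvertible_pointI k hdimC ⟨y, hy⟩
  have hI : BlowUp.IsEffCartierIdeal I := IdealSh.IdealMod.isEffCartierIdeal_of_isInvertible I hIi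
  have hsp : (I.support : Set C) = {y} := Scheme.IdealSheafData.coe_support_vanishingIdeal ⟨{y}, hy⟩
  haveI : Subsingleton I.subscheme := ⟨fun a b => I.subschemeι.isEmbedding.injective (by
    have ha := I.range_subschemeι.le ⟨a, rfl⟩
    have hb := I.range_subschemeι.le ⟨b, rfl⟩
    rw [hsp] at ha hb
    exact ha.trans hb.symm)⟩
  haveI : Nonempty I.subscheme := by
    obtain ⟨a, -⟩ := (show y ∈ Set.range I.subschemeι by rw [I.range_subschemeι, hsp]; rfl)
    exact ⟨a⟩
  obtain ⟨eTriv⟩ := PicLaw.nonempty_iso_of_subsingleton (X := I.subscheme)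
    (PicCl.isInvertible_pullback I.subschemeι hIi)
  -- the fibre
  let F := I.comap π
  have hF : BlowUp.IsEffCartierIdeal F := by
    refine S8862.result π I hI fun ξ hξ hmem => ?_
    have hgen : ξ = genericPoint X := (hξ _ (genericPoint_specializes ξ)).symm
    subst hgen
    obtain ⟨x, hx⟩ := hsurj (genericPoint C)
    have h1 : π x ∈ (I.support : Set C) :=
      ((genericPoint_specializes x).map π.continuous).mem_closed I.support.isClosed hmem
    exact IdealSh.Regular.not_mem_support_of_maximal hI (genericPoint C)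
      (fun w hw => (hw.antisymm (genericPoint_specializes w)).eq) (hx ▸ h1)
  have hFi := IdealSh.IdealMod.isInvertible_of_isEffCartierIdeal F hF
  obtain ⟨eF⟩ := PicAlg.nonempty_pullback_idealMod π I hI hF
  have hπI := PicCl.isInvertible_pullback π hIi
  constructor
  · haveI : IsClosedImmersion σ := by
      haveI : IsClosedImmersion (σ ≫ π) := hσ ▸ inferInstance
      haveI : IsSeparated π := by
        haveI : IsSeparated (π ≫ (C ↘ Spec (CommRingCat.of k))) := hπ ▸ inferInstance
        exact IsSeparated.of_comp π (C ↘ Spec (CommRingCat.of k))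
      exact IsClosedImmersion.of_comp σ π
    have hS : PicF.IsInvertible (ClSub.idealMod σ.ker) :=
      SurfRR.isInvertible_curve k (hdim.trans rfl) hreg σ (hdimC.trans rfl)
    rw [SurfRR.pr_eq_intNum k hd hS hFi]
    haveI : IsIso σ.toImage := inferInstance
    let e : C ≅ σ.ker.subscheme := asIso σ.toImage
    have hec : e.hom ≫ σ.ker.subschemeι = σ := Scheme.Hom.toImage_imageι σ
    have hσk : σ ≫ (X ↘ Spec (CommRingCat.of k)) = C ↘ Spec (CommRingCat.of k) := by
      rw [← hπ, ← Category.assoc, hσ, Category.id_comp]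
    have h1 := Blow44.deg_eq_neg_pr k σ.ker hS hFi
    rw [BigVol.CurveTest.euler_sub_eq_deg k σ.ker hFi, Curv2.deg, Nat.cast_one, one_mul] at h1
    letI : σ.ker.subscheme.Over (Spec (CommRingCat.of k)) := ⟨σ.ker.subschemeι ≫ (X ↘ Spec (CommRingCat.of k))⟩
    haveI : IsProper (σ.ker.subschemeι ≫ (X ↘ Spec (CommRingCat.of k))) := inferInstance
    have w : e.hom ≫ σ.ker.subschemeι ≫ (X ↘ Spec (CommRingCat.of k)) = C ↘ Spec (CommRingCat.of k) := by
      rw [← Category.assoc, hec, hσk]
    have hN := PicCl.isInvertible_pullback σ.ker.subschemeι hFi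
    haveI hCp : IsProper (C ↘ Spec (CommRingCat.of k)) := inferInstance
    have eI : (Scheme.Modules.pullback e.hom).obj
        ((Scheme.Modules.pullback σ.ker.subschemeι).obj (ClSub.idealMod F)) ≅ ClSub.idealMod I :=
      (Scheme.Modules.pullbackComp e.hom σ.ker.subschemeι).app _ ≪≫
        (Scheme.Modules.pullbackCongr hec).app _ ≪≫ (Scheme.Modules.pullback σ).mapIso eF.symm ≪≫
        (Scheme.Modules.pullbackComp σ π).app _ ≪≫ (Scheme.Modules.pullbackCongr hσ).app _ ≪≫
        (Scheme.Modules.pullbackId C).app _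
    have tA : Curv2.euler k C ((Scheme.Modules.pullback e.hom).obj
        ((Scheme.Modules.pullback σ.ker.subschemeι).obj (ClSub.idealMod F))) =
        Curv2.euler k σ.ker.subscheme ((Scheme.Modules.pullback σ.ker.subschemeι).obj (ClSub.idealMod F)) :=
      TwistFlat.euler_iso_scheme (C ↘ Spec (CommRingCat.of k))
        (σ.ker.subschemeι ≫ (X ↘ Spec (CommRingCat.of k))) e w _ (ProjTwist.isQCoh_of_isInvertible hN)
    have tB : Curv2.euler k C ((Scheme.Modules.pullback e.hom).obj (Coh.structureModule σ.ker.subscheme)) =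
        Curv2.euler k σ.ker.subscheme (Coh.structureModule σ.ker.subscheme) :=
      TwistFlat.euler_iso_scheme (C ↘ Spec (CommRingCat.of k))
        (σ.ker.subschemeι ≫ (X ↘ Spec (CommRingCat.of k))) e w _
        (ProjTwist.isQuasicoherent_structureModule _)
    rw [EulerChar.euler_iso k eI] at tA
    rw [EulerChar.euler_iso k (QCoh.pullbackUnitIso e.hom)] at tB
    have hA := tA.symm
    have hB := tB.symm
    change Curv2.euler k σ.ker.subscheme _ - Curv2.euler k σ.ker.subscheme _ = _ at h1
    rw [hA, hB] at h1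
    have hI' : PicF.IsInvertible (ClSub.idealMod I.subschemeι.ker) := by
      rw [Scheme.IdealSheafData.ker_subschemeι]; exact hIi
    letI : I.subscheme.Over (Spec (CommRingCat.of k)) := ⟨I.subschemeι ≫ (C ↘ Spec (CommRingCat.of k))⟩
    haveI : IsProper (I.subscheme ↘ Spec (CommRingCat.of k)) :=
      inferInstanceAs (IsProper (I.subschemeι ≫ (C ↘ Spec (CommRingCat.of k))))
    have h2 := SurfRR.euler_ker k I.subschemeι rfl hI'
    rw [Scheme.IdealSheafData.ker_subschemeι] at h2
    haveI : AlgebraicGeometry.IsReduced I.subscheme := RedSub.isReduced_vanishingIdeal _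
    haveI : PreirreducibleSpace I.subscheme := ⟨Set.subsingleton_univ.isPreirreducible⟩
    haveI : IrreducibleSpace I.subscheme := { toNonempty := ‹Nonempty _› }
    haveI : IsIntegral I.subscheme := isIntegral_of_irreducibleSpace_of_isReduced _
    haveI := EulerChar.isNoetherian k (X := I.subscheme)
    have h0 : Curv2.euler k I.subscheme (Coh.structureModule I.subscheme) = 1 := by
      rw [EulerChar.euler_eq_sum k (M := Coh.structureModule I.subscheme) (t := 1) fun i hi =>
        CohTop.Vanishing.grothendieck_vanishing (X := I.subscheme.toPresheafedSpace.carrier) 0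
          (topologicalKrullDim_zero_of_discreteTopology _) (Coh.toAb _) i (by omega)]
      simp [Finset.sum_range_succ,
        VBLib.finrank_H0_structure_eq_one VBLib.bijective_toGlobal_of_isAlgClosed]
    rw [h0] at h2
    linarith
  · rw [SurfRR.pr_eq_intNum k hd hFi hFi]
    have h1 := Blow44.deg_eq_neg_pr k F hFi hFi
    rw [BigVol.CurveTest.euler_sub_eq_deg k F hFi, Curv2.deg, Nat.cast_one, one_mul] at h1
    let q : F.subscheme ⟶ I.subscheme := (I.comapIso π).hom ≫ pullback.snd π I.subschemeι
    have hq : q ≫ I.subschemeι = F.subschemeι ≫ π := by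
      show ((I.comapIso π).hom ≫ pullback.snd π I.subschemeι) ≫ I.subschemeι = _
      rw [Category.assoc, ← pullback.condition, ← Category.assoc, Scheme.IdealSheafData.comapIso_hom_fst]
    letI : F.subscheme.Over (Spec (CommRingCat.of k)) := ⟨F.subschemeι ≫ (X ↘ Spec (CommRingCat.of k))⟩
    haveI : IsProper (F.subscheme ↘ Spec (CommRingCat.of k)) :=
      inferInstanceAs (IsProper (F.subschemeι ≫ (X ↘ Spec (CommRingCat.of k))))
    have e : (Scheme.Modules.pullback F.subschemeι).obj (ClSub.idealMod F) ≅ Coh.structureModule F.subscheme :=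
      (Scheme.Modules.pullback F.subschemeι).mapIso eF.symm ≪≫
        (Scheme.Modules.pullbackComp F.subschemeι π).app _ ≪≫ (Scheme.Modules.pullbackCongr hq.symm).app _ ≪≫
        ((Scheme.Modules.pullbackComp q I.subschemeι).app _).symm ≪≫
        (Scheme.Modules.pullback q).mapIso eTriv ≪≫ QCoh.pullbackUnitIso q
    have := EulerChar.euler_iso k e
    change Curv2.euler k F.subscheme _ - Curv2.euler k F.subscheme _ = _ at h1
    rw [this, sub_self] at h1
    linarith


end Groth.Agent.S12436
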