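import Groth.Statements.S13911
import Mathlib

set_option autoImplicit false
universe u
open PlaneConic

namespace Groth.Agent.S13911

open MvPolynomial Matrix

section
variable {k : Type u} [Field k]

/-- linear form -/
noncomputable def lin (a : Fin 3 → k) : MvPolynomial (Fin 3) k := ∑ i : Fin 3, a i • X i

theorem eval_lin (a x : Fin 3 → k) : eval x (lin a) = a ⬝ᵥ x := by
  simp [lin, dotProduct, MvPolynomial.smul_eval]

theorem lin_homog (a : Fin 3 → k) : (lin a).IsHomogeneous 1 :=
  IsHomogeneous.sum _ _ _ fun i _ => by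
    rw [MvPolynomial.smul_eq_C_mul]; exact (isHomogeneous_X k i).C_mul _

/-- quadratic form -/
noncomputable def quad (Q : Matrix (Fin 3) (Fin 3) k) : MvPolynomial (Fin 3) k :=
  ∑ i : Fin 3, ∑ j : Fin 3, Q i j • (X i * X j)

theorem eval_quad (Q : Matrix (Fin 3) (Fin 3) k) (x : Fin 3 → k) :
    eval x (quad Q) = x ⬝ᵥ (Q *ᵥ x) := by
  simp [quad, dotProduct, mulVec, MvPolynomial.smul_eval, Fin.sum_univ_three]
  ring

theorem pderiv_quad {Q : Matrix (Fin 3) (Fin 3) k} (hQ : Q.IsSymm) (x : Fin 3 → k) (i : Fin 3) :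
    eval x (pderiv i (quad Q)) = 2 * (Q *ᵥ x) i := by
  have h01 := hQ.apply 0 1
  have h02 := hQ.apply 0 2
  have h12 := hQ.apply 1 2
  simp only [quad, Fin.sum_univ_three, MvPolynomial.smul_eq_C_mul, map_add, pderiv_C_mul, pderiv_mul]
  fin_cases i <;>
    simp [pderiv_X, Pi.single_apply, mulVec, dotProduct, Fin.sum_univ_three, h01, h02, h12] <;> ring

/-- the symmetric product -/
def sym2 (a b : Fin 3 → k) : Matrix (Fin 3) (Fin 3) k :=
  Matrix.of fun i j => (a i * b j + b i * a j) / 2

theorem eval_sym2 (h2 : (2 : k) ≠ 0) (a b x : Fin 3 → k) :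
    x ⬝ᵥ (sym2 a b *ᵥ x) = (a ⬝ᵥ x) * (b ⬝ᵥ x) := by
  simp [sym2, dotProduct, mulVec, Fin.sum_univ_three]
  field_simp
  ring

theorem eq_of_quad_eq (h2 : (2 : k) ≠ 0) {Q Q' : Matrix (Fin 3) (Fin 3) k} (hQ : Q.IsSymm)
    (hQ' : Q'.IsSymm) (h : ∀ x, x ⬝ᵥ (Q *ᵥ x) = x ⬝ᵥ (Q' *ᵥ x)) : Q = Q' := by
  have key : ∀ (R : Matrix (Fin 3) (Fin 3) k), R.IsSymm → ∀ i j, 2 * R i j =
      (Pi.single i (1 : k) + Pi.single j 1) ⬝ᵥ (R *ᵥ (Pi.single i 1 + Pi.single j 1)) -
      Pi.single i (1 : k) ⬝ᵥ (R *ᵥ Pi.single i 1) - Pi.single j (1 : k) ⬝ᵥ (R *ᵥ Pi.single j 1) := by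
    intro R hR i j
    simp [mulVec_add, dotProduct_add, add_dotProduct, mulVec_single, single_dotProduct, hR.apply i j]
    ring
  ext i j
  have := key Q hQ i j
  rw [h, h, h, ← key Q' hQ' i j] at this
  exact mul_left_cancel₀ h2 this

theorem sym2_symm (a b : Fin 3 → k) : (sym2 a b).IsSymm := by
  refine Matrix.IsSymm.ext fun i j => ?_
  simp [sym2]; ring

theorem sym2_mulVec (a b x : Fin 3 → k) :
    sym2 a b *ᵥ x = ((b ⬝ᵥ x) / 2) • a + ((a ⬝ᵥ x) / 2) • b := by
  funext i
  simp [sym2, dotProduct, mulVec, Fin.sum_univ_three]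
  ring

theorem rank_le_span (Q : Matrix (Fin 3) (Fin 3) k) (s : Set (Fin 3 → k)) (hs : s.Finite)
    (h : ∀ x, Q *ᵥ x ∈ Submodule.span k s) : Q.rank ≤ Module.finrank k (Submodule.span k s) := by
  haveI := Module.Finite.span_of_finite k hs
  exact Submodule.finrank_mono (by rintro _ ⟨x, rfl⟩; exact h x)

theorem rank_sym2_le (a b : Fin 3 → k) : (sym2 a b).rank ≤ 2 := by
  classical
  refine (rank_le_span _ {a, b} (Set.toFinite _) fun x => ?_).trans ?_
  · rw [sym2_mulVec]
    exact Submodule.add_mem _ (Submodule.smul_mem _ _ (Submodule.subset_span (by simp)))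
      (Submodule.smul_mem _ _ (Submodule.subset_span (by simp)))
  · have := finrank_span_finset_le_card (R := k) ({a, b} : Finset (Fin 3 → k))
    rw [Finset.coe_insert, Finset.coe_singleton] at this
    exact this.trans Finset.card_le_two

theorem rank_sym2_self_le (a b : Fin 3 → k) (c : k) (hb : b = c • a) : (sym2 a b).rank ≤ 1 := by
  refine (rank_le_span _ {a} (Set.toFinite _) fun x => ?_).trans ?_
  · rw [sym2_mulVec, hb]
    exact Submodule.add_mem _ (Submodule.smul_mem _ _ (Submodule.subset_span (by simp)))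
      (Submodule.smul_mem _ _ (Submodule.smul_mem _ _ (Submodule.subset_span (by simp))))
  · by_cases ha : a = 0
    · subst ha
      have hbot : Submodule.span k ({0} : Set (Fin 3 → k)) = ⊥ := Submodule.span_zero_singleton k
      rw [hbot, finrank_bot]
      exact zero_le_one
    · rw [finrank_span_singleton ha]

theorem exists_anisotropic (h2 : (2 : k) ≠ 0) {Q : Matrix (Fin 3) (Fin 3) k} (hQ : Q.IsSymm)
    (hQ0 : Q ≠ 0) : ∃ u, u ⬝ᵥ (Q *ᵥ u) ≠ 0 := by
  by_contra h
  push_neg at h
  exact hQ0 (eq_of_quad_eq h2 hQ Matrix.isSymm_zero fun x => by simpa using h x)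

theorem split_one [IsAlgClosed k] (h2 : (2 : k) ≠ 0) {Q : Matrix (Fin 3) (Fin 3) k} (hQ : Q.IsSymm)
    (hQ0 : Q ≠ 0) : ∃ (a : Fin 3 → k) (Q' : Matrix (Fin 3) (Fin 3) k), Q'.IsSymm ∧
      Q = sym2 a a + Q' ∧ Q'.rank + 1 ≤ Q.rank := by
  obtain ⟨u, hu⟩ := exists_anisotropic h2 hQ hQ0
  set w := Q *ᵥ u with hw
  obtain ⟨r, hr⟩ := IsAlgClosed.exists_pow_nat_eq (u ⬝ᵥ w) (n := 2) two_pos
  have hr0 : r ≠ 0 := fun h => hu (by rw [← hr, h]; ring)
  set a : Fin 3 → k := r⁻¹ • w with ha
  refine ⟨a, Q - sym2 a a, hQ.sub (sym2_symm a a), by rw [add_sub_cancel], ?_⟩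
  have hau : a ⬝ᵥ u = r := by
    rw [ha, smul_dotProduct, dotProduct_comm, ← hr, smul_eq_mul]
    field_simp
  have hker : ∀ x, (Q - sym2 a a) *ᵥ x = Q *ᵥ x - (a ⬝ᵥ x) • a := fun x => by
    rw [sub_mulVec, sym2_mulVec, ← add_smul, ← add_div, ← two_mul, mul_div_cancel_left₀ _ h2]
  have hlt : LinearMap.ker Q.mulVecLin < LinearMap.ker (Q - sym2 a a).mulVecLin := by
    refine lt_of_le_of_ne (fun x hx => ?_) (fun he => ?_)
    · rw [LinearMap.mem_ker, mulVecLin_apply] at hx ⊢
      have hax : a ⬝ᵥ x = 0 := by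
        rw [ha, smul_dotProduct, hw, dotProduct_comm (Q *ᵥ u), dotProduct_mulVec,
          ← mulVec_transpose, hQ.eq, hx, zero_dotProduct, smul_zero]
      rw [hker, hx, hax, zero_smul, sub_zero]
    · have hu' : u ∈ LinearMap.ker (Q - sym2 a a).mulVecLin := by
        rw [LinearMap.mem_ker, mulVecLin_apply, hker, hau, ha, smul_smul, mul_inv_cancel₀ hr0,
          one_smul, sub_self]
      rw [← he, LinearMap.mem_ker, mulVecLin_apply] at hu'
      exact hu (by rw [hw, hu', dotProduct_zero])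
  have h3 := Submodule.finrank_lt_finrank_of_lt hlt
  have e1 := Q.mulVecLin.finrank_range_add_finrank_ker
  have e2 := (Q - sym2 a a).mulVecLin.finrank_range_add_finrank_ker
  rw [Module.finrank_pi] at e1 e2
  unfold Matrix.rank
  omega

theorem rank_eq_three_iff (Q : Matrix (Fin 3) (Fin 3) k) : Q.det ≠ 0 ↔ Q.rank = 3 := by
  constructor
  · intro h
    rw [rank_of_isUnit _ ((Matrix.isUnit_iff_isUnit_det Q).2 h.isUnit)]
    rfl
  · intro h hd
    obtain ⟨v, hv, hQv⟩ := (Matrix.exists_mulVec_eq_zero_iff).2 hd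
    have e := Q.mulVecLin.finrank_range_add_finrank_ker
    rw [Module.finrank_pi, Fintype.card_fin] at e
    have : 0 < Module.finrank k (LinearMap.ker Q.mulVecLin) := by
      rw [Nat.pos_iff_ne_zero]
      intro h0
      rw [Submodule.finrank_eq_zero] at h0
      exact hv ((Submodule.mem_bot k).1 (h0 ▸ (LinearMap.mem_ker.2 hQv : v ∈ LinearMap.ker Q.mulVecLin)))
    unfold Matrix.rank at h
    omega

theorem linear_factors {p q : MvPolynomial (Fin 3) k} {g : MvPolynomial (Fin 3) k}
    (hg : g.IsHomogeneous 2) (hg0 : g ≠ 0) (h : g = p * q) (hp : ¬ IsUnit p) (hq : ¬ IsUnit q) :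
    ∃ a b : Fin 3 → k, ∀ x, eval x g = (a ⬝ᵥ x) * (b ⬝ᵥ x) := by
  have hp0 : p ≠ 0 := fun h0 => hg0 (by rw [h, h0, zero_mul])
  have hq0 : q ≠ 0 := fun h0 => hg0 (by rw [h, h0, mul_zero])
  have hd : p.totalDegree + q.totalDegree = 2 := by
    rw [← totalDegree_mul_of_isDomain hp0 hq0, ← h]
    exact hg.totalDegree hg0
  have hpos : ∀ r : MvPolynomial (Fin 3) k, r ≠ 0 → ¬ IsUnit r → r.totalDegree ≠ 0 := by
    intro r hr0 hr h0
    rw [totalDegree_eq_zero_iff_eq_C.1 h0] at hr hr0
    exact hr (IsUnit.map C (isUnit_iff_ne_zero.2 (fun hc => hr0 (by rw [hc, C_0]))))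
  have h1 := hpos p hp0 hp
  have h2 := hpos q hq0 hq
  have aff : ∀ r : MvPolynomial (Fin 3) k, r.totalDegree = 1 →
      ∃ (a : Fin 3 → k) (c : k), r = lin a + C c := by
    intro r hr
    refine ⟨fun i => r.coeff (Finsupp.single i 1), r.coeff 0, ?_⟩
    conv_lhs => rw [← sum_homogeneousComponent r, hr]
    rw [Finset.sum_range_succ, Finset.sum_range_one, homogeneousComponent_zero, add_comm]
    congr 1
    classical
    ext e
    rw [coeff_homogeneousComponent]
    simp only [lin, coeff_sum, coeff_smul, coeff_X', smul_eq_mul, mul_ite, mul_one, mul_zero]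
    split_ifs with he
    · obtain ⟨i, rfl⟩ : ∃ i, e = Finsupp.single i 1 := by
        obtain ⟨i, hi⟩ : ∃ i, e i ≠ 0 := by
          by_contra hc
          push_neg at hc
          rw [show e = 0 from Finsupp.ext hc] at he
          simp at he
        refine ⟨i, ?_⟩
        have hle : Finsupp.single i 1 ≤ e := Finsupp.single_le_iff.2 (Nat.pos_of_ne_zero hi)
        obtain ⟨t, rfl⟩ : ∃ t, e = Finsupp.single i 1 + t :=
          ⟨e - Finsupp.single i 1, (add_tsub_cancel_of_le hle).symm⟩
        rw [map_add, Finsupp.degree_single] at he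
        rw [(Finsupp.degree_eq_zero_iff t).1 (by omega), add_zero]
      rw [Finset.sum_eq_single i]
      · simp
      · intro b _ hb
        rw [if_neg fun h => hb (Finsupp.single_left_injective one_ne_zero h)]
      · simp
    · symm
      refine Finset.sum_eq_zero fun i _ => if_neg ?_
      intro hc
      exact he (by rw [← hc, Finsupp.degree_single])
  obtain ⟨a, c, rfl⟩ := aff p (by omega)
  obtain ⟨b, d, rfl⟩ := aff q (by omega)
  refine ⟨a, b, fun x => ?_⟩
  have hc2 := (mem_homogeneousSubmodule 2 g).2 hg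
  have := homogeneousComponent_of_mem hc2 (m := 2)
  rw [if_pos rfl] at this
  have he : (lin a + C c) * (lin b + C d) =
      lin a * lin b + (C d * lin a + C c * lin b) + C (c * d) := by
    rw [map_mul]; ring
  rw [← this, h, he, map_add (homogeneousComponent 2), map_add (homogeneousComponent 2),
    map_add (homogeneousComponent 2), homogeneousComponent_C_mul, homogeneousComponent_C_mul,
    homogeneousComponent_of_mem ((mem_homogeneousSubmodule _ _).2 (lin_homog a)),
    homogeneousComponent_of_mem ((mem_homogeneousSubmodule _ _).2 (lin_homog b)),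
    homogeneousComponent_of_mem ((mem_homogeneousSubmodule _ _).2 ((lin_homog a).mul (lin_homog b))),
    homogeneousComponent_of_mem ((mem_homogeneousSubmodule _ _).2 (isHomogeneous_C _ (c * d)))]
  simp [eval_lin]

end


/-- For an algebraically closed field k of characteristic zero, a nonzero symmetric 3 × 3 matrix Q over
k and the ternary quadratic form f = Σ Q_ij X_i X_j in k[X_0, X_1, X_2] (the equation of a plane
conic): (1) f is irreducible iff det Q ≠ 0; (2) the conic has a singular point, that is a nonzero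
vector at which all partial derivatives of f vanish, iff det Q = 0 (so smooth conics are exactly the
irreducible ones); (3) f is the product of two linearly independent linear forms (two distinct
lines) iff rank Q = 2; (4) f is the square of a linear form (a double line) iff rank Q = 1. -/
theorem result (k : Type u) [Field k] [IsAlgClosed k] [CharZero k]
    (Q : Matrix (Fin 3) (Fin 3) k) (hQ : Q.IsSymm) (hQ0 : Q ≠ 0) (f : MvPolynomial (Fin 3) k)
    (hf : f = ∑ i : Fin 3, ∑ j : Fin 3, Q i j • (MvPolynomial.X i * MvPolynomial.X j)) :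
    (Irreducible f ↔ Q.det ≠ 0) ∧
    ((∃ u : Fin 3 → k, u ≠ 0 ∧ ∀ i : Fin 3, MvPolynomial.eval u (MvPolynomial.pderiv i f) = 0) ↔ Q.det = 0) ∧
    ((∃ a b : Fin 3 → k, LinearIndependent k ![a, b] ∧
        f = (∑ i : Fin 3, a i • MvPolynomial.X i) * (∑ i : Fin 3, b i • MvPolynomial.X i)) ↔ Q.rank = 2) ∧
    ((∃ a : Fin 3 → k, f = (∑ i : Fin 3, a i • MvPolynomial.X i) ^ 2) ↔ Q.rank = 1) := by
  classical
  have h2 : (2 : k) ≠ 0 := two_ne_zero
  have hfq : f = quad Q := hf
  have hev : ∀ x, eval x f = x ⬝ᵥ (Q *ᵥ x) := fun x => by rw [hfq, eval_quad]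
  have hprod : ∀ a b : Fin 3 → k,
      f = lin a * lin b → Q = sym2 a b := fun a b hab =>
    eq_of_quad_eq h2 hQ (sym2_symm a b) fun x => by
      rw [← hev, eval_sym2 h2, hab, map_mul, eval_lin, eval_lin]
  have hrkpos : 1 ≤ Q.rank := by
    obtain ⟨a, Q', -, -, h⟩ := split_one h2 hQ hQ0
    omega
  have hrk3 : Q.rank ≤ 3 := by simpa using Q.rank_le_card_width
  have hone : Q.rank = 1 → ∃ a, f = lin a ^ 2 := by
    intro h1
    obtain ⟨a, Q', hQ', hQe, hle⟩ := split_one h2 hQ hQ0
    refine ⟨a, MvPolynomial.funext fun x => ?_⟩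
    have hz : Q' = 0 := by
      by_contra hne
      obtain ⟨a', Q'', -, -, h'⟩ := split_one h2 hQ' hne
      omega
    rw [hev, hQe, hz, add_zero, eval_sym2 h2, map_pow, eval_lin, sq]
  have htwo : Q.rank = 2 → ∃ a b : Fin 3 → k, LinearIndependent k ![a, b] ∧ f = lin a * lin b := by
    intro h
    obtain ⟨a, Q', hQ', hQe, hle⟩ := split_one h2 hQ hQ0
    have hne : Q' ≠ 0 := by
      intro hz
      have := rank_sym2_self_le a a 1 (one_smul k a).symm
      rw [hz, add_zero] at hQe
      rw [← hQe] at this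
      omega
    obtain ⟨b, Q'', hQ'', hQe', hle'⟩ := split_one h2 hQ' hne
    have hz : Q'' = 0 := by
      by_contra hne'
      obtain ⟨_, _, -, -, h'⟩ := split_one h2 hQ'' hne'
      omega
    obtain ⟨i, hi⟩ := IsAlgClosed.exists_pow_nat_eq (-1 : k) (n := 2) two_pos
    have hfe : f = lin (a + i • b) * lin (a - i • b) := MvPolynomial.funext fun x => by
      rw [hev, hQe, hQe', hz, add_zero, add_mulVec, dotProduct_add, eval_sym2 h2, eval_sym2 h2,
        map_mul, eval_lin, eval_lin, add_dotProduct, sub_dotProduct, smul_dotProduct, smul_eq_mul]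
      linear_combination (b ⬝ᵥ x) * (b ⬝ᵥ x) * hi
    refine ⟨_, _, ?_, hfe⟩
    rw [linearIndependent_fin2]
    refine ⟨fun h0 => ?_, fun c hc => ?_⟩
    · simp only [Matrix.cons_val_one, Matrix.cons_val_zero] at h0
      apply hQ0
      rw [hprod _ _ hfe, h0]
      ext u v
      simp [sym2]
    · simp only [Matrix.cons_val_one, Matrix.cons_val_zero] at hc
      have hle2 := rank_sym2_self_le (a - i • b) (a + i • b) c hc.symm
      have hsw : sym2 (a - i • b) (a + i • b) = sym2 (a + i • b) (a - i • b) := by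
        ext u v; simp [sym2]; ring
      rw [hsw, ← hprod _ _ hfe] at hle2
      omega
  have hle2 : ∀ a b : Fin 3 → k, f = lin a * lin b → Q.rank ≤ 2 := fun a b hab => by
    rw [hprod a b hab]; exact rank_sym2_le a b
  have hnu : ∀ a : Fin 3 → k, ¬ IsUnit (lin a) := by
    intro a hu
    have := hu.map (eval (0 : Fin 3 → k))
    rw [eval_lin, dotProduct_zero] at this
    exact not_isUnit_zero this
  have hhom : f.IsHomogeneous 2 := by
    rw [hfq]
    refine IsHomogeneous.sum _ _ _ fun i _ => IsHomogeneous.sum _ _ _ fun j _ => ?_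
    rw [MvPolynomial.smul_eq_C_mul]
    exact ((isHomogeneous_X k i).mul (isHomogeneous_X k j)).C_mul _
  have hf0 : f ≠ 0 := by
    intro h0
    obtain ⟨u, hu⟩ := exists_anisotropic h2 hQ hQ0
    exact hu (by rw [← hev, h0, map_zero])
  refine ⟨⟨fun hirr => ?_, fun hdet => ⟨?_, fun p q hpq => ?_⟩⟩, ⟨?_, ?_⟩, ⟨?_, htwo⟩, ⟨?_, hone⟩⟩
  · rw [rank_eq_three_iff]
    by_contra hne
    have h12 : Q.rank = 1 ∨ Q.rank = 2 := by omega
    rcases h12 with h | h
    · obtain ⟨a, ha⟩ := hone h
      rw [sq] at ha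
      exact (hirr.isUnit_or_isUnit ha).elim (hnu a) (hnu a)
    · obtain ⟨a, b, -, hab⟩ := htwo h
      exact (hirr.isUnit_or_isUnit hab).elim (hnu a) (hnu b)
  · intro hu
    have := hu.map (eval (0 : Fin 3 → k))
    rw [hev, zero_dotProduct] at this
    exact not_isUnit_zero this
  · by_contra hcon
    push_neg at hcon
    obtain ⟨a, b, hab⟩ := linear_factors hhom hf0 hpq hcon.1 hcon.2
    have : f = lin a * lin b := MvPolynomial.funext fun x => by
      rw [hab, map_mul, eval_lin, eval_lin]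
    have := hle2 a b this
    rw [(rank_eq_three_iff Q).1 hdet] at this
    omega
  · rintro ⟨u, hu0, hu⟩
    refine Matrix.exists_mulVec_eq_zero_iff.1 ⟨u, hu0, funext fun i => ?_⟩
    have := hu i
    rw [hfq, pderiv_quad hQ] at this
    simpa [h2] using this
  · intro hd
    obtain ⟨u, hu0, hu⟩ := Matrix.exists_mulVec_eq_zero_iff.2 hd
    refine ⟨u, hu0, fun i => ?_⟩
    rw [hfq, pderiv_quad hQ, hu, Pi.zero_apply, mul_zero]
  · rintro ⟨a, b, hli, hab⟩
    have hle := hle2 a b hab
    by_contra hne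
    obtain ⟨c, hc⟩ := hone (by omega)
    rw [sq] at hc
    have hQc := hprod c c hc
    -- a and b both lie in the image of Q, which is spanned by c
    have himg : ∀ x, Q *ᵥ x ∈ Submodule.span k {c} := fun x => by
      rw [hQc, sym2_mulVec]
      exact Submodule.add_mem _ (Submodule.smul_mem _ _ (Submodule.subset_span (by simp)))
        (Submodule.smul_mem _ _ (Submodule.subset_span (by simp)))
    have hsurj : Function.Surjective (fun x : Fin 3 → k => (![a ⬝ᵥ x, b ⬝ᵥ x] : Fin 2 → k)) := by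
      let M : Matrix (Fin 2) (Fin 3) k := Matrix.of ![a, b]
      have hrank : M.rank = 2 := by
        have := LinearIndependent.rank_matrix (M := M) hli
        simpa using this
      have : LinearMap.range M.mulVecLin = ⊤ := by
        refine Submodule.eq_top_of_finrank_eq ?_
        rw [show Module.finrank k (LinearMap.range M.mulVecLin) = M.rank from rfl, hrank]
        simp
      intro y
      obtain ⟨x, hx⟩ := LinearMap.range_eq_top.1 this y
      refine ⟨x, ?_⟩
      rw [← hx]
      funext j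
      fin_cases j <;> simp [M, mulVec]
    have hQab := hprod a b hab
    have ha : a ∈ Submodule.span k {c} := by
      obtain ⟨x, hx⟩ := hsurj ![0, 2]
      have h := himg x
      rw [hQab, sym2_mulVec, show a ⬝ᵥ x = 0 from congrFun hx 0,
        show b ⬝ᵥ x = 2 from congrFun hx 1, div_self h2, zero_div, zero_smul, one_smul, add_zero] at h
      exact h
    have hb : b ∈ Submodule.span k {c} := by
      obtain ⟨x, hx⟩ := hsurj ![2, 0]
      have h := himg x
      rw [hQab, sym2_mulVec, show a ⬝ᵥ x = 2 from congrFun hx 0,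
        show b ⬝ᵥ x = 0 from congrFun hx 1, div_self h2, zero_div, zero_smul, one_smul, zero_add] at h
      exact h
    obtain ⟨s, hs⟩ := Submodule.mem_span_singleton.1 ha
    obtain ⟨t, ht⟩ := Submodule.mem_span_singleton.1 hb
    have h3 := (LinearIndependent.pair_iff.1 hli) t (-s) (by
      rw [← hs, ← ht, smul_smul, smul_smul, neg_mul, neg_smul, mul_comm s t, add_neg_cancel])
    have h4 : a = 0 := by rw [← hs, neg_eq_zero.1 h3.2, zero_smul]
    exact hli.ne_zero 0 h4
  · rintro ⟨a, ha⟩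
    have h := hprod a a (ha.trans (sq (lin a)))
    have := rank_sym2_self_le a a 1 (one_smul k a).symm
    rw [← h] at this
    omega

end Groth.Agent.S13911
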