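import Groth.Statements.S12437
import Mathlib
import Groth.Agent.SymBasis86.Basic
import Groth.Agent.S13911

set_option autoImplicit false
universe u
open Cubic

namespace Groth.Agent.S12437

open MvPolynomial

section
variable {k : Type u} [Field k] [IsAlgClosed k] [CharZero k]

/-- the elementary symmetric polynomials -/
noncomputable def E (n m : ℕ) : MvPolynomial (Fin n) k := esymm (Fin n) k m

theorem hom_E {n : ℕ} {T : Type*} [CommRing T] (φ : MvPolynomial (Fin n) k →+* T) (m : ℕ) :
    φ (E n m) = ((Finset.univ : Finset (Fin n)).val.map fun i => φ (X i)).esymm m := by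
  rw [E, esymm_eq_multiset_esymm, SymBasis86.hom_esymm, Multiset.map_map]
  rfl

theorem hom_E_succ {n : ℕ} {T : Type*} [CommRing T] (φ : MvPolynomial (Fin (n + 1)) k →+* T)
    (ψ : MvPolynomial (Fin n) k →+* T) (h : ∀ i, φ (X i.succ) = ψ (X i)) (m : ℕ) :
    φ (E (n + 1) (m + 1)) = ψ (E n (m + 1)) + φ (X 0) * ψ (E n m) := by
  rw [hom_E ψ, hom_E ψ]
  simp only [← h]
  exact SymBasis86.hom_mvEsymm_succ φ m

theorem E_succ (n m : ℕ) : (E (n + 1) (m + 1) : MvPolynomial (Fin (n + 1)) k) =
    rename Fin.succ (E n (m + 1)) + X 0 * rename Fin.succ (E n m) := by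
  have := hom_E_succ (k := k) (RingHom.id _) (rename Fin.succ : MvPolynomial (Fin n) k →ₐ[k] _).toRingHom
    (fun i => by simp) m
  simpa using this

theorem E_zero (n : ℕ) : (E n 0 : MvPolynomial (Fin n) k) = 1 := esymm_zero _ _

theorem E_top (n : ℕ) : (E n (n + 1) : MvPolynomial (Fin n) k) = 0 := by
  rw [E, esymm_eq_multiset_esymm, SymBasis86.esymm_map_top]

theorem eval_E {n : ℕ} (v : Fin n → k) (m : ℕ) :
    eval v (E n m : MvPolynomial (Fin n) k) = ((Finset.univ : Finset (Fin n)).val.map v).esymm m := by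
  rw [hom_E]; simp

/-- the numerator of `σ₄` after eliminating the last variable -/
noncomputable def F : MvPolynomial (Fin 4) k := E 4 1 * E 4 4 - E 4 2 * E 4 3

theorem eval3 (x y z : k) :
    eval ![x, y, z] (E 3 1 : MvPolynomial (Fin 3) k) = x + y + z ∧
    eval ![x, y, z] (E 3 2 : MvPolynomial (Fin 3) k) = x * y + x * z + y * z ∧
    eval ![x, y, z] (E 3 3 : MvPolynomial (Fin 3) k) = x * y * z := by
  have hm : ((Finset.univ : Finset (Fin 3)).val.map ![x, y, z]) = x ::ₘ y ::ₘ z ::ₘ 0 := rfl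
  refine ⟨?_, ?_, ?_⟩ <;> rw [eval_E, hm] <;>
    simp [Multiset.esymm, Multiset.powersetCard_one, Multiset.powersetCard_cons,
      Multiset.powersetCard_zero_left] <;> ring

theorem irreducible_b : Irreducible (E 3 2 : MvPolynomial (Fin 3) k) := by
  let Q : Matrix (Fin 3) (Fin 3) k := !![0, 1/2, 1/2; 1/2, 0, 1/2; 1/2, 1/2, 0]
  have hf : (E 3 2 : MvPolynomial (Fin 3) k) =
      ∑ i : Fin 3, ∑ j : Fin 3, Q i j • (X i * X j) := by
    refine MvPolynomial.funext fun v => ?_
    have : v = ![v 0, v 1, v 2] := by funext i; fin_cases i <;> rfl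
    conv_lhs => rw [this, (eval3 _ _ _).2.1]
    simp [Q, Fin.sum_univ_three, MvPolynomial.smul_eval]
    ring
  have hQ : Q.det ≠ 0 := by
    simp [Q, Matrix.det_fin_three]
  have hs : Q.IsSymm := by
    refine Matrix.IsSymm.ext fun i j => ?_
    fin_cases i <;> fin_cases j <;> simp [Q]
  exact (S13911.result k Q hs (fun h => hQ (by rw [h]; simp)) _ hf).1.2 hQ

theorem not_b_dvd (g : MvPolynomial (Fin 3) k) (h : eval ![2, 2, -1] g ≠ 0) :
    ¬ (E 3 2 : MvPolynomial (Fin 3) k) ∣ g := by
  rintro ⟨q, rfl⟩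
  rw [map_mul, (eval3 _ _ _).2.1] at h
  apply h
  ring

theorem prime_F : Prime (F : MvPolynomial (Fin 4) k) := by
  set a : MvPolynomial (Fin 3) k := E 3 1 with ha
  set b : MvPolynomial (Fin 3) k := E 3 2 with hb
  set c : MvPolynomial (Fin 3) k := E 3 3 with hc
  let α := c - a * b
  let β := -(b * b)
  let γ := -(b * c)
  have hbirr : Irreducible b := irreducible_b
  have hbp : Prime b := UniqueFactorizationMonoid.irreducible_iff_prime.1 hbirr
  have hα : ¬ b ∣ α := not_b_dvd _ (by
    simp [α, ha, hb, hc, (eval3 (2:k) 2 (-1)).1, (eval3 (2:k) 2 (-1)).2.1, (eval3 (2:k) 2 (-1)).2.2]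
    norm_num)
  have hα0 : α ≠ 0 := fun h => hα (h ▸ dvd_zero b)
  let P : Polynomial (MvPolynomial (Fin 3) k) :=
    Polynomial.C α * Polynomial.X ^ 2 + Polynomial.C β * Polynomial.X + Polynomial.C γ
  have hP : finSuccEquiv k 3 (F : MvPolynomial (Fin 4) k) = P := by
    have h : ∀ g, finSuccEquiv k 3 (rename Fin.succ g) = Polynomial.C g := fun g => by
      have := congrArg (fun φ : MvPolynomial (Fin 3) k →+* _ => φ g)
        (show ((finSuccEquiv k 3).toRingEquiv.toRingHom.comp
            (rename Fin.succ : MvPolynomial (Fin 3) k →ₐ[k] _).toRingHom) = Polynomial.C from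
          MvPolynomial.ringHom_ext (fun r => by simp [finSuccEquiv_apply])
            (fun i => by simp [finSuccEquiv_X_succ]))
      simpa using this
    rw [F, E_succ 3 0, E_succ 3 3, E_succ 3 1, E_succ 3 2]
    simp only [map_sub, map_mul, map_add, h, finSuccEquiv_X_zero, E_zero, E_top, ← ha, ← hb, ← hc]
    simp only [P, α, β, γ, map_sub, map_mul, map_neg, map_one, map_zero]
    ring
  have hPd : P.natDegree = 2 := Polynomial.natDegree_quadratic hα0
  have hP0 : P ≠ 0 := fun h => by simp [h] at hPd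
  suffices hirr : Irreducible P by
    have : Prime P := UniqueFactorizationMonoid.irreducible_iff_prime.1 hirr
    rw [← hP] at this
    exact (MulEquiv.prime_iff (finSuccEquiv k 3)).1 this
  have hunit : ∀ d : MvPolynomial (Fin 3) k, Polynomial.C d ∣ P → IsUnit d := by
    intro d hd
    rw [Polynomial.C_dvd_iff_dvd_coeff] at hd
    have h2 : d ∣ α := by simpa [P, Polynomial.coeff_C, Polynomial.coeff_X] using hd 2
    have h1 : d ∣ β := by simpa [P, Polynomial.coeff_C, Polynomial.coeff_X] using hd 1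
    by_contra hnu
    obtain ⟨π, hπ, hπd⟩ := WfDvdMonoid.exists_irreducible_factor hnu
      (fun h0 => hα0 (zero_dvd_iff.1 (h0 ▸ h2)))
    have hπb : π ∣ b := by
      have := (dvd_neg.1 (hπd.trans h1))
      exact ((UniqueFactorizationMonoid.irreducible_iff_prime.1 hπ).dvd_mul.1 this).elim id id
    exact hα ((hπ.associated_of_dvd hbirr hπb).symm.dvd.trans (hπd.trans h2))
  refine ⟨fun hu => ?_, fun G H hGH => ?_⟩
  · have := Polynomial.natDegree_eq_zero_of_isUnit hu
    omega
  have hG0 : G ≠ 0 := fun h => hP0 (by rw [hGH, h, zero_mul])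
  have hH0 : H ≠ 0 := fun h => hP0 (by rw [hGH, h, mul_zero])
  have hdeg : G.natDegree + H.natDegree = 2 := by
    rw [← Polynomial.natDegree_mul hG0 hH0, ← hGH, hPd]
  rcases Nat.eq_zero_or_pos G.natDegree with hg | hg
  · left
    rw [Polynomial.eq_C_of_natDegree_eq_zero hg]
    exact Polynomial.isUnit_C.2 (hunit _ ⟨H, by rw [← Polynomial.eq_C_of_natDegree_eq_zero hg, hGH]⟩)
  rcases Nat.eq_zero_or_pos H.natDegree with hh | hh
  · right
    rw [Polynomial.eq_C_of_natDegree_eq_zero hh]
    exact Polynomial.isUnit_C.2 (hunit _ ⟨G, by rw [← Polynomial.eq_C_of_natDegree_eq_zero hh, hGH, mul_comm]⟩)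
  exfalso
  obtain ⟨p, q, rfl⟩ := Polynomial.exists_eq_X_add_C_of_natDegree_le_one (show G.natDegree ≤ 1 by omega)
  obtain ⟨r, s, rfl⟩ := Polynomial.exists_eq_X_add_C_of_natDegree_le_one (show H.natDegree ≤ 1 by omega)
  have hexp : (Polynomial.C p * Polynomial.X + Polynomial.C q) * (Polynomial.C r * Polynomial.X + Polynomial.C s)
      = Polynomial.C (p * r) * Polynomial.X ^ 2 + Polynomial.C (p * s + q * r) * Polynomial.X +
        Polynomial.C (q * s) := by
    simp only [map_mul, map_add]; ring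
  rw [hexp] at hGH
  have e2 := congrArg (fun f => Polynomial.coeff f 2) hGH
  have e1 := congrArg (fun f => Polynomial.coeff f 1) hGH
  have e0 := congrArg (fun f => Polynomial.coeff f 0) hGH
  simp only [P, Polynomial.coeff_add, Polynomial.coeff_C_mul, Polynomial.coeff_X_pow, Polynomial.coeff_X,
    Polynomial.coeff_C] at e2 e1 e0
  norm_num at e2 e1 e0
  let W := b * b * b + 4 * (c * c) - 4 * (a * (b * c))
  have hd : (p * s - q * r) ^ 2 = b * W := by
    have f1 : p * s + q * r = β := by linear_combination -e1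
    have f2 : p * r = α := by linear_combination -e2
    have f0 : q * s = γ := by linear_combination -e0
    have : (p * s - q * r) ^ 2 = β ^ 2 - 4 * (α * γ) := by
      rw [← f1, ← f2, ← f0]; ring
    rw [this]
    simp only [α, β, γ, W]
    ring
  have hb1 : b ∣ p * s - q * r := hbp.dvd_of_dvd_pow ⟨W, hd⟩
  obtain ⟨T, hT⟩ := hb1
  have hW : W = b * T ^ 2 := by
    have : b * W = b * (b * T ^ 2) := by rw [← hd, hT]; ring
    exact mul_left_cancel₀ hbirr.ne_zero this
  refine not_b_dvd W ?_ ⟨T ^ 2, hW⟩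
  simp [W, ha, hb, hc, (eval3 (2:k) 2 (-1)).1, (eval3 (2:k) 2 (-1)).2.1, (eval3 (2:k) 2 (-1)).2.2]
  norm_num

theorem E_homog (n m : ℕ) : (E n m : MvPolynomial (Fin n) k).IsHomogeneous m := by
  rw [E, MvPolynomial.esymm]
  refine IsHomogeneous.sum _ _ _ fun t ht => ?_
  have := IsHomogeneous.prod t (fun i => (X i : MvPolynomial (Fin n) k)) (fun _ => 1)
    (fun i _ => isHomogeneous_X k i)
  simpa [(Finset.mem_powersetCard.1 ht).2] using this

theorem F_dvd_small {g : MvPolynomial (Fin 4) k} (hg : g.totalDegree ≤ 2) (h : F ∣ g) : g = 0 := by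
  obtain ⟨q, rfl⟩ := h
  by_contra hne
  obtain ⟨hF, hq⟩ := mul_ne_zero_iff.1 hne
  have hF5 : (F : MvPolynomial (Fin 4) k).IsHomogeneous 5 :=
    ((E_homog 4 1).mul (E_homog 4 4)).sub ((E_homog 4 2).mul (E_homog 4 3))
  rw [totalDegree_mul_of_isDomain hF hq, hF5.totalDegree hF] at hg
  omega

/-- symmetric ideal -/
noncomputable def I0 : Ideal (MvPolynomial (Fin 5) k) := Ideal.span {E 5 2, E 5 4}

/-- the denominators -/
noncomputable def u (i : Fin 5) : MvPolynomial (Fin 5) k := E 5 1 - X i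

noncomputable instance : (Ideal.span {(F : MvPolynomial (Fin 4) k)}).IsPrime :=
  (Ideal.span_singleton_prime prime_F.ne_zero).2 prime_F

theorem eval_single (j : Fin 4) (m : ℕ) :
    eval (Pi.single j (1 : k)) (E 4 (m + 2) : MvPolynomial (Fin 4) k) = 0 ∧
    eval (Pi.single j (1 : k)) (E 4 1 : MvPolynomial (Fin 4) k) = 1 := by
  constructor
  · rw [E, MvPolynomial.esymm, map_sum]
    refine Finset.sum_eq_zero fun t ht => ?_
    rw [map_prod]
    obtain ⟨i, hi, hij⟩ := Finset.exists_mem_ne (by rw [(Finset.mem_powersetCard.1 ht).2]; omega) j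
    exact Finset.prod_eq_zero hi (by simp [hij])
  · rw [E, esymm_one, map_sum]
    simp [Pi.single_apply]

theorem main_component : ∃ Q : Ideal (MvPolynomial (Fin 5) k), Q.IsPrime ∧ I0 ≤ Q ∧
    (∀ i, u i ∉ Q) ∧ ∀ P : Ideal (MvPolynomial (Fin 5) k), P.IsPrime → I0 ≤ P → u 0 ∉ P → Q ≤ P := by
  classical
  let mk4 := Ideal.Quotient.mk (Ideal.span {(F : MvPolynomial (Fin 4) k)})
  let toL : MvPolynomial (Fin 4) k →+* FractionRing (MvPolynomial (Fin 4) k ⧸ Ideal.span {(F : MvPolynomial (Fin 4) k)}) :=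
    (algebraMap (MvPolynomial (Fin 4) k ⧸ Ideal.span {(F : MvPolynomial (Fin 4) k)}) _).comp mk4
  have hz : ∀ g, toL g = 0 ↔ F ∣ g := fun g => by
    simp only [toL, RingHom.comp_apply, IsFractionRing.to_map_eq_zero_iff, mk4,
      Ideal.Quotient.eq_zero_iff_mem, Ideal.mem_span_singleton]
  have hE1 : toL (E 4 1) ≠ 0 := fun h => by
    have := F_dvd_small ((E_homog 4 1).totalDegree_le.trans (by norm_num)) ((hz _).1 h)
    have h1 := (eval_single (k := k) 0 0).2
    rw [this, map_zero] at h1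
    exact zero_ne_one h1
  let t := -(toL (E 4 2) / toL (E 4 1))
  let φ : MvPolynomial (Fin 5) k →+* FractionRing (MvPolynomial (Fin 4) k ⧸ Ideal.span {(F : MvPolynomial (Fin 4) k)}) :=
    eval₂Hom (toL.comp C) (Fin.cons t (fun i => toL (X i)))
  have hφs : ∀ i : Fin 4, φ (X i.succ) = toL (X i) := fun i => by simp [φ]
  have hφ0 : φ (X 0) = t := by simp [φ]
  have e1 := hom_E_succ φ toL hφs 0
  have e2 := hom_E_succ φ toL hφs 1
  have e4 := hom_E_succ φ toL hφs 3
  rw [hφ0] at e1 e2 e4
  have hF0 : toL (E 4 1) * toL (E 4 4) - toL (E 4 2) * toL (E 4 3) = 0 := by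
    rw [← map_mul, ← map_mul, ← map_sub]
    exact (hz _).2 dvd_rfl
  refine ⟨RingHom.ker φ, RingHom.ker_isPrime φ, ?_, ?_, ?_⟩
  · refine Ideal.span_le.2 ?_
    rintro _ (rfl | rfl)
    · rw [SetLike.mem_coe, RingHom.mem_ker, e2]
      simp only [t]; field_simp; ring
    · rw [SetLike.mem_coe, RingHom.mem_ker, e4]
      simp only [t]; field_simp
      linear_combination hF0
  · intro i
    refine Fin.cases ?_ (fun j => ?_) i
    · rw [RingHom.mem_ker, u, map_sub, e1, hφ0, E_zero, map_one, mul_one, add_sub_cancel_right]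
      exact hE1
    · rw [RingHom.mem_ker, u, map_sub, e1, hφs, E_zero, map_one, mul_one]
      intro h
      have h' : toL (E 4 1 * (E 4 1 - X j) - E 4 2) = 0 := by
        simp only [map_sub, map_mul]
        simp only [t] at h
        field_simp at h
        linear_combination h
      have hsmall : (E 4 1 * (E 4 1 - X j) - E 4 2 : MvPolynomial (Fin 4) k).totalDegree ≤ 2 :=
        (((E_homog 4 1).mul ((E_homog 4 1).sub (isHomogeneous_X k j))).sub (E_homog 4 2)).totalDegree_le
      have := congrArg (eval (Pi.single (j + 1) (1 : k))) (F_dvd_small hsmall ((hz _).1 h'))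
      simp [(eval_single (k := k) (j + 1) 0).1, (eval_single (k := k) (j + 1) 0).2] at this
  · intro P hP hIP hu P' hP'
    let r : MvPolynomial (Fin 4) k →+* MvPolynomial (Fin 5) k :=
      (rename Fin.succ : MvPolynomial (Fin 4) k →ₐ[k] _).toRingHom
    have hr : ∀ g, φ (r g) = toL g := fun g => by
      have h : φ.comp r = toL := MvPolynomial.ringHom_ext (fun c => by simp [φ, r])
        (fun i => by simp [r, hφs])
      exact congrArg (fun f => f g) h
    have s1 : u 0 = r (E 4 1) := by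
      simp [u, r, E_succ 4 0, E_zero]
    have s2 : (E 5 2 : MvPolynomial (Fin 5) k) = r (E 4 2) + X 0 * r (E 4 1) := E_succ 4 1
    have s4 : (E 5 4 : MvPolynomial (Fin 5) k) = r (E 4 4) + X 0 * r (E 4 3) := E_succ 4 3
    have hm2 : (E 5 2 : MvPolynomial (Fin 5) k) ∈ P := hIP (Ideal.subset_span (by simp))
    have hm4 : (E 5 4 : MvPolynomial (Fin 5) k) ∈ P := hIP (Ideal.subset_span (by simp))
    have key : ∀ g, ∃ (N : ℕ) (G : MvPolynomial (Fin 4) k),
        u 0 ^ N * g - r G ∈ Ideal.span {(E 5 2 : MvPolynomial (Fin 5) k)} := by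
      intro g
      induction g using MvPolynomial.induction_on with
      | C c => exact ⟨0, C c, by simp [r]⟩
      | add p q hp hq =>
        obtain ⟨N, G, hG⟩ := hp
        obtain ⟨M, H, hH⟩ := hq
        refine ⟨N + M, E 4 1 ^ M * G + E 4 1 ^ N * H, ?_⟩
        rw [map_add, map_mul, map_mul, map_pow, map_pow, ← s1]
        have := Ideal.add_mem _ (Ideal.mul_mem_left _ (u 0 ^ M) hG) (Ideal.mul_mem_left _ (u 0 ^ N) hH)
        convert this using 1
        ring
      | mul_X p i hp =>
        obtain ⟨N, G, hG⟩ := hp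
        refine Fin.cases ?_ (fun j => ?_) i
        · refine ⟨N + 1, G * (-E 4 2), ?_⟩
          rw [map_mul, map_neg]
          have := Ideal.add_mem _ (Ideal.mul_mem_left _ (u 0 * X 0) hG)
            (Ideal.mul_mem_left _ (r G) (Ideal.mem_span_singleton_self (E 5 2 : MvPolynomial (Fin 5) k)))
          convert this using 1
          rw [s2, ← s1]
          ring
        · refine ⟨N, G * X j, ?_⟩
          rw [map_mul, show r (X j) = X j.succ by simp [r]]
          have := Ideal.mul_mem_right (X j.succ) _ hG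
          convert this using 1
          ring
    obtain ⟨N, G, hG⟩ := key P'
    have hsub : Ideal.span {(E 5 2 : MvPolynomial (Fin 5) k)} ≤ RingHom.ker φ := by
      rw [Ideal.span_singleton_le_iff_mem, RingHom.mem_ker, e2]
      simp only [t]; field_simp; ring
    have hG0 : toL G = 0 := by
      have := hsub hG
      rw [RingHom.mem_ker, map_sub, map_mul, RingHom.mem_ker.1 hP', mul_zero, hr, zero_sub, neg_eq_zero] at this
      exact this
    obtain ⟨q, rfl⟩ := (hz G).1 hG0
    have hFP : r F ∈ P := by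
      have : r F = r (E 4 1) * E 5 4 - r (E 4 3) * E 5 2 := by
        rw [s2, s4, F, map_sub, map_mul, map_mul]; ring
      rw [this]
      exact P.sub_mem (P.mul_mem_left _ hm4) (P.mul_mem_left _ hm2)
    have h2 : u 0 ^ N * P' ∈ P := by
      have := P.add_mem (((Ideal.span_singleton_le_iff_mem (I := P)).2 hm2) hG)
        (show r (F * q) ∈ P by rw [map_mul]; exact P.mul_mem_right _ hFP)
      rwa [sub_add_cancel] at this
    exact (hP.mem_or_mem h2).resolve_left (fun h => hu (hP.mem_of_pow_mem N h))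

theorem swap_data (i : Fin 5) :
    (∀ m, rename (Equiv.swap 0 i) (E 5 m : MvPolynomial (Fin 5) k) = E 5 m) ∧
    (∀ j, rename (Equiv.swap 0 i) (u j : MvPolynomial (Fin 5) k) = u (Equiv.swap 0 i j)) := by
  have h : ∀ m, rename (Equiv.swap 0 i) (E 5 m : MvPolynomial (Fin 5) k) = E 5 m := fun m =>
    esymm_isSymmetric _ _ m _
  exact ⟨h, fun j => by simp [u, h]⟩

theorem exists_Q (i : Fin 5) : ∃ Q : Ideal (MvPolynomial (Fin 5) k), Q.IsPrime ∧ I0 ≤ Q ∧
    (∀ j, u j ∉ Q) ∧ ∀ P : Ideal (MvPolynomial (Fin 5) k), P.IsPrime → I0 ≤ P → u i ∉ P → Q ≤ P := by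
  obtain ⟨Q, hQ, hIQ, huQ, hmin⟩ := main_component (k := k)
  let σ : MvPolynomial (Fin 5) k →+* MvPolynomial (Fin 5) k :=
    (rename (Equiv.swap 0 i) : MvPolynomial (Fin 5) k →ₐ[k] _).toRingHom
  obtain ⟨hE, hU⟩ := swap_data (k := k) i
  have hσσ : ∀ g, σ (σ g) = g := fun g => by
    change rename (Equiv.swap 0 i) (rename (Equiv.swap 0 i) g) = g
    rw [rename_rename]
    simp [Function.comp_def]
    exact rename_id_apply g
  have hI : ∀ P : Ideal (MvPolynomial (Fin 5) k), I0 ≤ P → I0 ≤ P.comap σ := by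
    intro P hP
    refine Ideal.span_le.2 ?_
    rintro _ (rfl | rfl)
    · change σ (E 5 2) ∈ P
      rw [show σ (E 5 2) = E 5 2 from hE 2]
      exact hP (Ideal.subset_span (by simp))
    · change σ (E 5 4) ∈ P
      rw [show σ (E 5 4) = E 5 4 from hE 4]
      exact hP (Ideal.subset_span (by simp))
  refine ⟨Q.comap σ, Ideal.IsPrime.comap σ, hI Q hIQ, fun j hj => ?_, fun P hP hIP hu => ?_⟩
  · have hj' : σ (u j) ∈ Q := hj
    rw [show σ (u j) = u (Equiv.swap 0 i j) from hU j] at hj'
    exact huQ _ hj'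
  · have := hmin (P.comap σ) (Ideal.IsPrime.comap σ) (hI P hIP) (fun h => hu (by
      have h' : σ (u 0) ∈ P := h
      rwa [show σ (u 0) = u (Equiv.swap 0 i 0) from hU 0, Equiv.swap_apply_left] at h'))
    intro g hg
    have h2 : σ (σ g) ∈ P := this hg
    rwa [hσσ] at h2

theorem minimal_avoids {P : Ideal (MvPolynomial (Fin 5) k)} (hP : P ∈ I0.minimalPrimes) :
    ∃ i, u i ∉ P := by
  by_contra h
  push Not at h
  have hsum : (∑ i : Fin 5, u i : MvPolynomial (Fin 5) k) = C (4 : k) * E 5 1 := by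
    simp only [u, Finset.sum_sub_distrib, Finset.sum_const, Finset.card_fin]
    rw [E, esymm_one, map_ofNat]
    rw [nsmul_eq_mul]; push_cast; ring
  have hE : (E 5 1 : MvPolynomial (Fin 5) k) ∈ P := by
    have := P.mul_mem_left (C (4 : k)⁻¹) (hsum ▸ P.sum_mem fun i _ => h i)
    rwa [← mul_assoc, ← map_mul, inv_mul_cancel₀ (by norm_num : (4 : k) ≠ 0), map_one, one_mul] at this
  have hX : ∀ i, (X i : MvPolynomial (Fin 5) k) ∈ P := fun i => by
    have := P.sub_mem hE (h i)
    rwa [u, sub_sub_cancel] at this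
  -- the point `(1,0,0,0,0)` gives a smaller prime
  let π : MvPolynomial (Fin 5) k →+* Polynomial k :=
    eval₂Hom Polynomial.C (Pi.single 0 Polynomial.X)
  have hπ : ∀ m, π (E 5 (m + 2)) = 0 := fun m => by
    rw [E, MvPolynomial.esymm, map_sum]
    refine Finset.sum_eq_zero fun t ht => ?_
    rw [map_prod]
    obtain ⟨i, hi, hij⟩ := Finset.exists_mem_ne (by rw [(Finset.mem_powersetCard.1 ht).2]; omega) (0 : Fin 5)
    exact Finset.prod_eq_zero hi (by simp [π, hij])
  have hI : I0 ≤ RingHom.ker π := by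
    refine Ideal.span_le.2 ?_
    rintro _ (rfl | rfl)
    · exact hπ 0
    · exact hπ 2
  have hle : RingHom.ker π ≤ P := by
    intro g hg
    have h0 : coeff 0 g = 0 := by
      have := congrArg (Polynomial.eval 0) (RingHom.mem_ker.1 hg)
      rw [Polynomial.eval_zero] at this
      rw [← MvPolynomial.constantCoeff_eq, ← this]
      have h2 : (Polynomial.evalRingHom 0).comp π = constantCoeff := by
        refine MvPolynomial.ringHom_ext (fun c => by simp [π]) (fun i => ?_)
        by_cases hi : i = 0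
        · subst hi; simp [π]
        · simp [π, hi]
      exact (congrArg (fun f => f g) h2).symm
    rw [g.as_sum]
    refine P.sum_mem fun e he => ?_
    have he0 : e ≠ 0 := fun h => mem_support_iff.1 he (h ▸ h0)
    obtain ⟨i, hi⟩ := Finsupp.ne_iff.1 he0
    obtain ⟨e', rfl⟩ : ∃ e', e = Finsupp.single i 1 + e' :=
      ⟨e - Finsupp.single i 1, (add_tsub_cancel_of_le (Finsupp.single_le_iff.2 (Nat.pos_of_ne_zero hi))).symm⟩
    rw [show monomial (Finsupp.single i 1 + e') (coeff (Finsupp.single i 1 + e') g) =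
      X i * monomial e' (coeff (Finsupp.single i 1 + e') g) by rw [X, monomial_mul, one_mul]]
    exact P.mul_mem_right _ (hX i)
  have h0 : (X 0 : MvPolynomial (Fin 5) k) ∈ RingHom.ker π :=
    hP.2 ⟨RingHom.ker_isPrime π, hI⟩ hle (hX 0)
  simp [π] at h0

end


/-- Over an algebraically closed field k of characteristic zero, the closed subscheme V(σ₂, σ₄) of A^5_k
cut out by the elementary symmetric polynomials of degrees 2 and 4 in five variables — the affine
cone over the surface H = V_+(σ₂, σ₄) ⊂ P^4_k — is irreducible: the radical of the ideal (σ₂, σ₄) of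
k[X_0, …, X_4] is a prime ideal. -/
theorem result (k : Type u) [Field k] [IsAlgClosed k] [CharZero k] :
    (Ideal.span ({MvPolynomial.esymm (Fin 5) k 2, MvPolynomial.esymm (Fin 5) k 4} :
      Set (MvPolynomial (Fin 5) k))).radical.IsPrime := by
  change (I0 : Ideal (MvPolynomial (Fin 5) k)).radical.IsPrime
  obtain ⟨Q, hQ, hIQ, huQ, hmin⟩ := exists_Q (k := k) 0
  have huniq : ∀ P ∈ (I0 : Ideal (MvPolynomial (Fin 5) k)).minimalPrimes, P = Q := by
    intro P hP
    obtain ⟨i, hi⟩ := minimal_avoids hP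
    obtain ⟨Q', hQ', hIQ', huQ', hmin'⟩ := exists_Q (k := k) i
    have e1 : P = Q' := le_antisymm (hP.2 ⟨hQ', hIQ'⟩ (hmin' P hP.1.1 hP.1.2 hi)) (hmin' P hP.1.1 hP.1.2 hi)
    rw [e1]
    exact le_antisymm (hmin' Q hQ hIQ (huQ i)) (hmin Q' hQ' hIQ' (huQ' 0))
  have hrad : (I0 : Ideal (MvPolynomial (Fin 5) k)).radical = Q := by
    rw [← Ideal.sInf_minimalPrimes]
    obtain ⟨P, hP, -⟩ := Ideal.exists_minimalPrimes_le hIQ
    have hset : (I0 : Ideal (MvPolynomial (Fin 5) k)).minimalPrimes = {Q} :=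
      Set.eq_singleton_iff_unique_mem.2 ⟨huniq P hP ▸ hP, huniq⟩
    rw [hset, sInf_singleton]
  rw [hrad]
  exact hQ

end Groth.Agent.S12437
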