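import Groth.Statements.S1244
import Mathlib.AlgebraicGeometry.ZariskisMainTheorem
import Mathlib.RingTheory.Jacobson.Ideal

set_option autoImplicit false
universe u
open FlatMor

namespace Groth.Agent.S1244

open AlgebraicGeometry CategoryTheory PrimeSpectrum in
/-- Let A be the limit of an inverse system of rings (A_n) indexed by the natural numbers whose
transition maps are surjective with locally nilpotent kernels. Let T → Spec A be a monomorphism of
schemes which is locally of finite type. If each Spec A_n → Spec A factors through T, then T → Spec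
A is an isomorphism. -/
theorem result {A : Type u} [CommRing A] (A' : ℕ → Type u) [∀ n, CommRing (A' n)]
    (φ : ∀ n, A' (n + 1) →+* A' n) (π : ∀ n, A →+* A' n) (hlim : FlatCA.IsRingLimit A A' φ π)
    (hsurj : ∀ n, Function.Surjective (φ n)) (hnil : ∀ n, ∀ x ∈ RingHom.ker (φ n), IsNilpotent x)
    {T : Scheme.{u}} (h : T ⟶ Spec (CommRingCat.of A)) [Mono h] [LocallyOfFiniteType h]
    (hsec : ∀ n, ∃ g : Spec (CommRingCat.of (A' n)) ⟶ T, g ≫ h = Spec.map (CommRingCat.ofHom (π n))) :
    IsIso h := by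
  obtain ⟨hπ, hext, hex⟩ := hlim
  have hπa : ∀ n (a : A), φ n (π (n + 1) a) = π n a := fun n a => RingHom.congr_fun (hπ n) a
  -- elements killed by `π 0` are nilpotent at every stage
  have hnilπ : ∀ (x : A), π 0 x = 0 → ∀ n, IsNilpotent (π n x) := by
    intro x hx n
    induction n with
    | zero => rw [hx]; exact IsNilpotent.zero
    | succ n ih =>
      obtain ⟨k, hk⟩ := ih
      obtain ⟨m, hm⟩ := hnil n (π (n + 1) x ^ k) (by rw [RingHom.mem_ker, map_pow, hπa, hk])
      exact ⟨k * m, by rw [pow_mul, hm]⟩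
  have hjac : RingHom.ker (π 0) ≤ Ideal.jacobson (⊥ : Ideal A) := by
    intro x hx
    rw [Ideal.mem_jacobson_bot]
    intro y
    have hu : ∀ n, IsUnit (π n (x * y + 1)) := fun n => by
      rw [map_add, map_one]
      exact IsNilpotent.isUnit_add_one (hnilπ _ (by rw [map_mul, RingHom.mem_ker.mp hx, zero_mul]) n)
    obtain ⟨b, hb⟩ := hex (fun n => ↑(hu n).unit⁻¹) fun n => by
      refine (hu n).mul_left_cancel ?_
      rw [IsUnit.mul_val_inv]
      conv_lhs => rw [← hπa n, ← map_mul, IsUnit.mul_val_inv, map_one]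
    refine isUnit_iff_exists_inv.mpr ⟨b, hext _ _ fun n => ?_⟩
    rw [map_mul, hb, IsUnit.mul_val_inv, map_one]
  -- `π 0` is surjective
  have hπ0 : Function.Surjective (π 0) := by
    intro a
    let y : ∀ n, A' n := fun n => Nat.rec a (fun n z => (hsurj n z).choose) n
    obtain ⟨b, hb⟩ := hex y fun n => (hsurj n (y n)).choose_spec
    exact ⟨b, hb 0⟩
  choose g hg using hsec
  let sπ : ∀ n, Spec (CommRingCat.of (A' n)) ⟶ Spec (CommRingCat.of A) := fun n =>
    Spec.map (CommRingCat.ofHom (π n))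
  let sφ : ∀ n, Spec (CommRingCat.of (A' n)) ⟶ Spec (CommRingCat.of (A' (n + 1))) := fun n =>
    Spec.map (CommRingCat.ofHom (φ n))
  have hsπ : ∀ n, sφ n ≫ sπ (n + 1) = sπ n := fun n => by
    simp only [sφ, sπ, ← Spec.map_comp, ← CommRingCat.ofHom_comp, hπ n]
  have hgφ : ∀ n, sφ n ≫ g (n + 1) = g n := fun n => by
    rw [← cancel_mono h, Category.assoc, hg, hg]; exact hsπ n
  have hrange : ∀ n, Set.range (g n).base ⊆ Set.range (g 0).base := by
    intro n
    induction n with
    | zero => exact le_rfl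
    | succ n ih =>
      rintro _ ⟨q, rfl⟩
      revert q; intro (q : PrimeSpectrum (A' (n + 1)))
      obtain ⟨q', rfl⟩ : ∃ q', (sφ n).base q' = q := by
        have hmem : q ∈ Set.range (PrimeSpectrum.comap (φ n)) := by
          rw [range_comap_of_surjective _ _ (hsurj n)]
          show ((RingHom.ker (φ n) : Set (A' (n + 1))) ⊆ (q : PrimeSpectrum (A' (n + 1))).asIdeal)
          intro x hx
          obtain ⟨m, hm⟩ := hnil n x hx
          exact q.isPrime.mem_of_pow_mem m (hm ▸ zero_mem _)
        exact hmem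
      exact ih ⟨q', by rw [← Scheme.Hom.comp_apply, hgφ]⟩
  -- a quasi-compact open containing all the images
  obtain ⟨T', hT'c, hT'⟩ : ∃ T' : T.Opens, IsCompact (T' : Set T) ∧ Set.range (g 0).base ⊆ T' := by
    obtain ⟨s, hs⟩ := (isCompact_range (g 0).base.hom.continuous).elim_finite_subcover
      (fun U : T.affineOpens => (U.1 : Set T)) (fun U => U.1.isOpen) (fun x _ => by
        obtain ⟨_, ⟨U, hU, rfl⟩, hxU, -⟩ :=
          T.isBasis_affineOpens.exists_subset_of_mem_open (Set.mem_univ x) isOpen_univ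
        exact Set.mem_iUnion.mpr ⟨⟨U, hU⟩, hxU⟩)
    exact ⟨⟨⋃ U ∈ s, (U.1 : Set T), isOpen_biUnion fun U _ => U.1.isOpen⟩,
      s.isCompact_biUnion fun U _ => U.2.isCompact, hs⟩
  let f : (T' : Scheme.{u}) ⟶ Spec (CommRingCat.of A) := T'.ι ≫ h
  haveI : CompactSpace (T' : Scheme.{u}) := isCompact_iff_compactSpace.mp hT'c
  haveI : QuasiCompact f := (quasiCompact_iff_compactSpace f).mpr inferInstance
  haveI : Mono f := mono_comp _ _
  haveI : LocallyQuasiFinite f := .of_injective f.injective
  let P := f.normalization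
  haveI : IsAffine P := isAffine_of_isAffineHom f.fromNormalization
  let k : ∀ n, Spec (CommRingCat.of (A' n)) ⟶ P := fun n =>
    IsOpenImmersion.lift T'.ι (g n) (by rw [Scheme.Opens.range_ι]; exact (hrange n).trans hT') ≫ f.toNormalization
  have hkr : ∀ n, k n ≫ f.fromNormalization = sπ n := fun n => by
    simp only [k, Category.assoc, Scheme.Hom.toNormalization_fromNormalization]
    show IsOpenImmersion.lift T'.ι (g n) _ ≫ T'.ι ≫ h = _
    rw [IsOpenImmersion.lift_fac_assoc]; exact hg n
  have hkφ : ∀ n, sφ n ≫ k (n + 1) = k n := fun n => by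
    simp only [k, ← Category.assoc]
    congr 1
    rw [← cancel_mono T'.ι, Category.assoc, IsOpenImmersion.lift_fac, IsOpenImmersion.lift_fac, hgφ]
  let ψ : ∀ n, Γ(P, ⊤) →+* A' n := fun n => (Spec.preimage (k n ≫ P.isoSpec.hom)).hom
  have hψ : ∀ n, Spec.map (CommRingCat.ofHom (ψ n)) = k n ≫ P.isoSpec.hom := fun n =>
    Spec.map_preimage _
  have hψφ : ∀ n, (φ n).comp (ψ (n + 1)) = ψ n := fun n =>
    congrArg CommRingCat.Hom.hom (Spec.map_injective
      (a₁ := CommRingCat.ofHom (ψ (n + 1)) ≫ CommRingCat.ofHom (φ n)) (a₂ := CommRingCat.ofHom (ψ n))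
      (by rw [Spec.map_comp, hψ, hψ, ← Category.assoc]; exact congrArg (· ≫ P.isoSpec.hom) (hkφ n)))
  choose σ₀ hσ₀ using fun c : Γ(P, ⊤) => hex (fun n => ψ n c) fun n => RingHom.congr_fun (hψφ n) c
  let σ : Γ(P, ⊤) →+* A :=
    { toFun := σ₀
      map_one' := hext _ _ fun n => by rw [hσ₀, map_one, map_one]
      map_mul' := fun c d => hext _ _ fun n => by rw [hσ₀, map_mul, map_mul, hσ₀, hσ₀]
      map_zero' := hext _ _ fun n => by rw [hσ₀, map_zero, map_zero]
      map_add' := fun c d => hext _ _ fun n => by rw [hσ₀, map_add, map_add, hσ₀, hσ₀] }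
  have hσ : ∀ n, (π n).comp σ = ψ n := fun n => RingHom.ext fun c => hσ₀ c n
  let s : Spec (CommRingCat.of A) ⟶ P := Spec.map (CommRingCat.ofHom σ) ≫ P.isoSpec.inv
  have hπs : ∀ n, sπ n ≫ s = k n := fun n => by
    simp only [sπ, s, ← Category.assoc, ← Spec.map_comp, ← CommRingCat.ofHom_comp, hσ n]
    rw [hψ, Category.assoc, Iso.hom_inv_id, Category.comp_id]
  have hsr : s ≫ f.fromNormalization = 𝟙 _ := by
    suffices hpre : Spec.preimage (s ≫ f.fromNormalization) = 𝟙 _ by
      rw [← Spec.map_preimage (s ≫ f.fromNormalization), hpre, Spec.map_id]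
    ext a
    refine hext _ _ fun n => ?_
    have := congrArg Spec.preimage (show sπ n ≫ s ≫ f.fromNormalization = sπ n by
      rw [← Category.assoc, hπs, hkr])
    rw [show sπ n ≫ s ≫ f.fromNormalization = Spec.map (Spec.preimage (s ≫ f.fromNormalization) ≫
        CommRingCat.ofHom (π n)) by rw [Spec.map_comp, Spec.map_preimage], Spec.preimage_map,
      Spec.preimage_map] at this
    exact congrArg (fun e : _ ⟶ CommRingCat.of (A' n) => e.hom a) this
  -- the section lands in the image of `T'`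
  have hsT : Set.range s.base ⊆ Set.range f.toNormalization.base := by
    rintro _ ⟨p, rfl⟩
    obtain ⟨m, hm, hpm⟩ := Ideal.exists_le_maximal p.asIdeal p.isPrime.ne_top
    have h0 : RingHom.ker (π 0) ≤ m := hjac.trans (sInf_le ⟨bot_le, hm⟩)
    obtain ⟨q, hq⟩ : (⟨m, hm.isPrime⟩ : PrimeSpectrum A) ∈ Set.range (PrimeSpectrum.comap (π 0)) := by
      rw [range_comap_of_surjective _ _ hπ0, PrimeSpectrum.mem_zeroLocus]; exact h0
    have hsp : p ⤳ (⟨m, hm.isPrime⟩ : PrimeSpectrum A) := (PrimeSpectrum.le_iff_specializes _ _).mp hpm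
    refine (hsp.map s.base.hom.continuous).mem_open f.toNormalization.isOpenEmbedding.isOpen_range ?_
    rw [← hq, show s.base (PrimeSpectrum.comap (π 0) q) = (k 0).base q by rw [← hπs 0]; rfl]
    exact ⟨_, rfl⟩
  let t := IsOpenImmersion.lift f.toNormalization s hsT ≫ T'.ι
  have ht : t ≫ h = 𝟙 _ := by
    rw [Category.assoc]
    show IsOpenImmersion.lift f.toNormalization s hsT ≫ f = _
    conv_lhs => arg 2; rw [← f.toNormalization_fromNormalization]
    rw [IsOpenImmersion.lift_fac_assoc]; exact hsr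
  exact ⟨t, by rw [← cancel_mono h, Category.assoc, ht, Category.comp_id, Category.id_comp], ht⟩

end Groth.Agent.S1244
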