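import Groth.Statements.S12440
import Groth.Agent.DualCx.Pairing

set_option autoImplicit false
universe u
open CategoryTheory
attribute [local instance] HasDerivedCategory.standard
open Dual

namespace Groth.Agent.S12440

open scoped TensorProduct in
open DualCx in
lemma exists_twist {A : Type u} [CommRing A] [ConnectedSpace (PrimeSpectrum A)] {ω ω' : Dual.D A}
    (hω : Dual.IsDualizing A ω) (hω' : Dual.IsDualizing A ω') :
    ∃ (P : ModuleCat.{u} A) (_ : Module.Invertible A P) (n : ℤ),
      Nonempty (ω' ≅ ((Twist.T P).obj ω)⟦n⟧) := by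
  let L := DerivedCategory.Q.objPreimage ω
  let eω : DerivedCategory.Q.obj L ≅ ω := DerivedCategory.Q.objObjPreimageIso ω
  let X : Dual.D A := DerivedCategory.Q.obj L
  have hX : Dual.IsDualizing A X := FlatBC.isDualizing_of_iso eω.symm hω
  obtain ⟨n, -, hJ⟩ := Pairing.exists_pairing hX hω'
  let Y : Dual.D A := ω'⟦n⟧
  have hY : Dual.IsDualizing A Y := Normalized.isDualizing_shift hω' n
  obtain ⟨k, vv, uu, hsum⟩ := Pairing.J_eq_top hJ
  let eX : A ≃ₗ[A] (X ⟶ X) :=
    LinearEquiv.ofBijective (LinearMap.toSpanSingleton A _ (𝟙 X)) hX.toEnd_bijective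
  let eY : A ≃ₗ[A] (Y ⟶ Y) :=
    LinearEquiv.ofBijective (LinearMap.toSpanSingleton A _ (𝟙 Y)) hY.toEnd_bijective
  have hx : ∀ (f : X ⟶ X), eX.symm f • 𝟙 X = f := fun f => eX.apply_symm_apply f
  have hy : ∀ (f : Y ⟶ Y), eY.symm f • 𝟙 Y = f := fun f => eY.apply_symm_apply f
  let μ : (Y ⟶ X) ⊗[A] (X ⟶ Y) →ₗ[A] A := TensorProduct.lift
    (LinearMap.mk₂ A (fun v u => eY.symm (v ≫ u))
      (fun a b c => by simp only [Preadditive.add_comp, map_add])
      (fun r a b => by simp only [Linear.smul_comp, map_smul])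
      (fun a b c => by simp only [Preadditive.comp_add, map_add])
      (fun r a b => by simp only [Linear.comp_smul, map_smul]))
  let τ : (Y ⟶ X) ⊗[A] (X ⟶ Y) := ∑ i, vv i ⊗ₜ uu i
  have hτ : μ τ = 1 := by
    rw [map_sum]
    change ∑ i, eY.symm (vv i ≫ uu i) = 1
    rw [← map_sum, hsum, LinearEquiv.symm_apply_eq]
    exact (one_smul A (𝟙 Y)).symm
  have hu : ∀ u : X ⟶ Y, ∑ i, eX.symm (u ≫ vv i) • uu i = u := fun u => by
    calc _ = ∑ i, (eX.symm (u ≫ vv i) • 𝟙 X) ≫ uu i := by
          simp only [Linear.smul_comp, Category.id_comp]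
      _ = u := by
          simp only [hx, Category.assoc, ← Preadditive.comp_sum]
          rw [hsum]; exact Category.comp_id u
  have hz : ∀ z, μ z • τ = z := by
    intro z
    induction z using TensorProduct.induction_on with
    | zero => simp
    | add z w h h' => rw [map_add, add_smul, h, h']
    | tmul v u =>
      conv_rhs => rw [← hu u, TensorProduct.tmul_sum]
      rw [Finset.smul_sum]
      refine Finset.sum_congr rfl fun i _ => ?_
      rw [← TensorProduct.smul_tmul, TensorProduct.smul_tmul']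
      congr 1
      calc μ (v ⊗ₜ u) • vv i = (eY.symm (v ≫ u) • 𝟙 Y) ≫ vv i := by
            rw [Linear.smul_comp, Category.id_comp]; rfl
        _ = v ≫ (eX.symm (u ≫ vv i) • 𝟙 X) := by rw [hy, hx, Category.assoc]
        _ = _ := by rw [Linear.comp_smul, Category.comp_id]
  let eμ : (Y ⟶ X) ⊗[A] (X ⟶ Y) ≃ₗ[A] A := LinearEquiv.ofBijective μ
    ⟨fun z w h => by rw [← hz z, ← hz w, h],
      fun a => ⟨a • τ, by rw [map_smul, hτ, smul_eq_mul, mul_one]⟩⟩
  have : Module.Invertible A (X ⟶ Y) := Module.Invertible.right eμ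
  let M : ModuleCat.{u} A := ModuleCat.of A (Module.Finite.repr A (X ⟶ Y))
  let κ : M ≃ₗ[A] (X ⟶ Y) := Module.Finite.reprEquiv A (X ⟶ Y)
  have : Module.Invertible A M := Module.Invertible.congr κ.symm
  obtain ⟨q, ι, r, hr, hdec⟩ := TwistHom.exists_decomp L M
  let f : TwistHom.G L M ⟶ Y := ∑ j, TwistHom.tmap L (ι j) ≫ (TwistHom.rho L).hom ≫ κ (r j)
  let g : Y ⟶ TwistHom.G L M := ∑ i, vv i ≫ TwistHom.Φ L M (κ.symm (uu i))
  have hf : ∀ x : M, TwistHom.Φ L M x ≫ f = κ x := fun x => by
    conv_rhs => rw [← hr x, map_sum]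
    rw [Preadditive.comp_sum]
    refine Finset.sum_congr rfl fun j _ => ?_
    have h1 := congrArg (fun t => t ≫ κ (r j)) (TwistHom.Φ_tmap_rho L (ι j) x)
    simp only [Category.assoc, Linear.smul_comp, Category.id_comp] at h1
    exact h1.trans (map_smul κ _ _).symm
  have hgf : g ≫ f = 𝟙 Y := by
    simp only [g, Preadditive.sum_comp, Category.assoc, hf, LinearEquiv.apply_symm_apply]
    exact hsum
  have hxfg : ∀ x : M, TwistHom.Φ L M x ≫ f ≫ g = TwistHom.Φ L M x := fun x => by
    rw [← Category.assoc, hf, Preadditive.comp_sum]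
    conv_rhs => rw [← κ.symm_apply_apply x, ← hu (κ x), map_sum, map_sum]
    refine Finset.sum_congr rfl fun i _ => ?_
    rw [map_smul, map_smul, ← Category.assoc]
    conv_lhs => rw [← hx (κ x ≫ vv i), Linear.smul_comp, Category.id_comp]
  have hfg : f ≫ g = 𝟙 (TwistHom.G L M) := by
    conv_lhs => rw [← Category.id_comp (f ≫ g), ← hdec, Preadditive.sum_comp]
    conv_rhs => rw [← hdec]
    simp only [Category.assoc, hxfg]
  exact ⟨M, inferInstance, -n,
    ⟨(shiftFunctorCompIsoId (Dual.D A) n (-n) (add_neg_cancel n)).symm.app ω' ≪≫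
      (shiftFunctor (Dual.D A) (-n)).mapIso
        (⟨g, f, hgf, hfg⟩ ≪≫ (TwistHom.GIso L M).symm ≪≫ (Twist.T M).mapIso eω)⟩⟩


/-- Let A be a Noetherian ring whose prime spectrum is connected, and let ω and ω′ be dualizing
complexes for A. Then there exist an invertible A-module P (finite locally free of rank one) and an
integer n such that ω′ ≅ (ω ⊗^L_A P)[n] in D(A); here the total left derived functor − ⊗^L_A P is
assumed to exist (a true statement carried as a hypothesis). The published statement is for a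
connected locally Noetherian scheme; the affine case is stated. -/
theorem result (A : Type u) [CommRing A] [IsNoetherianRing A]
    [ConnectedSpace (PrimeSpectrum A)] (ω ω' : Dual.D A) (hω : Dual.IsDualizing A ω) (hω' : Dual.IsDualizing A ω') :
    ∃ (P : ModuleCat.{u} A) (_ : Module.Invertible A P) (n : ℤ),
      ∀ [DRing.HasLTensor A P], Nonempty (ω' ≅ ((DRing.LTensor A P).obj ω)⟦n⟧) := by
  obtain ⟨P, hP, n, ⟨i⟩⟩ := exists_twist hω hω'
  refine ⟨P, hP, n, fun {_} => ?_⟩
  obtain ⟨e⟩ := DualCx.Twist.nonempty_LTensor_iso P ω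
  exact ⟨i ≪≫ (shiftFunctor (Dual.D A) n).mapIso e.symm⟩

end Groth.Agent.S12440
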