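import Groth.Statements.S12441
import Groth.Agent.GrRep86.Sub

set_option autoImplicit false
universe u
open scoped TensorProduct
open Grass

namespace Groth.Agent.S12441

open TensorProduct in
/-- Stability under left multiplication, as a containment. -/
theorem stable_iff_mk {k : Type u} [CommRing k] {A : Type u} [Ring A] [Algebra k A] {B C : Type u} [CommRing B]
    [Algebra k B] [CommRing C] [Algebra k C] {e : ℕ} (φ : B →ₐ[k] C) (N : Module.Grassmannian B (B ⊗[k] A) e) :
    (∀ (a : A) (x : C ⊗[k] A), x ∈ (Module.Grassmannian.map φ N).toSubmodule →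
        ((1 : C) ⊗ₜ[k] a) * x ∈ (Module.Grassmannian.map φ N).toSubmodule) ↔
      (Ideal.span {b | ∃ (a : A) (x : B ⊗[k] A) (ψ : ((B ⊗[k] A) ⧸ N.toSubmodule) →ₗ[B] B),
        x ∈ N.toSubmodule ∧ b = ψ (N.toSubmodule.mkQ (((1 : B) ⊗ₜ[k] a) * x))}) ≤ RingHom.ker φ := by
  letI : Algebra B C := φ.toAlgebra
  haveI : IsScalarTower k B C := IsScalarTower.of_algebraMap_eq' φ.comp_algebraMap.symm
  rw [Module.Grassmannian.map_toSubmodule]
  let μ : B ⊗[k] A →ₐ[k] C ⊗[k] A := Algebra.TensorProduct.map φ (AlgHom.id k A)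
  let U := N.toSubmodule
  have hμ : ∀ z, Module.Grassmannian.baseChangeMkQ C U (μ z) = (1 : C) ⊗ₜ[B] U.mkQ z := by
    intro z
    induction z using TensorProduct.induction_on with
    | zero => simp
    | tmul b a =>
      have hab : b ⊗ₜ[k] a = b • ((1 : B) ⊗ₜ[k] a) := by rw [TensorProduct.smul_tmul', smul_eq_mul, mul_one]
      simp only [μ, Algebra.TensorProduct.map_tmul, AlgHom.id_apply, Module.Grassmannian.baseChangeMkQ,
        LinearMap.comp_apply, LinearEquiv.coe_coe, TensorProduct.AlgebraTensorModule.cancelBaseChange_symm_tmul,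
        LinearMap.baseChange_tmul]
      conv_rhs => rw [hab, map_smul, TensorProduct.tmul_smul, TensorProduct.smul_tmul', Algebra.smul_def, mul_one]
      rfl
    | add x y hx hy => simp [map_add, hx, hy, TensorProduct.tmul_add]
  have hμb : ∀ a x, μ (((1 : B) ⊗ₜ[k] a) * x) = ((1 : C) ⊗ₜ[k] a) * μ x := fun a x => by
    rw [map_mul]
    congr 1
    simp [μ]
  rw [Ideal.span_le]
  constructor
  · rintro h b ⟨a, x, ψ, hx, rfl⟩
    refine (Groth.Agent.GrRep86.one_tmul_eq_zero_iff C _ _).mp ?_ ψ
    have hx' : μ x ∈ LinearMap.ker (Module.Grassmannian.baseChangeMkQ C U) := by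
      rw [LinearMap.mem_ker, hμ, Submodule.mkQ_apply, (Submodule.Quotient.mk_eq_zero U).mpr hx, TensorProduct.tmul_zero]
    have := h a _ hx'
    rwa [← hμb, LinearMap.mem_ker, hμ] at this
  · intro h a x hx
    have h' : ∀ x ∈ U, (1 : C) ⊗ₜ[B] U.mkQ (((1 : B) ⊗ₜ[k] a) * x) = 0 := fun x hx =>
      (Groth.Agent.GrRep86.one_tmul_eq_zero_iff C _ _).mpr fun ψ => h ⟨a, x, ψ, hx, rfl⟩
    rw [LinearMap.mem_ker] at hx ⊢
    obtain ⟨w, hw⟩ := ((lTensor_exact C (LinearMap.exact_subtype_mkQ U) U.mkQ_surjective) _).mp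
      (show U.mkQ.lTensor C ((TensorProduct.AlgebraTensorModule.cancelBaseChange k B C C A).symm x) = 0 from hx)
    have hx2 : x = TensorProduct.AlgebraTensorModule.cancelBaseChange k B C C A (U.subtype.lTensor C w) := by
      rw [hw, LinearEquiv.apply_symm_apply]
    subst hx2
    clear hx hw
    induction w using TensorProduct.induction_on with
    | zero => simp
    | tmul c u =>
      have hcu : TensorProduct.AlgebraTensorModule.cancelBaseChange k B C C A (c ⊗ₜ[B] (u : B ⊗[k] A)) = c • μ u := by
        obtain ⟨u, hu⟩ := u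
        show TensorProduct.AlgebraTensorModule.cancelBaseChange k B C C A (c ⊗ₜ[B] u) = c • μ u
        clear hu
        induction u using TensorProduct.induction_on with
        | zero => simp
        | tmul b a =>
          simp [μ, Algebra.smul_def, mul_comm, TensorProduct.smul_tmul']
          rfl
        | add y z hy hz => simp only [map_add, TensorProduct.tmul_add, smul_add, hy, hz]
      rw [LinearMap.lTensor_tmul, Submodule.subtype_apply, hcu, mul_smul_comm, ← hμb, map_smul, hμ,
        h' _ u.2, smul_zero]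
    | add y z hy hz => simp only [map_add, mul_add, hy, hz, add_zero]


open AlgebraicGeometry CategoryTheory in
/-- Let k be a field, A a possibly non-commutative k-algebra, e a natural number, and X a k-scheme
representing the Grassmannian functor Grass^e(A) on affine k-schemes — bijections, natural in the
commutative k-algebra B, between k-morphisms Spec B → X and B-submodules U of B ⊗_k A whose quotient
is finite projective of constant rank e. Then there is a closed immersion ι : Z → X such that a
k-morphism g : Spec B → X factors through ι if and only if the submodule U attached to g is a left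
ideal of B ⊗_k A, i.e. is stable under left multiplication by every 1 ⊗ a. -/
theorem result (k : Type u) [Field k] (A : Type u) [Ring A] [Algebra k A]
    (e : ℕ) (X : Over (Spec (CommRingCat.of k)))
    (eX : ∀ B : CommAlgCat.{u} k,
      ((Over.mk (Spec.map (CommRingCat.ofHom (algebraMap k B)))) ⟶ X) ≃ (Module.Grassmannian.functor (R := k) (M := A) e).obj B)
    (heX : ∀ (B C : CommAlgCat.{u} k) (φ : B ⟶ C)
      (g : Over.mk (Spec.map (CommRingCat.ofHom (algebraMap k B))) ⟶ X) (g' : Over.mk (Spec.map (CommRingCat.ofHom (algebraMap k C))) ⟶ X),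
      g'.left = Spec.map (CommRingCat.ofHom φ.hom.toRingHom) ≫ g.left →
        eX C g' = (Module.Grassmannian.functor (R := k) (M := A) e).map φ (eX B g)) :
    ∃ (Z : Scheme.{u}) (ι : Z ⟶ X.left), IsClosedImmersion ι ∧
      ∀ (B : CommAlgCat.{u} k) (g : Over.mk (Spec.map (CommRingCat.ofHom (algebraMap k B))) ⟶ X),
        (∃ h : (Over.mk (Spec.map (CommRingCat.ofHom (algebraMap k B)))).left ⟶ Z, h ≫ ι = g.left) ↔
          ∀ (a : A) (x : ↑B ⊗[k] A), x ∈ (eX B g).toSubmodule →
            ((1 : ↑B) ⊗ₜ[k] a) * x ∈ (eX B g).toSubmodule := by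
  exact Groth.Agent.GrRep86.exists_closed_of_obs X eX heX
    (fun B _ _ N => ∀ (a : A) (x : B ⊗[k] A), x ∈ N.toSubmodule → ((1 : B) ⊗ₜ[k] a) * x ∈ N.toSubmodule)
    _ fun B C _ _ _ _ φ N => stable_iff_mk φ N

end Groth.Agent.S12441
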