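import Groth.Statements.S12444
import Groth.Agent.PtTop.Catenary
-- import your own Groth.Agent.* helpers here

set_option autoImplicit false
universe u
open PtTop

namespace Groth.Agent.S12444

open Groth.Agent.PtTop Topology

/-- A topological space X is catenary if and only if it has an open covering by catenary subspaces
(here: every point has a catenary open neighbourhood); and if X is catenary then so is every locally
closed subspace of X. -/
theorem result (X : Type u) [TopologicalSpace X] :
    (PtTop.IsCatenarySpace X ↔
      ∀ x : X, ∃ U : TopologicalSpace.Opens X, x ∈ U ∧ PtTop.IsCatenarySpace U) ∧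
    (PtTop.IsCatenarySpace X → ∀ S : Set X, IsLocallyClosed S → PtTop.IsCatenarySpace S) := by
  simp only [Catenary.isCatenarySpace_iff]
  refine ⟨⟨fun h x => ⟨⊤, trivial, ?_⟩, fun h => ?_⟩, fun h S hS => ?_⟩
  · exact h.subspace (f := Subtype.val) IsInducing.subtypeVal (by simpa using isClosed_univ.isLocallyClosed)
  · choose U hxU hU using h
    exact Catenary.cat_of_openEmbeddings (fun x => (Subtype.val : U x → X))
      (fun x => (U x).2.isOpenEmbedding_subtypeVal) (fun x => ⟨x, ⟨x, hxU x⟩, rfl⟩) hU
  · exact h.subspace (f := Subtype.val) IsInducing.subtypeVal (by simpa using hS)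

end Groth.Agent.S12444
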