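import Groth.Statements.S12445
import Groth.Agent.PtTop.Catenary
-- import your own Groth.Agent.* helpers here

set_option autoImplicit false
universe u
open CategoryTheory AlgebraicGeometry
open Props

namespace Groth.Agent.S12445

open Groth.Agent.PtTop Topology

/-- (1) ⇔ (3) ⇔ (4): for a scheme S, the underlying topological space of S is catenary if and only if
the coordinate ring of every affine open of S is a catenary ring, if and only if S is covered by
affine opens with catenary coordinate rings. (Clause (2), openness of catenarity, and the final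
assertion on locally closed subschemes are the topological statement for open coverings and locally
closed subspaces.) -/
theorem result (S : Scheme.{u}) :
    (PtTop.IsCatenarySpace S ↔ ∀ U : S.affineOpens, CAlg.IsCatenary Γ(S, U)) ∧
    (PtTop.IsCatenarySpace S ↔
      ∀ s : S, ∃ U : S.affineOpens, s ∈ (U : S.Opens) ∧ CAlg.IsCatenary Γ(S, U)) := by
  simp only [Catenary.isCatenarySpace_iff]
  have h1 : Catenary.Cat (TopologicalSpace.IrreducibleCloseds S) →
      ∀ U : S.affineOpens, CAlg.IsCatenary Γ(S, U) := fun h U =>
    (Catenary.cat_primeSpectrum _).mp (h.subspace (f := U.2.fromSpec)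
      (IsAffineOpen.isOpenImmersion_fromSpec U.2).base_open.isInducing (IsAffineOpen.isOpenImmersion_fromSpec U.2).base_open.isOpen_range.isLocallyClosed)
  have h2 : (∀ s : S, ∃ U : S.affineOpens, s ∈ (U : S.Opens) ∧ CAlg.IsCatenary Γ(S, U)) →
      Catenary.Cat (TopologicalSpace.IrreducibleCloseds S) := by
    intro h
    choose U hsU hU using h
    exact Catenary.cat_of_openEmbeddings (S := fun s => PrimeSpectrum Γ(S, U s))
      (fun s => (U s).2.fromSpec) (fun s => (IsAffineOpen.isOpenImmersion_fromSpec (U s).2).base_open)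
      (fun s => ⟨s, (Set.ext_iff.mp (U s).2.range_fromSpec s).mpr (hsU s)⟩)
      (fun s => (Catenary.cat_primeSpectrum _).mpr (hU s))
  have h3 : (∀ U : S.affineOpens, CAlg.IsCatenary Γ(S, U)) →
      ∀ s : S, ∃ U : S.affineOpens, s ∈ (U : S.Opens) ∧ CAlg.IsCatenary Γ(S, U) := by
    intro h s
    obtain ⟨_, ⟨V, hV, rfl⟩, hsV, -⟩ :=
      S.isBasis_affineOpens.exists_subset_of_mem_open (Set.mem_univ s) isOpen_univ
    exact ⟨⟨V, hV⟩, hsV, h _⟩
  exact ⟨⟨h1, fun h => h2 (h3 h)⟩, ⟨fun h => h3 (h1 h), h2⟩⟩

end Groth.Agent.S12445
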