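import Groth.Statements.S12446
import Groth.Agent.PtTop.Catenary
-- import your own Groth.Agent.* helpers here

set_option autoImplicit false
universe u
open CategoryTheory AlgebraicGeometry
open Props

namespace Groth.Agent.S12446

open Groth.Agent.PtTop Topology

/-- For a scheme X, the underlying topological space of X is catenary if and only if for every point x
the local ring O_{X,x} is a catenary ring. -/
theorem result (X : Scheme.{u}) :
    PtTop.IsCatenarySpace X ↔ ∀ x : X, CAlg.IsCatenary (X.presheaf.stalk x) := by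
  rw [Catenary.isCatenarySpace_iff]
  constructor
  · intro h x
    obtain ⟨_, ⟨U, hU, rfl⟩, hxU, -⟩ :=
      X.isBasis_affineOpens.exists_subset_of_mem_open (Set.mem_univ x) isOpen_univ
    have hA : CAlg.IsCatenary Γ(X, U) := (Catenary.cat_primeSpectrum _).mp
      (h.subspace (f := hU.fromSpec) (IsAffineOpen.isOpenImmersion_fromSpec hU).base_open.isInducing
        (IsAffineOpen.isOpenImmersion_fromSpec hU).base_open.isOpen_range.isLocallyClosed)
    letI := TopCat.Presheaf.algebra_section_stalk X.presheaf ⟨x, hxU⟩
    have := hU.isLocalization_stalk ⟨x, hxU⟩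
    exact Catenary.isCatenary_of_isLocalization (hU.primeIdealOf ⟨x, hxU⟩).asIdeal.primeCompl _ hA
  · intro h
    have : ∀ s : X, ∃ U : X.affineOpens, s ∈ (U : X.Opens) := fun s => by
      obtain ⟨_, ⟨V, hV, rfl⟩, hsV, -⟩ :=
        X.isBasis_affineOpens.exists_subset_of_mem_open (Set.mem_univ s) isOpen_univ
      exact ⟨⟨V, hV⟩, hsV⟩
    choose U hsU using this
    refine Catenary.cat_of_openEmbeddings (S := fun s => PrimeSpectrum Γ(X, U s))
      (fun s => (U s).2.fromSpec) (fun s => (IsAffineOpen.isOpenImmersion_fromSpec (U s).2).base_open)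
      (fun s => ⟨s, (Set.ext_iff.mp (U s).2.range_fromSpec s).mpr (hsU s)⟩)
      ?_
    intro s
    refine (Catenary.cat_primeSpectrum _).mpr ?_
    refine Catenary.cat_of_cover fun p q hpq => ?_
    have hy : (U s).2.fromSpec q ∈ (U s : X.Opens) := by
      have : (U s).2.fromSpec q ∈ Set.range (U s).2.fromSpec := ⟨q, rfl⟩
      exact (Set.ext_iff.mp (U s).2.range_fromSpec _).mp this
    letI := TopCat.Presheaf.algebra_section_stalk X.presheaf ⟨(U s).2.fromSpec q, hy⟩
    haveI : IsLocalization.AtPrime (X.presheaf.stalk ((U s).2.fromSpec q)) q.asIdeal :=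
      (U s).2.isLocalization_stalk' q hy
    refine ⟨_, inferInstance,
      Catenary.locEmb q.asIdeal.primeCompl (X.presheaf.stalk ((U s).2.fromSpec q)),
      Catenary.ordConnected_range_locEmb _ _, ?_, ?_, h _⟩
    · rw [Catenary.range_locEmb]
      exact Set.disjoint_left.mpr fun a ha hap => ha (hpq hap)
    · rw [Catenary.range_locEmb]
      exact Set.disjoint_left.mpr fun a ha hap => ha hap

end Groth.Agent.S12446
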