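import Groth.Statements.S12447
import Groth.Agent.PtTop.Catenary
import Mathlib.AlgebraicGeometry.Noetherian
-- import your own Groth.Agent.* helpers here

set_option autoImplicit false
universe u
open CategoryTheory AlgebraicGeometry
open Props

namespace Groth.Agent.S12447

open Groth.Agent.PtTop Topology TopologicalSpace

/-- In a Noetherian catenary sober space every point has an open neighbourhood with a function that
is a dimension function there. -/
theorem exists_local_dimensionFunction {W : Type u} [TopologicalSpace W] [NoetherianSpace W]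
    [QuasiSober W] [T0Space W] (hcat : Catenary.Cat (IrreducibleCloseds W)) (x : W) :
    ∃ V : Set W, IsOpen V ∧ x ∈ V ∧ ∃ δ : W → ℤ,
      (∀ y z : W, z ∈ V → y ⤳ z → y ≠ z → δ z < δ y) ∧
      (∀ y z : W, z ∈ V → _root_.PtTop.IsImmediateSpecialization y z → δ y = δ z + 1) := by
  classical
  obtain ⟨F, hFf, hFc, hFirr, hFu⟩ :=
    NoetherianSpace.exists_finite_set_isClosed_irreducible (α := W) (s := Set.univ) isClosed_univ
  have hpair : ∀ q : Set W × Set W, ∃ G : Set (Set W), G.Finite ∧ (∀ g ∈ G, IsClosed g) ∧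
      (∀ g ∈ G, IsIrreducible g) ∧ closure q.1 ∩ closure q.2 = ⋃₀ G := fun q =>
    NoetherianSpace.exists_finite_set_isClosed_irreducible
      (isClosed_closure.inter isClosed_closure)
  choose G hGf hGc hGirr hGu using hpair
  let bad : Set (Set W) := {g | (g ∈ F ∨ ∃ q ∈ F ×ˢ F, g ∈ G q) ∧ x ∉ g}
  have hbadf : bad.Finite :=
    (hFf.union ((hFf.prod hFf).biUnion fun q _ => hGf q)).subset (by
      rintro g ⟨hg | ⟨q, hq, hg⟩, -⟩
      · exact Or.inl hg
      · exact Or.inr (Set.mem_biUnion hq hg))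
  have hbadc : ∀ g ∈ bad, IsClosed g := by
    rintro g ⟨hg | ⟨q, -, hg⟩, -⟩
    exacts [hFc g hg, hGc q g hg]
  let V : Set W := (⋃₀ bad)ᶜ
  have hV : IsOpen V := by
    change IsOpen (⋃₀ bad)ᶜ
    rw [Set.sUnion_eq_biUnion]
    exact (hbadf.isClosed_biUnion hbadc).isOpen_compl
  have hxV : x ∈ V := by
    rintro ⟨g, hg, hxg⟩; exact hg.2 hxg
  -- irreducible closed sets
  let pt : W → IrreducibleCloseds W := fun y =>
    ⟨closure {y}, isIrreducible_singleton.closure, isClosed_closure⟩
  let comp : ∀ g ∈ F, IrreducibleCloseds W := fun g hg => ⟨g, hFirr g hg, hFc g hg⟩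
  have hpt : ∀ {y : W} {Z : IrreducibleCloseds W}, y ∈ (Z : Set W) → pt y ≤ Z := fun {y Z} hy =>
    show closure {y} ⊆ (Z : Set W) from closure_minimal (Set.singleton_subset_iff.mpr hy) Z.isClosed
  have hmem : ∀ y, y ∈ V → ∀ g, (g ∈ F ∨ ∃ q ∈ F ×ˢ F, g ∈ G q) → y ∈ g → x ∈ g := by
    intro y hy g hg hyg
    by_contra h
    exact hy ⟨g, ⟨hg, h⟩, hyg⟩
  let cd : IrreducibleCloseds W → IrreducibleCloseds W → ℤ := fun A B =>
    ((_root_.PtTop.codim A (B : Set W)).toNat : ℤ)
  have hcd : ∀ {A B C : IrreducibleCloseds W}, A ≤ B → B ≤ C → cd A C = cd A B + cd B C := by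
    intro A B C h1 h2
    change ((_root_.PtTop.codim A (C : Set W)).toNat : ℤ) = _
    rw [Catenary.codim_add hcat h1 h2, ENat.toNat_add (Catenary.codim_ne_top_of_cat hcat h1)
      (Catenary.codim_ne_top_of_cat hcat h2)]
    exact Nat.cast_add _ _
  have hex : ∀ y : W, ∃ g ∈ F, y ∈ g := fun y => by
    have : y ∈ ⋃₀ F := hFu ▸ trivial
    exact this
  choose c hcF hyc using hex
  let δ : W → ℤ := fun y => cd (pt x) (comp _ (hcF y)) - cd (pt y) (comp _ (hcF y))
  have hδ : ∀ y ∈ V, ∀ g (hg : g ∈ F), y ∈ g →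
      δ y = cd (pt x) (comp g hg) - cd (pt y) (comp g hg) := by
    intro y hy g hg hyg
    have h1 : y ∈ closure (c y) ∩ closure g := ⟨subset_closure (hyc y), subset_closure hyg⟩
    rw [hGu (c y, g)] at h1
    obtain ⟨w, hw, hyw⟩ := h1
    have hxw : x ∈ w := hmem y hy w (Or.inr ⟨(c y, g), ⟨hcF y, hg⟩, hw⟩) hyw
    have hsub : w ⊆ closure (c y) ∩ closure g := hGu (c y, g) ▸ Set.subset_sUnion_of_mem hw
    let Wc : IrreducibleCloseds W := ⟨w, hGirr _ w hw, hGc _ w hw⟩
    have l1 : Wc ≤ comp _ (hcF y) := fun z hz => (hFc _ (hcF y)).closure_subset (hsub hz).1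
    have l2 : Wc ≤ comp g hg := fun z hz => (hFc _ hg).closure_subset (hsub hz).2
    have a1 := hcd (hpt (Z := Wc) hxw) l1
    have a2 := hcd (hpt (Z := Wc) hxw) l2
    have b1 := hcd (hpt (Z := Wc) hyw) l1
    have b2 := hcd (hpt (Z := Wc) hyw) l2
    change cd (pt x) (comp _ (hcF y)) - cd (pt y) (comp _ (hcF y)) = _
    omega
  have hdiff : ∀ y z, z ∈ V → y ⤳ z → δ y = δ z + cd (pt z) (pt y) := by
    intro y z hz hyz
    have hy : y ∈ V := hyz.mem_open hV hz
    have hzg : z ∈ c y := hyz.mem_closed (hFc _ (hcF y)) (hyc y)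
    rw [hδ z hz _ (hcF y) hzg]
    have := hcd (A := pt z) (B := pt y) (C := comp _ (hcF y))
      (specializes_iff_closure_subset.mp hyz) (hpt (hyc y))
    change cd (pt x) (comp _ (hcF y)) - cd (pt y) (comp _ (hcF y)) = _
    omega
  refine ⟨V, hV, hxV, δ, fun y z hz hyz hne => ?_, fun y z hz himm => ?_⟩
  · have hlt : pt z < pt y := by
      refine lt_of_le_of_ne (specializes_iff_closure_subset.mp hyz) fun h => hne ?_
      exact (inseparable_iff_closure_eq.mpr (congrArg (fun A : IrreducibleCloseds W => (A : Set W)) h)).eq.symm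
    have h1 : (1 : ℕ∞) ≤ _root_.PtTop.codim (pt z) (pt y : Set W) := by
      exact_mod_cast Catenary.length_le_codim
        ((RelSeries.singleton _ (pt y)).cons (pt z) hlt) (RelSeries.head_cons ..)
        (le_of_eq (α := Set W) (congrArg (fun w : IrreducibleCloseds W => (w : Set W))
          ((RelSeries.last_cons ..).trans (RelSeries.last_singleton _))))
    obtain ⟨n, hn⟩ := ENat.ne_top_iff_exists.mp (Catenary.codim_ne_top_of_cat hcat hlt.le)
    rw [← hn, ← Nat.cast_one, Nat.cast_le] at h1
    have : cd (pt z) (pt y) = (n : ℤ) := by change ((_ : ℕ∞).toNat : ℤ) = _; rw [← hn]; rfl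
    have := hdiff y z hz hyz
    omega
  · obtain ⟨hyz, hne, hbetween⟩ := himm
    have hlt : pt z < pt y := by
      refine lt_of_le_of_ne (specializes_iff_closure_subset.mp hyz) fun h => hne ?_
      exact (inseparable_iff_closure_eq.mpr (congrArg (fun A : IrreducibleCloseds W => (A : Set W)) h)).eq.symm
    have hcov : pt z ⋖ pt y := by
      refine ⟨hlt, fun A hA1 hA2 => ?_⟩
      have hg := A.isIrreducible.isGenericPoint_genericPoint A.isClosed
      have h1 : y ⤳ A.isIrreducible.genericPoint :=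
        specializes_iff_mem_closure.mpr (hA2.le hg.mem)
      have h2 : A.isIrreducible.genericPoint ⤳ z := hg.specializes (hA1.le (subset_closure rfl))
      rcases hbetween _ h1 h2 with h | h
      · exact hA2.ne (IrreducibleCloseds.ext (hg.symm.trans (by rw [h]; rfl)))
      · exact hA1.ne (IrreducibleCloseds.ext (Eq.trans (by rw [h]; rfl) hg))
    have h1 := Catenary.codim_eq_of_saturated hcat ((RelSeries.singleton _ (pt y)).cons (pt z) hlt)
      (fun i => by
        obtain ⟨i, hi⟩ := i
        have hi' : i < 1 := hi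
        obtain rfl : i = 0 := by omega
        exact hcov)
    change _root_.PtTop.codim (pt z) (pt y : Set W) = ((1 : ℕ) : ℕ∞) at h1
    have : cd (pt z) (pt y) = 1 := by change ((_ : ℕ∞).toNat : ℤ) = _; rw [h1]; rfl
    have := hdiff y z hz hyz
    omega


/-- Let S be a locally Noetherian scheme. Then the underlying topological space of S is catenary if and
only if locally in the Zariski topology there is a dimension function, i.e. every point has an open
neighbourhood U carrying a function δ : U → ℤ which strictly decreases along nontrivial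
specializations and drops by exactly one along immediate specializations. -/
theorem result (S : Scheme.{u}) [IsLocallyNoetherian S] :
    PtTop.IsCatenarySpace S ↔
      ∀ s : S, ∃ U : S.Opens, s ∈ U ∧ ∃ δ : U → ℤ, PtTop.IsDimensionFunction δ := by
  rw [Catenary.isCatenarySpace_iff]
  constructor
  · intro h s
    obtain ⟨_, ⟨W, hW, rfl⟩, hsW, -⟩ :=
      S.isBasis_affineOpens.exists_subset_of_mem_open (Set.mem_univ s) isOpen_univ
    have := IsLocallyNoetherian.component_noetherian (X := S) ⟨W, hW⟩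
    have : NoetherianSpace (W : Set S) := noetherianSpace_of_isAffineOpen W hW
    have : QuasiSober (W : Set S) := W.2.isOpenEmbedding_subtypeVal.quasiSober
    obtain ⟨V, hV, hsV, δ, h1, h2⟩ := exists_local_dimensionFunction (W := (W : Set S))
      (h.subspace (f := Subtype.val) IsInducing.subtypeVal
        (by rw [Subtype.range_coe]; exact W.2.isLocallyClosed))
      ⟨s, hsW⟩
    let U : S.Opens := ⟨Subtype.val '' V, W.2.isOpenMap_subtype_val V hV⟩
    have hUW : ∀ {a : S}, a ∈ U → a ∈ W := by rintro _ ⟨v, -, rfl⟩; exact v.2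
    have hmemV : ∀ a : U, (⟨a.1, hUW a.2⟩ : W) ∈ V := by
      rintro ⟨_, v, hv, rfl⟩; exact hv
    refine ⟨U, ⟨_, hsV, rfl⟩, fun a => δ ⟨a.1, hUW a.2⟩, fun a b hab hne => ?_, fun a b himm => ?_⟩
    · exact h1 _ _ (hmemV b) (by rw [subtype_specializes_iff] at hab ⊢; exact hab)
        fun e => hne (Subtype.ext (congrArg (fun w : W => w.1) e))
    · obtain ⟨hab, hne, hbet⟩ := himm
      refine h2 _ _ (hmemV b) ⟨by rw [subtype_specializes_iff] at hab ⊢; exact hab,
        fun e => hne (Subtype.ext (congrArg (fun w : W => w.1) e)), fun w h3 h4 => ?_⟩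
      have hwV : w ∈ V := h4.mem_open hV (hmemV b)
      rw [subtype_specializes_iff] at h3 h4
      rcases hbet ⟨w.1, w, hwV, rfl⟩ ((subtype_specializes_iff _ _).mpr h3)
        ((subtype_specializes_iff _ _).mpr h4) with e | e
      · exact Or.inl (Subtype.ext (congrArg (fun v : U => v.1) e :))
      · exact Or.inr (Subtype.ext (congrArg (fun v : U => v.1) e :))
  · intro h
    choose U hsU δ hδ using h
    refine Catenary.cat_of_openEmbeddings (fun s => (Subtype.val : U s → S))
      (fun s => (U s).2.isOpenEmbedding_subtypeVal) (fun s => ⟨s, ⟨s, hsU s⟩, rfl⟩) fun s => ?_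
    exact @Catenary.cat_of_dimensionFunction _ _ (U s).2.isOpenEmbedding_subtypeVal.quasiSober _ _ (hδ s)

end Groth.Agent.S12447
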