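import Groth.Statements.S1245
import Groth.Agent.RGFlat.ImpurityDescend
import Mathlib.RingTheory.Jacobson.Ring

set_option autoImplicit false
universe u
open FlatMor

namespace Groth.Agent.S1245

/-- Ring form, X = Spec B affine, base change rings affine: let B be a finite type A-algebra, N a finite
B-module and p a prime of A. If there is an impurity of N above p, then there is one whose base
change A → A' is of finite presentation and whose point t is a closed point of the fibre of Spec A'
over p (the extension of t to the fibre ring is maximal). -/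
theorem result {A B : Type u} [CommRing A] [CommRing B] [Algebra A B] [Algebra.FiniteType A B]
    (N : Type u) [AddCommGroup N] [Module B N] [Module.Finite B N] (p : Ideal A) [p.IsPrime]
    (h : FlatCA.HasImpurity A B N p (fun _ _ _ _ => True)) :
    FlatCA.HasImpurity A B N p (fun A' _ _ t => Algebra.FinitePresentation A A' ∧ (FlatCA.fiberIdeal p t).IsMaximal) := by
  classical
  obtain ⟨A₁, B₁, N₁, _, _, _, _, _, _, _, _, _, _, _, _, _, _, f, t', t, _, _, P, _, himp, -⟩ := h
  obtain ⟨F, hF⟩ := Groth.Agent.RGFlat.Impurity.exists_descend himp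
  let R := MvPolynomial F A
  let φ : R →ₐ[A] A₁ := MvPolynomial.aeval fun x : F => (x : A₁)
  letI : Algebra R A₁ := φ.toRingHom.toAlgebra
  haveI : IsScalarTower A R A₁ := IsScalarTower.of_algebraMap_eq fun a => (φ.commutes a).symm
  obtain ⟨BR, NR, _, _, _, _, _, _, _, _, _, _, _, _, g, PR, _, s, hs, hI⟩ :=
    hF R fun x hx => ⟨MvPolynomial.X ⟨x, hx⟩, MvPolynomial.aeval_X _ _⟩
  let a := t.comap (algebraMap R A₁)
  haveI : a.IsPrime := Ideal.comap_isPrime _ _
  haveI := himp.2.2.2.1
  haveI : a.LiesOver p := ⟨by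
    show p = (t.comap (algebraMap R A₁)).comap (algebraMap A R)
    rw [Ideal.comap_comap, ← IsScalarTower.algebraMap_eq, ← Ideal.under_def, ← Ideal.over_def t p]⟩
  let inc : R →+* p.Fiber R := (Algebra.TensorProduct.includeRight (R := A) (A := p.ResidueField) (B := R)).toRingHom
  let aF := FlatCA.fiberIdeal p a
  haveI : aF.IsPrime := Groth.Agent.RGFlat.fiberIdeal_isPrime p a
  have hcomap : aF.comap inc = a := Groth.Agent.FlatMisc.Fiber.comap_fiberIdeal p a
  have hsF : inc s ∉ aF := fun h0 => hs (by
    have : s ∈ aF.comap inc := h0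
    rwa [hcomap] at this)
  haveI : IsJacobsonRing (p.Fiber R) := isJacobsonRing_of_finiteType (A := p.ResidueField)
  obtain ⟨M, hle, hM, hsM⟩ : ∃ M : Ideal (p.Fiber R), aF ≤ M ∧ M.IsMaximal ∧ inc s ∉ M := by
    by_contra hc
    push Not at hc
    have hj : inc s ∈ aF.jacobson := by
      rw [Ideal.jacobson, Submodule.mem_sInf]
      exact fun M hM => hc M hM.1 hM.2
    rw [IsJacobsonRing.out' _ (Ideal.IsPrime.isRadical ‹_›)] at hj
    exact hsF hj
  let q := (PrimeSpectrum.primesOverOrderIsoFiber A R p).symm ⟨M, hM.isPrime⟩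
  haveI : (q : Ideal R).IsPrime := q.2.1
  haveI : (q : Ideal R).LiesOver p := q.2.2
  have hq : (q : Ideal R) = M.comap inc := rfl
  refine ⟨R, BR, NR, inferInstance, inferInstance, inferInstance, inferInstance, inferInstance, inferInstance,
    inferInstance, inferInstance, inferInstance, inferInstance, inferInstance, inferInstance, inferInstance,
    inferInstance, g, t'.comap (algebraMap R A₁), q, Ideal.comap_isPrime _ _, inferInstance, PR, inferInstance,
    hI q (show a ≤ (q : Ideal R) by rw [hq, ← hcomap]; exact Ideal.comap_mono hle) (fun h0 => hsM (by rw [hq] at h0; exact h0)) inferInstance,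
    inferInstance, ?_⟩
  suffices h : FlatCA.fiberIdeal p (q : Ideal R) = M by rw [h]; exact hM
  refine le_antisymm (Ideal.map_le_iff_le_comap.mpr hq.le) fun b hb => ?_
  obtain ⟨c, hc, z, hcz⟩ := Ideal.Fiber.exists_smul_eq_one_tmul p b
  have hz : z ∈ (q : Ideal R) := by
    rw [hq, Ideal.mem_comap]
    show (TensorProduct.tmul A (1 : p.ResidueField) z) ∈ M
    rw [← hcz]
    have := M.mul_mem_left (algebraMap A (p.Fiber R) c) hb
    rwa [← Algebra.smul_def] at this
  have h1 : (TensorProduct.tmul A (1 : p.ResidueField) z) ∈ FlatCA.fiberIdeal p (q : Ideal R) :=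
    Ideal.mem_map_of_mem _ hz
  rw [← hcz] at h1
  replace h1 : algebraMap A (p.Fiber R) c * b ∈ FlatCA.fiberIdeal p (q : Ideal R) := by rwa [← Algebra.smul_def]
  rw [IsScalarTower.algebraMap_apply A p.ResidueField (p.Fiber R)] at h1
  refine (Ideal.unit_mul_mem_iff_mem _ (IsUnit.map _ ?_)).mp h1
  rw [isUnit_iff_ne_zero, Ne, Ideal.algebraMap_residueField_eq_zero]
  exact hc

end Groth.Agent.S1245
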