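import Groth.Statements.S12452
import Groth.Agent.ShSpLib.Basis

set_option autoImplicit false
universe u
open CategoryTheory TopologicalSpace Opposite
open ShSp

namespace Groth.Agent.S12452

/-- For sheaves of sets, let f : X → Y be a continuous map, F a sheaf of sets on X, G a sheaf of sets on
Y, and B_X, B_Y bases for the topologies of X and Y. Suppose given, for every V in B_Y and U in B_X
with U ⊆ f⁻¹V, a map φ_V^U : G(V) → F(U), compatibly with restrictions. Then there is exactly one
morphism of sheaves ψ : G → f_*F (an f-map G → F) such that G(V) → F(f⁻¹V) → F(U) equals φ_V^U for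
every such pair. -/
theorem result {X Y : TopCat.{u}} (f : X ⟶ Y) (F : X.Sheaf (Type u)) (G : Y.Sheaf (Type u))
    {BX : Set (Opens X)} (hBX : Opens.IsBasis BX) {BY : Set (Opens Y)} (hBY : Opens.IsBasis BY)
    (φ : ∀ (V : BY) (U : BX), (U : Opens X) ≤ (Opens.map f).obj V →
      (G.presheaf.obj (op (V : Opens Y)) → F.presheaf.obj (op (U : Opens X))))
    (hφ : ∀ (V V' : BY) (U U' : BX) (hUV : (U : Opens X) ≤ (Opens.map f).obj V)
      (hU'V' : (U' : Opens X) ≤ (Opens.map f).obj V') (hV : (V' : Opens Y) ≤ V) (hU : (U' : Opens X) ≤ U)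
      (s : G.presheaf.obj (op (V : Opens Y))),
      F.presheaf.map (homOfLE hU).op (φ V U hUV s) = φ V' U' hU'V' (G.presheaf.map (homOfLE hV).op s)) :
    ∃! ψ : G ⟶ (TopCat.Sheaf.pushforward (Type u) f).obj F,
      ∀ (V : BY) (U : BX) (hUV : (U : Opens X) ≤ (Opens.map f).obj V) (s : G.presheaf.obj (op (V : Opens Y))),
        F.presheaf.map (homOfLE hUV).op (ψ.1.app (op (V : Opens Y)) s) = φ V U hUV s := by
  have sep : ∀ (O : Opens X) (s t : F.obj.obj (op O)),
      (∀ (U : BX) (h : (U : Opens X) ≤ O), F.presheaf.map (homOfLE h).op s =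
        F.presheaf.map (homOfLE h).op t) → s = t := fun O s t hst =>
    F.eq_of_locally_eq' (fun U : {U : BX // (U : Opens X) ≤ O} => (U.1 : Opens X)) O
      (fun U => homOfLE U.2) (ShSpLib.le_iSup_members hBX O) s t (fun U => hst U.1 U.2)
  have hglue : ∀ (V : BY) (s : G.presheaf.obj (op (V : Opens Y))),
      ∃ t : F.obj.obj (op ((Opens.map f).obj V)), ∀ (U : BX) (h : (U : Opens X) ≤ (Opens.map f).obj V),
        F.presheaf.map (homOfLE h).op t = φ V U h s := by
    intro V s
    obtain ⟨t, ht, -⟩ := F.existsUnique_gluing'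
      (fun U : {U : BX // (U : Opens X) ≤ (Opens.map f).obj V} => (U.1 : Opens X))
      ((Opens.map f).obj V) (fun U => homOfLE U.2) (ShSpLib.le_iSup_members hBX _)
      (fun U => φ V U.1 U.2 s) (fun a b => sep _ _ _ fun W hW => by
        rw [← Functor.map_comp_apply, ← Functor.map_comp_apply]
        exact (hφ V V a.1 W a.2 (hW.trans (inf_le_left.trans a.2)) le_rfl (hW.trans inf_le_left) s).trans
          (hφ V V b.1 W b.2 _ le_rfl (hW.trans inf_le_right) s).symm)
    exact ⟨t, fun U h => ht ⟨U, h⟩⟩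
  choose app happ using hglue
  obtain ⟨ψ, hψ, huniq⟩ := ShSpLib.existsUnique_hom_of_basis hBY G.presheaf
    ((TopCat.Sheaf.pushforward (Type u) f).obj F) app (fun V V' h s => sep _ _ _ fun U hU => by
      rw [happ]
      refine (Functor.map_comp_apply F.presheaf _ _ _).symm.trans ?_
      refine (happ V s U (hU.trans ((Opens.map f).map (homOfLE h)).le)).trans ?_
      exact (F.presheaf.map_id_apply _ _).symm.trans
        (hφ V V' U U (hU.trans ((Opens.map f).map (homOfLE h)).le) hU h le_rfl s))
  refine ⟨⟨ψ⟩, fun V U h s => ?_, fun ψ' hψ' => ?_⟩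
  · exact (congrArg _ (hψ V s)).trans (happ V s U h)
  · apply ObjectProperty.hom_ext
    exact huniq ψ'.1 fun V s => sep _ _ _ fun U h => (hψ' V U h s).trans (happ V s U h).symm

end Groth.Agent.S12452
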