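import Groth.Statements.S12456
import Groth.Agent.Omega.Thick

set_option autoImplicit false
universe u
open CategoryTheory AlgebraicGeometry
open OmegaSh

namespace Groth.Agent.S12456

open AlgebraicGeometry CategoryTheory Limits TopologicalSpace in
theorem isFOT_inclusion {Y : Scheme.{u}} (I : Y.IdealSheafData) (h : I ^ 2 ≤ I) :
    MoreMor.IsFirstOrderThickening (Scheme.IdealSheafData.inclusion h) := by
  have hcl : IsClosedImmersion (Scheme.IdealSheafData.inclusion h) := by
    have : IsClosedImmersion (Scheme.IdealSheafData.inclusion h ≫ (I ^ 2).subschemeι) := by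
      rw [Scheme.IdealSheafData.inclusion_subschemeι]; infer_instance
    exact IsClosedImmersion.of_comp _ (I ^ 2).subschemeι
  refine ⟨⟨hcl, ⟨fun p => ?_⟩⟩, ?_⟩
  · have hp : (I ^ 2).subschemeι p ∈ Set.range I.subschemeι := by
      rw [Scheme.IdealSheafData.range_subschemeι]
      have := Set.mem_range_self (f := (I ^ 2).subschemeι) p
      rwa [Scheme.IdealSheafData.range_subschemeι, Scheme.IdealSheafData.support_pow_succ] at this
    obtain ⟨q, hq⟩ := hp
    refine ⟨q, (I ^ 2).subschemeι.isClosedEmbedding.injective ?_⟩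
    rw [← Scheme.Hom.comp_apply, Scheme.IdealSheafData.inclusion_subschemeι]
    exact hq
  · refine Scheme.IdealSheafData.ext_of_iSup_eq_top
      (fun W : Y.affineOpens => ⟨(I ^ 2).subschemeι ⁻¹ᵁ W.1, W.2.preimage _⟩) ?_ fun W => ?_
    · refine top_le_iff.mp fun p _ => ?_
      obtain ⟨_, ⟨W, hW, rfl⟩, hp, -⟩ :=
        Y.isBasis_affineOpens.exists_subset_of_mem_open (Set.mem_univ ((I ^ 2).subschemeι p)) isOpen_univ
      exact Opens.mem_iSup.mpr ⟨⟨W, hW⟩, hp⟩
    simp only [Scheme.IdealSheafData.ideal_mul, Pi.mul_apply, Scheme.IdealSheafData.ideal_bot,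
      Pi.bot_apply, Scheme.Hom.ker_apply]
    rw [eq_bot_iff, Ideal.mul_le]
    intro x hx y hy
    obtain ⟨a, rfl⟩ := (I ^ 2).subschemeι_app_surjective W x
    obtain ⟨b, rfl⟩ := (I ^ 2).subschemeι_app_surjective W y
    have hker : ∀ c, (Scheme.IdealSheafData.inclusion h).app ((I ^ 2).subschemeι ⁻¹ᵁ W.1)
        ((I ^ 2).subschemeι.app W.1 c) = 0 → c ∈ I.ideal W := by
      intro c hc
      rw [← I.ker_subschemeι_app W, RingHom.mem_ker]
      rw [← ConcreteCategory.comp_apply, ← Scheme.Hom.comp_app] at hc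
      rw [Scheme.Hom.congr_app (Scheme.IdealSheafData.inclusion_subschemeι h)] at hc
      exact (map_eq_zero_iff _ (ConcreteCategory.bijective_of_isIso
        (I.subscheme.presheaf.map _)).1).mp hc
    rw [Ideal.mem_bot, ← map_mul, ← RingHom.mem_ker, (I ^ 2).ker_subschemeι_app W,
      Scheme.IdealSheafData.ideal_pow, Pi.pow_apply, pow_two]
    exact Ideal.mul_mem_mul (hker a hx) (hker b hy)

open AlgebraicGeometry CategoryTheory Limits TopologicalSpace in
/-- Let i : Z → X be an immersion, written as the closed subscheme of an open U ⊆ X cut out by an ideal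
sheaf I followed by the inclusion of U. Then the first order infinitesimal neighbourhood of Z in X —
the closed subscheme of U cut out by I² — together with Z ⊂ V(I²) and V(I²) → U → X is a universal
first order thickening of Z over X. (The inequality I² ≤ I is carried as an argument h; it always
holds.) -/
theorem result {X : Scheme.{u}} (U : X.Opens) (I : (U : Scheme.{u}).IdealSheafData)
    (h : I ^ 2 ≤ I) :
    OmegaSh.IsUnivThickening (I.subschemeι ≫ U.ι) (Scheme.IdealSheafData.inclusion h)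
      ((I ^ 2).subschemeι ≫ U.ι) := by
  refine ⟨isFOT_inclusion I h, ?_, fun T T' t b a ht hcomm => ?_⟩
  · rw [← Category.assoc, Scheme.IdealSheafData.inclusion_subschemeι]
  obtain ⟨⟨hcl, hsurj⟩, hk⟩ := ht
  have hr : Set.range b ⊆ Set.range U.ι := by
    rintro _ ⟨p, rfl⟩
    obtain ⟨q, rfl⟩ := hsurj.surj p
    rw [← Scheme.Hom.comp_apply, hcomm]
    exact ⟨(a ≫ I.subschemeι) q, by simp⟩
  let b₀ := IsOpenImmersion.lift U.ι b hr
  have hb₀ : t ≫ b₀ = a ≫ I.subschemeι := by
    rw [← cancel_mono U.ι, Category.assoc, IsOpenImmersion.lift_fac, hcomm, Category.assoc]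
  have hle : (I ^ 2) ≤ b₀.ker := by
    refine Scheme.IdealSheafData.le_ofIdeals_iff.mpr fun W => ?_
    rw [Scheme.IdealSheafData.ideal_pow, Pi.pow_apply, pow_two, Ideal.mul_le]
    intro x hx y hy
    rw [RingHom.mem_ker, map_mul]
    refine TopCat.Sheaf.eq_of_locally_eq' T'.sheaf
      (fun p : ↥(b₀ ⁻¹ᵁ W.1) => (T'.isBasis_affineOpens.exists_subset_of_mem_open p.2
        (b₀ ⁻¹ᵁ W.1).isOpen).choose_spec.1.choose)
      (b₀ ⁻¹ᵁ W.1) (fun p => homOfLE ?_) ?_ _ _ fun p => ?_
    · intro z hz
      have hs := (T'.isBasis_affineOpens.exists_subset_of_mem_open p.2 (b₀ ⁻¹ᵁ W.1).isOpen).choose_spec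
      exact hs.2.2 (by rw [← hs.1.choose_spec.2]; exact hz)
    · intro z hz
      refine Opens.mem_iSup.mpr ⟨⟨z, hz⟩, ?_⟩
      have hs := (T'.isBasis_affineOpens.exists_subset_of_mem_open hz (b₀ ⁻¹ᵁ W.1).isOpen).choose_spec
      have h1 := hs.2.1
      rw [← hs.1.choose_spec.2] at h1
      exact h1
    · obtain ⟨Q, hQ, hQle, hQeq⟩ : ∃ (Q : T'.Opens) (_ : IsAffineOpen Q) (_ : Q ≤ b₀ ⁻¹ᵁ W.1),
          Q = (T'.isBasis_affineOpens.exists_subset_of_mem_open p.2
            (b₀ ⁻¹ᵁ W.1).isOpen).choose_spec.1.choose :=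
        ⟨_, (T'.isBasis_affineOpens.exists_subset_of_mem_open p.2
            (b₀ ⁻¹ᵁ W.1).isOpen).choose_spec.1.choose_spec.1, by
          intro z hz
          have hs := (T'.isBasis_affineOpens.exists_subset_of_mem_open p.2
            (b₀ ⁻¹ᵁ W.1).isOpen).choose_spec
          exact hs.2.2 (by rw [← hs.1.choose_spec.2]; exact hz), rfl⟩
      subst hQeq
      have hmem : ∀ c ∈ I.ideal W, b₀.appLE W.1 _ hQle c ∈ RingHom.ker (t.app _).hom := by
        intro c hc
        have hc' : I.subschemeι.app W.1 c = 0 := by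
          rw [← RingHom.mem_ker, I.ker_subschemeι_app W]; exact hc
        rw [RingHom.mem_ker, Scheme.Hom.app_eq_appLE, ← ConcreteCategory.comp_apply,
          Scheme.Hom.appLE_comp_appLE]
        simp only [hb₀]
        rw [Scheme.Hom.comp_appLE, ConcreteCategory.comp_apply, hc', map_zero]
      have := Ideal.mul_mem_mul (hmem x hx) (hmem y hy)
      rw [← pow_two, Groth.Agent.Omega.Thick.ker_app_sq t hk hQ, Ideal.mem_bot] at this
      refine Eq.trans ?_ (map_zero _).symm
      exact (map_mul (T'.presheaf.map (homOfLE hQle).op).hom _ _).trans this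
  refine ⟨IsClosedImmersion.lift (I ^ 2).subschemeι b₀ (by rwa [Scheme.IdealSheafData.ker_subschemeι]),
    ⟨?_, ?_⟩, fun m hm => ?_⟩
  · rw [← cancel_mono (I ^ 2).subschemeι, Category.assoc, IsClosedImmersion.lift_fac, Category.assoc,
      Scheme.IdealSheafData.inclusion_subschemeι, hb₀]
  · rw [← Category.assoc, IsClosedImmersion.lift_fac, IsOpenImmersion.lift_fac]
  · rw [← cancel_mono ((I ^ 2).subschemeι ≫ U.ι), hm.2, ← Category.assoc, IsClosedImmersion.lift_fac,
      IsOpenImmersion.lift_fac]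

end Groth.Agent.S12456
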