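import Groth.Statements.S12459
import Groth.Agent.PtTop.Catenary
import Mathlib.RingTheory.MvPolynomial.Localization
-- import your own Groth.Agent.* helpers here

set_option autoImplicit false
universe u
open CategoryTheory AlgebraicGeometry
open Props

namespace Groth.Agent.S12459

open Groth.Agent.PtTop Topology

/-- For a locally Noetherian scheme S, the scheme S is universally catenary — every scheme X locally of
finite type over S has catenary underlying topological space — if and only if all local rings
O_{S,s} are universally catenary rings. (Schemes X over S are taken in the universe of S.) -/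
theorem result (S : Scheme.{u}) [IsLocallyNoetherian S] :
    (∀ (X : Scheme.{u}) (f : X ⟶ S), LocallyOfFiniteType f → PtTop.IsCatenarySpace X) ↔
      ∀ s : S, CAlg.IsUniversallyCatenary (S.presheaf.stalk s) := by
  simp only [Catenary.isCatenarySpace_iff]
  constructor
  · intro h s
    refine ⟨inferInstance, fun B _ _ hB => ?_⟩
    obtain ⟨_, ⟨U, hU, rfl⟩, hsU, -⟩ :=
      S.isBasis_affineOpens.exists_subset_of_mem_open (Set.mem_univ s) isOpen_univ
    letI := TopCat.Presheaf.algebra_section_stalk S.presheaf ⟨s, hsU⟩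
    have := hU.isLocalization_stalk ⟨s, hsU⟩
    obtain ⟨n, φ, hφ⟩ := Algebra.FiniteType.iff_quotient_mvPolynomial''.mp hB
    refine Catenary.isCatenary_of_surjective φ.toRingHom hφ ?_
    letI := MvPolynomial.algebraMvPolynomial (σ := Fin n) (R := Γ(S, U)) (S := S.presheaf.stalk s)
    refine Catenary.isCatenary_of_isLocalization
      ((hU.primeIdealOf ⟨s, hsU⟩).asIdeal.primeCompl.map (MvPolynomial.C (σ := Fin n)))
      (MvPolynomial (Fin n) (S.presheaf.stalk s)) ?_
    let P : CommRingCat := .of (MvPolynomial (Fin n) Γ(S, U))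
    have hf : LocallyOfFiniteType
        (Spec.map (CommRingCat.ofHom (MvPolynomial.C : _ →+* MvPolynomial (Fin n) Γ(S, U))) ≫
          hU.fromSpec) := by
      have : LocallyOfFiniteType
          (Spec.map (CommRingCat.ofHom (MvPolynomial.C : _ →+* MvPolynomial (Fin n) Γ(S, U)))) := by
        rw [HasRingHomProperty.Spec_iff (P := @LocallyOfFiniteType)]
        exact (RingHom.finiteType_algebraMap (A := Γ(S, U))
          (B := MvPolynomial (Fin n) Γ(S, U))).mpr inferInstance
      haveI : IsOpenImmersion hU.fromSpec := IsAffineOpen.isOpenImmersion_fromSpec hU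
      infer_instance
    exact (Catenary.cat_primeSpectrum _).mp (h (Spec P) _ hf)
  · intro h X f hf
    have hU : ∀ x : X, ∃ (U : X.Opens) (V : S.Opens) (_ : IsAffineOpen U) (_ : IsAffineOpen V),
        x ∈ U ∧ U ≤ f ⁻¹ᵁ V := by
      intro x
      obtain ⟨_, ⟨V, hV, rfl⟩, hxV, -⟩ :=
        S.isBasis_affineOpens.exists_subset_of_mem_open (Set.mem_univ (f x)) isOpen_univ
      obtain ⟨_, ⟨U, hU, rfl⟩, hxU, hUV⟩ :=
        X.isBasis_affineOpens.exists_subset_of_mem_open (show x ∈ f ⁻¹ᵁ V from hxV)
          (f ⁻¹ᵁ V).2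
      exact ⟨U, V, hU, hV, hxU, hUV⟩
    choose U V hUa hVa hxU hUV using hU
    refine Catenary.cat_of_openEmbeddings (S := fun x => PrimeSpectrum Γ(X, U x))
      (fun x => (hUa x).fromSpec) (fun x => (IsAffineOpen.isOpenImmersion_fromSpec (hUa x)).base_open)
      (fun x => ⟨x, (Set.ext_iff.mp (hUa x).range_fromSpec x).mpr (hxU x)⟩)
      ?_
    intro x
    refine (Catenary.cat_primeSpectrum _).mpr ?_
    have hft : RingHom.FiniteType (f.appLE (V x) (U x) (hUV x)).hom :=
      f.finiteType_appLE (hVa x) (hUa x) (hUV x)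
    letI := (f.appLE (V x) (U x) (hUV x)).hom.toAlgebra
    obtain ⟨n, φ, hφ⟩ := Algebra.FiniteType.iff_quotient_mvPolynomial''.mp
      (show Algebra.FiniteType Γ(S, V x) Γ(X, U x) from hft)
    refine Catenary.isCatenary_of_surjective φ.toRingHom hφ ?_
    refine Catenary.cat_of_cover fun p q hpq => ?_
    let m : PrimeSpectrum Γ(S, V x) :=
      PrimeSpectrum.comap (MvPolynomial.C (σ := Fin n)) q
    have hy : (hVa x).fromSpec m ∈ V x := by
      have : (hVa x).fromSpec m ∈ Set.range (hVa x).fromSpec := ⟨m, rfl⟩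
      exact (Set.ext_iff.mp (hVa x).range_fromSpec _).mp this
    letI := TopCat.Presheaf.algebra_section_stalk S.presheaf ⟨(hVa x).fromSpec m, hy⟩
    haveI : IsLocalization.AtPrime (S.presheaf.stalk ((hVa x).fromSpec m)) m.asIdeal :=
      (hVa x).isLocalization_stalk' m hy
    letI := MvPolynomial.algebraMvPolynomial (σ := Fin n) (R := Γ(S, V x))
      (S := S.presheaf.stalk ((hVa x).fromSpec m))
    refine ⟨_, inferInstance, Catenary.locEmb (m.asIdeal.primeCompl.map (MvPolynomial.C (σ := Fin n)))
      (MvPolynomial (Fin n) (S.presheaf.stalk ((hVa x).fromSpec m))),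
      Catenary.ordConnected_range_locEmb _ _, ?_, ?_,
      (h ((hVa x).fromSpec m)).2 _ inferInstance⟩
    all_goals
      rw [Catenary.range_locEmb]
      refine Set.disjoint_left.mpr ?_
      rintro _ ⟨a, ha, rfl⟩ hap
    · exact ha (hpq hap)
    · exact ha hap

end Groth.Agent.S12459
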