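import Groth.Statements.S12460
import Mathlib.RingTheory.RegularLocalRing.Defs
import Mathlib.AlgebraicGeometry.Morphisms.FiniteType
-- import your own Groth.Agent.* helpers here

set_option autoImplicit false
universe u
open CategoryTheory AlgebraicGeometry
open Props

namespace Groth.Agent.S12460

/-- (1) ⇔ (3) ⇔ (4): let X be a locally Noetherian scheme. Then X is J-2 — for every morphism Y → X
locally of finite type the set of points y with O_{Y,y} a regular local ring is open in Y — if and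
only if for every affine open U of X the ring Γ(X, U) is J-2 (every finite type algebra over it has
open regular locus), if and only if every point of X lies in such an affine open. (Schemes Y over X
are taken in the universe of X.) -/
theorem result (X : Scheme.{u}) [IsLocallyNoetherian X] :
    ((∀ (Y : Scheme.{u}) (g : Y ⟶ X), LocallyOfFiniteType g →
        IsOpen {y : Y | IsRegularLocalRing (Y.presheaf.stalk y)}) ↔
      ∀ U : X.affineOpens, EGA4.IsJ2 Γ(X, U)) ∧
    ((∀ (Y : Scheme.{u}) (g : Y ⟶ X), LocallyOfFiniteType g →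
        IsOpen {y : Y | IsRegularLocalRing (Y.presheaf.stalk y)}) ↔
      ∀ x : X, ∃ U : X.affineOpens, x ∈ (U : X.Opens) ∧ EGA4.IsJ2 Γ(X, U)) := by
  have hreg : ∀ {Y : Scheme.{u}} {V : Y.Opens} (hV : IsAffineOpen V) (q : PrimeSpectrum Γ(Y, V)),
      IsRegularLocalRing (Y.presheaf.stalk (hV.fromSpec q)) ↔ q ∈ EGA4.regLocus Γ(Y, V) := by
    intro Y V hV q
    have hy : hV.fromSpec q ∈ V := (Set.ext_iff.mp hV.range_fromSpec _).mp ⟨q, rfl⟩
    letI := TopCat.Presheaf.algebra_section_stalk Y.presheaf ⟨hV.fromSpec q, hy⟩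
    haveI : IsLocalization.AtPrime (Y.presheaf.stalk (hV.fromSpec q)) q.asIdeal :=
      hV.isLocalization_stalk' q hy
    let e := (IsLocalization.algEquiv q.asIdeal.primeCompl (Localization.AtPrime q.asIdeal)
      (Y.presheaf.stalk (hV.fromSpec q))).toRingEquiv
    exact ⟨fun h => @IsRegularLocalRing.of_ringEquiv _ _ h _ _ e.symm,
      fun h => @IsRegularLocalRing.of_ringEquiv _ _ h _ _ e⟩
  have h1 : (∀ (Y : Scheme.{u}) (g : Y ⟶ X), LocallyOfFiniteType g →
      IsOpen {y : Y | IsRegularLocalRing (Y.presheaf.stalk y)}) →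
      ∀ U : X.affineOpens, EGA4.IsJ2 Γ(X, U) := by
    intro h U S _ _ hS
    let φ : Γ(X, U) ⟶ CommRingCat.of S := CommRingCat.ofHom (algebraMap Γ(X, U) S)
    haveI : IsOpenImmersion U.2.fromSpec := IsAffineOpen.isOpenImmersion_fromSpec U.2
    haveI : LocallyOfFiniteType (Spec.map φ) := by
      rw [HasRingHomProperty.Spec_iff (P := @LocallyOfFiniteType)]
      exact (RingHom.finiteType_algebraMap (A := Γ(X, U)) (B := S)).mpr hS
    have ho := h (Spec (CommRingCat.of S)) (Spec.map φ ≫ U.2.fromSpec) inferInstance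
    convert! ho using 1
    ext q
    let e := (StructureSheaf.stalkIso S q).toRingEquiv
    exact ⟨fun h => @IsRegularLocalRing.of_ringEquiv _ _ h _ _ e,
      fun h => @IsRegularLocalRing.of_ringEquiv _ _ h _ _ e.symm⟩
  have h2 : (∀ x : X, ∃ U : X.affineOpens, x ∈ (U : X.Opens) ∧ EGA4.IsJ2 Γ(X, U)) →
      ∀ (Y : Scheme.{u}) (g : Y ⟶ X), LocallyOfFiniteType g →
        IsOpen {y : Y | IsRegularLocalRing (Y.presheaf.stalk y)} := by
    intro h Y g hg
    rw [isOpen_iff_forall_mem_open]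
    intro y hy
    obtain ⟨U, hyU, hU⟩ := h (g y)
    obtain ⟨_, ⟨V, hV, rfl⟩, hyV, hVU⟩ := Y.isBasis_affineOpens.exists_subset_of_mem_open
      (show y ∈ g ⁻¹ᵁ (U : X.Opens) from hyU) (g ⁻¹ᵁ (U : X.Opens)).2
    have hle : V ≤ g ⁻¹ᵁ (U : X.Opens) := hVU
    letI := (g.appLE (U : X.Opens) V hle).hom.toAlgebra
    have hopen : IsOpen (EGA4.regLocus Γ(Y, V)) :=
      hU Γ(Y, V) (show Algebra.FiniteType Γ(X, U) Γ(Y, V) from g.finiteType_appLE U.2 hV hle)
    have he := (IsAffineOpen.isOpenImmersion_fromSpec hV).base_open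
    refine ⟨hV.fromSpec '' EGA4.regLocus Γ(Y, V), ?_, he.isOpenMap _ hopen, ?_⟩
    · rintro _ ⟨q, hq, rfl⟩
      exact (hreg hV q).mpr hq
    · obtain ⟨q, rfl⟩ := (Set.ext_iff.mp hV.range_fromSpec y).mpr hyV
      exact ⟨q, (hreg hV q).mp hy, rfl⟩
  have h3 : (∀ U : X.affineOpens, EGA4.IsJ2 Γ(X, U)) →
      ∀ x : X, ∃ U : X.affineOpens, x ∈ (U : X.Opens) ∧ EGA4.IsJ2 Γ(X, U) := by
    intro h x
    obtain ⟨_, ⟨V, hV, rfl⟩, hxV, -⟩ :=
      X.isBasis_affineOpens.exists_subset_of_mem_open (Set.mem_univ x) isOpen_univ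
    exact ⟨⟨V, hV⟩, hxV, h _⟩
  exact ⟨⟨h1, fun h => h2 (h3 h)⟩, ⟨fun h => h3 (h1 h), h2⟩⟩

end Groth.Agent.S12460
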