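import Groth.Statements.S12462
import Groth.Agent.SpecTop.Limit
import Mathlib.Data.Finite.Prod
import Mathlib.Order.Directed

set_option autoImplicit false
universe u
open CategoryTheory CategoryTheory.Limits
open SpecSp

namespace Groth.Agent.S12462

/-- A spectral space is a directed inverse limit of finite sober topological spaces. Precisely: for X
spectral there exist a nonempty directed preordered index set J, a functor from the opposite of J to
topological spaces whose values are finite sober (T0, every irreducible closed subset has a generic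
point) spaces, and a limit cone of it whose vertex is isomorphic to X. -/
theorem result (X : Type u) [TopologicalSpace X] [SpectralSpace X] :
    ∃ (J : Type u) (_ : Preorder J) (_ : Nonempty J) (_ : IsDirected J (· ≤ ·)) (F : Jᵒᵖ ⥤ TopCat.{u})
      (c : Cone F), Nonempty (IsLimit c) ∧
        (∀ j : Jᵒᵖ, Finite (F.obj j) ∧ T0Space (F.obj j) ∧ QuasiSober (F.obj j)) ∧
        Nonempty (c.pt ≅ TopCat.of X) := by
  classical
  let I := {U : Set X // IsOpen U ∧ IsCompact U}
  let J := Finset I
  let ev : ∀ s : J, X → ({U : I // U ∈ s} → Prop) := fun s x U => x ∈ U.1.1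
  let F : Jᵒᵖ ⥤ TopCat.{u} :=
    { obj := fun s => TopCat.of ↥(Set.range (ev s.unop))
      map := fun {s t} f => TopCat.ofHom
        ⟨fun g => ⟨fun U => g.1 ⟨U.1, leOfHom f.unop U.2⟩, by
            obtain ⟨x, hx⟩ := g.2
            exact ⟨x, funext fun U => congrFun hx ⟨U.1, leOfHom f.unop U.2⟩⟩⟩,
          Continuous.subtype_mk (continuous_pi fun U : {U : I // U ∈ t.unop} =>
            (continuous_apply (A := fun _ : {U : I // U ∈ s.unop} => Prop)
              ⟨U.1, leOfHom f.unop U.2⟩).comp continuous_subtype_val) (fun g => by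
            obtain ⟨x, hx⟩ := g.2
            exact ⟨x, funext fun U => congrFun hx ⟨U.1, leOfHom f.unop U.2⟩⟩)⟩
      map_id := fun s => rfl
      map_comp := fun f g => rfl }
  have hev : ∀ s, Continuous (ev s) := fun s => continuous_pi fun U =>
    isOpen_iff_continuous_mem.1 U.1.2.1
  let c : Cone F :=
    { pt := TopCat.of X
      π :=
        { app := fun s => TopCat.ofHom ⟨fun x => ⟨ev s.unop x, x, rfl⟩,
            (hev s.unop).subtype_mk _⟩
          naturality := fun s t f => rfl } }
  have hlift : ∀ t : Cone F, ∀ z : t.pt, ∃ x : X, ∀ (U : I),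
      (x ∈ U.1 ↔ (t.π.app (Opposite.op ({U} : Finset I)) z).1 ⟨U, Finset.mem_singleton_self U⟩) := by
    intro t z
    let v : I → Prop := fun U => (t.π.app (Opposite.op ({U} : Finset I)) z).1 ⟨U, Finset.mem_singleton_self U⟩
    let K : I → Set X := fun U => {x | x ∈ U.1 ↔ v U}
    have hK : ∀ U, @IsClosed X (constructibleTopology X) (K U) := fun U => by
      by_cases hv : v U
      · simpa [K, hv] using SpecTop.isClosed_cons_of_compactOpen U.2.1 U.2.2
      · have : K U = U.1ᶜ := by ext x; simp [K, hv]
        rw [this]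
        exact @IsOpen.isClosed_compl X (constructibleTopology X) _
          (SpecTop.isOpen_cons_of_compactOpen U.2.1 U.2.2)
    obtain ⟨x, -, hx⟩ := @IsCompact.inter_iInter_nonempty X (constructibleTopology X) Set.univ I
      (@isCompact_univ X (constructibleTopology X) (SpecTop.compactSpace_cons X)) K hK fun s => by
      obtain ⟨x, hx⟩ := (t.π.app (Opposite.op s) z).2
      refine ⟨x, trivial, Set.mem_iInter₂.2 fun U hU => ?_⟩
      have hle : ({U} : Finset I) ≤ s := Finset.singleton_subset_iff.2 hU
      have hw := ConcreteCategory.congr_hom (t.w (homOfLE hle).op) z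
      have h1 : (x ∈ U.1) = (t.π.app (Opposite.op s) z).1 ⟨U, hU⟩ := congrFun hx ⟨U, hU⟩
      show x ∈ U.1 ↔ v U
      rw [h1]
      show _ ↔ (t.π.app (Opposite.op ({U} : Finset I)) z).1 ⟨U, Finset.mem_singleton_self U⟩
      rw [← hw]
      rfl
    exact ⟨x, fun U => Set.mem_iInter.1 hx U⟩
  choose L hL using hlift
  have hcont : ∀ t : Cone F, Continuous (L t) := fun t => by
    rw [PrespectralSpace.isTopologicalBasis.continuous_iff]
    intro U hU
    have : L t ⁻¹' U = {z | (t.π.app (Opposite.op ({⟨U, hU⟩} : Finset I)) z).1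
        ⟨⟨U, hU⟩, Finset.mem_singleton_self _⟩} := Set.ext fun z => hL t z ⟨U, hU⟩
    rw [this]
    exact isOpen_iff_continuous_mem.2 ((continuous_apply _).comp
      (continuous_subtype_val.comp (t.π.app _).hom.continuous))
  refine ⟨J, inferInstance, inferInstance, inferInstance, F, c, ⟨?_⟩, fun j => ?_, ⟨Iso.refl _⟩⟩
  · refine
      { lift := fun t => TopCat.ofHom ⟨L t, hcont t⟩
        fac := fun t s => ?_
        uniq := fun t m hm => ?_ }
    · ext z U
      have hle : ({U.1} : Finset I) ≤ s.unop := Finset.singleton_subset_iff.2 U.2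
      have hw := ConcreteCategory.congr_hom (t.w (homOfLE hle).op) z
      show (L t z ∈ U.1.1) ↔ (t.π.app s z).1 U
      rw [hL t z U.1, ← hw]
      rfl
    · ext z
      by_contra hne
      obtain ⟨U, hU, hUc, hsep⟩ := SpecTop.exists_compactOpen_sep (X := X) hne
      have h1 : (m z ∈ U) = (t.π.app (Opposite.op ({⟨U, hU, hUc⟩} : Finset I)) z).1
          ⟨⟨U, hU, hUc⟩, Finset.mem_singleton_self _⟩ := by
        rw [← hm]
        rfl
      have h2 : (L t z ∈ U) ↔ (m z ∈ U) := by rw [h1]; exact hL t z ⟨U, hU, hUc⟩
      exact hsep.elim (fun h => h.2 (h2.2 h.1)) (fun h => h.2 (h2.1 h.1))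
  · haveI hfin : Finite (F.obj j) := by
      show Finite ↥(Set.range (ev j.unop))
      infer_instance
    haveI : T0Space Prop := ⟨fun a b hab => propext
      ((hab.mem_open_iff (s := {p : Prop | p}) (isOpen_iff_continuous_mem.2 continuous_id)))⟩
    haveI ht : T0Space (F.obj j) := inferInstanceAs (T0Space ↥(Set.range (ev j.unop)))
    exact ⟨hfin, ht, SpecTop.spectralSpace_of_finite.toQuasiSober⟩

end Groth.Agent.S12462
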