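import Groth.Statements.S12469
import Groth.Agent.ProjBundleLib.Tensor
import Groth.Agent.PicLaw.Basic
import Groth.Agent.QCoh.Pullback
-- import your own Groth.Agent.* helpers here

set_option autoImplicit false
universe u
open CategoryTheory CategoryTheory.Limits AlgebraicGeometry TopologicalSpace Opposite
open scoped HomogeneousIdeal
open EGA2

namespace Groth.Agent.S12469

/-- Let q : X → Y be a morphism of schemes, L an invertible O_X-module and K an invertible O_Y-module.
Then L is very ample relative to q (isomorphic to the inverse image of O(1) along a Y-immersion of X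
into the projective bundle P(E) of a quasi-coherent O_Y-module E) if and only if L ⊗ q^*K is. -/
theorem result {X Y : Scheme.{u}} (q : X ⟶ Y) (L : X.Modules)
    (hL : PicF.IsInvertible L) (K : Y.Modules) (hK : PicF.IsInvertible K) :
    RelProj.IsRelVeryAmple q L ↔
      RelProj.IsRelVeryAmple q (CohB1.tensorMod L ((Scheme.Modules.pullback q).obj K)) := by
  have hKq : K.IsQuasicoherent := ProjTwist.isQCoh_of_isInvertible hK
  have hqK := PicCl.isInvertible_pullback q hK
  refine ⟨fun h => ProjBundleLib.isRelVeryAmple_tensor h hL hqK (ProjBundleLib.gens_pullback hK), fun h => ?_⟩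
  obtain ⟨M, hM, ⟨e⟩⟩ := PicLaw.exists_inverse hK
  have hMq : M.IsQuasicoherent := ProjTwist.isQCoh_of_isInvertible hM
  have h' := ProjBundleLib.isRelVeryAmple_tensor h (AmpleLib.isInvertible_tensorMod hL hqK)
    (PicCl.isInvertible_pullback q hM) (ProjBundleLib.gens_pullback hM)
  exact ProjBundleLib.isRelVeryAmple_of_iso (ProjTwist.tensAssoc _ _ _ ≪≫
    ProjTwist.tensCongr (Iso.refl L)
      ((KFlat.PullTensor.pullTensorIso q K M).symm ≪≫ (Scheme.Modules.pullback q).mapIso e ≪≫
        QCoh.pullbackUnitIso q) ≪≫ ProjTwist.tensOne L) h' 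

end Groth.Agent.S12469
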