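import Groth.Statements.S1247
import Groth.Agent.RGFlat.ImpurityQF
import Groth.Agent.S1245

set_option autoImplicit false
universe u
open FlatMor

namespace Groth.Agent.S1247

open TensorProduct Groth.Agent.RGFlat.Impurity

attribute [local instance] Algebra.TensorProduct.rightAlgebra

/-- Over a local parameter domain on which `p` vanishes every module is projective, so there is no impurity
at the closed point. -/
theorem false_of_map_eq_bot {A B : Type u} [CommRing A] [CommRing B] [Algebra A B] [Algebra.FiniteType A B]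
    {N : Type u} [AddCommGroup N] [Module B N] [Module.Finite B N] {p : Ideal A} [p.IsPrime]
    {R BR NR : Type u} [CommRing R] [IsDomain R] [IsLocalRing R] [CommRing BR] [Algebra A R] [Algebra B BR]
    [Algebra R BR] [Algebra A BR] [IsScalarTower A B BR] [IsScalarTower A R BR] [AddCommGroup NR] [Module BR NR]
    [Module B NR] [IsScalarTower B BR NR] [Module R NR] [IsScalarTower R BR NR] {g : N →ₗ[B] NR}
    {P : Ideal BR} [P.IsPrime] [(⊥ : Ideal R).IsPrime]
    (h : FlatCA.IsImpurity A B N p R BR NR g ⊥ (IsLocalRing.maximalIdeal R) P)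
    (hbot : p.map (algebraMap A R) = ⊥) : False := by
  classical
  obtain ⟨hpush, hg, -, hover, hP, hass, hno⟩ := h
  haveI := hpush
  haveI := hP
  haveI : Algebra.IsPushout A R B BR := hpush.symm
  haveI : Algebra.FiniteType R BR :=
    Algebra.FiniteType.equiv (inferInstance : Algebra.FiniteType R (R ⊗[A] B)) (Algebra.IsPushout.equiv A R B BR)
  haveI : Module.Finite BR NR := Module.Finite.equiv hg.equiv
  letI : Module A N := Module.compHom N (algebraMap A B)
  haveI : IsScalarTower A B N := IsScalarTower.of_algebraMap_smul fun _ _ => rfl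
  let e₀ := Algebra.IsPushout.cancelBaseChange A R B BR N
  let e : NR ≃ₗ[R] R ⊗[A] N := (hg.equiv.symm.restrictScalars R).trans e₀
  let l : p.ResidueField →ₐ[A] R := Ideal.ResidueField.liftₐ p (Algebra.ofId A R)
    (fun a ha => RingHom.mem_ker.mpr ((Submodule.mem_bot _).mp (hbot ▸ Ideal.mem_map_of_mem (algebraMap A R) ha)))
    (fun a ha => IsLocalRing.notMem_maximalIdeal.mp fun hm => ha (hover.over.ge hm))
  letI : Algebra p.ResidueField R := l.toRingHom.toAlgebra
  haveI : IsScalarTower A p.ResidueField R := IsScalarTower.of_algebraMap_eq fun a => (l.commutes a).symm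
  haveI : Module.Projective R (R ⊗[A] N) :=
    Module.Projective.of_equiv (AlgebraTensorModule.cancelBaseChange A p.ResidueField R R N)
  haveI : Module.Projective R NR := Module.Projective.of_equiv e.symm
  haveI : IsNoetherianRing ((IsLocalRing.maximalIdeal R).Fiber BR) :=
    Groth.Agent.RGFlat.isNoetherianRing_fiber (S := BR) _
  haveI : Module.Finite ((IsLocalRing.maximalIdeal R).Fiber BR) (FlatCA.fiberMod (IsLocalRing.maximalIdeal R) BR NR) :=
    Groth.Agent.RGFlat.finite_fiberMod (S := BR) (N := NR) _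
  obtain ⟨n, hn⟩ := exists_elem (⊥ : Ideal R) P hass
  have hzero : ∀ w : NR, w ⊗ₜ[R] (1 : (⊥ : Ideal R).ResidueField) = 0 ↔ FlatCA.toFiberMod (⊥ : Ideal R) BR NR w = 0 := by
    refine fun w => ⟨fun hw => ?_, fun hw => ?_⟩
    · have h1 := congrArg (TensorProduct.comm R NR (⊥ : Ideal R).ResidueField) hw
      rw [map_zero, TensorProduct.comm_tmul] at h1
      exact (congrArg (spread (B₁ := BR) (N := NR) (⊥ : Ideal R).ResidueField) h1).trans (map_zero _)
    · obtain ⟨r, hr, hrw⟩ := Groth.Agent.CAlgA.FibreMod.exists_smul_mem NR (⊥ : Ideal R) hw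
      rw [Groth.Agent.CAlgA.FibreMod.pN, Ideal.map_bot, Submodule.bot_smul, Submodule.mem_bot,
        IsScalarTower.algebraMap_smul] at hrw
      have hu : IsUnit (algebraMap R (⊥ : Ideal R).ResidueField r) :=
        isUnit_iff_ne_zero.mpr (by rwa [Ne, Ideal.algebraMap_residueField_eq_zero])
      obtain ⟨v, hv⟩ := hu.exists_right_inv
      rw [← hv, ← Algebra.smul_def, ← TensorProduct.smul_tmul, hrw, TensorProduct.zero_tmul]
  have hq : P ∈ FlatCA.ass BR (NR ⊗[R] (⊥ : Ideal R).ResidueField) := by
    refine ⟨inferInstance, n ⊗ₜ[R] (1 : (⊥ : Ideal R).ResidueField), ?_⟩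
    ext b
    rw [Groth.Agent.WeakAss.mem_ann, TensorProduct.smul_tmul', hzero, ← hn]
  have hne := Groth.Agent.S1212.result NR (⊥ : Ideal R) P hq
  obtain ⟨Q, hQ, hle⟩ := Ideal.exists_le_maximal _ hne
  haveI := hQ.isPrime
  refine hno Q (le_sup_left.trans hle) ⟨((IsLocalRing.maximalIdeal.isMaximal R).eq_of_le
    (Ideal.comap_ne_top _ hQ.ne_top) (Ideal.map_le_iff_le_comap.mp (le_sup_right.trans hle)))⟩

end Groth.Agent.S1247

namespace Groth.Agent.S1247

/-- Ring form, X = Spec B and S = Spec A affine with A Noetherian: let B be a finite type A-algebra, N a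
finite B-module and p a prime of A. If there is an impurity of N above p then there is one whose
base change A → A' is of finite type and quasi-finite at the point t. -/
theorem result {A B : Type u} [CommRing A] [IsNoetherianRing A] [CommRing B] [Algebra A B] [Algebra.FiniteType A B]
    (N : Type u) [AddCommGroup N] [Module B N] [Module.Finite B N] (p : Ideal A) [p.IsPrime]
    (h : FlatCA.HasImpurity A B N p (fun _ _ _ _ => True)) :
    FlatCA.HasImpurity A B N p (fun A' _ _ t => ∃ _ : t.IsPrime, Algebra.FiniteType A A' ∧ Algebra.QuasiFiniteAt A t) := by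
  classical
  obtain ⟨A₁, B₁, N₁, _, _, _, _, _, _, _, _, _, _, _, _, _, _, f, t', t, _, _, P, _, himp, hfp, hmaxF⟩ :=
    Groth.Agent.S1245.result N p h
  haveI := hfp
  haveI : IsNoetherianRing A₁ := Algebra.FiniteType.isNoetherianRing A A₁
  haveI htp := himp.2.2.2.1
  have hclosed : ∀ Q : Ideal A₁, Q.IsPrime → t ≤ Q → Q.LiesOver p → Q = t := by
    intro Q hQ htQ hQp
    have h1 : FlatCA.fiberIdeal p t = FlatCA.fiberIdeal p Q :=
      hmaxF.eq_of_le (Groth.Agent.RGFlat.fiberIdeal_isPrime p Q).ne_top (Ideal.map_mono htQ)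
    rw [← Groth.Agent.FlatMisc.Fiber.comap_fiberIdeal p Q, ← h1, Groth.Agent.FlatMisc.Fiber.comap_fiberIdeal p t]
  let D := A₁ ⧸ t'
  let π : A₁ →+* D := Ideal.Quotient.mk t'
  let s := t.map π
  have hst : s.comap π = t := by
    rw [Ideal.comap_map_of_surjective π Ideal.Quotient.mk_surjective, ← RingHom.ker_eq_comap_bot, Ideal.mk_ker,
      sup_eq_left.mpr himp.2.2.1]
  haveI : s.IsPrime := Ideal.map_isPrime_of_surjective Ideal.Quotient.mk_surjective (by rw [Ideal.mk_ker]; exact himp.2.2.1)
  have hs' : (⊥ : Ideal D).comap (algebraMap A₁ D) = t' := by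
    rw [Ideal.Quotient.algebraMap_eq, ← RingHom.ker_eq_comap_bot, Ideal.mk_ker]
  obtain ⟨B₂, N₂, _, _, _, _, _, _, _, _, _, _, _, _, g₂, P₂, _, himp₂⟩ :=
    Groth.Agent.RGFlat.Impurity.exists_isImpurity_baseChange himp D (⊥ : Ideal D) s bot_le hs' hst
  obtain ⟨hpush₂, hg₂, -, hsp, hP₂, hass₂, hno₂⟩ := himp₂
  haveI := hsp
  by_cases hJ : p.map (algebraMap A D) = ⊥
  · exfalso
    let R := Localization.AtPrime s
    haveI : IsDomain R := IsLocalization.isDomain_localization
      s.primeCompl_le_nonZeroDivisors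
    obtain ⟨B₃, N₃, _, _, _, _, _, _, _, _, _, _, _, _, g₃, P₃, _, himp₃⟩ :=
      Groth.Agent.RGFlat.Impurity.exists_isImpurity_baseChange
        (show FlatCA.IsImpurity A B N p D B₂ N₂ g₂ ⊥ s P₂ from ⟨hpush₂, hg₂, bot_le, hsp, hP₂, hass₂, hno₂⟩)
        R (⊥ : Ideal R) (IsLocalRing.maximalIdeal R) bot_le
        (Ideal.comap_bot_of_injective _ (IsLocalization.injective R
          s.primeCompl_le_nonZeroDivisors))
        (IsLocalization.AtPrime.comap_maximalIdeal R s)
    exact Groth.Agent.S1247.false_of_map_eq_bot himp₃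
      (by rw [IsScalarTower.algebraMap_eq A D R, ← Ideal.map_map, hJ, Ideal.map_bot])
  · haveI : Algebra.IsPushout A D B B₂ := hpush₂.symm
    haveI : Algebra.FiniteType D B₂ :=
      Algebra.FiniteType.equiv (inferInstance : Algebra.FiniteType D (TensorProduct A D B)) (Algebra.IsPushout.equiv A D B B₂)
    haveI : Module.Finite B₂ N₂ := Module.Finite.equiv hg₂.equiv
    haveI := hP₂
    obtain ⟨k, hk, hspread⟩ := Groth.Agent.RGFlat.Impurity.exists_spread P₂ hass₂
    obtain ⟨u, hu, hus, hku, hJu, hmin⟩ := Groth.Agent.RGFlat.Impurity.exists_slice (p.map (algebraMap A D)) s hk hJ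
      (Ideal.map_le_iff_le_comap.mpr hsp.over.le)
    haveI := hu
    obtain ⟨Q, _, hPQ, hQu, hassQ⟩ := hspread u hku
    have himpQ : FlatCA.IsImpurity A B N p D B₂ N₂ g₂ u s Q :=
      ⟨hpush₂, hg₂, hus, hsp, hQu, hassQ, fun P' _ hle => hno₂ P' (hPQ.trans hle)⟩
    let C := D ⧸ u
    let c := s.map (Ideal.Quotient.mk u)
    have hcs : c.comap (Ideal.Quotient.mk u) = s := by
      rw [Ideal.comap_map_of_surjective _ Ideal.Quotient.mk_surjective, ← RingHom.ker_eq_comap_bot, Ideal.mk_ker,
        sup_eq_left.mpr hus]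
    haveI : c.IsPrime := Ideal.map_isPrime_of_surjective Ideal.Quotient.mk_surjective (by rw [Ideal.mk_ker]; exact hus)
    obtain ⟨B₃, N₃, _, _, _, _, _, _, _, _, _, _, _, _, g₃, P₃, _, himp₃⟩ :=
      Groth.Agent.RGFlat.Impurity.exists_isImpurity_baseChange himpQ C (⊥ : Ideal C) c bot_le
        (by rw [Ideal.Quotient.algebraMap_eq, ← RingHom.ker_eq_comap_bot, Ideal.mk_ker]) hcs
    haveI hcp := himp₃.2.2.2.1
    haveI : Algebra.FiniteType A D := Algebra.FiniteType.trans (inferInstance : Algebra.FiniteType A A₁) inferInstance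
    haveI : Algebra.FiniteType A C := Algebra.FiniteType.trans (inferInstance : Algebra.FiniteType A D) inferInstance
    have hqf : Algebra.QuasiFiniteAt A c := by
      refine Groth.Agent.Wt.CMSlice.quasiFiniteAt_of_fibre c (fun P' hP' hle hPc => ?_) (fun P' hP' hle hPc => ?_)
      · haveI := hP'
        haveI : (P'.comap (algebraMap A₁ C)).LiesOver p := ⟨by
          rw [hcp.over, ← hPc, Ideal.under_def, Ideal.under_def, Ideal.comap_comap, ← IsScalarTower.algebraMap_eq]⟩
        have h1 : P'.comap (algebraMap A₁ C) = t := hclosed _ (Ideal.comap_isPrime _ _) (by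
          rw [← hst, ← hcs, Ideal.comap_comap]
          exact Ideal.comap_mono hle) this
        refine Ideal.comap_injective_of_surjective (algebraMap A₁ C)
          (Ideal.Quotient.mk_surjective.comp Ideal.Quotient.mk_surjective) ?_
        rw [h1, ← hst, ← hcs, Ideal.comap_comap]; rfl
      · haveI := hP'
        refine le_antisymm hle (Ideal.map_le_iff_le_comap.mpr ?_)
        refine hmin.2 ⟨Ideal.comap_isPrime (Ideal.Quotient.mk u) P', sup_le (fun x hx => ?_) ?_⟩ (hcs ▸ Ideal.comap_mono hle)
        · rw [Ideal.mem_comap, Ideal.Quotient.eq_zero_iff_mem.mpr hx]; exact zero_mem _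
        · refine Ideal.map_le_iff_le_comap.mpr fun x hx => ?_
          have : x ∈ P'.under A := by rw [hPc, ← hcp.over]; exact hx
          exact this
    exact ⟨C, B₃, N₃, inferInstance, inferInstance, inferInstance, inferInstance, inferInstance, inferInstance,
      inferInstance, inferInstance, inferInstance, inferInstance, inferInstance, inferInstance, inferInstance,
      inferInstance, g₃, ⊥, c, inferInstance, inferInstance, P₃, inferInstance, himp₃, inferInstance, inferInstance, hqf⟩

end Groth.Agent.S1247
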