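import Groth.Statements.S12475
import Groth.Agent.ProjBundleLib.Pair
import Groth.Agent.ProjBundleLib.BaseChange
-- import your own Groth.Agent.* helpers here

set_option autoImplicit false
universe u
open CategoryTheory CategoryTheory.Limits AlgebraicGeometry TopologicalSpace Opposite
open scoped HomogeneousIdeal
open EGA2

namespace Groth.Agent.S12475

/-- Let Y₁ → S and Y₂ → S be schemes over S, f₁ : X₁ → Y₁ and f₂ : X₂ → Y₂ morphisms (so that X₁, X₂ are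
S-schemes through them), P with projections p₁, p₂ a fibre product X₁ ×_S X₂, Q with projections q₁,
q₂ a fibre product Y₁ ×_S Y₂, and h : P → Q the morphism f₁ ×_S f₂, that is, the one with h ≫ q₁ =
p₁ ≫ f₁ and h ≫ q₂ = p₂ ≫ f₂. If L₁ is an invertible O_{X₁}-module very ample relative to f₁ and L₂
an invertible O_{X₂}-module very ample relative to f₂ (each isomorphic to the inverse image of O(1)
along an immersion over the base into the projective bundle of a quasi-coherent module on the base),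
then the external tensor product p₁^*L₁ ⊗ p₂^*L₂ is very ample relative to h. -/
theorem result {S X₁ X₂ Y₁ Y₂ P Q : Scheme.{u}} (y₁ : Y₁ ⟶ S) (y₂ : Y₂ ⟶ S)
    (f₁ : X₁ ⟶ Y₁) (f₂ : X₂ ⟶ Y₂) (p₁ : P ⟶ X₁) (p₂ : P ⟶ X₂) (hP : IsPullback p₁ p₂ (f₁ ≫ y₁) (f₂ ≫ y₂))
    (q₁ : Q ⟶ Y₁) (q₂ : Q ⟶ Y₂) (hQ : IsPullback q₁ q₂ y₁ y₂) (h : P ⟶ Q)
    (hh₁ : h ≫ q₁ = p₁ ≫ f₁) (hh₂ : h ≫ q₂ = p₂ ≫ f₂)
    (L₁ : X₁.Modules) (hL₁ : PicF.IsInvertible L₁) (hva₁ : RelProj.IsRelVeryAmple f₁ L₁)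
    (L₂ : X₂.Modules) (hL₂ : PicF.IsInvertible L₂) (hva₂ : RelProj.IsRelVeryAmple f₂ L₂) :
    RelProj.IsRelVeryAmple h
      (CohB1.tensorMod ((Scheme.Modules.pullback p₁).obj L₁) ((Scheme.Modules.pullback p₂).obj L₂)) := by
  obtain ⟨E₁, hE₁, v₁, hv₁, B₁, r₁, hr₁, hi₁⟩ := ProjBundleLib.exists_of_isRelVeryAmple hva₁
  obtain ⟨E₂, hE₂, v₂, hv₂, B₂, r₂, hr₂, hi₂⟩ := ProjBundleLib.exists_of_isRelVeryAmple hva₂
  have e₁ : r₁ ≫ B₁.p = f₁ := ProjBundleLib.Cls.comp_eq B₁.hj B₁.hP hv₁ hr₁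
  have e₂ : r₂ ≫ B₂.p = f₂ := ProjBundleLib.Cls.comp_eq B₂.hj B₂.hP hv₂ hr₂
  obtain ⟨τ₁, -⟩ := ProjBundleLib.exists_compat B₁.hj B₁.hP B₁.hO1 B₁.hφ hv₁ hr₁
  obtain ⟨τ₂, -⟩ := ProjBundleLib.exists_compat B₂.hj B₂.hP B₂.hO1 B₂.hφ hv₂ hr₂
  obtain ⟨C₁⟩ := ProjBundleLib.exists_bundle ((Scheme.Modules.pullback q₁).obj E₁)
  obtain ⟨C₂⟩ := ProjBundleLib.exists_bundle ((Scheme.Modules.pullback q₂).obj E₂)
  obtain ⟨θ₁, hθ₁, ⟨σ₁⟩⟩ := ProjBundleLib.exists_baseChange (ψ := q₁) B₁ C₁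
  obtain ⟨θ₂, hθ₂, ⟨σ₂⟩⟩ := ProjBundleLib.exists_baseChange (ψ := q₂) B₂ C₂
  have ha₁ : (p₁ ≫ r₁) ≫ B₁.p = h ≫ q₁ := by rw [Category.assoc, e₁, hh₁]
  have ha₂ : (p₂ ≫ r₂) ≫ B₂.p = h ≫ q₂ := by rw [Category.assoc, e₂, hh₂]
  let c₁ : P ⟶ C₁.P := hθ₁.lift _ _ ha₁
  let c₂ : P ⟶ C₂.P := hθ₂.lift _ _ ha₂
  obtain ⟨w₁, hw₁, hcls₁, -⟩ := ProjBundleLib.exists_of_compMap C₁ c₁ (hθ₁.lift_snd _ _ _)
    ((Scheme.Modules.pullback c₁).mapIso σ₁.symm ≪≫ (Scheme.Modules.pullbackComp c₁ θ₁).app B₁.O1 ≪≫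
      (Scheme.Modules.pullbackCongr (hθ₁.lift_fst _ _ ha₁)).app B₁.O1 ≪≫
      ((Scheme.Modules.pullbackComp p₁ r₁).app B₁.O1).symm ≪≫ (Scheme.Modules.pullback p₁).mapIso τ₁)
  obtain ⟨w₂, hw₂, hcls₂, -⟩ := ProjBundleLib.exists_of_compMap C₂ c₂ (hθ₂.lift_snd _ _ _)
    ((Scheme.Modules.pullback c₂).mapIso σ₂.symm ≪≫ (Scheme.Modules.pullbackComp c₂ θ₂).app B₂.O1 ≪≫
      (Scheme.Modules.pullbackCongr (hθ₂.lift_fst _ _ ha₂)).app B₂.O1 ≪≫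
      ((Scheme.Modules.pullbackComp p₂ r₂).app B₂.O1).symm ≪≫ (Scheme.Modules.pullback p₂).mapIso τ₂)
  let π : P ⟶ pullback C₁.p C₂.p := pullback.lift c₁ c₂ ((hθ₁.lift_snd _ _ _).trans (hθ₂.lift_snd _ _ _).symm)
  let M : pullback C₁.p C₂.p ⟶ pullback (B₁.p ≫ y₁) (B₂.p ≫ y₂) :=
    pullback.lift (pullback.fst _ _ ≫ θ₁) (pullback.snd _ _ ≫ θ₂) (by
      simp only [Category.assoc, reassoc_of% hθ₁.w, reassoc_of% hθ₂.w, hQ.w, pullback.condition_assoc])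
  have hΦ : π ≫ M = hP.isoPullback.hom ≫ pullback.map (f₁ ≫ y₁) (f₂ ≫ y₂) (B₁.p ≫ y₁) (B₂.p ≫ y₂) r₁ r₂ (𝟙 S)
      (by rw [Category.comp_id, reassoc_of% e₁]) (by rw [Category.comp_id, reassoc_of% e₂]) := by
    apply pullback.hom_ext
    · simp only [π, M, c₁, Category.assoc, pullback.map, pullback.lift_fst, pullback.lift_fst_assoc,
        IsPullback.lift_fst, IsPullback.isoPullback_hom_fst_assoc]
    · simp only [π, M, c₂, Category.assoc, pullback.map, pullback.lift_snd, pullback.lift_snd_assoc,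
        IsPullback.lift_snd, IsPullback.lift_fst, IsPullback.isoPullback_hom_snd_assoc]
  have : IsImmersion (π ≫ M) := by
    rw [hΦ]
    have : MorphismProperty.IsStableUnderComposition @IsImmersion :=
      ⟨fun a b ha hb => by
        have : IsImmersion a := ha
        have : IsImmersion b := hb
        infer_instance⟩
    have := MorphismProperty.pullbackMap (P := @IsImmersion) (f := f₁ ≫ y₁) (g := f₂ ≫ y₂)
      (f' := B₁.p ≫ y₁) (g' := B₂.p ≫ y₂) hi₁ hi₂ (by rw [reassoc_of% e₁]) (by rw [reassoc_of% e₂])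
    exact inferInstance
  have : IsImmersion π := IsImmersion.of_comp π M
  have hI₁ := PicCl.isInvertible_pullback p₁ hL₁
  have hI₂ := PicCl.isInvertible_pullback p₂ hL₂
  have : (CohB1.tensorMod ((Scheme.Modules.pullback q₁).obj E₁)
      ((Scheme.Modules.pullback q₂).obj E₂)).IsQuasicoherent := LimTop.TensorQC.isQuasicoherent_tensM _ _
  exact ProjBundleLib.isRelVeryAmple_of (ProjBundleLib.gens_tensV hw₁ hw₂)
    (ProjBundleLib.clsImm_tensV_pair hI₁ hI₂ hw₁ hw₂ C₁ C₂ hcls₁ hcls₂ π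
      (pullback.lift_fst _ _ _) (pullback.lift_snd _ _ _))

end Groth.Agent.S12475
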