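import Groth.Statements.S12476
import Groth.Agent.ProjBundleLib.BaseChange
-- import your own Groth.Agent.* helpers here

set_option autoImplicit false
universe u
open CategoryTheory CategoryTheory.Limits AlgebraicGeometry TopologicalSpace Opposite
open scoped HomogeneousIdeal
open EGA2

namespace Groth.Agent.S12476

/-- Let f : X → Y and g : Y → Z be morphisms of schemes and L an invertible O_X-module which is very
ample relative to the composite X → Y → Z (isomorphic to the inverse image of O(1) along a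
Z-immersion of X into the projective bundle of a quasi-coherent O_Z-module). Then L is very ample
relative to f. -/
theorem result {X Y Z : Scheme.{u}} (f : X ⟶ Y) (g : Y ⟶ Z) (L : X.Modules)
    (hL : PicF.IsInvertible L) (hva : RelProj.IsRelVeryAmple (f ≫ g) L) : RelProj.IsRelVeryAmple f L := by
  obtain ⟨E, hE, 𝒮, j, hj, P, p, chart, hP, O1, lam, hO1, i, hi, hip, ⟨e⟩⟩ := hva
  have : E.IsQuasicoherent := hE
  obtain ⟨φ, hφ⟩ := ProjBundleLib.exists_isCan hj hO1 hP
  obtain ⟨B'⟩ := ProjBundleLib.exists_bundle ((Scheme.Modules.pullback g).obj E)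
  obtain ⟨θ, hθ, ⟨τ⟩⟩ := ProjBundleLib.exists_baseChange (ψ := g) ⟨𝒮, j, hj, P, p, chart, hP, O1, lam, hO1, φ, hφ⟩ B'
  let c : X ⟶ B'.P := hθ.lift i f hip
  have : IsImmersion (c ≫ θ) := by rw [hθ.lift_fst]; exact hi
  refine ⟨_, inferInstance, B'.alg, B'.j, B'.hj, B'.P, B'.p, B'.chart, B'.hP, B'.O1, B'.lam, B'.hO1, c,
    IsImmersion.of_comp c θ, hθ.lift_snd _ _ _, ⟨?_⟩⟩
  exact e ≪≫ (Scheme.Modules.pullbackCongr (hθ.lift_fst _ _ hip).symm).app O1 ≪≫
    ((Scheme.Modules.pullbackComp c θ).app O1).symm ≪≫ (Scheme.Modules.pullback c).mapIso τ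

end Groth.Agent.S12476
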