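import Groth.Statements.S12477
import Groth.Agent.ProjBundleLib.Coprod
import Groth.Agent.ProjBundleLib.Tensor
import Groth.Agent.Props.SubExt
-- import your own Groth.Agent.* helpers here

set_option autoImplicit false
universe u
open CategoryTheory CategoryTheory.Limits AlgebraicGeometry TopologicalSpace Opposite
open scoped HomogeneousIdeal
open EGA2

namespace Groth.Agent.S12477

/-- Let X and X' be schemes with disjoint union X ⨿ X', let f'' : X ⨿ X' → Y be a morphism (given by a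
morphism f on X and a morphism f' on X') and L'' an invertible module on X ⨿ X' (given by an
invertible O_X-module L and an invertible O_{X'}-module L'). Then L'' is very ample relative to f''
(isomorphic to the inverse image of O(1) along a Y-immersion of X into the projective bundle P(E) of
a quasi-coherent O_Y-module E) if and only if L, the inverse image of L'' on X, is very ample
relative to f and L', the inverse image of L'' on X', is very ample relative to f'. -/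
theorem result {X X' Y : Scheme.{u}} (f'' : X ⨿ X' ⟶ Y) (L'' : (X ⨿ X').Modules)
    (hL'' : PicF.IsInvertible L'') :
    RelProj.IsRelVeryAmple f'' L'' ↔
      RelProj.IsRelVeryAmple (coprod.inl ≫ f'') ((Scheme.Modules.pullback (coprod.inl : X ⟶ X ⨿ X')).obj L'') ∧
        RelProj.IsRelVeryAmple (coprod.inr ≫ f'') ((Scheme.Modules.pullback (coprod.inr : X' ⟶ X ⨿ X')).obj L'') := by
  constructor
  · intro h
    obtain ⟨E, hE, 𝒮, j, hj, P, p, chart, hP, O1, lam, hO1, i, hi, hip, ⟨e⟩⟩ := h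
    have : IsImmersion i := hi
    refine ⟨⟨E, hE, 𝒮, j, hj, P, p, chart, hP, O1, lam, hO1, coprod.inl ≫ i, inferInstance,
        by rw [Category.assoc, hip], ⟨(Scheme.Modules.pullback _).mapIso e ≪≫
          (Scheme.Modules.pullbackComp _ i).app O1⟩⟩,
      ⟨E, hE, 𝒮, j, hj, P, p, chart, hP, O1, lam, hO1, coprod.inr ≫ i, inferInstance,
        by rw [Category.assoc, hip], ⟨(Scheme.Modules.pullback _).mapIso e ≪≫
          (Scheme.Modules.pullbackComp _ i).app O1⟩⟩⟩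
  rintro ⟨h₁, h₂⟩
  let ι₁ : X ⟶ X ⨿ X' := coprod.inl
  let ι₂ : X' ⟶ X ⨿ X' := coprod.inr
  have hc : IsCompl ι₁.opensRange ι₂.opensRange := isCompl_opensRange_inl_inr X X'
  have hd₁ : ι₁.opensRange ⊓ ι₂.opensRange ≤ ⊥ := hc.disjoint.le_bot
  have hd₂ : ι₂.opensRange ⊓ ι₁.opensRange ≤ ⊥ := hc.symm.disjoint.le_bot
  have hc₁ : ι₁.opensRange ⊔ ι₂.opensRange = ⊤ := hc.sup_eq_top
  have hc₂ : ι₂.opensRange ⊔ ι₁.opensRange = ⊤ := hc.symm.sup_eq_top
  obtain ⟨E₁, hE₁, v₁, hv₁, hi₁⟩ := ProjBundleLib.exists_of_isRelVeryAmple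
    (ProjBundleLib.isRelVeryAmple_of_iso ((Scheme.Modules.restrictFunctorIsoPullback ι₁).app L'').symm h₁)
  obtain ⟨E₂, hE₂, v₂, hv₂, hi₂⟩ := ProjBundleLib.exists_of_isRelVeryAmple
    (ProjBundleLib.isRelVeryAmple_of_iso ((Scheme.Modules.restrictFunctorIsoPullback ι₂).app L'').symm h₂)
  have : (E₁ ⊞ E₂).IsQuasicoherent := Props.SubExt.isQuasicoherent_biprod E₁ E₂
  let w₁ := v₁ ≫ ProjBundleLib.pushExt f'' L'' ι₁ hd₁ hc₁
  let w₂ := v₂ ≫ ProjBundleLib.pushExt f'' L'' ι₂ hd₂ hc₂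
  let w := biprod.desc w₁ w₂
  have key : ∀ {E : Y.Modules} [E.IsQuasicoherent] (a : E ⟶ E₁ ⊞ E₂) (u : E ⟶ _) (_ : a ≫ w = u) (x : ↥(X ⨿ X')),
      (∃ (U : Y.Opens) (_ : IsAffineOpen U) (e : Γ(E, U)), x ∈ ProjBundleLib.gLoc u U e ∧
        ProjBundleLib.SubImm (ProjBundleLib.gLoc u U e)
          (ProjBundleLib.coefRing u U e (ProjBundleLib.gLoc u U e))) →
      ∃ (U : Y.Opens) (_ : IsAffineOpen U) (e : Γ(E₁ ⊞ E₂, U)), x ∈ ProjBundleLib.gLoc w U e ∧
        ProjBundleLib.SubImm (ProjBundleLib.gLoc w U e)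
          (ProjBundleLib.coefRing w U e (ProjBundleLib.gLoc w U e)) := by
    rintro E _ a u rfl x ⟨U, hU, e, hx, hS⟩
    exact ⟨U, hU, a.app U e, hx, hS.mono (ProjBundleLib.coefRing_le ProjBundleLib.gLoc_le
      (fun r => ProjBundleLib.appLE_mem_coefRing ProjBundleLib.gLoc_le r)
      fun z c hc => ProjBundleLib.coef_mem_coefRing (z := a.app U z) ProjBundleLib.gLoc_le hc)⟩
  have H : ∀ x : ↥(X ⨿ X'), ∃ (U : Y.Opens) (_ : IsAffineOpen U) (e : Γ(E₁ ⊞ E₂, U)),
      x ∈ ProjBundleLib.gLoc w U e ∧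
        ProjBundleLib.SubImm (ProjBundleLib.gLoc w U e)
          (ProjBundleLib.coefRing w U e (ProjBundleLib.gLoc w U e)) := by
    intro x
    rcases hc₁.ge (trivial : x ∈ (⊤ : (X ⨿ X').Opens)) with h | h
    · obtain ⟨y, rfl⟩ : ∃ y, ι₁ y = x := h
      exact key biprod.inl w₁ (biprod.inl_desc _ _) _ (ProjBundleLib.subImm_pushExt hd₁ hc₁ hv₁ hi₁ y)
    · obtain ⟨y, rfl⟩ : ∃ y, ι₂ y = x := h
      exact key biprod.inr w₂ (biprod.inr_desc _ _) _ (ProjBundleLib.subImm_pushExt hd₂ hc₂ hv₂ hi₂ y)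
  have hv : ProjBundleLib.Gens w := ProjBundleLib.gens_of_frames hL'' fun x => by
    obtain ⟨U, -, e, hx, -⟩ := H x
    exact ⟨U, e, _, hx, ProjBundleLib.frame_gLoc⟩
  exact ProjBundleLib.isRelVeryAmple_of hv (ProjBundleLib.clsImm_of_subImm hv H)

end Groth.Agent.S12477
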