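import Groth.Statements.S1248
import Groth.Agent.RGFlat.ImpurityDescend
import Groth.Agent.Hens.Unique

set_option autoImplicit false
universe u
open FlatMor

namespace Groth.Agent.S1248

open IsLocalRing in
/-- Ring form, X = Spec B affine: let B be a finite type A-algebra, N a finite B-module and p a prime of
A. If there is an impurity of N above p whose base change ring A' is a henselization of the local
ring A_p (compatibly with A → A_p) and whose point t is the maximal ideal, then there is an impurity
of N above p for which (A', t) is an elementary étale ring map at p. -/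
theorem result {A B : Type u} [CommRing A] [CommRing B] [Algebra A B] [Algebra.FiniteType A B]
    (N : Type u) [AddCommGroup N] [Module B N] [Module.Finite B N] (p : Ideal A) [p.IsPrime]
    (h : FlatCA.HasImpurity A B N p (fun A' _ _ t => ∃ (_ : IsLocalRing A') (_ : Algebra (Localization.AtPrime p) A')
        (_ : IsScalarTower A (Localization.AtPrime p) A') (_ : IsLocalHom (algebraMap (Localization.AtPrime p) A')),
        Hensel.IsHenselization (Localization.AtPrime p) A' ∧ t = maximalIdeal A')) :
    FlatCA.HasImpurity A B N p (fun A' _ _ t => ∃ _ : t.IsPrime, FlatCA.IsEtaleNhd A A' p t) := by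
  classical
  obtain ⟨A₁, B₁, N₁, _, _, _, _, _, _, _, _, _, _, _, _, _, _, f, t', t, _, _, P, _, himp, _, _, _, _, hH, ht⟩ := h
  haveI := hH
  obtain ⟨F, hF⟩ := Groth.Agent.RGFlat.Impurity.exists_descend himp
  obtain ⟨E, hE⟩ := Groth.Agent.Hens.exists_algEquiv_etLoc_atPrime (R := A) (p := p) A₁
  obtain ⟨R, _, _, het, θ, hθ⟩ := Groth.Agent.Hens.exists_stage_finset (R := A) (K := p.ResidueField) (F.image E.symm)
  let φ : R →ₐ[A] A₁ := E.toAlgHom.comp θ
  letI : Algebra R A₁ := φ.toRingHom.toAlgebra
  haveI : IsScalarTower A R A₁ := IsScalarTower.of_algebraMap_eq fun a => (φ.commutes a).symm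
  obtain ⟨BR, NR, _, _, _, _, _, _, _, _, _, _, _, _, g, PR, _, s, hs, hI⟩ := hF R fun a ha => by
    obtain ⟨r, hr⟩ := hθ _ (Finset.mem_image_of_mem E.symm ha)
    exact ⟨r, (congrArg E hr).trans (E.apply_symm_apply a)⟩
  haveI := himp.2.2.2.1
  let a := t.comap (algebraMap R A₁)
  haveI : a.IsPrime := Ideal.comap_isPrime _ _
  haveI : a.LiesOver p := ⟨by
    show p = (t.comap (algebraMap R A₁)).comap (algebraMap A R)
    rw [Ideal.comap_comap, ← IsScalarTower.algebraMap_eq, ← Ideal.under_def, ← Ideal.over_def t p]⟩
  refine ⟨R, BR, NR, inferInstance, inferInstance, inferInstance, inferInstance, inferInstance, inferInstance,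
    inferInstance, inferInstance, inferInstance, inferInstance, inferInstance, inferInstance, inferInstance,
    inferInstance, g, t'.comap (algebraMap R A₁), a, Ideal.comap_isPrime _ _, inferInstance, PR, inferInstance,
    hI a le_rfl hs inferInstance, inferInstance, het, inferInstance, RingHom.injective _, fun z => ?_⟩
  let l : R →ₐ[A] IsLocalRing.ResidueField A₁ := (IsScalarTower.toAlgHom A A₁ (IsLocalRing.ResidueField A₁)).comp φ
  have hker : ∀ r, l r = 0 ↔ r ∈ a := fun r => by
    show IsLocalRing.residue A₁ (φ r) = 0 ↔ φ r ∈ t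
    rw [IsLocalRing.residue_eq_zero_iff, ht]
  let lk : a.ResidueField →ₐ[A] IsLocalRing.ResidueField A₁ :=
    Ideal.ResidueField.liftₐ a l (fun r hr => (hker r).mpr hr)
      (fun r hr => isUnit_iff_ne_zero.mpr fun h0 => hr ((hker r).mp h0))
  obtain ⟨y, hy⟩ := IsLocalRing.residue_surjective (lk z)
  obtain ⟨w, hw⟩ := E.surjective y
  refine ⟨Groth.Agent.Hens.point A p.ResidueField w, lk.toRingHom.injective ?_⟩
  show lk (Ideal.ResidueField.mapₐ p a (Algebra.ofId A R) _ _) = lk z
  rw [← hy, ← hw, hE w]
  refine RingHom.congr_fun (Ideal.ResidueField.ringHom_ext (f := (lk.comp (Ideal.ResidueField.mapₐ p a (Algebra.ofId A R) (Ideal.over_def a p))).toRingHom)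
    (g := IsLocalRing.ResidueField.map (algebraMap (Localization.AtPrime p) A₁)) (RingHom.ext fun x => ?_)) _
  show lk (Ideal.ResidueField.mapₐ p a (Algebra.ofId A R) _ (algebraMap A p.ResidueField x)) = _
  rw [AlgHom.commutes, AlgHom.commutes, IsScalarTower.algebraMap_apply A A₁ (IsLocalRing.ResidueField A₁),
    IsScalarTower.algebraMap_apply A (Localization.AtPrime p) A₁]
  rfl

end Groth.Agent.S1248
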