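import Groth.Statements.S12480
import Groth.Agent.ProjBundleLib.PushId
-- import your own Groth.Agent.* helpers here

set_option autoImplicit false
universe u
open CategoryTheory CategoryTheory.Limits AlgebraicGeometry TopologicalSpace Opposite
open scoped HomogeneousIdeal
open EGA2

namespace Groth.Agent.S12480

/-- Let X be a quasi-affine scheme and L an invertible O_X-module. Then L is very ample relative to the
canonical morphism u : X → Spec Γ(X, O_X): there are a quasi-coherent module E on that spectrum and
an immersion i of X into the projective bundle P(E), compatible with u, with L isomorphic to
i^*O_{P(E)}(1). (The published statement adds that L is then ample; that assertion is stated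
separately.) -/
theorem result (X : Scheme.{u}) [X.IsQuasiAffine] (L : X.Modules)
    (hL : PicF.IsInvertible L) : RelProj.IsRelVeryAmple X.toSpecΓ L := by
  have := ProjBundleLib.isQuasicoherent_push (g := X.toSpecΓ) hL
  have hg := ProjBundleLib.gens_of_epi hL ((Scheme.Modules.pullbackPushforwardAdjunction X.toSpecΓ).counit.app L)
  exact ProjBundleLib.isRelVeryAmple_of hg (ProjBundleLib.clsImm_of_isImmersion hg)

end Groth.Agent.S12480
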