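import Groth.Statements.S18939
import Groth.Agent.KReg44.Ideal

set_option autoImplicit false
universe u
open LCI

namespace Groth.Agent.S18939

/-- Let R be a commutative ring, I a proper ideal of R and f_1, …, f_r a Koszul-regular sequence of
elements of I generating I. Then I/I² is a free R/I-module of rank r, with basis the classes of f_1,
…, f_r. -/
theorem result {R : Type u} [CommRing R] {I : Ideal R} (hI : I ≠ ⊤)
    (r : ℕ) (f : Fin r → I) (hf : LCI.IsKoszulRegularSeq R (List.ofFn (fun i => (f i : R))))
    (hfI : Ideal.span (Set.range (fun i => (f i : R))) = I) :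
    ∃ b : Module.Basis (Fin r) (R ⧸ I) I.Cotangent, ∀ i, b i = I.toCotangent (f i) := by
  haveI : Nontrivial (R ⧸ I) := Ideal.Quotient.nontrivial_iff.2 hI
  let v : Fin r → I.Cotangent := fun i => I.toCotangent (f i)
  have hli : LinearIndependent (R ⧸ I) v := by
    rw [Fintype.linearIndependent_iff]
    intro c hc i
    choose c' hc' using fun i => Ideal.Quotient.mk_surjective (c i)
    have h0 : I.toCotangent (∑ i, c' i • f i) = 0 := by
      rw [map_sum, ← hc]
      refine Finset.sum_congr rfl fun i _ => ?_
      rw [map_smul, ← hc' i]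
      exact (algebraMap_smul (R ⧸ I) (c' i) (v i)).symm
    rw [Ideal.toCotangent_eq_zero] at h0
    have h1 := KReg44.coeff_mem_of_mem_sq (fun i => (f i : R)) hf (c := c')
      (by rw [hfI]; simpa [Submodule.coe_sum] using h0) i
    rw [hfI] at h1
    rw [← hc' i, Ideal.Quotient.eq_zero_iff_mem]
    exact h1
  have hsp : ⊤ ≤ Submodule.span (R ⧸ I) (Set.range v) := by
    intro x _
    obtain ⟨⟨y, hy⟩, rfl⟩ := I.toCotangent_surjective x
    obtain ⟨c, hc⟩ := (Submodule.mem_span_range_iff_exists_fun R).1 (show y ∈ Submodule.span R (Set.range fun i => (f i : R)) by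
      change y ∈ Ideal.span _; rw [hfI]; exact hy)
    have he : (⟨y, hy⟩ : I) = ∑ i, c i • f i := Subtype.ext (by simp [Submodule.coe_sum, ← hc])
    rw [he, map_sum]
    refine Submodule.sum_mem _ fun i _ => ?_
    rw [map_smul, ← algebraMap_smul (R ⧸ I) (c i) (I.toCotangent (f i))]
    exact Submodule.smul_mem _ _ (Submodule.subset_span ⟨i, rfl⟩)
  exact ⟨Module.Basis.mk hli hsp, fun i => by rw [Module.Basis.mk_apply]⟩


end Groth.Agent.S18939
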