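import Groth.Statements.S12482
import Groth.Agent.S18939
import Groth.Agent.KReg44.Weakly

set_option autoImplicit false
universe u
open Dual

namespace Groth.Agent.S12482

/-- Let `A` be a commutative ring, `x_1, …, x_p` a sequence of elements of `A` such that each `x_i` is a
non-zero-divisor on `A/(x_1, …, x_{i-1})`, and `J` the ideal generated by the `x_i`. Then `J/J²` is
a free `(A/J)`-module with basis the classes of the `x_i`: there is a basis of `J/J²` over `A/J`,
indexed by `1, …, p`, whose `i`-th vector is the class of `x_i`. (The other assertions of the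
published statement, on the Koszul complex and on Ext and Tor against `A/J`, are stated separately.) -/
theorem result (A : Type u) [CommRing A] (p : ℕ) (x : Fin p → A)
    (hreg : RingTheory.Sequence.IsWeaklyRegular A (List.ofFn x)) :
    ∃ b : Module.Basis (Fin p) (A ⧸ Ideal.span (Set.range x)) (Ideal.span (Set.range x)).Cotangent,
      ∀ i, b i = (Ideal.span (Set.range x)).toCotangent ⟨x i, Ideal.subset_span (Set.mem_range_self i)⟩ := by
  by_cases hI : Ideal.span (Set.range x) = ⊤
  · have : Subsingleton (A ⧸ Ideal.span (Set.range x)) := Ideal.Quotient.subsingleton_iff.mpr hI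
    have : Subsingleton (Ideal.span (Set.range x)).Cotangent :=
      Module.subsingleton (A ⧸ Ideal.span (Set.range x)) _
    exact ⟨Module.Basis.ofRepr ⟨⟨⟨0, fun _ _ => Subsingleton.elim _ _⟩, fun _ _ => Subsingleton.elim _ _⟩,
      0, fun _ => Subsingleton.elim _ _, fun _ => Subsingleton.elim _ _⟩, fun _ => Subsingleton.elim _ _⟩
  · exact S18939.result hI p (fun i => ⟨x i, Ideal.subset_span (Set.mem_range_self i)⟩)
      (KReg44.isKoszulRegularSeq_of_isWeaklyRegular p (List.ofFn x) (List.length_ofFn) hreg) rfl

end Groth.Agent.S12482
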