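import Groth.Statements.S12483
import Groth.Agent.InjMod.ExtAdj
import Groth.Agent.ExtSuppLib.Main
import Groth.Agent.ExtSuppLib.Flasque
import Groth.Agent.KFlat.Closure
-- import your own Groth.Agent.* helpers here

set_option autoImplicit false
universe u
open CategoryTheory CategoryTheory.Limits AlgebraicGeometry
open Coherent

namespace Groth.Agent.S12483

/-- Let `X` be a scheme, `A` an `O_X`-module which is finite locally free (every point has an open
neighbourhood over which `A` is isomorphic to some `O^n`) and for which the internal Hom functor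
`Hom_{O_X}(A, -)` exists (right adjoint of `A ⊗ -`), `B` any `O_X`-module and `p ≥ 0`. Then
`Ext^p_{O_X}(X; A, B)`, the Ext group computed in the category of `O_X`-modules, is isomorphic to
`H^p(X, Hom_{O_X}(A, B))`. (Existence of an isomorphism of abelian groups only; the published
isomorphisms are canonical, the edge maps of the local-to-global spectral sequence for Ext. The
published statement is for an arbitrary ringed space; this row is the case of a scheme.) -/
theorem result (X : Scheme.{u}) [HasExt.{u} X.Modules]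
    (A B : X.Modules) (hA : FlatMod.IsFinLocFree A) [DCoh.HasSheafHom A] (p : ℕ) :
    Nonempty (Abelian.Ext A B p ≃+ Coh.HH X ((DCoh.sheafHom A).obj B) p) := by
  have : ModSite.HasSheafHom (O := X.sheaf) A := KFlat.hasSheafHom X.sheaf A
  have : HasInjectiveResolutions (ModSite.Mod X.sheaf) := inferInstance
  have : HasExt.{u} (ModSite.Mod X.sheaf) := inferInstance
  have hf := InjMod.hasFrames_of_isFinLocFree hA
  obtain ⟨ha, hl, hr⟩ := InjMod.preservesFiniteColimits_homF (E := A) hf
  have : (InjMod.homF A).PreservesInjectiveObjects := ⟨fun {Q} _ => InjMod.injective_homF hf Q⟩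
  let J := Opens.grothendieckTopology X
  let Q := (constantSheaf J AddCommGrpCat.{u}).obj (AddCommGrpCat.of (ULift ℤ))
  have hQ : ExtSuppLib.TF Q := ExtSuppLib.tf_constantSheaf
  let e₀ : preadditiveCoyoneda.obj (Opposite.op A) ≅
      InjMod.homF A ⋙ preadditiveCoyoneda.obj (Opposite.op (ModSite.unit X.sheaf)) :=
    NatIso.ofComponents (fun G => (AddEquiv.ofBijective (ExtSuppLib.hom0 A G)
        (ExtSuppLib.hom0_bijective A G)).toAddCommGrpIso)
      (fun {G G'} g => by
        ext φ
        exact ExtSuppLib.hom0_naturality A φ g)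
  let e : preadditiveCoyoneda.obj (Opposite.op A) ≅ InjMod.homF A ⋙ ExtSuppLib.homAbFrom X.sheaf Q :=
    e₀ ≪≫ Functor.isoWhiskerLeft (InjMod.homF A) (ExtSuppLib.globalIso X.sheaf)
  have : (ExtSuppLib.homAbFrom X.sheaf Q).Additive :=
    inferInstanceAs (SheafOfModules.toSheaf (ModSite.ringSh X.sheaf) ⋙ preadditiveCoyoneda.obj (Opposite.op Q)).Additive
  let G₀ : X.Modules ⥤ AddCommGrpCat.{u} := ExtSuppLib.homAbFrom X.sheaf Q
  have : G₀.Additive := ⟨fun {_ _ f g} => Functor.map_add (F := ExtSuppLib.homAbFrom X.sheaf Q) (f := f) (g := g)⟩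
  let ee : preadditiveCoyoneda.obj (Opposite.op A) ≅ InjMod.homF A ⋙ G₀ := e
  let e' : InjMod.homF A ≅ DCoh.sheafHom A :=
    conjugateIsoEquiv (InjMod.homAdj A) (DCoh.sheafHomAdj A) ((KFlat.tensorBiFlipIso (O := X.sheaf)).app A).symm
  obtain ⟨e₁⟩ := SiteCoh.ExtDerived.nonempty_rightDerived_iso (A := X.Modules) A B p
  obtain ⟨e₂⟩ := ExtSuppLib.nonempty_rightDerived_homAbFrom (O := X.sheaf) hQ ((DCoh.sheafHom A).obj B) p
  exact ⟨(e₁.symm ≪≫ (ExtSuppLib.rightDerivedMapIso ee p).app B ≪≫
    DerFun.rightDerivedCompIso (InjMod.homF A) G₀ p B ≪≫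
    (G₀.rightDerived p).mapIso (e'.app B) ≪≫ e₂).addCommGroupIsoToAddEquiv⟩

end Groth.Agent.S12483
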