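import Groth.Statements.S12491
import Groth.Agent.RegLoc.Homological
import Mathlib.Algebra.Category.ModuleCat.ProjectiveDimension

set_option autoImplicit false
universe u
open VBPn

namespace Groth.Agent.S12491

open CategoryTheory in
lemma loc_shortExact {A : Type u} [CommRing A] (S : Submonoid A) {X Y Z : Type u}
    [AddCommGroup X] [Module A X] [AddCommGroup Y] [Module A Y] [AddCommGroup Z] [Module A Z]
    (f : X →ₗ[A] Y) (g : Y →ₗ[A] Z) (hf : Function.Injective f) (hg : Function.Surjective g)
    (hfg : Function.Exact f g) (n : ℕ)
    (h₂ : HasProjectiveDimensionLT (ModuleCat.of (Localization S) (LocalizedModule S Y)) (n + 1))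
    (h₃ : HasProjectiveDimensionLT (ModuleCat.of (Localization S) (LocalizedModule S Z)) (n + 2)) :
    HasProjectiveDimensionLT (ModuleCat.of (Localization S) (LocalizedModule S X)) (n + 1) := by
  have e : Function.Exact (LocalizedModule.map S f) (LocalizedModule.map S g) :=
    LocalizedModule.map_exact S f g hfg
  let sc : ShortComplex (ModuleCat.{u} (Localization S)) :=
    ShortComplex.mk (ModuleCat.ofHom (LocalizedModule.map S f)) (ModuleCat.ofHom (LocalizedModule.map S g))
      (ModuleCat.hom_ext e.linearMap_comp_eq_zero)
  have hse : sc.ShortExact :=
    { exact := (ShortComplex.ShortExact.moduleCat_exact_iff_function_exact _).2 e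
      mono_f := (ModuleCat.mono_iff_injective _).2 (LocalizedModule.map_injective S f hf)
      epi_g := (ModuleCat.epi_iff_surjective _).2 (LocalizedModule.map_surjective S g hg) }
  exact hse.hasProjectiveDimensionLT_X₁ (n + 1) h₂ h₃

/-- Let A be a regular local ring, k ≥ 0, and N_0, N_1, … A-modules with N_0 finitely generated and N_1,
…, N_k finitely generated and free, with linear maps d_i : N_i → N_{i+1} such that d_0 is injective
and the sequence 0 → N_0 → N_1 → ⋯ → N_k is exact. Then for every prime ideal p of A of height at
most k the localization of N_0 at p is a free module over A_p. The published statement is for a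
coherent analytic sheaf on a complex manifold that is locally a k-th syzygy sheaf and says its set
of non-free stalks has codimension greater than k; this row is the statement at one stalk, over any
regular local ring. -/
theorem result (A : Type u) [CommRing A] [IsRegularLocalRing A]
    (k : ℕ) (N : ℕ → Type u) [∀ i, AddCommGroup (N i)] [∀ i, Module A (N i)] [Module.Finite A (N 0)]
    (hfree : ∀ i, 1 ≤ i → i ≤ k → Module.Free A (N i) ∧ Module.Finite A (N i))
    (d : ∀ i, N i →ₗ[A] N (i + 1)) (hinj : Function.Injective (d 0))
    (hex : ∀ i, i + 1 < k → LinearMap.range (d i) = LinearMap.ker (d (i + 1)))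
    (p : Ideal A) [p.IsPrime] (hp : p.height ≤ k) :
    Module.Free (Localization.AtPrime p) (LocalizedModule p.primeCompl (N 0)) := by
  have := RegLoc.Homological.isRegularLocalRing_localization p
  let S := p.primeCompl
  let Ap := Localization.AtPrime p
  obtain ⟨δ, hδ, -⟩ := RegLoc.exists_natCast_eq_ringKrullDim Ap
  have hδk : δ ≤ k := by
    rw [IsLocalization.AtPrime.ringKrullDim_eq_height p Ap] at hδ
    have h2 : ((p.height : ℕ∞) : WithBot ℕ∞) ≤ (k : WithBot ℕ∞) := by exact_mod_cast hp
    rw [hδ] at h2
    exact_mod_cast h2
  have hall : ∀ (M : Type u) [AddCommGroup M] [Module Ap M],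
      CategoryTheory.HasProjectiveDimensionLT (ModuleCat.of Ap M) (k + 1) := fun M _ _ => by
    have := RegLoc.Homological.pd_le_dim hδ M
    exact CategoryTheory.hasProjectiveDimensionLT_of_ge _ (δ + 1) (k + 1) (by omega)
  have key : ∀ j i : ℕ, i + j = k → CategoryTheory.HasProjectiveDimensionLT
      (ModuleCat.of Ap (LocalizedModule S (LinearMap.range (d i)))) (i + 1) := by
    intro j
    induction j with
    | zero => intro i hi; obtain rfl : i = k := by omega
              exact hall _
    | succ j ih =>
      intro i hi
      obtain ⟨hf1, hf2⟩ := hfree (i + 1) (by omega) (by omega)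
      have h₂ : CategoryTheory.HasProjectiveDimensionLT
          (ModuleCat.of Ap (LocalizedModule S (N (i + 1)))) (i + 1) := by
        have : Module.Free Ap (LocalizedModule S (N (i + 1))) :=
          Module.free_of_isLocalizedModule (Rₛ := Ap) S (LocalizedModule.mkLinearMap S (N (i + 1)))
        have : Module.Projective Ap (LocalizedModule S (N (i + 1))) := Module.Projective.of_free
        have : CategoryTheory.Projective (ModuleCat.of Ap (LocalizedModule S (N (i + 1)))) :=
          (IsProjective.iff_projective _).1 ‹_›
        exact CategoryTheory.hasProjectiveDimensionLT_of_ge _ 1 (i + 1) (by omega)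
      by_cases hik : i + 1 < k
      · exact loc_shortExact S (LinearMap.range (d i)).subtype (d (i + 1)).rangeRestrict
          Subtype.val_injective (LinearMap.surjective_rangeRestrict _)
          (by rw [LinearMap.exact_iff, Submodule.range_subtype, LinearMap.ker_rangeRestrict]
              exact (hex i hik).symm) i h₂ (ih (i + 1) (by omega))
      · have hik' : i + 1 = k := by omega
        refine loc_shortExact S (LinearMap.range (d i)).subtype (LinearMap.range (d i)).mkQ
          Subtype.val_injective (Submodule.mkQ_surjective _)
          (LinearMap.exact_subtype_mkQ _) i h₂ ?_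
        rw [show i + 2 = k + 1 by omega]
        exact hall _
  have h0 := key k 0 (by omega)
  have : Module.Finite A (LinearMap.range (d 0)) := inferInstance
  replace h0 : CategoryTheory.HasProjectiveDimensionLT _ 1 := h0
  rw [← CategoryTheory.projective_iff_hasProjectiveDimensionLT_one,
    ← IsProjective.iff_projective] at h0
  have : Module.Free Ap (LocalizedModule S (LinearMap.range (d 0))) :=
    Module.free_of_flat_of_isLocalRing
  exact Module.Free.of_equiv ((LinearEquiv.ofBijective (LocalizedModule.map S (d 0).rangeRestrict)
    ⟨LocalizedModule.map_injective S _ fun a b h => hinj (congrArg Subtype.val h),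
     LocalizedModule.map_surjective S _ (LinearMap.surjective_rangeRestrict _)⟩).symm)

end Groth.Agent.S12491
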