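import Groth.Statements.S12498
import Mathlib.RingTheory.Flat.Basic

set_option autoImplicit false
universe u
open Deform

namespace Groth.Agent.S12498

open TensorProduct

/-- Let k be an algebraically closed field, A a local Artinian k-algebra with residue field k, and t a
nonzero element of the maximal ideal m_A annihilated by m_A, so that A → A/tA is a small extension.
Let B be a flat A-algebra (a deformation over A of its closed fibre B_0 = B/m_A B), and σ an
A-algebra automorphism of B/tB inducing the identity on B_0. Fix an A-algebra automorphism τ of B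
inducing σ (so τ induces the identity on B_0). Then the A-algebra automorphisms η of B inducing σ
correspond bijectively to the k-derivations d of B_0 through the rule η = τ + t·d, meaning η(b) =
τ(b) + t b′ for all b ∈ B and all b′ ∈ B lifting d applied to the image of b in B_0: every such η
determines a unique d, and every d comes from some such η. (The published statement phrases the
conclusion as a free and transitive action of Der_k(B_0, B_0) on the nonempty set of lifts of σ; the
condition that σ induces the identity on B_0 is expressed here through the chosen lift τ.) -/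
theorem result
    {k : Type u} [Field k] [IsAlgClosed k]
    {A : Type u} [CommRing A] [Algebra k A] [IsLocalRing A] [IsArtinianRing A]
    (hres : ∀ a : A, ∃ c : k, a - algebraMap k A c ∈ IsLocalRing.maximalIdeal A)
    (t : A) (ht : t ∈ IsLocalRing.maximalIdeal A) (ht0 : t ≠ 0)
    (htm : ∀ a ∈ IsLocalRing.maximalIdeal A, a * t = 0)
    {B : Type u} [CommRing B] [Algebra A B] [Module.Flat A B] [Algebra k B] [IsScalarTower k A B]
    (σ : (B ⧸ Ideal.span {algebraMap A B t}) ≃ₐ[A] (B ⧸ Ideal.span {algebraMap A B t}))
    (τ : B ≃ₐ[A] B)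
    (hτ : ∀ b : B, Ideal.Quotient.mk (Ideal.span {algebraMap A B t}) (τ b) =
      σ (Ideal.Quotient.mk (Ideal.span {algebraMap A B t}) b))
    (hτ0 : ∀ b : B, τ b - b ∈ (IsLocalRing.maximalIdeal A).map (algebraMap A B)) :
    (∀ η : B ≃ₐ[A] B, (∀ b : B, Ideal.Quotient.mk (Ideal.span {algebraMap A B t}) (η b) =
        σ (Ideal.Quotient.mk (Ideal.span {algebraMap A B t}) b)) →
      ∃! d : Derivation k (B ⧸ (IsLocalRing.maximalIdeal A).map (algebraMap A B))
          (B ⧸ (IsLocalRing.maximalIdeal A).map (algebraMap A B)),
        ∀ b b' : B, Ideal.Quotient.mk ((IsLocalRing.maximalIdeal A).map (algebraMap A B)) b' =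
            d (Ideal.Quotient.mk ((IsLocalRing.maximalIdeal A).map (algebraMap A B)) b) →
          η b = τ b + algebraMap A B t * b') ∧
    (∀ d : Derivation k (B ⧸ (IsLocalRing.maximalIdeal A).map (algebraMap A B))
        (B ⧸ (IsLocalRing.maximalIdeal A).map (algebraMap A B)),
      ∃ η : B ≃ₐ[A] B, (∀ b : B, Ideal.Quotient.mk (Ideal.span {algebraMap A B t}) (η b) =
          σ (Ideal.Quotient.mk (Ideal.span {algebraMap A B t}) b)) ∧
        ∀ b b' : B, Ideal.Quotient.mk ((IsLocalRing.maximalIdeal A).map (algebraMap A B)) b' =
            d (Ideal.Quotient.mk ((IsLocalRing.maximalIdeal A).map (algebraMap A B)) b) →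
          η b = τ b + algebraMap A B t * b') := by
  let M := (IsLocalRing.maximalIdeal A).map (algebraMap A B)
  let T := algebraMap A B t
  have hTM : ∀ x ∈ M, T * x = 0 := by
    intro x hx
    have : M ≤ LinearMap.ker (LinearMap.mulLeft B T) := Ideal.map_le_iff_le_comap.2 fun a ha => by
      change T * algebraMap A B a = 0
      rw [← map_mul, mul_comm, htm a ha, map_zero]
    exact this hx
  have hann : ∀ x, T * x = 0 → x ∈ M := by
    intro x hx
    have hker : LinearMap.ker (LinearMap.toSpanSingleton A A t) = IsLocalRing.maximalIdeal A := by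
      refine le_antisymm (IsLocalRing.le_maximalIdeal fun h => ht0 ?_) fun a ha => htm a ha
      have h1 : (1 : A) ∈ LinearMap.ker (LinearMap.toSpanSingleton A A t) := h ▸ Submodule.mem_top
      simpa using h1
    have hex : Function.Exact (IsLocalRing.maximalIdeal A).subtype (LinearMap.toSpanSingleton A A t) := fun a => by
      rw [← LinearMap.mem_ker, hker]
      exact ⟨fun h => ⟨⟨a, h⟩, rfl⟩, fun ⟨z, hz⟩ => hz ▸ z.2⟩
    obtain ⟨y, hy⟩ := (Module.Flat.rTensor_exact B hex ((1 : A) ⊗ₜ x)).1 (by
      rw [LinearMap.rTensor_tmul]
      apply (TensorProduct.lid A B).injective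
      simpa [Algebra.smul_def] using hx)
    have hy' : TensorProduct.lid A B (LinearMap.rTensor B (IsLocalRing.maximalIdeal A).subtype y) = x := by
      rw [hy]; simp
    rw [← hy']
    clear hy hy'
    induction y using TensorProduct.induction_on with
    | zero => simp
    | tmul a b =>
      simp only [LinearMap.rTensor_tmul, TensorProduct.lid_tmul, Algebra.smul_def]
      exact M.mul_mem_right _ (Ideal.mem_map_of_mem _ a.2)
    | add a b ha hb => rw [map_add, map_add]; exact M.add_mem ha hb
  let π := Ideal.Quotient.mkₐ k M
  have hπ : Function.Surjective π := Ideal.Quotient.mk_surjective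
  let L := Function.surjInv hπ
  have hL : ∀ z, π (L z) = z := Function.surjInv_eq hπ
  have hTeq : ∀ x y, π x = π y → T * x = T * y := fun x y h =>
    sub_eq_zero.1 (by rw [← mul_sub]; exact hTM _ (Ideal.Quotient.eq.1 h))
  have hcanc : ∀ x y, T * x = T * y → π x = π y := fun x y h =>
    Ideal.Quotient.eq.2 (hann _ (by rw [mul_sub, h, sub_self]))
  have hτT : ∀ x, τ (T * x) = T * x := fun x => by
    rw [map_mul, AlgEquiv.commutes]
    exact hTeq _ _ (Ideal.Quotient.eq.2 (hτ0 x))
  constructor
  · intro η hη
    have hmem : ∀ b, ∃ y, η b = τ b + T * y := fun b => by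
      obtain ⟨y, hy⟩ := Ideal.mem_span_singleton'.1 (Ideal.Quotient.eq.1 ((hη b).trans (hτ b).symm))
      exact ⟨y, by linear_combination -hy⟩
    choose y hy using hmem
    have hTT : T * T = 0 := hTM T (Ideal.mem_map_of_mem _ ht)
    have hyM : ∀ b ∈ M, π (y b) = 0 := by
      intro b hb
      rw [← map_zero π]
      refine hcanc _ _ ?_
      rw [mul_zero]
      suffices η b = τ b by linear_combination this - hy b
      refine Submodule.span_induction (p := fun z _ => η z = τ z) ?_ (by simp) (fun a c _ _ ha hc => by simp [ha, hc])
        (fun r z hz hzz => ?_) hb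
      · rintro _ ⟨a, -, rfl⟩; simp
      · rw [smul_eq_mul, map_mul, map_mul, hzz, hy r]
        have h0 : T * (y r * τ z) = 0 := by
          refine hTM _ (M.mul_mem_left _ ?_)
          simpa using M.add_mem (hτ0 z) hz
        linear_combination h0
    have yadd : ∀ a b, π (y (a + b)) = π (y a) + π (y b) := fun a b => by
      rw [← map_add]; refine hcanc _ _ ?_
      have := hy (a + b)
      rw [map_add, map_add] at this
      linear_combination hy a + hy b - this
    have ycong : ∀ a b, π a = π b → π (y a) = π (y b) := fun a b h => by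
      have := yadd (a - b) b
      rw [sub_add_cancel, hyM _ (Ideal.Quotient.eq.1 h), zero_add] at this
      exact this
    have yconst : ∀ r : k, π (y (algebraMap k B r)) = 0 := fun r => by
      rw [← map_zero π]; refine hcanc _ _ ?_
      have := hy (algebraMap k B r)
      rw [IsScalarTower.algebraMap_apply k A B, AlgEquiv.commutes, AlgEquiv.commutes] at this
      rw [IsScalarTower.algebraMap_apply k A B]
      linear_combination -this
    have ymul : ∀ a b, π (y (a * b)) = π a * π (y b) + π b * π (y a) := fun a b => by
      rw [← map_mul, ← map_mul, ← map_add]; refine hcanc _ _ ?_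
      have h := hy (a * b)
      rw [map_mul, map_mul, hy a, hy b] at h
      have e1 : T * ((τ a - a) * y b) = 0 := hTM _ (M.mul_mem_right _ (hτ0 a))
      have e2 : T * ((τ b - b) * y a) = 0 := hTM _ (M.mul_mem_right _ (hτ0 b))
      linear_combination -h + y a * y b * hTT + e1 + e2
    let d : Derivation k (B ⧸ M) (B ⧸ M) := Derivation.mk'
      { toFun := fun z => π (y (L z))
        map_add' := fun a b => (ycong _ (L a + L b) (by simp [hL])).trans (yadd _ _)
        map_smul' := fun r a => by
          rw [ycong (L (r • a)) (algebraMap k B r * L a) (by simp [hL, Algebra.smul_def]), ymul, yconst, hL,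
            mul_zero, add_zero, AlgHom.commutes, RingHom.id_apply, Algebra.smul_def] }
      (fun a b => by
        change π (y (L (a * b))) = a • π (y (L b)) + b • π (y (L a))
        rw [ycong (L (a * b)) (L a * L b) (by simp [hL]), ymul, hL, hL, smul_eq_mul, smul_eq_mul])
    have hd : ∀ b, d (π b) = π (y b) := fun b => ycong _ _ (hL _)
    refine ⟨d, fun b b' h => (hy b).trans ?_, fun d' hd' => Derivation.ext fun z => ?_⟩
    · exact congrArg (τ b + ·) (hTeq _ _ ((hd b).symm.trans h.symm))
    · obtain ⟨b, rfl⟩ := hπ z
      have := hd' b (L (d' (π b))) (hL _)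
      rw [hy b, add_left_cancel_iff] at this
      exact ((hd b).trans ((hcanc _ _ this).trans (hL _))).symm
  · intro d
    have mkE : ∀ d : Derivation k (B ⧸ M) (B ⧸ M), ∃ e : B →ₐ[A] B, ∀ b, e b = b + T * L (d (π b)) := fun d =>
      ⟨{ toFun := fun b => b + T * L (d (π b))
         map_one' := by
          rw [map_one, Derivation.map_one_eq_zero, hTeq (L 0) 0 (by simp [hL]), mul_zero, add_zero]
         map_mul' := fun a b => by
          rw [hTeq (L (d (π (a * b)))) (a * L (d (π b)) + b * L (d (π a))) (by simp [hL, Derivation.leibniz])]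
          linear_combination -(L (d (π a)) * L (d (π b))) * hTM T (Ideal.mem_map_of_mem _ ht)
         map_zero' := by
          rw [map_zero, map_zero, hTeq (L 0) 0 (by simp [hL]), mul_zero, add_zero]
         map_add' := fun a b => by
          rw [hTeq (L (d (π (a + b)))) (L (d (π a)) + L (d (π b))) (by simp [hL])]
          ring
         commutes' := fun a => by
          obtain ⟨r, hr⟩ := hres a
          have : π (algebraMap A B a) = algebraMap k (B ⧸ M) r := by
            rw [← π.commutes r, IsScalarTower.algebraMap_apply k A B]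
            exact Ideal.Quotient.eq.2 (by rw [← map_sub]; exact Ideal.mem_map_of_mem _ hr)
          rw [this, Derivation.map_algebraMap, hTeq (L 0) 0 (by simp [hL]), mul_zero, add_zero] }, fun b => rfl⟩
    choose e he using mkE
    have hπe : ∀ (d : Derivation k (B ⧸ M) (B ⧸ M)) b, π (e d b) = π b := fun d b => by
      rw [he, map_add, map_mul]
      have : π T = 0 := Ideal.Quotient.eq_zero_iff_mem.2 (Ideal.mem_map_of_mem _ ht)
      rw [this, zero_mul, add_zero]
    have inv : ∀ d : Derivation k (B ⧸ M) (B ⧸ M), ∀ b, e (-d) (e d b) = b := fun d b => by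
      rw [he (-d), hπe, he d, Derivation.neg_apply, hTeq (L (-d (π b))) (-L (d (π b))) (by simp [hL])]
      ring
    let E : B ≃ₐ[A] B := AlgEquiv.ofAlgHom (e d) (e (-d))
      (AlgHom.ext fun b => by have := inv (-d) b; rwa [neg_neg] at this) (AlgHom.ext (inv d))
    have hE : ∀ b, (E.trans τ) b = τ b + T * L (d (π b)) := fun b => by
      change τ (e d b) = _
      rw [he, map_add, hτT]
    refine ⟨E.trans τ, fun b => ?_, fun b b' h => ?_⟩
    · rw [← hτ b]
      exact Ideal.Quotient.eq.2 (Ideal.mem_span_singleton'.2 ⟨L (d (π b)), by rw [hE]; ring⟩)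
    · rw [hE]
      exact congrArg (τ b + ·) (hTeq _ _ ((hL _).trans h.symm))

end Groth.Agent.S12498
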