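import Groth.Statements.S1250
import Groth.Agent.HP.DevStep
import Groth.Agent.FlatOpen.Slice
import Groth.Agent.FlatMor.FlatAtBC
import Groth.Agent.FDesc.Algebra
import Mathlib.RingTheory.Unramified.Finite
import Mathlib.RingTheory.Etale.Basic
import Mathlib.RingTheory.Smooth.Flat
import Mathlib.RingTheory.Spectrum.Prime.ChevalleyComplexity


set_option autoImplicit false
universe u
open FlatMor

namespace Groth.Agent.S1250


open TensorProduct

variable {R S : Type u} [CommRing R] [CommRing S] [Algebra R S]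

theorem flatAt_congr {M N : Type u} [AddCommGroup M] [Module S M] [Module R M] [IsScalarTower R S M]
    [AddCommGroup N] [Module S N] [Module R N] [IsScalarTower R S N] (E : M ≃ₗ[S] N) (P : Ideal S)
    [P.IsPrime] : FlatCA.FlatAt R P M ↔ FlatCA.FlatAt R P N := by
  let g := (LocalizedModule.mkLinearMap P.primeCompl N).comp E.toLinearMap
  have : IsLocalizedModule P.primeCompl g := IsLocalizedModule.of_linearEquiv_right _ _ E
  let e := (IsLocalizedModule.linearEquiv P.primeCompl g
    (LocalizedModule.mkLinearMap P.primeCompl M)).restrictScalars R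
  exact ⟨fun h => haveI : Module.Flat R (LocalizedModule P.primeCompl M) := h; Module.Flat.of_linearEquiv e,
    fun h => haveI : Module.Flat R (LocalizedModule P.primeCompl N) := h; Module.Flat.of_linearEquiv e.symm⟩

theorem flatAt_of_flat_away {M : Type u} [AddCommGroup M] [Module S M] [Module R M] [IsScalarTower R S M]
    (g : S) (h : Module.Flat R (LocalizedModule (Submonoid.powers g) M)) (P : Ideal S) [P.IsPrime]
    (hg : g ∉ P) : FlatCA.FlatAt R P M := by
  let L := Localization.AtPrime P
  haveI : Module.Flat S L := IsLocalization.flat L P.primeCompl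
  haveI := FlatMor.FlatAtBC.flat_tensor R S L (LocalizedModule (Submonoid.powers g) M)
  have hu : ∀ t : Submonoid.powers g, IsUnit (algebraMap S L t) := fun t => by
    obtain ⟨k, hk⟩ := t.2
    refine IsLocalization.map_units L (⟨t, ?_⟩ : P.primeCompl)
    intro ht
    exact hg (‹P.IsPrime›.mem_of_pow_mem k ((show g ^ k = (t : S) from hk).symm ▸ ht))
  exact Module.Flat.of_linearEquiv (((LocalizedModule.equivTensorProduct P.primeCompl M) ≪≫ₗ
    FlatMor.FlatAtBC.tensorLocalizedEquiv (Submonoid.powers g) L hu M).restrictScalars R)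

theorem flatAt_etale_iff {S' : Type u} [CommRing S'] [Algebra S S'] [Algebra R S'] [IsScalarTower R S S']
    [Module.Flat S S'] {M M' : Type u} [AddCommGroup M] [Module S M] [Module R M] [IsScalarTower R S M]
    [AddCommGroup M'] [Module S' M'] [Module S M'] [IsScalarTower S S' M'] [Module R M'] [IsScalarTower R S' M']
    (f : M →ₗ[S] M') (hf : IsBaseChange S' f) (q : Ideal S) [q.IsPrime] (q' : Ideal S') [q'.IsPrime]
    [q'.LiesOver q] : FlatCA.FlatAt R q M ↔ FlatCA.FlatAt R q' M' := by
  let P := Localization.AtPrime q'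
  haveI : Module.Flat S' P := IsLocalization.flat P q'.primeCompl
  haveI : Module.Flat S P := Module.Flat.trans S S' P
  have hu : ∀ t : q.primeCompl, IsUnit (algebraMap S P t) := fun t => by
    rw [IsScalarTower.algebraMap_apply S S' P]
    refine IsLocalization.map_units P (⟨algebraMap S S' t, ?_⟩ : q'.primeCompl)
    intro hm
    exact t.2 ((Ideal.mem_of_liesOver q' q _).mpr hm)
  let e : LocalizedModule q'.primeCompl M' ≃ₗ[P] P ⊗[S] LocalizedModule q.primeCompl M :=
    (LocalizedModule.equivTensorProduct q'.primeCompl M') ≪≫ₗ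
    AlgebraTensorModule.congr (LinearEquiv.refl P P) hf.equiv.symm ≪≫ₗ
    AlgebraTensorModule.cancelBaseChange S S' P P M ≪≫ₗ
    FlatMor.FlatAtBC.tensorLocalizedEquiv q.primeCompl P hu M
  constructor
  · intro h
    haveI : Module.Flat R (LocalizedModule q.primeCompl M) := h
    haveI := FlatMor.FlatAtBC.flat_tensor R S P (LocalizedModule q.primeCompl M)
    exact Module.Flat.of_linearEquiv (e.restrictScalars R)
  · intro h
    haveI : Module.Flat R (LocalizedModule q'.primeCompl M') := h
    let A := Localization.AtPrime q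
    letI : Algebra A P := Localization.AtPrime.algebraOfLiesOver q q'
    haveI : IsLocalHom (algebraMap A P) := by
      rw [RingHom.algebraMap_toAlgebra]
      exact Localization.isLocalHom_localRingHom q q' (algebraMap S S') Ideal.LiesOver.over
    haveI : Module.FaithfullyFlat A P := Module.FaithfullyFlat.of_flat_of_isLocalHom
    let e₂ : P ⊗[S] LocalizedModule q.primeCompl M ≃ₗ[R] P ⊗[A] LocalizedModule q.primeCompl M :=
      ((TensorProduct.equivOfCompatibleSMul S A P P (LocalizedModule q.primeCompl M)).restrictScalars R).symm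
    haveI : Module.Flat R (P ⊗[A] LocalizedModule q.primeCompl M) :=
      Module.Flat.of_linearEquiv ((e.restrictScalars R).trans e₂).symm
    exact FDesc.Algebra.flat_of_faithfullyFlat_baseChange (A := R) (B := A) (C := P)
      (LocalizedModule q.primeCompl M)

theorem flatAt_base_etale {R' S' : Type u} [CommRing R'] [Algebra R R'] [Algebra.Etale R R'] [CommRing S']
    [Algebra R' S'] [Algebra R S'] [IsScalarTower R R' S'] {M : Type u} [AddCommGroup M] [Module S' M]
    [Module R M] [IsScalarTower R S' M] [Module R' M] [IsScalarTower R' S' M] (P : Ideal S') [P.IsPrime] :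
    FlatCA.FlatAt R' P M ↔ FlatCA.FlatAt R P M := by
  haveI : Module.Flat R R' := inferInstance
  haveI : IsScalarTower R R' (LocalizedModule P.primeCompl M) :=
    IsScalarTower.of_algebraMap_smul fun a x => by
      rw [← IsScalarTower.algebraMap_smul S' (algebraMap R R' a) x, ← IsScalarTower.algebraMap_apply,
        IsScalarTower.algebraMap_smul]
  exact ⟨fun h => haveI : Module.Flat R' (LocalizedModule P.primeCompl M) := h; Module.Flat.trans R R' _,
    fun h => haveI : Module.Flat R (LocalizedModule P.primeCompl M) := h;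
      Algebra.FormallyUnramified.flat_of_restrictScalars R R' _⟩

theorem flatAt_of_annihilator {M : Type u} [AddCommGroup M] [Module S M] [Module R M] [IsScalarTower R S M]
    (P : Ideal S) [P.IsPrime] (t : S) (ht : t ∉ P) (h : ∀ x : M, t • x = 0) : FlatCA.FlatAt R P M := by
  haveI : Subsingleton (LocalizedModule P.primeCompl M) := by
    rw [LocalizedModule.subsingleton_iff]
    exact fun x => ⟨t, ht, h x⟩
  exact inferInstanceAs (Module.Flat R (LocalizedModule P.primeCompl M))

theorem flat_away_restrict_iff {D : Type u} [CommRing D] [Algebra R D] [Algebra D S] [IsScalarTower R D S]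
    {M : Type u} [AddCommGroup M] [Module S M] [Module D M] [IsScalarTower D S M] [Module R M]
    [IsScalarTower R S M] [IsScalarTower R D M] (d : D) :
    Module.Flat R (LocalizedModule (Submonoid.powers d) M) ↔
      Module.Flat R (LocalizedModule (Submonoid.powers (algebraMap D S d)) M) := by
  let f := LocalizedModule.mkLinearMap (Submonoid.powers (algebraMap D S d)) M
  haveI : IsLocalizedModule (Submonoid.powers d) (f.restrictScalars D) :=
    IsLocalizedModule.restrictScalars_powers d f
  let e := (IsLocalizedModule.iso (Submonoid.powers d) (f.restrictScalars D)).restrictScalars R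
  exact ⟨fun h => Module.Flat.of_linearEquiv e.symm, fun h => Module.Flat.of_linearEquiv e⟩

/-- Given an elementary dévissage E of N at q over p in dimension n, the following are equivalent: N_q
is flat over R; G_z is flat over R'; G_y (G viewed as a D-module) is flat over R'. Also equivalent
to each other: N becomes flat over R on some basic open D(g) ∋ q of Spec S; G becomes flat over R'
on some basic open of Spec C containing z; G as a D-module becomes flat over R' on some basic open
of Spec D containing y. -/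
theorem result {R S : Type u} [CommRing R] [CommRing S] [Algebra R S] [Algebra.FiniteType R S]
    (N : Type u) [AddCommGroup N] [Module S N] [Module R N] [IsScalarTower R S N] [Module.Finite S N]
    (p : Ideal R) [p.IsPrime] (q : Ideal S) [q.IsPrime] [q.LiesOver p] (n : ℕ) (E : FlatCA.ElemDevissage R S N p q n) :
    [FlatCA.FlatAt R q N, FlatCA.FlatAt E.R' E.z E.G, FlatCA.FlatAt E.R' E.y E.G].TFAE ∧
    [∃ g : S, g ∉ q ∧ Module.Flat R (LocalizedModule (Submonoid.powers g) N),
     ∃ g : E.C, g ∉ E.z ∧ Module.Flat E.R' (LocalizedModule (Submonoid.powers g) E.G),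
     ∃ g : E.D, g ∉ E.y ∧ Module.Flat E.R' (LocalizedModule (Submonoid.powers g) E.G)].TFAE := by
  obtain ⟨hR, -⟩ := E.etaleR
  obtain ⟨hS, hq'q, -⟩ := E.etaleS
  haveI := hR
  haveI := hS
  haveI := hq'q
  haveI := E.finiteDC
  letI : Module E.R' E.N' := Module.compHom E.N' (algebraMap E.R' E.S')
  haveI : IsScalarTower E.R' E.S' E.N' := IsScalarTower.of_algebraMap_smul fun _ _ => rfl
  letI : Module R E.N' := Module.compHom E.N' (algebraMap R E.S')
  haveI : IsScalarTower R E.S' E.N' := IsScalarTower.of_algebraMap_smul fun _ _ => rfl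
  haveI : Module.Finite E.S' E.C := Module.Finite.of_surjective (Algebra.linearMap E.S' E.C) E.surjC
  haveI : IsScalarTower E.R' E.S' E.G := IsScalarTower.of_algebraMap_smul fun a x => by
    rw [← IsScalarTower.algebraMap_smul E.C (algebraMap E.R' E.S' a) x, ← IsScalarTower.algebraMap_apply,
      IsScalarTower.algebraMap_smul]
  -- pointwise comparison
  have hSC : ∀ (Q : Ideal E.C) [Q.IsPrime] (Q' : Ideal E.S') [Q'.IsPrime] [Q.LiesOver Q'],
      FlatCA.FlatAt E.R' Q E.G ↔ FlatCA.FlatAt E.R' Q' E.N' := fun Q _ Q' _ _ => by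
    rw [flatAt_congr (R := E.R') E.iso Q']
    refine HP.DevStep.flatAt_iff_of_unique Q' Q (fun Q₂ _ hQ₂ => ?_) E.G
    apply Ideal.comap_injective_of_surjective _ E.surjC
    exact hQ₂.over.symm.trans (‹Q.LiesOver Q'›).over
  have hSS : ∀ (Q : Ideal S) [Q.IsPrime] (Q' : Ideal E.S') [Q'.IsPrime] [Q'.LiesOver Q],
      FlatCA.FlatAt R Q N ↔ FlatCA.FlatAt E.R' Q' E.N' := fun Q _ Q' _ _ =>
    (flatAt_etale_iff E.f E.isBaseChange Q Q').trans (flatAt_base_etale Q').symm
  refine ⟨?_, ?_⟩
  · have h1 : FlatCA.FlatAt R q N ↔ FlatCA.FlatAt E.R' E.z E.G := (hSS q E.q').trans (hSC E.z E.q').symm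
    have h2 : FlatCA.FlatAt E.R' E.z E.G ↔ FlatCA.FlatAt E.R' E.y E.G :=
      HP.DevStep.flatAt_iff_of_unique E.y E.z (fun Q _ hQ => E.uniq Q hQ) E.G
    tfae_have 1 ↔ 2 := h1
    tfae_have 2 ↔ 3 := h2
    tfae_finish
  · tfae_have 1 → 2 := by
      rintro ⟨g, hg, hfl⟩
      refine ⟨algebraMap E.S' E.C (algebraMap S E.S' g), fun h => hg ?_, ?_⟩
      · exact (Ideal.mem_of_liesOver E.q' q g).mpr ((Ideal.mem_of_liesOver E.z E.q' _).mpr h)
      · refine FlatOpen.flat_of_flatAt_basicOpen (algebraMap E.S' E.C (algebraMap S E.S' g))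
          (LocalizedModule.mkLinearMap _ _) fun Q _ hQ => ?_
        let Q' := Q.under E.S'
        let Q₀ := Q'.under S
        exact (hSC Q Q').mpr ((hSS Q₀ Q').mp (flatAt_of_flat_away g hfl Q₀ hQ))
    tfae_have 2 → 1 := by
      rintro ⟨c, hc, hfl⟩
      obtain ⟨c', rfl⟩ := E.surjC c
      have hflS : ∀ (Q' : Ideal E.S') [Q'.IsPrime], c' ∉ Q' → FlatCA.FlatAt E.R' Q' E.N' := by
        intro Q' _ hQ'
        by_cases hker : RingHom.ker (algebraMap E.S' E.C) ≤ Q'
        · let Q := Q'.map (algebraMap E.S' E.C)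
          haveI : Q.IsPrime := Ideal.map_isPrime_of_surjective E.surjC hker
          have hQQ : Q.comap (algebraMap E.S' E.C) = Q' := by
            rw [Ideal.comap_map_of_surjective _ E.surjC, sup_eq_left, ← RingHom.ker_eq_comap_bot]
            exact hker
          haveI : Q.LiesOver Q' := ⟨hQQ.symm⟩
          exact (hSC Q Q').mp (flatAt_of_flat_away _ hfl Q fun h => hQ' (hQQ ▸ h))
        · obtain ⟨t, htk, ht⟩ := SetLike.not_le_iff_exists.mp hker
          refine flatAt_of_annihilator Q' t ht fun x => E.iso.injective ?_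
          rw [map_smul, map_zero, ← IsScalarTower.algebraMap_smul E.C t, (RingHom.mem_ker).mp htk, zero_smul]
      have hopen : IsOpen (PrimeSpectrum.comap (algebraMap S E.S') '' (PrimeSpectrum.basicOpen c' : Set _)) :=
        PrimeSpectrum.isOpenMap_comap_of_hasGoingDown_of_finitePresentation _ (PrimeSpectrum.isOpen_basicOpen)
      have hqm : (⟨q, inferInstance⟩ : PrimeSpectrum S) ∈
          PrimeSpectrum.comap (algebraMap S E.S') '' (PrimeSpectrum.basicOpen c' : Set _) :=
        ⟨⟨E.q', inferInstance⟩, fun h => hc ((Ideal.mem_of_liesOver E.z E.q' c').mp h),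
          PrimeSpectrum.ext (Ideal.LiesOver.over (p := q) (P := E.q')).symm⟩
      obtain ⟨-, ⟨_, ⟨g, rfl⟩, rfl⟩, hgq, hg⟩ :=
        PrimeSpectrum.isBasis_basic_opens.exists_subset_of_mem_open hqm hopen
      refine ⟨g, hgq, FlatOpen.flat_of_flatAt_basicOpen g (LocalizedModule.mkLinearMap _ _) fun Q hQP hQ => ?_⟩
      obtain ⟨Q', hQ'c, hQ'Q⟩ := hg (show (⟨Q, hQP⟩ : PrimeSpectrum S) ∈ PrimeSpectrum.basicOpen g from hQ)
      haveI : Q'.asIdeal.LiesOver Q := ⟨(congrArg PrimeSpectrum.asIdeal hQ'Q).symm⟩
      exact (hSS Q Q'.asIdeal).mpr (hflS Q'.asIdeal hQ'c)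
    tfae_have 3 → 2 := by
      rintro ⟨d, hd, hfl⟩
      exact ⟨algebraMap E.D E.C d, fun h => hd ((Ideal.mem_of_liesOver E.z E.y d).mpr h),
        (flat_away_restrict_iff (S := E.C) d).mp hfl⟩
    tfae_have 2 → 3 := by
      rintro ⟨c, hc, hfl⟩
      have hint : (algebraMap E.D E.C).IsIntegral := fun x => (Algebra.IsIntegral.of_finite E.D E.C).isIntegral x
      have hcl : IsClosed (PrimeSpectrum.comap (algebraMap E.D E.C) '' PrimeSpectrum.zeroLocus {c}) :=
        PrimeSpectrum.isClosedMap_comap_of_isIntegral _ hint _ (PrimeSpectrum.isClosed_zeroLocus _)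
      have hy : (⟨E.y, inferInstance⟩ : PrimeSpectrum E.D) ∈
          (PrimeSpectrum.comap (algebraMap E.D E.C) '' PrimeSpectrum.zeroLocus {c})ᶜ := by
        rintro ⟨Q, hQ, hQy⟩
        haveI : Q.asIdeal.LiesOver E.y := ⟨(congrArg PrimeSpectrum.asIdeal hQy).symm⟩
        exact hc (E.uniq Q.asIdeal inferInstance ▸ hQ (Set.mem_singleton c))
      obtain ⟨-, ⟨_, ⟨d, rfl⟩, rfl⟩, hdy, hd⟩ :=
        PrimeSpectrum.isBasis_basic_opens.exists_subset_of_mem_open hy hcl.isOpen_compl
      refine ⟨d, hdy, (flat_away_restrict_iff (S := E.C) d).mpr ?_⟩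
      refine FlatOpen.flat_of_flatAt_basicOpen (algebraMap E.D E.C d) (LocalizedModule.mkLinearMap _ _)
        fun Q hQP hQ => flatAt_of_flat_away c hfl Q fun hcQ => ?_
      exact hd (show PrimeSpectrum.comap (algebraMap E.D E.C) ⟨Q, hQP⟩ ∈ PrimeSpectrum.basicOpen d from hQ)
        ⟨⟨Q, hQP⟩, Set.singleton_subset_iff.mpr hcQ, rfl⟩
    tfae_finish

end Groth.Agent.S1250
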