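import Groth.Statements.S12500
import Groth.Agent.S7976
import Groth.Agent.UnipLib.Scheme
import Groth.Agent.RedPts.Basic
import Groth.Agent.AffGrp.Bridge
import Groth.Agent.DimOneAmple.AffineCurve
import Groth.Agent.GrpScheme.AVComm
import Groth.Agent.FBase.BC

set_option autoImplicit false
universe u
set_option backward.isDefEq.respectTransparency false
set_option backward.isDefEq.respectTransparency.types false
set_option maxHeartbeats 1000000
open CategoryTheory AlgebraicGeometry
open Neron

namespace Groth.Agent.S12500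

open CategoryTheory MonoidalCategory CartesianMonoidalCategory MonObj GrpObj WithConv Groth.Agent.RedPts Groth.Agent.UnipLib

attribute [local instance] Groth.Agent.UnipLib.algOf

section

variable {k : Type u} [Field k] {A : Type u} [CommRing A] [HopfAlgebra k A]
  {G : Over (Spec (CommRingCat.of k))} [GrpObj G]
  (e : (Spec (CommRingCat.of A)).asOver (Spec (CommRingCat.of k)) ≅ G) [IsMonHom e.hom]

/-- The algebra map of a point. -/
noncomputable def algT {T : Over (Spec (CommRingCat.of k))} (x : T ⟶ G) : A →ₐ[k] Γ(T.left, ⊤) where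
  toRingHom := ((Scheme.ΓSpecIso (CommRingCat.of A)).inv ≫ (x ≫ e.inv).left.appTop).hom
  commutes' c := by
    let g : T.left ⟶ Spec (CommRingCat.of A) := (x ≫ e.inv).left
    have hg : g ≫ Spec.map (CommRingCat.ofHom (algebraMap k A)) = T.hom := Over.w (x ≫ e.inv)
    show (CommRingCat.ofHom (algebraMap k A) ≫ (Scheme.ΓSpecIso (CommRingCat.of A)).inv ≫ g.appTop) c =
      ((Scheme.ΓSpecIso (CommRingCat.of k)).inv ≫ T.hom.appTop) c
    rw [Scheme.ΓSpecIso_inv_naturality_assoc, ← Scheme.Hom.comp_appTop, hg]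

theorem ptHom_algT {T : Over (Spec (CommRingCat.of k))} (x : T ⟶ G) :
    ptHom T (toConv (algT e x)) = x ≫ e.inv := by
  refine Over.OverMorphism.ext (ext_of_isAffine (Y := Spec (CommRingCat.of A)) ?_)
  rw [← cancel_epi (Scheme.ΓSpecIso (CommRingCat.of A)).inv]
  exact ptHom_appTop T (toConv (algT e x))

theorem algT_mul {T : Over (Spec (CommRingCat.of k))} (x y : T ⟶ G) :
    algT e (x * y) = (toConv (algT e x) * toConv (algT e y)).ofConv := by
  refine congrArg WithConv.ofConv (ptHom_injective T (a₁ := toConv (algT e (x * y))) ?_)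
  rw [ptHom_mul, ptHom_algT, ptHom_algT, ptHom_algT, MonObj.mul_comp]

theorem algT_bijective (T : Over (Spec (CommRingCat.of k))) :
    Function.Bijective (algT e (T := T)) := by
  refine ⟨fun x y h => ?_, fun f => ⟨ptHom T (toConv f) ≫ e.hom, ?_⟩⟩
  · rw [← cancel_mono e.inv, ← ptHom_algT, ← ptHom_algT, h]
  · refine congrArg WithConv.ofConv (ptHom_injective T (a₁ := toConv _) (a₂ := toConv f) ?_)
    exact (ptHom_algT e _).trans (by rw [Category.assoc, e.hom_inv_id, Category.comp_id])

/-- A homomorphism bijective on points is an isomorphism of groups. -/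
theorem nonempty_iso {H : Over (Spec (CommRingCat.of k))} [GrpObj H] (F : ∀ T, (T ⟶ G) → (T ⟶ H))
    (hb : ∀ T, Function.Bijective (F T)) (hn : ∀ (T T') (h : T' ⟶ T) (x : T ⟶ G), F T' (h ≫ x) = h ≫ F T x)
    (hm : ∀ T (x y : T ⟶ G), F T (x * y) = F T x * F T y) : Nonempty (Grp.mk G ≅ Grp.mk H) := by
  let φ : G ⟶ H := F G (𝟙 G)
  have hφ : ∀ T (x : T ⟶ G), x ≫ φ = F T x := fun T x => by rw [← hn, Category.comp_id]
  obtain ⟨ψ, hψ⟩ := (hb H).2 (𝟙 H)
  have h1 : ψ ≫ φ = 𝟙 H := (hφ H ψ).trans hψ
  have h2 : φ ≫ ψ = 𝟙 G := (hb G).1 (by rw [← hφ G (φ ≫ ψ), Category.assoc, h1, Category.comp_id])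
  have hone : η[G] ≫ φ = η[H] := by
    have h : F (𝟙_ _) 1 = F (𝟙_ _) 1 * F (𝟙_ _) 1 := by rw [← hm, _root_.mul_one]
    rw [one_eq_one, hφ, one_eq_one]
    exact left_eq_mul.1 h
  have hmul : μ[G] ≫ φ = (φ ⊗ₘ φ) ≫ μ[H] := by
    rw [MonObj.mul_eq_mul, hφ, hm, ← hφ, ← hφ, MonObj.mul_eq_mul, MonObj.comp_mul, tensorHom_fst, tensorHom_snd]
  let i : G ≅ H := ⟨φ, ψ, h2, h1⟩
  have : IsMonHom i.hom := ⟨hone, hmul⟩
  exact ⟨Grp.mkIso' i⟩

include e in
theorem nonempty_ga (f : A ≃ₐc[k] SymmetricAlgebra k k) :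
    Nonempty (Grp.mk G ≅ Grp.mk (Red.Ga (Spec (CommRingCat.of k)))) := by
  let v : A := f.symm (SymmetricAlgebra.ι k k 1)
  have hv : Coalgebra.comul (R := k) v = v ⊗ₜ 1 + 1 ⊗ₜ v := by
    have h := CoalgHomClass.map_comp_comul_apply f.symm (SymmetricAlgebra.ι k k 1)
    rw [SymmetricAlgebra.comul_ι, map_add, TensorProduct.map_tmul, TensorProduct.map_tmul] at h
    simpa [v] using h.symm
  have hval : ∀ (T : Over (Spec (CommRingCat.of k))), Function.Bijective fun a : A →ₐ[k] Γ(T.left, ⊤) => a v := fun T => by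
    let fa : SymmetricAlgebra k k ≃ₐ[k] A := f.symm.toAlgEquiv
    refine ⟨fun a b h => ?_, fun c => ⟨(SymmetricAlgebra.lift (LinearMap.toSpanSingleton k _ c)).comp fa.symm.toAlgHom, ?_⟩⟩
    · have h' : a.comp fa.toAlgHom = b.comp fa.toAlgHom := by
        refine SymmetricAlgebra.algHom_ext (LinearMap.ext_ring ?_)
        exact h
      refine AlgHom.ext fun z => ?_
      simpa using DFunLike.congr_fun h' (fa.symm z)
    · show SymmetricAlgebra.lift _ (fa.symm (fa (SymmetricAlgebra.ι k k 1))) = c
      rw [AlgEquiv.symm_apply_apply, SymmetricAlgebra.lift_ι_apply, LinearMap.toSpanSingleton_apply, one_smul]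
  let F : ∀ T, (T ⟶ G) → (T ⟶ Red.Ga (Spec (CommRingCat.of k))) := fun T x =>
    (ga_surjective (X := T) (algT e x v)).choose
  have hF : ∀ T (x : T ⟶ G), Red.gaFn (F T x) = algT e x v := fun T x => (ga_surjective (X := T) (algT e x v)).choose_spec
  refine nonempty_iso F (fun T => ⟨fun x y h => ?_, fun y => ?_⟩) (fun T T' h x => ga_injective ?_) (fun T x y => ga_injective ?_)
  · exact (algT_bijective e T).1 ((hval T).1 (((hF T x).symm.trans (congrArg Red.gaFn h)).trans (hF T y)))
  · obtain ⟨x, hx⟩ := ((hval T).comp (algT_bijective e T)).2 (Red.gaFn y)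
    exact ⟨x, ga_injective ((hF T x).trans hx)⟩
  · rw [hF, ga_comp, hF]; rfl
  · rw [hF, ga_mul, hF, hF, algT_mul, AlgHom.convMul_apply, hv]
    simp

include e in
theorem nonempty_gm (f : A ≃ₐc[k] MonoidAlgebra k (Multiplicative ℤ)) :
    Nonempty (Grp.mk G ≅ Grp.mk (Red.Gm (Spec (CommRingCat.of k)))) := by
  let s : MonoidAlgebra k (Multiplicative ℤ) := MonoidAlgebra.single (Multiplicative.ofAdd 1) 1
  let v : A := f.symm s
  have hv : Coalgebra.comul (R := k) v = v ⊗ₜ v := by
    have h := CoalgHomClass.map_comp_comul_apply f.symm s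
    simpa [v, s] using h.symm
  have hu : IsUnit v := by
    exact IsUnit.map f.symm.toAlgEquiv.toAlgHom
      (IsUnit.map (MonoidAlgebra.of k (Multiplicative ℤ)) (Group.isUnit (Multiplicative.ofAdd (1 : ℤ))))
  let fa : MonoidAlgebra k (Multiplicative ℤ) ≃ₐ[k] A := f.symm.toAlgEquiv
  have hinj : ∀ (T : Over (Spec (CommRingCat.of k))) (a b : A →ₐ[k] Γ(T.left, ⊤)), a v = b v → a = b := fun T a b h => by
    have h' : a.comp fa.toAlgHom = b.comp fa.toAlgHom := by
      apply MonoidAlgebra.algHom_ext'
      · exact MonoidHom.ext_mint h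
      · exact Subsingleton.elim _ _
    refine AlgHom.ext fun z => ?_
    simpa using DFunLike.congr_fun h' (fa.symm z)
  let F : ∀ T, (T ⟶ G) → (T ⟶ Red.Gm (Spec (CommRingCat.of k))) := fun T x =>
    (gm_surjective (X := T) (hu.map (algT e x))).choose
  have hF : ∀ T (x : T ⟶ G), Red.gmFn (F T x) = algT e x v := fun T x =>
    (gm_surjective (X := T) (hu.map (algT e x))).choose_spec
  refine nonempty_iso F (fun T => ⟨fun x y h => ?_, fun y => ?_⟩) (fun T T' h x => gm_injective ?_) (fun T x y => gm_injective ?_)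
  · exact (algT_bijective e T).1 (hinj T _ _ (((hF T x).symm.trans (congrArg Red.gmFn h)).trans (hF T y)))
  · let a : A →ₐ[k] Γ(T.left, ⊤) := (MonoidAlgebra.lift k Γ(T.left, ⊤) (Multiplicative ℤ)
      ((Units.coeHom _).comp (zpowersHom _ (gm_isUnit y).unit))).comp fa.symm.toAlgHom
    obtain ⟨x, hx⟩ := (algT_bijective e T).2 a
    refine ⟨x, gm_injective ((hF T x).trans ?_)⟩
    rw [hx]
    show MonoidAlgebra.lift _ _ _ _ (fa.symm (fa s)) = _
    simp [s]
  · rw [hF, gm_comp, hF]; rfl
  · rw [hF, gm_mul, hF, hF, algT_mul, AlgHom.convMul_apply, hv]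
    simp

end

/-- Let k be an algebraically closed field and G a k-group scheme whose underlying scheme is integral,
separated and of finite type over k and has dimension one. Then either G is isomorphic to G_a as a
k-group scheme, or G is isomorphic to G_m as a k-group scheme, or G is proper over k and its group
law is commutative. (The published third alternative says G is an elliptic curve, i.e. a smooth
proper curve of genus one whose group-variety law is the elliptic-curve addition with origin the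
identity; this row records properness and the commutativity that the printed proof establishes.) -/
theorem result (k : Type u) [Field k] [IsAlgClosed k]
    (G : Over (Spec (CommRingCat.of k))) [GrpObj G] [IsIntegral G.left]
    [IsSeparated G.hom] [LocallyOfFiniteType G.hom] [QuasiCompact G.hom]
    (hdim : topologicalKrullDim ↥G.left = 1) :
    Nonempty (Grp.mk G ≅ Grp.mk (Red.Ga (Spec (CommRingCat.of k)))) ∨
      Nonempty (Grp.mk G ≅ Grp.mk (Red.Gm (Spec (CommRingCat.of k)))) ∨
      (IsProper G.hom ∧ IsCommMonObj G) := by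
  letI : G.left.Over (Spec (CommRingCat.of k)) := ⟨G.hom⟩
  by_cases hp : IsProper G.hom
  · right; right
    have := FBase.BC.geometricallyReduced_of_isReduced_of_perfectField G.hom
    have := FBase.BC.geometricallyIrreducible_of_isSepClosed G.hom
    have : GeometricallyIntegral G.hom :=
      GeometricallyIntegral.of_geometricallyReduced_of_geometricallyIrreducible _
    exact ⟨hp, GrpScheme.AVComm.isCommMonObj G⟩
  · haveI : IsSeparated (G.left ↘ Spec (CommRingCat.of k)) := ‹IsSeparated G.hom›
    haveI : LocallyOfFiniteType (G.left ↘ Spec (CommRingCat.of k)) := ‹LocallyOfFiniteType G.hom›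
    haveI : QuasiCompact (G.left ↘ Spec (CommRingCat.of k)) := ‹QuasiCompact G.hom›
    haveI : IsAffine G.left := DimOneAmple.isAffine_of_not_isProper (k := k) G.left hdim.le fun _ => hp
    obtain ⟨A, hA, e, he⟩ := AffGrp.Bridge.exists_iso (R := CommRingCat.of k) G
    haveI : IsIso e.hom.left := inferInstanceAs (IsIso ((Over.forget _).map e.hom))
    haveI : Nonempty ↥(Spec A) := ⟨(inv e.hom.left).base (genericPoint G.left)⟩
    haveI hI : IsIntegral (Spec A) := isIntegral_of_isOpenImmersion e.hom.left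
    haveI : Nonempty ((⊤ : (Spec A).Opens) : Scheme) := ⟨⟨(inv e.hom.left).base (genericPoint G.left), trivial⟩⟩
    haveI : IsDomain A := MulEquiv.isDomain Γ(Spec A, ⊤) (Scheme.ΓSpecIso A).symm.commRingCatIsoToRingEquiv.toMulEquiv
    haveI : Algebra.FiniteType k A := by
      have h : LocallyOfFiniteType (Spec.map (CommRingCat.ofHom (algebraMap k A))) := by
        rw [show Spec.map (CommRingCat.ofHom (algebraMap k A)) = e.hom.left ≫ G.hom from (Over.w e.hom).symm]
        infer_instance
      exact RingHom.finiteType_algebraMap.1 ((HasRingHomProperty.Spec_iff (P := @LocallyOfFiniteType)).1 h)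
    have hdA : ringKrullDim A = 1 := by
      rw [← PrimeSpectrum.topologicalKrullDim_eq_ringKrullDim]
      exact ((Scheme.homeoOfIso (asIso e.hom.left)).isHomeomorph.topologicalKrullDim_eq _).trans hdim
    have hconn : ∀ a : A, IsIdempotentElem a → a = 0 ∨ a = 1 := fun a ha => IsIdempotentElem.iff_eq_zero_or_one.1 ha
    rcases Groth.Agent.S7976.result k A hconn hdA with ⟨⟨f⟩⟩ | ⟨⟨f⟩⟩
    · exact Or.inr (Or.inl (nonempty_gm e f))
    · exact Or.inl (nonempty_ga e f)

end Groth.Agent.S12500
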