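import Groth.Statements.S12504
import Groth.Agent.DTrunc.DerivedPushAdj
-- import your own Groth.Agent.* helpers here

set_option autoImplicit false
universe v u
open CategoryTheory CategoryTheory.Limits
attribute [local instance] HasDerivedCategory.standard
open CohDer

namespace Groth.Agent.S12504

open CategoryTheory Groth.Agent Groth.Agent.DTrunc

/-- Let A and B be abelian categories with B a Grothendieck category, F : A → B an exact additive
functor with right adjoint G, and RG : D(B) → D(A) a right derived functor of G on the unbounded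
derived categories, i.e. a functor equipped with a natural transformation α from the composite 'G
termwise on cochain complexes, then localisation' to 'localisation, then RG' that makes (RG, α) a
right derived functor with respect to quasi-isomorphisms. Then the functor D(A) → D(B) induced by F
is left adjoint to RG (existence of an adjunction; the existence of RG itself is assumed, as a
binder). -/
theorem result
    {A : Type u} [Category.{v} A] [Abelian A] {B : Type u} [Category.{v} B] [Abelian B]
    [IsGrothendieckAbelian.{v} B]
    (F : A ⥤ B) (G : B ⥤ A) (adj : F ⊣ G) [F.Additive] [G.Additive]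
    [PreservesFiniteLimits F] [PreservesFiniteColimits F]
    (RG : DerivedCategory B ⥤ DerivedCategory A)
    (α : G.mapHomologicalComplex (ComplexShape.up ℤ) ⋙ DerivedCategory.Q ⟶ DerivedCategory.Q ⋙ RG)
    [RG.IsRightDerivedFunctor α (HomologicalComplex.quasiIso B (ComplexShape.up ℤ))] :
    Nonempty (F.mapDerivedCategory ⊣ RG) := by
  let W₂ := HomotopyCategory.quasiIso B (ComplexShape.up ℤ)
  let F₀ := G.mapHomotopyCategory (ComplexShape.up ℤ) ⋙ DerivedCategory.Qh
  have hen : RightDerived.HasEnough DerivedCategory.Qh F₀ := RightDerived.hasEnough _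
  have : F₀.HasRightDerivedFunctor W₂ := hen.hasRightDerivedFunctor W₂
  let T := F₀.totalRightDerived DerivedCategory.Qh W₂
  let β : F₀ ⟶ DerivedCategory.Qh ⋙ T := F₀.totalRightDerivedUnit DerivedCategory.Qh W₂
  obtain ⟨adjT⟩ := DerivedPushAdj.nonempty_adjunction (L := F) (R := G) T β adj
  let eq : HomotopyCategory.quotient B (ComplexShape.up ℤ) ⋙ F₀ ≅
      G.mapHomologicalComplex (ComplexShape.up ℤ) ⋙ DerivedCategory.Q :=
    (Functor.associator _ _ _).symm ≪≫
      Functor.isoWhiskerRight (G.mapHomotopyCategoryFactors (ComplexShape.up ℤ)) _ ≪≫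
      Functor.associator _ _ _ ≪≫
      Functor.isoWhiskerLeft _ (DerivedCategory.quotientCompQhIso A)
  let α₁ : G.mapHomologicalComplex (ComplexShape.up ℤ) ⋙ DerivedCategory.Q ⟶
      DerivedCategory.Q ⋙ T :=
    eq.inv ≫ Functor.whiskerLeft (HomotopyCategory.quotient B (ComplexShape.up ℤ)) β ≫
      (Functor.associator _ _ _).inv ≫ Functor.whiskerRight (DerivedCategory.quotientCompQhIso B).hom T
  have : T.IsRightDerivedFunctor α₁ (HomologicalComplex.quasiIso B (ComplexShape.up ℤ)) := by
    refine RightDerived.isRightDerivedFunctor_of_isIso _ T α₁ fun X => ?_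
    obtain ⟨I, s, hI, hs, -, -⟩ := DHA.KInj.exists_resolution B X
    have := (HomologicalComplex.mem_quasiIso_iff s).1
    refine ⟨I, s, ⟨fun Y φ => ?_, fun Y g g' h => ?_⟩, inferInstance, ?_⟩
    · obtain ⟨g₀, hg₀⟩ := (CochainComplex.IsKInjective.Qh_map_bijective
        ((HomotopyCategory.quotient B (ComplexShape.up ℤ)).obj Y) I).surjective
        ((DerivedCategory.quotientCompQhIso B).hom.app Y ≫ φ ≫ (DerivedCategory.quotientCompQhIso B).inv.app I)
      obtain ⟨g, rfl⟩ := (HomotopyCategory.quotient B (ComplexShape.up ℤ)).map_surjective g₀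
      refine ⟨g, ?_⟩
      have hn := (DerivedCategory.quotientCompQhIso B).hom.naturality g
      rw [← cancel_epi ((DerivedCategory.quotientCompQhIso B).hom.app Y), ← hn]
      simp only [Functor.comp_map, hg₀]
      simp
    · have h₁ : DerivedCategory.Qh.map ((HomotopyCategory.quotient B (ComplexShape.up ℤ)).map g) =
          DerivedCategory.Qh.map ((HomotopyCategory.quotient B (ComplexShape.up ℤ)).map g') := by
        rw [← cancel_mono ((DerivedCategory.quotientCompQhIso B).hom.app I)]
        exact ((DerivedCategory.quotientCompQhIso B).hom.naturality g).trans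
          ((congrArg _ h).trans ((DerivedCategory.quotientCompQhIso B).hom.naturality g').symm)
      have h₂ := congrArg F₀.map ((CochainComplex.IsKInjective.Qh_map_bijective
        ((HomotopyCategory.quotient B (ComplexShape.up ℤ)).obj Y) I).injective h₁)
      rw [← cancel_epi (eq.hom.app Y)]
      exact (eq.hom.naturality g).symm.trans
        ((congrArg (· ≫ eq.hom.app I) h₂).trans (eq.hom.naturality g'))
    · have := hen.isIso_app (W := W₂) T β (RightDerived.isGood_quotient F₀ I)
      change IsIso (eq.inv.app I ≫ β.app _ ≫ 𝟙 _ ≫ T.map ((DerivedCategory.quotientCompQhIso B).hom.app I))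
      infer_instance
  let e : T ≅ RG := Functor.rightDerivedUnique T RG α₁ α (HomologicalComplex.quasiIso B (ComplexShape.up ℤ))
  exact ⟨adjT.ofNatIsoRight e⟩


end Groth.Agent.S12504
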