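import Groth.Statements.S12505
import Groth.Agent.KFlat.Tensor

set_option autoImplicit false
universe u
open CategoryTheory
open ModSite

namespace Groth.Agent.S12505

open CategoryTheory.MonoidalCategory in
/-- Let (C, J) be a small site and O a sheaf of commutative rings on it; for presheaves of O-modules M
and N, with u_M : M → aM and u_N : N → aN the unit maps of the sheafification adjunction (aM, aN
regarded as presheaves), the morphism a(u_M ⊗ u_N) from the sheafification of the presheaf tensor
product M ⊗_p N to the sheafification of aM ⊗_p aN is an isomorphism. -/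
theorem result {C : Type u} [SmallCategory C] {J : GrothendieckTopology C}
    (O : Sheaf J CommRingCat.{u})
    (M N : PresheafOfModules.{u} (O.obj ⋙ forget₂ CommRingCat.{u} RingCat.{u})) :
    IsIso ((ModSite.sheafify O).map
      (MonoidalCategoryStruct.tensorHom (C := PresheafOfModules.{u} (O.obj ⋙ forget₂ CommRingCat.{u} RingCat.{u}))
        ((PresheafOfModules.sheafificationAdjunction (𝟙 (ModSite.ringSh O).obj)).unit.app M)
        ((PresheafOfModules.sheafificationAdjunction (𝟙 (ModSite.ringSh O).obj)).unit.app N))) := by
  let u₁ := (Groth.Agent.KFlat.preAdj O).unit.app M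
  let u₂ := (Groth.Agent.KFlat.preAdj O).unit.app N
  have i0 : IsIso ((ModSite.shPre O).map u₁) := Groth.Agent.KFlat.isIso_shPre_map_unit M
  have i0' : IsIso ((ModSite.shPre O).map u₂) := Groth.Agent.KFlat.isIso_shPre_map_unit N
  have i1 : IsIso ((ModSite.shPre O).map (MonoidalCategory.whiskerRight u₁ N)) :=
    Groth.Agent.KFlat.isIso_shPre_whiskerRight N u₁
  have i2 : IsIso ((ModSite.shPre O).map
      (MonoidalCategory.whiskerLeft ((ModSite.toPre O).obj ((ModSite.shPre O).obj M)) u₂)) :=
    Groth.Agent.KFlat.isIso_shPre_whiskerLeft _ u₂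
  change IsIso ((ModSite.shPre O).map (MonoidalCategory.tensorHom u₁ u₂))
  rw [MonoidalCategory.tensorHom_def]
  exact ((ModSite.shPre O).map_comp _ _).symm ▸ IsIso.comp_isIso' i1 i2

end Groth.Agent.S12505
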