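import Groth.Statements.S1251
import Groth.Agent.FlatMor.FlatAtBC
import Mathlib.Algebra.Module.FinitePresentation
import Mathlib.RingTheory.Finiteness.ModuleFinitePresentation
import Mathlib.RingTheory.Finiteness.Descent
import Mathlib.RingTheory.Unramified.Finite
import Mathlib.RingTheory.Etale.Basic
import Mathlib.RingTheory.Smooth.Flat
import Mathlib.RingTheory.Ideal.GoingDown
import Mathlib.AlgebraicGeometry.Morphisms.Smooth
import Mathlib.RingTheory.Spectrum.Prime.ChevalleyComplexity


set_option autoImplicit false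
universe u
open FlatMor

namespace Groth.Agent.S1251


open TensorProduct

/-- `M` is finitely presented after localization at `T`. -/
def FP {A : Type u} [CommRing A] (T : Submonoid A) (M : Type u) [AddCommGroup M] [Module A M] : Prop :=
  Module.FinitePresentation (Localization T) (LocalizedModule T M)

theorem fp_congr {A : Type u} [CommRing A] (T : Submonoid A) {M N : Type u} [AddCommGroup M] [Module A M]
    [AddCommGroup N] [Module A N] (E : M ≃ₗ[A] N) : FP T M ↔ FP T N := by
  let g := (LocalizedModule.mkLinearMap T N).comp E.toLinearMap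
  have : IsLocalizedModule T g := IsLocalizedModule.of_linearEquiv_right _ _ E
  let e := (IsLocalizedModule.linearEquiv T g
    (LocalizedModule.mkLinearMap T M)).extendScalarsOfIsLocalization T (Localization T)
  exact e.symm.finitePresentation_iff

theorem fp_finite_algebra (B A M : Type u) [CommRing B] [CommRing A] [Algebra B A] [Module.FinitePresentation B A]
    [AddCommGroup M] [Module A M] [Module B M] [IsScalarTower B A M] :
    Module.FinitePresentation A M ↔ Module.FinitePresentation B M := by
  refine ⟨fun _ => Module.FinitePresentation.trans B M A, fun _ => ?_⟩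
  haveI : Module.Finite A M := Module.Finite.of_restrictScalars_finite B A M
  obtain ⟨n, g, hg⟩ := Module.Finite.exists_fin' A M
  obtain ⟨N, e, he⟩ := Module.Finite.exists_fin' B (Fin n → A)
  refine Module.finitePresentation_of_surjective g hg (Submodule.FG.of_restrictScalars B ?_)
  have h : (LinearMap.ker g).restrictScalars B = Submodule.map e (LinearMap.ker ((g.restrictScalars B).comp e)) := by
    rw [LinearMap.ker_comp, Submodule.map_comap_eq, LinearMap.range_eq_top.mpr he, top_inf_eq]
    rfl
  rw [h]
  exact (Module.FinitePresentation.fg_ker ((g.restrictScalars B).comp e)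
    (show Function.Surjective (fun v => g (e v)) from hg.comp he)).map e

section Restrict

variable {B A : Type u} [CommRing B] [CommRing A] [Algebra B A] (T : Submonoid B) (U : Submonoid A)

theorem isLocalizedModule_restrict (hTU : ∀ c ∈ T, algebraMap B A c ∈ U)
    (hdiv : ∀ v ∈ U, ∃ w : A, ∃ c ∈ T, v * w = algebraMap B A c)
    (G : Type u) [AddCommGroup G] [Module A G] [Module B G] [IsScalarTower B A G]
    {G' : Type u} [AddCommGroup G'] [Module A G'] [Module B G'] [IsScalarTower B A G']
    (f : G →ₗ[A] G') [IsLocalizedModule U f] :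
    IsLocalizedModule T (f.restrictScalars B) := by
  refine ⟨fun c => ?_, fun x => ?_, fun {a b} hab => ?_⟩
  · have h := IsLocalizedModule.map_units f (⟨_, hTU c c.2⟩ : U)
    rw [Module.End.isUnit_iff] at h ⊢
    convert h using 1
    funext x
    simp only [Module.algebraMap_end_apply]
    exact (IsScalarTower.algebraMap_smul A (c : B) x).symm
  · obtain ⟨⟨g, v⟩, hv⟩ := IsLocalizedModule.surj U f x
    obtain ⟨w, c, hc', hvw⟩ := hdiv v v.2
    refine ⟨⟨w • g, ⟨c, hc'⟩⟩, ?_⟩
    show c • x = f (w • g)
    rw [map_smul, ← hv, Submonoid.smul_def, ← IsScalarTower.algebraMap_smul A c x, ← hvw, mul_comm, mul_smul]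
  · obtain ⟨v, hv⟩ := IsLocalizedModule.exists_of_eq (S := U) (f := f) hab
    obtain ⟨w, c, hc', hvw⟩ := hdiv v v.2
    refine ⟨⟨c, hc'⟩, ?_⟩
    show c • a = c • b
    rw [← IsScalarTower.algebraMap_smul A c a, ← IsScalarTower.algebraMap_smul A c b, ← hvw, mul_comm, mul_smul,
      mul_smul]
    exact congrArg (w • ·) hv

/-- Finite presentation may be tested over the base of a finite finitely presented algebra. -/
theorem fp_restrict_iff [Module.FinitePresentation B A] (hTU : ∀ c ∈ T, algebraMap B A c ∈ U)
    (hdiv : ∀ v ∈ U, ∃ w : A, ∃ c ∈ T, v * w = algebraMap B A c)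
    (M : Type u) [AddCommGroup M] [Module A M] [Module B M] [IsScalarTower B A M] :
    FP U M ↔ FP T M := by
  let BT := Localization T
  let AU := Localization U
  let ψ : BT →+* AU := IsLocalization.lift (M := T) (g := algebraMap B AU) fun c => by
    rw [IsScalarTower.algebraMap_apply B A AU]
    exact IsLocalization.map_units AU (⟨_, hTU c c.2⟩ : U)
  letI : Algebra BT AU := ψ.toAlgebra
  haveI : IsScalarTower B BT AU := IsScalarTower.of_algebraMap_eq fun x => (IsLocalization.lift_eq _ x).symm
  letI : Module BT (LocalizedModule U M) := Module.compHom _ (algebraMap BT AU)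
  haveI : IsScalarTower BT AU (LocalizedModule U M) := IsScalarTower.of_algebraMap_smul fun _ _ => rfl
  haveI : IsScalarTower B BT (LocalizedModule U M) := IsScalarTower.of_algebraMap_smul fun b x => by
    rw [← IsScalarTower.algebraMap_smul AU (algebraMap B BT b) x, ← IsScalarTower.algebraMap_apply,
      IsScalarTower.algebraMap_apply B A AU, IsScalarTower.algebraMap_smul, IsScalarTower.algebraMap_smul]
  haveI h1 := isLocalizedModule_restrict T U hTU hdiv A (Algebra.linearMap A AU)
  haveI h2 := isLocalizedModule_restrict T U hTU hdiv M (LocalizedModule.mkLinearMap U M)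
  let e₁ := (IsLocalizedModule.iso T ((Algebra.linearMap A AU).restrictScalars B)).extendScalarsOfIsLocalization T BT
  let e₂ := (IsLocalizedModule.iso T
    ((LocalizedModule.mkLinearMap U M).restrictScalars B)).extendScalarsOfIsLocalization T BT
  haveI : Module.FinitePresentation BT AU := Module.FinitePresentation.of_equiv e₁
  exact (fp_finite_algebra BT AU (LocalizedModule U M)).trans e₂.finitePresentation_iff.symm

end Restrict

/-- Finite presentation descends along faithfully flat ring maps. -/
theorem fp_of_faithfullyFlat {R : Type u} [CommRing R] (T : Type u) [CommRing T] [Algebra R T]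
    [Module.FaithfullyFlat R T] {M : Type u} [AddCommGroup M] [Module R M]
    [Module.FinitePresentation T (T ⊗[R] M)] : Module.FinitePresentation R M := by
  haveI : Module.Finite R M := Module.Finite.of_finite_tensorProduct_of_faithfullyFlat T
  obtain ⟨n, π, hπ⟩ := Module.Finite.exists_fin' R M
  refine Module.finitePresentation_of_surjective π hπ ?_
  rw [← Module.Finite.iff_fg]
  let ι := AlgebraTensorModule.lTensor T T (LinearMap.ker π).subtype
  let ψ := AlgebraTensorModule.lTensor T T π
  have hι : Function.Injective ι :=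
    Module.Flat.lTensor_preserves_injective_linearMap _ (LinearMap.ker π).subtype_injective
  have hψ : Function.Surjective ψ := LinearMap.lTensor_surjective T hπ
  have hex : Function.Exact ι ψ := lTensor_exact T (LinearMap.exact_subtype_ker_map π) hπ
  have hfg : (LinearMap.ker ψ).FG := Module.FinitePresentation.fg_ker ψ hψ
  rw [LinearMap.exact_iff.mp hex] at hfg
  haveI : Module.Finite T (LinearMap.range ι) := Module.Finite.iff_fg.mpr hfg
  haveI : Module.Finite T (T ⊗[R] LinearMap.ker π) :=
    Module.Finite.equiv (LinearEquiv.ofInjective ι hι).symm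
  exact Module.Finite.of_finite_tensorProduct_of_faithfullyFlat T

section BaseChange

variable {S S' : Type u} [CommRing S] [CommRing S'] [Algebra S S'] {M M' : Type u} [AddCommGroup M] [Module S M]
  [AddCommGroup M'] [Module S' M'] [Module S M'] [IsScalarTower S S' M'] (T : Submonoid S) (U : Submonoid S')

theorem fp_baseChange (f : M →ₗ[S] M') (hf : IsBaseChange S' f)
    (hTU : ∀ t : T, IsUnit (algebraMap S (Localization U) t)) :
    (FP T M → FP U M') ∧ (Module.Flat S S' → (∀ Q : Ideal S, Q.IsPrime → Disjoint (T : Set S) Q →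
      ∃ Q' : Ideal S', Q'.IsPrime ∧ Disjoint (U : Set S') Q' ∧ Q'.comap (algebraMap S S') = Q) →
      FP U M' → FP T M) := by
  let A := Localization T
  let P := Localization U
  haveI : Module.Flat S' P := IsLocalization.flat P U
  let ψ : A →+* P := IsLocalization.lift (M := T) (g := algebraMap S P) hTU
  letI : Algebra A P := ψ.toAlgebra
  haveI : IsScalarTower S A P := IsScalarTower.of_algebraMap_eq fun x => (IsLocalization.lift_eq _ x).symm
  have keyR : Nonempty (LocalizedModule U M' ≃ₗ[P] P ⊗[A] LocalizedModule T M) := by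
    let e₀ : LocalizedModule U M' ≃ₗ[P] P ⊗[S] M := (LocalizedModule.equivTensorProduct U M') ≪≫ₗ
      AlgebraTensorModule.congr (LinearEquiv.refl P P) hf.equiv.symm ≪≫ₗ
      AlgebraTensorModule.cancelBaseChange S S' P P M
    have h1 : IsBaseChange A (LocalizedModule.mkLinearMap T M) :=
      (isLocalizedModule_iff_isBaseChange T A (LocalizedModule.mkLinearMap T M)).mp inferInstance
    exact ⟨e₀ ≪≫ₗ ((AlgebraTensorModule.congr (LinearEquiv.refl P P) h1.equiv.symm) ≪≫ₗ
      AlgebraTensorModule.cancelBaseChange S A P P M).symm⟩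
  refine ⟨fun h => ?_, fun hflat hsurj h => ?_⟩
  · haveI : Module.FinitePresentation A (LocalizedModule T M) := h
    obtain ⟨e⟩ := keyR
    exact Module.FinitePresentation.of_equiv e.symm
  · haveI : Module.FinitePresentation P (LocalizedModule U M') := h
    haveI := hflat
    haveI : Module.Flat S P := Module.Flat.trans S S' P
    obtain ⟨e⟩ := keyR
    haveI : Module.FinitePresentation P (P ⊗[A] LocalizedModule T M) := Module.FinitePresentation.of_equiv e
    haveI : Algebra.FormallyUnramified S A := Algebra.FormallyUnramified.of_isLocalization T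
    haveI : Algebra.EssFiniteType S A := Algebra.EssFiniteType.of_isLocalization A T
    haveI : Module.Flat A P := Algebra.FormallyUnramified.flat_of_restrictScalars S A P
    haveI : Module.FaithfullyFlat A P := Module.FaithfullyFlat.of_comap_surjective fun Q => by
      let Q₀ := Q.asIdeal.comap (algebraMap S A)
      have hd : Disjoint (T : Set S) Q₀ := ((IsLocalization.isPrime_iff_isPrime_disjoint T A Q.asIdeal).mp Q.2).2
      obtain ⟨Q', hQ', hU, hQQ⟩ := hsurj Q₀ (Ideal.comap_isPrime _ _) hd
      let Q₁ : Ideal P := Q'.map (algebraMap S' P)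
      haveI hQ₁ : Q₁.IsPrime := IsLocalization.isPrime_of_isPrime_disjoint U P Q' hQ' hU
      refine ⟨⟨Q₁, hQ₁⟩, PrimeSpectrum.ext ?_⟩
      show Q₁.comap (algebraMap A P) = Q.asIdeal
      rw [← IsLocalization.map_under T A (Q₁.comap (algebraMap A P)), ← IsLocalization.map_under T A Q.asIdeal]
      refine congrArg (Ideal.map (algebraMap S A)) ?_
      show (Q₁.comap (algebraMap A P)).comap (algebraMap S A) = Q₀
      rw [Ideal.comap_comap, ← IsScalarTower.algebraMap_eq, IsScalarTower.algebraMap_eq S S' P, ← Ideal.comap_comap,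
        show Q₁.comap (algebraMap S' P) = Q' from IsLocalization.under_map_of_isPrime_disjoint U P hQ' hU, hQQ]
    exact fp_of_faithfullyFlat P

end BaseChange

theorem hdiv_of_unique {B A : Type u} [CommRing B] [CommRing A] [Algebra B A] [Algebra.IsIntegral B A]
    (y : Ideal B) [y.IsPrime] (z : Ideal A) (huniq : ∀ (Q : Ideal A) [Q.IsPrime], Q.LiesOver y → Q = z) :
    ∀ v ∉ z, ∃ w : A, ∃ c ∈ y.primeCompl, v * w = algebraMap B A c := by
  intro v hv
  by_contra hcon
  push Not at hcon
  have hle : (Ideal.span {v}).comap (algebraMap B A) ≤ y := fun c hc => by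
    by_contra hcy
    obtain ⟨w, hw⟩ := Ideal.mem_span_singleton.mp (show algebraMap B A c ∈ Ideal.span {v} from hc)
    exact hcon w c hcy hw.symm
  obtain ⟨P, hvP, hP, hPy⟩ := Ideal.exists_ideal_over_prime_of_isIntegral y _ hle
  haveI := hP
  exact hv (huniq P ⟨hPy.symm⟩ ▸ hvP (Ideal.mem_span_singleton_self v))

theorem isUnit_away_of_subset {A : Type u} [CommRing A] (c a : A)
    (h : ∀ Q : Ideal A, Q.IsPrime → a ∉ Q → c ∉ Q) : ∀ t : Submonoid.powers c,
    IsUnit (algebraMap A (Localization (Submonoid.powers a)) t) := by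
  rintro ⟨_, k, rfl⟩
  show IsUnit (algebraMap A (Localization (Submonoid.powers a)) (c ^ k))
  rw [map_pow]
  refine IsUnit.pow k ?_
  by_contra hu
  obtain ⟨m, hm, hcm⟩ := exists_max_ideal_of_mem_nonunits hu
  have hd := ((IsLocalization.isPrime_iff_isPrime_disjoint (Submonoid.powers a)
    (Localization (Submonoid.powers a)) m).mp hm.isPrime)
  exact h _ hd.1 (fun ha => hd.2.le_bot ⟨Submonoid.mem_powers a, ha⟩) hcm

/-- Given an elementary dévissage E of N at q over p in dimension n, with S of finite presentation over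
R: the finite map D → C is of finite presentation; the following are equivalent: N_q is a finitely
presented S_q-module; G_z is a finitely presented C_z-module; G_y is a finitely presented
D_y-module. Also equivalent to each other: N is finitely presented on some basic open of Spec S
containing q; G is finitely presented on some basic open of Spec C containing z; G as a D-module is
finitely presented on some basic open of Spec D containing y. -/
theorem result {R S : Type u} [CommRing R] [CommRing S] [Algebra R S] [Algebra.FinitePresentation R S]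
    (N : Type u) [AddCommGroup N] [Module S N] [Module R N] [IsScalarTower R S N] [Module.Finite S N]
    (p : Ideal R) [p.IsPrime] (q : Ideal S) [q.IsPrime] [q.LiesOver p] (n : ℕ) (E : FlatCA.ElemDevissage R S N p q n) :
    Algebra.FinitePresentation E.D E.C ∧
    [Module.FinitePresentation (Localization.AtPrime q) (LocalizedModule q.primeCompl N),
     Module.FinitePresentation (Localization.AtPrime E.z) (LocalizedModule E.z.primeCompl E.G),
     Module.FinitePresentation (Localization.AtPrime E.y) (LocalizedModule E.y.primeCompl E.G)].TFAE ∧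
    [∃ g : S, g ∉ q ∧ Module.FinitePresentation (Localization.Away g) (LocalizedModule (Submonoid.powers g) N),
     ∃ g : E.C, g ∉ E.z ∧ Module.FinitePresentation (Localization.Away g) (LocalizedModule (Submonoid.powers g) E.G),
     ∃ g : E.D, g ∉ E.y ∧ Module.FinitePresentation (Localization.Away g) (LocalizedModule (Submonoid.powers g) E.G)].TFAE := by
  obtain ⟨hR, -⟩ := E.etaleR
  obtain ⟨hS, hq'q, -⟩ := E.etaleS
  haveI := hR
  haveI := hS
  haveI := hq'q
  haveI := E.finiteDC
  haveI := E.fpC
  haveI : Algebra.FinitePresentation R E.S' := Algebra.FinitePresentation.trans R S E.S'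
  haveI : Algebra.FinitePresentation E.R' E.S' :=
    Algebra.FinitePresentation.of_restrict_scalars_finitePresentation R E.R' E.S'
  haveI : Algebra.FinitePresentation E.R' E.C := Algebra.FinitePresentation.trans E.R' E.S' E.C
  haveI : Algebra.FiniteType E.R' E.D := by
    haveI := E.smooth
    exact RingHom.finiteType_algebraMap.mp ((AlgebraicGeometry.HasRingHomProperty.Spec_iff
      (P := @AlgebraicGeometry.LocallyOfFiniteType)).mp
      (show AlgebraicGeometry.LocallyOfFiniteType
        (AlgebraicGeometry.Spec.map (CommRingCat.ofHom (algebraMap E.R' E.D))) from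
        haveI : AlgebraicGeometry.Smooth (AlgebraicGeometry.Spec.map (CommRingCat.ofHom (algebraMap E.R' E.D))) :=
          AlgebraicGeometry.SmoothOfRelativeDimension.smooth n _
        inferInstance))
  haveI : Algebra.FinitePresentation E.D E.C :=
    Algebra.FinitePresentation.of_restrict_scalars_finitePresentation E.R' E.D E.C
  haveI : Module.FinitePresentation E.D E.C := Module.FinitePresentation.of_finite_of_finitePresentation _ _
  haveI : Module.Finite E.S' E.C := Module.Finite.of_surjective (Algebra.linearMap E.S' E.C) E.surjC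
  haveI : Module.FinitePresentation E.S' E.C := Module.FinitePresentation.of_finite_of_finitePresentation _ _
  have hbc := fun T U h => fp_baseChange (M' := E.N') T U E.f E.isBaseChange h
  refine ⟨inferInstance, ?_, ?_⟩
  · have hq : ∀ t : q.primeCompl, IsUnit (algebraMap S (Localization E.q'.primeCompl) t) := fun t => by
      rw [IsScalarTower.algebraMap_apply S E.S' (Localization E.q'.primeCompl)]
      exact IsLocalization.map_units (Localization E.q'.primeCompl)
        (⟨algebraMap S E.S' t, fun hm => t.2 ((Ideal.mem_of_liesOver E.q' q _).mpr hm)⟩ : E.q'.primeCompl)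
    have h1 : FP q.primeCompl N ↔ FP E.q'.primeCompl E.N' := by
      refine ⟨(hbc _ _ hq).1, (hbc _ _ hq).2 inferInstance fun Q hQ hd => ?_⟩
      haveI := hQ
      have hle : Q ≤ q := fun x hx => by
        by_contra hxq
        exact hd.le_bot ⟨hxq, hx⟩
      obtain ⟨Q', hQ'q, hQ', hQ'Q⟩ := Ideal.exists_ideal_le_liesOver_of_le E.q' hle
      exact ⟨Q', hQ', Set.disjoint_left.mpr fun x hx hxQ => hx (hQ'q hxQ), hQ'Q.over.symm⟩
    have h2 : FP E.z.primeCompl E.G ↔ FP E.q'.primeCompl E.N' := by
      refine (fp_restrict_iff E.q'.primeCompl E.z.primeCompl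
        (fun c hc h => hc ((Ideal.mem_of_liesOver E.z E.q' c).mpr h)) (fun v hv => ?_) E.G).trans
        (fp_congr _ E.iso).symm
      obtain ⟨v', rfl⟩ := E.surjC v
      exact ⟨1, v', fun h => hv ((Ideal.mem_of_liesOver E.z E.q' v').mp h), mul_one _⟩
    have h3 : FP E.z.primeCompl E.G ↔ FP E.y.primeCompl E.G := by
      haveI : Algebra.IsIntegral E.D E.C := Algebra.IsIntegral.of_finite _ _
      exact fp_restrict_iff E.y.primeCompl E.z.primeCompl
        (fun c hc h => hc ((Ideal.mem_of_liesOver E.z E.y c).mpr h))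
        (hdiv_of_unique E.y E.z fun Q _ hQ => E.uniq Q hQ) E.G
    tfae_have 1 ↔ 2 := h1.trans h2.symm
    tfae_have 2 ↔ 3 := h3
    tfae_finish
  · have hdivS : ∀ c' : E.S', ∀ v ∈ Submonoid.powers (algebraMap E.S' E.C c'),
        ∃ w : E.C, ∃ c ∈ Submonoid.powers c', v * w = algebraMap E.S' E.C c := by
      rintro c' _ ⟨k, rfl⟩
      exact ⟨1, c' ^ k, ⟨k, rfl⟩, by simp⟩
    have hTUS : ∀ c' : E.S', ∀ c ∈ Submonoid.powers c', algebraMap E.S' E.C c ∈ Submonoid.powers (algebraMap E.S' E.C c') := by
      rintro c' _ ⟨k, rfl⟩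
      exact ⟨k, by simp⟩
    tfae_have 1 → 2 := by
      rintro ⟨g, hg, hfl⟩
      let g' := algebraMap S E.S' g
      refine ⟨algebraMap E.S' E.C g', fun h => hg ?_, ?_⟩
      · exact (Ideal.mem_of_liesOver E.q' q g).mpr ((Ideal.mem_of_liesOver E.z E.q' _).mpr h)
      · refine (fp_restrict_iff _ _ (hTUS g') (hdivS g') E.G).mpr ((fp_congr _ E.iso).mp ((hbc _ _ ?_).1 hfl))
        rintro ⟨_, k, rfl⟩
        rw [IsScalarTower.algebraMap_apply S E.S' (Localization (Submonoid.powers g'))]
        exact IsLocalization.map_units (Localization (Submonoid.powers g'))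
          (⟨algebraMap S E.S' (g ^ k), k, (map_pow _ _ _).symm⟩ : Submonoid.powers g')
    tfae_have 2 → 1 := by
      rintro ⟨c, hc, hfl⟩
      obtain ⟨c', rfl⟩ := E.surjC c
      have hN : FP (Submonoid.powers c') E.N' :=
        (fp_congr _ E.iso).mpr ((fp_restrict_iff _ _ (hTUS c') (hdivS c') E.G).mp hfl)
      have hopen : IsOpen (PrimeSpectrum.comap (algebraMap S E.S') '' (PrimeSpectrum.basicOpen c' : Set _)) :=
        PrimeSpectrum.isOpenMap_comap_of_hasGoingDown_of_finitePresentation _ (PrimeSpectrum.isOpen_basicOpen)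
      have hqm : (⟨q, inferInstance⟩ : PrimeSpectrum S) ∈
          PrimeSpectrum.comap (algebraMap S E.S') '' (PrimeSpectrum.basicOpen c' : Set _) :=
        ⟨⟨E.q', inferInstance⟩, fun h => hc ((Ideal.mem_of_liesOver E.z E.q' c').mp h),
          PrimeSpectrum.ext (Ideal.LiesOver.over (p := q) (P := E.q')).symm⟩
      obtain ⟨-, ⟨_, ⟨g, rfl⟩, rfl⟩, hgq, hg⟩ :=
        PrimeSpectrum.isBasis_basic_opens.exists_subset_of_mem_open hqm hopen
      let g' := algebraMap S E.S' g
      have hU : FP (Submonoid.powers (c' * g')) E.N' :=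
        (fp_baseChange (Submonoid.powers c') (Submonoid.powers (c' * g')) (LinearMap.id : E.N' →ₗ[E.S'] E.N')
          (IsBaseChange.ofEquiv (LinearEquiv.refl E.S' E.N'))
          (isUnit_away_of_subset c' (c' * g') fun Q _ h hc => h (Q.mul_mem_right _ hc))).1 hN
      refine ⟨g, hgq, (hbc (Submonoid.powers g) (Submonoid.powers (c' * g')) ?_).2 inferInstance
        (fun Q hQP hQd => ?_) hU⟩
      · rintro ⟨t, ht⟩
        obtain ⟨k, rfl⟩ := ht
        rw [IsScalarTower.algebraMap_apply S E.S' (Localization (Submonoid.powers (c' * g'))), map_pow]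
        exact isUnit_away_of_subset g' (c' * g') (fun Q _ h hc => h (Q.mul_mem_left _ hc)) ⟨g' ^ k, k, rfl⟩
      · have hgQ : g ∉ Q := fun h => hQd.le_bot ⟨Submonoid.mem_powers g, h⟩
        obtain ⟨Q', hQ'c, hQ'Q⟩ := hg (show (⟨Q, hQP⟩ : PrimeSpectrum S) ∈ PrimeSpectrum.basicOpen g from hgQ)
        have hQQ : Q'.asIdeal.comap (algebraMap S E.S') = Q := congrArg PrimeSpectrum.asIdeal hQ'Q
        refine ⟨Q'.asIdeal, Q'.2, Set.disjoint_left.mpr ?_, hQQ⟩
        rintro _ ⟨k, rfl⟩ hk
        rcases Q'.2.mem_or_mem (Q'.2.mem_of_pow_mem k hk) with h | h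
        · exact hQ'c h
        · exact hgQ (hQQ ▸ h)
    have hTUD : ∀ d : E.D, ∀ c ∈ Submonoid.powers d, algebraMap E.D E.C c ∈ Submonoid.powers (algebraMap E.D E.C d) := by
      rintro d _ ⟨k, rfl⟩
      exact ⟨k, by simp⟩
    have hdivD : ∀ d : E.D, ∀ v ∈ Submonoid.powers (algebraMap E.D E.C d),
        ∃ w : E.C, ∃ c ∈ Submonoid.powers d, v * w = algebraMap E.D E.C c := by
      rintro d _ ⟨k, rfl⟩
      exact ⟨1, d ^ k, ⟨k, rfl⟩, by simp⟩
    tfae_have 3 → 2 := by
      rintro ⟨d, hd, hfl⟩
      exact ⟨algebraMap E.D E.C d, fun h => hd ((Ideal.mem_of_liesOver E.z E.y d).mpr h),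
        (fp_restrict_iff _ _ (hTUD d) (hdivD d) E.G).mpr hfl⟩
    tfae_have 2 → 3 := by
      rintro ⟨c, hc, hfl⟩
      have hint : (algebraMap E.D E.C).IsIntegral := fun x => (Algebra.IsIntegral.of_finite E.D E.C).isIntegral x
      have hcl : IsClosed (PrimeSpectrum.comap (algebraMap E.D E.C) '' PrimeSpectrum.zeroLocus {c}) :=
        PrimeSpectrum.isClosedMap_comap_of_isIntegral _ hint _ (PrimeSpectrum.isClosed_zeroLocus _)
      have hy : (⟨E.y, inferInstance⟩ : PrimeSpectrum E.D) ∈
          (PrimeSpectrum.comap (algebraMap E.D E.C) '' PrimeSpectrum.zeroLocus {c})ᶜ := by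
        rintro ⟨Q, hQ, hQy⟩
        haveI : Q.asIdeal.LiesOver E.y := ⟨(congrArg PrimeSpectrum.asIdeal hQy).symm⟩
        exact hc (E.uniq Q.asIdeal inferInstance ▸ hQ (Set.mem_singleton c))
      obtain ⟨-, ⟨_, ⟨d, rfl⟩, rfl⟩, hdy, hd⟩ :=
        PrimeSpectrum.isBasis_basic_opens.exists_subset_of_mem_open hy hcl.isOpen_compl
      refine ⟨d, hdy, (fp_restrict_iff _ _ (hTUD d) (hdivD d) E.G).mp ?_⟩
      refine (fp_baseChange (Submonoid.powers c) (Submonoid.powers (algebraMap E.D E.C d))
        (LinearMap.id : E.G →ₗ[E.C] E.G) (IsBaseChange.ofEquiv (LinearEquiv.refl E.C E.G))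
        (isUnit_away_of_subset c (algebraMap E.D E.C d) fun Q hQP hQ hcQ => ?_)).1 hfl
      exact hd (show PrimeSpectrum.comap (algebraMap E.D E.C) ⟨Q, hQP⟩ ∈ PrimeSpectrum.basicOpen d from hQ)
        ⟨⟨Q, hQP⟩, Set.singleton_subset_iff.mpr hcQ, rfl⟩
    tfae_finish

end Groth.Agent.S1251
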