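import Groth.Statements.S12514
import Groth.Agent.FF.Ext
-- import your own Groth.Agent.* helpers here

set_option autoImplicit false
open FunFld

namespace Groth.Agent.S12514

/-- For a geometric function field of one variable `K/k` and finite extensions `K ⊆ K' ⊆ K''`, the
conorm maps on divisors compose: `N*_{K''/K'} ∘ N*_{K'/K} = N*_{K''/K}`. The companion identity for
norms is not stated. -/
theorem result (k K K' K'' : Type*) [Field k] [Field K] [Field K'] [Field K'']
    [Algebra k K] [Algebra k K'] [Algebra k K''] [Algebra K K'] [Algebra K' K''] [Algebra K K'']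
    [IsScalarTower k K K'] [IsScalarTower k K' K''] [IsScalarTower k K K''] [IsScalarTower K K' K'']
    [FiniteDimensional K K'] [FiniteDimensional K' K'']
    (hK : FunFld.IsFunctionField k K) (hg : FunFld.IsGeometric k K) (D : FunFld.Divisor k K) :
    FunFld.conorm K'' (FunFld.conorm K' D) = FunFld.conorm K'' D := by
  haveI : FiniteDimensional K K'' := FiniteDimensional.trans K K' K''
  have hK' : Groth.Agent.FF.IsFF k K' := Groth.Agent.FF.isFF_ext hK.1
  ext S
  obtain ⟨Q, hQ⟩ := Groth.Agent.FF.exists_below (K := K') (K' := K'') hK' S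
  obtain ⟨P, hP⟩ := Groth.Agent.FF.exists_below (K := K) (K' := K') hK.1 Q
  obtain ⟨a, ha⟩ := hQ
  obtain ⟨b, hb⟩ := hP
  have hSP : FunFld.IsOverWith S P (b * a) := fun x => by
    rw [IsScalarTower.algebraMap_apply K K' K'', ha, hb, ← pow_mul]
  have h2 : (FunFld.conorm K' D) Q = b * D P := by
    rw [Groth.Agent.FF.conorm_apply hK.1 D ⟨b, hb⟩, Groth.Agent.FF.ramIdx_eq hb]
  rw [Groth.Agent.FF.conorm_apply hK.1 D ⟨_, hSP⟩, Groth.Agent.FF.ramIdx_eq hSP]
  rw [Groth.Agent.FF.conorm_apply (K := K') (K' := K'') hK' _ ⟨a, ha⟩,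
    Groth.Agent.FF.ramIdx_eq ha, h2]
  push_cast; ring

end Groth.Agent.S12514
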