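import Groth.Statements.S12527
import Groth.Agent.FF.UnifConductor
import Groth.Agent.FF.GeomCrit2
-- import your own Groth.Agent.* helpers here

set_option autoImplicit false
universe u v
open scoped TensorProduct
open FunFld

namespace Groth.Agent.S12527

/-- A geometric function field of one variable `K/k` has at most finitely many singular places, i.e.
places `P` for which, for some finite extension `k'/k`, the integral closure of `O_P` in `k' ⊗_k K`
is strictly larger than `k' ⊗_k O_P`. The existence of a purely inseparable finite `k'` making `k'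
⊗_k K` nonsingular is not stated. -/
theorem result (k : Type u) (K : Type v) [Field k] [Field K] [Algebra k K]
    (hK : FunFld.IsFunctionField k K) (hg : FunFld.IsGeometric k K) :
    {P : FunFld.Place k K | ∃ (k' : Type u) (_ : Field k') (_ : Algebra k k'), FiniteDimensional k k' ∧
      integralClosure (P.O.toSubring.map (Algebra.TensorProduct.includeRight : K →ₐ[k] k' ⊗[k] K).toRingHom) (k' ⊗[k] K) ≠
        Algebra.adjoin (P.O.toSubring.map (Algebra.TensorProduct.includeRight : K →ₐ[k] k' ⊗[k] K).toRingHom)
          (Set.range (Algebra.TensorProduct.includeLeftRingHom : k' →+* k' ⊗[k] K))}.Finite := by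
  classical
  obtain ⟨S, hS, hns⟩ := Groth.Agent.FF.exists_finite_singular.{u, max u v, u, v} hK (Groth.Agent.FF.good_of_geometric hg)
  refine hS.subset ?_
  rintro P ⟨k', _, _, hfin, hne⟩
  by_contra hPS
  letI : Field (k' ⊗[k] K) := (hg k' hfin).toField
  letI : Algebra K (k' ⊗[k] K) := Algebra.TensorProduct.rightAlgebra
  haveI : IsScalarTower k K (k' ⊗[k] K) := IsScalarTower.of_algebraMap_eq fun c =>
    ((Algebra.TensorProduct.includeRight : K →ₐ[k] k' ⊗[k] K).commutes c).symm
  have hbc : Groth.Agent.FF.IsBC k k' K (k' ⊗[k] K) := by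
    have hid : ∀ z : k' ⊗[k] K, Algebra.TensorProduct.productMap (IsScalarTower.toAlgHom k k' (k' ⊗[k] K))
        (IsScalarTower.toAlgHom k K (k' ⊗[k] K)) z = z := by
      intro z
      induction z using TensorProduct.induction_on with
      | zero => rw [map_zero]
      | add a b ha hb => rw [map_add, ha, hb]
      | tmul a b =>
        rw [Algebra.TensorProduct.productMap_apply_tmul]
        show (a ⊗ₜ[k] (1 : K)) * ((1 : k') ⊗ₜ[k] b) = _
        rw [Algebra.TensorProduct.tmul_mul_tmul, mul_one, one_mul]
    exact ⟨fun a b hab => by rwa [hid, hid] at hab, fun z => ⟨z, hid z⟩⟩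
  refine hne ((Groth.Agent.FF.integralClosure_eq_adjoin_iff hbc hK.1 (P := P) ?_).2 (hns k' _ hbc P hPS))
  ext z
  exact ⟨fun ⟨a, ha⟩ => ha ▸ a.2, fun hz => ⟨⟨z, hz⟩, rfl⟩⟩

end Groth.Agent.S12527
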