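import Groth.Statements.S1253
import Groth.Agent.HP.DevStep
-- import your own Groth.Agent.* helpers here

set_option autoImplicit false
universe u
open FlatMor

namespace Groth.Agent.S1253

open IsLocalRing

theorem tower_RAM {R S : Type u} [CommRing R] [CommRing S] [Algebra R S] {N : Type u} [AddCommGroup N]
    [Module S N] {rr : Ideal R} [rr.IsPrime] (D : FlatCA.CompleteDevissage R S N rr) (i : ℕ) :
    IsScalarTower R (D.A i) (D.M i) :=
  IsScalarTower.of_algebraMap_smul fun a x => by
    rw [IsScalarTower.algebraMap_apply R (D.B i) (D.A i), IsScalarTower.algebraMap_smul,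
      IsScalarTower.algebraMap_smul]

attribute [local instance] tower_RAM

/-- Reindexing along an equality. -/
def congrIdx {R S : Type u} [CommRing R] [CommRing S] [Algebra R S] {N : Type u} [AddCommGroup N]
    [Module S N] {rr : Ideal R} [rr.IsPrime] (D : FlatCA.CompleteDevissage R S N rr) {i j : ℕ} (h : i = j) :
    (Fin (D.r i) → D.B i) ≃ₗ[R] (Fin (D.r j) → D.B j) := by
  subst h
  exact LinearEquiv.refl R _

theorem fp_of_finite_algebra (B A M : Type u) [CommRing B] [CommRing A] [Algebra B A] [Module.Finite B A]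
    [AddCommGroup M] [Module A M] [Module B M] [IsScalarTower B A M] [Module.FinitePresentation B M] :
    Module.FinitePresentation A M := by
  haveI : Module.Finite A M := Module.Finite.of_restrictScalars_finite B A M
  obtain ⟨n, g, hg⟩ := Module.Finite.exists_fin' A M
  obtain ⟨N, e, he⟩ := Module.Finite.exists_fin' B (Fin n → A)
  refine Module.finitePresentation_of_surjective g hg (Submodule.FG.of_restrictScalars B ?_)
  have h : (LinearMap.ker g).restrictScalars B = Submodule.map e (LinearMap.ker ((g.restrictScalars B).comp e)) := by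
    rw [LinearMap.ker_comp, Submodule.map_comap_eq, LinearMap.range_eq_top.mpr he, top_inf_eq]
    rfl
  rw [h]
  exact (Module.FinitePresentation.fg_ker ((g.restrictScalars B).comp e)
    (show Function.Surjective (fun v => g (e v)) from hg.comp he)).map e

/-- The chain of cokernels, from the last module. -/
theorem chain {R S : Type u} [CommRing R] [IsLocalRing R] [CommRing S] [Algebra R S]
    {N : Type u} [AddCommGroup N] [Module S N]
    (D : FlatCA.CompleteDevissage R S N (maximalIdeal R)) (q : Ideal S) [q.IsPrime]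
    (E : FlatCA.CompleteDevissageAt R S N (maximalIdeal R) q D)
    (h0 : haveI := E.hqA; FlatCA.FlatAt R (E.qA 0) (D.M 0)) :
    ∀ k i, i + k + 1 = D.n →
      Module.FinitePresentation (D.B i) (D.M i) ∧ Module.Free R (D.M i) ∧
        Nonempty (D.M i ≃ₗ[R] (∀ j : Fin (k + 1), Fin (D.r (i + j)) → D.B (i + j))) := by
  haveI := E.hqA
  haveI := E.hqB
  haveI := E.overA
  haveI := E.overB
  have hfree : ∀ i, i < D.n → Module.Free R (D.B i) := fun i hi => by
    haveI := D.smooth i hi
    haveI := HP.DevStep.projective_of_smooth (D.geomIrred i hi)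
    exact S0582.result R (D.B i)
  have hB : ∀ i, i < D.n → FlatCA.FlatAt R (E.qA i) (D.M i) → FlatCA.FlatAt R (E.qB i) (D.M i) := fun i hi h => by
    haveI := D.finiteBA i hi
    haveI : IsScalarTower R (D.A i) (D.M i) := IsScalarTower.of_algebraMap_smul fun a x => by
      rw [IsScalarTower.algebraMap_apply R (D.B i) (D.A i), IsScalarTower.algebraMap_smul, IsScalarTower.algebraMap_smul]
    exact (HP.DevStep.flatAt_iff_of_unique (E.qB i) (E.qA i) (fun Q _ hQ => E.uniq i hi Q hQ) (D.M i)).mp h
  have hflat : ∀ i, i < D.n → FlatCA.FlatAt R (E.qB i) (D.M i) ∧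
      (∀ (Q : Type u) [AddCommGroup Q] [Module R Q], Function.Injective (((D.α i).restrictScalars R).rTensor Q)) := by
    intro i
    induction i with
    | zero =>
      intro hi
      haveI := hfree 0 hi
      refine ⟨hB 0 hi h0, ?_⟩
      exact (HP.DevStep.step (E.qB 0) (D.M 0) (hB 0 hi h0) (D.α 0) (D.fibreIso 0 hi).1).1
    | succ i ih =>
      intro hi
      have hi' : i < D.n := by omega
      haveI := hfree i hi'
      haveI := hfree (i + 1) hi
      have hc := (HP.DevStep.step (E.qB i) (D.M i) (ih hi').1 (D.α i) (D.fibreIso i hi').1).2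
      haveI : IsScalarTower R (D.A (i + 1)) (D.M (i + 1)) := IsScalarTower.of_algebraMap_smul fun a x => by
        rw [IsScalarTower.algebraMap_apply R (D.B (i + 1)) (D.A (i + 1)), IsScalarTower.algebraMap_smul,
          IsScalarTower.algebraMap_smul]
      haveI : IsScalarTower R (D.B i) (D.M (i + 1)) := IsScalarTower.of_algebraMap_smul fun a x => by
        rw [← IsScalarTower.algebraMap_smul (D.A (i + 1)) (algebraMap R (D.B i) a) x, ← IsScalarTower.algebraMap_apply,
          IsScalarTower.algebraMap_smul]
      have hq : FlatCA.FlatAt R (E.qB i) (D.M (i + 1)) := by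
        haveI : Module.Flat R (LocalizedModule (E.qB i).primeCompl (D.M i ⧸ LinearMap.range (D.α i))) := hc
        exact Module.Flat.of_linearEquiv
          (((HP.locEquiv (E.qB i).primeCompl (D.isoCoker i hi)).restrictScalars (D.B i)).restrictScalars R).symm
      have hqA : FlatCA.FlatAt R (E.qA (i + 1)) (D.M (i + 1)) :=
        (RGFlat.flatAt_comap_iff (P := D.B i) (D.surjBA' i hi) (E.qA (i + 1))).mp
          (HP.flatAt_congr_ideal (E.qStep i hi).symm hq)
      exact ⟨hB (i + 1) hi hqA, (HP.DevStep.step (E.qB (i + 1)) (D.M (i + 1)) (hB (i + 1) hi hqA) (D.α (i + 1))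
        (D.fibreIso (i + 1) hi).1).1⟩
  have hinj : ∀ i, i < D.n → Function.Injective (D.α i) := fun i hi a b hab => by
    have := (hflat i hi).2 R (a₁ := a ⊗ₜ[R] (1 : R)) (a₂ := b ⊗ₜ[R] (1 : R)) (by
      show D.α i a ⊗ₜ[R] (1 : R) = D.α i b ⊗ₜ[R] (1 : R)
      rw [hab])
    simpa using congrArg (TensorProduct.rid R (Fin (D.r i) → D.B i)) this
  intro k
  induction k with
  | zero =>
    intro i hi
    have hlt : i < D.n := by omega
    have hlast : Function.Surjective (D.α i) := by
      have := D.cokerLast
      rwa [show D.n - 1 = i by omega] at this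
    let e := LinearEquiv.ofBijective (D.α i) ⟨hinj i hlt, hlast⟩
    haveI := hfree i hlt
    refine ⟨Module.FinitePresentation.of_equiv e, Module.Free.of_equiv (e.restrictScalars R), ⟨?_⟩⟩
    exact (e.symm.restrictScalars R).trans
      (LinearEquiv.piUnique R (fun j : Fin 1 => Fin (D.r (i + j)) → D.B (i + j))).symm
  | succ k ih =>
    intro i hi
    have hlt : i < D.n := by omega
    have hlt' : i + 1 < D.n := by omega
    obtain ⟨hfp, hfree', ⟨e⟩⟩ := ih (i + 1) (by omega)
    haveI := hfree i hlt
    haveI := hfree'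
    haveI := hfp
    haveI := D.finiteBA (i + 1) hlt'
    haveI := fp_of_finite_algebra (D.B (i + 1)) (D.A (i + 1)) (D.M (i + 1))
    haveI := D.fpBA' i hlt'
    haveI : Module.Finite (D.B i) (D.A (i + 1)) :=
      Module.Finite.of_surjective (Algebra.linearMap _ _) (D.surjBA' i hlt')
    haveI := Module.FinitePresentation.of_finite_of_finitePresentation (R := D.B i) (S := D.A (i + 1))
    haveI := Module.FinitePresentation.trans (D.B i) (D.M (i + 1)) (D.A (i + 1))
    let π : D.M i →ₗ[D.B i] D.M (i + 1) := (D.isoCoker i hlt').toLinearMap ∘ₗ (LinearMap.range (D.α i)).mkQ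
    have hπ : Function.Surjective π := (D.isoCoker i hlt').surjective.comp (Submodule.mkQ_surjective _)
    have hker : LinearMap.ker π = LinearMap.range (D.α i) := by
      rw [LinearMap.ker_comp, LinearEquiv.ker, Submodule.comap_bot, Submodule.ker_mkQ]
    let e0 := LinearEquiv.ofInjective (D.α i) (hinj i hlt)
    haveI : Module.FinitePresentation (D.B i) (LinearMap.ker π) :=
      Module.FinitePresentation.of_equiv (e0.trans (LinearEquiv.ofEq _ _ hker.symm))
    haveI : IsScalarTower R (D.B i) (D.M (i + 1)) := IsScalarTower.of_algebraMap_smul fun a x => by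
      rw [← IsScalarTower.algebraMap_smul (D.A (i + 1)) (algebraMap R (D.B i) a) x, ← IsScalarTower.algebraMap_apply,
        IsScalarTower.algebraMap_apply R (D.B (i + 1)) (D.A (i + 1)), IsScalarTower.algebraMap_smul, IsScalarTower.algebraMap_smul]
    refine ⟨Module.finitePresentation_of_ker π hπ, ?_⟩
    have hex : Function.Exact ((D.α i).restrictScalars R) (π.restrictScalars R) :=
      LinearMap.exact_iff.mpr (by rw [LinearMap.ker_restrictScalars, hker, LinearMap.range_restrictScalars])
    obtain ⟨σ, hσ⟩ := Module.projective_lifting_property (π.restrictScalars R) LinearMap.id hπ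
    obtain ⟨e1, -⟩ := hex.splitSurjectiveEquiv (hinj i hlt) ⟨σ, hσ⟩
    refine ⟨Module.Free.of_equiv e1.symm, ⟨?_⟩⟩
    let G : Fin (k + 1 + 1) → Type u := fun j => Fin (D.r (i + j)) → D.B (i + j)
    let e2 : (∀ j : Fin (k + 1), Fin (D.r (i + 1 + j)) → D.B (i + 1 + j)) ≃ₗ[R] (∀ j : Fin (k + 1), G j.succ) :=
      LinearEquiv.piCongrRight fun j =>
        congrIdx D (show i + 1 + (j : ℕ) = i + (j.succ : ℕ) by simp; omega)
    exact e1.trans ((LinearEquiv.prodCongr (LinearEquiv.refl R _) (e.trans e2)).trans (Fin.consLinearEquiv R G))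


open IsLocalRing in
/-- Let R be a local ring, S a finitely presented R-algebra, N a finite S-module and q a prime of S over
𝔪_R with N_q flat over R. If N/S/R admits a complete dévissage at q, then N is of finite
presentation over S and free over R; more precisely N is R-isomorphic to the product over the steps
of the dévissage of the free modules B_i^{r_i}, with B_i and r_i the dévissage's own smooth algebras
and ranks. -/
theorem result {R S : Type u} [CommRing R] [IsLocalRing R] [CommRing S] [Algebra R S] [Algebra.FinitePresentation R S]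
    (N : Type u) [AddCommGroup N] [Module S N] [Module R N] [IsScalarTower R S N] [Module.Finite S N]
    (q : Ideal S) [q.IsPrime] [q.LiesOver (maximalIdeal R)] (hflat : FlatCA.FlatAt R q N)
    (D : FlatCA.CompleteDevissage R S N (maximalIdeal R)) (hD : Nonempty (FlatCA.CompleteDevissageAt R S N (maximalIdeal R) q D)) :
    Module.FinitePresentation S N ∧ Module.Free R N ∧
      Nonempty (N ≃ₗ[R] (∀ i : Fin D.n, Fin (D.r i) → D.B i)) := by
  obtain ⟨E⟩ := hD
  haveI := E.hqA
  have h0 : FlatCA.FlatAt R (E.qA 0) (D.M 0) := by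
    haveI : IsScalarTower R (D.A 0) (D.M 0) := IsScalarTower.of_algebraMap_smul fun a x => by
      rw [IsScalarTower.algebraMap_apply R (D.B 0) (D.A 0), IsScalarTower.algebraMap_smul, IsScalarTower.algebraMap_smul]
    haveI : IsScalarTower R S (D.M 0) := IsScalarTower.of_algebraMap_smul fun a x => by
      rw [← IsScalarTower.algebraMap_smul (D.A 0) (algebraMap R S a) x, ← IsScalarTower.algebraMap_apply,
        IsScalarTower.algebraMap_smul]
    haveI : Module.Flat R (LocalizedModule q.primeCompl N) := hflat
    have h1 : FlatCA.FlatAt R q (D.M 0) :=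
      Module.Flat.of_linearEquiv (((HP.locEquiv q.primeCompl D.isoN).restrictScalars S).restrictScalars R).symm
    exact (RGFlat.flatAt_comap_iff (P := S) D.surjSA (E.qA 0)).mp (HP.flatAt_congr_ideal E.q0.symm h1)
  have hn : D.n - 1 + 1 = D.n := Nat.sub_add_cancel D.pos
  obtain ⟨hfp, hfree, ⟨e⟩⟩ := chain D q E h0 (D.n - 1) 0 (by omega)
  haveI := hfp
  haveI := hfree
  haveI := D.finiteBA 0 D.pos
  haveI := fp_of_finite_algebra (D.B 0) (D.A 0) (D.M 0)
  haveI := D.fpSA
  haveI : Module.Finite S (D.A 0) := Module.Finite.of_surjective (Algebra.linearMap _ _) D.surjSA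
  haveI := Module.FinitePresentation.of_finite_of_finitePresentation (R := S) (S := D.A 0)
  haveI := Module.FinitePresentation.trans S (D.M 0) (D.A 0)
  haveI : IsScalarTower R S (D.M 0) := IsScalarTower.of_algebraMap_smul fun a x => by
    rw [← IsScalarTower.algebraMap_smul (D.A 0) (algebraMap R S a) x, ← IsScalarTower.algebraMap_apply,
      IsScalarTower.algebraMap_apply R (D.B 0) (D.A 0), IsScalarTower.algebraMap_smul, IsScalarTower.algebraMap_smul]
  let eN := D.isoN.restrictScalars R
  refine ⟨Module.FinitePresentation.of_equiv D.isoN.symm, Module.Free.of_equiv eN.symm, ⟨?_⟩⟩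
  let e3 : (∀ j : Fin (D.n - 1 + 1), Fin (D.r (0 + j)) → D.B (0 + j)) ≃ₗ[R]
      (∀ j : Fin (D.n - 1 + 1), Fin (D.r j) → D.B j) := LinearEquiv.piCongrRight fun j =>
    congrIdx D (Nat.zero_add _)
  exact (eN.trans (e.trans e3)).trans
    (LinearEquiv.piCongrLeft R (fun i : Fin D.n => Fin (D.r i) → D.B i) (finCongr hn))

end Groth.Agent.S1253
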