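import Groth.Statements.S5157
import Groth.Agent.InjHull.Matlis
import Mathlib.Algebra.Module.SpanRankOperations

set_option autoImplicit false
universe u
open Matlis

namespace Groth.Agent.S5157

/-- Let A be a Noetherian local ring, a an ideal with A/a local (i.e. a ≠ A) and E an injective hull of
the residue field of A. Then the annihilator of a in E, E[a] = {e | a e = 0}, is an injective hull
of the residue field of A/a over A/a. -/
theorem result (A : Type u) [CommRing A] [IsLocalRing A] [IsNoetherianRing A] (a : Ideal A) [IsLocalRing (A ⧸ a)] (E : Type u) [AddCommGroup E] [Module A E] (f : IsLocalRing.ResidueField A →ₗ[A] E) (hf : InjHull.IsInjectiveHull f) : ∃ g : IsLocalRing.ResidueField (A ⧸ a) →ₗ[A ⧸ a] (LocCoh.torsionBy a E), InjHull.IsInjectiveHull g := by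
  have hsub : (a : Set A) ⊆ IsLocalRing.maximalIdeal A :=
    IsLocalRing.le_maximalIdeal (Ideal.Quotient.nontrivial_iff.mp inferInstance)
  have he : f 1 ∈ LocCoh.torsionBy a E := (Submodule.mem_torsionBySet_iff _ _).mpr fun b => by
    rw [← map_smul, InjHull.Matlis.residue_smul_eq_zero (hsub b.2), map_zero]
  obtain ⟨g, hg, -⟩ := InjHull.Prime.exists_hull_of_socle_elem
    (m := IsLocalRing.maximalIdeal (A ⧸ a))
    (InjHull.Prime.injective_torsionBy a hf.isInjective) (e := ⟨f 1, he⟩) (fun h => by
      exact one_ne_zero (hf.injective ((congrArg Subtype.val h).trans (map_zero f).symm)))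
    (fun c hc => by
      obtain ⟨b, rfl⟩ := Ideal.Quotient.mk_surjective c
      have hb : b ∈ IsLocalRing.maximalIdeal A :=
        fun hu => hc (hu.map (Ideal.Quotient.mk a))
      refine Subtype.ext ?_
      change b • f 1 = 0
      rw [← map_smul, InjHull.Matlis.residue_smul_eq_zero hb, map_zero])
    (fun x hx => by
      obtain ⟨r, c, hc, hr0⟩ := InjHull.Basic.exists_smul_mem_range hf.toIsEssentialInj
        (x := (x : E)) (by simpa using hx)
      obtain ⟨b, rfl⟩ := Ideal.Quotient.mk_surjective c
      refine ⟨Ideal.Quotient.mk a r, Ideal.Quotient.mk a b, Subtype.ext ?_,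
        fun h => hr0 (congrArg Subtype.val h)⟩
      change r • (x : E) = b • f 1
      rw [← hc, ← map_smul, Algebra.smul_def, mul_one]
      rfl)
  exact ⟨g, hg⟩

end Groth.Agent.S5157
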