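import Groth.Statements.S12535
import Groth.Agent.FF.Hyper
-- import your own Groth.Agent.* helpers here

set_option autoImplicit false
open FunFld

namespace Groth.Agent.S12535

/-- Let `char k ≠ 2`, `K` of degree `2` over `k(x)`, and `y ∈ K` with `y² = f(x)`, `f` a squarefree
polynomial of degree `≥ 1`. Then a place `P` of `K` is a zero of `y` exactly when it lies over a
finite place of `k(x)` where `f` has a zero, and in that case `ord_P(y) = 1`: the divisor of zeros
of `y` is `Σ P_i`, one place over each irreducible factor of `f`, with multiplicity one. -/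
theorem result (k K : Type*) [Field k] [Field K] (h2 : ringChar k ≠ 2) [Algebra k K]
    [Algebra (RatFunc k) K] [IsScalarTower k (RatFunc k) K]
    (hdeg : Module.finrank (RatFunc k) K = 2) (y : K) (f : Polynomial k) (hf : Squarefree f)
    (hd : 1 ≤ f.natDegree)
    (heq : y ^ 2 = algebraMap (RatFunc k) K (algebraMap (Polynomial k) (RatFunc k) f)) (P : FunFld.Place k K) :
    (0 < P.ord y → P.ord y = 1) ∧
    (0 < P.ord y ↔ ∃ P₀ : FunFld.Place k (RatFunc k), FunFld.IsOver P P₀ ∧ 0 ≤ P₀.ord (RatFunc.X : RatFunc k) ∧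
      0 < P₀.ord (algebraMap (Polynomial k) (RatFunc k) f)) := by
  have H := Groth.Agent.FF.IsHyper.of (k := k) (K := K) h2 hdeg hf hd heq
  haveI := H.finite
  obtain ⟨P₀, hP⟩ := Groth.Agent.FF.exists_below (K' := K) Groth.Agent.FF.isFunctionField_ratFunc.1 P
  have hinf : 1 < P₀.1 RatFunc.X → ¬ 0 < P.ord y := fun hX hy => by
    obtain ⟨e, he⟩ := hP
    have h1 := H.two_ord_y he
    rw [H.ord_f_inf hX] at h1
    have h3 : (0 : ℤ) ≤ (e : ℤ) * f.natDegree := by positivity
    linarith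
  refine ⟨fun hy => ?_, fun hy => ?_, fun ⟨Q, hQ, hQX, hQf⟩ => ?_⟩
  · rcases H.ord_y_cases hP (not_lt.1 fun h => hinf h hy) with ⟨h, _⟩ | ⟨h, _⟩ <;> omega
  · have hX := not_lt.1 fun h => hinf h hy
    refine ⟨P₀, hP, (Groth.Agent.FF.val_le_one_iff P₀ _).1 hX, ?_⟩
    rcases H.ord_y_cases hP hX with ⟨h, _⟩ | ⟨_, h⟩ <;> omega
  · rcases H.ord_y_cases hQ ((Groth.Agent.FF.val_le_one_iff Q _).2 hQX) with ⟨_, h⟩ | ⟨h, _⟩ <;> omega

end Groth.Agent.S12535
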