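import Groth.Statements.S1254
import Groth.Agent.S1253
import Groth.Agent.HP.Glob.Free
-- import your own Groth.Agent.* helpers here

set_option autoImplicit false
universe u
open FlatMor

namespace Groth.Agent.S1254

open TensorProduct

attribute [local instance] Groth.Agent.S1253.tower_RAM

/-- The cokernel of a map universally injective up to powers of `f` into a module flat after inverting `f`. -/
theorem coker_away {R : Type u} [CommRing R] (f : R) {X Y Z : Type u} [AddCommGroup X] [Module R X] [AddCommGroup Y]
    [Module R Y] [AddCommGroup Z] [Module R Z] (a : X →ₗ[R] Y) (b : Y →ₗ[R] Z) (hab : Function.Exact a b)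
    (hb : Function.Surjective b) [Module.Flat R (LocalizedModule (Submonoid.powers f) Y)]
    (ha : ∀ (Q : Type u) [AddCommGroup Q] [Module R Q] (x : X ⊗[R] Q), a.rTensor Q x = 0 → ∃ m : ℕ, f ^ m • x = 0) :
    Function.Injective (LocalizedModule.map (Submonoid.powers f) a) ∧
      Module.Flat R (LocalizedModule (Submonoid.powers f) Z) := by
  let T := Submonoid.powers f
  let aT := (LocalizedModule.map T a).restrictScalars R
  let bT := (LocalizedModule.map T b).restrictScalars R
  have huniv : ∀ (Q : Type u) [AddCommGroup Q] [Module R Q], Function.Injective (aT.rTensor Q) := by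
    intro Q _ _
    rw [injective_iff_map_eq_zero]
    intro x hx
    let φ := AlgebraTensorModule.rTensor R Q (LocalizedModule.mkLinearMap T X)
    haveI : IsLocalizedModule T φ := inferInstance
    obtain ⟨⟨y, s⟩, hs⟩ := IsLocalizedModule.surj T φ x
    let ψ := AlgebraTensorModule.rTensor R Q (LocalizedModule.mkLinearMap T Y)
    haveI : IsLocalizedModule T ψ := inferInstance
    have h1 : ψ (a.rTensor Q y) = aT.rTensor Q (φ y) := by
      show (LocalizedModule.mkLinearMap T Y).rTensor Q (a.rTensor Q y) = aT.rTensor Q ((LocalizedModule.mkLinearMap T X).rTensor Q y)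
      rw [← LinearMap.rTensor_comp_apply, ← LinearMap.rTensor_comp_apply,
        show LocalizedModule.mkLinearMap T Y ∘ₗ a = aT ∘ₗ LocalizedModule.mkLinearMap T X from
          LinearMap.ext fun v => (LocalizedModule.map_mk T a v 1).symm]
    have h2 : ψ (a.rTensor Q y) = 0 := by rw [h1, ← hs, Submonoid.smul_def, map_smul, hx, smul_zero]
    obtain ⟨⟨_, m, rfl⟩, hm⟩ := (IsLocalizedModule.eq_zero_iff T ψ).mp h2
    obtain ⟨m', hm'⟩ := ha Q (f ^ m • y) (by rw [map_smul]; exact hm)
    have h3 : φ y = 0 := (IsLocalizedModule.eq_zero_iff T φ).mpr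
      ⟨⟨f ^ (m' + m), _, rfl⟩, by show f ^ (m' + m) • y = 0; rw [pow_add, mul_smul]; exact hm'⟩
    rw [h3] at hs
    exact ((Module.End.isUnit_iff _).mp (IsLocalizedModule.map_units φ s)).1 (hs.trans (map_zero _).symm)
  refine ⟨fun x y hxy => ?_, HP.DevStep.flat_coker aT bT (LocalizedModule.map_exact T a b hab)
    (LocalizedModule.map_surjective T b hb) huniv⟩
  refine (TensorProduct.rid R _).symm.injective (huniv R ?_)
  show aT x ⊗ₜ[R] (1 : R) = aT y ⊗ₜ[R] (1 : R)
  rw [show aT x = aT y from hxy]

theorem flatAt_of_flat_powers {R B : Type u} [CommRing R] [CommRing B] [Algebra R B] {M : Type u} [AddCommGroup M]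
    [Module B M] [Module R M] [IsScalarTower R B M] (f : R) (h : Module.Flat R (LocalizedModule (Submonoid.powers f) M))
    (Q : Ideal B) [Q.IsPrime] (hQ : algebraMap R B f ∉ Q) : FlatCA.FlatAt R Q M := by
  haveI hloc : IsLocalizedModule (Submonoid.powers f)
      ((LocalizedModule.mkLinearMap (Submonoid.powers (algebraMap R B f)) M).restrictScalars R) :=
    FlatOpen.isLocalizedModule_restrict (Submonoid.powers f) (Submonoid.powers (algebraMap R B f))
      (by simp [Algebra.algebraMapSubmonoid]) _
  refine HP.flatAt_of_flat_away (algebraMap R B f) ?_ Q hQ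
  exact Module.Flat.of_linearEquiv (IsLocalizedModule.iso (Submonoid.powers f)
    ((LocalizedModule.mkLinearMap (Submonoid.powers (algebraMap R B f)) M).restrictScalars R)).symm

theorem flat_away {R : Type u} [CommRing R] {M : Type u} [AddCommGroup M] [Module R M] [Module.Flat R M] (f : R) :
    Module.Flat R (LocalizedModule (Submonoid.powers f) M) := by
  haveI : Module.Flat R (Localization (Submonoid.powers f)) := IsLocalization.flat _ (Submonoid.powers f)
  exact Module.Flat.of_linearEquiv ((LocalizedModule.equivTensorProduct (Submonoid.powers f) M).restrictScalars R)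

theorem projective_pi {K P : Type u} [CommRing K] [AddCommGroup P] [Module K P] [Module.Projective K P] (r : ℕ) :
    Module.Projective K (Fin r → P) :=
  Module.Projective.of_equiv (DFinsupp.linearEquivFunOnFintype (R := K) (M := fun _ : Fin r => P))

theorem flat_powers_mul {R : Type u} [CommRing R] {M : Type u} [AddCommGroup M] [Module R M] (f g : R)
    (h : Module.Flat R (LocalizedModule (Submonoid.powers f) M)) :
    Module.Flat R (LocalizedModule (Submonoid.powers (f * g)) M) := by
  let Af := Localization.Away (f * g)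
  haveI := h
  let e1 := ((LocalizedModule.isBaseChange (Submonoid.powers (f * g)) M).equiv).restrictScalars R
  let e2 := ((LocalizedModule.isBaseChange (Submonoid.powers f) M).equiv).restrictScalars R
  haveI hu : IsUnit (algebraMap R Af f) := isUnit_of_mul_isUnit_left
    (y := algebraMap R Af g) (by rw [← map_mul]; exact IsLocalization.Away.algebraMap_isUnit (f * g))
  let θ : Localization.Away f →ₐ[R] Af :=
    { toRingHom := IsLocalization.Away.lift f hu
      commutes' := fun a => IsLocalization.Away.lift_eq f hu a }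
  letI : Algebra (Localization.Away f) Af := θ.toRingHom.toAlgebra
  haveI : IsScalarTower R (Localization.Away f) Af := IsScalarTower.of_algebraMap_eq fun a => (θ.commutes a).symm
  let Mf := LocalizedModule (Submonoid.powers f) M
  haveI : Module.Flat (Localization.Away f) Mf :=
    (Module.flat_iff_of_isLocalization (Localization.Away f) (Submonoid.powers f) Mf).mpr inferInstance
  haveI : Module.Flat R Af := IsLocalization.flat Af (Submonoid.powers (f * g))
  let e3 := AlgebraTensorModule.congr (LinearEquiv.refl Af Af)
    (LocalizedModule.isBaseChange (Submonoid.powers f) M).equiv.symm ≪≫ₗ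
      AlgebraTensorModule.cancelBaseChange R (Localization.Away f) Af Af M
  haveI : Module.Flat R (Af ⊗[Localization.Away f] Mf) := Module.Flat.trans R Af _
  exact Module.Flat.of_linearEquiv ((e3.restrictScalars R).trans e1).symm

/-- Reindexing along an equality. -/
def congrIdx {R S : Type u} [CommRing R] [CommRing S] [Algebra R S] {N : Type u} [AddCommGroup N]
    [Module S N] {rr : Ideal R} [rr.IsPrime] (D : FlatCA.CompleteDevissage R S N rr) (K : Type u) [CommRing K]
    [Algebra R K] {i j : ℕ} (h : i = j) :
    (Fin (D.r i) → K ⊗[R] D.B i) ≃ₗ[K] (Fin (D.r j) → K ⊗[R] D.B j) := by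
  subst h
  exact LinearEquiv.refl K _

/-- One step of the induction. -/
theorem main {R S : Type u} [CommRing R] [CommRing S] [Algebra R S] [Algebra.FinitePresentation R S]
    (N : Type u) [AddCommGroup N] [Module S N] [Module R N] [IsScalarTower R S N] [Module.FinitePresentation S N]
    [Module.Flat R N] (rr : Ideal R) [rr.IsPrime] (D : FlatCA.CompleteDevissage R S N rr) :
    ∀ i < D.n, ∃ f ∉ rr, Module.FinitePresentation (D.B i) (D.M i) ∧
      Module.Flat R (LocalizedModule (Submonoid.powers f) (D.M i)) ∧
      ∀ j ≤ i, ∀ (Q : Type u) [AddCommGroup Q] [Module R Q] (x : (Fin (D.r j) → D.B j) ⊗[R] Q),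
        ((D.α j).restrictScalars R).rTensor Q x = 0 → ∃ m : ℕ, f ^ m • x = 0 := by
  have hB : ∀ i < D.n, ∀ f ∉ rr, Module.FinitePresentation (D.B i) (D.M i) →
      Module.Flat R (LocalizedModule (Submonoid.powers f) (D.M i)) →
      ∃ f' ∉ rr, ∀ (Q : Type u) [AddCommGroup Q] [Module R Q] (x : (Fin (D.r i) → D.B i) ⊗[R] Q),
        ((D.α i).restrictScalars R).rTensor Q x = 0 → ∃ m : ℕ, f' ^ m • x = 0 := by
    intro i hi f hf hfp hfl
    haveI := D.smooth i hi
    haveI := hfp
    have hGI := HP.Glob.GI.of_smooth (D.geomIrred i hi)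
    let η := rr.map (algebraMap R (D.B i))
    haveI : η.IsPrime := D.hp i
    haveI : η.LiesOver rr := by
      refine ⟨le_antisymm Ideal.le_comap_map fun a ha => ?_⟩
      by_contra hc
      haveI := hGI rr.ResidueField
      have h0 : ∀ b ∈ η, (1 : rr.ResidueField) ⊗ₜ[R] b = 0 := fun b hb => by
        have : η ≤ RingHom.ker (Algebra.TensorProduct.includeRight : D.B i →ₐ[R] rr.ResidueField ⊗[R] D.B i).toRingHom := by
          refine Ideal.map_le_iff_le_comap.mpr fun r hr => ?_
          show (1 : rr.ResidueField) ⊗ₜ[R] algebraMap R (D.B i) r = 0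
          rw [Algebra.algebraMap_eq_smul_one, ← TensorProduct.smul_tmul, ← Algebra.algebraMap_eq_smul_one,
            Ideal.algebraMap_residueField_eq_zero.mpr hr, TensorProduct.zero_tmul]
        exact this hb
      have h1 := h0 _ ha
      rw [Algebra.algebraMap_eq_smul_one, ← TensorProduct.smul_tmul, ← Algebra.algebraMap_eq_smul_one] at h1
      exact ((isUnit_iff_ne_zero.mpr fun h => hc (Ideal.algebraMap_residueField_eq_zero.mp h)).map
        (Algebra.TensorProduct.includeLeftRingHom : rr.ResidueField →+* rr.ResidueField ⊗[R] D.B i)).ne_zero h1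
    have hfη : algebraMap R (D.B i) f ∉ η := fun h => hf ((η.over_def rr).ge h)
    obtain ⟨g, hg, hgb⟩ := HP.Glob.exists_bijective rr η
      (fun b hb => ⟨1, (Ideal.ne_top_iff_one η).mp (D.hp i).ne_top, by rwa [one_mul]⟩) (D.M i)
      (flatAt_of_flat_powers f hfl η hfη) (D.α i) (D.fibreIso i hi)
    obtain ⟨f', hf', hfg⟩ := HP.Glob.exists_fibre_ne_zero rr η g hg
    exact ⟨f', hf', fun Q _ _ x hx => HP.Glob.univInj_of_bijective hGI f' g hfg (D.α i) hgb Q x hx⟩
  intro i
  induction i with
  | zero =>
    intro hi
    haveI := D.fpSA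
    haveI : Module.Finite S (D.A 0) := Module.Finite.of_surjective (Algebra.linearMap _ _) D.surjSA
    haveI : Module.FinitePresentation S (D.M 0) := Module.FinitePresentation.of_equiv D.isoN
    haveI : Module.FinitePresentation (D.A 0) (D.M 0) := S1253.fp_of_finite_algebra S (D.A 0) (D.M 0)
    haveI : Algebra.FinitePresentation R (D.A 0) := Algebra.FinitePresentation.trans R S (D.A 0)
    haveI := D.finiteBA 0 hi
    haveI := D.smooth 0 hi
    haveI : Algebra.FinitePresentation (D.B 0) (D.A 0) :=
      Algebra.FinitePresentation.of_restrict_scalars_finitePresentation R (D.B 0) (D.A 0)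
    haveI := Module.FinitePresentation.of_finite_of_finitePresentation (R := D.B 0) (S := D.A 0)
    haveI hfp := Module.FinitePresentation.trans (D.B 0) (D.M 0) (D.A 0)
    haveI : IsScalarTower R S (D.M 0) := IsScalarTower.of_algebraMap_smul fun a x => by
      rw [← IsScalarTower.algebraMap_smul (D.A 0) (algebraMap R S a) x, ← IsScalarTower.algebraMap_apply,
        IsScalarTower.algebraMap_smul]
    haveI : Module.Flat R (D.M 0) := Module.Flat.of_linearEquiv (D.isoN.restrictScalars R).symm
    have hfl : Module.Flat R (LocalizedModule (Submonoid.powers (1 : R)) (D.M 0)) := flat_away 1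
    obtain ⟨f', hf', hinj⟩ := hB 0 hi 1 ((Ideal.ne_top_iff_one rr).mp (Ideal.IsPrime.ne_top inferInstance)) hfp hfl
    refine ⟨f', hf', hfp, one_mul f' ▸ flat_powers_mul 1 f' hfl, fun j hj => ?_⟩
    rw [Nat.le_zero] at hj
    subst hj
    exact hinj
  | succ i ih =>
    intro hi
    have hi' : i < D.n := by omega
    obtain ⟨f, hf, hfp, hfl, hinj⟩ := ih hi'
    haveI := hfp
    haveI := hfl
    haveI := D.fpBA' i hi
    haveI : IsScalarTower R (D.B i) (D.M (i + 1)) := IsScalarTower.of_algebraMap_smul fun a x => by
      rw [← IsScalarTower.algebraMap_smul (D.A (i + 1)) (algebraMap R (D.B i) a) x, ← IsScalarTower.algebraMap_apply,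
        IsScalarTower.algebraMap_smul]
    let π : D.M i →ₗ[D.B i] D.M (i + 1) := (D.isoCoker i hi).toLinearMap ∘ₗ (LinearMap.range (D.α i)).mkQ
    have hπ : Function.Surjective π := (D.isoCoker i hi).surjective.comp (Submodule.mkQ_surjective _)
    have hker : LinearMap.ker π = LinearMap.range (D.α i) := by
      rw [LinearMap.ker_comp, LinearEquiv.ker, Submodule.comap_bot, Submodule.ker_mkQ]
    haveI : Module.Finite (D.B i) (D.A (i + 1)) :=
      Module.Finite.of_surjective (Algebra.linearMap _ _) (D.surjBA' i hi)
    haveI : Module.FinitePresentation (D.B i) (D.M (i + 1)) := Module.finitePresentation_of_surjective π hπ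
      (by rw [hker, LinearMap.range_eq_map]; exact Module.Finite.fg_top.map (D.α i))
    haveI : Module.FinitePresentation (D.A (i + 1)) (D.M (i + 1)) :=
      S1253.fp_of_finite_algebra (D.B i) (D.A (i + 1)) (D.M (i + 1))
    haveI := D.smooth i hi'
    haveI := D.smooth (i + 1) hi
    haveI : Algebra.FinitePresentation R (D.A (i + 1)) := Algebra.FinitePresentation.trans R (D.B i) (D.A (i + 1))
    haveI := D.finiteBA (i + 1) hi
    haveI : Algebra.FinitePresentation (D.B (i + 1)) (D.A (i + 1)) :=
      Algebra.FinitePresentation.of_restrict_scalars_finitePresentation R (D.B (i + 1)) (D.A (i + 1))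
    haveI := Module.FinitePresentation.of_finite_of_finitePresentation (R := D.B (i + 1)) (S := D.A (i + 1))
    haveI hfp' := Module.FinitePresentation.trans (D.B (i + 1)) (D.M (i + 1)) (D.A (i + 1))
    have hfl' := (coker_away f ((D.α i).restrictScalars R) (π.restrictScalars R)
      (LinearMap.exact_iff.mpr (by rw [LinearMap.ker_restrictScalars, hker, LinearMap.range_restrictScalars]))
      hπ (hinj i le_rfl)).2
    obtain ⟨f', hf', hinj'⟩ := hB (i + 1) hi f hf hfp' hfl'
    refine ⟨f * f', fun h => ((inferInstance : rr.IsPrime).mem_or_mem h).elim hf hf', hfp',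
      flat_powers_mul f f' hfl', fun j hj Q _ _ x hx => ?_⟩
    rcases Nat.lt_or_ge j (i + 1) with hlt | hge
    · obtain ⟨m, hm⟩ := hinj j (by omega) Q x hx
      exact ⟨m, by rw [mul_pow, mul_comm, mul_smul, hm, smul_zero]⟩
    · obtain rfl : j = i + 1 := by omega
      obtain ⟨m, hm⟩ := hinj' Q x hx
      exact ⟨m, by rw [mul_pow, mul_smul, hm, smul_zero]⟩

theorem gi_baseChange {R B : Type u} [CommRing R] [CommRing B] [Algebra R B] (R' : Type u) [CommRing R'] [Algebra R R']
    (h : HP.Glob.GI R B) : HP.Glob.GI R' (R' ⊗[R] B) := by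
  intro K _ _
  letI : Algebra R K := ((algebraMap R' K).comp (algebraMap R R')).toAlgebra
  haveI : IsScalarTower R R' K := IsScalarTower.of_algebraMap_eq' rfl
  haveI := h K
  exact (Algebra.TensorProduct.cancelBaseChange R R' K K B).toRingEquiv.toMulEquiv.isDomain _

/-- Let S be a finitely presented R-algebra, N a finitely presented S-module which is flat over R, and 𝔯
a prime of R such that N/S/R admits a complete dévissage over 𝔯. Then for some f ∈ R outside 𝔯 the
localization N_f is projective over R_f, and is R_f-isomorphic to a finite product of free modules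
B_i^{r_i} over smooth R_f-algebras B_i whose fibres are geometrically irreducible. -/
theorem result {R S : Type u} [CommRing R] [CommRing S] [Algebra R S] [Algebra.FinitePresentation R S]
    (N : Type u) [AddCommGroup N] [Module S N] [Module R N] [IsScalarTower R S N] [Module.FinitePresentation S N] [Module.Flat R N]
    (rr : Ideal R) [rr.IsPrime] (D : FlatCA.CompleteDevissage R S N rr) :
    ∃ f : R, f ∉ rr ∧
      Module.Projective (Localization.Away f) (LocalizedModule (Submonoid.powers f) N) ∧
      ∃ (k : ℕ) (B : Fin k → Type u) (_ : ∀ i, CommRing (B i)) (_ : ∀ i, Algebra (Localization.Away f) (B i)) (r : Fin k → ℕ),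
        (∀ i, Algebra.Smooth (Localization.Away f) (B i) ∧ FlatCA.GeomIrredFibres (Localization.Away f) (B i)) ∧
        Nonempty (LocalizedModule (Submonoid.powers f) N ≃ₗ[Localization.Away f] (∀ i, Fin (r i) → B i)) := by
  classical
  have hn : D.n - 1 < D.n := Nat.sub_lt D.pos one_pos
  obtain ⟨f, hf, -, -, hinj⟩ := main N rr D (D.n - 1) hn
  let T := Submonoid.powers f
  let Rf := Localization.Away f
  let Bf : ℕ → Type u := fun i => Rf ⊗[R] D.B i
  have hGI : ∀ i < D.n, HP.Glob.GI Rf (Bf i) := fun i hi =>
    haveI := D.smooth i hi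
    gi_baseChange Rf (HP.Glob.GI.of_smooth (D.geomIrred i hi))
  have hprojB : ∀ i < D.n, Module.Projective Rf (Bf i) := fun i hi => by
    haveI := D.smooth i hi
    haveI := HP.DevStep.projective_of_smooth (D.geomIrred i hi)
    infer_instance
  let eF : ∀ i, LocalizedModule T (Fin (D.r i) → D.B i) ≃ₗ[Rf] (Fin (D.r i) → Bf i) := fun i =>
    LocalizedModule.equivTensorProduct T _ ≪≫ₗ TensorProduct.piRight R Rf Rf (fun _ : Fin (D.r i) => D.B i)
  have hinjf : ∀ i < D.n, Function.Injective (LocalizedModule.map T ((D.α i).restrictScalars R)) := by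
    intro i hi
    let aT := LocalizedModule.map T ((D.α i).restrictScalars R)
    rw [injective_iff_map_eq_zero]
    intro x hx
    induction x using LocalizedModule.induction_on with
    | h v t =>
      rw [LocalizedModule.map_mk, RGFlat.mk_eq_zero_iff] at hx
      obtain ⟨⟨_, m, rfl⟩, hm⟩ := hx
      obtain ⟨m', hm'⟩ := hinj i (by omega) R ((f ^ m • v) ⊗ₜ[R] (1 : R)) (by
        rw [LinearMap.rTensor_tmul, map_smul, hm, TensorProduct.zero_tmul])
      refine (RGFlat.mk_eq_zero_iff v t).mpr ⟨⟨f ^ (m' + m), _, rfl⟩, ?_⟩
      have := congrArg (TensorProduct.rid R (Fin (D.r i) → D.B i)) hm'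
      rw [map_smul, TensorProduct.rid_tmul, one_smul, map_zero, ← mul_smul, ← pow_add] at this
      exact this
  -- splitting from the last module
  have hsplit : ∀ k i, i + k + 1 = D.n →
      Module.Projective Rf (LocalizedModule T (D.M i)) ∧
        Nonempty (LocalizedModule T (D.M i) ≃ₗ[Rf] (∀ j : Fin (k + 1), Fin (D.r (i + j)) → Bf (i + j))) := by
    intro k
    induction k with
    | zero =>
      intro i hi
      have hlt : i < D.n := by omega
      have hlast : Function.Surjective (D.α i) := by
        have := D.cokerLast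
        rwa [show D.n - 1 = i by omega] at this
      let e := LinearEquiv.ofBijective (LocalizedModule.map T ((D.α i).restrictScalars R))
        ⟨hinjf i hlt, LocalizedModule.map_surjective T _ hlast⟩
      haveI := hprojB i hlt
      haveI := projective_pi (K := Rf) (P := Bf i) (D.r i)
      refine ⟨Module.Projective.of_equiv ((eF i).symm.trans e), ⟨?_⟩⟩
      exact (e.symm.trans (eF i)).trans
        (LinearEquiv.piUnique Rf (fun j : Fin 1 => Fin (D.r (i + j)) → Bf (i + j))).symm
    | succ k ih =>
      intro i hi
      have hlt : i < D.n := by omega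
      have hlt' : i + 1 < D.n := by omega
      obtain ⟨hproj, ⟨e⟩⟩ := ih (i + 1) (by omega)
      haveI := hproj
      haveI := hprojB i hlt
      haveI : IsScalarTower R (D.B i) (D.M (i + 1)) := IsScalarTower.of_algebraMap_smul fun a x => by
        rw [← IsScalarTower.algebraMap_smul (D.A (i + 1)) (algebraMap R (D.B i) a) x, ← IsScalarTower.algebraMap_apply,
          IsScalarTower.algebraMap_smul]
      let π : D.M i →ₗ[D.B i] D.M (i + 1) := (D.isoCoker i hlt').toLinearMap ∘ₗ (LinearMap.range (D.α i)).mkQ
      have hπ : Function.Surjective π := (D.isoCoker i hlt').surjective.comp (Submodule.mkQ_surjective _)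
      have hker : LinearMap.ker π = LinearMap.range (D.α i) := by
        rw [LinearMap.ker_comp, LinearEquiv.ker, Submodule.comap_bot, Submodule.ker_mkQ]
      let πT := LocalizedModule.map T (π.restrictScalars R)
      have hπT : Function.Surjective πT := LocalizedModule.map_surjective T _ hπ
      have hex : Function.Exact (LocalizedModule.map T ((D.α i).restrictScalars R)) πT :=
        LocalizedModule.map_exact T _ _
          (LinearMap.exact_iff.mpr (by rw [LinearMap.ker_restrictScalars, hker, LinearMap.range_restrictScalars]))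
      obtain ⟨σ, hσ⟩ := Module.projective_lifting_property πT LinearMap.id hπT
      obtain ⟨e1, -⟩ := hex.splitSurjectiveEquiv (hinjf i hlt) ⟨σ, hσ⟩
      haveI := projective_pi (K := Rf) (P := Bf i) (D.r i)
      haveI : Module.Projective Rf (LocalizedModule T (Fin (D.r i) → D.B i)) := Module.Projective.of_equiv (eF i).symm
      refine ⟨Module.Projective.of_equiv e1.symm, ⟨?_⟩⟩
      let G : Fin (k + 1 + 1) → Type u := fun j => Fin (D.r (i + j)) → Bf (i + j)
      let e2 : (∀ j : Fin (k + 1), Fin (D.r (i + 1 + j)) → Bf (i + 1 + j)) ≃ₗ[Rf] (∀ j : Fin (k + 1), G j.succ) :=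
        LinearEquiv.piCongrRight fun j =>
          congrIdx D Rf (show i + 1 + (j : ℕ) = i + (j.succ : ℕ) by simp; omega)
      exact e1.trans ((LinearEquiv.prodCongr (eF i) (e.trans e2)).trans (Fin.consLinearEquiv Rf G))
  obtain ⟨hP, ⟨e⟩⟩ := hsplit (D.n - 1) 0 (by omega)
  haveI := hP
  haveI : IsScalarTower R S (D.M 0) := IsScalarTower.of_algebraMap_smul fun a x => by
    rw [← IsScalarTower.algebraMap_smul (D.A 0) (algebraMap R S a) x, ← IsScalarTower.algebraMap_apply,
      IsScalarTower.algebraMap_smul]
  let eN : LocalizedModule T N ≃ₗ[Rf] LocalizedModule T (D.M 0) :=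
    HP.locEquiv T (D.isoN.restrictScalars R)
  refine ⟨f, hf, Module.Projective.of_equiv eN.symm, D.n - 1 + 1, fun j => Bf (0 + j), inferInstance, inferInstance,
    fun j => D.r (0 + j), fun j => ?_, ⟨eN.trans e⟩⟩
  have hj : 0 + (j : ℕ) < D.n := by omega
  haveI := D.smooth _ hj
  haveI : FlatCA.GeomIntegralFibres Rf (Bf (0 + j)) := (hGI _ hj).geomIntegral
  exact ⟨inferInstance, inferInstance⟩

end Groth.Agent.S1254
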