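import Groth.Statements.S12540
import Groth.Agent.Wt.ChevalleyGeneral
import Groth.Agent.GrpScheme.Basic
import Groth.Agent.AlgSp.FppfLocal2

set_option autoImplicit false
universe u
open CategoryTheory CategoryTheory.Limits MonoidalCategory CartesianMonoidalCategory MonObj GrpObj AlgebraicGeometry
open AlgGrp

namespace Groth.Agent.S12540

/-- Over an algebraically closed field k, let G be an algebraic group (a smooth k-group scheme of finite
type), h : H → G a closed subgroup scheme, and h' : H' → H a closed subgroup scheme of H which is
reduced with the same underlying space as H (the reduced subgroup scheme H_red; it is a subgroup of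
G through h' ≫ h). Let X, with its G-action and base point, be the quotient G/H, and X' the quotient
G/H' (each locally of finite type over k, with flat surjective orbit map identifying G × H with G
×_X G, respectively G × H' with G ×_{X'} G). Then X is affine if and only if X' is affine. (The
published statement adds the same equivalence with the identity component of H_red; that clause is
not stated here.) -/
theorem result (k : Type u) [Field k] [IsAlgClosed k]
    (G : Over (Spec (CommRingCat.of k))) [GrpObj G] [Smooth G.hom] [QuasiCompact G.hom]
    (H : Over (Spec (CommRingCat.of k))) [GrpObj H] (h : H ⟶ G) [IsMonHom h] [IsClosedImmersion h.left]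
    (H' : Over (Spec (CommRingCat.of k))) [GrpObj H'] (h' : H' ⟶ H) [IsMonHom h'] [IsClosedImmersion h'.left]
    [Surjective h'.left] [IsReduced H'.left]
    (X : Over (Spec (CommRingCat.of k))) (a : AlgGrp.Action G X) (o : 𝟙_ (Over (Spec (CommRingCat.of k))) ⟶ X)
    (hX : AGF.IsQuotient h X a o)
    (X' : Over (Spec (CommRingCat.of k))) (a' : AlgGrp.Action G X') (o' : 𝟙_ (Over (Spec (CommRingCat.of k))) ⟶ X')
    (hX' : AGF.IsQuotient (h' ≫ h) X' a' o') :
    IsAffine X.left ↔ IsAffine X'.left := by
  obtain ⟨hXlft, hpf, hps, sq⟩ := hX
  obtain ⟨hXlft', hpf', hps', sq'⟩ := hX'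
  let p := a.orbitMap o
  let p' := a'.orbitMap o'
  have : Flat p.left := hpf
  have : Surjective p.left := hps
  have : Flat p'.left := hpf'
  have : Surjective p'.left := hps'
  have : IsLocallyNoetherian X'.left := LocallyOfFiniteType.isLocallyNoetherian X'.hom
  have : IsLocallyNoetherian X.left := LocallyOfFiniteType.isLocallyNoetherian X.hom
  have : LocallyOfFiniteType p'.left := by
    have : LocallyOfFiniteType (p'.left ≫ X'.hom) := by rw [Over.w p']; infer_instance
    exact locallyOfFiniteType_of_comp _ X'.hom
  have : LocallyOfFiniteType p.left := by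
    have : LocallyOfFiniteType (p.left ≫ X.hom) := by rw [Over.w p]; infer_instance
    exact locallyOfFiniteType_of_comp _ X.hom
  have : LocallyOfFinitePresentation p'.left :=
    LocallyOfFinitePresentation.iff_locallyOfFiniteType.2 ‹_›
  have : LocallyOfFinitePresentation p.left :=
    LocallyOfFinitePresentation.iff_locallyOfFiniteType.2 ‹_›
  have sql := sq.map (Over.forget _)
  have sql' := sq'.map (Over.forget _)
  let m := ((G ◁ h) ≫ μ[G]).left
  let m' := ((G ◁ (h' ≫ h)) ≫ μ[G]).left
  -- the comparison map
  have hm' : m' = (G ◁ h').left ≫ m := by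
    simp [m, m', MonoidalCategory.whiskerLeft_comp]
  have hf' : (fst G H').left = (G ◁ h').left ≫ (fst G H).left := by
    rw [← Over.comp_left, whiskerLeft_fst]
  have hsur : Surjective (G ◁ h').left :=
    GrpScheme.Basic.whiskerLeft_mem _ h' G inferInstance
  let π : X'.left ⟶ X.left := EffectiveEpi.desc p'.left p.left fun {Z} g₁ g₂ e => by
    have e1 := sql.w
    obtain ⟨l, hl₁, hl₂⟩ : ∃ l : Z ⟶ (G ⊗ H').left, l ≫ (fst G H').left = g₁ ∧ l ≫ m' = g₂ :=
      ⟨sql'.lift g₁ g₂ e, sql'.lift_fst _ _ _, sql'.lift_snd _ _ _⟩
    rw [← hl₁, ← hl₂, hf', hm']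
    simp only [Category.assoc]
    exact congrArg (fun x => l ≫ (G ◁ h').left ≫ x) e1
  have hπ : p'.left ≫ π = p.left := EffectiveEpi.fac _ _ _
  have : LocallyOfFiniteType π := by
    have hover : π ≫ X.hom = X'.hom := by
      rw [← cancel_epi p'.left, reassoc_of% hπ, Over.w p, Over.w p']
    have : LocallyOfFiniteType (π ≫ X.hom) := by rw [hover]; infer_instance
    exact locallyOfFiniteType_of_comp _ X.hom
  -- after base change along the orbit map it has a surjective section
  let q := pullback.fst p.left π
  let s : G.left ⟶ pullback p.left π := pullback.lift (𝟙 _) p'.left (by rw [Category.id_comp, hπ])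
  have hsq : s ≫ q = 𝟙 _ := pullback.lift_fst _ _ _
  let M : (G ⊗ H).left ⟶ pullback p.left π :=
    pullback.lift (fst G H).left (m ≫ p'.left) (by
      rw [Category.assoc, hπ]
      exact sql.w)
  have : Surjective M := by
    have big : IsPullback (M ≫ pullback.fst p.left π) m p.left (p'.left ≫ π) := by
      rw [hπ, pullback.lift_fst]
      exact sql
    exact MorphismProperty.of_isPullback
      (IsPullback.of_right big (pullback.lift_snd _ _ _) (IsPullback.of_hasPullback p.left π)).flip ‹Surjective p'.left›
  have : Surjective s := by
    have e : (G ◁ h').left ≫ M = (fst G H').left ≫ s := by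
      apply pullback.hom_ext
      · simp only [M, s, Category.assoc, pullback.lift_fst, Category.comp_id, ← hf']
      · simp only [M, s, Category.assoc, pullback.lift_snd]
        rw [← Category.assoc, ← hm']
        exact sql'.w.symm
    have : Surjective ((fst G H').left ≫ s) := by rw [← e]; infer_instance
    exact Surjective.of_comp (fst G H').left s
  have : Surjective (pullback.diagonal q) := by
    have hmap := MorphismProperty.pullbackMap (P := @Surjective) (f := 𝟙 G.left) (g := 𝟙 G.left)
      (f' := q) (g' := q) (i₁ := s) (i₂ := s) ‹Surjective s› ‹Surjective s› hsq.symm hsq.symm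
    let u := pullback.fst (𝟙 G.left) (𝟙 G.left) ≫ s
    have hu : u ≫ pullback.diagonal q = pullback.map (𝟙 G.left) (𝟙 G.left) q q s s (𝟙 _)
        ((Category.comp_id _).trans hsq.symm) ((Category.comp_id _).trans hsq.symm) := by
      have hc : pullback.fst (𝟙 G.left) (𝟙 G.left) = pullback.snd (𝟙 G.left) (𝟙 G.left) := by
        simpa using pullback.condition (f := 𝟙 G.left) (g := 𝟙 G.left)
      apply pullback.hom_ext
      · simp [u, hc, pullback.map]
        exact (pullback.lift_fst _ _ _).symm
      · simp [u, hc, pullback.map]
        exact (pullback.lift_snd _ _ _).symm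
    have : Surjective (u ≫ pullback.diagonal q) := by rw [hu]; exact hmap
    exact Surjective.of_comp u (pullback.diagonal q)
  have : UniversallyInjective q := (UniversallyInjective.iff_diagonal q).2 inferInstance
  have : IsSeparated q := ⟨IsClosedImmersion.of_isPreimmersion _ (by
    rw [(pullback.diagonal q).surjective.range_eq]
    exact isClosed_univ)⟩
  have : UniversallyClosed (s ≫ q) := by rw [hsq]; infer_instance
  have : UniversallyClosed q := UniversallyClosed.of_comp_surjective s q
  have : IsProper q := { }
  have : LocallyQuasiFinite q := LocallyQuasiFinite.of_injective q.injective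
  have hqfin : IsFinite q := IsFinite.of_isProper_of_locallyQuasiFinite q
  have hπfin : IsFinite π := by
    refine MorphismProperty.IsLocalAtTarget.of_forall_pullbackSnd (K := Scheme.fppfPrecoverage)
      (R := Presieve.singleton p.left) (p.left.singleton_mem_fppfPrecoverage) ?_
    intro W k _ hk
    cases hk
    have e : IsFinite ((pullbackSymmetry π p.left).hom ≫ pullback.fst p.left π) := inferInstance
    rwa [pullbackSymmetry_hom_comp_fst] at e
  constructor
  · intro _
    exact isAffine_of_isAffineHom π
  · intro _
    have : Surjective (p'.left ≫ π) := by rw [hπ]; infer_instance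
    have : Surjective π := Surjective.of_comp p'.left π
    exact Wt.Chevalley.isAffine π

end Groth.Agent.S12540
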