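import Groth.Statements.S6624
import Groth.Agent.GrothSS.Main
-- import your own Groth.Agent.* helpers here

set_option autoImplicit false
universe w w' v v' u u'
open CategoryTheory CategoryTheory.Limits
open CohDer

namespace Groth.Agent.S6624


section

variable {A : Type u} [Category.{v} A] [Abelian A] [EnoughInjectives A]
    {B : Type u'} [Category.{v'} B] [Abelian B] (F : A ⥤ B) [F.Additive]

/-- the degree zero part -/
lemma quasiIsoAt_zero_iff {X : A} (I : InjectiveResolution X) :
    QuasiIsoAt ((F.mapHomologicalComplex (ComplexShape.up ℕ)).map I.ι) 0 ↔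
      IsIso (F.toRightDerivedZero.app X) := by
  rw [I.toRightDerivedZero_eq F]
  have : IsIso ((CochainComplex.isoHomologyπ₀ ((F.mapHomologicalComplex (ComplexShape.up ℕ)).obj
      I.cocomplex)).hom ≫ (I.isoRightDerivedObj F 0).inv) :=
    (CochainComplex.isoHomologyπ₀ _ ≪≫ (I.isoRightDerivedObj F 0).symm).isIso_hom
  refine Iff.trans ?_ (isIso_comp_right_iff _ _).symm
  refine Iff.trans ?_ (CochainComplex.isIso_liftCycles_iff _ _ _).symm
  rw [CochainComplex.quasiIsoAt₀_iff, ShortComplex.quasiIso_iff_of_zeros]
  · refine ShortComplex.exact_and_mono_f_iff_of_iso ?_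
    exact ShortComplex.isoMk (Iso.refl _) (Iso.refl _) (Iso.refl _)
      ((Category.id_comp _).trans (Category.comp_id _).symm)
      ((Category.id_comp _).trans (Category.comp_id _).symm)
  all_goals first
    | rfl
    | exact (congrArg F.map (I.cocomplex.shape 0 0 (by simp))).trans (F.map_zero _ _)
    | exact (congrArg F.map (HomologicalComplex.single_obj_d (ComplexShape.up ℕ) 0 X _ _)).trans (F.map_zero _ _)

/-- quasi-isomorphism of `F` of the augmentation of a resolution -/
lemma quasiIso_map_iff {X : A} (I : InjectiveResolution X) :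
    QuasiIso ((F.mapHomologicalComplex (ComplexShape.up ℕ)).map I.ι) ↔
      (IsIso (F.toRightDerivedZero.app X) ∧ ∀ i : ℕ, 0 < i → IsZero ((F.rightDerived i).obj X)) := by
  have h : ∀ n : ℕ, QuasiIsoAt ((F.mapHomologicalComplex (ComplexShape.up ℕ)).map I.ι) (n + 1) ↔
      IsZero ((F.rightDerived (n + 1)).obj X) := fun n => by
    have hex : ((F.mapHomologicalComplex (ComplexShape.up ℕ)).obj
        ((CochainComplex.single₀ A).obj X)).ExactAt (n + 1) := ShortComplex.exact_of_isZero_X₂ _
      (F.map_isZero (HomologicalComplex.isZero_single_obj_X (ComplexShape.up ℕ) 0 X (n + 1)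
        (by omega)))
    rw [quasiIsoAt_iff_exactAt _ _ hex,
      HomologicalComplex.exactAt_iff_isZero_homology, (I.isoRightDerivedObj F (n + 1)).isZero_iff]
    rfl
  rw [quasiIso_iff]
  refine ⟨fun hq => ⟨(quasiIsoAt_zero_iff F I).1 (hq 0), fun i hi => ?_⟩, fun hq i => ?_⟩
  · obtain ⟨n, rfl⟩ : ∃ n, i = n + 1 := ⟨i - 1, by omega⟩
    exact (h n).1 (hq _)
  · rcases i with _ | n
    · exact (quasiIsoAt_zero_iff F I).2 hq.1
    · exact (h n).2 (hq.2 _ (by omega))

lemma glue {D : Type*} [Category D] {X P Q Y X' Y' : D} (a : X ≅ P) (g : P ⟶ Q) (b : Y ≅ Q)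
    (c : X' ≅ P) (d : Y' ≅ Q) :
    (a.hom ≫ g ≫ b.inv) ≫ (b.hom ≫ d.inv) = (a.hom ≫ c.inv) ≫ c.hom ≫ g ≫ d.inv := by
  simp

omit [EnoughInjectives A] in
lemma mapExtendIso_hom_f (K : CochainComplex A ℕ) (n : ℤ) (hn : 0 ≤ n) :
    (Groth.Agent.GrothSS.Main.mapExtendIso F K).hom.f n =
      F.map (K.extendXIso ComplexShape.embeddingUpNat (i := n.toNat) (by simp; omega)).hom ≫
        (HomologicalComplex.extendXIso ((F.mapHomologicalComplex (ComplexShape.up ℕ)).obj K)
            ComplexShape.embeddingUpNat (i := n.toNat) (by simp; omega)).inv := by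
  show Iso.hom (dite _ _ _) = _
  rw [dif_pos hn]
  rfl

omit [EnoughInjectives A] in
lemma arrow_mapExtend {K L : CochainComplex A ℕ} (φ : K ⟶ L) :
    (F.mapHomologicalComplex (ComplexShape.up ℤ)).map (HomologicalComplex.extendMap φ ComplexShape.embeddingUpNat) ≫
        (Groth.Agent.GrothSS.Main.mapExtendIso F L).hom =
      (Groth.Agent.GrothSS.Main.mapExtendIso F K).hom ≫
        HomologicalComplex.extendMap ((F.mapHomologicalComplex (ComplexShape.up ℕ)).map φ)
          ComplexShape.embeddingUpNat := by
  ext n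
  by_cases hn : 0 ≤ n
  · rw [HomologicalComplex.comp_f, HomologicalComplex.comp_f, mapExtendIso_hom_f F K n hn,
      mapExtendIso_hom_f F L n hn, Functor.mapHomologicalComplex_map_f,
      HomologicalComplex.extendMap_f φ ComplexShape.embeddingUpNat (i := n.toNat) (by simp; omega),
      HomologicalComplex.extendMap_f _ ComplexShape.embeddingUpNat (i := n.toNat) (by simp; omega),
      F.map_comp, F.map_comp]
    exact glue (F.mapIso _) (F.map (φ.f n.toNat)) (F.mapIso _) _ _
  · exact (F.map_isZero (K.isZero_extend_X _ _ (by simp; omega))).eq_of_src _ _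

variable [HasDerivedCategory.{w} A] [HasDerivedCategory.{w'} B]

lemma isIso_unit_iff {X : A} (I : InjectiveResolution X) :
    IsIso (F.rightDerivedFunctorPlusUnit.app ((HomotopyCategory.Plus.singleFunctor A 0).obj X)) ↔
      QuasiIso ((F.mapHomologicalComplex (ComplexShape.up ℕ)).map I.ι) := by
  let J : HomotopyCategory.Plus A :=
    (HomotopyCategory.Plus.quotient A).obj ⟨I.cochainComplex, ⟨0, inferInstance⟩⟩
  have hJinj : ∀ n, Injective (J.obj.as.X n) := fun n =>
    inferInstanceAs (Injective (I.cochainComplex.X n))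
  let Y := (HomotopyCategory.Plus.singleFunctor A 0).obj X
  let u : Y ⟶ J := ObjectProperty.homMk ((HomotopyCategory.quotient A (ComplexShape.up ℤ)).map I.ι')
  have hu : IsIso (DerivedCategory.Plus.Qh.map u) := by
    have : IsIso (DerivedCategory.Qh.map
        ((HomotopyCategory.quotient A (ComplexShape.up ℤ)).map I.ι')) :=
      (NatIso.isIso_map_iff (DerivedCategory.quotientCompQhIso A) I.ι').2 inferInstance
    have : IsIso (DerivedCategory.Plus.ι.map (DerivedCategory.Plus.Qh.map u)) := this
    exact isIso_of_fully_faithful DerivedCategory.Plus.ι _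
  have hJ : IsIso (F.rightDerivedFunctorPlusUnit.app J) := inferInstance
  have hnat : DerivedCategory.Plus.Qh.map (F.mapHomotopyCategoryPlus.map u) ≫
      F.rightDerivedFunctorPlusUnit.app J =
      F.rightDerivedFunctorPlusUnit.app Y ≫ F.rightDerivedFunctorPlus.map (DerivedCategory.Plus.Qh.map u) :=
    F.rightDerivedFunctorPlusUnit.naturality u
  have h1 : IsIso (F.rightDerivedFunctorPlusUnit.app Y) ↔
      IsIso (DerivedCategory.Plus.Qh.map (F.mapHomotopyCategoryPlus.map u)) := by
    rw [← isIso_comp_right_iff (DerivedCategory.Plus.Qh.map (F.mapHomotopyCategoryPlus.map u))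
      (F.rightDerivedFunctorPlusUnit.app J), hnat]
    exact (isIso_comp_right_iff _ _).symm
  have h2 : IsIso (DerivedCategory.Plus.Qh.map (F.mapHomotopyCategoryPlus.map u)) ↔
      QuasiIso ((F.mapHomologicalComplex (ComplexShape.up ℤ)).map I.ι') := by
    rw [← DerivedCategory.isIso_Q_map_iff_quasiIso,
      ← NatIso.isIso_map_iff (DerivedCategory.quotientCompQhIso B)]
    exact ⟨fun h => Functor.map_isIso DerivedCategory.Plus.ι (DerivedCategory.Plus.Qh.map (F.mapHomotopyCategoryPlus.map u)),
      fun h =>
        have : IsIso (DerivedCategory.Plus.ι.map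
          (DerivedCategory.Plus.Qh.map (F.mapHomotopyCategoryPlus.map u))) := h
        isIso_of_fully_faithful DerivedCategory.Plus.ι _⟩
  refine h1.trans (h2.trans ?_)
  have hdef : (F.mapHomologicalComplex (ComplexShape.up ℤ)).map I.ι' =
      (F.mapHomologicalComplex (ComplexShape.up ℤ)).map
          (HomologicalComplex.extendSingleIso ComplexShape.embeddingUpNat X 0 0 (by simp)).inv ≫
        (F.mapHomologicalComplex (ComplexShape.up ℤ)).map
          (HomologicalComplex.extendMap I.ι ComplexShape.embeddingUpNat) :=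
    (F.mapHomologicalComplex (ComplexShape.up ℤ)).map_comp _ _
  have hiso : IsIso ((F.mapHomologicalComplex (ComplexShape.up ℤ)).map
      (HomologicalComplex.extendSingleIso ComplexShape.embeddingUpNat X 0 0 (by simp)).inv) :=
    Functor.map_isIso _ _
  have hqi : QuasiIso ((F.mapHomologicalComplex (ComplexShape.up ℤ)).map
      (HomologicalComplex.extendSingleIso ComplexShape.embeddingUpNat X 0 0 (by simp)).inv) :=
    quasiIso_of_isIso _
  rw [hdef]
  refine Iff.trans (quasiIso_iff_comp_left (hφ := hqi) _ _) ?_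
  rw [← HomologicalComplex.quasiIso_extendMap_iff _ ComplexShape.embeddingUpNat]
  exact quasiIso_iff_of_arrow_mk_iso _ _
    (Arrow.isoMk (Groth.Agent.GrothSS.Main.mapExtendIso F _)
      (Groth.Agent.GrothSS.Main.mapExtendIso F _) (arrow_mapExtend F I.ι).symm)

end


/-- Part (1): in the case where A has enough injectives: let F : A ⥤ B be an additive functor between
abelian categories, A with enough injectives, and X an object of A. Then X is right acyclic for F,
i.e. the canonical map F(X)[0] ⟶ RF(X[0]) is an isomorphism in D⁺(B), if and only if F(X) ⟶ R⁰F(X)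
is an isomorphism and RⁱF(X) = 0 for all i > 0. -/
theorem result {A : Type u} [Category.{v} A] [Abelian A] [HasDerivedCategory.{w} A] [EnoughInjectives A]
    {B : Type u'} [Category.{v'} B] [Abelian B] [HasDerivedCategory.{w'} B]
    (F : A ⥤ B) [F.Additive] (X : A) :
    IsIso (F.rightDerivedFunctorPlusUnit.app ((HomotopyCategory.Plus.singleFunctor A 0).obj X)) ↔
      (IsIso (F.toRightDerivedZero.app X) ∧ ∀ i : ℕ, 0 < i → IsZero ((F.rightDerived i).obj X)) := by
  let I : InjectiveResolution X := Classical.choice (HasInjectiveResolution.out (Z := X))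
  rw [← quasiIso_map_iff F I]
  exact isIso_unit_iff F I

end Groth.Agent.S6624
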