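import Groth.Statements.S12542
import Groth.Agent.H85.HMLinear

set_option autoImplicit false
universe u
open TensorProduct LaurentPolynomial
open GIT

namespace Groth.Agent.S12542

/-- Let k be an algebraically closed field of characteristic zero and G = Spec A a linearly reductive
affine algebraic group (A a finitely generated commutative Hopf algebra whose finite-dimensional
comodules are all semisimple) acting linearly on affine ι-space, and let v ≠ 0 be a vector. Then v
is semistable (some invariant homogeneous polynomial of positive degree is non-zero at v) if and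
only if μ(v, λ) ≥ 0 for every one-parameter subgroup λ of G, where μ(v, λ) = m means that t^m · (v
moved by λ(t)) tends to a non-zero vector as t → 0. (The published result concerns a reductive group
acting on any proper scheme with an ample linearised invertible sheaf; this row is the case of
projective space with the hyperplane bundle, to which the published proof reduces, stated on the
affine cone.) -/
theorem result (k : Type u) [Field k] [IsAlgClosed k] [CharZero k]
    (A : Type u) [CommRing A] [HopfAlgebra k A] [Algebra.FiniteType k A] (hG : HopfRep.IsLinearlyReductive k A)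
    (ι : Type u) [Fintype ι] [HopfRep.Comod k A (MvPolynomial ι k)] [GLin.IsCoactAlg k A (MvPolynomial ι k)]
    (hlin : GLin.IsLinear k A ι) (v : ι → k) (hv : v ≠ 0) :
    GLin.IsSemistableVec k A v ↔
      ∀ (lam : A →ₐc[k] k[T;T⁻¹]) (m : ℤ), GLin.IsMu k A lam v m → 0 ≤ m := by
  classical
  constructor
  · intro hss lam m hm
    by_contra hlt
    apply hss
    intro F hF d hd hhom
    obtain ⟨hμ1, -⟩ := (GITLib.isMu_iff lam v m).1 hm
    obtain ⟨h, hh, hh0⟩ := (GITLib.isLimit_zero_iff (A := A) lam v).2 fun i n hn => hμ1 i n (by lia)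
    have hconst : GLin.lamOrbit k A lam (GLin.vecPt k ι v) F = algebraMap k k[T;T⁻¹] (MvPolynomial.eval v F) := by
      rw [GLin.lamOrbit, AlgHom.comp_apply, InvQLib.orbitHom_of_fixed hF, AlgHom.commutes]
      rfl
    have h1 : h F = Polynomial.C (MvPolynomial.eval v F) := by
      refine Polynomial.toLaurent_injective ?_
      rw [Polynomial.toLaurent_C, ← Polynomial.toLaurentAlg_apply, ← AlgHom.comp_apply, hh, hconst]
      rfl
    have h2 := AlgHom.congr_fun hh0 F
    rw [AlgHom.comp_apply, h1, Polynomial.aeval_C, Algebra.algebraMap_self_apply] at h2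
    rw [h2]
    exact (MvPolynomial.aeval_zero' (R := k) (σ := ι) _).trans
      (by simp [MvPolynomial.constantCoeff_eq, hhom.coeff_eq_zero (d := (0 : ι →₀ ℕ)) (by simpa using hd.ne)])
  · intro hμ hnull
    obtain ⟨z, hzv, hz0⟩ := InvQLib.exists_common_of_forall_eq (R := MvPolynomial ι k) hG (GLin.vecPt k ι v)
      (GLin.vecPt k ι fun _ => (0 : k)) fun F hF => GITLib.eval_eq_of_isNullform hlin hnull hF
    have hz : z = GLin.vecPt k ι fun _ => (0 : k) :=
      GITLib.eq_zero_of_inOrbitClosure_zero (A := A) hlin (Ideal.le_radical.trans hz0)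
    obtain ⟨𝕍, φ, hφ⟩ := H85.HMCurve.exists_curve (GLin.orbitHom k A (GLin.vecPt k ι v))
      (GLin.vecPt k ι fun _ => (0 : k)) (hz ▸ Ideal.le_radical.trans hzv) fun g hg => hv (by
        have h1 : InvQLib.move g (GLin.vecPt k ι v) = GLin.vecPt k ι fun _ => (0 : k) := hg
        have h2 : InvQLib.move (InvQLib.pinv g) (InvQLib.move g (GLin.vecPt k ι v)) = GLin.vecPt k ι v := by
          rw [InvQLib.move_move, InvQLib.pmul_pinv_self, InvQLib.move_counit]
        funext i
        have h3 := AlgHom.congr_fun h2 (MvPolynomial.X i)
        rw [h1, InvQLib.move, AlgHom.comp_apply, GITLib.orbitHom_zero_X hlin, map_zero] at h3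
        simpa using h3.symm)
    obtain ⟨lam, h1, h2, -⟩ := H85.HMLinear.exists_oneParam hG hlin v 𝕍 φ fun i => (hφ _).1
    obtain ⟨μ, hm⟩ := GITLib.exists_isMu lam hv
    obtain ⟨-, i, hi⟩ := (GITLib.isMu_iff lam v μ).1 hm
    refine hi ?_
    have hle := hμ lam μ hm
    rcases (neg_nonpos.2 hle).lt_or_eq with h | h
    · exact h1 i _ h
    · rw [h]
      exact h2 (fun j => ((hφ (MvPolynomial.X j)).2).trans (by simp)) i

end Groth.Agent.S12542
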