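import Groth.Statements.S12543
import Groth.Agent.H85.HMLinear

set_option autoImplicit false
universe u
open TensorProduct LaurentPolynomial
open GIT

namespace Groth.Agent.S12543

/-- Let k be an algebraically closed field of characteristic zero and G = Spec A a linearly reductive
affine algebraic group acting linearly on affine ι-space, and let v ≠ 0. Then v is stable for the
affine action (its orbit is closed and its stabiliser finite, i.e. the point [v] of projective space
is properly stable) if and only if μ(v, λ) > 0 for every non-trivial one-parameter subgroup λ of G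
(one that does not factor through the counit), where μ(v, λ) = m means that t^m · (v moved by λ(t))
tends to a non-zero vector as t → 0. (The published result concerns a reductive group acting on any
proper scheme with an ample linearised invertible sheaf and its properly stable points; this row is
the case of projective space with the hyperplane bundle, to which the published proof reduces,
stated on the affine cone. The published statement also lets λ range over all one-parameter
subgroups; along the trivial one μ = 0 for every v ≠ 0, so that reading fails for every stable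
vector and the trivial subgroup is excluded here, as the published proof in fact produces a
non-trivial one.) -/
theorem result (k : Type u) [Field k] [IsAlgClosed k] [CharZero k]
    (A : Type u) [CommRing A] [HopfAlgebra k A] [Algebra.FiniteType k A] (hG : HopfRep.IsLinearlyReductive k A)
    (ι : Type u) [Fintype ι] [HopfRep.Comod k A (MvPolynomial ι k)] [GLin.IsCoactAlg k A (MvPolynomial ι k)]
    (hlin : GLin.IsLinear k A ι) (v : ι → k) (hv : v ≠ 0) :
    GLin.IsStableVec k A v ↔
      ∀ lam : A →ₐc[k] k[T;T⁻¹], ¬ SGA3t2b.IsTrivialBialgHom lam →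
        ∀ m : ℤ, GLin.IsMu k A lam v m → 0 < m := by
  classical
  constructor
  · intro hst lam hlam m hm
    by_contra hle
    obtain ⟨hμ1, -⟩ := (GITLib.isMu_iff lam v m).1 hm
    exact H85.HMLinear.not_isStablePt_of_hasLimit hlam
      ((GITLib.hasLimit_iff lam v).2 fun i n hn => hμ1 i n (by lia)) hst
  · intro hμ
    have key : ∀ (𝕍 : H85.HMCurve.Valued k) (φ : A →ₐ[k] 𝕍.L),
        (∀ i, φ (GLin.orbitHom k A (GLin.vecPt k ι v) (MvPolynomial.X i)) ∈ 𝕍.O) → ∀ a, φ a ∈ 𝕍.O := by
      intro 𝕍 φ hmem
      by_contra hne
      push Not at hne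
      obtain ⟨lam, h1, -, h3⟩ := H85.HMLinear.exists_oneParam hG hlin v 𝕍 φ hmem
      obtain ⟨μ, hm⟩ := GITLib.exists_isMu lam hv
      obtain ⟨-, i, hi⟩ := (GITLib.isMu_iff lam v μ).1 hm
      exact hi (h1 i _ (by have := hμ lam (h3 hne) μ hm; lia))
    refine ⟨Comod.isClosedOrbit_of_points _ fun z hz => ?_, ?_⟩
    · by_contra hne
      push Not at hne
      obtain ⟨𝕍, φ, hφ⟩ := H85.HMCurve.exists_curve (GLin.orbitHom k A (GLin.vecPt k ι v)) z hz
        fun g hg => hne g hg.symm
      have hint := key 𝕍 φ fun i => (hφ _).1
      let g : A →ₐ[k] k :=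
        { toRingHom := 𝕍.red.comp (φ.toRingHom.codRestrict 𝕍.O.toSubring hint)
          commutes' := fun c => by
            have hc : (φ.toRingHom.codRestrict 𝕍.O.toSubring hint) (algebraMap k A c) =
                (⟨algebraMap k 𝕍.L c, 𝕍.mem c⟩ : 𝕍.O) := Subtype.ext (φ.commutes c)
            change 𝕍.red _ = c
            rw [hc, 𝕍.red_alg] }
      refine hne g (AlgHom.ext fun r => ?_)
      obtain ⟨h, hr⟩ := hφ r
      exact hr.symm
    · unfold GLin.HasFiniteStab
      by_contra hinf
      obtain ⟨𝕍, ψ, x, hx⟩ := H85.HMCurve.exists_escape (C := A ⧸ GLin.stabIdeal k A (GLin.vecPt k ι v)) hinf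
      obtain ⟨a, rfl⟩ := Ideal.Quotient.mk_surjective x
      refine hx (key 𝕍 (ψ.comp (Ideal.Quotient.mkₐ k _)) (fun i => ?_) a)
      have hmk : Ideal.Quotient.mkₐ k (GLin.stabIdeal k A (GLin.vecPt k ι v))
          (GLin.orbitHom k A (GLin.vecPt k ι v) (MvPolynomial.X i)) = algebraMap k _ (v i) := by
        rw [← AlgHom.commutes (Ideal.Quotient.mkₐ k (GLin.stabIdeal k A (GLin.vecPt k ι v))),
          Ideal.Quotient.mkₐ_eq_mk, Ideal.Quotient.eq,
          ← AlgHom.commutes (GLin.orbitHom k A (GLin.vecPt k ι v)), ← map_sub]
        exact Ideal.mem_map_of_mem _ (by simp [RingHom.mem_ker])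
      rw [AlgHom.comp_apply, hmk, AlgHom.commutes]
      exact 𝕍.mem _

end Groth.Agent.S12543
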