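import Groth.Statements.S12545
import Groth.Agent.GITLib.Mu

set_option autoImplicit false
universe u
open TensorProduct LaurentPolynomial
open GIT

namespace Groth.Agent.S12545

/-- Let a commutative bialgebra A over a field k coact linearly on affine ι-space, let λ be a
one-parameter subgroup (a bialgebra map to the Laurent polynomial ring) and v ≠ 0 a vector; write
μ(v, λ) = m when t^m · (v moved by λ(t)) extends to the affine line with non-zero value at t = 0.
Then v moved by λ(t) has no limit as t → 0 exactly when μ(v, λ) > 0, has a limit different from the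
origin exactly when μ(v, λ) = 0, and tends to the origin exactly when μ(v, λ) < 0. -/
theorem result (k : Type u) [Field k] (A : Type u) [CommRing A] [Bialgebra k A]
    (ι : Type u) [Fintype ι] [HopfRep.Comod k A (MvPolynomial ι k)] [GLin.IsCoactAlg k A (MvPolynomial ι k)]
    (hlin : GLin.IsLinear k A ι) (lam : A →ₐc[k] k[T;T⁻¹]) (v : ι → k) (hv : v ≠ 0) :
    (¬ GLin.HasLimit k A lam (GLin.vecPt k ι v) ↔ ∃ m : ℤ, GLin.IsMu k A lam v m ∧ 0 < m) ∧
      ((GLin.HasLimit k A lam (GLin.vecPt k ι v) ∧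
          ¬ GLin.IsLimit k A lam (GLin.vecPt k ι v) (GLin.vecPt k ι (fun _ => (0 : k)))) ↔
        GLin.IsMu k A lam v 0) ∧
      (GLin.IsLimit k A lam (GLin.vecPt k ι v) (GLin.vecPt k ι (fun _ => (0 : k))) ↔
        ∃ m : ℤ, GLin.IsMu k A lam v m ∧ m < 0) := by
  obtain ⟨μ, hμ⟩ := GITLib.exists_isMu lam hv
  have huniq : ∀ m, GLin.IsMu k A lam v m ↔ m = μ :=
    fun m => ⟨fun h => GITLib.isMu_unique h hμ, fun h => h ▸ hμ⟩
  have hμ' := (GITLib.isMu_iff lam v μ).1 hμ
  obtain ⟨i, hi⟩ := hμ'.2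
  have hl : GLin.HasLimit k A lam (GLin.vecPt k ι v) ↔ μ ≤ 0 := by
    rw [GITLib.hasLimit_iff]
    exact ⟨fun h => not_lt.1 fun hlt => hi (h i _ (by lia)), fun h j n hn => hμ'.1 j n (by lia)⟩
  have hz : GLin.IsLimit k A lam (GLin.vecPt k ι v) (GLin.vecPt k ι (fun _ => (0 : k))) ↔ μ < 0 := by
    rw [GITLib.isLimit_zero_iff]
    exact ⟨fun h => not_le.1 fun hle => hi (h i _ (by lia)), fun h j n hn => hμ'.1 j n (by lia)⟩
  simp only [hl, hz, huniq]
  refine ⟨by simp, ?_, by simp⟩
  lia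

end Groth.Agent.S12545
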