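import Groth.Statements.S12546
import Groth.Agent.GITForms86.Destab

set_option autoImplicit false
universe u
open TensorProduct LaurentPolynomial
open GIT

namespace Groth.Agent.S12546

open Groth.Agent.GITForms86 MvPolynomial in
theorem deg_of_coeff_ne {k : Type u} [Field k] {n d : ℕ} (a : CoordGrp.FormIdx n d → k)
    (M : Matrix (Fin n) (Fin n) k) (m : Fin n →₀ ℕ) (hm : coeff m (sub M (CoordGrp.formPoly a)) ≠ 0) :
    ∑ i, m i = d := by
  have hhom : (CoordGrp.formPoly a).IsHomogeneous d :=
    IsHomogeneous.sum _ _ _ fun m _ => isHomogeneous_monomial _ m.2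
  have := (isHomogeneous_sub M hhom) hm
  rw [Pi.one_def, ← Finsupp.degree_eq_weight_one, Finsupp.degree_eq_sum] at this
  exact this


/-- Let k be an algebraically closed field of characteristic zero and let SL_2 act by substitution on
binary forms of degree d, a form being the point a = (a_0, …, a_d) with F = Σ_i (d choose i) a_i
x^(d−i) y^i. For a ≠ 0: a is stable (closed orbit, finite stabiliser) if and only if every non-zero
linear form ℓ and every m with ℓ^m dividing F satisfy 2m < d, i.e. F has no root on the projective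
line of multiplicity d/2 or more. -/
theorem result (k : Type u) [Field k] [IsAlgClosed k] [CharZero k]
    (d : ℕ) (a : Fin (d + 1) → k) (ha : a ≠ 0) :
    @GLin.IsStableVec k _ (CoordGrp.SLn 2 k) _ _ (CoordGrp.FormIdx 2 d) (GLin.comodAlong ((CoordGrp.SLn.mkHom 2 k).comp (CoordGrp.Mat.toGLn 2 k)) (CoordGrp.formsCoact k 2 d))
      (GLin.isCoactAlg_comodAlong ((CoordGrp.SLn.mkHom 2 k).comp (CoordGrp.Mat.toGLn 2 k)) (CoordGrp.formsCoact k 2 d)
        (CoordGrp.formsCoact_isCoactAlg k 2 d))
      (CoordGrp.binVec d a) ↔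
      ∀ ℓ : MvPolynomial (Fin 2) k, ℓ.IsHomogeneous 1 → ℓ ≠ 0 →
        ∀ m : ℕ, ℓ ^ m ∣ CoordGrp.formPoly (CoordGrp.binVec d a) → 2 * m < d := by
  change Groth.Agent.GITForms86.IsStableForm k 2 d (CoordGrp.binVec d a) ↔ _
  set b := CoordGrp.binVec d a
  constructor
  · intro hst ℓ hℓh hℓ0 m hdvd
    by_contra hlt
    push Not at hlt
    -- coordinates in which `ℓ` becomes the second variable
    let c : Fin 2 → k := fun i => MvPolynomial.coeff (Finsupp.single i 1) ℓ
    have hℓ : ℓ = MvPolynomial.C (c 0) * MvPolynomial.X 0 + MvPolynomial.C (c 1) * MvPolynomial.X 1 := by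
      ext e
      by_cases he : e.degree = 1
      · obtain ⟨i, rfl⟩ : ∃ i, Finsupp.single i 1 = e := by
          rw [Finsupp.degree_eq_sum, Fin.sum_univ_two] at he
          by_cases h0 : e 0 = 1
          · exact ⟨0, by ext i; fin_cases i <;> simp <;> omega⟩
          · exact ⟨1, by ext i; fin_cases i <;> simp <;> omega⟩
        fin_cases i <;> simp [c, MvPolynomial.coeff_X, MvPolynomial.coeff_X', Finsupp.single_left_inj]
      · rw [hℓh.coeff_eq_zero he]
        have e0 : e ≠ Finsupp.single 0 1 := fun h => he (by simp [h])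
        have e1 : e ≠ Finsupp.single 1 1 := fun h => he (by simp [h])
        simp [MvPolynomial.coeff_X', Ne.symm e0, Ne.symm e1]
    obtain ⟨M, hM, h0, h1⟩ : ∃ M : Matrix (Fin 2) (Fin 2) k, M.det = 1 ∧
        c 0 * M 0 0 + c 1 * M 1 0 = 0 ∧ c 0 * M 0 1 + c 1 * M 1 1 = 1 := by
      by_cases hc : c 1 = 0
      · have hc0 : c 0 ≠ 0 := by
          intro h; apply hℓ0; rw [hℓ, h, hc]; simp
        exact ⟨!![0, (c 0)⁻¹; -c 0, 0], by simp [Matrix.det_fin_two, hc0], by simp [hc], by simp [hc, hc0]⟩
      · exact ⟨!![c 1, 0; -c 0, (c 1)⁻¹], by simp [Matrix.det_fin_two, hc], by simp; ring, by simp [hc]⟩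
    have hX : Groth.Agent.GITForms86.sub M ℓ = MvPolynomial.X 1 := by
      rw [hℓ, map_add, map_mul, map_mul, MvPolynomial.algHom_C, MvPolynomial.algHom_C,
        Groth.Agent.GITForms86.sub_X, Groth.Agent.GITForms86.sub_X, Fin.sum_univ_two, Fin.sum_univ_two,
        MvPolynomial.algebraMap_eq]
      have e0 := congrArg (MvPolynomial.C (σ := Fin 2)) h0
      have e1 := congrArg (MvPolynomial.C (σ := Fin 2)) h1
      simp only [map_add, map_mul, map_zero, map_one] at e0 e1
      linear_combination (MvPolynomial.X 0 : MvPolynomial (Fin 2) k) * e0 + (MvPolynomial.X 1) * e1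
    obtain ⟨q, hq⟩ := hdvd
    refine Groth.Agent.GITForms86.not_isStableForm_of_destab b M hM ![-1, 1] (by simp)
      (fun h => by simpa using congrFun h 1) (fun e he => ?_) hst
    have hd := deg_of_coeff_ne b M e he
    rw [Fin.sum_univ_two] at hd
    simp [Fin.sum_univ_two]
    have hm1 : m ≤ e 1 := by
      by_contra hlt'
      apply he
      rw [hq, map_mul, map_pow, hX, MvPolynomial.X_pow_eq_monomial, MvPolynomial.coeff_monomial_mul', if_neg]
      intro hle
      exact hlt' (by simpa using hle 1)
    omega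
  · intro h
    apply Groth.Agent.GITForms86.isStableForm_of_noDestab
    by_contra hnd
    obtain ⟨κ, _, f, g, Γ, _, _, _, w, hg, hanti, hne, hprod, hsupp⟩ := Groth.Agent.GITForms86.exists_sorted hnd
    rw [Fin.prod_univ_two] at hprod
    have h01 : w 1 ≤ w 0 := hanti (by decide)
    have h0 : 1 < w 0 := by
      by_contra hle
      push Not at hle
      apply hne
      have e1 : w 1 = 1 := le_antisymm (h01.trans hle) (by rw [← hprod]; exact mul_le_of_le_one_left' hle)
      rw [e1, mul_one] at hprod
      funext i; fin_cases i <;> assumption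
    let Z : Finset (Fin 2 →₀ ℕ) :=
      ((Finset.univ : Finset (CoordGrp.FormIdx 2 d)).filter (fun e => e.1 1 < e.1 0)).image Subtype.val
    obtain ⟨M, hM, hMZ⟩ := Groth.Agent.GITForms86.exists_descend (by norm_num) (CoordGrp.formPoly b) Z κ f g hg
      (fun e he => by
        obtain ⟨e, he', rfl⟩ := Finset.mem_image.mp he
        have hlt := (Finset.mem_filter.mp he').2
        by_contra hc
        have := hsupp e.1 hc
        rw [Fin.prod_univ_two, show e.1 0 = (e.1 0 - e.1 1) + e.1 1 by omega, pow_add, mul_assoc, ← mul_pow,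
          hprod, one_pow, mul_one] at this
        exact not_le.mpr (one_lt_pow' h0 (by omega)) this)
    let r := (d + 1) / 2
    have hdiv : (MvPolynomial.X 1 : MvPolynomial (Fin 2) k) ^ r ∣
        Groth.Agent.GITForms86.sub M (CoordGrp.formPoly b) := by
      rw [(Groth.Agent.GITForms86.sub M (CoordGrp.formPoly b)).as_sum]
      refine Finset.dvd_sum fun e he => ?_
      rw [MvPolynomial.mem_support_iff] at he
      have hd := deg_of_coeff_ne b M e he
      have hle : e 0 ≤ e 1 := by
        by_contra hlt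
        push Not at hlt
        exact he (hMZ e (Finset.mem_image.mpr ⟨⟨e, by rw [Finsupp.degree_eq_sum]; exact hd⟩,
          by simp [hlt], rfl⟩))
      rw [Fin.sum_univ_two] at hd
      rw [MvPolynomial.X_pow_eq_monomial]
      refine MvPolynomial.monomial_dvd_monomial.mpr ⟨Or.inr ?_, one_dvd _⟩
      intro i; fin_cases i <;> simp [r]
      omega
    have hu : IsUnit M.det := by rw [hM]; exact isUnit_one
    have hinv : ∀ F, Groth.Agent.GITForms86.sub M⁻¹ (Groth.Agent.GITForms86.sub M F) = F := fun F => by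
      rw [Groth.Agent.GITForms86.sub_sub, Matrix.mul_nonsing_inv M hu, Groth.Agent.GITForms86.sub_one]
    have hinv' : ∀ F, Groth.Agent.GITForms86.sub M (Groth.Agent.GITForms86.sub M⁻¹ F) = F := fun F => by
      rw [Groth.Agent.GITForms86.sub_sub, Matrix.nonsing_inv_mul M hu, Groth.Agent.GITForms86.sub_one]
    obtain ⟨q, hq⟩ := hdiv
    have := h (Groth.Agent.GITForms86.sub M⁻¹ (MvPolynomial.X 1))
      (Groth.Agent.GITForms86.isHomogeneous_sub _ (MvPolynomial.isHomogeneous_X _ _))
      (fun h0' => MvPolynomial.X_ne_zero (R := k) (1 : Fin 2) (by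
        have := congrArg (Groth.Agent.GITForms86.sub M) h0'
        rwa [hinv', map_zero] at this))
      r ⟨Groth.Agent.GITForms86.sub M⁻¹ q, by rw [← map_pow, ← map_mul, ← hq, hinv]⟩
    simp only [r] at this
    omega

end Groth.Agent.S12546
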