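import Groth.Statements.S12547
import Groth.Agent.H85.HMPoly

set_option autoImplicit false
universe u
open TensorProduct LaurentPolynomial
open GIT

namespace Groth.Agent.S12547

open MvPolynomial Groth.Agent.H85 in
theorem exists_mat {k : Type*} [Field k] (p : Fin 2 → k) (hp : p ≠ 0) :
    ∃ M : Matrix (Fin 2) (Fin 2) k, M.det = 1 ∧ Matrix.vecMul p M = Pi.single 0 1 := by
  by_cases h0 : p 0 = 0
  · have h1 : p 1 ≠ 0 := fun h1 => hp (funext fun i => by fin_cases i <;> assumption)
    refine ⟨!![0, -p 1; (p 1)⁻¹, 0], by simp [Matrix.det_fin_two, h1], funext fun i => ?_⟩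
    fin_cases i <;> simp [Matrix.vecMul, dotProduct, Fin.sum_univ_two, h0, h1]
  · refine ⟨!![(p 0)⁻¹, -p 1; 0, p 0], by simp [Matrix.det_fin_two, h0], funext fun i => ?_⟩
    fin_cases i
    · simp [Matrix.vecMul, dotProduct, Fin.sum_univ_two, h0]
    · simp [Matrix.vecMul, dotProduct, Fin.sum_univ_two]; ring

open MvPolynomial Groth.Agent.H85 in
theorem pow_dvd_of {k : Type*} [Field k] {P : MvPolynomial (Fin 2) k} {i : Fin 2} {m : ℕ}
    (h : ∀ s ∈ P.support, m ≤ s i) : X i ^ m ∣ P := by
  rw [P.as_sum]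
  refine Finset.dvd_sum fun s hs => ?_
  rw [X_pow_eq_monomial, monomial_dvd_monomial]
  exact ⟨Or.inr (Finsupp.single_le_iff.2 (h s hs)), one_dvd _⟩

/-- Let k be an algebraically closed field of characteristic zero and let SL_2 act by substitution on
binary forms of degree d, a form being the point a = (a_0, …, a_d) with F = Σ_i (d choose i) a_i
x^(d−i) y^i. For a ≠ 0: a is semistable (some invariant homogeneous polynomial of positive degree in
the coefficients is non-zero at a) if and only if every non-zero linear form ℓ and every m with ℓ^m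
dividing F satisfy 2m ≤ d, i.e. F has no root on the projective line of multiplicity more than d/2. -/
theorem result (k : Type u) [Field k] [IsAlgClosed k] [CharZero k]
    (d : ℕ) (a : Fin (d + 1) → k) (ha : a ≠ 0) :
    @GLin.IsSemistableVec k _ (CoordGrp.SLn 2 k) _ _ (CoordGrp.FormIdx 2 d) (GLin.comodAlong ((CoordGrp.SLn.mkHom 2 k).comp (CoordGrp.Mat.toGLn 2 k)) (CoordGrp.formsCoact k 2 d))
      (GLin.isCoactAlg_comodAlong ((CoordGrp.SLn.mkHom 2 k).comp (CoordGrp.Mat.toGLn 2 k)) (CoordGrp.formsCoact k 2 d)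
        (CoordGrp.formsCoact_isCoactAlg k 2 d))
      (CoordGrp.binVec d a) ↔
      ∀ ℓ : MvPolynomial (Fin 2) k, ℓ.IsHomogeneous 1 → ℓ ≠ 0 →
        ∀ m : ℕ, ℓ ^ m ∣ CoordGrp.formPoly (CoordGrp.binVec d a) → 2 * m ≤ d := by
  open MvPolynomial Groth.Agent.H85 in
  classical
  set F := CoordGrp.formPoly (CoordGrp.binVec d a) with hF
  have hF0 : F ≠ 0 := by
    intro h
    refine ha (funext fun i => ?_)
    have := HMForms.formPoly_injective (a₁ := CoordGrp.binVec d a) (a₂ := 0) (h.trans (by simp [CoordGrp.formPoly]))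
    simpa using congrFun this (CoordGrp.binIdx d i)
  refine (HMForms.isSemistableVec_iff le_rfl _).trans ?_
  constructor
  · intro hno ℓ hℓ hℓ0 m hdvd
    by_contra hm
    have hp : ℓ = ∑ j, MvPolynomial.C (coeff (Finsupp.single j 1) ℓ) * X j := by
      have hd : ∀ j, pderiv j ℓ = MvPolynomial.C (coeff (Finsupp.single j 1) ℓ) := fun j => by
        rw [(totalDegree_eq_zero_iff_eq_C.1 (Nat.le_zero.1 (hℓ.pderiv (i := j)).totalDegree_le)), coeff_pderiv]
        simp
      have := hℓ.sum_X_mul_pderiv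
      rw [one_smul] at this
      conv_lhs => rw [← this]
      exact Finset.sum_congr rfl fun j _ => by rw [hd, mul_comm]
    set p : Fin 2 → k := fun j => coeff (Finsupp.single j 1) ℓ with hpdef
    have hp0 : p ≠ 0 := by
      intro h0
      apply hℓ0
      rw [hp]
      refine Finset.sum_eq_zero fun j _ => ?_
      rw [show coeff (Finsupp.single j 1) ℓ = 0 from congrFun h0 j, map_zero, zero_mul]
    obtain ⟨M, hM, hpM⟩ := exists_mat p hp0
    have hsub : HMForms.sub M ℓ = X 0 := by
      conv_lhs => rw [hp]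
      rw [map_sum, Finset.sum_congr rfl fun j _ => show HMForms.sub M (MvPolynomial.C (p j) * X j) =
        ∑ i, MvPolynomial.C (p j * M j i) * X i by
          rw [map_mul, HMForms.sub, aeval_C, algebraMap_eq, aeval_X, Finset.mul_sum]
          exact Finset.sum_congr rfl fun i _ => by rw [← mul_assoc, ← map_mul], Finset.sum_comm]
      simp only [← Finset.sum_mul, ← map_sum]
      refine (Finset.sum_congr rfl fun i _ => by
        rw [show ∑ j, p j * M j i = (Pi.single 0 1 : Fin 2 → k) i from congrFun hpM i]).trans ?_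
      simp [Fin.sum_univ_two]
    refine hno ⟨M, ![1, -1], hM, by simp [Fin.sum_univ_two], ?_⟩
    refine (HMPoly.support_act_iff M _ fun s => 0 < ∑ i, (![1, -1] : Fin 2 → ℤ) i * (s i : ℤ)).2 fun s hs => ?_
    have hdeg : s.degree = d := by
      by_contra hne
      exact mem_support_iff.1 hs
        ((HMPoly.isHomogeneous_sub M (HMForms.isHomogeneous_formPoly _)).coeff_eq_zero hne)
    obtain ⟨G, hG⟩ : X 0 ^ m ∣ HMForms.sub M F := by
      rw [← hsub, ← map_pow]
      exact map_dvd _ hdvd
    have hs0 : m ≤ s 0 := by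
      by_contra hlt
      apply mem_support_iff.1 hs
      rw [hG, X_pow_eq_monomial, coeff_monomial_mul', if_neg fun hle => hlt (Finsupp.single_le_iff.1 hle)]
    rw [Finsupp.degree_eq_sum, Fin.sum_univ_two] at hdeg
    simp [Fin.sum_univ_two]
    lia
  · rintro hroot ⟨M, ν, hM, hν, hpos⟩
    rw [Fin.sum_univ_two] at hν
    replace hpos := (HMPoly.support_act_iff M _ fun s => 0 < ∑ i, ν i * (s i : ℤ)).1 hpos
    have hM0 : M.det ≠ 0 := by rw [hM]; exact one_ne_zero
    obtain ⟨i, hi⟩ : ∃ i, X i ^ (d / 2 + 1) ∣ HMForms.sub M F := by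
      refine ⟨if 0 < ν 0 then 0 else 1, pow_dvd_of fun s hs => ?_⟩
      have h1 := hpos s hs
      have hdeg : s.degree = d := by
        by_contra hne
        exact mem_support_iff.1 hs
          ((HMPoly.isHomogeneous_sub M (HMForms.isHomogeneous_formPoly _)).coeff_eq_zero hne)
      rw [Finsupp.degree_eq_sum, Fin.sum_univ_two] at hdeg
      simp only [Fin.sum_univ_two, show ν 1 = -ν 0 by lia] at h1
      split_ifs with h
      · have h2 : 0 < ν 0 * ((s 0 : ℤ) - s 1) := by linarith
        have := (pos_iff_pos_of_mul_pos h2).1 h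
        lia
      · have h2 : 0 < ν 0 * ((s 0 : ℤ) - s 1) := by linarith
        have : ¬ (0 < (s 0 : ℤ) - s 1) := fun h3 => h ((pos_iff_pos_of_mul_pos h2).2 h3)
        have : (s 0 : ℤ) - s 1 ≠ 0 := fun h3 => by rw [h3, mul_zero] at h2; exact lt_irrefl _ h2
        lia
    have hdvd : HMForms.sub M⁻¹ (X i) ^ (d / 2 + 1) ∣ F := by
      rw [← HMPoly.sub_inv_cancel M hM0 F, ← map_pow]
      exact map_dvd _ hi
    have := hroot _ (HMPoly.isHomogeneous_sub _ (isHomogeneous_X k i)) (fun h0 => ?_) _ hdvd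
    · lia
    · rw [h0, zero_pow (by lia), zero_dvd_iff] at hdvd
      exact hF0 hdvd

end Groth.Agent.S12547
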