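import Groth.Statements.S12549
import Groth.Agent.GITLib.Chain

set_option autoImplicit false
universe u
open GIT

namespace Groth.Agent.S12549

/-- Let g ≥ 1 and n ≥ 2g, and let e_0, …, e_n be natural numbers with e_0 = 0, e_n = n + g, e_0 ≤ … ≤
e_n, e_i ≤ i for i ≤ n − g and e_i ≤ i + g for all i. Then for all real r_0 ≥ r_1 ≥ … ≥ r_n with Σ
r_i = 0, not all zero, some chain 0 = c_0 < c_1 < … < c_μ = n has Σ_j (e_(c_(j+1)) − e_(c_j)) ·
(r_(c_(j+1)) + r_(c_j)) < 0. -/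
theorem result (n g : ℕ) (hg : 1 ≤ g) (hn : 2 * g ≤ n)
    (e : Fin (n + 1) → ℕ) (he0 : e 0 = 0) (hen : e (Fin.last n) = n + g) (hmono : Monotone e)
    (hle : ∀ i : Fin (n + 1), (i : ℕ) ≤ n - g → e i ≤ (i : ℕ)) (hle' : ∀ i : Fin (n + 1), e i ≤ (i : ℕ) + g)
    (r : Fin (n + 1) → ℝ) (hanti : Antitone r) (hsum : ∑ i, r i = 0) (hr : r ≠ 0) :
    ∃ (μ : ℕ) (c : Fin (μ + 1) → Fin (n + 1)), StrictMono c ∧ c 0 = 0 ∧ c (Fin.last μ) = Fin.last n ∧
      ∑ j : Fin μ, ((e (c j.succ) : ℝ) - (e (c j.castSucc) : ℝ)) * (r (c j.succ) + r (c j.castSucc)) < 0 := by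
  let R : ℕ → ℝ := fun i => if h : i < n + 1 then r ⟨i, h⟩ else 0
  let E : ℕ → ℝ := fun i => if h : i < n + 1 then (e ⟨i, h⟩ : ℝ) else 0
  have hR : ∀ i : Fin (n + 1), R i = r i := fun i => dif_pos i.isLt
  have hE : ∀ i : Fin (n + 1), E i = e i := fun i => dif_pos i.isLt
  have hRanti : ∀ i j, i ≤ j → j ≤ n → R j ≤ R i := fun i j hij hj => by
    simp only [R, show i < n + 1 by omega, show j < n + 1 by omega, dif_pos]
    exact hanti (Fin.mk_le_mk.2 hij)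
  obtain ⟨i₀, hi₀⟩ := Function.ne_iff.1 hr
  obtain ⟨μ, c, hc, hc0, hcμ, hneg⟩ := GITLib.Chain.exists_chain_top hg hn R hRanti
    (by rw [← Fin.sum_univ_eq_sum_range]; simpa [hR] using hsum)
    ⟨i₀, by omega, by rw [hR]; exact hi₀⟩
  have hcle : ∀ j, j ≤ μ → c j ≤ n := fun j hj => by
    rcases hj.eq_or_lt with rfl | hj
    · exact hcμ.le
    · exact hcμ ▸ (hc j μ hj le_rfl).le
  have hcz : ∀ j, j ≤ μ → c 0 ≤ c j := fun j hj => by simp [hc0]
  let d : Fin (μ + 1) → Fin (n + 1) := fun j => ⟨c j, by have := hcle j (Nat.lt_succ_iff.1 j.isLt); omega⟩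
  refine ⟨μ, d, fun i j hij => hc i j hij (Nat.lt_succ_iff.1 j.isLt), Fin.ext hc0, Fin.ext hcμ, ?_⟩
  refine lt_of_eq_of_lt ?_ (lt_of_le_of_lt (add_le_of_nonpos_right (GITLib.Chain.sum_le_of_le (μ := μ)
    (fun j => E (c j) - GITLib.Chain.top n g (c j)) (fun j => R (c j)) ?_ ?_ ?_ ?_)) hneg)
  · rw [← Finset.sum_add_distrib, ← Fin.sum_univ_eq_sum_range]
    refine Finset.sum_congr rfl fun j _ => ?_
    rw [← hE (d j.succ), ← hE (d j.castSucc), ← hR (d j.succ), ← hR (d j.castSucc)]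
    simp only [d, Fin.val_succ, Fin.val_castSucc]
    ring
  · intro j hj
    have := hcle j hj
    rw [sub_nonpos, show E (c j) = e ⟨c j, by omega⟩ from hE ⟨c j, by omega⟩, GITLib.Chain.top]
    split_ifs with h
    · exact_mod_cast hle ⟨c j, by omega⟩ (by simp; omega)
    · exact_mod_cast hle' ⟨c j, by omega⟩
  · simp only [hc0]
    rw [show E 0 = e 0 from hE 0, he0, GITLib.Chain.top_zero n g (by omega)]
    simp
  · simp only [hcμ]
    rw [show E n = e (Fin.last n) from hE (Fin.last n), hen, GITLib.Chain.top, if_neg (by omega)]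
    simp
  · intro i j hij hj
    refine hRanti _ _ ?_ (hcle j hj)
    rcases hij.eq_or_lt with rfl | hij
    exacts [le_rfl, (hc i j hij hj).le]

end Groth.Agent.S12549
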