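import Groth.Statements.S1255
import Groth.Agent.RGFlat.AssocEtale
import Groth.Agent.RGFlat.RelAssSpec
import Groth.Agent.FlatMor.FlatAtBC
import Mathlib.RingTheory.Ideal.GoingDown
import Mathlib.RingTheory.Etale.Basic

set_option autoImplicit false
universe u
open FlatMor

namespace Groth.Agent.S1255

open TensorProduct Groth.Agent.RGFlat.Impurity

/-- A common elementary étale refinement of two elementary étale neighbourhoods. -/
theorem exists_common_nhd {A A' A₂ : Type u} [CommRing A] [CommRing A'] [CommRing A₂] [Algebra A A'] [Algebra A A₂]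
    (p : Ideal A) [p.IsPrime] (p' : Ideal A') [p'.IsPrime] (t : Ideal A₂) [t.IsPrime]
    (h' : FlatCA.IsEtaleNhd A A' p p') (h : FlatCA.IsEtaleNhd A A₂ p t) :
    ∃ (C : Type u) (_ : CommRing C) (_ : Algebra A C) (_ : Algebra A₂ C) (_ : Algebra A' C)
      (_ : IsScalarTower A A₂ C) (_ : IsScalarTower A A' C) (c : Ideal C) (_ : c.IsPrime),
      Module.Flat A₂ C ∧ c.comap (algebraMap A₂ C) = t ∧ c.comap (algebraMap A' C) = p' ∧
        FlatCA.IsEtaleNhd A' C p' c := by
  obtain ⟨he', hp'o, hb'⟩ := h'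
  obtain ⟨he, hto, hb⟩ := h
  haveI := he'
  haveI := he
  haveI := hp'o
  haveI := hto
  let C := A' ⊗[A] A₂
  letI : Algebra A₂ C := Algebra.TensorProduct.rightAlgebra
  let E' := AlgEquiv.ofBijective (Ideal.ResidueField.mapₐ p p' (Algebra.ofId A A') hp'o.over) hb'
  let E := AlgEquiv.ofBijective (Ideal.ResidueField.mapₐ p t (Algebra.ofId A A₂) hto.over) hb
  let φ : C →ₐ[A] p.ResidueField := Algebra.TensorProduct.lift
    (E'.symm.toAlgHom.comp (IsScalarTower.toAlgHom A A' p'.ResidueField))
    (E.symm.toAlgHom.comp (IsScalarTower.toAlgHom A A₂ t.ResidueField)) fun _ _ => Commute.all _ _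
  have hφ' : ∀ a, φ (algebraMap A' C a) = E'.symm (algebraMap A' p'.ResidueField a) := fun a => by
    show φ (a ⊗ₜ 1) = _
    refine (Algebra.TensorProduct.lift_tmul _ _ _ a (1 : A₂)).trans ?_
    simp
  have hφ₂ : ∀ a, φ (algebraMap A₂ C a) = E.symm (algebraMap A₂ t.ResidueField a) := fun a => by
    show φ (1 ⊗ₜ a) = _
    refine (Algebra.TensorProduct.lift_tmul _ _ _ (1 : A') a).trans ?_
    simp
  let c : Ideal C := RingHom.ker φ
  haveI : c.IsPrime := RingHom.ker_isPrime _
  have hct : c.comap (algebraMap A₂ C) = t := by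
    ext a
    rw [Ideal.mem_comap, RingHom.mem_ker, hφ₂, map_eq_zero_iff _ E.symm.injective, Ideal.algebraMap_residueField_eq_zero]
  have hcp : c.comap (algebraMap A' C) = p' := by
    ext a
    rw [Ideal.mem_comap, RingHom.mem_ker, hφ', map_eq_zero_iff _ E'.symm.injective, Ideal.algebraMap_residueField_eq_zero]
  haveI : c.LiesOver p' := ⟨hcp.symm⟩
  haveI : c.LiesOver t := ⟨hct.symm⟩
  haveI : c.LiesOver p := Ideal.LiesOver.trans c p' p
  haveI : IsScalarTower A A₂ C := IsScalarTower.of_algebraMap_eq fun a => by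
    show algebraMap A A' a ⊗ₜ[A] (1 : A₂) = (1 : A') ⊗ₜ[A] algebraMap A A₂ a
    rw [Algebra.algebraMap_eq_smul_one, Algebra.algebraMap_eq_smul_one, TensorProduct.smul_tmul]
  haveI : Module.Flat A₂ C := by
    haveI : Algebra.IsPushout A A₂ A' C := Algebra.IsPushout.symm inferInstance
    exact Module.Flat.isBaseChange A A₂ A' C (Algebra.IsPushout.out (R := A) (S := A₂) (R' := A') (S' := C))
  let M := Ideal.ResidueField.mapₐ p c (Algebra.ofId A C) (Ideal.over_def c p)
  let M' := Ideal.ResidueField.mapₐ p' c (Algebra.ofId A' C) (Ideal.over_def c p')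
  let M₂ := Ideal.ResidueField.mapₐ t c (Algebra.ofId A₂ C) (Ideal.over_def c t)
  have hM : ∀ x, algebraMap C c.ResidueField x = M (φ x) := by
    intro x
    induction x using TensorProduct.induction_on with
    | zero => simp
    | tmul a b =>
      have h1 : M (E'.symm (algebraMap A' p'.ResidueField a)) = M' (algebraMap A' p'.ResidueField a) := by
        have he : (M'.restrictScalars A).comp E'.toAlgHom = M := Ideal.ResidueField.algHom_ext (Subsingleton.elim _ _)
        rw [← he, AlgHom.comp_apply]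
        simp
      have h2 : M (E.symm (algebraMap A₂ t.ResidueField b)) = M₂ (algebraMap A₂ t.ResidueField b) := by
        have he : (M₂.restrictScalars A).comp E.toAlgHom = M := Ideal.ResidueField.algHom_ext (Subsingleton.elim _ _)
        rw [← he, AlgHom.comp_apply]
        simp
      rw [show a ⊗ₜ[A] b = algebraMap A' C a * algebraMap A₂ C b by
          show _ = (a ⊗ₜ[A] (1 : A₂)) * ((1 : A') ⊗ₜ[A] b)
          rw [Algebra.TensorProduct.tmul_mul_tmul, mul_one, one_mul],
        map_mul, map_mul, map_mul, hφ', hφ₂, h1, h2, AlgHom.commutes, AlgHom.commutes,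
        ← IsScalarTower.algebraMap_apply, ← IsScalarTower.algebraMap_apply]
    | add x y hx hy => rw [map_add, map_add, map_add, hx, hy]
  have hMb : Function.Surjective M := by
    intro z
    obtain ⟨x, s, -, rfl⟩ := IsFractionRing.div_surjective (C ⧸ c) z
    obtain ⟨x, rfl⟩ := Ideal.Quotient.mk_surjective x
    obtain ⟨s, rfl⟩ := Ideal.Quotient.mk_surjective s
    refine ⟨φ x / φ s, ?_⟩
    rw [map_div₀, ← hM, ← hM]
    rfl
  refine ⟨C, inferInstance, inferInstance, inferInstance, inferInstance, inferInstance, inferInstance, c, inferInstance,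
    inferInstance, hct, hcp, inferInstance, inferInstance, RingHom.injective _, fun z => ?_⟩
  obtain ⟨y, rfl⟩ := hMb z
  refine ⟨E' y, ?_⟩
  exact AlgHom.congr_fun
    (show (M'.restrictScalars A).comp E'.toAlgHom = M from Ideal.ResidueField.algHom_ext (Subsingleton.elim _ _)) y

/-- Ring form, all schemes affine: let B be an A-algebra of finite type, N a finite B-module and p a
prime of A such that N is flat over A at every prime of B over p. Let (A, p) → (A', p') be an
elementary étale ring map and B' an étale B-algebra which is compatibly an A'-algebra of finite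
type, with base change N' of N to B', such that N' is pure along the fibre over p' and every prime q
of B over p whose extension to the fibre ring over p is an associated prime of the fibre module of N
is the contraction of a prime of B' lying over p'. Let B_{A'} and N_{A'} be the base changes of B
and N to A' (any models), with the induced map B_{A'} → B'. Then N is pure along the fibre over p if
and only if: for every prime t' ⊆ p' of A' and every prime Q of B_{A'} over t' whose extension to
the fibre ring over t' is an associated prime of the fibre module of N_{A'}, Q is the contraction of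
a prime of B'. (The published statement asks in its covering hypothesis only that the image of Spec
B' in Spec B contain the associated primes of the fibre module of N over p, without requiring the
covering primes of B' to lie over p'. That is not enough when Spec A' has a second point over p —
with Spec A' = Spec A ⊔ Spec A and Spec B' over the other copy the "only if" fails — so the
hypothesis is stated here in the stronger form: the covering primes of B' lie over p'.) -/
theorem result {A B : Type u} [CommRing A] [CommRing B] [Algebra A B] [Algebra.FiniteType A B]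
    (N : Type u) [AddCommGroup N] [Module B N] [Module A N] [IsScalarTower A B N] [Module.Finite B N] (p : Ideal A) [p.IsPrime]
    (hflat : ∀ (q : Ideal B) [q.IsPrime], q.LiesOver p → FlatCA.FlatAt A q N)
    (A' : Type u) [CommRing A'] [Algebra A A'] (p' : Ideal A') [p'.IsPrime] (het : FlatCA.IsEtaleNhd A A' p p')
    (B' : Type u) [CommRing B'] [Algebra B B'] [Algebra A' B'] [Algebra A B'] [IsScalarTower A B B'] [IsScalarTower A A' B']
    [Algebra.Etale B B'] [Algebra.FiniteType A' B']
    (N' : Type u) [AddCommGroup N'] [Module B' N'] [Module B N'] [IsScalarTower B B' N'] [Module A' N'] [IsScalarTower A' B' N']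
    (f : N →ₗ[B] N') (hf : IsBaseChange B' f)
    (hpure : FlatCA.IsPureAlong A' B' N' p')
    (hcov : ∀ (q : Ideal B) [q.IsPrime], q.LiesOver p →
      FlatCA.fiberIdeal p q ∈ associatedPrimes (p.Fiber B) (FlatCA.fiberMod p B N) →
      ∃ q' : Ideal B', q'.IsPrime ∧ q'.comap (algebraMap B B') = q ∧ q'.comap (algebraMap A' B') = p')
    (BA NA : Type u) [CommRing BA] [Algebra B BA] [Algebra A' BA] [Algebra A BA] [IsScalarTower A B BA] [IsScalarTower A A' BA]
    [Algebra.IsPushout A B A' BA] [Algebra BA B'] [IsScalarTower B BA B'] [IsScalarTower A' BA B']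
    [AddCommGroup NA] [Module BA NA] [Module B NA] [IsScalarTower B BA NA] [Module A' NA] [IsScalarTower A' BA NA]
    (fA : N →ₗ[B] NA) (hfA : IsBaseChange BA fA) :
    FlatCA.IsPureAlong A B N p ↔
      ∀ (t' : Ideal A') [t'.IsPrime], t' ≤ p' → ∀ (Q : Ideal BA) [Q.IsPrime], Q.LiesOver t' →
        FlatCA.fiberIdeal t' Q ∈ associatedPrimes (t'.Fiber BA) (FlatCA.fiberMod t' BA NA) →
        ∃ Q' : Ideal B', Q'.IsPrime ∧ Q'.comap (algebraMap BA B') = Q := by
  classical
  have hp'o := het.2.1
  haveI := hp'o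
  haveI := het.1
  haveI : Algebra.IsPushout A A' B BA := Algebra.IsPushout.symm inferInstance
  haveI : Algebra.Etale B BA := by
    letI := Algebra.TensorProduct.rightAlgebra (R := A) (A := A') (B := B)
    exact Algebra.Etale.of_equiv (({ (Algebra.TensorProduct.comm A B A').trans
      ((Algebra.IsPushout.equiv A A' B BA).restrictScalars A) with
      commutes' := fun b => by
        show Algebra.IsPushout.equiv A A' B BA ((1 : A') ⊗ₜ b) = algebraMap B BA b
        simp [Algebra.IsPushout.equiv_tmul] } : B ⊗[A] A' ≃ₐ[B] BA))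
  haveI : Algebra.Etale BA B' := Algebra.Etale.of_restrictScalars B BA B'
  haveI : Module.Flat BA B' := inferInstance
  haveI : Algebra.FiniteType A' BA :=
    Algebra.FiniteType.equiv (inferInstance : Algebra.FiniteType A' (A' ⊗[A] B)) (Algebra.IsPushout.equiv A A' B BA)
  haveI : Module.Finite BA NA := Module.Finite.equiv hfA.equiv
  constructor
  · intro hP t' _ ht' Q _ hQt' hass
    haveI := hQt'
    obtain ⟨Q0, hQ0, hQ0le, hQ0o⟩ : ∃ Q0 : Ideal BA, Q0.IsPrime ∧ Q ≤ Q0 ∧ Q0.LiesOver p' := by
      by_contra hc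
      exact hP A' BA NA fA t' p' Q het ⟨inferInstance, hfA, ht', hp'o, hQt', hass,
        fun P' hP' hle hov => hc ⟨P', hP', hle, hov⟩⟩
    have hflat' : ∀ (Q1 : Ideal BA) [Q1.IsPrime], Q1.LiesOver p' → FlatCA.FlatAt A' Q1 NA := by
      intro Q1 _ hQ1
      haveI : (Q1.comap (algebraMap B BA)).LiesOver p := ⟨by
        rw [hp'o.over, hQ1.over, Ideal.under_def, Ideal.under_def, Ideal.under_def, Ideal.comap_comap, Ideal.comap_comap,
          ← IsScalarTower.algebraMap_eq, ← IsScalarTower.algebraMap_eq]⟩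
      haveI : (Q1.comap (algebraMap B BA)).IsPrime := Ideal.comap_isPrime _ _
      exact FlatMor.FlatAtBC.flatAt_of_baseChange (R := A) (S := B) (R' := A') (S' := BA) fA hfA
        (Q1.comap (algebraMap B BA)) Q1 rfl (hflat _ inferInstance)
    obtain ⟨Q1, hQ1, hle, hQ1o, hQ1ass⟩ :=
      RGFlat.exists_assoc_ge p' hflat' t' Q hass ⟨Q0, hQ0, hQ0le, hQ0o⟩
    haveI := hQ1o
    obtain ⟨hqo, hqass⟩ := assoc_comap (A₂ := A) (B₂ := B) (N₂ := N) inferInstance fA hfA p p' hp'o.over.symm Q1 hQ1ass
    haveI := hqo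
    haveI : (Q1.comap (algebraMap B BA)).IsPrime := Ideal.comap_isPrime _ _
    obtain ⟨q', hq', hq'q, hq'p⟩ := hcov (Q1.comap (algebraMap B BA)) inferInstance hqass
    haveI := hq'
    haveI : (q'.comap (algebraMap BA B')).LiesOver p' := ⟨by
      rw [← hq'p, Ideal.under_def, Ideal.comap_comap, ← IsScalarTower.algebraMap_eq]⟩
    have he : q'.comap (algebraMap BA B') = Q1 :=
      RGFlat.eq_of_rational (A := A) (B := B) p p' het _ _ (by
        rw [Ideal.comap_comap, ← IsScalarTower.algebraMap_eq, hq'q])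
    haveI : q'.LiesOver Q1 := ⟨he.symm⟩
    obtain ⟨Q', -, hQ', hQ'o⟩ := Ideal.exists_ideal_le_liesOver_of_le (S := B') (p := Q) (q := Q1) q' hle
    exact ⟨Q', hQ', hQ'o.over.symm⟩
  intro hcond A₂ B₂ N₂ _ _ _ _ _ _ _ _ _ _ _ _ _ _ g₂ t'' t₂ _ _ P₂ _ hnhd₂ himp
  obtain ⟨C, _, _, _, _, _, _, c, _, hCflat, hct, hcp, hCnhd⟩ := exists_common_nhd p p' t₂ het hnhd₂
  haveI := hCflat
  haveI : c.LiesOver t₂ := ⟨hct.symm⟩
  obtain ⟨c', hc'le, hc', hc'o⟩ :=
    Ideal.exists_ideal_le_liesOver_of_le (R := A₂) (S := C) (p := t'') (q := t₂) c himp.2.2.1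
  haveI := hc'
  obtain ⟨B₃, N₃, _, _, _, _, _, _, _, _, _, _, _, _, g₃, P₃, _, himp₃⟩ :=
    exists_isImpurity_baseChange himp C c' c hc'le hc'o.over.symm hct
  haveI : c.LiesOver p' := ⟨hcp.symm⟩
  obtain ⟨_, _, _, _, _, _, _, g', hI⟩ := exists_isImpurity_rebase (A' := A') (B' := BA) (N' := NA) fA hfA p' himp₃
  obtain ⟨hpush₃, hbc₃, -, -, hP₃, hass₃, hno₃⟩ := hI
  haveI := hP₃
  haveI := hpush₃
  let t₁ := c'.comap (algebraMap A' C)
  haveI : t₁.IsPrime := Ideal.comap_isPrime _ _
  obtain ⟨hQo, hQass⟩ := assoc_comap hpush₃ g' hbc₃ t₁ c' rfl P₃ hass₃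
  haveI := hQo
  haveI : (P₃.comap (algebraMap BA B₃)).IsPrime := Ideal.comap_isPrime _ _
  obtain ⟨Q', hQ', hQ'Q⟩ := hcond t₁ (hcp ▸ Ideal.comap_mono hc'le) (P₃.comap (algebraMap BA B₃)) hQo hQass
  haveI := hQ'
  -- the pure side over the refinement
  let B₄ := C ⊗[A'] B'
  letI : Algebra B' B₄ := Algebra.TensorProduct.rightAlgebra
  haveI : IsScalarTower A' B' B₄ := IsScalarTower.of_algebraMap_eq fun a => by
    show algebraMap A' C a ⊗ₜ[A'] (1 : B') = (1 : C) ⊗ₜ[A'] algebraMap A' B' a
    rw [Algebra.algebraMap_eq_smul_one, Algebra.algebraMap_eq_smul_one, TensorProduct.smul_tmul]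
  letI : Algebra BA B₄ := ((algebraMap B' B₄).comp (algebraMap BA B')).toAlgebra
  haveI : IsScalarTower BA B' B₄ := IsScalarTower.of_algebraMap_eq fun _ => rfl
  haveI : IsScalarTower A' BA B₄ := IsScalarTower.of_algebraMap_eq fun a => by
    rw [IsScalarTower.algebraMap_apply BA B' B₄, ← IsScalarTower.algebraMap_apply A' BA B',
      ← IsScalarTower.algebraMap_apply A' B' B₄]
  let ψ : B₃ →ₐ[A'] B₄ := Algebra.pushoutDesc (R := A') (S := BA) (R' := C) B₃ (IsScalarTower.toAlgHom A' BA B₄)
    (IsScalarTower.toAlgHom A' C B₄) fun x y => mul_comm _ _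
  letI : Algebra B₃ B₄ := ψ.toRingHom.toAlgebra
  haveI : IsScalarTower BA B₃ B₄ := IsScalarTower.of_algebraMap_eq fun x => by
    show _ = ψ _
    rw [Algebra.pushoutDesc_left]; rfl
  haveI : IsScalarTower C B₃ B₄ := IsScalarTower.of_algebraMap_eq fun x => by
    show _ = ψ _
    rw [Algebra.pushoutDesc_right]; rfl
  haveI : IsScalarTower A' B₃ B₄ := IsScalarTower.of_algebraMap_eq fun x => (ψ.commutes x).symm
  haveI hp₄ : Algebra.IsPushout A' B' C B₄ := Algebra.IsPushout.symm inferInstance
  haveI : Algebra.IsPushout BA B' B₃ B₄ := by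
    haveI : Algebra.IsPushout A' C BA B₃ := hpush₃.symm
    haveI : Algebra.IsPushout A' C B' B₄ := inferInstance
    exact ((Algebra.IsPushout.comp_iff A' BA C B₃ (T := B') (T' := B₄)).mp inferInstance)
  haveI : Algebra.IsPushout BA B₃ B' B₄ := Algebra.IsPushout.symm inferInstance
  haveI : Algebra.Etale B₃ B₄ := Algebra.Etale.of_equiv (Algebra.IsPushout.equiv BA B₃ B' B₄)
  haveI : Algebra.FiniteType C B₃ := by
    haveI : Algebra.IsPushout A' C BA B₃ := hpush₃.symm
    exact Algebra.FiniteType.equiv (inferInstance : Algebra.FiniteType C (C ⊗[A'] BA)) (Algebra.IsPushout.equiv A' C BA B₃)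
  haveI : Algebra.FiniteType C B₄ := inferInstance
  haveI : Module.Finite B₃ N₃ := Module.Finite.equiv hbc₃.equiv
  let N₄ := B₄ ⊗[B₃] N₃
  let f₄ : N₃ →ₗ[B₃] N₄ := TensorProduct.mk B₃ B₄ N₃ 1
  have hf₄ : IsBaseChange B₄ f₄ := TensorProduct.isBaseChange B₃ N₃ B₄
  letI : Module BA N' := Module.compHom N' (algebraMap BA B')
  haveI : IsScalarTower BA B' N' := IsScalarTower.of_algebraMap_smul fun _ _ => rfl
  haveI : IsScalarTower B BA N' := IsScalarTower.of_algebraMap_smul fun b w => by
    show algebraMap BA B' (algebraMap B BA b) • w = b • w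
    rw [← IsScalarTower.algebraMap_apply, IsScalarTower.algebraMap_smul]
  let h' : NA →ₗ[BA] N' := hfA.lift f
  have hh' : IsBaseChange B' h' := IsBaseChange.of_comp hfA (by
    rw [show (h' : NA →ₗ[B] N') ∘ₗ fA = f from hfA.lift_comp f]
    exact hf)
  let k : N' →ₗ[B'] N₄ := hh'.lift ((f₄.restrictScalars BA) ∘ₗ g')
  have hk : IsBaseChange B₄ k := IsBaseChange.of_comp hh' (by
    rw [show (k : N' →ₗ[BA] N₄) ∘ₗ h' = (f₄.restrictScalars BA) ∘ₗ g' from hh'.lift_comp _]
    exact hbc₃.comp hf₄)
  obtain ⟨P₄, hP₄, hP₄3, hP₄'⟩ := FlatMor.FlatAtBC.exists_prime_of_pushout (R := BA) (S := B₃) (R' := B') (S' := B₄)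
    (P₃.comap (algebraMap BA B₃)) P₃ Q' rfl hQ'Q
  haveI := hP₄
  haveI : P₄.LiesOver c' := ⟨by
    rw [hP₃.over, ← hP₄3, Ideal.under_def, Ideal.under_def, Ideal.comap_comap, ← IsScalarTower.algebraMap_eq]⟩
  have hass₄ : FlatCA.fiberIdeal c' P₄ ∈ associatedPrimes (c'.Fiber B₄) (FlatCA.fiberMod c' B₄ N₄) := by
    refine RGFlat.assoc_of_flat_quasiFinite f₄ hf₄ c' P₄ ?_
    simp only [hP₄3]
    exact hass₃
  refine hpure C B₄ N₄ k c' c P₄ hCnhd ⟨hp₄, hk, hc'le, inferInstance, inferInstance, hass₄, fun P' _ hle hP' => ?_⟩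
  haveI := hP'
  haveI : (P'.comap (algebraMap B₃ B₄)).IsPrime := Ideal.comap_isPrime _ _
  refine hno₃ (P'.comap (algebraMap B₃ B₄)) (hP₄3 ▸ Ideal.comap_mono hle) ⟨?_⟩
  rw [hP'.over, Ideal.under_def, Ideal.under_def, Ideal.comap_comap, ← IsScalarTower.algebraMap_eq]

end Groth.Agent.S1255
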