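import Groth.Statements.S12550
import Mathlib.LinearAlgebra.FiniteDimensional.Lemmas
import Mathlib.LinearAlgebra.Dimension.Constructions
import Mathlib.Tactic.Linarith


set_option autoImplicit false
universe u
open GIT

namespace Groth.Agent.S12550

/-- Let V be a finite-dimensional vector space over a field K and x_0, …, x_m non-zero vectors, a
configuration of m + 1 points of the projective space P(V). If for every subspace L with 0 ≠ L ≠ V
the number of indices i with x_i ∈ L, multiplied by dim V, is less than dim L · (m + 1) (the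
configuration is stable), then no two proper subspaces L', L'' with L' ∩ L'' = 0 contain between
them all the x_i. -/
theorem result (K : Type u) [Field K]
    (V : Type u) [AddCommGroup V] [Module K V] [FiniteDimensional K V]
    (m : ℕ) (x : Fin (m + 1) → V) (hx : ∀ i, x i ≠ 0)
    (hst : ∀ L : Submodule K V, L ≠ ⊥ → L ≠ ⊤ →
      Set.ncard {i : Fin (m + 1) | x i ∈ L} * Module.finrank K V < Module.finrank K L * (m + 1)) :
    ¬ ∃ L' L'' : Submodule K V, L' ≠ ⊤ ∧ L'' ≠ ⊤ ∧ Disjoint L' L'' ∧ ∀ i, x i ∈ L' ∨ x i ∈ L'' := by
  rintro ⟨L', L'', h', h'', hd, hall⟩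
  classical
  set n' := Set.ncard {i : Fin (m + 1) | x i ∈ L'} with hn'
  set n'' := Set.ncard {i : Fin (m + 1) | x i ∈ L''} with hn''
  have hcount : m + 1 ≤ n' + n'' := by
    have : ({i : Fin (m + 1) | x i ∈ L'} ∪ {i | x i ∈ L''}) = Set.univ := Set.eq_univ_of_forall hall
    have h := Set.ncard_union_le {i : Fin (m + 1) | x i ∈ L'} {i | x i ∈ L''}
    rw [this, Set.ncard_univ, Nat.card_fin] at h
    exact h
  have hdim : Module.finrank K L' + Module.finrank K L'' ≤ Module.finrank K V := by
    rw [← Submodule.finrank_sup_add_finrank_inf_eq, hd.eq_bot, finrank_bot, add_zero]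
    exact Submodule.finrank_le _
  have hz : ∀ L : Submodule K V, L = ⊥ → Set.ncard {i : Fin (m + 1) | x i ∈ L} = 0 := by
    rintro L rfl
    simp [hx]
  rcases eq_or_ne L' ⊥ with e' | e'
  · rcases eq_or_ne L'' ⊥ with e'' | e''
    · simp [hn', hn'', hz L' e', hz L'' e''] at hcount
    · have h := hst L'' e'' h''
      rw [← hn''] at h
      rw [hn', hz L' e'] at hcount
      nlinarith [Submodule.finrank_le L'']
  · rcases eq_or_ne L'' ⊥ with e'' | e''
    · have h := hst L' e' h'
      rw [← hn'] at h
      rw [hn'', hz L'' e''] at hcount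
      nlinarith [Submodule.finrank_le L']
    · have h1 := hst L' e' h'
      have h2 := hst L'' e'' h''
      rw [← hn'] at h1
      rw [← hn''] at h2
      nlinarith

end Groth.Agent.S12550
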