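import Groth.Statements.S12551
import Groth.Agent.GITForms86.Destab

set_option autoImplicit false
universe u
open TensorProduct LaurentPolynomial
open GIT

namespace Groth.Agent.S12551

open Groth.Agent.GITForms86 MvPolynomial in
theorem deg_of_coeff_ne {k : Type u} [Field k] {n d : ℕ} (a : CoordGrp.FormIdx n d → k)
    (M : Matrix (Fin n) (Fin n) k) (m : Fin n →₀ ℕ) (hm : coeff m (sub M (CoordGrp.formPoly a)) ≠ 0) :
    ∑ i, m i = d := by
  have hhom : (CoordGrp.formPoly a).IsHomogeneous d :=
    IsHomogeneous.sum _ _ _ fun m _ => isHomogeneous_monomial _ m.2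
  have := (isHomogeneous_sub M hhom) hm
  rw [Pi.one_def, ← Finsupp.degree_eq_weight_one, Finsupp.degree_eq_sum] at this
  exact this


/-- Let k be an algebraically closed field of characteristic zero and let SL_3 act by substitution on
ternary quartic forms, the point a having the form F = Σ_e (4; e) a_e x^e. Then a fails to be stable
(closed orbit and finite stabiliser) if and only if there is a matrix M of determinant 1 such that
the form F'(x) = F(Mx) = Σ b_ij x_0^(4−i−j) x_1^i x_2^j has b_00 = b_10 = b_01 = b_20 = b_11 = 0 and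
in addition b_02 = 0 or b_30 = 0: in suitable coordinates the quartic curve has a triple point at
(1:0:0), or a tacnode there with tangent line x_2 = 0. -/
theorem result (k : Type u) [Field k] [IsAlgClosed k] [CharZero k]
    (a : CoordGrp.FormIdx 3 4 → k) :
    ¬ @GLin.IsStableVec k _ (CoordGrp.SLn 3 k) _ _ (CoordGrp.FormIdx 3 4) (GLin.comodAlong ((CoordGrp.SLn.mkHom 3 k).comp (CoordGrp.Mat.toGLn 3 k)) (CoordGrp.formsCoact k 3 4))
      (GLin.isCoactAlg_comodAlong ((CoordGrp.SLn.mkHom 3 k).comp (CoordGrp.Mat.toGLn 3 k)) (CoordGrp.formsCoact k 3 4)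
        (CoordGrp.formsCoact_isCoactAlg k 3 4))
      a ↔
      ∃ M : Matrix (Fin 3) (Fin 3) k, M.det = 1 ∧
        ∃ F' : MvPolynomial (Fin 3) k,
          F' = MvPolynomial.aeval (fun i : Fin 3 => ∑ j : Fin 3, MvPolynomial.C (M i j) * MvPolynomial.X j)
              (CoordGrp.formPoly a) ∧
          (∀ ij : ℕ × ℕ, ij ∈ ({(0, 0), (1, 0), (0, 1), (2, 0), (1, 1)} : Finset (ℕ × ℕ)) →
            F'.coeff (Finsupp.single 0 (4 - ij.1 - ij.2) + Finsupp.single 1 ij.1 + Finsupp.single 2 ij.2) = 0) ∧
          (F'.coeff (Finsupp.single 0 2 + Finsupp.single 2 2) = 0 ∨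
            F'.coeff (Finsupp.single 0 1 + Finsupp.single 1 3) = 0) := by
  change ¬ Groth.Agent.GITForms86.IsStableForm k 3 4 a ↔ _
  constructor
  · intro h
    have hnd : ¬ Groth.Agent.GITForms86.NoDestab (CoordGrp.formPoly a) :=
      fun hn => h (Groth.Agent.GITForms86.isStableForm_of_noDestab a hn)
    obtain ⟨κ, _, f, g, Γ, _, _, _, w, hg, hanti, hne, hprod, hsupp⟩ := Groth.Agent.GITForms86.exists_sorted hnd
    rw [Fin.prod_univ_three] at hprod
    have h01 : w 1 ≤ w 0 := hanti (by decide)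
    have h12 : w 2 ≤ w 1 := hanti (by decide)
    have h0 : 1 < w 0 := by
      by_contra hle
      push Not at hle
      apply hne
      have h1 : w 1 ≤ 1 := h01.trans hle
      have h2 : w 2 ≤ 1 := h12.trans h1
      have e2 : w 2 = 1 := le_antisymm h2 (by
        rw [← hprod]; exact mul_le_of_le_one_left' (mul_le_one' hle h1))
      rw [e2, mul_one] at hprod
      have e1 : w 1 = 1 := le_antisymm h1 (by rw [← hprod]; exact mul_le_of_le_one_left' hle)
      rw [e1, mul_one] at hprod
      funext i; fin_cases i <;> assumption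
    have h2 : w 2 < 1 := by
      by_contra hle
      push Not at hle
      have : (1 : Γ) < w 0 * w 1 * w 2 :=
        one_lt_mul_of_lt_of_le' (one_lt_mul_of_lt_of_le' h0 (hle.trans h12)) hle
      rw [hprod] at this
      exact lt_irrefl _ this
    have hw01 : 1 < w 0 * w 1 := by
      by_contra hle
      push Not at hle
      have : w 0 * w 1 * w 2 < 1 := mul_lt_one_of_le_of_lt hle h2
      rw [hprod] at this
      exact lt_irrefl _ this
    have hzero : ∀ m : Fin 3 →₀ ℕ, 1 < w 0 ^ m 0 * w 1 ^ m 1 * w 2 ^ m 2 →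
        MvPolynomial.coeff m (Groth.Agent.GITForms86.sub g (MvPolynomial.map f (CoordGrp.formPoly a))) = 0 := by
      intro m hm
      by_contra hc
      have := hsupp m hc
      rw [Fin.prod_univ_three] at this
      exact not_le.mpr hm this
    let idx : ℕ × ℕ → (Fin 3 →₀ ℕ) := fun ij =>
      Finsupp.single 0 (4 - ij.1 - ij.2) + Finsupp.single 1 ij.1 + Finsupp.single 2 ij.2
    have hidx : ∀ p q : ℕ, idx (p, q) 0 = 4 - p - q ∧ idx (p, q) 1 = p ∧ idx (p, q) 2 = q := fun p q => by
      refine ⟨?_, ?_, ?_⟩ <;> simp [idx]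
    have h5 : ∀ ij ∈ ({(0, 0), (1, 0), (0, 1), (2, 0), (1, 1)} : Finset (ℕ × ℕ)),
        MvPolynomial.coeff (idx ij) (Groth.Agent.GITForms86.sub g (MvPolynomial.map f (CoordGrp.formPoly a))) = 0 := by
      intro ij hij
      apply hzero
      simp only [Finset.mem_insert, Finset.mem_singleton] at hij
      rcases hij with rfl | rfl | rfl | rfl | rfl <;>
        obtain ⟨e0, e1, e2⟩ := hidx _ _ <;> rw [e0, e1, e2] <;> norm_num
      · exact one_lt_pow' h0 (by norm_num)
      · rw [pow_succ, mul_assoc]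
        exact one_lt_mul' (one_lt_pow' h0 (two_ne_zero (α := ℕ))) hw01
      · by_contra hle
        push Not at hle
        have e : w 0 ^ 2 = w 0 ^ 3 * w 2 * w 1 := by
          rw [show w 0 ^ 3 = w 0 ^ 2 * w 0 from pow_succ _ _, mul_assoc, mul_assoc,
            mul_comm (w 2) (w 1), ← mul_assoc (w 0), hprod, mul_one]
        have hh : w 0 ^ 2 ≤ w 0 := by
          rw [e]; exact (mul_le_of_le_one_left' hle).trans h01
        rw [pow_two] at hh
        exact absurd hh (not_le.mpr (lt_mul_of_one_lt_right' _ h0))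
      · rw [← mul_pow]; exact one_lt_pow' hw01 (by norm_num)
      · have e : w 0 ^ 2 * w 1 * w 2 = w 0 := by
          rw [pow_two, mul_assoc (w 0) (w 0), mul_assoc (w 0), hprod, mul_one]
        rw [e]; exact h0
    let extra : Fin 3 →₀ ℕ := if w 1 < 1 then Finsupp.single 0 2 + Finsupp.single 2 2
      else Finsupp.single 0 1 + Finsupp.single 1 3
    have h6 : MvPolynomial.coeff extra
        (Groth.Agent.GITForms86.sub g (MvPolynomial.map f (CoordGrp.formPoly a))) = 0 := by
      apply hzero
      by_cases h1 : w 1 < 1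
      · simp [extra, h1]
        rw [← mul_pow]
        refine one_lt_pow' ?_ (by norm_num)
        by_contra hle
        push Not at hle
        have : w 0 * w 1 * w 2 < 1 := by
          rw [mul_right_comm]; exact mul_lt_one_of_le_of_lt hle h1
        rw [hprod] at this
        exact lt_irrefl _ this
      · simp [extra, h1]
        push Not at h1
        rw [pow_succ' , ← mul_assoc]
        exact one_lt_mul_of_lt_of_le' hw01 (one_le_pow_of_one_le' h1 2)
    obtain ⟨M, hM, hMZ⟩ := Groth.Agent.GITForms86.exists_descend (by norm_num) (CoordGrp.formPoly a)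
      (insert extra (({(0, 0), (1, 0), (0, 1), (2, 0), (1, 1)} : Finset (ℕ × ℕ)).image idx)) κ f g hg
      (by
        intro m hm
        rcases Finset.mem_insert.mp hm with rfl | hm
        · exact h6
        · obtain ⟨ij, hij, rfl⟩ := Finset.mem_image.mp hm
          exact h5 ij hij)
    refine ⟨M, hM, Groth.Agent.GITForms86.sub M (CoordGrp.formPoly a), rfl, fun ij hij => ?_, ?_⟩
    · exact hMZ _ (Finset.mem_insert_of_mem (Finset.mem_image_of_mem idx hij))
    · have h := hMZ extra (Finset.mem_insert_self _ _)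
      by_cases h1 : w 1 < 1
      · left; simpa [extra, h1] using h
      · right; simpa [extra, h1] using h
  · rintro ⟨M, hM, F', hF', h5, h67⟩
    have hF'' : F' = Groth.Agent.GITForms86.sub M (CoordGrp.formPoly a) := hF'
    rw [hF''] at h5 h67
    have hidx : ∀ m : Fin 3 →₀ ℕ, ∑ i, m i = 4 →
        m = Finsupp.single 0 (4 - m 1 - m 2) + Finsupp.single 1 (m 1) + Finsupp.single 2 (m 2) := by
      intro m hm
      rw [Fin.sum_univ_three] at hm
      ext i; fin_cases i <;> simp
      omega
    rcases h67 with h6 | h7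
    · refine Groth.Agent.GITForms86.not_isStableForm_of_destab a M hM ![-2, 1, 1] (by simp [Fin.sum_univ_three])
        (fun h => by simpa using congrFun h 1) fun m hm => ?_
      have hd := deg_of_coeff_ne a M m hm
      have hm' := hidx m hd
      rw [Fin.sum_univ_three] at hd
      simp [Fin.sum_univ_three]
      by_contra hlt
      have hcase : (m 1 = 0 ∧ m 2 = 0) ∨ (m 1 = 1 ∧ m 2 = 0) ∨ (m 1 = 0 ∧ m 2 = 1) ∨ (m 1 = 2 ∧ m 2 = 0) ∨
          (m 1 = 1 ∧ m 2 = 1) ∨ (m 1 = 0 ∧ m 2 = 2) := by omega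
      apply hm
      rw [hm']
      rcases hcase with ⟨e1, e2⟩ | ⟨e1, e2⟩ | ⟨e1, e2⟩ | ⟨e1, e2⟩ | ⟨e1, e2⟩ | ⟨e1, e2⟩
      · simpa [e1, e2] using h5 (0, 0) (by simp)
      · simpa [e1, e2] using h5 (1, 0) (by simp)
      · simpa [e1, e2] using h5 (0, 1) (by simp)
      · simpa [e1, e2] using h5 (2, 0) (by simp)
      · simpa [e1, e2] using h5 (1, 1) (by simp)
      · simpa [e1, e2] using h6
    · refine Groth.Agent.GITForms86.not_isStableForm_of_destab a M hM ![-1, 0, 1] (by simp [Fin.sum_univ_three])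
        (fun h => by simpa using congrFun h 2) fun m hm => ?_
      have hd := deg_of_coeff_ne a M m hm
      have hm' := hidx m hd
      rw [Fin.sum_univ_three] at hd
      simp [Fin.sum_univ_three]
      by_contra hlt
      have hcase : (m 1 = 0 ∧ m 2 = 0) ∨ (m 1 = 1 ∧ m 2 = 0) ∨ (m 1 = 0 ∧ m 2 = 1) ∨ (m 1 = 2 ∧ m 2 = 0) ∨
          (m 1 = 1 ∧ m 2 = 1) ∨ (m 1 = 3 ∧ m 2 = 0) := by omega
      apply hm
      rw [hm']
      rcases hcase with ⟨e1, e2⟩ | ⟨e1, e2⟩ | ⟨e1, e2⟩ | ⟨e1, e2⟩ | ⟨e1, e2⟩ | ⟨e1, e2⟩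
      · simpa [e1, e2] using h5 (0, 0) (by simp)
      · simpa [e1, e2] using h5 (1, 0) (by simp)
      · simpa [e1, e2] using h5 (0, 1) (by simp)
      · simpa [e1, e2] using h5 (2, 0) (by simp)
      · simpa [e1, e2] using h5 (1, 1) (by simp)
      · simpa [e1, e2] using h7

end Groth.Agent.S12551
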