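import Groth.Statements.S12552
import Mathlib

set_option autoImplicit false
universe u
open GIT

namespace Groth.Agent.S12552

section part
variable {K : Type*} [Field K] {V : Type*} [AddCommGroup V] [Module K V]
  {ι : Type*} (v : ι → V) {k : ℕ}

/-- the colour class -/
def cls (c : ι → Option (Fin k)) (j : Fin k) : Set ι := {e | c e = some j}

/-- descending chain of subspaces reachable by exchanges -/
def chain (c : ι → Option (Fin k)) : ℕ → Submodule K V
  | 0 => ⊤
  | n + 1 => ⨅ j, Submodule.span K (v '' {e | c e = some j ∧ v e ∈ chain c n})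

theorem chain_anti (c : ι → Option (Fin k)) : Antitone (chain (K := K) v c) := by
  refine antitone_nat_of_succ_le fun n => ?_
  induction n with
  | zero => exact le_top
  | succ n ih =>
    refine le_iInf fun j => (iInf_le _ j).trans (Submodule.span_mono (Set.image_mono ?_))
    exact fun e he => ⟨he.1, ih he.2⟩

/-- number of uncoloured items -/
noncomputable def unc (c : ι → Option (Fin k)) : ℕ := {e | c e = none}.ncard

open Classical in
theorem exists_chain_not_mem [Fintype ι] [FiniteDimensional K V]
    (hk : ∀ L : Submodule K V, {e | v e ∈ L}.ncard ≤ k * Module.finrank K L)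
    (c : ι → Option (Fin k)) (hc : ∀ j, LinearIndepOn K v (cls c j)) (e0 : ι) (h0 : c e0 = none) :
    ∃ n, v e0 ∉ chain (K := K) v c (n + 1) := by
  by_contra h
  push Not at h
  obtain ⟨n, hn⟩ := WellFoundedLT.antitone_chain_condition (chain_anti (K := K) v c)
  have he : chain (K := K) v c n = chain (K := K) v c (n + 1) := hn (n + 1) (Nat.le_succ n)
  set T := chain (K := K) v c n with hT
  have hj : ∀ j, (Finset.univ.filter fun e => c e = some j ∧ v e ∈ T).card = Module.finrank K T := by
    intro j
    have h1 : Submodule.span K (v '' {e | c e = some j ∧ v e ∈ T}) = T := by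
      refine le_antisymm (Submodule.span_le.2 (by rintro _ ⟨e, he', rfl⟩; exact he'.2)) ?_
      conv_lhs => rw [he]
      exact iInf_le _ j
    have h2 := finrank_span_eq_card
      (show LinearIndepOn K v {e | c e = some j ∧ v e ∈ T} from
        (hc j).mono fun e he' => he'.1).linearIndependent
    rw [← Set.image_eq_range, h1] at h2
    rw [h2, Fintype.card_subtype]
    simp
  have hle := hk T
  rw [Set.ncard_eq_toFinset_card'] at hle
  have : (Finset.univ.filter fun e => c e ≠ none ∧ v e ∈ T).card = k * Module.finrank K T := by
    have : (Finset.univ.filter fun e => c e ≠ none ∧ v e ∈ T) =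
        Finset.univ.biUnion fun j => Finset.univ.filter fun e => c e = some j ∧ v e ∈ T := by
      ext e; cases hce : c e <;> simp [hce]
    rw [this, Finset.card_biUnion, Finset.sum_congr rfl fun j _ => hj j]
    · simp
    · intro a _ b _ hab
      simp only [Function.onFun, Finset.disjoint_filter]
      rintro e _ ⟨h1, _⟩ ⟨h2, _⟩
      exact hab (Option.some_injective _ (h1.symm.trans h2))
  have he0 : v e0 ∈ T := by rw [he]; exact h n
  have hlt : (Finset.univ.filter fun e => c e ≠ none ∧ v e ∈ T).card <
      ({e | v e ∈ T} : Set ι).toFinset.card := by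
    refine Finset.card_lt_card (Finset.ssubset_iff_of_subset ?_ |>.2 ⟨e0, by simpa using he0, by simp [h0]⟩)
    intro e he'; simp at he' ⊢; exact he'.2
  omega

open Classical in
theorem augment [Fintype ι] [FiniteDimensional K V] (n : ℕ) :
    ∀ (c : ι → Option (Fin k)) (e0 : ι), (∀ j, LinearIndepOn K v (cls c j)) → c e0 = none →
      v e0 ∉ chain (K := K) v c (n + 1) →
      ∃ c' : ι → Option (Fin k), (∀ j, LinearIndepOn K v (cls c' j)) ∧ unc c' < unc c := by
  induction n using Nat.strong_induction_on with
  | _ n ih =>
  intro c e0 hc h0 hn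
  by_cases hmem : v e0 ∈ chain (K := K) v c n
  swap
  · rcases n with - | n
    · exact absurd (Submodule.mem_top (R := K)) hmem
    · exact ih n (Nat.lt_succ_self n) c e0 hc h0 hmem
  simp only [chain, Submodule.mem_iInf, not_forall] at hn
  obtain ⟨j, hj⟩ := hn
  by_cases hall : v e0 ∈ Submodule.span K (v '' cls c j)
  swap
  · refine ⟨Function.update c e0 (some j), fun i => ?_, ?_⟩
    · by_cases hij : i = j
      · subst hij
        refine ((hc i).insert hall).mono ?_
        intro e he
        by_cases hee : e = e0
        · exact Or.inl hee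
        · right; simpa [cls, hee] using he
      · refine (hc i).mono ?_
        intro e he
        by_cases hee : e = e0
        · subst hee; simp [cls] at he; exact absurd he.symm hij
        · simpa [cls, hee] using he
    · refine Set.ncard_lt_ncard ?_
      refine Set.ssubset_iff_of_subset ?_ |>.2 ⟨e0, h0, by simp⟩
      intro e he
      by_cases hee : e = e0
      · subst hee; exact h0
      · simpa [hee] using he
  obtain ⟨f, hfj, hfT, hfspan⟩ : ∃ f, c f = some j ∧ v f ∉ chain (K := K) v c n ∧
      v e0 ∉ Submodule.span K (v '' (cls c j \ {f})) := by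
    obtain ⟨l, hl, hle⟩ := (Finsupp.mem_span_image_iff_linearCombination K).1 hall
    rw [Finsupp.mem_supported] at hl
    have : ∃ f ∈ l.support, v f ∉ chain (K := K) v c n := by
      by_contra hh
      push Not at hh
      apply hj
      rw [← hle]
      refine Submodule.sum_mem _ fun e he => Submodule.smul_mem _ _ (Submodule.subset_span ?_)
      exact ⟨e, ⟨hl he, hh e he⟩, rfl⟩
    obtain ⟨f, hf, hfT⟩ := this
    refine ⟨f, hl hf, hfT, fun hh => ?_⟩
    have hrest : v e0 - l f • v f ∈ Submodule.span K (v '' (cls c j \ {f})) := by
      rw [← hle, Finsupp.linearCombination_apply, Finsupp.sum, ← Finset.add_sum_erase _ _ hf,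
        add_sub_cancel_left]
      refine Submodule.sum_mem _ fun e he => Submodule.smul_mem _ _ (Submodule.subset_span ?_)
      obtain ⟨h1, h2⟩ := Finset.mem_erase.1 he
      exact ⟨e, ⟨hl h2, h1⟩, rfl⟩
    have hf' : l f • v f ∈ Submodule.span K (v '' (cls c j \ {f})) := by
      simpa using Submodule.sub_mem _ hh hrest
    rw [Submodule.smul_mem_iff _ (Finsupp.mem_support_iff.1 hf)] at hf'
    exact ((hc j).mono Set.sdiff_subset).notMem_span_iff.2
      ⟨(hc j).mono (Set.insert_subset (hl hf) Set.sdiff_subset), by simp⟩ hf'
  have hne : e0 ≠ f := fun h => by rw [h, hfj] at h0; exact absurd h0 (by simp)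
  set c' : ι → Option (Fin k) := Function.update (Function.update c f none) e0 (some j) with hc'
  have ce0 : c' e0 = some j := by simp [hc']
  have cf : c' f = none := by simp [hc', hne.symm]
  have coth : ∀ e, e ≠ e0 → e ≠ f → c' e = c e := fun e h1 h2 => by simp [hc', h1, h2]
  have mem' : ∀ e i, c' e = some i ↔ (e = e0 ∧ i = j) ∨ (c e = some i ∧ e ≠ f) := by
    intro e i
    by_cases h1 : e = e0
    · subst h1; simp [ce0, h0, eq_comm]
    by_cases h2 : e = f
    · subst h2; simp [cf, hfj, h1]
    simp [coth e h1 h2, h1, h2]
  have hc'' : ∀ i, LinearIndepOn K v (cls c' i) := by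
    intro i
    by_cases hij : i = j
    · subst hij
      refine (((hc i).mono Set.sdiff_subset).insert hfspan).mono ?_
      intro e he
      rcases (mem' e i).1 he with h | h
      · exact Or.inl h.1
      · exact Or.inr h
    · refine (hc i).mono fun e he => ?_
      rcases (mem' e i).1 he with h | h
      · exact absurd h.2 hij
      · exact h.1
  have hchain : ∀ m, m ≤ n → chain (K := K) v c' m = chain (K := K) v c m := by
    intro m
    induction m with
    | zero => intro _; rfl
    | succ m ihm =>
      intro hm
      simp only [chain]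
      rw [ihm (by omega)]
      refine iInf_congr fun i => ?_
      by_cases hij : i = j
      swap
      · congr 2
        ext e
        simp only [Set.mem_ofPred_eq, mem']
        constructor
        · rintro ⟨h | h, h'⟩
          · exact absurd h.2 hij
          · exact ⟨h.1, h'⟩
        · rintro ⟨h, h'⟩
          exact ⟨Or.inr ⟨h, fun e' => hij (Option.some_injective _ ((e' ▸ h).symm.trans hfj))⟩, h'⟩
      subst hij
      set A := {e | c e = some i ∧ v e ∈ chain (K := K) v c m}
      have he0A : v e0 ∈ Submodule.span K (v '' A) :=
        (Submodule.mem_iInf _).1 (chain_anti v c hm hmem) i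
      have hfA : f ∈ A := by
        by_contra hh
        refine hfspan (Submodule.span_mono (Set.image_mono ?_) he0A)
        exact fun e he => ⟨he.1, fun e' => hh (e' ▸ he)⟩
      have he0T : v e0 ∈ chain (K := K) v c m := chain_anti v c (by omega) hmem
      have : {e | c' e = some i ∧ v e ∈ chain (K := K) v c m} = insert e0 (A \ {f}) := by
        ext e
        simp only [Set.mem_ofPred_eq, mem', Set.mem_insert_iff, Set.mem_sdiff, Set.mem_singleton_iff, A]
        constructor
        · rintro ⟨h | h, h'⟩
          · exact Or.inl h.1
          · exact Or.inr ⟨⟨h.1, h'⟩, h.2⟩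
        · rintro (h | h)
          · exact ⟨Or.inl ⟨h, trivial⟩, h ▸ he0T⟩
          · exact ⟨Or.inr ⟨h.1.1, h.2⟩, h.1.2⟩
      rw [this, Set.image_insert_eq]
      refine le_antisymm (Submodule.span_le.2 (Set.insert_subset he0A ?_)) (Submodule.span_le.2 ?_)
      · exact (Set.image_mono Set.sdiff_subset).trans Submodule.subset_span
      · rintro _ ⟨e, he, rfl⟩
        by_cases hef : e = f
        · subst hef
          refine mem_span_insert_exchange (x := v e0) ?_ ?_
          · rwa [← Set.image_insert_eq, Set.insert_sdiff_singleton,
              Set.insert_eq_of_mem he]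
          · exact fun h' => hfspan (Submodule.span_mono (Set.image_mono
              (Set.sdiff_subset_sdiff_left fun a ha => ha.1)) h')
        · exact Submodule.subset_span (Set.mem_insert_of_mem _ ⟨e, ⟨he, hef⟩, rfl⟩)
  rcases n with - | n
  · exact absurd (Submodule.mem_top (R := K)) hfT
  have hf' : v f ∉ chain (K := K) v c' (n + 1) := by rw [hchain _ le_rfl]; exact hfT
  obtain ⟨c2, h2, h2'⟩ := ih n (Nat.lt_succ_self n) c' f hc'' cf hf'
  refine ⟨c2, h2, h2'.trans_eq ?_⟩
  have hset : {e | c' e = none} = insert f ({e | c e = none} \ {e0}) := by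
    ext e
    by_cases h1 : e = e0
    · subst h1; simp [ce0, hne]
    by_cases h2 : e = f
    · subst h2; simp [cf]
    simp [coth e h1 h2, h1, h2]
  unfold unc
  rw [hset, Set.ncard_exchange (by simp [hfj]) (by simpa using h0)]

theorem exists_colouring [Fintype ι] [FiniteDimensional K V]
    (hk : ∀ L : Submodule K V, {e | v e ∈ L}.ncard ≤ k * Module.finrank K L) :
    ∃ c : ι → Option (Fin k), (∀ j, LinearIndepOn K v (cls c j)) ∧ ∀ e, c e ≠ none := by
  suffices ∀ N, ∀ c : ι → Option (Fin k), unc c ≤ N → (∀ j, LinearIndepOn K v (cls c j)) →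
      ∃ c : ι → Option (Fin k), (∀ j, LinearIndepOn K v (cls c j)) ∧ ∀ e, c e ≠ none by
    refine this _ (fun _ => none) le_rfl fun j => ?_
    have : cls (fun _ : ι => (none : Option (Fin k))) j = ∅ := by ext e; simp [cls]
    rw [this]; exact linearIndepOn_empty K v
  intro N
  induction N with
  | zero =>
    intro c hN hc
    refine ⟨c, hc, fun e he => ?_⟩
    have := Set.ncard_pos (s := {e | c e = none}) |>.2 ⟨e, he⟩
    simp only [unc] at hN
    omega
  | succ N ih =>
    intro c hN hc
    by_cases h : ∀ e, c e ≠ none
    · exact ⟨c, hc, h⟩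
    push Not at h
    obtain ⟨e0, h0⟩ := h
    obtain ⟨n, hn⟩ := exists_chain_not_mem v hk c hc e0 h0
    obtain ⟨c', h1, h2⟩ := augment v n c e0 hc h0 hn
    exact ih c' (by omega) h1

end part

theorem sum_countP {α : Type*} [DecidableEq α] (X : Finset α) (P : Multiset (Finset α)) :
    ∑ j ∈ X, Multiset.card (P.filter (fun S => j ∈ S)) = (P.map fun S => (S ∩ X).card).sum := by
  induction P using Multiset.induction with
  | empty => simp
  | cons S P ih =>
    simp only [Multiset.filter_cons, Multiset.card_add, Finset.sum_add_distrib, ih,
      Multiset.map_cons, Multiset.sum_cons]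
    congr 1
    rw [Finset.inter_comm, ← Finset.filter_mem_eq_inter, Finset.card_filter]
    exact Finset.sum_congr rfl fun j _ => by split <;> simp

/-- Let V be a finite-dimensional vector space over a field K and x_0, …, x_m non-zero vectors, a
configuration of m + 1 points of P(V); a set S of dim V indices with (x_j)_(j ∈ S) linearly
independent is a determinant section non-zero at the configuration. Then the configuration is stable
(for every subspace L with 0 ≠ L ≠ V, the number of i with x_i ∈ L times dim V is less than dim L ·
(m + 1)) if and only if there are integers N ≥ N_0 > 0 such that for each index i some non-empty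
finite multiset of such sets S contains every index j ≠ i exactly N times and the index i exactly N
− N_0 times (a monomial in the determinant sections, non-zero at the configuration, of multidegree
(N, …, N − N_0, …, N) with the N − N_0 in place i). -/
theorem result (K : Type u) [Field K]
    (V : Type u) [AddCommGroup V] [Module K V] [FiniteDimensional K V]
    (m : ℕ) (x : Fin (m + 1) → V) (hx : ∀ i, x i ≠ 0) :
    (∀ L : Submodule K V, L ≠ ⊥ → L ≠ ⊤ →
        Set.ncard {i : Fin (m + 1) | x i ∈ L} * Module.finrank K V < Module.finrank K L * (m + 1)) ↔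
      ∃ N N₀ : ℕ, 0 < N₀ ∧ N₀ ≤ N ∧
        ∀ i : Fin (m + 1), ∃ P : Multiset (Finset (Fin (m + 1))), P ≠ 0 ∧
          (∀ S ∈ P, S.card = Module.finrank K V ∧ LinearIndependent K (fun j : S => x j)) ∧
          ∀ j : Fin (m + 1),
            Multiset.card (P.filter (fun S => j ∈ S)) = if j = i then N - N₀ else N := by
  classical
  set d := Module.finrank K V with hd
  have hd0 : 0 < d := by
    haveI : Nontrivial V := ⟨⟨x 0, 0, hx 0⟩⟩
    exact Module.finrank_pos
  constructor
  · intro hst
    set k := (m + 1) * (d + 1) - 1 with hk
    have hk1 : 1 ≤ k := by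
      have : 2 ≤ (m + 1) * (d + 1) := le_trans (by omega) (Nat.le_mul_of_pos_left (d + 1) m.succ_pos)
      omega
    refine ⟨d * (d + 1), d, hd0, Nat.le_mul_of_pos_right d (Nat.succ_pos d), fun i => ?_⟩
    set y : Fin (m + 1) → ℕ := fun j => if j = i then d * (d + 1) - d else d * (d + 1) with hy
    have hysum : ∑ j, y j = k * d := by
      have h1 : ∑ j, y j + d = (m + 1) * (d * (d + 1)) := by
        have : ∀ j, y j + (if j = i then d else 0) = d * (d + 1) := by
          intro j; simp only [hy]; split
          · have : d ≤ d * (d + 1) := Nat.le_mul_of_pos_right d (by omega)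
            omega
          · simp
        calc ∑ j, y j + d = ∑ j, (y j + if j = i then d else 0) := by
              rw [Finset.sum_add_distrib]; simp
          _ = _ := by simp [Finset.sum_congr rfl fun j _ => this j]
      have h2 : k * d + d = (m + 1) * (d * (d + 1)) := by
        rw [← Nat.succ_mul, hk, Nat.succ_eq_add_one, Nat.sub_add_cancel (by omega)]; ring
      omega
    let v : (Σ j, Fin (y j)) → V := fun e => x e.1
    have hL : ∀ L : Submodule K V, {e : Σ j, Fin (y j) | v e ∈ L}.ncard ≤ k * Module.finrank K L := by
      intro L
      by_cases hLb : L = ⊥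
      · subst hLb
        have : {e : Σ j, Fin (y j) | v e ∈ (⊥ : Submodule K V)} = ∅ := by
          ext e; simp [v, hx]
        rw [this]; simp
      by_cases hLt : L = ⊤
      · subst hLt
        refine (Set.ncard_le_card _).trans ?_
        simp [finrank_top, ← hd, hysum]
      have h1 := hst L hLb hLt
      have h2 : {e : Σ j, Fin (y j) | v e ∈ L}.ncard ≤
          {j | x j ∈ L}.ncard * (d * (d + 1)) := by
        have : {e : Σ j, Fin (y j) | v e ∈ L} =
            ↑((Finset.univ.filter fun j => x j ∈ L).sigma fun j => (Finset.univ : Finset (Fin (y j)))) := by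
          ext e; simp [v]
        rw [this, Set.ncard_coe_finset, Finset.card_sigma, Set.ncard_eq_toFinset_card',
          Set.toFinset_ofPred]
        refine (Finset.sum_le_card_nsmul _ _ (d * (d + 1)) fun j _ => ?_).trans_eq (smul_eq_mul _ _)
        simp only [Finset.card_univ, Fintype.card_fin, hy]
        split <;> omega
      have hLd : Module.finrank K L ≤ d := Submodule.finrank_le L
      set r := Module.finrank K L
      set nL := {j | x j ∈ L}.ncard
      have h3 : (nL * d + 1) * (d + 1) ≤ r * (m + 1) * (d + 1) := Nat.mul_le_mul_right _ h1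
      have h4 : k * r + r = r * (m + 1) * (d + 1) := by
        rw [← Nat.succ_mul, hk, Nat.succ_eq_add_one, Nat.sub_add_cancel (by omega)]; ring
      have h5 : (nL * d + 1) * (d + 1) = nL * (d * (d + 1)) + (d + 1) := by ring
      omega
    obtain ⟨c, hc, hcov⟩ := exists_colouring v hL
    let C : Fin k → Finset (Σ j, Fin (y j)) := fun l => Finset.univ.filter fun e => c e = some l
    have hinj : ∀ e e', c e = c e' → e.1 = e'.1 → e = e' := by
      intro e e' h h'
      obtain ⟨l, hl⟩ := Option.ne_none_iff_exists'.1 (hcov e)
      exact (hc l).injOn (show c e = some l from hl) (show c e' = some l from h ▸ hl)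
        (by simp [v, h'])
    have hCle : ∀ l, (C l).card ≤ d := by
      intro l
      have := (hc l).linearIndependent.fintype_card_le_finrank
      rw [← Set.toFinset_card] at this
      convert this using 2
      ext e; simp only [C, Finset.mem_filter, Finset.mem_univ, true_and]; exact (Set.mem_toFinset (s := cls c l) (a := e)).symm.trans (by rfl)
    have hCeq : ∀ l, (C l).card = d := by
      have : ∑ l, (C l).card = k * d := by
        rw [← hysum]
        have : (Finset.univ : Finset (Σ j, Fin (y j))) = Finset.univ.biUnion C := by
          ext e; obtain ⟨l, hl⟩ := Option.ne_none_iff_exists'.1 (hcov e); simp [C, hl]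
        have h2 := congrArg Finset.card this
        rw [Finset.card_biUnion] at h2
        · simpa using h2.symm
        · intro a _ b _ hab
          simp only [Function.onFun, C, Finset.disjoint_filter]
          exact fun e _ h1 h2 => hab (Option.some_injective _ (h1.symm.trans h2))
      intro l
      exact (Finset.sum_eq_sum_iff_of_le fun l _ => hCle l).1
        (this.trans (by simp)) l (Finset.mem_univ l)
    let S : Fin k → Finset (Fin (m + 1)) := fun l => (C l).image Sigma.fst
    refine ⟨Finset.univ.val.map S, ?_, ?_, fun j => ?_⟩
    · intro h0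
      have := congrArg Multiset.card h0
      simp at this; omega
    · intro T hT
      obtain ⟨l, -, rfl⟩ := Multiset.mem_map.1 hT
      have hinjOn : Set.InjOn Sigma.fst (C l : Set (Σ j, Fin (y j))) := fun e he e' he' h =>
        hinj e e' (by simp [C] at he he'; rw [he, he']) h
      refine ⟨by rw [Finset.card_image_of_injOn hinjOn, hCeq], ?_⟩
      have : LinearIndepOn K x (Sigma.fst '' cls c l) := (hc l).image_of_comp Sigma.fst x
      exact this.mono (by intro a ha; simpa [S, C, cls] using ha)
    · rw [Multiset.filter_map, Multiset.card_map]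
      change ((Finset.univ.filter fun l => j ∈ S l).card) = _
      have : y j = if j = i then d * (d + 1) - d else d * (d + 1) := rfl
      rw [← this]
      have hcard : (Finset.univ.filter fun l => j ∈ S l).card = y j := by
        refine ((Finset.card_bij (s := (Finset.univ : Finset (Fin (y j))))
          (fun a _ => (c ⟨j, a⟩).get (Option.ne_none_iff_isSome.1 (hcov _))) ?_ ?_ ?_).symm.trans
          (by simp))
        · intro a _
          simp only [Finset.mem_filter, Finset.mem_univ, true_and, S, C, Finset.mem_image]
          exact ⟨⟨j, a⟩, by simp, rfl⟩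
        · intro a _ b _ h
          have := hinj ⟨j, a⟩ ⟨j, b⟩ (Option.get_inj.1 h) rfl
          simpa using this
        · intro l hl
          simp only [Finset.mem_filter, Finset.mem_univ, true_and, S, C, Finset.mem_image] at hl
          obtain ⟨⟨j', a⟩, he, rfl⟩ := hl
          exact ⟨a, Finset.mem_univ _, by simp [he]⟩
      convert hcard using 1
  · rintro ⟨N, N₀, hN0, hle, hP⟩ L hLb hLt
    set r := Module.finrank K L
    let X := Finset.univ.filter fun j => x j ∈ L
    have hX : {j | x j ∈ L}.ncard = X.card := by
      rw [Set.ncard_eq_toFinset_card', Set.toFinset_ofPred]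
    rw [hX]
    have hr : 0 < r := Nat.pos_of_ne_zero fun h => hLb (Submodule.finrank_eq_zero.1 h)
    by_cases hall : ∀ j, j ∈ X
    · exfalso
      obtain ⟨P, hP0, hPS, -⟩ := hP 0
      obtain ⟨T, hT⟩ := Multiset.exists_mem_of_ne_zero hP0
      obtain ⟨hTc, hTi⟩ := hPS T hT
      have h1 : Submodule.span K (Set.range fun j : T => x j) ≤ L :=
        Submodule.span_le.2 (by rintro _ ⟨a, rfl⟩; exact (Finset.mem_filter.1 (hall a)).2)
      have h2 := Submodule.finrank_mono h1
      rw [finrank_span_eq_card hTi, Fintype.card_coe, hTc] at h2
      exact hLt (Submodule.eq_top_of_finrank_eq (le_antisymm (Submodule.finrank_le L) h2))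
    push Not at hall
    obtain ⟨i, hi⟩ := hall
    obtain ⟨P, hP0, hPS, hPc⟩ := hP i
    have e1 := sum_countP X P
    have e2 := sum_countP Finset.univ P
    rw [Finset.sum_congr rfl fun j hj => (hPc j).trans (if_neg fun h : j = i => hi (h ▸ hj)),
      Finset.sum_const, smul_eq_mul] at e1
    have e2' : (P.map fun S => (S ∩ Finset.univ).card).sum = Multiset.card P * d := by
      rw [Multiset.map_congr rfl fun S hS => (congrArg Finset.card (Finset.inter_univ S)).trans (hPS S hS).1,
        Multiset.map_const', Multiset.sum_replicate, smul_eq_mul]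
    rw [e2', Finset.sum_congr rfl fun j _ => hPc j] at e2
    have e3 : Multiset.card P * d + N₀ = (m + 1) * N := by
      rw [← e2]
      have : ∀ j : Fin (m + 1), (if j = i then N - N₀ else N) + (if j = i then N₀ else 0) = N := by
        intro j; split <;> omega
      calc _ = ∑ j, ((if j = i then N - N₀ else N) + (if j = i then N₀ else 0)) := by
            rw [Finset.sum_add_distrib]; simp
        _ = _ := by simp [Finset.sum_congr rfl fun j _ => this j]
    have e4 : (P.map fun S => (S ∩ X).card).sum ≤ Multiset.card P * r := by
      refine (Multiset.sum_le_card_nsmul _ r ?_).trans_eq (by simp)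
      intro a ha
      obtain ⟨T, hT, rfl⟩ := Multiset.mem_map.1 ha
      have hli : LinearIndepOn K x (↑(T ∩ X) : Set (Fin (m + 1))) :=
        LinearIndepOn.mono (show LinearIndepOn K x (T : Set (Fin (m + 1))) from (hPS T hT).2) (by simp)
      have h1 : Submodule.span K (Set.range fun j : (↑(T ∩ X) : Set (Fin (m + 1))) => x j) ≤ L :=
        Submodule.span_le.2 (by
          rintro _ ⟨⟨a, ha⟩, rfl⟩
          exact (Finset.mem_filter.1 (Finset.mem_inter.1 ha).2).2)
      have h2 := Submodule.finrank_mono h1
      rw [finrank_span_eq_card hli.linearIndependent] at h2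
      rw [← Set.toFinset_card, Finset.toFinset_coe] at h2
      exact h2
    rw [← e1] at e4
    by_contra hcon
    push Not at hcon
    have h5 : r * (m + 1) * N ≤ X.card * d * N := Nat.mul_le_mul_right N hcon
    have h6 : X.card * d * N ≤ Multiset.card P * r * d := by
      calc _ = X.card * N * d := by ring
        _ ≤ _ := Nat.mul_le_mul_right d e4
    have h7 : r * (m + 1) * N = Multiset.card P * r * d + r * N₀ := by
      rw [mul_assoc, ← e3]; ring
    have : 0 < r * N₀ := Nat.mul_pos hr hN0
    omega

end Groth.Agent.S12552
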