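import Groth.Statements.S12553
import Groth.Agent.GITLib.Diag

set_option autoImplicit false
universe u
open TensorProduct LaurentPolynomial
open GIT

namespace Groth.Agent.S12553

/-- Let k be a field and T = Spec A a diagonalizable affine group (A a commutative Hopf algebra spanned
by its group-like elements, e.g. a torus) acting linearly on affine ι-space. Then there are finitely
many characters χ_1, …, χ_N of T (group-like elements of A) such that every vector v ≠ 0 has a
non-empty set I of indices for which, for every one-parameter subgroup λ of T with λ(χ_j) = t^(e_j),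
the numerical function μ(v, λ) (the m for which t^m · (v moved by λ(t)) tends to a non-zero vector)
equals the maximum of −e_j over j ∈ I: μ is the maximum of finitely many linear functionals on
one-parameter subgroups. (The published proposition concerns a maximal torus of a reductive group
acting on a proper scheme with an ample linearised invertible sheaf; this row is the case of
projective space with the hyperplane bundle, for any diagonalizable group acting linearly, stated on
the affine cone.) -/
theorem result (k : Type u) [Field k]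
    (A : Type u) [CommRing A] [HopfAlgebra k A] (hdiag : HopfRep.IsDiagonalizable k A)
    (ι : Type u) [Fintype ι] [HopfRep.Comod k A (MvPolynomial ι k)] [GLin.IsCoactAlg k A (MvPolynomial ι k)]
    (hlin : GLin.IsLinear k A ι) :
    ∃ (N : ℕ) (χ : Fin N → A), (∀ j, IsGroupLikeElem k (χ j)) ∧
      ∀ v : ι → k, v ≠ 0 → ∃ I : Finset (Fin N), I.Nonempty ∧
        ∀ (lam : A →ₐc[k] k[T;T⁻¹]) (e : Fin N → ℤ), (∀ j, lam (χ j) = LaurentPolynomial.T (e j)) →
          ∀ m : ℤ, GLin.IsMu k A lam v m ↔ ((∀ j ∈ I, -e j ≤ m) ∧ ∃ j ∈ I, m = -e j) := by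
  classical
  obtain ⟨J, hJ⟩ := GITLib.exists_groupLike_weights hdiag hlin
  refine ⟨J.card, fun j => (J.equivFin.symm j).1.val, fun j => (J.equivFin.symm j).1.isGroupLikeElem_val, fun v hv => ?_⟩
  obtain ⟨I, hIJ, hIne, hI⟩ := hJ v hv
  refine ⟨Finset.univ.filter fun j => (J.equivFin.symm j).1 ∈ I, ?_, fun lam e he m => ?_⟩
  · obtain ⟨g, hg⟩ := hIne
    exact ⟨J.equivFin ⟨g, hIJ hg⟩, by simpa using hg⟩
  let e' : GroupLike k A → ℤ := fun g => if h : g ∈ J then e (J.equivFin ⟨g, h⟩) else 0
  have he' : ∀ j, e' (J.equivFin.symm j).1 = e j := fun j => by simp [e']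
  rw [hI lam e' (fun g hg => by simpa [e', hg] using he (J.equivFin ⟨g, hg⟩)) m]
  constructor
  · rintro ⟨h1, g, hg, rfl⟩
    refine ⟨fun j hj => ?_, J.equivFin ⟨g, hIJ hg⟩, by simpa using hg, by rw [← he']; simp⟩
    rw [← he']
    exact h1 _ (Finset.mem_filter.1 hj).2
  · rintro ⟨h1, j, hj, rfl⟩
    refine ⟨fun g hg => ?_, _, (Finset.mem_filter.1 hj).2, by rw [he']⟩
    have := h1 (J.equivFin ⟨g, hIJ hg⟩) (by simpa using hg)
    simpa [e', hIJ hg] using this

end Groth.Agent.S12553
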