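import Groth.Statements.S1256
import Groth.Agent.S1252
import Groth.Agent.S12243

set_option autoImplicit false
universe u
open FlatMor

namespace Groth.Agent.S1256

open TensorProduct

attribute [local instance] Algebra.TensorProduct.rightAlgebra

/-- The trivial étale neighbourhood. -/
theorem isEtaleNhd_self {A : Type u} [CommRing A] (p : Ideal A) [p.IsPrime] : FlatCA.IsEtaleNhd A A p p := by
  refine ⟨inferInstance, ⟨(Ideal.comap_id p).symm⟩, ?_⟩
  have e : ⇑(Ideal.ResidueField.mapₐ p p (Algebra.ofId A A) (Ideal.comap_id p).symm) = id :=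
    funext fun x => RingHom.congr_fun (Ideal.ResidueField.ringHom_ext (RingHom.ext fun a =>
      (Ideal.ResidueField.mapₐ p p (Algebra.ofId A A) (Ideal.comap_id p).symm).commutes a)
      : (Ideal.ResidueField.mapₐ p p (Algebra.ofId A A) (Ideal.comap_id p).symm).toRingHom = RingHom.id _) x
  show Function.Bijective (Ideal.ResidueField.mapₐ p p (Algebra.ofId A A) (Ideal.comap_id p).symm)
  rw [e]
  exact Function.bijective_id

open Groth.Agent.FlatMor62 in
/-- A common refinement of finitely many étale neighbourhoods. -/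
theorem exists_common {A : Type u} [CommRing A] (p : Ideal A) [p.IsPrime] {ι : Type u} (R : ι → Type u)
    [∀ i, CommRing (R i)] [∀ i, Algebra A (R i)] (pR : ∀ i, Ideal (R i)) [∀ i, (pR i).IsPrime]
    (het : ∀ i, FlatCA.IsEtaleNhd A (R i) p (pR i)) (s : Finset ι) :
    ∃ (A' : Type u) (_ : CommRing A') (_ : Algebra A A') (p' : Ideal A') (_ : p'.IsPrime),
      FlatCA.IsEtaleNhd A A' p p' ∧ ∀ i ∈ s, ∃ f : R i →ₐ[A] A', p'.comap f.toRingHom = pR i := by
  classical
  induction s using Finset.induction_on with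
  | empty =>
    exact ⟨A, inferInstance, inferInstance, p, inferInstance, isEtaleNhd_self p, fun i hi => absurd hi (by simp)⟩
  | insert i s hi ih =>
    obtain ⟨A', _, _, p', _, hA', hf⟩ := ih
    obtain ⟨he, ho, hb⟩ := het i
    haveI := hA'.1
    haveI := hA'.2.1
    haveI := he
    haveI := ho
    let A'' := A' ⊗[A] R i
    obtain ⟨P, hP, hP1, hP2, -, -⟩ := DevOps.exists_point (S := R i) (S' := A'') p p' (pR i) hA'.2.2
    haveI : Algebra.IsPushout A (R i) A' A'' := Algebra.IsPushout.symm inferInstance
    obtain ⟨P', hP', h1, h2, hb', -⟩ := DevOps.exists_point (R := A) (R' := R i) (S := A') (S' := A'') p (pR i) p' hb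
    obtain ⟨Q₀, -, -, -, -, hu⟩ := DevOps.exists_point (S := R i) (S' := A'') p p' (pR i) hA'.2.2
    obtain rfl : P' = P := (hu P' hP' h2 h1).trans (hu P hP hP1 hP2).symm
    haveI := hP'
    have et : FlatCA.IsEtaleNhd A' A'' p' P' := ⟨inferInstance, ⟨h2.symm⟩, hb' h2.symm⟩
    refine ⟨A'', inferInstance, inferInstance, P', hP', DevExist.isEtaleNhd_comp p p' P' hA' et, fun k hk => ?_⟩
    rcases Finset.mem_insert.mp hk with rfl | hk
    · exact ⟨Algebra.TensorProduct.includeRight, h1⟩
    · obtain ⟨f, hfk⟩ := hf k hk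
      refine ⟨(IsScalarTower.toAlgHom A A' A'').comp f, ?_⟩
      show P'.comap ((algebraMap A' A'').comp f.toRingHom) = _
      rw [← Ideal.comap_comap, h2, hfk]

/-- The complete dévissage of the zero module. -/
theorem completeDevissage_zero {A S : Type u} [CommRing A] [CommRing S] [Algebra A S] (N : Type u) [AddCommGroup N]
    [Module S N] [Subsingleton N] (p : Ideal A) [p.IsPrime] : Nonempty (FlatCA.CompleteDevissage A S N p) := by
  haveI : ∀ i : ℕ, (p.map (algebraMap A A)).IsPrime := fun _ => by rw [Algebra.algebraMap_self, Ideal.map_id]; infer_instance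
  haveI : Subsingleton (S ⧸ (⊤ : Ideal S)) := Ideal.Quotient.subsingleton_iff.mpr rfl
  haveI : IsScalarTower A A (S ⧸ (⊤ : Ideal S)) := IsScalarTower.left _
  refine ⟨{ n := 1, pos := one_pos, A := fun _ => S ⧸ (⊤ : Ideal S), B := fun _ => A, M := fun _ => S ⧸ (⊤ : Ideal S)
            r := fun _ => 0, α := fun _ => 0
            hp := fun _ => by rw [Algebra.algebraMap_self, Ideal.map_id]; infer_instance
            surjSA := Ideal.Quotient.mk_surjective, fpSA := Algebra.FinitePresentation.quotient ⟨{1}, by simp⟩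
            surjBA' := fun i hi => absurd hi (by omega), fpBA' := fun i hi => absurd hi (by omega)
            finiteBA := fun _ _ => Module.Finite.of_finite
            smooth := fun _ _ => inferInstance
            geomIrred := fun _ _ => ?_
            finiteM := fun _ _ => inferInstance
            isoN := LinearEquiv.ofBijective 0 ⟨fun a b _ => Subsingleton.elim a b, fun b => ⟨0, Subsingleton.elim _ _⟩⟩
            isoCoker := fun i hi => absurd hi (by omega)
            fibreIso := fun _ _ => ?_
            cokerLast := fun b => ⟨0, Subsingleton.elim _ _⟩ }⟩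
  · show AlgebraicGeometry.GeometricallyIrreducible _
    rw [show CommRingCat.ofHom (algebraMap A A) = CategoryTheory.CategoryStruct.id (CommRingCat.of A) from rfl,
      AlgebraicGeometry.Spec.map_id]
    refine ⟨fun K _ y Z fst snd h => ?_⟩
    haveI : CategoryTheory.IsIso snd :=
      CategoryTheory.MorphismProperty.of_isPullback (P := CategoryTheory.MorphismProperty.isomorphisms _) h
        (inferInstanceAs (CategoryTheory.IsIso _))
    exact snd.homeomorph.symm.surjective.irreducibleSpace snd.homeomorph.symm.continuous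
  · refine ⟨fun a b _ => Subsingleton.elim a b, fun b => ⟨0, Subsingleton.elim _ _⟩⟩

/-- Ring form, X = Spec B and S = Spec A affine: let B be a finite type A-algebra, N a finite B-module
and p a prime of A. Then there is an étale A-algebra A' with a prime p' over p having the same
residue field such that, for the base changes B_{A'}, N_{A'} (any models), there are finitely many
étale B_{A'}-algebras C_i with base changes N_i of N_{A'}, each N_i/C_i/A' admitting a complete
dévissage over p', such that every prime of B_{A'} over p' is the contraction of a prime of some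
C_i. -/
theorem result {A B : Type u} [CommRing A] [CommRing B] [Algebra A B] [Algebra.FiniteType A B]
    (N : Type u) [AddCommGroup N] [Module B N] [Module.Finite B N] (p : Ideal A) [p.IsPrime] :
    ∃ (A' : Type u) (_ : CommRing A') (_ : Algebra A A') (p' : Ideal A') (_ : p'.IsPrime), FlatCA.IsEtaleNhd A A' p p' ∧
      ∀ (BA NA : Type u) [CommRing BA] [Algebra B BA] [Algebra A' BA] [Algebra A BA] [IsScalarTower A B BA] [IsScalarTower A A' BA]
        [Algebra.IsPushout A B A' BA]
        [AddCommGroup NA] [Module BA NA] [Module B NA] [IsScalarTower B BA NA]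
        (fA : N →ₗ[B] NA), IsBaseChange BA fA →
        ∃ (k : ℕ) (C : Fin k → Type u) (_ : ∀ i, CommRing (C i)) (_ : ∀ i, Algebra BA (C i)) (_ : ∀ i, Algebra A' (C i))
          (_ : ∀ i, IsScalarTower A' BA (C i))
          (Nc : Fin k → Type u) (_ : ∀ i, AddCommGroup (Nc i)) (_ : ∀ i, Module (C i) (Nc i)) (_ : ∀ i, Module BA (Nc i))
          (_ : ∀ i, IsScalarTower BA (C i) (Nc i)) (g : ∀ i, NA →ₗ[BA] Nc i),
          (∀ i, Algebra.Etale BA (C i) ∧ IsBaseChange (C i) (g i) ∧ Nonempty (FlatCA.CompleteDevissage A' (C i) (Nc i) p')) ∧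
          ∀ (Q : Ideal BA) [Q.IsPrime], Q.LiesOver p' → ∃ (i : Fin k) (Q' : Ideal (C i)), Q'.IsPrime ∧ Q'.comap (algebraMap BA (C i)) = Q := by
  classical
  letI : Module A N := Module.compHom N (algebraMap A B)
  haveI : IsScalarTower A B N := IsScalarTower.of_algebraMap_smul fun _ _ => rfl
  let F : Type u := {P : PrimeSpectrum B // PrimeSpectrum.comap (algebraMap A B) P = ⟨p, inferInstance⟩}
  have hex : ∀ P : F, ∃ (R' S' : Type u) (_ : CommRing R') (_ : CommRing S') (_ : Algebra A R') (_ : Algebra B S')
      (_ : Algebra R' S') (_ : Algebra A S') (_ : IsScalarTower A R' S') (_ : IsScalarTower A B S')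
      (p' : Ideal R') (_ : p'.IsPrime), FlatCA.IsEtaleNhd A R' p p' ∧ Algebra.Etale B S' ∧
      (∀ (N' : Type u) [AddCommGroup N'] [Module S' N'] [Module B N'] [IsScalarTower B S' N'] (f : N →ₗ[B] N'),
        IsBaseChange S' f → Nonempty (FlatCA.CompleteDevissage R' S' N' p')) ∧
      ∃ b : B, b ∉ P.1.asIdeal ∧ ∀ P' : F, b ∉ P'.1.asIdeal →
        ∃ Q : Ideal S', Q.IsPrime ∧ Q.comap (algebraMap B S') = P'.1.asIdeal ∧ Q.comap (algebraMap R' S') = p' := by
    intro P
    haveI : P.1.asIdeal.LiesOver p := ⟨(congrArg PrimeSpectrum.asIdeal P.2).symm⟩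
    by_cases hP : P.1 ∈ Module.support B N
    · obtain ⟨x, hx, hxq⟩ := Groth.Agent.FlatMor62.DevDim.exists_point_of_mem (R := A) (N := N) p P.1.asIdeal ⟨P.2, hP⟩
      obtain ⟨R', S', i1, i2, i3, i4, i5, i6, i7, i8, p', q', i9, i10, h1, h2, h3, h4⟩ :=
        Groth.Agent.S1252.result N p P.1.asIdeal ⟨x, hx, hxq⟩
      haveI := h1.1
      haveI := h1.2.1
      haveI := h2.1
      haveI := h3
      obtain ⟨b, hb, hlift⟩ := Groth.Agent.FlatMor62.DevDim.exists_chain_lift (S := B) p p' q'
      refine ⟨R', S', i1, i2, i3, i4, i5, i6, i7, i8, p', i9, h1, h2.1, fun N' _ _ _ _ f hf => ?_, b, ?_, fun P' hP' => ?_⟩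
      · obtain ⟨D, -⟩ := h4 N' f hf
        exact ⟨D⟩
      · exact fun hbP => hb (h2.2.1.over.le hbP)
      · obtain ⟨L, -, hLl, hLp⟩ := hlift (RelSeries.singleton _ P'.1) (fun _ => P'.2) (fun _ => hP')
        obtain ⟨j, hj⟩ := hLl 0
        exact ⟨(L 0).asIdeal, (L 0).isPrime, congrArg PrimeSpectrum.asIdeal hj, congrArg PrimeSpectrum.asIdeal (hLp 0)⟩
    · rw [Module.mem_support_iff_of_finite, SetLike.not_le_iff_exists] at hP
      obtain ⟨t, ht, htP⟩ := hP
      let S' := Localization.Away t
      refine ⟨A, S', inferInstance, inferInstance, inferInstance, inferInstance, inferInstance, inferInstance,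
        inferInstance, inferInstance, p, inferInstance, ?_, Algebra.Etale.of_isLocalizationAway t,
        fun N' _ _ _ _ f hf => ?_, t, htP, fun P' hP' => ?_⟩
      · exact isEtaleNhd_self p
      · haveI : Subsingleton N' := by
          refine subsingleton_of_forall_eq 0 fun v => ?_
          induction v using hf.inductionOn with
          | zero => rfl
          | tmul n =>
            obtain ⟨c, hc⟩ := (IsLocalization.Away.algebraMap_isUnit (S := S') t).exists_left_inv
            rw [← one_smul S' (f n), ← hc, mul_smul, algebraMap_smul, ← map_smul, Module.mem_annihilator.mp ht n,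
              map_zero, smul_zero]
          | smul r m hm => rw [hm, smul_zero]
          | add a b ha hb => rw [ha, hb, add_zero]
        exact completeDevissage_zero N' p
      · obtain ⟨Q, hQ⟩ : P'.1 ∈ Set.range (PrimeSpectrum.comap (algebraMap B S')) := by
          rw [PrimeSpectrum.localization_away_comap_range S' t]; exact hP'
        refine ⟨Q.asIdeal, Q.isPrime, congrArg PrimeSpectrum.asIdeal hQ, ?_⟩
        have h := congrArg PrimeSpectrum.asIdeal (congrArg (PrimeSpectrum.comap (algebraMap A B)) hQ)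
        rw [P'.2] at h
        rw [IsScalarTower.algebraMap_eq A B S', ← Ideal.comap_comap]
        exact h
  choose R S cR cS aAR aBS aRS aAS tARS tABS pR hpR het hetS hdev b hb hlift using hex
  obtain ⟨s, hs⟩ : ∃ s : Finset F, ∀ P : F, ∃ i ∈ s, b i ∉ P.1.asIdeal := by
    have hcomp : CompactSpace F := (PrimeSpectrum.preimageHomeomorphFiber A B ⟨p, inferInstance⟩).symm.compactSpace
    let U : F → Set F := fun i => {P | b i ∉ P.1.asIdeal}
    have hU : ∀ i, IsOpen (U i) := fun i => (PrimeSpectrum.basicOpen (b i)).2.preimage continuous_subtype_val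
    obtain ⟨s, hs⟩ := isCompact_univ.elim_finite_subcover U hU fun P _ => Set.mem_iUnion.mpr ⟨P, hb P⟩
    exact ⟨s, fun P => by simpa [U] using hs (Set.mem_univ P)⟩
  obtain ⟨A', cA', aAA', p', hp', hA', hf⟩ := exists_common p R pR het s
  refine ⟨A', cA', aAA', p', hp', hA', ?_⟩
  intro BA NA _ _ _ _ _ _ _ _ _ _ _ fA hfA
  haveI := hA'.1
  haveI := hA'.2.1
  let e := s.equivFin.symm
  have hstep : ∀ i : Fin s.card, ∃ (C : Type u) (_ : CommRing C) (_ : Algebra BA C) (_ : Algebra A' C)
      (_ : IsScalarTower A' BA C) (Nc : Type u) (_ : AddCommGroup Nc) (_ : Module C Nc) (_ : Module BA Nc)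
      (_ : IsScalarTower BA C Nc) (g : NA →ₗ[BA] Nc),
      (Algebra.Etale BA C ∧ IsBaseChange C g ∧ Nonempty (FlatCA.CompleteDevissage A' C Nc p')) ∧
      ∀ (Q : Ideal BA) [Q.IsPrime], Q.LiesOver p' → b (e i).1 ∉ Q.comap (algebraMap B BA) →
        ∃ Q' : Ideal C, Q'.IsPrime ∧ Q'.comap (algebraMap BA C) = Q := by
    intro i
    let P := (e i).1
    obtain ⟨f, hfp⟩ := hf P (e i).2
    letI : Algebra (R P) A' := f.toRingHom.toAlgebra
    haveI : IsScalarTower A (R P) A' := IsScalarTower.of_algebraMap_eq fun a => (f.commutes a).symm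
    haveI : p'.LiesOver (pR P) := ⟨hfp.symm⟩
    haveI := (het P).1
    haveI := (het P).2.1
    haveI := hetS P
    haveI : Algebra.Etale (R P) A' := Algebra.Etale.of_restrictScalars A (R P) A'
    let C := A' ⊗[R P] S P
    letI : Algebra B C := ((algebraMap (S P) C).comp (algebraMap B (S P))).toAlgebra
    haveI : IsScalarTower B (S P) C := IsScalarTower.of_algebraMap_eq fun _ => rfl
    haveI : IsScalarTower A A' C := inferInstance
    haveI : IsScalarTower A B C := IsScalarTower.of_algebraMap_eq fun a => by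
      show algebraMap A C a = algebraMap (S P) C (algebraMap B (S P) (algebraMap A B a))
      rw [← IsScalarTower.algebraMap_apply A B (S P), IsScalarTower.algebraMap_apply A (R P) (S P),
        ← IsScalarTower.algebraMap_apply (R P) (S P) C, IsScalarTower.algebraMap_apply (R P) A' C,
        ← IsScalarTower.algebraMap_apply A (R P) A', ← IsScalarTower.algebraMap_apply A A' C]
    haveI : Algebra.IsPushout A A' B BA := Algebra.IsPushout.symm inferInstance
    let eBA := Algebra.IsPushout.equiv A A' B BA
    let φ : BA →ₐ[A'] C := (Algebra.TensorProduct.lift (IsScalarTower.toAlgHom A' A' C) (IsScalarTower.toAlgHom A B C)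
      fun _ _ => Commute.all _ _).comp eBA.symm.toAlgHom
    letI : Algebra BA C := φ.toRingHom.toAlgebra
    haveI : IsScalarTower A' BA C := IsScalarTower.of_algebraMap_eq' φ.comp_algebraMap.symm
    haveI : IsScalarTower B BA C := IsScalarTower.of_algebraMap_eq fun x => by
      show algebraMap B C x = Algebra.TensorProduct.lift (IsScalarTower.toAlgHom A' A' C) (IsScalarTower.toAlgHom A B C)
        (fun _ _ => Commute.all _ _) (eBA.symm (algebraMap B BA x))
      rw [Algebra.IsPushout.equiv_symm_algebraMap_right, Algebra.TensorProduct.lift_tmul, map_one, one_mul]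
      rfl
    haveI : Algebra.Etale (S P) C := Algebra.Etale.of_equiv (A := S P ⊗[R P] A')
      (AlgEquiv.ofRingEquiv (f := (Algebra.TensorProduct.comm (R P) (S P) A').toRingEquiv) fun x => rfl)
    haveI : Algebra.Etale B C := Algebra.Etale.comp B (S P) C
    haveI : Algebra.Etale B BA := Algebra.Etale.of_equiv (A := B ⊗[A] A')
      (Algebra.IsPushout.equiv A B A' BA)
    haveI : Algebra.Etale BA C := Algebra.Etale.of_restrictScalars B BA C
    let N₁ := S P ⊗[B] N
    let f₁ : N →ₗ[B] N₁ := (TensorProduct.mk B (S P) N) 1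
    have hf₁ : IsBaseChange (S P) f₁ := TensorProduct.isBaseChange B N (S P)
    obtain ⟨D₁⟩ := hdev P N₁ f₁ hf₁
    let Nc := C ⊗[BA] NA
    let g : NA →ₗ[BA] Nc := (TensorProduct.mk BA C NA) 1
    have hg : IsBaseChange C g := TensorProduct.isBaseChange BA NA C
    haveI : IsScalarTower B C Nc := inferInstance
    haveI : IsScalarTower B BA Nc := IsScalarTower.of_algebraMap_smul fun a v => by
      rw [← algebraMap_smul C (algebraMap B BA a) v, ← IsScalarTower.algebraMap_apply, algebraMap_smul]
    haveI : IsScalarTower (S P) C Nc := inferInstance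
    haveI : IsScalarTower B (S P) Nc := IsScalarTower.of_algebraMap_smul fun a v => by
      rw [← algebraMap_smul C (algebraMap B (S P) a) v, ← IsScalarTower.algebraMap_apply, algebraMap_smul]
    let G : N →ₗ[B] Nc := (g.restrictScalars B) ∘ₗ fA
    have hG : IsBaseChange C G := hfA.comp hg
    let g₁ : N₁ →ₗ[S P] Nc := hf₁.lift G
    have hg₁ : IsBaseChange C g₁ := by
      refine IsBaseChange.of_comp hf₁ ?_
      rwa [show g₁.restrictScalars B ∘ₗ f₁ = G from LinearMap.ext fun v => hf₁.lift_eq G v]
    haveI : Algebra.IsPushout (R P) A' (S P) C := inferInstance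
    haveI : Algebra.FiniteType (R P) (S P) := by
      haveI : Algebra.FiniteType A (S P) := Algebra.FiniteType.trans (R := A) (S := B) (A := S P) inferInstance inferInstance
      exact Algebra.FiniteType.of_restrictScalars_finiteType A (R P) (S P)
    haveI : Module.Finite (S P) N₁ := inferInstance
    obtain ⟨D₂, _⟩ := Groth.Agent.S12243.result (R P) (S P) N₁ (pR P) D₁ A' p' C Nc g₁ hg₁
    refine ⟨C, inferInstance, inferInstance, inferInstance, inferInstance, Nc, inferInstance, inferInstance,
      inferInstance, inferInstance, g, ⟨inferInstance, hg, ⟨D₂⟩⟩, fun Q _ hQ hbQ => ?_⟩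
    haveI := hQ
    let P' : F := ⟨⟨Q.comap (algebraMap B BA), inferInstance⟩, PrimeSpectrum.ext (by
      show (Q.comap (algebraMap B BA)).comap (algebraMap A B) = p
      rw [Ideal.comap_comap, ← IsScalarTower.algebraMap_eq, IsScalarTower.algebraMap_eq A A' BA, ← Ideal.comap_comap,
        show Q.comap (algebraMap A' BA) = p' from hQ.over.symm]
      exact (p'.over_def p).symm)⟩
    obtain ⟨Q₁, hQ₁, hQ₁B, hQ₁R⟩ := hlift P P' hbQ
    haveI := hQ₁
    haveI : Q₁.LiesOver (pR P) := ⟨hQ₁R.symm⟩
    obtain ⟨Q', hQ', h1, h2⟩ := FlatMor.FlatAtBC.exists_prime_of_pushout (R := R P) (S := A') (R' := S P) (S' := C) (pR P) p' Q₁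
      hfp hQ₁R
    haveI : (Q.comap (algebraMap B BA)).LiesOver p := ⟨(congrArg PrimeSpectrum.asIdeal P'.2).symm⟩
    obtain ⟨Q₀, -, -, -, -, hu⟩ := Groth.Agent.FlatMor62.DevOps.exists_point (R := A) (R' := A') (S := B) (S' := BA)
      p p' (Q.comap (algebraMap B BA)) hA'.2.2
    refine ⟨Q', hQ', (hu _ inferInstance ?_ ?_).trans (hu Q inferInstance hQ.over.symm rfl).symm⟩
    · rw [Ideal.comap_comap, ← IsScalarTower.algebraMap_eq]
      exact h1
    · rw [Ideal.comap_comap, ← IsScalarTower.algebraMap_eq, IsScalarTower.algebraMap_eq B (S P) C, ← Ideal.comap_comap, h2,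
        hQ₁B]
  choose C cC aBC aAC tC Nc gN mCN mBN tN g hg hcov using hstep
  refine ⟨s.card, C, cC, aBC, aAC, tC, Nc, gN, mCN, mBN, tN, g, hg, fun Q _ hQ => ?_⟩
  let P' : F := ⟨⟨Q.comap (algebraMap B BA), inferInstance⟩, PrimeSpectrum.ext (by
    show (Q.comap (algebraMap B BA)).comap (algebraMap A B) = p
    rw [Ideal.comap_comap, ← IsScalarTower.algebraMap_eq, IsScalarTower.algebraMap_eq A A' BA, ← Ideal.comap_comap,
      show Q.comap (algebraMap A' BA) = p' from hQ.over.symm]
    exact (p'.over_def p).symm)⟩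
  obtain ⟨i, hi, hbi⟩ := hs P'
  have hei : (e (s.equivFin ⟨i, hi⟩)).1 = i := by simp [e]
  exact ⟨s.equivFin ⟨i, hi⟩, hcov _ Q hQ (by rw [hei]; exact hbi)⟩


end Groth.Agent.S1256
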