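import Groth.Statements.S12582
import Groth.Agent.FF.LR.WeilRes
-- import your own Groth.Agent.* helpers here

set_option autoImplicit false
universe u v w
open FunFld

namespace Groth.Agent.S12582

/-- For a geometric function field of one variable `K/k` of genus `g`, the space `Ω_K(0)` of regular
differential forms (non-negative order at every place) has dimension `g` over `k`; written as the
space of `y ∈ K` with `y dx` regular, for a fixed `x` with `dx ≠ 0`, orders read through Laurent
expansions over `k` at every place (all places separable). -/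
theorem result (k : Type u) (K : Type v) [Field k] [Field K] [Algebra k K] (hK : FunFld.IsFunctionField k K) (hg : FunFld.IsGeometric k K)
    (F : FunFld.Place k K → Type w) [∀ P, Field (F P)] [∀ P, Algebra k (F P)] [∀ P, FiniteDimensional k (F P)]
    (φ : ∀ P, K →ₐ[k] LaurentSeries (F P)) (hφ : ∀ P, LocRes.IsExpansionAt P.1 (φ P))
    (x : K) (hx : KaehlerDifferential.D k K x ≠ 0) :
    Module.finrank k (Submodule.span k {y : K | ∀ P, LocRes.vDiff (φ P) y x ≤ 1}) = FunFld.genus k K := by
  obtain ⟨C, hC, hdiv, hcan⟩ := Groth.Agent.FF.exists_canonical_diff hK (Groth.Agent.FF.good_of_geometric hg) hφ hx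
  have hset : {y : K | ∀ P, LocRes.vDiff (φ P) y x ≤ 1} = (FunFld.L C : Set K) := Set.ext fun y => by
    have h := Groth.Agent.FF.vDiff_le_iff_mem_L hK (Groth.Agent.FF.good_of_geometric hg) hφ hx hC 0 y
    simpa using h
  rw [hset, Submodule.span_eq]
  exact Groth.Agent.FF.ell_canonical hK hcan

end Groth.Agent.S12582
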