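import Groth.Statements.S12585
import Groth.Agent.FF.Hyper2
-- import your own Groth.Agent.* helpers here

set_option autoImplicit false
universe u v
open FunFld

namespace Groth.Agent.S12585

/-- A function field of one variable `K/k` over a perfect field `k` with `char k ≠ 2` and genus `≥ 2`
has at most one rational subfield `k(x)` with `[K : k(x)] = 2`. (The published statement allows any
field of characteristic `≠ 2`; its argument needs the squarefree polynomial `f` with `y² = f(x)` to
be prime to its derivative, which holds when `f` is separable; this row takes `k` perfect.) -/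
theorem result (k : Type u) (K : Type v) [Field k] [Field K] [Algebra k K] [PerfectField k]
    (hK : FunFld.IsFunctionField k K) (h2 : ringChar k ≠ 2) (hg : 2 ≤ FunFld.genus k K)
    (x x' : K) (hx : Module.finrank (IntermediateField.adjoin k ({x} : Set K)) K = 2)
    (hx' : Module.finrank (IntermediateField.adjoin k ({x'} : Set K)) K = 2) :
    IntermediateField.adjoin k ({x} : Set K) = IntermediateField.adjoin k ({x'} : Set K) := by
  haveI : FiniteDimensional (IntermediateField.adjoin k ({x} : Set K)) K :=
    Module.finite_of_finrank_pos (by rw [hx]; exact two_pos)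
  haveI : FiniteDimensional (IntermediateField.adjoin k ({x'} : Set K)) K :=
    Module.finite_of_finrank_pos (by rw [hx']; exact two_pos)
  have hxt : Transcendental k x := by
    refine Groth.Agent.FF.transcendental_of_notMem hK fun ⟨c, hc⟩ => ?_
    obtain ⟨u, hu⟩ := Groth.Agent.FF.exists_transcendental hK.1
    have hb : IntermediateField.adjoin k ({x} : Set K) = ⊥ :=
      IntermediateField.adjoin_simple_eq_bot_iff.2 (IntermediateField.mem_bot.2 ⟨c, hc⟩)
    have hu' : IsAlgebraic (IntermediateField.adjoin k ({x} : Set K)) u := Algebra.IsAlgebraic.isAlgebraic u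
    rw [hb] at hu'
    exact hu (hu'.restrictScalars k)
  obtain ⟨alg, htow, hX, hpoly, hrange, hfr⟩ := Groth.Agent.FF.exists_ratFunc_algebra hxt
  have hdeg : Module.finrank (RatFunc k) K = 2 := hfr.trans hx
  obtain ⟨y, f, hf, heq, htop⟩ := Groth.Agent.FF.exists_sq_eq_squarefree (K := K) (Ring.two_ne_zero h2) hdeg
  have hd : 1 ≤ f.natDegree := by
    by_contra hd
    rw [Polynomial.eq_C_of_natDegree_eq_zero (by omega : f.natDegree = 0), hpoly, Polynomial.aeval_C] at heq
    obtain ⟨c, hc⟩ := hK.2 y (IsIntegral.isAlgebraic
      (IsIntegral.of_pow two_pos (by rw [heq]; exact isIntegral_algebraMap)))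
    have h1 : IntermediateField.adjoin (RatFunc k) ({y} : Set K) = ⊥ :=
      IntermediateField.adjoin_simple_eq_bot_iff.2 (IntermediateField.mem_bot.2
        ⟨algebraMap k (RatFunc k) c, by rw [← IsScalarTower.algebraMap_apply, hc]⟩)
    rw [htop] at h1
    have h3 := IntermediateField.finrank_top' (F := RatFunc k) (E := K)
    rw [h1, IntermediateField.finrank_bot, hdeg] at h3
    omega
  have H := Groth.Agent.FF.IsHyper.of h2 hdeg hf hd heq
  have hmem := H.mem_range_of_degree_two hK hg hx'
  rw [hrange] at hmem
  have hle : IntermediateField.adjoin k ({x'} : Set K) ≤ IntermediateField.adjoin k ({x} : Set K) :=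
    IntermediateField.adjoin_simple_le_iff.2 hmem
  exact (IntermediateField.eq_of_le_of_finrank_eq' hle (hx'.trans hx.symm)).symm

end Groth.Agent.S12585
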