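import Groth.Statements.S12586
import Groth.Agent.FF.DegTwoUnique
-- import your own Groth.Agent.* helpers here

set_option autoImplicit false
universe u v
open FunFld

namespace Groth.Agent.S12586

/-- For `k` perfect of characteristic `2`, a function field of one variable `K/k` of genus `≥ 2` has at
most one rational subfield `k(x)` over which `K` is separable of degree `2`. (The published
statement says: the unique rational subfield of index `2`; the argument given covers the subfields
over which `K` is separable, which is what is stated here.) -/
theorem result (k : Type u) (K : Type v) [Field k] [Field K] [Algebra k K] [PerfectField k]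
    (h2 : ringChar k = 2) (hK : FunFld.IsFunctionField k K) (hg : 2 ≤ FunFld.genus k K)
    (x x' : K) (hx : Module.finrank (IntermediateField.adjoin k ({x} : Set K)) K = 2)
    [Algebra.IsSeparable (IntermediateField.adjoin k ({x} : Set K)) K]
    (hx' : Module.finrank (IntermediateField.adjoin k ({x'} : Set K)) K = 2)
    [Algebra.IsSeparable (IntermediateField.adjoin k ({x'} : Set K)) K] :
    IntermediateField.adjoin k ({x} : Set K) = IntermediateField.adjoin k ({x'} : Set K) := by
  haveI : FiniteDimensional (IntermediateField.adjoin k ({x} : Set K)) K :=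
    Module.finite_of_finrank_pos (by rw [hx]; exact two_pos)
  haveI : FiniteDimensional (IntermediateField.adjoin k ({x'} : Set K)) K :=
    Module.finite_of_finrank_pos (by rw [hx']; exact two_pos)
  have hxt : Transcendental k x := by
    refine Groth.Agent.FF.transcendental_of_notMem hK fun ⟨c, hc⟩ => ?_
    obtain ⟨u, hu⟩ := Groth.Agent.FF.exists_transcendental hK.1
    have hb : IntermediateField.adjoin k ({x} : Set K) = ⊥ :=
      IntermediateField.adjoin_simple_eq_bot_iff.2 (IntermediateField.mem_bot.2 ⟨c, hc⟩)
    have hu' : IsAlgebraic (IntermediateField.adjoin k ({x} : Set K)) u := Algebra.IsAlgebraic.isAlgebraic u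
    rw [hb] at hu'
    exact hu (hu'.restrictScalars k)
  obtain ⟨alg, htow, hX, hpoly, hrange, hfr⟩ := Groth.Agent.FF.exists_ratFunc_algebra hxt
  have hdeg : Module.finrank (RatFunc k) K = 2 := hfr.trans hx
  haveI : FiniteDimensional (RatFunc k) K := Module.finite_of_finrank_pos (by rw [hdeg]; exact two_pos)
  haveI : Algebra.IsSeparable (RatFunc k) K := by
    let e : RatFunc k ≃ₐ[k] IntermediateField.adjoin k ({x} : Set K) :=
      (AlgEquiv.ofInjectiveField (IsScalarTower.toAlgHom k (RatFunc k) K)).trans
        (Subalgebra.equivOfEq _ (IntermediateField.adjoin k ({x} : Set K)).toSubalgebra (SetLike.ext fun z => by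
          rw [IntermediateField.mem_toSubalgebra, ← SetLike.mem_coe (p := IntermediateField.adjoin k ({x} : Set K)), ← hrange]
          rfl))
    exact Algebra.IsSeparable.of_equiv_equiv e.symm.toRingEquiv (RingEquiv.refl K) (RingHom.ext fun r => by
      show algebraMap (RatFunc k) K (e.symm r) = (r : K)
      conv_rhs => rw [← e.apply_symm_apply r]
      rfl)
  have hmem := Groth.Agent.FF.mem_range_of_degree_two_char_two hK
    (Groth.Agent.FF.two_eq_zero_of_ringChar h2) hdeg hg hx'
  rw [hrange] at hmem
  have hle : IntermediateField.adjoin k ({x'} : Set K) ≤ IntermediateField.adjoin k ({x} : Set K) :=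
    IntermediateField.adjoin_simple_le_iff.2 hmem
  exact (IntermediateField.eq_of_le_of_finrank_eq' hle (hx'.trans hx.symm)).symm

end Groth.Agent.S12586
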