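import Groth.Statements.S12588
import Groth.Agent.FF.ASDiff
import Groth.Agent.FF.ASStatements
-- import your own Groth.Agent.* helpers here

set_option autoImplicit false
universe u v w
open FunFld

namespace Groth.Agent.S12588

/-- For `k` perfect of characteristic `2`, `K` separable of degree `2` over `k(x)` with `y² + y = f(x)`,
and a place `p` of `k(x)` where `f` has a pole whose order `2d - 1` is odd: a place `P` of `K` above
`p` with ramification index `e` (necessarily `e = 2`, `P` unique) has different exponent `d(P|p) =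
2d = 1 - ord_p(f)`; the exponent is computed on `dz` through Laurent expansions over `k` at `p` and
`P`. -/
theorem result (k : Type u) (K : Type v) [Field k] [Field K] [Algebra k K] [Algebra (RatFunc k) K] [IsScalarTower k (RatFunc k) K]
    (hK : FunFld.IsFunctionField k K) (hdeg : Module.finrank (RatFunc k) K = 2) [PerfectField k] (h2 : ringChar k = 2)
    [Algebra.IsSeparable (RatFunc k) K]
    (y : K) (hy : y ∉ Set.range (algebraMap (RatFunc k) K)) (f : RatFunc k)
    (heq : y ^ 2 + y = algebraMap (RatFunc k) K f)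
    (p : FunFld.Place k (RatFunc k)) (hp : 1 < p.1 f) (hodd : Odd (p.ord f))
    (P : FunFld.Place k K) (e : ℕ) (he : FunFld.IsOverWith P p e)
    (F F' : Type w) [Field F] [Algebra k F] [Field F'] [Algebra k F']
    (φ : RatFunc k →ₐ[k] LaurentSeries F) (hφ : LocRes.IsExpansionAt p.1 φ)
    (ψ : K →ₐ[k] LaurentSeries F') (hψ : LocRes.IsExpansionAt P.1 ψ)
    (z : RatFunc k) (hz : LocRes.vDiff φ 1 z ≠ 0) (hz' : LocRes.vDiff ψ 1 (algebraMap (RatFunc k) K z) ≠ 0) :
    LocRes.diffExp φ ψ e z = 1 - p.ord f := by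
  have H : Groth.Agent.FF.IsAS y f := ⟨Groth.Agent.FF.two_eq_zero_of_ringChar h2, hdeg, hy, heq⟩
  haveI := H.finite
  have hp' : p.ord f < 0 := (Groth.Agent.FF.one_lt_val_iff p f).1 hp
  obtain rfl := Groth.Agent.FF.IsOverWith_unique he ((H.ramified hp' hodd).2 P ⟨e, he⟩).1
  have hab := H.v_D_above hp' hodd he hφ hψ z
  have hv : LocRes.vDiff φ 1 z = Valued.v (LocRes.D F (φ z)) := by rw [LocRes.vDiff, map_one, one_mul]
  have hv' : LocRes.vDiff ψ 1 (algebraMap (RatFunc k) K z) = Valued.v (LocRes.D F' (ψ (algebraMap (RatFunc k) K z))) := by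
    rw [LocRes.vDiff, map_one, one_mul]
  rw [LocRes.diffExp, LocRes.ordDiff, LocRes.ordDiff, hv', hab, ← hv,
    WithZero.log_mul (pow_ne_zero _ hz) WithZero.exp_ne_zero, WithZero.log_pow, WithZero.log_exp]
  simp only [nsmul_eq_mul]
  ring

end Groth.Agent.S12588
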