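import Groth.Statements.S12592
import Groth.Agent.FF.SplitCount
-- import your own Groth.Agent.* helpers here

set_option autoImplicit false
universe u v
open FunFld

namespace Groth.Agent.S12592

/-- For a nonsingular place `P` of a geometric function field of one variable `K/k` and a finite
extension `k'/k` that is a splitting field for `P`, the scalar extension `k' ⊗_k K` has exactly
`[F_P^{sep} : k]` places above `P`, each with ramification index `[F_P : F_P^{sep}]`. (Part (2), on
the scalar extension to an algebraic closure, is not stated.) -/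
theorem result (k k' : Type u) (K K' : Type v) [Field k] [Field k'] [Field K] [Field K']
    [Algebra k k'] [FiniteDimensional k k'] [Algebra k K] [Algebra K K'] [Algebra k' K'] [Algebra k K']
    [IsScalarTower k k' K'] [IsScalarTower k K K']
    (h : Function.Bijective (Algebra.TensorProduct.productMap
      (IsScalarTower.toAlgHom k k' K') (IsScalarTower.toAlgHom k K K')))
    (hK : FunFld.IsFunctionField k K) (hg : FunFld.IsGeometric k K) (P : FunFld.Place k K)
    (hns : ∀ (k'' : Type u) [Field k''] [Algebra k k''] [FiniteDimensional k k'']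
      (K'' : Type v) [Field K''] [Algebra K K''] [Algebra k'' K''] [Algebra k K'']
      [IsScalarTower k k'' K''] [IsScalarTower k K K''],
      Function.Bijective (Algebra.TensorProduct.productMap
        (IsScalarTower.toAlgHom k k'' K'') (IsScalarTower.toAlgHom k K K'')) →
      integralClosure (P.O.toSubring.map (algebraMap K K'')) K'' =
        Algebra.adjoin (P.O.toSubring.map (algebraMap K K'')) (Set.range (algebraMap k'' K'')))
    (hsplit : ∀ Q : FunFld.Place k' K', (∃ e : ℕ, ∀ z : K, Q.1 (algebraMap K K' z) = P.1 z ^ e) → Q.deg = 1) :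
    {Q : FunFld.Place k' K' | ∃ e : ℕ, ∀ z : K, Q.1 (algebraMap K K' z) = P.1 z ^ e}.Finite ∧
    {Q : FunFld.Place k' K' | ∃ e : ℕ, ∀ z : K, Q.1 (algebraMap K K' z) = P.1 z ^ e}.ncard =
      Field.finSepDegree k (IsLocalRing.ResidueField P.O) ∧
    ∀ Q : FunFld.Place k' K', (∃ e : ℕ, ∀ z : K, Q.1 (algebraMap K K' z) = P.1 z ^ e) →
      ∀ z : K, Q.1 (algebraMap K K' z) = P.1 z ^ Module.finrank (separableClosure k (IsLocalRing.ResidueField P.O)) (IsLocalRing.ResidueField P.O) := by
  classical
  have hns' : ∀ (k'' : Type u) (K'' : Type v) [Field k''] [Field K''] [Algebra k k''] [FiniteDimensional k k'']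
      [Algebra K K''] [Algebra k'' K''] [Algebra k K''] [IsScalarTower k k'' K''] [IsScalarTower k K K''],
      Groth.Agent.FF.IsBC k k'' K K'' → ∀ z ∈ Groth.Agent.FF.IntP K'' P, z ∈ Groth.Agent.FF.BO k'' K'' P := by
    intro k'' K'' _ _ _ _ _ _ _ _ _ h''
    refine (Groth.Agent.FF.integralClosure_eq_adjoin_iff h'' hK.1 (P := P) ?_).1 (hns k'' K'' h'')
    ext z
    exact ⟨fun ⟨a, ha⟩ => ha ▸ a.2, fun hz => ⟨⟨z, hz⟩, rfl⟩⟩
  have hres : ∀ Q : FunFld.Place k K', FunFld.IsOver Q P → ∀ z : K', Q.1 z ≤ 1 →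
      ∃ c : k', Q.1 (z - algebraMap k' K' c) < 1 := fun Q hQ z hz =>
    Groth.Agent.FF.exists_const_of_deg_one (Groth.Agent.FF.topPlace (k' := k') Q) (hsplit _ hQ) hz
  obtain ⟨hcard, he⟩ := Groth.Agent.FF.split_count h hK hg hns' hres
  let e : {Q : FunFld.Place k' K' | ∃ e : ℕ, ∀ z : K, Q.1 (algebraMap K K' z) = P.1 z ^ e} ≃
      {Q : FunFld.Place k K' // FunFld.IsOver Q P} :=
    { toFun := fun Q => ⟨Groth.Agent.FF.botPlace Q.1, Q.2⟩
      invFun := fun Q => ⟨Groth.Agent.FF.topPlace Q.1, Q.2⟩
      left_inv := fun Q => rfl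
      right_inv := fun Q => rfl }
  haveI := Groth.Agent.FF.bc_finite h
  haveI : Finite {Q : FunFld.Place k K' // FunFld.IsOver Q P} :=
    (Groth.Agent.FF.finite_over (K' := K') hK.1 P).to_subtype
  refine ⟨?_, ?_, fun Q hQ z => ?_⟩
  · exact Set.finite_coe_iff.1 (Finite.of_equiv _ e.symm)
  · rw [← Nat.card_coe_set_eq, Nat.card_congr e, hcard]
  · rw [← he (Groth.Agent.FF.botPlace Q) hQ]
    exact Groth.Agent.FF.isOverWith_ramIdx (Q := Groth.Agent.FF.botPlace (k := k) Q) hQ z

end Groth.Agent.S12592
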