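import Groth.Statements.S12599
import Groth.Agent.FFWr.Hasse
-- import your own Groth.Agent.* helpers here

set_option autoImplicit false
open FunFld

namespace Groth.Agent.S12599

/-- Over an algebraically closed constant field, for a place `P` with local parameter `t`, and a
linearly independent tuple `φ = (φ₀, …, φₙ)` of functions integral at `P`, the matrix of values at
`P` of the Hasse derivatives `D_t^(j)(φᵢ)`, `j = 0, 1, …`, has rank `n + 1`: its rows are linearly
independent over the residue field. -/
theorem result
    (k K : Type*) [Field k] [IsAlgClosed k] [Field K] [Algebra k K]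
    (hK : FunFld.IsFunctionField k K) {n : ℕ} (φ : Fin (n + 1) → K) (hφ : LinearIndependent k φ)
    (P : FunFld.Place k K) (hint : ∀ i, P.1 (φ i) ≤ 1) (t : K) (ht : P.1 t = WithZero.exp (-1))
    (Ht : K →ₐ[k] PowerSeries K) (hHt : LocRes.IsHasseFamily t Ht) :
    LinearIndependent (IsLocalRing.ResidueField P.O)
      (fun i : Fin (n + 1) => fun j : ℕ => FunFld.evalP P (LocRes.hasseD Ht j (φ i))) := by
  obtain ⟨e, he⟩ := Groth.Agent.FFWr.exists_isCoord hK P ht
  rw [Fintype.linearIndependent_iff]
  intro g hg
  choose a ha using fun i => Groth.Agent.FFWr.residue_surjective hK P (g i)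
  suffices h0 : ∑ i, a i • φ i = 0 by
    intro i
    rw [← ha i, Fintype.linearIndependent_iff.1 hφ a h0 i, map_zero]
  apply e.toRingHom.injective
  show e _ = e 0
  rw [map_zero]
  ext m
  rw [he.coeff_sum, HahnSeries.coeff_zero]
  rcases lt_or_ge m 0 with hm | hm
  · exact Finset.sum_eq_zero fun r _ => by rw [(he.val_le_one_iff _).1 (hint r) m hm, mul_zero]
  · lift m to ℕ using hm
    apply (algebraMap k (IsLocalRing.ResidueField P.O)).injective
    rw [map_zero, map_sum]
    have h1 := congrFun hg m
    simp only [Finset.sum_apply, Pi.smul_apply, smul_eq_mul, Pi.zero_apply] at h1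
    rw [← h1]
    refine Finset.sum_congr rfl fun r _ => ?_
    rw [map_mul, ha, he.evalP_eq (he.val_hasseD_le_one hK hHt (hint r) m), he.coeff_zero_hasseD hK hHt (hint r) m]

end Groth.Agent.S12599
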