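import Groth.Statements.S12602
import Groth.Agent.FFWr.Hasse
-- import your own Groth.Agent.* helpers here

set_option autoImplicit false
open FunFld

namespace Groth.Agent.S12602

/-- Over an algebraically closed constant field, for a birational projective map `φ = (φ₀, …, φₙ)`, `n ≥
1`, with orders `j₁ < ⋯ < jₙ`, and `τ ≠ 1`, the `τ`-orders of `φ` are `(0, j₁, …, j_{m-1}, j_{m+1},
…, jₙ)` for some `m`: the jump indices of `[τ(φ) | D^(0) φ | D^(1) φ | ⋯]` after the leading column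
are `0` and the `jₗ` with `l ≠ m`. -/
theorem result
    (k K : Type*) [Field k] [IsAlgClosed k] [Field K] [Algebra k K]
    (hK : FunFld.IsFunctionField k K) {n : ℕ} (hn : 0 < n) (φ : Fin (n + 1) → K) (hφ : LinearIndependent k φ)
    (h0 : φ 0 ≠ 0) (hbir : IntermediateField.adjoin k (Set.range fun i => φ i / φ 0) = ⊤)
    (τ : K →ₐ[k] K) (hτ : τ ≠ AlgHom.id k K) (s : K) (H : K →ₐ[k] PowerSeries K) (hH : LocRes.IsHasseFamily s H)
    (J : Fin n → ℕ) (hJ : FunFld.IsOrders K (FunFld.hcol (AlgHom.id k K) H φ) J) :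
    ∃ m : Fin n, ∀ j : ℕ,
      FunFld.IsJump K (FunFld.hcol τ H φ) (j + 1) ↔ (j = 0 ∨ ∃ l, l ≠ m ∧ J l = j) := by
  classical
  let c := FunFld.hcol (AlgHom.id k K) H φ
  have h1 := Groth.Agent.FFWr.not_isJump_one_iff hK h0 hbir (AlgHom.id k K) hH
  have hJ1 : FunFld.IsJump K (FunFld.hcol τ H φ) 1 := by
    by_contra h
    exact hτ ((Groth.Agent.FFWr.not_isJump_one_iff hK h0 hbir τ hH).1 h)
  have hnot : FunFld.hcol τ H φ 0 ∉ Submodule.span K ({c 1} : Set _) := by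
    intro hmem
    obtain ⟨a, ha⟩ := Submodule.mem_span_singleton.1 hmem
    refine hτ (Groth.Agent.FFWr.algHom_eq_id_of_proportional hK h0 hbir τ (y := a) fun i => ?_)
    have := congrFun ha i
    rw [Pi.smul_apply, smul_eq_mul, Groth.Agent.FFWr.hcol_zero] at this
    rw [← this]
    show a * LocRes.hasseD H 0 (φ i) = _
    rw [Groth.Agent.FF.hasseD_zero hH]
  obtain ⟨j₀, hj₀, hjump, hiff⟩ := Groth.Agent.FFWr.isJump_change_lead (c := c) (c' := FunFld.hcol τ H φ)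
    (by show FunFld.hcol (AlgHom.id k K) H φ 0 = FunFld.hcol (AlgHom.id k K) H φ 1; rw [Groth.Agent.FFWr.hcol_one hH]; rfl) (fun j => rfl)
    (by rw [Groth.Agent.FFWr.span_hcol_eq_top hK hH _ hφ]; trivial) hnot
  obtain ⟨m, hm⟩ := (hJ.2 j₀).2 hjump
  have hne : c 1 ≠ 0 := by
    show FunFld.hcol (AlgHom.id k K) H φ 1 ≠ 0
    rw [Groth.Agent.FFWr.hcol_one hH]
    exact fun e => h0 (congrFun e 0)
  have hpos : ∀ l, 1 ≤ J l := fun l => by
    by_contra hlt
    have : J l = 0 := by omega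
    have h := (hJ.2 (J l)).1 ⟨l, rfl⟩
    rw [this] at h
    exact (h1.2 rfl) h
  refine ⟨m, fun j => ?_⟩
  rw [hiff j]
  constructor
  · rintro (⟨h, -⟩ | ⟨h2, h3, h4⟩)
    · exact Or.inl h
    · obtain ⟨l, hl⟩ := (hJ.2 j).2 h4
      exact Or.inr ⟨l, fun e => h2 (by rw [← hl, e, hm]), hl⟩
  · rintro (h | ⟨l, hl, hlj⟩)
    · exact Or.inl ⟨h, hne⟩
    · refine Or.inr ⟨fun e => hl (hJ.1.injective (by rw [hlj, hm, e])), hlj ▸ hpos l, (hJ.2 j).1 ⟨l, hlj⟩⟩

end Groth.Agent.S12602
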