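import Groth.Statements.S12608
import Groth.Agent.FFWr.Weier
-- import your own Groth.Agent.* helpers here

set_option autoImplicit false
open FunFld

namespace Groth.Agent.S12608

/-- Over an algebraically closed constant field, let `φ = (φ₀, …, φₙ)` be an effective projective map
normalized at the place `P`, `t` a local parameter at `P`, `j₁, …, jₙ` the orders of `φ` and `j'₁,
…, j'ₙ` the orders of `φ` at `P`. Then `jₗ ≤ j'ₗ` for all `l`, and the following are equivalent: all
`j'ₗ = jₗ`; the Wronskian `w_t(φ)` does not vanish at `P`; the Weierstrass divisor `W(φ)` has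
coefficient `0` at `P` (the divisor of `dt` in it read through a family of Laurent expansions). -/
theorem result
    (k K : Type*) [Field k] [IsAlgClosed k] [Field K] [Algebra k K]
    (hK : FunFld.IsFunctionField k K) (P : FunFld.Place k K) {n : ℕ} (φ : Fin (n + 1) → K) (hφ : LinearIndependent k φ)
    (heff : (1 : K) ∈ Submodule.span k (Set.range φ)) (hnorm : ∀ i, P.1 (φ i) ≤ 1)
    (t : K) (ht : P.1 t = WithZero.exp (-1))
    (Ht : K →ₐ[k] PowerSeries K) (hHt : LocRes.IsHasseFamily t Ht)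
    (J : Fin n → ℕ) (hJ : FunFld.IsOrders K (FunFld.hcol (AlgHom.id k K) Ht φ) J)
    (J' : Fin n → ℕ) (hJ' : FunFld.IsOrders (IsLocalRing.ResidueField P.O) (FunFld.hcolAt P Ht φ) J')
    (Φ : FunFld.Place k K → (K →ₐ[k] LaurentSeries k))
    (hΦ : ∀ P : FunFld.Place k K, LocRes.IsExpansionAt P.1 (Φ P)) :
    (∀ l, J l ≤ J' l) ∧
    ((∀ l, J' l = J l) ↔ FunFld.evalP P (FunFld.wrMat (AlgHom.id k K) Ht φ J).det ≠ 0) ∧
    ((∀ l, J' l = J l) ↔ FunFld.wDiv (AlgHom.id k K) Ht Φ t φ J P = 0) := by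
  classical
  obtain ⟨e, he⟩ := Groth.Agent.FFWr.exists_isCoord hK P ht
  have hJc := (he.isOrders_hcolAt hK hHt hnorm J').1 hJ'
  have hle := Groth.Agent.FFWr.orders_id_le hK he hHt hφ hnorm heff hJ hJc
  have hfix := Groth.Agent.FFWr.isFixedPt_id hK P
  obtain ⟨h1, h2⟩ := he.det_wrMat_fixed hK hHt hfix hnorm heff hJc J
  have hI0 : ∀ l, 0 < J l := fun l => Groth.Agent.FFWr.pos_of_isOrders_id hHt hJ l
  have hd := Groth.Agent.FFWr.det_ne_zero_of_isOrders (AlgHom.id k K) Ht hφ hJ
  have hkey : (∀ l, J' l = J l) ↔ P.1 (FunFld.wrMat (AlgHom.id k K) Ht φ J).det = 1 := by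
    constructor
    · intro heq
      have e0 : J' = J := funext heq
      rw [(h2 (Or.inl hI0)).2 (by rw [e0]; rw [Groth.Agent.FFWr.det_binomMat_self hJ.1]; exact one_ne_zero)]
      simp [e0]
    · intro h
      rw [h, ← WithZero.exp_zero, WithZero.exp_le_exp] at h1
      have h0 : ∀ l ∈ Finset.univ, (0 : ℤ) ≤ (J' l : ℤ) - J l := fun l _ => by have := hle l; omega
      have hz := (Finset.sum_eq_zero_iff_of_nonneg h0).1 (le_antisymm (by omega) (Finset.sum_nonneg h0))
      intro l
      have := hz l (Finset.mem_univ l)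
      omega
  have hint : P.1 (FunFld.wrMat (AlgHom.id k K) Ht φ J).det ≤ 1 := by
    refine h1.trans ?_
    rw [← WithZero.exp_zero, WithZero.exp_le_exp, neg_nonpos]
    exact Finset.sum_nonneg fun l _ => by have := hle l; omega
  refine ⟨hle, hkey.trans ?_, hkey.trans ?_⟩
  · rw [he.evalP_eq hint, map_ne_zero_iff _ (algebraMap k _).injective]
    have h3 := he.val_eq_iff (FunFld.wrMat (AlgHom.id k K) Ht φ J).det (D := 0) (by simpa using hint)
    simpa using h3
  · rw [Groth.Agent.FFWr.wDiv_local hK hφ ht hHt hnorm heff J hΦ,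
      Groth.Agent.FFWr.minOrd_comp_of_fixed hK hφ hfix hnorm heff, sub_zero,
      Groth.Agent.FF.val_eq_one_iff P hd]

end Groth.Agent.S12608
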