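import Groth.Statements.S12609
import Groth.Agent.FFWr.Places
-- import your own Groth.Agent.* helpers here

set_option autoImplicit false
open FunFld

namespace Groth.Agent.S12609

/-- Over an algebraically closed constant field, let `φ` be the canonical map (a basis of `L(C)`, `C`
canonical), normalized at the place `P` after multiplication by `y ≠ 0`, and `t` a local parameter
at `P`. For `j ≥ 1`: the canonical orders at `P` include `j` exactly when `j + 1` is a gap number at
`P`, i.e. `L((j+1)P) = L(jP)`. -/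
theorem result
    (k K : Type*) [Field k] [IsAlgClosed k] [Field K] [Algebra k K]
    (hK : FunFld.IsFunctionField k K) (C : FunFld.Divisor k K) (hC : FunFld.IsCanonical k K C)
    {n : ℕ} (φ : Fin (n + 1) → K) (hφ : LinearIndependent k φ)
    (hspan : Submodule.span k (Set.range φ) = FunFld.L C)
    (P : FunFld.Place k K) (y : K) (hy : y ≠ 0)
    (heff : (1 : K) ∈ Submodule.span k (Set.range (y • φ))) (hnorm : ∀ i, P.1 (y * φ i) ≤ 1)
    (t : K) (ht : P.1 t = WithZero.exp (-1))
    (Ht : K →ₐ[k] PowerSeries K) (hHt : LocRes.IsHasseFamily t Ht) (j : ℕ) (hj : 1 ≤ j) :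
    FunFld.IsJump (IsLocalRing.ResidueField P.O) (FunFld.hcolAt P Ht (y • φ)) (j + 1) ↔
      FunFld.L (Finsupp.single P ((j : ℤ) + 1)) = FunFld.L (Finsupp.single P (j : ℤ)) := by
  classical
  obtain ⟨e, he⟩ := Groth.Agent.FFWr.exists_isCoord hK P ht
  have hnorm' : ∀ i, P.1 ((y • φ) i) ≤ 1 := hnorm
  rw [he.isJump_hcolAt hK hHt hnorm', he.isJump_ccol_iff hnorm' hj]
  let C' := C - FunFld.div k y
  have hC'y : C' + FunFld.div k y = C := sub_add_cancel C _
  have hspan' : Submodule.span k (Set.range (y • φ)) = FunFld.L C' := by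
    ext w
    rw [show Set.range (y • φ) = (LinearMap.mulLeft k y) '' Set.range φ from by
      rw [← Set.range_comp]; rfl, Submodule.span_image, hspan, Submodule.mem_map]
    constructor
    · rintro ⟨x, hx, rfl⟩
      show y * x ∈ _
      rw [Groth.Agent.FF.mul_mem_L_iff hK hy, hC'y]
      exact hx
    · intro hw
      refine ⟨y⁻¹ * w, ?_, mul_inv_cancel_left₀ hy w⟩
      rw [← hC'y, ← Groth.Agent.FF.mul_mem_L_iff hK hy, mul_inv_cancel_left₀ hy]
      exact hw
  have hell : ∀ i : ℤ, FunFld.ell (C' - Finsupp.single P i) = FunFld.ell (C - Finsupp.single P i) := by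
    intro i
    rw [← Groth.Agent.FF.ell_add_div hK (D := C' - Finsupp.single P i) hy, sub_add_eq_add_sub, hC'y]
  have hg : 1 ≤ FunFld.genus k K := by
    rw [← Groth.Agent.FF.ell_canonical hK hC, FunFld.ell, ← hspan, finrank_span_eq_card hφ]
    simp
  have hC'P : C' P = 0 := by
    apply le_antisymm
    · have hlt : FunFld.ell (C' - Finsupp.single P 1) < FunFld.ell C' := by
        have h0 : FunFld.ell C' = FunFld.ell C := by
          have := hell 0
          simpa using this
        rw [hell, h0]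
        have h1 := Groth.Agent.FF.riemann_roch hK hC (Finsupp.single P 1)
        rw [Groth.Agent.FF.deg_single, Groth.Agent.FF.deg_eq_one hK P,
          Groth.Agent.FF.ell_single_one hK hg (Groth.Agent.FF.deg_eq_one hK P)] at h1
        rw [Groth.Agent.FF.ell_canonical hK hC]
        push_cast at h1
        omega
      obtain ⟨x, hx, hxv⟩ := (Groth.Agent.FF.ell_lt_iff_exists hK C' P).1 hlt
      have := Groth.Agent.FFWr.val_le_one_of_mem_span hnorm' (hspan' ▸ hx)
      rw [hxv, ← WithZero.exp_zero, WithZero.exp_le_exp] at this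
      exact this
    · have := (hspan' ▸ heff : (1 : K) ∈ FunFld.L C') P
      rw [map_one, ← WithZero.exp_zero, WithZero.exp_le_exp] at this
      exact this
  have key := Groth.Agent.FF.ell_lt_iff_exists hK (C' - Finsupp.single P (j : ℤ)) P
  simp only [Groth.Agent.FF.mem_L_sub_single (Int.natCast_nonneg j), Finsupp.sub_apply,
    Finsupp.single_eq_same, hC'P, zero_sub] at key
  have step : (∃ f ∈ Submodule.span k (Set.range (y • φ)), P.1 f = WithZero.exp (-(j : ℤ))) ↔
      FunFld.ell (C' - Finsupp.single P (j : ℤ) - Finsupp.single P 1) < FunFld.ell (C' - Finsupp.single P (j : ℤ)) := by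
    rw [key, hspan']
    exact ⟨fun ⟨f, hf, hv⟩ => ⟨f, ⟨hf, hv.le⟩, hv⟩, fun ⟨f, ⟨hf, _⟩, hv⟩ => ⟨f, hf, hv⟩⟩
  rw [step, sub_sub, ← Finsupp.single_add, hell, hell]
  have hle : FunFld.L (Finsupp.single P (j : ℤ)) ≤ FunFld.L (Finsupp.single P ((j : ℤ) + 1)) :=
    Groth.Agent.FF.L_mono (Finsupp.single_le_single.2 (by omega))
  haveI := Groth.Agent.FF.finiteDimensional_L hK (Finsupp.single P ((j : ℤ) + 1))
  have hiff : FunFld.L (Finsupp.single P ((j : ℤ) + 1)) = FunFld.L (Finsupp.single P (j : ℤ)) ↔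
      FunFld.ell (Finsupp.single P ((j : ℤ) + 1)) = FunFld.ell (Finsupp.single P (j : ℤ)) :=
    ⟨fun h => by rw [FunFld.ell, FunFld.ell, h], fun h => (Submodule.eq_of_le_of_finrank_eq hle h.symm).symm⟩
  have hle' := Submodule.finrank_mono hle
  rw [hiff]
  have h1 := Groth.Agent.FF.riemann_roch hK hC (Finsupp.single P (j : ℤ))
  have h2 := Groth.Agent.FF.riemann_roch hK hC (Finsupp.single P ((j : ℤ) + 1))
  rw [Groth.Agent.FF.deg_single, Groth.Agent.FF.deg_eq_one hK P] at h1 h2
  change FunFld.ell _ ≤ FunFld.ell _ at hle'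
  push_cast at h1 h2
  omega

end Groth.Agent.S12609
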