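import Groth.Statements.S12610
import Groth.Agent.FFWr.Weier
-- import your own Groth.Agent.* helpers here

set_option autoImplicit false
open FunFld

namespace Groth.Agent.S12610

/-- Over an algebraically closed constant field, for a birational projective map `φ`, a `k`-endomorphism
`τ ≠ 1` and a place `P` fixed by `τ`, the place `P` is a Weierstrass point of `φ` with respect to
`τ`: the Weierstrass divisor `W(φ, τ) = [w_s(φ, τ)] + [τ(φ)] + n[φ] + j(φ, τ)[ds]` has positive
coefficient at `P` (the divisor of `ds` read through a family of Laurent expansions). -/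
theorem result
    (k K : Type*) [Field k] [IsAlgClosed k] [Field K] [Algebra k K]
    (hK : FunFld.IsFunctionField k K) {n : ℕ} (φ : Fin (n + 1) → K) (hφ : LinearIndependent k φ)
    (h0 : φ 0 ≠ 0) (hbir : IntermediateField.adjoin k (Set.range fun i => φ i / φ 0) = ⊤)
    (τ : K →ₐ[k] K) (hτ : τ ≠ AlgHom.id k K) (P : FunFld.Place k K) (hP : FunFld.IsFixedPt τ P)
    (s : K) (H : K →ₐ[k] PowerSeries K) (hH : LocRes.IsHasseFamily s H)
    (J : Fin n → ℕ) (hJ : FunFld.IsOrders K (FunFld.hcol τ H φ) J)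
    (Φ : FunFld.Place k K → (K →ₐ[k] LaurentSeries k))
    (hΦ : ∀ P : FunFld.Place k K, LocRes.IsExpansionAt P.1 (Φ P)) :
    0 < FunFld.wDiv τ H Φ s φ J P := by
  classical
  obtain ⟨t, ht⟩ := Groth.Agent.FF.exists_uniformizer P
  obtain ⟨Ht, hHt⟩ := Groth.Agent.FF.exists_hasse (Groth.Agent.FFWr.isSepVar_uniformizer hK ht)
  obtain ⟨e, he⟩ := Groth.Agent.FFWr.exists_isCoord hK P ht
  obtain ⟨y, hy, hnorm, heff⟩ := Groth.Agent.FFWr.exists_normalized hK hφ P
  obtain ⟨e1, hJt⟩ := Groth.Agent.FFWr.wDiv_normalize hK hφ τ hH hHt hJ hy hΦ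
  have hli := Groth.Agent.FFWr.li_smul hφ hy
  obtain ⟨J', hJ'⟩ := Groth.Agent.FFWr.exists_isOrders (K := k) (c := Groth.Agent.FFWr.ccol e (y • φ))
    (n := n) (Module.finrank_fin_fun k)
    (Groth.Agent.FFWr.span_range_eq_top_of_rows _ fun a ha => by
      have hsum : ∑ r, a r • (y • φ) r = 0 := by
        apply e.toRingHom.injective
        show e _ = e 0
        rw [map_zero]
        ext m
        rw [he.coeff_sum, HahnSeries.coeff_zero]
        rcases lt_or_ge m 0 with hm | hm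
        · exact Finset.sum_eq_zero fun r _ => by rw [(he.val_le_one_iff _).1 (hnorm r) m hm, mul_zero]
        · lift m to ℕ using hm
          exact ha (m + 1)
      exact funext (Fintype.linearIndependent_iff.1 hli a hsum))
    (he.ccol_zero_ne hnorm heff)
  have hn : 0 < n := by
    rcases Nat.eq_zero_or_pos n with rfl | h
    · refine absurd (Groth.Agent.FFWr.algHom_eq_id_of_proportional hK h0 hbir τ (y := τ (φ 0) / φ 0) fun i => ?_) hτ
      rw [show i = 0 from Fin.fin_one_eq_zero i, div_mul_cancel₀ _ h0]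
    · exact h
  obtain ⟨ε, hε⟩ := Groth.Agent.FFWr.exists_orders hK hHt (AlgHom.id k K) hli
  have hle := Groth.Agent.FFWr.orders_id_le hK he hHt hli hnorm heff hε hJ'
  -- the orders for `τ`
  have hy0 : (y • φ) 0 ≠ 0 := hli.ne_zero 0
  have hbir' : IntermediateField.adjoin k (Set.range fun i => (y • φ) i / (y • φ) 0) = ⊤ := by
    simpa [mul_div_mul_left _ _ hy] using hbir
  have hjump1 : FunFld.IsJump K (FunFld.hcol τ Ht (y • φ)) 1 := by
    by_contra h
    exact hτ ((Groth.Agent.FFWr.not_isJump_one_iff hK hy0 hbir' τ hHt).1 h)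
  obtain ⟨l0, hl0⟩ := (hJt.2 0).2 hjump1
  have hnot : FunFld.hcol τ Ht (y • φ) 0 ∉
      Submodule.span K ({FunFld.hcol (AlgHom.id k K) Ht (y • φ) 1} : Set _) := by
    intro hmem
    obtain ⟨a, ha⟩ := Submodule.mem_span_singleton.1 hmem
    refine hτ (Groth.Agent.FFWr.algHom_eq_id_of_proportional hK hy0 hbir' τ (y := a) fun i => ?_)
    have := congrFun ha i
    rw [Pi.smul_apply, smul_eq_mul, Groth.Agent.FFWr.hcol_zero, Groth.Agent.FFWr.hcol_one hHt] at this
    exact this.symm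
  obtain ⟨j₀, hj₀, hjump, hiff⟩ := Groth.Agent.FFWr.isJump_change_lead
    (c := FunFld.hcol (AlgHom.id k K) Ht (y • φ)) (c' := FunFld.hcol τ Ht (y • φ))
    (by rw [Groth.Agent.FFWr.hcol_one hHt]; rfl) (fun j => rfl)
    (by rw [Groth.Agent.FFWr.span_hcol_eq_top hK hHt _ hli]; trivial) hnot
  obtain ⟨m, hm⟩ := (hε.2 j₀).2 hjump
  have hsub : Finset.univ.image J ⊆ insert 0 ((Finset.univ.image ε).erase j₀) := by
    intro x hx
    obtain ⟨l, -, rfl⟩ := Finset.mem_image.1 hx
    rcases (hiff (J l)).1 ((hJt.2 _).1 ⟨l, rfl⟩) with ⟨h, -⟩ | ⟨h2, -, h4⟩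
    · exact h ▸ Finset.mem_insert_self _ _
    · obtain ⟨q, hq⟩ := (hε.2 _).2 h4
      exact Finset.mem_insert_of_mem (Finset.mem_erase.2 ⟨h2, Finset.mem_image.2 ⟨q, Finset.mem_univ _, hq⟩⟩)
  have hmj : j₀ ∈ Finset.univ.image ε := Finset.mem_image.2 ⟨m, Finset.mem_univ _, hm⟩
  have hlt : ∑ l, J l < ∑ l, ε l := by
    rw [← Finset.sum_image (f := fun x : ℕ => x) hJt.1.injective.injOn,
      ← Finset.sum_image (f := fun x : ℕ => x) hε.1.injective.injOn,
      ← Finset.add_sum_erase _ (fun x : ℕ => x) hmj]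
    refine (Finset.sum_le_sum_of_subset hsub).trans_lt ?_
    by_cases h00 : 0 ∈ (Finset.univ.image ε).erase j₀
    · rw [Finset.insert_eq_of_mem h00]; omega
    · rw [Finset.sum_insert h00]; omega
  have h1 := (Groth.Agent.FFWr.sum_sub_le_wDiv hK hP he hHt hli hnorm heff hJt hJ' hΦ).1
  rw [e1] at h1
  refine lt_of_lt_of_le ?_ h1
  rw [Finset.sum_sub_distrib]
  have h3 : (∑ l, ε l : ℕ) ≤ ∑ l, J' l := Finset.sum_le_sum fun l _ => hle l
  have h4 : ((∑ l, J l : ℕ) : ℤ) < ((∑ l, J' l : ℕ) : ℤ) := by exact_mod_cast hlt.trans_le h3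
  push_cast at h4
  linarith

end Groth.Agent.S12610
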