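import Groth.Statements.S12617
import Groth.Agent.FFWr.Orders
-- import your own Groth.Agent.* helpers here

set_option autoImplicit false
open FunFld

namespace Groth.Agent.S12617

/-- Over an algebraically closed constant field, if the effective projective map `φ = (φ₀, …, φₙ)`, `n ≥
1`, normalized at `P`, is nonsingular at `P`, then its first order at `P` is `1`. -/
theorem result
    (k K : Type*) [Field k] [IsAlgClosed k] [Field K] [Algebra k K]
    (hK : FunFld.IsFunctionField k K) (P : FunFld.Place k K) {n : ℕ} (hn : 0 < n) (φ : Fin (n + 1) → K)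
    (hφ : LinearIndependent k φ)
    (heff : (1 : K) ∈ Submodule.span k (Set.range φ)) (hnorm : ∀ i, P.1 (φ i) ≤ 1) (hns : FunFld.IsNonsingularAt φ P)
    (t : K) (ht : P.1 t = WithZero.exp (-1))
    (Ht : K →ₐ[k] PowerSeries K) (hHt : LocRes.IsHasseFamily t Ht)
    (J' : Fin n → ℕ) (hJ' : FunFld.IsOrders (IsLocalRing.ResidueField P.O) (FunFld.hcolAt P Ht φ) J') :
    J' ⟨0, hn⟩ = 1 := by
  obtain ⟨e, he⟩ := Groth.Agent.FFWr.exists_isCoord hK P ht
  have hJc := (he.isOrders_hcolAt hK hHt hnorm J').1 hJ'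
  by_contra hne
  have h2 : ∀ l, 2 ≤ J' l := fun l => by
    have := he.pos_of_isOrders hJc ⟨0, hn⟩
    have := hJc.1.monotone (show (⟨0, hn⟩ : Fin n) ≤ l from Nat.zero_le l.1)
    omega
  have hmod : ∀ f ∈ Submodule.span k (Set.range φ),
      ∃ c : k, P.1 (f - algebraMap k K c) ≤ WithZero.exp (-2 : ℤ) := by
    intro f hf
    refine ⟨(e f).coeff 0, (he.val_le_iff _ 2).2 fun m hm => ?_⟩
    rw [map_sub, HahnSeries.coeff_sub, he.coeff_algebraMap]
    rcases lt_or_ge m 0 with h | h
    · rw [(he.val_le_one_iff _).1 (Groth.Agent.FFWr.val_le_one_of_mem_span hnorm hf) m h, if_neg h.ne, sub_zero]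
    · by_cases hm0 : m = 0
      · subst hm0; rw [if_pos rfl, sub_self]
      · rw [if_neg hm0, sub_zero]
        by_contra hc
        have hm1 : m = 1 := by omega
        subst hm1
        have hmem : f - algebraMap k K ((e f).coeff 0) ∈ Submodule.span k (Set.range φ) :=
          sub_mem hf (by rw [Algebra.algebraMap_eq_smul_one]; exact Submodule.smul_mem _ _ heff)
        have hle : P.1 (f - algebraMap k K ((e f).coeff 0)) ≤ WithZero.exp (-((1 : ℕ) : ℤ)) := by
          refine (he.val_le_iff _ _).2 fun i hi => ?_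
          rw [map_sub, HahnSeries.coeff_sub, he.coeff_algebraMap]
          rcases (show i ≤ 0 by omega).lt_or_eq with h' | rfl
          · rw [(he.val_le_one_iff _).1 (Groth.Agent.FFWr.val_le_one_of_mem_span hnorm hf) i h', if_neg h'.ne, sub_zero]
          · rw [if_pos rfl, sub_self]
        have heq := (he.val_eq_iff _ hle).2 (by
          rw [map_sub, HahnSeries.coeff_sub, he.coeff_algebraMap]; simpa using hc)
        obtain ⟨l, hl⟩ := (hJc.2 1).2 ((he.isJump_ccol_iff hnorm le_rfl).2 ⟨_, hmem, heq⟩)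
        have := h2 l
        omega
  have htle : P.1 t ≤ 1 := by rw [ht, ← WithZero.exp_zero, WithZero.exp_le_exp]; norm_num
  obtain ⟨i, hi, hmax, u, hu, w, hw, hw1, htw⟩ := hns t htle
  have hvi : P.1 (φ i) = 1 := by
    refine le_antisymm (hnorm i) ?_
    obtain ⟨r, hr⟩ := he.exists_coeff_zero_ne hnorm heff
    refine le_trans ?_ (hmax r)
    have h0 := (he.val_eq_iff (φ r) (D := 0) (by simpa using hnorm r)).2 hr
    simp only [neg_zero, WithZero.exp_zero] at h0
    exact h0.ge
  have hexp2 : WithZero.exp (-2 : ℤ) ≤ (1 : WithZero (Multiplicative ℤ)) := by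
    rw [← WithZero.exp_zero, WithZero.exp_le_exp]; norm_num
  obtain ⟨d, hd⟩ := hmod (φ i) (Submodule.subset_span ⟨i, rfl⟩)
  have hd0 : d ≠ 0 := by
    rintro rfl
    rw [map_zero, sub_zero, hvi, ← WithZero.exp_zero, WithZero.exp_le_exp] at hd
    omega
  have hratio : ∀ r, ∃ c : k, P.1 (φ r / φ i - algebraMap k K c) ≤ WithZero.exp (-2 : ℤ) := by
    intro r
    obtain ⟨c, hc⟩ := hmod (φ r) (Submodule.subset_span ⟨r, rfl⟩)
    refine ⟨c / d, ?_⟩
    have e1 : φ r / φ i - algebraMap k K (c / d) =
        ((φ r - algebraMap k K c) - algebraMap k K (c / d) * (φ i - algebraMap k K d)) / φ i := by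
      rw [map_div₀]
      have : algebraMap k K d ≠ 0 := fun h => hd0 ((algebraMap k K).injective (h.trans (map_zero _).symm))
      field_simp
      ring
    rw [e1, map_div₀, hvi, div_one]
    refine Valuation.map_sub_le P.1 hc ?_
    rw [map_mul]
    exact (mul_le_mul' (P.2.1 _) hd).trans_eq (one_mul _)
  have halg : ∀ z ∈ Algebra.adjoin k (Set.range fun r => φ r / φ i),
      ∃ c : k, P.1 (z - algebraMap k K c) ≤ WithZero.exp (-2 : ℤ) := by
    intro z hz
    induction hz using Algebra.adjoin_induction with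
    | mem x hx => obtain ⟨r, rfl⟩ := hx; exact hratio r
    | algebraMap c => exact ⟨c, by simp⟩
    | add x y _ _ hx hy =>
      obtain ⟨a, ha⟩ := hx; obtain ⟨b, hb⟩ := hy
      refine ⟨a + b, ?_⟩
      rw [map_add, add_sub_add_comm]
      exact (P.1.map_add _ _).trans (max_le ha hb)
    | mul x y _ _ hx hy =>
      obtain ⟨a, ha⟩ := hx; obtain ⟨b, hb⟩ := hy
      refine ⟨a * b, ?_⟩
      have hx1 : P.1 x ≤ 1 := by
        rw [show x = (x - algebraMap k K a) + algebraMap k K a by ring]
        exact Valuation.map_add_le _ (ha.trans hexp2) (P.2.1 a)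
      rw [map_mul, show x * y - algebraMap k K a * algebraMap k K b =
        x * (y - algebraMap k K b) + algebraMap k K b * (x - algebraMap k K a) by ring]
      refine Valuation.map_add_le _ ?_ ?_
      · rw [map_mul]; exact (mul_le_mul' hx1 hb).trans_eq (one_mul _)
      · rw [map_mul]; exact (mul_le_mul' (P.2.1 b) ha).trans_eq (one_mul _)
  obtain ⟨c, hc⟩ := halg u hu
  have hval : P.1 u = WithZero.exp (-1 : ℤ) := by rw [← htw, map_mul, ht, hw1, mul_one]
  rcases eq_or_ne c 0 with rfl | hc0
  · rw [map_zero, sub_zero, hval, WithZero.exp_le_exp] at hc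
    omega
  · have h1 : P.1 (algebraMap k K c) ≤ WithZero.exp (-1 : ℤ) := by
      rw [show algebraMap k K c = u - (u - algebraMap k K c) by ring]
      exact Valuation.map_sub_le _ hval.le (hc.trans (WithZero.exp_le_exp.2 (by norm_num)))
    rw [Groth.Agent.FF.val_const P hc0, ← WithZero.exp_zero, WithZero.exp_le_exp] at h1
    omega

end Groth.Agent.S12617
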