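import Groth.Statements.S12627
import Groth.Agent.GrpScheme.EtaleEndo
import Groth.Agent.AbVarLib.Basics
import Groth.Agent.AbVarLib.Pointed
import Groth.Agent.CurveDVR.Stalk
import Mathlib.AlgebraicGeometry.ZariskisMainTheorem
import Mathlib.RingTheory.Flat.TorsionFree
import Mathlib.RingTheory.Unramified.LocalStructure

set_option autoImplicit false
universe u
open CategoryTheory CategoryTheory.Limits MonoidalCategory CartesianMonoidalCategory MonObj GrpObj AlgebraicGeometry
open AbVar

namespace Groth.Agent.S12627

open IsLocalRing Groth.Agent.GrpScheme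

section Hom

variable {K : Type u} [Field K] {G H : Over (Spec (CommRingCat.of K))} [GrpObj G] [GrpObj H]
  (f : G ⟶ H) (hf : f.left (Cartier.unitPt G) = Cartier.unitPt H)

noncomputable def homHom : Cartier.stalkUnit H ⟶ Cartier.stalkUnit G :=
  H.left.presheaf.stalkSpecializes (specializes_of_eq hf) ≫ f.left.stalkMap (Cartier.unitPt G)

lemma spec_homHom : Spec.map (homHom f hf) ≫ H.left.fromSpecStalk (Cartier.unitPt H) =
    G.left.fromSpecStalk (Cartier.unitPt G) ≫ f.left := by
  rw [homHom, Spec.map_comp_assoc, Scheme.SpecMap_stalkSpecializes_fromSpecStalk,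
    Scheme.SpecMap_stalkMap_fromSpecStalk]

noncomputable def homAlg : Cartier.stalkUnit H →ₐ[K] Cartier.stalkUnit G :=
  { (homHom f hf).hom with
    commutes' := fun r => by
      have : Cartier.structHom H ≫ homHom f hf = Cartier.structHom G := by
        apply Spec.map_injective
        rw [Spec.map_comp, Cartier.structHom, Cartier.structHom, Spec.map_preimage, ← Category.assoc,
          spec_homHom, Category.assoc, Over.w f, Spec.map_preimage]
      exact congr($(this).hom r) }

lemma pt_comp_hom {B : Type u} [CommRing B] [Algebra K B] (φ : Cartier.stalkUnit G →ₐ[K] B) :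
    Tangent.pt G φ ≫ f = Tangent.pt H (φ.comp (homAlg f hf)) := by
  ext1
  change (Spec.map (CommRingCat.ofHom φ.toRingHom) ≫ G.left.fromSpecStalk (Cartier.unitPt G)) ≫ f.left =
    Spec.map (homHom f hf ≫ CommRingCat.ofHom φ.toRingHom) ≫ H.left.fromSpecStalk (Cartier.unitPt H)
  exact (Category.assoc _ _ _).trans ((congrArg (Spec.map (CommRingCat.ofHom φ.toRingHom) ≫ ·)
    (spec_homHom f hf).symm).trans (Spec.map_comp_assoc _ _ _).symm)

lemma bijective_specializes :
    Function.Bijective (H.left.presheaf.stalkSpecializes (specializes_of_eq hf)).hom :=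
  (H.left.presheaf.stalkCongr (.of_eq hf.symm)).commRingCatIsoToRingEquiv.bijective

lemma isLocalHom_homAlg : IsLocalHom (homAlg f hf).toRingHom := by
  have : IsIso (H.left.presheaf.stalkSpecializes (specializes_of_eq hf)) :=
    (H.left.presheaf.stalkCongr (.of_eq hf.symm)).isIso_hom
  have : IsLocalHom (homHom f hf).hom := by
    rw [homHom, CommRingCat.hom_comp]
    infer_instance
  exact this

include hf in
lemma homAlg_mem {a : Cartier.stalkUnit H} (ha : a ∈ maximalIdeal (Cartier.stalkUnit H)) :
    homAlg f hf a ∈ maximalIdeal (Cartier.stalkUnit G) := by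
  have := isLocalHom_homAlg f hf
  exact fun hu => ha ((isUnit_map_iff (homAlg f hf).toRingHom a).1 hu)

lemma unit_of_hom [IsMonHom f] : f.left (Cartier.unitPt G) = Cartier.unitPt H :=
  (Scheme.Hom.comp_apply η[G].left f.left (closedPoint K)).symm.trans
    (congrArg (fun m : 𝟙_ _ ⟶ H => m.left (closedPoint K)) (IsMonHom.one_hom f))

theorem map_max_of_formallyUnramified [LocallyOfFiniteType f.left] [FormallyUnramified f.left] :
    (maximalIdeal (Cartier.stalkUnit H)).map (homAlg f hf).toRingHom = maximalIdeal (Cartier.stalkUnit G) := by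
  let x := Cartier.unitPt G
  have h1 : (maximalIdeal (H.left.presheaf.stalk (f.left x))).map (f.left.stalkMap x).hom =
      maximalIdeal (G.left.presheaf.stalk x) := by
    algebraize [(f.left.stalkMap x).hom]
    have : IsLocalHom (algebraMap (H.left.presheaf.stalk (f.left x)) (G.left.presheaf.stalk x)) :=
      inferInstanceAs <| IsLocalHom (f.left.stalkMap x).hom
    have : Algebra.EssFiniteType (H.left.presheaf.stalk (f.left x)) (G.left.presheaf.stalk x) := by
      rw [← RingHom.essFiniteType_algebraMap, RingHom.algebraMap_toAlgebra]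
      exact LocallyOfFiniteType.stalkMap f.left x
    have : Algebra.FormallyUnramified (H.left.presheaf.stalk (f.left x)) (G.left.presheaf.stalk x) := by
      rw [← RingHom.formallyUnramified_algebraMap, RingHom.algebraMap_toAlgebra]
      exact FormallyUnramified.stalkMap f.left x
    exact Algebra.FormallyUnramified.map_maximalIdeal
  let e := (H.left.presheaf.stalkCongr (.of_eq hf.symm)).commRingCatIsoToRingEquiv
  have h2 : (maximalIdeal (Cartier.stalkUnit H)).map e.toRingHom =
      maximalIdeal (H.left.presheaf.stalk (f.left x)) := by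
    refine le_antisymm (Ideal.map_le_iff_le_comap.mpr fun a ha hu => ?_) fun a ha => ?_
    · exact ha ((isUnit_map_iff e a).mp hu)
    · rw [← e.apply_symm_apply a]
      exact Ideal.mem_map_of_mem e.toRingHom fun hu => ha (e.apply_symm_apply a ▸ hu.map e)
  rw [show (homAlg f hf).toRingHom = (f.left.stalkMap x).hom.comp e.toRingHom from rfl,
    ← Ideal.map_map, h2, h1]

/-- A homomorphism of one-dimensional smooth groups is étale when it generates the maximal ideal
at the unit. -/
theorem etale_of_map_max [IsMonHom f] [IsProper G.hom] [IsProper H.hom]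
    [IsDomain (Cartier.stalkUnit H)] [IsDiscreteValuationRing (Cartier.stalkUnit H)]
    [IsDomain (Cartier.stalkUnit G)] [IsDiscreteValuationRing (Cartier.stalkUnit G)]
    (hmap : (maximalIdeal (Cartier.stalkUnit H)).map (homAlg f hf).toRingHom =
      maximalIdeal (Cartier.stalkUnit G)) : Etale f.left := by
  have hinj : Function.Injective (homAlg f hf).toRingHom := by
    rw [RingHom.injective_iff_ker_eq_bot]
    by_contra hne
    haveI := RingHom.ker_isPrime (homAlg f hf).toRingHom
    have hmax := IsLocalRing.eq_maximalIdeal (Ideal.IsPrime.isMaximal inferInstance hne)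
    refine IsDiscreteValuationRing.not_a_field (Cartier.stalkUnit G) ?_
    rw [← hmap, ← hmax]
    exact (Ideal.map_eq_bot_iff_le_ker _).2 le_rfl
  have hflat : (homHom f hf).hom.Flat := by
    letI : Algebra (Cartier.stalkUnit H) (Cartier.stalkUnit G) := (homHom f hf).hom.toAlgebra
    haveI : Module.IsTorsionFree (Cartier.stalkUnit H) (Cartier.stalkUnit G) :=
      Module.isTorsionFree_iff_algebraMap_injective.2 hinj
    show Module.Flat (Cartier.stalkUnit H) (Cartier.stalkUnit G)
    exact Module.Flat.flat_iff_torsion_eq_bot_of_isBezout.2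
      (Submodule.isTorsionFree_iff_torsion_eq_bot.1 inferInstance)
  have : Flat f.left := by
    refine HomFlat.flat_of_flat_stalkMap f (z := Cartier.unitPt G) ?_
    rw [homHom, CommRingCat.hom_comp] at hflat
    exact (RingHom.Flat.comp_iff_of_bijective_right (bijective_specializes f hf)).mp hflat
  have : LocallyOfFinitePresentation f.left := GrpdLib.GrpOver.lfp_left f
  have hw : f.left ≫ H.hom = G.hom := Over.w f
  have : QuasiCompact (f.left ≫ H.hom) := by rw [hw]; infer_instance
  have : QuasiCompact f.left := QuasiCompact.of_comp f.left H.hom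
  have : IsSeparated (f.left ≫ H.hom) := by rw [hw]; infer_instance
  let N := pullback f η[H]
  let i : N ⟶ G := pullback.fst f η[H]
  have hk : AlgGrp.IsKernel i f := by
    have := IsPullback.of_hasPullback f η[H]
    rw [show pullback.snd f η[H] = toUnit _ from toUnit_unique _ _] at this
    exact this
  let u : 𝟙_ (Over (Spec (CommRingCat.of K))) ⟶ N :=
    hk.lift η[G] (toUnit _) (by rw [IsMonHom.one_hom f, toUnit_unique (toUnit _) (𝟙 _), Category.id_comp])
  have hu : u ≫ i = η[G] := hk.lift_fst _ _ _
  have hsqN := GrpdLib.GrpOver.isPullback_left hk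
  have hNhom : N.hom = (toUnit N).left := (Over.w (toUnit N)).symm.trans (Category.comp_id _)
  have : LocallyOfFiniteType N.hom :=
    hNhom ▸ MorphismProperty.of_isPullback (P := @LocallyOfFiniteType) hsqN inferInstance
  have : QuasiCompact N.hom :=
    hNhom ▸ MorphismProperty.of_isPullback (P := @QuasiCompact) hsqN inferInstance
  have : CompactSpace N.left := QuasiCompact.compactSpace_of_compactSpace N.hom
  have hcl : IsClosedImmersion η[H].left := by
    have : IsClosedImmersion (η[H].left ≫ H.hom) := by
      rw [Over.w η[H]]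
      exact inferInstanceAs (IsClosedImmersion (𝟙 (Spec (CommRingCat.of K))))
    exact IsClosedImmersion.of_comp η[H].left H.hom
  have : IsClosedImmersion i.left :=
    MorphismProperty.of_isPullback (P := @IsClosedImmersion) hsqN.flip hcl
  let e := u.left (closedPoint K)
  have he : i.left e = Cartier.unitPt G :=
    (Scheme.Hom.comp_apply u.left i.left (closedPoint K)).symm.trans
      (congrArg (fun m : 𝟙_ _ ⟶ G => m.left (closedPoint K)) hu)
  let ρ : Cartier.stalkUnit G ⟶ N.left.presheaf.stalk e :=
    G.left.presheaf.stalkSpecializes (specializes_of_eq he) ≫ i.left.stalkMap e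
  have hρs : Function.Surjective ρ.hom :=
    (i.left.stalkMap_surjective e).comp
      (G.left.presheaf.stalkCongr (.of_eq he.symm)).commRingCatIsoToRingEquiv.surjective
  have hρ : Spec.map ρ ≫ G.left.fromSpecStalk (Cartier.unitPt G) =
      N.left.fromSpecStalk e ≫ i.left := by
    rw [Spec.map_comp_assoc, Scheme.SpecMap_stalkSpecializes_fromSpecStalk,
      Scheme.SpecMap_stalkMap_fromSpecStalk]
  have hcomp : homHom f hf ≫ ρ =
      Cartier.augHom H ≫ Spec.preimage (N.left.fromSpecStalk e ≫ N.hom) := by
    apply Spec.map_injective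
    rw [← cancel_mono (H.left.fromSpecStalk (Cartier.unitPt H))]
    have w := congrArg CommaMorphism.left hk.w
    simp only [Over.comp_left] at w
    rw [Spec.map_comp_assoc, spec_homHom, ← Category.assoc, hρ, Category.assoc, w,
      Spec.map_comp_assoc, Cartier.spec_augHom, Spec.map_preimage, Category.assoc, hNhom]
  have hzero : ∀ a ∈ maximalIdeal (Cartier.stalkUnit G), ρ.hom a = 0 := by
    intro a ha
    rw [← hmap] at ha
    refine (Ideal.map_le_iff_le_comap (K := RingHom.ker ρ.hom)).mpr (fun c hc => ?_) ha
    rw [Ideal.mem_comap, RingHom.mem_ker]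
    refine (congr($(hcomp).hom c)).trans ?_
    show (Spec.preimage (N.left.fromSpecStalk e ≫ N.hom)).hom (Cartier.aug H c) = 0
    rw [(Cartier.mem_maximalIdeal_iff H c).mp hc, map_zero]
  have hfield : IsField (N.left.presheaf.stalk e) := by
    refine IsLocalRing.isField_iff_maximalIdeal_eq.mpr ((Submodule.eq_bot_iff _).mpr fun x hx => ?_)
    obtain ⟨a, rfl⟩ := hρs x
    refine hzero a ?_
    rw [mem_maximalIdeal, mem_nonunits_iff] at hx ⊢
    exact fun hu => hx (hu.map ρ.hom)
  have : IsSeparated N.hom :=
    hNhom ▸ MorphismProperty.of_isPullback (P := @IsSeparated) hsqN (IsSeparated.of_comp f.left H.hom)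
  have := EtaleEndo.isOpenImmersion_of_isField N u hfield
  have := EtaleEndo.formallyUnramified_of_kernel G hk u hu
  exact Etale.of_formallyUnramified_of_flat f.left

end Hom

theorem locallyQuasiFinite_of_etale {X Y : Scheme.{u}} (g : X ⟶ Y) [Etale g] : LocallyQuasiFinite g := by
  rw [HasRingHomProperty.iff_appLE (P := @LocallyQuasiFinite)]
  intro V U e
  have h : (g.appLE V.1 U.1 e).hom.Etale := HasRingHomProperty.appLE @Etale g ‹_› V U e
  algebraize [(g.appLE V.1 U.1 e).hom]
  exact RingHom.quasiFinite_algebraMap.mpr (inferInstance : Algebra.QuasiFinite Γ(Y, V) Γ(X, U))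


/-- Let `k` be an algebraically closed field and `E₁`, `E₂` elliptic curves over `k`, i.e. group schemes
over `Spec k` whose underlying schemes are proper, smooth, integral and one-dimensional. If `φ, φ' :
E₁ → E₂` are homomorphisms with `φ` finite, surjective and étale (a separable isogeny) and `φ'` not
étale (the zero homomorphism or an inseparable isogeny), then their sum under the group law of `E₂`
— the composite of `(φ, φ')` with the multiplication of `E₂` — is finite, surjective and étale, i.e.
again a separable isogeny. (The published statement is for arbitrary morphisms `φ, φ'` and takes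
`φ'` inseparable; this row takes homomorphisms, the case its proof treats — a morphism of elliptic
curves is a homomorphism followed by a translation, which changes neither the hypotheses nor the
conclusion — and allows `φ'` to be the zero map, that case being immediate.) -/
theorem result (k : Type u) [Field k] [IsAlgClosed k]
    (E₁ E₂ : Over (Spec (CommRingCat.of k)))
    [GrpObj E₁] [IsProper E₁.hom] [Smooth E₁.hom] [IsIntegral E₁.left] (hE₁ : topologicalKrullDim E₁.left = 1)
    [GrpObj E₂] [IsProper E₂.hom] [Smooth E₂.hom] [IsIntegral E₂.left] (hE₂ : topologicalKrullDim E₂.left = 1)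
    (φ φ' : E₁ ⟶ E₂) [IsMonHom φ] [IsMonHom φ'] [IsFinite φ.left] [Surjective φ.left] [Etale φ.left]
    (hφ' : ¬ Etale φ'.left) :
    IsFinite (φ * φ').left ∧ Surjective (φ * φ').left ∧ Etale (φ * φ').left := by
  have hd : ∀ (E : Over (Spec (CommRingCat.of k))) [GrpObj E] [IsProper E.hom] [Smooth E.hom]
      [IsIntegral E.left], topologicalKrullDim E.left = 1 →
      IsDiscreteValuationRing (Cartier.stalkUnit E) := by
    intro E _ _ _ _ hE
    refine CurveDVR.isDiscreteValuationRing_stalk E.hom hE ?_
    exact (pointEquivClosedPoint E.hom ⟨η[E].left, Over.w η[E]⟩).2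
  haveI := hd E₁ hE₁
  haveI := hd E₂ hE₂
  haveI := GrpScheme.Component.geometricallyIrreducible_of_irreducibleSpace E₁
  haveI := AbVarLib.Basics.geometricallyReduced_of_smooth E₁.hom
  haveI : GeometricallyIntegral E₁.hom :=
    GeometricallyIntegral.of_geometricallyReduced_of_geometricallyIrreducible _
  haveI : IsMonHom (φ * φ') := AbVarLib.Pointed.isMonHom _ (by
    rw [MonObj.comp_mul, IsMonHom.one_hom, IsMonHom.one_hom]
    have : η[E₂] = (1 : 𝟙_ _ ⟶ E₂) := by rw [Hom.one_def, toUnit_unique (toUnit _) (𝟙 _)]; simp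
    rw [this, _root_.one_mul])
  let ψ := φ * φ'
  have hu1 := unit_of_hom φ
  have hu2 := unit_of_hom φ'
  have hu3 := unit_of_hom ψ
  set m := maximalIdeal (Cartier.stalkUnit E₁) with hm
  have hgen : ∀ (g : E₁ ⟶ E₂) (hg : g.left (Cartier.unitPt E₁) = Cartier.unitPt E₂) (a : Cartier.stalkUnit E₂),
      a ∈ maximalIdeal (Cartier.stalkUnit E₂) → homAlg g hg a ∉ m ^ 2 →
      (maximalIdeal (Cartier.stalkUnit E₂)).map (homAlg g hg).toRingHom = m := by
    intro g hg a ha ha2
    refine le_antisymm (Ideal.map_le_iff_le_comap.2 fun b hb => homAlg_mem g hg hb) ?_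
    obtain ⟨t, ht⟩ := IsDiscreteValuationRing.exists_irreducible (Cartier.stalkUnit E₁)
    have hmt : m = Ideal.span {t} := ht.maximalIdeal_eq
    have hmem := homAlg_mem g hg ha
    rw [← hm, hmt, Ideal.mem_span_singleton] at hmem
    obtain ⟨w, hw⟩ := hmem
    have hwu : IsUnit w := by
      by_contra hwu
      refine ha2 ?_
      rw [hw, pow_two]
      exact Ideal.mul_mem_mul (hmt ▸ Ideal.mem_span_singleton_self t) hwu
    rw [hmt, Ideal.span_singleton_le_iff_mem]
    have h := Ideal.mem_map_of_mem (homAlg g hg).toRingHom ha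
    rw [show (homAlg g hg).toRingHom a = t * w from hw] at h
    obtain ⟨v, hv⟩ := hwu
    rw [show t = t * w * ↑v⁻¹ by rw [← hv, Units.mul_inv_cancel_right]]
    exact Ideal.mul_mem_right _ _ h
  have h2' : ∀ a ∈ maximalIdeal (Cartier.stalkUnit E₂), homAlg φ' hu2 a ∈ m ^ 2 := by
    intro a ha
    by_contra h
    exact hφ' (etale_of_map_max φ' hu2 (hgen φ' hu2 a ha h))
  have : LocallyOfFiniteType φ.left := inferInstance
  have h1 := map_max_of_formallyUnramified φ hu1
  obtain ⟨a, ha, ha2⟩ : ∃ a ∈ maximalIdeal (Cartier.stalkUnit E₂), homAlg φ hu1 a ∉ m ^ 2 := by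
    by_contra! hno
    have hle : (maximalIdeal (Cartier.stalkUnit E₂)).map (homAlg φ hu1).toRingHom ≤ m ^ 2 :=
      Ideal.map_le_iff_le_comap.2 hno
    rw [h1] at hle
    refine IsDiscreteValuationRing.not_a_field (Cartier.stalkUnit E₁) ?_
    refine Submodule.eq_bot_of_le_smul_of_le_jacobson_bot m _ (IsNoetherian.noetherian _) ?_
      (IsLocalRing.maximalIdeal_le_jacobson _)
    rw [smul_eq_mul, ← pow_two]
    exact hle
  have hsum : homAlg ψ hu3 a - (homAlg φ hu1 a + homAlg φ' hu2 a) ∈ m ^ 2 := by
    refine Tangent.mem_sq E₁ (m.sub_mem (homAlg_mem ψ hu3 ha)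
      (m.add_mem (homAlg_mem φ hu1 ha) (homAlg_mem φ' hu2 ha))) fun χ => ?_
    obtain ⟨ω, hω, hωs⟩ := Tangent.pt_mul E₂ (χ.comp (homAlg φ hu1)) (χ.comp (homAlg φ' hu2))
    have e : Tangent.pt E₁ χ ≫ ψ = Tangent.pt E₂ ω := by
      rw [MonObj.comp_mul, pt_comp_hom φ hu1, pt_comp_hom φ' hu2, hω]
    rw [pt_comp_hom ψ hu3] at e
    have e2 := congrArg (fun q : Cartier.stalkUnit E₂ →ₐ[k] Tangent.D₁ k => (q a).snd)
      (Tangent.pt_injective E₂ e)
    simp only [AlgHom.coe_comp, Function.comp_apply, hωs] at e2
    rw [map_sub, map_add, TrivSqZeroExt.snd_sub, TrivSqZeroExt.snd_add, e2, sub_self]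
  have hψa : homAlg ψ hu3 a ∉ m ^ 2 := fun h => ha2 (by
    have e : homAlg φ hu1 a = homAlg ψ hu3 a - (homAlg ψ hu3 a - (homAlg φ hu1 a + homAlg φ' hu2 a)) -
        homAlg φ' hu2 a := by ring
    rw [e]
    exact (m ^ 2).sub_mem ((m ^ 2).sub_mem h hsum) (h2' a ha))
  have hψ : Etale ψ.left := etale_of_map_max ψ hu3 (hgen ψ hu3 a ha hψa)
  have : IsProper ψ.left := by
    have : IsProper (ψ.left ≫ E₂.hom) := by rw [Over.w ψ]; infer_instance
    exact MorphismProperty.of_postcomp (W := @IsProper) ψ.left E₂.hom (inferInstance : IsSeparated E₂.hom) this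
  have := locallyQuasiFinite_of_etale ψ.left
  refine ⟨IsFinite.of_isProper_of_locallyQuasiFinite ψ.left, ⟨?_⟩, hψ⟩
  have hop : IsOpenMap ψ.left := ψ.left.isOpenMap
  refine Set.range_eq_univ.1 (IsClopen.eq_univ ⟨ψ.left.isClosedMap.isClosed_range, hop.isOpen_range⟩ ?_)
  exact ⟨_, Cartier.unitPt E₁, rfl⟩

end Groth.Agent.S12627
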