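import Groth.Statements.S1265
import Groth.Agent.LocFlat.Artinian
import Mathlib.RingTheory.IsTensorProduct

set_option autoImplicit false
universe u
open FlatMor

namespace Groth.Agent.S1265

open TensorProduct

/-- Ring form, stated for X = Spec B affine: let A be an Artinian ring, B an A-algebra and N a B-module.
Then there is an ideal I of A such that for every A-algebra A', with B' = B ⊗_A A' and N' the base
change of N (any models), N' is flat over A' if and only if IA' = 0. -/
theorem result {A B : Type u} [CommRing A] [IsArtinianRing A] [CommRing B] [Algebra A B]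
    (N : Type u) [AddCommGroup N] [Module B N] [Module A N] [IsScalarTower A B N] :
    ∃ I : Ideal A, ∀ (A' B' N' : Type u) [CommRing A'] [CommRing B'] [Algebra A A'] [Algebra B B'] [Algebra A' B'] [Algebra A B']
      [IsScalarTower A B B'] [IsScalarTower A A' B'] [Algebra.IsPushout A B A' B']
      [AddCommGroup N'] [Module B' N'] [Module B N'] [IsScalarTower B B' N'] [Module A' N'] [IsScalarTower A' B' N']
      (f : N →ₗ[B] N'), IsBaseChange B' f →
      (Module.Flat A' N' ↔ I.map (algebraMap A A') = ⊥) := by
  obtain ⟨P, _, _, p, hP, hp, hker⟩ := Groth.Agent.LocFlat.Artinian.exists_cover (R := A) N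
  let I : Ideal A := Ideal.span (Set.range fun q : LinearMap.ker p × (P →ₗ[A] A) => q.2 q.1)
  refine ⟨I, fun A' B' N' _ _ _ _ _ _ _ _ _ _ _ _ _ _ _ f hf => ?_⟩
  have := Algebra.IsPushout.symm ‹Algebra.IsPushout A B A' B'›
  let e : A' ⊗[A] N ≃ₗ[A'] N' :=
    (Algebra.IsPushout.cancelBaseChange A A' B B' N).symm.trans (hf.equiv.restrictScalars A')
  have hbij : Module.Flat A' N' ↔ Function.Bijective (p.baseChange A') := by
    constructor
    · intro hN'
      have : Module.Flat A' (A' ⊗[A] N) := Module.Flat.of_linearEquiv e
      exact Groth.Agent.LocFlat.Artinian.baseChange_bijective_of_flat (S := A') p hp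
        (Ideal.jacobson (⊥ : Ideal A)) IsArtinianRing.isNilpotent_jacobson_bot hker
    · intro hb
      exact Module.Flat.of_linearEquiv ((LinearEquiv.ofBijective (p.baseChange A') hb).trans e).symm
  rw [hbij]
  have hex : Function.Exact ((LinearMap.ker p).subtype.baseChange A') (p.baseChange A') :=
    lTensor_exact A' (LinearMap.exact_subtype_ker_map _) hp
  constructor
  · intro hb
    rw [eq_bot_iff, Ideal.map_le_iff_le_comap, Ideal.span_le]
    rintro _ ⟨⟨k, φ⟩, rfl⟩
    have h0 : (1 : A') ⊗ₜ[A] (k : P) = 0 := hb.1 (by simp [LinearMap.mem_ker.mp k.2])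
    have := congrArg ((TensorProduct.rid A A').toLinearMap ∘ₗ φ.lTensor A') h0
    simpa [Algebra.smul_def] using this
  · intro hI
    refine ⟨?_, LinearMap.lTensor_surjective A' hp⟩
    rw [injective_iff_map_eq_zero]
    intro x hx
    obtain ⟨y, rfl⟩ := (hex x).mp hx
    clear hx
    induction y with
    | zero => simp
    | add a b ha hb => rw [map_add, ha, hb, add_zero]
    | tmul b k =>
      obtain ⟨s, hs⟩ := Module.Projective.out (R := A) (P := P)
      rw [LinearMap.baseChange_tmul, Submodule.subtype_apply, ← hs (k : P),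
        Finsupp.linearCombination_apply, Finsupp.sum, TensorProduct.tmul_sum]
      refine Finset.sum_eq_zero fun m _ => ?_
      have hc : algebraMap A A' (s k m) = 0 := by
        rw [← Ideal.mem_bot, ← hI]
        exact Ideal.mem_map_of_mem _ (Ideal.subset_span ⟨⟨k, Finsupp.lapply m ∘ₗ s⟩, rfl⟩)
      rw [TensorProduct.tmul_smul, ← IsScalarTower.algebraMap_smul A' (s k m), hc, zero_smul]

end Groth.Agent.S1265
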