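import Groth.Statements.S12663
import Groth.Agent.CycLib.ChowOp.Ops

set_option autoImplicit false
universe u
open CategoryTheory CategoryTheory.Limits AlgebraicGeometry
open Cyc

namespace Groth.Agent.S12663

/-- If E, F are finite locally free of ranks m + 1, m on X sitting in a short exact sequence 0 → O_X → E
→ F → 0, then c_{m+1}(E) = 0 and c_j(E) = c_j(F) for j = 0, …, m, as cap operations: for every
k-cycle α, c_{m+1}(E) ∩ α ∼_rat 0 and c_j(E) ∩ α ∼_rat c_j(F) ∩ α. Setting: (X, δ) with Cyc.IsSetup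
stands for a scheme locally of finite type over the base (S, δ) (X locally Noetherian with
universally catenary local rings, δ a dimension function); (p : P → X, O_P(1), q) is the projective
bundle of E given by its universal property (KRR.IsProjBundle), p is proper and δP is the induced
dimension function (Cyc.DeltaCompat); a tuple γ with Cyc.IsChernCap represents (c_0(E) ∩ α, …,
c_r(E) ∩ α) through the defining relation Σ_i (-1)^i c_1(O_P(1))^i ∩ p^*(γ_{r-i}) ∼_rat 0 on P, and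
classes are compared up to rational equivalence of representing cycles. -/
theorem result (X : Scheme.{u}) (δ : X → ℤ) (hX : Cyc.IsSetup X δ) (m : ℕ) (E : X.Modules) (hPE : FlatMod.IsFinLocFreeOfRank (m + 1) E) (P : Scheme.{u}) (p : P ⟶ X) (O1 : P.Modules) (q : (Scheme.Modules.pullback p).obj E ⟶ O1) (hP : KRR.IsProjBundle p E O1 q) [IsProper p] (δP : P → ℤ) (hPs : Cyc.IsSetup P δP) (hδ : Cyc.DeltaCompat p δP δ) (F : X.Modules) (hQE : FlatMod.IsFinLocFreeOfRank m F) (Q : Scheme.{u}) (p' : Q ⟶ X) (O1' : Q.Modules) (q' : (Scheme.Modules.pullback p').obj F ⟶ O1') (hQ : KRR.IsProjBundle p' F O1' q') [IsProper p'] (δQ : Q → ℤ) (hQs : Cyc.IsSetup Q δQ) (hδ' : Cyc.DeltaCompat p' δQ δ) (a : Coh.structureModule X ⟶ E) (b : E ⟶ F) (hab : a ≫ b = 0) (hex : (ShortComplex.mk a b hab).ShortExact) (k : ℤ) (α : AlgebraicCycle X ℤ) (hα : α ∈ Cyc.Zk X δ k) (γ : Fin (m + 2) → AlgebraicCycle X ℤ) (hγ : Cyc.IsChernCap p δ δP O1 (m + 1) k α γ) (γ' : Fin (m + 1) → AlgebraicCycle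 X ℤ) (hγ' : Cyc.IsChernCap p' δ δQ O1' m k α γ') : Cyc.RatEquivZero δ (k - ((m : ℤ) + 1)) (γ (Fin.last (m + 1))) ∧ ∀ j : Fin (m + 1), Cyc.RatEquiv δ (k - ((j : ℕ) : ℤ)) (γ (Fin.castSucc j)) (γ' j) := by
  haveI := hX.1
  obtain ⟨S, l, hl, hfF⟩ := CycLib.ChowOp.exists_split_one (hX := hX) hQE
  have hO := LFFrame.isInvertible_structureModule S.Y
  have hfE : S.Fil hX E (l ++ [Coh.structureModule S.Y]) :=
    CycLib.ChowOp.Filt.extension_pullback S.f a b hab hex (CycLib.ChowOp.isFinLocFree_of_rank hQE)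
      ((CycLib.ChowOp.Filt.single hO).of_iso (QCoh.pullbackUnitIso S.f)) hfF
  have hlen : (l ++ [Coh.structureModule S.Y]).length = m + 1 := by simp [hl]
  have key : ∀ n, CycLib.ChowOp.esym S.hY.2.2 (l ++ [Coh.structureModule S.Y]) (n + 1) =
      CycLib.ChowOp.esym S.hY.2.2 l (n + 1) := fun n => by
    rw [CycLib.ChowOp.esym_append_single, CycLib.ChowOp.c1of_structureModule, zero_mul, add_zero]
  refine ⟨?_, fun j => ?_⟩
  · have hm : γ (Fin.last (m + 1)) ∈ Cyc.Zk X δ (k - ((m : ℤ) + 1)) := by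
      simpa using hγ.2.1 (Fin.last (m + 1))
    have h0 : (0 : AlgebraicCycle X ℤ) ∈ Cyc.Zk X δ (k - ((m : ℤ) + 1)) := fun x _ => rfl
    have h := S.ratEquiv hm h0 (by
      have h1 := S.chern hPE hP hPs hδ hlen hfE hα hγ (Fin.last (m + 1))
      simp only [Fin.val_last, Nat.cast_add, Nat.cast_one] at h1
      rw [h1, key, CycLib.ChowOp.esym_eq_zero _ (by omega)]
      show (0 : CycLib.ChowOp.Tot S.hY.2.2) = S.pl hX (CycLib.ChowOp.cls hX.2.2 _ 0)
      rw [CycLib.ChowOp.cls_zero, map_zero])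
    rwa [Cyc.RatEquiv, sub_zero] at h
  · refine S.ratEquiv (by simpa using hγ.2.1 j.castSucc) (hγ'.2.1 j) ?_
    have h1 := S.chern hPE hP hPs hδ hlen hfE hα hγ j.castSucc
    simp only [Fin.val_castSucc] at h1
    rw [h1, S.chern hQE hQ hQs hδ' hl hfF hα hγ' j]
    congr 2
    rcases Nat.eq_zero_or_pos (j : ℕ) with h | h
    · rw [h, CycLib.ChowOp.esym_zero, CycLib.ChowOp.esym_zero]
    · obtain ⟨n, hn⟩ := Nat.exists_eq_add_of_le' h
      rw [hn, key]

end Groth.Agent.S12663
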