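import Groth.Statements.S12664
import Groth.Agent.CycLib.ChowOp.Ops

set_option autoImplicit false
universe u
open CategoryTheory CategoryTheory.Limits AlgebraicGeometry
open Cyc

namespace Groth.Agent.S12664

/-- If 0 → L → E → F → 0 is a short exact sequence on X with L invertible and E, F finite locally free
of ranks m + 1, m, then c(E) = c(L) c(F), that is c_i(E) = c_i(F) + c_1(L) c_{i-1}(F) for i = 1, …,
m and c_{m+1}(E) = c_1(L) c_m(F), as cap operations on every k-cycle α, with c_1(L) ∩ - computed on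
coefficient functions from any nonzero rational sections (Cyc.c1CapFun) applied to the
representatives of c_{i-1}(F) ∩ α. Setting: (X, δ) with Cyc.IsSetup stands for a scheme locally of
finite type over the base (S, δ) (X locally Noetherian with universally catenary local rings, δ a
dimension function); (p : P → X, O_P(1), q) is the projective bundle of E given by its universal
property (KRR.IsProjBundle), p is proper and δP is the induced dimension function (Cyc.DeltaCompat);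
a tuple γ with Cyc.IsChernCap represents (c_0(E) ∩ α, …, c_r(E) ∩ α) through the defining relation
Σ_i (-1)^i c_1(O_P(1))^i ∩ p^*(γ_{r-i}) ∼_rat 0 on P, and classes are compared up to rational
equivalence of representing cycles. -/
theorem result (X : Scheme.{u}) (δ : X → ℤ) (hX : Cyc.IsSetup X δ) (m : ℕ) (E : X.Modules) (hPE : FlatMod.IsFinLocFreeOfRank (m + 1) E) (P : Scheme.{u}) (p : P ⟶ X) (O1 : P.Modules) (q : (Scheme.Modules.pullback p).obj E ⟶ O1) (hP : KRR.IsProjBundle p E O1 q) [IsProper p] (δP : P → ℤ) (hPs : Cyc.IsSetup P δP) (hδ : Cyc.DeltaCompat p δP δ) (F : X.Modules) (hQE : FlatMod.IsFinLocFreeOfRank m F) (Q : Scheme.{u}) (p' : Q ⟶ X) (O1' : Q.Modules) (q' : (Scheme.Modules.pullback p').obj F ⟶ O1') (hQ : KRR.IsProjBundle p' F O1' q') [IsProper p'] (δQ : Q → ℤ) (hQs : Cyc.IsSetup Q δQ) (hδ' : Cyc.DeltaCompat p' δQ δ) (L : X.Modules) (hL : PicF.IsInvertible L) (a : L ⟶ E) (b : E ⟶ F) (hab : a ≫ b = 0) (hex : (ShortComplex.mk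 a b hab).ShortExact) (k : ℤ) (α : AlgebraicCycle X ℤ) (hα : α ∈ Cyc.Zk X δ k) (γ : Fin (m + 2) → AlgebraicCycle X ℤ) (hγ : Cyc.IsChernCap p δ δP O1 (m + 1) k α γ) (γ' : Fin (m + 1) → AlgebraicCycle X ℤ) (hγ' : Cyc.IsChernCap p' δ δQ O1' m k α γ') (t : (ξ : X) → Cyc.secFibre L ξ) (ht : ∀ ξ, t ξ ≠ 0) (ζ : Fin (m + 1) → AlgebraicCycle X ℤ) (hζ : ∀ j, ⇑(ζ j) = Cyc.c1CapFun δ L ⇑(γ' j) t) : (∀ j : Fin m, Cyc.RatEquiv δ (k - ((j : ℕ) : ℤ) - 1) (γ (Fin.succ (Fin.castSucc j))) (γ' (Fin.succ j) + ζ (Fin.castSucc j))) ∧ Cyc.RatEquiv δ (k - (m : ℤ) - 1) (γ (Fin.last (m + 1))) (ζ (Fin.last m)) := by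
  haveI := hX.1
  obtain ⟨S, l, hl, hfF⟩ := CycLib.ChowOp.exists_split_one (hX := hX) hQE
  have hL' := PicCl.isInvertible_pullback S.f hL
  have hfE : S.Fil hX E (l ++ [(Scheme.Modules.pullback S.f).obj L]) :=
    CycLib.ChowOp.Filt.extension_pullback S.f a b hab hex (CycLib.ChowOp.isFinLocFree_of_rank hQE)
      (CycLib.ChowOp.Filt.single hL') hfF
  have hlen : (l ++ [(Scheme.Modules.pullback S.f).obj L]).length = m + 1 := by simp [hl]
  have hζc : ∀ j : Fin (m + 1), CycLib.Dev.IsCyc δ (k - ((j : ℕ) : ℤ) - 1) ⇑(ζ j) := fun j => by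
    rw [hζ j]
    exact CycLib.Dev.isCyc_c1 hX.2.2 hL (by simpa using CycLib.Dev.IsCyc.of_cycle _ (hγ'.2.1 j)) t ht
  have hζz : ∀ j : Fin (m + 1), ζ j ∈ Cyc.Zk X δ (k - ((j : ℕ) : ℤ) - 1) := fun j => (hζc j).zero
  have hζe : ∀ j : Fin (m + 1), S.pl hX (CycLib.ChowOp.cls hX.2.2 (k - ((j : ℕ) : ℤ) - 1) ⇑(ζ j)) =
      (CycLib.ChowOp.c1of S.hY.2.2 ((Scheme.Modules.pullback S.f).obj L) *
        CycLib.ChowOp.esym S.hY.2.2 l j).1 (S.pl hX (CycLib.ChowOp.cls hX.2.2 k ⇑α)) := fun j => by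
    rw [hζ j, ← CycLib.ChowOp.c1of_cls hX.2.2 hL (CycLib.Dev.IsCyc.of_cycle _ (hγ'.2.1 j)) t ht]
    show CycLib.ChowOp.pull S.hY hX S.f S.hs _ = _
    rw [CycLib.ChowOp.pull_c1of S.hY hX S.f S.hs hL]
    show (CycLib.ChowOp.c1of S.hY.2.2 _).1 (S.pl hX _) = _
    rw [S.chern hQE hQ hQs hδ' hl hfF hα hγ' j]
    rfl
  refine ⟨fun j => ?_, ?_⟩
  · have hz' : γ' j.succ ∈ Cyc.Zk X δ (k - ((j : ℕ) : ℤ) - 1) := by simpa [sub_sub] using hγ'.2.1 j.succ
    refine S.ratEquiv (by simpa [sub_sub] using hγ.2.1 j.castSucc.succ)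
      (fun x hx => by
        show γ' j.succ x + ζ j.castSucc x = 0
        rw [hz' x hx, hζz j.castSucc x (by simpa using hx), add_zero]) ?_
    have h1 := S.chern hPE hP hPs hδ hlen hfE hα hγ j.castSucc.succ
    simp only [Fin.val_succ, Fin.val_castSucc, Nat.cast_add, Nat.cast_one, ← sub_sub] at h1
    have h2 := S.chern hQE hQ hQs hδ' hl hfF hα hγ' j.succ
    simp only [Fin.val_succ, Nat.cast_add, Nat.cast_one, ← sub_sub] at h2
    rw [h1, Function.locallyFinsuppWithin.coe_add, CycLib.ChowOp.cls_add _ (CycLib.Dev.IsCyc.of_cycle _ hz')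
      (by simpa using hζc j.castSucc), map_add, h2]
    have h3 := hζe j.castSucc
    simp only [Fin.val_castSucc] at h3
    rw [h3, CycLib.ChowOp.esym_append_single]
    rfl
  · refine S.ratEquiv (by simpa [sub_sub] using hγ.2.1 (Fin.last (m + 1))) (by simpa using hζz (Fin.last m)) ?_
    have h1 := S.chern hPE hP hPs hδ hlen hfE hα hγ (Fin.last (m + 1))
    simp only [Fin.val_last, Nat.cast_add, Nat.cast_one, ← sub_sub] at h1
    have h3 := hζe (Fin.last m)
    simp only [Fin.val_last] at h3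
    rw [h1, h3, CycLib.ChowOp.esym_append_single, CycLib.ChowOp.esym_eq_zero _ (show l.length < m + 1 by omega),
      zero_add]

end Groth.Agent.S12664
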