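import Groth.Statements.S12665
import Groth.Agent.CycLib.ChowOp.Split
-- import your own Groth.Agent.* helpers here

set_option autoImplicit false
universe u
open CategoryTheory CategoryTheory.Limits AlgebraicGeometry
open Cyc

namespace Groth.Agent.S12665

/-- For a short exact sequence 0 → E₁ → E → E₂ → 0 of finite locally free modules of ranks r₁, r₁ + r₂,
r₂ on X, c(E) = c(E₁) c(E₂), that is c_j(E) ∩ α ∼_rat Σ_{a+b=j} c_a(E₁) ∩ (c_b(E₂) ∩ α) for every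
k-cycle α and every j; the inner caps are represented by a tuple for E₂ over α and, for each of its
components, a tuple for E₁ over it. Setting: (X, δ) with Cyc.IsSetup stands for a scheme locally of
finite type over the base (S, δ) (X locally Noetherian with universally catenary local rings, δ a
dimension function); (p : P → X, O_P(1), q) is the projective bundle of E given by its universal
property (KRR.IsProjBundle), p is proper and δP is the induced dimension function (Cyc.DeltaCompat);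
a tuple γ with Cyc.IsChernCap represents (c_0(E) ∩ α, …, c_r(E) ∩ α) through the defining relation
Σ_i (-1)^i c_1(O_P(1))^i ∩ p^*(γ_{r-i}) ∼_rat 0 on P, and classes are compared up to rational
equivalence of representing cycles. -/
theorem result (X : Scheme.{u}) (δ : X → ℤ) (hX : Cyc.IsSetup X δ) (r₁ r₂ : ℕ) (E₁ : X.Modules) (hP₁E : FlatMod.IsFinLocFreeOfRank r₁ E₁) (P₁ : Scheme.{u}) (p₁ : P₁ ⟶ X) (O₁ : P₁.Modules) (q₁ : (Scheme.Modules.pullback p₁).obj E₁ ⟶ O₁) (hP₁ : KRR.IsProjBundle p₁ E₁ O₁ q₁) [IsProper p₁] (δ₁ : P₁ → ℤ) (hP₁s : Cyc.IsSetup P₁ δ₁) (hδ₁ : Cyc.DeltaCompat p₁ δ₁ δ) (E : X.Modules) (hPE : FlatMod.IsFinLocFreeOfRank (r₁ + r₂) E) (P : Scheme.{u}) (p : P ⟶ X) (O1 : P.Modules) (q : (Scheme.Modules.pullback p).obj E ⟶ O1) (hP : KRR.IsProjBundle p E O1 q) [IsProper p] (δP : P → ℤ) (hPs : Cyc.IsSetup P δP) (hδ : Cyc.DeltaCompat p δP δ) (E₂ : X.Modules) (hP₂E : FlatMod.IsFinLocFreeOfRank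 r₂ E₂) (P₂ : Scheme.{u}) (p₂ : P₂ ⟶ X) (O₂ : P₂.Modules) (q₂ : (Scheme.Modules.pullback p₂).obj E₂ ⟶ O₂) (hP₂ : KRR.IsProjBundle p₂ E₂ O₂ q₂) [IsProper p₂] (δ₂ : P₂ → ℤ) (hP₂s : Cyc.IsSetup P₂ δ₂) (hδ₂ : Cyc.DeltaCompat p₂ δ₂ δ) (a : E₁ ⟶ E) (b : E ⟶ E₂) (hab : a ≫ b = 0) (hex : (ShortComplex.mk a b hab).ShortExact) (k : ℤ) (α : AlgebraicCycle X ℤ) (hα : α ∈ Cyc.Zk X δ k) (γ₂ : Fin (r₂ + 1) → AlgebraicCycle X ℤ) (hγ₂ : Cyc.IsChernCap p₂ δ δ₂ O₂ r₂ k α γ₂) (ε : Fin (r₂ + 1) → Fin (r₁ + 1) → AlgebraicCycle X ℤ) (hε : ∀ b : Fin (r₂ + 1), Cyc.IsChernCap p₁ δ δ₁ O₁ r₁ (k - ((b : ℕ) : ℤ)) (γ₂ b) (ε b)) (γ : Fin (r₁ + r₂ + 1) → AlgebraicCycle X ℤ) (hγ : Cyc.IsChernCap p δ δP O1 (r₁ + r₂) k α γ) (j : Fin (r₁ + r₂ + 1)) : Cyc.RatEquiv δ (k - ((j : ℕ) : ℤ)) (γ j) (∑ a : Fin (r₁ + 1), ∑ b : Fin (r₂ + 1), if (a : ℕ) + (b : ℕ) = (j : ℕ) then ε b a else 0) := by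
  classical
  haveI := hX.1
  obtain ⟨S, l₁, l₂, hl₁, hl₂, hf₁, hf₂⟩ := CycLib.ChowOp.exists_split_two (hX := hX) hP₁E hP₂E
  haveI := hex.mono_f
  haveI := hex.epi_g
  haveI : Mono ((Scheme.Modules.pullback S.f).map a) := by
    have e : cokernel a ≅ E₂ := IsColimit.coconePointUniqueUpToIso (cokernelIsCokernel a) hex.gIsCokernel
    exact EpiLocus.mono_pullback_of_isFinLocFree_cokernel a (by
      intro x
      obtain ⟨U, hx, ⟨φ⟩⟩ := hP₂E x
      exact ⟨U, r₂, hx, ⟨(Scheme.Modules.restrictFunctor U.ι).mapIso e ≪≫ φ⟩⟩) S.f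
  haveI : Epi ((Scheme.Modules.pullback S.f).map b) :=
    (Functor.preservesEpimorphisms_of_adjunction (Scheme.Modules.pullbackPushforwardAdjunction S.f)).preserves b
  haveI : PreservesColimitsOfSize.{0, 0} (Scheme.Modules.pullback S.f) :=
    (Scheme.Modules.pullbackPushforwardAdjunction S.f).leftAdjoint_preservesColimits
  have hf : S.Fil hX E (l₂ ++ l₁) := CycLib.ChowOp.Filt.extension hf₁ hf₂ ((Scheme.Modules.pullback S.f).map a)
    ((Scheme.Modules.pullback S.f).map b) (by rw [← Functor.map_comp, hab, Functor.map_zero])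
    { exact := ShortComplex.exact_of_g_is_cokernel _
              (isColimitCoforkMapOfIsColimit' (Scheme.Modules.pullback S.f) hab hex.gIsCokernel) }
  let D : ℤ := k - ((j : ℕ) : ℤ)
  have hterm : ∀ (a : Fin (r₁ + 1)) (b : Fin (r₂ + 1)),
      (if (a : ℕ) + (b : ℕ) = (j : ℕ) then ε b a else 0) ∈ Cyc.Zk X δ D := fun a b => by
    split_ifs with h
    · have := (hε b).2.1 a
      rwa [show k - ((b : ℕ) : ℤ) - ((a : ℕ) : ℤ) = D by simp only [D]; omega] at this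
    · exact fun x _ => rfl
  have hsum : (∑ a : Fin (r₁ + 1), ∑ b : Fin (r₂ + 1), if (a : ℕ) + (b : ℕ) = (j : ℕ) then ε b a else 0) ∈
      Cyc.Zk X δ D := (ChowOps.zk X δ D).sum_mem fun a _ => (ChowOps.zk X δ D).sum_mem fun b _ => hterm a b
  refine S.ratEquiv (hγ.2.1 j) hsum ?_
  rw [S.chern hPE hP hPs hδ (by simp [hl₁, hl₂, add_comm]) hf hα hγ j, CycLib.ChowOp.esym_append,
    CycLib.ChowOp.sum_apply_op]
  simp only [Function.locallyFinsuppWithin.coe_sum]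
  rw [CycLib.ChowOp.cls_sum hX.2.2 _ (fun a _ => (CycLib.ChowOp.cycGrp δ D).sum_mem fun b _ =>
    CycLib.Dev.IsCyc.of_cycle _ (hterm a b)), map_sum]
  let x := S.pl hX (CycLib.ChowOp.cls hX.2.2 k ⇑α)
  let G : ℕ → ℕ → CycLib.ChowOp.Tot S.hY.2.2 := fun m n =>
    ((CycLib.ChowOp.esym S.hY.2.2 l₂ n * CycLib.ChowOp.esym S.hY.2.2 l₁ m : CycLib.ChowOp.opRing S.hY.2.2)).1 x
  have e : ∀ (a : Fin (r₁ + 1)) (b : Fin (r₂ + 1)),
      S.pl hX (CycLib.ChowOp.cls hX.2.2 D ⇑(if (a : ℕ) + (b : ℕ) = (j : ℕ) then ε b a else 0)) =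
        if (a : ℕ) + (b : ℕ) = (j : ℕ) then G a b else 0 := fun a b => by
    split_ifs with h
    · rw [show D = k - ((b : ℕ) : ℤ) - ((a : ℕ) : ℤ) by simp only [D]; omega,
        S.chern hP₁E hP₁ hP₁s hδ₁ hl₁ hf₁ (hγ₂.2.1 b) (hε b) a, S.chern hP₂E hP₂ hP₂s hδ₂ hl₂ hf₂ hα hγ₂ b]
      simp only [G]
      rw [mul_comm]
      rfl
    · rw [show ⇑(0 : AlgebraicCycle X ℤ) = (0 : X → ℤ) from rfl, CycLib.ChowOp.cls_zero, map_zero]
  refine Eq.trans ?_ (Finset.sum_congr rfl fun (a : Fin (r₁ + 1)) _ =>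
    show (∑ b : Fin (r₂ + 1), if (a : ℕ) + (b : ℕ) = (j : ℕ) then G a b else 0) = _ by
      rw [CycLib.ChowOp.cls_sum hX.2.2 _ (fun b _ => CycLib.Dev.IsCyc.of_cycle _ (hterm a b)), map_sum,
        Finset.sum_congr rfl fun b _ => e a b])
  have hvan : ∀ (l : List S.Y.Modules) (n : ℕ), l.length < n → CycLib.ChowOp.esym S.hY.2.2 l n = 0 := fun l n hn => by
    simp only [CycLib.ChowOp.esym, Multiset.esymm]
    rw [Multiset.powersetCard_eq_empty _ (by simpa using hn)]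
    simp
  rw [← Fintype.sum_prod_type' (f := fun (a : Fin (r₁ + 1)) (b : Fin (r₂ + 1)) => if (a : ℕ) + (b : ℕ) = (j : ℕ) then G a b else 0),
    ← Finset.sum_filter]
  symm
  refine Finset.sum_bij_ne_zero (fun p _ _ => ((p.2 : ℕ), (p.1 : ℕ))) (fun p hp _ => ?_) (fun p _ _ q _ _ h => ?_)
    (fun ij hij hne => ?_) (fun p _ _ => rfl)
  · rw [Finset.HasAntidiagonal.mem_antidiagonal]
    have := (Finset.mem_filter.1 hp).2
    omega
  · rw [Prod.mk.injEq] at h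
    exact Prod.ext (Fin.ext h.2) (Fin.ext h.1)
  · rw [Finset.HasAntidiagonal.mem_antidiagonal] at hij
    have h1 : ij.1 ≤ r₂ := by
      by_contra hc
      refine hne ?_
      rw [hvan l₂ ij.1 (by omega), zero_mul]
      rfl
    have h2 : ij.2 ≤ r₁ := by
      by_contra hc
      refine hne ?_
      rw [hvan l₁ ij.2 (by omega), mul_zero]
      rfl
    exact ⟨(⟨ij.2, by omega⟩, ⟨ij.1, by omega⟩), Finset.mem_filter.2 ⟨Finset.mem_univ _, by simp; omega⟩, hne, rfl⟩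

end Groth.Agent.S12665
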