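import Groth.Statements.S12666
import Groth.Agent.CycLib.ChowOp.Tensor

set_option autoImplicit false
universe u
open CategoryTheory CategoryTheory.Limits AlgebraicGeometry
open Cyc

namespace Groth.Agent.S12666

/-- For E finite locally free of rank r and L invertible on X, c_i(E ⊗ L) = Σ_{j=0}^{i} C(r-i+j, j)
c_{i-j}(E) c_1(L)^j for i ≤ r, as cap operations on every k-cycle α: c_i(E ⊗ L) ∩ α ∼_rat Σ_j
C(r-i+j, j) c_1(L)^j ∩ (c_{i-j}(E) ∩ α), where c_1(L)^j ∩ - is the j-fold iterated cap on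
coefficient functions with any nonzero rational sections (Cyc.c1PowFun) and E ⊗ L is the tensor
product of O_X-modules (CohB1.tensorMod). Setting: (X, δ) with Cyc.IsSetup stands for a scheme
locally of finite type over the base (S, δ) (X locally Noetherian with universally catenary local
rings, δ a dimension function); (p : P → X, O_P(1), q) is the projective bundle of E given by its
universal property (KRR.IsProjBundle), p is proper and δP is the induced dimension function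
(Cyc.DeltaCompat); a tuple γ with Cyc.IsChernCap represents (c_0(E) ∩ α, …, c_r(E) ∩ α) through the
defining relation Σ_i (-1)^i c_1(O_P(1))^i ∩ p^*(γ_{r-i}) ∼_rat 0 on P, and classes are compared up
to rational equivalence of representing cycles. -/
theorem result (X : Scheme.{u}) (δ : X → ℤ) (hX : Cyc.IsSetup X δ) (r : ℕ) (E : X.Modules) (hPE : FlatMod.IsFinLocFreeOfRank r E) (P : Scheme.{u}) (p : P ⟶ X) (O1 : P.Modules) (q : (Scheme.Modules.pullback p).obj E ⟶ O1) (hP : KRR.IsProjBundle p E O1 q) [IsProper p] (δP : P → ℤ) (hPs : Cyc.IsSetup P δP) (hδ : Cyc.DeltaCompat p δP δ) (L : X.Modules) (hL : PicF.IsInvertible L) (hP'E : FlatMod.IsFinLocFreeOfRank r (CohB1.tensorMod E L)) (P' : Scheme.{u}) (p' : P' ⟶ X) (O1' : P'.Modules) (q' : (Scheme.Modules.pullback p').obj (CohB1.tensorMod E L) ⟶ O1') (hP' : KRR.IsProjBundle p' (CohB1.tensorMod E L) O1' q') [IsProper p'] (δP' : P' → ℤ) (hPs' : Cyc.IsSetup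 P' δP') (hδ' : Cyc.DeltaCompat p' δP' δ) (k : ℤ) (α : AlgebraicCycle X ℤ) (hα : α ∈ Cyc.Zk X δ k) (γ : Fin (r + 1) → AlgebraicCycle X ℤ) (hγ : Cyc.IsChernCap p δ δP O1 r k α γ) (γ' : Fin (r + 1) → AlgebraicCycle X ℤ) (hγ' : Cyc.IsChernCap p' δ δP' O1' r k α γ') (t : ℕ → (ξ : X) → Cyc.secFibre L ξ) (ht : ∀ m ξ, t m ξ ≠ 0) (i : Fin (r + 1)) (ζ : Fin (r + 1) → AlgebraicCycle X ℤ) (hζ : ∀ j : Fin (r + 1), (j : ℕ) ≤ (i : ℕ) → ⇑(ζ j) = Cyc.c1PowFun δ L t j ⇑(γ ⟨(i : ℕ) - (j : ℕ), Nat.lt_of_le_of_lt (Nat.sub_le _ _) i.isLt⟩)) : Cyc.RatEquiv δ (k - ((i : ℕ) : ℤ)) (γ' i) (∑ j : Fin (r + 1), if (j : ℕ) ≤ (i : ℕ) then ((Nat.choose (r - i + j) j : ℕ) : ℤ) • ζ j else 0) := by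
  classical
  haveI := hX.1
  obtain ⟨S, ls, hl, hfE⟩ := CycLib.ChowOp.exists_split_one (hX := hX) hPE
  have hL' := PicCl.isInvertible_pullback S.f hL
  let L' := (Scheme.Modules.pullback S.f).obj L
  have hfT : S.Fil hX (CohB1.tensorMod E L) (ls.map (CohB1.tensorMod · L')) :=
    (CycLib.ChowOp.Filt.tensor_line hL' hfE).of_iso (CycLib.ChowOp.pullTensor S.f E L)
  have hlen : (ls.map (CohB1.tensorMod · L')).length = r := by simp [hl]
  set x := CycLib.ChowOp.cls hX.2.2 k ⇑α with hx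
  -- the terms on the right
  have hζ' : ∀ j : Fin (r + 1), (j : ℕ) ≤ (i : ℕ) → CycLib.Dev.IsCyc δ (k - ((i : ℕ) : ℤ)) ⇑(ζ j) ∧
      S.pl hX (CycLib.ChowOp.cls hX.2.2 (k - ((i : ℕ) : ℤ)) ⇑(ζ j)) =
        (CycLib.ChowOp.c1of S.hY.2.2 L' ^ (j : ℕ) * CycLib.ChowOp.esym S.hY.2.2 ls ((i : ℕ) - j)).1 (S.pl hX x) := by
    intro j hj
    obtain ⟨hc, he⟩ := CycLib.ChowOp.c1Pow_cls hX.2.2 hL
      (CycLib.Dev.IsCyc.of_cycle _ (hγ.2.1 ⟨(i : ℕ) - (j : ℕ), by omega⟩)) t ht j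
    rw [← hζ j hj] at hc he
    have hidx : k - (((i : ℕ) - (j : ℕ) : ℕ) : ℤ) - ((j : ℕ) : ℤ) = k - ((i : ℕ) : ℤ) := by omega
    rw [hidx] at hc he
    refine ⟨hc, ?_⟩
    rw [← he]
    show CycLib.ChowOp.pull S.hY hX S.f S.hs _ = _
    rw [CycLib.ChowOp.pull_c1of_pow S.hY hX S.f S.hs hL]
    show (CycLib.ChowOp.c1of S.hY.2.2 L' ^ (j : ℕ) : CycLib.ChowOp.opRing S.hY.2.2).1 (S.pl hX _) = _
    rw [S.chern hPE hP hPs hδ hl hfE hα hγ ⟨(i : ℕ) - (j : ℕ), by omega⟩]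
    rfl
  let z : Fin (r + 1) → AlgebraicCycle X ℤ :=
    fun j => if (j : ℕ) ≤ (i : ℕ) then ((Nat.choose (r - i + j) j : ℕ) : ℤ) • ζ j else 0
  have hz : ∀ j, CycLib.Dev.IsCyc δ (k - ((i : ℕ) : ℤ)) ⇑(z j) := fun j => by
    simp only [z]
    split_ifs with h
    · rw [Function.locallyFinsuppWithin.coe_zsmul]
      exact CycLib.ProjBdl.isCyc_zsmul _ (hζ' j h).1
    · exact (CycLib.ChowOp.cycGrp δ _).zero_mem
  have hzsum : CycLib.Dev.IsCyc δ (k - ((i : ℕ) : ℤ)) ⇑(∑ j, z j) := by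
    rw [Function.locallyFinsuppWithin.coe_sum]
    exact (CycLib.ChowOp.cycGrp δ _).sum_mem fun j _ => hz j
  refine S.ratEquiv (hγ'.2.1 i) hzsum.zero ?_
  show _ = S.pl hX (CycLib.ChowOp.cls hX.2.2 _ ⇑(∑ j, z j))
  rw [S.chern hP'E hP' hPs' hδ' hlen hfT hα hγ' i, Function.locallyFinsuppWithin.coe_sum,
    CycLib.ChowOp.cls_sum _ _ (fun j _ => hz j), map_sum,
    CycLib.ChowOp.esym_map_tensor _ hL' (CycLib.ChowOp.Filt.invertible hfE), CycLib.ChowOp.sum_apply_op, hl]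
  rw [← Finset.sum_filter_of_ne (s := Finset.univ) (p := fun j : Fin (r + 1) => (j : ℕ) ≤ (i : ℕ)) (f := fun j =>
    S.pl hX (CycLib.ChowOp.cls hX.2.2 (k - ((i : ℕ) : ℤ)) ⇑(z j))) (fun j _ hne => by
      by_contra h
      refine hne ?_
      simp only [z, if_neg h, Function.locallyFinsuppWithin.coe_zero, CycLib.ChowOp.cls_zero, map_zero])]
  refine Finset.sum_bij' (fun ab hab => (⟨ab.2, by
      rw [Finset.HasAntidiagonal.mem_antidiagonal] at hab; omega⟩ : Fin (r + 1)))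
    (fun j _ => ((i : ℕ) - (j : ℕ), (j : ℕ))) ?_ ?_ ?_ ?_ ?_
  · intro ab hab
    rw [Finset.HasAntidiagonal.mem_antidiagonal] at hab
    exact Finset.mem_filter.2 ⟨Finset.mem_univ _, show ab.2 ≤ (i : ℕ) by omega⟩
  · intro j hj
    rw [Finset.HasAntidiagonal.mem_antidiagonal]
    simp at hj ⊢; omega
  · intro ab hab
    rw [Finset.HasAntidiagonal.mem_antidiagonal] at hab
    ext <;> simp; omega
  · intro j hj
    rfl
  · intro ab hab
    rw [Finset.HasAntidiagonal.mem_antidiagonal] at hab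
    have hb : ab.2 ≤ (i : ℕ) := by omega
    simp only [z, if_pos hb]
    rw [Function.locallyFinsuppWithin.coe_zsmul, CycLib.ChowOp.cls_zsmul _ _ (hζ' ⟨ab.2, by omega⟩ hb).1, map_zsmul,
      (hζ' ⟨ab.2, by omega⟩ hb).2]
    have e1 : (i : ℕ) - ab.2 = ab.1 := by omega
    have e2 : r - (i : ℕ) + ab.2 = r - ab.1 := by omega
    simp only [e1, e2]
    rw [show ∀ e c' : CycLib.ChowOp.opRing S.hY.2.2, e * (Nat.choose (r - ab.1) ab.2 : CycLib.ChowOp.opRing S.hY.2.2) * c' =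
        Nat.choose (r - ab.1) ab.2 • (c' * e) from fun e c' => by rw [nsmul_eq_mul]; ring, natCast_zsmul]
    rfl

end Groth.Agent.S12666
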