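import Groth.Statements.S12668
import Groth.Agent.CycLib.ChowOp.Tensor2

set_option autoImplicit false
universe u
open CategoryTheory CategoryTheory.Limits AlgebraicGeometry
open Cyc

namespace Groth.Agent.S12668

/-- For E, F finite locally free of ranks r, s on X, c_1(E ⊗ F) = r c_1(F) + s c_1(E), as cap operations
on every k-cycle α; E ⊗ F is the tensor product of O_X-modules (CohB1.tensorMod), of rank rs, and
enters through its own projective bundle. Stated for r, s ≥ 1. Setting: (X, δ) with Cyc.IsSetup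
stands for a scheme locally of finite type over the base (S, δ) (X locally Noetherian with
universally catenary local rings, δ a dimension function); (p : P → X, O_P(1), q) is the projective
bundle of E given by its universal property (KRR.IsProjBundle), p is proper and δP is the induced
dimension function (Cyc.DeltaCompat); a tuple γ with Cyc.IsChernCap represents (c_0(E) ∩ α, …,
c_r(E) ∩ α) through the defining relation Σ_i (-1)^i c_1(O_P(1))^i ∩ p^*(γ_{r-i}) ∼_rat 0 on P, and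
classes are compared up to rational equivalence of representing cycles. -/
theorem result (X : Scheme.{u}) (δ : X → ℤ) (hX : Cyc.IsSetup X δ) (r s : ℕ) (hr : 1 ≤ r) (hs : 1 ≤ s) (E : X.Modules) (hPE : FlatMod.IsFinLocFreeOfRank r E) (P : Scheme.{u}) (p : P ⟶ X) (O1 : P.Modules) (q : (Scheme.Modules.pullback p).obj E ⟶ O1) (hP : KRR.IsProjBundle p E O1 q) [IsProper p] (δP : P → ℤ) (hPs : Cyc.IsSetup P δP) (hδ : Cyc.DeltaCompat p δP δ) (F : X.Modules) (hQE : FlatMod.IsFinLocFreeOfRank s F) (Q : Scheme.{u}) (p' : Q ⟶ X) (O1' : Q.Modules) (q' : (Scheme.Modules.pullback p').obj F ⟶ O1') (hQ : KRR.IsProjBundle p' F O1' q') [IsProper p'] (δQ : Q → ℤ) (hQs : Cyc.IsSetup Q δQ) (hδ' : Cyc.DeltaCompat p' δQ δ) (hTE : FlatMod.IsFinLocFreeOfRank (r * s) (CohB1.tensorMod E F)) (T : Scheme.{u}) (p'' : T ⟶ X) (O1'' : T.Modules) (q'' : (Scheme.Modules.pullback p'').obj (CohB1.tensorMod E F) ⟶ O1'') (hT : KRR.IsProjBundle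 p'' (CohB1.tensorMod E F) O1'' q'') [IsProper p''] (δT : T → ℤ) (hTs : Cyc.IsSetup T δT) (hδ'' : Cyc.DeltaCompat p'' δT δ) (k : ℤ) (α : AlgebraicCycle X ℤ) (hα : α ∈ Cyc.Zk X δ k) (ε : Fin (r + 1) → AlgebraicCycle X ℤ) (hε : Cyc.IsChernCap p δ δP O1 r k α ε) (φ : Fin (s + 1) → AlgebraicCycle X ℤ) (hφ : Cyc.IsChernCap p' δ δQ O1' s k α φ) (τ : Fin (r * s + 1) → AlgebraicCycle X ℤ) (hτ : Cyc.IsChernCap p'' δ δT O1'' (r * s) k α τ) : Cyc.RatEquiv δ (k - 1) (τ ⟨1, Nat.lt_succ_of_le (Nat.mul_pos hr hs)⟩) (((r : ℕ) : ℤ) • φ ⟨1, Nat.lt_succ_of_le hs⟩ + ((s : ℕ) : ℤ) • ε ⟨1, Nat.lt_succ_of_le hr⟩) := by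
  haveI := hX.1
  obtain ⟨S, l, l', hl, hl', hfE, hfF⟩ := CycLib.ChowOp.exists_split_two (hX := hX) hPE hQE
  have hfT : S.Fil hX (CohB1.tensorMod E F) (l.flatMap fun L => l'.map (CohB1.tensorMod · L)) :=
    (CycLib.ChowOp.Filt.tensor (CycLib.ProjBdl.isFinLocFreeOfRank_pullback S.f hQE) hfF hfE).of_iso
      (CycLib.ChowOp.pullTensor S.f E F)
  have hlen : (l.flatMap fun L => l'.map (CohB1.tensorMod · L)).length = r * s := by
    rw [List.length_flatMap]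
    simp [hl, hl']
  have hτ' : ∀ j : Fin (r * s + 1), S.pl hX (CycLib.ChowOp.cls hX.2.2 (k - ((j : ℕ) : ℤ)) ⇑(τ j)) = _ :=
    fun j => S.chern hTE hT hTs hδ'' hlen hfT hα hτ j
  simp only [CycLib.ChowOp.esym_tensor _ (CycLib.ChowOp.Filt.invertible hfE) (CycLib.ChowOp.Filt.invertible hfF)] at hτ'
  have hc : ∀ (c d : ℤ) (a b : AlgebraicCycle X ℤ), a ∈ Cyc.Zk X δ (k - 1) → b ∈ Cyc.Zk X δ (k - 1) →
      c • a + d • b ∈ Cyc.Zk X δ (k - 1) ∧ S.pl hX (CycLib.ChowOp.cls hX.2.2 (k - 1) ⇑(c • a + d • b)) =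
        c • S.pl hX (CycLib.ChowOp.cls hX.2.2 (k - 1) ⇑a) + d • S.pl hX (CycLib.ChowOp.cls hX.2.2 (k - 1) ⇑b) := by
    intro c d a b ha hb
    have ha' := CycLib.Dev.IsCyc.of_cycle _ ha
    have hb' := CycLib.Dev.IsCyc.of_cycle _ hb
    have hca := CycLib.ProjBdl.isCyc_zsmul c ha'
    have hdb := CycLib.ProjBdl.isCyc_zsmul d hb'
    refine ⟨fun x hx => by show c * a x + d * b x = 0; rw [ha x hx, hb x hx, mul_zero, mul_zero, add_zero], ?_⟩
    rw [Function.locallyFinsuppWithin.coe_add, Function.locallyFinsuppWithin.coe_zsmul,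
      Function.locallyFinsuppWithin.coe_zsmul, CycLib.ChowOp.cls_add _ hca hdb, CycLib.ChowOp.cls_zsmul _ _ ha',
      CycLib.ChowOp.cls_zsmul _ _ hb', map_add, map_zsmul, map_zsmul]
  have hφ1 : φ ⟨1, Nat.lt_succ_of_le hs⟩ ∈ Cyc.Zk X δ (k - 1) := by simpa using hφ.2.1 ⟨1, Nat.lt_succ_of_le hs⟩
  have hε1 : ε ⟨1, Nat.lt_succ_of_le hr⟩ ∈ Cyc.Zk X δ (k - 1) := by simpa using hε.2.1 ⟨1, Nat.lt_succ_of_le hr⟩
  obtain ⟨hz, he⟩ := hc (r : ℤ) (s : ℤ) _ _ hφ1 hε1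
  refine S.ratEquiv (by simpa using hτ.2.1 ⟨1, Nat.lt_succ_of_le (Nat.mul_pos hr hs)⟩) hz ?_
  have h1 := hτ' ⟨1, Nat.lt_succ_of_le (Nat.mul_pos hr hs)⟩
  have h2 := S.chern hQE hQ hQs hδ' hl' hfF hα hφ ⟨1, Nat.lt_succ_of_le hs⟩
  have h3 := S.chern hPE hP hPs hδ hl hfE hα hε ⟨1, Nat.lt_succ_of_le hr⟩
  simp only [Nat.cast_one] at h1 h2 h3
  rw [h1, he, h2, h3, natCast_zsmul, natCast_zsmul, CycLib.ChowOp.esymm_one_sums, ← nsmul_eq_mul, ← nsmul_eq_mul]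
  simp only [Multiset.coe_card, List.length_map, hl, hl']
  rfl

end Groth.Agent.S12668
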