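import Groth.Statements.S12669
import Groth.Agent.CycLib.ChowOp.Tensor2

set_option autoImplicit false
universe u
open CategoryTheory CategoryTheory.Limits AlgebraicGeometry
open Cyc

namespace Groth.Agent.S12669

/-- For E, F finite locally free of ranks r, s on X, c_2(E ⊗ F) = r c_2(F) + s c_2(E) + C(r,2) c_1(F)^2
+ (rs - 1) c_1(F) c_1(E) + C(s,2) c_1(E)^2, as cap operations on every k-cycle α; products of
classes are iterated caps represented by nested tuples (a tuple for F, resp. E, over the first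
component of a tuple for F; a tuple for E over the first component of a tuple for E), c_2 of a
module of rank < 2 is 0, and E ⊗ F (CohB1.tensorMod, rank rs) enters through its own projective
bundle. Stated for r, s ≥ 1. Setting: (X, δ) with Cyc.IsSetup stands for a scheme locally of finite
type over the base (S, δ) (X locally Noetherian with universally catenary local rings, δ a dimension
function); (p : P → X, O_P(1), q) is the projective bundle of E given by its universal property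
(KRR.IsProjBundle), p is proper and δP is the induced dimension function (Cyc.DeltaCompat); a tuple
γ with Cyc.IsChernCap represents (c_0(E) ∩ α, …, c_r(E) ∩ α) through the defining relation Σ_i
(-1)^i c_1(O_P(1))^i ∩ p^*(γ_{r-i}) ∼_rat 0 on P, and classes are compared up to rational
equivalence of representing cycles. -/
theorem result (X : Scheme.{u}) (δ : X → ℤ) (hX : Cyc.IsSetup X δ) (r s : ℕ) (hr : 1 ≤ r) (hs : 1 ≤ s) (E : X.Modules) (hPE : FlatMod.IsFinLocFreeOfRank r E) (P : Scheme.{u}) (p : P ⟶ X) (O1 : P.Modules) (q : (Scheme.Modules.pullback p).obj E ⟶ O1) (hP : KRR.IsProjBundle p E O1 q) [IsProper p] (δP : P → ℤ) (hPs : Cyc.IsSetup P δP) (hδ : Cyc.DeltaCompat p δP δ) (F : X.Modules) (hQE : FlatMod.IsFinLocFreeOfRank s F) (Q : Scheme.{u}) (p' : Q ⟶ X) (O1' : Q.Modules) (q' : (Scheme.Modules.pullback p').obj F ⟶ O1') (hQ : KRR.IsProjBundle p' F O1' q') [IsProper p'] (δQ : Q →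 ℤ) (hQs : Cyc.IsSetup Q δQ) (hδ' : Cyc.DeltaCompat p' δQ δ) (hTE : FlatMod.IsFinLocFreeOfRank (r * s) (CohB1.tensorMod E F)) (T : Scheme.{u}) (p'' : T ⟶ X) (O1'' : T.Modules) (q'' : (Scheme.Modules.pullback p'').obj (CohB1.tensorMod E F) ⟶ O1'') (hT : KRR.IsProjBundle p'' (CohB1.tensorMod E F) O1'' q'') [IsProper p''] (δT : T → ℤ) (hTs : Cyc.IsSetup T δT) (hδ'' : Cyc.DeltaCompat p'' δT δ) (k : ℤ) (α : AlgebraicCycle X ℤ) (hα : α ∈ Cyc.Zk X δ k) (ε : Fin (r + 1) → AlgebraicCycle X ℤ) (hε : Cyc.IsChernCap p δ δP O1 r k α ε) (φ : Fin (s + 1) → AlgebraicCycle X ℤ) (hφ : Cyc.IsChernCap p' δ δQ O1' s k α φ) (τ : Fin (r * s + 1) → AlgebraicCycle X ℤ) (hτ : Cyc.IsChernCap p'' δ δT O1'' (r * s) k α τ) (φφ : Fin (s + 1) → AlgebraicCycle X ℤ) (hφφ : Cyc.IsChernCap p' δ δQ O1' s (k - 1) (φ ⟨1, Nat.lt_succ_of_le hs⟩) φφ) (εφ : Fin (r + 1) → AlgebraicCycle X ℤ) (hεφ : Cyc.IsChernCap p δ δP O1 r (k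 - 1) (φ ⟨1, Nat.lt_succ_of_le hs⟩) εφ) (εε : Fin (r + 1) → AlgebraicCycle X ℤ) (hεε : Cyc.IsChernCap p δ δP O1 r (k - 1) (ε ⟨1, Nat.lt_succ_of_le hr⟩) εε) : Cyc.RatEquiv δ (k - 2) (if h2 : 2 ≤ r * s then τ ⟨2, Nat.lt_succ_of_le h2⟩ else 0) (((r : ℕ) : ℤ) • (if h2 : 2 ≤ s then φ ⟨2, Nat.lt_succ_of_le h2⟩ else 0) + ((s : ℕ) : ℤ) • (if h2 : 2 ≤ r then ε ⟨2, Nat.lt_succ_of_le h2⟩ else 0) + ((Nat.choose r 2 : ℕ) : ℤ) • φφ ⟨1, Nat.lt_succ_of_le hs⟩ + (((r * s : ℕ) : ℤ) - 1) • εφ ⟨1, Nat.lt_succ_of_le hr⟩ + ((Nat.choose s 2 : ℕ) : ℤ) • εε ⟨1, Nat.lt_succ_of_le hr⟩) := by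
  haveI := hX.1
  obtain ⟨S, l, l', hl, hl', hfE, hfF⟩ := CycLib.ChowOp.exists_split_two (hX := hX) hPE hQE
  have hfT : S.Fil hX (CohB1.tensorMod E F) (l.flatMap fun L => l'.map (CohB1.tensorMod · L)) :=
    (CycLib.ChowOp.Filt.tensor (CycLib.ProjBdl.isFinLocFreeOfRank_pullback S.f hQE) hfF hfE).of_iso
      (CycLib.ChowOp.pullTensor S.f E F)
  have hlen : (l.flatMap fun L => l'.map (CohB1.tensorMod · L)).length = r * s := by
    rw [List.length_flatMap]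
    simp [hl, hl']
  have hτ' : ∀ j : Fin (r * s + 1), S.pl hX (CycLib.ChowOp.cls hX.2.2 (k - ((j : ℕ) : ℤ)) ⇑(τ j)) = _ :=
    fun j => S.chern hTE hT hTs hδ'' hlen hfT hα hτ j
  simp only [CycLib.ChowOp.esym_tensor _ (CycLib.ChowOp.Filt.invertible hfE) (CycLib.ChowOp.Filt.invertible hfF)] at hτ'
  set T := CycLib.ChowOp.opRing S.hY.2.2
  set x := S.pl hX (CycLib.ChowOp.cls hX.2.2 k ⇑α)
  set A : ℕ → T := CycLib.ChowOp.esym S.hY.2.2 l
  set B : ℕ → T := CycLib.ChowOp.esym S.hY.2.2 l'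
  -- `z` is represented in degree `k - 2` by `O`
  let Rep : AlgebraicCycle X ℤ → T → Prop := fun z O => z ∈ Cyc.Zk X δ (k - 2) ∧
    S.pl hX (CycLib.ChowOp.cls hX.2.2 (k - 2) ⇑z) = O.1 x
  have rep0 : Rep 0 0 := ⟨fun x _ => rfl, by
    show S.pl hX (CycLib.ChowOp.cls hX.2.2 _ 0) = _
    rw [CycLib.ChowOp.cls_zero, map_zero]
    rfl⟩
  have repAdd : ∀ a b O O', Rep a O → Rep b O' → Rep (a + b) (O + O') := fun a b O O' ha hb =>
    ⟨fun y hy => by show a y + b y = 0; rw [ha.1 y hy, hb.1 y hy, add_zero], by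
      rw [Function.locallyFinsuppWithin.coe_add, CycLib.ChowOp.cls_add _ (CycLib.Dev.IsCyc.of_cycle _ ha.1)
        (CycLib.Dev.IsCyc.of_cycle _ hb.1), map_add, ha.2, hb.2]
      rfl⟩
  have repSmul : ∀ (c : ℤ) a O, Rep a O → Rep (c • a) (c • O) := fun c a O ha =>
    ⟨fun y hy => by show c * a y = 0; rw [ha.1 y hy, mul_zero], by
      rw [Function.locallyFinsuppWithin.coe_zsmul, CycLib.ChowOp.cls_zsmul _ _ (CycLib.Dev.IsCyc.of_cycle _ ha.1),
        map_zsmul, ha.2]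
      rfl⟩
  have hk : k - 1 - 1 = k - 2 := by ring
  have hφ1 := S.chern hQE hQ hQs hδ' hl' hfF hα hφ ⟨1, Nat.lt_succ_of_le hs⟩
  have hε1 := S.chern hPE hP hPs hδ hl hfE hα hε ⟨1, Nat.lt_succ_of_le hr⟩
  have hφz : φ ⟨1, Nat.lt_succ_of_le hs⟩ ∈ Cyc.Zk X δ (k - 1) := by simpa using hφ.2.1 ⟨1, Nat.lt_succ_of_le hs⟩
  have hεz : ε ⟨1, Nat.lt_succ_of_le hr⟩ ∈ Cyc.Zk X δ (k - 1) := by simpa using hε.2.1 ⟨1, Nat.lt_succ_of_le hr⟩
  simp only [Nat.cast_one] at hφ1 hε1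
  have rφφ : Rep (φφ ⟨1, Nat.lt_succ_of_le hs⟩) (B 1 * B 1) := by
    refine ⟨by simpa [hk] using hφφ.2.1 ⟨1, Nat.lt_succ_of_le hs⟩, ?_⟩
    have h := S.chern hQE hQ hQs hδ' hl' hfF hφz hφφ ⟨1, Nat.lt_succ_of_le hs⟩
    simp only [Nat.cast_one, hk] at h
    rw [h, hφ1]
    rfl
  have rεφ : Rep (εφ ⟨1, Nat.lt_succ_of_le hr⟩) (A 1 * B 1) := by
    refine ⟨by simpa [hk] using hεφ.2.1 ⟨1, Nat.lt_succ_of_le hr⟩, ?_⟩
    have h := S.chern hPE hP hPs hδ hl hfE hφz hεφ ⟨1, Nat.lt_succ_of_le hr⟩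
    simp only [Nat.cast_one, hk] at h
    rw [h, hφ1]
    rfl
  have rεε : Rep (εε ⟨1, Nat.lt_succ_of_le hr⟩) (A 1 * A 1) := by
    refine ⟨by simpa [hk] using hεε.2.1 ⟨1, Nat.lt_succ_of_le hr⟩, ?_⟩
    have h := S.chern hPE hP hPs hδ hl hfE hεz hεε ⟨1, Nat.lt_succ_of_le hr⟩
    simp only [Nat.cast_one, hk] at h
    rw [h, hε1]
    rfl
  have rφ : Rep (if h2 : 2 ≤ s then φ ⟨2, Nat.lt_succ_of_le h2⟩ else 0) (B 2) := by
    split_ifs with h2
    · exact ⟨by simpa using hφ.2.1 ⟨2, Nat.lt_succ_of_le h2⟩,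
        by simpa using S.chern hQE hQ hQs hδ' hl' hfF hα hφ ⟨2, Nat.lt_succ_of_le h2⟩⟩
    · rw [show B 2 = 0 from CycLib.ChowOp.esym_eq_zero _ (by omega)]
      exact rep0
  have rε : Rep (if h2 : 2 ≤ r then ε ⟨2, Nat.lt_succ_of_le h2⟩ else 0) (A 2) := by
    split_ifs with h2
    · exact ⟨by simpa using hε.2.1 ⟨2, Nat.lt_succ_of_le h2⟩,
        by simpa using S.chern hPE hP hPs hδ hl hfE hα hε ⟨2, Nat.lt_succ_of_le h2⟩⟩
    · rw [show A 2 = 0 from CycLib.ChowOp.esym_eq_zero _ (by omega)]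
      exact rep0
  have rτ : Rep (if h2 : 2 ≤ r * s then τ ⟨2, Nat.lt_succ_of_le h2⟩ else 0)
      ((CycLib.ChowOp.sums ((l.map (CycLib.ChowOp.c1of S.hY.2.2) : List T) : Multiset T)
        ((l'.map (CycLib.ChowOp.c1of S.hY.2.2) : List T) : Multiset T)).esymm 2) := by
    split_ifs with h2
    · exact ⟨by simpa using hτ.2.1 ⟨2, Nat.lt_succ_of_le h2⟩, by simpa using hτ' ⟨2, Nat.lt_succ_of_le h2⟩⟩
    · rw [CycLib.ChowOp.esymm_eq_zero_of_card_lt]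
      · exact rep0
      · simp only [CycLib.ChowOp.sums, Multiset.card_bind, Multiset.map_coe, Multiset.sum_coe, Function.comp_def,
          Multiset.coe_card, List.length_map, List.map_map, hl']
        simp [hl]
        omega
  have hR := repAdd _ _ _ _ (repAdd _ _ _ _ (repAdd _ _ _ _ (repAdd _ _ _ _ (repSmul (r : ℤ) _ _ rφ)
    (repSmul (s : ℤ) _ _ rε)) (repSmul (Nat.choose r 2 : ℤ) _ _ rφφ))
    (repSmul (((r * s : ℕ) : ℤ) - 1) _ _ rεφ)) (repSmul (Nat.choose s 2 : ℤ) _ _ rεε)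
  refine S.ratEquiv rτ.1 hR.1 (rτ.2.trans ?_)
  rw [hR.2, CycLib.ChowOp.esymm_two_sums]
  congr 2
  simp only [Multiset.coe_card, List.length_map, hl, hl', zsmul_eq_mul]
  show _ = ((r : ℤ) : T) * B 2 + _ + _ + _ + _
  push_cast
  simp only [A, B, CycLib.ChowOp.esym]
  ring

end Groth.Agent.S12669
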