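import Groth.Statements.S1267
import Groth.Agent.FlatDVR.Ass
import Groth.Agent.RGFlat.UnivInj
import Mathlib.RingTheory.Spectrum.Prime.Topology
-- import your own Groth.Agent.* helpers here

set_option autoImplicit false
universe u
open FlatMor

namespace Groth.Agent.S1267

open TensorProduct

/-- The factors. -/
def Fam {A : Type u} [CommRing A] (I : Ideal A) (T : Finset A) : Option {f // f ∈ T} → Type u
  | none => A ⧸ I
  | some f => Localization.Away f.1

noncomputable instance {A : Type u} [CommRing A] (I : Ideal A) (T : Finset A) : ∀ o, CommRing (Fam I T o)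
  | none => Ideal.Quotient.commRing I
  | some f => (inferInstance : CommRing (Localization.Away f.1))

noncomputable instance {A : Type u} [CommRing A] (I : Ideal A) (T : Finset A) : ∀ o, Algebra A (Fam I T o)
  | none => Ideal.Quotient.algebra A
  | some f => (OreLocalization.instAlgebra : Algebra A (Localization.Away f.1))

/-- Flatness on a basic open subset. -/
theorem flat_away {A : Type u} [CommRing A] (f : A) (M : Type u) [AddCommGroup M] [Module A M]
    (h : ∀ (p : Ideal A) [p.IsPrime], f ∉ p → Module.Flat A (LocalizedModule p.primeCompl M)) :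
    Module.Flat A (LocalizedModule (Submonoid.powers f) M) := by
  rw [Module.Flat.iff_lTensor_injective']
  intro J
  rw [injective_iff_map_eq_zero]
  intro x hx
  let η := LocalizedModule.mkLinearMap (Submonoid.powers f) M
  let η1 : M ⊗[A] J →ₗ[A] LocalizedModule (Submonoid.powers f) M ⊗[A] J := AlgebraTensorModule.rTensor A J η
  haveI : IsLocalizedModule (Submonoid.powers f) η1 := inferInstance
  obtain ⟨⟨y, s⟩, hs⟩ := IsLocalizedModule.surj (Submonoid.powers f) η1 x
  let B : Ideal A := LinearMap.ker (LinearMap.toSpanSingleton A (M ⊗[A] J) y)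
  have hrad : f ∈ Ideal.radical B := by
    rw [Ideal.radical_eq_sInf, Submodule.mem_sInf]
    rintro p ⟨hBp, hp⟩
    by_contra hfp
    haveI := hp
    haveI := h p hfp
    let π := LocalizedModule.mkLinearMap (Ideal.primeCompl p) M
    let π1 : M ⊗[A] J →ₗ[A] LocalizedModule (Ideal.primeCompl p) M ⊗[A] J := AlgebraTensorModule.rTensor A J π
    haveI : IsLocalizedModule (Ideal.primeCompl p) π1 := inferInstance
    have h0 : η1 y = (s : A) • x := hs.symm
    have h1 : η.rTensor A (J.subtype.lTensor M y) = 0 := by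
      rw [← LinearMap.comp_apply, LinearMap.rTensor_comp_lTensor, ← LinearMap.lTensor_comp_rTensor,
        LinearMap.comp_apply, show η.rTensor J y = η1 y from rfl, h0, map_smul, hx, smul_zero]
    let η2 : M ⊗[A] A →ₗ[A] LocalizedModule (Submonoid.powers f) M ⊗[A] A := AlgebraTensorModule.rTensor A A η
    haveI : IsLocalizedModule (Submonoid.powers f) η2 := inferInstance
    obtain ⟨⟨_, k, rfl⟩, hk⟩ := (IsLocalizedModule.eq_zero_iff (Submonoid.powers f) η2).mp h1
    rw [Submonoid.smul_def] at hk
    have h2 : π1 (f ^ k • y) = 0 := by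
      refine Module.Flat.lTensor_preserves_injective_linearMap (M := LocalizedModule (Ideal.primeCompl p) M) J.subtype
        J.injective_subtype ?_
      rw [map_zero, show π1 (f ^ k • y) = π.rTensor J (f ^ k • y) from rfl, ← LinearMap.comp_apply,
        LinearMap.lTensor_comp_rTensor, ← LinearMap.rTensor_comp_lTensor, LinearMap.comp_apply, map_smul,
        show f ^ k • J.subtype.lTensor M y = 0 from hk, map_zero]
    obtain ⟨t, ht⟩ := (IsLocalizedModule.eq_zero_iff (Ideal.primeCompl p) π1).mp h2
    rw [Submonoid.smul_def, ← mul_smul] at ht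
    exact (hp.mem_or_mem (hBp ht)).elim t.2 fun hm => hfp (hp.mem_of_pow_mem k hm)
  obtain ⟨k, hk⟩ := hrad
  refine ((Module.End.isUnit_iff _).mp (IsLocalizedModule.map_units η1 (⟨f ^ k, k, rfl⟩ * s : Submonoid.powers f))).1 ?_
  show ((f ^ k * (s : A)) • x) = ((f ^ k * (s : A)) • 0 : LocalizedModule (Submonoid.powers f) M ⊗[A] J)
  rw [smul_zero, mul_smul, ← Submonoid.smul_def, hs, ← map_smul, show f ^ k • y = 0 from hk, map_zero]


/-- Let A be a local ring, I an ideal, U a quasi-compact open subset of Spec A and M an A-module such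
that M/IM is flat over A/I and M_p is flat over A for all p in U. Let I₂ be the kernel of I → Γ(U,
I/I²), that is the set of x ∈ I such that for every p ∈ U some s outside p has s·x ∈ I². Then M/I₂M
is flat over A/I₂. -/
theorem result {A : Type u} [CommRing A] [IsLocalRing A] (I : Ideal A)
    (U : Set (PrimeSpectrum A)) (hU : IsOpen U) (hUc : IsCompact U)
    (M : Type u) [AddCommGroup M] [Module A M]
    [Module.Flat (A ⧸ I) (M ⧸ (I • ⊤ : Submodule A M))]
    (hflat : ∀ p ∈ U, Module.Flat A (LocalizedModule p.asIdeal.primeCompl M))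
    (I₂ : Ideal A) (hI₂ : ∀ x : A, x ∈ I₂ ↔ x ∈ I ∧ ∀ p ∈ U, ∃ s : A, s ∉ p.asIdeal ∧ s * x ∈ I ^ 2) :
    Module.Flat (A ⧸ I₂) (M ⧸ (I₂ • ⊤ : Submodule A M)) := by
  classical
  obtain ⟨T, hTU, hUT⟩ : ∃ T : Finset A, (∀ f ∈ T, ↑(PrimeSpectrum.basicOpen f) ⊆ U) ∧
      ∀ p ∈ U, ∃ f ∈ T, f ∉ p.asIdeal := by
    obtain ⟨t, ht⟩ := hUc.elim_finite_subcover
      (fun f : {f : A // ↑(PrimeSpectrum.basicOpen f) ⊆ U} => (PrimeSpectrum.basicOpen f.1 : Set (PrimeSpectrum A)))
      (fun _ => PrimeSpectrum.isOpen_basicOpen) (fun p hp => by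
        obtain ⟨_, ⟨f, rfl⟩, hf, hsub⟩ := PrimeSpectrum.isTopologicalBasis_basic_opens.exists_subset_of_mem_open hp hU
        exact Set.mem_iUnion.mpr ⟨⟨f, hsub⟩, hf⟩)
    refine ⟨t.image (·.1), fun f hf => ?_, fun p hp => ?_⟩
    · obtain ⟨g, -, rfl⟩ := Finset.mem_image.mp hf
      exact g.2
    · obtain ⟨g, hg, hgp⟩ := Set.mem_iUnion₂.mp (ht hp)
      exact ⟨g.1, Finset.mem_image_of_mem _ hg, hgp⟩
  let S : Option {f // f ∈ T} → Type u := Fam I T
  haveI : Module.Flat (A ⧸ I) ((A ⧸ I) ⊗[A] M) := Module.Flat.of_linearEquiv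
    ((TensorProduct.quotTensorEquivQuotSMul M I).extendScalarsOfSurjective Ideal.Quotient.mk_surjective)
  haveI : Module.Flat (∀ o, S o) ((∀ o, S o) ⊗[A] M) := by
    refine FlatDVR.flat_pi S _ fun o => ?_
    letI := (Pi.evalRingHom S o).toAlgebra
    haveI : IsScalarTower A (∀ q, S q) (S o) := IsScalarTower.of_algebraMap_eq fun _ => rfl
    haveI : Module.Flat (S o) (S o ⊗[A] M) := by
      rcases o with _ | f
      · exact inferInstanceAs (Module.Flat (A ⧸ I) ((A ⧸ I) ⊗[A] M))
      · show Module.Flat (Localization.Away f.1) (Localization.Away f.1 ⊗[A] M)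
        haveI := flat_away f.1 M fun p hp hfp => hflat ⟨p, hp⟩ (hTU f.1 f.2 hfp)
        haveI : Module.Flat A (Localization.Away f.1 ⊗[A] M) := Module.Flat.of_linearEquiv
          ((LocalizedModule.equivTensorProduct (Submonoid.powers f.1) M).restrictScalars A).symm
        exact (Module.flat_iff_of_isLocalization (Localization.Away f.1) (Submonoid.powers f.1) _).mpr inferInstance
    exact Module.Flat.of_linearEquiv
      (TensorProduct.AlgebraTensorModule.cancelBaseChange A (∀ q, S q) (S o) (S o) M)
  have hI : ((I ^ 2).map (algebraMap A (∀ o, S o))).comap (algebraMap A (∀ o, S o)) = I₂ := by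
    ext x
    rw [hI₂, Ideal.mem_comap]
    have hproj : ∀ (o : Option {f // f ∈ T}) (v : ∀ o, S o), v ∈ (I ^ 2).map (algebraMap A (∀ o, S o)) →
        v o ∈ (I ^ 2).map (algebraMap A (S o)) := fun o v hv => by
      have := Ideal.mem_map_of_mem (Pi.evalRingHom S o) hv
      rwa [Ideal.map_map] at this
    constructor
    · intro hx
      refine ⟨?_, fun p hp => ?_⟩
      · have h1 : Ideal.Quotient.mk I x ∈ (I ^ 2).map (Ideal.Quotient.mk I) := hproj none _ hx
        rw [show (I ^ 2).map (Ideal.Quotient.mk I) = ⊥ by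
          rw [Ideal.map_eq_bot_iff_le_ker, Ideal.mk_ker]; exact Ideal.pow_le_self two_ne_zero, Ideal.mem_bot,
          Ideal.Quotient.eq_zero_iff_mem] at h1
        exact h1
      · obtain ⟨f, hf, hfp⟩ := hUT p hp
        have h1 : algebraMap A (Localization.Away f) x ∈ (I ^ 2).map (algebraMap A (Localization.Away f)) :=
          hproj (some ⟨f, hf⟩) _ hx
        rw [IsLocalization.algebraMap_mem_map_algebraMap_iff (Submonoid.powers f)] at h1
        obtain ⟨_, ⟨k, rfl⟩, hk⟩ := h1
        exact ⟨f ^ k, fun h => hfp (p.2.mem_of_pow_mem k h), hk⟩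
    · rintro ⟨hxI, hx⟩
      have hcomp : ∀ o, algebraMap A (S o) x ∈ (I ^ 2).map (algebraMap A (S o)) := fun o => by
        rcases o with _ | f
        · show Ideal.Quotient.mk I x ∈ (I ^ 2).map (Ideal.Quotient.mk I)
          rw [Ideal.Quotient.eq_zero_iff_mem.mpr hxI]
          exact zero_mem _
        · show algebraMap A (Localization.Away f.1) x ∈ (I ^ 2).map (algebraMap A (Localization.Away f.1))
          rw [IsLocalization.algebraMap_mem_map_algebraMap_iff (Submonoid.powers f.1)]
          let J : Ideal A := Submodule.colon (I ^ 2) {x}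
          have hrad : f.1 ∈ J.radical := by
            rw [Ideal.radical_eq_sInf, Submodule.mem_sInf]
            rintro p ⟨hJp, hp⟩
            by_contra hfp
            obtain ⟨s, hs, hsx⟩ := hx ⟨p, hp⟩ (hTU f.1 f.2 hfp)
            exact hs (hJp (Submodule.mem_colon_singleton.mpr hsx))
          obtain ⟨k, hk⟩ := hrad
          exact ⟨f.1 ^ k, ⟨k, rfl⟩, Submodule.mem_colon_singleton.mp hk⟩
      have hsum : algebraMap A (∀ o, S o) x = ∑ o, Pi.single o (algebraMap A (S o) x) := by
        rw [Finset.univ_sum_single]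
        rfl
      rw [hsum]
      refine sum_mem fun o _ => ?_
      have key : ∀ v ∈ (I ^ 2).map (algebraMap A (S o)), (Pi.single o v : ∀ o, S o) ∈ (I ^ 2).map (algebraMap A (∀ o, S o)) := by
        intro v hv
        induction hv using Submodule.span_induction with
        | mem v hv =>
          obtain ⟨a, ha, rfl⟩ := hv
          rw [show (Pi.single o (algebraMap A (S o) a) : ∀ o, S o) = Pi.single o 1 * algebraMap A (∀ o, S o) a by
            funext j; rcases eq_or_ne j o with rfl | hj <;> simp [*]]
          exact Ideal.mul_mem_left _ _ (Ideal.mem_map_of_mem _ ha)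
        | zero => rw [Pi.single_zero]; exact zero_mem _
        | add a b _ _ ha hb => rw [Pi.single_add]; exact add_mem ha hb
        | smul c v _ hv =>
          rw [smul_eq_mul, show (Pi.single o (c * v) : ∀ o, S o) = Pi.single o c * Pi.single o v by
            funext j; rcases eq_or_ne j o with rfl | hj <;> simp [*]]
          exact Ideal.mul_mem_left _ _ hv
      exact key _ (hcomp o)
  haveI := FlatNilp.flat_quotient_comap_sq (∀ o, S o) I M
  rw [hI] at this
  exact Module.Flat.of_linearEquiv
    ((TensorProduct.quotTensorEquivQuotSMul M I₂).extendScalarsOfSurjective Ideal.Quotient.mk_surjective).symm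

end Groth.Agent.S1267
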