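import Groth.Statements.S12670
import Groth.Agent.CycLib.ChowOp.Dual

set_option autoImplicit false
universe u
open CategoryTheory CategoryTheory.Limits AlgebraicGeometry
attribute [local instance] HasDerivedCategory.standard
open Cyc

namespace Groth.Agent.S12670

/-- For E finite locally free of rank r on X with dual E^∨, c_j(E^∨) = (-1)^j c_j(E), as cap operations
on every k-cycle α. The dual is Hom_{O_X}(E, O_X), the value at O_X of the right adjoint of - ⊗ E
(DCoh.sheafHom, its existence carried as a hypothesis), finite locally free of rank r, and enters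
through its own projective bundle. Setting: (X, δ) with Cyc.IsSetup stands for a scheme locally of
finite type over the base (S, δ) (X locally Noetherian with universally catenary local rings, δ a
dimension function); (p : P → X, O_P(1), q) is the projective bundle of E given by its universal
property (KRR.IsProjBundle), p is proper and δP is the induced dimension function (Cyc.DeltaCompat);
a tuple γ with Cyc.IsChernCap represents (c_0(E) ∩ α, …, c_r(E) ∩ α) through the defining relation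
Σ_i (-1)^i c_1(O_P(1))^i ∩ p^*(γ_{r-i}) ∼_rat 0 on P, and classes are compared up to rational
equivalence of representing cycles. -/
theorem result (X : Scheme.{u}) (δ : X → ℤ) (hX : Cyc.IsSetup X δ) (r : ℕ) (E : X.Modules) (hPE : FlatMod.IsFinLocFreeOfRank r E) (P : Scheme.{u}) (p : P ⟶ X) (O1 : P.Modules) (q : (Scheme.Modules.pullback p).obj E ⟶ O1) (hP : KRR.IsProjBundle p E O1 q) [IsProper p] (δP : P → ℤ) (hPs : Cyc.IsSetup P δP) (hδ : Cyc.DeltaCompat p δP δ) [DCoh.HasSheafHom E] (hP'E : FlatMod.IsFinLocFreeOfRank r ((DCoh.sheafHom E).obj (Coh.structureModule X))) (P' : Scheme.{u}) (p' : P' ⟶ X) (O1' : P'.Modules) (q' : (Scheme.Modules.pullback p').obj ((DCoh.sheafHom E).obj (Coh.structureModule X)) ⟶ O1') (hP' : KRR.IsProjBundle p' ((DCoh.sheafHom E).obj (Coh.structureModule X)) O1' q') [IsProper p'] (δP' : P' → ℤ) (hPs' : Cyc.IsSetup P' δP') (hδ' : Cyc.DeltaCompat p' δP' δ) (k : ℤ) (α : AlgebraicCycle X ℤ) (hα : α ∈ Cyc.Zk X δ k) (γ : Fin (r + 1) → AlgebraicCycle X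 ℤ) (hγ : Cyc.IsChernCap p δ δP O1 r k α γ) (γ' : Fin (r + 1) → AlgebraicCycle X ℤ) (hγ' : Cyc.IsChernCap p' δ δP' O1' r k α γ') (j : Fin (r + 1)) : Cyc.RatEquiv δ (k - ((j : ℕ) : ℤ)) (γ' j) ((-1 : ℤ) ^ (j : ℕ) • γ j) := by
  haveI := hX.1
  obtain ⟨S, l, hl, hfE⟩ := CycLib.ChowOp.exists_split_one (hX := hX) hPE
  have hloc := CycLib.ChowOp.isFinLocFree_of_rank hPE
  haveI := CycLib.ChowOp.isIso_pullDual (f := S.f) hloc
  obtain ⟨e⟩ := SHomIso.Basic.nonempty_iso E (Coh.structureModule X)
  have hfD : S.Fil hX ((DCoh.sheafHom E).obj (Coh.structureModule X)) (l.map RefHull.dual).reverse :=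
    (CycLib.ChowOp.Filt.dual hfE).of_iso
      ((Scheme.Modules.pullback S.f).mapIso e ≪≫ asIso (CycLib.ChowOp.pullDual S.f E))
  have hlen : (l.map RefHull.dual).reverse.length = r := by simp [hl]
  have hz := CycLib.Dev.IsCyc.of_cycle _ (hγ.2.1 j)
  refine S.ratEquiv (hγ'.2.1 j) (fun x hx => by show _ * γ j x = 0; rw [hγ.2.1 j x hx, mul_zero]) ?_
  rw [S.chern hP'E hP' hPs' hδ' hlen hfD hα hγ' j, Function.locallyFinsuppWithin.coe_zsmul,
    CycLib.ChowOp.cls_zsmul _ _ hz, map_zsmul, S.chern hPE hP hPs hδ hl hfE hα hγ j,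
    CycLib.ChowOp.esym_dual _ (CycLib.ChowOp.Filt.invertible hfE)]
  rw [show ((-1) ^ (j : ℕ) : CycLib.ChowOp.opRing S.hY.2.2) = (((-1 : ℤ) ^ (j : ℕ) : ℤ) : CycLib.ChowOp.opRing S.hY.2.2) by
    push_cast; rfl, ← zsmul_eq_mul]
  rfl

end Groth.Agent.S12670
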