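import Groth.Statements.S14508
import Groth.Agent.CycLib.ChowOp.DetFilt

set_option autoImplicit false
universe u
open CategoryTheory CategoryTheory.Limits AlgebraicGeometry
open IntTh

namespace Groth.Agent.S14508

/-- Let X be a locally Noetherian scheme whose local rings are universally catenary, δ a dimension
function on X, E a finite locally free O_X-module of rank r + 1, (p : P → X, O_P(1), q) its
projective bundle given by the universal property, p proper, δP the induced dimension function on P,
α a k-cycle on X and γ a tuple representing (c_0(E) ∩ α, …, c_{r+1}(E) ∩ α) through the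
projective-bundle relation. Let L be an (r+1)-st exterior power of E (det E) and s a choice of
nonzero rational sections of L at all points. Then γ_1 ∼_rat c_1(L) ∩ α as (k − 1)-cycles, the right
side being the cycle of the divisors of the sections s along the components of α. (The published
statement is for vector bundles of any rank on separated schemes of finite type over a field; this
row takes E of rank r + 1 ≥ 1 on a locally Noetherian scheme with universally catenary local rings
and a dimension function δ; in rank 0 both sides vanish.) -/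
theorem result (X : Scheme.{u}) (δ : X → ℤ) (hX : Cyc.IsSetup X δ)
    (E : X.Modules) (r : ℕ) (hE : FlatMod.IsFinLocFreeOfRank (r + 1) E)
    (P : Scheme.{u}) (p : P ⟶ X) (O1 : P.Modules) (q : (Scheme.Modules.pullback p).obj E ⟶ O1)
    (hP : KRR.IsProjBundle p E O1 q) [IsProper p] (δP : P → ℤ) (hPs : Cyc.IsSetup P δP)
    (hδ : Cyc.DeltaCompat p δP δ) (k : ℤ) (α : AlgebraicCycle X ℤ) (hα : α ∈ Cyc.Zk X δ k)
    (γ : Fin (r + 2) → AlgebraicCycle X ℤ) (hγ : Cyc.IsChernCap p δ δP O1 (r + 1) k α γ)
    (L : X.Modules) (hL : ExtPow.IsExtPow (r + 1) E L)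
    (s : (ξ : X) → Cyc.secFibre L ξ) (hs : ∀ ξ, s ξ ≠ 0)
    (β : AlgebraicCycle X ℤ) (hβ : ⇑β = Cyc.c1CapFun δ L ⇑α s) :
    Cyc.RatEquiv δ (k - 1) (γ 1) β := by
  haveI := hX.1
  obtain ⟨S, l, hl, hfE⟩ := CycLib.ChowOp.exists_split_one (hX := hX) hE
  have hdL := CycLib.ChowOp.isDet_extPow hE hL
  have hLi := CycLib.ChowOp.isInvertible_extPow hE hL
  have hd := CycLib.ChowOp.Filt.isDet hfE
  rw [hl] at hd
  have hinv := CycLib.ChowOp.Filt.invertible hfE
  have hc : CycLib.ChowOp.c1of S.hY.2.2 ((Scheme.Modules.pullback S.f).obj L) = CycLib.ChowOp.esym S.hY.2.2 l 1 := by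
    rw [← CycLib.ChowOp.c1of_detL S.hY.2.2 hinv]
    exact CycLib.ChowOp.c1of_eq_of_isDet _ (PicCl.isInvertible_pullback S.f hLi)
      (CycLib.ChowOp.isInvertible_detL hinv) (hdL.pullback S.f) hd
  have hαc := CycLib.Dev.IsCyc.of_cycle _ hα
  have hβc : CycLib.Dev.IsCyc δ (k - 1) ⇑β := by
    rw [hβ]; exact CycLib.Dev.isCyc_c1 hX.2.2 hLi (by simpa using hαc) s hs
  refine S.ratEquiv (by simpa using hγ.2.1 1) hβc.zero ?_
  have h1 := S.chern hE hP hPs hδ hl hfE hα hγ 1
  simp only [Fin.val_one, Nat.cast_one] at h1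
  rw [h1, hβ, ← CycLib.ChowOp.c1of_cls hX.2.2 hLi hαc s hs]
  show _ = CycLib.ChowOp.pull S.hY hX S.f S.hs _
  rw [CycLib.ChowOp.pull_c1of S.hY hX S.f S.hs hLi, hc]

end Groth.Agent.S14508
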