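import Groth.Statements.S1928
import Groth.Agent.CycLib.DevDegInt
import Groth.Agent.CycLib.DevZeroSec
import Groth.Agent.PicLaw.Basic

set_option autoImplicit false
universe u
open CategoryTheory AlgebraicGeometry
open Cyc

namespace Groth.Agent.S1928

/-- Let X be proper over a field k with dim X ≤ 1 and L an invertible O_X-module. Then deg(L) := χ(X, L)
− χ(X, O_X) equals the degree Σ_x [κ(x) : k] · n_x of the 0-cycle c_1(L) ∩ [X]_1 = Σ n_x [x],
computed with any nonzero rational sections (the degree is independent of the choice). Dimension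
function: transcendence degree over k. (The source treats finite locally free modules of any
constant rank via c_1 of a vector bundle; only the invertible case is stated.) Here L(ξ) = L_ξ/𝔪_ξ
L_ξ is the space of rational sections of L on the closure of ξ, div_{L|W}(s) and c_1(L) ∩ α are
computed as coefficient functions from chosen nonzero rational sections (Cyc.secDivFun,
Cyc.c1CapFun), and results are compared up to rational equivalence for any cycles with those
coefficients. -/
theorem result (k : Type u) [Field k] (X : Scheme.{u}) [X.Over (Spec (CommRingCat.of k))] [IsProper (X ↘ Spec (CommRingCat.of k))] (hdim : topologicalKrullDim X ≤ 1) (δ : X → ℤ) (hδ : Cyc.DeltaCompat (X ↘ Spec (CommRingCat.of k)) δ (fun _ => 0)) (L : X.Modules) (hL : PicF.IsInvertible L) (s : (ξ : X) → Cyc.secFibre L ξ) (hs : ∀ ξ, s ξ ≠ 0) : Curv2.deg k X L 1 = ∑ᶠ x : X, ((X ↘ Spec (CommRingCat.of k)).residueDegree x : ℤ) * Cyc.c1CapFun δ L (Cyc.subschemeFun δ 1 (𝟙 X)) s x := by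
  haveI := Groth.Agent.EulerChar.isLocallyNoetherian k (X := X)
  open Groth.Agent in
  open Groth.Agent.CycLib.Dev in
  obtain ⟨M, -, ⟨e⟩⟩ := PicLaw.exists_inverse hL
  open Groth.Agent in
  open Groth.Agent.CycLib.Dev in
  exact (by
    let D : TwDatum X := ⟨L, M, hL, ProjTwist.tensComm M L ≪≫ e, s, hs⟩
    have hd := isDimFun_delta k hδ
    have hO : Cyc.CohLe δ ((1 : ℕ) : ℤ) (Coh.structureModule X) :=
      ⟨ProperFin.isCoh_structureModule X, fun x _ => delta_le_of_dim k hδ hdim x⟩
    let eL : CohB1.tensorMod (Coh.structureModule X) L ≅ L := ProjTwist.oneTens L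
    have hLe : Cyc.CohLe δ ((1 : ℕ) : ℤ) L := by
      have h := cohLe_tensor' k hL hO
      refine ⟨(CohDev.isCoh_of_iso eL h.1), fun x _ => delta_le_of_dim k hδ hdim x⟩
    have key := twEuler_eq k hδ [D] 1 rfl L hLe
    simp only [twEuler, capIter] at key
    rw [EulerChar.euler_iso k (ProjTwist.tensComm L M ≪≫ ProjTwist.tensComm M L ≪≫ e)] at key
    have hfun : Cyc.sheafFun δ ((1 : ℕ) : ℤ) L = Cyc.subschemeFun δ 1 (𝟙 X) := by
      funext x
      rw [show (1 : ℤ) = 0 + 1 from rfl, CycLib.Dev.subschemeFun_id]
      show (if δ x = ((1 : ℕ) : ℤ) then _ else _) = _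
      obtain ⟨t, ht⟩ := exists_isBas hL x
      rw [← (LinearEquiv.ofBijective _ ht).length_eq]
      rfl
    rw [hfun] at key
    rw [Curv2.deg, Nat.cast_one, one_mul]
    exact key)

end Groth.Agent.S1928
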