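import Groth.Statements.S7638
import Groth.Agent.EulerChar.LocalIndex
import Groth.Agent.EulerChar.Components
import Groth.Agent.ExtPowSt.Stalk
import Groth.Agent.ExtPowSt.Det
import Groth.Agent.LFDesc.Invertible
import Groth.Agent.PullStalk.Basic

set_option autoImplicit false
universe u
open CategoryTheory CategoryTheory.Limits AlgebraicGeometry
open Variety

namespace Groth.Agent.S7638
open TopologicalSpace Groth.Agent.EulerChar Groth.Agent.PullStalk.Sky Groth.Agent.PullStalk.Exact Groth.Agent.Ref1
open Groth.Agent.PullStalk.Basic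
open scoped Matrix

set_option linter.style.haveILetI false

/-- Numerators for finitely many elements of the function field. -/
theorem exists_num {X : Scheme.{u}} [IsIntegral X] (x : X) {n : ℕ}
    (g : Matrix (Fin n) (Fin n) (X.presheaf.stalk (genericPoint X))) :
    ∃ (d : X.presheaf.stalk x) (P : Matrix (Fin n) (Fin n) (X.presheaf.stalk x)), d ≠ 0 ∧
      ∀ i j, spR ((genericPoint_spec X).specializes trivial) d * g i j =
        spR ((genericPoint_spec X).specializes trivial) (P i j) := by
  obtain ⟨b, hb⟩ := IsLocalization.exist_integer_multiples_of_finite (nonZeroDivisors (X.presheaf.stalk x))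
    (S := X.functionField) fun p : Fin n × Fin n => g p.1 p.2
  choose c hc using hb
  exact ⟨b.1, Matrix.of fun i j => c (i, j), nonZeroDivisors.ne_zero b.2, fun i j => (hc (i, j)).symm⟩

/-- On an integral curve, frames with equal determinants give equal degrees. -/
theorem deg_eq_of_frames {X : Scheme.{u}} [IsIntegral X] (k : Type u) [Field k] [X.Over (Spec (CommRingCat.of k))]
    [IsProper (X ↘ Spec (CommRingCat.of k))] (hdim : topologicalKrullDim X = 1)
    {n : ℕ} {E L : X.Modules} (hE : FlatMod.IsFinLocFreeOfRank n E) (hL : FlatMod.IsFinLocFreeOfRank 1 L)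
    (fr : ∀ x : X, (Fin n → X.presheaf.stalk x) ≃ₗ[X.presheaf.stalk x] E.presheaf.stalk x)
    (fr' : ∀ x : X, (Fin 1 → X.presheaf.stalk x) ≃ₗ[X.presheaf.stalk x] L.presheaf.stalk x)
    (hdet : ∀ x : X,
      (fr' (genericPoint X)).symm (sp L ((genericPoint_spec X).specializes trivial) (fr' x (Pi.single 0 1))) 0 =
        (Matrix.of fun i j =>
          (fr (genericPoint X)).symm (sp E ((genericPoint_spec X).specializes trivial) (fr x (Pi.single j 1))) i).det) :
    Curv2.deg k X E n = Curv2.deg k X L 1 := by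
  classical
  haveI := EulerChar.isNoetherian k (X := X)
  have hη : ∀ x : X, genericPoint X ⤳ x := fun x => (genericPoint_spec X).specializes trivial
  choose d P hd hrel using fun x : X => exists_num x (Matrix.of fun i j =>
    (fr (genericPoint X)).symm (sp E (hη x) (fr x (Pi.single j 1))) i)
  have hdetP : ∀ x, spR (hη x) (P x).det = spR (hη x) (d x ^ n) *
      (fr' (genericPoint X)).symm (sp L (hη x) (fr' x (Pi.single 0 1))) 0 := by
    intro x
    rw [RingHom.map_det, hdet x, map_pow]
    have e : (spR (hη x)).mapMatrix (P x) = spR (hη x) (d x) • Matrix.of fun i j =>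
        (fr (genericPoint X)).symm (sp E (hη x) (fr x (Pi.single j 1))) i :=
      Matrix.ext fun i j => (hrel x i j).symm
    rw [e, Matrix.det_smul, Fintype.card_fin]
  have hP : ∀ x, (P x).det ≠ 0 := by
    intro x h
    have hz : (fr' (genericPoint X)).symm (sp L (hη x) (fr' x (Pi.single 0 1))) 0 = 0 := by
      have h1 := hdetP x
      rw [h, map_zero] at h1
      have hi : Function.Injective (spR (hη x)) := IsFractionRing.injective (X.presheaf.stalk x) X.functionField
      exact (mul_eq_zero.1 h1.symm).resolve_left fun e => pow_ne_zero n (hd x) (hi (e.trans (map_zero _).symm))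
    have h2 : sp L (hη x) (fr' x (Pi.single 0 1)) = 0 := (fr' (genericPoint X)).symm.map_eq_zero_iff.1
      (funext fun i => by rw [Subsingleton.elim i 0]; exact hz)
    have h3 : fr' x (Pi.single 0 1) = 0 := by
      obtain ⟨W, hW, m, hm⟩ := exists_germM_eq L x (fr' x (Pi.single 0 1))
      rw [← hm, sp_germ] at h2
      rw [← hm, eq_zero_of_germ_generic hL ((hη x).mem_open W.2 hW) m h2]
      exact map_zero _
    exact one_ne_zero (congrFun ((fr' x).map_eq_zero_iff.1 h3) 0)
  obtain ⟨T₁, hT₁, h₁⟩ := exists_deg_eq_sum k hdim hE fr P d hd hP fun x i j => hrel x i j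
  obtain ⟨T₂, hT₂, h₂⟩ := exists_deg_eq_sum k hdim hL fr' (fun x => Matrix.of fun _ _ => (P x).det)
    (fun x => d x ^ n) (fun x => pow_ne_zero n (hd x)) (fun x => by simpa using hP x) fun x i j => by
      rw [Subsingleton.elim i 0, Subsingleton.elim j 0, Matrix.of_apply, hdetP x]
  have hT : ∀ x ∈ T₁ ∪ T₂, IsClosed ({x} : Set X) := fun x hx => (Finset.mem_union.1 hx).elim (hT₁ x) (hT₂ x)
  rw [h₁ _ hT Finset.subset_union_left, h₂ _ hT Finset.subset_union_right]
  refine Finset.sum_congr rfl fun x _ => ?_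
  simp

/-- Specialisation commutes with the unit of pullback. -/
theorem sp_unitStalkHom {X Y : Scheme.{u}} (f : X ⟶ Y) (M : Y.Modules) {y x : X} (h : y ⤳ x)
    (t : M.presheaf.stalk (f x)) :
    sp ((Scheme.Modules.pullback f).obj M) h (unitStalkHom f M x t) =
      unitStalkHom f M y (sp M (h.map f.continuous) t) := by
  obtain ⟨U, hx, m, rfl⟩ := exists_germM_eq M (f x) t
  rw [sp_germ, unitStalkHom_germ]
  try rw [unitStalkHom_germ]
  exact sp_germ _ h (show x ∈ f ⁻¹ᵁ U from hx) _

/-- The frame pulled back. -/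
theorem exists_frame_pullback {X Y : Scheme.{u}} (f : X ⟶ Y) {M : Y.Modules} {n : ℕ} (x : X)
    (b : Module.Basis (Fin n) (Y.presheaf.stalk (f x)) (M.presheaf.stalk (f x))) :
    ∃ e : (Fin n → X.presheaf.stalk x) ≃ₗ[X.presheaf.stalk x] ((Scheme.Modules.pullback f).obj M).presheaf.stalk x,
      ∀ j, e (Pi.single j 1) = unitStalkHom f M x (b j) := by
  let := (f.stalkMap x).hom.toAlgebra
  let := moduleOver f M x
  have : IsScalarTower (Y.presheaf.stalk (f x)) (X.presheaf.stalk x)
      (((Scheme.Modules.pullback f).obj M).presheaf.stalk x) :=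
    IsScalarTower.of_algebraMap_smul fun _ _ => rfl
  refine ⟨((isBaseChange_unitStalk f M x).basis b).equivFun.symm, fun j => ?_⟩
  rw [Module.Basis.equivFun_symm_apply, Finset.sum_eq_single j (fun l _ hl => by rw [Pi.single_eq_of_ne hl, zero_smul])
    (fun h => absurd (Finset.mem_univ j) h), Pi.single_eq_same, one_smul, IsBaseChange.basis_apply]
  rfl

/-- The generator of the determinant specialises by the determinant. -/
theorem det_sp {X : Scheme.{u}} {n : ℕ} {E L : X.Modules} [E.IsQuasicoherent] (Φ : ExtPowSt.Sys n E L)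
    {y x : X} (h : y ⤳ x) (b : Module.Basis (Fin n) (X.presheaf.stalk x) (E.presheaf.stalk x))
    (c : Module.Basis (Fin n) (X.presheaf.stalk y) (E.presheaf.stalk y)) :
    sp L h ((ExtPowSt.stalkEquiv Φ x).symm (exteriorPower.ιMulti _ n b)) =
      (c.det fun j => sp E h (b j)) • (ExtPowSt.stalkEquiv Φ y).symm (exteriorPower.ιMulti _ n c) := by
  refine (ExtPowSt.stalkEquiv Φ y).injective ?_
  refine ((ExtPowSt.stalkEquiv_sp Φ h _).trans ?_).trans (LinearEquiv.map_smul _ _ _).symm
  rw [LinearEquiv.apply_symm_apply, LinearEquiv.apply_symm_apply, ExtPowSt.extσ_ιMulti]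
  exact ExtPowSt.ιMulti_eq_det_smul c _

/-- Pullbacks keep the rank. -/
theorem ofRank_pull {X Y : Scheme.{u}} (f : X ⟶ Y) {M : Y.Modules} {n : ℕ} (h : FlatMod.IsFinLocFreeOfRank n M) :
    FlatMod.IsFinLocFreeOfRank n ((Scheme.Modules.pullback f).obj M) := fun x => by
  obtain ⟨U, hU, ⟨e⟩⟩ := h (f x)
  exact ⟨f ⁻¹ᵁ U, hU, ⟨KFlat.LocFree.restrictPullIso f U _ le_rfl M ≪≫
    (Scheme.Modules.pullback _).mapIso e ≪≫ KFlat.LocFree.pullFreeIso _ n⟩⟩

/-- The transition matrix pulled back. -/
theorem coord_pullback {X Y : Scheme.{u}} (f : X ⟶ Y) {M : Y.Modules} {n : ℕ} {y x : X} (h : y ⤳ x)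
    (by' : Module.Basis (Fin n) (Y.presheaf.stalk (f y)) (M.presheaf.stalk (f y)))
    (e : (Fin n → X.presheaf.stalk y) ≃ₗ[X.presheaf.stalk y] ((Scheme.Modules.pullback f).obj M).presheaf.stalk y)
    (he : ∀ j, e (Pi.single j 1) = unitStalkHom f M y (by' j)) (t : M.presheaf.stalk (f x)) (i : Fin n) :
    e.symm (sp ((Scheme.Modules.pullback f).obj M) h (unitStalkHom f M x t)) i =
      f.stalkMap y (by'.repr (sp M (h.map f.continuous) t) i) := by
  classical
  rw [sp_unitStalkHom]
  conv_lhs => rw [← by'.sum_repr (sp M (h.map f.continuous) t)]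
  rw [map_sum, map_sum, Finset.sum_apply, Finset.sum_eq_single i]
  · rw [unitStalkHom_smul, map_smul, ← he, LinearEquiv.symm_apply_apply]
    simp
  · intro l _ hl
    rw [unitStalkHom_smul, map_smul, ← he, LinearEquiv.symm_apply_apply]
    simp [Pi.single_eq_of_ne hl.symm]
  · exact fun h => absurd (Finset.mem_univ i) h


/-- Let X be proper of dimension at most one over a field k, let E be finite locally free of rank n and
let L be an n-th exterior power of E (its determinant). Then deg(E) = deg(L), the latter computed as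
a module of rank one. -/
theorem result (k : Type u) [Field k] (X : Scheme.{u}) [X.Over (Spec (CommRingCat.of k))] [IsProper (X ↘ (Spec (CommRingCat.of k)))]
    (hdim : topologicalKrullDim X ≤ 1) (n : ℕ) (E : X.Modules) (hE : FlatMod.IsFinLocFreeOfRank n E)
    (L : X.Modules) (hL : ExtPow.IsExtPow n E L) :
    Curv2.deg k X E n = Curv2.deg k X L 1 := by
  classical
  haveI := EulerChar.isNoetherian k (X := X)
  have hEc := VBLib.isCoh_of_ofRank hE
  haveI := hEc.1
  obtain ⟨φ, hφ⟩ := hL
  let Φ : ExtPowSt.Sys n E L := ⟨φ, hφ⟩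
  -- frames of the stalks
  let bE : ∀ x : X, Module.Basis (Fin n) (X.presheaf.stalk x) (E.presheaf.stalk x) := fun x =>
    Module.Basis.ofEquivFun (stalk_ofRank hE x).some.symm
  have hω : ∀ x : X, ∃ b : Module.Basis (Fin 1) (X.presheaf.stalk x) (L.presheaf.stalk x),
      ∀ i, b i = (ExtPowSt.stalkEquiv Φ x).symm (exteriorPower.ιMulti _ n (bE x)) := fun x =>
    ⟨Module.Basis.ofEquivFun (((LinearEquiv.funUnique (Fin 1) (X.presheaf.stalk x) (X.presheaf.stalk x)).trans
      (LinearEquiv.ofBijective _ (ExtPowSt.bijective_smul_ιMulti (bE x)))).trans (ExtPowSt.stalkEquiv Φ x).symm).symm,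
      fun i => by
        simp [Module.Basis.coe_ofEquivFun, Subsingleton.elim i 0]⟩
  choose bL hbL using hω
  have hLc := ExtPowSt.isCoh Φ hEc
  haveI := hLc.1
  have hL' : FlatMod.IsFinLocFreeOfRank 1 L := ProjTwist.isFinLocFreeOfRank_one
    (LFDesc.isInvertible_of_stalks L (fun U hU => (QCoh.isFiniteType_iff L).mp hLc.2 U hU) fun x => ⟨bL x⟩)
  rw [deg_eq_sum k hdim hE, deg_eq_sum k hdim hL']
  refine finsum_congr fun Z => ?_
  split_ifs with hZ
  swap
  · rfl
  congr 1
  obtain ⟨ξ, hξ⟩ : ∃ ξ : X, IsGenericPoint ξ Z.1 := ⟨Z.2.1.genericPoint, by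
    have h := Z.2.1.isGenericPoint_genericPoint_closure
    rwa [(isClosed_of_mem_irreducibleComponents Z.1 Z.2).closure_eq] at h⟩
  rw [radical_componentIdeal Z.2 hξ]
  let i := (IntMult.ptIdeal ξ).subschemeι
  letI : (IntMult.ptIdeal ξ).subscheme.Over (Spec (CommRingCat.of k)) := ⟨i ≫ (X ↘ Spec (CommRingCat.of k))⟩
  haveI : IsProper ((IntMult.ptIdeal ξ).subscheme ↘ Spec (CommRingCat.of k)) :=
    inferInstanceAs (IsProper (i ≫ (X ↘ Spec (CommRingCat.of k))))
  haveI : IsIntegral (IntMult.ptIdeal ξ).subscheme :=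
    Groth.Agent.S16188.isIntegral_subscheme _ isIrreducible_singleton.closure
  have hd1 : topologicalKrullDim (IntMult.ptIdeal ξ).subscheme = 1 := by
    have hr : Set.range i = Z.1 := by
      rw [Scheme.IdealSheafData.range_subschemeι]
      exact (CohDev.coe_support_ptIdeal ξ).trans hξ.def
    rw [← hZ, ← hr]
    exact IsHomeomorph.topologicalKrullDim_eq _ i.isEmbedding.toHomeomorph.isHomeomorph
  choose fr hfr using fun z => exists_frame_pullback i (M := E) z (bE (i z))
  choose fr' hfr' using fun z => exists_frame_pullback i (M := L) z (bL (i z))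
  refine deg_eq_of_frames k hd1 (ofRank_pull i hE)
    (ofRank_pull i hL') fr fr' fun z => ?_
  have hs : i (genericPoint (IntMult.ptIdeal ξ).subscheme) ⤳ i z :=
    ((genericPoint_spec _).specializes trivial).map i.continuous
  set η := genericPoint (IntMult.ptIdeal ξ).subscheme
  rw [hfr', coord_pullback i _ (bL (i η)) (fr' η) (hfr' η)]
  have hG : (Matrix.of fun a c => (fr η).symm (sp _ ((genericPoint_spec _).specializes trivial) (fr z (Pi.single c 1))) a) =
      (i.stalkMap η).hom.mapMatrix ((bE (i η)).toMatrix fun c => sp E hs (bE (i z) c)) := by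
    refine Matrix.ext fun a c => ?_
    rw [Matrix.of_apply, hfr, coord_pullback i _ (bE (i η)) (fr η) (hfr η)]
    rfl
  rw [hG, ← RingHom.map_det]
  refine congrArg (i.stalkMap η).hom ?_
  have hkey := det_sp Φ hs (bE (i z)) (bE (i η))
  rw [← hbL (i z) 0, ← hbL (i η) 0] at hkey
  rw [hkey, map_smul, Module.Basis.repr_self, Finsupp.smul_single', Finsupp.single_eq_same, mul_one,
    Module.Basis.det_apply]

end Groth.Agent.S7638
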