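import Groth.Statements.S12672
import Groth.Agent.S1855
import Groth.Agent.S1928
import Groth.Agent.S7638
import Groth.Agent.S14508
import Groth.Agent.S12654
import Groth.Agent.CycLib.DevDeg
import Groth.Agent.CycLib.MapLib
import Groth.Agent.CycLib.ChowOp.DetFilt
import Groth.Agent.ExtPowSt.Exists
import Groth.Agent.IntMult66.ExcessDiv
-- import your own Groth.Agent.* helpers here

set_option autoImplicit false
universe u
open CategoryTheory CategoryTheory.Limits AlgebraicGeometry
open Cyc

namespace Groth.Agent.S12672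

/-- Let X be proper over a field K with dim X ≤ 1 and E a finite locally free O_X-module of constant
rank r. Then deg(E) = deg(c_1(E) ∩ [X]_1), where deg(E) = χ(X, E) - r·χ(X, O_X) (Curv2.deg) and the
right side is the degree (ChowOps.deg, pushforward to the point) of a representative of c_1(E) ∩
[X]_1, [X]_1 being the 1-cycle of X (Cyc.subschemeFun); for r = 0 both sides are 0. Dimension
function: transcendence degree over K. (This is the general constant-rank case; the invertible case
is a separate result stated with c_1(L) ∩ - of an invertible module.) Setting: (X, δ) with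
Cyc.IsSetup stands for a scheme locally of finite type over the base (S, δ) (X locally Noetherian
with universally catenary local rings, δ a dimension function); (p : P → X, O_P(1), q) is the
projective bundle of E given by its universal property (KRR.IsProjBundle), p is proper and δP is the
induced dimension function (Cyc.DeltaCompat); a tuple γ with Cyc.IsChernCap represents (c_0(E) ∩ α,
…, c_r(E) ∩ α) through the defining relation Σ_i (-1)^i c_1(O_P(1))^i ∩ p^*(γ_{r-i}) ∼_rat 0 on P,
and classes are compared up to rational equivalence of representing cycles. -/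
theorem result (K : Type u) [Field K] (X : Scheme.{u}) [X.Over (Spec (CommRingCat.of K))] [IsProper (X ↘ Spec (CommRingCat.of K))] (hdim : topologicalKrullDim X ≤ 1) (δ : X → ℤ) (hX : Cyc.IsSetup X δ) (hK : Cyc.DeltaCompat (X ↘ Spec (CommRingCat.of K)) δ (fun _ => 0)) (r : ℕ) (E : X.Modules) (hPE : FlatMod.IsFinLocFreeOfRank r E) (P : Scheme.{u}) (p : P ⟶ X) (O1 : P.Modules) (q : (Scheme.Modules.pullback p).obj E ⟶ O1) (hP : KRR.IsProjBundle p E O1 q) [IsProper p] (δP : P → ℤ) (hPs : Cyc.IsSetup P δP) (hδ : Cyc.DeltaCompat p δP δ) (α : AlgebraicCycle X ℤ) (hα : ⇑α = Cyc.subschemeFun δ 1 (𝟙 X)) (γ : Fin (r + 1) → AlgebraicCycle X ℤ) (hγ : Cyc.IsChernCap p δ δP O1 r 1 α γ) : Curv2.deg K X E r = (if h : 1 ≤ r then ChowOps.deg (X ↘ Spec (CommRingCat.of K)) δ (γ ⟨1, Nat.lt_succ_of_le h⟩) else 0) := by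
  classical
  haveI := hX.1
  rcases r with _ | r
  · rw [dif_neg (by omega), Curv2.deg, Nat.cast_zero, zero_mul, sub_zero]
    exact EulerChar.euler_of_isZero K (CycLib.VecBdl.isZero_of_rank_zero hPE)
  rw [dif_pos (by omega)]
  haveI hq : E.IsQuasicoherent :=
    PerfTri.Betti.isQuasicoherent_of_isFinLocFree (FinCov71.isFinLocFree_of_rank hPE)
  obtain ⟨L, hL⟩ := ExtPowSt.Exists.exists_isExtPow (r + 1) E
  have hLi := CycLib.ChowOp.isInvertible_extPow hPE hL
  choose σ hσ using fun x => CycLib.Dev.exists_isBas hLi x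
  let s : (ξ : X) → Cyc.secFibre L ξ := fun ξ => Submodule.Quotient.mk (σ ξ)
  have hs : ∀ ξ, s ξ ≠ 0 := fun ξ => CycLib.Dev.mk_ne_zero_of_isBas (hσ ξ)
  rw [Groth.Agent.S7638.result K X hdim (r + 1) E hPE L hL, Groth.Agent.S1928.result K X hdim δ hK L hLi s hs]
  have hαZ : α ∈ Cyc.Zk X δ 1 := fun x hx => by
    rw [hα]; simp [Cyc.subschemeFun, hx]
  have hαc := CycLib.Dev.IsCyc.of_cycle _ hαZ
  have hβc := CycLib.Dev.isCyc_c1 (k := (1 : ℤ) - 1) hX.2.2 hLi (by simpa using hαc) s hs
  obtain ⟨β, hβZ, hβ⟩ := hβc.exists_cycle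
  have heq := Groth.Agent.S14508.result X δ hX E r hPE P p O1 q hP δP hPs hδ 1 α hαZ γ hγ L hL s hs β hβ
  have hγZ : γ 1 ∈ Cyc.Zk X δ (1 - 1) := by simpa using hγ.2.1 1
  obtain ⟨ι, ξ, f, h1, -, -, h4⟩ := Groth.Agent.S1855.result X (Spec (CommRingCat.of K)) δ (fun _ => 0) hX
    (Groth.Agent.S12654.isSetup_point K) (X ↘ Spec (CommRingCat.of K)) hK _ (γ 1) β hγZ hβZ heq
  haveI : IsEmpty ι := ⟨fun i => by have := h1 i; simp only [] at this; omega⟩
  have h5 := h4 (IsLocalRing.closedPoint K)
  rw [finsum_of_isEmpty] at h5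
  show _ = ChowOps.deg _ δ (γ 1)
  have hdeg : ChowOps.deg (X ↘ Spec (CommRingCat.of K)) δ (γ 1) = ChowOps.deg (X ↘ Spec (CommRingCat.of K)) δ β :=
    sub_eq_zero.1 h5
  rw [hdeg, ← hα, ← hβ, ChowOps.deg]
  have hc0 : CycLib.Dev.IsCyc δ 0 ⇑β := by rw [hβ]; simpa using hβc
  have hfin := hc0.finite_support K
  refine Eq.trans ?_ (CycLib.map_apply_eq_sum (X ↘ Spec (CommRingCat.of K)) δ (fun _ => (0 : ℤ)) β
    (IsLocalRing.closedPoint K : Spec (CommRingCat.of K)) hfin.toFinset
    fun x _ hx => hfin.mem_toFinset.2 hx).symm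
  have hP' : ∀ x : X, (X ↘ Spec (CommRingCat.of K)) x = (IsLocalRing.closedPoint K : Spec (CommRingCat.of K)) :=
    fun x => Subsingleton.elim (α := PrimeSpectrum K) _ _
  refine Eq.trans ?_ (Finset.sum_congr (Finset.filter_true_of_mem fun x _ => hP' x).symm fun _ _ => rfl)
  rw [finsum_eq_sum_of_support_subset _ (s := hfin.toFinset) fun x hx => by
    rw [Set.Finite.coe_toFinset]; exact fun h0 => hx (by simp [h0])]
  refine Finset.sum_congr rfl fun x hx => ?_
  have hx0 : δ x = 0 := not_not.1 fun h => (hfin.mem_toFinset.1 hx) (hc0.zero x h)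
  rw [AlgebraicCycle.mapCoeff, if_pos hx0, mul_comm]

end Groth.Agent.S12672
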