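import Groth.Statements.S12674
import Groth.Agent.CycLib.RelTop.Main
import Groth.Agent.CycLib.DualBdl.Local
import Groth.Agent.CycLib.DualBdl.Shift
-- import your own Groth.Agent.* helpers here

set_option autoImplicit false
universe u
open CategoryTheory CategoryTheory.Limits AlgebraicGeometry
attribute [local instance] HasDerivedCategory.standard
open Cyc

namespace Groth.Agent.S12674

set_option linter.style.haveILetI false
set_option maxHeartbeats 1600000

open Groth.Agent.CycLib Groth.Agent.CycLib.Dev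

/-- For a short exact sequence 0 → N' → N → E → 0 of finite locally free O_X-modules of constant ranks
r', r' + e and e, write π : V = Spec Sym(N^∨) → X and π' : V' = Spec Sym((N')^∨) → X for the
associated vector bundles and i : V' → V for the closed immersion induced by the dual map N^∨ →
(N')^∨. Then i_*((π')^*α) = π^*(c_e(E) ∩ α) in CH_{k+r'}(V) for every k-cycle α on X (c_e = c_top
for constant rank e). The duals are Hom_{O_X}(-, O_X) (DCoh.sheafHom, existence carried as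
hypotheses), the vector bundles are the relative spectra of their symmetric algebras
(RelSpec.IsSymAlg, RelSpec.QCAlg.spec), i is RelSpec.QCAlg.specMap of the algebra map extending the
dual N^∨ → (N')^∨ of N' → N (the mate of N' ⊗ - → N ⊗ - under the tensor-Hom adjunctions), its being
a closed immersion is carried as a hypothesis, and flat pullbacks are coefficientwise with the
induced dimension functions. (The published statement allows nonconstant ranks through c_top;
constant ranks are stated here.) Setting: (X, δ) with Cyc.IsSetup stands for a scheme locally of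
finite type over the base (S, δ) (X locally Noetherian with universally catenary local rings, δ a
dimension function); (p : P → X, O_P(1), q) is the projective bundle of E given by its universal
property (KRR.IsProjBundle), p is proper and δP is the induced dimension function (Cyc.DeltaCompat);
a tuple γ with Cyc.IsChernCap represents (c_0(E) ∩ α, …, c_r(E) ∩ α) through the defining relation
Σ_i (-1)^i c_1(O_P(1))^i ∩ p^*(γ_{r-i}) ∼_rat 0 on P, and classes are compared up to rational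
equivalence of representing cycles. -/
theorem result (X : Scheme.{u}) (δ : X → ℤ) (hX : Cyc.IsSetup X δ) (r' e : ℕ) (N' N E : X.Modules) (hN' : FlatMod.IsFinLocFreeOfRank r' N') (hN : FlatMod.IsFinLocFreeOfRank (r' + e) N) (hPE : FlatMod.IsFinLocFreeOfRank e E) (P : Scheme.{u}) (p : P ⟶ X) (O1 : P.Modules) (q : (Scheme.Modules.pullback p).obj E ⟶ O1) (hP : KRR.IsProjBundle p E O1 q) [IsProper p] (δP : P → ℤ) (hPs : Cyc.IsSetup P δP) (hδ : Cyc.DeltaCompat p δP δ) (a : N' ⟶ N) (b : N ⟶ E) (hab : a ≫ b = 0) (hex : (ShortComplex.mk a b hab).ShortExact) [DCoh.HasSheafHom N] [DCoh.HasSheafHom N'] (hqN : Coh.IsQCoh ((DCoh.sheafHom N).obj (Coh.structureModule X))) (hqN' : Coh.IsQCoh ((DCoh.sheafHom N').obj (Coh.structureModule X))) (A : RelSpec.QCAlg X) (j : ((DCoh.sheafHom N).obj (Coh.structureModule X)) ⟶ A.toModule) (hA : RelSpec.IsSymAlg ((DCoh.sheafHom N).obj (Coh.structureModule X)) A j) (A' : RelSpec.QCAlg X) (j' : ((DCoh.sheafHom N').obj (Coh.structureModule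 X)) ⟶ A'.toModule) (hA' : RelSpec.IsSymAlg ((DCoh.sheafHom N').obj (Coh.structureModule X)) A' j') (φ : A ⟶ A') (hφ : j ≫ RelSpec.QCAlg.Hom.toModuleMap φ = ((CategoryTheory.conjugateEquiv (DCoh.sheafHomAdj N) (DCoh.sheafHomAdj N')) ((DCoh.tensorBi (X := X)).map a)).app (Coh.structureModule X) ≫ j') [IsClosedImmersion (RelSpec.QCAlg.specMap φ)] (δV : ↥A.spec → ℤ) (hV : Cyc.IsSetup A.spec δV) (hpδ : Cyc.DeltaCompat A.π δV δ) (δV' : ↥A'.spec → ℤ) (hV' : Cyc.IsSetup A'.spec δV') (hp'δ : Cyc.DeltaCompat A'.π δV' δ) (k : ℤ) (α : AlgebraicCycle X ℤ) (hα : α ∈ Cyc.Zk X δ k) (γ : Fin (e + 1) → AlgebraicCycle X ℤ) (hγ : Cyc.IsChernCap p δ δP O1 e k α γ) (β' : AlgebraicCycle A'.spec ℤ) (hβ' : ⇑β' = Cyc.pullFun A'.π δV' δ (r' : ℤ) ⇑α) (β : AlgebraicCycle A.spec ℤ) (hβ : ⇑β = Cyc.pullFun A.π δV δ ((r' : ℤ) + e) ⇑(γ (Fin.last e))) : Cyc.RatEquiv δV (k + r') (AlgebraicCycle.map (RelSpec.QCAlg.specMap φ) δV' δV β') β := by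
  haveI := hX.1
  haveI := hV.1
  haveI := hV'.1
  haveI : N.IsQuasicoherent := PerfTri.Betti.isQuasicoherent_of_isFinLocFree (ChowOp.isFinLocFree_of_rank hN)
  haveI : N'.IsQuasicoherent := PerfTri.Betti.isQuasicoherent_of_isFinLocFree (ChowOp.isFinLocFree_of_rank hN')
  haveI : (DualBdl.dualM N).IsQuasicoherent := hqN
  haveI : (DualBdl.dualM N').IsQuasicoherent := hqN'
  obtain ⟨hfl, hlft, hs, hrd⟩ := DualBdl.shift_vectorBundle hqN (DualBdl.isFinLocFreeOfRank_dual hN) hA hX hpδ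
  obtain ⟨hfl', -, hs', -⟩ := DualBdl.shift_vectorBundle hqN' (DualBdl.isFinLocFreeOfRank_dual hN') hA' hX hp'δ
  haveI := hfl
  haveI := hlft
  have hpi : RelSpec.QCAlg.specMap φ ≫ A.π = A'.π := RelSpec.QCAlg.specMap_π φ
  have hj : ∀ d, δV' d = δV (RelSpec.QCAlg.specMap φ d) := by
    have h2 : Cyc.DeltaCompat A'.π (fun d => δV (RelSpec.QCAlg.specMap φ d)) δ :=
      hpi ▸ deltaCompat_comp (deltaCompat_preimmersion (RelSpec.QCAlg.specMap φ) δV) hpδ
    intro d
    obtain ⟨n, hn, hn'⟩ := hp'δ d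
    obtain ⟨m, hm, hm'⟩ := h2 d
    have : n = m := Nat.cast_injective (R := Cardinal) (hn.symm.trans hm)
    simp only at hm'
    omega
  obtain ⟨σ, hσ⟩ := DualBdl.exists_sect (E := E) j b hN
  obtain ⟨hker, htop, hreg⟩ := DualBdl.sect_local φ a b hab hex hN' hPE hA hA' hφ σ hσ
  have hEV := ProjBdl.isFinLocFreeOfRank_pullback A.π hPE
  let c : ℤ := (r' : ℤ) + e
  have hle : ∀ v, δV v ≤ δ (A.π v) + c := fun v => by
    have := hs.le hV.2.2 v
    simp only [c]
    push_cast at this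
    omega
  have h3 : ∀ v, ZeroTop.zJ _ σ v ≠ ⊤ → δV v ≤ δ (A.π v) + (c - e) := fun v hv => by
    obtain ⟨d, rfl⟩ : v ∈ Set.range (RelSpec.QCAlg.specMap φ) := by
      by_contra h
      exact hv (htop v h)
    rw [← hj, ← Scheme.Hom.comp_apply, hpi]
    have := hs'.le hV'.2.2 d
    simp only [c]
    omega
  obtain ⟨T, l, hl, hlf⟩ := ChowOp.exists_split_one (hX := hV) hEV
  have hα' := IsCyc.of_cycle α hα
  have key := RelTop.pull_relTopEq hX.2.2 T.hY hV T.f T.hs A.π hle hEV hl hlf σ h3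
    (fun v _ hv => hreg v hv) hα'
  -- the composite
  let hsg : ShiftBy (T.f ≫ A.π) T.δY δ (((r' + e : ℕ) : ℤ) + T.c) := T.hs.comp hs
  have hsg' : ShiftBy (T.f ≫ A.π) T.δY δ ((T.c + (r' + e) : ℕ) : ℤ) := fun x hx => by
    rw [hsg x hx]; push_cast; ring
  have hcg := (S1857.result T.Y A.spec X T.δY δV δ T.hY hV hX T.f A.π T.c (r' + e) T.hc hrd T.hf hpδ 0).1
  have hchern := ChowOp.pull_chern T.hY hX (T.f ≫ A.π) hcg (deltaCompat_comp T.hf hpδ) hsg' hPE hP hPs hδ hl
    (hlf.of_iso ((Scheme.Modules.pullbackComp T.f A.π).app E).symm) hα hγ (Fin.last e)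
  have hpull : ∀ x, ChowOp.pull T.hY hX (T.f ≫ A.π) hsg' x = T.pl hV (ChowOp.pull hV hX A.π hs x) := fun x => by
    rw [← ChowOp.pull_comp hV hX A.π hs T.hY T.f T.hs hsg]
    exact ChowOp.pull_congr T.hY hX (T.f ≫ A.π) hsg' hsg (by push_cast; ring) x
  have hγ' : IsCyc δ (k - e) ⇑(γ (Fin.last e)) := by
    rcases Nat.eq_zero_or_pos e with rfl | he
    · rw [show Fin.last 0 = 0 from rfl, hγ.1, Nat.cast_zero, sub_zero]; exact hα'
    · simpa using IsCyc.of_cycle _ (hγ.2.1 (Fin.last e))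
  rw [hpull, hpull, Fin.val_last] at hchern
  have hbot : ⇑β' = RelTop.relFun (RelSpec.QCAlg.specMap φ ≫ A.π) δV' (k + r') ⇑α fun _ => ⊥ := by
    rw [hβ', RelTop.pullFun_eq_relFun _ hα', hpi]
  have hmap : ⇑(AlgebraicCycle.map (RelSpec.QCAlg.specMap φ) δV' δV β') =
      RelTop.relFun A.π δV (k + r') ⇑α (ZeroTop.zJ _ σ) := by
    rw [ChowOp.map_eq_ext0 _ hj, hbot, RelTop.ext0_relFun A.π _ hj (k + r') ⇑α (ZeroTop.zJ _ σ) (fun _ => ⊥)
      (fun d => by rw [hker d]; exact ((Ideal.map_eq_bot_iff_le_ker _).2 le_rfl).symm) (fun d => (hker d).ge) htop]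
  have hcm : IsCyc δV (k + r') (RelTop.relFun A.π δV (k + r') ⇑α (ZeroTop.zJ _ σ)) :=
    RelTop.isCyc_relFun A.π hX.2.2 hV.2.2 hα' _ (ZeroTop.isClosed_zJ hEV σ) (fun x hx => by simpa using hx)
      fun v hv => (h3 v hv).trans (le_of_eq (by simp only [c]; ring))
  have hcb : IsCyc δV (k + r') ⇑β := by
    rw [hβ]
    have h := ShiftC1.isCyc_pull A.π hV.2.2 hs hγ'
    push_cast at h
    rwa [show k - (e : ℤ) + ((r' : ℤ) + e) = k + r' by ring] at h
  refine T.ratEquiv (fun x hx => hmap ▸ hcm.zero x hx) (fun x hx => hcb.zero x hx) ?_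
  have e1 : ChowOp.pull hV hX A.π hs (ChowOp.cls hX.2.2 k ⇑α) =
      ChowOp.cls hV.2.2 (k + c) (RelTop.relFun A.π δV (k + c) ⇑α fun _ => ⊥) := by
    rw [ChowOp.pull_cls hV hX A.π hs hα', RelTop.pullFun_eq_relFun _ hα']
    push_cast
    rfl
  have e2 : ChowOp.pull hV hX A.π hs (ChowOp.cls hX.2.2 (k - e) ⇑(γ (Fin.last e))) =
      ChowOp.cls hV.2.2 (k + r') ⇑β := by
    rw [ChowOp.pull_cls hV hX A.π hs hγ', hβ]
    push_cast
    rw [show k - (e : ℤ) + ((r' : ℤ) + e) = k + r' by ring]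
  rw [e1, e2, ← key] at hchern
  rw [hmap]
  refine Eq.trans ?_ hchern.symm
  simp only [c, add_sub_cancel_right]

end Groth.Agent.S12674
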