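import Groth.Statements.S12675
import Groth.Agent.CycLib.ProjBdl.Filtered
import Groth.Agent.CycLib.ProjBdl.OfKRR
-- import your own Groth.Agent.* helpers here

set_option autoImplicit false
universe u
open CategoryTheory CategoryTheory.Limits AlgebraicGeometry
open Cyc

namespace Groth.Agent.S12675

/-- Suppose X is integral of δ-dimension n and L is an O_X-module that is invertible; then L's first
Chern class on X, taken in the sense of the projective-bundle characterisation (rank r = 1), agrees
with the Weil divisor class c_1(L) ∩ [X] of L (the divisor of a nonzero rational section,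
Cyc.c1CapFun on the cycle [X]_n). The projective bundle of L is given abstractly by its universal
property, so the identification P(L) = X, O(1) = L is part of what is asserted. Setting: (X, δ) with
Cyc.IsSetup stands for a scheme locally of finite type over the base (S, δ) (X locally Noetherian
with universally catenary local rings, δ a dimension function); (p : P → X, O_P(1), q) is the
projective bundle of E given by its universal property (KRR.IsProjBundle), p is proper and δP is the
induced dimension function (Cyc.DeltaCompat); a tuple γ with Cyc.IsChernCap represents (c_0(E) ∩ α,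
…, c_r(E) ∩ α) through the defining relation Σ_i (-1)^i c_1(O_P(1))^i ∩ p^*(γ_{r-i}) ∼_rat 0 on P,
and classes are compared up to rational equivalence of representing cycles. -/
theorem result (X : Scheme.{u}) (δ : X → ℤ) (hX : Cyc.IsSetup X δ) [IsIntegral X] (n : ℤ) (hn : δ (genericPoint X) = n) (L : X.Modules) (hL : PicF.IsInvertible L) (hPE : FlatMod.IsFinLocFreeOfRank 1 L) (P : Scheme.{u}) (p : P ⟶ X) (O1 : P.Modules) (q : (Scheme.Modules.pullback p).obj L ⟶ O1) (hP : KRR.IsProjBundle p L O1 q) [IsProper p] (δP : P → ℤ) (hPs : Cyc.IsSetup P δP) (hδ : Cyc.DeltaCompat p δP δ) (α : AlgebraicCycle X ℤ) (hα : ⇑α = Cyc.subschemeFun δ n (𝟙 X)) (γ : Fin 2 → AlgebraicCycle X ℤ) (hγ : Cyc.IsChernCap p δ δP O1 1 n α γ) (s : (ξ : X) → Cyc.secFibre L ξ) (hs : ∀ ξ, s ξ ≠ 0) (β : AlgebraicCycle X ℤ) (hβ : ⇑β = Cyc.c1CapFun δ L ⇑α s) : Cyc.RatEquiv δ (n - 1) (γ 1) β := by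
  classical
  haveI := hX.1
  haveI := hPs.1
  obtain ⟨C⟩ := CycLib.ProjBdl.exists_cov_of_isProjBundle hP le_rfl hPE
  haveI := hP.epi
  have hinv := Desc44.ProjBundle.isInvertible_of_rank_one hP.invertible
  have hαk : α ∈ Cyc.Zk X δ n := fun x hx => by rw [hα, Cyc.subschemeFun, if_neg hx]
  obtain ⟨Z, hZ⟩ : ∃ Z : X.Modules, IsZero Z := ⟨_, isZero_zero X.Modules⟩
  let M : Fin 2 → X.Modules := Fin.cons Z fun _ => L
  let a : ∀ i : Fin 1, M (Fin.castSucc i) ⟶ M (Fin.succ i) := fun _ => 0
  let b : ∀ i : Fin 1, M (Fin.succ i) ⟶ L := fun i => eqToHom (by simp [M])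
  have hex : ∀ i, (ShortComplex.mk (a i) (b i) (zero_comp (f := b i))).ShortExact := fun i => by
    have hi : i = 0 := Subsingleton.elim i 0
    subst hi
    haveI : IsIso (b 0) := inferInstanceAs (IsIso (eqToHom _))
    haveI : Mono (a 0) := ⟨fun g g' _ => hZ.eq_of_tgt g g'⟩
    refine { exact := ?_, mono_f := inferInstanceAs (Mono (a 0)), epi_g := inferInstanceAs (Epi (b 0)) }
    exact ShortComplex.exact_of_f_is_kernel _ (KernelFork.IsLimit.ofι (a 0) _
      (fun g _ => 0) (fun g hg => by
        have h0 : g = 0 := by rw [← cancel_mono (b 0), zero_comp]; exact hg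
        rw [h0, zero_comp]) (fun g _ m _ => hZ.eq_of_tgt _ _))
  let κ : Finset (Fin 1) → AlgebraicCycle X ℤ := fun I => if I = ∅ then α else β
  have h := C.filtered_isChernCap le_rfl hX hPs.2.2 hδ q hinv M hZ (Iso.refl L) (fun _ => L) (fun _ => hL) a b
    (fun i => zero_comp) hex n α hαk (fun _ => s) (fun _ => hs) κ (if_pos rfl) fun I i hi => by
      have hI : I = ∅ := Finset.eq_empty_of_forall_notMem fun i' hi' => by
        have := hi i' hi'
        exact absurd (Subsingleton.elim i' i) this.ne
      subst hI
      simp [κ, hβ]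
  have hr := C.chern_ratEquiv le_rfl hX hPs hδ hinv n α α
    (by rw [Cyc.RatEquiv, CycLib.Dev.ratEquivZero_iff hX.2.2, sub_self]; exact zero_mem _) γ _ hγ h 1
  simpa [κ, Finset.powersetCard_one] using hr

end Groth.Agent.S12675
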