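import Groth.Statements.S12676
import Groth.Agent.IntMult66.Graph
import Groth.Agent.S1855
import Groth.Agent.CycLib.DevChange
import Groth.Agent.CycLib.P1Cut
import Groth.Agent.ProjProper.Basic

set_option autoImplicit false
universe u
open CategoryTheory CategoryTheory.Limits AlgebraicGeometry
attribute [local instance] HasDerivedCategory.standard
open IntMult

namespace Groth.Agent.S12676

/-- Let f : X → Y be a morphism of nonsingular projective varieties over an algebraically closed field
and define f^*α = pr_{X,*}(Γ_f · pr_Y^*α) on Chow groups, with Γ_f ⊂ X × Y the graph and · the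
intersection product of the nonsingular projective variety X × Y. If f is flat, f^*α agrees with the
flat pullback of α (relative dimension dim X - dim Y). Here X, Y and X × Y are nonsingular varieties
over the algebraically closed field K (smooth, separated, quasi-compact, integral) embedded as
closed subschemes of projective spaces over K, with dimension functions the transcendence degree
(Cyc.IsSetup, Cyc.DeltaCompat to Spec K with value 0) and dimensions pinned at the generic points;
the product on CH_*(X × Y) is any mul with ChowOps.IsChowMul (it agrees with the Tor-formula product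
IntMult.interProd on properly meeting cycles, which determines it); [Γ_f] is the prime cycle of the
image of the generic point of X under the graph morphism, pr_Y^* and f^* are coefficientwise flat
pullbacks (Cyc.pullFun), pr_{X,*} is the proper pushforward of a representing cycle, and the two
sides are compared up to rational equivalence on X. (Parts (1)–(3) of the published statement — f^*
is a ring map, functoriality, projection formula — are not stated here.) -/
theorem result (K : Type u) [Field K] [IsAlgClosed K] (X : Scheme.{u}) (fX : X ⟶ Spec (CommRingCat.of K)) [Smooth fX] [IsSeparated fX] [QuasiCompact fX] [IsIntegral X] (δX : X → ℤ) (hX : Cyc.IsSetup X δX) (hδX : Cyc.DeltaCompat fX δX (fun _ => 0)) (dX : ℕ) (hdX : δX (genericPoint X) = dX) (NX : ℕ) (ιX : X ⟶ CohB1.ProjSpace NX K) [IsClosedImmersion ιX] (hιX : ιX ≫ CohB1.ProjSpace.toSpec NX K = fX) (Y : Scheme.{u}) (fY : Y ⟶ Spec (CommRingCat.of K)) [Smooth fY] [IsSeparated fY] [QuasiCompact fY] [IsIntegral Y] (δY : Y → ℤ) (hY : Cyc.IsSetup Y δY) (hδY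 : Cyc.DeltaCompat fY δY (fun _ => 0)) (dY : ℕ) (hdY : δY (genericPoint Y) = dY) (NY : ℕ) (ιY : Y ⟶ CohB1.ProjSpace NY K) [IsClosedImmersion ιY] (hιY : ιY ≫ CohB1.ProjSpace.toSpec NY K = fY) (f : X ⟶ Y) (hf : f ≫ fY = fX) [Flat f] [IsIntegral (pullback fX fY)] (δW : ↥(pullback fX fY) → ℤ) (hW : Cyc.IsSetup (pullback fX fY) δW) (hδW : Cyc.DeltaCompat (pullback.fst fX fY ≫ fX) δW (fun _ => 0)) (hdW : δW (genericPoint ↥(pullback fX fY)) = (dX : ℤ) + (dY : ℤ)) (NW : ℕ) (ιW : (pullback fX fY) ⟶ CohB1.ProjSpace NW K) [IsClosedImmersion ιW] (hιW : ιW ≫ CohB1.ProjSpace.toSpec NW K = pullback.fst fX fY ≫ fX) (mul : (r s : ℤ) → ChowOps.CH (pullback fX fY) δW r → ChowOps.CH (pullback fX fY) δW s → ChowOps.CH (pullback fX fY) δW (r + s - ((dX : ℤ) + (dY : ℤ)))) (hmul : ChowOps.IsChowMul (pullback fX fY) δW ((dX : ℤ) + (dY : ℤ)) mul) (γ : AlgebraicCycle (pullback fX fY) ℤ) (hγ : ⇑γ = Set.indicator {(pullback.lift (𝟙 X) f (Eq.trans (Category.id_comp fX) hf.symm)) (genericPoint X)} 1) (hγk : γ ∈ Cyc.Zk (pullback fX fY) δW (dX :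 ℤ)) (k : ℤ) (α : AlgebraicCycle Y ℤ) (hα : α ∈ Cyc.Zk Y δY k) (αW : AlgebraicCycle (pullback fX fY) ℤ) (hαW : ⇑αW = Cyc.pullFun (pullback.snd fX fY) δW δY (dX : ℤ) ⇑α) (hαWk : αW ∈ Cyc.Zk (pullback fX fY) δW (k + dX)) (ζ : AlgebraicCycle (pullback fX fY) ℤ) (hζk : ζ ∈ Cyc.Zk (pullback fX fY) δW ((dX : ℤ) + (k + dX) - ((dX : ℤ) + (dY : ℤ)))) (hζ : ChowOps.cl ζ hζk = mul (dX : ℤ) (k + dX) (ChowOps.cl γ hγk) (ChowOps.cl αW hαWk)) (αX : AlgebraicCycle X ℤ) (hαX : ⇑αX = Cyc.pullFun f δX δY ((dX : ℤ) - (dY : ℤ)) ⇑α) : Cyc.RatEquiv δX (k + dX - dY) (AlgebraicCycle.map (pullback.fst fX fY) δW δX ζ) αX := by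
  classical
  haveI := hX.1
  haveI := hY.1
  haveI := hW.1
  haveI : CompactSpace X := QuasiCompact.compactSpace_of_compactSpace fX
  haveI : CompactSpace Y := QuasiCompact.compactSpace_of_compactSpace fY
  haveI : IsProper fY := by
    haveI := Groth.Agent.ProjProper.Basic.isProper_toSpec NY K
    rw [← hιY]; infer_instance
  haveI : IsProper fX := by
    haveI := Groth.Agent.ProjProper.Basic.isProper_toSpec NX K
    rw [← hιX]; infer_instance
  haveI : CompactSpace ↥(pullback fX fY) :=
    QuasiCompact.compactSpace_of_compactSpace (pullback.fst fX fY ≫ fX)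
  set g := pullback.lift (𝟙 X) f (Eq.trans (Category.id_comp fX) hf.symm) with hg0
  set q := pullback.snd fX fY with hq0
  set fW := pullback.fst fX fY ≫ fX with hW0
  have hgf : g ≫ pullback.fst fX fY = 𝟙 X := pullback.lift_fst _ _ _
  have hgq : g ≫ q = f := pullback.lift_snd _ _ _
  have hg : g ≫ fW = fX := by rw [hW0, ← Category.assoc, hgf, Category.id_comp]
  have hq : q ≫ fY = fW := pullback.condition.symm
  haveI : IsClosedImmersion g := by
    haveI : IsClosedImmersion (g ≫ pullback.fst fX fY) := by rw [hgf]; infer_instance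
    exact IsClosedImmersion.of_comp g (pullback.fst fX fY)
  haveI : Flat (g ≫ q) := by rw [hgq]; infer_instance
  have hS := fun v : Y => Groth.Agent.IntMult66.interProd_graph fX fW fY g hg q hq hX hW hY hδX hδW hδY dX dY
    hdX hdY hdW v
  obtain ⟨hdd, hle⟩ := Groth.Agent.IntMult66.exists_relDim fX fW fY g hg q hq hX hY hδX hδY dX dY hdX hdY
  have hδg := Groth.Agent.IntMult66.delta_closedImmersion fX fW g hg hδX hδW
  let S := (Groth.Agent.CycLib.finite_support_of_compact α).toFinset
  let T := (Groth.Agent.CycLib.finite_support_of_compact αW).toFinset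
  have hS0 : ∀ y, y ∉ S → α y = 0 := fun y hy => by simpa [S] using hy
  have hT0 : ∀ u, u ∉ T → αW u = 0 := fun u hu => by simpa [T] using hu
  -- proper intersection
  have hprop : IntMult.IntersectProperly δW ((dX : ℤ) + dY) ⇑γ ⇑αW := by
    intro a b z ha hb haz hbz
    rw [hγ] at ha
    rw [hαW] at hb
    obtain ⟨hp, -, -⟩ := hS (q b)
    refine hp a b z ha ?_ haz hbz
    unfold Cyc.pullFun at hb ⊢
    split_ifs at hb ⊢ with h
    · rw [Set.indicator_of_mem (Set.mem_singleton _), Pi.one_apply, one_mul]
      exact right_ne_zero_of_mul hb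
    · exact absurd rfl hb
  set P : ↥(pullback fX fY) → ℤ := IntMult.interProd δW ((dX : ℤ) + dY) ⇑γ ⇑αW with hP0
  have hexp : ∀ w, P w = ∑ v ∈ S, α v * IntMult.interProd δW ((dX : ℤ) + dY) (Set.indicator {g (genericPoint X)} 1)
      (Cyc.pullFun q δW δY dX (Set.indicator {v} 1)) w := by
    intro w
    have hone : ∀ u, u ∉ ({g (genericPoint X)} : Finset _) →
        (Set.indicator {g (genericPoint X)} 1 u : ℤ) = 0 := fun u hu =>
        Set.indicator_of_notMem (by simpa using hu) _
    rw [hP0, hγ, Groth.Agent.IntMult66.interProd_eq_sum _ _ _ _ {g (genericPoint X)} T hone hT0 w]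
    simp only [Finset.sum_singleton]
    have hvT : ∀ v, α v ≠ 0 → ∀ u, u ∉ T → Cyc.pullFun q δW δY dX (Set.indicator {v} 1) u = 0 := by
      intro v hv u hu
      have h0 := hT0 u hu
      rw [hαW] at h0
      unfold Cyc.pullFun at h0 ⊢
      split_ifs at h0 ⊢ with h
      · by_cases hq' : q u = v
        · rw [Set.indicator_of_mem (by simp [hq']), Pi.one_apply, one_mul]
          exact (mul_eq_zero.1 h0).resolve_left (hq' ▸ hv)
        · rw [Set.indicator_of_notMem (by simpa using hq'), zero_mul]
      · rfl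
    calc _ = ∑ u ∈ T, ∑ v ∈ S, α v * (Cyc.pullFun q δW δY dX (Set.indicator {v} 1) u *
          IntMult.interProd δW ((dX : ℤ) + dY) (Set.indicator {g (genericPoint X)} 1) (Set.indicator {u} 1) w) := by
          refine Finset.sum_congr rfl fun u _ => ?_
          rw [hαW, Set.indicator_of_mem (Set.mem_singleton _), Pi.one_apply, one_mul]
          unfold Cyc.pullFun
          split_ifs
          · rw [Groth.Agent.IntMult66.eq_sum_indicator (⇑α) S hS0 (q u), Finset.sum_mul, Finset.sum_mul]
            exact Finset.sum_congr rfl fun v _ => by ring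
          · simp
      _ = _ := by
          rw [Finset.sum_comm]
          refine Finset.sum_congr rfl fun v _ => ?_
          by_cases hv : α v = 0
          · simp [hv]
          rw [Groth.Agent.IntMult66.interProd_eq_sum _ _ _ _ {g (genericPoint X)} T hone (hvT v hv) w,
            Finset.mul_sum]
          simp only [Finset.sum_singleton, Set.indicator_of_mem (Set.mem_singleton _), Pi.one_apply, one_mul]
          rw [Finset.mul_sum]
  have hgx : ∀ x, P (g x) = αX x := by
    intro x
    rw [hexp, hαX]
    simp only [fun v => (hS v).2.2 x]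
    rw [show Cyc.pullFun f δX δY ((dX : ℤ) - dY) ⇑α x = Cyc.pullFun (g ≫ q) δX δY ((dX : ℤ) - dY) ⇑α x by rw [hgq]]
    unfold Cyc.pullFun
    split_ifs
    · rw [Groth.Agent.IntMult66.eq_sum_indicator (⇑α) S hS0 ((g ≫ q) x), Finset.sum_mul]
      exact Finset.sum_congr rfl fun v _ => by ring
    · simp
  have hout : ∀ w, (∀ x, g x ≠ w) → P w = 0 := fun w hw => by
    rw [hexp]
    exact Finset.sum_eq_zero fun v _ => by rw [(hS v).2.1 w hw, mul_zero]
  have hfin : (Function.support P).Finite := by
    refine ((Groth.Agent.CycLib.finite_support_of_compact αX).image g).subset fun w hw => ?_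
    by_cases h : ∃ x, g x = w
    · obtain ⟨x, rfl⟩ := h
      exact ⟨x, by rw [Function.mem_support, ← hgx]; exact hw, rfl⟩
    · exact absurd (hout w (not_exists.1 h)) hw
  let Pc : AlgebraicCycle (pullback fX fY) ℤ :=
    { toFun := P
      supportWithinDomain' := Set.subset_univ _
      supportLocallyFiniteWithinDomain' := fun z _ => ⟨Set.univ, Filter.univ_mem, by rwa [Set.univ_inter]⟩ }
  have hαXk : ∀ x, αX x ≠ 0 → δX x = k + dX - dY := by
    intro x hx
    rw [hαX] at hx
    unfold Cyc.pullFun at hx
    split_ifs at hx with h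
    · have : δY (f x) = k := by_contra fun h' => left_ne_zero_of_mul hx (hα _ h')
      omega
    · exact absurd rfl hx
  have hPk : Pc ∈ Cyc.Zk (pullback fX fY) δW ((dX : ℤ) + (k + dX) - ((dX : ℤ) + (dY : ℤ))) := by
    intro w hw
    show P w = 0
    by_cases h : ∃ x, g x = w
    · obtain ⟨x, rfl⟩ := h
      rw [hgx]
      by_contra hx
      have := hαXk x hx
      rw [hδg] at hw
      omega
    · exact hout w (not_exists.1 h)
  have hcl : ChowOps.cl ζ hζk = ChowOps.cl Pc hPk :=
    hζ.trans (hmul _ _ γ αW hγk hαWk hprop Pc hPk rfl)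
  have hrat : Cyc.RatEquiv δW ((dX : ℤ) + (k + dX) - ((dX : ℤ) + (dY : ℤ))) ζ Pc := by
    have hmem := (QuotientAddGroup.eq.1 hcl.symm)
    have hle' : ChowOps.ratTriv (pullback fX fY) δW ((dX : ℤ) + (k + dX) - ((dX : ℤ) + (dY : ℤ))) ≤
        (Groth.Agent.CycLib.Dev.prin hW.2.2 ((dX : ℤ) + (k + dX) - ((dX : ℤ) + (dY : ℤ)))).comap
          { toFun := fun (a : ↥(ChowOps.zk (pullback fX fY) δW ((dX : ℤ) + (k + dX) - ((dX : ℤ) + (dY : ℤ))))) =>
              ⇑(a : AlgebraicCycle (pullback fX fY) ℤ)
            map_zero' := rfl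
            map_add' := fun _ _ => rfl } :=
      (AddSubgroup.closure_le _).2 fun a ha => ha
    have h2 := hle' hmem
    rw [AddSubgroup.mem_comap] at h2
    show Cyc.RatEquivZero δW _ (ζ - Pc)
    rw [Groth.Agent.CycLib.Dev.ratEquivZero_iff hW.2.2]
    convert h2 using 1
    funext w
    show ζ w - Pc w = -Pc w + ζ w
    omega
  haveI : IsProper (pullback.fst fX fY) := inferInstance
  have hcomp : Cyc.DeltaCompat (pullback.fst fX fY) δW δX := by
    rw [Groth.Agent.IntMult66.delta_eq fX hδX, Groth.Agent.IntMult66.delta_eq fW hδW]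
    exact Groth.Agent.CycLib.deltaCompat_fdelta K (pullback.fst fX fY) fW fX rfl
  have hpush := Groth.Agent.S1855.result (pullback fX fY) X δW δX hW hX (pullback.fst fX fY) hcomp _ ζ Pc hζk hPk hrat
  have hmap : AlgebraicCycle.map (pullback.fst fX fY) δW δX Pc = αX := by
    refine Function.locallyFinsuppWithin.ext fun x => ?_
    rw [Groth.Agent.CycLib.map_apply_eq_sum (pullback.fst fX fY) δW δX Pc x {g x} fun w hw hne => ?_]
    · have hfg : pullback.fst fX fY (g x) = x := by
        rw [← Scheme.Hom.comp_apply, hgf]; rfl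
      rw [Finset.filter_singleton, if_pos hfg, Finset.sum_singleton, AlgebraicCycle.mapCoeff,
        if_pos (show δW (g x) = δX (pullback.fst fX fY (g x)) by rw [hfg, hδg])]
      have h := Groth.Agent.CycLib.residueDegree_comp g (pullback.fst fX fY) x
      rw [Groth.Agent.CycLib.residueDegree_congr hgf x, Groth.Agent.CycLib.residueDegree_eq_one (𝟙 X) x
        (Groth.Agent.CycLib.residueFieldMap_bijective_closedImmersion (𝟙 X) x).2] at h
      rw [Nat.eq_one_of_mul_eq_one_left h.symm, Nat.cast_one, mul_one]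
      exact hgx x
    · rw [Finset.mem_singleton]
      by_cases h : ∃ z, g z = w
      · obtain ⟨z, rfl⟩ := h
        have hz : pullback.fst fX fY (g z) = z := by
          rw [← Scheme.Hom.comp_apply, hgf]; rfl
        rw [hz] at hw
        rw [hw]
      · exact absurd (hout w (not_exists.1 h)) hne
  rw [hmap] at hpush
  convert hpush using 1
  omega

end Groth.Agent.S12676
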