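import Groth.Statements.S1268
import Groth.Agent.HP.ProjPoint
-- import your own Groth.Agent.* helpers here

set_option autoImplicit false
universe u
open FlatMor

namespace Groth.Agent.S1268

open AlgebraicGeometry CategoryTheory TensorProduct in
/-- Ring form, X = Spec S and S = Spec R affine: let S be a finitely presented R-algebra, N a finitely
presented S-module and q a prime of S over p with N_q flat over R. Then there is an étale R-algebra
R' with a prime p' over p having the same residue field such that, for the base changes S', N' of S,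
N to R' (any models), there is an S'-algebra C with Spec C → Spec S' an open immersion (an affine
open U' of X ×_S S'), containing a point lying over both q and p' (there is exactly one such point
of X ×_S S'), such that C ⊗_{S'} N' (the sections of the pulled-back module over U') is a projective
R'-module. -/
theorem result {R S : Type u} [CommRing R] [CommRing S] [Algebra R S] [Algebra.FinitePresentation R S]
    (N : Type u) [AddCommGroup N] [Module S N] [Module R N] [IsScalarTower R S N] [Module.FinitePresentation S N]
    (p : Ideal R) [p.IsPrime] (q : Ideal S) [q.IsPrime] [q.LiesOver p] (hflat : FlatCA.FlatAt R q N) :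
    ∃ (R' : Type u) (_ : CommRing R') (_ : Algebra R R') (p' : Ideal R') (_ : p'.IsPrime), FlatCA.IsEtaleNhd R R' p p' ∧
      ∀ (S' N' : Type u) [CommRing S'] [Algebra R S'] [Algebra S S'] [Algebra R' S'] [IsScalarTower R S S'] [IsScalarTower R R' S']
        [Algebra.IsPushout R S R' S']
        [AddCommGroup N'] [Module S' N'] [Module S N'] [IsScalarTower S S' N']
        (f : N →ₗ[S] N'), IsBaseChange S' f →
        ∃ (C : Type u) (_ : CommRing C) (_ : Algebra S' C) (_ : Algebra R' C) (_ : IsScalarTower R' S' C)
          (x' : Ideal C) (_ : x'.IsPrime),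
          IsOpenImmersion (Spec.map (CommRingCat.ofHom (algebraMap S' C))) ∧
          (x'.comap (algebraMap S' C)).LiesOver q ∧ (x'.comap (algebraMap S' C)).LiesOver p' ∧
          Module.Projective R' (RestrictScalars R' C (C ⊗[S'] N')) := by
  obtain ⟨R', _, _, p', _, hnhd, g, x, hx', hx, hxp, -, hproj⟩ := Groth.Agent.HP.exists_projective_point N p q hflat
  refine ⟨R', inferInstance, inferInstance, p', inferInstance, hnhd, ?_⟩
  intro S' N' _ _ _ _ _ _ _ _ _ _ _ f hf
  letI : Algebra S (R' ⊗[R] S) := Algebra.TensorProduct.rightAlgebra
  haveI : Algebra.IsPushout R R' S S' := Algebra.IsPushout.symm inferInstance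
  let e : R' ⊗[R] S ≃ₐ[R'] S' := Algebra.IsPushout.equiv R R' S S'
  let C := Localization.Away g
  letI : Algebra S' C := ((algebraMap (R' ⊗[R] S) C).comp e.toRingEquiv.symm.toRingHom).toAlgebra
  haveI : IsLocalization.Away (e g) C := by
    have h := IsLocalization.isLocalization_of_base_ringEquiv (Submonoid.powers g) C e.toRingEquiv
    rw [Submonoid.map_powers] at h
    exact h
  haveI : IsScalarTower R' S' C := IsScalarTower.of_algebraMap_eq fun a => by
    show algebraMap R' C a = algebraMap (R' ⊗[R] S) C (e.symm (algebraMap R' S' a))
    rw [AlgEquiv.commutes, ← IsScalarTower.algebraMap_apply]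
  have heS : ∀ s : S, e ((1 : R') ⊗ₜ[R] s) = algebraMap S S' s := fun s => by
    simp [e, Algebra.IsPushout.equiv_tmul]
  haveI : IsScalarTower S S' C := IsScalarTower.of_algebraMap_eq fun s => by
    show algebraMap S C s = algebraMap (R' ⊗[R] S) C (e.symm (algebraMap S S' s))
    rw [← heS, AlgEquiv.symm_apply_apply]
    rfl
  refine ⟨C, inferInstance, inferInstance, inferInstance, inferInstance, x, hx',
    AlgebraicGeometry.IsOpenImmersion.of_isLocalization (e g), ⟨?_⟩, ⟨?_⟩, ?_⟩
  · rw [Ideal.under_def, Ideal.comap_comap, ← IsScalarTower.algebraMap_eq, hx.over]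
  · rw [Ideal.under_def, Ideal.comap_comap, ← IsScalarTower.algebraMap_eq, hxp]
  · let e1 : C ⊗[S'] N' ≃ₗ[C] C ⊗[S] N :=
      (TensorProduct.AlgebraTensorModule.congr (LinearEquiv.refl C C) hf.equiv.symm).trans
        (TensorProduct.AlgebraTensorModule.cancelBaseChange S S' C C N)
    let e2 : RestrictScalars R' C (C ⊗[S'] N') ≃ₗ[R'] C ⊗[S'] N' :=
      (RestrictScalars.addEquiv R' C _).toLinearEquiv fun a m => by
        rw [RestrictScalars.addEquiv_map_smul, algebraMap_smul]
    exact Module.Projective.of_equiv (e2.trans (e1.restrictScalars R')).symm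

end Groth.Agent.S1268
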