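import Groth.Statements.S12684
import Groth.Agent.ProjMor.Closed
-- import your own Groth.Agent.* helpers here

set_option autoImplicit false
universe u
open CategoryTheory CategoryTheory.Limits AlgebraicGeometry TopologicalSpace Opposite
open scoped HomogeneousIdeal
noncomputable section
open Divisors

namespace Groth.Agent.S12684

/-- Let S be a scheme, 𝒜 a quasi-coherent graded O_S-algebra, p : P = Proj(𝒜) → S its relative
homogeneous spectrum (given with its charts) and i : Z → P a closed immersion. If p is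
quasi-compact, then Z is the relative Proj of a graded quotient of 𝒜: there are a quasi-coherent
graded O_S-algebra ℬ, a graded homomorphism φ : 𝒜 → ℬ surjective over every affine open, a relative
Proj PB = Proj(ℬ) → S with its charts, the everywhere-defined morphism h = Proj(φ) : PB → P and an
isomorphism e : PB ≅ Z with e followed by i equal to h. (The published statement names the graded
ideal: the kernel of 𝒜 → ⊕_{d≥0} p_*((i_*O_Z)(d)); this row asserts only the existence of a graded
quotient.) -/
theorem result {S P Z : Scheme.{u}} (𝒜 : RelProj.QCGrAlg S)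
    (p : P ⟶ S) (chart : ∀ (U : S.Opens) (hU : IsAffineOpen U), (((p ⁻¹ᵁ U : P.Opens) : Scheme.{u}) ≅ Proj (𝒜.deg U hU))) (hP : RelProj.IsRelProj 𝒜 p chart) [QuasiCompact p]
    (i : Z ⟶ P) [IsClosedImmersion i] :
    ∃ (ℬ : RelProj.QCGrAlg S) (φ : 𝒜.toQCAlg ⟶ ℬ.toQCAlg) (hφ : RelProj.IsGradedHom φ) (PB : Scheme.{u})
      (pB : PB ⟶ S) (chartB : ∀ (U : S.Opens) (hU : IsAffineOpen U), (((pB ⁻¹ᵁ U : PB.Opens) : Scheme.{u}) ≅ Proj (ℬ.deg U hU)))
      (h : PB ⟶ P) (e : PB ≅ Z),
      (∀ (U : S.Opens), IsAffineOpen U → Function.Surjective (φ.hom.app (op U)).hom) ∧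
        RelProj.IsRelProj ℬ pB chartB ∧ RelProj.IsProjQMap (RelProj.QGrHom.ofHom φ hφ) p chart pB chartB h ∧
        e.hom ≫ i = h := by
  obtain ⟨D, PB, pB, chartB, h, e, hB, hh, hfac, -⟩ := Groth.Agent.ProjMor.exists_gradedQuotient i hP
  exact ⟨D.grAlg, D.proj, D.isGradedHom, PB, pB, chartB, h, e, fun U hU => D.proj_surjective U hU, hB, hh, hfac⟩

end Groth.Agent.S12684
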