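import Groth.Statements.S8260
import Groth.Agent.RelProjLib.Basic

set_option autoImplicit false
universe u
open CategoryTheory CategoryTheory.Limits AlgebraicGeometry Opposite TopologicalSpace
open scoped HomogeneousIdeal
open EGA2

namespace Groth.Agent.S8260

/-- If the quasi-coherent positively graded O_Y-algebra 𝒮 is of finite type (over every affine open U of
Y the ring 𝒮(U) is a finitely generated O_Y(U)-algebra), then its relative homogeneous spectrum
Proj(𝒮) is of finite type over Y. -/
theorem result {Y P : Scheme.{u}} (𝒮 : RelProj.QCGrAlg Y)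
    (hft : ∀ (U : Y.Opens) (hU : IsAffineOpen U), (𝒮.str.app (op U)).hom.FiniteType)
    (p : P ⟶ Y)
    (chart : ∀ (U : Y.Opens) (hU : IsAffineOpen U), (((p ⁻¹ᵁ U : P.Opens) : Scheme.{u}) ≅ Proj (𝒮.deg U hU)))
    (hP : RelProj.IsRelProj 𝒮 p chart) : LocallyOfFiniteType p ∧ QuasiCompact p := by
  have key : ∀ (U : Y.Opens) (hU : IsAffineOpen U),
      LocallyOfFiniteType (Proj.toSpecZero (𝒮.deg U hU) ≫ Spec.map (𝒮.strZero U hU)) ∧
      QuasiCompact (Proj.toSpecZero (𝒮.deg U hU) ≫ Spec.map (𝒮.strZero U hU)) := by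
    intro U hU
    let i : CommRingCat.of (𝒮.deg U hU 0) →+* 𝒮.presheaf.obj (op U) := SetLike.GradeZero.subring (𝒮.deg U hU) |>.subtype
    have hcomp : i.comp (𝒮.strZero U hU).hom = (𝒮.str.app (op U)).hom := rfl
    have hA : Algebra.FiniteType (𝒮.deg U hU 0) (𝒮.presheaf.obj (op U)) :=
      RingHom.FiniteType.of_comp_finiteType (f := (𝒮.strZero U hU).hom) (g := i) (hcomp ▸ hft U hU)
    let pr : 𝒮.presheaf.obj (op U) →+* CommRingCat.of (𝒮.deg U hU 0) := GradedRing.projZeroRingHom' (𝒮.deg U hU)
    have h0 : (𝒮.strZero U hU).hom.FiniteType := by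
      have e : pr.comp (𝒮.str.app (op U)).hom = (𝒮.strZero U hU).hom := by
        ext r
        exact congrArg Subtype.val (Subtype.ext (DirectSum.decompose_of_mem_same _ (𝒮.str_mem U hU r)) :
          pr ((𝒮.str.app (op U)).hom r) = (𝒮.strZero U hU).hom r)
      rw [← e]
      exact RingHom.FiniteType.comp (RingHom.FiniteType.of_surjective pr
        (GradedRing.projZeroRingHom'_surjective _)) (hft U hU)
    have : LocallyOfFiniteType (Spec.map (𝒮.strZero U hU)) :=
      (HasRingHomProperty.Spec_iff (P := @LocallyOfFiniteType)).2 h0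
    exact ⟨inferInstance, inferInstance⟩
  exact ⟨Groth.Agent.RelProjLib.property_of_charts @LocallyOfFiniteType hP fun U hU => (key U hU).1,
    Groth.Agent.RelProjLib.property_of_charts @QuasiCompact hP fun U hU => (key U hU).2⟩

end Groth.Agent.S8260
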