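import Groth.Statements.S12687
import Groth.Agent.ProjBundleLib.AwayFP
import Groth.Agent.RelTildeLib.FiniteType
import Groth.Agent.RelTildeLib.TwistMap
import Groth.Agent.Props.QFP
import Groth.Agent.RelProjLib.Basic
import Groth.Agent.S8259
import Groth.Agent.S8260

set_option autoImplicit false
universe u
open CategoryTheory CategoryTheory.Limits AlgebraicGeometry TopologicalSpace Opposite
open scoped HomogeneousIdeal
noncomputable section
open Divisors

namespace Groth.Agent.S12687

open GrModLib RelTildeLib ProjBundleLib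

/-- Finite presentation of sections transfers along a bijection to a pushforward. -/
lemma fp_of_bijective {X Z : Scheme.{u}} (e : Z ⟶ X) [IsOpenImmersion e] {F : X.Modules}
    {T : Z.Modules} (φ : F ⟶ (Scheme.Modules.pushforward e).obj T) {A : X.Opens}
    (hA : A ≤ e.opensRange) (hbij : Function.Bijective (φ.app A))
    (hfin : Module.FinitePresentation Γ(Z, e ⁻¹ᵁ A) Γ(T, e ⁻¹ᵁ A)) :
    Module.FinitePresentation Γ(X, A) Γ(F, A) := by
  have := e.isIso_app A hA
  let := (e.app A).hom.toAlgebra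
  let := Module.compHom Γ(T, e ⁻¹ᵁ A) (e.app A).hom
  have : IsScalarTower Γ(X, A) Γ(Z, e ⁻¹ᵁ A) Γ(T, e ⁻¹ᵁ A) :=
    ⟨fun c z t => by
      change ((e.app A).hom c * z) • t = (e.app A).hom c • z • t
      rw [mul_smul]⟩
  have : Module.FinitePresentation Γ(X, A) Γ(Z, e ⁻¹ᵁ A) :=
    Module.FinitePresentation.of_equiv (LinearEquiv.ofBijective (Algebra.linearMap Γ(X, A) Γ(Z, e ⁻¹ᵁ A))
      (ConcreteCategory.bijective_of_isIso (e.app A)))
  have : Module.FinitePresentation Γ(X, A) Γ(T, e ⁻¹ᵁ A) :=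
    Module.FinitePresentation.trans Γ(X, A) Γ(T, e ⁻¹ᵁ A) Γ(Z, e ⁻¹ᵁ A)
  exact Module.FinitePresentation.of_equiv (LinearEquiv.ofBijective
    ({ toFun := φ.app A
       map_add' := map_add _
       map_smul' := fun c t => (Scheme.Modules.Hom.app_smul φ c t).trans (QCoh.push_smul e T c _) } :
      Γ(F, A) →ₗ[Γ(X, A)] Γ(T, e ⁻¹ᵁ A)) hbij).symm

/-- Let S be a scheme, 𝒜 a quasi-coherent graded O_S-algebra which is a finitely presented O_S-algebra
(over every affine open U, 𝒜(U) is a finitely presented algebra over Γ(U, O_S)), and p : P = Proj(𝒜)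
→ S its relative homogeneous spectrum, given with its charts. Then p is of finite presentation
(locally of finite presentation, quasi-compact and quasi-separated), and for every integer d the
twisting module O_P(d) (given with its chart identifications) is an O_P-module of finite
presentation. -/
theorem result {S P : Scheme.{u}} (𝒜 : RelProj.QCGrAlg S)
    (hfp : ∀ (U : S.Opens), IsAffineOpen U → RingHom.FinitePresentation (𝒜.str.app (op U)).hom)
    (p : P ⟶ S) (chart : ∀ (U : S.Opens) (hU : IsAffineOpen U), (((p ⁻¹ᵁ U : P.Opens) : Scheme.{u}) ≅ Proj (𝒜.deg U hU))) (hP : RelProj.IsRelProj 𝒜 p chart) :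
    (LocallyOfFinitePresentation p ∧ QuasiCompact p ∧ QuasiSeparated p) ∧
      ∀ (d : ℤ) (Od : P.Modules)
        (lam : ∀ (U : S.Opens) (hU : IsAffineOpen U),
          Od ⟶ (Scheme.Modules.pushforward (RelProj.emb p chart U hU)).obj (GrTwist.twist (𝒜.deg U hU) d)),
        RelProj.IsRelTwist 𝒜 p chart d Od lam → CohB1.IsFP Od := by
  have hstr : ∀ (U : S.Opens) (hU : IsAffineOpen U) (r : Γ(S, U)), (𝒜.str.app (op U)).hom r ∈ 𝒜.deg U hU 0 :=
    fun U hU r => 𝒜.str_mem U hU r
  have hsep : IsSeparated p := S8259.result 𝒜 p chart hP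
  refine ⟨⟨?_, (S8260.result 𝒜 (fun U hU => RingHom.FiniteType.of_finitePresentation (hfp U hU)) p chart hP).2,
    inferInstance⟩, fun n Od lam hL => ?_⟩
  · refine RelProjLib.property_of_charts @LocallyOfFinitePresentation hP fun U hU => ?_
    let I := {q : ℕ × 𝒜.presheaf.obj (op U) // 0 < q.1 ∧ q.2 ∈ 𝒜.deg U hU q.1}
    have hcov : (⨆ q : I, Proj.basicOpen (𝒜.deg U hU) q.1.2) = ⊤ := eq_top_iff.2 fun y _ => by
      obtain ⟨d, f, hd, hf, hfy⟩ := exists_pos_nin (show ProjectiveSpectrum (𝒜.deg U hU) from y)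
      exact Opens.mem_iSup.2 ⟨⟨(d, f), hd, hf⟩, hfy⟩
    rw [IsZariskiLocalAtSource.iff_of_iSup_eq_top (P := @LocallyOfFinitePresentation) _ hcov]
    rintro ⟨⟨d, f⟩, hd, hf⟩
    rw [← MorphismProperty.cancel_left_of_respectsIso (P := @LocallyOfFinitePresentation)
      (Proj.basicOpenIsoSpec (𝒜.deg U hU) f hf hd).inv, ← Category.assoc, ← Proj.awayι,
      Proj.awayι_toSpecZero_assoc, ← Spec.map_comp, HasRingHomProperty.Spec_iff (P := @LocallyOfFinitePresentation)]
    let e := RingEquiv.ofBijective (Proj.awayToSection (𝒜.deg U hU) f).hom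
      (ConcreteCategory.bijective_of_isIso (Proj.basicOpenIsoAway (𝒜.deg U hU) f hf hd).hom)
    have h := RingHom.finitePresentation_respectsIso.1 _ e.symm
      (AwayFP.fp (𝒜.deg U hU) hf hd 0 _ (hstr U hU) (hfp U hU)).1
    refine (congrArg RingHom.FinitePresentation (RingHom.ext fun r => ?_)).mp h
    exact e.symm_apply_apply _
  · have hT := isRelTilde_lamT lam hL
    have := RelTildeLib.isQuasicoherent hT
    refine Props.QFP.isFP_of_forall_exists Od fun x => ?_
    obtain ⟨U, hU, hxU, -⟩ := S.isBasis_affineOpens.exists_subset_of_mem_open (Set.mem_univ (p x)) isOpen_univ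
    obtain ⟨U, hU, rfl⟩ := hU
    obtain ⟨y, rfl⟩ := exists_emb_eq (chart := chart) U hU (x := x) hxU
    obtain ⟨d, f, hd, hf, hfy⟩ := exists_pos_nin (show ProjectiveSpectrum (𝒜.deg U hU) from y)
    let e := RelProj.emb p chart U hU
    refine ⟨e ''ᵁ Proj.basicOpen (𝒜.deg U hU) f,
      (Proj.isAffineOpen_basicOpen _ f hf hd).image_of_isOpenImmersion e, ⟨y, hfy, rfl⟩,
      fp_of_bijective e (lamT lam U hU) (e.image_le_opensRange _) (hT.bijective U hU _ ?_) ?_⟩
    · rintro _ ⟨z, -, rfl⟩
      exact emb_mem U hU z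
    · rw [e.preimage_image_eq]
      exact (AwayFP.fp (𝒜.deg U hU) hf hd n _ (hstr U hU) (hfp U hU)).2

end Groth.Agent.S12687
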