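import Groth.Statements.S12691
import Groth.Agent.ProjBundleLib.BundleImm
import Groth.Agent.ProjBundleLib.PieceOne
import Groth.Agent.ProjBundleLib.EmbSym
import Groth.Agent.ProjBundleLib.GrSym
import Groth.Agent.RelProjLib.Comp
import Groth.Agent.RelProjLib.QMapHom
-- import your own Groth.Agent.* helpers here

set_option autoImplicit false
universe u
open CategoryTheory CategoryTheory.Limits AlgebraicGeometry TopologicalSpace Opposite
open scoped HomogeneousIdeal
noncomputable section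
open Mor

namespace Groth.Agent.S12691

/-- Let f : X → Y be a quasi-compact morphism, L an invertible O_X-module with graded symmetric algebra
𝒮L = ⊕_{n≥0} L^{⊗n} (whose relative Proj PL, given with its charts, is identified with X by its
structure morphism), 𝒜 a quasi-coherent graded O_Y-algebra generated in degree one over O_Y (its
degree-zero part is the image of O_Y and degrees zero and one generate it), u : 𝒜 → f_*𝒮L a graded
f-morphism (adjoint to a homomorphism of graded algebras ψ : f^*𝒜 → ⊕ L^{⊗n}) whose degree-one part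
f^*𝒜_1 → L is surjective — every point of X has an affine neighbourhood V over which the image of a
single degree-one section of 𝒜 generates L — P = Proj(𝒜) → Y with its charts, and r = r_{L,ψ} : U(ψ)
→ P the induced morphism on its open of definition U(ψ) ⊆ PL. If r is an immersion, then L is very
ample relative to f (isomorphic to the inverse image of O(1) along a Y-immersion into the projective
bundle of a quasi-coherent O_Y-module). -/
theorem result {X Y P PL : Scheme.{u}} (f : X ⟶ Y) [QuasiCompact f]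
    (L : X.Modules) (hL : PicF.IsInvertible L) (hLq : Coh.IsQCoh L)
    (𝒮L : RelProj.QCGrAlg X) (jL : L ⟶ 𝒮L.toModule) (hjL : RelProj.IsGrSymAlg L 𝒮L jL)
    (pL : PL ⟶ X) (chartL : ∀ (U : X.Opens) (hU : IsAffineOpen U), (((pL ⁻¹ᵁ U : PL.Opens) : Scheme.{u}) ≅ Proj (𝒮L.deg U hU)))
    (hPL : RelProj.IsRelProj 𝒮L pL chartL)
    (𝒜 : RelProj.QCGrAlg Y) (h1 : 𝒜.IsGenDegOne)
    (h0 : ∀ (U : Y.Opens) (hU : IsAffineOpen U),
      ((𝒜.deg U hU 0 : AddSubgroup (𝒜.presheaf.obj (op U))) : Set (𝒜.presheaf.obj (op U))) = Set.range (𝒜.str.app (op U)).hom)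
    (u : RelProj.QGrHom f 𝒜 𝒮L)
    (hsurj : ∀ x : X, ∃ (U : Y.Opens) (hU : IsAffineOpen U) (e : 𝒜.presheaf.obj (op U)) (_ : e ∈ 𝒜.deg U hU 1)
        (V : X.Opens) (hV : IsAffineOpen V) (hVU : V ≤ f ⁻¹ᵁ U), x ∈ V ∧
          ((𝒮L.deg V hV 1 : AddSubgroup (𝒮L.presheaf.obj (op V))) : Set (𝒮L.presheaf.obj (op V))) ⊆
            (Ideal.span {(u.appLE U V hVU).hom e} : Set (𝒮L.presheaf.obj (op V))))
    (p : P ⟶ Y) (chart : ∀ (U : Y.Opens) (hU : IsAffineOpen U), (((p ⁻¹ᵁ U : P.Opens) : Scheme.{u}) ≅ Proj (𝒜.deg U hU)))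
    (hP : RelProj.IsRelProj 𝒜 p chart)
    (r : ((RelProj.domQ u pL chartL : PL.Opens) : Scheme.{u}) ⟶ P)
    (hr : RelProj.IsProjQMapOn u p chart pL chartL (RelProj.domQ u pL chartL) r)
    (himm : IsImmersion r) :
    RelProj.IsRelVeryAmple f L := by
  haveI : L.IsQuasicoherent := hLq
  open Groth.Agent.ProjBundleLib in
  obtain ⟨𝒯, j, hj⟩ := exists_isGrSymAlg (one 𝒜)
  obtain ⟨φ, hju, -⟩ := hj.1 𝒜.toQCAlg (Groth.Agent.ProjBundleLib.oneι 𝒜)
  have hmem : ∀ (U : Y.Opens) (hU : IsAffineOpen U) (x : Γ(Groth.Agent.ProjBundleLib.one 𝒜, U)),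
      (Groth.Agent.ProjBundleLib.oneι 𝒜).app U x ∈ 𝒜.deg U hU 1 :=
    fun U hU x => Groth.Agent.ProjBundleLib.oneι_mem 𝒜 U hU x
  have hgr := Groth.Agent.ProjBundleLib.isGradedHom_ubar hj hju hmem
  let w := RelProj.QGrHom.ofHom φ hgr
  let u' : RelProj.QGrHom f 𝒯 𝒮L :=
    { app := fun U => φ.hom.app (op U) ≫ u.app U
      naturality := fun {U V} i => by
        rw [Category.assoc, u.naturality i, ← Category.assoc, ← Category.assoc]
        exact congrArg (· ≫ u.app V) (φ.hom.naturality (homOfLE i).op).symm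
      str_app := fun U => by
        rw [← Category.assoc]
        exact (congrArg (· ≫ u.app U) (NatTrans.congr_app φ.comm (op U))).trans (u.str_app U)
      map_mem := fun U hU U' hU' hle {d x} hx => u.map_mem U hU U' hU' hle (hgr U hU d x hx) }
  obtain ⟨v, hv'⟩ := Groth.Agent.ProjBundleLib.exists_vec hL hjL hj u'
  have hv : Groth.Agent.ProjBundleLib.Gens v := by
    refine Groth.Agent.ProjBundleLib.gens_of_span hjL u' hv' hL fun x => ?_
    obtain ⟨U, hU, e, he, V, hV, hVU, hxV, hs⟩ := hsurj x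
    obtain ⟨z, rfl⟩ := Groth.Agent.ProjBundleLib.exists_oneι 𝒜 U hU e he
    refine ⟨U, hU, z, V, hV, hVU, hxV, ?_⟩
    have e2 : (u'.appLE U V hVU).hom ((j.app U) z) =
        (u.appLE U V hVU).hom ((Groth.Agent.ProjBundleLib.oneι 𝒜).app U z) := by
      rw [RelSpec.QHom.appLE_eq, RelSpec.QHom.appLE_eq, ← Groth.Agent.ProjBundleLib.ubar_el hju U z]
      rfl
    rw [e2]
    exact hs
  obtain ⟨PT, pT, chartT, hPT⟩ := RelProjLib.exists_isRelProj 𝒯
  have hs : ∀ (U : Y.Opens) (hU : IsAffineOpen U) (hle : U ≤ (𝟙 Y : Y ⟶ Y) ⁻¹ᵁ U) (k : ℕ), 1 ≤ k →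
      ∀ y ∈ 𝒜.deg U hU k, ∃ x ∈ 𝒯.deg U hU k, w.gradedAt U hU U hU hle x = y := fun U hU hle k hk y hy => by
    obtain ⟨x, hx, e⟩ := Groth.Agent.ProjBundleLib.exists_ubar h1 hj hju hmem
      (fun U hU s hs => Groth.Agent.ProjBundleLib.exists_oneι 𝒜 U hU s hs) U hU k hk y hy
    exact ⟨x, hx, (RelProjLib.gradedAt_ofHom_apply φ _ U hU hle x).trans e⟩
  obtain ⟨h, hh⟩ := RelProjLib.exists_isProjQMap w pT p hPT hP
    (RelProjLib.domQ_eq_top_of_eventually_surjective w p chart hs)
  have hcl : IsClosedImmersion h := RelProjLib.qmap_property w @IsClosedImmersion hPT hP hh fun U hU hle d hd g hg =>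
    IsClosedImmersion.spec_of_surjective _
      (RelProjLib.away_map_surjective_of_eventually (w.gradedAt U hU U hU hle) (n := 1) (hs U hU hle) hd hg)
  have hrv : RelProj.IsProjQMapOn w pT chartT p chart (RelProj.domQ w p chart) ((RelProj.domQ w p chart).ι ≫ h) := by
    intro U hU U' hU' hle d hd g hg hW
    rw [← Category.assoc, IsOpenImmersion.lift_fac]
    exact hh.2 U hU U' hU' hle d hd g hg
  obtain ⟨r', hr', -⟩ := RelProjLib.existsUnique_isProjQMapOn u' pT pL hPT hPL
  obtain ⟨l, hl1, hl2⟩ := RelProjLib.exists_comp (v := φ) (hv := hgr) (u' := u') (u := u) (fun U => rfl) hr hr' hrv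
  have himm' : IsImmersion r' := by
    rw [← hl2, ← Category.assoc, hl1]
    infer_instance
  obtain ⟨-, hiff⟩ := Groth.Agent.ProjBundleLib.isImmersion_iff_clsImm hjL hPL hj hPT u' hv' hL hv hr'
  exact Groth.Agent.ProjBundleLib.isRelVeryAmple_of hv (hiff.1 himm')

end Groth.Agent.S12691
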