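import Groth.Statements.S1271
import Groth.Agent.FittLib.Rank
import Groth.Agent.FittLib.Prod
import Mathlib.RingTheory.Unramified.LocalStructure
-- import your own Groth.Agent.* helpers here

set_option autoImplicit false
universe u
open FlatMor

namespace Groth.Agent.S1271

open Polynomial TensorProduct in
theorem exists_factor {A S : Type u} [CommRing A] [CommRing S] [Algebra A S] (f : A[X]) (hf : f.Monic) (x : S)
    (hx : aeval x f = 0) (hd : IsUnit (aeval x (derivative f))) (J0 : Ideal (AdjoinRoot f)) (hJ0 : J0.FG) :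
    ∃ J' : Ideal S, J'.FG ∧ (Fitt.ideal A (AdjoinRoot f ⧸ J0) 0).map (algebraMap A S) =
      J0.map (AdjoinRoot.liftAlgHom f (Algebra.ofId A S) x hx).toRingHom * J' := by
  classical
  let φ : AdjoinRoot f →ₐ[A] S := AdjoinRoot.liftAlgHom f (Algebra.ofId A S) x hx
  haveI : Module.Finite A (AdjoinRoot f) := hf.finite_adjoinRoot
  haveI : Module.Free A (AdjoinRoot f) := hf.free_adjoinRoot
  haveI : Module.FinitePresentation A (AdjoinRoot f) := Module.finitePresentation_of_projective A _
  let M := AdjoinRoot f ⧸ J0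
  let mk := Ideal.Quotient.mkₐ A J0
  haveI : Module.FinitePresentation A M := Module.finitePresentation_of_surjective mk.toLinearMap
    Ideal.Quotient.mk_surjective (by
      have h : (J0.restrictScalars A).FG := Submodule.FG.restrictScalars_iff.mpr hJ0
      rwa [show LinearMap.ker (Ideal.Quotient.mkₐ A J0).toLinearMap = J0.restrictScalars A from
        Submodule.ext fun v => Ideal.Quotient.eq_zero_iff_mem])
  let E := S ⊗[A] M
  let J := J0.map φ.toRingHom
  let r : E := (1 : S) ⊗ₜ mk (AdjoinRoot.root f)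
  let c : E := algebraMap S E x
  let ρ : M →ₐ[A] E := Algebra.TensorProduct.includeRight
  have hr : ∀ p : A[X], ρ (mk (AdjoinRoot.mk f p)) = aeval r p := fun p => by
    rw [← AdjoinRoot.aeval_eq, show r = ρ (mk (AdjoinRoot.root f)) from rfl, aeval_algHom_apply,
      aeval_algHom_apply]
  have hc : ∀ p : A[X], algebraMap S E (aeval x p) = aeval c p := fun p => (aeval_algebraMap_apply E x p).symm
  have hdvd : ∀ p : A[X], r - c ∣ aeval r p - aeval c p := fun p => by
    have := sub_dvd_eval_sub r c (p.map (algebraMap A E))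
    simpa only [eval_map_algebraMap] using this
  -- the complementary factor
  let fS := f.map (algebraMap A S)
  let f1 := fS /ₘ (X - C x)
  have hfac : (X - C x) * f1 = fS := by
    refine mul_divByMonic_eq_iff_isRoot.mpr ?_
    rw [IsRoot.def, eval_map_algebraMap, hx]
  have hv : IsUnit (f1.eval x) := by
    have h1 := congrArg (fun p => (derivative p).eval x) hfac
    simp only [derivative_mul, derivative_sub, derivative_X, derivative_C, sub_zero, one_mul, eval_add, eval_mul,
      eval_sub, eval_X, eval_C, sub_self, zero_mul, add_zero, fS, derivative_map, eval_map_algebraMap] at h1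
    rw [h1]
    exact hd
  let u1 : E := aeval r f1
  have hru : (r - c) * u1 = 0 := by
    have h1 := congrArg (aeval r) hfac
    rw [map_mul, map_sub, aeval_X, aeval_C, aeval_map_algebraMap] at h1
    rw [show (r - c) * u1 = aeval r f from h1, ← hr, AdjoinRoot.mk_self, map_zero, map_zero]
  obtain ⟨vi, hvi⟩ := (hv.map (algebraMap S E)).exists_left_inv
  obtain ⟨w, hw⟩ : r - c ∣ u1 - algebraMap S E (f1.eval x) := by
    have := sub_dvd_eval_sub r c (f1.map (algebraMap S E))
    rw [eval_map_algebraMap, eval_map_algebraMap, show aeval c f1 = algebraMap S E (f1.eval x) from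
      aeval_algebraMap_apply_eq_algebraMap_eval x f1] at this
    exact this
  let e : E := vi * u1
  have he : (r - c) * e = 0 := by
    show (r - c) * (vi * u1) = 0
    linear_combination vi * hru
  have he1 : 1 - e = (r - c) * (-(vi * w)) := by
    show 1 - vi * u1 = _
    linear_combination (-vi) * hw - hvi
  have hee : e * e = e := by linear_combination (-e) * he1 - (-(vi * w)) * he
  -- the projection
  have hφJ : ∀ b ∈ J0, ((Ideal.Quotient.mkₐ A J).comp φ) b = 0 := fun b hb =>
    Ideal.Quotient.eq_zero_iff_mem.mpr (Ideal.mem_map_of_mem _ hb)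
  let ε : E →ₐ[S] S ⧸ J := Algebra.TensorProduct.lift (Algebra.ofId S _)
    (Ideal.Quotient.liftₐ J0 ((Ideal.Quotient.mkₐ A J).comp φ) hφJ) fun _ _ => Commute.all _ _
  have hεr : ε (r - c) = 0 := by
    rw [map_sub, show c = algebraMap S E x from rfl, AlgHom.commutes]
    show ε ((1 : S) ⊗ₜ mk (AdjoinRoot.root f)) - _ = 0
    rw [Algebra.TensorProduct.lift_tmul, map_one, one_mul]
    show Ideal.Quotient.mk J (φ (AdjoinRoot.root f)) - Ideal.Quotient.mk J x = 0
    simp [φ]
  have hmem : ∀ b : AdjoinRoot f, r - c ∣ ρ (mk b) - algebraMap S E (φ b) := fun b => by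
    obtain ⟨p, rfl⟩ := AdjoinRoot.mk_surjective b
    rw [hr, show φ (AdjoinRoot.mk f p) = aeval x p by simp [φ, aeval_def], hc]
    exact hdvd p
  have hsplit : ∀ z : E, ∃ s : S, ε z = Ideal.Quotient.mk J s ∧ r - c ∣ z - algebraMap S E s := fun z => by
    induction z using TensorProduct.induction_on with
    | zero => exact ⟨0, by simp, by simp⟩
    | tmul s m =>
      obtain ⟨b, rfl⟩ := Ideal.Quotient.mk_surjective m
      refine ⟨s * φ b, by rw [Algebra.TensorProduct.lift_tmul]; rfl, ?_⟩
      have := (hmem b).mul_left (algebraMap S E s)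
      rw [mul_sub, ← map_mul] at this
      convert this using 2
      show s ⊗ₜ[A] mk b = (s ⊗ₜ[A] (1 : M)) * ((1 : S) ⊗ₜ[A] mk b)
      rw [Algebra.TensorProduct.tmul_mul_tmul, mul_one, one_mul]
    | add y z hy hz =>
      obtain ⟨s, h1, h2⟩ := hy
      obtain ⟨t, h3, h4⟩ := hz
      refine ⟨s + t, by rw [map_add, h1, h3, map_add], ?_⟩
      rw [map_add, add_sub_add_comm]
      exact dvd_add h2 h4
  have hJe : ∀ s ∈ J, algebraMap S E s * e = 0 := fun s hs => by
    induction hs using Submodule.span_induction with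
    | mem s hs =>
      obtain ⟨b, hb, rfl⟩ := hs
      obtain ⟨q, hq⟩ := hmem b
      rw [show mk b = 0 from Ideal.Quotient.eq_zero_iff_mem.mpr hb, map_zero] at hq
      show algebraMap S E (φ b) * e = 0
      linear_combination (-e) * hq - q * he
    | zero => simp
    | add a b _ _ ha hb => rw [map_add, add_mul, ha, hb, add_zero]
    | smul a b _ hb => rw [smul_eq_mul, map_mul, mul_assoc, hb, mul_zero]
  let P : Submodule S E := (Ideal.span {e}).restrictScalars S
  let Φ : E →ₗ[S] (S ⧸ J) × (E ⧸ P) := ε.toLinearMap.prod P.mkQ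
  have hεe : ε e = 1 := by
    have := congrArg ε he1
    rw [map_sub ε 1 e, map_one, map_mul ε (r - c), hεr, zero_mul, sub_eq_zero] at this
    exact this.symm
  have hΦ : Function.Bijective Φ := by
    refine ⟨(injective_iff_map_eq_zero Φ).mpr fun z hz => ?_, ?_⟩
    · obtain ⟨hz1, hz2⟩ := Prod.ext_iff.mp hz
      obtain ⟨q, rfl⟩ := Ideal.mem_span_singleton.mp ((Submodule.Quotient.mk_eq_zero P).mp hz2)
      obtain ⟨s, hs, q', hq'⟩ := hsplit (e * q)
      have hsJ : s ∈ J := Ideal.Quotient.eq_zero_iff_mem.mp (hs.symm.trans hz1)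
      linear_combination e * hq' + q' * he + hJe s hsJ - q * hee
    · rintro ⟨y, z⟩
      obtain ⟨y, rfl⟩ := Ideal.Quotient.mk_surjective y
      obtain ⟨z, rfl⟩ := P.mkQ_surjective z
      refine ⟨algebraMap S E y * e + z * (1 - e), Prod.ext ?_ ?_⟩
      · show ε _ = _
        rw [map_add, map_mul ε _ e, map_mul ε z, map_sub ε 1 e, map_one, hεe, sub_self, mul_zero, add_zero, mul_one, AlgHom.commutes]
        rfl
      · show P.mkQ _ = P.mkQ z
        rw [Submodule.mkQ_apply, Submodule.mkQ_apply, Submodule.Quotient.eq]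
        show _ ∈ Ideal.span {e}
        rw [show algebraMap S E y * e + z * (1 - e) - z = (algebraMap S E y - z) * e by ring]
        exact Ideal.mul_mem_left _ _ (Ideal.mem_span_singleton_self e)
  haveI : Module.Finite S (E ⧸ P) := inferInstance
  haveI : Module.FinitePresentation S (E ⧸ P) := Module.finitePresentation_of_surjective P.mkQ P.mkQ_surjective (by
    rw [Submodule.ker_mkQ]
    exact Submodule.FG.restrictScalars_iff.mpr (Submodule.fg_span_singleton e))
  refine ⟨Fitt.ideal S (E ⧸ P) 0, FittLib.ideal_eq_G_rel 0, ?_⟩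
  rw [← FittLib.ideal_baseChange (R' := S) (M := M) 0, FittLib.ideal_congr (LinearEquiv.ofBijective Φ hΦ) 0,
    FittLib.ideal_prod, Finset.sum_range_one, FittLib.ideal_quotient]

open TensorProduct in
theorem pow_mem_fitt {A M : Type u} [CommRing A] [AddCommGroup M] [Module A M] [Module.Finite A M] (c : A)
    (hc : ∀ m : M, c • m = 0) : ∃ n : ℕ, c ^ n ∈ Fitt.ideal A M 0 := by
  classical
  obtain ⟨n, x, hx⟩ := Module.Finite.exists_fin (R := A) (M := M)
  refine ⟨n, Ideal.subset_span ⟨n, x, Matrix.diagonal fun _ => c, hx, fun i _ => ?_, by simp⟩⟩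
  simp [Matrix.diagonal_apply, ite_smul, hc]

/-- Let A → B be an étale ring map, a ∈ A a nonzerodivisor and J a finitely generated ideal of B with
V(J) ⊆ V(aB), i.e. a lies in the radical of J. Then for every prime q of B there exist a finitely
generated ideal I of A with V(I) ⊆ V(a), an element g of B outside q, and a finitely generated ideal
J' of the localization B_g such that the extension of I to B_g equals the product of the extension
of J with J'. -/
theorem result {A B : Type u} [CommRing A] [CommRing B] [Algebra A B] [Algebra.Etale A B]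
    (a : A) (ha : a ∈ nonZeroDivisors A) (J : Ideal B) (hJ : J.FG) (hJa : algebraMap A B a ∈ J.radical)
    (q : Ideal B) [q.IsPrime] :
    ∃ (I : Ideal A) (g : B) (J' : Ideal (Localization.Away g)), I.FG ∧ a ∈ I.radical ∧ g ∉ q ∧ J'.FG ∧
      I.map (algebraMap A (Localization.Away g)) = J.map (algebraMap B (Localization.Away g)) * J' := by
  obtain ⟨g, hg, hstd⟩ := Algebra.IsEtaleAt.exists_isStandardEtale (R := A) q
  haveI := hstd
  let S := Localization.Away g
  obtain ⟨P⟩ := (inferInstance : Algebra.IsStandardEtale A S).nonempty_standardEtalePresentation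
  let f := P.P.f
  let φ : AdjoinRoot f →ₐ[A] S := AdjoinRoot.liftAlgHom f (Algebra.ofId A S) P.x P.hasMap.1
  obtain ⟨m, hm⟩ := hJa
  obtain ⟨G, hG⟩ := hJ
  have hlift : ∀ b : B, ∃ p : AdjoinRoot f, Associated (φ p) (algebraMap B S b) := fun b => by
    obtain ⟨p, n, hp⟩ := P.exists_mul_aeval_x_g_pow_eq_aeval_x (algebraMap B S b)
    refine ⟨AdjoinRoot.mk f p, (Associated.symm ⟨(P.hasMap.2.pow n).unit, ?_⟩)⟩
    rw [IsUnit.unit_spec, hp]
    simp [φ, Polynomial.aeval_def]
  choose p hp using hlift
  classical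
  let J0 : Ideal (AdjoinRoot f) := Ideal.span ↑(insert (algebraMap A _ a ^ m) (G.image p))
  have hJ0 : J0.FG := ⟨_, rfl⟩
  have hmap : J0.map φ.toRingHom = J.map (algebraMap B S) := by
    refine le_antisymm (Ideal.map_le_iff_le_comap.mpr (Ideal.span_le.mpr fun v hv => ?_)) ?_
    · rw [Finset.coe_insert, Finset.coe_image] at hv
      rcases hv with rfl | ⟨b, hb, rfl⟩
      · show φ (algebraMap A (AdjoinRoot f) a ^ m) ∈ Ideal.map (algebraMap B S) J
        rw [map_pow, AlgHom.commutes, IsScalarTower.algebraMap_apply A B S, ← map_pow]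
        exact Ideal.mem_map_of_mem _ hm
      · obtain ⟨u, hu⟩ := (hp b).symm
        show φ (p b) ∈ Ideal.map (algebraMap B S) J
        rw [← hu]
        exact Ideal.mul_mem_right _ _ (Ideal.mem_map_of_mem _ (hG ▸ Submodule.subset_span hb))
    · rw [← hG, Ideal.map_span, Ideal.span_le]
      rintro _ ⟨b, hb, rfl⟩
      obtain ⟨u, hu⟩ := hp b
      rw [← hu]
      exact Ideal.mul_mem_right _ _ (Ideal.mem_map_of_mem φ.toRingHom
        (Ideal.subset_span (Finset.mem_insert_of_mem (Finset.mem_image_of_mem p hb))))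
  haveI : Module.Finite A (AdjoinRoot f) := P.P.monic_f.finite_adjoinRoot
  haveI : Module.Free A (AdjoinRoot f) := P.P.monic_f.free_adjoinRoot
  haveI : Module.FinitePresentation A (AdjoinRoot f) := Module.finitePresentation_of_projective A _
  haveI : Module.FinitePresentation A (AdjoinRoot f ⧸ J0) :=
    Module.finitePresentation_of_surjective (Ideal.Quotient.mkₐ A J0).toLinearMap Ideal.Quotient.mk_surjective (by
      have h : (J0.restrictScalars A).FG := Submodule.FG.restrictScalars_iff.mpr hJ0
      rwa [show LinearMap.ker (Ideal.Quotient.mkₐ A J0).toLinearMap = J0.restrictScalars A from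
        Submodule.ext fun v => Ideal.Quotient.eq_zero_iff_mem])
  obtain ⟨J', hJ', heq⟩ := exists_factor f P.P.monic_f P.x P.hasMap.1 P.hasMap.isUnit_derivative_f J0 hJ0
  obtain ⟨n, hn⟩ := pow_mem_fitt (A := A) (M := AdjoinRoot f ⧸ J0) (a ^ m) fun v => by
    obtain ⟨b, rfl⟩ := Ideal.Quotient.mk_surjective v
    rw [Algebra.smul_def, IsScalarTower.algebraMap_apply A (AdjoinRoot f) (AdjoinRoot f ⧸ J0), Ideal.Quotient.algebraMap_eq,
      ← map_mul, Ideal.Quotient.eq_zero_iff_mem, map_pow]
    exact Ideal.mul_mem_right _ _ (Ideal.subset_span (Finset.mem_insert_self _ _))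
  refine ⟨Fitt.ideal A (AdjoinRoot f ⧸ J0) 0, g, J', FittLib.ideal_eq_G_rel 0, ⟨m * n, by rwa [pow_mul]⟩, hg, hJ', ?_⟩
  rw [heq]
  exact congrArg (· * J') hmap

end Groth.Agent.S1271
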