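import Groth.Statements.S12713
import Groth.Agent.ArtFunLib.Hull

set_option autoImplicit false
universe u v
open CategoryTheory
open ArtFun ArtFun.Art

namespace Groth.Agent.S12713

open Groth.Agent.ArtFunLib

/-- A small extension f : B → A in the category of Artinian local Λ-algebras with residue field k is not
an essential surjection (some morphism g : C → B is non-surjective although the composite C → A is
surjective) if and only if f has a section A → B in the category. -/
theorem result {Λ : Type u} {k : Type u} [CommRing Λ] [Field k] [Algebra Λ k]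
    [IsNoetherianRing Λ] [Module.Finite Λ k]
    {A B : ArtFun.Art Λ k} (f : B ⟶ A) (hf : ArtFun.Art.IsSmallExt f) :
    (∃ (C : ArtFun.Art Λ k) (g : C ⟶ B), Function.Surjective (g ≫ f) ∧ ¬ Function.Surjective g) ↔
      ∃ s : A ⟶ B, s ≫ f = 𝟙 A := by
  refine ⟨fun ⟨C, g, hgf, hg⟩ => ?_, fun ⟨s, hs⟩ => ⟨A, s, ?_, fun h => ?_⟩⟩
  · obtain ⟨t, ht, ht0, htm⟩ := exists_generator hf
    have hnt : t ∉ Set.range g := by
      rintro ⟨u, hu⟩
      apply hg
      intro b
      obtain ⟨c, hc⟩ := hgf (f b)
      have hk : b - g c ∈ RingHom.ker f.toAlgHom := by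
        change f (b - g c) = 0
        rw [map_sub, sub_eq_zero]
        exact hc.symm
      rw [ht, Ideal.mem_span_singleton'] at hk
      obtain ⟨r, hr⟩ := hk
      obtain ⟨d, hd⟩ := C.res_surjective (B.res r)
      refine ⟨c + d * u, ?_⟩
      have hz : (g d - r) * t = 0 := htm _ (by
        rw [ArtFun.Art.mem_maximalIdeal_iff, map_sub, ArtFun.Art.res_app g, hd, sub_self])
      rw [map_add, map_mul, hu]
      linear_combination hz + hr
    obtain ⟨l, hl⟩ := exists_algHom_factor (f := (g ≫ f).toAlgHom) hgf g.toAlgHom (fun c hc => by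
      by_contra hc0
      apply hnt
      have hk : g c ∈ RingHom.ker f.toAlgHom := hc
      rw [ht, Ideal.mem_span_singleton'] at hk
      obtain ⟨r, hr⟩ := hk
      have hu : IsUnit r := IsLocalRing.notMem_maximalIdeal.1 fun hm => hc0 (by
        change g c = 0
        rw [← hr, htm r hm])
      obtain ⟨d, hd⟩ := C.res_surjective (B.res r)⁻¹
      refine ⟨d * c, ?_⟩
      have hz : (g d * r - 1) * t = 0 := htm _ (by
        rw [ArtFun.Art.mem_maximalIdeal_iff, map_sub, map_mul, map_one, ArtFun.Art.res_app g, hd,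
          inv_mul_cancel₀ (hu.map B.res).ne_zero, sub_self])
      rw [map_mul, ← hr]
      linear_combination hz)
    refine ⟨⟨l, AlgHom.ext fun a => ?_⟩, ArtFun.Art.hom_ext (AlgHom.ext fun a => ?_)⟩ <;>
      obtain ⟨c, rfl⟩ := hgf a
    · change B.res (l ((g ≫ f) c)) = A.res ((g ≫ f) c)
      rw [hl, ArtFun.Art.res_app g, ArtFun.Art.res_app (g ≫ f)]
    · exact congrArg f.toAlgHom (hl c)
  · rw [hs]; exact Function.surjective_id
  · apply hf.2.1
    refine (RingHom.injective_iff_ker_eq_bot f.toAlgHom).1 fun x y e => ?_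
    obtain ⟨x, rfl⟩ := h x
    obtain ⟨y, rfl⟩ := h y
    have hid : ∀ a, f (s a) = a := fun a => congrArg (fun m : A ⟶ A => m a) hs
    exact congrArg s.toAlgHom ((hid x).symm.trans (e.trans (hid y)))

end Groth.Agent.S12713
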