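import Groth.Statements.S12715
import Groth.Agent.ArtFunLib.Hull

set_option autoImplicit false
universe u v
open CategoryTheory
open ArtFun

namespace Groth.Agent.S12715

open Groth.Agent.ArtFunLib

/-- For Λ Noetherian with a finite map to the field k and S a complete local Noetherian Λ-algebra with
residue field k (through a surjective map S → k over Λ), the space of Λ-derivations S → k is
finite-dimensional over k. -/
theorem result {Λ : Type u} {k : Type u} [CommRing Λ] [Field k] [Algebra Λ k]
    [IsNoetherianRing Λ] [Module.Finite Λ k]
    (S : Type u) [CommRing S] [Algebra Λ S] [IsLocalRing S] [IsNoetherianRing S]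
    [IsAdicComplete (IsLocalRing.maximalIdeal S) S] [Algebra S k] [IsScalarTower Λ S k]
    (hres : Function.Surjective (algebraMap S k)) :
    Module.Finite k (Derivation Λ S k) := by
  let res : S →ₐ[Λ] k := IsScalarTower.toAlgHom Λ S k
  obtain ⟨s, hs⟩ := exists_finset_determining res hres (fun a => by
    have hmax : (RingHom.ker (algebraMap S k)).IsMaximal := RingHom.ker_isMaximal_of_surjective _ hres
    rw [← IsLocalRing.eq_maximalIdeal hmax, RingHom.mem_ker]
    rfl)
  let ev : Derivation Λ S k →ₗ[k] (s → k) :=
    { toFun := fun D a => D a
      map_add' := fun D D' => rfl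
      map_smul' := fun c D => rfl }
  refine Module.Finite.of_injective ev ((injective_iff_map_eq_zero ev).2 fun D hD => ?_)
  refine Derivation.ext fun x => congrFun (hs D (map_add D) (fun x y => ?_) D.map_algebraMap
    fun a ha => congrFun hD ⟨a, ha⟩) x
  rw [D.leibniz, Algebra.smul_def, Algebra.smul_def]
  rfl

end Groth.Agent.S12715
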