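import Groth.Statements.S12716
import Groth.Agent.ArtFunLib.Hull

set_option autoImplicit false
universe u v
open CategoryTheory
open ArtFun

namespace Groth.Agent.S12716

open Groth.Agent.ArtFunLib

/-- Let f : R → S be a morphism of complete local Noetherian Λ-algebras with residue field k (Λ
Noetherian, Λ → k finite). If the restriction map Der_Λ(S, k) → Der_Λ(R, k) is injective — two
Λ-derivations S → k that agree after composing with f are equal — then f is surjective. -/
theorem result {Λ : Type u} {k : Type u} [CommRing Λ] [Field k] [Algebra Λ k]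
    [IsNoetherianRing Λ] [Module.Finite Λ k]
    (R : ArtFun.CRing Λ k)
    (S : Type u) [CommRing S] [Algebra Λ S] [IsLocalRing S] [IsNoetherianRing S]
    [IsAdicComplete (IsLocalRing.maximalIdeal S) S] [Algebra S k] [IsScalarTower Λ S k]
    (hres : Function.Surjective (algebraMap S k))
    (f : R.carrier →ₐ[Λ] S) (hf : (IsScalarTower.toAlgHom Λ S k).comp f = R.res)
    (hinj : ∀ D₁ D₂ : Derivation Λ S k, (∀ r : R.carrier, D₁ (f r) = D₂ (f r)) → D₁ = D₂) :
    Function.Surjective f := by
  let S' : ArtFun.CRing Λ k :=
    { carrier := S, res := IsScalarTower.toAlgHom Λ S k, res_surjective := hres,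
      isAdicComplete := inferInstance }
  refine surjective_of_tangent_injective (R := R) (S := S') f hf fun θ₁ θ₂ h => ?_
  have hmul : ∀ (θ : ArtFun.HomSet S'.carrier S'.res (ArtFun.Art.dual Λ k)) (x y : S),
      TrivSqZeroExt.snd (θ.1 (x * y)) =
        algebraMap S k x * TrivSqZeroExt.snd (θ.1 y) + algebraMap S k y * TrivSqZeroExt.snd (θ.1 x) :=
    fun θ x y => sndFun_mul (resR := S'.res) (TangentSpace.mk (F := ArtFun.hR S'.carrier S'.res) θ) x y
  let D : ArtFun.HomSet S'.carrier S'.res (ArtFun.Art.dual Λ k) → Derivation Λ S k := fun θ =>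
    Derivation.mk'
      { toFun := fun x => TrivSqZeroExt.snd (θ.1 x)
        map_add' := fun x y => sndFun_add_apply (resR := S'.res)
          (TangentSpace.mk (F := ArtFun.hR S'.carrier S'.res) θ) x y
        map_smul' := fun r x => by
          change TrivSqZeroExt.snd (θ.1 (r • x)) = r • TrivSqZeroExt.snd (θ.1 x)
          rw [Algebra.smul_def, hmul,
            show TrivSqZeroExt.snd (θ.1 (algebraMap Λ S r)) = (0 : k) from
              sndFun_algebraMap (resR := S'.res) (TangentSpace.mk (F := ArtFun.hR S'.carrier S'.res) θ) r,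
            mul_zero, add_zero, ← IsScalarTower.algebraMap_apply, Algebra.smul_def] }
      (fun x y => by
        refine (hmul θ x y).trans ?_
        rw [Algebra.smul_def, Algebra.smul_def]
        rfl)
  have e := hinj (D θ₁) (D θ₂) fun r =>
    congrArg (fun t : R.carrier →ₐ[Λ] (ArtFun.Art.dual Λ k) => (TrivSqZeroExt.snd (show DualNumber k from t r) : k)) h
  exact Subtype.ext (AlgHom.ext fun x => TrivSqZeroExt.ext
    ((fst_homSet_dual θ₁ x).trans (fst_homSet_dual θ₂ x).symm) (Derivation.congr_fun e x))

end Groth.Agent.S12716
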