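import Groth.Statements.S12718
import Groth.Agent.ArtFunLib.SmoothRel

set_option autoImplicit false
universe u v
open CategoryTheory
open ArtFun

namespace Groth.Agent.S12718

open Groth.Agent.ArtFunLib

/-- Let R → S be a morphism of complete local Noetherian Λ-algebras with residue field k. The induced
morphism h_S → h_R of functors on Artinian local Λ-algebras with residue field k (composition with R
→ S) is smooth if and only if S is isomorphic as an R-algebra to a power series ring R[[X₁, …, Xₙ]]
for some n. Smoothness of h_S → h_R is written as versality of the corresponding family of h_R over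
S. -/
theorem result {Λ : Type u} {k : Type u} [CommRing Λ] [Field k] [Algebra Λ k]
    [IsNoetherianRing Λ] [Module.Finite Λ k]
    (R S : ArtFun.CRing Λ k) [Algebra R.carrier S.carrier] [IsScalarTower Λ R.carrier S.carrier]
    (hRS : S.res.comp (IsScalarTower.toAlgHom Λ R.carrier S.carrier) = R.res) :
    ArtFun.IsVersal ((ArtFun.Family.self R.carrier R.res).along
        (IsScalarTower.toAlgHom Λ R.carrier S.carrier) hRS) ↔
      ∃ n : ℕ, Nonempty (S.carrier ≃ₐ[R.carrier] MvPowerSeries (Fin n) R.carrier) := by
  let f := IsScalarTower.toAlgHom Λ R.carrier S.carrier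
  constructor
  · intro h
    obtain ⟨n, θ, hθ, hθC, hb⟩ := exists_psIso_of_versal f hRS h
    exact ⟨n, ⟨(AlgEquiv.ofBijective ({ θ.toRingHom with
      commutes' := fun a => congrArg (fun t : R.carrier →ₐ[Λ] S.carrier => t a) hθC } :
        MvPowerSeries (Fin n) R.carrier →ₐ[R.carrier] S.carrier) hb).symm⟩⟩
  · rintro ⟨n, ⟨e⟩⟩
    let θ : (psRing R n).carrier →ₐ[Λ] S.carrier := e.symm.toAlgHom.restrictScalars Λ
    have hθC : θ.comp (psC R n) = f := AlgHom.ext fun a => e.symm.commutes a
    have hθ : S.res.comp θ = (psRing R n).res :=
      res_comp_of_surjective θ (by rw [hθC]; exact hRS) e.symm.surjective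
    have h := isVersal_of_bijective θ hθ e.symm.bijective (isVersal_psRing (R := R) (n := n))
    have e2 : (ArtFun.Family.self R.carrier R.res).along f hRS =
        ((ArtFun.Family.self R.carrier R.res).along (psC R n) (psC_res R n)).along θ hθ := by
      rw [family_along_along _ _ _ _ _ (by rw [hθC]; exact hRS)]
      exact family_along_congr _ hθC.symm _ _
    exact e2 ▸ h

end Groth.Agent.S12718
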