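import Groth.Statements.S1272
import Groth.Agent.RG.FlatMain
import Groth.Agent.QCoh.Pullback
-- import your own Groth.Agent.* helpers here

set_option maxHeartbeats 1600000

set_option autoImplicit false
universe u
open FlatMor

namespace Groth.Agent.S1272

open AlgebraicGeometry CategoryTheory Limits in
/-- Finite presentation over an open. -/
theorem fpOn_of_pullback {X : Scheme.{u}} (F : X.Modules) [F.IsQuasicoherent] (U : X.Opens)
    (h : CohB1.IsFP ((Scheme.Modules.pullback U.ι).obj F)) : Groth.Agent.Props.QApprox.FPOn F U := by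
  haveI : (F.restrict U.ι).IsQuasicoherent := Scheme.Modules.isQuasicoherent_restrictFunctor _ F
  haveI := QCoh.isQuasicoherent_pullback U.ι F
  refine Props.QApproxMain.fpOn_of_restrict ((Props.QFP.isFP_iff _).2 fun W hW => ?_)
  haveI := (Props.QFP.isFP_iff _).1 h W hW
  let e := (Scheme.Modules.restrictFunctorIsoPullback U.ι).app F
  have hbij : Function.Bijective (Props.QApprox.appLin e.inv W) := by
    refine Function.bijective_iff_has_inverse.2 ⟨Props.QApprox.appLin e.hom W, fun z => ?_, fun z => ?_⟩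
    · show e.hom.app W (e.inv.app W z) = z
      rw [← ConcreteCategory.comp_apply, ← Scheme.Modules.Hom.comp_app, e.inv_hom_id]
      rfl
    · show e.inv.app W (e.hom.app W z) = z
      rw [← ConcreteCategory.comp_apply, ← Scheme.Modules.Hom.comp_app, e.hom_inv_id]
      rfl
  exact Module.FinitePresentation.of_equiv (LinearEquiv.ofBijective _ hbij)

open AlgebraicGeometry CategoryTheory Limits in
/-- Let S be a quasi-compact quasi-separated scheme, U ⊆ S a quasi-compact open, f : X → S locally of
finite presentation with X quasi-compact, and F a quasi-coherent O_X-module of finite type whose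
restriction to f⁻¹U is of finite presentation and flat over S at every point over U. Then there are
a finite type quasi-coherent ideal sheaf on S with support disjoint from U and a blow-up b : S' → S
of S in it (a U-admissible blow-up) such that, for the base change X' = X ×_S S' with projections
p₁, p₂ and any strict transform G of F along p₁ (the quotient of p₁^*F by the sections locally
killed by a power of the pulled-back exceptional ideal), G is an O_{X'}-module of finite
presentation and flat over S'. -/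
theorem result {X S : Scheme.{u}} [CompactSpace S] [QuasiSeparatedSpace S] [CompactSpace X]
    (f : X ⟶ S) [LocallyOfFinitePresentation f] (U : S.Opens) (hU : IsCompact (U : Set S))
    (F : X.Modules) (hqc : Coh.IsQCoh F) (hft : CohB1.IsFT F)
    (hfpU : CohB1.IsFP ((Scheme.Modules.pullback (f ⁻¹ᵁ U).ι).obj F))
    (hflU : ∀ x : X, f.base x ∈ U → FlatMod.IsFlatOverAt f F x) :
    ∃ (𝓘 : S.IdealSheafData) (S' : Scheme.{u}) (b : S' ⟶ S), BlowUp.IsBlowUp b 𝓘 ∧ BlowUp.IsAdmissibleFor U 𝓘 ∧
      ∀ (X' : Scheme.{u}) (p₁ : X' ⟶ X) (p₂ : X' ⟶ S'), IsPullback p₁ p₂ f b →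
      ∀ (G : X'.Modules) (π : (Scheme.Modules.pullback p₁).obj F ⟶ G),
        BlowUp.IsStrictTransform p₁ (𝓘.comap f) F G π → CohB1.IsFP G ∧ FlatMod.IsFlatOver p₂ G := by
  haveI : F.IsQuasicoherent := hqc
  haveI : F.IsFiniteType := hft
  obtain ⟨𝓘, S', b, hb, hadm, h⟩ :=
    Groth.Agent.RG.FlatMain.exists_flattening f U hU F (fpOn_of_pullback F (f ⁻¹ᵁ U) hfpU) hflU
  refine ⟨𝓘, S', b, hb, hadm, fun X' p₁ p₂ hpb G π hG => ?_⟩
  obtain ⟨hepi, hkill⟩ := hG
  haveI := QCoh.isQuasicoherent_pullback p₁ F
  have hE : HTop.IsLocPrincipal ((𝓘.comap f).comap p₁) := RG.StrictSub.isLocPrincipal_exceptional hb hpb.w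
  have hk : FittLib.StrictSheaf.KillsTorsion π ((𝓘.comap f).comap p₁) := hkill
  haveI : G.IsQuasicoherent := RG.StrictLP.isQuasicoherent_of_kills hE hk
  refine ⟨Props.QFP.isFP_of_forall_exists G fun x => ?_, fun x => ?_⟩
  · obtain ⟨W, O, e, c, hxO, hc, -, hfp⟩ := h X' p₁ p₂ hpb x
    obtain ⟨ε⟩ := RG.StrictLP.nonempty_sections hE hk hc
    haveI := hfp
    exact ⟨O.1, O.2, hxO, Module.FinitePresentation.of_equiv ε⟩
  · obtain ⟨W, O, e, c, hxO, hc, hfl, -⟩ := h X' p₁ p₂ hpb x
    obtain ⟨ε⟩ := RG.StrictLP.nonempty_sections hE hk hc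
    refine FlatSect.isFlatOverAt_of_flat_sections p₂ W.2 O.2 e G ?_ x hxO
    letI : Algebra Γ(S', W.1) Γ(X', O.1) := (p₂.appLE W.1 O.1 e).hom.toAlgebra
    letI : Module Γ(S', W.1) Γ((Scheme.Modules.pullback p₁).obj F, O.1) :=
      Module.compHom _ (p₂.appLE W.1 O.1 e).hom
    haveI : IsScalarTower Γ(S', W.1) Γ(X', O.1) Γ((Scheme.Modules.pullback p₁).obj F, O.1) :=
      IsScalarTower.of_algebraMap_smul fun _ _ => rfl
    letI : Module Γ(S', W.1) Γ(G, O.1) := Module.compHom _ (p₂.appLE W.1 O.1 e).hom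
    haveI : IsScalarTower Γ(S', W.1) Γ(X', O.1) Γ(G, O.1) := IsScalarTower.of_algebraMap_smul fun _ _ => rfl
    haveI := hfl
    exact Module.Flat.of_linearEquiv (ε.restrictScalars Γ(S', W.1)).symm


end Groth.Agent.S1272
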