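import Groth.Statements.S12722
import Groth.Agent.ArtFunLib.SmoothRel
import Groth.Agent.S12718

set_option autoImplicit false
universe u v
open CategoryTheory
open ArtFun

namespace Groth.Agent.S12722

open Groth.Agent.ArtFunLib

/-- (1) ⇔ (5): let Λ be a complete local Noetherian ring with residue field k. For a complete local
Noetherian Λ-algebra R with residue field k, the functor h_R on Artinian local Λ-algebras with
residue field k is smooth if and only if R is isomorphic over Λ to a power series ring Λ[[x₁, …,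
xₙ]] for some n. -/
theorem result {Λ : Type u} {k : Type u} [CommRing Λ] [Field k] [Algebra Λ k]
    [IsNoetherianRing Λ] [Module.Finite Λ k]
    [IsLocalRing Λ] [IsAdicComplete (IsLocalRing.maximalIdeal Λ) Λ]
    (hk : Function.Surjective (algebraMap Λ k)) (R : ArtFun.CRing Λ k) :
    ArtFun.IsSmoothFunctor (ArtFun.hR R.carrier R.res) ↔
      ∃ n : ℕ, Nonempty (R.carrier ≃ₐ[Λ] MvPowerSeries (Fin n) Λ) := by
  have hm : ∀ a : Λ, a ∈ IsLocalRing.maximalIdeal Λ ↔ algebraMap Λ k a = 0 := fun a => by
    rw [← IsLocalRing.eq_maximalIdeal (RingHom.ker_isMaximal_of_surjective (algebraMap Λ k) hk), RingHom.mem_ker]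
  let L : ArtFun.CRing Λ k :=
    { carrier := Λ, res := Algebra.ofId Λ k, res_surjective := hk, isAdicComplete := inferInstance }
  have hc : R.res.comp (IsScalarTower.toAlgHom Λ Λ R.carrier) = L.res := AlgHom.ext fun a => R.res.commutes a
  haveI : IsScalarTower Λ L.carrier R.carrier := IsScalarTower.of_algebraMap_eq fun _ => rfl
  refine Iff.trans ⟨fun h => ?_, fun h => ?_⟩ (Groth.Agent.S12718.result L R (hRS := hc))
  · intro B A μ hμ φ y _
    obtain ⟨ψ, hψ⟩ := h μ hμ φ
    exact ⟨ψ, hψ, Subtype.ext (AlgHom.ext fun (r : Λ) => (AlgHom.commutes _ r).trans (AlgHom.commutes _ r).symm)⟩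
  · intro B A μ hμ φ
    let φ' : ArtFun.HomSet R.carrier R.res A := φ
    obtain ⟨ψ, hψ, -⟩ := h μ hμ φ' (⟨Algebra.ofId Λ B, AlgHom.ext fun a => B.res.commutes a⟩ : ArtFun.HomSet L.carrier L.res B)
      (Subtype.ext (AlgHom.ext fun a => (μ.toAlgHom.commutes a).trans (φ'.1.commutes a).symm))
    exact ⟨ψ, hψ⟩

end Groth.Agent.S12722
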