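import Groth.Statements.S12731
import Groth.Agent.ArtFunLib.Cotangent
import Groth.Agent.ArtFunLib.Pullback

set_option autoImplicit false
universe u v
open CategoryTheory
open ArtFun

namespace Groth.Agent.S12731

open Groth.Agent.ArtFunLib

/-- For functors, if a functor F on Artinian local Λ-algebras with residue field k with F(k) a point has
a versal family over a complete local Noetherian ring with residue field k which is bijective on
tangent spaces (a hull), then F satisfies (S1) and (S2) and has finite-dimensional tangent space. -/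
theorem result {Λ : Type u} {k : Type u} [CommRing Λ] [Field k] [Algebra Λ k]
    [IsNoetherianRing Λ] [Module.Finite Λ k]
    (F : ArtFun.Art Λ k ⥤ Type v) [ArtFun.TangentStr F] (h0 : ArtFun.H0 F) (h : ArtFun.HasHull F) :
    ArtFun.S1 F ∧ ArtFun.Heps F ∧ ArtFun.Hfin F := by
  obtain ⟨P⟩ := h
  haveI := h0.2
  have hs := surjective_app_of_versal P.miniversal.1
  refine ⟨s1_of_versal P.miniversal.1 hs, heps_of_miniversal P.miniversal hs, ?_⟩
  obtain ⟨TR⟩ := nonempty_tangentStr (hR P.ring.carrier P.ring.res) (h0_hR _ _)
    (fun _ _ _ _ h => isLeftExact_hR _ _ _ _ _ _ h)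
  obtain ⟨l, hl⟩ := exists_tangentLinear (h0_hR _ _) (fun _ _ _ _ h => isLeftExact_hR _ _ _ _ _ _ h)
    (NatFam.ofFamily P.family)
  haveI : Module.Finite k (TangentSpace (hR P.ring.carrier P.ring.res)) :=
    hfin_hR P.ring.res_surjective (CRing.mem_maximalIdeal_iff P.ring)
  refine Module.Finite.of_surjective l fun y => ?_
  obtain ⟨x, hx⟩ := P.miniversal.2.2 y
  exact ⟨x, (hl x).trans hx⟩

end Groth.Agent.S12731
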