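import Groth.Statements.S12734
import Groth.Agent.ArtFunLib.Hull

set_option autoImplicit false
universe u v
open CategoryTheory
open ArtFun

namespace Groth.Agent.S12734

open Groth.Agent.ArtFunLib

/-- A functor F on Artinian local Λ-algebras with residue field k is prorepresentable if and only if (a)
F(k) is a point and F satisfies (RS): F(A₁ ×_A A₂) → F(A₁) ×_{F(A)} F(A₂) is bijective whenever A₂ →
A is surjective; (b) its tangent space is finite-dimensional; and (c) the map from morphisms k →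
k[ε] of the category (the Λ-derivations of k) to the tangent space, σ ↦ F(σ)(x₀), is injective.
Condition (c) is empty when k is separable over the image of Λ in k. -/
theorem result {Λ : Type u} {k : Type u} [CommRing Λ] [Field k] [Algebra Λ k]
    [IsNoetherianRing Λ] [Module.Finite Λ k]
    (F : ArtFun.Art Λ k ⥤ Type v) [ArtFun.TangentStr F] :
    ArtFun.IsProrepresentable F ↔
      ((ArtFun.H0 F ∧ (∀ ⦃B A A' A'' : ArtFun.Art Λ k⦄ (p' : B ⟶ A') (p'' : B ⟶ A'') (f' : A' ⟶ A) (f'' : A'' ⟶ A)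
        (h : ArtFun.Art.IsFibreProd p' p'' f' f''), Function.Surjective f'' → Function.Bijective (ArtFun.cmp F h))) ∧
        ArtFun.Hfin F ∧
        ∀ x₀ : F.obj (ArtFun.Art.base Λ k),
          Function.Injective (fun σ : ArtFun.Art.base Λ k ⟶ ArtFun.Art.dual Λ k => F.map σ x₀)) := by
  refine ⟨fun ⟨P⟩ => ⟨⟨h0_of_prorep P, fun _ _ _ _ _ _ _ _ h _ => isLeftExact_of_prorep P _ _ _ _ h⟩,
    hfin_of_surjective_tangent P.family (P.universal _).2, fun x₀ σ τ e => ?_⟩,
    fun ⟨⟨h0, hRS⟩, h3, hc⟩ => isProrepresentable_of_conditions h0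
      (fun _ _ _ _ _ _ _ _ h hf => (hRS _ _ _ _ h hf.1).2)
      (fun _ _ _ _ h => hRS _ _ _ _ h (ArtFun.Art.dual Λ k).res_surjective) h3
      (fun _ _ _ _ _ _ h hf => hRS _ _ _ _ h hf.1) (fun x₀ σ e => hc x₀ e)⟩
  obtain ⟨φ, rfl⟩ := (P.universal _).2 x₀
  have e' : P.family.app _ (ArtFun.HomSet.map σ φ) = P.family.app _ (ArtFun.HomSet.map τ φ) := by
    rw [P.family.natural, P.family.natural]; exact e
  refine ArtFun.Art.hom_ext (AlgHom.ext fun c => ?_)
  obtain ⟨a, ha⟩ := P.ring.res_surjective c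
  have hφ : φ.1 a = c := (congrArg (fun f : ArtFun.HomSet P.ring.carrier P.ring.res _ => f.1 a)
    (eq_basePoint _ _ φ)).trans ha
  have := congrArg (fun f : ArtFun.HomSet P.ring.carrier P.ring.res _ => f.1 a) ((P.universal _).1 e')
  exact (congrArg σ.toAlgHom hφ.symm).trans (this.trans (congrArg τ.toAlgHom hφ))

end Groth.Agent.S12734
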