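import Groth.Statements.S12735
import Groth.Agent.ArtFunLib.Hull

set_option autoImplicit false
universe u v
open CategoryTheory
open ArtFun

namespace Groth.Agent.S12735

open Groth.Agent.ArtFunLib

/-- Let U be a prorepresentable functor on Artinian local Λ-algebras with residue field k and φ : U → U
an endomorphism of functors which is bijective on the tangent space U(k[ε]). Then φ is an
isomorphism: every component is bijective. -/
theorem result {Λ : Type u} {k : Type u} [CommRing Λ] [Field k] [Algebra Λ k]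
    [IsNoetherianRing Λ] [Module.Finite Λ k]
    {U : ArtFun.Art Λ k ⥤ Type v} (hU : ArtFun.IsProrepresentable U)
    (φ : U ⟶ U) (hd : Function.Bijective (ArtFun.TangentSpace.map φ)) (A : ArtFun.Art Λ k) :
    Function.Bijective (φ.app A) := by
  obtain ⟨P⟩ := hU
  haveI := (h0_of_prorep P).2
  have hl := isLeftExact_of_prorep P
  refine ⟨injective_of_tangent_injective (NatFam.ofNatTrans φ) (fun _ _ _ _ _ _ h _ => (hl _ _ _ _ h).2)
    (fun _ _ _ _ h => hl _ _ _ _ h) (fun _ _ _ _ _ _ h _ => (hl _ _ _ _ h).1) hd.1 A, ?_⟩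
  obtain ⟨g, hg, hgu⟩ := exists_along_eq_of_versal (isMiniversal_of_isUniversal _ P.universal).1
    (fun _ => ⟨basePoint _ _, Subsingleton.elim _ _⟩) P.ring (P.family.push φ).toFormalElt
  have e := toFormalElt_injective hgu
  have hs : Function.Surjective g := surjective_of_tangent_injective g hg fun θ₁ θ₂ h => by
    have h2 : ∀ θ : ArtFun.HomSet P.ring.carrier P.ring.res (ArtFun.Art.dual Λ k),
        φ.app _ (P.family.app _ θ) = (P.family.along g hg).app _ θ := fun θ => by
      rw [e]; rfl
    refine (P.universal _).1 (hd.1 ?_)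
    change φ.app _ (P.family.app _ θ₁) = φ.app _ (P.family.app _ θ₂)
    rw [h2, h2]
    exact congrArg (P.family.app _) (Subtype.ext h)
  have hi : Function.Injective g.toRingHom := injective_of_surjective_ringEnd _ hs
  let E := AlgEquiv.ofBijective g ⟨hi, hs⟩
  intro x
  obtain ⟨ψ, rfl⟩ := (P.universal A).2 x
  have hE : ∀ r, P.ring.res (E.symm r) = P.ring.res r := fun r => by
    conv_rhs => rw [← E.apply_symm_apply r]
    exact (congrArg (fun f : P.ring.carrier →ₐ[Λ] k => f (E.symm r)) hg).symm
  refine ⟨P.family.app A ⟨ψ.1.comp E.symm.toAlgHom, AlgHom.ext fun r => ?_⟩, ?_⟩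
  · exact (congrArg (fun f : P.ring.carrier →ₐ[Λ] k => f (E.symm r)) ψ.2).trans (hE r)
  · have h3 := congrArg (fun η => η.app A (⟨ψ.1.comp E.symm.toAlgHom, AlgHom.ext fun r =>
      (congrArg (fun f : P.ring.carrier →ₐ[Λ] k => f (E.symm r)) ψ.2).trans (hE r)⟩ :
      ArtFun.HomSet P.ring.carrier P.ring.res A)) e
    refine Eq.trans (Eq.symm h3) (congrArg (P.family.app A) (Subtype.ext (AlgHom.ext fun r => ?_)))
    exact congrArg ψ.1 (E.symm_apply_apply r)

end Groth.Agent.S12735
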