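import Groth.Statements.S12739
import Groth.Agent.ArtFunLib.Hull
import Groth.Agent.ArtFunLib.ArtCRing
import Mathlib.Algebra.Module.SpanRankOperations

set_option autoImplicit false
universe u v
open CategoryTheory
open ArtFun

namespace Groth.Agent.S12739

open Groth.Agent.ArtFunLib ArtFun.Art IsLocalRing

section Gens

variable {B C : Type*} [CommRing B] [CommRing C] [IsLocalRing B] [IsLocalRing C]

/-- A surjection of local rings that preserves the number of generators of the maximal ideal has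
kernel in its square. -/
lemma mem_sq_of_spanFinrank_eq [IsNoetherianRing B] (p : B →+* C) (hp : Function.Surjective p)
    (h : (maximalIdeal B).spanFinrank = (maximalIdeal C).spanFinrank) {x : B}
    (hx : p x = 0) : x ∈ maximalIdeal B ^ 2 := by
  classical
  haveI := IsLocalHom.of_surjective p hp
  obtain ⟨s, hs, hspan⟩ := Submodule.FG.exists_span_finset_card_eq_spanFinrank
    (IsNoetherian.noetherian (maximalIdeal B))
  have hxm : x ∈ maximalIdeal B := fun hu => by simpa [hx] using hu.map p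
  have hmap : maximalIdeal C ≤ Ideal.span (p '' (s : Set B)) := fun c hc => by
    obtain ⟨b, rfl⟩ := hp c
    have hb : b ∈ maximalIdeal B := fun hu => hc (hu.map p)
    rw [← hspan] at hb
    rw [← Ideal.map_span]
    exact Ideal.mem_map_of_mem p hb
  have hxs : x ∈ Submodule.span B (s : Set B) := hspan.symm ▸ hxm
  obtain ⟨a, rfl⟩ := Submodule.mem_span_finset'.1 hxs
  by_contra hx2
  have : ∃ i : s, IsUnit (a i) := by
    by_contra hall
    push Not at hall
    refine hx2 (Ideal.sum_mem _ fun i _ => ?_)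
    rw [smul_eq_mul, pow_two]
    exact Ideal.mul_mem_mul (hall i) (hspan ▸ Submodule.subset_span i.2)
  obtain ⟨i, hi⟩ := this
  let t : Finset C := (s.erase i.1).image p
  have hle : maximalIdeal C ≤ Ideal.span (t : Set C) := by
    refine hmap.trans (Ideal.span_le.2 ?_)
    rintro _ ⟨b, hb, rfl⟩
    by_cases hbi : b = i.1
    · subst hbi
      have hsum : p (a i) * p i.1 = -∑ j ∈ Finset.univ.erase i, p (a j) * p j.1 := by
        rw [eq_neg_iff_add_eq_zero, Finset.add_sum_erase _ (fun j => p (a j) * p j.1)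
          (Finset.mem_univ i)]
        rw [← hx, map_sum]
        simp
      have : p (a i) * p i.1 ∈ Ideal.span (t : Set C) := by
        rw [hsum]
        refine neg_mem (Ideal.sum_mem _ fun j hj => Ideal.mul_mem_left _ _ (Ideal.subset_span ?_))
        simp only [t, Finset.coe_image, Finset.coe_erase]
        exact ⟨j.1, ⟨j.2, fun e => (Finset.mem_erase.1 hj).1 (Subtype.ext e)⟩, rfl⟩
      exact (Ideal.unit_mul_mem_iff_mem _ (hi.map p)).1 this
    · exact Ideal.subset_span (by
        simp only [t, Finset.coe_image, Finset.coe_erase]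
        exact ⟨b, ⟨hb, hbi⟩, rfl⟩)
  have hge : Ideal.span (t : Set C) ≤ maximalIdeal C := Ideal.span_le.2 fun c hc => by
    simp only [t, Finset.coe_image, Finset.coe_erase] at hc
    obtain ⟨b, ⟨hb, -⟩, rfl⟩ := hc
    have hb' : b ∈ maximalIdeal B := hspan ▸ Submodule.subset_span hb
    exact fun hu => hb' (isUnit_of_map_unit p b hu)
  have h1 : (maximalIdeal C).spanFinrank ≤ (t : Set C).ncard := by
    rw [← le_antisymm hge hle]
    exact Submodule.spanFinrank_span_le_ncard_of_finite t.finite_toSet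
  rw [Set.ncard_coe_finset, ← h] at h1
  have h2 : t.card ≤ (s.erase i.1).card := Finset.card_image_le
  have h3 : (s.erase i.1).card < s.card := Finset.card_erase_lt_of_mem i.2
  omega

lemma spanFinrank_le_of_surjective [IsNoetherianRing B] (p : B →+* C)
    (hp : Function.Surjective p) :
    (maximalIdeal C).spanFinrank ≤ (maximalIdeal B).spanFinrank := by
  classical
  haveI := IsLocalHom.of_surjective p hp
  obtain ⟨s, hs, hspan⟩ := Submodule.FG.exists_span_finset_card_eq_spanFinrank
    (IsNoetherian.noetherian (maximalIdeal B))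
  have hC : maximalIdeal C = Ideal.span ((s.image p : Finset C) : Set C) := by
    rw [Finset.coe_image, ← Ideal.map_span]
    refine le_antisymm (fun c hc => ?_) (Ideal.map_le_iff_le_comap.2 fun b hb => ?_)
    · obtain ⟨b, rfl⟩ := hp c
      exact Ideal.mem_map_of_mem p (show b ∈ Ideal.span (s : Set B) from (le_of_eq hspan.symm : maximalIdeal B ≤ Submodule.span B (s : Set B)) (fun hu => hc (hu.map p)))
    · have hb' : b ∈ maximalIdeal B := hspan ▸ hb
      exact fun hu => hb' (isUnit_of_map_unit p b hu)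
  rw [hC]
  refine (Submodule.spanFinrank_span_le_ncard_of_finite (s.image p).finite_toSet).trans ?_
  rw [Set.ncard_coe_finset, ← hs]
  exact Finset.card_image_le

end Gens

variable {Λ k : Type u} [CommRing Λ] [Field k] [Algebra Λ k]

lemma exists_transition (A : ℕ → Art Λ k) (f : ∀ n, A (n + 1) ⟶ A n) {m n : ℕ} (h : m ≤ n) :
    ∃ g : A n ⟶ A m, ∀ a : ∀ n, A n, (∀ n, f n (a (n + 1)) = a n) → g (a n) = a m := by
  induction n, h using Nat.le_induction with
  | base => exact ⟨𝟙 _, fun a _ => rfl⟩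
  | succ n hn ih =>
    obtain ⟨g, hg⟩ := ih
    exact ⟨f n ≫ g, fun a ha => (congrArg g.toAlgHom (ha n)).trans (hg a ha)⟩

lemma exists_seq (n : ℕ) : ∀ (A : ℕ → Art Λ k) (f : ∀ n, A (n + 1) ⟶ A n),
    (∀ n, Function.Surjective (f n)) → ∀ a : A n,
    ∃ c : ∀ n, A n, (∀ n, f n (c (n + 1)) = c n) ∧ c n = a := by
  induction n with
  | zero =>
    intro A f hf a
    choose up hup using hf
    exact ⟨fun m => Nat.rec (motive := fun m => A m) a (fun m b => up m b) m, fun m => hup m _, rfl⟩
  | succ n ih =>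
    intro A f hf a
    obtain ⟨c, hc, hca⟩ := ih (fun m => A (m + 1)) (fun m => f (m + 1)) (fun m => hf (m + 1)) a
    refine ⟨fun m => Nat.casesOn (motive := fun m => A m) m (f 0 (c 0)) c, fun m => ?_, hca⟩
    cases m with
    | zero => rfl
    | succ m => exact hc m

variable (A : ℕ → Art Λ k) (f : ∀ n, A (n + 1) ⟶ A n)

/-- Compatible sequences. -/
def limAlg : Subalgebra Λ (∀ n, A n) where
  carrier := {a | ∀ n, f n (a (n + 1)) = a n}
  mul_mem' {x y} hx hy n := (map_mul (f n).toAlgHom _ _).trans (congrArg₂ (· * ·) (hx n) (hy n))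
  add_mem' {x y} hx hy n := (map_add (f n).toAlgHom _ _).trans (congrArg₂ (· + ·) (hx n) (hy n))
  algebraMap_mem' r n := (f n).toAlgHom.commutes r

/-- The projections. -/
def proj (n : ℕ) : limAlg A f →ₐ[Λ] A n :=
  (Pi.evalAlgHom Λ (fun n => (A n).carrier) n).comp (limAlg A f).val

lemma res_proj (a : limAlg A f) (n : ℕ) : (A n).res (proj A f n a) = (A 0).res (proj A f 0 a) := by
  induction n with
  | zero => rfl
  | succ n ih =>
    rw [← ih]
    change _ = (A n).res (a.1 n)
    rw [← a.2 n, res_app]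
    rfl

/-- The projection as a point. -/
def projHom (n : ℕ) : HomSet (limAlg A f) ((A 0).res.comp (proj A f 0)) (A n) :=
  ⟨proj A f n, AlgHom.ext fun a => res_proj A f a n⟩

lemma map_projHom (n : ℕ) : HomSet.map (f n) (projHom A f (n + 1)) = projHom A f n :=
  Subtype.ext (AlgHom.ext fun a => a.2 n)

lemma proj_surjective (hf : ∀ n, Function.Surjective (f n)) (n : ℕ) :
    Function.Surjective (proj A f n) := fun a => by
  obtain ⟨c, hc, rfl⟩ := exists_seq n A f hf a
  exact ⟨⟨c, hc⟩, rfl⟩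

lemma ker_proj_anti {m n : ℕ} (h : m ≤ n) :
    RingHom.ker (proj A f n) ≤ RingHom.ker (proj A f m) := fun a ha => by
  obtain ⟨g, hg⟩ := exists_transition A f h
  change a.1 m = 0
  rw [← hg a.1 a.2, show a.1 n = 0 from ha, map_zero]

/-- The augmentation of the ring of compatible sequences. -/
abbrev resL : limAlg A f →ₐ[Λ] k := (A 0).res.comp (proj A f 0)

/-- Maps out of the compatible sequences factoring through some stage. -/
def contFun : Art Λ k ⥤ Type u where
  obj B := {φ : HomSet (limAlg A f) (resL A f) B //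
    ∃ n, RingHom.ker (proj A f n) ≤ RingHom.ker φ.1}
  map {B C} g := ↾fun φ => ⟨HomSet.map g φ.1, φ.2.imp fun n hn a ha => by
    change g (φ.1.1 a) = 0
    rw [show φ.1.1 a = 0 from hn ha, map_zero]⟩
  map_id B := ConcreteCategory.hom_ext _ _ fun φ => Subtype.ext (Subtype.ext (AlgHom.ext fun _ => rfl))
  map_comp g h := ConcreteCategory.hom_ext _ _ fun φ =>
    Subtype.ext (Subtype.ext (AlgHom.ext fun _ => rfl))

lemma resL_surjective (hf : ∀ n, Function.Surjective (f n)) : Function.Surjective (resL A f) :=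
  (A 0).res_surjective.comp (proj_surjective A f hf 0)

lemma h0_contFun : H0 (contFun A f) :=
  ⟨⟨⟨basePoint (limAlg A f) (resL A f), 0, fun a ha => by
    change (A 0).res (proj A f 0 a) = 0
    rw [show proj A f 0 a = 0 from ha, map_zero]⟩⟩,
   ⟨fun x y => Subtype.ext ((h0_hR (limAlg A f) (resL A f)).2.elim x.1 y.1)⟩⟩

lemma isLeftExact_contFun : IsLeftExact (contFun A f) := by
  intro B C C' C'' p' p'' g' g'' h
  refine ⟨(cmp_inj_iff _ h).2 fun z₁ z₂ e₁ e₂ => ?_, (cmp_surj_iff _ h).2 fun x y e => ?_⟩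
  · exact Subtype.ext ((cmp_inj_iff (hR (limAlg A f) (resL A f)) h).1
      (isLeftExact_hR _ _ _ _ _ _ h).1 z₁.1 z₂.1 (congrArg Subtype.val e₁) (congrArg Subtype.val e₂))
  · obtain ⟨φ, h₁, h₂⟩ := exists_homSet_lift h x.1 y.1 (congrArg Subtype.val e)
    obtain ⟨n, hn⟩ := x.2
    obtain ⟨m, hm⟩ := y.2
    refine ⟨⟨φ, max n m, fun a ha => h.inj _ _ ?_ ?_⟩, Subtype.ext h₁, Subtype.ext h₂⟩
    · rw [map_zero]
      exact (congrArg (fun t : HomSet (limAlg A f) (resL A f) C' => t.1 a) h₁).trans (hn (ker_proj_anti A f (le_max_left n m) ha) : x.1.1 a = 0)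
    · rw [map_zero]
      exact (congrArg (fun t : HomSet (limAlg A f) (resL A f) C'' => t.1 a) h₂).trans (hm (ker_proj_anti A f (le_max_right n m) ha) : y.1.1 a = 0)

lemma seesDerivations_contFun (hf : ∀ n, Function.Surjective (f n)) :
    SeesDerivations (contFun A f) := by
  intro x₀ σ e
  refine hom_ext (AlgHom.ext fun c => ?_)
  obtain ⟨a, ha⟩ := resL_surjective A f hf c
  have hφ : x₀.1.1 a = c := (congrArg (fun t : HomSet (limAlg A f) (resL A f) (base Λ k) => t.1 a)
    (eq_basePoint _ _ x₀.1)).trans ha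
  have := congrArg (fun t => t.1.1 a) e
  exact (congrArg σ.toAlgHom hφ.symm).trans (this.trans
    (congrArg (baseToDual : base Λ k ⟶ dual Λ k).toAlgHom hφ))

/-- The family over the `n`-th stage. -/
def stageFamily (n : ℕ) : Family (artCRing (A n)).carrier (artCRing (A n)).res (contFun A f) where
  app B ψ := ⟨⟨ψ.1.comp (proj A f n), by
      rw [← AlgHom.comp_assoc, ψ.2]
      exact (projHom A f n).2⟩,
    n, fun a ha => by
      change ψ.1 (proj A f n a) = 0
      rw [show proj A f n a = 0 from ha]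
      exact map_zero ψ.1⟩
  natural g ψ := rfl

lemma exists_stage_surjective [IsNoetherianRing Λ] (hf : ∀ n, Function.Surjective (f n)) (d : ℕ)
    (hd : ∀ n, Module.finrank (ResidueField (A n)) (CotangentSpace (A n)) ≤ d) :
    ∃ N, Function.Surjective ((stageFamily A f N).app (dual Λ k)) := by
  let c : ℕ → ℕ := fun n => (maximalIdeal (A n)).spanFinrank
  have hc : ∀ n, c n ≤ d := fun n =>
    (IsLocalRing.spanFinrank_maximalIdeal_eq_finrank_cotangentSpace (A n)).trans_le (hd n)
  have hmono : Monotone c := monotone_nat_of_le_succ fun n =>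
    spanFinrank_le_of_surjective (f n).toAlgHom.toRingHom (hf n)
  obtain ⟨N, hN⟩ : ∃ N, ∀ n, c n ≤ c N := by
    obtain ⟨N, hN⟩ := Nat.sSup_mem (Set.range_nonempty c) ⟨d, by rintro _ ⟨n, rfl⟩; exact hc n⟩
    exact ⟨N, fun n => hN.symm ▸ le_csSup ⟨d, by rintro _ ⟨n, rfl⟩; exact hc n⟩ ⟨n, rfl⟩⟩
  refine ⟨N, fun φ => ?_⟩
  obtain ⟨n, hn⟩ := φ.2
  let m := max n N
  obtain ⟨g, hg⟩ := exists_transition A f (show N ≤ m from le_max_right _ _)
  have hgs : Function.Surjective g := fun b => by
    obtain ⟨a, rfl⟩ := proj_surjective A f hf N b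
    exact ⟨a.1 m, hg a.1 a.2⟩
  obtain ⟨ψ, hψ⟩ := exists_algHom_factor (proj_surjective A f hf m) φ.1.1
    (fun a ha => hn (ker_proj_anti A f (le_max_left n N) ha))
  have hres : (dual Λ k).res.comp ψ = (A m).res := AlgHom.ext fun b => by
    obtain ⟨a, rfl⟩ := proj_surjective A f hf m b
    change (dual Λ k).res (ψ (proj A f m a)) = _
    rw [hψ]
    exact (congrArg (fun t : (limAlg A f) →ₐ[Λ] k => t a) φ.1.2).trans (res_proj A f a m).symm
  let ψA : A m ⟶ dual Λ k := ⟨ψ, hres⟩
  have hker : ∀ x ∈ RingHom.ker g.toAlgHom, ψ x = 0 := fun x hx => by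
    have h2 := mem_sq_of_spanFinrank_eq g.toAlgHom.toRingHom hgs
      (le_antisymm (hN m) (hmono (le_max_right n N))) (show g x = 0 from hx)
    obtain ⟨q, hq⟩ : ∃ q, maximalIdeal (dual Λ k) ^ 2 = q := ⟨_, rfl⟩
    have h3 := apply_mem_pow ψ _ _ (fun b hb => apply_mem_maximalIdeal ψA hb) 2 h2
    rw [pow_two] at h3
    have h4 : maximalIdeal (dual Λ k) * maximalIdeal (dual Λ k) ≤ ⊥ := Ideal.mul_le.2 fun a ha b hb => by
      rw [mem_maximalIdeal_iff] at ha hb
      refine TrivSqZeroExt.ext ?_ ?_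
      · change TrivSqZeroExt.fst a * TrivSqZeroExt.fst b = 0
        rw [show TrivSqZeroExt.fst a = 0 from ha, zero_mul]
      · rw [dual_snd_mul, show TrivSqZeroExt.fst a = 0 from ha,
          show TrivSqZeroExt.fst b = 0 from hb, zero_mul, mul_zero, add_zero]
        rfl
    exact h4 h3
  obtain ⟨χ, hχ⟩ := exists_algHom_factor hgs ψ hker
  refine ⟨⟨χ, AlgHom.ext fun b => ?_⟩, Subtype.ext (Subtype.ext (AlgHom.ext fun a => ?_))⟩
  · obtain ⟨y, rfl⟩ := hgs b
    change (dual Λ k).res (χ (g y)) = (A N).res (g y)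
    rw [hχ, res_app]
    exact congrArg (fun t : A m →ₐ[Λ] k => t y) hres
  · change χ (a.1 N) = φ.1.1 a
    rw [← hg a.1 a.2]
    exact (hχ _).trans (hψ a)

theorem result {Λ : Type u} {k : Type u} [CommRing Λ] [Field k] [Algebra Λ k]
    [IsNoetherianRing Λ] [Module.Finite Λ k]
    (A : ℕ → ArtFun.Art Λ k) (f : ∀ n, A (n + 1) ⟶ A n) (hf : ∀ n, Function.Surjective (f n))
    (d : ℕ) (hd : ∀ n, Module.finrank (IsLocalRing.ResidueField (A n)) (IsLocalRing.CotangentSpace (A n)) ≤ d) :
    ∃ (S : ArtFun.CRing Λ k) (π : ∀ n, ArtFun.HomSet S.carrier S.res (A n)),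
      (∀ n, ArtFun.HomSet.map (f n) (π (n + 1)) = π n) ∧
      (∀ n, Function.Surjective (π n).1) ∧
      (∀ a : ∀ n, A n, (∀ n, f n (a (n + 1)) = a n) → ∃! s : S.carrier, ∀ n, (π n).1 s = a n) ∧
      (∀ n, ∃ N, RingHom.ker (π N).1 ≤ IsLocalRing.maximalIdeal S.carrier ^ n) ∧
      (∀ n, ∃ N, IsLocalRing.maximalIdeal S.carrier ^ N ≤ RingHom.ker (π n).1) := by
  have h0 := h0_contFun A f
  have hle := isLeftExact_contFun A f
  have h2 : Heps (contFun A f) := fun _ _ _ _ h => hle _ _ _ _ h
  obtain ⟨T⟩ := nonempty_tangentStr (contFun A f) h0 h2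
  obtain ⟨N₀, hN₀⟩ := exists_stage_surjective A f hf d hd
  obtain ⟨P⟩ := isProrepresentable_of_conditions h0
    (fun _ _ _ _ _ _ _ _ h _ => (hle _ _ _ _ h).2) h2
    (hfin_of_surjective_tangent _ hN₀) (fun _ _ _ _ _ _ h _ => hle _ _ _ _ h)
    (seesDerivations_contFun A f hf)
  let S := P.ring
  let pt : ∀ n, (contFun A f).obj (A n) := fun n => ⟨projHom A f n, n, le_rfl⟩
  choose π hπ using fun n => (P.universal (A n)).2 (pt n)
  have hpt : ∀ {n} {B : Art Λ k} (ψ : A n ⟶ B),
      P.family.app B (HomSet.map ψ (π n)) = (contFun A f).map ψ (pt n) := fun {n B} ψ => by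
    rw [P.family.natural, hπ]
  have hcompat : ∀ n, HomSet.map (f n) (π (n + 1)) = π n := fun n => (P.universal (A n)).1 (by
    rw [hpt, hπ]
    exact Subtype.ext (map_projHom A f n))
  have hsurj : ∀ n, Function.Surjective (π n).1 := fun n =>
    surjective_of_tangent_injective (R := S) (S := artCRing (A n)) (π n).1 (π n).2 fun θ₁ θ₂ h => by
      let t₁ : A n ⟶ dual Λ k := ⟨θ₁.1, θ₁.2⟩
      let t₂ : A n ⟶ dual Λ k := ⟨θ₂.1, θ₂.2⟩
      have e : (contFun A f).map t₁ (pt n) = (contFun A f).map t₂ (pt n) := by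
        rw [← hpt, ← hpt]
        exact congrArg _ (Subtype.ext h)
      refine Subtype.ext (AlgHom.ext fun b => ?_)
      obtain ⟨a, rfl⟩ := proj_surjective A f hf n b
      exact congrArg (fun t => t.1.1 a) e
  have hanti : ∀ {m n : ℕ}, m ≤ n → RingHom.ker (π n).1 ≤ RingHom.ker (π m).1 := by
    intro m n h
    induction n, h using Nat.le_induction with
    | base => exact le_rfl
    | succ n _ ih =>
      refine le_trans (fun a ha => ?_) ih
      change (π n).1 a = 0
      rw [← hcompat n]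
      change f n ((π (n + 1)).1 a) = 0
      rw [show (π (n + 1)).1 a = 0 from ha, map_zero]
  have htop : ∀ M, ∃ N, RingHom.ker (π N).1 ≤ maximalIdeal S.carrier ^ M := fun M => by
    obtain ⟨n, hn⟩ := ((P.family.app _ (S.truncHom M)).2)
    obtain ⟨ψ, hψ⟩ := exists_algHom_factor (proj_surjective A f hf n)
      (P.family.app _ (S.truncHom M)).1.1 hn
    let ψA : A n ⟶ S.trunc M := ⟨ψ, AlgHom.ext fun b => by
      obtain ⟨a, rfl⟩ := proj_surjective A f hf n b
      change (S.trunc M).res (ψ (proj A f n a)) = _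
      rw [hψ]
      exact (congrArg (fun t : (limAlg A f) →ₐ[Λ] k => t a) (P.family.app _ (S.truncHom M)).1.2).trans
        (res_proj A f a n).symm⟩
    have e : HomSet.map ψA (π n) = S.truncHom M := (P.universal _).1 (by
      rw [hpt]
      exact Subtype.ext (Subtype.ext (AlgHom.ext hψ)))
    refine ⟨n, fun a ha => Ideal.pow_le_pow_right M.le_succ (Ideal.Quotient.eq_zero_iff_mem.1 ?_)⟩
    change (S.truncHom M).1 a = 0
    rw [← e]
    change ψA ((π n).1 a) = 0
    rw [show (π n).1 a = 0 from ha, map_zero]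
  have hbot : ∀ n, ∃ N, maximalIdeal S.carrier ^ N ≤ RingHom.ker (π n).1 := fun n => by
    obtain ⟨N, hN⟩ := exists_mpow_le_ker S (π n)
    exact ⟨N + 1, hN⟩
  refine ⟨S, π, hcompat, hsurj, fun a ha => ?_, htop, hbot⟩
  haveI := S.isAdicComplete
  choose stage hstage using htop
  choose lift hlift using fun n => hsurj n (a n)
  have hlift' : ∀ {m n}, m ≤ n → (π m).1 (lift n) = a m := by
    intro m n h
    induction n, h using Nat.le_induction with
    | base => exact hlift m
    | succ n hmn ih =>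
      have : (π n).1 (lift (n + 1) - lift n) = 0 := by
        rw [map_sub, hlift, ← hcompat n]
        change f n ((π (n + 1)).1 _) - a n = 0
        rw [hlift, ha, sub_self]
      have h0' : (π m).1 (lift (n + 1) - lift n) = 0 := hanti hmn this
      rw [map_sub, sub_eq_zero] at h0'
      rw [h0', ih]
  let idx : ℕ → ℕ := fun M => (Finset.range (M + 1)).sup stage + M
  have hidx : ∀ M, stage M ≤ idx M ∧ M ≤ idx M := fun M =>
    ⟨le_add_right (Finset.le_sup (f := stage) (Finset.self_mem_range_succ M)), Nat.le_add_left M _⟩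
  have hidx' : Monotone idx := fun M M' h =>
    Nat.add_le_add (Finset.sup_mono (Finset.range_mono (by omega))) h
  obtain ⟨s, hs⟩ := IsPrecomplete.prec (I := maximalIdeal S.carrier) inferInstance
    (f := fun M => lift (idx M)) fun {M M'} h => by
      rw [SModEq.sub_mem, smul_eq_mul, Ideal.mul_top]
      refine hstage M ?_
      change (π (stage M)).1 _ = 0
      rw [map_sub, hlift' (hidx M).1, hlift' ((hidx M).1.trans (hidx' h)), sub_self]
  have hπs : ∀ n, (π n).1 s = a n := fun n => by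
    obtain ⟨N, hN⟩ := hbot n
    have hm := hs (max n N)
    rw [SModEq.sub_mem, smul_eq_mul, Ideal.mul_top] at hm
    have h0' := hN (Ideal.pow_le_pow_right (le_max_right n N) hm)
    rw [RingHom.mem_ker, map_sub, sub_eq_zero] at h0'
    rw [← h0', hlift' ((le_max_left n N).trans (hidx _).2)]
  refine ⟨s, hπs, fun s' hs' => ?_⟩
  refine sub_eq_zero.1 (IsHausdorff.haus (I := maximalIdeal S.carrier) inferInstance _ fun M => ?_)
  rw [SModEq.zero, smul_eq_mul, Ideal.mul_top]
  refine hstage M ?_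
  change (π (stage M)).1 _ = 0
  rw [map_sub, hs', hπs, sub_self]

end Groth.Agent.S12739
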