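import Groth.Statements.S1275
import Groth.Agent.QDom.Main
import Groth.Agent.QDom.Graph

set_option maxHeartbeats 800000
set_option backward.isDefEq.respectTransparency false
set_option backward.defeqAttrib.useBackward true
-- import your own Groth.Agent.* helpers here

set_option autoImplicit false
universe u
open FlatMor

namespace Groth.Agent.S1275

open AlgebraicGeometry CategoryTheory Limits in
/-- Let S be a quasi-compact quasi-separated scheme, U ⊆ W ⊆ S quasi-compact opens, f : X → W a proper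
morphism and s : U → X a morphism with f ∘ s the inclusion of U in W. Then there are a U-admissible
blow-up b : S' → S and a morphism s' : b⁻¹(W) → X with f ∘ s' equal to the restriction of b,
extending s in the sense that on b⁻¹(U) it agrees with s composed with the restriction of b. -/
theorem result {X S : Scheme.{u}} [CompactSpace S] [QuasiSeparatedSpace S]
    (U W : S.Opens) (hUW : U ≤ W) (hU : IsCompact (U : Set S)) (hW : IsCompact (W : Set S))
    (f : X ⟶ (W : Scheme.{u})) [IsProper f] (s : (U : Scheme.{u}) ⟶ X) (hs : s ≫ f = S.homOfLE hUW) :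
    ∃ (𝓘 : S.IdealSheafData) (S' : Scheme.{u}) (b : S' ⟶ S), BlowUp.IsBlowUp b 𝓘 ∧ BlowUp.IsAdmissibleFor U 𝓘 ∧
      ∃ s' : ((b ⁻¹ᵁ W : S'.Opens) : Scheme.{u}) ⟶ X, s' ≫ f = b ∣_ W ∧
        S'.homOfLE (show b ⁻¹ᵁ U ≤ b ⁻¹ᵁ W from fun _ hx => hUW hx) ≫ s' = (b ∣_ U) ≫ s := by
  haveI : CompactSpace W.toScheme := isCompact_iff_compactSpace.mp hW
  haveI : QuasiCompact W.ι := QuasiCompact.of_comp _ (Limits.terminal.from S)
  haveI : QuasiSeparatedSpace W.toScheme := quasiSeparatedSpace_of_quasiSeparated W.ι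
  haveI : CompactSpace X := QuasiCompact.compactSpace_of_compactSpace f
  haveI : QuasiSeparatedSpace X := quasiSeparatedSpace_of_quasiSeparated f
  let g : X ⟶ S := f ≫ W.ι
  have hf : U.ι ≫ 𝟙 S = s ≫ g := by simp [g, reassoc_of% hs]
  obtain ⟨𝓘, S', b, hb, hadm, hsupp, Wt, hle, ft, hft, hag, hclosed, hdom⟩ :=
    QDom.Main.exists_extension' (𝟙 S) g U U le_rfl hU hU s hf
      (QDom.Graph.closure_inter_subset (𝟙 S) g U s hf)
  haveI : IsProper b := BlowUpProper.Basic.isProper hb hadm.1
  refine ⟨𝓘, S', b, hb, hadm, ?_⟩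
  have hWt : Wt ≤ b ⁻¹ᵁ W := fun w hw => by
    show b w ∈ W
    have h := congr(($hft) ⟨w, hw⟩)
    simp only [Category.comp_id, Scheme.Hom.comp_apply] at h
    exact Set.mem_of_eq_of_mem h (f (ft ⟨w, hw⟩)).2
  -- the closed graph makes `Wt → b⁻¹W` a closed map with dense image
  let O := b ⁻¹ᵁ W
  have hι : S'.homOfLE hWt ≫ (b ∣_ W) = ft ≫ f := by
    rw [← cancel_mono W.ι, Category.assoc, Category.assoc, morphismRestrict_ι, Scheme.homOfLE_ι_assoc]
    simpa [g] using hft
  let Γ := Limits.pullback.lift (f := b ≫ 𝟙 S) (g := g) Wt.ι ft hft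
  have hr : Set.range (S'.homOfLE hWt) = Set.univ := by
    let Φ : Limits.pullback (b ∣_ W) f ⟶ Limits.pullback (b ≫ 𝟙 S) g :=
      Limits.pullback.lift (Limits.pullback.fst _ _ ≫ O.ι) (Limits.pullback.snd _ _) (by
        simp only [g, O, Category.assoc, Category.comp_id]
        rw [← morphismRestrict_ι, Limits.pullback.condition_assoc])
    let Γ' := Limits.pullback.lift (f := b ∣_ W) (g := f) (S'.homOfLE hWt) ft hι
    have hΓ : Γ' ≫ Φ = Γ := by
      apply Limits.pullback.hom_ext <;> simp [Γ', Φ, Γ, O]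
    have hinj : ∀ z, Φ z ∈ Set.range Γ → Limits.pullback.fst (b ∣_ W) f z ∈ Set.range (S'.homOfLE hWt) := by
      rintro z ⟨w, hw⟩
      refine ⟨w, O.ι.isOpenEmbedding.injective ?_⟩
      rw [← Scheme.Hom.comp_apply, Scheme.homOfLE_ι, ← Scheme.Hom.comp_apply,
        show Limits.pullback.fst (b ∣_ W) f ≫ O.ι = Φ ≫ Limits.pullback.fst _ _ from
          (Limits.pullback.lift_fst _ _ _).symm, Scheme.Hom.comp_apply, ← hw,
        ← Scheme.Hom.comp_apply, Limits.pullback.lift_fst]
    have himg : Set.range (S'.homOfLE hWt) =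
        (fun z => Limits.pullback.fst (b ∣_ W) f z) '' ((fun z => Φ z) ⁻¹' Set.range Γ) := by
      refine Set.Subset.antisymm ?_ ?_
      · rintro _ ⟨w, rfl⟩
        refine ⟨Γ' w, ⟨w, ?_⟩, ?_⟩
        · show Γ w = Φ (Γ' w)
          rw [← Scheme.Hom.comp_apply, hΓ]
        · show Limits.pullback.fst (b ∣_ W) f (Γ' w) = _
          rw [← Scheme.Hom.comp_apply, Limits.pullback.lift_fst]
      · rintro _ ⟨z, hz, rfl⟩
        exact hinj z hz
    have hclosedr : IsClosed (Set.range (S'.homOfLE hWt)) := by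
      rw [himg]
      exact (Limits.pullback.fst (b ∣_ W) f).isClosedMap _ (hclosed.preimage Φ.continuous)
    rw [← hclosedr.closure_eq]
    refine Set.eq_univ_of_forall fun x => ?_
    have hdense : Dense ((b ⁻¹ᵁ U : S'.Opens) : Set S') := by
      have hint : ModPair.interior (𝓘.comap b) = b ⁻¹ᵁ U := by
        refine TopologicalSpace.Opens.ext (Set.ext fun y => ?_)
        show y ∉ (𝓘.comap b).support ↔ b y ∈ U
        rw [Scheme.IdealSheafData.support_comap]
        show ¬ (b y ∈ (𝓘.support : Set S)) ↔ _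
        rw [hsupp, Set.mem_compl_iff, not_not]
        rfl
      haveI : IsSchemeTheoreticallyDominant (b ⁻¹ᵁ U).ι := by
        rw [← hint]; exact ModPairLib.Dense.isSchemeTheoreticallyDominant_interior hb.1
      haveI : QuasiCompact b := inferInstance
      haveI : CompactSpace S' := QuasiCompact.compactSpace_of_compactSpace b
      haveI : QuasiSeparatedSpace S' := quasiSeparatedSpace_of_quasiSeparated b
      haveI : CompactSpace (b ⁻¹ᵁ U).toScheme := isCompact_iff_compactSpace.mp (b.isCompact_preimage hU)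
      haveI : QuasiCompact (b ⁻¹ᵁ U).ι := QuasiCompact.of_comp _ (Limits.terminal.from S')
      have := (b ⁻¹ᵁ U).ι.denseRange
      rwa [DenseRange, Scheme.Opens.range_ι] at this
    rw [mem_closure_iff]
    intro N hN hxN
    obtain ⟨y, ⟨n, hn, rfl⟩, hyU⟩ := dense_iff_inter_open.mp hdense _
      (O.ι.isOpenEmbedding.isOpenMap N hN) ⟨O.ι x, x, hxN, rfl⟩
    exact ⟨n, hn, ⟨⟨O.ι n, hle hyU⟩, O.ι.isOpenEmbedding.injective (by
      rw [← Scheme.Hom.comp_apply, Scheme.homOfLE_ι]; rfl)⟩⟩
  haveI : Surjective (S'.homOfLE hWt) := ⟨Set.range_eq_univ.mp hr⟩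
  haveI : IsIso (S'.homOfLE hWt) := by
    refine (isIso_iff_isOpenImmersion_and_epi_base _).mpr ⟨inferInstance, ?_⟩
    rw [TopCat.epi_iff_surjective]
    exact Set.range_eq_univ.mp hr
  refine ⟨inv (S'.homOfLE hWt) ≫ ft, by rw [Category.assoc, IsIso.inv_comp_eq, hι], ?_⟩
  rw [← hag, ← Category.assoc]
  congr 1
  rw [IsIso.comp_inv_eq, Scheme.homOfLE_homOfLE]

end Groth.Agent.S1275
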