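import Groth.Statements.S1274
import Groth.Agent.S1275

set_option backward.isDefEq.respectTransparency false
-- import your own Groth.Agent.* helpers here

set_option autoImplicit false
universe u
open FlatMor

namespace Groth.Agent.S1274

open AlgebraicGeometry CategoryTheory in
lemma topInv (X : Scheme.{u}) : X.topIso.inv ≫ (⊤ : X.Opens).ι = 𝟙 X := X.topIso.inv_hom_id

open AlgebraicGeometry CategoryTheory Limits in
/-- Let φ : X → S be proper with S quasi-compact and quasi-separated, and U ⊆ S a quasi-compact open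
over which φ is an isomorphism. Then there is a U-admissible blow-up b : S' → S which dominates X,
i.e. b factors as S' → X → S. -/
theorem result {X S : Scheme.{u}} [CompactSpace S] [QuasiSeparatedSpace S]
    (φ : X ⟶ S) [IsProper φ] (U : S.Opens) (hU : IsCompact (U : Set S)) [IsIso (φ ∣_ U)] :
    ∃ (𝓘 : S.IdealSheafData) (S' : Scheme.{u}) (b : S' ⟶ S), BlowUp.IsBlowUp b 𝓘 ∧ BlowUp.IsAdmissibleFor U 𝓘 ∧
      ∃ h : S' ⟶ X, h ≫ φ = b := by
  haveI : IsProper (φ ≫ S.topIso.inv) := inferInstance
  let s : U.toScheme ⟶ X := inv (φ ∣_ U) ≫ (φ ⁻¹ᵁ U).ι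
  obtain ⟨𝓘, S', b, hb, hadm, s', hs', -⟩ := S1275.result U ⊤ le_top hU CompactSpace.isCompact_univ
    (φ ≫ S.topIso.inv) s (by
      rw [← cancel_mono (⊤ : S.Opens).ι]
      simp only [s, Category.assoc, Scheme.homOfLE_ι, topInv, Category.comp_id]
      rw [← morphismRestrict_ι, IsIso.inv_hom_id_assoc])
  refine ⟨𝓘, S', b, hb, hadm, S'.topIso.inv ≫ s', ?_⟩
  have h := hs' =≫ (⊤ : S.Opens).ι
  simp only [Category.assoc, topInv, Category.comp_id, morphismRestrict_ι] at h
  erw [Category.assoc, h]
  erw [← Category.assoc, topInv, Category.id_comp]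

end Groth.Agent.S1274
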