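import Groth.Statements.S12746
import Groth.Agent.ArtFunLib.Tangent
import Groth.Agent.ArtFunLib.Pullback

set_option autoImplicit false
universe u v
open CategoryTheory
open ArtFun

namespace Groth.Agent.S12746

open Groth.Agent.ArtFunLib

/-- For functors, if F, G, H are functors on Artinian local Λ-algebras with residue field k satisfying
(RS) and f : H → F, g : G → F are morphisms, then the fibre product functor H ×_F G satisfies (RS). -/
theorem result {Λ : Type u} {k : Type u} [CommRing Λ] [Field k] [Algebra Λ k]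
    [IsNoetherianRing Λ] [Module.Finite Λ k]
    {F G H : ArtFun.Art Λ k ⥤ Type v} (f : H ⟶ F) (g : G ⟶ F)
    (hF : (∀ ⦃B A A' A'' : ArtFun.Art Λ k⦄ (p' : B ⟶ A') (p'' : B ⟶ A'') (f' : A' ⟶ A) (f'' : A'' ⟶ A)
        (h : ArtFun.Art.IsFibreProd p' p'' f' f''), Function.Surjective f'' → Function.Bijective (ArtFun.cmp F h))) (hG : (∀ ⦃B A A' A'' : ArtFun.Art Λ k⦄ (p' : B ⟶ A') (p'' : B ⟶ A'') (f' : A' ⟶ A) (f'' : A'' ⟶ A)
        (h : ArtFun.Art.IsFibreProd p' p'' f' f''), Function.Surjective f'' → Function.Bijective (ArtFun.cmp G h))) (hH : (∀ ⦃B A A' A'' : ArtFun.Art Λ k⦄ (p' : B ⟶ A') (p'' : B ⟶ A'') (f' : A' ⟶ A) (f'' : A'' ⟶ A)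
        (h : ArtFun.Art.IsFibreProd p' p'' f' f''), Function.Surjective f'' → Function.Bijective (ArtFun.cmp H h))) :
    (∀ ⦃B A A' A'' : ArtFun.Art Λ k⦄ (p' : B ⟶ A') (p'' : B ⟶ A'') (f' : A' ⟶ A) (f'' : A'' ⟶ A)
        (h : ArtFun.Art.IsFibreProd p' p'' f' f''), Function.Surjective f'' → Function.Bijective (ArtFun.cmp (CategoryTheory.Limits.pullback f g) h)) := by
  intro B A A' A'' p' p'' f' f'' h hs
  refine ⟨(cmp_inj_iff _ h).2 fun z₁ z₂ e₁ e₂ => pullback_elt_ext f g B ?_ ?_,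
    (cmp_surj_iff _ h).2 fun x' x'' e => ?_⟩
  · refine (cmp_inj_iff H h).1 (hH _ _ _ _ h hs).1 _ _ ?_ ?_ <;>
      rw [← NatTrans.naturality_apply, ← NatTrans.naturality_apply]
    exacts [congrArg _ e₁, congrArg _ e₂]
  · refine (cmp_inj_iff G h).1 (hG _ _ _ _ h hs).1 _ _ ?_ ?_ <;>
      rw [← NatTrans.naturality_apply, ← NatTrans.naturality_apply]
    exacts [congrArg _ e₁, congrArg _ e₂]
  · obtain ⟨a, ha', ha''⟩ := (cmp_surj_iff H h).1 (hH _ _ _ _ h hs).2
      ((Limits.pullback.fst f g).app A' x') ((Limits.pullback.fst f g).app A'' x'')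
      (by rw [← NatTrans.naturality_apply, ← NatTrans.naturality_apply, e])
    obtain ⟨b, hb', hb''⟩ := (cmp_surj_iff G h).1 (hG _ _ _ _ h hs).2
      ((Limits.pullback.snd f g).app A' x') ((Limits.pullback.snd f g).app A'' x'')
      (by rw [← NatTrans.naturality_apply, ← NatTrans.naturality_apply, e])
    obtain ⟨z, hz₁, hz₂⟩ := pullback_elt f g B a b ((cmp_inj_iff F h).1 (hF _ _ _ _ h hs).1 _ _
      (by rw [← NatTrans.naturality_apply, ← NatTrans.naturality_apply, ha', hb',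
        pullback_elt_cond])
      (by rw [← NatTrans.naturality_apply, ← NatTrans.naturality_apply, ha'', hb'',
        pullback_elt_cond]))
    refine ⟨z, pullback_elt_ext f g A' ?_ ?_, pullback_elt_ext f g A'' ?_ ?_⟩ <;>
      rw [NatTrans.naturality_apply]
    exacts [hz₁ ▸ ha', hz₂ ▸ hb', hz₁ ▸ ha'', hz₂ ▸ hb'']

end Groth.Agent.S12746
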