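import Groth.Statements.S12747
import Groth.Agent.ArtFunLib.Tangent
import Groth.Agent.ArtFunLib.Pullback

set_option autoImplicit false
universe u v
open CategoryTheory
open ArtFun

namespace Groth.Agent.S12747

open Groth.Agent.ArtFunLib

/-- For functors, let H₁ → G, H₂ → G and q : G → F be morphisms of functors on Artinian local Λ-algebras
with residue field k where F and G are deformation functors (value at k a point, condition (RS)) and
q is injective on tangent spaces. Then the induced morphism H₁ ×_G H₂ → H₁ ×_F H₂ is smooth. (The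
published statement also assumes that infinitesimal automorphisms of G map onto those of F; for
functors that condition is empty.) -/
theorem result {Λ : Type u} {k : Type u} [CommRing Λ] [Field k] [Algebra Λ k]
    [IsNoetherianRing Λ] [Module.Finite Λ k]
    {F G H₁ H₂ : ArtFun.Art Λ k ⥤ Type v} (p₁ : H₁ ⟶ G) (p₂ : H₂ ⟶ G) (q : G ⟶ F)
    (hF0 : ArtFun.H0 F) (hF : (∀ ⦃B A A' A'' : ArtFun.Art Λ k⦄ (p' : B ⟶ A') (p'' : B ⟶ A'') (f' : A' ⟶ A) (f'' : A'' ⟶ A)
        (h : ArtFun.Art.IsFibreProd p' p'' f' f''), Function.Surjective f'' → Function.Bijective (ArtFun.cmp F h)))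
    (hG0 : ArtFun.H0 G) (hG : (∀ ⦃B A A' A'' : ArtFun.Art Λ k⦄ (p' : B ⟶ A') (p'' : B ⟶ A'') (f' : A' ⟶ A) (f'' : A'' ⟶ A)
        (h : ArtFun.Art.IsFibreProd p' p'' f' f''), Function.Surjective f'' → Function.Bijective (ArtFun.cmp G h)))
    (hq : Function.Injective (ArtFun.TangentSpace.map q)) :
    ArtFun.IsSmooth (CategoryTheory.Limits.pullback.map p₁ p₂ (p₁ ≫ q) (p₂ ≫ q) (𝟙 H₁) (𝟙 H₂) q
      (CategoryTheory.Category.id_comp _).symm (CategoryTheory.Category.id_comp _).symm) := by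
  haveI := hG0.2
  rw [isSmooth_iff_lifts]
  intro B A μ hμ x y e
  have hg : p₁.app B ((Limits.pullback.fst (p₁ ≫ q) (p₂ ≫ q)).app B y) =
      p₂.app B ((Limits.pullback.snd (p₁ ≫ q) (p₂ ≫ q)).app B y) := by
    refine injective_rel_of_tangent_injective (NatFam.ofNatTrans q)
      (fun _ _ _ _ _ _ h hf => (hG _ _ _ _ h hf.1).2)
      (fun _ _ _ _ h => hG _ _ _ _ h (ArtFun.Art.dual Λ k).res_surjective)
      (fun _ _ _ _ _ _ h hf => (hF _ _ _ _ h hf.1).1) hq μ hμ _ _ ?_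
      (pullback_elt_cond (p₁ ≫ q) (p₂ ≫ q) B y)
    rw [← NatTrans.naturality_apply p₁, ← NatTrans.naturality_apply p₂,
      ← NatTrans.naturality_apply, ← NatTrans.naturality_apply, e]
    have h₁ := congrArg (fun η => η.app A x) (Limits.pullback.lift_fst
      (Limits.pullback.fst p₁ p₂ ≫ 𝟙 H₁) (Limits.pullback.snd p₁ p₂ ≫ 𝟙 H₂)
      (show (Limits.pullback.fst p₁ p₂ ≫ 𝟙 H₁) ≫ (p₁ ≫ q) = (Limits.pullback.snd p₁ p₂ ≫ 𝟙 H₂) ≫ (p₂ ≫ q) by
        simp [Limits.pullback.condition_assoc]))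
    have h₂ := congrArg (fun η => η.app A x) (Limits.pullback.lift_snd
      (Limits.pullback.fst p₁ p₂ ≫ 𝟙 H₁) (Limits.pullback.snd p₁ p₂ ≫ 𝟙 H₂)
      (show (Limits.pullback.fst p₁ p₂ ≫ 𝟙 H₁) ≫ (p₁ ≫ q) = (Limits.pullback.snd p₁ p₂ ≫ 𝟙 H₂) ≫ (p₂ ≫ q) by
        simp [Limits.pullback.condition_assoc]))
    simp only [NatTrans.comp_app] at h₁ h₂
    exact (congrArg (p₁.app A) h₁).trans ((pullback_elt_cond p₁ p₂ A x).trans (congrArg (p₂.app A) h₂).symm)
  obtain ⟨z, hz₁, hz₂⟩ := pullback_elt p₁ p₂ B _ _ hg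
  have hm : ∀ (A : ArtFun.Art Λ k) (z : (Limits.pullback p₁ p₂).obj A),
      (Limits.pullback.fst (p₁ ≫ q) (p₂ ≫ q)).app A ((NatFam.ofNatTrans (Limits.pullback.map p₁ p₂ (p₁ ≫ q) (p₂ ≫ q) (𝟙 H₁) (𝟙 H₂) q
        (Category.id_comp _).symm (Category.id_comp _).symm)).app A z) = (Limits.pullback.fst p₁ p₂).app A z ∧
      (Limits.pullback.snd (p₁ ≫ q) (p₂ ≫ q)).app A ((NatFam.ofNatTrans (Limits.pullback.map p₁ p₂ (p₁ ≫ q) (p₂ ≫ q) (𝟙 H₁) (𝟙 H₂) q
        (Category.id_comp _).symm (Category.id_comp _).symm)).app A z) = (Limits.pullback.snd p₁ p₂).app A z :=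
    fun A z => ⟨congrArg (fun η : Limits.pullback p₁ p₂ ⟶ _ => η.app A z) ((Limits.pullback.lift_fst _ _ _).trans (Category.comp_id _)),
      congrArg (fun η : Limits.pullback p₁ p₂ ⟶ _ => η.app A z) ((Limits.pullback.lift_snd _ _ _).trans (Category.comp_id _))⟩
  refine ⟨z, pullback_elt_ext p₁ p₂ A ?_ ?_, pullback_elt_ext _ _ B ((hm B z).1.trans hz₁) ((hm B z).2.trans hz₂)⟩
  · rw [NatTrans.naturality_apply, hz₁, ← NatTrans.naturality_apply, e, (hm A x).1]
  · rw [NatTrans.naturality_apply, hz₂, ← NatTrans.naturality_apply, e, (hm A x).2]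

end Groth.Agent.S12747
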