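import Groth.Statements.S12748
import Groth.Agent.ArtFunLib.SmoothRel

set_option autoImplicit false
universe u v
open CategoryTheory
open ArtFun ArtFun.CRing

namespace Groth.Agent.S12748

open Groth.Agent.ArtFunLib

/-- Let R' → R be a morphism of complete local Noetherian Λ-algebras with residue field k with an
R'-algebra retraction ρ : R → R', so that R = R' ⊕ I for the ideal I = ker ρ; let x₁, …, x_r ∈ I map
to a basis of I/m_R I and let φ : R'[[X₁, …, X_r]] → R be an R'-algebra map sending X_i to x_i. If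
for all large n the induced map R'[[X]]/m^n → R/m_R^n has a left inverse — a Λ-algebra map g_n : R →
R'[[X]]/m^n with g_n ∘ φ equal to the quotient map — then φ is an isomorphism. -/
theorem result {Λ : Type u} {k : Type u} [CommRing Λ] [Field k] [Algebra Λ k]
    [IsNoetherianRing Λ] [Module.Finite Λ k]
    (R' R : ArtFun.CRing Λ k) [Algebra R'.carrier R.carrier] [IsScalarTower Λ R'.carrier R.carrier]
    (hc : R.res.comp (IsScalarTower.toAlgHom Λ R'.carrier R.carrier) = R'.res)
    (ρ : R.carrier →ₐ[R'.carrier] R'.carrier)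
    (r : ℕ) (x : Fin r → R.carrier) (hxI : ∀ i, ρ (x i) = 0)
    (hspan : Ideal.span (Set.range x) ⊔ IsLocalRing.maximalIdeal R.carrier * RingHom.ker ρ = RingHom.ker ρ)
    (hli : ∀ c : Fin r → R.carrier, (∑ i, c i * x i) ∈ IsLocalRing.maximalIdeal R.carrier * RingHom.ker ρ →
      ∀ i, c i ∈ IsLocalRing.maximalIdeal R.carrier)
    (φ : MvPowerSeries (Fin r) R'.carrier →ₐ[R'.carrier] R.carrier) (hφ : ∀ i, φ (MvPowerSeries.X i) = x i)
    (hinv : ∃ N : ℕ, ∀ n, N ≤ n →
      ∃ g : R.carrier →ₐ[Λ] (MvPowerSeries (Fin r) R'.carrier ⧸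
          IsLocalRing.maximalIdeal (MvPowerSeries (Fin r) R'.carrier) ^ n),
        ∀ s, g (φ s) = Ideal.Quotient.mk _ s) :
    Function.Bijective φ := by
  classical
  let f := IsScalarTower.toAlgHom Λ R'.carrier R.carrier
  let θ : (psRing R' r).carrier →ₐ[Λ] R.carrier := φ.restrictScalars Λ
  have hθC : θ.comp (psC R' r) = f := AlgHom.ext fun a => φ.commutes a
  have hker : RingHom.ker ρ ≤ IsLocalRing.maximalIdeal R.carrier := IsLocalRing.le_maximalIdeal (RingHom.ker_ne_top _)
  have hxm : ∀ i, x i ∈ IsLocalRing.maximalIdeal R.carrier := fun i => hker (hxI i)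
  have hX : ∀ z : MvPowerSeries (Fin r) R'.carrier, φ (z - algebraMap R'.carrier _ (MvPowerSeries.constantCoeff z)) ∈
      IsLocalRing.maximalIdeal R.carrier := fun z => by
    set w := z - algebraMap R'.carrier _ (MvPowerSeries.constantCoeff z)
    have hw := CAlg48.PowerSeriesAFS.sub_truncTotal_mem (σ := Fin r) w 1
    have h0 : MvPowerSeries.truncTotal 1 w = 0 := by
      ext α
      rw [MvPowerSeries.coeff_truncTotal_eq_ite]
      split_ifs with hα
      · have : α = 0 := (Finsupp.degree_eq_zero_iff α).1 (by omega)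
        subst this
        simp [w, MvPowerSeries.algebraMap_apply]
      · simp
    rw [h0, pow_one] at hw
    simp only [MvPolynomial.coe_zero, sub_zero] at hw
    have := Ideal.mem_map_of_mem φ hw
    rw [Ideal.map_span] at this
    refine (Ideal.span_le.2 ?_) this
    rintro _ ⟨_, ⟨i, rfl⟩, rfl⟩
    rw [hφ]
    exact hxm i
  have hθ : R.res.comp θ = (psRing R' r).res := AlgHom.ext fun z => by
    have h1 := (ArtFun.CRing.mem_maximalIdeal_iff R _).1 (hX z)
    rw [map_sub, map_sub, sub_eq_zero, φ.commutes] at h1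
    exact h1.trans (ArtFun.CRing.res_comp_apply f hc _)
  have hgen : IsLocalRing.maximalIdeal R.carrier ≤ Ideal.span (Set.range x) ⊔
      Ideal.map f (IsLocalRing.maximalIdeal R'.carrier) ⊔ IsLocalRing.maximalIdeal R.carrier ^ 2 := by
    intro s hs
    have hρ : ρ (s - algebraMap R'.carrier R.carrier (ρ s)) = 0 := by
      rw [map_sub, AlgHom.commutes]; simp
    have hm : ρ s ∈ IsLocalRing.maximalIdeal R'.carrier := by
      rw [ArtFun.CRing.mem_maximalIdeal_iff, ← ArtFun.CRing.res_comp_apply f hc, ← ArtFun.CRing.mem_maximalIdeal_iff]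
      rw [show f (ρ s) = s - (s - algebraMap R'.carrier R.carrier (ρ s)) by rw [sub_sub_cancel]; rfl]
      exact Ideal.sub_mem _ hs (hker hρ)
    rw [show s = (s - algebraMap R'.carrier R.carrier (ρ s)) + f (ρ s) from (sub_add_cancel s _).symm]
    refine Ideal.add_mem _ ?_ (Submodule.mem_sup_left (Submodule.mem_sup_right (Ideal.mem_map_of_mem f hm)))
    have h2 : s - algebraMap R'.carrier R.carrier (ρ s) ∈ RingHom.ker ρ := hρ
    rw [← hspan] at h2
    refine (sup_le (le_sup_left.trans le_sup_left) ?_ : Ideal.span (Set.range x) ⊔ IsLocalRing.maximalIdeal R.carrier * RingHom.ker ρ ≤ _) h2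
    rw [pow_two]
    exact (Ideal.mul_mono_right hker).trans le_sup_right
  refine ⟨(injective_iff_map_eq_zero φ).2 fun s hs => ?_, surjective_psHom f hc θ hθ hθC x hφ hgen⟩
  obtain ⟨N, hN⟩ := hinv
  haveI := (psRing R' r).isAdicComplete
  refine IsHausdorff.haus (I := IsLocalRing.maximalIdeal (psRing R' r).carrier) (M := (psRing R' r).carrier) inferInstance s fun m => ?_
  rw [SModEq.zero, smul_eq_mul, Ideal.mul_top]
  obtain ⟨g, hg⟩ := hN (N + m) (by omega)
  have := hg s
  rw [hs, map_zero, eq_comm, Ideal.Quotient.eq_zero_iff_mem] at this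
  exact Ideal.pow_le_pow_right (by omega) this

end Groth.Agent.S12748
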