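import Groth.Statements.S12749
import Groth.Agent.ArtFunLib.Hull

set_option autoImplicit false
universe u v
open CategoryTheory
open ArtFun

namespace Groth.Agent.S12749

open Groth.Agent.ArtFunLib

/-- For functors, suppose k admits no nonzero Λ-derivation into itself (that is, k is separable over the
image of Λ in k). Let F be a functor on Artinian local Λ-algebras with residue field k with F(k) a
point which satisfies (S2), and let ξ be a minimal versal family of F over a complete local
Noetherian R with residue field k: ξ is versal, and every morphism of such coefficient rings R' → R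
along which some formal element of F over R' pushes forward to the formal element of ξ is
surjective. Then ξ is a hull of F: it is moreover bijective on tangent spaces. (The published
statement, for arbitrary k, concludes that the tangent map of the minimal versal family is bijective
on orbits under the Λ-derivations of k; when k has no nonzero Λ-derivation into itself the orbits
are points and this is plain bijectivity, which is the case stated here.) -/
theorem result {Λ : Type u} {k : Type u} [CommRing Λ] [Field k] [Algebra Λ k]
    [IsNoetherianRing Λ] [Module.Finite Λ k]
    (hk : Subsingleton (Derivation Λ k k))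
    {F : ArtFun.Art Λ k ⥤ Type v} (h0 : ArtFun.H0 F) (h2 : ArtFun.Heps F)
    {R : ArtFun.CRing Λ k} (ξ : ArtFun.Family R.carrier R.res F) (hξ : ξ.IsMinimalVersal) :
    ArtFun.IsMiniversal ξ := by
  haveI := h0.2
  obtain ⟨T⟩ := nonempty_tangentStr F h0 h2
  obtain ⟨H⟩ := hasHull_of_versal h0 h2 ⟨R, ξ, hξ.1⟩ (seesDerivations_of_subsingleton hk)
  obtain ⟨f, hf, hfu⟩ := exists_along_eq_of_versal H.miniversal.1
    (fun _ => ⟨basePoint _ _, Subsingleton.elim _ _⟩) R ξ.toFormalElt
  have hs := hξ.2 H.ring H.family.toFormalElt f hf (by rw [← toFormalElt_along]; exact hfu)
  refine ⟨hξ.1, fun θ₁ θ₂ e => ?_, surjective_app_of_versal hξ.1 _⟩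
  rw [← toFormalElt_injective hfu] at e
  have := congrArg Subtype.val (H.miniversal.2.1 e)
  exact Subtype.ext (AlgHom.ext fun r => by
    obtain ⟨a, rfl⟩ := hs r
    exact congrArg (fun g : H.ring.carrier →ₐ[Λ] _ => g a) this)

end Groth.Agent.S12749
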