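import Groth.Statements.S12750
import Groth.Agent.ArtFunLib.Essential

set_option autoImplicit false
universe u v
open CategoryTheory
open ArtFun ArtFun.Art

namespace Groth.Agent.S12750

open Groth.Agent.ArtFunLib

/-- (1) ⇔ (3): let f : B → A be a morphism in the category of Artinian local Λ-algebras with residue
field k, and let q_B : B → B', q_A : A → A' be the quotients by m_Λ B + m_B² and m_Λ A + m_A² (m_Λ
the kernel of Λ → k), realised as surjective morphisms with these kernels, with f' : B' → A' the
induced morphism. Then f is an essential surjection — surjective, and every morphism g into B whose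
composite with f is surjective is itself surjective — if and only if f' is. (The intermediate
equivalence with the map B/m_B² → A/m_A² is the special case Λ-structure trivialised and follows by
applying this one twice.) -/
theorem result {Λ : Type u} {k : Type u} [CommRing Λ] [Field k] [Algebra Λ k]
    [IsNoetherianRing Λ] [Module.Finite Λ k]
    {A B A' B' : ArtFun.Art Λ k} (f : B ⟶ A)
    (qB : B ⟶ B') (hqB : Function.Surjective qB)
    (hkB : RingHom.ker qB.toAlgHom = Ideal.map (algebraMap Λ B) (RingHom.ker (algebraMap Λ k)) ⊔ IsLocalRing.maximalIdeal B ^ 2)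
    (qA : A ⟶ A') (hqA : Function.Surjective qA)
    (hkA : RingHom.ker qA.toAlgHom = Ideal.map (algebraMap Λ A) (RingHom.ker (algebraMap Λ k)) ⊔ IsLocalRing.maximalIdeal A ^ 2)
    (f' : B' ⟶ A') (hf' : qB ≫ f' = f ≫ qA) :
    (Function.Surjective f ∧ ∀ (C : ArtFun.Art Λ k) (g : C ⟶ B), Function.Surjective (g ≫ f) → Function.Surjective g) ↔ (Function.Surjective f' ∧ ∀ (C : ArtFun.Art Λ k) (g : C ⟶ B'), Function.Surjective (g ≫ f') → Function.Surjective g) := by
  rw [essential_iff_theta, essential_iff_theta]
  have hA := bijective_theta_of_quot qA hqA (le_of_eq hkA)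
  have hB := bijective_theta_of_quot qB hqB (le_of_eq hkB)
  have e : (fun θ : A' ⟶ ArtFun.Art.dual Λ k => qB ≫ (f' ≫ θ)) = fun θ => f ≫ (qA ≫ θ) :=
    funext fun θ => by rw [← Category.assoc, hf', Category.assoc]
  constructor
  · intro h
    have h1 : Function.Bijective (fun θ : A' ⟶ ArtFun.Art.dual Λ k => qB ≫ (f' ≫ θ)) := e ▸ h.comp hA
    exact (Function.Bijective.of_comp_iff' hB _).1 h1
  · intro h
    have h1 : Function.Bijective (fun θ : A' ⟶ ArtFun.Art.dual Λ k => f ≫ (qA ≫ θ)) := e ▸ hB.comp h
    exact (Function.Bijective.of_comp_iff _ hA).1 h1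

end Groth.Agent.S12750
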