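import Groth.Statements.S12751
import Groth.Agent.ArtFunLib.EssentialKaehler

set_option autoImplicit false
universe u v
open CategoryTheory
open scoped TensorProduct
open ArtFun ArtFun.Art

namespace Groth.Agent.S12751

open Groth.Agent.ArtFunLib

/-- A morphism f : B → A in the category of Artinian local Λ-algebras with residue field k is surjective
if and only if Ω_{B/Λ} ⊗_B k → Ω_{A/Λ} ⊗_A k is surjective; by right exactness of the sequence
Ω_{B/Λ} ⊗_B A → Ω_{A/Λ} → Ω_{A/B} → 0 this surjectivity is the vanishing of Ω_{A/B} ⊗_A k, which is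
how it is written here (A a B-algebra through f, k an A-module through the augmentation). -/
theorem result {Λ : Type u} {k : Type u} [CommRing Λ] [Field k] [Algebra Λ k]
    [IsNoetherianRing Λ] [Module.Finite Λ k]
    {A B : ArtFun.Art Λ k} (f : B ⟶ A) :
    letI : Algebra B A := f.toAlgHom.toRingHom.toAlgebra
    letI : Algebra A k := A.res.toRingHom.toAlgebra
    Function.Surjective f ↔ Subsingleton (k ⊗[A] Ω[A⁄B]) := by
  letI : Algebra B A := f.toAlgHom.toRingHom.toAlgebra
  letI : Algebra A k := A.res.toRingHom.toAlgebra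
  letI : Algebra B k := B.res.toRingHom.toAlgebra
  haveI : IsScalarTower B A k := IsScalarTower.of_algebraMap_eq fun b => (ArtFun.Art.res_app f b).symm
  haveI : IsScalarTower Λ A k := IsScalarTower.of_algebraMap_eq fun r => (A.res.commutes r).symm
  refine ⟨fun hf => ?_, fun hsub => (surjective_iff_theta f).2 fun θ θ' h => dual_hom_ext fun a => ?_⟩
  · haveI := KaehlerDifferential.subsingleton_of_surjective B A hf
    refine subsingleton_of_forall_eq 0 fun z => ?_
    induction z using TensorProduct.induction_on with
    | zero => rfl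
    | tmul c w => rw [Subsingleton.elim w 0, TensorProduct.tmul_zero]
    | add u v hu hv => rw [hu, hv, add_zero]
  obtain ⟨e, he⟩ := exists_thetaEquiv A (fun a => rfl)
  let D : Derivation B A k := Derivation.mk'
    { toFun := fun a => e θ ((1 : k) ⊗ₜ KaehlerDifferential.D Λ A a) - e θ' ((1 : k) ⊗ₜ KaehlerDifferential.D Λ A a)
      map_add' := fun x y => by simp only [map_add, TensorProduct.tmul_add]; abel
      map_smul' := fun b x => by
        have hb : TrivSqZeroExt.snd (R := k) (M := k) (θ (f b)) = TrivSqZeroExt.snd (R := k) (M := k) (θ' (f b)) :=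
          congrArg (fun m : B ⟶ ArtFun.Art.dual Λ k => TrivSqZeroExt.snd (R := k) (M := k) (m b)) h
        rw [RingHom.id_apply, Algebra.smul_def, Algebra.smul_def, Derivation.leibniz, TensorProduct.tmul_add,
          map_add, map_add]
        simp only [← TensorProduct.smul_tmul, Algebra.smul_def, mul_one]
        rw [show algebraMap B A b = f b from rfl, show algebraMap B k b = B.res b from rfl]
        have r1 : ∀ (c : k) (ℓ : Module.Dual k (k ⊗[A] Ω[A⁄Λ])) (z : Ω[A⁄Λ]),
            ℓ (c ⊗ₜ z) = c * ℓ ((1 : k) ⊗ₜ z) := fun c ℓ z => by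
          rw [← smul_eq_mul, ← map_smul, TensorProduct.smul_tmul', smul_eq_mul, mul_one]
        rw [r1 (algebraMap A k (f b)), r1 (algebraMap A k x), r1 (algebraMap A k (f b)) (e θ'),
          r1 (algebraMap A k x) (e θ'), he θ (f b), he θ' (f b), hb,
          show algebraMap A k (f b) = B.res b from ArtFun.Art.res_app f b]
        ring }
    (fun x y => by
      simp only [LinearMap.coe_mk, AddHom.coe_mk, Derivation.leibniz, TensorProduct.tmul_add, map_add,
        ← TensorProduct.smul_tmul]
      have r1 : ∀ (c : A) (ℓ : Module.Dual k (k ⊗[A] Ω[A⁄Λ])) (z : Ω[A⁄Λ]),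
          ℓ ((c • (1 : k)) ⊗ₜ z) = c • ℓ ((1 : k) ⊗ₜ z) := fun c ℓ z => by
        rw [← TensorProduct.smul_tmul', LinearMap.map_smul_of_tower]
      rw [r1, r1, r1, r1, smul_sub, smul_sub]
      abel)
  have hD : D.liftKaehlerDifferential = 0 := by
    refine (LinearMap.liftBaseChangeEquiv k).injective (LinearMap.ext fun z => ?_)
    haveI := hsub
    rw [Subsingleton.elim z 0, map_zero, map_zero]
  have := congrArg (fun l : Ω[A⁄B] →ₗ[A] k => l (KaehlerDifferential.D B A a)) hD
  rw [Derivation.liftKaehlerDifferential_comp_D, LinearMap.zero_apply] at this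
  rw [← he θ, ← he θ']
  exact sub_eq_zero.1 this

end Groth.Agent.S12751
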