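import Groth.Statements.S12752
import Groth.Agent.ArtFunLib.EssentialKaehler
import Groth.Agent.S12751

set_option autoImplicit false
universe u v
open CategoryTheory
open scoped TensorProduct
open ArtFun ArtFun.Art

namespace Groth.Agent.S12752

open Groth.Agent.ArtFunLib

/-- (a) ⇔ (c): a morphism f : B → A in the category of Artinian local Λ-algebras with residue field k is
an essential surjection (surjective, and any morphism g into B with g followed by f surjective is
surjective) if and only if the map Ω_{B/Λ} ⊗_B k → Ω_{A/Λ} ⊗_A k is an isomorphism of k-vector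
spaces. These spaces are finite-dimensional, so the isomorphism condition is written as: the map is
surjective (that is, Ω_{A/B} ⊗_A k = 0) and the two spaces have equal dimension. -/
theorem result {Λ : Type u} {k : Type u} [CommRing Λ] [Field k] [Algebra Λ k]
    [IsNoetherianRing Λ] [Module.Finite Λ k]
    {A B : ArtFun.Art Λ k} (f : B ⟶ A) :
    letI : Algebra B A := f.toAlgHom.toRingHom.toAlgebra
    letI : Algebra A k := A.res.toRingHom.toAlgebra
    letI : Algebra B k := B.res.toRingHom.toAlgebra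
    (Function.Surjective f ∧ ∀ (C : ArtFun.Art Λ k) (g : C ⟶ B), Function.Surjective (g ≫ f) → Function.Surjective g) ↔
      (Subsingleton (k ⊗[A] Ω[A⁄B]) ∧
        Module.finrank k (k ⊗[B] Ω[B⁄Λ]) = Module.finrank k (k ⊗[A] Ω[A⁄Λ])) := by
  letI : Algebra B A := f.toAlgHom.toRingHom.toAlgebra
  letI : Algebra A k := A.res.toRingHom.toAlgebra
  letI : Algebra B k := B.res.toRingHom.toAlgebra
  haveI : IsScalarTower Λ A k := IsScalarTower.of_algebraMap_eq fun r => (A.res.commutes r).symm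
  haveI : IsScalarTower Λ B k := IsScalarTower.of_algebraMap_eq fun r => (B.res.commutes r).symm
  haveI := finite_kaehler_tensor A
  haveI := finite_kaehler_tensor B
  obtain ⟨eA, heA⟩ := exists_thetaEquiv A (fun a => rfl)
  obtain ⟨eB, heB⟩ := exists_thetaEquiv B (fun a => rfl)
  have dext : ∀ ℓ ℓ' : Module.Dual k (k ⊗[B] Ω[B⁄Λ]),
      (∀ b, ℓ ((1 : k) ⊗ₜ KaehlerDifferential.D Λ B b) = ℓ' ((1 : k) ⊗ₜ KaehlerDifferential.D Λ B b)) → ℓ = ℓ' :=
    fun ℓ ℓ' h => eB.symm.injective (dual_hom_ext fun b => by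
      rw [← heB, ← heB, eB.apply_symm_apply, eB.apply_symm_apply, h])
  let Φ₀ : Module.Dual k (k ⊗[A] Ω[A⁄Λ]) → Module.Dual k (k ⊗[B] Ω[B⁄Λ]) := fun ℓ => eB (f ≫ eA.symm ℓ)
  have hΦ : ∀ ℓ b, Φ₀ ℓ ((1 : k) ⊗ₜ KaehlerDifferential.D Λ B b) = ℓ ((1 : k) ⊗ₜ KaehlerDifferential.D Λ A (f b)) :=
    fun ℓ b => by
      rw [heB]
      change TrivSqZeroExt.snd (R := k) (M := k) (eA.symm ℓ (f b)) = _
      rw [← heA, eA.apply_symm_apply]
  let Φ : Module.Dual k (k ⊗[A] Ω[A⁄Λ]) →ₗ[k] Module.Dual k (k ⊗[B] Ω[B⁄Λ]) :=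
    { toFun := Φ₀
      map_add' := fun ℓ ℓ' => dext _ _ fun b => by rw [LinearMap.add_apply, hΦ, hΦ, hΦ]; rfl
      map_smul' := fun c ℓ => dext _ _ fun b => by rw [RingHom.id_apply, LinearMap.smul_apply, hΦ, hΦ]; rfl }
  have hbij : Function.Bijective (fun θ : A ⟶ ArtFun.Art.dual Λ k => f ≫ θ) ↔ Function.Bijective Φ := by
    change _ ↔ Function.Bijective (eB ∘ (fun θ : A ⟶ ArtFun.Art.dual Λ k => f ≫ θ) ∘ eA.symm)
    rw [Function.Bijective.of_comp_iff' eB.bijective, Function.Bijective.of_comp_iff _ eA.symm.bijective]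
  have hinj : Function.Injective Φ ↔ Function.Surjective f := by
    change Function.Injective (eB ∘ (fun θ : A ⟶ ArtFun.Art.dual Λ k => f ≫ θ) ∘ eA.symm) ↔ _
    rw [Function.Injective.of_comp_iff eB.injective, Function.Injective.of_comp_iff' _ eA.symm.bijective,
      surjective_iff_theta]
    rfl
  have hd : ∀ (V : Type u) [AddCommGroup V] [Module k V], Module.finrank k (Module.Dual k V) = Module.finrank k V :=
    fun V _ _ => Subspace.dual_finrank_eq
  refine (essential_iff_theta f).trans (hbij.trans ⟨fun h => ⟨?_, ?_⟩, fun ⟨h1, h2⟩ => ?_⟩)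
  · exact (Groth.Agent.S12751.result f).1 (hinj.1 h.1)
  · rw [← hd (k ⊗[B] Ω[B⁄Λ]), ← hd (k ⊗[A] Ω[A⁄Λ])]
    exact (LinearEquiv.ofBijective Φ h).finrank_eq.symm
  · have hi := hinj.2 ((Groth.Agent.S12751.result f).2 h1)
    exact ⟨hi, (LinearMap.injective_iff_surjective_of_finrank_eq_finrank (by rw [hd, hd]; exact h2.symm)).1 hi⟩

end Groth.Agent.S12752
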