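import Groth.Statements.S12753
import Groth.Agent.ArtFunLib.Essential

set_option autoImplicit false
universe u v
open CategoryTheory
open ArtFun ArtFun.Art

namespace Groth.Agent.S12753

open Groth.Agent.ArtFunLib

/-- Suppose k is separable over the image of Λ → k. A morphism f : B → A in the category of Artinian
local Λ-algebras with residue field k is an essential surjection (surjective, and any morphism g
into B with g followed by f surjective is surjective) if and only if the map of cotangent spaces
relative to Λ, m_B/(m_Λ B + m_B²) → m_A/(m_Λ A + m_A²), is an isomorphism; surjectivity and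
injectivity are written out in terms of ideals, m_Λ being the kernel of Λ → k. -/
theorem result {Λ : Type u} {k : Type u} [CommRing Λ] [Field k] [Algebra Λ k]
    [IsNoetherianRing Λ] [Module.Finite Λ k]
    [Algebra.IsSeparable (↥(algebraMap Λ k).range) k]
    {A B : ArtFun.Art Λ k} (f : B ⟶ A) :
    (Function.Surjective f ∧ ∀ (C : ArtFun.Art Λ k) (g : C ⟶ B), Function.Surjective (g ≫ f) → Function.Surjective g) ↔
      (Ideal.map (algebraMap Λ A) (RingHom.ker (algebraMap Λ k)) ⊔ Ideal.map f.toAlgHom (IsLocalRing.maximalIdeal B) ⊔ IsLocalRing.maximalIdeal A ^ 2 =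
          IsLocalRing.maximalIdeal A ∧
        ∀ b ∈ IsLocalRing.maximalIdeal B, f b ∈ Ideal.map (algebraMap Λ A) (RingHom.ker (algebraMap Λ k)) ⊔ IsLocalRing.maximalIdeal A ^ 2 →
          b ∈ Ideal.map (algebraMap Λ B) (RingHom.ker (algebraMap Λ k)) ⊔ IsLocalRing.maximalIdeal B ^ 2) := by
  rw [essential_iff_theta]
  haveI : IsLocalHom f.toAlgHom := ArtFun.Art.isLocalHom f
  haveI : IsAdicComplete (IsLocalRing.maximalIdeal B) B := by
    obtain ⟨n, hn⟩ := maximalIdeal_pow_eq_bot B
    exact { haus' := fun x hx => by
              have := hx (n + 1)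
              rwa [hn, Submodule.bot_smul, SModEq.bot] at this
            prec' := fun x hx => ⟨x (n + 1), fun i => by
              rcases le_total i (n + 1) with hi | hi
              · exact hx hi
              · have := hx hi
                rw [hn, Submodule.bot_smul, SModEq.bot] at this
                rw [this]⟩ }
  have htfae := (surjective_cotangent_tfae B.res A.res B.res_surjective (ArtFun.Art.mem_maximalIdeal_iff B)
    (ArtFun.Art.mem_maximalIdeal_iff A) f.toAlgHom f.res_comp).out 0 2
  constructor
  · rintro ⟨hi, hs⟩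
    refine ⟨htfae.1 ((surjective_iff_theta f).2 hi), fun b hb hfb => ?_⟩
    by_contra h
    obtain ⟨θ, hθ⟩ := exists_theta_of_notMem hb h
    obtain ⟨η, rfl⟩ := hs θ
    exact hθ (relSq_le_ker A η hfb)
  · rintro ⟨h1, h2⟩
    have hf : Function.Surjective f := htfae.2 h1
    refine ⟨(surjective_iff_theta f).1 hf, fun θ => ?_⟩
    obtain ⟨l, hl⟩ := exists_algHom_factor (f := f.toAlgHom) hf θ.toAlgHom fun t ht =>
      relSq_le_ker B θ (h2 t (ker_le_maximalIdeal f ht) (by
        rw [show f t = 0 from ht]; exact zero_mem _))
    refine ⟨⟨l, AlgHom.ext fun a => ?_⟩, ArtFun.Art.hom_ext (AlgHom.ext hl)⟩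
    obtain ⟨b, rfl⟩ := hf a
    change (ArtFun.Art.dual Λ k).res (l (f b)) = A.res (f b)
    rw [hl, ArtFun.Art.res_app, ArtFun.Art.res_app]

end Groth.Agent.S12753
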