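import Groth.Statements.S12754
import Mathlib.LinearAlgebra.Dimension.Free

set_option autoImplicit false
universe u
open CategoryTheory
open ArtFun

namespace Groth.Agent.S12754

open TensorProduct

/-- A K-linear functor L from finite-dimensional K-vector spaces to K-vector spaces (K a field) is
isomorphic to the functor V ↦ L(K) ⊗_K V. (Existence of an isomorphism of functors, which is how the
published statement reads; the natural choice sends x ⊗ v to L(f_v)(x) with f_v : K → V, 1 ↦ v.) -/
theorem result (K : Type u) [Field K]
    (L : FGModuleCat.{u} K ⥤ ModuleCat.{u} K) [L.Additive] [Functor.Linear K L] :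
    Nonempty (L ≅ (ModuleCat.isFG.{u} K).ι ⋙ MonoidalCategory.tensorLeft (L.obj (FGModuleCat.of K K))) := by
  classical
  let T := L.obj (FGModuleCat.of K K)
  let fv : ∀ V : FGModuleCat.{u} K, V →ₗ[K] (FGModuleCat.of K K ⟶ V) := fun V =>
    { toFun := fun v => FGModuleCat.ofHom (LinearMap.toSpanSingleton K V v)
      map_add' := fun v w => FGModuleCat.hom_ext (LinearMap.ext fun r => smul_add r v w)
      map_smul' := fun c v => FGModuleCat.hom_ext (LinearMap.ext fun r => smul_comm r c v) }
  let θ : ∀ V : FGModuleCat.{u} K, TensorProduct K T V →ₗ[K] L.obj V := fun V => TensorProduct.lift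
    (LinearMap.flip
      { toFun := fun v => (L.map (fv V v)).hom
        map_add' := fun v w => by rw [map_add, Functor.map_add]; rfl
        map_smul' := fun c v => by rw [map_smul, Functor.map_smul]; rfl })
  have hθ : ∀ V t v, θ V (t ⊗ₜ v) = (L.map (fv V v)).hom t := fun _ _ _ => rfl
  have hnat : ∀ (V W : FGModuleCat.{u} K) (f : V ⟶ W) (z : TensorProduct K T V),
      θ W (LinearMap.lTensor T f.hom.hom z) = (L.map f).hom (θ V z) := by
    intro V W f z
    induction z using TensorProduct.induction_on with
    | zero => simp
    | tmul t v =>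
      rw [LinearMap.lTensor_tmul, hθ, hθ]
      change _ = (L.map (fv V v) ≫ L.map f).hom t
      rw [← L.map_comp]
      refine congrArg (fun F : FGModuleCat.of K K ⟶ W => (L.map F).hom t) ?_
      exact FGModuleCat.hom_ext (LinearMap.ext fun r => (map_smul f.hom.hom r v).symm)
    | add a b ha hb => simp only [map_add, ha, hb]
  have hbij : ∀ V : FGModuleCat.{u} K, Function.Bijective (θ V) := by
    intro V
    let b := Module.finBasis K V
    let co : Fin (Module.finrank K V) → (V ⟶ FGModuleCat.of K K) := fun i => FGModuleCat.ofHom (b.coord i)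
    let inv : L.obj V →ₗ[K] TensorProduct K T V :=
      ∑ i, ((TensorProduct.mk K T V).flip (b i)) ∘ₗ (L.map (co i)).hom
    have hid : ∑ i, co i ≫ fv V (b i) = 𝟙 V := by
      refine FGModuleCat.hom_ext (b.ext fun j => ?_)
      let ev : (V ⟶ V) →+ V :=
        { toFun := fun F => F.hom.hom (b j), map_zero' := rfl, map_add' := fun _ _ => rfl }
      change ev (∑ i, co i ≫ fv V (b i)) = b j
      rw [map_sum]
      have he : ∀ i, ev (co i ≫ fv V (b i)) = b.coord i (b j) • b i := fun i => rfl
      simp [he, Finsupp.single_apply]
    have h1 : ∀ y, θ V (inv y) = y := fun y => by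
      simp only [inv, LinearMap.coe_sum, Finset.sum_apply, map_sum, LinearMap.comp_apply, LinearMap.flip_apply,
        TensorProduct.mk_apply, hθ]
      have h2 := congrArg (fun F : V ⟶ V => (L.map F).hom y) hid
      simp only [L.map_sum, L.map_id, L.map_comp] at h2
      simpa using h2
    have h3 : inv ∘ₗ θ V = LinearMap.id := TensorProduct.ext' fun t v => by
      simp only [LinearMap.comp_apply, LinearMap.id_apply, inv, LinearMap.coe_sum, Finset.sum_apply, hθ,
        LinearMap.flip_apply, TensorProduct.mk_apply]
      have : ∀ i, (L.map (co i)).hom ((L.map (fv V v)).hom t) = b.repr v i • t := fun i => by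
        rw [← LinearMap.comp_apply, ← ModuleCat.hom_comp, ← L.map_comp]
        have e : fv V v ≫ co i = b.repr v i • 𝟙 (FGModuleCat.of K K) :=
          FGModuleCat.hom_ext (LinearMap.ext_ring (by
            change b.coord i ((1 : K) • v) = b.repr v i • (1 : K)
            simp))
        rw [e, Functor.map_smul, L.map_id]
        rfl
      simp only [this, TensorProduct.smul_tmul, ← TensorProduct.tmul_sum, b.sum_repr]
    exact ⟨Function.LeftInverse.injective (g := inv) (LinearMap.congr_fun h3), fun y => ⟨inv y, h1 y⟩⟩
  exact ⟨(NatIso.ofComponents (fun V => (LinearEquiv.ofBijective (θ V) (hbij V)).toModuleIso)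
    (fun {V W} f => ModuleCat.hom_ext (LinearMap.ext fun z => hnat V W f z))).symm⟩

end Groth.Agent.S12754
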