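import Groth.Statements.S12755
import Groth.Agent.ArtFunLib.Tangent

set_option autoImplicit false
universe u v
open CategoryTheory
open ArtFun

namespace Groth.Agent.S12755

open Groth.Agent.ArtFunLib

/-- For functors on Artinian local Λ-algebras with residue field k, the composite of two smooth
morphisms φ : F → G and ψ : G → H is smooth. -/
theorem result {Λ : Type u} {k : Type u} [CommRing Λ] [Field k] [Algebra Λ k]
    [IsNoetherianRing Λ] [Module.Finite Λ k]
    {F G H : ArtFun.Art Λ k ⥤ Type v} (φ : F ⟶ G) (ψ : G ⟶ H)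
    (hφ : ArtFun.IsSmooth φ) (hψ : ArtFun.IsSmooth ψ) : ArtFun.IsSmooth (φ ≫ ψ) := by
  rw [isSmooth_iff_lifts] at *
  intro B A μ hμ x y e
  obtain ⟨x₁, hx₁, hy₁⟩ := hψ μ hμ (φ.app A x) y e
  obtain ⟨x', hx', hy'⟩ := hφ μ hμ x x₁ hx₁
  exact ⟨x', hx', (congrArg (ψ.app B) hy').trans hy₁⟩

end Groth.Agent.S12755
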