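import Groth.Statements.S12757
import Groth.Agent.ArtFunLib.Hull

set_option autoImplicit false
universe u v
open CategoryTheory
open ArtFun

namespace Groth.Agent.S12757

open Groth.Agent.ArtFunLib

/-- For functors, let F be a functor on Artinian local Λ-algebras with residue field k with F(k) a
point. A versal family of F over a complete local Noetherian R with residue field k which is
bijective on tangent spaces (a hull; bijectivity implies bijectivity on orbits of the derivations of
k) is minimal: every morphism of coefficient rings R' → R along which some formal element over R'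
pushes forward to the formal element of the family is surjective. -/
theorem result {Λ : Type u} {k : Type u} [CommRing Λ] [Field k] [Algebra Λ k]
    [IsNoetherianRing Λ] [Module.Finite Λ k]
    {F : ArtFun.Art Λ k ⥤ Type v} (h0 : ArtFun.H0 F) (P : ArtFun.Hull F) :
    P.family.IsMinimalVersal := by
  refine ⟨P.miniversal.1, fun R' u f hf hu => ?_⟩
  haveI := h0.2
  obtain ⟨g, hg, hgu⟩ := exists_along_eq_of_versal P.miniversal.1
    (fun _ => ⟨basePoint _ _, Subsingleton.elim _ _⟩) R' u
  have hfg : P.ring.res.comp (f.comp g) = P.ring.res := by rw [← AlgHom.comp_assoc, hf, hg]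
  have e : P.family.along (f.comp g) hfg = P.family := toFormalElt_injective (by
    rw [← hu, ← hgu, ← toFormalElt_along]
    rfl)
  refine surjective_of_tangent_injective f hf fun θ₁ θ₂ h => ?_
  have key : ∀ θ : ArtFun.HomSet P.ring.carrier P.ring.res (ArtFun.Art.dual Λ k),
      θ.1.comp (f.comp g) = θ.1 := fun θ => by
    have e2 := congrArg (fun ξ => ξ.app _ θ) e
    exact congrArg Subtype.val (P.miniversal.2.1 e2)
  exact Subtype.ext (by rw [← key θ₁, ← key θ₂, ← AlgHom.comp_assoc, ← AlgHom.comp_assoc, h])

end Groth.Agent.S12757
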