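import Groth.Statements.S12759
import Groth.Agent.ArtFunLib.SmoothRel

set_option autoImplicit false
universe u v
open CategoryTheory
open ArtFun

namespace Groth.Agent.S12759

open Groth.Agent.ArtFunLib

/-- For functors, any versal family (R, ξ) of a functor F on Artinian local Λ-algebras with residue
field k with F(k) a point is the pushforward of a minimal versal family (R', ξ') along a power
series extension: there are g : R' → R compatible with the augmentations and an isomorphism R ≅
R'[[X₁, …, Xₙ]] over Λ carrying g to the constants, and the formal element of ξ is that of ξ' pushed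
forward along g. -/
theorem result {Λ : Type u} {k : Type u} [CommRing Λ] [Field k] [Algebra Λ k]
    [IsNoetherianRing Λ] [Module.Finite Λ k]
    {F : ArtFun.Art Λ k ⥤ Type v} (h0 : ArtFun.H0 F) (V : ArtFun.VersalPair F) :
    ∃ (R' : ArtFun.CRing Λ k) (ξ' : ArtFun.Family R'.carrier R'.res F), ξ'.IsMinimalVersal ∧
      ∃ (g : R'.carrier →ₐ[Λ] V.ring.carrier) (hg : V.ring.res.comp g = R'.res)
        (n : ℕ) (e : V.ring.carrier ≃ₐ[Λ] MvPowerSeries (Fin n) R'.carrier),
        (∀ a : R'.carrier, e (g a) = algebraMap R'.carrier (MvPowerSeries (Fin n) R'.carrier) a) ∧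
        (ξ'.along g hg).toFormalElt = V.family.toFormalElt := by
  classical
  haveI := h0.2
  obtain ⟨R, ξ, hξ⟩ := V
  let good : Set (Ideal R.carrier) := {K | ∃ (S : ArtFun.CRing Λ k) (π : R.carrier →ₐ[Λ] S.carrier)
      (hπ : S.res.comp π = R.res) (g : S.carrier →ₐ[Λ] R.carrier) (hg : R.res.comp g = S.res),
      RingHom.ker π = K ∧ π.comp g = AlgHom.id Λ S.carrier ∧ (ξ.along π hπ).along g hg = ξ}
  obtain ⟨K, ⟨S, π, hπ, g, hg, hK, hπg, hgξ⟩, hmax⟩ := wellFounded_gt.has_min good
    ⟨RingHom.ker (AlgHom.id Λ R.carrier), R, AlgHom.id Λ R.carrier, AlgHom.comp_id _, AlgHom.id Λ R.carrier,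
      AlgHom.comp_id _, rfl, AlgHom.comp_id _, toFormalElt_injective (ArtFun.FormalElt.ext' fun _ => rfl)⟩
  let ξS := ξ.along π hπ
  have hξS : ArtFun.IsVersal ξS := isVersal_along_of_retract hξ π hπ g hg hπg hgξ
  have hmin : ∀ (R'' : ArtFun.CRing Λ k) (u : ArtFun.FormalElt F R'') (f : R''.carrier →ₐ[Λ] S.carrier)
      (hf : S.res.comp f = R''.res), u.push f hf = ξS.toFormalElt → Function.Surjective f := by
    intro R'' u f hf hu
    obtain ⟨h, hh, hhu⟩ := exists_along_eq_of_versal hξS (fun _ => ⟨basePoint _ _, Subsingleton.elim _ _⟩) R'' u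
    let e := f.comp h
    have he : S.res.comp e = S.res := by rw [← AlgHom.comp_assoc, hf, hh]
    have hee : ξS.along e he = ξS := toFormalElt_injective (by
      rw [← family_along_along ξS h hh f hf, toFormalElt_along, hhu, hu])
    by_contra hns
    have hens : ¬ Function.Surjective e := fun hs => hns fun z => by
      obtain ⟨w, hw⟩ := hs z
      exact ⟨h w, hw⟩
    obtain ⟨p, hp, hpξ, hpp, hpk⟩ := exists_retract_of_not_surjective ξS e he hee hens
    obtain ⟨S', q, hq, hqs, hqk⟩ := exists_quot S (RingHom.ker p) (fun a ha => by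
      rw [ArtFun.CRing.mem_maximalIdeal_iff, ← ArtFun.CRing.res_comp_apply p hp, show p a = 0 from ha, map_zero])
    obtain ⟨l, hl⟩ := exists_algHom_factor hqs p hqk.le
    have hlres : S.res.comp l = S'.res := AlgHom.ext fun z => by
      obtain ⟨a, rfl⟩ := hqs z
      rw [AlgHom.comp_apply, hl, ArtFun.CRing.res_comp_apply p hp, ArtFun.CRing.res_comp_apply q hq]
    have hql : q.comp l = AlgHom.id Λ S'.carrier := AlgHom.ext fun z => by
      obtain ⟨a, rfl⟩ := hqs z
      change q (l (q a)) = q a
      rw [hl, ← sub_eq_zero, ← map_sub, ← RingHom.mem_ker, hqk, RingHom.mem_ker, map_sub]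
      exact sub_eq_zero.2 (congrArg (fun t : S.carrier →ₐ[Λ] S.carrier => t a) hpp)
    have hlq : l.comp q = p := AlgHom.ext hl
    have hS' : S'.res.comp (q.comp π) = R.res := by rw [← AlgHom.comp_assoc, hq, hπ]
    have hg' : R.res.comp (g.comp l) = S'.res := by rw [← AlgHom.comp_assoc, hg, hlres]
    have hgood : RingHom.ker (q.comp π) ∈ good := by
      refine ⟨S', q.comp π, hS', g.comp l, hg', rfl, ?_, ?_⟩
      · rw [AlgHom.comp_assoc, ← AlgHom.comp_assoc π g l, hπg, AlgHom.id_comp, hql]
      · rw [← family_along_along ξ π hπ q hq, ← family_along_along _ l hlres g hg,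
          family_along_along (ξ.along π hπ) q hq l hlres (by rw [hlq]; exact hp),
          family_along_congr (ξ.along π hπ) hlq _ hp, hpξ, hgξ]
    refine hmax _ hgood (lt_of_le_of_ne (fun a ha => ?_) fun heq => hpk ?_)
    · rw [← hK] at ha
      change q (π a) = 0
      rw [show π a = 0 from ha, map_zero]
    · refine (Submodule.eq_bot_iff _).2 fun z hz => ?_
      obtain ⟨r, rfl⟩ : ∃ r, π r = z := ⟨g z, congrArg (fun t : S.carrier →ₐ[Λ] S.carrier => t z) hπg⟩
      have : r ∈ RingHom.ker (q.comp π) := by
        change q (π r) = 0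
        rw [← RingHom.mem_ker, hqk]
        exact hz
      rw [← heq, ← hK] at this
      exact this
  obtain ⟨n, x, hxK, hgen, hind⟩ := exists_rel_gens g hg (RingHom.ker π)
    (fun a ha => by
      rw [ArtFun.CRing.mem_maximalIdeal_iff, ← ArtFun.CRing.res_comp_apply π hπ, show π a = 0 from ha, map_zero])
    (fun a ha => by
      refine Submodule.mem_sup_left ?_
      rw [show a = (a - g (π a)) + g (π a) by ring]
      refine Ideal.add_mem _ (Submodule.mem_sup_left ?_) (Submodule.mem_sup_right
        (Ideal.mem_map_of_mem g (ArtFun.CRing.maximalIdeal_le_comap π hπ ha)))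
      change π (a - g (π a)) = 0
      rw [map_sub, sub_eq_zero]
      exact (congrArg (fun t : S.carrier →ₐ[Λ] S.carrier => t (π a)) hπg).symm)
  obtain ⟨θ, hθ, hθC, hθX⟩ := exists_psHom g hg x fun i => by
    rw [← ArtFun.CRing.res_comp_apply π hπ, show π (x i) = 0 from hxK i, map_zero]
  have hb : Function.Bijective θ := bijective_psHom_of_versal g hg x hgen θ hθ hθC hθX ⊥ bot_le
    (fun z hzm hzJ => by
      rw [Ideal.map_bot, bot_sup_eq] at hzJ
      obtain ⟨a, c, ha, hc, rfl⟩ := sub_mem_of_rel_gens g hg x hind θ hθ hθC hθX z hzm (Submodule.mem_sup_right hzJ)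
      rw [Ideal.map_bot, bot_sup_eq]
      have hsum : ∑ i, c i * psX S n i ∈ IsLocalRing.maximalIdeal (psRing S n).carrier ^ 2 := Ideal.sum_mem _ fun i _ => by
        rw [pow_two]
        exact Ideal.mul_mem_mul (hc i) ((ArtFun.CRing.mem_maximalIdeal_iff _ _).2 (psX_res S n i))
      refine Ideal.add_mem _ ?_ hsum
      -- `a` is a constant in `m²` up to `M²`
      obtain ⟨b, hb, hab⟩ : ∃ b ∈ IsLocalRing.maximalIdeal S.carrier, a - psC S n b ∈ IsLocalRing.maximalIdeal (psRing S n).carrier ^ 2 := by
        clear hzm hzJ hsum hc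
        induction ha using Submodule.span_induction with
        | mem z hz =>
          obtain ⟨w, hw, rfl⟩ := hz
          exact ⟨w, hw, by rw [sub_self]; exact zero_mem _⟩
        | zero => exact ⟨0, zero_mem _, by simp⟩
        | add z z' _ _ h1 h2 =>
          obtain ⟨b, hb, h1⟩ := h1
          obtain ⟨b', hb', h2⟩ := h2
          exact ⟨b + b', Ideal.add_mem _ hb hb', by
            rw [map_add, show z + z' - (psC S n b + psC S n b') = (z - psC S n b) + (z' - psC S n b') by ring]
            exact Ideal.add_mem _ h1 h2⟩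
        | smul r z hzmem h1 =>
          obtain ⟨b, hb, h1⟩ := h1
          obtain ⟨r', hr'⟩ := S.res_surjective ((psRing S n).res r)
          refine ⟨r' * b, Ideal.mul_mem_left _ _ hb, ?_⟩
          rw [smul_eq_mul, map_mul,
            show r * z - psC S n r' * psC S n b = r * (z - psC S n b) + (r - psC S n r') * psC S n b by ring]
          refine Ideal.add_mem _ (Ideal.mul_mem_left _ _ h1) ?_
          rw [pow_two]
          refine Ideal.mul_mem_mul ?_ (ArtFun.CRing.maximalIdeal_le_comap _ (psC_res S n) hb)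
          rw [ArtFun.CRing.mem_maximalIdeal_iff, map_sub, ArtFun.CRing.res_comp_apply _ (psC_res S n), hr', sub_self]
      rw [map_add] at hzJ
      have h4 : g b ∈ IsLocalRing.maximalIdeal R.carrier ^ 2 := by
        rw [show g b = θ (psC S n b) from (congrArg (fun t : S.carrier →ₐ[Λ] R.carrier => t b) hθC).symm]
        rw [show θ (psC S n b) = θ a - θ (a - psC S n b) by rw [map_sub]; ring]
        refine Ideal.sub_mem _ ((Ideal.add_mem_iff_left _ ?_).1 hzJ) ?_
        · exact apply_mem_maximalIdeal_pow θ hθ hsum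
        · exact apply_mem_maximalIdeal_pow θ hθ hab
      have h5 : b ∈ IsLocalRing.maximalIdeal S.carrier ^ 2 := by
        rw [show b = π (g b) from (congrArg (fun t : S.carrier →ₐ[Λ] S.carrier => t b) hπg).symm]
        exact apply_mem_maximalIdeal_pow π hπ h4
      rw [show a = (a - psC S n b) + psC S n b by ring]
      exact Ideal.add_mem _ hab (apply_mem_maximalIdeal_pow (psC S n) (psC_res S n) h5))
    ξ hξ (ξS.along (psC S n) (psC_res S n))
    (by
      rw [family_along_along ξS _ _ θ hθ (by rw [hθC]; exact hg), family_along_congr ξS hθC _ hg]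
      exact hgξ)
    (fun h hh _ hclose a ha => by
      have h1 := hclose (psC S n a)
      rw [Ideal.map_bot, bot_sup_eq] at h1
      rw [Ideal.mem_comap, show psC S n a = h (θ (psC S n a)) - (h (θ (psC S n a)) - psC S n a) by ring]
      exact Ideal.sub_mem _ (Submodule.mem_sup_left (Ideal.mem_map_of_mem (h.comp θ)
        (ArtFun.CRing.maximalIdeal_le_comap _ (psC_res S n) ha))) (Submodule.mem_sup_right h1))
  refine ⟨S, ξS, ⟨hξS, hmin⟩, g, hg, n,
    { (AlgEquiv.ofBijective θ hb).symm.toRingEquiv with commutes' := fun r => (AlgEquiv.ofBijective θ hb).symm.commutes r },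
    fun a => ?_, congrArg ArtFun.Family.toFormalElt hgξ⟩
  change (AlgEquiv.ofBijective θ hb).symm (g a) = psC S n a
  rw [← hθC]
  exact (AlgEquiv.ofBijective θ hb).symm_apply_apply (psC S n a)

end Groth.Agent.S12759
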