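import Groth.Statements.S1277
import Groth.Agent.FlatMor62.AboveClosed

set_option autoImplicit false
universe u
open FlatMor

namespace Groth.Agent.S1277

open TensorProduct

open IsLocalRing in
/-- Let A be a local ring, A → B a local homomorphism of local rings, B → C a flat local homomorphism of
local rings, M a B-module and N = M ⊗_B C. For every local homomorphism of local rings A → A', with
base changes B' = B ⊗_A A', M', C' = C ⊗_A A', N' (any models): M' is flat over A' at every prime of
B' containing 𝔪_{A'}B' + 𝔪_B B' if and only if N' is flat over A' at every prime of C' containing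
𝔪_{A'}C' + 𝔪_C C'. -/
theorem result {A B C : Type u} [CommRing A] [IsLocalRing A] [CommRing B] [IsLocalRing B] [CommRing C] [IsLocalRing C]
    [Algebra A B] [IsLocalHom (algebraMap A B)] [Algebra B C] [IsLocalHom (algebraMap B C)] [Algebra A C] [IsScalarTower A B C] [Module.Flat B C]
    (M : Type u) [AddCommGroup M] [Module B M] (N : Type u) [AddCommGroup N] [Module C N] [Module B N] [IsScalarTower B C N]
    (g : M →ₗ[B] N) (hg : IsBaseChange C g)
    (A' : Type u) [CommRing A'] [IsLocalRing A'] [Algebra A A'] [IsLocalHom (algebraMap A A')]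
    (B' M' : Type u) [CommRing B'] [Algebra B B'] [Algebra A' B'] [Algebra A B'] [IsScalarTower A B B'] [IsScalarTower A A' B']
        [Algebra.IsPushout A B A' B']
        [AddCommGroup M'] [Module B' M'] [Module B M'] [IsScalarTower B B' M'] [Module A' M'] [IsScalarTower A' B' M']
        (fB : M →ₗ[B] M') (hfB : IsBaseChange B' fB)
    (C' N' : Type u) [CommRing C'] [Algebra C C'] [Algebra A' C'] [Algebra A C'] [IsScalarTower A C C'] [IsScalarTower A A' C']
        [Algebra.IsPushout A C A' C']
        [AddCommGroup N'] [Module C' N'] [Module C N'] [IsScalarTower C C' N'] [Module A' N'] [IsScalarTower A' C' N']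
        (fC : N →ₗ[C] N') (hfC : IsBaseChange C' fC) :
    FlatCA.FlatAboveClosedPoints B A' B' M' ↔ FlatCA.FlatAboveClosedPoints C A' C' N' := by
  obtain ⟨h, hB, hA⟩ := Groth.Agent.FlatMor62.AboveClosed.exists_algebra (A := A) (B := B) (C := C) (A' := A') (B' := B') (C' := C')
  letI : Algebra B' C' := h.toAlgebra
  letI : Algebra B C' := ((algebraMap C C').comp (algebraMap B C)).toAlgebra
  haveI : IsScalarTower B C C' := IsScalarTower.of_algebraMap_eq fun _ => rfl
  haveI : IsScalarTower B B' C' := IsScalarTower.of_algebraMap_eq fun b => (hB b).symm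
  haveI : IsScalarTower A' B' C' := IsScalarTower.of_algebraMap_eq fun a => (hA a).symm
  haveI : IsScalarTower A B' C' := IsScalarTower.of_algebraMap_eq fun a => by
    rw [IsScalarTower.algebraMap_apply A A' B', ← IsScalarTower.algebraMap_apply A' B' C',
      ← IsScalarTower.algebraMap_apply A A' C']
  haveI hp' : Algebra.IsPushout B C B' C' :=
    (Algebra.IsPushout.comp_iff (R := A) (S := B) (R' := A') (S' := B') (T := C) (T' := C')).mp inferInstance
  letI : Module B' N' := Module.compHom N' h
  haveI : IsScalarTower B' C' N' := IsScalarTower.of_algebraMap_smul fun _ _ => rfl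
  letI : Module B N' := Module.compHom N' (algebraMap B C)
  haveI : IsScalarTower B C N' := IsScalarTower.of_algebraMap_smul fun _ _ => rfl
  haveI : IsScalarTower B C' N' := IsScalarTower.of_algebraMap_smul fun b x => by
    rw [IsScalarTower.algebraMap_apply B C C', algebraMap_smul]; rfl
  haveI : IsScalarTower B B' N' := IsScalarTower.of_algebraMap_smul fun b x => by
    rw [← IsScalarTower.algebraMap_smul C' (algebraMap B B' b), ← IsScalarTower.algebraMap_apply, algebraMap_smul]
  haveI : IsScalarTower A' B' N' := IsScalarTower.of_algebraMap_smul fun a x => by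
    rw [← IsScalarTower.algebraMap_smul C' (algebraMap A' B' a), ← IsScalarTower.algebraMap_apply, algebraMap_smul]
  haveI : Algebra.IsPushout B B' C C' := Algebra.IsPushout.symm hp'
  haveI : Module.Flat B' C' := Module.Flat.of_linearEquiv
    (IsBaseChange.equiv (‹Algebra.IsPushout B B' C C'›).out).symm
  let fN : M →ₗ[B] N' := (fC.restrictScalars B).comp g
  let φ : M' →ₗ[B'] N' := hfB.lift fN
  have hφ : (φ.restrictScalars B).comp fB = fN := LinearMap.ext fun x => hfB.lift_eq fN x
  have hφb : IsBaseChange C' φ := IsBaseChange.of_comp hfB (by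
    rw [show ((φ : M' →ₗ[B] N') ∘ₗ fB) = fN from hφ]; exact hg.comp hfC)
  constructor
  · intro hM q _ hq
    haveI : (q.comap h).IsPrime := Ideal.comap_isPrime _ _
    haveI : q.LiesOver (q.comap h) := ⟨rfl⟩
    refine (Groth.Agent.FlatMor62.AboveClosed.flatAt_iff_of_flat M' N' φ hφb (q.comap h) q).mpr
      (hM _ (sup_le (Ideal.map_le_iff_le_comap.mpr fun a ha => ?_) (Ideal.map_le_iff_le_comap.mpr fun b hb => ?_)))
    · show h (algebraMap A' B' a) ∈ q
      rw [hA]; exact hq (Ideal.mem_sup_left (Ideal.mem_map_of_mem _ ha))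
    · show h (algebraMap B B' b) ∈ q
      rw [hB]; exact hq (Ideal.mem_sup_right (Ideal.mem_map_of_mem _ (map_nonunit (algebraMap B C) b hb)))
  · intro hN p _ hp
    obtain ⟨q, hqp, hqc, hq⟩ := Groth.Agent.FlatMor62.AboveClosed.exists_prime (A := A) (B := B) (C := C) h hB hA p hp
    haveI := hqp
    haveI : q.LiesOver p := ⟨hqc.symm⟩
    exact (Groth.Agent.FlatMor62.AboveClosed.flatAt_iff_of_flat M' N' φ hφb p q).mp (hN q hq)

end Groth.Agent.S1277
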