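import Groth.Statements.S12773
import Groth.Agent.StFib.Fibre2

set_option autoImplicit false
set_option backward.isDefEq.respectTransparency false
set_option backward.isDefEq.respectTransparency.types false
open CategoryTheory AlgebraicGeometry
universe u
open AlgSt FibCat Groth.Agent.StFib

namespace Groth.Agent.S12773

/-- Let `f : 𝒳 ⟶ 𝒴` be a 1-morphism of algebraic stacks over `S`, `V` a scheme over `S` and `y : (Sch/V)
⟶ 𝒴` surjective and smooth. Then there are a scheme `U` over `S`, a morphism `a : U ⟶ V` and a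
surjective smooth `x : (Sch/U) ⟶ 𝒳` such that the square 2-commutes: `f ∘ x ≅ y ∘ a`. -/
theorem result {S : Scheme.{u}} {𝒳 𝒴 : AlgSt.Cat S}
    (h𝒳 : AlgSt.IsAlgStack Scheme.fppfPrecoverage 𝒳) (h𝒴 : AlgSt.IsAlgStack Scheme.fppfPrecoverage 𝒴)
    (f : 𝒳 ⥤ᵇ 𝒴) (V : Over S) (y : FibCat.overCat V ⥤ᵇ 𝒴)
    (hy : AlgSt.RepByAlgSpWith (AlgSp.LocP @Smooth) y) (hy' : AlgSt.RepByAlgSpWith AlgSp.IsSurjectiveMor y) :
    ∃ (U : Over S) (a : U ⟶ V) (x : FibCat.overCat U ⥤ᵇ 𝒳),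
      AlgSt.RepByAlgSpWith (AlgSp.LocP @Smooth) x ∧ AlgSt.RepByAlgSpWith AlgSp.IsSurjectiveMor x ∧
        Nonempty (BasedFunctor.comp x f ≅ BasedFunctor.comp (AlgSt.overMap a) y) := by
  have hfp : IsFibGrpd (fp y f).p := isFibGrpd_fp (isFibGrpd_overCat V) h𝒳.isStack.1 h𝒴.isStack.1 y f
  obtain ⟨U, w, hw, hws⟩ := hasAtlas_of_rep atlasProp_smooth hfp h𝒳.isStack.1 (fpSnd y f)
    (repByAlgSp1_of_with (repByAlgSpWith_fpSnd _ y hy)) h𝒳.atlas
  let F : overCat U ⥤ᵇ overCat V := BasedFunctor.comp w (fpFst y f)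
  let x₀ : Over V := F.obj (Over.mk (𝟙 U))
  have hF : Over.left x₀ = U := F.w_obj _
  let a : U ⟶ V := eqToHom hF.symm ≫ x₀.hom
  obtain ⟨α, -⟩ := exists_overIso (isFibGrpd_overCat V) F (AlgSt.overMap a)
    (Over.isoMk (eqToIso hF) (by
      change eqToHom hF ≫ (𝟙 U ≫ a) = x₀.hom
      simp [a]))
    ⟨hF, rfl⟩
  refine ⟨U, a, BasedFunctor.comp w (fpSnd y f),
    repByAlgSpWith_comp good_smooth.bc good_smooth.comp good_smooth.det (isFibGrpd_overCat U) hfp hw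
      (repByAlgSpWith_fpSnd _ y hy),
    repByAlgSpWith_comp good_surjective.bc good_surjective.comp good_surjective.det
      (isFibGrpd_overCat U) hfp hws (repByAlgSpWith_fpSnd _ y hy'), ⟨?_⟩⟩
  exact Iso.trans (isoWhiskerLeft w (fpIso y f).symm) (isoWhiskerRight α y)

end Groth.Agent.S12773
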