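import Groth.Statements.S1278
import Groth.Agent.FlatMor62.AboveClosed

set_option autoImplicit false
universe u
open FlatMor

namespace Groth.Agent.S1278

open TensorProduct

open IsLocalRing in
/-- Let A be a local ring and B → C a finite local homomorphism of local A-algebras (A → B local), and N
a C-module, viewed also as a B-module. For every local homomorphism of local rings A → A', with base
changes B', C' of B, C and base changes M' (of N over B') and N' (of N over C'): M' is flat over A'
at every prime of B' containing 𝔪_{A'}B' + 𝔪_B B' if and only if N' is flat over A' at every prime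
of C' containing 𝔪_{A'}C' + 𝔪_C C'. -/
theorem result {A B C : Type u} [CommRing A] [IsLocalRing A] [CommRing B] [IsLocalRing B] [CommRing C] [IsLocalRing C]
    [Algebra A B] [IsLocalHom (algebraMap A B)] [Algebra B C] [IsLocalHom (algebraMap B C)] [Algebra A C] [IsScalarTower A B C] [Module.Finite B C]
    (N : Type u) [AddCommGroup N] [Module C N] [Module B N] [IsScalarTower B C N]
    (A' : Type u) [CommRing A'] [IsLocalRing A'] [Algebra A A'] [IsLocalHom (algebraMap A A')]
    (B' M' : Type u) [CommRing B'] [Algebra B B'] [Algebra A' B'] [Algebra A B'] [IsScalarTower A B B'] [IsScalarTower A A' B']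
        [Algebra.IsPushout A B A' B']
        [AddCommGroup M'] [Module B' M'] [Module B M'] [IsScalarTower B B' M'] [Module A' M'] [IsScalarTower A' B' M']
        (fB : N →ₗ[B] M') (hfB : IsBaseChange B' fB)
    (C' N' : Type u) [CommRing C'] [Algebra C C'] [Algebra A' C'] [Algebra A C'] [IsScalarTower A C C'] [IsScalarTower A A' C']
        [Algebra.IsPushout A C A' C']
        [AddCommGroup N'] [Module C' N'] [Module C N'] [IsScalarTower C C' N'] [Module A' N'] [IsScalarTower A' C' N']
        (fC : N →ₗ[C] N') (hfC : IsBaseChange C' fC) :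
    FlatCA.FlatAboveClosedPoints B A' B' M' ↔ FlatCA.FlatAboveClosedPoints C A' C' N' := by
  obtain ⟨h, hB, hA⟩ := Groth.Agent.FlatMor62.AboveClosed.exists_algebra (A := A) (B := B) (C := C) (A' := A') (B' := B') (C' := C')
  letI : Algebra B' C' := h.toAlgebra
  letI : Algebra B C' := ((algebraMap C C').comp (algebraMap B C)).toAlgebra
  haveI : IsScalarTower B C C' := IsScalarTower.of_algebraMap_eq fun _ => rfl
  haveI : IsScalarTower B B' C' := IsScalarTower.of_algebraMap_eq fun b => (hB b).symm
  haveI : IsScalarTower A' B' C' := IsScalarTower.of_algebraMap_eq fun a => (hA a).symm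
  haveI : IsScalarTower A B' C' := IsScalarTower.of_algebraMap_eq fun a => by
    rw [IsScalarTower.algebraMap_apply A A' B', ← IsScalarTower.algebraMap_apply A' B' C',
      ← IsScalarTower.algebraMap_apply A A' C']
  haveI hp' : Algebra.IsPushout B C B' C' :=
    (Algebra.IsPushout.comp_iff (R := A) (S := B) (R' := A') (S' := B') (T := C) (T' := C')).mp inferInstance
  letI : Module B' N' := Module.compHom N' h
  haveI : IsScalarTower B' C' N' := IsScalarTower.of_algebraMap_smul fun _ _ => rfl
  letI : Module B N' := Module.compHom N' (algebraMap B C)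
  haveI : IsScalarTower B C N' := IsScalarTower.of_algebraMap_smul fun _ _ => rfl
  haveI : IsScalarTower B C' N' := IsScalarTower.of_algebraMap_smul fun b x => by
    rw [IsScalarTower.algebraMap_apply B C C', algebraMap_smul]; rfl
  haveI : IsScalarTower B B' N' := IsScalarTower.of_algebraMap_smul fun b x => by
    rw [← IsScalarTower.algebraMap_smul C' (algebraMap B B' b), ← IsScalarTower.algebraMap_apply, algebraMap_smul]
  haveI : IsScalarTower A' B' N' := IsScalarTower.of_algebraMap_smul fun a x => by
    rw [← IsScalarTower.algebraMap_smul C' (algebraMap A' B' a), ← IsScalarTower.algebraMap_apply, algebraMap_smul]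
  haveI : Algebra.IsPushout B B' C C' := Algebra.IsPushout.symm hp'
  haveI : Module.Finite B' C' := Module.Finite.equiv (IsBaseChange.equiv (‹Algebra.IsPushout B B' C C'›).out)
  let fN : N →ₗ[B] N' := fC.restrictScalars B
  let φ : M' →ₗ[B'] N' := hfB.lift fN
  have hφfB : ∀ x, φ (fB x) = fC x := hfB.lift_eq fN
  let e₁ : N' ≃ₗ[B'] C' ⊗[C] N := hfC.equiv.symm.restrictScalars B'
  let e₂ : C' ⊗[C] N ≃ₗ[B'] B' ⊗[B] N := Algebra.IsPushout.cancelBaseChange B B' C C' N
  let e : M' ≃ₗ[B'] N' := hfB.equiv.symm.trans (e₂.symm.trans e₁.symm)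
  have hφe : φ = e.toLinearMap := hfB.algHom_ext _ _ fun x => by
    rw [hφfB]
    show fC x = e (fB x)
    have h1 : hfB.equiv.symm (fB x) = (1 : B') ⊗ₜ[B] x := hfB.equiv_symm_apply x
    simp only [e, e₁, e₂, LinearEquiv.trans_apply, h1, LinearEquiv.symm_symm]
    rw [Algebra.IsPushout.cancelBaseChange_symm_tmul]
    show fC x = hfC.equiv (algebraMap B' C' 1 ⊗ₜ[C] x)
    rw [map_one, hfC.equiv_tmul, one_smul]
  have hiff : ∀ (p : Ideal B') [p.IsPrime], FlatCA.FlatAt A' p M' ↔ FlatCA.FlatAt A' p N' := fun p _ =>
    ⟨fun hM => by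
      haveI : Module.Flat A' (LocalizedModule p.primeCompl M') := hM
      exact Module.Flat.of_linearEquiv ((IsLocalizedModule.mapEquiv p.primeCompl (LocalizedModule.mkLinearMap p.primeCompl N')
        (LocalizedModule.mkLinearMap p.primeCompl M') (Localization.AtPrime p) e.symm).restrictScalars A'),
    fun hN => by
      haveI : Module.Flat A' (LocalizedModule p.primeCompl N') := hN
      exact Module.Flat.of_linearEquiv ((IsLocalizedModule.mapEquiv p.primeCompl (LocalizedModule.mkLinearMap p.primeCompl M')
        (LocalizedModule.mkLinearMap p.primeCompl N') (Localization.AtPrime p) e).restrictScalars A')⟩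
  haveI : Algebra.IsIntegral B' C' := Algebra.IsIntegral.of_finite B' C'
  constructor
  · intro hM q _ hq
    haveI : (q.comap h).IsPrime := Ideal.comap_isPrime _ _
    refine (Groth.Agent.FlatMor62.AboveClosed.flatAt_iff_of_integral N' (q.comap h)).mp
      ((hiff _).mp (hM _ (sup_le (Ideal.map_le_iff_le_comap.mpr fun a ha => ?_) (Ideal.map_le_iff_le_comap.mpr fun b hb => ?_)))) q rfl
    · show h (algebraMap A' B' a) ∈ q
      rw [hA]; exact hq (Ideal.mem_sup_left (Ideal.mem_map_of_mem _ ha))
    · show h (algebraMap B B' b) ∈ q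
      rw [hB]; exact hq (Ideal.mem_sup_right (Ideal.mem_map_of_mem _ (map_nonunit (algebraMap B C) b hb)))
  · intro hN p _ hp
    refine (hiff p).mpr ((Groth.Agent.FlatMor62.AboveClosed.flatAt_iff_of_integral N' p).mpr fun q _ hq => hN q ?_)
    refine sup_le (Ideal.map_le_iff_le_comap.mpr fun a ha => ?_) (Ideal.map_le_iff_le_comap.mpr fun c hc => ?_)
    · show algebraMap A' C' a ∈ q
      rw [← hA]; exact hq.ge ((sup_le_iff.mp hp).1 (Ideal.mem_map_of_mem _ ha))
    · obtain ⟨n, hn⟩ := Groth.Agent.FlatMor62.AboveClosed.exists_pow_mem (B := B) c hc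
      refine (inferInstance : q.IsPrime).mem_of_pow_mem n ?_
      rw [← map_pow]
      refine (show ((maximalIdeal B).map (algebraMap B C)).map (algebraMap C C') ≤ q from ?_) (Ideal.mem_map_of_mem _ hn)
      rw [Ideal.map_map, Ideal.map_le_iff_le_comap]
      intro b hb
      show algebraMap C C' (algebraMap B C b) ∈ q
      rw [← hB]; exact hq.ge ((sup_le_iff.mp hp).2 (Ideal.mem_map_of_mem _ hb))

end Groth.Agent.S1278
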