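import Groth.Statements.S12783
import Groth.Agent.FibC.Rep

set_option autoImplicit false
set_option backward.isDefEq.respectTransparency false
set_option backward.isDefEq.respectTransparency.types false
open CategoryTheory CategoryTheory.Limits
universe v u
open FibCat

namespace Groth.Agent.S12783

/-- For a morphism `f : X ⟶ Y` in a category `C` with fibre products, the induced functor `C/X ⟶ C/Y`
over `C` is a representable 1-morphism. (The published statement is for schemes over a base; this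
row holds in any category with fibre products.) -/
theorem result {C : Type u} [Category.{v} C] [HasPullbacks C] {X Y : C} (f : X ⟶ Y) :
    FibCat.IsRepresentable1 (⟨Over.map f, Over.mapForget_eq f⟩ : FibCat.overCat X ⥤ᵇ FibCat.overCat Y) := by
  intro U G
  obtain ⟨h, ⟨ε⟩⟩ := Groth.Agent.FibC.exists_iso_overMap G
  rw [Groth.Agent.FibC.isRepresentable_fp_congr ε (Iso.refl _)]
  let P := pullback h f
  let p₁ : P ⟶ U := pullback.fst h f
  let p₂ : P ⟶ X := pullback.snd h f
  let A : (FibCat.overCat U).obj := Over.mk p₁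
  let B : (FibCat.overCat X).obj := Over.mk p₂
  let i : (Groth.Agent.FibC.overMap h).toFunctor.obj A ≅ (Groth.Agent.FibC.overMap f).toFunctor.obj B :=
    Over.isoMk (Iso.refl P) (by show 𝟙 P ≫ p₂ ≫ f = p₁ ≫ h; rw [Category.id_comp]; exact pullback.condition.symm)
  let ξ : (FibCat.fp (Groth.Agent.FibC.overMap h) (Groth.Agent.FibC.overMap f)).obj :=
    Groth.Agent.FibC.fpMk _ _ A B i (IsHomLift.of_fac (Over.forget Y) (𝟙 P) i.hom rfl rfl (by simp [i]))
  refine Groth.Agent.FibC.isRepresentable_of_terminal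
    (Groth.Agent.FibC.fp_fibGrpd_of_overCat (Groth.Agent.FibC.overForget_isFibSet Y).1 _ _) ξ fun ρ => ?_
  let j := ρ.obj.iso
  have hab : Over.left ρ.obj.fst = Over.left ρ.obj.snd :=
    (Groth.Agent.FibC.fp_snd_proj (F := Groth.Agent.FibC.overMap h) (G := Groth.Agent.FibC.overMap f) ρ).symm
  have hj : Over.Hom.left j.hom = eqToHom hab := by
    have hl : (Over.forget Y).IsHomLift (𝟙 (Over.left ρ.obj.fst)) j.hom := ρ.property
    exact (@IsHomLift.fac' _ _ _ _ (Over.forget Y) _ _ _ _ (𝟙 (Over.left ρ.obj.fst)) j.hom hl).trans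
      (by simp)
  have hw : eqToHom hab ≫ Over.hom ρ.obj.snd ≫ f = Over.hom ρ.obj.fst ≫ h := by
    rw [← hj]; exact Over.w j.hom
  let k : Over.left ρ.obj.fst ⟶ P :=
    pullback.lift (Over.hom ρ.obj.fst) (eqToHom hab ≫ Over.hom ρ.obj.snd) (by rw [Category.assoc]; exact hw.symm)
  have hk₁ : k ≫ p₁ = Over.hom ρ.obj.fst := pullback.lift_fst _ _ _
  have hk₂ : k ≫ p₂ = eqToHom hab ≫ Over.hom ρ.obj.snd := pullback.lift_snd _ _ _
  let m₁ : ρ.obj.fst ⟶ A := Over.homMk k hk₁
  let m₂ : ρ.obj.snd ⟶ B := Over.homMk (eqToHom hab.symm ≫ k) (by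
    show (eqToHom hab.symm ≫ k) ≫ p₂ = _
    rw [Category.assoc, hk₂]; simp)
  refine ⟨{ default := Groth.Agent.FibC.fpHom m₁ m₂ (Over.OverMorphism.ext ?_), uniq := fun m => ?_ }⟩
  · show k ≫ 𝟙 P = Over.Hom.left j.hom ≫ eqToHom hab.symm ≫ k
    rw [hj]; simp
  · let ms : ρ.obj.snd ⟶ B := m.hom.snd
    have w : Over.Hom.left m.hom.fst ≫ 𝟙 P = eqToHom hab ≫ Over.Hom.left ms := by
      rw [← hj]; exact congrArg Over.Hom.left m.hom.w
    have w' : (Over.Hom.left m.hom.fst : Over.left ρ.obj.fst ⟶ P) = eqToHom hab ≫ Over.Hom.left ms :=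
      (Category.comp_id _).symm.trans w
    have h1 : Over.Hom.left m.hom.fst = k := by
      apply pullback.hom_ext
      · exact (Over.w m.hom.fst).trans hk₁.symm
      · exact (((congrArg (fun t : Over.left ρ.obj.fst ⟶ P => t ≫ p₂) w').trans
          (Category.assoc _ _ _)).trans (congrArg (eqToHom hab ≫ ·) (Over.w ms))).trans hk₂.symm
    refine Groth.Agent.FibC.fp_hom_ext (Over.OverMorphism.ext h1) (Over.OverMorphism.ext ?_)
    show Over.Hom.left ms = eqToHom hab.symm ≫ k
    have h2 : eqToHom hab ≫ Over.Hom.left ms = k := w'.symm.trans h1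
    rw [← h2]
    simp

end Groth.Agent.S12783
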