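import Groth.Statements.S12784
import Groth.Agent.FibC.Rep

set_option autoImplicit false
set_option backward.isDefEq.respectTransparency false
set_option backward.isDefEq.respectTransparency.types false
open CategoryTheory CategoryTheory.Limits
universe v u
open FibCat

namespace Groth.Agent.S12784

/-- Consider a 2-commutative square of functors over `C` with vertical arrows `f' : 𝒳' ⟶ 𝒴'`, `f : 𝒳 ⟶
𝒴` and horizontal arrows equivalences over `C`. Then `f` is a representable 1-morphism if and only
if `f'` is. (The published statement is for categories fibred in groupoids over schemes over a base;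
this row is stated for categories over any base category.) -/
theorem result {C : Type u} [Category.{v} C] {𝒳 𝒴 𝒳' 𝒴' : BasedCategory.{v, max u v} C}
    (f : 𝒳 ⥤ᵇ 𝒴) (f' : 𝒳' ⥤ᵇ 𝒴') (a : 𝒳' ⥤ᵇ 𝒳) (b : 𝒴' ⥤ᵇ 𝒴)
    (ha : FibCat.IsEquivOver a) (hb : FibCat.IsEquivOver b) (e : BasedFunctor.comp f' b ≅ BasedFunctor.comp a f) :
    FibCat.IsRepresentable1 f ↔ FibCat.IsRepresentable1 f' := by
  have hid : ∀ (𝒵 : BasedCategory.{v, max u v} C), FibCat.IsEquivOver (BasedFunctor.id 𝒵) :=
    fun 𝒵 => Groth.Agent.StFib.isEquivOver_id 𝒵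
  have := Groth.Agent.FibC.full_of_isEquivOver hb
  have := Groth.Agent.FibC.faithful_of_isEquivOver hb
  constructor
  · intro h U G'
    exact Groth.Agent.FibC.isRepresentable_of_equiv
      (Groth.Agent.StFib.fpMap_isEquivOver (F := BasedFunctor.comp G' b) (G := f) (F' := G') (G' := f')
        (BasedFunctor.id (FibCat.overCat U)) a b (Iso.refl _) e.symm (hid _) ha)
      (h U (BasedFunctor.comp G' b))
  · intro h U G
    obtain ⟨b', hb', ⟨η⟩, ⟨ε⟩⟩ := Groth.Agent.StFib.isEquivOver_symm hb
    exact Groth.Agent.FibC.isRepresentable_of_equiv'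
      (Groth.Agent.StFib.fpMap_isEquivOver (F := G) (G := f) (F' := BasedFunctor.comp G b') (G' := f')
        (BasedFunctor.id (FibCat.overCat U)) a b
        (Groth.Agent.StFib.isoWhiskerLeft G ε.symm) e.symm (hid _) ha)
      (h U (BasedFunctor.comp G b'))

end Groth.Agent.S12784
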