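import Groth.Statements.S1279
import Groth.Agent.Nagata.Piece
import Groth.Agent.ConstrLib.Basic

set_option maxHeartbeats 800000
set_option backward.isDefEq.respectTransparency false
set_option backward.defeqAttrib.useBackward true
-- import your own Groth.Agent.* helpers here

set_option autoImplicit false
universe u
open FlatMor

namespace Groth.Agent.S1279

open AlgebraicGeometry CategoryTheory Limits Topology in
/-- Let X be a quasi-compact and quasi-separated scheme, U ⊆ X a quasi-compact open, and T₁, T₂ ⊆ U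
disjoint subsets which are closed and constructible in U. Then there is a U-admissible blow-up b :
X' → X such that the closures in X' of the preimages of T₁ and T₂ are disjoint. (Part (1), about
strict transforms of closed subschemes, is not stated.) -/
theorem result {X : Scheme.{u}} [CompactSpace X] [QuasiSeparatedSpace X]
    (U : X.Opens) (hU : IsCompact (U : Set X)) (T₁ T₂ : Set U)
    (h₁ : IsClosed T₁) (h₂ : IsClosed T₂) (c₁ : IsConstructible T₁) (c₂ : IsConstructible T₂) (hd : Disjoint T₁ T₂) :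
    ∃ (𝓘 : X.IdealSheafData) (X' : Scheme.{u}) (b : X' ⟶ X), BlowUp.IsBlowUp b 𝓘 ∧ BlowUp.IsAdmissibleFor U 𝓘 ∧
      Disjoint (closure (b.base ⁻¹' (Subtype.val '' T₁))) (closure (b.base ⁻¹' (Subtype.val '' T₂))) := by
  classical
  haveI : CompactSpace U.toScheme := isCompact_iff_compactSpace.mp hU
  haveI : QuasiSeparatedSpace U.toScheme := quasiSeparatedSpace_of_quasiSeparated U.ι
  have hc : ∀ T : Set U, IsClosed T → Topology.IsConstructible T →
      ∃ J : X.IdealSheafData, BlowUp.IsFiniteTypeIdeal J ∧ ∀ x : U, (x : X) ∈ (J.support : Set X) ↔ x ∈ T := by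
    intro T hT hTc
    let V : X.Opens := U.ι ''ᵁ ⟨Tᶜ, hT.isOpen_compl⟩
    have hV : IsCompact (V : Set X) :=
      ((Groth.Agent.ConstrLib.isRetrocompact_of_isConstructible (X := U.toScheme)
        hTc.compl).isCompact).image U.ι.continuous
    obtain ⟨J, hJ, hJs⟩ := QDom.Global.exists_support_eq_compl hV
    refine ⟨J, hJ, fun x => ?_⟩
    rw [hJs]
    refine ⟨fun h => ?_, fun h => ?_⟩
    · by_contra hx; exact h ⟨x, hx, rfl⟩
    · rintro ⟨y, hy, he⟩
      exact hy (U.ι.isOpenEmbedding.injective he ▸ h)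
  obtain ⟨J, hJ, hJT⟩ := hc T₁ h₁ c₁
  obtain ⟨K, hK, hKT⟩ := hc T₂ h₂ c₂
  obtain ⟨X', b, hb⟩ := BlowUp.Glue.exists_isBlowUp X (J ⊔ K)
  refine ⟨J ⊔ K, X', b, hb, ⟨fun V => ?_, ?_⟩, ?_⟩
  · rw [Scheme.IdealSheafData.ideal_sup, Pi.sup_apply]
    exact Submodule.FG.sup (hJ V) (hK V)
  · rw [Set.disjoint_left]
    intro x hx hxU
    have e1 : x ∈ (J.support : Set X) :=
      Scheme.IdealSheafData.support_antitone (le_sup_left : J ≤ J ⊔ K) hx
    have e2 : x ∈ (K.support : Set X) :=
      Scheme.IdealSheafData.support_antitone (le_sup_right : K ≤ J ⊔ K) hx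
    exact Set.disjoint_left.mp hd ((hJT ⟨x, hxU⟩).mp e1) ((hKT ⟨x, hxU⟩).mp e2)
  · refine Nagata.disjoint_closure_blowUp J K b hb _ _ ?_ ?_ ?_ ?_
    · rintro _ ⟨x, hx, rfl⟩; exact (hJT x).mpr hx
    · rintro _ ⟨x, hx, rfl⟩; exact (hKT x).mpr hx
    · rw [Set.disjoint_right]
      rintro _ ⟨x, hx, rfl⟩ h
      exact Set.disjoint_left.mp hd hx ((hKT x).mp h)
    · rw [Set.disjoint_right]
      rintro _ ⟨x, hx, rfl⟩ h
      exact Set.disjoint_left.mp hd ((hJT x).mp h) hx

end Groth.Agent.S1279
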