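import Groth.Statements.S12790
import Groth.Agent.FibC.Rep

set_option autoImplicit false
set_option backward.isDefEq.respectTransparency false
set_option backward.isDefEq.respectTransparency.types false
open CategoryTheory CategoryTheory.Limits
universe v u
open FibCat

namespace Groth.Agent.S12790

/-- For representable 1-morphisms `f₁ : 𝒳₁ ⟶ 𝒴₁`, `f₂ : 𝒳₂ ⟶ 𝒴₂` of categories over `C`, the product `f₁
× f₂ : 𝒳₁ × 𝒳₂ ⟶ 𝒴₁ × 𝒴₂` (products over `C`; the functor induced on 2-fibre products, for any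
choice of the 2-isomorphism `e` filling the square) is a representable 1-morphism. (The published
statement is for categories fibred in groupoids over schemes over a base; this row is stated for
categories over any base category.) -/
theorem result {C : Type u} [Category.{v} C] {𝒳₁ 𝒳₂ 𝒴₁ 𝒴₂ : BasedCategory.{v, max u v} C}
    (f₁ : 𝒳₁ ⥤ᵇ 𝒴₁) (f₂ : 𝒳₂ ⥤ᵇ 𝒴₂) (hf₁ : FibCat.IsRepresentable1 f₁) (hf₂ : FibCat.IsRepresentable1 f₂)
    (e : BasedFunctor.comp (BasedFunctor.comp (FibCat.fpFst (FibCat.toSelf 𝒳₁) (FibCat.toSelf 𝒳₂)) f₁) (FibCat.toSelf 𝒴₁) ≅ BasedFunctor.comp (BasedFunctor.comp (FibCat.fpSnd (FibCat.toSelf 𝒳₁) (FibCat.toSelf 𝒳₂)) f₂) (FibCat.toSelf 𝒴₂)) :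
    FibCat.IsRepresentable1 (FibCat.fpLift (BasedFunctor.comp (FibCat.fpFst (FibCat.toSelf 𝒳₁) (FibCat.toSelf 𝒳₂)) f₁) (BasedFunctor.comp (FibCat.fpSnd (FibCat.toSelf 𝒳₁) (FibCat.toSelf 𝒳₂)) f₂) e) := by
  intro U G
  let F := FibCat.fpLift (BasedFunctor.comp (FibCat.fpFst (FibCat.toSelf 𝒳₁) (FibCat.toSelf 𝒳₂)) f₁) (BasedFunctor.comp (FibCat.fpSnd (FibCat.toSelf 𝒳₁) (FibCat.toSelf 𝒳₂)) f₂) e
  let G₁ := BasedFunctor.comp G (FibCat.fpFst (FibCat.toSelf 𝒴₁) (FibCat.toSelf 𝒴₂))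
  let G₂ := BasedFunctor.comp G (FibCat.fpSnd (FibCat.toSelf 𝒴₁) (FibCat.toSelf 𝒴₂))
  let X₁ := BasedFunctor.comp (FibCat.fpSnd G F) (FibCat.fpFst (FibCat.toSelf 𝒳₁) (FibCat.toSelf 𝒳₂))
  let X₂ := BasedFunctor.comp (FibCat.fpSnd G F) (FibCat.fpSnd (FibCat.toSelf 𝒳₁) (FibCat.toSelf 𝒳₂))
  let ε₁ : BasedFunctor.comp (FibCat.fpFst G F) G₁ ≅ BasedFunctor.comp X₁ f₁ :=
    Groth.Agent.StFib.isoWhiskerRight (FibCat.fpIso G F) (FibCat.fpFst (FibCat.toSelf 𝒴₁) (FibCat.toSelf 𝒴₂))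
  let T := FibCat.fpLift (F := G₁) (G := f₁) (FibCat.fpFst G F) X₁ ε₁
  let ε₂ : BasedFunctor.comp T (BasedFunctor.comp (FibCat.fpFst G₁ f₁) G₂) ≅ BasedFunctor.comp X₂ f₂ :=
    Groth.Agent.StFib.isoWhiskerRight (FibCat.fpIso G F) (FibCat.fpSnd (FibCat.toSelf 𝒴₁) (FibCat.toSelf 𝒴₂))
  refine Groth.Agent.FibC.isRepresentable_of_equiv
    (E := FibCat.fpLift (F := BasedFunctor.comp (FibCat.fpFst G₁ f₁) G₂) (G := f₂) T X₂ ε₂) ?_ ?_
  · refine Groth.Agent.StFib.fpLift_isEquivOver_mk _ _ _ ?_ ?_ ?_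
    · intro w w' φ ψ h1 h2
      exact Groth.Agent.FibC.fp_hom_ext (congrArg (fun t => Limits.CategoricalPullback.Hom.fst t.hom) h1)
        (Groth.Agent.FibC.fp_hom_ext (congrArg (fun t => Limits.CategoricalPullback.Hom.snd t.hom) h1) h2)
    · intro w w' a b h
      let a₁ : w.obj.fst ⟶ w'.obj.fst := a.hom.fst
      let a₂ : w.obj.snd.obj.fst ⟶ w'.obj.snd.obj.fst := a.hom.snd
      let b' : w.obj.snd.obj.snd ⟶ w'.obj.snd.obj.snd := b
      have h₁ : G₁.toFunctor.map a₁ ≫ (ε₁.hom.toNatTrans.app w') = ε₁.hom.toNatTrans.app w ≫ f₁.toFunctor.map a₂ := a.hom.w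
      have hl : (FibCat.overCat U).p.IsHomLift (Over.Hom.left a₁) a₁ := Groth.Agent.FibC.over_lift a₁
      have hl₁ : 𝒳₁.p.IsHomLift (Over.Hom.left a₁) a₂ :=
        @Groth.Agent.FibC.fp_snd_isHomLift _ _ _ _ _ G₁ f₁ _ _ _ _ (Over.Hom.left a₁) a
          ((Groth.Agent.FibC.fp_isHomLift_iff _ _).2 hl)
      have hl₂ : 𝒳₂.p.IsHomLift (Over.Hom.left a₁) b' := by
        rw [← BasedFunctor.isHomLift_iff f₂]
        have : f₂.toFunctor.map b' = (Groth.Agent.FibC.appIso ε₂ w).inv ≫ G₂.toFunctor.map a₁ ≫ (Groth.Agent.FibC.appIso ε₂ w').hom := by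
          rw [Iso.eq_inv_comp]; exact h.symm
        rw [this]
        have := Groth.Agent.FibC.appIso_lift ε₂ (a := w) (S := Over.left w.obj.fst) rfl
        have := Groth.Agent.FibC.appIso_lift ε₂ (a := w') (S := Over.left w'.obj.fst) rfl
        have := Groth.Agent.FibC.map_lift G₂ a₁
        infer_instance
      refine ⟨Groth.Agent.FibC.fpHom a₁ (Groth.Agent.FibC.selfHom w.obj.snd w'.obj.snd (Over.Hom.left a₁) a₂ b' hl₁ hl₂)
        (Groth.Agent.FibC.fp_hom_ext h₁ h), Groth.Agent.FibC.fp_hom_ext rfl rfl, rfl⟩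
    · intro z
      let c := z.obj.fst.obj.fst
      have h1 : 𝒴₁.p.IsHomLift (𝟙 (Over.left c)) z.obj.fst.obj.iso.hom := z.obj.fst.property
      have h2 : 𝒴₂.p.IsHomLift (𝟙 (Over.left c)) z.obj.iso.hom := z.property
      have hb : 𝒳₁.p.obj z.obj.fst.obj.snd = 𝒳₂.p.obj z.obj.snd :=
        (Groth.Agent.FibC.fp_snd_proj (F := G₁) (G := f₁) z.obj.fst).trans
          (Groth.Agent.FibC.fp_snd_proj (F := BasedFunctor.comp (FibCat.fpFst G₁ f₁) G₂) (G := f₂) z).symm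
      let x := Groth.Agent.FibC.selfMk z.obj.fst.obj.snd z.obj.snd hb
      let i : G.toFunctor.obj c ≅ F.toFunctor.obj x :=
        Groth.Agent.FibC.fpIsoMk z.obj.fst.obj.iso z.obj.iso
          (@Groth.Agent.FibC.self_w _ _ _ _ (G.toFunctor.obj c) (F.toFunctor.obj x) _ _ (𝟙 (Over.left c)) _ _ h1 h2)
      let w := Groth.Agent.FibC.fpMk G F c x i ((Groth.Agent.FibC.fp_isHomLift_iff _ _).2 h1)
      refine ⟨w, Groth.Agent.FibC.fpIsoMk (Iso.refl _) (Iso.refl _) ?_, Iso.refl _, Groth.Agent.StFib.Vert.id _, ?_⟩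
      · show G₁.toFunctor.map (𝟙 c) ≫ z.obj.fst.obj.iso.hom = z.obj.fst.obj.iso.hom ≫ f₁.toFunctor.map (𝟙 _)
        simp
      · show G₂.toFunctor.map (𝟙 c) ≫ z.obj.iso.hom = z.obj.iso.hom ≫ f₂.toFunctor.map (𝟙 _)
        simp
  · obtain ⟨V, F₀, hF₀⟩ := hf₁ U G₁
    obtain ⟨E, hE, -, -⟩ := Groth.Agent.StFib.isEquivOver_symm hF₀
    exact (Groth.Agent.FibC.isRepresentable_fp_comp_equiv hE _ f₂).1 (hf₂ V _)

end Groth.Agent.S12790
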