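import Groth.Statements.S12795
import Groth.Agent.StkLib.Glue
import Groth.Agent.StFib.Grpd

set_option autoImplicit false
set_option backward.isDefEq.respectTransparency false
set_option backward.isDefEq.respectTransparency.types false
open CategoryTheory
universe w v u
open Stk

namespace Groth.Agent.S12795

/-- Let `𝒳` be a stack in groupoids over `C` for the topology `J` and `Q` a property of objects of `𝒳`
such that (1) for every morphism `y ⟶ x` of `𝒳` whose target satisfies `Q`, `y` is isomorphic, by an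
isomorphism lying over an identity, to an object satisfying `Q`, and (3) for every covering sieve
`R` on `U` and every object `x` over `U`: if every source of a morphism to `x` lying over an arrow
of `R` is isomorphic over an identity to an object satisfying `Q`, then so is `x`. Then the full
subcategory of `𝒳` on `Q`, with the restricted structure functor, is a stack in groupoids for `J`.
(The published statement has a further condition (2), fullness of the subcategory, which is built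
into the full subcategory here; and its word isomorphic is read as isomorphic by an isomorphism
lying over an identity; the published statement is for stacks that are not necessarily in groupoids,
this row treats stacks in groupoids.) -/
theorem result {C : Type u} [Category.{v} C] (J : GrothendieckTopology C) {𝒳 : BasedCategory.{v, max u v} C}
    (h𝒳 : Stk.IsStack J 𝒳) (Q : ObjectProperty 𝒳.obj)
    (h1 : ∀ ⦃y x : 𝒳.obj⦄ (φ : y ⟶ x), Q x → ∃ (y' : 𝒳.obj) (e : y ≅ y'), Q y' ∧ 𝒳.p.IsHomLift (𝟙 (𝒳.p.obj y)) e.hom)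
    (h3 : ∀ ⦃U : C⦄ (R : Sieve U), R ∈ J U → ∀ (x : 𝒳.obj), 𝒳.p.obj x = U →
      (∀ ⦃V : C⦄ (f : V ⟶ U), R f → ∀ (y : 𝒳.obj) (φ : y ⟶ x), 𝒳.p.IsHomLift f φ →
        ∃ (y' : 𝒳.obj) (e : y ≅ y'), Q y' ∧ 𝒳.p.IsHomLift (𝟙 V) e.hom) →
      ∃ (x' : 𝒳.obj) (e : x ≅ x'), Q x' ∧ 𝒳.p.IsHomLift (𝟙 U) e.hom) :
    Stk.IsStack J (BasedCategory.ofFunctor (Q.ι ⋙ 𝒳.p)) := by
  let E : BasedCategory.ofFunctor (Q.ι ⋙ 𝒳.p) ⥤ᵇ 𝒳 := { toFunctor := Q.ι, w := rfl }
  have : E.toFunctor.Full := inferInstanceAs Q.ι.Full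
  have : E.toFunctor.Faithful := inferInstanceAs Q.ι.Faithful
  have hq : FibCat.IsFibGrpd (BasedCategory.ofFunctor (Q.ι ⋙ 𝒳.p)).p := by
    refine StFib.isFibGrpd_of_fullyFaithful E h𝒳.1 (fun x V f => ?_)
    obtain ⟨y, φ, hφ⟩ := h𝒳.1.exists_lift (x := x.obj) f
    obtain ⟨y', e, hy', he⟩ := h1 φ x.property
    have hy : 𝒳.p.obj y = V := IsHomLift.domain_eq 𝒳.p f φ
    subst hy
    refine ⟨⟨y', hy'⟩, ObjectProperty.homMk (e.inv ≫ φ), ?_⟩
    rw [← BasedFunctor.isHomLift_iff E]
    show 𝒳.p.IsHomLift f (e.inv ≫ φ)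
    infer_instance
  refine ⟨hq, fun U R hR => ?_⟩
  have : (Stk.resSieve R 𝒳).IsEquivalence := h𝒳.2 R hR
  have hE : ∀ {𝒜 : BasedCategory.{v, max u v} C}, (StkLib.postc 𝒜 E).Faithful := fun {𝒜} =>
    ⟨fun {a b α β} h => BasedNatTrans.homCategory.ext _ _ (NatTrans.ext (funext fun w =>
      E.toFunctor.map_injective (congrArg (fun t => BasedNatTrans.toNatTrans t |>.app w) h)))⟩
  have hE' : ∀ {𝒜 : BasedCategory.{v, max u v} C}, (StkLib.postc 𝒜 E).Full := fun {𝒜} =>
    ⟨fun {a b} α => ⟨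
      { toNatTrans :=
          { app := fun w => E.toFunctor.preimage (α.toNatTrans.app w)
            naturality := fun w w' k => E.toFunctor.map_injective (by
              simp only [Functor.map_comp, Functor.map_preimage]
              exact α.toNatTrans.naturality k) }
        isHomLift' := fun w => by
          rw [← BasedFunctor.isHomLift_iff E, Functor.map_preimage]
          exact α.isHomLift' w },
      BasedNatTrans.homCategory.ext _ _ (NatTrans.ext (funext fun w => E.toFunctor.map_preimage _))⟩⟩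
  have e := StkLib.restrPostIso (Stk.sieveIncl R) E
  have := hE (𝒜 := FibCat.overCat U)
  have := hE' (𝒜 := FibCat.overCat U)
  have := hE (𝒜 := Stk.sieveCat R)
  have := hE' (𝒜 := Stk.sieveCat R)
  have : (Stk.resSieve R _ ⋙ StkLib.postc (Stk.sieveCat R) E).Full := Functor.Full.of_iso e
  have : (Stk.resSieve R _ ⋙ StkLib.postc (Stk.sieveCat R) E).Faithful := Functor.Faithful.of_iso e
  have := Functor.Full.of_comp_faithful (Stk.resSieve R (BasedCategory.ofFunctor (Q.ι ⋙ 𝒳.p)))
    (StkLib.postc (Stk.sieveCat R) E)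
  have := Functor.Faithful.of_comp (Stk.resSieve R (BasedCategory.ofFunctor (Q.ι ⋙ 𝒳.p)))
    (StkLib.postc (Stk.sieveCat R) E)
  have : (Stk.resSieve R (BasedCategory.ofFunctor (Q.ι ⋙ 𝒳.p))).EssSurj := ⟨fun Φ => by
    let G := (Stk.resSieve R 𝒳).objPreimage (BasedFunctor.comp Φ E)
    let i : (Stk.resSieve R 𝒳).obj G ≅ BasedFunctor.comp Φ E := (Stk.resSieve R 𝒳).objObjPreimageIso _
    let top : (FibCat.overCat U).obj := FibC.overTop U
    obtain ⟨x', e', hx', he'⟩ := h3 R hR (G.toFunctor.obj top) (G.w_obj top) (fun V f hf y φ hφ => by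
      let a : (Stk.sieveCat R).obj := ⟨Over.mk f, hf⟩
      have : 𝒳.p.IsHomLift f (G.toFunctor.map (FibC.toTop a.obj)) := FibC.map_lift G (FibC.toTop a.obj)
      obtain ⟨j, hj, -⟩ := StkLib.lift_iso h𝒳.1 f φ (G.toFunctor.map (FibC.toTop a.obj))
      have : 𝒳.p.IsHomLift (𝟙 V) (FibC.appIso i a).hom := FibC.appIso_lift i rfl
      exact ⟨(Φ.toFunctor.obj a).obj, j ≪≫ FibC.appIso i a, (Φ.toFunctor.obj a).property,
        inferInstanceAs (𝒳.p.IsHomLift (𝟙 V) (j.hom ≫ (FibC.appIso i a).hom))⟩)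
    have hG : ∀ a, StkLib.InImage E (G.toFunctor.obj a) := fun a => by
      obtain ⟨y', e, hy', he⟩ := h1 (G.toFunctor.map (FibC.toTop a) ≫ e'.hom) hx'
      have hy : 𝒳.p.obj y' = 𝒳.p.obj (G.toFunctor.obj a) :=
        IsHomLift.codomain_eq 𝒳.p (𝟙 (𝒳.p.obj (G.toFunctor.obj a))) e.hom
      refine ⟨⟨y', hy'⟩, e.symm, ?_⟩
      exact inferInstanceAs (𝒳.p.IsHomLift (𝟙 (𝒳.p.obj (G.toFunctor.obj a))) e.inv)
    obtain ⟨G', ⟨η⟩⟩ := StkLib.exists_factor E G hG
    exact ⟨G', ⟨(StkLib.postc (Stk.sieveCat R) E).preimageIso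
      (StFib.isoWhiskerLeft (Stk.sieveIncl R) η ≪≫ i)⟩⟩⟩
  exact { }

end Groth.Agent.S12795
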