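import Groth.Statements.S12798
import Groth.Agent.StkLib.Glue
import Groth.Agent.StFib.Grpd

set_option autoImplicit false
set_option backward.isDefEq.respectTransparency false
set_option backward.isDefEq.respectTransparency.types false
open CategoryTheory
universe w v u
open Stk

namespace Groth.Agent.S12798

/-- Let `𝒮₁`, `𝒮₂`, `𝒯₁` be stacks in groupoids over `C` for the topology `J`, and `F : 𝒮₂ ⟶ 𝒮₁`, `G :
𝒯₁ ⟶ 𝒮₁` functors over `C` such that every object of `𝒮₁` is locally in the essential image of `F`.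
If the first projection `𝒮₂ ×_{𝒮₁} 𝒯₁ ⟶ 𝒮₂` of the 2-fibre product over `C` is faithful, then `G` is
faithful. (The published statement is for any 2-cartesian square of stacks in groupoids; this row is
the case of the explicit 2-fibre product, to which the general case reduces because faithfulness is
invariant under equivalence.) -/
theorem result {C : Type u} [Category.{v} C] (J : GrothendieckTopology C) {𝒮₁ 𝒮₂ 𝒯₁ : BasedCategory.{v, max u v} C}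
    (h₁ : Stk.IsStack J 𝒮₁) (h₂ : Stk.IsStack J 𝒮₂) (h₃ : Stk.IsStack J 𝒯₁) (F : 𝒮₂ ⥤ᵇ 𝒮₁) (G : 𝒯₁ ⥤ᵇ 𝒮₁)
    (hF : ∀ y : 𝒮₁.obj, ∃ R ∈ J (𝒮₁.p.obj y), ∀ ⦃V : C⦄ (f : V ⟶ 𝒮₁.p.obj y), R f →
      ∃ (x : 𝒮₂.obj) (φ : F.obj x ⟶ y), 𝒮₁.p.IsHomLift f φ)
    (hG' : (FibCat.fpFst F G).toFunctor.Faithful) : G.toFunctor.Faithful := by
  refine StFib.faithful_of_vert h₃.1 h₁.1 G (fun t φ hφ hGφ => ?_)
  have : 𝒯₁.p.IsHomLift (𝟙 (𝒯₁.p.obj t)) φ := by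
    rw [← hφ]; infer_instance
  have : 𝒯₁.p.IsHomLift (𝟙 (𝒯₁.p.obj t)) (𝟙 t) := IsHomLift.id rfl
  obtain ⟨R, hR, hloc⟩ := hF (G.toFunctor.obj t)
  have hw : 𝒮₁.p.obj (G.toFunctor.obj t) = 𝒯₁.p.obj t := G.w_obj t
  refine StkLib.hom_ext_of_local (StkLib.isPrestack_of_isStack h₃)
    (R.pullback (eqToHom hw.symm)) (J.pullback_stable _ hR) φ (𝟙 t) ?_
  intro V f hf z ν hν
  obtain ⟨x, ψ, hψ⟩ := hloc (f ≫ eqToHom hw.symm) hf
  have : 𝒮₁.p.IsHomLift (f ≫ eqToHom hw.symm) (G.toFunctor.map ν) := by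
    infer_instance
  obtain ⟨i, hi, -⟩ := StkLib.lift_iso h₁.1 (f ≫ eqToHom hw.symm) ψ (G.toFunctor.map ν)
  have hx : 𝒮₂.p.obj x = V :=
    (F.w_obj x).symm.trans (IsHomLift.domain_eq 𝒮₁.p (𝟙 V) i.hom)
  subst hx
  let P : (FibCat.fp F G).obj := ⟨{ fst := x, snd := z, iso := i }, hi⟩
  obtain ⟨χ, ⟨hχ, hχ'⟩, -⟩ :=
    have := FibC.sc_of_fibGrpd h₃.1 f ν
    Functor.IsStronglyCartesian.universal_property 𝒯₁.p f ν (𝟙 _) f (Category.id_comp f).symm (ν ≫ φ)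
  have hG : G.toFunctor.map χ = 𝟙 _ := by
    have := FibC.sc_of_fibGrpd h₁.1 f (G.toFunctor.map ν)
    have h1 : 𝒮₁.p.IsHomLift (𝟙 (𝒮₂.p.obj x)) (G.toFunctor.map χ) := inferInstance
    have h2 : 𝒮₁.p.IsHomLift (𝟙 (𝒮₂.p.obj x)) (𝟙 (G.toFunctor.obj z)) :=
      IsHomLift.id ((G.w_obj z).trans (IsHomLift.domain_eq 𝒯₁.p f ν))
    apply Functor.IsStronglyCartesian.ext 𝒮₁.p f (G.toFunctor.map ν) (𝟙 (𝒮₂.p.obj x))
    rw [← G.toFunctor.map_comp, hχ', G.toFunctor.map_comp, hGφ]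
    erw [Category.comp_id, Category.id_comp]
  let a : P ⟶ P := ObjectProperty.homMk
    { fst := 𝟙 x, snd := χ, w := by simp [P, hG] }
  have ha : a = 𝟙 P := (FibCat.fpFst F G).toFunctor.map_injective rfl
  have : χ = 𝟙 z := congrArg (fun m => m.hom.snd) ha
  rw [← hχ', this]
  simp

end Groth.Agent.S12798
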