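import Groth.Statements.S12799
import Groth.Agent.StkLib.Glue

set_option autoImplicit false
set_option backward.isDefEq.respectTransparency false
set_option backward.isDefEq.respectTransparency.types false
open CategoryTheory
universe w v u
open Stk

namespace Groth.Agent.S12799

/-- Let `𝒮₁`, `𝒮₂`, `𝒯₁` be stacks in groupoids over `C` for the topology `J`, `F : 𝒮₂ ⟶ 𝒮₁` a functor
over `C` whose underlying functor is fully faithful and such that every object of `𝒮₁` is locally in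
the essential image of `F`, and `G : 𝒯₁ ⟶ 𝒮₁` a functor over `C`. If the 2-fibre product `𝒮₂ ×_{𝒮₁}
𝒯₁` over `C` is fibred in setoids, then `𝒯₁` is fibred in setoids, hence a stack in setoids. (The
published statement is for any 2-cartesian square of stacks in groupoids; this row is the case of
the explicit 2-fibre product, to which the general case reduces because being fibred in setoids is
invariant under equivalence over `C`.) -/
theorem result {C : Type u} [Category.{v} C] (J : GrothendieckTopology C) {𝒮₁ 𝒮₂ 𝒯₁ : BasedCategory.{v, max u v} C}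
    (h₁ : Stk.IsStack J 𝒮₁) (h₂ : Stk.IsStack J 𝒮₂) (h₃ : Stk.IsStack J 𝒯₁) (F : 𝒮₂ ⥤ᵇ 𝒮₁) [F.toFunctor.Full] [F.toFunctor.Faithful]
    (hF : ∀ y : 𝒮₁.obj, ∃ R ∈ J (𝒮₁.p.obj y), ∀ ⦃V : C⦄ (f : V ⟶ 𝒮₁.p.obj y), R f →
      ∃ (x : 𝒮₂.obj) (φ : F.obj x ⟶ y), 𝒮₁.p.IsHomLift f φ)
    (G : 𝒯₁ ⥤ᵇ 𝒮₁) (h : FibCat.IsFibSetoid (FibCat.fp F G).p) : FibCat.IsFibSetoid 𝒯₁.p := by
  have hF' : FibCat.IsEquivOver F := FibC.isEquivOver_of_fullyFaithful F (fun y => by
    obtain ⟨R, hR, hloc⟩ := hF y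
    exact StkLib.inImage_of_local h₂ (StkLib.isPrestack_of_isStack h₁) F y R hR hloc)
  refine StkLib.fibSetoid_of_equivOver (F := FibCat.fpSnd F G) ?_ h
  have hfull : (FibCat.fpSnd F G).toFunctor.Full := ⟨fun {a b} g => by
    refine ⟨ObjectProperty.homMk
      { fst := F.toFunctor.preimage (a.obj.iso.hom ≫ G.toFunctor.map g ≫ b.obj.iso.inv)
        snd := g
        w := ?_ }, rfl⟩
    simp⟩
  have hfaith : (FibCat.fpSnd F G).toFunctor.Faithful := ⟨fun {a b φ ψ} h => by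
    have h' : φ.hom.snd = ψ.hom.snd := h
    refine FibC.fp_hom_ext (F.toFunctor.map_injective ?_) h'
    rw [← cancel_mono b.obj.iso.hom, φ.hom.w, ψ.hom.w, h']⟩
  refine FibC.isEquivOver_of_fullyFaithful _ (fun t => ?_)
  obtain ⟨x, e, he⟩ := FibC.essSurjOver_of_isEquivOver hF' (G.toFunctor.obj t)
  have hx : 𝒮₂.p.obj x = 𝒯₁.p.obj t :=
    ((F.w_obj x).symm.trans (IsHomLift.domain_eq 𝒮₁.p (𝟙 (𝒮₁.p.obj (G.toFunctor.obj t))) e.hom)).trans
      (G.w_obj t)
  refine ⟨⟨{ fst := x, snd := t, iso := e }, ?_⟩, Iso.refl _, IsHomLift.id rfl⟩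
  show 𝒮₁.p.IsHomLift (𝟙 (𝒮₂.p.obj x)) e.hom
  rw [hx, ← G.w_obj t]
  exact he

end Groth.Agent.S12799
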