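import Groth.Statements.S12807
import Groth.Agent.FibC.Basic

set_option autoImplicit false
set_option backward.isDefEq.respectTransparency false
set_option backward.isDefEq.respectTransparency.types false
open CategoryTheory CategoryTheory.Limits
universe v₃ u₃ v₂ u₂ v u
open FibCat

namespace Groth.Agent.S12807

/-- Let `u : C ⥤ D` be a functor and `𝒮` a category over `D` whose structure functor is a fibred
category. Then the 2-fibre product `C ×_D 𝒮` of `u` and the structure functor (triples `(U, y, u U ≅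
p y)`), with its first projection, is a fibred category over `C`. (The published statement uses the
strict fibre product, pairs with `u U = p y`; for `𝒮` fibred over `D` it is equivalent over `C` to
the 2-fibre product used here.) -/
theorem result {C : Type u} [Category.{v} C] {D : Type u₂} [Category.{v₂} D] (u : C ⥤ D)
    (𝒮 : BasedCategory.{v₃, u₃} D) [𝒮.p.IsFibered] :
    (CategoricalPullback.π₁ u 𝒮.p).IsFibered := by
  refine Functor.IsFibered.of_exists_isStronglyCartesian fun a V f => ?_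
  change V ⟶ a.fst at f
  let f' : u.obj V ⟶ 𝒮.p.obj a.snd := u.map f ≫ a.iso.hom
  obtain ⟨y, φ, hφ⟩ := Groth.Agent.FibC.exists_sc_lift (p := 𝒮.p) (x := a.snd) rfl f'
  have hy : 𝒮.p.obj y = u.obj V := IsHomLift.domain_eq 𝒮.p f' φ
  let b : CategoricalPullback u 𝒮.p := { fst := V, snd := y, iso := eqToIso hy.symm }
  let Φ : b ⟶ a :=
    { fst := f, snd := φ, w := by
        show u.map f ≫ a.iso.hom = eqToHom hy.symm ≫ 𝒮.p.map φ
        rw [IsHomLift.fac' 𝒮.p f' φ]
        simp [f'] }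
  refine ⟨b, Φ, @Functor.IsStronglyCartesian.mk _ _ _ _ (CategoricalPullback.π₁ u 𝒮.p) _ _ _ _ f Φ
    (IsHomLift.map (CategoricalPullback.π₁ u 𝒮.p) Φ) ?_⟩
  intro z g ψ hψ
  let g₀ : z.fst ⟶ V := g
  have e : g₀ ≫ f = ψ.fst :=
    IsHomLift.eq_of_isHomLift (CategoricalPullback.π₁ u 𝒮.p) (g ≫ f) ψ
  let k : 𝒮.p.obj z.snd ⟶ u.obj V := z.iso.inv ≫ u.map g₀
  have hk : 𝒮.p.map ψ.snd = k ≫ f' := by
    rw [← cancel_epi z.iso.hom, ← ψ.w, ← e]
    simp [k, f']
  obtain ⟨χ, ⟨hχ, hχ'⟩, hu⟩ := Functor.IsStronglyCartesian.universal_property 𝒮.p f' φ k (𝒮.p.map ψ.snd) hk ψ.snd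
  let Χ : z ⟶ b :=
    { fst := g₀, snd := χ, w := by
        show u.map g₀ ≫ eqToHom hy.symm = z.iso.hom ≫ 𝒮.p.map χ
        rw [IsHomLift.fac' 𝒮.p k χ]
        simp [k] }
  refine ⟨Χ, ⟨IsHomLift.map (CategoricalPullback.π₁ u 𝒮.p) Χ, CategoricalPullback.hom_ext e hχ'⟩, ?_⟩
  rintro ω ⟨hω, hω'⟩
  have e1 : g₀ = ω.fst := IsHomLift.eq_of_isHomLift (CategoricalPullback.π₁ u 𝒮.p) g ω
  refine CategoricalPullback.hom_ext e1.symm (hu ω.snd ⟨?_, congrArg CategoricalPullback.Hom.snd hω'⟩)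
  refine IsHomLift.of_fac 𝒮.p k ω.snd rfl hy ?_
  have w : u.map ω.fst ≫ eqToHom hy.symm = z.iso.hom ≫ 𝒮.p.map ω.snd := ω.w
  show z.iso.inv ≫ u.map g₀ = _
  rw [e1]
  simp [← cancel_mono (eqToHom hy.symm), w]

end Groth.Agent.S12807
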