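import Groth.Statements.S1281
import Groth.Agent.Nagata.PairGen
import Groth.Agent.QDom.Graph

set_option maxHeartbeats 800000
set_option backward.isDefEq.respectTransparency false
set_option backward.defeqAttrib.useBackward true
-- import your own Groth.Agent.* helpers here

set_option autoImplicit false
universe u
open FlatMor

namespace Groth.Agent.S1281

open AlgebraicGeometry CategoryTheory Limits in
/-- Let S be quasi-compact and quasi-separated and let j₁ : U → X₁, j₂ : U → X₂ be open immersions over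
S, with U, X₁, X₂ separated and of finite type over S. Then there are a scheme X separated and of
finite type over S, blow-ups b_i : X_i' → X_i in finite type quasi-coherent ideals with support
disjoint from the image of U, open immersions X_i' → X over S, and lifts U → X_i' of j_i, such that
the two composites U → X_i' → X agree. -/
theorem result {U X₁ X₂ S : Scheme.{u}} [CompactSpace S] [QuasiSeparatedSpace S]
    (gU : U ⟶ S) (g₁ : X₁ ⟶ S) (g₂ : X₂ ⟶ S)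
    [IsSeparated gU] [LocallyOfFiniteType gU] [QuasiCompact gU]
    [IsSeparated g₁] [LocallyOfFiniteType g₁] [QuasiCompact g₁]
    [IsSeparated g₂] [LocallyOfFiniteType g₂] [QuasiCompact g₂]
    (j₁ : U ⟶ X₁) (j₂ : U ⟶ X₂) [IsOpenImmersion j₁] [IsOpenImmersion j₂] (hj₁ : j₁ ≫ g₁ = gU) (hj₂ : j₂ ≫ g₂ = gU) :
    ∃ (X : Scheme.{u}) (q : X ⟶ S) (_ : IsSeparated q) (_ : LocallyOfFiniteType q) (_ : QuasiCompact q)
      (𝓘₁ : X₁.IdealSheafData) (𝓘₂ : X₂.IdealSheafData) (X₁' X₂' : Scheme.{u}) (b₁ : X₁' ⟶ X₁) (b₂ : X₂' ⟶ X₂)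
      (o₁ : X₁' ⟶ X) (o₂ : X₂' ⟶ X) (u₁ : U ⟶ X₁') (u₂ : U ⟶ X₂'),
      BlowUp.IsBlowUp b₁ 𝓘₁ ∧ BlowUp.IsAdmissibleFor j₁.opensRange 𝓘₁ ∧
      BlowUp.IsBlowUp b₂ 𝓘₂ ∧ BlowUp.IsAdmissibleFor j₂.opensRange 𝓘₂ ∧
      IsOpenImmersion o₁ ∧ IsOpenImmersion o₂ ∧ o₁ ≫ q = b₁ ≫ g₁ ∧ o₂ ≫ q = b₂ ≫ g₂ ∧
      u₁ ≫ b₁ = j₁ ∧ u₂ ≫ b₂ = j₂ ∧ u₁ ≫ o₁ = u₂ ≫ o₂ := by
  haveI : CompactSpace U := QuasiCompact.compactSpace_of_compactSpace gU
  have h : (𝟙 U ≫ j₁) ≫ g₁ = (𝟙 U ≫ j₂) ≫ g₂ := by simp [hj₁, hj₂]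
  have key : ∀ {Y Z : Scheme.{u}} (a : U ⟶ Y) (c : U ⟶ Z) [IsOpenImmersion a] (pY : Y ⟶ S)
      (pZ : Z ⟶ S) [IsSeparated pZ] (w : a ≫ pY = c ≫ pZ) (z : (Limits.pullback pY pZ : Scheme.{u})),
      z ∈ closure (Set.range (Limits.pullback.lift a c w)) → Limits.pullback.fst pY pZ z ∈ a.opensRange →
      z ∈ Set.range (Limits.pullback.lift a c w) := by
    intro Y Z a c _ pY pZ _ w z hz hza
    have hf : a.opensRange.ι ≫ pY = (a.isoOpensRange.inv ≫ c) ≫ pZ := by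
      rw [← Scheme.Hom.isoOpensRange_inv_comp a, Category.assoc, w, Category.assoc]
    have hL : Limits.pullback.lift a.opensRange.ι (a.isoOpensRange.inv ≫ c) hf =
        a.isoOpensRange.inv ≫ Limits.pullback.lift a c w := by
      apply Limits.pullback.hom_ext <;> simp
    have hr : Set.range (fun x => Limits.pullback.lift a.opensRange.ι (a.isoOpensRange.inv ≫ c) hf x) =
        Set.range (Limits.pullback.lift a c w) := by
      rw [hL]
      show Set.range ((a.isoOpensRange.inv ≫ Limits.pullback.lift a c w :)) = _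
      rw [Scheme.Hom.comp_base, TopCat.coe_comp]
      exact a.isoOpensRange.inv.homeomorph.surjective.range_comp _
    rw [← hr]
    exact QDom.Graph.closure_inter_subset pY pZ a.opensRange _ hf ⟨hr.symm ▸ hz, hza⟩
  obtain ⟨Y, q, hs, hqc, hlft, A, a, B, b, iA, iB, uA, uB, ⟨𝓛, ha, hLft, hLs⟩, ⟨𝓜, hb, hMft, hMs⟩,
    _, _, hiA, hiB, -, _, _, -, -, hua, hub, hqa, hqb, hglue, -⟩ :=
    Nagata.exists_glue g₁ g₂ (𝟙 U) (𝟙 U) j₁ j₂ h
      (fun z hz h1 => key (𝟙 U ≫ j₁) (𝟙 U ≫ j₂) g₁ g₂ h z hz (by simpa using h1))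
      (fun z hz h2 => by
        let e := Limits.pullbackSymmetry g₁ g₂
        have he : Limits.pullback.lift (𝟙 U ≫ j₁) (𝟙 U ≫ j₂) h ≫ e.hom =
            Limits.pullback.lift (𝟙 U ≫ j₂) (𝟙 U ≫ j₁) h.symm := by
          apply Limits.pullback.hom_ext <;> simp [e]
        obtain ⟨t, ht⟩ := key (𝟙 U ≫ j₂) (𝟙 U ≫ j₁) g₂ g₁ h.symm (e.hom z) (by
          refine closure_mono ?_ (image_closure_subset_closure_image e.hom.continuous ⟨z, hz, rfl⟩)
          rintro _ ⟨_, ⟨x, rfl⟩, rfl⟩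
          exact ⟨x, by rw [← he]; exact Scheme.Hom.comp_apply _ e.hom x⟩)
          (by rw [← Scheme.Hom.comp_apply, Limits.pullbackSymmetry_hom_comp_fst]; simpa using h2)
        refine ⟨t, e.hom.homeomorph.injective ?_⟩
        show e.hom _ = e.hom z
        rw [← Scheme.Hom.comp_apply, he, ht])
  refine ⟨Y, q, hs, hlft, hqc, 𝓛, 𝓜, A, B, a, b, iA, iB, uA, uB, ha, ⟨hLft, ?_⟩, hb, ⟨hMft, ?_⟩,
    hiA, hiB, hqa, hqb, hua, hub, by simpa using hglue⟩
  · rw [hLs]; exact disjoint_compl_left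
  · rw [hMs]; exact disjoint_compl_left

end Groth.Agent.S1281
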