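import Groth.Statements.S12816
import Groth.Agent.FibC.Yoneda
import Groth.Agent.StFib.Grpd

set_option autoImplicit false
set_option backward.isDefEq.respectTransparency false
set_option backward.isDefEq.respectTransparency.types false
open CategoryTheory
universe v u
open Stk

namespace Groth.Agent.S12816

/-- Let `𝒳`, `𝒴` be fibred in groupoids over `C` and `F : 𝒳 ⟶ 𝒴` a functor over `C`. Then the underlying
functor of `F` is fully faithful if and only if, for every object `U` of `C`, postcomposition with
`F` is a fully faithful functor from the category of functors `C/U ⟶ 𝒳` over `C` to that of functors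
`C/U ⟶ 𝒴` over `C`; under the 2-Yoneda lemma the latter says that `F` induces bijections between
morphisms of pullbacks `x|_V ⟶ y|_V` and `F(x)|_V ⟶ F(y)|_V` for all objects `x, y` over `U` and all
`V ⟶ U`, that is, isomorphisms of the presheaves of morphisms. (The published statement is for
stacks over a site, not necessarily in groupoids; the stack property plays no role and is not
assumed here, and this row treats categories fibred in groupoids.) -/
theorem result {C : Type u} [Category.{v} C] {𝒳 𝒴 : BasedCategory.{v, max u v} C}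
    (h𝒳 : FibCat.IsFibGrpd 𝒳.p) (h𝒴 : FibCat.IsFibGrpd 𝒴.p) (F : 𝒳 ⟶ 𝒴) :
    (F.toFunctor.Full ∧ F.toFunctor.Faithful) ↔
      ∀ U : C, (Bicategory.postcomp (FibCat.overCat U) F).Full ∧ (Bicategory.postcomp (FibCat.overCat U) F).Faithful := by
  constructor
  · rintro ⟨_, _⟩ U
    refine ⟨⟨fun {a b} α => ?_⟩, ⟨fun {a b} α β h => ?_⟩⟩
    · refine ⟨{ toNatTrans := { app := fun w => F.toFunctor.preimage (α.toNatTrans.app w)
                                naturality := fun w w' k => F.toFunctor.map_injective (by
                                  simp only [Functor.map_comp, Functor.map_preimage]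
                                  exact α.toNatTrans.naturality k) }
                isHomLift' := fun w => by
                  rw [← BasedFunctor.isHomLift_iff F, Functor.map_preimage]
                  exact α.isHomLift' w }, BasedNatTrans.homCategory.ext _ _ ?_⟩
      exact NatTrans.ext (funext fun w => F.toFunctor.map_preimage _)
    · refine BasedNatTrans.homCategory.ext _ _ (NatTrans.ext (funext fun w => F.toFunctor.map_injective ?_))
      exact congrArg (fun t => BasedNatTrans.toNatTrans t |>.app w) h
  · intro h
    have hfaith : F.toFunctor.Faithful := by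
      refine StFib.faithful_of_vert h𝒳 h𝒴 F (fun a φ hφ hFφ => ?_)
      obtain ⟨G, e, he⟩ := FibC.exists_overLift_fibGrpd h𝒳 a rfl
      have : 𝒳.p.IsHomLift (𝟙 (𝒳.p.obj a)) φ := by rw [← hφ]; infer_instance
      obtain ⟨α, hα⟩ := FibC.yoneda_surjective (G := G) (FibC.preserves_overCat h𝒳 G) (e.hom ≫ φ ≫ e.inv)
      obtain ⟨_, _⟩ := h (𝒳.p.obj a)
      have h1 : (Bicategory.postcomp (FibCat.overCat (𝒳.p.obj a)) F).map α =
          (Bicategory.postcomp (FibCat.overCat (𝒳.p.obj a)) F).map (𝟙 G) := by
        apply FibC.yoneda_injective (FibC.preserves_overCat h𝒴 _)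
        show F.toFunctor.map (α.toNatTrans.app _) = F.toFunctor.map (𝟙 _)
        rw [hα]
        rw [Functor.map_comp, Functor.map_comp, hFφ, Category.id_comp, ← Functor.map_comp, e.hom_inv_id, Functor.map_id]
      have h2 : e.hom ≫ φ ≫ e.inv = 𝟙 _ :=
        hα.symm.trans (congrArg (fun t => BasedNatTrans.toNatTrans t |>.app _)
          ((Bicategory.postcomp (FibCat.overCat (𝒳.p.obj a)) F).map_injective h1))
      rw [← cancel_epi e.hom, ← cancel_mono e.inv]
      simpa using h2
    refine ⟨StFib.full_of_vert h𝒳 h𝒴 F (fun a a' β hβ => ?_), hfaith⟩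
    have hb : 𝒳.p.obj a' = 𝒳.p.obj a :=
      (F.w_obj a').symm.trans (hβ.base_eq.symm.trans (F.w_obj a))
    have := hβ.isHomLift (F.w_obj a)
    obtain ⟨G, e, he⟩ := FibC.exists_overLift_fibGrpd h𝒳 a rfl
    obtain ⟨G', e', he'⟩ := FibC.exists_overLift_fibGrpd h𝒳 a' hb
    obtain ⟨_, _⟩ := h (𝒳.p.obj a)
    let θ := F.toFunctor.map e.hom ≫ β ≫ F.toFunctor.map e'.inv
    have : 𝒴.p.IsHomLift (𝟙 (𝒳.p.obj a)) θ := inferInstance
    obtain ⟨δ, hδ⟩ := FibC.yoneda_surjective (G := BasedFunctor.comp G F) (H := BasedFunctor.comp G' F)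
      (FibC.preserves_overCat h𝒴 _) θ
    obtain ⟨α, hα⟩ := (Bicategory.postcomp (FibCat.overCat (𝒳.p.obj a)) F).map_surjective (X := G) (Y := G') δ
    refine ⟨e.inv ≫ α.toNatTrans.app (FibC.overTop _) ≫ e'.hom, ?_⟩
    have hA : F.toFunctor.map (α.toNatTrans.app (FibC.overTop (𝒳.p.obj a))) = θ :=
      (congrArg (fun t => BasedNatTrans.toNatTrans t |>.app _) hα).trans hδ
    rw [Functor.map_comp, Functor.map_comp, hA]
    simp [θ, ← Functor.map_comp]

end Groth.Agent.S12816
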