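import Groth.Statements.S1282
import Groth.Agent.RG.IsoNear
-- import your own Groth.Agent.* helpers here

set_option autoImplicit false
set_option maxHeartbeats 1600000
set_option backward.isDefEq.respectTransparency false
set_option backward.defeqAttrib.useBackward true
universe u
open FlatMor

namespace Groth.Agent.S1282

open AlgebraicGeometry CategoryTheory Limits in
/-- Let f : X → Y be a proper morphism with X and Y quasi-compact and quasi-separated, V ⊆ Y a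
quasi-compact open, and T ⊆ V a subset closed in V such that f is an isomorphism over some open
neighbourhood of T inside V. Then there is a V-admissible blow-up b : Y' → Y such that, over some
open W' of Y' containing the closure of b⁻¹(T), the strict transform X'' → Y' of f (X'' the closed
subscheme of X ×_Y Y' cut out by the functions locally killed by a power of the pulled-back
exceptional ideal) restricts to an isomorphism. -/
theorem result {X Y : Scheme.{u}} [CompactSpace X] [QuasiSeparatedSpace X] [CompactSpace Y] [QuasiSeparatedSpace Y]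
    (f : X ⟶ Y) [IsProper f] (V : Y.Opens) (hV : IsCompact (V : Set Y)) (T : Set Y) (hTV : T ⊆ V)
    (hT : IsClosed (Subtype.val ⁻¹' T : Set V))
    (hiso : ∃ W : Y.Opens, T ⊆ W ∧ W ≤ V ∧ IsIso (f ∣_ W)) :
    ∃ (𝓘 : Y.IdealSheafData) (Y' : Scheme.{u}) (b : Y' ⟶ Y), BlowUp.IsBlowUp b 𝓘 ∧ BlowUp.IsAdmissibleFor V 𝓘 ∧
      ∀ (X' : Scheme.{u}) (p₁ : X' ⟶ X) (p₂ : X' ⟶ Y'), IsPullback p₁ p₂ f b →
      ∀ (𝒥 : X'.IdealSheafData),
        (∀ (W : X'.affineOpens) (a : Γ(X', W.1)), a ∈ 𝒥.ideal W ↔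
          BlowUp.KilledByPowerNear ((𝓘.comap f).comap p₁) (Coh.structureModule X') W a) →
        ∃ W' : Y'.Opens, closure (b.base ⁻¹' T) ⊆ W' ∧ IsIso ((𝒥.subschemeι ≫ p₂) ∣_ W') := by
  obtain ⟨W₀, hTW₀, hW₀V, hW₀⟩ := hiso
  obtain ⟨C, hC, hCT⟩ := isClosed_induced_iff.mp hT
  have hTe : T = (V : Set Y) ∩ C := by
    ext y
    exact ⟨fun hy => ⟨hTV hy, (Set.ext_iff.mp hCT ⟨y, hTV hy⟩).mpr hy⟩,
      fun hy => (Set.ext_iff.mp hCT ⟨y, hy.1⟩).mp hy.2⟩
  have hTc : IsCompact T := hTe ▸ hV.inter_right hC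
  -- a quasi-compact neighbourhood `W` of `T` and an open `P` around the rest of `V`
  obtain ⟨W, hWc, hTW, hWW₀⟩ := Nagata.exists_qc_between hTc W₀ hTW₀
  have hWV : W ≤ V := hWW₀.trans hW₀V
  have : IsIso (f ∣_ W) := RG.IsoNear.isIso_restrict_of_le f hWW₀
  have hV2 : IsCompact ((V : Set Y) \ W) := hV.diff W.2
  have hclV : IsOpen ((V : Set Y) \ T) := by
    rw [hTe, Set.diff_self_inter]
    exact V.2.sdiff hC
  obtain ⟨P, hPc, hsubP, hPle⟩ := Nagata.exists_qc_between hV2 ⟨_, hclV⟩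
    (fun y hy => ⟨hy.1, fun hyT => hy.2 (hTW hyT)⟩)
  obtain ⟨J, hJft, hJ⟩ := QDom.Global.exists_support_eq_compl hPc
  obtain ⟨K, hKft, hK⟩ := QDom.Global.exists_support_eq_compl hWc
  have hft : BlowUp.IsFiniteTypeIdeal (J ⊔ K) := fun U => by
    rw [Scheme.IdealSheafData.ideal_sup, Pi.sup_apply]
    exact Submodule.FG.sup (hJft U) (hKft U)
  obtain ⟨Y₁, q, hq⟩ := BlowUp.Glue.exists_isBlowUp Y (J ⊔ K)
  have : IsProper q := BlowUpProper.Basic.isProper hq hft
  have : CompactSpace Y₁ := QuasiCompact.compactSpace_of_compactSpace q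
  have : QuasiSeparatedSpace Y₁ := quasiSeparatedSpace_of_quasiSeparated q
  have hdisj := Nagata.disjoint_closure_blowUp J K q hq ((V : Set Y) \ P) ((V : Set Y) \ W)
    (fun y hy => hJ ▸ hy.2) (fun y hy => hK ▸ hy.2)
    (Set.disjoint_left.mpr fun y hy hy' => by
      rw [hK] at hy
      exact hy'.2 (hsubP ⟨hy'.1, hy⟩))
    (Set.disjoint_left.mpr fun y hy hy' => by
      rw [hJ] at hy
      exact hy (hsubP hy'))
  have hTP : T ⊆ (V : Set Y) \ P := fun y hy => ⟨hTV hy, fun hyP => (hPle hyP).2 hy⟩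
  obtain ⟨O, hOc, hclO, hOle⟩ := Nagata.exists_qc_between
    (isClosed_closure (s := q ⁻¹' ((V : Set Y) \ P))).isCompact
    ⟨(closure (q ⁻¹' ((V : Set Y) \ W)))ᶜ, isClosed_closure.isOpen_compl⟩
    (fun y hy => hdisj.notMem_of_mem_left hy)
  have hOV : O ⊓ q ⁻¹ᵁ V ≤ q ⁻¹ᵁ W := fun y hy => by
    by_contra hyW
    exact hOle hy.1 (subset_closure ⟨hy.2, hyW⟩)
  -- the section over the blow-up of `Y₁`
  let f₁ := pullback.snd f q
  have : IsIso (f₁ ∣_ (O ⊓ q ⁻¹ᵁ V)) := by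
    have := ModPairLib.LimitBlowup.isIso_restrict_of_isPullback
      (IsPullback.of_hasPullback f q) W (q ⁻¹ᵁ W) rfl inferInstance
    exact RG.IsoNear.isIso_restrict_of_le f₁ hOV
  obtain ⟨𝓙, Y', c, s, hc, hcft, hcs, hs⟩ := RG.IsoNear.exists_section f₁ O (q ⁻¹ᵁ V) hOc
    (q.isCompact_preimage hV) this
  obtain ⟨𝓚, hKKft, hKKs, hbl⟩ := BlowComp.Main.exists_comp hq hft hcft hc
  have hsupp : (𝓚.support : Set Y) ⊆ (V : Set Y)ᶜ := by
    rw [hKKs, Set.union_subset_iff, Scheme.IdealSheafData.support_sup, hcs]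
    refine ⟨fun y hy hyV => ?_, ?_⟩
    · have h1 : y ∈ (J.support : Set Y) := hy.1
      have h2 : y ∈ (K.support : Set Y) := hy.2
      rw [hJ] at h1
      rw [hK] at h2
      exact h1 (hsubP ⟨hyV, h2⟩)
    · rintro _ ⟨y, hy, rfl⟩
      exact hy
  refine ⟨𝓚, Y', c ≫ q, hbl, ⟨hKKft, Set.disjoint_left.mpr fun y hy hyV => hsupp hy hyV⟩,
    fun X' p₁ p₂ hp 𝒥 h𝒥 => ⟨c ⁻¹ᵁ O, ?_, ?_⟩⟩
  · have h1 : (c ≫ q).base ⁻¹' T ⊆ c ⁻¹' (closure (q ⁻¹' ((V : Set Y) \ P))) :=
      fun y hy => subset_closure (hTP hy)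
    exact (closure_minimal h1 (isClosed_closure.preimage c.continuous)).trans
      (fun y hy => hclO hy)
  · have : Mono (f ∣_ W) := inferInstance
    refine RG.StrictSub.isIso_restrict_of_section hbl hp h𝒥 (c ⁻¹ᵁ O) (s ≫ pullback.fst f q)
      ?_ W ?_
    · rw [Category.assoc, pullback.condition, reassoc_of% hs]
    · intro y hy hys
      by_contra hyW
      have hyq : c y ∉ q ⁻¹ᵁ V := fun hv => hyW (hOV ⟨hy, hv⟩)
      refine hys ?_
      show (c ≫ q) y ∈ (𝓚.support : Set Y)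
      rw [hKKs]
      exact Or.inr ⟨c y, hcs ▸ hyq, rfl⟩

end Groth.Agent.S1282
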