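import Groth.Statements.S12827
import Groth.Agent.StFib.RepPoints

set_option autoImplicit false
set_option backward.isDefEq.respectTransparency false
set_option backward.isDefEq.respectTransparency.types false
universe u
open CategoryTheory AlgebraicGeometry
open AlgSt

namespace Groth.Agent.S12827

/-- For a morphism `f : 𝒳 ⟶ 𝒴` of algebraic stacks over `S` that is representable by algebraic spaces,
every base change of `f` to a scheme is universally submersive as a morphism of algebraic spaces
exactly when, for each morphism of algebraic stacks `𝒵 ⟶ 𝒴`, the induced map on points `|𝒵 ×_𝒴 𝒳| →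
|𝒵|` is submersive, that is surjective with the quotient topology (written here directly as a
quotient map of topological spaces). -/
theorem result {S : Scheme.{u}} {𝒳 𝒴 : AlgSt.Cat S}
    (h𝒳 : AlgSt.IsAlgStack Scheme.fppfPrecoverage 𝒳) (h𝒴 : AlgSt.IsAlgStack Scheme.fppfPrecoverage 𝒴) (f : 𝒳 ⥤ᵇ 𝒴) (hf : AlgSt.RepByAlgSp1 f) :
    AlgSt.RepByAlgSpWith AlgSp.IsUnivSubmersiveMor f ↔ ∀ (𝒵 : AlgSt.Cat S), AlgSt.IsAlgStack Scheme.fppfPrecoverage 𝒵 → ∀ (g : 𝒵 ⥤ᵇ 𝒴),
        Topology.IsQuotientMap (AlgSt.Points.map (FibCat.fpFst g f)) := by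
  exact ⟨Groth.Agent.StFib.points_of_repByAlgSpWith_univ (fun φ => Topology.IsQuotientMap φ) Groth.Agent.StFib.homeoInv_isQuotientMap
      Groth.Agent.StFib.descendsPts_isQuotientMap h𝒳 h𝒴,
    Groth.Agent.StFib.repByAlgSpWith_univ_of_points (fun φ => Topology.IsQuotientMap φ) Groth.Agent.StFib.homeoInv_isQuotientMap hf⟩

end Groth.Agent.S12827
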