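import Groth.Statements.S1284
import Groth.Agent.RG.FTStrict
import Groth.Agent.IdealSh.CartierInSub
import Groth.Agent.FlatMisc.FlatFibreDimGen
import Groth.Agent.AlgSpD.LqfLocus
-- import your own Groth.Agent.* helpers here

set_option maxHeartbeats 1600000

set_option autoImplicit false
universe u
open FlatMor

namespace Groth.Agent.S1284

open AlgebraicGeometry CategoryTheory Limits in
/-- Let φ : X → S be proper with S quasi-compact and quasi-separated, and U ⊆ S a quasi-compact open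
over which φ is finite locally free. Then there is a U-admissible blow-up b : S' → S such that the
strict transform X'' of X (the closed subscheme of X ×_S S' cut out by the functions locally killed
by a power of the pulled-back exceptional ideal) is finite locally free over S'. -/
theorem result {X S : Scheme.{u}} [CompactSpace S] [QuasiSeparatedSpace S]
    (φ : X ⟶ S) [IsProper φ] (U : S.Opens) (hU : IsCompact (U : Set S)) (hfl : Mor2.IsFinLocFree (φ ∣_ U)) :
    ∃ (𝓘 : S.IdealSheafData) (S' : Scheme.{u}) (b : S' ⟶ S), BlowUp.IsBlowUp b 𝓘 ∧ BlowUp.IsAdmissibleFor U 𝓘 ∧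
      ∀ (X' : Scheme.{u}) (p₁ : X' ⟶ X) (p₂ : X' ⟶ S'), IsPullback p₁ p₂ φ b →
      ∀ (𝒥 : X'.IdealSheafData),
        (∀ (W : X'.affineOpens) (a : Γ(X', W.1)), a ∈ 𝒥.ideal W ↔
          BlowUp.KilledByPowerNear ((𝓘.comap φ).comap p₁) (Coh.structureModule X') W a) →
        Mor2.IsFinLocFree (𝒥.subschemeι ≫ p₂) := by
  obtain ⟨hfin, hflat, hlfp⟩ := hfl
  haveI : Flat (φ ∣_ U) := hflat
  haveI : LocallyOfFinitePresentation (φ ∣_ U) := hlfp
  obtain ⟨𝓘, S', b, hb, hadm, hsupp, h⟩ := Groth.Agent.RG.FTStrict.exists_strict φ U hU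
  refine ⟨𝓘, S', b, hb, hadm, fun X' p₁ p₂ hpb 𝒥 hJ => ?_⟩
  obtain ⟨hgflat, hglfp, -, -⟩ := h X' p₁ p₂ hpb 𝒥 hJ
  haveI : IsProper p₂ := MorphismProperty.of_isPullback hpb ‹IsProper φ›
  let g := 𝒥.subschemeι ≫ p₂
  haveI : Flat g := hgflat
  haveI : LocallyOfFinitePresentation g := hglfp
  haveI : IsProper g := inferInstanceAs (IsProper (𝒥.subschemeι ≫ p₂))
  let U' : S'.Opens := b ⁻¹ᵁ U
  -- finite over `U'`
  have hfin' : IsFinite (p₂ ∣_ U') := by
    have hY : p₂ ⁻¹ᵁ U' = p₁ ⁻¹ᵁ (φ ⁻¹ᵁ U) ⊓ p₂ ⁻¹ᵁ U' := by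
      refine (inf_eq_right.2 fun y hy => ?_).symm
      show φ (p₁ y) ∈ U
      rw [← Scheme.Hom.comp_apply, hpb.w]
      exact hy
    have H := Scheme.Hom.isPullback_resLE hpb (US := U) (UT := U') (UX := φ ⁻¹ᵁ U) le_rfl le_rfl hY
    rw [Scheme.Hom.resLE_eq_morphismRestrict, Scheme.Hom.resLE_eq_morphismRestrict] at H
    exact MorphismProperty.of_isPullback (P := @IsFinite) H hfin
  have hzero : ∀ y, g y ∈ U' → FlatMor.fibreDimAt g y = 0 := by
    intro y hy
    rw [← AlgSpD.quasiFiniteAt_iff_fibreDimAt_eq_zero]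
    haveI : IsFinite (g ∣_ U') := by
      show IsFinite ((𝒥.subschemeι ≫ p₂) ∣_ U')
      rw [morphismRestrict_comp]
      haveI : IsClosedImmersion (𝒥.subschemeι ∣_ p₂ ⁻¹ᵁ U') :=
        IsZariskiLocalAtTarget.restrict (P := @IsClosedImmersion) (inferInstance : IsClosedImmersion 𝒥.subschemeι) _
      exact MorphismProperty.comp_mem @IsFinite _ _ (inferInstance : IsFinite (𝒥.subschemeι ∣_ p₂ ⁻¹ᵁ U')) hfin'
    haveI : LocallyQuasiFinite ((g ⁻¹ᵁ U').ι ≫ g) := by
      rw [← morphismRestrict_ι]; infer_instance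
    have hq := ((g ⁻¹ᵁ U').ι ≫ g).quasiFiniteAt ⟨y, hy⟩
    rwa [Scheme.Hom.quasiFiniteAt_comp_iff_of_isOpenImmersion] at hq
  have hall : ∀ y, FlatMor.fibreDimAt g y = 0 := by
    intro y
    by_cases hy : g y ∈ U'
    · exact hzero y hy
    have hmem : g y ∈ (𝓘.comap b).support := by
      rw [Scheme.IdealSheafData.support_comap]
      show b (g y) ∈ (𝓘.support : Set S)
      rw [hsupp]
      exact hy
    obtain ⟨η, hη, hηE⟩ := IdealSh.exists_generization (𝓘.comap b) hb.1 hmem
    have hηU : η ∈ U' := by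
      by_contra hne
      apply hηE
      rw [Scheme.IdealSheafData.support_comap]
      show b η ∈ (𝓘.support : Set S)
      rw [hsupp]
      exact hne
    refine le_antisymm ?_ ?_
    · have h0 := FlatMisc.FlatFibreDimGen.fibreDimAt_le_of_generization (f := g) hη 0
        (fun x hx => by rw [hzero x (hx ▸ hηU)]; simp) y rfl
      simpa using h0
    · have h0 := FlatMisc.FlatFibreDimGen.length_le_fibreDimAt (f := g) (k := 0) (fun _ => y) y
        (fun _ => rfl) (fun _ => specializes_rfl) (fun i j hij => absurd hij (by omega))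
      simpa using h0
  haveI : LocallyQuasiFinite g := AlgSpD.locallyQuasiFinite_of_forall g hall
  exact ⟨IsFinite.of_isProper_of_locallyQuasiFinite g, hgflat, hglfp⟩


end Groth.Agent.S1284
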