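import Groth.Statements.S1285
import Groth.Agent.Dim.Support
import Groth.Agent.CAlg76.FibreDim
import Mathlib.RingTheory.LocalRing.ResidueField.Fiber
import Mathlib.RingTheory.Ideal.GoingUp
import Mathlib.RingTheory.Support
import Mathlib.AlgebraicGeometry.Pullbacks
import Mathlib.Algebra.Category.Ring.Constructions


set_option autoImplicit false
universe u
open FlatMor

namespace Groth.Agent.S1285


open TensorProduct

/-- The primes over `p` in the support of a module. -/
def fibSupp {R : Type u} [CommRing R] (p : Ideal R) [p.IsPrime] (S N : Type u) [CommRing S] [Algebra R S]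
    [AddCommGroup N] [Module S N] : Set (PrimeSpectrum S) :=
  {Q | PrimeSpectrum.comap (algebraMap R S) Q = ⟨p, inferInstance⟩ ∧ Q ∈ Module.support S N}

section
attribute [local instance] Algebra.TensorProduct.rightAlgebra

theorem supportDim_fiberMod_eq {R : Type u} [CommRing R] (p : Ideal R) [p.IsPrime] (S N : Type u)
    [CommRing S] [Algebra R S] [AddCommGroup N] [Module S N] [Module R N] [IsScalarTower R S N]
    [Module.Finite S N] :
    Module.supportDim (p.Fiber S) (FlatCA.fiberMod p S N) = Order.krullDim (fibSupp p S N) := by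
  let e := PrimeSpectrum.preimageOrderIsoFiber R S ⟨p, inferInstance⟩
  have hmem : ∀ x : PrimeSpectrum (p.Fiber S), x ∈ Module.support (p.Fiber S) (FlatCA.fiberMod p S N) ↔
      (e.symm x).1 ∈ Module.support S N := by
    intro x
    show x ∈ Module.support (p.Fiber S) ((p.Fiber S) ⊗[S] N) ↔ _
    rw [Dim.support_tensor S (p.Fiber S) (p.Fiber S) N]
    have h0 : x ∈ Module.support (p.Fiber S) (p.Fiber S) := by
      rw [Module.mem_support_iff_of_finite, Module.annihilator_eq_bot.mpr inferInstance]
      exact bot_le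
    exact ⟨fun h => h.2, fun h => ⟨h0, h⟩⟩
  let E : Module.support (p.Fiber S) (FlatCA.fiberMod p S N) ≃o fibSupp p S N :=
    { toFun := fun x => ⟨(e.symm x.1).1, (e.symm x.1).2, (hmem x.1).mp x.2⟩
      invFun := fun Q => ⟨e ⟨Q.1, Q.2.1⟩, (hmem _).mpr (by rw [OrderIso.symm_apply_apply]; exact Q.2.2)⟩
      left_inv := fun x => Subtype.ext (e.apply_symm_apply x.1)
      right_inv := fun Q => Subtype.ext ((show (e.symm (e ⟨Q.1, Q.2.1⟩)).1 = Q.1 by rw [OrderIso.symm_apply_apply]))
      map_rel_iff' := fun {a b} => e.symm.map_rel_iff' }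
  exact Order.krullDim_eq_of_orderIso E

end

/-- The fibre of a smooth map of relative dimension `n` has dimension at most `n`. -/
theorem krullDim_fibre_le {R D : Type u} [CommRing R] [CommRing D] [Algebra R D] (p : Ideal R) [p.IsPrime]
    (n : ℕ) (h : FlatCA.SmoothRelDim n R D) :
    Order.krullDim (PrimeSpectrum.comap (algebraMap R D) ⁻¹' {⟨p, inferInstance⟩} : Set (PrimeSpectrum D)) ≤ n := by
  rw [Order.krullDim_eq_of_orderIso (PrimeSpectrum.preimageOrderIsoFiber R D ⟨p, inferInstance⟩)]
  haveI := AlgebraicGeometry.smoothOfRelativeDimension_isStableUnderBaseChange (n := n)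
  letI : Algebra D (p.Fiber D) := Algebra.TensorProduct.rightAlgebra
  exact CAlg76.FibreDim.ringKrullDim_le_of_smooth (K := p.ResidueField) (CategoryTheory.MorphismProperty.of_isPullback
    (AlgebraicGeometry.isPullback_SpecMap_of_isPushout _ _ _ _
      (CommRingCat.isPushout_of_isPushout R p.ResidueField D (p.Fiber D))).flip h)

/-- A set of points above a bottom point of the fibre has smaller dimension. -/
theorem krullDim_lt_of_above {α : Type u} [PartialOrder α] (F Y : Set α) (P : α) (hP : P ∈ F) (hY : Y ⊆ F)
    (hlt : ∀ y ∈ Y, P < y) (n : ℕ) (hF : Order.krullDim F ≤ n) : Order.krullDim Y < n := by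
  by_contra hcon
  obtain ⟨l, hl⟩ := Order.le_krullDim_iff.mp (not_lt.mp hcon)
  let l' : LTSeries F := l.map (fun y => (⟨y.1, hY y.2⟩ : F)) (fun a b h => h)
  let l'' : LTSeries F := RelSeries.cons l' ⟨P, hP⟩ (hlt _ l.head.2)
  have h1 : (l''.length : WithBot ℕ∞) ≤ n := le_trans (Order.LTSeries.length_le_krullDim l'') hF
  have h2 : l''.length = n + 1 := by
    have : l'.length = n := hl
    simp [l'', this]
  rw [h2] at h1
  have : n + 1 ≤ n := by exact_mod_cast h1
  omega

/-- Let (C, D, G) be a one-step dévissage of N/S/R over the prime p (see FlatCA.IsOneStepDevissage), and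
suppose pD is prime (the generic point of the fibre of Spec D). Then there are r > 0 and a D-linear
map α from D^r to G which becomes bijective after base change to the residue field of pD; moreover
for every such α the support of the fibre module over p of the cokernel of α has dimension strictly
less than that of the fibre module of N. -/
theorem result {R S : Type u} [CommRing R] [CommRing S] [Algebra R S] [Algebra.FiniteType R S]
    (N : Type u) [AddCommGroup N] [Module S N] [Module R N] [IsScalarTower R S N] [Module.Finite S N] (p : Ideal R) [p.IsPrime]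
    (C D G : Type u) [CommRing C] [CommRing D] [Algebra S C] [Algebra R C] [IsScalarTower R S C]
    [Algebra R D] [Algebra D C] [IsScalarTower R D C] [AddCommGroup G] [Module C G] [Module S G] [IsScalarTower S C G]
    [Module D G] [IsScalarTower D C G] [Module R G] [IsScalarTower R D G]
    (n : ℕ) (h : FlatCA.IsOneStepDevissage R S N p C D G n) [(p.map (algebraMap R D)).IsPrime] :
    (∃ (r : ℕ) (α : (Fin r → D) →ₗ[D] G), 0 < r ∧ Function.Bijective (α.baseChange (p.map (algebraMap R D)).ResidueField)) ∧
    ∀ (r : ℕ) (α : (Fin r → D) →ₗ[D] G), Function.Bijective (α.baseChange (p.map (algebraMap R D)).ResidueField) →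
      Module.supportDim (p.Fiber D) (FlatCA.fiberMod p D (G ⧸ LinearMap.range α)) < (n : WithBot ℕ∞) := by
  classical
  obtain ⟨⟨e⟩, hsurj, -, hDC, hCG, hsm, -, hdim⟩ := h
  haveI := hDC
  haveI := hCG
  haveI : Module.Finite D G := Module.Finite.trans C G
  let P : PrimeSpectrum D := ⟨p.map (algebraMap R D), inferInstance⟩
  let F : Set (PrimeSpectrum D) := PrimeSpectrum.comap (algebraMap R D) ⁻¹' {⟨p, inferInstance⟩}
  haveI : Nontrivial D := P.nontrivial
  have hFle : Order.krullDim F ≤ n := krullDim_fibre_le p n hsm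
  have hPle : ∀ Q ∈ F, P ≤ Q := fun Q hQ =>
    Ideal.map_le_iff_le_comap.mpr (congrArg PrimeSpectrum.asIdeal (hQ : PrimeSpectrum.comap _ Q = _)).ge
  rw [supportDim_fiberMod_eq] at hdim
  -- from the support over `S` to the support over `D`
  have hann : ∀ Q : PrimeSpectrum S, Q ∈ Module.support S N → ∃ Q' : PrimeSpectrum C,
      PrimeSpectrum.comap (algebraMap S C) Q' = Q ∧ PrimeSpectrum.comap (algebraMap D C) Q' ∈ Module.support D G := by
    intro Q hQ
    haveI : Module.Finite S N := inferInstance
    rw [Module.mem_support_iff_of_finite, e.annihilator_eq] at hQ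
    have hker : RingHom.ker (algebraMap S C) ≤ Q.asIdeal := fun x hx => hQ (Module.mem_annihilator.mpr fun g => by
      rw [← IsScalarTower.algebraMap_smul C x g, RingHom.mem_ker.mp hx, zero_smul])
    let QC := Q.asIdeal.map (algebraMap S C)
    haveI : QC.IsPrime := Ideal.map_isPrime_of_surjective hsurj hker
    have hQQ : QC.comap (algebraMap S C) = Q.asIdeal := by
      rw [Ideal.comap_map_of_surjective _ hsurj, sup_eq_left, ← RingHom.ker_eq_comap_bot]
      exact hker
    refine ⟨⟨QC, inferInstance⟩, PrimeSpectrum.ext hQQ, ?_⟩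
    rw [Module.mem_support_iff_of_finite]
    intro d hd
    obtain ⟨s, hs⟩ := hsurj (algebraMap D C d)
    show algebraMap D C d ∈ QC
    rw [← hs]
    refine Ideal.mem_map_of_mem _ (hQ (Module.mem_annihilator.mpr fun g => ?_))
    rw [← IsScalarTower.algebraMap_smul C s g, hs, IsScalarTower.algebraMap_smul]
    exact Module.mem_annihilator.mp hd g
  choose φ hφ1 hφ2 using hann
  have hlow : (n : WithBot ℕ∞) ≤ Order.krullDim (fibSupp p D G) := by
    rw [← hdim]
    refine Order.krullDim_le_of_strictMono (fun Q => ⟨PrimeSpectrum.comap (algebraMap D C) (φ Q.1 Q.2.2), ?_, hφ2 _ Q.2.2⟩) ?_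
    · rw [← PrimeSpectrum.comap_comp_apply, ← IsScalarTower.algebraMap_eq, IsScalarTower.algebraMap_eq R S C,
        PrimeSpectrum.comap_comp_apply, hφ1 _ Q.2.2]
      exact Q.2.1
    · intro Q₁ Q₂ hlt
      have h12 : (φ Q₁.1 Q₁.2.2).asIdeal < (φ Q₂.1 Q₂.2.2).asIdeal := by
        have h' : Q₁.1.asIdeal < Q₂.1.asIdeal := hlt
        rw [← hφ1 _ Q₁.2.2, ← hφ1 _ Q₂.2.2] at h'
        refine lt_of_le_of_ne ?_ fun heq => h'.ne (congrArg (Ideal.comap (algebraMap S C)) heq)
        exact (Ideal.comap_le_comap_iff_of_surjective _ hsurj _ _).mp h'.le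
      haveI : Algebra.IsIntegral D C := Algebra.IsIntegral.of_finite _ _
      exact Ideal.IsIntegral.comap_lt_comap h12
  have hPmem : P ∈ F := by
    haveI : Nonempty (fibSupp p D G) := Order.krullDim_nonneg_iff.mp (le_trans (by simp) hlow)
    obtain ⟨⟨Q, hQ, -⟩⟩ := this
    refine PrimeSpectrum.ext (le_antisymm ?_ Ideal.le_comap_map)
    exact (Ideal.comap_mono (hPle Q hQ)).trans (congrArg PrimeSpectrum.asIdeal hQ).le
  have hPsupp : P ∈ Module.support D G := by
    by_contra hP
    exact not_lt.mpr hlow (krullDim_lt_of_above F (fibSupp p D G) P hPmem (fun Q hQ => hQ.1)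
      (fun Q hQ => lt_of_le_of_ne (hPle Q hQ.1) fun h => hP (h ▸ hQ.2)) n hFle)
  refine ⟨?_, fun r α hα => ?_⟩
  · let κ := P.asIdeal.ResidueField
    haveI : Nontrivial (κ ⊗[D] G) := by
      rw [Module.mem_support_iff_nontrivial_residueField_tensorProduct] at hPsupp
      exact hPsupp
    let s : Set (κ ⊗[D] G) := Set.range fun g : G => (1 : κ) ⊗ₜ[D] g
    have hs : Submodule.span κ s = ⊤ := by
      refine eq_top_iff.mpr fun z _ => ?_
      induction z using TensorProduct.induction_on with
      | zero => exact zero_mem _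
      | tmul a g =>
        rw [show a ⊗ₜ[D] g = a • ((1 : κ) ⊗ₜ[D] g) by rw [TensorProduct.smul_tmul', smul_eq_mul, mul_one]]
        exact Submodule.smul_mem _ _ (Submodule.subset_span ⟨g, rfl⟩)
      | add x y hx hy => exact add_mem (hx trivial) (hy trivial)
    obtain ⟨b, hbs, hbspan, hbli⟩ := exists_linearIndependent κ s
    rw [hs] at hbspan
    let B : Module.Basis b κ (κ ⊗[D] G) := Module.Basis.mk hbli (by rw [Subtype.range_coe, hbspan])
    haveI : Finite b := Module.Finite.finite_basis B
    haveI : Fintype b := Fintype.ofFinite b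
    let r := Fintype.card b
    let v := Fintype.equivFin b
    choose g hg using fun i : Fin r => hbs (v.symm i).2
    let α := Fintype.linearCombination D g
    refine ⟨r, α, ?_, ?_⟩
    · haveI : Nonempty b := B.index_nonempty
      exact Fintype.card_pos
    · have hsur : Function.Surjective (α.baseChange κ) := by
        rw [← LinearMap.range_eq_top, eq_top_iff, ← hbspan, Submodule.span_le]
        intro x hx
        refine ⟨(1 : κ) ⊗ₜ Pi.single (v ⟨x, hx⟩) 1, ?_⟩
        rw [LinearMap.baseChange_tmul, Fintype.linearCombination_apply_single, one_smul]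
        simpa using hg (v ⟨x, hx⟩)
      refine ⟨(LinearMap.injective_iff_surjective_of_finrank_eq_finrank ?_).mpr hsur, hsur⟩
      rw [Module.finrank_baseChange, Module.finrank_pi, Fintype.card_fin, Module.finrank_eq_card_basis B]
  · rw [supportDim_fiberMod_eq]
    have hPQ : P ∉ Module.support D (G ⧸ LinearMap.range α) := by
      rw [Module.mem_support_iff_nontrivial_residueField_tensorProduct, not_nontrivial_iff_subsingleton]
      refine subsingleton_of_forall_eq 0 fun z => ?_
      obtain ⟨w, rfl⟩ := LinearMap.lTensor_surjective P.asIdeal.ResidueField (Submodule.mkQ_surjective (LinearMap.range α)) z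
      obtain ⟨u, rfl⟩ := hα.2 w
      show (LinearMap.range α).mkQ.lTensor P.asIdeal.ResidueField (α.lTensor P.asIdeal.ResidueField u) = 0
      rw [← LinearMap.lTensor_comp_apply, LinearMap.range_mkQ_comp, LinearMap.lTensor_zero, LinearMap.zero_apply]
    exact krullDim_lt_of_above F _ P hPmem (fun Q hQ => hQ.1)
      (fun Q hQ => lt_of_le_of_ne (hPle Q hQ.1) fun h => hPQ (h ▸ hQ.2)) n hFle

end Groth.Agent.S1285
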