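import Groth.Statements.S1286
import Groth.Agent.RG.GenFreeMain
import Groth.Agent.S1272
import Groth.Agent.FittLib.Sheaf
-- import your own Groth.Agent.* helpers here

set_option autoImplicit false
set_option maxHeartbeats 800000
universe u
open FlatMor

namespace Groth.Agent.S1286

open AlgebraicGeometry CategoryTheory Limits in
/-- Let S be quasi-compact and quasi-separated, U ⊆ S a quasi-compact open, f : X → S affine, of finite
presentation, flat, with geometrically integral fibres, and F a quasi-coherent O_X-module of finite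
type whose restriction over U is of finite presentation and which is flat over S at every generic
point of a fibre over a point of U. Then there are a U-admissible blow-up b : S' → S and an open V
of X' = X ×_S S' such that any strict transform of F restricts to a finite locally free O_V-module
and V → S' is surjective. -/
theorem result {X S : Scheme.{u}} [CompactSpace S] [QuasiSeparatedSpace S]
    (f : X ⟶ S) [IsAffineHom f] [LocallyOfFinitePresentation f] [Flat f] [GeometricallyIntegral f]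
    (U : S.Opens) (hU : IsCompact (U : Set S))
    (F : X.Modules) (hqc : Coh.IsQCoh F) (hft : CohB1.IsFT F)
    (hfpU : CohB1.IsFP ((Scheme.Modules.pullback (f ⁻¹ᵁ U).ι).obj F))
    (hflU : ∀ x : X, f.base x ∈ U → closure ({f.asFiber x} : Set (f.fiber (f.base x))) = Set.univ → FlatMod.IsFlatOverAt f F x) :
    ∃ (𝓘 : S.IdealSheafData) (S' : Scheme.{u}) (b : S' ⟶ S), BlowUp.IsBlowUp b 𝓘 ∧ BlowUp.IsAdmissibleFor U 𝓘 ∧
      ∀ (X' : Scheme.{u}) (p₁ : X' ⟶ X) (p₂ : X' ⟶ S'), IsPullback p₁ p₂ f b →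
      ∀ (G : X'.Modules) (π : (Scheme.Modules.pullback p₁).obj F ⟶ G), BlowUp.IsStrictTransform p₁ (𝓘.comap f) F G π →
        ∃ V : X'.Opens, FlatMod.IsFinLocFree ((Scheme.Modules.pullback V.ι).obj G) ∧ Function.Surjective (V.ι ≫ p₂).base := by
  have hqc' : F.IsQuasicoherent := hqc
  have hft' : F.IsFiniteType := hft
  obtain ⟨𝓘, S', b, hb, hadm, h⟩ := RG.GenFreeMain.exists_blowup f U F hU
    (Groth.Agent.S1272.fpOn_of_pullback F (f ⁻¹ᵁ U) hfpU) hflU
  refine ⟨𝓘, S', b, hb, hadm, fun X' p₁ p₂ hpb G π hG => ?_⟩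
  obtain ⟨hepi, hkill⟩ := hG
  haveI := QCoh.isQuasicoherent_pullback p₁ F
  haveI : ((Scheme.Modules.pullback p₁).obj F).IsFiniteType := FittLib.isFiniteType_pullback F p₁
  have hE : HTop.IsLocPrincipal ((𝓘.comap f).comap p₁) := RG.StrictSub.isLocPrincipal_exceptional hb hpb.w
  have hk : FittLib.StrictSheaf.KillsTorsion π ((𝓘.comap f).comap p₁) := hkill
  haveI : G.IsQuasicoherent := RG.StrictLP.isQuasicoherent_of_kills hE hk
  let V : X'.Opens := ⟨{x | ∃ (W : X'.Opens) (n : ℕ), x ∈ W ∧ Nonempty (G.restrict W.ι ≅ FlatMod.freeMod W n)},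
    isOpen_iff_forall_mem_open.2 fun x ⟨W, n, hx, hW⟩ => ⟨W, fun y hy => ⟨W, n, hy, hW⟩, W.isOpen, hx⟩⟩
  refine ⟨V, fun x => ?_, fun s => ?_⟩
  · obtain ⟨W, n, hW, ⟨e⟩⟩ := x.2
    exact ⟨V.ι ⁻¹ᵁ W, n, hW, ⟨Groth.Agent.KFlat.LocFree.restrictPullIso V.ι W _ le_rfl G ≪≫
      (Scheme.Modules.pullback _).mapIso e ≪≫ Groth.Agent.KFlat.LocFree.pullFreeIso _ n⟩⟩
  · obtain ⟨O, c, g, x, hxg, hxs, hc, hfree⟩ := h X' p₁ p₂ hpb s
    obtain ⟨ε⟩ := RG.StrictLP.nonempty_sections hE hk hc
    haveI : Module.Finite Γ(X', O.1) Γ((Scheme.Modules.pullback p₁).obj F, O.1) :=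
      QCoh.finite_sections_of_isFiniteType _ O.2
    haveI : Module.Finite Γ(X', O.1) Γ(G, O.1) := Module.Finite.equiv ε
    haveI := hfree
    have hfree' : Module.Free (Localization.Away g) (LocalizedModule (Submonoid.powers g) Γ(G, O.1)) :=
      Module.Free.of_equiv (IsLocalizedModule.mapEquiv (Submonoid.powers g)
        (LocalizedModule.mkLinearMap (Submonoid.powers g) _)
        (LocalizedModule.mkLinearMap (Submonoid.powers g) _) (Localization.Away g) ε)
    obtain ⟨n, hn⟩ := RG.GenFreeMain.exists_free_nhd G O g hfree'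
    exact ⟨⟨x, X'.basicOpen g, n, hxg, hn⟩, hxs⟩

end Groth.Agent.S1286
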