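import Groth.Statements.S1287
import Groth.Agent.RG.FreeBlow
-- import your own Groth.Agent.* helpers here

set_option autoImplicit false
set_option maxHeartbeats 1600000
set_option backward.isDefEq.respectTransparency false
universe u
open FlatMor

namespace Groth.Agent.S1287

open TensorProduct in
/-- Let R be a ring, f ∈ R, r ≥ 0, S a finitely presented flat R-algebra all of whose fibre rings are
geometrically integral, and M a finite S-module such that M_f is finitely presented over S_f and
such that for every prime p of R not containing f, with q = pS, the localization M_q is free of rank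
r over S_q. Then there is a finitely generated ideal I of R with V(I) = V(f) such that for every a ∈
I, writing R' = R[I/a] for the affine blow-up algebra, S' = S ⊗_R R' and M' for the base change of M
to S' modulo its a-power torsion (any models of the base change): for every prime p' of R' there is
g ∈ S' outside p'S' with M'_g free of rank r over S'_g. -/
theorem result {R S : Type u} [CommRing R] [CommRing S] [Algebra R S] [Algebra.FinitePresentation R S] [Module.Flat R S]
    (hgi : FlatCA.GeomIntegralFibres R S) (f : R) (r : ℕ)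
    (M : Type u) [AddCommGroup M] [Module S M] [Module R M] [IsScalarTower R S M] [Module.Finite S M]
    (hfp : Module.FinitePresentation (Localization.Away (algebraMap R S f)) (LocalizedModule (Submonoid.powers (algebraMap R S f)) M))
    (hfree : ∀ (p : Ideal R) [p.IsPrime] [(p.map (algebraMap R S)).IsPrime], f ∉ p →
      Module.Free (Localization.AtPrime (p.map (algebraMap R S))) (LocalizedModule (p.map (algebraMap R S)).primeCompl M) ∧
      Module.rank (Localization.AtPrime (p.map (algebraMap R S))) (LocalizedModule (p.map (algebraMap R S)).primeCompl M) = r) :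
    ∃ I : Ideal R, I.FG ∧ I.radical = (Ideal.span {f}).radical ∧ ∀ a ∈ I,
      ∀ (S' M' : Type u) [CommRing S'] [Algebra S S'] [Algebra (BlowUp.affineAlgebra R I a) S'] [Algebra R S']
        [IsScalarTower R S S'] [IsScalarTower R (BlowUp.affineAlgebra R I a) S']
        [Algebra.IsPushout R S (BlowUp.affineAlgebra R I a) S']
        [AddCommGroup M'] [Module S' M'] [Module S M'] [IsScalarTower S S' M']
        (φ : M →ₗ[S] M'), IsBaseChange S' φ →
        ∀ (p' : Ideal (BlowUp.affineAlgebra R I a)) [p'.IsPrime],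
          ∃ g : S', g ∉ p'.map (algebraMap (BlowUp.affineAlgebra R I a) S') ∧
            Module.Free (Localization.Away g)
              (LocalizedModule (Submonoid.powers g) (M' ⧸ FlatCA.powTorsion S' (algebraMap R S' a) M')) ∧
            Module.rank (Localization.Away g)
              (LocalizedModule (Submonoid.powers g) (M' ⧸ FlatCA.powTorsion S' (algebraMap R S' a) M')) = r := by
  classical
  have hdom := fun (K : Type u) [Field K] [Algebra R K] => RG.ContentExists.isDomain_fibre hgi K
  let fS := algebraMap R S f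
  obtain ⟨M₂, _, _, _, q, hq, hker⟩ := RG.FreeBlow.exists_fp_cover fS M hfp
  -- freeness at the generic points of the fibres
  have hloc : ∀ (p : Ideal R) [p.IsPrime], f ∉ p →
      (p.map (algebraMap R S)).IsPrime ∧ fS ∉ p.map (algebraMap R S) ∧
      ∃ _ : (p.map (algebraMap R S)).IsPrime, Nonempty (Module.Basis (Fin r)
        (Localization.AtPrime (p.map (algebraMap R S)))
        (LocalizedModule (p.map (algebraMap R S)).primeCompl M₂)) := by
    intro p _ hp
    have hpr := RG.FreeBlow.isPrime_map hdom R S p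
    have hfS : fS ∉ p.map (algebraMap R S) := fun hf => by
      have := hdom p.ResidueField
      have h1 : (1 : p.ResidueField) ⊗ₜ[R] fS = 0 := by
        refine (Ideal.map_le_iff_le_comap.2 ?_ hf :
          fS ∈ RingHom.ker (Algebra.TensorProduct.includeRight (R := R) (A := p.ResidueField) (B := S)))
        intro s hs
        simp [Ideal.algebraMap_residueField_eq_zero.2 hs]
      rw [show fS = f • (1 : S) from Algebra.algebraMap_eq_smul_one f, TensorProduct.tmul_smul,
        TensorProduct.smul_tmul', ← Algebra.algebraMap_eq_smul_one] at h1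
      have h2 : algebraMap p.ResidueField (p.ResidueField ⊗[R] S) (algebraMap R p.ResidueField f) = 0 := by
        simpa [Algebra.TensorProduct.algebraMap_apply] using h1
      rw [map_eq_zero_iff _ (algebraMap p.ResidueField (p.ResidueField ⊗[R] S)).injective,
        Ideal.algebraMap_residueField_eq_zero] at h2
      exact hp h2
    refine ⟨hpr, hfS, hpr, ?_⟩
    obtain ⟨hfr, hrk⟩ := hfree p hp
    let W := (p.map (algebraMap R S)).primeCompl
    let qW := IsLocalizedModule.mapExtendScalars W (LocalizedModule.mkLinearMap W M₂)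
      (LocalizedModule.mkLinearMap W M) (Localization.AtPrime (p.map (algebraMap R S))) q
    have hsurj : Function.Surjective qW :=
      IsLocalizedModule.map_surjective W (LocalizedModule.mkLinearMap W M₂) _ q hq
    have hinj : Function.Injective qW := by
      rw [← LinearMap.ker_eq_bot, LinearMap.ker_eq_bot']
      intro v hv
      obtain ⟨⟨w, s⟩, hw⟩ := IsLocalizedModule.surj W (LocalizedModule.mkLinearMap W M₂) v
      have h1 : LocalizedModule.mkLinearMap W M (q w) = 0 := by
        rw [← IsLocalizedModule.map_apply W (LocalizedModule.mkLinearMap W M₂) _ q, ← hw]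
        show qW (s • v) = 0
        rw [Submonoid.smul_def, ← algebraMap_smul (Localization.AtPrime (p.map (algebraMap R S))),
          map_smul, hv, smul_zero]
      obtain ⟨u, hu⟩ := IsLocalizedModule.exists_of_eq (S := W)
        (f := LocalizedModule.mkLinearMap W M) (x₁ := q w) (x₂ := 0) (by rw [h1, map_zero])
      rw [smul_zero, Submonoid.smul_def, ← map_smul] at hu
      obtain ⟨m, hm⟩ := hker _ hu
      let t : W := ⟨fS ^ m * u, W.mul_mem (W.pow_mem hfS m) u.2⟩
      have h2 : (t * s) • v = 0 := by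
        rw [mul_smul, hw, Submonoid.smul_def, ← map_smul]
        show LocalizedModule.mkLinearMap W M₂ ((fS ^ m * (u : S)) • w) = 0
        rw [mul_smul, hm, map_zero]
      exact ((IsLocalizedModule.map_units (LocalizedModule.mkLinearMap W M₂) (t * s)) |>
        (Module.End.isUnit_iff _).1).1 (by simpa [Submonoid.smul_def, smul_smul, mul_comm] using h2)
    have : Module.Finite (Localization.AtPrime (p.map (algebraMap R S))) (LocalizedModule W M) :=
      Module.Finite.of_isLocalizedModule W (LocalizedModule.mkLinearMap W M)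
    have hfin : Module.finrank (Localization.AtPrime (p.map (algebraMap R S))) (LocalizedModule W M) = r :=
      Module.finrank_eq_of_rank_eq hrk
    exact ⟨(Module.finBasisOfFinrankEq _ _ hfin).map (LinearEquiv.ofBijective qW ⟨hinj, hsurj⟩).symm⟩
  -- low Fitting ideals vanish over `D(f)`
  have hbot : ∀ j, j < r → ∀ d ∈ Fitt.ideal S M₂ j, ∃ m : ℕ, fS ^ m * d = 0 := by
    intro j hj d hd
    refine RG.FreeBlow.exists_pow_mul_eq_zero hdom f fun p _ hp => ?_
    obtain ⟨-, -, hpr, ⟨b⟩⟩ := hloc p hp
    have h0 := FittLib.ideal_eq_bot_of_basis b hj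
    rw [show Fitt.ideal (Localization.AtPrime (p.map (algebraMap R S)))
      (LocalizedModule (p.map (algebraMap R S)).primeCompl M₂) j =
        (Fitt.ideal S M₂ j).map (algebraMap S _) from FittLib.ideal_localizedModule _ _] at h0
    have := Ideal.mem_map_of_mem (algebraMap S (Localization.AtPrime (p.map (algebraMap R S)))) hd
    rw [h0, Ideal.mem_bot, IsLocalization.map_eq_zero_iff (p.map (algebraMap R S)).primeCompl] at this
    obtain ⟨g, hg⟩ := this
    exact ⟨g, g.2, hg⟩
  obtain ⟨G, hG⟩ : (Ideal.span {fS} * Fitt.ideal S M₂ r).FG :=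
    (Submodule.fg_span_singleton fS).mul (FittLib.ideal_eq_G_rel r)
  choose c hc using fun j : G => RG.ContentExists.exists_content hdom (j : S)
  let I : Ideal R := ⨆ j : G, c j
  have hle : ∀ (B : Type u) [CommRing B] [Algebra R B] (J : Ideal B),
      (∀ j : G, RG.Content.Vanishes R S (j : S) (B ⧸ J)) → I.map (algebraMap R B) ≤ J := by
    intro B _ _ J h
    rw [Ideal.map_le_iff_le_comap]
    refine iSup_le fun j a ha => ?_
    have h1 := ((hc j).2 _ (Algebra.ofId R (B ⧸ J))).1 (h j)
    have h2 := Ideal.mem_map_of_mem (Algebra.ofId R (B ⧸ J)) ha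
    rw [h1, Ideal.mem_bot] at h2
    rw [Ideal.mem_comap, ← Ideal.Quotient.eq_zero_iff_mem]
    exact h2
  have hGS : ∀ j : G, (j : S) ∈ I.map (algebraMap R S) := fun j =>
    Ideal.map_mono (le_iSup c j) (RG.FreeBlow.mem_map_of_isContent (hc j))
  have hGmem : ∀ j : G, (j : S) ∈ Ideal.span {fS} * Fitt.ideal S M₂ r := fun j => by
    rw [← hG]; exact Submodule.subset_span j.2
  refine ⟨I, Submodule.fg_iSup c fun j => (hc j).1, ?_, ?_⟩
  · refine le_antisymm (Ideal.radical_mono ?_) ?_
    · rw [← Ideal.map_id I]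
      refine hle R (Ideal.span {f}) fun j => ?_
      obtain ⟨s, -, hs⟩ := Ideal.mem_span_singleton_mul.1 (hGmem j)
      show (1 : R ⧸ Ideal.span {f}) ⊗ₜ[R] (j : S) = 0
      rw [← hs, ← Algebra.smul_def, ← TensorProduct.smul_tmul, ← Algebra.algebraMap_eq_smul_one,
        show algebraMap R (R ⧸ Ideal.span {f}) f = 0 from
          Ideal.Quotient.eq_zero_iff_mem.2 (Ideal.mem_span_singleton_self f), TensorProduct.zero_tmul]
    · rw [Ideal.radical_le_radical_iff, Ideal.span_singleton_le_iff_mem, Ideal.radical_eq_sInf]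
      refine Submodule.mem_sInf.2 fun (p : Ideal R) ⟨hIp, hp⟩ => ?_
      by_contra hfp
      obtain ⟨hpr, hfS, _, ⟨b⟩⟩ := hloc p hfp
      have hJ : Ideal.span {fS} * Fitt.ideal S M₂ r ≤ Ideal.map (algebraMap R S) p := by
        rw [← hG, Submodule.span_le]
        exact fun j hj => Ideal.map_mono hIp (hGS ⟨j, hj⟩)
      have hF : Fitt.ideal S M₂ r ≤ Ideal.map (algebraMap R S) p :=
        ((Ideal.IsPrime.mul_le hpr).1 hJ).resolve_left fun h =>
          hfS (h (Ideal.mem_span_singleton_self fS))
      have h0 := FittLib.ideal_eq_top b b.span_eq (le_refl r)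
      rw [show Fitt.ideal (Localization.AtPrime (p.map (algebraMap R S)))
        (LocalizedModule (p.map (algebraMap R S)).primeCompl M₂) r =
          (Fitt.ideal S M₂ r).map (algebraMap S _) from FittLib.ideal_localizedModule _ _] at h0
      refine (IsLocalization.map_algebraMap_ne_top_iff_disjoint (p.map (algebraMap R S)).primeCompl
        (Localization.AtPrime (p.map (algebraMap R S))) _).2 (Set.disjoint_left.2 ?_) h0
      exact fun x hx hxF => hx (hF hxF)
  intro a ha S' M' _ _ _ _ _ _ _ _ _ _ _ φ hφ p' _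
  let R' := ↥(BlowUp.affineAlgebra R I a)
  let α : R' := algebraMap R R' a
  have hα : α ∈ nonZeroDivisors R' := BlowUp.AffineChart.algebraMap_mem_nonZeroDivisors I a
  have hIR' : I.map (algebraMap R R') = Ideal.span {α} := BlowUp.AffineChart.map_eq_span I a ha
  have : Algebra.IsPushout R R' S S' := Algebra.IsPushout.symm inferInstance
  let t : S' := algebraMap R S' a
  have htα : t = algebraMap R' S' α := IsScalarTower.algebraMap_apply R R' S' a
  have : Module.Flat R' S' :=
    Module.Flat.of_linearEquiv (Algebra.IsPushout.equiv R R' S S').toLinearEquiv.symm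
  have htnz : t ∈ nonZeroDivisors S' := by
    rw [htα]
    exact IdealSh.EffCartier.map_mem_nonZeroDivisors_of_flat (algebraMap R' S')
      (RingHom.flat_algebraMap_iff.2 inferInstance) hα
  have hdiv : ∀ j : G, ∃ y : S', algebraMap S S' (j : S) = t * y := fun j => by
    have h := Ideal.mem_map_of_mem (algebraMap S S') (hGS j)
    rw [Ideal.map_map, ← IsScalarTower.algebraMap_eq, IsScalarTower.algebraMap_eq R R' S',
      ← Ideal.map_map, hIR', Ideal.map_span, Set.image_singleton, Ideal.mem_span_singleton] at h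
    obtain ⟨y, hy⟩ := h
    exact ⟨y, hy.trans (by rw [htα])⟩
  choose y hy using hdiv
  let P := p'.map (algebraMap R' S')
  have hP : P.IsPrime := RG.FreeBlow.isPrime_map hdom R' S' p'
  obtain ⟨j₀, hj₀⟩ : ∃ j₀ : G, y j₀ ∉ P := by
    by_contra hall
    push Not at hall
    let B := R' ⧸ (Ideal.span {α} * p')
    let inR : R' →ₐ[R] B ⊗[R] S :=
      (Algebra.TensorProduct.includeLeft).comp (Ideal.Quotient.mkₐ R _)
    let ψ : S' →ₐ[R] B ⊗[R] S := Algebra.pushoutDesc S' inR Algebra.TensorProduct.includeRight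
      (fun x y => by
        show ((Ideal.Quotient.mk (Ideal.span {α} * p') x : B) ⊗ₜ[R] (1 : S)) * ((1 : B) ⊗ₜ[R] y) =
          ((1 : B) ⊗ₜ[R] y) * ((Ideal.Quotient.mk (Ideal.span {α} * p') x : B) ⊗ₜ[R] (1 : S))
        rw [Algebra.TensorProduct.tmul_mul_tmul, Algebra.TensorProduct.tmul_mul_tmul, one_mul, mul_one,
          one_mul, mul_one])
    have hψ : ∀ j : G, RG.Content.Vanishes R S (j : S) B := fun j => by
      show (1 : B) ⊗ₜ[R] (j : S) = 0
      have h1 : ψ (algebraMap S S' (j : S)) = (1 : B) ⊗ₜ[R] (j : S) :=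
        Algebra.pushoutDesc_right _ _ _ _ _
      rw [← h1, hy, map_mul]
      have h2 : P ≤ (Submodule.comap (LinearMap.mulLeft S' t) (RingHom.ker ψ.toRingHom)) := by
        rw [Ideal.map_le_iff_le_comap]
        intro z hz
        show ψ (t * algebraMap R' S' z) = 0
        rw [htα, ← map_mul, show ψ (algebraMap R' S' (α * z)) = inR (α * z) from
          Algebra.pushoutDesc_left _ _ _ _ _]
        show (Ideal.Quotient.mk (Ideal.span {α} * p') (α * z)) ⊗ₜ[R] (1 : S) = 0
        rw [Ideal.Quotient.eq_zero_iff_mem.2 (Ideal.mul_mem_mul (Ideal.mem_span_singleton_self α) hz),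
          TensorProduct.zero_tmul]
      have h3 : ψ (t * y j) = 0 := h2 (hall j)
      rwa [map_mul] at h3
    have h4 := hle R' _ hψ
    rw [hIR', Ideal.span_singleton_le_iff_mem, Ideal.mem_span_singleton_mul] at h4
    obtain ⟨z, hz, hαz⟩ := h4
    have h5 : z = 1 := (mul_cancel_left_mem_nonZeroDivisors hα).1 (by rw [hαz, mul_one])
    exact (inferInstance : p'.IsPrime).ne_top ((Ideal.eq_top_iff_one _).2 (h5 ▸ hz))
  let y₀ := y j₀
  let B := Localization.Away y₀
  have : IsScalarTower S S' B := inferInstance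
  let tB := algebraMap S' B t
  have htB : tB ∈ nonZeroDivisors B :=
    IsLocalization.map_nonZeroDivisors_le (Submonoid.powers y₀) B ⟨t, htnz, rfl⟩
  have hmap : (Ideal.span {fS} * Fitt.ideal S M₂ r).map (algebraMap S B) = Ideal.span {tB} := by
    rw [← hG, Ideal.map_span]
    refine le_antisymm (Ideal.span_le.2 ?_) ((Ideal.span_singleton_le_iff_mem _).2 ?_)
    · rintro _ ⟨j, hj, rfl⟩
      rw [IsScalarTower.algebraMap_apply S S' B, hy ⟨j, hj⟩, map_mul]
      exact Ideal.mul_mem_right _ _ (Ideal.mem_span_singleton_self tB)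
    · obtain ⟨e, he⟩ := (IsLocalization.Away.algebraMap_isUnit (S := B) y₀).exists_left_inv
      have h : tB = e * algebraMap S B (j₀ : S) := by
        rw [IsScalarTower.algebraMap_apply S S' B, hy j₀, map_mul, mul_left_comm, he, mul_one]
      rw [h]
      exact Ideal.mul_mem_left _ _ (Ideal.subset_span ⟨_, j₀.2, rfl⟩)
  have hdisj : Disjoint (Submonoid.powers y₀ : Set S') (P : Set S') := by
    rw [Set.disjoint_left]
    rintro _ ⟨m, rfl⟩ hm
    exact hj₀ (Ideal.IsPrime.mem_of_pow_mem inferInstance m hm)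
  have hPB := IsLocalization.isPrime_of_isPrime_disjoint (Submonoid.powers y₀) B P hP hdisj
  obtain ⟨g₂, hg₂, z, hz1, hz2⟩ := RG.FreeBlow.exists_free_chart q hq fS hker r hbot B tB htB hmap
    (P.map (algebraMap S' B))
  -- descend the basis to `S'`
  let L : M' →ₗ[S'] B ⊗[S] M :=
    hφ.lift (((TensorProduct.mk S B M) 1))
  have hLφ : ∀ m, L (φ m) = (1 : B) ⊗ₜ[S] m := fun m => hφ.lift_eq _ m
  have hL : IsBaseChange B L := hφ.of_comp (h := L) (by
    have : ((L : M' →ₗ[S] B ⊗[S] M) ∘ₗ φ) = TensorProduct.mk S B M 1 := LinearMap.ext hLφ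
    rw [this]
    exact TensorProduct.isBaseChange S M B)
  have : IsLocalizedModule (Submonoid.powers y₀) L :=
    (isLocalizedModule_iff_isBaseChange (Submonoid.powers y₀) B L).2 hL
  let T' := FlatCA.powTorsion S' t M'
  let TB := FlatCA.powTorsion B tB (B ⊗[S] M)
  let Q : (M' ⧸ T') →ₗ[S'] (B ⊗[S] M) ⧸ TB := T'.liftQ ((TB.mkQ.restrictScalars S') ∘ₗ L) (by
    intro v hv
    rw [LinearMap.mem_ker]
    show TB.mkQ (L v) = 0
    rw [Submodule.mkQ_apply, Submodule.Quotient.mk_eq_zero, FittLib.Strict.mem_powTorsion]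
    obtain ⟨n, hn⟩ := (FittLib.Strict.mem_powTorsion t v).1 hv
    exact ⟨n, by rw [← map_pow, algebraMap_smul, ← map_smul, hn, map_zero]⟩)
  have hQker : ∀ v, Q v = 0 → ∃ k : ℕ, y₀ ^ k • v = 0 := by
    intro v hv
    obtain ⟨w, rfl⟩ := T'.mkQ_surjective v
    change TB.mkQ (L w) = 0 at hv
    rw [Submodule.mkQ_apply, Submodule.Quotient.mk_eq_zero, FittLib.Strict.mem_powTorsion] at hv
    obtain ⟨n, hn⟩ := hv
    rw [← map_pow, algebraMap_smul, ← map_smul] at hn
    obtain ⟨⟨_, k, rfl⟩, hk⟩ := IsLocalizedModule.exists_of_eq (S := Submonoid.powers y₀) (f := L)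
      (x₁ := t ^ n • w) (x₂ := 0) (by rw [hn, map_zero])
    refine ⟨k, ?_⟩
    rw [← map_smul, Submodule.mkQ_apply, Submodule.Quotient.mk_eq_zero, FittLib.Strict.mem_powTorsion]
    refine ⟨n, ?_⟩
    rw [smul_comm]
    simpa [Submonoid.smul_def] using hk
  have hQsurj : ∀ u, ∃ (k : ℕ) (v : M' ⧸ T'), Q v = y₀ ^ k • u := by
    intro u
    obtain ⟨w, rfl⟩ := TB.mkQ_surjective u
    obtain ⟨⟨v, ⟨_, k, rfl⟩⟩, hk⟩ := IsLocalizedModule.surj (Submonoid.powers y₀) L w
    refine ⟨k, T'.mkQ v, ?_⟩
    show TB.mkQ (L v) = _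
    rw [← hk, Submonoid.smul_def]
    exact LinearMap.map_smul (TB.mkQ.restrictScalars S') _ _
  obtain ⟨n₀, h, hh⟩ := IsLocalization.Away.surj y₀ g₂
  -- `h` represents `g₂`
  have hhP : h ∉ P := fun hhP => by
    have h1 : g₂ * algebraMap S' B y₀ ^ n₀ ∈ P.map (algebraMap S' B) := by
      rw [hh]; exact Ideal.mem_map_of_mem _ hhP
    exact hg₂ (((hPB.mem_or_mem h1).resolve_right fun h2 => by
      rw [← map_pow] at h2
      have h3 : y₀ ^ n₀ ∈ P := by
        rw [← IsLocalization.comap_map_of_isPrime_disjoint (Submonoid.powers y₀) B hP hdisj]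
        exact h2
      exact hj₀ (Ideal.IsPrime.mem_of_pow_mem inferInstance n₀ h3)))
  let g := h * y₀
  have hg : g ∉ P := fun h0 => (hP.mem_or_mem h0).elim hhP hj₀
  choose k v hv using fun i => hQsurj (z i)
  obtain ⟨e, he⟩ := (IsLocalization.Away.algebraMap_isUnit (S := B) y₀).exists_left_inv
  have hgB : algebraMap S' B g = g₂ * algebraMap S' B y₀ ^ (n₀ + 1) := by
    rw [map_mul, ← hh, pow_succ, mul_assoc]
  have hzsmul : ∀ (c : S') i, Q (c • v i) = algebraMap S' B (c * y₀ ^ k i) • z i := fun c i => by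
    rw [map_smul, hv, smul_smul, algebraMap_smul]
  have hPow : FittLib.StrictExists.IsPowBasis g v := by
    refine ⟨fun w => ?_, fun c hc i => ?_⟩
    · obtain ⟨m, hm⟩ := hz1 (Q w)
      rw [Submodule.mem_span_range_iff_exists_fun] at hm
      obtain ⟨b, hb⟩ := hm
      choose b' hb' using fun i => IsLocalization.surj (Submonoid.powers y₀) (b i)
      let b₁ := fun i => (b' i).1
      let b₂ := fun i => (b' i).2
      have hb2 : ∀ i, ∃ l : ℕ, (b₂ i : S') = y₀ ^ l := fun i => ⟨_, (b₂ i).2.choose_spec.symm⟩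
      choose l hl using hb2
      let N := ∑ i, l i + ∑ i, k i
      -- clear denominators
      have hcoef : ∀ i, ∃ c : S', algebraMap S' B (c * y₀ ^ k i) = algebraMap S' B y₀ ^ N * b i := by
        intro i
        have hl' : l i + k i ≤ N :=
          add_le_add (Finset.single_le_sum (fun _ _ => Nat.zero_le _) (Finset.mem_univ i))
            (Finset.single_le_sum (fun _ _ => Nat.zero_le _) (Finset.mem_univ i))
        obtain ⟨d, hd⟩ := Nat.exists_eq_add_of_le hl'
        refine ⟨b₁ i * y₀ ^ d, ?_⟩
        rw [hd, map_mul, map_mul, ← hb' i, hl i, map_pow, map_pow, map_pow]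
        ring
      choose c hc using hcoef
      have hQ : Q (∑ i, c i • v i) =
          algebraMap S' B (y₀ ^ N) • (g₂ ^ m • Q w) := by
        rw [map_sum, ← hb, Finset.smul_sum]
        refine Finset.sum_congr rfl fun i _ => ?_
        rw [hzsmul, hc, smul_smul, map_pow]
      let M₀ := (n₀ + 1) * m + N
      have hQ2 : Q ((h ^ m * y₀ ^ (N + m)) • w - (y₀ ^ ((n₀ + 1) * m)) • ∑ i, c i • v i) = 0 := by
        rw [map_sub, map_smul, map_smul Q (y₀ ^ ((n₀ + 1) * m)), hQ, sub_eq_zero,
          ← algebraMap_smul B (y₀ ^ ((n₀ + 1) * m)), ← algebraMap_smul B (h ^ m * y₀ ^ (N + m)),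
          smul_smul, smul_smul]
        congr 1
        rw [map_mul, map_pow, map_pow, map_pow, map_pow, ← hh]
        ring
      obtain ⟨k', hk'⟩ := hQker _ hQ2
      refine ⟨m + N + k', ?_⟩
      rw [smul_sub, sub_eq_zero] at hk'
      have e1 : g ^ (m + N + k') • w = h ^ (N + k') • (y₀ ^ k' • ((h ^ m * y₀ ^ (N + m)) • w)) := by
        rw [smul_smul, smul_smul]; congr 1; ring
      rw [e1, hk']
      exact Submodule.smul_mem _ _ (Submodule.smul_mem _ _ (Submodule.smul_mem _ _
        (Submodule.sum_mem _ fun i _ => Submodule.smul_mem _ _ (Submodule.subset_span ⟨i, rfl⟩))))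
    · have h0 : ∑ i, algebraMap S' B (c i * y₀ ^ k i) • z i = 0 := by
        rw [← Finset.sum_congr rfl fun i _ => hzsmul (c i) i, ← map_sum, hc, map_zero]
      obtain ⟨m, hm⟩ := hz2 _ h0 i
      have h1 : algebraMap S' B (h ^ m * (c i * y₀ ^ k i)) = 0 := by
        rw [map_mul, map_pow, ← hh, mul_pow]
        calc g₂ ^ m * (algebraMap S' B y₀ ^ n₀) ^ m * algebraMap S' B (c i * y₀ ^ k i)
            = (algebraMap S' B y₀ ^ n₀) ^ m * (g₂ ^ m * algebraMap S' B (c i * y₀ ^ k i)) := by ring
          _ = 0 := by rw [hm, mul_zero]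
      rw [IsLocalization.map_eq_zero_iff (Submonoid.powers y₀)] at h1
      obtain ⟨⟨_, l, rfl⟩, hl⟩ := h1
      refine ⟨m + k i + l, ?_⟩
      simp only at hl
      calc g ^ (m + k i + l) * c i
          = h ^ (k i + l) * y₀ ^ m * (y₀ ^ l * (h ^ m * (c i * y₀ ^ k i))) := by ring
        _ = 0 := by rw [hl, mul_zero]
  obtain ⟨bas⟩ := FittLib.StrictExists.exists_basis g hPow
  have hnt : Nontrivial (Localization.Away g) := by
    refine nontrivial_of_ne 1 0 fun h0 => ?_
    rw [← map_one (algebraMap S' (Localization.Away g)),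
      IsLocalization.map_eq_zero_iff (Submonoid.powers g)] at h0
    obtain ⟨⟨_, n, rfl⟩, hn⟩ := h0
    simp only [mul_one] at hn
    exact hg (Ideal.IsPrime.mem_of_pow_mem inferInstance n (by rw [hn]; exact zero_mem P))
  exact ⟨g, hg, Module.Free.of_basis bas, by rw [rank_eq_card_basis bas, Fintype.card_fin]⟩

end Groth.Agent.S1287
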