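import Groth.Statements.S12881
import Groth.Agent.ExtZShLib.Main

set_option autoImplicit false
universe u
open CategoryTheory CategoryTheory.Limits TopologicalSpace AlgebraicGeometry
open Coherent

namespace Groth.Agent.S12881

/-- Let X be a locally Noetherian scheme, Y a closed subset with open complement U, F and G coherent
O_X-modules, S the support of F and S' the closure of S ∩ U. If for every point x of Y ∩ S' the
depth of the stalk G_x over O_{X,x} is at least n, then ℰxt^i_Y(F, G) is coherent for every i < n.
(Internal Hom of F and injective resolutions of O_X-modules are the stated instance hypotheses, both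
true.) -/
theorem result (X : Scheme.{u}) [IsLocallyNoetherian X] (U : X.Opens)
    (F G : X.Modules) (hF : Coh.IsCoh F) (hG : Coh.IsCoh G) (n : ℕ)
    (hdepth : ∀ x ∈ closure (CohB1.support F ∩ (U : Set X)), x ∉ (U : Set X) →
      (n : ℕ∞) ≤ LocCoh.depth (X.presheaf.stalk x) (G.presheaf.stalk x))
    [ModSite.HasSheafHom (O := X.sheaf) F] [HasInjectiveResolutions (ModSite.Mod X.sheaf)]
    (i : ℕ) (hi : i < n) :
    Coh.IsCoh ((ModSite.extZSh (O := X.sheaf) U F i).obj G) := by
  have hI : HasInjectiveResolutions X.Modules := ‹HasInjectiveResolutions (ModSite.Mod X.sheaf)›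
  let _hq : ModSite.HasSheafHom (O := X.sheaf) (ExtZShLib.quotZ U F) := KFlat.hasSheafHom (O := X.sheaf) _
  refine ExtZShLib.exists_seq U F hF G hG i ?_
  have hQ := ExtZShLib.isCoh_quotZ U F hF
  refine ChiPoly.isZero_of_stalks fun x => ?_
  exact ExtZShLib.subsingleton_stalk_of_depth U hQ hG hi fun y _ hyU hy =>
    hdepth y (ExtZShLib.support_quotZ_subset U F hF hy) hyU

end Groth.Agent.S12881
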