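import Groth.Statements.S12884
import Groth.Agent.ExtZShLib.Main

set_option autoImplicit false
universe u
open CategoryTheory CategoryTheory.Limits TopologicalSpace AlgebraicGeometry
open Coherent

namespace Groth.Agent.S12884

/-- Let X be a locally Noetherian scheme whose local rings are all regular, Y a closed subset with open
complement U, F a coherent O_X-module, P the set of points of Y lying in the closure of (Supp F) ∩
U, and n a natural number which is not the dimension of O_{X,x} for any x in P. Then ℰxt^n_Y(F, O_X)
is coherent. (Internal Hom of F and injective resolutions of O_X-modules are the stated instance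
hypotheses, both true.) -/
theorem result (X : Scheme.{u}) [IsLocallyNoetherian X]
    (hreg : ∀ x : X, IsRegularLocalRing (X.presheaf.stalk x)) (U : X.Opens)
    (F : X.Modules) (hF : Coh.IsCoh F) (n : ℕ)
    (hn : ∀ x ∈ closure (CohB1.support F ∩ (U : Set X)), x ∉ (U : Set X) →
      ringKrullDim (X.presheaf.stalk x) ≠ (n : WithBot ℕ∞))
    [ModSite.HasSheafHom (O := X.sheaf) F] [HasInjectiveResolutions (ModSite.Mod X.sheaf)] :
    Coh.IsCoh ((ModSite.extZSh (O := X.sheaf) U F n).obj (Coh.structureModule X)) := by
  have hI : HasInjectiveResolutions X.Modules := ‹HasInjectiveResolutions (ModSite.Mod X.sheaf)›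
  let _hq : ModSite.HasSheafHom (O := X.sheaf) (ExtZShLib.quotZ U F) := KFlat.hasSheafHom (O := X.sheaf) _
  refine ExtZShLib.exists_seq U F hF _ (ProperFin.isCoh_structureModule X) n ?_
  have hQ := ExtZShLib.isCoh_quotZ U F hF
  refine ChiPoly.isZero_of_stalks fun x => ?_
  exact ExtZShLib.subsingleton_stalk_of_not_mem_dims U _ hQ hreg n
    (fun y hyU hy => hn y (ExtZShLib.support_quotZ_subset U F hF hy) hyU) (CohDev.isClosed_support hQ) x

end Groth.Agent.S12884
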