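import Groth.Statements.S12887
import Groth.Agent.ExtSuppLib.Restrict
import Groth.Agent.ModShf.AcyclicRes
import Groth.Agent.ModShf.Flasque
import Groth.Agent.LocCohZW.SheafM
import Groth.Agent.S6156
import Groth.Agent.ModExt.Basic
-- import your own Groth.Agent.* helpers here

set_option autoImplicit false
universe u
open CategoryTheory CategoryTheory.Limits
open ModSite

namespace Groth.Agent.S12887

/-- On a small ringed site (C, J, O) with O commutative, let X be an object of C, M an O-module and q ≥
0. The formation of the local Ext sheaves ℰxt^q_O(M, -) (right derived functors of the internal Hom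
ℋom_O(M, -)) commutes with localisation: the functor N ↦ ℰxt^q_O(M, N)|_X is isomorphic to N ↦
ℰxt^q_{O|_X}(M|_X, N|_X). (Existence of an isomorphism of functors only. The internal Hom functors
of M and of M|_X and injective resolutions of modules on C and on C/X are the stated instance
hypotheses, all true.) -/
theorem result {C : Type u} [SmallCategory C] {J : GrothendieckTopology C}
    (O : Sheaf J CommRingCat.{u}) (X : C) (M : ModSite.Mod O)
    [ModSite.HasSheafHom M] [ModSite.HasSheafHom ((ModSite.restr O X).obj M)]
    [HasInjectiveResolutions (ModSite.Mod O)] [HasInjectiveResolutions (ModSite.Mod (O.over X))] (q : ℕ) :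
    Nonempty (ModSite.extSh M q ⋙ ModSite.restr O X ≅
      ModSite.restr O X ⋙ ModSite.extSh ((ModSite.restr O X).obj M) q) := by
  let R := ModSite.restr O X
  let H' := ModSite.sheafHom ((ModSite.restr O X).obj M)
  have := Groth.Agent.ExtSuppLib.restr_preservesFiniteColimits O X
  have := Groth.Agent.ExtSuppLib.restr_preservesInjectiveObjects O X
  have hR : R.IsRightAdjoint := (ModSite.extZeroAdj O X).isRightAdjoint
  have hH : H'.IsRightAdjoint := (ModSite.sheafHomAdj _).isRightAdjoint
  have : PreservesFiniteLimits R := inferInstance
  have : PreservesFiniteLimits H' := inferInstance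
  let a₁ := (ModSite.extZeroAdj O X).comp (ModSite.sheafHomAdj M)
  let a₂ := ((ModSite.sheafHomAdj ((ModSite.restr O X).obj M)).comp
    (ModSite.extZeroAdj O X)).ofNatIsoLeft (Groth.Agent.ModExt.projIso O X M)
  exact ⟨(Groth.Agent.ModShf.rightDerivedCompIso (ModSite.sheafHom M) R q).symm ≪≫
    Groth.Agent.ExtSuppLib.rightDerivedMapIso (a₁.rightAdjointUniq a₂) q ≪≫
    Groth.Agent.ModShf.AcyclicRes.compareIso R H'
      (Groth.Agent.LocCohZW.SheafM.goodClass_injective H')
      (fun I _ => R.injective_obj I) q⟩

end Groth.Agent.S12887
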