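import Groth.Statements.S1289
import Groth.Agent.RG.EtCartier
import Groth.Agent.RG.StrictLP
import Groth.Agent.Nagata.Saturate
import Groth.Agent.FlatSect.Basic
import Groth.Agent.FlatOpen.SliceSeq
-- import your own Groth.Agent.* helpers here

set_option autoImplicit false
set_option maxHeartbeats 800000
set_option linter.style.haveILetI false
universe u
open FlatMor

namespace Groth.Agent.S1289

open AlgebraicGeometry CategoryTheory Limits in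
/-- Let S be quasi-compact and quasi-separated, f : X → S a morphism, F a quasi-coherent O_X-module and
U ⊆ S a quasi-compact open. Suppose given finitely many commutative diagrams: quasi-compact étale
e_i : S_i → S jointly covering S, étale j_i : X_i → X jointly covering X, morphisms f_i : X_i → S_i
with j_i ∘ f = f_i ∘ e_i (as maps to S), and blow-ups b_i : S_i* → S_i in finite type ideals
supported away from e_i⁻¹(U) such that every strict transform of j_i^*F on X_i ×_{S_i} S_i* is flat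
over S_i*. Then there is a U-admissible blow-up b : S' → S such that every strict transform of F on
X ×_S S' is flat over S'. -/
theorem result {X S : Scheme.{u}} [CompactSpace S] [QuasiSeparatedSpace S]
    (f : X ⟶ S) (F : X.Modules) (hqc : Coh.IsQCoh F) (U : S.Opens) (hU : IsCompact (U : Set S))
    {k : ℕ} (Si Xi : Fin k → Scheme.{u}) (e : ∀ i, Si i ⟶ S) (j : ∀ i, Xi i ⟶ X) (fi : ∀ i, Xi i ⟶ Si i)
    [∀ i, Etale (e i)] [∀ i, QuasiCompact (e i)] [∀ i, Etale (j i)]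
    (hcovS : ∀ s : S, ∃ i x, (e i).base x = s) (hcovX : ∀ x : X, ∃ i y, (j i).base y = x)
    (hcomm : ∀ i, j i ≫ f = fi i ≫ e i)
    (𝓘 : ∀ i, (Si i).IdealSheafData) (Sst : Fin k → Scheme.{u}) (b : ∀ i, Sst i ⟶ Si i)
    (hb : ∀ i, BlowUp.IsBlowUp (b i) (𝓘 i) ∧ BlowUp.IsAdmissibleFor ((e i) ⁻¹ᵁ U) (𝓘 i))
    (hflat : ∀ i (X' : Scheme.{u}) (p₁ : X' ⟶ Xi i) (p₂ : X' ⟶ Sst i), IsPullback p₁ p₂ (fi i) (b i) →
      ∀ (G : X'.Modules) (π : (Scheme.Modules.pullback p₁).obj ((Scheme.Modules.pullback (j i)).obj F) ⟶ G),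
        BlowUp.IsStrictTransform p₁ ((𝓘 i).comap (fi i)) ((Scheme.Modules.pullback (j i)).obj F) G π → FlatMod.IsFlatOver p₂ G) :
    ∃ (𝓙 : S.IdealSheafData) (S' : Scheme.{u}) (b' : S' ⟶ S), BlowUp.IsBlowUp b' 𝓙 ∧ BlowUp.IsAdmissibleFor U 𝓙 ∧
      ∀ (X' : Scheme.{u}) (p₁ : X' ⟶ X) (p₂ : X' ⟶ S'), IsPullback p₁ p₂ f b' →
      ∀ (G : X'.Modules) (π : (Scheme.Modules.pullback p₁).obj F ⟶ G),
        BlowUp.IsStrictTransform p₁ (𝓙.comap f) F G π → FlatMod.IsFlatOver p₂ G := by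
  haveI : F.IsQuasicoherent := hqc
  obtain ⟨𝓙, S', b', hb', hadm, hsupp, hcart⟩ :=
    RG.EtCartier.exists_cartier U Si e 𝓘 Sst b hb hU
  refine ⟨𝓙, S', b', hb', hadm, fun X' p₁ p₂ hpb G π hG x' => ?_⟩
  obtain ⟨hepi, hkill⟩ := hG
  haveI := QCoh.isQuasicoherent_pullback p₁ F
  have hEG : HTop.IsLocPrincipal ((𝓙.comap f).comap p₁) := RG.StrictSub.isLocPrincipal_exceptional hb' hpb.w
  have hkG : FittLib.StrictSheaf.KillsTorsion π ((𝓙.comap f).comap p₁) := hkill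
  haveI : G.IsQuasicoherent := RG.StrictLP.isQuasicoherent_of_kills hEG hkG
  -- the étale neighbourhood
  obtain ⟨i, yi, hyi⟩ := hcovX (p₁ x')
  obtain ⟨σ, hσ, -⟩ := (hb i).1.2 _ (pullback.fst (e i) b') (hcart i)
  let T : Scheme.{u} := pullback (e i) b'
  let tf : T ⟶ Si i := pullback.fst (e i) b'
  let ts : T ⟶ S' := pullback.snd (e i) b'
  let Xi' := pullback (j i) p₁
  let g₁ : Xi' ⟶ Xi i := pullback.fst (j i) p₁
  let ν : Xi' ⟶ X' := pullback.snd (j i) p₁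
  obtain ⟨y, hy₁, hy₂⟩ := Scheme.Pullback.exists_preimage_pullback (f := j i) (g := p₁) yi x' hyi
  have hw : (g₁ ≫ fi i) ≫ e i = (ν ≫ p₂) ≫ b' := by
    rw [Category.assoc, ← hcomm i, ← Category.assoc, pullback.condition, Category.assoc, Category.assoc, hpb.w]
  let gT : Xi' ⟶ pullback (e i) b' := pullback.lift (g₁ ≫ fi i) (ν ≫ p₂) hw
  have hgT₁ : gT ≫ tf = g₁ ≫ fi i := pullback.lift_fst _ _ _
  have hgT₂ : gT ≫ ts = ν ≫ p₂ := pullback.lift_snd _ _ _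
  have hpbT : IsPullback g₁ gT (fi i) tf := by
    refine IsPullback.of_bot ?_ hgT₁.symm (IsPullback.of_hasPullback (e i) b')
    rw [hgT₂, ← hcomm i]
    exact (IsPullback.of_hasPullback (j i) p₁).paste_vert hpb
  -- the charts
  obtain ⟨R₀, hR₀, -⟩ := IdealSh.Comap.exists_affine_le (f (p₁ x')) ⊤ trivial
  obtain ⟨V, hxV, hV⟩ := IdealSh.Comap.exists_affine_le (p₁ x') (f ⁻¹ᵁ R₀.1) hR₀
  have hbx : b' (p₂ x') = f (p₁ x') := by
    rw [← Scheme.Hom.comp_apply, ← hpb.w, Scheme.Hom.comp_apply]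
  obtain ⟨W, hxW, hW, τ, hτ, hτE⟩ := IdealSh.EffCartier.exists_equation hb'.1 (p₂ x') (b' ⁻¹ᵁ R₀.1)
    (show b' (p₂ x') ∈ R₀.1 by rw [hbx]; exact hR₀)
  obtain ⟨O, hO⟩ : ∃ O, O = p₁ ⁻¹ᵁ V.1 ⊓ p₂ ⁻¹ᵁ W.1 := ⟨_, rfl⟩
  have hOV : O ≤ p₁ ⁻¹ᵁ V.1 := hO.le.trans inf_le_left
  have hOW : O ≤ p₂ ⁻¹ᵁ W.1 := hO.le.trans inf_le_right
  have hOaff : IsAffineOpen O := by
    have : IsAffine R₀.1.toScheme := R₀.2
    have : IsAffine W.1.toScheme := W.2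
    have : IsAffine V.1.toScheme := V.2
    exact .of_isIso (Scheme.Hom.isPullback_resLE hpb hW hV hO).isoPullback.hom
  have hxO : x' ∈ O := by rw [hO]; exact ⟨hxV, hxW⟩
  obtain ⟨Ri, hRi, -⟩ := IdealSh.Comap.exists_affine_le (fi i yi) ⊤ trivial
  obtain ⟨Vi, hyVi, hVi⟩ := IdealSh.Comap.exists_affine_le yi (fi i ⁻¹ᵁ Ri.1 ⊓ j i ⁻¹ᵁ V.1)
    ⟨hRi, show j i yi ∈ V.1 by rw [hyi]; exact hxV⟩
  have hViR : Vi.1 ≤ fi i ⁻¹ᵁ Ri.1 := hVi.trans inf_le_left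
  have hViV : Vi.1 ≤ j i ⁻¹ᵁ V.1 := hVi.trans inf_le_right
  have htR : tf (gT y) = fi i yi := by
    rw [← Scheme.Hom.comp_apply, hgT₁, Scheme.Hom.comp_apply, hy₁]
  have hty : ts (gT y) = p₂ x' := by
    rw [← Scheme.Hom.comp_apply, hgT₂, Scheme.Hom.comp_apply, hy₂]
  obtain ⟨Ws, hsWs, hWs, a, ha, hEa⟩ := IdealSh.EffCartier.exists_equation (hb i).1.1 (σ (gT y)) (b i ⁻¹ᵁ Ri.1)
    (show b i (σ (gT y)) ∈ Ri.1 by
      rw [← Scheme.Hom.comp_apply, hσ]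
      show tf (gT y) ∈ Ri.1
      rw [htR]; exact hRi)
  obtain ⟨WT, htWT, hWT⟩ := IdealSh.Comap.exists_affine_le (gT y) (σ ⁻¹ᵁ Ws.1 ⊓ ts ⁻¹ᵁ W.1)
    ⟨hsWs, show ts (gT y) ∈ W.1 by rw [hty]; exact hxW⟩
  have hWTs : WT.1 ≤ σ ⁻¹ᵁ Ws.1 := hWT.trans inf_le_left
  have hWTW : WT.1 ≤ ts ⁻¹ᵁ W.1 := hWT.trans inf_le_right
  have hWTR : WT.1 ≤ tf ⁻¹ᵁ Ri.1 := by
    show WT.1 ≤ (pullback.fst (e i) b') ⁻¹ᵁ Ri.1
    rw [← hσ, Scheme.Hom.comp_preimage]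
    exact hWTs.trans (σ.preimage_mono hWs)
  obtain ⟨O', hO'⟩ : ∃ O', O' = g₁ ⁻¹ᵁ Vi.1 ⊓ gT ⁻¹ᵁ WT.1 := ⟨_, rfl⟩
  have hO'V : O' ≤ g₁ ⁻¹ᵁ Vi.1 := hO'.le.trans inf_le_left
  have hO'T : O' ≤ gT ⁻¹ᵁ WT.1 := hO'.le.trans inf_le_right
  have hO'aff : IsAffineOpen O' := by
    have : IsAffine Ri.1.toScheme := Ri.2
    have : IsAffine WT.1.toScheme := WT.2
    have : IsAffine Vi.1.toScheme := Vi.2
    exact .of_isIso (Scheme.Hom.isPullback_resLE hpbT hWTR hViR hO').isoPullback.hom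
  have hyO' : y ∈ O' := by rw [hO']; exact ⟨show g₁ y ∈ Vi.1 by rw [hy₁]; exact hyVi, htWT⟩
  have hνO : O' ≤ ν ⁻¹ᵁ O := by
    rw [hO]
    intro z hz
    refine ⟨?_, ?_⟩
    · show p₁ (ν z) ∈ V.1
      rw [← Scheme.Hom.comp_apply, ← pullback.condition, Scheme.Hom.comp_apply]
      exact hViV (hO'V hz)
    · show p₂ (ν z) ∈ W.1
      rw [← Scheme.Hom.comp_apply, ← hgT₂, Scheme.Hom.comp_apply]
      exact hWTW (hO'T hz)
  -- the strict transform on `X_i ×_{S_i} S_i^*`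
  let Xs := pullback (fi i) (b i)
  let q₁ : Xs ⟶ Xi i := pullback.fst (fi i) (b i)
  let q₂ : Xs ⟶ Sst i := pullback.snd (fi i) (b i)
  let Fi := (Scheme.Modules.pullback (j i)).obj F
  haveI : Fi.IsQuasicoherent := QCoh.isQuasicoherent_pullback (j i) F
  let N₁ := (Scheme.Modules.pullback q₁).obj Fi
  haveI : N₁.IsQuasicoherent := QCoh.isQuasicoherent_pullback q₁ Fi
  let Es := ((𝓘 i).comap (fi i)).comap q₁
  have hEsft : BlowUp.IsFiniteTypeIdeal Es :=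
    IdealSh.FinType.comap q₁ (IdealSh.FinType.comap (fi i) (hb i).2.1)
  let Us : Xs.Opens := ⟨(Es.support : Set Xs)ᶜ, Es.support.isClosed.isOpen_compl⟩
  have hks : FittLib.StrictSheaf.KillsTorsion (Nagata.toSat Us N₁) Es :=
    Nagata.killsTorsion_toSat Us N₁ hEsft rfl
  have hfls := hflat i Xs q₁ q₂ (IsPullback.of_hasPullback _ _) (Nagata.sat Us N₁) (Nagata.toSat Us N₁)
    ⟨inferInstance, hks⟩
  have hEs : HTop.IsLocPrincipal Es :=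
    RG.StrictSub.isLocPrincipal_exceptional (hb i).1 (IsPullback.of_hasPullback (fi i) (b i)).w
  haveI : (Nagata.sat Us N₁).IsQuasicoherent := RG.StrictLP.isQuasicoherent_of_kills hEs hks
  obtain ⟨Os, hOs⟩ : ∃ Os, Os = q₁ ⁻¹ᵁ Vi.1 ⊓ q₂ ⁻¹ᵁ Ws.1 := ⟨_, rfl⟩
  have hOsV : Os ≤ q₁ ⁻¹ᵁ Vi.1 := hOs.le.trans inf_le_left
  have hOsW : Os ≤ q₂ ⁻¹ᵁ Ws.1 := hOs.le.trans inf_le_right
  have hOsaff : IsAffineOpen Os := by
    have : IsAffine Ri.1.toScheme := Ri.2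
    have : IsAffine Ws.1.toScheme := Ws.2
    have : IsAffine Vi.1.toScheme := Vi.2
    exact .of_isIso (Scheme.Hom.isPullback_resLE (IsPullback.of_hasPullback (fi i) (b i)) hWs hViR hOs).isoPullback.hom
  let C₀ := q₂.appLE Ws.1 Os hOsW a
  have hcs : Es.ideal ⟨Os, hOsaff⟩ = Ideal.span {C₀} := by
    show (((𝓘 i).comap (fi i)).comap q₁).ideal _ = _
    rw [← Scheme.IdealSheafData.comap_comp, pullback.condition, Scheme.IdealSheafData.comap_comp]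
    exact IdealSh.Comap.ideal_comap_span_singleton _ q₂ Ws ⟨Os, hOsaff⟩ hOsW hEa
  obtain ⟨εs⟩ := RG.StrictLP.nonempty_sections hEs hks hcs
  have hflsec := FlatSect.flat_sections_of_isFlatOverAt q₂ Ws.2 hOsaff hOsW (Nagata.sat Us N₁)
    fun z _ => hfls z
  -- the map to that chart
  let μ : Xi' ⟶ Xs := pullback.lift g₁ (gT ≫ σ) (by rw [Category.assoc, hσ]; exact hgT₁.symm)
  have hμ₁ : μ ≫ q₁ = g₁ := pullback.lift_fst _ _ _
  have hμ₂ : μ ≫ q₂ = gT ≫ σ := pullback.lift_snd _ _ _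
  have hμO : O' ≤ μ ⁻¹ᵁ Os := by
    rw [hOs]
    intro z hz
    refine ⟨?_, ?_⟩
    · show q₁ (μ z) ∈ Vi.1
      rw [← Scheme.Hom.comp_apply, hμ₁]; exact hO'V hz
    · show q₂ (μ z) ∈ Ws.1
      rw [← Scheme.Hom.comp_apply, hμ₂]; exact hWTs (hO'T hz)
  have hμpb : IsPullback μ gT q₂ σ := by
    refine IsPullback.of_right ?_ hμ₂ (IsPullback.of_hasPullback (fi i) (b i))
    rw [hμ₁, hσ]
    exact hpbT
  have hO'eq : O' = μ ⁻¹ᵁ Os ⊓ gT ⁻¹ᵁ WT.1 := by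
    refine le_antisymm (le_inf hμO hO'T) ?_
    rw [hO', hOs, Scheme.Hom.preimage_inf, ← Scheme.Hom.comp_preimage, hμ₁]
    exact inf_le_inf_right _ inf_le_left
  have hpush : IsPushout (q₂.appLE Ws.1 Os hOsW) (σ.appLE Ws.1 WT.1 hWTs) (μ.appLE Os O' hμO)
      (gT.appLE WT.1 O' hO'T) :=
    (isIso_pushoutSection_iff hμpb hWTs hOsW hO'eq).mp
      (isIso_pushoutSection_of_isAffineOpen hμpb hWTs hOsW hO'eq Ws.2 WT.2 hOsaff)
  -- algebra structures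
  letI : Algebra Γ(X, V.1) Γ(X', O) := (p₁.appLE V.1 O hOV).hom.toAlgebra
  letI : Algebra Γ(X, V.1) Γ(Xi i, Vi.1) := ((j i).appLE V.1 Vi.1 hViV).hom.toAlgebra
  letI : Algebra Γ(Xi i, Vi.1) Γ(Xs, Os) := (q₁.appLE Vi.1 Os hOsV).hom.toAlgebra
  letI : Algebra Γ(X, V.1) Γ(Xs, Os) :=
    ((q₁.appLE Vi.1 Os hOsV).hom.comp ((j i).appLE V.1 Vi.1 hViV).hom).toAlgebra
  haveI : IsScalarTower Γ(X, V.1) Γ(Xi i, Vi.1) Γ(Xs, Os) := .of_algebraMap_eq' rfl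
  letI : Algebra Γ(X', O) Γ(Xi', O') := (ν.appLE O O' hνO).hom.toAlgebra
  letI : Algebra Γ(Xs, Os) Γ(Xi', O') := (μ.appLE Os O' hμO).hom.toAlgebra
  letI : Algebra Γ(X, V.1) Γ(Xi', O') :=
    ((ν.appLE O O' hνO).hom.comp (p₁.appLE V.1 O hOV).hom).toAlgebra
  haveI : IsScalarTower Γ(X, V.1) Γ(X', O) Γ(Xi', O') := .of_algebraMap_eq' rfl
  haveI : IsScalarTower Γ(X, V.1) Γ(Xs, Os) Γ(Xi', O') := .of_algebraMap_eq fun z => by
    show ν.appLE O O' hνO (p₁.appLE V.1 O hOV z) = μ.appLE Os O' hμO (q₁.appLE Vi.1 Os hOsV ((j i).appLE V.1 Vi.1 hViV z))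
    simp only [← CommRingCat.comp_apply, Category.assoc, Scheme.Hom.appLE_comp_appLE]
    simp only [reassoc_of% hμ₁, show ν ≫ p₁ = g₁ ≫ j i from pullback.condition.symm]
  letI : Algebra Γ(Sst i, Ws.1) Γ(T, WT.1) := (σ.appLE Ws.1 WT.1 hWTs).hom.toAlgebra
  letI : Algebra Γ(Sst i, Ws.1) Γ(Xs, Os) := (q₂.appLE Ws.1 Os hOsW).hom.toAlgebra
  letI : Algebra Γ(T, WT.1) Γ(Xi', O') := (gT.appLE WT.1 O' hO'T).hom.toAlgebra
  letI : Algebra Γ(Sst i, Ws.1) Γ(Xi', O') :=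
    ((gT.appLE WT.1 O' hO'T).hom.comp (σ.appLE Ws.1 WT.1 hWTs).hom).toAlgebra
  haveI : IsScalarTower Γ(Sst i, Ws.1) Γ(T, WT.1) Γ(Xi', O') := .of_algebraMap_eq' rfl
  haveI : IsScalarTower Γ(Sst i, Ws.1) Γ(Xs, Os) Γ(Xi', O') :=
    .of_algebraMap_eq' congr($(hpush.w).hom).symm
  haveI : Algebra.IsPushout Γ(Sst i, Ws.1) Γ(T, WT.1) Γ(Xs, Os) Γ(Xi', O') :=
    CommRingCat.isPushout_iff_isPushout.mp hpush.flip
  letI : Algebra Γ(S', W.1) Γ(T, WT.1) := (ts.appLE W.1 WT.1 hWTW).hom.toAlgebra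
  letI : Algebra Γ(S', W.1) Γ(X', O) := (p₂.appLE W.1 O hOW).hom.toAlgebra
  letI : Algebra Γ(S', W.1) Γ(Xi', O') :=
    ((ν.appLE O O' hνO).hom.comp (p₂.appLE W.1 O hOW).hom).toAlgebra
  haveI : IsScalarTower Γ(S', W.1) Γ(X', O) Γ(Xi', O') := .of_algebraMap_eq' rfl
  haveI : IsScalarTower Γ(S', W.1) Γ(T, WT.1) Γ(Xi', O') := .of_algebraMap_eq fun z => by
    show ν.appLE O O' hνO (p₂.appLE W.1 O hOW z) = gT.appLE WT.1 O' hO'T (ts.appLE W.1 WT.1 hWTW z)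
    simp only [← CommRingCat.comp_apply, Scheme.Hom.appLE_comp_appLE, hgT₂]
  haveI : Module.Flat Γ(S', W.1) Γ(T, WT.1) :=
    HasRingHomProperty.appLE (P := @Flat) ts inferInstance W WT hWTW
  haveI : Module.Flat Γ(X', O) Γ(Xi', O') :=
    HasRingHomProperty.appLE (P := @Flat) ν inferInstance ⟨O, hOaff⟩ ⟨O', hO'aff⟩ hνO
  -- the modules
  let N := (Scheme.Modules.pullback p₁).obj F
  letI := LimTop.secModule p₁ F hOV
  haveI : IsScalarTower Γ(X, V.1) Γ(X', O) Γ(N, O) := IsScalarTower.of_algebraMap_smul fun _ _ => rfl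
  letI : Module Γ(S', W.1) Γ(N, O) := Module.compHom _ (p₂.appLE W.1 O hOW).hom
  haveI : IsScalarTower Γ(S', W.1) Γ(X', O) Γ(N, O) := IsScalarTower.of_algebraMap_smul fun _ _ => rfl
  letI := LimTop.secModule (j i) F hViV
  haveI : IsScalarTower Γ(X, V.1) Γ(Xi i, Vi.1) Γ(Fi, Vi.1) := IsScalarTower.of_algebraMap_smul fun _ _ => rfl
  letI := LimTop.secModule q₁ Fi hOsV
  haveI : IsScalarTower Γ(Xi i, Vi.1) Γ(Xs, Os) Γ(N₁, Os) := IsScalarTower.of_algebraMap_smul fun _ _ => rfl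
  letI : Module Γ(X, V.1) Γ(N₁, Os) := Module.compHom _ (algebraMap Γ(X, V.1) Γ(Xs, Os))
  haveI : IsScalarTower Γ(X, V.1) Γ(Xs, Os) Γ(N₁, Os) := IsScalarTower.of_algebraMap_smul fun _ _ => rfl
  haveI : IsScalarTower Γ(X, V.1) Γ(Xi i, Vi.1) Γ(N₁, Os) := IsScalarTower.of_algebraMap_smul fun _ _ => rfl
  letI : Module Γ(Sst i, Ws.1) Γ(N₁, Os) := Module.compHom _ (q₂.appLE Ws.1 Os hOsW).hom
  haveI : IsScalarTower Γ(Sst i, Ws.1) Γ(Xs, Os) Γ(N₁, Os) := IsScalarTower.of_algebraMap_smul fun _ _ => rfl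
  letI : Module Γ(Sst i, Ws.1) Γ(Nagata.sat Us N₁, Os) := Module.compHom _ (q₂.appLE Ws.1 Os hOsW).hom
  haveI : IsScalarTower Γ(Sst i, Ws.1) Γ(Xs, Os) Γ(Nagata.sat Us N₁, Os) :=
    IsScalarTower.of_algebraMap_smul fun _ _ => rfl
  haveI : Module.Flat Γ(Sst i, Ws.1) (Γ(N₁, Os) ⧸ FlatCA.powTorsion Γ(Xs, Os) C₀ Γ(N₁, Os)) := by
    haveI : Module.Flat Γ(Sst i, Ws.1) Γ(Nagata.sat Us N₁, Os) := hflsec
    exact Module.Flat.of_linearEquiv (εs.restrictScalars Γ(Sst i, Ws.1))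
  -- the equations
  have hτT : algebraMap Γ(S', W.1) Γ(T, WT.1) τ ∈ nonZeroDivisors _ :=
    IdealSh.EffCartier.map_mem_nonZeroDivisors_of_flat _
      (HasRingHomProperty.appLE (P := @Flat) ts inferInstance W WT hWTW) hτ
  let a' := σ.appLE Ws.1 WT.1 hWTs a
  let τ' := ts.appLE W.1 WT.1 hWTW τ
  have hbo : T.basicOpen τ' ≤ T.basicOpen a' := by
    intro z hz
    rw [← SetLike.mem_coe, IdealSh.Regular.basicOpen_eq_compl_support
      (IdealSh.Comap.ideal_comap_span_singleton (𝓙.comap b') ts W WT hWTW hτE)] at hz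
    rw [← SetLike.mem_coe, IdealSh.Regular.basicOpen_eq_compl_support
      (IdealSh.Comap.ideal_comap_span_singleton ((𝓘 i).comap (b i)) σ Ws WT hWTs hEa)]
    refine ⟨hz.1, fun hs => hz.2 ?_⟩
    rw [← Scheme.IdealSheafData.comap_comp, hσ, Scheme.IdealSheafData.support_comap] at hs
    rw [← Scheme.IdealSheafData.comap_comp, Scheme.IdealSheafData.support_comap]
    show (ts ≫ b') z ∈ (𝓙.support : Set S)
    rw [hsupp]
    intro hzU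
    refine Set.disjoint_left.1 (hb i).2.2 hs ?_
    show e i (tf z) ∈ U
    rw [← Scheme.Hom.comp_apply, pullback.condition]
    exact hzU
  obtain ⟨n, hn⟩ := RG.FlatMain.exists_dvd_pow WT a' τ' hbo
  have hdvd : algebraMap Γ(Xs, Os) Γ(Xi', O') C₀ ∣ algebraMap Γ(S', W.1) Γ(Xi', O') τ ^ n := by
    rw [show C₀ = algebraMap Γ(Sst i, Ws.1) Γ(Xs, Os) a from rfl,
      ← IsScalarTower.algebraMap_apply Γ(Sst i, Ws.1) Γ(Xs, Os) Γ(Xi', O'),
      IsScalarTower.algebraMap_apply Γ(Sst i, Ws.1) Γ(T, WT.1) Γ(Xi', O'),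
      IsScalarTower.algebraMap_apply Γ(S', W.1) Γ(T, WT.1) Γ(Xi', O'), ← map_pow]
    exact map_dvd _ hn
  -- flatness at the prime of the point
  let q' := (hO'aff.primeIdealOf ⟨y, hyO'⟩).asIdeal
  have hmain := RG.EtFlat.flatAt_main (A' := Γ(S', W.1)) (AT := Γ(T, WT.1))
    (As := Γ(Sst i, Ws.1)) (B₀ := Γ(X, V.1)) (B := Γ(X', O)) (Bs := Γ(Xs, Os)) (B' := Γ(Xi', O'))
    (LimTop.isBaseChange_unitSec p₁ F hOV V.2 hOaff)
    ((LimTop.isBaseChange_unitSec (j i) F hViV V.2 Vi.2).comp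
      (LimTop.isBaseChange_unitSec q₁ Fi hOsV Vi.2 hOsaff))
    τ hτT C₀ n hdvd q'
  have hq : q'.comap (algebraMap Γ(X', O) Γ(Xi', O')) = (hOaff.primeIdealOf ⟨x', hxO⟩).asIdeal := by
    ext z
    rw [Ideal.mem_comap, ← not_iff_not, ← AssSch.Stalk.mem_basicOpen_iff hO'aff y hyO',
      ← AssSch.Stalk.mem_basicOpen_iff hOaff x' hxO]
    show y ∈ Xi'.basicOpen (ν.appLE O O' hνO z) ↔ _
    rw [Scheme.basicOpen_appLE, ← hy₂]
    exact ⟨fun h => h.2, fun h => ⟨hyO', h⟩⟩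
  simp only [hq] at hmain
  have hc : ((𝓙.comap f).comap p₁).ideal ⟨O, hOaff⟩ = Ideal.span {algebraMap Γ(S', W.1) Γ(X', O) τ} := by
    rw [← Scheme.IdealSheafData.comap_comp, hpb.w, Scheme.IdealSheafData.comap_comp]
    exact IdealSh.Comap.ideal_comap_span_singleton _ p₂ W ⟨O, hOaff⟩ hOW hτE
  obtain ⟨εG⟩ := RG.StrictLP.nonempty_sections hEG hkG hc
  letI : Module Γ(S', W.1) Γ(G, O) := Module.compHom _ (p₂.appLE W.1 O hOW).hom
  haveI : IsScalarTower Γ(S', W.1) Γ(X', O) Γ(G, O) := IsScalarTower.of_algebraMap_smul fun _ _ => rfl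
  exact (FlatOpen.Scheme.isFlatOverAt_iff p₂ W.2 hOaff hOW x' hxO G).2
    (FlatOpen.flatAt_of_linearEquiv _ εG hmain)

end Groth.Agent.S1289
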