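import Groth.Statements.S12890
import Groth.Agent.ModSupp.Subterminal
import Groth.Agent.ModSupp.Derived
import Groth.Agent.ExtSuppLib.Restrict
import Groth.Agent.ModExt.Basic
import Groth.Agent.LocCohZW.SheafM
import Groth.Agent.LocCohZW.FunSeq
-- import your own Groth.Agent.* helpers here

set_option autoImplicit false
universe u
open CategoryTheory CategoryTheory.Limits
open ModSite

namespace Groth.Agent.S12890

/-- On a small ringed site (C, J, O) with O commutative, let U be a subterminal object (every object has
at most one morphism to U), Z its closed complement and j_{U*} the direct image of modules along the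
localisation C/U → C. Then ℋ^1_Z is isomorphic to the cokernel of the unit M → j_{U*}(M|_U) (so that
0 → ℋ^0_Z(M) → M → j_{U*}(M|_U) → ℋ^1_Z(M) → 0 is exact), and for every q ≥ 1 the functor ℋ^{q+1}_Z
is isomorphic to M ↦ R^q j_{U*}(M|_U). (Existence of isomorphisms of functors only. The direct image
j_{U*} with its additivity and injective resolutions of modules on C and on C/U are the stated
instance hypotheses, all true.) -/
theorem result {C : Type u} [SmallCategory C] {J : GrothendieckTopology C}
    (O : Sheaf J CommRingCat.{u}) (U : C)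
    (hU : ∀ V : C, Subsingleton (V ⟶ U)) [ModSite.HasPushOver O U] [(ModSite.pushOver O U).Additive]
    [HasInjectiveResolutions (ModSite.Mod O)] [HasInjectiveResolutions (ModSite.Mod (O.over U))] :
    Nonempty (ModSite.HZsh O U 1 ≅ cokernel (ModSite.restrPushOverAdj O U).unit) ∧
      ∀ q : ℕ, 1 ≤ q →
        Nonempty (ModSite.HZsh O U (q + 1) ≅ ModSite.restr O U ⋙ (ModSite.pushOver O U).rightDerived q) := by
  have := hU
  let R := ModSite.restr O U
  let P := ModSite.pushOver O U
  let η := (ModSite.restrPushOverAdj O U).unit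
  have := Groth.Agent.ExtSuppLib.restr_preservesFiniteColimits O U
  have := Groth.Agent.ExtSuppLib.restr_preservesInjectiveObjects O U
  have : R.IsRightAdjoint := (ModSite.extZeroAdj O U).isRightAdjoint
  have : P.IsRightAdjoint := (ModSite.restrPushOverAdj O U).isRightAdjoint
  have : PreservesFiniteLimits R := inferInstance
  have : PreservesFiniteLimits P := inferInstance
  have := Groth.Agent.ModSupp.preservesFiniteLimits_sectOn (O := O) U
  have h2 : ∀ (n : ℕ) (M : ModSite.Mod O), IsZero (((𝟭 (ModSite.Mod O)).rightDerived (n + 1)).obj M) :=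
    fun n M => Groth.Agent.ModSupp.isZero_rightDerived_of_goodClass (𝟭 (ModSite.Mod O)) (Q := fun _ => True)
      { of_injective := fun _ _ => trivial, coker := fun _ _ _ _ => trivial,
        epi := fun S hS _ => hS.epi_g } n M trivial
  have hse := fun (Q : ModSite.Mod O) (hQ : Injective Q) =>
    Groth.Agent.ModSupp.shortExact_of_acyclic U Q (Groth.Agent.ModSupp.acyclicMod_of_injective Q hQ)
  refine ⟨?_, fun q hq => ?_⟩
  · obtain ⟨e⟩ := Groth.Agent.LocCohZW.FunSeq.nonempty_cokernel_iso (ModSite.sectOnι O U) η
      (Groth.Agent.ModSupp.sectOnι_unit U) hse 0 (h2 0)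
    exact ⟨(Groth.Agent.LocCohZW.FunSeq.cokernelZeroIso η ≪≫ e).symm⟩
  · obtain ⟨n, rfl⟩ : ∃ n, q = n + 1 := ⟨q - 1, by omega⟩
    obtain ⟨e⟩ := Groth.Agent.LocCohZW.FunSeq.nonempty_δ_iso (ModSite.sectOnι O U) η
      (Groth.Agent.ModSupp.sectOnι_unit U) hse (n + 1) (h2 n) (h2 (n + 1))
    exact ⟨e.symm ≪≫ Groth.Agent.ModShf.AcyclicRes.compareIso R P
      (Groth.Agent.LocCohZW.SheafM.goodClass_injective P) (fun I _ => R.injective_obj I) (n + 1)⟩

end Groth.Agent.S12890
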