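import Groth.Statements.S6160
import Groth.Agent.ModShf.ToSheaf
import Groth.Agent.ModShf.GrothAb

set_option autoImplicit false
universe u
open CategoryTheory
open ModSite

namespace Groth.Agent.S6160

open CategoryTheory.Limits in
/-- Ringed topos of sheaves on a small site; u : A -> B a morphism of sheaves of rings: the
restriction-of-scalars functor from B-Modules to A-Modules commutes with all u-small limits and
colimits and is conservative. -/
theorem result {C : Type u} [SmallCategory C]
    {J : GrothendieckTopology C} {A B : Sheaf J RingCat.{u}} (φ : A ⟶ B) :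
    PreservesLimitsOfSize.{u, u} (SheafOfModules.restrictScalars.{u} φ) ∧
    PreservesColimitsOfSize.{u, u} (SheafOfModules.restrictScalars.{u} φ) ∧
    (SheafOfModules.restrictScalars.{u} φ).ReflectsIsomorphisms := by
  have hiso : (SheafOfModules.restrictScalars.{u} φ).ReflectsIsomorphisms := by
    refine ⟨fun {M N} f _ => ?_⟩
    have : IsIso ((SheafOfModules.toSheaf A).map ((SheafOfModules.restrictScalars.{u} φ).map f)) :=
      inferInstance
    have : IsIso ((SheafOfModules.toSheaf B).map f) := this
    exact isIso_of_reflects_iso f (SheafOfModules.toSheaf B)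
  refine ⟨?_, ?_, hiso⟩
  · refine ⟨fun {K} _ => ?_⟩
    have hlim : ∀ (R : Sheaf J RingCat.{u}), PreservesLimitsOfShape K (SheafOfModules.toSheaf.{u} R) := fun R => by
      have : PreservesLimitsOfShape K (SheafOfModules.toSheaf.{u} R ⋙ sheafToPresheaf _ _) :=
        inferInstanceAs (PreservesLimitsOfShape K
          (SheafOfModules.forget.{u} R ⋙ PresheafOfModules.toPresheaf R.obj))
      exact preservesLimitsOfShape_of_reflects_of_preserves _ (sheafToPresheaf J AddCommGrpCat.{u})
    have := hlim B
    have := hlim A
    have : PreservesLimitsOfShape K (SheafOfModules.restrictScalars.{u} φ ⋙ SheafOfModules.toSheaf A) :=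
      inferInstanceAs (PreservesLimitsOfShape K (SheafOfModules.toSheaf B))
    have : ReflectsLimitsOfShape K (SheafOfModules.toSheaf A) :=
      reflectsLimitsOfShape_of_reflectsIsomorphisms
    exact preservesLimitsOfShape_of_reflects_of_preserves _ (SheafOfModules.toSheaf A)
  · refine ⟨fun {K} _ => ?_⟩
    have : PreservesColimitsOfShape K (SheafOfModules.restrictScalars.{u} φ ⋙ SheafOfModules.toSheaf A) :=
      inferInstanceAs (PreservesColimitsOfShape K (SheafOfModules.toSheaf B))
    have : ReflectsColimitsOfShape K (SheafOfModules.toSheaf A) :=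
      reflectsColimitsOfShape_of_reflectsIsomorphisms
    exact preservesColimitsOfShape_of_reflects_of_preserves _ (SheafOfModules.toSheaf A)

end Groth.Agent.S6160
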