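import Groth.Statements.S12892
import Groth.Agent.ModSupp.Scalars
import Groth.Agent.ModSupp.Derived
import Groth.Agent.ExtSuppLib.Main
import Groth.Agent.ModShf.Flasque
import Groth.Agent.S6160
-- import your own Groth.Agent.* helpers here

set_option autoImplicit false
universe u
open CategoryTheory CategoryTheory.Limits
open ModSite

namespace Groth.Agent.S12892

/-- On a small site (C, J), let φ : O → O' be a morphism of commutative structure sheaves, U an object
with Z the closed complement of the open it generates, and q ≥ 0. The local cohomology sheaf
functors ℋ^q_Z (right derived functors of sections with support) commute with restriction of scalars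
along φ: the composite of ℋ^q_Z on O'-modules with restriction of scalars is isomorphic to
restriction of scalars followed by ℋ^q_Z on O-modules. (Existence of an isomorphism of functors
only. The direct images along the localisation at U and injective resolutions of O- and O'-modules
are the stated instance hypotheses, all true.) -/
theorem result {C : Type u} [SmallCategory C] {J : GrothendieckTopology C}
    {O O' : Sheaf J CommRingCat.{u}} (φ : O ⟶ O') (U : C)
    [ModSite.HasPushOver O U] [ModSite.HasPushOver O' U]
    [HasInjectiveResolutions (ModSite.Mod O)] [HasInjectiveResolutions (ModSite.Mod O')] (q : ℕ) :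
    Nonempty (ModSite.HZsh O' U q ⋙
        SheafOfModules.restrictScalars ((sheafCompose J (forget₂ CommRingCat.{u} RingCat.{u})).map φ) ≅
      SheafOfModules.restrictScalars ((sheafCompose J (forget₂ CommRingCat.{u} RingCat.{u})).map φ) ⋙
        ModSite.HZsh O U q) := by
  let R := Groth.Agent.ModSupp.res φ
  obtain ⟨hl, hc, -⟩ := Groth.Agent.S6160.result ((sheafCompose J (forget₂ CommRingCat.{u} RingCat.{u})).map φ)
  have : PreservesFiniteLimits R := PreservesLimitsOfSize.preservesFiniteLimits R
  have : PreservesFiniteColimits R := PreservesColimitsOfSize.preservesFiniteColimits R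
  have : PreservesFiniteLimits (ModSite.sectOn O U) := Groth.Agent.ModSupp.preservesFiniteLimits_sectOn U
  exact ⟨(Groth.Agent.ModShf.rightDerivedCompIso (ModSite.sectOn O' U) R q).symm ≪≫
    Groth.Agent.ExtSuppLib.rightDerivedMapIso (Groth.Agent.ModSupp.scalSectIso φ U) q ≪≫
    Groth.Agent.ModShf.AcyclicRes.compareIso R (ModSite.sectOn O U)
      (Groth.Agent.ModSupp.goodClass_sectOn U)
      (fun I hI => Groth.Agent.ModSupp.acyclicMod_of_injective I hI) q⟩

end Groth.Agent.S12892
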