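import Groth.Statements.S12893
import Groth.Agent.ModSupp.Hom
-- import your own Groth.Agent.* helpers here

set_option autoImplicit false
universe u
open CategoryTheory CategoryTheory.Limits
open ModSite

namespace Groth.Agent.S12893

/-- On a small ringed site (C, J, O) with O commutative, let U be an object with Z the closed complement
of the open it generates, M an O-module, Γ_Z the sections-with-support functor (kernel of N →
j_{U*}(N|_U)) and M_Z the cokernel of j_{U!}(M|_U) → M. Then the functors N ↦ Γ_Z(ℋom_O(M, N)), N ↦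
ℋom_O(M, Γ_Z(N)) and N ↦ ℋom_O(M_Z, N) are isomorphic. (Existence of isomorphisms of functors only.
The direct image along the localisation at U and the internal Hom functors of M and of M_Z are the
stated instance hypotheses, all true.) -/
theorem result {C : Type u} [SmallCategory C] {J : GrothendieckTopology C}
    (O : Sheaf J CommRingCat.{u}) (U : C) (M : ModSite.Mod O)
    [ModSite.HasPushOver O U] [ModSite.HasSheafHom M] [ModSite.HasSheafHom ((ModSite.quotOn O U).obj M)] :
    Nonempty (ModSite.sheafHom M ⋙ ModSite.sectOn O U ≅ ModSite.sectOn O U ⋙ ModSite.sheafHom M) ∧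
      Nonempty (ModSite.sheafHom M ⋙ ModSite.sectOn O U ≅ ModSite.sheafHom ((ModSite.quotOn O U).obj M)) := by
  let T := (ModSite.tensorBi O).flip.obj M
  have : T.Additive := Groth.Agent.KFlat.additive_tensorBi_flip_obj (O := O) M
  have : PreservesFiniteColimits T := PreservesColimitsOfSize.preservesFiniteColimits T
  let e := Groth.Agent.ModSupp.quotCommIso U T (fun A h => Groth.Agent.ModSupp.preservesNull_flip U M A h)
    (fun X => Groth.Agent.ModSupp.extZero_flip U M X)
  let aQ := Groth.Agent.ExtSuppLib.quotSectAdj (O := O) U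
  let a₁ := aQ.comp (ModSite.sheafHomAdj M)
  let a₂ := ((ModSite.sheafHomAdj M).comp aQ).ofNatIsoLeft e
  let a₃ := (ModSite.sheafHomAdj ((ModSite.quotOn O U).obj M)).ofNatIsoLeft
    (Groth.Agent.ModSupp.quotTensorIso U M).symm
  exact ⟨⟨a₁.rightAdjointUniq a₂⟩,
    ⟨a₁.rightAdjointUniq a₂ ≪≫ ((ModSite.sheafHomAdj M).comp aQ).rightAdjointUniq a₃⟩⟩

end Groth.Agent.S12893
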