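import Groth.Statements.S12901
import Groth.Agent.S0056
import Groth.Agent.LiftLib.AdicPic
import Groth.Agent.Adic.AdicHom
import Groth.Agent.Adic.IdealSpec

set_option autoImplicit false
set_option linter.style.haveILetI false
set_option backward.isDefEq.respectTransparency false
set_option backward.isDefEq.respectTransparency.types false
universe u
open CategoryTheory AlgebraicGeometry
open FSch

namespace Groth.Agent.S12901

open AlgebraicGeometry CategoryTheory CategoryTheory.Limits Groth.Agent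

theorem ker_specQuot {A : Type u} [CommRing A] (I : Ideal A) (n : ℕ) :
    (CohB1.specQuot I n).ker = FSch.idealSpec A I ^ (n + 1) := by
  refine Scheme.IdealSheafData.ext_of_isAffine ?_
  rw [Scheme.IdealSheafData.ideal_pow, Pi.pow_apply, CohB1.specQuot, Adic.IdealSpec.ker_Spec_map_eq,
    Ideal.mk_ker, Adic.IdealSpec.ideal_idealSpec_top]
  apply Adic.IdealSpec.eq_of_map_gEquiv
  rw [Ideal.map_pow, Adic.IdealSpec.map_gEquiv, Adic.IdealSpec.map_gEquiv]

theorem exists_baseIso {A : Type u} [CommRing A] (I : Ideal A) (n : ℕ) :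
    ∃ c : (FSch.completionAlong (Spec (CommRingCat.of A)) (FSch.idealSpec A I)).X n ≅
        Spec (CommRingCat.of (A ⧸ I ^ (n + 1))),
      c.hom ≫ CohB1.specQuot I n = FSch.completionToX (Spec (CommRingCat.of A)) (FSch.idealSpec A I) n := by
  haveI : IsClosedImmersion (CohB1.specQuot I n) :=
    IsClosedImmersion.spec_of_surjective _ Ideal.Quotient.mk_surjective
  let ι := FSch.completionToX (Spec (CommRingCat.of A)) (FSch.idealSpec A I) n
  have hk : (CohB1.specQuot I n).ker = ι.ker := by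
    rw [ker_specQuot, Scheme.IdealSheafData.ker_subschemeι]
  haveI := IsClosedImmersion.isIso_lift (CohB1.specQuot I n) ι hk
  exact ⟨asIso (IsClosedImmersion.lift (CohB1.specQuot I n) ι hk.le), IsClosedImmersion.lift_fac _ _ _⟩

variable {A : Type u} [CommRing A] [IsLocalRing A] [IsNoetherianRing A] {Xs : ℕ → Scheme.{u}}
  {fs : ∀ n : ℕ, Xs n ⟶ Spec (CommRingCat.of (A ⧸ IsLocalRing.maximalIdeal A ^ (n + 1)))}
  {ts : ∀ n : ℕ, Xs n ⟶ Xs (n + 1)}

theorem exists_lift_step
    (hcart : ∀ n : ℕ, IsPullback (ts n) (fs n) (fs (n + 1))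
      (Spec.map (CommRingCat.ofHom (LiftLib.fac A (Nat.le_succ (n + 1))))))
    (hflat : ∀ n, Flat (fs n)) [(Xs 0).IsSeparated]
    (h2 : Subsingleton (Coh.HH (Xs 0) (Coh.structureModule (Xs 0)) 2)) (n : ℕ) (L : (Xs n).Modules)
    (hL : PicF.IsInvertible L) :
    ∃ L' : (Xs (n + 1)).Modules, PicF.IsInvertible L' ∧
      Nonempty ((Scheme.Modules.pullback (ts n)).obj L' ≅ L) := by
  obtain ⟨r, z, hsp, hsq⟩ := LiftLib.exists_step hcart hflat n
  haveI := LiftLib.isClosedImmersion_fromZero hcart (n + 1)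
  haveI := LiftLib.isClosedImmersion_step hcart n
  haveI := LiftLib.isSeparated_level hcart hflat (n + 1)
  obtain ⟨L', hL', hiso⟩ := LiftLib.PicPrim.exists_lift (ts n).ker hsq
    (LiftLib.hasPrim_one (LiftLib.fromZero ts (n + 1)) hsp h2)
    ((Scheme.Modules.pullback (inv (ts n).toImage)).obj L) (PicCl.isInvertible_pullback _ hL)
  exact ⟨L', hL', (LiftLib.nonempty_pullback_iso (ts n) L' L).mp hiso⟩


/-- Let A be a complete Noetherian local ring with maximal ideal m, and 𝔛 a formal scheme proper and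
flat over A, presented as an adic system X_0 → X_1 → ⋯ over the thickenings Spec(A/m^{n+1}) (the
structure morphism is adic with proper level 0, and every level X_n → Spec(A/m^{n+1}) is flat). If
X_0 is projective (it carries an ample invertible sheaf) and H^2(X_0, O_{X_0}) = 0, then 𝔛 is the
m-adic completion of a projective A-scheme: there are a proper A-scheme X carrying an ample
invertible sheaf and an isomorphism of systems, over the base, between 𝔛 and the completion of X
along the pulled-back ideal. -/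
theorem result (A : Type u) [CommRing A] [IsLocalRing A]
    [IsNoetherianRing A] [IsAdicComplete (IsLocalRing.maximalIdeal A) A]
    (𝔛 : FSch.Sys.{u}) (f : 𝔛 ⟶ FSch.completionAlong (Spec (CommRingCat.of A)) (FSch.idealSpec A (IsLocalRing.maximalIdeal A)))
    (hf : FSch.IsProperHom f) (hflat : ∀ n : ℕ, Flat ((f : FSch.Hom _ _).app n))
    (hproj : ∃ L₀ : (𝔛.X 0).Modules, CohB1.IsAmple L₀)
    (hH2 : Subsingleton (Coh.HH (𝔛.X 0) (Coh.structureModule (𝔛.X 0)) 2)) :
    ∃ (X : Scheme.{u}) (g : X ⟶ (Spec (CommRingCat.of A))) (L : X.Modules), IsProper g ∧ CohB1.IsAmple L ∧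
      ∃ (h : FSch.PowCompat g ((FSch.idealSpec A (IsLocalRing.maximalIdeal A)).comap g) (FSch.idealSpec A (IsLocalRing.maximalIdeal A)))
        (e : 𝔛 ≅ FSch.completionAlong X ((FSch.idealSpec A (IsLocalRing.maximalIdeal A)).comap g)),
        e.hom ≫ FSch.completionMap g ((FSch.idealSpec A (IsLocalRing.maximalIdeal A)).comap g) (FSch.idealSpec A (IsLocalRing.maximalIdeal A)) h = f := by
  let m := IsLocalRing.maximalIdeal A
  choose c hc using exists_baseIso m
  let p : (n : ℕ) → (𝔛.X n ⟶ Spec (CommRingCat.of (A ⧸ m ^ (n + 1)))) :=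
    fun n => (f : FSch.Hom _ _).app n ≫ (c n).hom
  haveI : ∀ n, IsClosedImmersion (CohB1.specQuot m n) := fun n =>
    IsClosedImmersion.spec_of_surjective _ Ideal.Quotient.mk_surjective
  have hct : ∀ n, (FSch.completionAlong (Spec (CommRingCat.of A)) (FSch.idealSpec A m)).ι n ≫ (c (n + 1)).hom =
      (c n).hom ≫ CohB1.specQuotTrans m n := fun n => by
    rw [← cancel_mono (CohB1.specQuot m (n + 1)), Category.assoc, hc, Category.assoc,
      CohB1.specQuotTrans_specQuot, hc]
    exact Scheme.IdealSheafData.inclusion_subschemeι (FSch.pow_succ_le _ _ n)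
  have hcart : ∀ n, IsPullback (𝔛.ι n) (p n) (p (n + 1)) (CohB1.specQuotTrans m n) := fun n =>
    (hf.1 n).paste_vert (IsPullback.of_vert_isIso ⟨hct n⟩)
  have hp : IsProper (p 0) := by
    haveI := hf.2
    exact inferInstanceAs (IsProper ((f : FSch.Hom _ _).app 0 ≫ (c 0).hom))
  have hflat' : ∀ n, Flat (p n) := fun n => by
    haveI := hflat n
    exact inferInstanceAs (Flat ((f : FSch.Hom _ _).app n ≫ (c n).hom))
  haveI : (𝔛.X 0).IsSeparated := by
    obtain ⟨L₀, ha₀⟩ := hproj
    exact AmpleLib.isSeparated_of_isAmple ha₀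
  obtain ⟨L₀, ha₀⟩ := hproj
  have hstep : ∀ n, ∀ L : {L : (𝔛.X n).Modules // PicF.IsInvertible L},
      ∃ L' : {L : (𝔛.X (n + 1)).Modules // PicF.IsInvertible L},
        Nonempty ((Scheme.Modules.pullback (𝔛.ι n)).obj L'.1 ≅ L.1) := fun n L => by
    obtain ⟨L', hL', h⟩ := exists_lift_step (fs := p) (ts := 𝔛.ι) hcart hflat' hH2 n L.1 L.2
    exact ⟨⟨L', hL'⟩, h⟩
  choose next hnext using hstep
  let L : (n : ℕ) → {L : (𝔛.X n).Modules // PicF.IsInvertible L} := fun n =>
    n.rec ⟨L₀, ha₀.1⟩ fun k Lk => next k Lk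
  obtain ⟨Y, g, M, e, hg, hM, hMa, hpb, hec, -⟩ := Groth.Agent.S0056.result A m 𝔛.X p 𝔛.ι hcart hp
    (fun n => (L n).1) (fun n => (L n).2) (fun n => hnext n (L n)) ha₀
  have hpc : FSch.PowCompat g ((FSch.idealSpec A m).comap g) (FSch.idealSpec A m) := fun n =>
    (IdealSh.Comap.comap_pow _ g (n + 1)).le
  have hbase : ∀ n, IsPullback (e n) ((f : FSch.Hom _ _).app n) g
      (FSch.completionToX (Spec (CommRingCat.of A)) (FSch.idealSpec A m) n) := fun n =>
    IsPullback.of_iso (hpb n) (Iso.refl _) (Iso.refl _) (c n).symm (Iso.refl _)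
      (by simp) (by simp [p]) (by simp) (by simp [← hc])
  let a : ∀ n, 𝔛.X n ≅ (FSch.completionAlong Y ((FSch.idealSpec A m).comap g)).X n := fun n =>
    (hbase n).isoIsPullback _ _ (Adic.AdicHom.isPullback_completionToX g (FSch.idealSpec A m) hpc n)
  have ha1 : ∀ n, (a n).hom ≫ FSch.completionToX Y ((FSch.idealSpec A m).comap g) n = e n := fun n =>
    IsPullback.isoIsPullback_hom_fst _ _ _ _
  have ha2 : ∀ n, (a n).hom ≫
      (FSch.completionMap g ((FSch.idealSpec A m).comap g) (FSch.idealSpec A m) hpc : FSch.Hom _ _).app n =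
        (f : FSch.Hom _ _).app n := fun n => IsPullback.isoIsPullback_hom_snd _ _ _ _
  let F : 𝔛 ⟶ FSch.completionAlong Y ((FSch.idealSpec A m).comap g) := ⟨fun n => (a n).hom, fun n => by
    rw [← cancel_mono (FSch.completionToX Y ((FSch.idealSpec A m).comap g) (n + 1)), Category.assoc,
      Category.assoc, ha1, ← hec n]
    refine Eq.trans ?_ (ha1 n)
    exact congrArg ((a n).hom ≫ ·) (Scheme.IdealSheafData.inclusion_subschemeι (FSch.pow_succ_le Y _ n))⟩
  let G : FSch.completionAlong Y ((FSch.idealSpec A m).comap g) ⟶ 𝔛 := ⟨fun n => (a n).inv, fun n => by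
    have h := (F : FSch.Hom _ _).comm n
    change (a n).hom ≫ _ = 𝔛.ι n ≫ (a (n + 1)).hom at h
    rw [Iso.inv_comp_eq, ← Category.assoc, h, Category.assoc, Iso.hom_inv_id, Category.comp_id]⟩
  refine ⟨Y, g, M, hg, hMa, hpc, ⟨F, G, ?_, ?_⟩, ?_⟩
  · exact FSch.Hom.ext (funext fun n => (a n).hom_inv_id)
  · exact FSch.Hom.ext (funext fun n => (a n).inv_hom_id)
  · exact FSch.Hom.ext (funext fun n => ha2 n)

end Groth.Agent.S12901
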