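import Groth.Statements.S12903
import Groth.Agent.QCoh.Exact
import Mathlib.RingTheory.Finiteness.Ideal

set_option autoImplicit false
universe u
open CategoryTheory CategoryTheory.Limits AlgebraicGeometry Opposite
open Coherent

namespace Groth.Agent.S12903

/-- Let X be a scheme, j : U → X a quasi-compact open immersion with closed complement Z, F a
quasi-coherent O_X-module, V an affine open of X and I a finitely generated ideal of Γ(V, O_X)
cutting out Z ∩ V (a point of V lies outside U if and only if it lies in no basic open X_f with f ∈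
I). Then a section s of F over V belongs to the subsheaf Γ_Z(F) of sections supported in Z (the
kernel of F → j_*(F|_U)) if and only if I^n s = 0 for some n. -/
theorem result {U X : Scheme.{u}} (j : U ⟶ X) [IsOpenImmersion j] [QuasiCompact j]
    (F : X.Modules) (hF : Coh.IsQCoh F) (V : X.Opens) (hV : IsAffineOpen V)
    (I : Ideal (X.ringCatSheaf.obj.obj (op V))) (hI : I.FG)
    (hZ : ∀ x : X, x ∈ V → (x ∉ Set.range j.base ↔ ∀ f ∈ I, x ∉ X.basicOpen (f : Γ(X, V))))
    (s : F.val.obj (op V)) :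
    s ∈ Set.range ((((CxOX.gammaZι j).app F).val.app (op V)).hom) ↔ ∃ n : ℕ, ∀ a ∈ I ^ n, a • s = 0 := by
  haveI : F.IsQuasicoherent := hF
  let u := (Scheme.Modules.restrictAdjunction j).unit.app F
  let Sq := ShortComplex.mk (kernel.ι u) u (kernel.condition u)
  have hex : Sq.Exact := ShortComplex.exact_of_f_is_kernel _ (kernelIsKernel u)
  haveI : Mono Sq.f := inferInstanceAs (Mono (kernel.ι u))
  have hrange : s ∈ Set.range ((((CxOX.gammaZι j).app F).val.app (op V)).hom) ↔
      u.app V s = 0 := by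
    refine ⟨?_, fun h ↦ ?_⟩
    · rintro ⟨y, rfl⟩
      exact QCoh.app_app_eq_zero Sq V y
    · obtain ⟨y, hy⟩ := QCoh.exists_app_eq_of_app_eq_zero Sq hex V s h
      exact ⟨y, hy⟩
  rw [hrange]
  change Γ(F, V) at s
  let W : X.Opens := j ''ᵁ (j ⁻¹ᵁ V)
  have hWV : W ≤ V := j.image_preimage_le V
  have hW : ∀ x : X, x ∈ W ↔ x ∈ V ∧ x ∈ Set.range j.base := fun x ↦ by
    constructor
    · rintro ⟨y, hy, rfl⟩
      exact ⟨hy, y, rfl⟩
    · rintro ⟨hx, y, rfl⟩
      exact ⟨y, hx, rfl⟩
  have hu : u.app V s = QCoh.res F hWV s := by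
    rw [Scheme.Modules.restrictAdjunction_unit_app_app]
    rfl
  rw [hu]
  change Ideal Γ(X, V) at I
  change (QCoh.res F hWV s : Γ(F, W)) = (0 : Γ(F, W)) ↔ ∃ n : ℕ, ∀ a ∈ I ^ n, (a : Γ(X, V)) • s = 0
  have hbo : ∀ f ∈ I, X.basicOpen (f : Γ(X, V)) ≤ W := fun f hf x hx ↦ by
    have hxV : x ∈ V := X.basicOpen_le f hx
    refine (hW x).2 ⟨hxV, ?_⟩
    by_contra hn
    exact (hZ x hxV).1 hn f hf hx
  constructor
  · intro h
    let J : Ideal Γ(X, V) :=
      { carrier := {a | a • s = 0}
        add_mem' := fun {a b} (ha : a • s = 0) (hb : b • s = 0) ↦ by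
          change (a + b) • s = 0
          rw [add_smul, ha, hb, add_zero]
        zero_mem' := zero_smul _ s
        smul_mem' := fun c a (ha : a • s = 0) ↦ by
          change (c * a) • s = 0
          rw [mul_smul, ha, smul_zero] }
    have hrad : I ≤ J.radical := fun f hf ↦ by
      have h0 : QCoh.res F (X.basicOpen_le (f : Γ(X, V))) s = 0 := by
        rw [← QCoh.res_res F hWV (hbo f hf) s, h, map_zero]
      obtain ⟨n, hn⟩ := (QCoh.isLocalizingAt F hV f).eq_zero s h0
      exact ⟨n, hn⟩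
    obtain ⟨n, hn⟩ := Ideal.exists_pow_le_of_le_radical_of_fg hrad hI
    exact ⟨n, fun a ha ↦ hn ha⟩
  · rintro ⟨n, hn⟩
    refine TopCat.Presheaf.section_ext ⟨F.presheaf, F.isSheaf⟩ W _ 0 fun x hx ↦ ?_
    obtain ⟨f, hf, hxf⟩ : ∃ f ∈ I, x ∈ X.basicOpen (f : Γ(X, V)) := by
      by_contra! hno
      exact (hZ x (hWV hx)).2 hno ((hW x).1 hx).2
    let D : X.Opens := X.basicOpen (f : Γ(X, V))
    have hD : QCoh.res F (hbo f hf) (QCoh.res F hWV s) = 0 := by
      rw [QCoh.res_res]
      have h1 := congrArg (QCoh.res F ((hbo f hf).trans hWV)) (hn (f ^ n) (Ideal.pow_mem_pow hf n))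
      rw [QCoh.res_smul, map_zero] at h1
      have hunit : IsUnit (QCoh.rres ((hbo f hf).trans hWV) (f ^ n)) := by
        rw [map_pow]
        exact (RingedSpace.isUnit_res_basicOpen _ f).pow n
      exact hunit.smul_eq_zero.1 h1
    change F.presheaf.germ W x hx (QCoh.res F hWV s) = F.presheaf.germ W x hx 0
    rw [map_zero]
    exact (F.presheaf.germ_res_apply (homOfLE (hbo f hf)) x hxf (QCoh.res F hWV s)).symm.trans
      ((congrArg (F.presheaf.germ D x hxf) hD).trans (map_zero _))

end Groth.Agent.S12903
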