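import Groth.Statements.S12909
import Groth.Agent.CAlgMisc.DepthZeroFree
import Groth.Agent.Depth.Local

set_option autoImplicit false
universe u
open CAlgX Matrix

namespace Groth.Agent.S12909

section
variable {R : Type u} [CommRing R] (S : Submonoid R) (L : Type u) [CommRing L] [Algebra R L]
  [IsLocalization S L]

include S

theorem clear {b : ℕ} (v : Fin b → L) :
    ∃ (s : S) (w : Fin b → R), ∀ j, algebraMap R L (w j) = algebraMap R L (s : R) * v j := by
  obtain ⟨s, hs⟩ := IsLocalization.exist_integer_multiples_of_finite S v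
  choose w hw using hs
  exact ⟨s, w, fun j => by rw [hw j, Algebra.smul_def]⟩

theorem mulVec_clear {a b : ℕ} (M : Matrix (Fin a) (Fin b) R) {v : Fin b → L} {s : S} {w : Fin b → R}
    (hw : ∀ j, algebraMap R L (w j) = algebraMap R L (s : R) * v j) (hv : M.map (algebraMap R L) *ᵥ v = 0) :
    ∃ t : S, M *ᵥ ((t : R) • w) = 0 := by
  have h0 : ∀ i, ∃ t : S, (t : R) * (M *ᵥ w) i = 0 := fun i => by
    rw [← IsLocalization.map_eq_zero_iff S L, RingHom.map_mulVec]
    rw [show (algebraMap R L ∘ w) = algebraMap R L (s : R) • v from funext hw,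
      Matrix.mulVec_smul, hv, smul_zero, Pi.zero_apply]
  choose t ht using h0
  refine ⟨∏ i, t i, funext fun i => ?_⟩
  rw [Matrix.mulVec_smul, Pi.smul_apply, smul_eq_mul, Pi.zero_apply, SubmonoidClass.coe_finsetProd,
    ← Finset.prod_erase_mul _ _ (Finset.mem_univ i), mul_assoc, ht i, mul_zero]

theorem ker_map {a b c : ℕ} (M : Matrix (Fin a) (Fin b) R) (N : Matrix (Fin b) (Fin c) R)
    (h : LinearMap.ker M.mulVecLin = LinearMap.range N.mulVecLin) :
    LinearMap.ker (M.map (algebraMap R L)).mulVecLin =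
      LinearMap.range (N.map (algebraMap R L)).mulVecLin := by
  refine le_antisymm (fun v hv => ?_) ?_
  · obtain ⟨s, w, hw⟩ := clear S L v
    obtain ⟨t, ht⟩ := mulVec_clear S L M hw hv
    have hm : (t : R) • w ∈ LinearMap.range N.mulVecLin := h ▸ (LinearMap.mem_ker.2 ht)
    obtain ⟨u, hu⟩ := hm
    obtain ⟨q, hq⟩ := (IsLocalization.map_units L (t * s)).exists_left_inv
    refine ⟨q • (algebraMap R L ∘ u), funext fun i => ?_⟩
    have h2 := congrArg (algebraMap R L) (congrFun hu i)
    rw [Matrix.mulVecLin_apply, RingHom.map_mulVec, Pi.smul_apply, smul_eq_mul, map_mul, hw] at h2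
    rw [Matrix.mulVecLin_apply, Matrix.mulVec_smul, Pi.smul_apply, smul_eq_mul, h2, ← mul_assoc,
      ← mul_assoc, mul_assoc q, ← map_mul, ← Submonoid.coe_mul, hq, one_mul]
  · rintro _ ⟨u, rfl⟩
    obtain ⟨s, w, hw⟩ := clear S L u
    have hm : M *ᵥ (N *ᵥ w) = 0 := LinearMap.mem_ker.1 (h ▸ LinearMap.mem_range_self _ w)
    rw [LinearMap.mem_ker, Matrix.mulVecLin_apply, Matrix.mulVecLin_apply]
    funext i
    refine (IsLocalization.map_units L s).mul_right_eq_zero.1 ?_
    have h2 := congrArg (algebraMap R L) (congrFun hm i)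
    rw [Pi.zero_apply, map_zero, RingHom.map_mulVec] at h2
    rw [← h2, ← smul_eq_mul, ← Pi.smul_apply, ← Matrix.mulVec_smul, ← Matrix.mulVec_smul]
    congr 2
    funext j
    rw [Function.comp_apply, RingHom.map_mulVec]
    exact congrArg (fun x => (N.map (algebraMap R L) *ᵥ x) j) (funext fun k => (hw k).symm)

theorem ker_map_bot {a b : ℕ} (M : Matrix (Fin a) (Fin b) R) (h : LinearMap.ker M.mulVecLin = ⊥) :
    LinearMap.ker (M.map (algebraMap R L)).mulVecLin = ⊥ := by
  rw [eq_bot_iff]
  intro v hv
  obtain ⟨s, w, hw⟩ := clear S L v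
  obtain ⟨t, ht⟩ := mulVec_clear S L M hw hv
  have h0 : (t : R) • w = 0 := LinearMap.ker_eq_bot'.1 h _ ht
  rw [Submodule.mem_bot]
  funext j
  refine (IsLocalization.map_units L (t * s)).mul_right_eq_zero.1 ?_
  rw [Submonoid.coe_mul, map_mul, mul_assoc, ← hw j, ← map_mul, ← smul_eq_mul, ← Pi.smul_apply, h0,
    Pi.zero_apply, map_zero]

end


/-- Let R be a Noetherian ring and I a nonzero ideal with a finite free resolution 0 → R^{n_e} → … →
R^{n_1} → R^{n_0} → I → 0 with e ≥ 1: the map R^{n_{i+1}} → R^{n_i} is the matrix A_i, the map π :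
R^{n_0} → R is linear with image I, the kernel of π is the image of A_0, the kernel of A_i is the
image of A_{i+1} for 0 ≤ i ≤ e - 2, and A_{e-1} is injective. Then I contains a non-zero-divisor of
R. (The hypothesis that I is nonzero is implicit in the published statement: the zero ideal of a
domain has a finite free resolution and contains no non-zero-divisor.) -/
theorem result {R : Type u} [CommRing R] [IsNoetherianRing R]
    (e : ℕ) (he : 1 ≤ e) (n : ℕ → ℕ) (A : (i : ℕ) → Matrix (Fin (n i)) (Fin (n (i + 1))) R)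
    (π : (Fin (n 0) → R) →ₗ[R] R) (hI : LinearMap.range π ≠ ⊥)
    (h0 : LinearMap.ker π = LinearMap.range (A 0).mulVecLin)
    (hA : ∀ i, i + 2 ≤ e → LinearMap.ker (A i).mulVecLin = LinearMap.range (A (i + 1)).mulVecLin)
    (hlast : LinearMap.ker (A (e - 1)).mulVecLin = ⊥) :
    ∃ x : R, x ∈ LinearMap.range π ∧ x ∈ nonZeroDivisors R := by
  classical
  let r : Fin (n 0) → R := fun j => π (Pi.single j 1)
  have hπr : π = Fintype.linearCombination R r := by
    refine LinearMap.pi_ext fun j c => ?_
    rw [Fintype.linearCombination_apply_single, ← map_smul, ← Pi.single_smul, smul_eq_mul, mul_one]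
  let row : Matrix (Fin 1) (Fin (n 0)) R := Matrix.of fun _ j => r j
  have hrow : ∀ v i, (row *ᵥ v) i = π v := fun v i => by
    rw [hπr, Fintype.linearCombination_apply]
    simp [row, Matrix.mulVec, dotProduct, mul_comm]
  have hker0 : LinearMap.ker row.mulVecLin = LinearMap.range (A 0).mulVecLin := by
    rw [← h0]; ext v
    rw [LinearMap.mem_ker, LinearMap.mem_ker, Matrix.mulVecLin_apply]
    exact ⟨fun h => by rw [← hrow v 0, h]; rfl, fun h => funext fun i => by rw [hrow, h]; rfl⟩
  let A' : (P : PrimeSpectrum R) → (i : ℕ) → Matrix (Fin (n i)) (Fin (n (i + 1)))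
      (Localization.AtPrime P.asIdeal) := fun P i => (A i).map (algebraMap R _)
  have key : ∀ k, k + 1 ≤ e → ∃ ρ : ℕ, ∀ P : PrimeSpectrum R, P.asIdeal ∈ associatedPrimes R R →
      Module.Free (Localization.AtPrime P.asIdeal) (LinearMap.range (A' P (e - 1 - k)).mulVecLin) ∧
        Module.finrank (Localization.AtPrime P.asIdeal)
          (LinearMap.range (A' P (e - 1 - k)).mulVecLin) = ρ := by
    intro k
    induction k with
    | zero =>
      refine fun _ => ⟨n (e - 1 + 1), fun P _ => ?_⟩
      rw [Nat.sub_zero]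
      have hinj := LinearMap.ker_eq_bot.1 (ker_map_bot P.asIdeal.primeCompl
        (Localization.AtPrime P.asIdeal) (A (e - 1)) hlast)
      let eq := LinearEquiv.ofInjective (A' P (e - 1)).mulVecLin hinj
      exact ⟨Module.Free.of_equiv eq, by rw [← eq.finrank_eq, Module.finrank_fin_fun]⟩
    | succ k ih =>
      intro hk
      obtain ⟨i, hi⟩ : ∃ i, e - 1 - k = i + 1 := ⟨e - 1 - k - 1, by omega⟩
      obtain ⟨ρ, hρ⟩ := ih (by omega)
      rw [show e - 1 - (k + 1) = i by omega]
      rw [hi] at hρ
      refine ⟨n (i + 1) - ρ, fun P hP => ?_⟩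
      obtain ⟨hf, hr⟩ := hρ P hP
      obtain ⟨z, hz0, hz⟩ := CAlgMisc.DepthZero.exists_socle P.asIdeal hP
      haveI := hf
      obtain ⟨hq, hfr⟩ := CAlgMisc.DepthZero.free_quotient hz0 hz (LinearMap.range (A' P (i + 1)).mulVecLin)
      have hker := ker_map P.asIdeal.primeCompl (Localization.AtPrime P.asIdeal) (A i) (A (i + 1))
        (hA i (by omega))
      let eq := (Submodule.quotEquivOfEq _ _ hker.symm).trans (A' P i).mulVecLin.quotKerEquivRange
      rw [hr, Module.finrank_fin_fun] at hfr
      exact ⟨Module.Free.of_equiv eq, by rw [← eq.finrank_eq]; simp only [A'] at hfr ⊢; omega⟩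
  obtain ⟨ρ, hρ⟩ := key (e - 1) (by omega)
  rw [Nat.sub_self] at hρ
  have hN : ∀ P : PrimeSpectrum R, P.asIdeal ∈ associatedPrimes R R →
      Module.Free (Localization.AtPrime P.asIdeal)
        (LinearMap.range (Fintype.linearCombination (Localization.AtPrime P.asIdeal)
          fun j => algebraMap R (Localization.AtPrime P.asIdeal) (r j))) ∧
      Module.finrank (Localization.AtPrime P.asIdeal)
        (LinearMap.range (Fintype.linearCombination (Localization.AtPrime P.asIdeal)
          fun j => algebraMap R (Localization.AtPrime P.asIdeal) (r j))) = n 0 - ρ := by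
    intro P hP
    obtain ⟨hf, hr⟩ := hρ P hP
    obtain ⟨z, hz0, hz⟩ := CAlgMisc.DepthZero.exists_socle P.asIdeal hP
    haveI := hf
    obtain ⟨hq, hfr⟩ := CAlgMisc.DepthZero.free_quotient hz0 hz (LinearMap.range (A' P 0).mulVecLin)
    have hk : LinearMap.ker (Fintype.linearCombination (Localization.AtPrime P.asIdeal)
        fun j => algebraMap R (Localization.AtPrime P.asIdeal) (r j)) =
        LinearMap.range (A' P 0).mulVecLin := by
      rw [← ker_map P.asIdeal.primeCompl (Localization.AtPrime P.asIdeal) row (A 0) hker0]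
      ext v
      simp [funext_iff, row, Matrix.mulVec, dotProduct, Fintype.linearCombination_apply, mul_comm]
    let eq := (Submodule.quotEquivOfEq _ _ hk.symm).trans (LinearMap.quotKerEquivRange _)
    rw [hr, Module.finrank_fin_fun] at hfr
    exact ⟨Module.Free.of_equiv eq, by rw [← eq.finrank_eq]; omega⟩
  have hr0 : ¬ ∀ j, r j = 0 := fun h => hI (by
    rw [hπr, Fintype.range_linearCombination, Submodule.span_eq_bot]
    rintro _ ⟨j, rfl⟩; exact h j)
  have hrank : n 0 - ρ ≠ 0 := by
    intro h
    refine hr0 fun j => by_contra fun hj => ?_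
    obtain ⟨P, hP, hle⟩ := exists_le_isAssociatedPrime_of_isNoetherianRing R (r j) hj
    obtain ⟨hf, hfr⟩ := hN ⟨P, hP.isPrime⟩ hP
    rw [h] at hfr
    haveI := hf
    haveI : P.IsPrime := hP.isPrime
    rw [Module.finrank_eq_card_chooseBasisIndex, Fintype.card_eq_zero_iff] at hfr
    have hsub : Subsingleton _ := (Module.Free.chooseBasis (Localization.AtPrime P)
      (LinearMap.range (Fintype.linearCombination (Localization.AtPrime P)
        fun j => algebraMap R (Localization.AtPrime P) (r j)))).repr.toEquiv.subsingleton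
    have : algebraMap R (Localization.AtPrime P) (r j) = 0 := by
      have := congrArg Subtype.val (hsub.elim ⟨_, ⟨Pi.single j 1, rfl⟩⟩ 0)
      simpa [Fintype.linearCombination_apply_single] using this
    obtain ⟨⟨s, hs⟩, hsr⟩ := (IsLocalization.map_eq_zero_iff P.primeCompl _ _).1 this
    exact hs (hle (Submodule.mem_colon_singleton.2 (by simpa using hsr)))
  obtain ⟨x, hx, hxreg⟩ := Depth.exists_isSMulRegular_of_forall_not_le (M := R)
    (I := LinearMap.range π) (by
      intro P hP hle
      obtain ⟨hf, hfr⟩ := hN ⟨P, hP.isPrime⟩ hP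
      haveI : P.IsPrime := hP.isPrime
      obtain ⟨z, hz0, hz⟩ := CAlgMisc.DepthZero.exists_socle P hP
      haveI := hf
      have htop := CAlgMisc.DepthZero.eq_top_of_free hz0 hz
        (LinearMap.range (Fintype.linearCombination (Localization.AtPrime P)
          fun j => algebraMap R (Localization.AtPrime P) (r j)))
        (fun hb => hrank (by rw [← hfr, hb]; exact finrank_bot _ _))
      refine (IsLocalRing.maximalIdeal.isMaximal (Localization.AtPrime P)).ne_top
        (top_le_iff.1 (htop ▸ ?_))
      rw [Fintype.range_linearCombination, Submodule.span_le]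
      rintro _ ⟨j, rfl⟩
      exact (IsLocalization.AtPrime.to_map_mem_maximal_iff (Localization.AtPrime P) P (r j)).2
        (hle ⟨_, rfl⟩))
  exact ⟨x, hx, mem_nonZeroDivisors_iff_right.2 fun y hy => hxreg (by simpa [mul_comm] using hy)⟩

end Groth.Agent.S12909
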