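import Groth.Statements.S1291
import Groth.Agent.FittLib.Prod
import Mathlib.RingTheory.Unramified.Finite
import Mathlib.RingTheory.Localization.BaseChange
import Mathlib.RingTheory.Etale.Basic

set_option autoImplicit false
universe u
open FlatMor

namespace Groth.Agent.S1291
set_option backward.isDefEq.respectTransparency false

open scoped TensorProduct
open Groth.Agent

/-- A separating element of `C_h ⊗ C` for `C_h` unramified. -/
theorem exists_sep {A C : Type u} [CommRing A] [CommRing C] [Algebra A C] [Module.Finite A C] (h : C)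
    (L : Type u) [CommRing L] [Algebra A L] [Algebra C L] [IsScalarTower A C L] [IsLocalization.Away h L]
    [Algebra.Etale A L] :
    ∃ e : L ⊗[A] C,
      (∀ c : C, ((1 : L) ⊗ₜ[A] c) * e = (algebraMap C L c ⊗ₜ[A] 1) * e) ∧
        Algebra.TensorProduct.productMap (AlgHom.id A L) (IsScalarTower.toAlgHom A C L) e = 1 := by
  let ι : C →ₐ[A] L := IsScalarTower.toAlgHom A C L
  let π : L ⊗[A] C →ₐ[A] L ⊗[A] L := Algebra.TensorProduct.map (AlgHom.id A L) ι
  letI : Algebra (L ⊗[A] C) (L ⊗[A] L) := π.toAlgebra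
  haveI : IsScalarTower L (L ⊗[A] C) (L ⊗[A] L) :=
    .of_algebraMap_eq fun l => by simp [RingHom.algebraMap_toAlgebra, π]
  haveI hloc := IsLocalization.tensorProduct_tensorProduct_right A L (Submonoid.powers h) L
    (by ext; simp [RingHom.algebraMap_toAlgebra, π, ι])
  let P := Algebra.TensorProduct.productMap (AlgHom.id A L) ι
  have hP : ∀ w, Algebra.TensorProduct.lmul' A (π w) = P w := fun w => by
    induction w using TensorProduct.induction_on with
    | zero => simp
    | tmul a b => simp [π, P, ι]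
    | add a b ha hb => simp [ha, hb]
  obtain ⟨⟨w, ⟨_, ⟨_, ⟨n, rfl⟩, rfl⟩⟩⟩, hw⟩ := IsLocalization.surj
    ((Submonoid.powers h).map (Algebra.TensorProduct.includeRight (R := A) (A := L)))
    (Algebra.FormallyUnramified.elem A L)
  change _ * π (Algebra.TensorProduct.includeRight (R := A) (A := L) (h ^ n)) = π w at hw
  have hu : IsUnit (ι h) := IsLocalization.Away.algebraMap_isUnit h
  let v : L ⊗[A] C := ((↑(hu.unit⁻¹ ^ n) : L) ⊗ₜ[A] 1) * w
  have hv : π v = Algebra.FormallyUnramified.elem A L := by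
    have h1 : π (Algebra.TensorProduct.includeRight (R := A) (A := L) (h ^ n)) = (1 : L) ⊗ₜ[A] (ι h ^ n) := by
      simp [π]
    rw [map_mul, ← hw, h1, mul_comm (Algebra.FormallyUnramified.elem A L),
      Algebra.FormallyUnramified.one_tmul_mul_elem, ← mul_assoc,
      show π ((↑(hu.unit⁻¹ ^ n) : L) ⊗ₜ[A] (1 : C)) = (↑(hu.unit⁻¹ ^ n) : L) ⊗ₜ[A] (1 : L) by simp [π],
      Algebra.TensorProduct.tmul_mul_tmul, mul_one, Units.val_pow_eq_pow_val, ← mul_pow, IsUnit.val_inv_mul, one_pow,
      ← Algebra.TensorProduct.one_def, one_mul]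
  obtain ⟨r, c, hc⟩ := Module.Finite.exists_fin (R := A) (M := C)
  have hker : ∀ i, ∃ N : ℕ, ((1 : L) ⊗ₜ[A] (h ^ N)) * (((1 : L) ⊗ₜ[A] c i - ι (c i) ⊗ₜ[A] 1) * v) = 0 := fun i => by
    obtain ⟨⟨_, ⟨_, ⟨N, rfl⟩, rfl⟩⟩, hN⟩ := (IsLocalization.map_eq_zero_iff
      ((Submonoid.powers h).map (Algebra.TensorProduct.includeRight (R := A) (A := L))) (L ⊗[A] L) _).1
      (show π (((1 : L) ⊗ₜ[A] c i - ι (c i) ⊗ₜ[A] 1) * v) = 0 by
        rw [map_mul, hv]
        simp only [π, map_sub, Algebra.TensorProduct.map_tmul, AlgHom.coe_id, id, map_one]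
        exact Algebra.FormallyUnramified.one_tmul_sub_tmul_one_mul_elem _)
    exact ⟨N, hN⟩
  choose N hN using hker
  let e : L ⊗[A] C := ((↑(hu.unit⁻¹ ^ (∑ i, N i)) : L) ⊗ₜ[A] (h ^ (∑ i, N i))) * v
  refine ⟨e, fun x => ?_, ?_⟩
  · have hgen : ∀ i, ((1 : L) ⊗ₜ[A] c i) * e = (ι (c i) ⊗ₜ[A] 1) * e := fun i => by
      obtain ⟨m, hm⟩ := Nat.exists_eq_add_of_le
        (Finset.single_le_sum (fun j _ => Nat.zero_le (N j)) (Finset.mem_univ i))
      have he : ((↑(hu.unit⁻¹ ^ (∑ i, N i)) : L) ⊗ₜ[A] (h ^ (∑ i, N i))) =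
          ((↑(hu.unit⁻¹ ^ (∑ i, N i)) : L) ⊗ₜ[A] (h ^ m)) * ((1 : L) ⊗ₜ[A] (h ^ N i)) := by
        rw [Algebra.TensorProduct.tmul_mul_tmul, mul_one, ← pow_add, hm, add_comm]
      rw [← sub_eq_zero, ← sub_mul]
      simp only [e]
      rw [he, mul_assoc _ _ v, mul_left_comm, mul_left_comm ((1 : L) ⊗ₜ[A] c i - ι (c i) ⊗ₜ[A] 1), hN i, mul_zero]
    have hx : x ∈ Submodule.span A (Set.range c) := hc ▸ Submodule.mem_top
    change ((1 : L) ⊗ₜ[A] x) * e = (ι x ⊗ₜ[A] 1) * e
    induction hx using Submodule.span_induction with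
    | mem y hy => obtain ⟨i, rfl⟩ := hy; exact hgen i
    | zero => simp
    | add y z _ _ hy hz => simp only [TensorProduct.tmul_add, map_add, TensorProduct.add_tmul, add_mul, hy, hz]
    | smul a y _ hy =>
      rw [map_smul, TensorProduct.tmul_smul, ← TensorProduct.smul_tmul', smul_mul_assoc, smul_mul_assoc, hy]
  · change P e = 1
    have hPv : P v = 1 := by rw [← hP, hv, Algebra.FormallyUnramified.lmul_elem]
    rw [map_mul, hPv, mul_one]
    simp only [P, Algebra.TensorProduct.productMap_apply_tmul, AlgHom.coe_id, id, map_pow]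
    rw [Units.val_pow_eq_pow_val, ← mul_pow, IsUnit.val_inv_mul, one_pow]

theorem core {A C : Type u} [CommRing A] [CommRing C] [Algebra A C] [Module.Finite A C] [Module.Projective A C]
    (h : C) (L : Type u) [CommRing L] [Algebra A L] [Algebra C L] [IsScalarTower A C L] [IsLocalization.Away h L]
    [Algebra.Etale A L] (J : Ideal C) :
    ∃ J' : Ideal L,
      (FlatCA.fittingZero A (C ⧸ J)).map (algebraMap A L) = J.map (algebraMap C L) * J' ∧
      (J.FG → (FlatCA.fittingZero A (C ⧸ J)).FG ∧ J'.FG) := by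
  haveI : Module.FinitePresentation A C := Module.finitePresentation_of_projective _ _
  obtain ⟨e, he, he1⟩ := exists_sep (A := A) h L
  let ι : C →ₐ[A] L := IsScalarTower.toAlgHom A C L
  let q : L ⊗[A] C →ₐ[L] L ⊗[A] (C ⧸ J) :=
    Algebra.TensorProduct.map (AlgHom.id L L) (Ideal.Quotient.mkₐ A J)
  let I : Ideal L := J.map (algebraMap C L)
  let μ : L ⊗[A] (C ⧸ J) →ₗ[L] L ⧸ I :=
    LinearMap.liftBaseChange L
      (Ideal.quotientMapₐ I ι (Ideal.le_comap_map (f := algebraMap C L))).toLinearMap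
  let s₀ : L →ₗ[L] L ⊗[A] (C ⧸ J) := LinearMap.toSpanSingleton L _ (q e)
  have hI : (I : Submodule L L) ≤ LinearMap.ker s₀ := by
    refine Ideal.map_le_iff_le_comap.2 fun j hj => ?_
    change algebraMap C L j • q e = 0
    rw [← map_smul, Algebra.smul_def, Algebra.TensorProduct.algebraMap_apply, Algebra.algebraMap_self,
      RingHom.id_apply, ← he j, map_mul]
    simp [q, Ideal.Quotient.eq_zero_iff_mem.2 hj]
  let s : L ⧸ I →ₗ[L] L ⊗[A] (C ⧸ J) := Submodule.liftQ I s₀ hI
  have hμq : ∀ w, μ (q w) = Ideal.Quotient.mk I (Algebra.TensorProduct.productMap (AlgHom.id A L) ι w) :=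
    fun w => by
      induction w using TensorProduct.induction_on with
      | zero => simp
      | tmul a b => simp [μ, q, ι, Algebra.smul_def] <;> rfl
      | add a b ha hb => simp [ha, hb]
  have hs : μ ∘ₗ s = LinearMap.id := by
    refine LinearMap.ext fun y => ?_
    obtain ⟨a, rfl⟩ := Ideal.Quotient.mk_surjective y
    change μ (a • q e) = _
    rw [map_smul, hμq, he1, map_one, Algebra.smul_def, mul_one]
    rfl
  haveI : Module.Finite L (LinearMap.ker μ) :=
    Module.Finite.of_surjective (LinearMap.id - s ∘ₗ μ).rangeRestrict (LinearMap.surjective_rangeRestrict _)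
      |> fun hfin => Module.Finite.equiv (LinearEquiv.ofEq _ _ (le_antisymm
        (by
          rintro _ ⟨w, rfl⟩
          simpa [sub_eq_zero] using (LinearMap.congr_fun hs (μ w)).symm)
        (fun w hw => ⟨w, by simp [LinearMap.mem_ker.1 hw]⟩) :
        LinearMap.range (LinearMap.id - s ∘ₗ μ) = LinearMap.ker μ))
  let E : (L ⊗[A] (C ⧸ J)) ≃ₗ[L] LinearMap.ker μ × (L ⧸ I) :=
    ((LinearMap.exact_subtype_ker_map μ).splitSurjectiveEquiv (Submodule.injective_subtype _) ⟨s, hs⟩).1
  have hfz : FlatCA.fittingZero A (C ⧸ J) = Fitt.ideal A (C ⧸ J) 0 := by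
    refine congrArg Ideal.span (Set.ext fun x => ⟨?_, ?_⟩)
    · rintro ⟨n, x, a, h1, h2, h3⟩
      exact ⟨n, x, a, h1, fun i _ => h2 i, h3⟩
    · rintro ⟨n, x, a, h1, h2, h3⟩
      exact ⟨n, x, a, h1, fun i => h2 i (by omega), h3⟩
  refine ⟨Fitt.ideal L (LinearMap.ker μ) 0, ?_, fun hJ => ?_⟩
  · rw [hfz, ← FittLib.ideal_baseChange, FittLib.ideal_congr (N := ↥(LinearMap.ker μ) × (L ⧸ I)) E 0, FittLib.ideal_prod]
    simp [FittLib.ideal_quotient, mul_comm, I]
  · haveI : Module.FinitePresentation A (C ⧸ J) :=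
      Module.finitePresentation_of_surjective (Ideal.Quotient.mkₐ A J).toLinearMap
        Ideal.Quotient.mk_surjective (by
          rw [show LinearMap.ker (Ideal.Quotient.mkₐ A J).toLinearMap = J.restrictScalars A from
            SetLike.ext fun x => Ideal.Quotient.eq_zero_iff_mem]
          exact Submodule.FG.restrictScalars hJ)
    haveI : Module.FinitePresentation L (LinearMap.ker μ) := by
      let F : (L ⊗[A] (C ⧸ J)) →ₗ[L] LinearMap.ker μ := (LinearMap.fst L _ _).comp E.toLinearMap
      have hF : Function.Surjective F := Prod.fst_surjective.comp E.surjective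
      refine Module.finitePresentation_of_surjective (R := L) (M := L ⊗[A] (C ⧸ J)) (N := LinearMap.ker μ) F hF ?_
      rw [LinearMap.ker_comp, LinearMap.ker_fst, Submodule.comap_equiv_eq_map_symm]
      exact ((Module.Finite.range (LinearMap.inr L _ (L ⧸ I))) |> Module.Finite.iff_fg.1).map _
    exact ⟨hfz ▸ FittLib.ideal_eq_G_rel 0, FittLib.ideal_eq_G_rel 0⟩


/-- Let A → C be finite locally free of rank d (C a finite projective A-module of constant rank d), h ∈
C such that C_h is étale over A, and J an ideal of C. Let I be the zeroth Fitting ideal of C/J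
regarded as a finite A-module. Then the extension of I to C_h equals J·J' for some ideal J' of C_h
(J extended to C_h); and if J is finitely generated then so are I and J'. -/
theorem result {A C : Type u} [CommRing A] [CommRing C] [Algebra A C] [Module.Finite A C] [Module.Projective A C]
    (d : ℕ) (hd : ∀ p : PrimeSpectrum A, Module.rankAtStalk (R := A) C p = d)
    (h : C) [Algebra.Etale A (Localization.Away h)] (J : Ideal C) :
    ∃ J' : Ideal (Localization.Away h),
      (FlatCA.fittingZero A (C ⧸ J)).map (algebraMap A (Localization.Away h)) = J.map (algebraMap C (Localization.Away h)) * J' ∧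
      (J.FG → (FlatCA.fittingZero A (C ⧸ J)).FG ∧ J'.FG) := by
  exact core h (Localization.Away h) J

end Groth.Agent.S1291
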