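import Groth.Statements.S12912
import Groth.Agent.FFCurve.Nondegenerate
import Groth.Agent.VBLib.GenusZero
import Groth.Agent.VBLib.RRGeom
import Groth.Agent.CurveSimple.Degree
import Groth.Agent.PicCl.Basic

set_option autoImplicit false
universe u
open CategoryTheory CategoryTheory.Limits AlgebraicGeometry
open Curves

namespace Groth.Agent.S12912

/-- Let k be an algebraically closed field and X a curve over k (integral, proper over k, of dimension
one) with a closed immersion i : X → P^r_k over k whose image lies in no hyperplane: every nonzero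
global section of O(1) on P^r_k pulls back to a nonzero global section of i^* O(1). Then deg i^*
O(1) ≥ r. -/
theorem result (k : Type u) [Field k] [IsAlgClosed k] (r : ℕ)
    (X : Scheme.{u}) [X.Over (Spec (CommRingCat.of k))] [IsIntegral X] [IsProper (X ↘ (Spec (CommRingCat.of k)))]
    (hdim : topologicalKrullDim X = 1)
    (i : X ⟶ CohB1.ProjSpace r k) [IsClosedImmersion i]
    (hi : i ≫ CohB1.ProjSpace.toSpec r k = (X ↘ (Spec (CommRingCat.of k))))
    (hplane : ∀ s : LinSer.Sect (CohB1.ProjSpace r k) (Twist.twistProjSpace r k 1), s ≠ 0 →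
      OmegaSh.pullSect i (Twist.twistProjSpace r k 1) ⊤ s ≠ 0) :
    (r : ℤ) ≤ Curv2.deg k X ((Scheme.Modules.pullback i).obj (Twist.twistProjSpace r k 1)) 1 := by
  have hL := PicCl.isInvertible_pullback i (ProjTwist.isInvertible_twistProjSpace r k 1)
  haveI : Module.Finite k (Coh.HH X ((Scheme.Modules.pullback i).obj (Twist.twistProjSpace r k 1)) 0) :=
    EulerChar.finite_HH k _ (VBLib.GenusZero.isCoh_of_invertible hL) 0
  have h1 := FFCurve.succ_le_h0_pullback k i hi hplane
  obtain ⟨s, hs⟩ := CurveSimple.exists_hom_ne_zero (Module.nontrivial_of_finrank_pos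
    (R := k) (M := Coh.HH X ((Scheme.Modules.pullback i).obj (Twist.twistProjSpace r k 1)) 0) (by omega))
  have h2 := (VBLib.GenusZero.h0_le k hL hdim
    (VBLib.finrank_H0_structure_eq_one VBLib.bijective_toGlobal_of_isAlgClosed) s hs).1
  omega

end Groth.Agent.S12912
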