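import Groth.Statements.S12913
import Groth.Agent.VBLib.NegFilt
import Groth.Agent.VBLib.DualDeg
import Groth.Agent.CurveDVR.Stalk

set_option autoImplicit false
universe u
open CategoryTheory CategoryTheory.Limits AlgebraicGeometry
open Curves

namespace Groth.Agent.S12913


lemma goodCurve_of_regular {k : Type u} [Field k] {C : Scheme.{u}} [C.Over (Spec (CommRingCat.of k))]
    [IsIntegral C] [IsProper (C ↘ (Spec (CommRingCat.of k)))] (hdim : topologicalKrullDim C = 1)
    (hreg : ∀ x : C, IsRegularLocalRing (C.presheaf.stalk x)) : VBLib.GoodCurve k C := by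
  haveI := LocallyOfFiniteType.isLocallyNoetherian (C ↘ Spec (CommRingCat.of k))
  refine ⟨inferInstance, fun x => ?_, hdim⟩
  by_cases hx : x = genericPoint C
  · subst hx
    letI : Field (C.presheaf.stalk (genericPoint C)) := inferInstanceAs (Field C.functionField)
    infer_instance
  · haveI := hreg x
    haveI := CurveDVR.isDiscreteValuationRing_of_regular (C.presheaf.stalk x)
      (by rw [ringKrullDim_stalk_eq_coheight, VarDim.coheight_eq_one_of_ne_genericPoint k hdim hx]; rfl)
    infer_instance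

open VBLib in
lemma step {k : Type u} [Field k] [IsAlgClosed k] {C : Scheme.{u}} [C.Over (Spec (CommRingCat.of k))]
    [IsIntegral C] (hC : GoodCurve k C) (m : ℕ) : ∀ (r : ℕ) (N : C.Modules),
    FlatMod.IsFinLocFreeOfRank r N → ∀ ι : N ⟶ FlatMod.freeMod C m, Mono ι →
    (∀ s : LinSer.Sect C N, s = 0) →
    ∃ (M : Fin (r + 1) → C.Modules) (f : (j : Fin r) → (M j.succ ⟶ M j.castSucc)),
      Nonempty (M 0 ≅ N) ∧ IsZero (M (Fin.last r)) ∧
        ∀ j : Fin r, Mono (f j) ∧ PicF.IsInvertible (cokernel (f j)) ∧ Curv2.deg k C (cokernel (f j)) 1 < 0 := by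
  haveI := hC.isLocallyNoetherian
  intro r
  induction r with
  | zero =>
    intro N hN ι hι h0
    exact ⟨fun _ => N, fun j => j.elim0, ⟨Iso.refl _⟩,
      isZero_of_rk_eq_zero (isFinLocFree_of_ofRank hN) (rk_eq hN), fun j => j.elim0⟩
  | succ r ih =>
    intro N hN ι hι h0
    obtain ⟨q, hq0, hqe⟩ := NegFilt.exists_not_epi hC (Nat.succ_pos r) hN ι h0
    have hNf := isFinLocFree_of_ofRank hN
    have hNc := isCoh_of_isFinLocFree hNf
    have hOc : Coh.IsCoh (Coh.structureModule C) := HomShQC.isCoh_structureModule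
    obtain ⟨d1, r1⟩ := hC.dg_kernel_image q hNc hOc
    haveI := hNc.1
    haveI := hOc.1
    have hKc := isCoh_kernel q hNc hOc
    have hK : FlatMod.IsFinLocFree (kernel q) := hC.sub (kernel.ι q) hKc.1 hNf
    have hIc := isCoh_image q hNc hOc
    have hO : FlatMod.IsFinLocFreeOfRank 1 (Coh.structureModule C) :=
      ofRank_one_of_invertible (LFFrame.isInvertible_structureModule C)
    have hI : FlatMod.IsFinLocFree (Abelian.image q) :=
      hC.sub (Abelian.image.ι q) hIc.1 (isFinLocFree_of_ofRank hO)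
    have hI1 : rk (Abelian.image q) = 1 := by
      have hle := rk_le_of_mono (Abelian.image.ι q) hOc
      rw [rk_eq hO] at hle
      have hne : rk (Abelian.image q) ≠ 0 := fun h => hq0 (by
        rw [← Abelian.image.fac q, (isZero_of_rk_eq_zero hI h).eq_of_src (Abelian.image.ι q) 0, comp_zero])
      omega
    have hdO : dg k (Coh.structureModule C) = 0 := by simp [dg, Curv2.deg, rk_eq hO]
    obtain ⟨hdI, hiso⟩ := hC.dg_le_of_mono (Abelian.image.ι q) hIc hOc (by rw [hI1, rk_eq hO])
    have hneg : dg k (Abelian.image q) < 0 := by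
      refine lt_of_le_of_ne (hdO ▸ hdI) fun h => hqe ?_
      haveI := hiso (by rw [h, hdO])
      rw [← Abelian.image.fac q]
      infer_instance
    have hK' : FlatMod.IsFinLocFreeOfRank r (kernel q) := by
      have := ofRank_rk hK
      rwa [show rk (kernel q) = r by rw [rk_eq hN] at r1; omega] at this
    obtain ⟨M, f, ⟨e⟩, hz, hf⟩ := ih (kernel q) hK' (kernel.ι q ≫ ι) inferInstance fun s => by
      have : (kernel.ι q).app ⊤ s = (kernel.ι q).app ⊤ (0 : Γ(kernel q, ⊤)) :=
        (h0 _).trans (map_zero _).symm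
      exact QCoh.app_injective_of_mono (kernel.ι q) ⊤ this
    have hm : Mono (e.hom ≫ kernel.ι q) := mono_comp e.hom (kernel.ι q)
    refine ⟨Fin.cons N M, Fin.cases (e.hom ≫ kernel.ι q) fun j => f j, ⟨Iso.refl _⟩, hz, ?_⟩
    refine Fin.cases ?_ fun j => hf j
    let c : cokernel (e.hom ≫ kernel.ι q) ≅ Abelian.image q :=
      cokernelEpiComp e.hom (kernel.ι q) ≪≫ Abelian.coimageIsoImage q
    have hinv : PicF.IsInvertible (cokernel (e.hom ≫ kernel.ι q)) := by
      refine fun x => ?_
      have h1 : FlatMod.IsFinLocFreeOfRank 1 (Abelian.image q) := hI1 ▸ ofRank_rk hI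
      obtain ⟨U, hx, ⟨e'⟩⟩ := h1 x
      exact ⟨U, hx, ⟨(Scheme.Modules.restrictFunctor U.ι).mapIso c ≪≫ e' ≪≫
        coproductUniqueIso fun _ : Fin 1 => Coh.structureModule (U : Scheme.{u})⟩⟩
    refine ⟨hm, hinv, ?_⟩
    show Curv2.deg k C (cokernel (e.hom ≫ kernel.ι q)) 1 < 0
    rw [dg, hI1] at hneg
    haveI := hC.proper
    simp only [Curv2.deg] at hneg ⊢
    rwa [EulerChar.euler_iso k c]


/-- Let k be an algebraically closed field, C a curve over k (integral, proper over k, of dimension one,
all local rings regular), and N a locally free O_C-module of rank r which admits a monomorphism into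
O_C^m for some m and has no nonzero global section. Then there is a filtration N = N_0 ⊃ N_1 ⊃ ⋯ ⊃
N_r = 0 whose successive quotients are invertible sheaves of strictly negative degree; it is given
here as modules M_0, …, M_r with M_0 ≅ N, M_r = 0 and monomorphisms M_{j+1} → M_j whose cokernels
are invertible of negative degree. -/
theorem result (k : Type u) [Field k] [IsAlgClosed k]
    (C : Scheme.{u}) [C.Over (Spec (CommRingCat.of k))] [IsIntegral C] [IsProper (C ↘ (Spec (CommRingCat.of k)))]
    (hdim : topologicalKrullDim C = 1) (hreg : ∀ x : C, IsRegularLocalRing (C.presheaf.stalk x))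
    (N : C.Modules) (r : ℕ) (hN : FlatMod.IsFinLocFreeOfRank r N) (m : ℕ) (ι : N ⟶ FlatMod.freeMod C m) [Mono ι]
    (h0 : ∀ s : LinSer.Sect C N, s = 0) :
    ∃ (M : Fin (r + 1) → C.Modules) (f : (j : Fin r) → (M j.succ ⟶ M j.castSucc)),
      Nonempty (M 0 ≅ N) ∧ IsZero (M (Fin.last r)) ∧
        ∀ j : Fin r, Mono (f j) ∧ PicF.IsInvertible (cokernel (f j)) ∧ Curv2.deg k C (cokernel (f j)) 1 < 0 := by
  exact step (k := k) (goodCurve_of_regular hdim hreg) m r N hN ι ‹_› h0


end Groth.Agent.S12913
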