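import Groth.Statements.S12915
import Groth.Agent.PlanePts.Forms
import Mathlib.LinearAlgebra.FiniteDimensional.Lemmas

set_option autoImplicit false
universe u
open CAlgX

namespace Groth.Agent.S12915

/-- Let k be a field, S = k[x_0, …, x_r], and f a nonzero homogeneous polynomial of degree m. For every
t ≥ m the image in S/(f) of the homogeneous polynomials of degree t is a k-vector space of dimension
C(t + r, r) - C(t + r - m, r). (The published clause states that the hypersurface f = 0 in P^r has
degree m; its proof computes exactly this Hilbert function, whose polynomial has leading term m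
t^(r-1)/(r-1)!, and that computation is what is stated here.) -/
theorem result (k : Type u) [Field k] (r m : ℕ)
    (f : MvPolynomial (Fin (r + 1)) k) (hf : f.IsHomogeneous m) (hf0 : f ≠ 0) (t : ℕ) (ht : m ≤ t) :
    Module.finrank k
        (Submodule.map ((Ideal.Quotient.mkₐ k (Ideal.span {f})).toLinearMap)
          (MvPolynomial.homogeneousSubmodule (Fin (r + 1)) k t)) =
      Nat.choose (t + r) r - Nat.choose (t + r - m) r := by
  classical
  set q := (Ideal.Quotient.mkₐ k (Ideal.span {f})).toLinearMap
  set F := MvPolynomial.homogeneousSubmodule (Fin (r + 1)) k t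
  have h1 := (q.domRestrict F).finrank_range_add_finrank_ker
  rw [LinearMap.range_domRestrict, LinearMap.ker_domRestrict,
    Groth.Agent.PlanePts.finrank_forms] at h1
  let μ : MvPolynomial.homogeneousSubmodule (Fin (r + 1)) k (t - m) →ₗ[k] F :=
    ((LinearMap.mulLeft k f).comp (Submodule.subtype _)).codRestrict F fun g => by
      have := hf.mul g.2
      rwa [Nat.add_sub_cancel' ht] at this
  have hμ : Function.Injective μ := fun a b h =>
    Subtype.ext (mul_left_cancel₀ hf0 (congrArg Subtype.val h))
  have hrange : LinearMap.range μ = (LinearMap.ker q).comap F.subtype := by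
    refine le_antisymm ?_ ?_
    · rintro _ ⟨g, rfl⟩
      show Ideal.Quotient.mk (Ideal.span {f}) (f * (g : MvPolynomial (Fin (r + 1)) k)) = 0
      exact Ideal.Quotient.eq_zero_iff_mem.2 (Ideal.mul_mem_right _ _ (Ideal.mem_span_singleton_self f))
    · rintro ⟨x, hx⟩ hker
      obtain ⟨g, rfl⟩ := Ideal.mem_span_singleton.1
        (Ideal.Quotient.eq_zero_iff_mem.1 (show Ideal.Quotient.mk (Ideal.span {f}) x = 0 from hker))
      refine ⟨⟨MvPolynomial.homogeneousComponent (t - m) g,
        MvPolynomial.homogeneousComponent_isHomogeneous _ _⟩, Subtype.ext ?_⟩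
      show f * MvPolynomial.homogeneousComponent (t - m) g = f * g
      have h2 := MvPolynomial.homogeneousComponent_of_mem hx (m := t)
      rw [if_pos rfl] at h2
      conv_rhs => rw [← h2]
      conv_rhs => rw [← MvPolynomial.sum_homogeneousComponent g, Finset.mul_sum, map_sum]
      rw [Finset.sum_congr rfl fun i _ => MvPolynomial.homogeneousComponent_of_mem
        (hf.mul (MvPolynomial.homogeneousComponent_isHomogeneous i g)) (m := t)]
      have e : ∀ i : ℕ, t = m + i ↔ t - m = i := fun i => by omega
      simp only [e, Finset.sum_ite_eq]
      split_ifs with h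
      · rfl
      · rw [MvPolynomial.homogeneousComponent_eq_zero (t - m) g (by simp only [Finset.mem_range, not_lt] at h; omega), mul_zero]
  rw [← hrange, LinearMap.finrank_range_of_inj hμ, Groth.Agent.PlanePts.finrank_forms] at h1
  rw [show r + t = t + r by omega, show r + (t - m) = t + r - m by omega] at h1
  omega

end Groth.Agent.S12915
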