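import Groth.Statements.S12917
import Mathlib

set_option autoImplicit false
universe u
open CAlgX

namespace Groth.Agent.S12917

open MvPolynomial

variable (k : Type u) [Field k]

local notation "S" => MvPolynomial (Fin 3) k

/-- The coordinate ring of the line through `p`. -/
noncomputable def phi (p : Fin 3 → k) : S →ₐ[k] Polynomial k :=
  aeval fun i => Polynomial.C (p i) * Polynomial.X

theorem eval_homogeneousComponent_eq (p : Fin 3 → k) (j : ℕ) (f : S) :
    eval p (homogeneousComponent j f) = (phi k p f).coeff j := by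
  induction f using MvPolynomial.induction_on' with
  | monomial d a =>
    have h : phi k p (monomial d a) = Polynomial.C (eval p (monomial d a)) * Polynomial.X ^ d.degree := by
      simp [phi, aeval_monomial, eval_monomial, mul_pow, Finsupp.prod, Finsupp.degree, Finset.prod_mul_distrib,
        Finset.prod_pow_eq_pow_sum, map_prod, mul_assoc]
      all_goals exact Or.inl (Or.inl rfl)
    rw [h, Polynomial.coeff_C_mul_X_pow]
    by_cases hj : j = d.degree
    · subst hj
      rw [homogeneousComponent_of_mem (isHomogeneous_monomial a rfl), if_pos rfl, if_pos rfl]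
    · rw [if_neg hj, homogeneousComponent_of_mem (isHomogeneous_monomial a rfl), if_neg (fun e => hj e), map_zero]
  | add f g hf hg => rw [map_add, map_add, hf, hg, map_add, Polynomial.coeff_add]

theorem mem_ker_phi (p : Fin 3 → k) (f : S) :
    f ∈ RingHom.ker (phi k p) ↔ ∀ j, eval p (homogeneousComponent j f) = 0 := by
  simp_rw [eval_homogeneousComponent_eq, RingHom.mem_ker, Polynomial.ext_iff, Polynomial.coeff_zero]

variable {k}

/-- `M` has a resolution of length at most `n` by finite free modules. -/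
def Res {R : Type u} [CommRing R] : ℕ → ∀ (M : Type u) [AddCommGroup M] [Module R M], Prop
  | 0, M, _, _ => ∃ c, Nonempty (M ≃ₗ[R] (Fin c → R))
  | n + 1, M, _, _ => ∃ (c : ℕ) (f : (Fin c → R) →ₗ[R] M), Function.Surjective f ∧ Res (R := R) n (LinearMap.ker f)

section Res
variable {R : Type u} [CommRing R]

theorem Res.of_equiv : ∀ {n : ℕ} {M N : Type u} [AddCommGroup M] [Module R M] [AddCommGroup N] [Module R N],
    (M ≃ₗ[R] N) → Res (R := R) n M → Res (R := R) n N
  | 0, _, _, _, _, _, _, e, ⟨c, ⟨g⟩⟩ => ⟨c, ⟨e.symm ≪≫ₗ g⟩⟩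
  | n + 1, _, _, _, _, _, _, e, ⟨c, f, hf, h⟩ => ⟨c, e.toLinearMap ∘ₗ f, e.surjective.comp hf,
      Res.of_equiv (LinearEquiv.ofEq _ _ (LinearEquiv.ker_comp e f).symm) h⟩

theorem Res.zero_pi (c : ℕ) : Res (R := R) 0 (Fin c → R) := ⟨c, ⟨LinearEquiv.refl _ _⟩⟩

theorem Res.succ : ∀ {n : ℕ} {M : Type u} [AddCommGroup M] [Module R M],
    Res (R := R) n M → Res (R := R) (n + 1) M
  | 0, _, _, _, ⟨c, ⟨e⟩⟩ => ⟨c, e.symm.toLinearMap, e.symm.surjective, 0,
      ⟨(LinearEquiv.ofEq _ ⊥ (LinearMap.ker_eq_bot.2 e.symm.injective)).trans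
        (LinearEquiv.ofSubsingleton _ _)⟩⟩
  | n + 1, _, _, _, ⟨c, f, hf, h⟩ => ⟨c, f, hf, h.succ⟩

theorem Res.ext : ∀ {n : ℕ} {A B C : Type u} [AddCommGroup A] [Module R A] [AddCommGroup B] [Module R B]
    [AddCommGroup C] [Module R C] (i : A →ₗ[R] B) (q : B →ₗ[R] C), Function.Injective i → Function.Surjective q →
    LinearMap.range i = LinearMap.ker q → Res (R := R) n A → Res (R := R) n C → Res (R := R) n B := by
  intro n
  induction n with
  | zero =>
    intro A B C _ _ _ _ _ _ i q hi hq he ⟨a, ⟨eA⟩⟩ ⟨c, ⟨eC⟩⟩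
    obtain ⟨g, hg⟩ := Module.projective_lifting_property q eC.symm.toLinearMap hq
    have hqg : ∀ x, q (g x) = eC.symm x := fun x => LinearMap.congr_fun hg x
    have hqi : ∀ x, q (i x) = 0 := fun x => by
      rw [← LinearMap.mem_ker, ← he]; exact LinearMap.mem_range_self _ x
    let φ : ((Fin a → R) × (Fin c → R)) →ₗ[R] B := (i ∘ₗ eA.symm.toLinearMap).coprod g
    have hbij : Function.Bijective φ := by
      constructor
      · rw [← LinearMap.ker_eq_bot, LinearMap.ker_eq_bot']
        intro z hz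
        have h2 : z.2 = 0 := by
          have := congrArg q hz
          simpa [φ, hqi, hqg] using this
        have h1 : z.1 = 0 := by
          have : i (eA.symm z.1) = 0 := by simpa [φ, h2] using hz
          exact eA.symm.injective (hi (this.trans (map_zero i).symm) |>.trans (map_zero _).symm)
        exact Prod.ext h1 h2
      · intro b
        have : b - g (eC (q b)) ∈ LinearMap.range i := by
          rw [he, LinearMap.mem_ker, map_sub, hqg, LinearEquiv.symm_apply_apply, sub_self]
        obtain ⟨x, hx⟩ := this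
        exact ⟨(eA x, eC (q b)), by simp [φ, hx]⟩
    exact ⟨a + c, ⟨(LinearEquiv.ofBijective φ hbij).symm ≪≫ₗ (LinearEquiv.sumArrowLequivProdArrow _ _ R R).symm ≪≫ₗ
      LinearEquiv.funCongrLeft R R finSumFinEquiv.symm⟩⟩
  | succ n ih =>
    intro A B C _ _ _ _ _ _ i q hi hq he ⟨a, fA, hfA, rA⟩ ⟨c, fC, hfC, rC⟩
    obtain ⟨g, hg⟩ := Module.projective_lifting_property q fC hq
    have hqg : ∀ x, q (g x) = fC x := fun x => LinearMap.congr_fun hg x
    have hqi : ∀ x, q (i x) = 0 := fun x => by
      rw [← LinearMap.mem_ker, ← he]; exact LinearMap.mem_range_self _ x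
    let e : (Fin (a + c) → R) ≃ₗ[R] (Fin a → R) × (Fin c → R) :=
      LinearEquiv.funCongrLeft R R finSumFinEquiv ≪≫ₗ LinearEquiv.sumArrowLequivProdArrow _ _ R R
    let φ : ((Fin a → R) × (Fin c → R)) →ₗ[R] B := (i ∘ₗ fA).coprod g
    have hφ : Function.Surjective φ := fun b => by
      obtain ⟨y, hy⟩ := hfC (q b)
      have : b - g y ∈ LinearMap.range i := by rw [he, LinearMap.mem_ker, map_sub, hqg, hy, sub_self]
      obtain ⟨x, hx⟩ := this
      obtain ⟨x, rfl⟩ := hfA x
      exact ⟨(x, y), by simp [φ, hx]⟩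
    let j : LinearMap.ker fA →ₗ[R] LinearMap.ker φ :=
      ((LinearMap.inl R (Fin a → R) (Fin c → R)).comp (LinearMap.ker fA).subtype).codRestrict _ fun x => by
        simp [φ, LinearMap.mem_ker.1 x.2]
    let s : LinearMap.ker φ →ₗ[R] LinearMap.ker fC :=
      ((LinearMap.snd R (Fin a → R) (Fin c → R)).comp (LinearMap.ker φ).subtype).codRestrict _ fun x => by
        have h : q (i (fA x.1.1) + g x.1.2) = q 0 := congrArg q x.2
        rw [map_add, hqi, hqg, zero_add, map_zero] at h
        exact h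
    have hk : Res (R := R) n (LinearMap.ker φ) := by
      refine ih j s (fun x y h => Subtype.ext (congrArg (fun z : LinearMap.ker φ => z.1.1) h))
        (fun y => ?_) ?_ rA rC
      · have : g y.1 ∈ LinearMap.range i := by rw [he, LinearMap.mem_ker, hqg]; exact y.2
        obtain ⟨x, hx⟩ := this
        obtain ⟨x, rfl⟩ := hfA x
        exact ⟨⟨(-x, y.1), by simp [φ, hx]⟩, Subtype.ext rfl⟩
      · apply le_antisymm
        · rintro _ ⟨x, rfl⟩
          exact Subtype.ext rfl
        · intro z hz
          have h2 : z.1.2 = 0 := congrArg Subtype.val hz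
          have h : i (fA z.1.1) + g z.1.2 = 0 := z.2
          rw [h2, map_zero, add_zero] at h
          have h1 : fA z.1.1 = 0 := hi (h.trans (map_zero i).symm)
          exact ⟨⟨z.1.1, h1⟩, Subtype.ext (Prod.ext rfl h2.symm)⟩
    refine ⟨a + c, φ ∘ₗ e.toLinearMap, hφ.comp e.surjective, Res.of_equiv ?_ hk⟩
    exact (e.symm.submoduleMap _).trans (LinearEquiv.ofEq _ _ (by
      rw [LinearMap.ker_comp]; exact (Submodule.comap_equiv_eq_map_symm e _).symm))

/-- An ideal with a quotient of resolution length two has resolution length one. -/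
theorem res_ideal (I : Ideal R) (h : Res (R := R) 2 (R ⧸ I)) : Res (R := R) 1 I := by
  obtain ⟨c, f, hf, hk⟩ := h
  let P : Submodule R ((Fin c → R) × R) := LinearMap.ker (f.coprod (-I.mkQ))
  have hP : ∀ z : (Fin c → R) × R, z ∈ P ↔ f z.1 = Submodule.Quotient.mk z.2 := fun z => by
    simp [P, LinearMap.mem_ker, ← sub_eq_add_neg, sub_eq_zero]
  have h1 : Res (R := R) 1 P := by
    refine Res.ext (((LinearMap.inl R _ R).comp (LinearMap.ker f).subtype).codRestrict P fun x =>
      (hP _).2 (by simp [LinearMap.mem_ker.1 x.2])) ((LinearMap.snd R _ R).comp P.subtype)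
      (fun x y h => Subtype.ext (by simpa using congrArg (fun z : P => z.1.1) h)) (fun r => ?_) ?_ hk
      (Res.succ ⟨1, ⟨(LinearEquiv.funUnique (Fin 1) R R).symm⟩⟩)
    · obtain ⟨x, hx⟩ := hf (Submodule.Quotient.mk r)
      exact ⟨⟨(x, r), (hP _).2 hx⟩, rfl⟩
    · apply le_antisymm
      · rintro _ ⟨x, rfl⟩; rfl
      · intro z hz
        have h2 : z.1.2 = 0 := hz
        exact ⟨⟨z.1.1, by simpa [LinearMap.mem_ker, h2] using (hP _).1 z.2⟩, Subtype.ext (Prod.ext rfl h2.symm)⟩
  -- the second projection `P → Fin c → R` splits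
  obtain ⟨l, hl⟩ := Module.projective_lifting_property I.mkQ f (Submodule.mkQ_surjective I)
  let π : P →ₗ[R] I := ((LinearMap.snd R _ R - l ∘ₗ LinearMap.fst R _ R).comp P.subtype).codRestrict I fun z => by
    rw [← Submodule.Quotient.mk_eq_zero]
    change Submodule.Quotient.mk (z.1.2 - l z.1.1) = (0 : R ⧸ I)
    rw [Submodule.Quotient.mk_sub, ← (hP _).1 z.2, sub_eq_zero]
    exact (LinearMap.congr_fun hl z.1.1).symm
  have hπ : Function.Surjective π := fun x => ⟨⟨((0 : Fin c → R), x.1), (hP _).2 (by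
    rw [map_zero]; exact ((Submodule.Quotient.mk_eq_zero _).2 x.2).symm)⟩, Subtype.ext (by simp [π])⟩
  obtain ⟨d, g, hg, hgk⟩ := h1
  refine ⟨d, π ∘ₗ g, hπ.comp hg, ?_⟩
  refine Res.ext (Submodule.inclusion (LinearMap.ker_le_ker_comp g π))
    ((LinearMap.fst R (Fin c → R) R).comp (P.subtype.comp (g.comp (LinearMap.ker (π ∘ₗ g)).subtype)))
    (Submodule.inclusion_injective _) (fun x => ?_) ?_ hgk (Res.zero_pi c)
  · obtain ⟨y, hy⟩ := hg ⟨(x, l x), (hP _).2 (LinearMap.congr_fun hl x).symm⟩
    refine ⟨⟨y, ?_⟩, ?_⟩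
    · rw [LinearMap.mem_ker, LinearMap.comp_apply, hy]; exact Subtype.ext (by simp [π])
    · simp [hy]
  · apply le_antisymm
    · rintro _ ⟨x, rfl⟩
      simp [LinearMap.mem_ker.1 x.2]
    · intro z hz
      have h1 : (g z.1).1.1 = 0 := hz
      have h2 : (g z.1).1.2 - l (g z.1).1.1 = 0 := congrArg Subtype.val (LinearMap.mem_ker.1 z.2)
      rw [h1, map_zero, sub_zero] at h2
      exact ⟨⟨z.1, Subtype.ext (Prod.ext h1 h2)⟩, rfl⟩

end Res

/-- Substituting a linear form for a variable changes nothing modulo the difference. -/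
theorem sub_subst_mem {σ : Type} (J : Ideal (MvPolynomial σ k)) (ψ : MvPolynomial σ k →ₐ[k] MvPolynomial σ k)
    (h : ∀ i, X i - ψ (X i) ∈ J) (f : MvPolynomial σ k) : f - ψ f ∈ J := by
  have : Ideal.Quotient.mkₐ k J = (Ideal.Quotient.mkₐ k J).comp ψ :=
    algHom_ext fun i => (Ideal.Quotient.eq).2 (h i)
  exact (Ideal.Quotient.eq).1 (DFunLike.congr_fun this f)

/-- The point ideal has a Koszul resolution. -/
theorem res_point (p : Fin 3 → k) (hp : p ≠ 0) : Res (R := S) 2 (S ⧸ RingHom.ker (phi k p)) := by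
  classical
  obtain ⟨i, hi⟩ := Function.ne_iff.1 hp
  obtain ⟨a, b, hai, hbi, hab, hall⟩ : ∃ a b : Fin 3, a ≠ i ∧ b ≠ i ∧ a ≠ b ∧ ∀ j, j = i ∨ j = a ∨ j = b :=
    ⟨i + 1, i + 2, (show ∀ i : Fin 3, i + 1 ≠ i by decide) i, (show ∀ i : Fin 3, i + 2 ≠ i by decide) i,
      (show ∀ i : Fin 3, i + 1 ≠ i + 2 by decide) i, (show ∀ i j : Fin 3, j = i ∨ j = i + 1 ∨ j = i + 2 by decide) i⟩
  let y : Fin 3 → S := fun j => X j - C (p j / p i) * X i
  have hphiy : ∀ j, phi k p (y j) = 0 := fun j => by
    simp only [y, phi, map_sub, map_mul, aeval_X, aeval_C, Polynomial.algebraMap_eq]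
    rw [← mul_assoc, ← Polynomial.C_mul, div_mul_cancel₀ _ hi, sub_self]
  let ψ : S →ₐ[k] S := aeval fun j => if j = a then C (p a / p i) * X i else X j
  have hψya : ψ (y a) = 0 := by simp [ψ, y, Ne.symm hai]
  have hψyb : ψ (y b) = y b := by simp [ψ, y, Ne.symm hai, Ne.symm hab]
  have hψmem : ∀ f, f - ψ f ∈ Ideal.span {y a} := sub_subst_mem _ ψ fun j => by
    by_cases hj : j = a
    · subst hj; exact Ideal.subset_span (by simp [ψ, y])
    · simp [ψ, hj]
  have hyb : ∀ c : Fin 3, c ≠ i → y c ≠ 0 := fun c hc h0 => by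
    have := congrArg (aeval (R := k) fun j => if j = c then (1 : k) else 0) h0
    simp [y, Ne.symm hc] at this
  let d1 : (Fin 2 → S) →ₗ[S] S := Fintype.linearCombination S ![y a, y b]
  let d2 : (Fin 1 → S) →ₗ[S] (Fin 2 → S) := Fintype.linearCombination S ![![y b, - y a]]
  have hd1 : ∀ v, d1 v = v 0 * y a + v 1 * y b := fun v => by
    simp [d1, Fintype.linearCombination_apply, Fin.sum_univ_two]
  have hd2 : ∀ v, d2 v = ![v 0 * y b, - (v 0 * y a)] := fun v => by
    simp [d2, Fintype.linearCombination_apply]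
  have hker : RingHom.ker (phi k p) = LinearMap.range d1 := by
    apply le_antisymm
    · intro f hf
      have hJ : Ideal.span {y a, y b} ≤ LinearMap.range d1 := by
        rw [Ideal.span_le]
        rintro z (rfl | rfl)
        · exact ⟨![1, 0], by simp [hd1]⟩
        · exact ⟨![0, 1], by simp [hd1]⟩
      refine hJ ?_
      let θ : S →ₐ[k] S := aeval fun j => C (p j / p i) * X i
      have hθ : f - θ f ∈ Ideal.span {y a, y b} := sub_subst_mem _ θ (fun j => by
        rcases hall j with rfl | rfl | rfl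
        · simp [θ, div_self hi]
        · exact Ideal.subset_span (by simp [θ, y])
        · exact Ideal.subset_span (by simp [θ, y])) f
      let back : Polynomial k →ₐ[k] S := Polynomial.aeval (C (p i)⁻¹ * X i)
      have hθ' : θ = back.comp (phi k p) := algHom_ext fun j => by
        simp only [θ, back, phi, AlgHom.comp_apply, aeval_X, map_mul, Polynomial.aeval_C, Polynomial.aeval_X,
          MvPolynomial.algebraMap_eq]
        rw [← mul_assoc, ← C_mul, div_eq_mul_inv]
      rw [hθ', AlgHom.comp_apply, RingHom.mem_ker.1 hf, map_zero, sub_zero] at hθ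
      exact hθ
    · rintro _ ⟨v, rfl⟩
      rw [hd1, RingHom.mem_ker, map_add, map_mul, map_mul, hphiy, hphiy, mul_zero, mul_zero, add_zero]
  refine ⟨1, (Submodule.mkQ _).comp (LinearEquiv.funUnique (Fin 1) S S).toLinearMap,
    (Submodule.mkQ_surjective _).comp (LinearEquiv.surjective _), Res.of_equiv
      (((LinearEquiv.funUnique (Fin 1) S S).symm.submoduleMap _).trans (LinearEquiv.ofEq _ _ (by
        rw [LinearMap.ker_comp, Submodule.ker_mkQ]; exact (Submodule.comap_equiv_eq_map_symm _ _).symm))) ?_⟩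
  rw [hker]
  refine ⟨2, d1.rangeRestrict, d1.surjective_rangeRestrict, Res.of_equiv ((LinearEquiv.ofInjective d2 ?_).trans
    (LinearEquiv.ofEq _ _ ?_)) (Res.zero_pi 1)⟩
  · intro v w h
    rw [hd2, hd2] at h
    funext j
    have := congrFun h 0
    simp only [Matrix.cons_val_zero, mul_eq_mul_right_iff, hyb b hbi, or_false] at this
    rwa [Subsingleton.elim j 0]
  · rw [LinearMap.ker_rangeRestrict]
    apply le_antisymm
    · rintro _ ⟨v, rfl⟩
      simp [hd1, hd2]; ring
    · intro v hv
      rw [LinearMap.mem_ker, hd1] at hv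
      have h1 : ψ (v 1) = 0 := by
        have := congrArg ψ hv
        simpa [hψya, hψyb, hyb b hbi] using this
      have h2 := hψmem (v 1)
      rw [h1, sub_zero, Ideal.mem_span_singleton'] at h2
      obtain ⟨c, hc⟩ := h2
      have h3 : (v 0 + c * y b) * y a = 0 := by rw [← hv, ← hc]; ring
      rw [mul_eq_zero, or_iff_left (hyb a hai)] at h3
      refine ⟨fun _ => -c, ?_⟩
      rw [hd2]
      funext j
      fin_cases j
      · simpa using (eq_neg_of_add_eq_zero_left h3).symm
      · simpa using hc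

/-- Finite sets of points have quotients of resolution length two. -/
theorem res_points (Z : Finset (Fin 3 → k)) (hZ : ∀ p ∈ Z, p ≠ 0) :
    Res (R := S) 2 (S ⧸ Z.inf fun p => RingHom.ker (phi k p)) := by
  classical
  induction Z using Finset.induction_on with
  | empty =>
    rw [Finset.inf_empty]
    exact Res.succ (Res.succ ⟨0, ⟨LinearEquiv.ofSubsingleton _ _⟩⟩)
  | insert p Z hpZ ih =>
    have hrest := ih fun q hq => hZ q (Finset.mem_insert_of_mem hq)
    have hp := hZ p (Finset.mem_insert_self p Z)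
    rw [Finset.inf_insert]
    generalize Z.inf (fun p => RingHom.ker (phi k p)) = J at hrest ⊢
    let K : Ideal S := RingHom.ker (phi k p)
    change Res (R := S) 2 (S ⧸ K ⊓ J)
    by_cases hJK : J ≤ K
    · rwa [inf_eq_right.2 hJK]
    have hφ : Function.Surjective (phi k p) := fun F => by
      obtain ⟨i, hi⟩ := Function.ne_iff.1 hp
      refine ⟨Polynomial.aeval (C (p i)⁻¹ * X i : S) F, ?_⟩
      rw [← Polynomial.aeval_algHom_apply]
      simp [phi, ← mul_assoc, ← Polynomial.C_mul, inv_mul_cancel₀ (show p i ≠ 0 from hi)]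
    obtain ⟨b, hb⟩ : (J.map (phi k p).toRingHom).IsPrincipal := IsPrincipalIdealRing.principal _
    obtain ⟨s, hsJ, hs⟩ : ∃ s ∈ J, phi k p s = b :=
      (Ideal.mem_map_iff_of_surjective _ hφ).1 (hb ▸ Submodule.mem_span_singleton_self b)
    have hb0 : b ≠ 0 := fun h0 => hJK fun z hz => by
      have := Ideal.mem_map_of_mem (phi k p).toRingHom hz
      rw [hb, h0] at this
      simpa [K] using this
    let i : S ⧸ K →ₗ[S] S ⧸ K ⊓ J := Submodule.mapQ K (K ⊓ J) (LinearMap.mulLeft S s) fun z hz =>
      ⟨K.mul_mem_left s hz, J.mul_mem_right z hsJ⟩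
    refine Res.ext i (Submodule.factor (inf_le_right : K ⊓ J ≤ J)) ?_ (Submodule.factor_surjective _) ?_
      (res_point p hp) hrest
    · rw [← LinearMap.ker_eq_bot, LinearMap.ker_eq_bot']
      intro z hz
      obtain ⟨z, rfl⟩ := Submodule.Quotient.mk_surjective K z
      have : s * z ∈ K ⊓ J := (Submodule.Quotient.mk_eq_zero _).1 hz
      refine (Submodule.Quotient.mk_eq_zero _).2 ?_
      have h := RingHom.mem_ker.1 this.1
      rw [map_mul, hs, mul_eq_zero, or_iff_right hb0] at h
      exact h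
    · apply le_antisymm
      · rintro _ ⟨z, rfl⟩
        obtain ⟨z, rfl⟩ := Submodule.Quotient.mk_surjective K z
        exact (Submodule.Quotient.mk_eq_zero _).2 (J.mul_mem_right z hsJ)
      · intro z hz
        obtain ⟨z, rfl⟩ := Submodule.Quotient.mk_surjective _ z
        have hzJ : z ∈ J := (Submodule.Quotient.mk_eq_zero _).1 hz
        have := Ideal.mem_map_of_mem (phi k p).toRingHom hzJ
        rw [hb, Submodule.mem_span_singleton] at this
        obtain ⟨c, hc⟩ := this
        obtain ⟨c, rfl⟩ := hφ c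
        refine ⟨Submodule.Quotient.mk c, (Submodule.Quotient.eq _).2 ⟨?_, J.sub_mem (J.mul_mem_right c hsJ) hzJ⟩⟩
        change phi k p (s * c - z) = 0
        rw [map_sub, map_mul, hs, mul_comm]
        exact sub_eq_zero.2 hc

/-- Let k be a field, Z a finite set of nonzero vectors in k^3, regarded as points of the projective
plane, and I the homogeneous vanishing ideal of Z in S = k[x_0, x_1, x_2]: a polynomial belongs to I
exactly when each of its homogeneous components vanishes at every vector of Z. Then I has a free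
resolution of length one: for some t there are a (t+1) × t matrix Ψ over S, injective as a map S^t →
S^{t+1}, and an S-linear map π : S^{t+1} → S with ker π = im Ψ and im π = I. (The published
statement speaks of the minimal free resolution of I having length 1; stated here as the existence
of such a resolution.) -/
theorem result (k : Type u) [Field k]
    (Z : Finset (Fin 3 → k)) (hZ : ∀ p ∈ Z, p ≠ 0) (I : Ideal (MvPolynomial (Fin 3) k))
    (hI : ∀ f : MvPolynomial (Fin 3) k, f ∈ I ↔
      ∀ p ∈ Z, ∀ j : ℕ, MvPolynomial.eval p (MvPolynomial.homogeneousComponent j f) = 0) :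
    ∃ (t : ℕ) (Ψ : Matrix (Fin (t + 1)) (Fin t) (MvPolynomial (Fin 3) k)) (π : (Fin (t + 1) → MvPolynomial (Fin 3) k) →ₗ[MvPolynomial (Fin 3) k] MvPolynomial (Fin 3) k),
      LinearMap.ker Ψ.mulVecLin = ⊥ ∧ LinearMap.ker π = LinearMap.range Ψ.mulVecLin ∧ LinearMap.range π = I := by
  classical
  have hI' : I = Z.inf fun p => RingHom.ker (phi k p) := by
    ext f
    simp only [hI, Submodule.mem_finsetInf, mem_ker_phi]
  obtain ⟨N, f, hf, t, ⟨e⟩⟩ := res_ideal I (hI' ▸ res_points Z hZ)
  have hI0 : I ≠ ⊥ := by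
    intro h0
    have : ∀ p ∈ Z, ∃ q : MvPolynomial (Fin 3) k, q ≠ 0 ∧ phi k p q = 0 := fun p hp => by
      obtain ⟨i, hi⟩ := Function.ne_iff.1 (hZ p hp)
      obtain ⟨a, ha⟩ : ∃ a : Fin 3, a ≠ i := ⟨i + 1, (show ∀ i : Fin 3, i + 1 ≠ i by decide) i⟩
      refine ⟨MvPolynomial.C (p i) * MvPolynomial.X a - MvPolynomial.C (p a) * MvPolynomial.X i, fun h => ?_, ?_⟩
      · have := congrArg (MvPolynomial.aeval (R := k) fun j => if j = a then (1 : k) else 0) h
        simp [Ne.symm ha] at this
        exact hi this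
      · simp [phi]; ring
    choose! q hq0 hq using this
    have : ∏ p ∈ Z, q p ∈ I := by
      rw [hI', Submodule.mem_finsetInf]
      intro p hp
      rw [RingHom.mem_ker, map_prod]
      exact Finset.prod_eq_zero hp (hq p hp)
    rw [h0, Ideal.mem_bot, Finset.prod_eq_zero_iff] at this
    obtain ⟨p, hp, h⟩ := this
    exact hq0 p hp h
  have hr : Module.finrank (MvPolynomial (Fin 3) k) I = 1 := by
    refine le_antisymm (le_of_le_of_eq (Submodule.finrank_le I) (Module.finrank_self _)) ?_
    haveI := Submodule.nontrivial_iff_ne_bot.2 hI0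
    haveI : Module.Finite (MvPolynomial (Fin 3) k) I := Module.Finite.of_surjective f hf
    exact Module.finrank_pos
  have hN : N = t + 1 := by
    have h := (LinearMap.ker f).finrank_quotient_add_finrank
    rw [(f.quotKerEquivOfSurjective hf).finrank_eq, hr, e.finrank_eq, Module.finrank_fin_fun,
      Module.finrank_fin_fun] at h
    omega
  subst hN
  let g : (Fin t → MvPolynomial (Fin 3) k) →ₗ[MvPolynomial (Fin 3) k] (Fin (t + 1) → MvPolynomial (Fin 3) k) :=
    (LinearMap.ker f).subtype ∘ₗ e.symm.toLinearMap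
  refine ⟨t, LinearMap.toMatrix' g, I.subtype ∘ₗ f, ?_, ?_, ?_⟩
  · rw [← Matrix.toLin'_apply', Matrix.toLin'_toMatrix', LinearMap.ker_eq_bot]
    exact Subtype.val_injective.comp e.symm.injective
  · rw [← Matrix.toLin'_apply', Matrix.toLin'_toMatrix', LinearMap.ker_comp_of_ker_eq_bot _ (Submodule.ker_subtype I)]
    simp [g, LinearMap.range_comp]
  · rw [LinearMap.range_comp, LinearMap.range_eq_top.2 hf, Submodule.map_top, Submodule.range_subtype]

end Groth.Agent.S12917
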