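import Groth.Statements.S12918
import Groth.Agent.Comod.Integral

set_option autoImplicit false
universe u v w
open HopfRep

namespace Groth.Agent.S12918

/-- Let `k` be a commutative ring, `A` a commutative Hopf algebra over `k`, flat as a `k`-module and `B`
a commutative `k`-algebra with a coaction `ρ : B → B ⊗ A` that is an algebra map (an action of the
affine group scheme `Spec A` on `Spec B`). Then the action admits a total integral — a comodule map
`α : A → B`, for the regular coaction on `A`, with `α 1 = 1` — if and only if `ρ` has a left inverse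
`B ⊗ A → B` which is a comodule map for the coaction `id ⊗ Δ` on `B ⊗ A`. -/
theorem result
    (k : Type u) [CommRing k] (A : Type v) [CommRing A] [HopfAlgebra k A] [Module.Flat k A]
    (B : Type w) [CommRing B] [Algebra k B] [HopfRep.Comod k A B] [GLin.IsCoactAlg k A B] :
    (∃ α : A →ₗ[k] B, Hoch.IsComodHom A α ∧ α 1 = 1) ↔
      ∃ lam : Hoch.Ind k A B →ₗ[k] B, Hoch.IsComodHom A lam ∧ lam ∘ₗ Hoch.toInd k A B = LinearMap.id := by
  constructor
  · rintro ⟨α, hα, h1⟩
    exact ⟨_, Comod.isComodHom_lam (M := B) hα, LinearMap.ext fun b => Comod.lam_coact h1 b⟩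
  · rintro ⟨lam, hlam, hl⟩
    refine ⟨lam ∘ₗ (Hoch.Ind.equiv k A B).toLinearMap ∘ₗ TensorProduct.mk k B A 1,
      Comod.isComodHom_comp hlam (LinearMap.ext fun a => ?_), ?_⟩
    · change Hoch.Ind.coactAux k A B ((1 : B) ⊗ₜ[k] a) =
        (TensorProduct.mk k B A 1).rTensor A (Coalgebra.comul (R := k) a)
      rw [Hoch.Ind.coactAux_tmul]
      induction Coalgebra.comul (R := k) a using TensorProduct.induction_on with
      | zero => simp
      | tmul x y => simp
      | add y z hy hz => simp only [TensorProduct.tmul_add, map_add, hy, hz]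
    · have := LinearMap.congr_fun hl 1
      simp only [LinearMap.comp_apply, Hoch.toInd, GLin.IsCoactAlg.coact_one] at this
      simpa [Algebra.TensorProduct.one_def] using this

end Groth.Agent.S12918
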