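import Groth.Statements.S12923
import Groth.Agent.Comod.Integral
import Groth.Agent.S12921
import Mathlib.RingTheory.Spectrum.Prime.RingHom

set_option autoImplicit false
universe u v w
open HopfRep

namespace Groth.Agent.S12923

/-- Let `k` be a commutative ring, `A` a commutative Hopf algebra over `k`, flat as a `k`-module, `B` a
commutative `k`-algebra with a coaction of `A` that is an algebra map and admits a total integral (a
comodule map `α : A → B` with `α 1 = 1`), `C = B^A`, and `b` an ideal of `B` which is a subcomodule
(a closed subscheme of `Spec B` stable under the action). Then the image of `V(b)` under `Spec B →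
Spec C` is the closed set `V(b ∩ C)`. (The published statement assumes only that taking invariants
is exact on `(B, A)`-modules; a total integral, assumed here, gives that exactness.) -/
theorem result
    (k : Type u) [CommRing k] (A : Type v) [CommRing A] [HopfAlgebra k A] [Module.Flat k A]
    (B : Type w) [CommRing B] [Algebra k B] [HopfRep.Comod k A B] [GLin.IsCoactAlg k A B]
    (htame : ∃ α : A →ₗ[k] B, Hoch.IsComodHom A α ∧ α 1 = 1)
    (b : Ideal B) (hb : HopfRep.IsSubcomod (k := k) (A := A) (b.restrictScalars k)) :
    PrimeSpectrum.comap (algebraMap (GLin.invariants k A B) B) '' PrimeSpectrum.zeroLocus (b : Set B) =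
      PrimeSpectrum.zeroLocus ((b.comap (algebraMap (GLin.invariants k A B) B) : Ideal (GLin.invariants k A B)) : Set (GLin.invariants k A B)) := by
  apply subset_antisymm
  · rintro _ ⟨q, hq, rfl⟩
    rw [PrimeSpectrum.mem_zeroLocus] at hq ⊢
    exact fun x hx => hq hx
  · intro p hp
    rw [PrimeSpectrum.mem_zeroLocus] at hp
    obtain ⟨α, hα, h1⟩ := htame
    let f : GLin.invariants k A B →+* B ⧸ b := (Ideal.Quotient.mk b).comp (algebraMap (GLin.invariants k A B) B)
    have hR : ∀ y ∈ b, TameAct.reynolds k A B B α y ∈ b := by
      intro y hy
      obtain ⟨z, hz⟩ := hb y hy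
      change TensorProduct.lift _ (HopfRep.Comod.coact (k := k) (A := A) y) ∈ b
      rw [← hz]
      clear hz
      induction z using TensorProduct.induction_on with
      | zero => simp
      | tmul u v => simpa using b.mul_mem_left _ u.2
      | add u v hu hv => rw [map_add, map_add]; exact b.add_mem hu hv
    have key : (p.asIdeal.map f).comap f = p.asIdeal := by
      refine le_antisymm (fun x hx => ?_) Ideal.le_comap_map
      rw [Ideal.mem_comap, ← Ideal.map_map, Ideal.mem_map_iff_of_surjective _ Ideal.Quotient.mk_surjective] at hx
      obtain ⟨z, hz, hzx⟩ := hx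
      have hx' : (x : B) - z ∈ b := by
        rw [← Ideal.Quotient.eq]; exact hzx.symm
      have hzinv : TameAct.reynolds k A B B α z ∈ GLin.invariants k A B := Comod.reynolds_mem_fixedPts hα z
      have hzp : (⟨_, hzinv⟩ : GLin.invariants k A B) ∈ p.asIdeal := by
        rw [← S12921.result k A B ⟨α, hα, h1⟩ p.asIdeal, Ideal.mem_comap]
        have : ∀ w ∈ p.asIdeal.map (algebraMap (GLin.invariants k A B) B),
            TameAct.reynolds k A B B α w ∈ p.asIdeal.map (algebraMap (GLin.invariants k A B) B) := by
          intro w hw
          rw [Ideal.map] at hw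
          induction hw using Submodule.span_induction with
          | mem t ht =>
            obtain ⟨t, ht, rfl⟩ := ht
            rw [Comod.reynolds_eq_self h1 (show (algebraMap (GLin.invariants k A B) B t) ∈ _ from t.2)]
            exact Ideal.mem_map_of_mem _ ht
          | zero => rw [map_zero]; exact zero_mem _
          | add u v _ _ hu hv => rw [map_add]; exact add_mem hu hv
          | smul a u hu' hu =>
            clear hu
            induction hu' using Submodule.span_induction generalizing a with
            | mem t ht =>
              obtain ⟨t, ht, rfl⟩ := ht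
              rw [smul_eq_mul, mul_comm, show algebraMap (GLin.invariants k A B) B t = (t : B) from rfl,
                S12921.key hα h1]
              exact Ideal.mul_mem_right _ _ (Ideal.mem_map_of_mem _ ht)
            | zero => rw [smul_zero, map_zero]; exact zero_mem _
            | add u v _ _ hu hv => rw [smul_add, map_add]; exact add_mem (hu a) (hv a)
            | smul c u _ hu => rw [smul_smul]; exact hu _
        exact this z hz
      have hd : x - ⟨_, hzinv⟩ ∈ p.asIdeal := by
        apply hp
        rw [SetLike.mem_coe, Ideal.mem_comap, map_sub]
        change (x : B) - TameAct.reynolds k A B B α z ∈ b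
        rw [← Comod.reynolds_eq_self h1 (show (x : B) ∈ _ from x.2), ← map_sub]
        exact hR _ hx'
      simpa using p.asIdeal.add_mem hd hzp
    obtain ⟨q, hq⟩ := (PrimeSpectrum.mem_range_comap_iff (f := f)).2 key
    refine ⟨PrimeSpectrum.comap (Ideal.Quotient.mk b) q, ?_, ?_⟩
    · rw [PrimeSpectrum.mem_zeroLocus]
      intro y hy
      change Ideal.Quotient.mk b y ∈ q.asIdeal
      rw [Ideal.Quotient.eq_zero_iff_mem.2 hy]; exact zero_mem _
    · rw [← hq]; rfl

end Groth.Agent.S12923
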