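import Groth.Statements.S12924
import Groth.Agent.Comod.CatQuot

set_option autoImplicit false
universe u
open CategoryTheory AlgebraicGeometry
open HopfRep

namespace Groth.Agent.S12924

/-- Let `k` be a commutative ring, `A` a commutative Hopf algebra over `k`, flat as a `k`-module, `B` a
commutative `k`-algebra with a coaction `ρ : B → B ⊗ A` that is an algebra map and admits a total
integral (a comodule map `α : A → B` with `α 1 = 1`), and `C = B^A`. Then `Spec B → Spec C` is a
categorical quotient of the action in the category of schemes: for every scheme `Z` and every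
morphism `ψ : Spec B → Z` which is invariant, i.e. has the same composite with `Spec (B ⊗ A) → Spec
B` induced by `ρ` and by `b ↦ b ⊗ 1`, there is exactly one morphism `Spec C → Z` through which `ψ`
factors. (The published statement assumes only that taking invariants is exact on `(B, A)`-modules;
a total integral, assumed here, gives that exactness.) -/
theorem result
    (k : Type u) [CommRing k] (A : Type u) [CommRing A] [HopfAlgebra k A] [Module.Flat k A]
    (B : Type u) [CommRing B] [Algebra k B] [HopfRep.Comod k A B] [GLin.IsCoactAlg k A B]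
    (htame : ∃ α : A →ₗ[k] B, Hoch.IsComodHom A α ∧ α 1 = 1)
    (Z : Scheme.{u}) (ψ : Spec (CommRingCat.of B) ⟶ Z)
    (hψ : Spec.map (CommRingCat.ofHom (GLin.coactAlgHom k A B).toRingHom) ≫ ψ =
      Spec.map (CommRingCat.ofHom
        (Algebra.TensorProduct.includeLeftRingHom : B →+* TensorProduct k B A)) ≫ ψ) :
    ∃! χ : Spec (CommRingCat.of (GLin.invariants k A B)) ⟶ Z,
      Spec.map (CommRingCat.ofHom (algebraMap (GLin.invariants k A B) B)) ≫ χ = ψ := by
  obtain ⟨α, hα, h1⟩ := htame
  let ι := Comod.CatQuot.inc k A B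
  have hιi : Function.Injective ι := Comod.CatQuot.inc_injective
  have hιs : Function.Surjective (PrimeSpectrum.comap ι) := Comod.CatQuot.inc_surjective ⟨α, hα, h1⟩
  have hfix : ∀ b : B, (GLin.coactAlgHom k A B).toRingHom b =
      (Algebra.TensorProduct.includeLeftRingHom : B →+* TensorProduct k B A) b ↔ b ∈ ι.range :=
    fun b => ⟨fun h => ⟨⟨b, h⟩, rfl⟩, fun ⟨z, hz⟩ => hz ▸ z.2⟩
  choose c U hcp hU hW using Comod.CatQuot.exists_nbhd ψ hψ hα h1
  have hspan : Ideal.span (Set.range c) = ⊤ := by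
    by_contra hne
    obtain ⟨M, hM, hle⟩ := Ideal.exists_le_maximal _ hne
    exact hcp ⟨M, hM.isPrime⟩ (hle (Ideal.subset_span ⟨_, rfl⟩))
  choose χ hχ using fun p => Comod.CatQuot.exists_local (GLin.coactAlgHom k A B).toRingHom
    (Algebra.TensorProduct.includeLeftRingHom : B →+* TensorProduct k B A) ι hιi hfix ψ hψ (c p) (U p) (hU p)
    (hW p)
  let 𝒰 : (Spec (CommRingCat.of (GLin.invariants k A B))).OpenCover :=
    (Scheme.affineOpenCoverOfSpanRangeEqTop (R := CommRingCat.of (GLin.invariants k A B)) c hspan).openCover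
  have hcompat : ∀ x y, Limits.pullback.fst (𝒰.f x) (𝒰.f y) ≫ χ x =
      Limits.pullback.snd _ _ ≫ χ y := by
    intro x y
    refine Scheme.hom_ext_of_forall _ _ fun z => ?_
    let P := Limits.pullback.fst (𝒰.f x) (𝒰.f y) ≫ 𝒰.f x
    haveI : IsOpenImmersion P := inferInstance
    obtain ⟨_, ⟨e, rfl⟩, hze, he⟩ := PrimeSpectrum.isTopologicalBasis_basic_opens.exists_subset_of_mem_open
      (show P z ∈ (P.opensRange : Set _) from ⟨z, rfl⟩) P.opensRange.isOpen
    have hsub : Set.range (Comod.CatQuot.jj e) ⊆ Set.range P := by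
      rw [Comod.CatQuot.range_jj]
      exact he
    let l := IsOpenImmersion.lift P (Comod.CatQuot.jj e) hsub
    have hl : l ≫ P = Comod.CatQuot.jj e := IsOpenImmersion.lift_fac _ _ hsub
    have hsubB : ∀ w (h : Set.range (Comod.CatQuot.jj e) ⊆ Set.range (Comod.CatQuot.jj (c w))),
        Set.range (Comod.CatQuot.jj (ι e)) ⊆ Set.range (Comod.CatQuot.jj (ι (c w))) := by
      intro w h
      rw [Comod.CatQuot.range_jj, Comod.CatQuot.range_jj] at h ⊢
      exact fun t ht => h (a := PrimeSpectrum.comap ι t) ht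
    have hgen : ∀ w (m : Spec (CommRingCat.of (Localization.Away e)) ⟶ Spec (CommRingCat.of (Localization.Away (c w)))),
        m ≫ Comod.CatQuot.jj (c w) = Comod.CatQuot.jj e →
        Comod.CatQuot.qloc ι e ≫ m ≫ χ w = Comod.CatQuot.jj (ι e) ≫ ψ := by
      intro w m hm
      have hr : Set.range (Comod.CatQuot.jj e) ⊆ Set.range (Comod.CatQuot.jj (c w)) := by
        rintro _ ⟨t, rfl⟩
        exact ⟨m t, by rw [← Scheme.Hom.comp_apply, hm]⟩
      let s := IsOpenImmersion.lift (Comod.CatQuot.jj (ι (c w))) (Comod.CatQuot.jj (ι e)) (hsubB w hr)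
      have hs : s ≫ Comod.CatQuot.jj (ι (c w)) = Comod.CatQuot.jj (ι e) := IsOpenImmersion.lift_fac _ _ _
      have hsq : Comod.CatQuot.qloc ι e ≫ m = s ≫ Comod.CatQuot.qloc ι (c w) := by
        rw [← cancel_mono (Comod.CatQuot.jj (c w)), Category.assoc, Category.assoc, hm,
          Comod.CatQuot.qloc_jj, Comod.CatQuot.qloc_jj, ← Category.assoc s, hs]
      rw [← Category.assoc, hsq, Category.assoc, hχ, ← Category.assoc, hs]
    have key : l ≫ (Limits.pullback.fst (𝒰.f x) (𝒰.f y) ≫ χ x) = l ≫ (Limits.pullback.snd _ _ ≫ χ y) := by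
      refine Comod.CatQuot.hom_ext _ (Comod.CatQuot.loc_injective ι hιi e) (Comod.CatQuot.loc_surjective ι hιs e) _ _ ?_
      rw [← Category.assoc l, ← Category.assoc l]
      refine (hgen x (l ≫ Limits.pullback.fst _ _) ((Category.assoc _ _ _).trans hl)).trans (Eq.symm ?_)
      refine hgen y (l ≫ Limits.pullback.snd _ _) ?_
      rw [Category.assoc]
      exact (congrArg (l ≫ ·) Limits.pullback.condition.symm).trans hl
    let V := P ⁻¹ᵁ (Comod.CatQuot.jj e).opensRange
    refine ⟨V, by change P z ∈ Set.range (Comod.CatQuot.jj e); rw [Comod.CatQuot.range_jj]; exact hze, ?_⟩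
    let t := IsOpenImmersion.lift (Comod.CatQuot.jj e) (V.ι ≫ P) (by
      rintro _ ⟨v, rfl⟩
      exact v.2)
    have ht : t ≫ l = V.ι := by
      rw [← cancel_mono P, Category.assoc, hl, IsOpenImmersion.lift_fac]
    rw [← ht, Category.assoc, Category.assoc]
    exact congrArg (t ≫ ·) key
  refine ⟨𝒰.glueMorphisms χ hcompat, ?_, fun χ' h' => ?_⟩
  · let 𝒱 : (Spec (CommRingCat.of B)).OpenCover :=
      (Scheme.affineOpenCoverOfSpanRangeEqTop (R := CommRingCat.of B) (fun p => ι (c p)) (by
        have := congrArg (Ideal.map ι) hspan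
        rwa [Ideal.map_span, ← Set.range_comp, Ideal.map_top] at this)).openCover
    refine 𝒱.hom_ext _ _ fun p => ?_
    change Comod.CatQuot.jj (ι (c p)) ≫ Spec.map (CommRingCat.ofHom ι) ≫ _ = Comod.CatQuot.jj (ι (c p)) ≫ ψ
    rw [← Category.assoc, ← Comod.CatQuot.qloc_jj, Category.assoc]
    exact (congrArg (Comod.CatQuot.qloc ι (c p) ≫ ·) (𝒰.ι_glueMorphisms χ hcompat p)).trans (hχ p)
  · refine 𝒰.hom_ext _ _ fun p => ?_
    rw [Scheme.Cover.ι_glueMorphisms]
    refine Comod.CatQuot.hom_ext _ (Comod.CatQuot.loc_injective ι hιi (c p)) (Comod.CatQuot.loc_surjective ι hιs (c p)) _ _ ?_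
    refine Eq.trans ?_ (hχ p).symm
    change Comod.CatQuot.qloc ι (c p) ≫ Comod.CatQuot.jj (c p) ≫ χ' = _
    rw [← Category.assoc, Comod.CatQuot.qloc_jj, Category.assoc, h']

end Groth.Agent.S12924
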