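import Groth.Statements.S12925
import Groth.Prelude.Def_GLin
import Groth.Prelude.Def_Hoch
import Mathlib.RingTheory.Bialgebra.MonoidAlgebra

set_option autoImplicit false
universe u w
open HopfRep

namespace Groth.Agent.S12925

/-- Let `k` be a commutative ring, `M` a commutative group and `B` a commutative `k`-algebra with a
coaction of the group algebra `k[M]` that is an algebra map (an action of the diagonalizable group
scheme `D(M) = Spec k[M]` on `Spec B`). Then the action is tame: there is a comodule map `α : k[M] →
B`, for the regular coaction on `k[M]`, with `α 1 = 1`. -/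
theorem result
    (k : Type u) [CommRing k] (M : Type u) [CommGroup M]
    (B : Type w) [CommRing B] [Algebra k B] [HopfRep.Comod k (MonoidAlgebra k M) B]
    [GLin.IsCoactAlg k (MonoidAlgebra k M) B] :
    ∃ α : MonoidAlgebra k M →ₗ[k] B, Hoch.IsComodHom (MonoidAlgebra k M) α ∧ α 1 = 1 := by
  classical
  let η : MonoidAlgebra k M →ₗ[k] k := Finsupp.lapply (1 : M) ∘ₗ (MonoidAlgebra.coeffLinearEquiv k).toLinearMap
  refine ⟨Algebra.linearMap k B ∘ₗ η, LinearMap.ext fun a => ?_, by simp [η, MonoidAlgebra.one_def]⟩
  have h1 : HopfRep.Comod.coact (k := k) (A := MonoidAlgebra k M) (1 : B) = (1 : B) ⊗ₜ[k] 1 :=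
    GLin.IsCoactAlg.coact_one (k := k)
  induction a using MonoidAlgebra.induction_linear with
  | zero => simp
  | add y z hy hz => simp only [map_add, hy, hz]
  | single g r =>
    simp only [LinearMap.comp_apply, Algebra.linearMap_apply, Algebra.algebraMap_eq_smul_one, map_smul, h1]
    change _ = (Algebra.linearMap k B ∘ₗ η).rTensor (MonoidAlgebra k M) (Coalgebra.comul (R := k) _)
    simp only [MonoidAlgebra.comul_single, CommSemiring.comul_apply, TensorProduct.map_tmul, LinearMap.rTensor_tmul]
    rcases eq_or_ne g 1 with rfl | hg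
    · simp [η, MonoidAlgebra.one_def, TensorProduct.smul_tmul', Algebra.smul_def]
      rw [show MonoidAlgebra.single (1 : M) r = r • MonoidAlgebra.single (1 : M) (1 : k) by simp,
        ← TensorProduct.smul_tmul, Algebra.smul_def, mul_one]
    · simp [η, hg]

end Groth.Agent.S12925
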