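import Groth.Statements.S12928
import Groth.Agent.Comod.HomMod

set_option autoImplicit false
universe u
open HopfRep

namespace Groth.Agent.S12928

open scoped TensorProduct


/-- Let `k` be a commutative ring, `A` a commutative Hopf algebra over `k` which is finite locally free
(finite projective, in particular flat) as a `k`-module, `B` a commutative `k`-algebra with a
coaction of `A` that is an algebra map, and `C = B^A` the ring of invariants; assume `C` Noetherian
and `B` finite and flat over `C`. If taking invariants is exact on `(B, A)`-modules — for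
`B`-modules `M`, `N` with compatible `A`-coactions (in the universe of `k`, `A`, `B`) every
surjective `B`-linear comodule map `M → N` maps `M^A` onto `N^A` — then the action is tame: there is
a comodule map `α : A → B` with `α 1 = 1`. Together with the converse (a total integral makes
invariants exact) this says that tameness of the action is the exactness of invariants. (The
published statement does not assume `B` finite over `C`; its proof uses that finiteness, which is
assumed here.) -/
theorem result
    (k : Type u) [CommRing k] (A : Type u) [CommRing A] [HopfAlgebra k A] [Module.Flat k A]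
    [Module.Finite k A] [Module.Projective k A]
    (B : Type u) [CommRing B] [Algebra k B] [HopfRep.Comod k A B] [GLin.IsCoactAlg k A B]
    [IsNoetherianRing (GLin.invariants k A B)] [Module.Finite (GLin.invariants k A B) B] [Module.Flat (GLin.invariants k A B) B]
    (hexact : ∀ (M N : Type u) [AddCommGroup M] [Module k M] [Module B M] [IsScalarTower k B M]
      [HopfRep.Comod k A M] [TameAct.IsHopfMod k A B M]
      [AddCommGroup N] [Module k N] [Module B N] [IsScalarTower k B N]
      [HopfRep.Comod k A N] [TameAct.IsHopfMod k A B N] (f : M →ₗ[B] N),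
      Hoch.IsComodHom A (f.restrictScalars k) → Function.Surjective f →
      ∀ n ∈ HopfRep.fixedPts k A N, ∃ m ∈ HopfRep.fixedPts k A M, f m = n) :
    ∃ α : A →ₗ[k] B, Hoch.IsComodHom A α ∧ α 1 = 1 := by
  obtain ⟨n, g, s, -, -, hgs⟩ := Module.Finite.exists_comp_eq_id_of_projective k A
  let ι := fun (Q : Type u) [AddCommGroup Q] [Module k Q] => Comod.HomMod.iota (k := k) (A := A) (B := B) Q
  have hinj : ∀ (Q : Type u) [AddCommGroup Q] [Module k Q], Function.Injective (ι Q) := fun Q _ _ =>
    Function.LeftInverse.injective (Comod.HomMod.iotaInv_iota (Q := Q) hgs)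
  let C : (A →ₗ[k] B) →ₗ[k] (A →ₗ[k] B) ⊗[k] A := Comod.HomMod.iotaInv A g s ∘ₗ Comod.HomMod.theta
  have hC : ∀ φ, Comod.HomMod.iota A (C φ) = Comod.HomMod.theta φ := fun φ =>
    Comod.HomMod.iota_iotaInv hgs _
  letI cM : HopfRep.Comod k A (A →ₗ[k] B) :=
    { coact := C
      coassoc := LinearMap.ext fun φ => hinj _ (Comod.HomMod.theta_theta φ (C φ) (hC φ) C hC)
      counit_comp := LinearMap.ext fun φ => hinj k (LinearMap.ext fun a => by
        have hnat : ∀ z : (A →ₗ[k] B) ⊗[k] A, Comod.HomMod.iota k
            ((Coalgebra.counit (R := k) (A := A)).lTensor (A →ₗ[k] B) z) a =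
            (Coalgebra.counit (R := k) (A := A)).lTensor B (Comod.HomMod.iota A z a) := by
          intro z
          induction z using TensorProduct.induction_on with
          | zero => simp
          | tmul p q => simp
          | add p q hp hq => simp only [map_add, LinearMap.add_apply, hp, hq]
        refine (hnat _).trans ?_
        rw [hC, Comod.HomMod.theta_counit]
        rfl) }
  haveI hM : TameAct.IsHopfMod k A B (A →ₗ[k] B) := ⟨fun b φ => hinj A (LinearMap.ext fun a => by
    have hnat : ∀ (w : B ⊗[k] A) (z : (A →ₗ[k] B) ⊗[k] A), Comod.HomMod.iota A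
        (TameAct.hmSMul k A B (A →ₗ[k] B) w z) a = w * Comod.HomMod.iota A z a := by
      intro w z
      induction w using TensorProduct.induction_on with
      | zero => simp
      | add p q hp hq => simp only [map_add, LinearMap.add_apply, hp, hq, add_mul]
      | tmul b c =>
        induction z using TensorProduct.induction_on with
        | zero => simp
        | add p q hp hq => simp only [map_add, LinearMap.add_apply, hp, hq, mul_add]
        | tmul p q => simp
    refine Eq.trans ?_ (hnat _ _).symm
    change Comod.HomMod.iota A (C (b • φ)) a = _ * Comod.HomMod.iota A (C φ) a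
    rw [hC, hC, Comod.HomMod.theta_smul]
    rfl)⟩
  haveI : TameAct.IsHopfMod k A B B := ⟨fun b m => by
    rw [smul_eq_mul, GLin.IsCoactAlg.coact_mul]
    induction HopfRep.Comod.coact (k := k) (A := A) b using TensorProduct.induction_on with
    | zero => simp
    | add p q hp hq => simp only [map_add, LinearMap.add_apply, hp, hq, add_mul]
    | tmul x y =>
      induction HopfRep.Comod.coact (k := k) (A := A) m using TensorProduct.induction_on with
      | zero => simp
      | add p q hp hq => simp only [map_add, mul_add, hp, hq]
      | tmul p q => simp⟩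
  let e : (A →ₗ[k] B) →ₗ[B] B :=
    { toFun := fun φ => φ 1
      map_add' := fun _ _ => rfl
      map_smul' := fun _ _ => rfl }
  have he : Hoch.IsComodHom A (e.restrictScalars k) := LinearMap.ext fun φ => by
    have hnat : ∀ z : (A →ₗ[k] B) ⊗[k] A, (e.restrictScalars k).rTensor A z = Comod.HomMod.iota A z 1 := by
      intro z
      induction z using TensorProduct.induction_on with
      | zero => simp
      | tmul p q => simp [e]
      | add p q hp hq => simp only [map_add, LinearMap.add_apply, hp, hq]
    refine Eq.trans ?_ (hnat _).symm
    change HopfRep.Comod.coact (k := k) (A := A) (φ 1) = Comod.HomMod.iota A (C φ) 1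
    rw [hC, Comod.HomMod.theta_apply, Bialgebra.comul_one, Algebra.TensorProduct.one_def, TensorProduct.map_tmul,
      LinearMap.mul'_apply, AlgHom.toLinearMap_apply, map_one (Comod.HomMod.invR (k := k) (A := A) (B := B)), mul_one,
      LinearMap.comp_apply]
  have hs : Function.Surjective e := fun b =>
    ⟨(Coalgebra.counit (R := k) (A := A)).smulRight b, by simp [e, Bialgebra.counit_one]⟩
  have h1 : (1 : B) ∈ HopfRep.fixedPts k A B := (GLin.invariants k A B).one_mem
  obtain ⟨α, hα, hα1⟩ := hexact (A →ₗ[k] B) B e he hs 1 h1
  refine ⟨α, LinearMap.ext fun a => ?_, hα1⟩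
  have hth : Comod.HomMod.theta α = (TensorProduct.mk k B A).flip 1 ∘ₗ α := by
    rw [← hC]
    have : C α = α ⊗ₜ[k] (1 : A) := hα
    rw [this]
    rfl
  have hinv : WithConv.toConv (Comod.HomMod.invR (k := k) (A := A) (B := B)).toLinearMap *
      WithConv.toConv (Algebra.TensorProduct.includeRight : A →ₐ[k] B ⊗[k] A).toLinearMap = 1 := by
    rw [← Comod.HomMod.toLinear_conv, Comod.HomMod.invR, Comod.antipode_comp_conv, Comod.HomMod.toLinear_one]
  have hconv : WithConv.toConv (HopfRep.Comod.coact (k := k) (A := A) ∘ₗ α) =
      WithConv.toConv (Comod.HomMod.theta α) *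
        WithConv.toConv (Algebra.TensorProduct.includeRight : A →ₐ[k] B ⊗[k] A).toLinearMap := by
    change _ = WithConv.toConv (WithConv.toConv (HopfRep.Comod.coact (k := k) (A := A) ∘ₗ α) *
      WithConv.toConv (Comod.HomMod.invR (k := k) (A := A) (B := B)).toLinearMap).ofConv * _
    rw [WithConv.toConv_ofConv, mul_assoc, hinv, mul_one]
  have hfin := LinearMap.congr_fun (congrArg WithConv.ofConv hconv) a
  rw [hth] at hfin
  refine hfin.trans ?_
  change LinearMap.mul' k _ (TensorProduct.map ((TensorProduct.mk k B A).flip 1 ∘ₗ α)
    (Algebra.TensorProduct.includeRight : A →ₐ[k] B ⊗[k] A).toLinearMap (Coalgebra.comul (R := k) a)) =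
      α.rTensor A (Coalgebra.comul (R := k) a)
  induction Coalgebra.comul (R := k) a using TensorProduct.induction_on with
  | zero => simp
  | tmul p q => simp
  | add p q hp hq => simp only [map_add, hp, hq]

end Groth.Agent.S12928
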