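import Groth.Statements.S12929
import Groth.Agent.Comod.Integral

set_option autoImplicit false
universe u v w w'
open HopfRep

namespace Groth.Agent.S12929

/-- Let `k` be a commutative ring, `A` a commutative Hopf algebra over `k`, `M` a right `A`-comodule and
`N` a `k`-module; give `N ⊗ A` the coaction `id ⊗ Δ`. Then for every `k`-linear map `h : M → N` the
composite `(h ⊗ id_A) ∘ ρ_M : M → N ⊗ A` is a comodule map, and every comodule map `f : M → N ⊗ A`
is of this form for exactly one `h` (which is `(id_N ⊗ ε) ∘ f`): comodule maps `M → N ⊗ A`
correspond bijectively to linear maps `M → N`. -/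
theorem result
    (k : Type u) [CommRing k] (A : Type v) [CommRing A] [HopfAlgebra k A]
    (M : Type w) [AddCommGroup M] [Module k M] [HopfRep.Comod k A M]
    (N : Type w') [AddCommGroup N] [Module k N] :
    (∀ h : M →ₗ[k] N, Hoch.IsComodHom A
        ((Hoch.Ind.equiv k A N).toLinearMap ∘ₗ h.rTensor A ∘ₗ HopfRep.Comod.coact (k := k) (A := A))) ∧
      ∀ f : M →ₗ[k] Hoch.Ind k A N, Hoch.IsComodHom A f →
        ∃! h : M →ₗ[k] N,
          f = (Hoch.Ind.equiv k A N).toLinearMap ∘ₗ h.rTensor A ∘ₗ HopfRep.Comod.coact (k := k) (A := A) := by
  constructor
  · intro h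
    exact Comod.isComodHom_comp (g := (Hoch.Ind.equiv k A N).toLinearMap ∘ₗ h.rTensor A ∘ₗ
      (Hoch.Ind.equiv k A M).symm.toLinearMap) (f := Hoch.toInd k A M)
      (Comod.isComodHom_ind_map h) (Comod.isComodHom_toInd (P := M))
  · intro f hf
    refine ⟨Hoch.Ind.counit k A N ∘ₗ f, ?_, ?_⟩
    · refine LinearMap.ext fun m => ?_
      have h := LinearMap.congr_fun hf m
      simp only [LinearMap.comp_apply] at h ⊢
      rw [LinearMap.rTensor_comp_apply, ← h]
      let cu : TensorProduct k N A →ₗ[k] N :=
        (TensorProduct.rid k N).toLinearMap ∘ₗ (Coalgebra.counit (R := k) (A := A)).lTensor N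
      have hz : ∀ z : TensorProduct k N A, cu.rTensor A (Hoch.Ind.coactAux k A N z) = z := by
        intro z
        induction z using TensorProduct.induction_on with
        | zero => simp
        | add y z hy hz => simp only [map_add, hy, hz]
        | tmul n a =>
          rw [Hoch.Ind.coactAux_tmul]
          have : ∀ w : TensorProduct k A A, cu.rTensor A ((TensorProduct.assoc k N A A).symm (n ⊗ₜ w)) =
              n ⊗ₜ (TensorProduct.lid k A ((Coalgebra.counit (R := k) (A := A)).rTensor A w)) := by
            intro w
            induction w using TensorProduct.induction_on with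
            | zero => simp
            | add y z hy hz => simp only [TensorProduct.tmul_add, map_add, hy, hz]
            | tmul x y => simp [cu, TensorProduct.smul_tmul]
          rw [this, Coalgebra.rTensor_counit_comul]
          simp
      exact (hz (f m)).symm
    · intro h hh
      refine LinearMap.ext fun m => ?_
      simp only [hh, LinearMap.comp_apply]
      have hc := LinearMap.congr_fun (HopfRep.Comod.counit_comp (k := k) (A := A) (V := M)) m
      simp only [LinearMap.comp_apply, LinearMap.flip_apply, TensorProduct.mk_apply] at hc
      let cu : TensorProduct k N A →ₗ[k] N :=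
        (TensorProduct.rid k N).toLinearMap ∘ₗ (Coalgebra.counit (R := k) (A := A)).lTensor N
      have : ∀ z : TensorProduct k M A, cu (h.rTensor A z) =
          h (TensorProduct.rid k M ((Coalgebra.counit (R := k) (A := A)).lTensor M z)) := by
        intro z
        induction z using TensorProduct.induction_on with
        | zero => simp
        | tmul n a => simp [cu]
        | add y z hy hz => simp only [map_add, hy, hz]
      exact ((this _).trans (by rw [hc]; simp)).symm

end Groth.Agent.S12929
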