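import Groth.Statements.S1293
import Groth.Agent.Content.UnivInj
import Mathlib.RingTheory.TensorProduct.Basic
import Mathlib.LinearAlgebra.TensorProduct.Quotient

set_option autoImplicit false
universe u
open FlatMor TensorProduct

namespace Groth.Agent.S1293

open TensorProduct in
/-- Let B be a finitely presented A-algebra, T ⊆ B a multiplicative subset and N a finitely presented
T⁻¹B-module which admits a pure spreadout (FlatCA.HasPureSpreadout). Then (1) every x ∈ N has a
content ideal, i.e. a smallest ideal I of A with x ∈ IN; and (2) every A-linear map u from N to a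
flat A-module M such that u ⊗ A/𝔪 is injective for every maximal ideal 𝔪 of A is universally
injective over A. -/
theorem result {A B : Type u} [CommRing A] [CommRing B] [Algebra A B] [Algebra.FinitePresentation A B]
    (T : Submonoid B) (N : Type u) [AddCommGroup N] [Module (Localization T) N] [Module A N] [IsScalarTower A (Localization T) N]
    [Module.FinitePresentation (Localization T) N] (h : FlatCA.HasPureSpreadout A B T N) :
    (∀ x : N, ∃ I : Ideal A, x ∈ I • (⊤ : Submodule A N) ∧ ∀ J : Ideal A, x ∈ J • (⊤ : Submodule A N) → I ≤ J) ∧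
    ∀ (M : Type u) [AddCommGroup M] [Module A M] [Module.Flat A M] (u : N →ₗ[A] M),
      (∀ (m : Ideal A) [m.IsMaximal], Function.Injective (u.lTensor (A ⧸ m))) → FlatCA.UnivInj A u := by
  classical
  obtain ⟨C, _, _, _, _, _, _, _, _, _, _, N', _, _, _, _, g, -, -, hbc, hproj, huniv⟩ := h
  haveI := hproj
  -- every element is a fraction of an element of `N'`
  have hfrac : ∀ z : N, ∃ (t : T) (y : N'), (algebraMap B (Localization T) t) • z = g y := by
    intro z
    induction z using hbc.inductionOn with
    | zero => exact ⟨1, 0, by simp⟩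
    | tmul y => exact ⟨1, y, by simp⟩
    | smul r z hz =>
      obtain ⟨t, y, hz⟩ := hz
      obtain ⟨b, s, rfl⟩ := IsLocalization.exists_mk'_eq T r
      refine ⟨s * t, algebraMap B C b • y, ?_⟩
      rw [map_smul, ← algebraMap_smul (Localization T) (algebraMap B C b) (g y),
        ← IsScalarTower.algebraMap_apply, ← hz, smul_smul, smul_smul, Submonoid.coe_mul, map_mul,
        mul_right_comm, IsLocalization.mk'_spec', mul_comm]
    | add z w hz hw =>
      obtain ⟨t, y, hz⟩ := hz
      obtain ⟨s, v, hw⟩ := hw
      refine ⟨t * s, algebraMap B C s • y + algebraMap B C t • v, ?_⟩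
      rw [map_add, map_smul, map_smul, ← algebraMap_smul (Localization T) (algebraMap B C s) (g y),
        ← algebraMap_smul (Localization T) (algebraMap B C t) (g v),
        ← IsScalarTower.algebraMap_apply, ← IsScalarTower.algebraMap_apply, ← hz, ← hw,
        smul_smul, smul_smul, smul_add, Submonoid.coe_mul, map_mul,
        mul_comm (algebraMap B (Localization T) t)]
  let μ : T → (N ≃ₗ[A] N) := fun t =>
    (LinearEquiv.smulOfUnit (IsLocalization.map_units (M := T) (Localization T) t).unit :
      N ≃ₗ[Localization T] N).restrictScalars A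
  have hμ : ∀ (t : T) (z : N), μ t z = algebraMap B (Localization T) t • z := fun t z => rfl
  constructor
  · intro x
    obtain ⟨t, y, hy⟩ := hfrac x
    obtain ⟨s, hs⟩ := Module.Projective.out (R := A) (P := N')
    refine ⟨Ideal.span (Set.range (s y)), ?_, fun J hJ => ?_⟩
    · have hy' : x = (μ t).symm (g y) := by rw [← hy, ← hμ, LinearEquiv.symm_apply_apply]
      rw [hy']
      conv => arg 2; rw [← hs y, Finsupp.linearCombination_apply, Finsupp.sum, map_sum, map_sum]
      refine Submodule.sum_mem _ fun i _ => ?_
      rw [LinearMap.map_smul_of_tower, map_smul]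
      exact Submodule.smul_mem_smul (Ideal.subset_span ⟨i, rfl⟩) trivial
    · have h1 : g y ∈ J • (⊤ : Submodule A N) := by
        rw [← hy, ← hμ]
        refine Submodule.smul_induction_on hJ (fun r hr n _ => ?_) fun a b ha hb => ?_
        · rw [map_smul]; exact Submodule.smul_mem_smul hr trivial
        · rw [map_add]; exact add_mem ha hb
      have h2 : y ∈ J • (⊤ : Submodule A N') := by
        rw [← Submodule.Quotient.mk_eq_zero] at h1 ⊢
        have e : (g.restrictScalars A).lTensor (A ⧸ J) (Ideal.Quotient.mk J 1 ⊗ₜ y) = 0 := by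
          apply (TensorProduct.quotTensorEquivQuotSMul N J).injective
          rw [LinearMap.lTensor_tmul, map_zero]
          simpa using h1
        have e2 := huniv (A ⧸ J) (e.trans (map_zero _).symm)
        have e3 := congrArg (TensorProduct.quotTensorEquivQuotSMul N' J) e2
        rw [map_zero] at e3
        simpa using e3
      refine Ideal.span_le.mpr ?_
      rintro _ ⟨i, rfl⟩
      refine Submodule.smul_induction_on h2
        (p := fun z => s z i ∈ J) (fun r hr n _ => ?_) fun a b ha hb => ?_
      · rw [map_smul, Finsupp.smul_apply, smul_eq_mul]; exact J.mul_mem_right _ hr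
      · rw [map_add, Finsupp.add_apply]; exact J.add_mem ha hb
  · intro M _ _ _ u hu Q _ _
    rw [injective_iff_map_eq_zero]
    intro z hz
    have hz' : ∃ (t : T) (z' : Q ⊗[A] N'),
        ((μ t : N →ₗ[A] N).lTensor Q) z = (g.restrictScalars A).lTensor Q z' := by
      clear hz
      induction z using TensorProduct.induction_on with
      | zero => exact ⟨1, 0, by simp⟩
      | tmul q n =>
        obtain ⟨t, y, hy⟩ := hfrac n
        exact ⟨t, q ⊗ₜ y, by simp [hμ, hy]⟩
      | add a b ha hb =>
        obtain ⟨t, y, ha⟩ := ha
        obtain ⟨r, v, hb⟩ := hb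
        let κ : B → (N' →ₗ[A] N') := fun c =>
          ((LinearMap.lsmul C N' (algebraMap B C c)) : N' →ₗ[C] N').restrictScalars A
        refine ⟨t * r, (κ r).lTensor Q y + (κ t).lTensor Q v, ?_⟩
        have hc : ∀ c : T, (g.restrictScalars A) ∘ₗ κ c = (μ c : N →ₗ[A] N) ∘ₗ g.restrictScalars A :=
          fun c => LinearMap.ext fun w => by
            show g (algebraMap B C c • w) = algebraMap B (Localization T) c • g w
            rw [map_smul, ← algebraMap_smul (Localization T) (algebraMap B C c) (g w),
              ← IsScalarTower.algebraMap_apply]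
        have h1 : (μ (t * r) : N →ₗ[A] N) = (μ r : N →ₗ[A] N) ∘ₗ (μ t : N →ₗ[A] N) :=
          LinearMap.ext fun w => by
            show μ (t * r) w = μ r (μ t w)
            rw [hμ, hμ, hμ, smul_smul, ← map_mul, Submonoid.coe_mul, mul_comm]
        have h2 : (μ (t * r) : N →ₗ[A] N) = (μ t : N →ₗ[A] N) ∘ₗ (μ r : N →ₗ[A] N) :=
          LinearMap.ext fun w => by
            show μ (t * r) w = μ t (μ r w)
            rw [hμ, hμ, hμ, smul_smul, ← map_mul, Submonoid.coe_mul]
        rw [map_add, map_add, ← LinearMap.lTensor_comp_apply, ← LinearMap.lTensor_comp_apply, hc, hc,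
          LinearMap.lTensor_comp_apply, LinearMap.lTensor_comp_apply, ← ha, ← hb,
          ← LinearMap.lTensor_comp_apply, ← LinearMap.lTensor_comp_apply, ← h1, ← h2]
    obtain ⟨t, z', hz'⟩ := hz'
    let v : N' →ₗ[A] M := u ∘ₗ ((μ t).symm : N →ₗ[A] N) ∘ₗ g.restrictScalars A
    have hv : ∀ (m : Ideal A) [m.IsMaximal], Function.Injective (v.lTensor (A ⧸ m)) := by
      intro m _
      rw [show v = u ∘ₗ ((μ t).symm : N →ₗ[A] N) ∘ₗ g.restrictScalars A from rfl,
        LinearMap.lTensor_comp, LinearMap.lTensor_comp, LinearMap.coe_comp, LinearMap.coe_comp]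
      exact (hu m).comp ((LinearEquiv.lTensor (A ⧸ m) (μ t).symm).injective.comp (huniv _))
    have hv' : Function.Injective (v.lTensor Q) := by
      intro a b hab
      apply (TensorProduct.comm A Q N').injective
      refine Content.univInj_of_projective v hv Q ?_
      have key : ∀ w, v.rTensor Q (TensorProduct.comm A Q N' w) = TensorProduct.comm A Q M (v.lTensor Q w) := by
        intro w
        induction w using TensorProduct.induction_on with
        | zero => simp
        | tmul q n => simp
        | add a b ha hb => simp only [map_add, ha, hb]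
      rw [key, key, hab]
    have hcancel : ((μ t).symm : N →ₗ[A] N).lTensor Q ((μ t : N →ₗ[A] N).lTensor Q z) = z := by
      rw [← LinearMap.comp_apply, ← LinearMap.lTensor_comp,
        show ((μ t).symm : N →ₗ[A] N) ∘ₗ (μ t : N →ₗ[A] N) = LinearMap.id from
          LinearMap.ext fun w => (μ t).symm_apply_apply w, LinearMap.lTensor_id, LinearMap.id_apply]
    have h0 : z' = 0 := by
      apply hv'
      rw [map_zero, show v = u ∘ₗ ((μ t).symm : N →ₗ[A] N) ∘ₗ g.restrictScalars A from rfl,
        LinearMap.lTensor_comp_apply, LinearMap.lTensor_comp_apply, ← hz',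
        hcancel]
      exact hz
    rw [h0, map_zero] at hz'
    exact (LinearEquiv.lTensor Q (μ t)).injective (hz'.trans (map_zero _).symm)

end Groth.Agent.S1293
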