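import Groth.Statements.S12931
import Mathlib.Algebra.Algebra.Pi
import Mathlib.Algebra.BigOperators.Pi

set_option autoImplicit false
universe u v w
open HopfRep

namespace Groth.Agent.S12931

/-- Let `R` be a commutative ring, `Γ` a finite set and `T` a commutative `R`-algebra which is
connected: nonzero, with no idempotents other than `0` and `1`. Then `γ ↦ (evaluation at γ : (Γ → R)
→ R → T)` is a bijection from `Γ` onto the `R`-algebra maps `(Γ → R) → T`: every such map sends
exactly one of the indicator functions to `1` and the others to `0`. (Only the bijection of sets is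
stated; when `Γ` is a group, the compatibility with the group structures on both sides is not.) -/
theorem result
    (R : Type u) [CommRing R] (Γ : Type v) [Finite Γ]
    (T : Type w) [CommRing T] [Algebra R T] [Nontrivial T]
    (hT : ∀ e : T, IsIdempotentElem e → e = 0 ∨ e = 1) :
    Function.Bijective (fun γ : Γ => (Algebra.ofId R T).comp (Pi.evalAlgHom R (fun _ : Γ => R) γ)) := by
  classical
  haveI := Fintype.ofFinite Γ
  constructor
  · intro a b hab
    by_contra h
    have := DFunLike.congr_fun hab (Pi.single a (1 : R))
    simp [Ne.symm h] at this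
  · intro f
    let e : Γ → T := fun γ => f (Pi.single γ 1)
    have he : ∀ γ, e γ = 0 ∨ e γ = 1 := fun γ => hT _ (by
      change e γ * e γ = e γ
      simp only [e, ← map_mul]
      congr 1
      ext j
      rcases eq_or_ne j γ with rfl | hj <;> simp [*])
    have hsum : ∀ x : Γ → R, f x = ∑ γ, algebraMap R T (x γ) * e γ := by
      intro x
      conv_lhs => rw [show x = ∑ γ, algebraMap R (Γ → R) (x γ) * Pi.single γ 1 by
        ext j
        rw [Finset.sum_apply, Finset.sum_eq_single j (fun b _ hb => by simp [Ne.symm hb]) (fun h => absurd (Finset.mem_univ j) h)]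
        simp]
      simp [e]
    have h1 : ∑ γ, e γ = 1 := by
      have := hsum 1
      simpa using this.symm
    have horth : ∀ a b, a ≠ b → e a * e b = 0 := fun a b hab => by
      simp only [e, ← map_mul]
      rw [show (Pi.single a 1 * Pi.single b 1 : Γ → R) = 0 by
        ext j
        rcases eq_or_ne j a with rfl | hj <;> simp [*], map_zero]
    obtain ⟨γ, hγ⟩ : ∃ γ, e γ = 1 := by
      by_contra h
      push Not at h
      rw [Finset.sum_eq_zero fun γ _ => (he γ).resolve_right (h γ)] at h1
      exact zero_ne_one h1
    refine ⟨γ, AlgHom.ext fun x => ?_⟩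
    rw [hsum x, Finset.sum_eq_single γ (fun b _ hb => by
      have := horth b γ hb
      rw [hγ, mul_one] at this
      rw [this, mul_zero]) (fun h => absurd (Finset.mem_univ γ) h), hγ, mul_one]
    rfl

end Groth.Agent.S12931
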