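import Groth.Statements.S12932
import Mathlib

set_option autoImplicit false
universe u v
open scoped BigOperators
open InvTh

namespace Groth.Agent.S12932

/-- Let `B` be a commutative ring with an action of a finite group `Γ` by ring automorphisms, and call a
prime ideal `P` of `B` tame when the order of its inertia group `{γ | γ • x - x ∈ P for all x}` is
not divisible by the characteristic of `B/P` (its ramification group is trivial). Then every prime
of `B` is tame if and only if the trace `b ↦ Σ_γ γ • b`, which takes values in the invariant ring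
`B^Γ` and is `B^Γ`-linear, is onto `B^Γ` — equivalently, some element of `B` has trace `1`. -/
theorem result
    (B : Type u) [CommRing B] (Γ : Type v) [Group Γ] [Fintype Γ] [MulSemiringAction Γ B] :
    (∃ b : B, ∑ γ : Γ, γ • b = 1) ↔
      ∀ P : Ideal B, P.IsPrime → ((Nat.card (P.inertia Γ) : ℕ) : B ⧸ P) ≠ 0 := by
  classical
  constructor
  · rintro ⟨b, hb⟩ P hP h0
    let T := P.inertia Γ
    have hT : ∀ τ ∈ T, ∀ x, τ • x - x ∈ P := fun τ hτ x => hτ x
    let q := Ideal.Quotient.mk P
    let f : Γ → B ⧸ P := fun γ => q (γ • b)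
    have hf : ∀ τ : T, ∀ γ, f ((τ : Γ) * γ) = f γ := fun τ γ =>
      Ideal.Quotient.eq.mpr (by rw [mul_smul]; exact hT τ τ.2 _)
    -- sum over right cosets
    let r : Γ → Quotient (QuotientGroup.rightRel T) := Quotient.mk _
    have h1 : (1 : B ⧸ P) = ∑ γ : Γ, f γ := by
      simp only [f]; rw [← map_sum, hb, map_one]
    rw [← Finset.sum_fiberwise Finset.univ r] at h1
    have hne : (1 : B ⧸ P) ≠ 0 := by
      intro h
      exact hP.ne_top ((Ideal.eq_top_iff_one _).mpr (Ideal.Quotient.eq_zero_iff_mem.mp h))
    apply hne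
    rw [h1]
    refine Finset.sum_eq_zero fun j _ => ?_
    obtain ⟨γ₀, rfl⟩ := Quotient.mk_surjective j
    have hset : ({γ | r γ = r γ₀} : Finset Γ) = Finset.univ.image (fun τ : T => (τ : Γ) * γ₀) := by
      ext γ
      simp only [Finset.mem_filter_univ, Finset.mem_image, Finset.mem_univ, true_and, r, Quotient.eq,
        QuotientGroup.rightRel_apply]
      constructor
      · intro h; exact ⟨⟨γ * γ₀⁻¹, by simpa using T.inv_mem h⟩, by simp⟩
      · rintro ⟨τ, rfl⟩; simpa using T.inv_mem τ.2
    change (∑ γ ∈ ({γ | r γ = r γ₀} : Finset Γ), f γ) = 0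
    rw [hset, Finset.sum_image (fun a _ b _ h => Subtype.ext (mul_right_cancel h))]
    simp only [hf, Finset.sum_const, Finset.card_univ, nsmul_eq_mul]
    rw [← Nat.card_eq_fintype_card]
    change ((Nat.card (P.inertia Γ) : ℕ) : B ⧸ P) * _ = 0
    rw [h0, zero_mul]
  · intro h
    let A := FixedPoints.subring B Γ
    have : Algebra.IsInvariant A B Γ := ⟨fun b hb => ⟨⟨b, hb⟩, rfl⟩⟩
    have := Algebra.IsInvariant.isIntegral A B Γ
    let tr : B →ₗ[A] A :=
      { toFun := fun b => ⟨∑ γ : Γ, γ • b, fun δ => by
          rw [Finset.smul_sum]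
          exact Fintype.sum_equiv (Equiv.mulLeft δ) _ _ (fun γ => (mul_smul δ γ b).symm)⟩
        map_add' := fun x y => Subtype.ext (by simp [Finset.sum_add_distrib])
        map_smul' := fun a x => Subtype.ext (by
          simp only [RingHom.id_apply, smul_eq_mul, Subring.coe_mul, Finset.mul_sum]
          refine Finset.sum_congr rfl fun γ _ => ?_
          change γ • ((a : B) * x) = (a : B) * γ • x
          rw [smul_mul', a.2 γ]) }
    by_contra hne
    have hlt : LinearMap.range tr ≠ ⊤ := by
      intro htop
      obtain ⟨b, hb⟩ : (1 : A) ∈ LinearMap.range tr := htop.ge trivial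
      exact hne ⟨b, congrArg Subtype.val hb⟩
    obtain ⟨q, hq, hle⟩ := Ideal.exists_le_maximal (LinearMap.range tr) hlt
    obtain ⟨P, hP, hPq⟩ := Ideal.exists_ideal_over_maximal_of_isIntegral (S := B) q (by
      rw [(RingHom.injective_iff_ker_eq_bot _).mp Subtype.val_injective]; exact bot_le)
    letI := Ideal.Quotient.field P
    let T := P.inertia Γ
    let χ : Γ → (B →* B ⧸ P) := fun γ =>
      ((Ideal.Quotient.mk P).comp (MulSemiringAction.toRingHom Γ B γ)).toMonoidHom
    have hzero : ∀ b : B, ∑ γ : Γ, χ γ b = 0 := by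
      intro b
      have h1 : ((tr b : A) : B) ∈ P := by
        have : tr b ∈ P.comap (algebraMap A B) := hPq.symm ▸ hle ⟨b, rfl⟩
        exact this
      simpa [χ, tr, ← map_sum, Ideal.Quotient.eq_zero_iff_mem] using h1
    have hli := linearIndependent_monoidHom B (B ⧸ P)
    rw [linearIndependent_iff'] at hli
    have h2 := hli (Finset.univ.image χ) (fun ψ => (({γ | χ γ = ψ} : Finset Γ).card : B ⧸ P)) (by
      funext b
      have e := Finset.sum_fiberwise_of_maps_to (s := (Finset.univ : Finset Γ)) (t := Finset.univ.image χ) (g := χ)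
        (fun γ _ => Finset.mem_image_of_mem χ (Finset.mem_univ γ)) (fun γ => χ γ b)
      rw [hzero b] at e
      rw [Finset.sum_apply, Pi.zero_apply, ← e]
      refine Finset.sum_congr rfl fun ψ _ => ?_
      rw [Pi.smul_apply, smul_eq_mul, Finset.sum_congr rfl (g := fun _ => ψ b)
        (fun γ hγ => by rw [(Finset.mem_filter.mp hγ).2]), Finset.sum_const, nsmul_eq_mul])
      (χ 1) (Finset.mem_image_of_mem χ (Finset.mem_univ 1))
    apply h P hP.isPrime
    rw [← h2]
    congr 1
    rw [Nat.card_eq_fintype_card, Fintype.card_subtype]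
    congr 1
    ext γ
    simp only [Finset.mem_filter_univ]
    constructor
    · intro hγ; apply MonoidHom.ext; intro b
      simp [χ, Ideal.Quotient.eq]; exact hγ b
    · intro hγ b
      have := DFunLike.congr_fun hγ b
      simpa [χ, Ideal.Quotient.eq] using this

end Groth.Agent.S12932
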