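import Groth.Statements.S12933
import Mathlib

set_option autoImplicit false
universe u v w w'
open TensorProduct
open InvTh

namespace Groth.Agent.S12933

/-- Let `R` be a commutative ring, `B` a commutative `R`-algebra with an action of a finite group `Γ` by
`R`-algebra automorphisms, and `R'` a flat commutative `R`-algebra; let `Γ` act on `R' ⊗_R B`
through the factor `B`. Then an element of `R' ⊗_R B` is fixed by every element of `Γ` if and only
if it lies in the `R'`-submodule spanned by the tensors `1 ⊗ b` with `b ∈ B^Γ`: taking invariants
commutes with flat base change (the map `R' ⊗_R B^Γ → R' ⊗_R B` being moreover injective by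
flatness). -/
theorem result
    (R : Type u) [CommRing R] (B : Type v) [CommRing B] [Algebra R B]
    (Γ : Type w) [Group Γ] [Finite Γ] [MulSemiringAction Γ B] [SMulCommClass Γ R B]
    (R' : Type w') [CommRing R'] [Algebra R R'] [Module.Flat R R']
    (x : R' ⊗[R] B) :
    (∀ γ : Γ, Algebra.TensorProduct.map (AlgHom.id R R') (MulSemiringAction.toAlgHom R B γ) x = x) ↔
      x ∈ Submodule.span R' ((fun b : B => (1 : R') ⊗ₜ[R] b) '' {b : B | ∀ γ : Γ, γ • b = b}) := by
  classical
  cases nonempty_fintype Γ
  let d : B →ₗ[R] (Γ → B) := LinearMap.pi fun γ => (MulSemiringAction.toAlgHom R B γ).toLinearMap - LinearMap.id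
  have hd : ∀ b γ, d b γ = γ • b - b := fun b γ => by simp [d]
  constructor
  · intro h
    have h1 : LinearMap.lTensor R' d x = 0 := by
      apply (TensorProduct.piRight R R R' (fun _ : Γ => B)).injective
      funext γ
      have : ∀ z : R' ⊗[R] B, TensorProduct.piRight R R R' (fun _ : Γ => B) (LinearMap.lTensor R' d z) γ
          = Algebra.TensorProduct.map (AlgHom.id R R') (MulSemiringAction.toAlgHom R B γ) z - z := by
        intro z
        induction z using TensorProduct.induction_on with
        | zero => simp
        | tmul a b => simp [hd, TensorProduct.tmul_sub]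
        | add a b ha hb => simp only [map_add, Pi.add_apply, ha, hb]; abel
      rw [this, h γ, sub_self, map_zero]; rfl
    obtain ⟨y, rfl⟩ := ((Module.Flat.lTensor_exact R' (LinearMap.exact_subtype_ker_map d)) x).mp h1
    clear h h1
    induction y using TensorProduct.induction_on with
    | zero => simp
    | tmul a b =>
      have : a ⊗ₜ[R] (b : B) = a • ((1 : R') ⊗ₜ[R] (b : B)) := by simp [TensorProduct.smul_tmul']
      rw [LinearMap.lTensor_tmul, Submodule.subtype_apply, this]
      refine Submodule.smul_mem _ _ (Submodule.subset_span ⟨_, ?_, rfl⟩)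
      intro γ
      have := congrFun b.2 γ
      simpa [hd, sub_eq_zero] using this
    | add a b ha hb => rw [map_add]; exact Submodule.add_mem _ ha hb
  · intro h γ
    induction h using Submodule.span_induction with
    | mem z hz => obtain ⟨b, hb, rfl⟩ := hz; simp [hb γ]
    | zero => simp
    | add a b _ _ ha hb => simp [ha, hb]
    | smul c a _ ha =>
      have : c • a = (c ⊗ₜ[R] (1 : B)) * a := by
        rw [Algebra.smul_def, Algebra.TensorProduct.algebraMap_apply]; simp
      rw [this, map_mul, ha]; simp

end Groth.Agent.S12933
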