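import Groth.Statements.S12934
import Mathlib

set_option autoImplicit false
universe u v
open InvTh

namespace Groth.Agent.S12934

open IsLocalRing

section
variable {B : Type u} [CommRing B] [IsLocalRing B] {Γ : Type v} [Group Γ] [MulSemiringAction Γ B]

theorem residue_unique {b : B} (hb : b ≠ 0) {u u' : B} (h : b * u = b * u') : residue B u = residue B u' := by
  rw [← sub_eq_zero, ← map_sub, residue_eq_zero_iff]
  by_contra hc
  exact hb ((IsUnit.mul_left_eq_zero (notMem_maximalIdeal.1 hc)).1 (by rw [mul_sub, h, sub_self]))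

/-- The character of a principal ideal. -/
noncomputable def chi (hst : ∀ (γ : Γ) (b : B), ∃ u : B, γ • b = b * u) (b : B) (γ : Γ) : ResidueField B :=
  residue B (hst γ b).choose

theorem chi_eq (hst : ∀ (γ : Γ) (b : B), ∃ u : B, γ • b = b * u) {b : B} (hb : b ≠ 0) {γ : Γ} {u : B}
    (h : γ • b = b * u) : chi hst b γ = residue B u :=
  residue_unique hb ((hst γ b).choose_spec.symm.trans h)

theorem chi_mul (hst : ∀ (γ : Γ) (b : B), ∃ u : B, γ • b = b * u)
    (hin : ∀ (γ : Γ) (b : B), γ • b - b ∈ maximalIdeal B) {b : B} (hb : b ≠ 0) (γ δ : Γ) :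
    chi hst b (γ * δ) = chi hst b γ * chi hst b δ := by
  obtain ⟨u, hu⟩ := hst γ b
  obtain ⟨v, hv⟩ := hst δ b
  rw [chi_eq hst hb hu, chi_eq hst hb hv,
    chi_eq hst hb (u := u * (γ • v)) (by rw [mul_smul, hv, smul_mul', hu, mul_assoc]), map_mul]
  congr 1
  rw [← sub_eq_zero, ← map_sub, residue_eq_zero_iff]
  exact hin γ v

theorem chi_one (hst : ∀ (γ : Γ) (b : B), ∃ u : B, γ • b = b * u) {b : B} (hb : b ≠ 0) :
    chi hst b (1 : Γ) = 1 := by
  rw [chi_eq hst hb (γ := (1 : Γ)) (u := 1) (by simp), map_one]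

theorem fix_of_pow [FaithfulSMul Γ B] (γ : Γ) (q : ℕ) (hq : IsUnit (q : B)) (hpow : γ ^ q = 1)
    (h : ∀ b : B, ∃ x ∈ maximalIdeal B, γ • b = b + b * x) : γ = 1 := by
  refine FaithfulSMul.eq_of_smul_eq_smul fun b : B => ?_
  rw [one_smul]
  obtain ⟨x, hx, hb⟩ := h b
  have hj : ∀ j : ℕ, ∃ m ∈ maximalIdeal B, (γ ^ j) • (b * x) = b * x * (1 + m) := by
    intro j
    induction j with
    | zero => exact ⟨0, zero_mem _, by simp⟩
    | succ j ih =>
      obtain ⟨m, hm, hjm⟩ := ih
      obtain ⟨y, hy, hbx⟩ := h (b * x * (1 + m))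
      exact ⟨m + y + m * y, Ideal.add_mem _ (Ideal.add_mem _ hm hy) (Ideal.mul_mem_right _ _ hm), by
        rw [pow_succ', mul_smul, hjm, hbx]; ring⟩
  choose m hm hjm using hj
  have hsum : ∀ i : ℕ, (γ ^ i) • b = b + b * x * ((i : B) + ∑ j ∈ Finset.range i, m j) := by
    intro i
    induction i with
    | zero => simp
    | succ i ih =>
      rw [pow_succ, mul_smul, hb, smul_add, ih, hjm, Finset.sum_range_succ]
      push_cast
      ring
  have h0 := hsum q
  rw [hpow, one_smul, left_eq_add] at h0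
  have hu : IsUnit ((q : B) + ∑ j ∈ Finset.range q, m j) := by
    by_contra hc
    rw [← mem_nonunits_iff, ← mem_maximalIdeal] at hc
    have := Ideal.sub_mem _ hc (Ideal.sum_mem (maximalIdeal B) (t := Finset.range q) fun j _ => hm j)
    rw [add_sub_cancel_right] at this
    exact this hq
  rw [hb, (hu.mul_left_eq_zero).1 h0, add_zero]

end

/-- Let `B` be a local commutative ring with maximal ideal `m` and residue field `k`, and `Γ` a finite
group acting faithfully on `B` by ring automorphisms, such that every element of `Γ` acts trivially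
modulo `m` (the whole group is inertia) and maps each principal ideal of `B` into itself (every
ideal is stable). Let `S ⊆ Γ` be the set of `γ` with `γ b ∈ b + b m` for all `b`. Then: if `k` has
characteristic `0`, `S = {1}`; if `k` has characteristic `p > 0`, `S` is (the underlying set of) a
Sylow `p`-subgroup; every commutator of `Γ` lies in `S`, so `Γ/S` is abelian; and whenever the class
of `γ` in `Γ/S` has order `n` (`γ^n ∈ S`, no smaller positive power in `S`), `k` contains a
primitive `n`-th root of unity. (The published statement also bounds the number of generators of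
`Γ/S` by the number of generators of the monoid of principal ideals; that clause is not included.) -/
theorem result
    (B : Type u) [CommRing B] [IsLocalRing B]
    (Γ : Type v) [Group Γ] [Finite Γ] [MulSemiringAction Γ B] [FaithfulSMul Γ B]
    (hin : ∀ (γ : Γ) (b : B), γ • b - b ∈ IsLocalRing.maximalIdeal B)
    (hst : ∀ (γ : Γ) (b : B), ∃ u : B, γ • b = b * u)
    (S : Set Γ)
    (hS : ∀ γ : Γ, γ ∈ S ↔ ∀ b : B, ∃ x ∈ IsLocalRing.maximalIdeal B, γ • b = b + b * x) :
    (ringChar (IsLocalRing.ResidueField B) = 0 → S = {1}) ∧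
      (∀ (p : ℕ) [Fact p.Prime], ringChar (IsLocalRing.ResidueField B) = p →
        ∃ Q : Sylow p Γ, (Q : Set Γ) = S) ∧
      (∀ γ δ : Γ, γ * δ * γ⁻¹ * δ⁻¹ ∈ S) ∧
      (∀ (γ : Γ) (n : ℕ), 0 < n → γ ^ n ∈ S → (∀ i : ℕ, 0 < i → i < n → γ ^ i ∉ S) →
        ∃ ζ : IsLocalRing.ResidueField B, IsPrimitiveRoot ζ n) := by
  classical
  have hS' : ∀ γ : Γ, γ ∈ S ↔ ∀ b : B, b ≠ 0 → chi hst b γ = 1 := by
    intro γ
    rw [hS]
    constructor
    · intro h b hb
      obtain ⟨x, hx, hbx⟩ := h b
      rw [chi_eq hst hb (u := 1 + x) (by rw [hbx]; ring), map_add, map_one, (residue_eq_zero_iff x).2 hx, add_zero]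
    · intro h b
      rcases eq_or_ne b 0 with rfl | hb
      · exact ⟨0, zero_mem _, by simp⟩
      obtain ⟨u, hu⟩ := hst γ b
      refine ⟨u - 1, ?_, by rw [hu]; ring⟩
      rw [← residue_eq_zero_iff, map_sub, map_one, ← chi_eq hst hb hu, h b hb, sub_self]
  let X : ∀ b : B, b ≠ 0 → Γ →* ResidueField B := fun b hb => ⟨⟨chi hst b, chi_one hst hb⟩, chi_mul hst hin hb⟩
  let T : Subgroup Γ :=
    { carrier := S
      one_mem' := (hS' 1).2 fun b hb => map_one (X b hb)
      mul_mem' := fun {γ δ} hγ hδ => (hS' _).2 fun b hb => by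
        change X b hb (γ * δ) = 1
        rw [map_mul]; change chi hst b γ * chi hst b δ = 1
        rw [(hS' γ).1 hγ b hb, (hS' δ).1 hδ b hb, one_mul]
      inv_mem' := fun {γ} hγ => (hS' _).2 fun b hb => by
        have := map_mul (X b hb) γ⁻¹ γ
        rw [inv_mul_cancel, map_one] at this
        change 1 = chi hst b γ⁻¹ * chi hst b γ at this
        rw [(hS' γ).1 hγ b hb, mul_one] at this
        exact this.symm }
  have hfix : ∀ (γ : Γ) (q : ℕ), γ ∈ S → (q : ResidueField B) ≠ 0 → γ ^ q = 1 → γ = 1 := fun γ q hγ hq hp => by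
    refine fix_of_pow γ q ?_ hp ((hS γ).1 hγ)
    by_contra hc
    rw [← mem_nonunits_iff, ← mem_maximalIdeal, ← residue_eq_zero_iff, map_natCast] at hc
    exact hq hc
  refine ⟨fun h0 => ?_, fun p hp hc => ?_, fun γ δ => ?_, fun γ n hn hγn hmin => ?_⟩
  · have := ringChar.eq_iff.1 h0
    have := CharP.charP_to_charZero (ResidueField B)
    refine Set.eq_singleton_iff_unique_mem.2 ⟨T.one_mem, fun γ hγ => hfix γ (orderOf γ) hγ ?_ (pow_orderOf_eq_one γ)⟩
    exact Nat.cast_ne_zero.2 (orderOf_pos γ).ne'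
  · have hcp : CharP (ResidueField B) p := ringChar.eq_iff.1 hc
    have hT : IsPGroup p T := by
      intro γ
      obtain ⟨e, m, hm, hord⟩ := Nat.exists_eq_pow_mul_and_not_dvd (orderOf_pos (γ : Γ)).ne' p hp.out.ne_one
      refine ⟨e, Subtype.ext ?_⟩
      refine hfix _ m (pow_mem γ.2 _ : (γ : Γ) ^ p ^ e ∈ T) ?_ ?_
      · rw [Ne, CharP.cast_eq_zero_iff (ResidueField B) p]; exact hm
      · change ((γ : Γ) ^ p ^ e) ^ m = 1
        rw [← pow_mul, ← hord, pow_orderOf_eq_one]
    obtain ⟨Q, hQ⟩ := hT.exists_le_sylow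
    refine ⟨Q, Set.Subset.antisymm (fun γ hγ => ?_) hQ⟩
    obtain ⟨e, he⟩ := Q.2 ⟨γ, hγ⟩
    have he' : γ ^ p ^ e = 1 := congrArg Subtype.val he
    refine (hS' γ).2 fun b hb => ?_
    have h1 : chi hst b γ ^ p ^ e = 1 := by
      have := map_pow (X b hb) γ (p ^ e)
      rw [he', map_one] at this
      exact this.symm
    have h2 : (chi hst b γ - 1) ^ p ^ e = 0 := by
      rw [sub_pow_char_pow, h1, one_pow, sub_self]
    exact sub_eq_zero.1 (eq_zero_of_pow_eq_zero h2)
  · refine (hS' _).2 fun b hb => ?_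
    change X b hb _ = 1
    have h1 : X b hb δ * X b hb δ⁻¹ = 1 := by rw [← map_mul, mul_inv_cancel, map_one]
    have h2 : X b hb γ * X b hb γ⁻¹ = 1 := by rw [← map_mul, mul_inv_cancel, map_one]
    rw [map_mul, map_mul, map_mul]
    linear_combination (X b hb γ * X b hb γ⁻¹) * h1 + h2
  · have : NeZero n := ⟨hn.ne'⟩
    have : Fintype (rootsOfUnity n (ResidueField B)) := Fintype.ofFinite _
    set N := Nat.card (rootsOfUnity n (ResidueField B)) with hN
    have hγN : γ ^ N ∈ S := by
      refine (hS' _).2 fun b hb => ?_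
      change X b hb (γ ^ N) = 1
      have h1 : X b hb γ ^ n = 1 := by rw [← map_pow]; exact (hS' _).1 hγn b hb
      have hu := pow_card_eq_one' (x := rootsOfUnity.mkOfPowEq (X b hb γ) h1)
      have := congrArg (fun z : rootsOfUnity n (ResidueField B) => ((z : (ResidueField B)ˣ) : ResidueField B)) hu
      rw [map_pow, hN]
      simp only [Subgroup.coe_pow, Units.val_pow_eq_pow_val, rootsOfUnity.val_mkOfPowEq_coe, OneMemClass.coe_one,
        Units.val_one] at this
      exact this
    have hNn : N = n := by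
      refine le_antisymm (card_rootsOfUnity (ResidueField B) n) (le_of_not_gt fun hlt => ?_)
      exact hmin N Nat.card_pos hlt hγN
    exact (card_rootsOfUnity_eq_iff_exists_isPrimitiveRoot.1 hNn)

end Groth.Agent.S12934
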