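import Groth.Statements.S12935
import Mathlib

set_option autoImplicit false
universe u v
open InvTh

namespace Groth.Agent.S12935

theorem exists_omega {B : Type u} [CommRing B] {K : Type u} [CommRing K] [IsDomain K]
    {Ω : Type v} [Group Ω] [Fintype Ω] [MulSemiringAction Ω B] (φ ψ : B →+* K)
    (h : ∀ x : B, (∀ ω : Ω, ω • x = x) → φ x = ψ x) : ∃ ω : Ω, ∀ x, φ x = ψ (ω • x) := by
  classical
  by_contra hc
  push Not at hc
  choose b hb using hc
  let e : Ω ≃ Fin (Fintype.card Ω) := Fintype.equivFin Ω
  -- β := ∑ b_ω X^(e ω)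
  let β : Polynomial B := ∑ ω : Ω, Polynomial.C (b ω) * Polynomial.X ^ (e ω : ℕ)
  let π : Polynomial (Polynomial B) := MulSemiringAction.charpoly Ω β
  have key : π.map (Polynomial.mapRingHom φ) = π.map (Polynomial.mapRingHom ψ) := by
    ext m l
    simp only [Polynomial.coeff_map, Polynomial.coe_mapRingHom]
    refine h _ fun ω => ?_
    rw [← Polynomial.coeff_smul, MulSemiringAction.smul_coeff_charpoly]
  have h0 : (π.map (Polynomial.mapRingHom ψ)).eval (β.map φ) = 0 := by
    rw [← key]
    rw [show (β.map φ) = Polynomial.mapRingHom φ β from rfl, Polynomial.eval_map,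
      Polynomial.eval₂_at_apply, MulSemiringAction.eval_charpoly, map_zero]
  simp only [π, MulSemiringAction.charpoly_eq, Polynomial.map_prod, Polynomial.map_sub, Polynomial.map_X,
    Polynomial.map_C, Polynomial.eval_prod, Polynomial.eval_sub, Polynomial.eval_X, Polynomial.eval_C,
    Finset.prod_eq_zero_iff, sub_eq_zero, Polynomial.coe_mapRingHom] at h0
  obtain ⟨ω, -, hω⟩ := h0
  apply hb ω
  have := congrArg (fun q => Polynomial.coeff q (e ω : ℕ)) hω
  have hcoeff : Polynomial.coeff β (e ω : ℕ) = b ω := by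
    simp only [β, Polynomial.finsetSum_coeff, Polynomial.coeff_C_mul_X_pow]
    rw [Finset.sum_eq_single ω]
    · simp
    · intro w _ hw; rw [if_neg]; exact fun h => hw (e.injective (Fin.ext h.symm))
    · simp
  simpa [hcoeff] using this

/-- Let `B` be a commutative ring with an action of a finite group `Γ` by ring automorphisms, `Ω` a
normal subgroup of `Γ`, `B^Ω` the subring of `Ω`-invariants (stable under `Γ`, with the induced
action of `Γ/Ω`), and `P` a prime ideal of `B`. Then (decomposition groups) an element `γ` maps `P ∩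
B^Ω` onto itself if and only if `γω` maps `P` onto itself for some `ω ∈ Ω`; and (inertia groups) `γ`
fixes `B^Ω` modulo `P ∩ B^Ω` if and only if `γω` fixes `B` modulo `P` for some `ω ∈ Ω`. In other
words the decomposition and inertia groups of `P ∩ B^Ω` under `Γ/Ω` are the images of those of `P`.
(The published statement also asserts the same for the ramification groups, the Sylow subgroups of
the inertia groups at the residue characteristic; that clause is not included here.) -/
theorem result
    (B : Type u) [CommRing B] (Γ : Type v) [Group Γ] [Finite Γ] [MulSemiringAction Γ B]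
    (Ω : Subgroup Γ) [Ω.Normal] (P : Ideal B) [P.IsPrime] (γ : Γ) :
    ((∀ x : B, (∀ ω ∈ Ω, ω • x = x) → (x ∈ P ↔ γ • x ∈ P)) ↔
        ∃ ω ∈ Ω, ∀ x : B, x ∈ P ↔ (γ * ω) • x ∈ P) ∧
      ((∀ x : B, (∀ ω ∈ Ω, ω • x = x) → γ • x - x ∈ P) ↔
        ∃ ω ∈ Ω, ∀ x : B, (γ * ω) • x - x ∈ P) := by
  classical
  cases nonempty_fintype Ω
  have stab : ∀ x : B, ∀ ω ∈ Ω, (∀ ω ∈ Ω, ω • x = x) → ω • x = x := fun x ω hω h => h ω hω
  constructor
  · constructor
    · intro h
      let A := FixedPoints.subring B Ω
      have : Algebra.IsInvariant A B Ω := ⟨fun b hb => ⟨⟨b, hb⟩, rfl⟩⟩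
      have : SMulCommClass Ω A B := ⟨fun ω a x => by
        change ω • ((a : B) * x) = (a : B) * ω • x
        rw [smul_mul', a.2 ω]⟩
      obtain ⟨ω, hω⟩ := Algebra.IsInvariant.exists_smul_of_under_eq A B Ω P
        (P.comap (MulSemiringAction.toRingHom Γ B γ)) (by
          ext a
          exact h a.1 (fun ω hω => a.2 ⟨ω, hω⟩))
      refine ⟨ω, ω.2, fun x => ?_⟩
      have h1 : (ω : Γ) • x ∈ P.comap (MulSemiringAction.toRingHom Γ B γ) ↔ x ∈ P := by
        rw [hω, ← Ideal.smul_mem_pointwise_smul_iff (a := ω) (S := P) (x := x)]; rfl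
      rw [← h1]; simp [mul_smul]
    · rintro ⟨ω, hω, h⟩ x hx
      rw [h x, mul_smul, hx ω hω]
  · constructor
    · intro h
      obtain ⟨ω, hω⟩ := exists_omega (Ω := Ω) (Ideal.Quotient.mk P)
        ((Ideal.Quotient.mk P).comp (MulSemiringAction.toRingHom Γ B γ)) (fun x hx => by
          simp only [RingHom.coe_comp, Function.comp_apply, MulSemiringAction.toRingHom_apply]
          exact (Ideal.Quotient.eq.mpr (h x (fun ω hω => hx ⟨ω, hω⟩))).symm)
      refine ⟨ω, ω.2, fun x => ?_⟩
      rw [← Ideal.Quotient.eq, mul_smul]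
      exact (hω x).symm
    · rintro ⟨ω, hω, h⟩ x hx
      have := h x
      rwa [mul_smul, hx ω hω] at this

end Groth.Agent.S12935
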