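import Groth.Statements.S12936
import Mathlib

set_option autoImplicit false
universe u v
open InvTh

namespace Groth.Agent.S12936

/-- Let `B` be a commutative ring with an action of a finite group `Γ` by ring automorphisms and `P` a
maximal ideal of `B`, with decomposition group `D_P = {γ | γP = P}` and decomposition ring `D =
B^{D_P}`. Then `D = B^Γ + (P ∩ D)`: every element of `B` fixed by `D_P` is congruent modulo `P` to a
`Γ`-invariant element. Hence the residue field of `D` at `P ∩ D` is that of `B^Γ` at `P ∩ B^Γ`; for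
an arbitrary prime `P` the same equality of residue fields follows by localising at `P ∩ B^Γ`. (The
published statement prints this residue field as `k(P)`; the proof establishes the equality with the
residue field of `B^Γ` stated here.) -/
theorem result
    (B : Type u) [CommRing B] (Γ : Type v) [Group Γ] [Finite Γ] [MulSemiringAction Γ B]
    (P : Ideal B) [P.IsMaximal] (x : B)
    (hx : ∀ γ : Γ, (∀ y : B, y ∈ P ↔ γ • y ∈ P) → γ • x = x) :
    ∃ c : B, (∀ γ : Γ, γ • c = c) ∧ x - c ∈ P := by
  classical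
  cases nonempty_fintype Γ
  let D : Subgroup Γ :=
    { carrier := {γ | ∀ y : B, y ∈ P ↔ γ • y ∈ P}
      one_mem' := fun y => by simp
      mul_mem' := fun {a b} ha hb y => by rw [mul_smul, ← ha, ← hb]
      inv_mem' := fun {a} ha y => by conv_rhs => rw [ha, smul_inv_smul] }
  let c' : Γ → Ideal B := fun γ => P.comap (MulSemiringAction.toRingHom Γ B γ)
  have hmax : ∀ γ, (c' γ).IsMaximal := fun γ =>
    Ideal.comap_isMaximal_of_surjective _ (MulSemiringAction.toRingEquiv Γ B γ).surjective
  let N : Ideal B := ∏ γ ∈ Finset.univ.filter (· ∉ D), c' γ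
  have hco : P ⊔ N = ⊤ := by
    refine Ideal.sup_prod_eq_top fun γ hγ => ?_
    have hγ' : γ ∉ D := (Finset.mem_filter.mp hγ).2
    refine Ideal.IsMaximal.coprime_of_ne ‹_› (hmax γ) fun he => hγ' fun y => ?_
    conv_lhs => rw [he]
    rfl
  obtain ⟨p, hp, e₀, he₀, hpe⟩ := Submodule.mem_sup.mp (hco.ge (Submodule.mem_top (x := (1 : B))))
  have he₀' : ∀ γ ∉ D, γ • e₀ ∈ P := by
    intro γ hγ
    exact (Ideal.le_of_dvd (Finset.dvd_prod_of_mem c' (Finset.mem_filter.mpr ⟨Finset.mem_univ γ, hγ⟩)) he₀ :)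
  let e : B := ∏ d : D, (d : Γ) • e₀
  have he1 : e - 1 ∈ P := by
    rw [← Ideal.Quotient.eq, map_prod, map_one]
    refine Finset.prod_eq_one fun d _ => ?_
    rw [← map_one (Ideal.Quotient.mk P), Ideal.Quotient.eq]
    have : e₀ - 1 = -p := by linear_combination hpe
    have h := (d.2 (e₀ - 1)).mp (this ▸ P.neg_mem hp)
    simpa [smul_sub] using h
  have hed : ∀ d ∈ D, d • e = e := by
    intro d hd
    rw [Finset.smul_prod']
    exact Fintype.prod_equiv (Equiv.mulLeft (⟨d, hd⟩ : D)) _ _ (fun w => (mul_smul d (w : Γ) e₀).symm)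
  let g : Γ ⧸ D → B := Quotient.lift (fun γ => γ • (x * e)) (by
    intro a b hab
    have h : a⁻¹ * b ∈ D := QuotientGroup.leftRel_apply.mp hab
    have : (a⁻¹ * b) • (x * e) = x * e := by rw [smul_mul', hx _ h, hed _ h]
    calc a • (x * e) = a • ((a⁻¹ * b) • (x * e)) := by rw [this]
      _ = b • (x * e) := by rw [← mul_smul, mul_inv_cancel_left])
  have := Fintype.ofFinite (Γ ⧸ D)
  refine ⟨∑ q, g q, fun γ => ?_, ?_⟩
  · rw [Finset.smul_sum]
    refine Fintype.sum_equiv (MulAction.toPerm γ) _ _ fun q => ?_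
    obtain ⟨a, rfl⟩ := QuotientGroup.mk_surjective q
    change γ • a • (x * e) = (γ * a) • (x * e)
    rw [mul_smul]
  · have hrest : ∀ q ∈ Finset.univ.erase ((1 : Γ) : Γ ⧸ D), g q ∈ P := by
      intro q hq
      obtain ⟨a, rfl⟩ := QuotientGroup.mk_surjective q
      have ha : a ∉ D := fun h => (Finset.mem_erase.mp hq).1
        (QuotientGroup.eq.mpr (by simpa using D.inv_mem h))
      change a • (x * e) ∈ P
      rw [smul_mul', Finset.smul_prod']
      refine P.mul_mem_left _ (P.mem_of_dvd (Finset.dvd_prod_of_mem _ (Finset.mem_univ (1 : D))) ?_)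
      simpa using he₀' a ha
    rw [← Finset.add_sum_erase _ _ (Finset.mem_univ ((1 : Γ) : Γ ⧸ D))]
    have h1 : g ((1 : Γ) : Γ ⧸ D) = x * e := one_smul Γ _
    rw [h1, ← Ideal.Quotient.eq, map_add, Ideal.Quotient.eq_zero_iff_mem.mpr (P.sum_mem hrest), add_zero,
      map_mul, Ideal.Quotient.eq.mpr he1, map_one, mul_one]

end Groth.Agent.S12936
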