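import Groth.Statements.S12937
import Mathlib

set_option autoImplicit false
universe u v
open InvTh

namespace Groth.Agent.S12937

open Polynomial in
theorem exists_sum_quotient {B : Type u} [CommRing B] {G : Type v} [Group G] [MulSemiringAction G B]
    [Finite G] (H : Subgroup G) (b : B) (hb : ∀ h ∈ H, h • b = b) :
    ∃ F : G ⧸ H → B, (∀ g : G, F g = g • b) ∧
      ∀ g : G, g • (@Finset.sum (G ⧸ H) B _ (@Finset.univ _ (Fintype.ofFinite _)) F) =
        @Finset.sum (G ⧸ H) B _ (@Finset.univ _ (Fintype.ofFinite _)) F := by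
  let _ := Fintype.ofFinite (G ⧸ H)
  let F : G ⧸ H → B := Quotient.lift (fun g => g • b) fun g₁ g₂ h => by
    have h' : g₁⁻¹ * g₂ ∈ H := QuotientGroup.leftRel_apply.mp h
    calc g₁ • b = g₁ • ((g₁⁻¹ * g₂) • b) := by rw [hb _ h']
      _ = g₂ • b := by rw [← mul_smul, mul_inv_cancel_left]
  refine ⟨F, fun g => rfl, fun g => ?_⟩
  change g • (∑ q, F q) = ∑ q, F q
  rw [Finset.smul_sum]
  refine Fintype.sum_equiv (MulAction.toPerm g) _ _ fun q => ?_
  induction q using QuotientGroup.induction_on with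
  | H a => exact (mul_smul g a b).symm

section
variable {B : Type u} [CommRing B] {Γ : Type v} [Group Γ] [Finite Γ] [MulSemiringAction Γ B]
  (P : Ideal B) [P.IsMaximal]

/-- residues of the `H`-invariant elements -/
def resSet (H : Subgroup Γ) : Set (B ⧸ P) :=
  {s | ∃ b : B, (∀ h ∈ H, h • b = b) ∧ Ideal.Quotient.mk P b = s}

theorem inv_mem_resSet (H : Subgroup Γ) {b : B} (hb : ∀ h ∈ H, h • b = b) (hbP : b ∉ P) :
    ∃ a : B, (∀ h ∈ H, h • a = a) ∧ Ideal.Quotient.mk P (a * b) = 1 := by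
  haveI : Algebra.IsInvariant (FixedPoints.subring B H) B H := ⟨fun a ha => ⟨⟨a, ha⟩, rfl⟩⟩
  haveI : Algebra.IsIntegral (FixedPoints.subring B H) B := Algebra.IsInvariant.isIntegral _ B H
  haveI : (P.under (FixedPoints.subring B H)).IsMaximal :=
    Ideal.isMaximal_comap_of_isIntegral_of_isMaximal P
  obtain ⟨a, ha⟩ := Ideal.IsMaximal.exists_inv (I := P.under (FixedPoints.subring B H)) this
    (x := ⟨b, fun h => hb h h.2⟩) hbP
  obtain ⟨i, hi, he⟩ := ha
  refine ⟨a, fun h hh => a.2 ⟨h, hh⟩, ?_⟩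
  have he' := congrArg Subtype.val he
  simp only [Subring.coe_add, Subring.coe_mul, Subring.coe_one] at he'
  rw [← map_one (Ideal.Quotient.mk P), Ideal.Quotient.mk_eq_mk_iff_sub_mem, ← he', sub_add_cancel_left]
  exact neg_mem hi

/-- the decomposition group -/
def dec : Subgroup Γ where
  carrier := {γ | ∀ b : B, γ • b ∈ P ↔ b ∈ P}
  one_mem' b := by rw [one_smul]
  mul_mem' h1 h2 b := by rw [mul_smul, h1, h2]
  inv_mem' {γ} h b := by rw [← h (γ⁻¹ • b), smul_inv_smul]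

theorem smul_mem_iff {δ : Γ} (hδ : δ ∈ dec P) (b : B) : δ • b ∈ P ↔ b ∈ P := hδ b

theorem inertia_le_dec : P.inertia Γ ≤ dec P := fun t ht b => by
  have := AddSubgroup.mem_inertia.mp ht b
  exact ⟨fun h => by simpa using P.sub_mem h this, fun h => by simpa using P.add_mem this h⟩

theorem conj_mem_inertia {δ t : Γ} (hδ : δ ∈ dec P) (ht : t ∈ P.inertia Γ) :
    δ⁻¹ * t * δ ∈ P.inertia Γ := by
  refine AddSubgroup.mem_inertia.mpr fun b => ?_
  have h := AddSubgroup.mem_inertia.mp ht (δ • b)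
  rw [mul_smul, mul_smul]
  refine (smul_mem_iff P hδ _).mp ?_
  rw [smul_sub, smul_inv_smul]
  exact h

theorem smul_fixed {δ : Γ} (hδ : δ ∈ dec P) {y : B} (hy : ∀ t ∈ P.inertia Γ, t • y = y) :
    ∀ t ∈ P.inertia Γ, t • δ • y = δ • y := by
  intro t ht
  have := congrArg (δ • ·) (hy _ (conj_mem_inertia P hδ ht))
  simpa [mul_smul, smul_inv_smul] using this

theorem exists_separating : ∃ z : B, z ∉ P ∧ (∀ δ : Γ, δ ∈ dec P → δ • z = z) ∧
    ∀ γ : Γ, γ ∉ dec P → γ • z ∈ P := by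
  classical
  have := Fintype.ofFinite Γ
  have h1 : ∀ γ : Γ, ∃ u : B, u ∉ P ∧ (γ ∉ dec P → γ • u ∈ P) := by
    intro γ
    by_cases hγ : γ ∈ dec P
    · exact ⟨1, fun h => Ideal.IsMaximal.ne_top ‹_› ((Ideal.eq_top_iff_one P).mpr h), fun h => absurd hγ h⟩
    · by_contra! h
      apply hγ
      haveI : (P.comap (MulSemiringAction.toRingHom Γ B γ)).IsPrime := Ideal.IsPrime.comap _
      have hle : P.comap (MulSemiringAction.toRingHom Γ B γ) ≤ P := fun b hb => by
        by_contra hbP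
        exact (h b hbP).2 hb
      haveI : (P.comap (MulSemiringAction.toRingHom Γ B γ)).IsMaximal :=
        Ideal.comap_isMaximal_of_surjective _ (MulAction.surjective γ)
      have heq := Ideal.IsMaximal.eq_of_le this (Ideal.IsMaximal.ne_top ‹P.IsMaximal›) hle
      exact fun b => (SetLike.ext_iff.mp heq b)
  choose u hu hu' using h1
  let D := Finset.univ.filter fun δ : Γ => δ ∈ dec P
  refine ⟨∏ δ ∈ D, δ • ∏ γ, u γ, ?_, fun δ hδ => ?_, fun γ hγ => ?_⟩
  · intro h
    obtain ⟨δ, hδ, h⟩ := (Ideal.IsPrime.prod_mem_iff (p := P)).mp h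
    obtain ⟨γ, -, h⟩ := (Ideal.IsPrime.prod_mem_iff (p := P)).mp
      ((smul_mem_iff P (Finset.mem_filter.mp hδ).2 _).mp h)
    exact hu γ h
  · rw [Finset.smul_prod']
    refine Finset.prod_nbij' (fun x => δ * x) (fun x => δ⁻¹ * x) ?_ ?_ ?_ ?_ ?_
    · intro x hx; simp [D] at hx ⊢; exact mul_mem hδ hx
    · intro x hx; simp [D] at hx ⊢; exact mul_mem (inv_mem hδ) hx
    · intro x _; simp
    · intro x _; simp
    · intro x _; rw [mul_smul]
  · rw [Finset.smul_prod']
    refine (Ideal.IsPrime.prod_mem_iff (p := P)).mpr ⟨1, by simp [D, one_mem], ?_⟩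
    rw [one_smul, Finset.smul_prod']
    exact (Ideal.IsPrime.prod_mem_iff (p := P)).mpr ⟨γ, Finset.mem_univ _, hu' γ hγ⟩

/-- residues of `dec`-invariant elements come from `Γ`-invariant elements -/
theorem resSet_dec {b : B} (hb : ∀ δ : Γ, δ ∈ dec P → δ • b = b) :
    Ideal.Quotient.mk P b ∈ resSet P (⊤ : Subgroup Γ) := by
  classical
  obtain ⟨z, hzP, hzD, hz⟩ := exists_separating P (Γ := Γ)
  have key : ∀ c : B, (∀ δ : Γ, δ ∈ dec P → δ • c = c) →
      ∃ β : B, (∀ γ ∈ (⊤ : Subgroup Γ), γ • β = β) ∧ β - c * z ∈ P := by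
    intro c hc
    obtain ⟨F, hF, hinv⟩ := exists_sum_quotient (G := Γ) (B := B) (dec P) (c * z)
      (fun h hh => by rw [smul_mul', hc h hh, hzD h hh])
    refine ⟨_, fun γ _ => hinv γ, ?_⟩
    let _ := Fintype.ofFinite (Γ ⧸ dec P)
    have h1 : F ((1 : Γ) : Γ ⧸ dec P) = c * z := by rw [hF, one_smul]
    rw [← h1, ← Finset.add_sum_erase _ _ (Finset.mem_univ ((1 : Γ) : Γ ⧸ dec P)), add_sub_cancel_left]
    refine Ideal.sum_mem _ fun q hq => ?_
    induction q using QuotientGroup.induction_on with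
    | H a =>
      rw [hF, smul_mul']
      refine P.mul_mem_left _ (hz a fun ha => (Finset.mem_erase.mp hq).1 ?_)
      exact QuotientGroup.eq.mpr (by simpa using inv_mem ha)
  obtain ⟨β₁, hβ₁, hβ₁'⟩ := key b hb
  obtain ⟨β₂, hβ₂, hβ₂'⟩ := key 1 fun δ _ => smul_one δ
  rw [one_mul] at hβ₂'
  have hβ₂P : β₂ ∉ P := fun h => hzP (by simpa using P.sub_mem h hβ₂')
  obtain ⟨a, ha, ha'⟩ := inv_mem_resSet P (⊤ : Subgroup Γ) hβ₂ hβ₂P
  refine ⟨β₁ * a, fun γ hγ => by rw [smul_mul', hβ₁ γ hγ, ha γ hγ], ?_⟩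
  rw [← Ideal.Quotient.mk_eq_mk_iff_sub_mem] at hβ₁' hβ₂'
  rw [map_mul] at hβ₁' ha' ⊢
  rw [hβ₁', mul_assoc, ← hβ₂', mul_comm (Ideal.Quotient.mk P β₂), ha', mul_one]

open Polynomial in
theorem exists_inertia_poly (x : B) : ∃ h : B[X],
    (∀ (i : ℕ), ∀ t ∈ P.inertia Γ, t • h.coeff i = h.coeff i) ∧
    ∃ M : ℕ, M ≠ 0 ∧ h.map (Ideal.Quotient.mk P) = (X - C (Ideal.Quotient.mk P x)) ^ M := by
  classical
  have := Fintype.ofFinite (P.inertia Γ)
  refine ⟨∏ t : P.inertia Γ, (X - C ((t : Γ) • x)), fun i t ht => ?_,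
    Fintype.card (P.inertia Γ), Fintype.card_ne_zero, ?_⟩
  · rw [← Polynomial.coeff_smul, Finset.smul_prod']
    congr 1
    refine Fintype.prod_equiv (Equiv.mulLeft ⟨t, ht⟩) _ _ fun s => ?_
    simp [smul_sub, Polynomial.smul_C, Polynomial.smul_X, mul_smul]
  · rw [Polynomial.map_prod, Finset.prod_congr rfl fun t _ => ?_, Finset.prod_const, Finset.card_univ]
    rw [Polynomial.map_sub, map_X, map_C]
    congr 2
    rw [Ideal.Quotient.mk_eq_mk_iff_sub_mem]
    exact AddSubgroup.mem_inertia.mp t.2 x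

open Polynomial in
theorem faithful {δ : Γ} (hδ : δ ∈ dec P)
    (h : ∀ w : B, (∀ t ∈ P.inertia Γ, t • w = w) → δ • w - w ∈ P) : δ ∈ P.inertia Γ := by
  refine AddSubgroup.mem_inertia.mpr fun x => ?_
  obtain ⟨f, hf, M, hM, hfM⟩ := exists_inertia_poly (Γ := Γ) P x
  let φ : B →+* B ⧸ P := (Ideal.Quotient.mk P).comp (MulSemiringAction.toRingHom Γ B δ)
  have h1 : f.map φ = f.map (Ideal.Quotient.mk P) := by
    ext i
    rw [coeff_map, coeff_map]
    exact (Ideal.Quotient.mk_eq_mk_iff_sub_mem _ _).mpr (h _ (hf i))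
  have h2 := congrArg (Polynomial.eval (Ideal.Quotient.mk P (δ • x))) h1
  rw [hfM, eval_pow, eval_sub, eval_X, eval_C, eval_map] at h2
  have h3 : eval₂ φ (Ideal.Quotient.mk P (δ • x)) f = φ (f.eval x) := by
    rw [← Polynomial.eval₂_at_apply]; rfl
  have h4 : f.eval x ∈ P := by
    rw [← Ideal.Quotient.eq_zero_iff_mem, ← Polynomial.eval₂_at_apply, ← eval_map, hfM]
    simp [zero_pow hM]
  have h5 : φ (f.eval x) = 0 := by
    change Ideal.Quotient.mk P (δ • f.eval x) = 0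
    rw [Ideal.Quotient.eq_zero_iff_mem, smul_mem_iff P hδ]
    exact h4
  rw [h3, h5] at h2
  exact (Ideal.Quotient.mk_eq_mk_iff_sub_mem _ _).mp (sub_eq_zero.mp (eq_zero_of_pow_eq_zero h2.symm))

/-- a `dec`-fixed residue of an inertia-invariant element is a residue of a `Γ`-invariant one -/
theorem resSet_of_fixed {y : B} (hy : ∀ t ∈ P.inertia Γ, t • y = y)
    (hfix : ∀ δ : Γ, δ ∈ dec P → δ • y - y ∈ P) : Ideal.Quotient.mk P y ∈ resSet P (⊤ : Subgroup Γ) := by
  classical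
  let I : Subgroup (dec P (Γ := Γ)) := (P.inertia Γ).subgroupOf (dec P)
  let _ := Fintype.ofFinite (dec P (Γ := Γ) ⧸ I)
  let S := {w : B // ∀ t ∈ P.inertia Γ, t • w = w}
  let Mon : Submonoid B :=
    { carrier := {w | ∀ t ∈ P.inertia Γ, t • w = w}
      one_mem' := fun t _ => smul_one t
      mul_mem' := fun ha hb t ht => by rw [smul_mul', ha t ht, hb t ht] }
  let χ : dec P (Γ := Γ) ⧸ I → (Mon →* B ⧸ P) := Quotient.lift
    (fun g => ((Ideal.Quotient.mk P).toMonoidHom.comp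
      (MulSemiringAction.toRingHom Γ B (g : Γ)).toMonoidHom).comp Mon.subtype)
    (fun g₁ g₂ h => by
      have h' : g₁⁻¹ * g₂ ∈ I := QuotientGroup.leftRel_apply.mp h
      ext w
      change Ideal.Quotient.mk P ((g₁ : Γ) • (w : B)) = Ideal.Quotient.mk P ((g₂ : Γ) • (w : B))
      have h2 := w.2 _ (Subgroup.mem_subgroupOf.mp h')
      simp only [Subgroup.coe_mul, Subgroup.coe_inv, mul_smul, inv_smul_eq_iff] at h2
      rw [h2])
  have hχ : Function.Injective χ := by
    intro q₁ q₂ h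
    induction q₁ using QuotientGroup.induction_on with
    | H g₁ =>
    induction q₂ using QuotientGroup.induction_on with
    | H g₂ =>
    refine QuotientGroup.eq.mpr (Subgroup.mem_subgroupOf.mpr ?_)
    refine faithful P (g₁⁻¹ * g₂).2 fun w hw => ?_
    have h2 : Ideal.Quotient.mk P ((g₁ : Γ) • w) = Ideal.Quotient.mk P ((g₂ : Γ) • w) :=
      DFunLike.congr_fun h ⟨w, hw⟩
    have h3 := (Ideal.Quotient.mk_eq_mk_iff_sub_mem _ _).mp h2.symm
    rw [← smul_mem_iff P (inv_mem g₁.2), smul_sub, inv_smul_smul] at h3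
    simpa [mul_smul] using h3
  obtain ⟨w, hw, hw'⟩ : ∃ (w : B) (hw : w ∈ Mon), ∑ q, χ q ⟨w, hw⟩ ≠ 0 := by
    by_contra! h
    have hli := (linearIndependent_monoidHom Mon (B ⧸ P)).comp χ hχ
    have h1 := Fintype.linearIndependent_iff.mp hli (fun _ => 1) (funext fun ⟨w, hw⟩ => by
      simpa [Finset.sum_apply] using h w hw) ((1 : dec P (Γ := Γ)) : dec P (Γ := Γ) ⧸ I)
    haveI := Ideal.Quotient.nontrivial_iff.mpr (Ideal.IsMaximal.ne_top ‹P.IsMaximal›)
    exact one_ne_zero h1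
  have key : ∀ c : B, (∀ t ∈ P.inertia Γ, t • c = c) → (∀ δ : Γ, δ ∈ dec P → δ • c - c ∈ P) →
      ∃ β : B, (∀ δ : Γ, δ ∈ dec P → δ • β = β) ∧
        Ideal.Quotient.mk P β = Ideal.Quotient.mk P c * ∑ q, χ q ⟨w, hw⟩ := by
    intro c hc hcfix
    obtain ⟨F, hF, hinv⟩ := exists_sum_quotient (B := B) I (c * w) (fun h hh => by
      change (h : Γ) • (c * w) = c * w
      rw [smul_mul', hc _ (Subgroup.mem_subgroupOf.mp hh), hw _ (Subgroup.mem_subgroupOf.mp hh)])
    refine ⟨_, fun δ hδ => hinv ⟨δ, hδ⟩, ?_⟩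
    rw [map_sum, Finset.mul_sum]
    refine Finset.sum_congr rfl fun q _ => ?_
    induction q using QuotientGroup.induction_on with
    | H g =>
      rw [hF]
      change Ideal.Quotient.mk P ((g : Γ) • (c * w)) =
        Ideal.Quotient.mk P c * Ideal.Quotient.mk P ((g : Γ) • w)
      rw [smul_mul', map_mul, (Ideal.Quotient.mk_eq_mk_iff_sub_mem _ _).mpr (hcfix g g.2)]
  obtain ⟨β₁, hβ₁, hβ₁'⟩ := key y hy hfix
  obtain ⟨β₂, hβ₂, hβ₂'⟩ := key 1 (fun t _ => smul_one t) (fun δ _ => by simp)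
  rw [map_one, one_mul] at hβ₂'
  obtain ⟨c₁, hc₁, hc₁'⟩ := resSet_dec P hβ₁
  obtain ⟨c₂, hc₂, hc₂'⟩ := resSet_dec P hβ₂
  rw [← hc₂'] at hβ₂'
  obtain ⟨a, ha, ha'⟩ := inv_mem_resSet P (⊤ : Subgroup Γ) hc₂
    (fun h => hw' (by rw [← hβ₂']; exact Ideal.Quotient.eq_zero_iff_mem.mpr h))
  refine ⟨c₁ * a, fun γ hγ => by rw [smul_mul', hc₁ γ hγ, ha γ hγ], ?_⟩
  rw [map_mul] at ha'
  rw [map_mul, hc₁', hβ₁', ← hβ₂', mul_assoc, mul_comm (Ideal.Quotient.mk P c₂), ha', mul_one]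

open Polynomial in
theorem forward {x y : B} (hy : ∀ γ : Γ, γ ∈ P.inertia Γ → γ • y = y) (hxy : x - y ∈ P) :
    ∃ g : B[X], (∀ (i : ℕ) (γ : Γ), γ • g.coeff i = g.coeff i) ∧
      (g.map (Ideal.Quotient.mk P)).Separable ∧ Polynomial.aeval x g ∈ P := by
  classical
  letI := Ideal.Quotient.field P
  have := Fintype.ofFinite (dec P (Γ := Γ))
  let S : Finset (B ⧸ P) := Finset.univ.image fun δ : dec P (Γ := Γ) => Ideal.Quotient.mk P ((δ : Γ) • y)
  let G₀ : (B ⧸ P)[X] := ∏ s ∈ S, (X - C s)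
  have hsep : G₀.Separable := separable_prod_X_sub_C_iff'.mpr fun _ _ _ _ h => h
  -- a lift with inertia-invariant coefficients
  have hlift : ∀ s ∈ S, ∃ b : B, (∀ t ∈ P.inertia Γ, t • b = b) ∧ Ideal.Quotient.mk P b = s := by
    intro s hs
    obtain ⟨δ, -, rfl⟩ := Finset.mem_image.mp hs
    exact ⟨(δ : Γ) • y, smul_fixed P δ.2 hy, rfl⟩
  choose! ℓ hℓ hℓ' using hlift
  let G₁ : B[X] := ∏ s ∈ S, (X - C (ℓ s))
  have hG₁ : G₁.map (Ideal.Quotient.mk P) = G₀ := by
    rw [Polynomial.map_prod]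
    exact Finset.prod_congr rfl fun s hs => by rw [Polynomial.map_sub, map_X, map_C, hℓ' s hs]
  have hG₁inv : ∀ i, ∀ t ∈ P.inertia Γ, t • G₁.coeff i = G₁.coeff i := by
    intro i t ht
    rw [← coeff_smul, Finset.smul_prod']
    congr 1
    exact Finset.prod_congr rfl fun s hs => by
      rw [smul_sub, smul_X, smul_C, hℓ s hs t ht]
  have hcoef : ∀ i, ∃ c : B, (∀ γ : Γ, γ • c = c) ∧ Ideal.Quotient.mk P c = G₀.coeff i := by
    intro i
    obtain ⟨c, hc, hc'⟩ := resSet_of_fixed P (hG₁inv i) fun δ hδ => by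
      rw [← Ideal.Quotient.mk_eq_mk_iff_sub_mem]
      let φ : B →+* B ⧸ P := (Ideal.Quotient.mk P).comp (MulSemiringAction.toRingHom Γ B δ)
      change φ (G₁.coeff i) = _
      rw [← coeff_map, ← coeff_map, hG₁]
      congr 1
      rw [Polynomial.map_prod]
      let e : B ⧸ P →+* B ⧸ P := Ideal.quotientMap P (MulSemiringAction.toRingHom Γ B δ)
        fun b hb => (smul_mem_iff P hδ b).mpr hb
      have he : ∀ b, e (Ideal.Quotient.mk P b) = Ideal.Quotient.mk P (δ • b) := fun b => rfl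
      have himg : S.image e = S := by
        rw [Finset.image_image]
        ext s
        simp only [Finset.mem_image, Finset.mem_univ, true_and, S, Function.comp_apply, he]
        constructor
        · rintro ⟨d, rfl⟩; exact ⟨⟨δ, hδ⟩ * d, by rw [Subgroup.coe_mul, mul_smul]⟩
        · rintro ⟨d, rfl⟩
          exact ⟨⟨δ, hδ⟩⁻¹ * d, by rw [Subgroup.coe_mul, Subgroup.coe_inv, ← mul_smul, mul_inv_cancel_left]⟩
      calc ∏ s ∈ S, (X - C (ℓ s)).map φ = ∏ s ∈ S, (X - C (e s)) :=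
            Finset.prod_congr rfl fun s hs => by
              rw [Polynomial.map_sub, map_X, map_C]
              conv_rhs => rw [← hℓ' s hs, he]
              rfl
        _ = ∏ s ∈ S.image e, (X - C s) :=
            (Finset.prod_image (f := fun s => X - C s) fun a _ b _ h => e.injective h).symm
        _ = G₀ := by rw [himg]
    rw [← coeff_map, hG₁] at hc'
    exact ⟨c, fun γ => hc γ (Subgroup.mem_top γ), hc'⟩
  choose c hc hc' using hcoef
  let g : B[X] := ∑ i ∈ Finset.range (G₀.natDegree + 1), monomial i (c i)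
  have hg : g.map (Ideal.Quotient.mk P) = G₀ := by
    conv_rhs => rw [G₀.as_sum_range' (G₀.natDegree + 1) (Nat.lt_succ_self _)]
    rw [Polynomial.map_sum]
    exact Finset.sum_congr rfl fun i _ => by rw [map_monomial, hc']
  refine ⟨g, fun i γ => ?_, hg ▸ hsep, ?_⟩
  · simp only [g, finsetSum_coeff, coeff_monomial, Finset.smul_sum]
    exact Finset.sum_congr rfl fun x _ => by split_ifs <;> simp [hc]
  · rw [← Ideal.Quotient.eq_zero_iff_mem, coe_aeval_eq_eval, ← eval₂_at_apply, ← eval_map, hg,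
      (Ideal.Quotient.mk_eq_mk_iff_sub_mem _ _).mpr hxy, eval_prod]
    exact Finset.prod_eq_zero (Finset.mem_image.mpr ⟨1, Finset.mem_univ _, by rw [Subgroup.coe_one, one_smul]⟩)
      (by simp)

open Polynomial in
theorem backward {x : B} {g : B[X]} (hg : ∀ (i : ℕ) (γ : Γ), γ • g.coeff i = g.coeff i)
    (hsep : (g.map (Ideal.Quotient.mk P)).Separable) (hx : Polynomial.aeval x g ∈ P) :
    ∃ y : B, (∀ γ : Γ, γ ∈ P.inertia Γ → γ • y = y) ∧ x - y ∈ P := by
  classical
  letI := Ideal.Quotient.field P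
  obtain ⟨h, hh, M, hM, hhM⟩ := exists_inertia_poly (Γ := Γ) P x
  let L : Subfield (B ⧸ P) :=
    { carrier := resSet P (P.inertia Γ)
      mul_mem' := fun ⟨a, ha, ha'⟩ ⟨b, hb, hb'⟩ =>
        ⟨a * b, fun t ht => by rw [smul_mul', ha t ht, hb t ht], by rw [map_mul, ha', hb']⟩
      one_mem' := ⟨1, fun t _ => smul_one t, map_one _⟩
      add_mem' := fun ⟨a, ha, ha'⟩ ⟨b, hb, hb'⟩ =>
        ⟨a + b, fun t ht => by rw [smul_add, ha t ht, hb t ht], by rw [map_add, ha', hb']⟩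
      zero_mem' := ⟨0, fun t _ => smul_zero t, map_zero _⟩
      neg_mem' := fun ⟨a, ha, ha'⟩ =>
        ⟨-a, fun t ht => by rw [smul_neg, ha t ht], by rw [map_neg, ha']⟩
      inv_mem' := by
        rintro _ ⟨b, hb, rfl⟩
        by_cases hbP : b ∈ P
        · exact ⟨0, fun t _ => smul_zero t, by rw [Ideal.Quotient.eq_zero_iff_mem.mpr hbP, map_zero, inv_zero]⟩
        · obtain ⟨a, ha, ha'⟩ := inv_mem_resSet P (P.inertia Γ) hb hbP
          rw [map_mul] at ha'
          exact ⟨a, ha, eq_inv_of_mul_eq_one_left ha'⟩ }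
  have lift : ∀ q : B[X], (∀ i, ∀ t ∈ P.inertia Γ, t • q.coeff i = q.coeff i) →
      ∃ q' : L[X], q'.map L.subtype = q.map (Ideal.Quotient.mk P) := by
    intro q hq
    refine (Polynomial.mem_lifts _).mp ((Polynomial.lifts_iff_coeff_lifts _).mpr fun i => ?_)
    rw [coeff_map]
    exact ⟨⟨_, q.coeff i, hq i, rfl⟩, rfl⟩
  obtain ⟨g', hg'⟩ := lift g fun i t _ => hg i t
  obtain ⟨h', hh'⟩ := lift h hh
  set a := Ideal.Quotient.mk P x with ha
  have hroot : IsRoot (g.map (Ideal.Quotient.mk P)) a := by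
    rw [IsRoot, eval_map, eval₂_at_apply, ← coe_aeval_eq_eval, Ideal.Quotient.eq_zero_iff_mem]
    exact hx
  have hgcd : Associated (EuclideanDomain.gcd (g.map (Ideal.Quotient.mk P)) ((X - C a) ^ M)) (X - C a) := by
    obtain ⟨j, hj, hjA⟩ := (dvd_prime_pow (prime_X_sub_C a) M).mp
      (EuclideanDomain.gcd_dvd_right (g.map (Ideal.Quotient.mk P)) ((X - C a) ^ M))
    rcases Nat.lt_or_ge j 2 with hj2 | hj2
    · rcases Nat.eq_zero_or_pos j with rfl | hj0
      · exfalso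
        have h1 : X - C a ∣ EuclideanDomain.gcd (g.map (Ideal.Quotient.mk P)) ((X - C a) ^ M) :=
          EuclideanDomain.dvd_gcd (dvd_iff_isRoot.mpr hroot) (dvd_pow_self _ hM)
        rw [pow_zero] at hjA
        exact not_isUnit_X_sub_C a (isUnit_of_dvd_one (h1.trans hjA.dvd))
      · obtain rfl : j = 1 := by omega
        rwa [pow_one] at hjA
    · exfalso
      refine not_isUnit_X_sub_C a (hsep.squarefree (X - C a) ?_)
      have := (pow_dvd_pow (X - C a) hj2).trans (hjA.symm.dvd.trans (EuclideanDomain.gcd_dvd_left _ _))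
      rwa [pow_two] at this
  set d := EuclideanDomain.gcd g' h' with hd
  have hgcd' : Associated (d.map L.subtype) (X - C a) := by
    rw [← hg', ← hhM, ← hh', Polynomial.gcd_map] at hgcd
    exact hgcd
  have hdeg : d.natDegree = 1 := by
    rw [← natDegree_map L.subtype, natDegree_eq_of_degree_eq (degree_eq_degree_of_associated hgcd'),
      natDegree_X_sub_C]
  have hzero : (d.map L.subtype).eval a = 0 := by
    obtain ⟨u, hu⟩ := hgcd'.symm.dvd
    rw [hu, eval_mul, eval_sub, eval_X, eval_C, sub_self, zero_mul]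
  have h1 : d.coeff 1 ≠ 0 := by
    have : d.leadingCoeff ≠ 0 := leadingCoeff_ne_zero.mpr fun h => by rw [h, natDegree_zero] at hdeg; omega
    rwa [leadingCoeff, hdeg] at this
  rw [eq_X_add_C_of_natDegree_le_one hdeg.le] at hzero
  simp only [Polynomial.map_add, Polynomial.map_mul, map_C, map_X, eval_add, eval_mul, eval_C,
    eval_X] at hzero
  have hmem : a ∈ L := by
    have h1' : L.subtype (d.coeff 1) ≠ 0 := fun h => h1 (Subtype.ext h)
    rw [show a = -(L.subtype (d.coeff 0)) * (L.subtype (d.coeff 1))⁻¹ by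
      rw [eq_mul_inv_iff_mul_eq₀ h1']; linear_combination hzero]
    exact L.mul_mem (L.neg_mem (d.coeff 0).2) (L.inv_mem (d.coeff 1).2)
  obtain ⟨y, hy, hy'⟩ := hmem
  exact ⟨y, hy, (Ideal.Quotient.mk_eq_mk_iff_sub_mem _ _).mp hy'.symm⟩

end

/-- Let `B` be a commutative ring with an action of a finite group `Γ` by ring automorphisms, `P` a
maximal ideal of `B`, `T = {γ | γ x - x ∈ P for all x}` its inertia group, `B^T` the inertia ring
and `B^Γ` the ring of invariants, so that `k(P ∩ B^Γ) ⊆ k(P ∩ B^T) ⊆ k(P) = B/P`. Then `k(P ∩ B^T)`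
is the largest separable extension of `k(P ∩ B^Γ)` inside `k(P)`: an element `x` of `B` is congruent
modulo `P` to a `T`-invariant element if and only if `x mod P` is a root of some polynomial with
`Γ`-invariant coefficients whose reduction modulo `P` is separable. (The published statement is for
every prime ideal `P`, as an equality of residue fields; this row takes `P` maximal, the case to
which the published proof reduces by localising at `P ∩ B^Γ`.) -/
theorem result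
    (B : Type u) [CommRing B] (Γ : Type v) [Group Γ] [Finite Γ] [MulSemiringAction Γ B]
    (P : Ideal B) [P.IsMaximal] (x : B) :
    (∃ y : B, (∀ γ : Γ, γ ∈ P.inertia Γ → γ • y = y) ∧ x - y ∈ P) ↔
      ∃ g : Polynomial B, (∀ (i : ℕ) (γ : Γ), γ • g.coeff i = g.coeff i) ∧
        (g.map (Ideal.Quotient.mk P)).Separable ∧ Polynomial.aeval x g ∈ P := by
  exact ⟨fun ⟨y, hy, hxy⟩ => forward P hy hxy, fun ⟨g, hg, hs, hx⟩ => backward P hg hs hx⟩

end Groth.Agent.S12937
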