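import Groth.Statements.S1294
import Groth.Agent.RGFlat.SpreadStage
import Groth.Agent.RGFlat.UnivInj
import Groth.Agent.FlatOpen.FibreLocal
import Groth.Agent.CAlgA.FibreMod
import Groth.Agent.S1219
import Groth.Agent.S1221

set_option autoImplicit false
universe u
open FlatMor

namespace Groth.Agent.S1294

open TensorProduct Groth.Agent.RGFlat Groth.Agent.RGFlat.Spreading Groth.Agent.CAlgA

attribute [local instance] Algebra.TensorProduct.rightAlgebra

/-- An element of `pM` lies in `JM` for a finitely generated `J ≤ p`. -/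
theorem exists_fg_mem {A B M : Type u} [CommRing A] [CommRing B] [Algebra A B] [AddCommGroup M] [Module B M]
    (p : Ideal A) {y : M} (hy : y ∈ p.map (algebraMap A B) • (⊤ : Submodule B M)) :
    ∃ J : Ideal A, J.FG ∧ J ≤ p ∧ y ∈ J.map (algebraMap A B) • (⊤ : Submodule B M) := by
  refine Submodule.smul_induction_on hy (fun a ha m _ => ?_) fun x z hx hz => ?_
  · obtain ⟨J, hJ, hle, hmem⟩ : ∃ J : Ideal A, J.FG ∧ J ≤ p ∧ a ∈ J.map (algebraMap A B) := by
      refine Submodule.span_induction ?_ ⟨⊥, Submodule.fg_bot, bot_le, zero_mem _⟩ ?_ ?_ ha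
      · rintro _ ⟨r, hr, rfl⟩
        exact ⟨Ideal.span {r}, Submodule.fg_span_singleton r, (Ideal.span_singleton_le_iff_mem _).mpr hr,
          Ideal.mem_map_of_mem _ (Ideal.mem_span_singleton_self r)⟩
      · rintro x z - - ⟨J, hJ, hle, hx⟩ ⟨K, hK, hle', hz⟩
        exact ⟨J ⊔ K, Submodule.FG.sup hJ hK, sup_le hle hle',
          add_mem (Ideal.map_mono le_sup_left hx) (Ideal.map_mono le_sup_right hz)⟩
      · rintro c x - ⟨J, hJ, hle, hx⟩
        exact ⟨J, hJ, hle, Ideal.mul_mem_left _ c hx⟩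
    exact ⟨J, hJ, hle, Submodule.smul_mem_smul hmem Submodule.mem_top⟩
  · obtain ⟨J, hJ, hle, hx⟩ := hx
    obtain ⟨K, hK, hle', hz⟩ := hz
    exact ⟨J ⊔ K, Submodule.FG.sup hJ hK, sup_le hle hle', add_mem (Submodule.smul_mono_left (Ideal.map_mono le_sup_left) hx)
      (Submodule.smul_mono_left (Ideal.map_mono le_sup_right) hz)⟩

/-- A quotient which is `T`-torsion free on the fibre, with the same localization after killing `J`. -/
theorem exists_torsionfree_quotient {A B : Type u} [CommRing A] [CommRing B] [Algebra A B] [Algebra.FiniteType A B]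
    (T : Submonoid B) (M : Type u) [AddCommGroup M] [Module B M] [Module A M] [IsScalarTower A B M] [Module.Finite B M]
    (p : Ideal A) [p.IsPrime] :
    ∃ (L : Submodule B M) (J : Ideal A), L.FG ∧ J.FG ∧ J ≤ p ∧
      (∀ m ∈ L, ∃ c ∉ p, ∃ s ∈ T, algebraMap A B c • s • m ∈ J.map (algebraMap A B) • (⊤ : Submodule B M)) ∧
      ∀ s ∈ T, ∀ z : FlatCA.fiberMod p B (M ⧸ L), s • z = 0 → z = 0 := by
  classical
  let Bk := p.Fiber B
  let Mk := Bk ⊗[B] M
  haveI : IsNoetherianRing Bk := Algebra.FiniteType.isNoetherianRing p.ResidueField _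
  have hone : (1 : A) ∉ p := fun h => ‹p.IsPrime›.ne_top ((Ideal.eq_top_iff_one _).2 h)
  let Z : Submodule Bk Mk :=
    { carrier := {z | ∃ s ∈ T, s • z = 0}
      zero_mem' := ⟨1, T.one_mem, smul_zero _⟩
      add_mem' := by
        rintro x y ⟨s, hs, hx⟩ ⟨t, ht, hy⟩
        exact ⟨s * t, T.mul_mem hs ht, by rw [smul_add, mul_comm, mul_smul, hx, smul_zero, mul_comm, mul_smul, hy, smul_zero, add_zero]⟩
      smul_mem' := by
        rintro b z ⟨s, hs, hz⟩
        exact ⟨s, hs, by rw [← algebraMap_smul Bk s, smul_comm, algebraMap_smul, hz, smul_zero]⟩ }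
  obtain ⟨G, hG⟩ := (IsNoetherian.noetherian Z : Z.FG)
  choose c hc m hm using fun z : Mk => FibreMod.exists_smul_eq (S := B) M p z
  have hpush : ∀ z ∈ G, ∃ c ∉ p, ∃ s ∈ T, algebraMap A B c • s • m z ∈ FibreMod.pN (S := B) M p := by
    intro z hz
    obtain ⟨s, hs, hsz⟩ : z ∈ Z := hG ▸ Submodule.subset_span hz
    have h0 : FlatCA.toFiberMod p B M (s • m z) = 0 := by
      rw [map_smul, ← hm z]
      exact (smul_comm s (algebraMap A B (c z)) (z : Mk)).trans ((congrArg _ hsz).trans (smul_zero _))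
    obtain ⟨r, hr, hrmem⟩ := FibreMod.exists_smul_mem M p h0
    exact ⟨r, hr, s, hs, hrmem⟩
  choose! cc hcc ss hss hmem using hpush
  choose! J hJfg hJle hJmem using fun z (hz : z ∈ G) => exists_fg_mem p (hmem z hz)
  let JJ : Ideal A := G.sup J
  let L : Submodule B M := Submodule.span B (m '' (G : Set Mk))
  have hzero : ∀ y ∈ L, FlatCA.toFiberMod p B M y ∈ Z := by
    intro y hy
    refine Submodule.span_le (p := (Z.restrictScalars B).comap (FlatCA.toFiberMod p B M)) |>.mpr ?_ hy
    rintro _ ⟨z, hz, rfl⟩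
    show FlatCA.toFiberMod p B M (m z) ∈ Z
    obtain ⟨s, hs, hsz⟩ : z ∈ Z := hG ▸ Submodule.subset_span hz
    refine ⟨s, hs, ?_⟩
    rw [← hm z]
    exact (smul_comm s (algebraMap A B (c z)) (z : Mk)).trans ((congrArg _ hsz).trans (smul_zero _))
  refine ⟨L, JJ, Submodule.fg_span (G.finite_toSet.image m), ?_, Finset.sup_le hJle, ?_, ?_⟩
  · exact Finset.sup_induction Submodule.fg_bot (fun _ h₁ _ h₂ => Submodule.FG.sup h₁ h₂) hJfg
  · intro y hy
    refine Submodule.span_induction ?_ ⟨1, hone, 1, T.one_mem, ?_⟩ ?_ ?_ hy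
    · rintro _ ⟨z, hz, rfl⟩
      exact ⟨cc z, hcc z hz, ss z, hss z hz,
        Submodule.smul_mono_left (Ideal.map_mono (Finset.le_sup hz)) (hJmem z hz)⟩
    · rw [smul_zero, smul_zero]
      exact zero_mem _
    · rintro x y - - ⟨a, ha, s, hs, hx⟩ ⟨b, hb, t, ht, hy⟩
      refine ⟨a * b, fun h => (‹p.IsPrime›.mem_or_mem h).elim ha hb, s * t, T.mul_mem hs ht, ?_⟩
      have h1 := Submodule.smul_mem _ (algebraMap A B b * t) hx
      have h2 := Submodule.smul_mem _ (algebraMap A B a * s) hy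
      convert add_mem h1 h2 using 1
      rw [map_mul]
      simp only [smul_add, smul_smul]
      congr 2 <;> ring
    · rintro b x - ⟨a, ha, s, hs, hx⟩
      refine ⟨a, ha, s, hs, ?_⟩
      convert Submodule.smul_mem _ b hx using 1
      simp only [smul_smul]
      congr 1
      ring
  · intro s hs x hx
    obtain ⟨r, hr, n, hn⟩ := FibreMod.exists_smul_eq (S := B) (M ⧸ L) p x
    refine FibreMod.eq_zero_of_smul_eq_zero (S := B) (M ⧸ L) p hr ?_
    rw [hn]
    obtain ⟨w, rfl⟩ := Submodule.mkQ_surjective L n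
    have h0 : FlatCA.toFiberMod p B (M ⧸ L) (s • L.mkQ w) = 0 := by
      rw [map_smul, ← hn]
      exact (smul_comm s (algebraMap A B r) (x : Bk ⊗[B] (M ⧸ L))).trans ((congrArg _ hx).trans (smul_zero _))
    obtain ⟨r', hr', hmem'⟩ := FibreMod.exists_smul_mem (M ⧸ L) p h0
    have hpN : FibreMod.pN (S := B) (M ⧸ L) p = (FibreMod.pN (S := B) M p).map L.mkQ := by
      rw [FibreMod.pN, FibreMod.pN, Submodule.map_smul'', Submodule.map_top, Submodule.range_mkQ]
    rw [hpN] at hmem'
    obtain ⟨y, hy, hyeq⟩ := hmem'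
    have hL : algebraMap A B r' • s • w - y ∈ L := by
      rw [← Submodule.Quotient.mk_eq_zero, Submodule.Quotient.mk_sub, sub_eq_zero]
      exact hyeq.symm
    have h1 := hzero _ hL
    rw [map_sub, FibreMod.toFiberMod_eq_zero_of_mem M p hy, sub_zero, map_smul, map_smul] at h1
    obtain ⟨t, ht, h2⟩ := h1
    have h4 : (FlatCA.toFiberMod p B M w : Mk) ∈ Z := by
      refine ⟨t * s, T.mul_mem ht hs, ?_⟩
      have h3 : t • s • FlatCA.toFiberMod p B M w = 0 := by
        refine FibreMod.eq_zero_of_smul_eq_zero (S := B) M p hr' ?_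
        exact (smul_comm (algebraMap A B r') t ((s • FlatCA.toFiberMod p B M w : FlatCA.fiberMod p B M) : Mk)).trans h2
      exact (mul_smul t s ((FlatCA.toFiberMod p B M w : FlatCA.fiberMod p B M) : Mk)).trans h3
    rw [← hG] at h4
    have hker : Submodule.span Bk (G : Set Mk) ≤ LinearMap.ker (L.mkQ.baseChange Bk) := by
      refine Submodule.span_le.mpr fun z hz => ?_
      have h5 : algebraMap A B (c z) • L.mkQ.baseChange Bk z = 0 := by
        rw [← LinearMap.map_smul_of_tower]
        refine (congrArg (L.mkQ.baseChange Bk) (hm z)).trans ?_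
        show L.mkQ.baseChange Bk ((1 : Bk) ⊗ₜ[B] m z) = 0
        rw [LinearMap.baseChange_tmul, Submodule.mkQ_apply,
          (Submodule.Quotient.mk_eq_zero L).mpr (Submodule.subset_span ⟨z, hz, rfl⟩), tmul_zero]
      exact FibreMod.eq_zero_of_smul_eq_zero (S := B) (M ⧸ L) p (hc z) (x := L.mkQ.baseChange Bk z) h5
    exact hker h4

/-- Over a field, some stage is projective at the closed point. -/
theorem exists_stage_projective_of_isField {ι : Type u} [Preorder ι] (G : ι → Type u) [∀ i, CommRing (G i)]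
    (g : ∀ i j, i ≤ j → G i →+* G j) {A : Type u} [CommRing A] [∀ i, Algebra (G i) A]
    (hcolim : FlatCA.IsDirectedColimitRing G g A) (hA : IsField A) [(⊥ : Ideal A).IsPrime]
    {R₁ B₁ : Type u} [CommRing R₁] [IsNoetherianRing R₁] [Algebra.FiniteType ℤ R₁] [Algebra R₁ A]
    [∀ i, Algebra R₁ (G i)] [∀ i, IsScalarTower R₁ (G i) A]
    (hgR : ∀ i j (h : i ≤ j), (g i j h).comp (algebraMap R₁ (G i)) = algebraMap R₁ (G j))
    [CommRing B₁] [Algebra R₁ B₁] [Algebra.FinitePresentation R₁ B₁]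
    (N₁ : Type u) [AddCommGroup N₁] [Module B₁ N₁] [Module R₁ N₁] [IsScalarTower R₁ B₁ N₁]
    [Module.FinitePresentation B₁ N₁] :
    (∀ i (x : G i), algebraMap (G i) A x ≠ 0 → IsUnit x) →
    ∃ j : ι, Module.Projective (G j) (G j ⊗[R₁] N₁) := by
  intro hloc
  haveI : Module.Projective A (A ⊗[R₁] N₁) := by
    letI : Field A := hA.toField
    exact Module.Projective.of_free
  haveI : Module.Projective (Localization.AtPrime (⊥ : Ideal A)) (Localization.AtPrime (⊥ : Ideal A) ⊗[R₁] N₁) :=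
    Module.Projective.of_equiv (AlgebraTensorModule.cancelBaseChange R₁ A (Localization.AtPrime (⊥ : Ideal A))
      (Localization.AtPrime (⊥ : Ideal A)) N₁)
  obtain ⟨j, hj⟩ := exists_stage_projective G g hcolim (B₁ := B₁) hgR N₁ (⊥ : Ideal A)
  let q : Ideal (G j) := (⊥ : Ideal A).comap (algebraMap (G j) A)
  haveI : Module.Projective (Localization.AtPrime q) (Localization.AtPrime q ⊗[R₁] N₁) := hj
  have hunit : ∀ x : q.primeCompl, IsUnit (RingHom.id (G j) x) := fun x => hloc j x x.2
  letI : Algebra (Localization.AtPrime q) (G j) :=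
    (IsLocalization.lift (M := q.primeCompl) (S := Localization.AtPrime q) (g := RingHom.id (G j)) hunit).toAlgebra
  haveI : IsScalarTower R₁ (Localization.AtPrime q) (G j) :=
    IsScalarTower.of_algebraMap_eq (R := R₁) (S := Localization.AtPrime q) (A := G j) fun x => by
      rw [IsScalarTower.algebraMap_apply R₁ (G j) (Localization.AtPrime q)]
      exact (IsLocalization.lift_eq hunit _).symm
  exact ⟨j, Module.Projective.of_equiv
    (AlgebraTensorModule.cancelBaseChange R₁ (Localization.AtPrime q) (G j) (G j) N₁)⟩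

/-- The projectivity over some `A_p/I`. -/
theorem exists_ideal_projective {A B : Type u} [CommRing A] [CommRing B] [Algebra A B] [Algebra.FinitePresentation A B]
    (N : Type u) [AddCommGroup N] [Module B N] [Module A N] [IsScalarTower A B N] [Module.FinitePresentation B N]
    (p : Ideal A) [p.IsPrime] (I₀ : Ideal (Localization.AtPrime p)) (hI₀ : I₀.FG)
    (hle : I₀ ≤ IsLocalRing.maximalIdeal (Localization.AtPrime p)) :
    ∃ I : Ideal (Localization.AtPrime p), I.FG ∧ I₀ ≤ I ∧ I ≤ IsLocalRing.maximalIdeal (Localization.AtPrime p) ∧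
      Module.Projective (Localization.AtPrime p ⧸ I) ((Localization.AtPrime p ⧸ I) ⊗[A] N) := by
  classical
  let P := Localization.AtPrime p
  let mP := IsLocalRing.maximalIdeal P
  obtain ⟨R₁, B₁, N₁, _, _, _, _, _, _, _, _, g₁, hR₁, hft, hpo, hN₁, hg₁⟩ := exists_module_model A B N
  haveI := hft
  haveI := hpo
  haveI := hN₁
  haveI : IsNoetherianRing R₁ := isNoetherianRing_of_fg hR₁
  haveI : Algebra.FinitePresentation R₁ B₁ := Algebra.FinitePresentation.of_finiteType.mp inferInstance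
  haveI : IsNoetherianRing B₁ := Algebra.FiniteType.isNoetherianRing R₁ B₁
  haveI : Module.FinitePresentation B₁ N₁ := Module.finitePresentation_of_finite B₁ N₁
  letI : Module R₁ N₁ := Module.compHom N₁ (algebraMap R₁ B₁)
  haveI : IsScalarTower R₁ B₁ N₁ := IsScalarTower.of_algebraMap_smul fun _ _ => rfl
  haveI : Algebra.FiniteType ℤ R₁ := R₁.fg_iff_finiteType.mp hR₁
  let eA : N ≃ₗ[A] A ⊗[R₁] N₁ :=
    (hg₁.equiv.symm.restrictScalars A).trans (Algebra.IsPushout.cancelBaseChange R₁ A B₁ B N₁)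
  let Ix := {I : Ideal P // I.FG ∧ I₀ ≤ I ∧ I ≤ mP}
  let K := P ⧸ mP
  haveI hKp : (⊥ : Ideal K).IsPrime := by
    rw [← Ideal.map_quotient_self mP]
    exact Ideal.map_isPrime_of_surjective Ideal.Quotient.mk_surjective (by rw [Ideal.mk_ker])
  letI : ∀ I : Ix, Algebra (P ⧸ I.1) K := fun I => (Ideal.Quotient.factor I.2.2.2).toAlgebra
  haveI : ∀ I : Ix, IsScalarTower R₁ (P ⧸ I.1) K := fun I =>
    IsScalarTower.of_algebraMap_eq (R := R₁) (S := P ⧸ I.1) (A := K) fun x => rfl
  have hcolim : FlatCA.IsDirectedColimitRing (fun I : Ix => P ⧸ I.1) (fun I J h => Ideal.Quotient.factor h) K := by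
    refine ⟨⟨fun I J => ⟨⟨I.1 ⊔ J.1, Submodule.FG.sup I.2.1 J.2.1, I.2.2.1.trans le_sup_left, sup_le I.2.2.2 J.2.2.2⟩,
      le_sup_left (a := I.1) (b := J.1), le_sup_right (a := I.1) (b := J.1)⟩⟩, ⟨⟨I₀, hI₀, le_rfl, hle⟩⟩,
      fun I => ?_, fun I J L hij hjl => ?_, fun I J h => ?_, fun a => ?_, fun I x hx => ?_⟩
    · exact Ideal.Quotient.ringHom_ext (RingHom.ext fun _ => rfl)
    · exact Ideal.Quotient.ringHom_ext (RingHom.ext fun _ => rfl)
    · exact Ideal.Quotient.ringHom_ext (RingHom.ext fun _ => rfl)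
    · obtain ⟨a, rfl⟩ := Ideal.Quotient.mk_surjective a
      exact ⟨⟨I₀, hI₀, le_rfl, hle⟩, Ideal.Quotient.mk I₀ a, rfl⟩
    · obtain ⟨x, rfl⟩ := Ideal.Quotient.mk_surjective x
      have hxm : x ∈ mP := Ideal.Quotient.eq_zero_iff_mem.mp hx
      refine ⟨⟨I.1 ⊔ Ideal.span {x}, Submodule.FG.sup I.2.1 (Submodule.fg_span_singleton x), I.2.2.1.trans le_sup_left,
        sup_le I.2.2.2 ((Ideal.span_singleton_le_iff_mem _).mpr hxm)⟩, le_sup_left (a := I.1), ?_⟩
      exact Ideal.Quotient.eq_zero_iff_mem.mpr (Ideal.mem_sup_right (Ideal.mem_span_singleton_self x))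
  obtain ⟨I, hI⟩ := exists_stage_projective_of_isField (fun I : Ix => P ⧸ I.1)
    (fun I J h => Ideal.Quotient.factor h) hcolim ((Ideal.Quotient.maximal_ideal_iff_isField_quotient mP).mp inferInstance)
    (R₁ := R₁) (B₁ := B₁) (fun I J h => RingHom.ext fun x => rfl) N₁ fun I x hx => by
      obtain ⟨y, rfl⟩ := Ideal.Quotient.mk_surjective x
      exact (IsLocalRing.notMem_maximalIdeal.mp fun hym => hx (Ideal.Quotient.eq_zero_iff_mem.mpr hym)).map _
  refine ⟨I.1, I.2.1, I.2.2.1, I.2.2.2, ?_⟩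
  let R := P ⧸ I.1
  haveI : Module.Projective R (R ⊗[R₁] N₁) := hI
  exact Module.Projective.of_equiv ((AlgebraTensorModule.congr (LinearEquiv.refl R R) eA).trans
    (AlgebraTensorModule.cancelBaseChange R₁ A R R N₁)).symm

/-- Non zero divisors on the fibre over `p` stay so on the closed fibre over `A_p/I`. -/
theorem fibre_nzd {A B B₁ : Type u} [CommRing A] [CommRing B] [CommRing B₁] [Algebra A B]
    (p : Ideal A) [p.IsPrime] (I : Ideal (Localization.AtPrime p))
    (hI : I ≤ IsLocalRing.maximalIdeal (Localization.AtPrime p)) [IsLocalRing (Localization.AtPrime p ⧸ I)]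
    [Algebra B B₁] [Algebra (Localization.AtPrime p ⧸ I) B₁] [Algebra A B₁]
    [IsScalarTower A B B₁] [IsScalarTower A (Localization.AtPrime p ⧸ I) B₁]
    [Algebra.IsPushout A (Localization.AtPrime p ⧸ I) B B₁]
    (N : Type u) [AddCommGroup N] [Module B N] [Module A N] [IsScalarTower A B N]
    (s : B) (hs : ∀ z : FlatCA.fiberMod p B N, s • z = 0 → z = 0)
    (x : FlatCA.fiberMod (IsLocalRing.maximalIdeal (Localization.AtPrime p ⧸ I)) B₁ (B₁ ⊗[B] N))
    (hx : algebraMap B B₁ s • x = 0) : x = 0 := by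
  let P := Localization.AtPrime p
  let R := P ⧸ I
  let mR := IsLocalRing.maximalIdeal R
  let e : B₁ ⊗[B] N ≃ₗ[R] R ⊗[A] N := Algebra.IsPushout.cancelBaseChange A R B B₁ N
  have hcu : ∀ a : A, a ∉ p → IsUnit (algebraMap A R a) := fun a ha => by
    rw [IsScalarTower.algebraMap_apply A P R]
    exact (IsLocalization.map_units P (⟨a, ha⟩ : p.primeCompl)).map _
  have hm : mR = (IsLocalRing.maximalIdeal P).map (Ideal.Quotient.mk I) := by
    haveI : IsLocalHom (Ideal.Quotient.mk I) := IsLocalHom.of_surjective _ Ideal.Quotient.mk_surjective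
    rw [← IsLocalRing.maximalIdeal_comap (Ideal.Quotient.mk I),
      Ideal.map_comap_of_surjective _ Ideal.Quotient.mk_surjective]
  -- clear denominators
  have hden : ∀ y : R ⊗[A] N, ∃ c ∉ p, ∃ n : N, c • y = 1 ⊗ₜ[A] n := fun y => by
    induction y using TensorProduct.induction_on with
    | zero => exact ⟨1, fun h => ‹p.IsPrime›.ne_top ((Ideal.eq_top_iff_one _).2 h), 0, by rw [smul_zero, tmul_zero]⟩
    | tmul r n =>
      obtain ⟨r, rfl⟩ := Ideal.Quotient.mk_surjective r
      obtain ⟨⟨a, c⟩, hac⟩ := IsLocalization.surj p.primeCompl r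
      refine ⟨c, c.2, a • n, ?_⟩
      rw [TensorProduct.smul_tmul', ← TensorProduct.smul_tmul]
      congr 1
      rw [← algebraMap_smul R (c : A) (Ideal.Quotient.mk I r), ← algebraMap_smul R a (1 : R), smul_eq_mul, smul_eq_mul,
        mul_one, IsScalarTower.algebraMap_apply A P R,
        IsScalarTower.algebraMap_apply A P R, Ideal.Quotient.algebraMap_eq, ← map_mul, mul_comm, hac]
    | add y z hy hz =>
      obtain ⟨c, hc, n, hn⟩ := hy
      obtain ⟨d, hd, n', hn'⟩ := hz
      refine ⟨c * d, fun h => (‹p.IsPrime›.mem_or_mem h).elim hc hd, d • n + c • n', ?_⟩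
      rw [tmul_add, tmul_smul, tmul_smul, ← hn, ← hn', smul_add, smul_smul, smul_smul, mul_comm d c]
  -- the map to the fibre over `p`
  let φ : R →+* p.ResidueField := Ideal.Quotient.lift I (IsLocalRing.residue P) fun a ha =>
    Ideal.Quotient.eq_zero_iff_mem.mpr (hI ha)
  have hφA : ∀ a : A, φ (algebraMap A R a) = algebraMap A p.ResidueField a := fun a => by
    rw [IsScalarTower.algebraMap_apply A P R, IsScalarTower.algebraMap_apply A P p.ResidueField]
    rfl
  let κ := algebraMap p.ResidueField (p.Fiber B)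
  let F : R ⊗[A] N →+ (p.Fiber B) ⊗[B] N := TensorProduct.liftAddHom
    { toFun := fun r => (AddMonoidHom.mk' (fun n => κ (φ r) ⊗ₜ[B] n) (tmul_add _))
      map_zero' := AddMonoidHom.ext fun n => by simp
      map_add' := fun r r' => AddMonoidHom.ext fun n => by simp [add_tmul] }
    fun a r n => by
      show κ (φ (a • r)) ⊗ₜ[B] n = κ (φ r) ⊗ₜ[B] (a • n)
      rw [← algebraMap_smul B a n, ← TensorProduct.smul_tmul, ← algebraMap_smul R a r, smul_eq_mul, Algebra.smul_def,
        map_mul, map_mul, hφA, ← IsScalarTower.algebraMap_apply, ← IsScalarTower.algebraMap_apply]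
  have hFsmul : ∀ a ∈ mR, ∀ y, F (a • y) = 0 := fun a ha y => by
    have hφa : φ a = 0 := by
      rw [hm] at ha
      obtain ⟨a, ha', rfl⟩ := (Ideal.mem_map_iff_of_surjective _ Ideal.Quotient.mk_surjective).mp ha
      exact Ideal.Quotient.eq_zero_iff_mem.mpr ha'
    induction y using TensorProduct.induction_on with
    | zero => rw [smul_zero, map_zero]
    | tmul r n =>
      rw [TensorProduct.smul_tmul', smul_eq_mul]
      show κ (φ (a * r)) ⊗ₜ[B] n = 0
      rw [map_mul, hφa, zero_mul, map_zero, zero_tmul]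
    | add y z hy hz => rw [smul_add, map_add, hy, hz, add_zero]
  obtain ⟨r, hr, n, hn⟩ := FibreMod.exists_smul_eq (S := B₁) (B₁ ⊗[B] N) mR x
  refine FibreMod.eq_zero_of_smul_eq_zero (S := B₁) (B₁ ⊗[B] N) mR hr ?_
  rw [hn]
  obtain ⟨c, hc, n₀, hn₀⟩ := hden (e n)
  have hcn : algebraMap A R c • n = (1 : B₁) ⊗ₜ[B] n₀ := e.injective (by
    rw [map_smul, algebraMap_smul, hn₀, Algebra.IsPushout.cancelBaseChange_tmul])
  have hcR : algebraMap A R c ∉ mR := IsLocalRing.notMem_maximalIdeal.mpr (hcu c hc)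
  refine FibreMod.eq_zero_of_smul_eq_zero (S := B₁) (B₁ ⊗[B] N) mR hcR ?_
  rw [← map_smul, algebraMap_smul, hcn]
  have h0 : FlatCA.toFiberMod mR B₁ (B₁ ⊗[B] N) ((1 : B₁) ⊗ₜ[B] (s • n₀)) = 0 := by
    rw [tmul_smul, ← algebraMap_smul B₁ s ((1 : B₁) ⊗ₜ[B] n₀), map_smul, ← hcn,
      ← algebraMap_smul B₁ (algebraMap A R c) n, map_smul, ← hn]
    rw [smul_comm, smul_comm (algebraMap B B₁ s)]
    exact (congrArg _ ((congrArg _ hx).trans (smul_zero _))).trans (smul_zero _)
  obtain ⟨r', hr', hmem⟩ := FibreMod.exists_smul_mem (B₁ ⊗[B] N) mR h0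
  have heq : (FibreMod.pN (S := B₁) (B₁ ⊗[B] N) mR).restrictScalars R = mR • (⊤ : Submodule R (B₁ ⊗[B] N)) := by
    rw [FibreMod.pN, Submodule.restrictScalars_map_smul_eq, Submodule.restrictScalars_top]
  rw [← Submodule.restrictScalars_mem R, heq, algebraMap_smul] at hmem
  have hmem' : (1 : B₁) ⊗ₜ[B] (s • n₀) ∈ mR • (⊤ : Submodule R (B₁ ⊗[B] N)) := by
    have hu := IsLocalRing.notMem_maximalIdeal.mp hr'
    simpa [smul_smul, hu.val_inv_mul] using Submodule.smul_mem _ (↑hu.unit⁻¹ : R) hmem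
  have hF0 : F (e ((1 : B₁) ⊗ₜ[B] (s • n₀))) = 0 := by
    refine Submodule.smul_induction_on hmem' (fun a ha y _ => ?_) fun y z hy hz => ?_
    · rw [map_smul]
      exact hFsmul a ha _
    · rw [map_add, map_add, hy, hz, add_zero]
  rw [Algebra.IsPushout.cancelBaseChange_tmul] at hF0
  have hzero : FlatCA.toFiberMod p B N (s • n₀) = 0 := by
    refine Eq.trans ?_ hF0
    show (1 : p.Fiber B) ⊗ₜ[B] (s • n₀) = κ (φ 1) ⊗ₜ[B] (s • n₀)
    rw [map_one, map_one]
  rw [map_smul] at hzero
  obtain ⟨c', hc', hmem₀⟩ := FibreMod.exists_smul_mem N p (hs _ hzero)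
  refine FibreMod.eq_zero_of_smul_eq_zero (S := B₁) (B₁ ⊗[B] N) mR
    (IsLocalRing.notMem_maximalIdeal.mpr (hcu c' hc') : algebraMap A R c' ∉ mR) ?_
  rw [← IsScalarTower.algebraMap_apply, ← map_smul, IsScalarTower.algebraMap_apply A B B₁, algebraMap_smul,
    ← tmul_smul]
  refine FibreMod.toFiberMod_eq_zero_of_mem _ _ ?_
  refine Submodule.smul_induction_on hmem₀ (fun b hb m _ => ?_) fun y z hy hz => ?_
  · rw [tmul_smul, ← algebraMap_smul B₁ b ((1 : B₁) ⊗ₜ[B] m)]
    refine Submodule.smul_mem_smul ?_ Submodule.mem_top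
    have hb' := Ideal.mem_map_of_mem (algebraMap B B₁) hb
    rw [Ideal.map_map, ← IsScalarTower.algebraMap_eq, IsScalarTower.algebraMap_eq A R B₁, ← Ideal.map_map] at hb'
    refine Ideal.map_mono ?_ hb'
    rw [Ideal.map_le_iff_le_comap]
    intro a ha
    rw [Ideal.mem_comap, hm, IsScalarTower.algebraMap_apply A P R]
    refine Ideal.mem_map_of_mem _ ?_
    exact IsLocalization.AtPrime.to_map_mem_maximal_iff P p a |>.mpr ha
  · rw [tmul_add]
    exact add_mem hy hz

/-- A base change over a pushout square. -/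
theorem isBaseChange_of_pushout {A R S S' : Type u} [CommRing A] [CommRing R] [CommRing S] [CommRing S']
    [Algebra A R] [Algebra A S] [Algebra R S'] [Algebra S S'] [Algebra A S'] [IsScalarTower A R S'] [IsScalarTower A S S']
    [Algebra.IsPushout A R S S'] {N N' : Type u} [AddCommGroup N] [Module S N] [Module A N] [IsScalarTower A S N]
    [AddCommGroup N'] [Module S' N'] [Module S N'] [IsScalarTower S S' N'] [Module R N'] [IsScalarTower R S' N']
    [Module A N'] [IsScalarTower A R N'] [IsScalarTower A S N'] (h : N →ₗ[S] N')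
    (hb : IsBaseChange R (h.restrictScalars A)) : IsBaseChange S' h := by
  let c : S' ⊗[S] N ≃ₗ[R] R ⊗[A] N := Algebra.IsPushout.cancelBaseChange A R S S' N
  let L : S' ⊗[S] N →ₗ[S'] N' := LinearMap.liftBaseChange S' h
  have key : (L.restrictScalars R) ∘ₗ c.symm.toLinearMap = hb.equiv.toLinearMap := by
    ext n
    show L (c.symm ((1 : R) ⊗ₜ[A] n)) = hb.equiv ((1 : R) ⊗ₜ[A] n)
    rw [Algebra.IsPushout.cancelBaseChange_symm_tmul, map_one, LinearMap.liftBaseChange_tmul, one_smul,
      IsBaseChange.equiv_tmul, one_smul]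
    rfl
  have hbij : Function.Bijective L := by
    have : (L : S' ⊗[S] N → N') = hb.equiv ∘ c := funext fun x => by
      have := LinearMap.congr_fun key (c x)
      simpa using this
    rw [this]
    exact hb.equiv.bijective.comp c.bijective
  exact IsBaseChange.of_equiv (LinearEquiv.ofBijective L hbij) fun n => by
    show L ((1 : S') ⊗ₜ[S] n) = h n
    rw [LinearMap.liftBaseChange_tmul, one_smul]


/-- The base change of the quotient model. -/
theorem exists_baseChange_quotient {A B R B₁ TB TB₁ M N N₁ : Type u} [CommRing A] [CommRing B] [CommRing R]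
    [CommRing B₁] [CommRing TB] [CommRing TB₁] [Algebra A B] [Algebra A R] [Algebra B B₁] [Algebra R B₁] [Algebra A B₁]
    [IsScalarTower A B B₁] [IsScalarTower A R B₁] [Algebra.IsPushout A R B B₁]
    (T : Submonoid B) [Algebra B TB] [IsLocalization T TB] [Algebra A TB] [IsScalarTower A B TB]
    [Algebra B₁ TB₁] [IsLocalization (T.map (algebraMap B B₁)) TB₁]
    [Algebra B TB₁] [IsScalarTower B B₁ TB₁] [Algebra R TB₁] [IsScalarTower R B₁ TB₁] [Algebra A TB₁]
    [IsScalarTower A B₁ TB₁] [IsScalarTower A B TB₁]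
    [AddCommGroup M] [Module B M] [Module A M] [IsScalarTower A B M]
    [AddCommGroup N] [Module TB N] [Module B N] [Module A N] [IsScalarTower B TB N] [IsScalarTower A TB N]
    [IsScalarTower A B N] (ι : M →ₗ[B] N) [hι : IsLocalizedModule T ι]
    [AddCommGroup N₁] [Module TB₁ N₁] [Module B₁ N₁] [IsScalarTower B₁ TB₁ N₁] [Module R N₁] [IsScalarTower R TB₁ N₁]
    [IsScalarTower R B₁ N₁] [Module B N₁] [IsScalarTower B TB₁ N₁] [IsScalarTower B B₁ N₁] [Module A N₁]
    [IsScalarTower A R N₁] [IsScalarTower A B N₁] (h : N →ₗ[B] N₁) (hbc : IsBaseChange R (h.restrictScalars A))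
    (p : Ideal A) (L : Submodule B M) (J : Ideal A)
    (hkill : ∀ m ∈ L, ∃ c ∉ p, ∃ s ∈ T, algebraMap A B c • s • m ∈ J.map (algebraMap A B) • (⊤ : Submodule B M))
    (hJR : ∀ a ∈ J, algebraMap A R a = 0) (hcR : ∀ c : A, c ∉ p → IsUnit (algebraMap A R c)) :
    ∃ g : B₁ ⊗[B] (M ⧸ L) →ₗ[B₁] N₁, IsBaseChange TB₁ g := by
  let T₁ := T.map (algebraMap B B₁)
  let N₀ := M ⧸ L
  -- `TB → TB₁`
  have hu : ∀ s : T, IsUnit (algebraMap B TB₁ s) := fun s => by
    rw [IsScalarTower.algebraMap_apply B B₁ TB₁]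
    exact IsLocalization.map_units TB₁ (⟨_, Submonoid.mem_map_of_mem _ s.2⟩ : T₁)
  letI : Algebra TB TB₁ := (IsLocalization.lift (M := T) (S := TB) (g := algebraMap B TB₁) hu).toAlgebra
  haveI : IsScalarTower B TB TB₁ := IsScalarTower.of_algebraMap_eq fun x => (IsLocalization.lift_eq hu x).symm
  letI : Module TB N₁ := Module.compHom N₁ (algebraMap TB TB₁)
  haveI : IsScalarTower TB TB₁ N₁ := IsScalarTower.of_algebraMap_smul fun _ _ => rfl
  haveI : IsScalarTower B TB N₁ := IsScalarTower.of_algebraMap_smul fun b v => by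
    rw [← algebraMap_smul TB₁ (algebraMap B TB b) v, ← IsScalarTower.algebraMap_apply, algebraMap_smul]
  haveI : IsScalarTower A TB N₁ := IsScalarTower.of_algebraMap_smul fun a v => by
    rw [IsScalarTower.algebraMap_apply A B TB, algebraMap_smul, algebraMap_smul]
  haveI : IsScalarTower A TB TB₁ := IsScalarTower.of_algebraMap_eq fun a => by
    rw [IsScalarTower.algebraMap_apply A B TB, ← IsScalarTower.algebraMap_apply B TB TB₁,
      ← IsScalarTower.algebraMap_apply]
  haveI : IsLocalization (Algebra.algebraMapSubmonoid B₁ T) TB₁ := inferInstanceAs (IsLocalization T₁ TB₁)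
  haveI : Algebra.IsPushout B B₁ TB TB₁ := Algebra.isPushout_of_isLocalization T TB B₁ TB₁
  haveI : Algebra.IsPushout B TB B₁ TB₁ := Algebra.IsPushout.symm inferInstance
  haveI : Algebra.IsPushout A B R B₁ := Algebra.IsPushout.symm inferInstance
  haveI : IsScalarTower A R TB₁ := IsScalarTower.of_algebraMap_eq fun a =>
    (IsScalarTower.algebraMap_apply A B₁ TB₁ a).trans ((congrArg (algebraMap B₁ TB₁)
      (IsScalarTower.algebraMap_apply A R B₁ a)).trans (IsScalarTower.algebraMap_apply R B₁ TB₁ _).symm)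
  haveI : Algebra.IsPushout A TB R TB₁ := by
    exact (Algebra.IsPushout.comp_iff A B R B₁ (T := TB) (T' := TB₁)).mpr inferInstance
  haveI : Algebra.IsPushout A R TB TB₁ := Algebra.IsPushout.symm inferInstance
  obtain ⟨hTB, hTBh⟩ : ∃ k : N →ₗ[TB] N₁, ∀ x, k x = h x :=
    ⟨LinearMap.extendScalarsOfIsLocalization T TB h, fun _ => rfl⟩
  have hhTB : IsBaseChange TB₁ hTB := isBaseChange_of_pushout (A := A) (R := R) hTB (by
    rw [show hTB.restrictScalars A = h.restrictScalars A from LinearMap.ext hTBh]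
    exact hbc)
  have hιbc : IsBaseChange TB ι := (isLocalizedModule_iff_isBaseChange T TB ι).mp hι
  let f : M →ₗ[B] N₁ := h.comp ι
  have hf : IsBaseChange TB₁ f := by
    rw [show f = (hTB.restrictScalars B).comp ι from LinearMap.ext fun x => (hTBh (ι x)).symm]
    exact IsBaseChange.comp (R := B) (S := TB) (T := TB₁) hιbc hhTB
  -- the descent to `N₀`
  have hIkill : ∀ a ∈ J, ∀ v : N₁, algebraMap A B a • v = 0 := fun a ha v => by
    rw [algebraMap_smul, ← algebraMap_smul R a v,
      hJR a ha, zero_smul]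
  have hker : L ≤ LinearMap.ker f := fun m hm => by
    obtain ⟨c, hc, s, hs, hmem⟩ := hkill m hm
    have h0 : f (algebraMap A B c • s • m) = 0 := by
      refine Submodule.smul_induction_on hmem (fun b hb y _ => ?_) fun y z hy hz => by rw [map_add, hy, hz, add_zero]
      rw [map_smul]
      refine Submodule.span_induction ?_ (zero_smul _ _) (fun y z _ _ hy hz => by rw [add_smul, hy, hz, add_zero])
        (fun d y _ hy => by rw [smul_eq_mul, mul_smul, hy, smul_zero]) hb
      rintro _ ⟨a, ha, rfl⟩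
      exact hIkill a ha _
    rw [map_smul, map_smul, algebraMap_smul, ← algebraMap_smul R c (s • f m)] at h0
    have h1 : s • f m = 0 := (hcR c hc).smul_eq_zero.mp h0
    rw [← algebraMap_smul TB₁ s (f m)] at h1
    exact (hu ⟨s, hs⟩).smul_eq_zero.mp h1
  let g₀ : N₀ →ₗ[B] N₁ := L.liftQ f hker
  have hg₀ : IsBaseChange TB₁ g₀ := by
    let Q : TB₁ ⊗[B] M →ₗ[TB₁] TB₁ ⊗[B] N₀ := L.mkQ.baseChange TB₁
    have hQ : Function.Surjective Q := LinearMap.lTensor_surjective TB₁ L.mkQ_surjective
    let G : TB₁ ⊗[B] N₀ →ₗ[TB₁] N₁ := LinearMap.liftBaseChange TB₁ g₀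
    have hcomp : G.comp Q = hf.equiv.toLinearMap := by
      ext m
      show G ((1 : TB₁) ⊗ₜ[B] L.mkQ m) = hf.equiv ((1 : TB₁) ⊗ₜ[B] m)
      rw [LinearMap.liftBaseChange_tmul, IsBaseChange.equiv_tmul]
      rfl
    have hbij : Function.Bijective G := by
      have hb : Function.Bijective (G ∘ Q) := by
        rw [← LinearMap.coe_comp, hcomp]
        exact hf.equiv.bijective
      refine ⟨fun x y hxy => ?_, hb.surjective.of_comp⟩
      obtain ⟨x, rfl⟩ := hQ x
      obtain ⟨y, rfl⟩ := hQ y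
      rw [hb.injective hxy]
    exact IsBaseChange.of_equiv (LinearEquiv.ofBijective G hbij) fun n => by
      show G ((1 : TB₁) ⊗ₜ[B] n) = g₀ n
      rw [LinearMap.liftBaseChange_tmul, one_smul]
  let g : B₁ ⊗[B] N₀ →ₗ[B₁] N₁ := LinearMap.liftBaseChange B₁ g₀
  have hg : IsBaseChange TB₁ g := by
    refine IsBaseChange.of_comp (f := TensorProduct.mk B B₁ N₀ 1) (TensorProduct.isBaseChange B N₀ B₁) ?_
    have : g.restrictScalars B ∘ₗ TensorProduct.mk B B₁ N₀ 1 = g₀ := LinearMap.ext fun x => by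
      show g ((1 : B₁) ⊗ₜ x) = g₀ x
      rw [LinearMap.liftBaseChange_tmul, one_smul]
    rw [this]
    exact hg₀
  exact ⟨g, hg⟩

/-- The localized model is a universally injective extension. -/
theorem univInj_mk {A B B₁ TB₁ : Type u} [CommRing A] [CommRing B] [CommRing B₁] [CommRing TB₁] [Algebra A B]
    [Algebra.FiniteType A B] {T : Submonoid B} (p : Ideal A) [p.IsPrime] (I : Ideal (Localization.AtPrime p))
    (hI : I ≤ IsLocalRing.maximalIdeal (Localization.AtPrime p)) [IsLocalRing (Localization.AtPrime p ⧸ I)]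
    [Algebra B B₁] [Algebra (Localization.AtPrime p ⧸ I) B₁] [Algebra A B₁]
    [IsScalarTower A B B₁] [IsScalarTower A (Localization.AtPrime p ⧸ I) B₁]
    [Algebra.IsPushout A (Localization.AtPrime p ⧸ I) B B₁]
    [Algebra B₁ TB₁] [IsLocalization (T.map (algebraMap B B₁)) TB₁] [Algebra (Localization.AtPrime p ⧸ I) TB₁]
    [IsScalarTower (Localization.AtPrime p ⧸ I) B₁ TB₁]
    (N : Type u) [AddCommGroup N] [Module B N] [Module A N] [IsScalarTower A B N] [Module.Finite B N]
    (hs : ∀ s ∈ T, ∀ z : FlatCA.fiberMod p B N, s • z = 0 → z = 0)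
    [Module.Projective (Localization.AtPrime p ⧸ I) (B₁ ⊗[B] N)] :
    FlatCA.UnivInj (Localization.AtPrime p ⧸ I)
      ((TensorProduct.mk B₁ TB₁ (B₁ ⊗[B] N) 1).restrictScalars (Localization.AtPrime p ⧸ I)) := by
  let P := Localization.AtPrime p
  let R := P ⧸ I
  let mR := IsLocalRing.maximalIdeal R
  let T₁ := T.map (algebraMap B B₁)
  haveI : Module.Flat B₁ TB₁ := IsLocalization.flat TB₁ T₁
  haveI : Algebra.FiniteType R B₁ := Algebra.FiniteType.equiv (inferInstance : Algebra.FiniteType R (R ⊗[A] B))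
    (Algebra.IsPushout.equiv A R B B₁)
  refine univInj_of_covering (R := R) (S := B₁) (S' := TB₁) (N := B₁ ⊗[B] N) fun t Q _ _ _ hass => ?_
  obtain ⟨Q₂, hQ₂, hle, hQ₂m⟩ := S1219.exists_above t Q hass
  obtain ⟨q, hq, hQq, hqm, hass'⟩ := S1221.result (B₁ ⊗[B] N) mR (fun q _ _ => flatAt_of_flat q) t
    (IsLocalRing.le_maximalIdeal (Ideal.IsPrime.ne_top ‹_›)) Q hass ⟨Q₂, hQ₂, hle, hQ₂m⟩
  haveI := hq
  have hd : Disjoint (T₁ : Set B₁) Q := by
    rw [Set.disjoint_left]
    rintro _ ⟨s, hsT, rfl⟩ hsQ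
    haveI : IsNoetherianRing (mR.Fiber B₁) := Algebra.FiniteType.isNoetherianRing mR.ResidueField _
    obtain ⟨hP, x, hx⟩ := isAssociatedPrime_iff.mp hass'
    have hmem : (Algebra.TensorProduct.includeRight (R := R) (A := mR.ResidueField)
        (algebraMap B B₁ s) : mR.Fiber B₁) ∈ FlatCA.fiberIdeal mR q := Ideal.mem_map_of_mem _ (hQq hsQ)
    rw [hx] at hmem
    have h2 := fibre_nzd p I hI N s (hs s hsT) x
      ((FibreMod.includeRight_smul (B₁ ⊗[B] N) mR (algebraMap B B₁ s) x).symm.trans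
        ((Submodule.mem_bot _).mp (Submodule.mem_colon_singleton.mp hmem)))
    refine hP.ne_top ((Ideal.eq_top_iff_one _).mpr ?_)
    rw [hx]
    exact Submodule.mem_colon_singleton.mpr ((Submodule.mem_bot _).mpr ((congrArg _ h2).trans (smul_zero _)))
  refine ⟨Q.map (algebraMap B₁ TB₁), IsLocalization.isPrime_of_isPrime_disjoint T₁ TB₁ Q ‹_› hd, ?_⟩
  exact IsLocalization.under_map_of_isPrime_disjoint T₁ TB₁ ‹_› hd

open IsLocalRing in
/-- Let B be a finitely presented A-algebra, T ⊆ B a multiplicative subset and N a finitely presented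
T⁻¹B-module. Then for every prime p of A there is a finitely generated ideal I of A_p contained in
its maximal ideal such that, writing A₁ = A_p/I, B₁ = B ⊗_A A₁, T₁ for the image of T in B₁ and N₁
for the base change of N (a T₁⁻¹B₁-module; any models), the base-changed data admits a pure
spreadout over A₁. -/
theorem result {A B : Type u} [CommRing A] [CommRing B] [Algebra A B] [Algebra.FinitePresentation A B]
    (T : Submonoid B) (N : Type u) [AddCommGroup N] [Module (Localization T) N] [Module B N] [Module A N]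
    [IsScalarTower B (Localization T) N] [IsScalarTower A (Localization T) N] [IsScalarTower A B N]
    [Module.FinitePresentation (Localization T) N] (p : Ideal A) [p.IsPrime] :
    ∃ I : Ideal (Localization.AtPrime p), I.FG ∧ I ≤ maximalIdeal (Localization.AtPrime p) ∧
      ∀ (B₁ N₁ : Type u) [CommRing B₁] [Algebra B B₁] [Algebra (Localization.AtPrime p ⧸ I) B₁] [Algebra A B₁]
        [IsScalarTower A B B₁] [IsScalarTower A (Localization.AtPrime p ⧸ I) B₁]
        [Algebra.IsPushout A B (Localization.AtPrime p ⧸ I) B₁]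
        [AddCommGroup N₁] [Module (Localization (T.map (algebraMap B B₁))) N₁] [Module (Localization.AtPrime p ⧸ I) N₁]
        [IsScalarTower (Localization.AtPrime p ⧸ I) (Localization (T.map (algebraMap B B₁))) N₁]
        [Module B N₁] [IsScalarTower B (Localization (T.map (algebraMap B B₁))) N₁]
        [Module A N₁] [IsScalarTower A (Localization.AtPrime p ⧸ I) N₁] [IsScalarTower A B N₁]
        (h : N →ₗ[B] N₁), IsBaseChange (Localization.AtPrime p ⧸ I) (h.restrictScalars A) →
        FlatCA.HasPureSpreadout (Localization.AtPrime p ⧸ I) B₁ (T.map (algebraMap B B₁)) N₁ := by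
  classical
  let P := Localization.AtPrime p
  obtain ⟨M, _, _, ι, hMfp, hι⟩ := FlatOpen.exists_fp_localized (C := B) (A := Localization T) T N
  haveI := hMfp
  letI : Module A M := Module.compHom M (algebraMap A B)
  haveI : IsScalarTower A B M := IsScalarTower.of_algebraMap_smul fun _ _ => rfl
  obtain ⟨L, J, hL, hJ, hJle, hkill, hnzd⟩ := exists_torsionfree_quotient T M p
  let N₀ := M ⧸ L
  haveI : Module.FinitePresentation B N₀ :=
    Module.finitePresentation_of_surjective L.mkQ L.mkQ_surjective (by rw [Submodule.ker_mkQ]; exact hL)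
  have hI₀le : J.map (algebraMap A P) ≤ maximalIdeal P := Ideal.map_le_iff_le_comap.mpr fun a ha =>
    (IsLocalization.AtPrime.to_map_mem_maximal_iff P p a).mpr (hJle ha)
  obtain ⟨I, hI, hI₀, hIm, hproj⟩ := exists_ideal_projective (B := B) N₀ p (J.map (algebraMap A P)) (hJ.map _) hI₀le
  refine ⟨I, hI, hIm, ?_⟩
  intro B₁ N₁ _ _ _ _ _ _ _ _ _ _ _ _ _ _ _ _ h hbc
  let R := P ⧸ I
  haveI : Nontrivial R := Ideal.Quotient.nontrivial_iff.mpr fun he =>
    (IsLocalRing.maximalIdeal.isMaximal P).ne_top (top_le_iff.mp (he ▸ hIm))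
  haveI : IsLocalRing R := IsLocalRing.of_surjective' (Ideal.Quotient.mk I) Ideal.Quotient.mk_surjective
  haveI : Algebra.IsPushout A R B B₁ := Algebra.IsPushout.symm inferInstance
  let T₁ := T.map (algebraMap B B₁)
  let TB₁ := Localization T₁
  let TB := Localization T
  letI : Module B₁ N₁ := Module.compHom N₁ (algebraMap B₁ TB₁)
  haveI : IsScalarTower B₁ TB₁ N₁ := IsScalarTower.of_algebraMap_smul fun _ _ => rfl
  haveI : IsScalarTower B B₁ N₁ := IsScalarTower.of_algebraMap_smul fun b v => by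
    rw [← algebraMap_smul TB₁ (algebraMap B B₁ b) v, ← IsScalarTower.algebraMap_apply, algebraMap_smul]
  haveI : IsScalarTower R B₁ N₁ := IsScalarTower.of_algebraMap_smul fun r v => by
    rw [← algebraMap_smul TB₁ (algebraMap R B₁ r) v, ← IsScalarTower.algebraMap_apply, algebraMap_smul]
  obtain ⟨g, hg⟩ := exists_baseChange_quotient (A := A) (B := B) (R := R) (B₁ := B₁) (TB := TB) (TB₁ := TB₁)
    T ι h hbc p L J hkill (fun a ha => Ideal.Quotient.eq_zero_iff_mem.mpr (hI₀ (Ideal.mem_map_of_mem _ ha)))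
    (fun c hc => (IsLocalization.map_units P (⟨c, hc⟩ : p.primeCompl)).map (Ideal.Quotient.mk I))
  let N' := B₁ ⊗[B] N₀
  haveI : Module.Projective R N' :=
    Module.Projective.of_equiv (Algebra.IsPushout.cancelBaseChange A R B B₁ N₀).symm
  haveI : Algebra.FiniteType R B₁ := Algebra.FiniteType.equiv (inferInstance : Algebra.FiniteType R (R ⊗[A] B))
    (Algebra.IsPushout.equiv A R B B₁)
  haveI : IsScalarTower R B₁ TB₁ := inferInstance
  have huniv : FlatCA.UnivInj R (g.restrictScalars R) := by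
    have hi := univInj_mk (T := T) (B₁ := B₁) (TB₁ := TB₁) p I hIm N₀ hnzd
    intro X _ _
    have heq : g.restrictScalars R = (hg.equiv.restrictScalars R).toLinearMap.comp
        ((TensorProduct.mk B₁ TB₁ N' 1).restrictScalars R) := LinearMap.ext fun n => by
      show g n = hg.equiv ((1 : TB₁) ⊗ₜ[B₁] n)
      rw [IsBaseChange.equiv_tmul, one_smul]
    rw [heq, LinearMap.lTensor_comp, LinearMap.coe_comp]
    exact (LinearEquiv.lTensor X (hg.equiv.restrictScalars R)).injective.comp (hi X)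
  haveI : AlgebraicGeometry.IsOpenImmersion
      (AlgebraicGeometry.Spec.map (CommRingCat.ofHom (algebraMap B₁ B₁))) := by
    rw [Algebra.algebraMap_self, CommRingCat.ofHom_id, AlgebraicGeometry.Spec.map_id]
    infer_instance
  exact ⟨B₁, inferInstance, Algebra.id B₁, inferInstance, inferInstance, inferInstance, inferInstance, inferInstance,
    inferInstance, inferInstance, inferInstance, N', inferInstance, inferInstance, inferInstance, inferInstance, g,
    inferInstance, inferInstance, hg, inferInstance, huniv⟩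

end Groth.Agent.S1294
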