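import Groth.Statements.S1295
import Groth.Agent.RGFlat.SpreadModel
-- import your own Groth.Agent.* helpers here

set_option autoImplicit false
universe u
open FlatMor

namespace Groth.Agent.S1295

open TensorProduct
open Groth.Agent.RGFlat Groth.Agent.RGFlat.Spreading

attribute [local instance] Algebra.TensorProduct.rightAlgebra

/-- The base change of a model to a stage. -/
theorem exists_output {R₁ A G B₁ B : Type u} [CommRing R₁] [CommRing A] [CommRing G] [CommRing B₁] [CommRing B]
    [Algebra R₁ A] [Algebra R₁ G] [Algebra G A] [IsScalarTower R₁ G A] [Algebra R₁ B₁]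
    [Algebra.FinitePresentation R₁ B₁] [Algebra A B] [Algebra B₁ B] [Algebra R₁ B] [IsScalarTower R₁ A B]
    [IsScalarTower R₁ B₁ B] [Algebra.IsPushout R₁ A B₁ B]
    {N₁ N : Type u} [AddCommGroup N₁] [Module B₁ N₁] [Module R₁ N₁] [IsScalarTower R₁ B₁ N₁]
    [Module.FinitePresentation B₁ N₁]
    [AddCommGroup N] [Module B N] [Module B₁ N] [IsScalarTower B₁ B N] (g₁ : N₁ →ₗ[B₁] N) (hg₁ : IsBaseChange B g₁)
    (p : Ideal A) [p.IsPrime] (pG : Ideal G) [pG.IsPrime] (hpG : pG = p.comap (algebraMap G A))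
    [Module.Projective (Localization.AtPrime pG) (Localization.AtPrime pG ⊗[R₁] N₁)] :
    ∃ (Bi Ni : Type u) (_ : CommRing Bi) (_ : Algebra G Bi) (_ : Algebra Bi B) (_ : Algebra G B)
      (_ : IsScalarTower G A B) (_ : IsScalarTower G Bi B)
      (_ : AddCommGroup Ni) (_ : Module Bi Ni) (_ : Module G Ni) (_ : IsScalarTower G Bi Ni)
      (_ : Module Bi N) (_ : IsScalarTower Bi B N) (f : Ni →ₗ[Bi] N),
      Algebra.FinitePresentation G Bi ∧ Algebra.IsPushout G Bi A B ∧ Module.FinitePresentation Bi Ni ∧ IsBaseChange B f ∧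
      FlatCA.IsPureAlong G Bi Ni pG ∧ ∀ (q : Ideal Bi) [q.IsPrime], q.LiesOver pG → FlatCA.FlatAt G q Ni := by
  haveI := isScalarTower_tensor (A := R₁) (B := B₁) G
  let Bi := G ⊗[R₁] B₁
  haveI : Algebra.IsPushout R₁ G B₁ Bi := inferInstance
  letI : Algebra G B := ((algebraMap A B).comp (algebraMap G A)).toAlgebra
  haveI : IsScalarTower G A B := IsScalarTower.of_algebraMap_eq fun _ => rfl
  haveI : IsScalarTower R₁ G B := IsScalarTower.of_algebraMap_eq fun x => by
    rw [IsScalarTower.algebraMap_apply R₁ A B, IsScalarTower.algebraMap_apply R₁ G A,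
      ← IsScalarTower.algebraMap_apply G A B]
  let θ : Bi →ₐ[G] B := Algebra.TensorProduct.lift (Algebra.ofId G B) (IsScalarTower.toAlgHom R₁ B₁ B) fun _ _ => .all _ _
  letI : Algebra Bi B := θ.toRingHom.toAlgebra
  haveI : IsScalarTower G Bi B := IsScalarTower.of_algebraMap_eq' θ.comp_algebraMap.symm
  haveI : IsScalarTower B₁ Bi B := IsScalarTower.of_algebraMap_eq fun x => by
    show _ = θ ((1 : G) ⊗ₜ[R₁] x)
    rw [Algebra.TensorProduct.lift_tmul, map_one, one_mul]
    rfl
  haveI : IsScalarTower R₁ Bi B := IsScalarTower.of_algebraMap_eq (R := R₁) (S := Bi) (A := B) fun x => by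
    rw [IsScalarTower.algebraMap_apply R₁ G B, IsScalarTower.algebraMap_apply R₁ G Bi,
      ← IsScalarTower.algebraMap_apply G Bi B]
  haveI : Algebra.IsPushout G A Bi B :=
    (Algebra.IsPushout.comp_iff (R := R₁) (S := G) (R' := B₁) (S' := Bi) (T := A) (T' := B)).mp inferInstance
  haveI : Algebra.IsPushout G Bi A B := Algebra.IsPushout.symm inferInstance
  let Ni := Bi ⊗[B₁] N₁
  letI : Module Bi N := Module.compHom N (algebraMap Bi B)
  haveI : IsScalarTower Bi B N := IsScalarTower.of_algebraMap_smul fun _ _ => rfl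
  haveI : IsScalarTower B₁ Bi N := IsScalarTower.of_algebraMap_smul fun x v => by
    rw [← algebraMap_smul B (algebraMap B₁ Bi x) v, ← IsScalarTower.algebraMap_apply, algebraMap_smul]
  let f : Ni →ₗ[Bi] N := LinearMap.liftBaseChange Bi g₁
  have hf : IsBaseChange B f := by
    refine IsBaseChange.of_comp (f := TensorProduct.mk B₁ Bi N₁ 1) (TensorProduct.isBaseChange B₁ N₁ Bi) ?_
    have : f.restrictScalars B₁ ∘ₗ TensorProduct.mk B₁ Bi N₁ 1 = g₁ := LinearMap.ext fun x => by
      show f ((1 : Bi) ⊗ₜ x) = g₁ x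
      rw [LinearMap.liftBaseChange_tmul, one_smul]
    rw [this]
    exact hg₁
  haveI : Module.Projective (Localization.AtPrime pG) (Localization.AtPrime pG ⊗[G] Ni) := by
    let eNi : Ni ≃ₗ[G] G ⊗[R₁] N₁ := Algebra.IsPushout.cancelBaseChange R₁ G B₁ Bi N₁
    exact Module.Projective.of_equiv ((AlgebraTensorModule.congr (LinearEquiv.refl (Localization.AtPrime pG)
      (Localization.AtPrime pG)) eNi).trans
        (AlgebraTensorModule.cancelBaseChange R₁ G (Localization.AtPrime pG) (Localization.AtPrime pG) N₁)).symm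
  have hfl : ∀ (q : Ideal Bi) [q.IsPrime], q.LiesOver pG → FlatCA.FlatAt G q Ni := fun q _ _ =>
    flatAt_of_projective_atPrime (B := Bi) Ni pG q
  exact ⟨Bi, Ni, inferInstance, inferInstance, inferInstance, inferInstance, inferInstance, inferInstance,
    inferInstance, inferInstance, inferInstance, inferInstance, inferInstance, inferInstance, f, inferInstance,
    inferInstance, inferInstance, hf, isPureAlong_of_projective_of_flatAt Ni pG hfl, hfl⟩


/-- The core descent, stated over the coarse ring. -/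
theorem exists_finset_projective_bc {R₁ R' A B₁ : Type u} [CommRing R₁] [CommRing R'] [IsNoetherianRing R']
    [CommRing A] [CommRing B₁] [Algebra R₁ R'] [Algebra R' A] [Algebra R₁ A] [IsScalarTower R₁ R' A]
    [Algebra R₁ B₁] [Algebra.FinitePresentation R₁ B₁] (N₁ : Type u) [AddCommGroup N₁] [Module B₁ N₁] [Module R₁ N₁]
    [IsScalarTower R₁ B₁ N₁] [Module.FinitePresentation B₁ N₁] [Module.Flat R' (R' ⊗[R₁] N₁)] (p : Ideal A) [p.IsPrime]
    [Module.Projective (Localization.AtPrime p) (Localization.AtPrime p ⊗[R₁] N₁)] :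
    ∃ T : Finset A, ∀ (R₂ : Type u) [CommRing R₂] [Algebra R' R₂] [Algebra R₂ A] [IsScalarTower R' R₂ A]
      [Algebra R₁ R₂] [IsScalarTower R₁ R' R₂],
      Function.Injective (algebraMap R₂ A) → (∀ x ∈ T, x ∈ Set.range (algebraMap R₂ A)) →
        ∀ (p₂ : Ideal R₂) [p₂.IsPrime], p₂ = p.comap (algebraMap R₂ A) →
          Module.Projective (Localization.AtPrime p₂) (Localization.AtPrime p₂ ⊗[R₁] N₁) := by
  haveI := isScalarTower_tensor (A := R₁) (B := B₁) R'
  let B' := R' ⊗[R₁] B₁
  haveI : Algebra.IsPushout R₁ R' B₁ B' := inferInstance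
  let N' := B' ⊗[B₁] N₁
  let eN' : N' ≃ₗ[R'] R' ⊗[R₁] N₁ := Algebra.IsPushout.cancelBaseChange R₁ R' B₁ B' N₁
  haveI : Module.Flat R' N' := Module.Flat.of_linearEquiv eN'
  let P := Localization.AtPrime p
  haveI : IsScalarTower R₁ R' P := IsScalarTower.of_algebraMap_eq fun x => by
    rw [IsScalarTower.algebraMap_apply R' A P, ← IsScalarTower.algebraMap_apply R₁ R' A,
      ← IsScalarTower.algebraMap_apply R₁ A P]
  haveI : Module.Projective P (P ⊗[R'] N') := Module.Projective.of_equiv
    ((AlgebraTensorModule.congr (LinearEquiv.refl P P) eN').trans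
      (AlgebraTensorModule.cancelBaseChange R₁ R' P P N₁)).symm
  obtain ⟨T, hT⟩ := exists_finset_projective (R₁ := R') (A := A) (B₁ := B') N' p
  refine ⟨T, fun R₂ _ _ _ _ _ _ hinj hR₂ p₂ _ hp₂ => ?_⟩
  haveI := hT R₂ hinj hR₂ p₂ hp₂
  let P₂ := Localization.AtPrime p₂
  haveI : IsScalarTower R₁ R' P₂ := IsScalarTower.of_algebraMap_eq fun x => by
    rw [IsScalarTower.algebraMap_apply R' R₂ P₂, ← IsScalarTower.algebraMap_apply R₁ R' R₂,
      ← IsScalarTower.algebraMap_apply R₁ R₂ P₂]
  exact Module.Projective.of_equiv ((AlgebraTensorModule.congr (LinearEquiv.refl P₂ P₂) eN').trans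
    (AlgebraTensorModule.cancelBaseChange R₁ R' P₂ P₂ N₁))

/-- The descent from a finitely generated model. -/
theorem result_of_model {ι : Type u} [Preorder ι] (G : ι → Type u) [∀ i, CommRing (G i)]
    (g : ∀ i j, i ≤ j → G i →+* G j) {A : Type u} [CommRing A] [∀ i, Algebra (G i) A]
    (hcolim : FlatCA.IsDirectedColimitRing G g A) {B : Type u} [CommRing B] [Algebra A B]
    (N : Type u) [AddCommGroup N] [Module B N] [Module A N] [IsScalarTower A B N] (p : Ideal A) [p.IsPrime]
    [Module.Projective (Localization.AtPrime p) (Localization.AtPrime p ⊗[A] N)]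
    (f : A) (hf : f ∉ p) [Module.Flat (Localization.Away f) (Localization.Away f ⊗[A] N)]
    {R₁ B₁ N₁ : Type u} [CommRing R₁] [IsNoetherianRing R₁] [Algebra.FiniteType ℤ R₁] [Algebra R₁ A]
    [CommRing B₁] [Algebra R₁ B₁] [Algebra.FinitePresentation R₁ B₁] [Algebra B₁ B] [Algebra R₁ B]
    [IsScalarTower R₁ A B] [IsScalarTower R₁ B₁ B] [Algebra.IsPushout R₁ A B₁ B]
    [AddCommGroup N₁] [Module B₁ N₁] [Module R₁ N₁] [IsScalarTower R₁ B₁ N₁] [Module.FinitePresentation B₁ N₁]
    [Module B₁ N] [IsScalarTower B₁ B N] (g₁ : N₁ →ₗ[B₁] N) (hg₁ : IsBaseChange B g₁) :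
    ∃ (i : ι) (Bi Ni : Type u) (_ : CommRing Bi) (_ : Algebra (G i) Bi) (_ : Algebra Bi B) (_ : Algebra (G i) B)
      (_ : IsScalarTower (G i) A B) (_ : IsScalarTower (G i) Bi B)
      (_ : AddCommGroup Ni) (_ : Module Bi Ni) (_ : Module (G i) Ni) (_ : IsScalarTower (G i) Bi Ni)
      (_ : Module Bi N) (_ : IsScalarTower Bi B N) (f : Ni →ₗ[Bi] N),
      Algebra.FinitePresentation (G i) Bi ∧ Algebra.IsPushout (G i) Bi A B ∧ Module.FinitePresentation Bi Ni ∧ IsBaseChange B f ∧
      FlatCA.IsPureAlong (G i) Bi Ni (p.comap (algebraMap (G i) A)) ∧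
      ∀ (q : Ideal Bi) [q.IsPrime], q.LiesOver (p.comap (algebraMap (G i) A)) → FlatCA.FlatAt (G i) q Ni := by
  classical
  let eA : N ≃ₗ[A] A ⊗[R₁] N₁ :=
    (hg₁.equiv.symm.restrictScalars A).trans (Algebra.IsPushout.cancelBaseChange R₁ A B₁ B N₁)
  -- over `A_f`
  let Af := Localization.Away f
  haveI : Module.Flat Af (Af ⊗[R₁] N₁) := Module.Flat.of_linearEquiv
    ((AlgebraTensorModule.congr (LinearEquiv.refl Af Af) eA).trans
      (AlgebraTensorModule.cancelBaseChange R₁ A Af Af N₁)).symm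
  obtain ⟨R', hR', hflat'⟩ := exists_flat_model (R₁ := R₁) (A := Af) (B₁ := B₁) N₁
  haveI := hflat'
  haveI : Algebra.FiniteType R₁ R' := R'.fg_iff_finiteType.mp hR'
  haveI : IsNoetherianRing R' := Algebra.FiniteType.isNoetherianRing R₁ R'
  let pf : Ideal Af := p.map (algebraMap A Af)
  have hdisj : Disjoint (Submonoid.powers f : Set A) p :=
    (Ideal.disjoint_powers_iff_notMem _ (Ideal.IsPrime.isRadical ‹_›)).mpr hf
  haveI : pf.IsPrime := IsLocalization.isPrime_of_isPrime_disjoint _ Af p ‹_› hdisj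
  have hpf : pf.comap (algebraMap A Af) = p := IsLocalization.under_map_of_isPrime_disjoint _ Af ‹_› hdisj
  haveI : pf.LiesOver p := ⟨hpf.symm⟩
  let P := Localization.AtPrime p
  let Pf := Localization.AtPrime pf
  letI := Localization.AtPrime.algebraOfLiesOver p pf
  haveI : IsScalarTower R₁ P Pf := IsScalarTower.of_algebraMap_eq fun x => by
    rw [IsScalarTower.algebraMap_apply R₁ A P, ← IsScalarTower.algebraMap_apply A P Pf,
      ← IsScalarTower.algebraMap_apply R₁ A Pf]
  haveI : Module.Projective P (P ⊗[R₁] N₁) := Module.Projective.of_equiv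
    ((AlgebraTensorModule.congr (LinearEquiv.refl P P) eA).trans (AlgebraTensorModule.cancelBaseChange R₁ A P P N₁))
  haveI : Module.Projective Pf (Pf ⊗[R₁] N₁) :=
    Module.Projective.of_equiv (AlgebraTensorModule.cancelBaseChange R₁ P Pf Pf N₁)
  obtain ⟨T, hT⟩ := exists_finset_projective_bc (R₁ := R₁) (R' := R') (A := Af) (B₁ := B₁) N₁ pf
  -- the stage over `A_f`
  let R₂ : Subalgebra R' Af := Algebra.adjoin R' (T : Set Af)
  let p₂ : Ideal R₂ := pf.comap (algebraMap R₂ Af)
  haveI : p₂.IsPrime := Ideal.comap_isPrime _ _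
  have hproj₂ : Module.Projective (Localization.AtPrime p₂) (Localization.AtPrime p₂ ⊗[R₁] N₁) :=
    hT R₂ Subtype.val_injective (fun x hx => ⟨⟨x, Algebra.subset_adjoin (Finset.mem_coe.mpr hx)⟩, rfl⟩) p₂ rfl
  -- numerators
  haveI : Algebra.FiniteType R₁ R₂ := by
    haveI : Algebra.FiniteType R' R₂ := R₂.fg_iff_finiteType.mp ⟨T, rfl⟩
    exact Algebra.FiniteType.trans (inferInstance : Algebra.FiniteType R₁ R') inferInstance
  obtain ⟨S₂, hS₂⟩ := (inferInstance : Algebra.FiniteType R₁ R₂).out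
  choose num k hnum using fun x : R₂ => IsLocalization.Away.surj f (x : Af)
  let nums : Finset A := insert f (S₂.image k)
  obtain ⟨gens, hgens⟩ := (inferInstance : Algebra.FiniteType ℤ R₁).out
  let nums' : Finset A := gens.image (algebraMap R₁ A) ∪ nums
  let Z₀ : Type u := MvPolynomial PEmpty.{u+1} ℤ
  letI : Algebra Z₀ A := (MvPolynomial.eval₂Hom (Int.castRingHom A) (fun e : PEmpty.{u+1} => e.elim)).toAlgebra
  letI : ∀ i, Algebra Z₀ (G i) := fun i =>
    (MvPolynomial.eval₂Hom (Int.castRingHom (G i)) (fun e : PEmpty.{u+1} => e.elim)).toAlgebra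
  haveI : ∀ i, IsScalarTower Z₀ (G i) A := fun i => IsScalarTower.of_algebraMap_eq'
    (MvPolynomial.ringHom_ext (fun n => by simp [RingHom.algebraMap_toAlgebra]) fun e => e.elim)
  let R : Subalgebra (Z₀) A := Algebra.adjoin (Z₀) (nums' : Set A)
  have hR : R.FG := ⟨nums', rfl⟩
  have himg : ∀ x : R₁, algebraMap R₁ A x ∈ R := fun x => by
    have hle : Algebra.adjoin ℤ (gens : Set R₁) ≤
        subalgebraOfSubring (R.toSubring.comap (algebraMap R₁ A)) := Algebra.adjoin_le fun y hy =>
      Algebra.subset_adjoin (Finset.mem_union_left _ (Finset.mem_image_of_mem _ (Finset.mem_coe.mp hy)))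
    exact hle (hgens ▸ Algebra.mem_top)
  obtain ⟨j, φ, hφ⟩ := FlatOpen.exists_stage_hom (R₀ := Z₀) G g A hcolim
    (fun i j h => MvPolynomial.ringHom_ext (fun n => by simp [RingHom.algebraMap_toAlgebra]) fun e => e.elim) R hR
  let ir : R₁ →+* R := (algebraMap R₁ A).codRestrict R.toSubring himg
  letI : Algebra R₁ R := ir.toAlgebra
  haveI : IsScalarTower R₁ R A := IsScalarTower.of_algebraMap_eq fun _ => rfl
  letI : Algebra R₁ (G j) := (φ.toRingHom.comp ir).toAlgebra
  haveI : IsScalarTower R₁ (G j) A := IsScalarTower.of_algebraMap_eq fun x => (hφ (ir x)).symm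
  let fR : R := ⟨f, Algebra.subset_adjoin (Finset.mem_union_right _ (Finset.mem_insert_self _ _))⟩
  let pj : Ideal (G j) := p.comap (algebraMap (G j) A)
  haveI : pj.IsPrime := Ideal.comap_isPrime _ _
  let Pj := Localization.AtPrime pj
  let Rf := Localization.Away fR
  have hu : IsUnit (((algebraMap (G j) Pj).comp φ.toRingHom) fR) :=
    IsLocalization.map_units Pj (⟨φ fR, fun h => hf (by
      have h' : algebraMap (G j) A (φ fR) ∈ p := h
      rwa [hφ] at h')⟩ : pj.primeCompl)
  let χ : Rf →+* Pj := IsLocalization.Away.lift fR hu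
  have hu' : IsUnit (((algebraMap A Af).comp R.val.toRingHom) fR) := IsLocalization.Away.algebraMap_isUnit f
  let ι : Rf →+* Af := IsLocalization.Away.lift fR hu'
  have hιmap : ∀ x : R, ι (algebraMap R Rf x) = algebraMap A Af x := fun x => IsLocalization.Away.lift_eq fR hu' x
  have hιinj : Function.Injective ι := by
    rw [injective_iff_map_eq_zero]
    intro z hz
    obtain ⟨⟨x, ⟨_, m, rfl⟩⟩, hx⟩ := IsLocalization.surj (Submonoid.powers fR) z
    have h0 : algebraMap A Af (x : A) = 0 := by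
      rw [← hιmap, ← hx, map_mul, hz, zero_mul]
    obtain ⟨⟨_, m', rfl⟩, hm'⟩ := (IsLocalization.map_eq_zero_iff (Submonoid.powers f) Af _).mp h0
    have hxR : fR ^ m' * x = 0 := Subtype.ext hm'
    have h1 : algebraMap R Rf x = 0 :=
      (IsLocalization.map_eq_zero_iff (Submonoid.powers fR) Rf _).mpr ⟨⟨_, m', rfl⟩, hxR⟩
    rw [h1] at hx
    exact (IsUnit.mul_left_eq_zero (IsLocalization.map_units Rf (⟨_, m, rfl⟩ : Submonoid.powers fR))).mp hx
  letI : Algebra R₁ Rf := ((algebraMap R Rf).comp ir).toAlgebra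
  let ιa : Rf →ₐ[R₁] Af :=
    { toRingHom := ι
      commutes' := fun x => by
        show ι (algebraMap R Rf (ir x)) = algebraMap R₁ Af x
        rw [hιmap]
        exact (IsScalarTower.algebraMap_apply R₁ A Af x).symm }
  have hfu : IsUnit (algebraMap R Rf fR) := IsLocalization.Away.algebraMap_isUnit fR
  have hle : (⊤ : Subalgebra R₁ R₂) ≤ (AlgHom.range ιa).comap (R₂.val.restrictScalars R₁) := by
    rw [← hS₂]
    refine Algebra.adjoin_le fun x hx => ?_
    show (x : Af) ∈ AlgHom.range ιa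
    let kR : R := ⟨k x, Algebra.subset_adjoin (Finset.mem_union_right _
      (Finset.mem_insert_of_mem (Finset.mem_image_of_mem _ hx)))⟩
    refine ⟨algebraMap R Rf kR * ↑(hfu.pow (num x)).unit⁻¹, ?_⟩
    show ι _ = (x : Af)
    refine ((IsLocalization.Away.algebraMap_isUnit (S := Af) f).pow (num x)).mul_left_inj.mp ?_
    rw [hnum x, show algebraMap A Af f ^ num x = ι (algebraMap R Rf fR ^ num x) by rw [map_pow, hιmap],
      ← map_mul, mul_assoc, IsUnit.val_inv_mul, mul_one, hιmap]
  let ρ : R₂ →+* Pj := χ.comp (((AlgEquiv.ofInjective ιa hιinj).symm.toAlgHom.comp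
    ((R₂.val.restrictScalars R₁).codRestrict (AlgHom.range ιa) fun x => hle Algebra.mem_top)).toRingHom)
  letI : Algebra R₂ Pj := ρ.toAlgebra
  haveI : IsScalarTower R₁ R₂ Pj := IsScalarTower.of_algebraMap_eq fun x => by
    show algebraMap R₁ Pj x = χ (((AlgEquiv.ofInjective ιa hιinj).symm.toAlgHom.comp
      ((R₂.val.restrictScalars R₁).codRestrict (AlgHom.range ιa) fun y => hle Algebra.mem_top)) (algebraMap R₁ R₂ x))
    rw [AlgHom.commutes]
    show algebraMap R₁ Pj x = χ (algebraMap R Rf (ir x))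
    rw [IsLocalization.Away.lift_eq, IsScalarTower.algebraMap_apply R₁ (G j) Pj]
    rfl
  -- `p₂` is the prime of `Pj`
  let β : Pj →+* P := Localization.localRingHom pj p (algebraMap (G j) A) rfl
  let γ : Af →+* Pf := algebraMap Af Pf
  let δ : P →+* Pf := algebraMap P Pf
  have hcomp : (δ.comp β).comp χ = γ.comp ι := by
    refine IsLocalization.ringHom_ext (Submonoid.powers fR) (RingHom.ext fun x => ?_)
    show δ (β (χ (algebraMap R Rf x))) = γ (ι (algebraMap R Rf x))
    rw [hιmap, IsLocalization.Away.lift_eq]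
    show δ (β (algebraMap (G j) Pj (φ x))) = _
    rw [Localization.localRingHom_to_map, hφ]
    exact (IsScalarTower.algebraMap_apply A P Pf x).symm.trans (IsScalarTower.algebraMap_apply A Af Pf x)
  haveI : IsLocalHom β := Localization.isLocalHom_localRingHom pj p (algebraMap (G j) A) rfl
  have hρ : ∀ x : R₂, x ∉ p₂ → IsUnit (ρ x) := by
    intro x hx
    have h1 : IsUnit (γ (x : Af)) := IsLocalization.map_units Pf (⟨(x : Af), hx⟩ : pf.primeCompl)
    have h2 : δ (β (ρ x)) = γ (x : Af) := by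
      refine (RingHom.congr_fun hcomp _).trans (congrArg γ ?_)
      exact congrArg Subtype.val ((AlgEquiv.ofInjective ιa hιinj).apply_symm_apply _)
    have hδ : IsLocalHom δ := Localization.isLocalHom_localRingHom p pf (algebraMap A Af) (pf.over_def p)
    exact IsUnit.of_map β _ (@IsUnit.of_map _ _ _ _ _ _ δ hδ _ (h2 ▸ h1))
  let P₂ := Localization.AtPrime p₂
  letI : Algebra P₂ Pj := (IsLocalization.lift (M := p₂.primeCompl) (g := ρ) fun y => hρ y y.2).toAlgebra
  haveI : IsScalarTower R₂ P₂ Pj := IsScalarTower.of_algebraMap_eq fun x => (IsLocalization.lift_eq _ x).symm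
  haveI : IsScalarTower R₁ P₂ Pj := IsScalarTower.of_algebraMap_eq fun x => by
    rw [IsScalarTower.algebraMap_apply R₁ R₂ P₂, ← IsScalarTower.algebraMap_apply R₂ P₂ Pj,
      ← IsScalarTower.algebraMap_apply R₁ R₂ Pj]
  haveI := hproj₂
  haveI : Module.Projective Pj (Pj ⊗[R₁] N₁) :=
    Module.Projective.of_equiv (AlgebraTensorModule.cancelBaseChange R₁ P₂ Pj Pj N₁)
  obtain ⟨Bi, Ni, i1, i2, i3, i4, i5, i6, i7, i8, i9, i10, i11, i12, fi, hfi⟩ :=
    exists_output (R₁ := R₁) (B₁ := B₁) (N₁ := N₁) (N := N) (G := G j) (A := A) (B := B) g₁ hg₁ p pj rfl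
  exact ⟨j, Bi, Ni, i1, i2, i3, i4, i5, i6, i7, i8, i9, i10, i11, i12, fi, hfi⟩


/-- Ring form, X = Spec B and the S_i = Spec A_i affine: let A be the colimit of a directed system of
rings (A_i), p a prime of A with contractions p_i, B a finitely presented A-algebra and N a finitely
presented B-module which is pure along the fibre over p and flat over A at every prime of B over p.
Then for some index i there are a finitely presented A_i-algebra B_i with B ≅ B_i ⊗_{A_i} A and a
finitely presented B_i-module N_i with N ≅ N_i ⊗_{B_i} B, such that N_i is pure along the fibre over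
p_i and flat over A_i at every prime of B_i over p_i. -/
theorem result {ι : Type u} [Preorder ι] (G : ι → Type u) [∀ i, CommRing (G i)]
    (g : ∀ i j, i ≤ j → G i →+* G j) {A : Type u} [CommRing A] [∀ i, Algebra (G i) A] (hcolim : FlatCA.IsDirectedColimitRing G g A)
    {B : Type u} [CommRing B] [Algebra A B] [Algebra.FinitePresentation A B]
    (N : Type u) [AddCommGroup N] [Module B N] [Module A N] [IsScalarTower A B N] [Module.FinitePresentation B N]
    (p : Ideal A) [p.IsPrime] (hpure : FlatCA.IsPureAlong A B N p)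
    (hflat : ∀ (q : Ideal B) [q.IsPrime], q.LiesOver p → FlatCA.FlatAt A q N) :
    ∃ (i : ι) (Bi Ni : Type u) (_ : CommRing Bi) (_ : Algebra (G i) Bi) (_ : Algebra Bi B) (_ : Algebra (G i) B)
      (_ : IsScalarTower (G i) A B) (_ : IsScalarTower (G i) Bi B)
      (_ : AddCommGroup Ni) (_ : Module Bi Ni) (_ : Module (G i) Ni) (_ : IsScalarTower (G i) Bi Ni)
      (_ : Module Bi N) (_ : IsScalarTower Bi B N) (f : Ni →ₗ[Bi] N),
      Algebra.FinitePresentation (G i) Bi ∧ Algebra.IsPushout (G i) Bi A B ∧ Module.FinitePresentation Bi Ni ∧ IsBaseChange B f ∧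
      FlatCA.IsPureAlong (G i) Bi Ni (p.comap (algebraMap (G i) A)) ∧
      ∀ (q : Ideal Bi) [q.IsPrime], q.LiesOver (p.comap (algebraMap (G i) A)) → FlatCA.FlatAt (G i) q Ni := by
  classical
  haveI : Module.Projective (Localization.AtPrime p) (Localization.AtPrime p ⊗[A] N) :=
    projective_atPrime_of_pure_of_flatAt (B := B) N p hpure hflat
  obtain ⟨f, hf, hflatf⟩ := exists_flat_away (B := B) N p
  haveI := hflatf
  obtain ⟨R₁, B₁, N₁, _, _, _, _, _, _, _, _, g₁, hR₁, hft, hpo, hN₁, hg₁⟩ := exists_module_model A B N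
  haveI := hft
  haveI := hpo
  haveI := hN₁
  haveI : IsNoetherianRing R₁ := isNoetherianRing_of_fg hR₁
  haveI : Algebra.FinitePresentation R₁ B₁ := Algebra.FinitePresentation.of_finiteType.mp inferInstance
  haveI : IsNoetherianRing B₁ := Algebra.FiniteType.isNoetherianRing R₁ B₁
  haveI : Module.FinitePresentation B₁ N₁ := Module.finitePresentation_of_finite B₁ N₁
  letI : Module R₁ N₁ := Module.compHom N₁ (algebraMap R₁ B₁)
  haveI : IsScalarTower R₁ B₁ N₁ := IsScalarTower.of_algebraMap_smul fun _ _ => rfl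
  haveI : Algebra.FiniteType ℤ R₁ := R₁.fg_iff_finiteType.mp hR₁
  letI : Algebra R₁ B := inferInstance
  exact result_of_model (R₁ := R₁) (A := A) (B := B) (B₁ := B₁) (N₁ := N₁) G g hcolim N p f hf g₁ hg₁

end Groth.Agent.S1295
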