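import Groth.Statements.S12956
import Groth.Agent.StFib.Cancel

set_option autoImplicit false
set_option backward.isDefEq.respectTransparency false
set_option backward.isDefEq.respectTransparency.types false
universe u
open CategoryTheory AlgebraicGeometry
open AlgSt

namespace Groth.Agent.S12956

/-- If the composite of f : 𝒳 → 𝒴 and g : 𝒴 → 𝒵 (morphisms of algebraic stacks) is DM, then f is DM. -/
theorem result
    (S : Scheme.{u}) (𝒳 : AlgSt.Cat S) (𝒴 : AlgSt.Cat S) (𝒵 : AlgSt.Cat S)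
    (h𝒳 : AlgSt.IsAlgStack Scheme.fppfPrecoverage 𝒳)
    (h𝒴 : AlgSt.IsAlgStack Scheme.fppfPrecoverage 𝒴)
    (h𝒵 : AlgSt.IsAlgStack Scheme.fppfPrecoverage 𝒵)
    (f : 𝒳 ⥤ᵇ 𝒴) (g : 𝒴 ⥤ᵇ 𝒵) :
    AlgSt.IsDMMor (BasedFunctor.comp f g) → AlgSt.IsDMMor f := by
  exact fun h => Groth.Agent.StFib.diag_of_comp_mem (Q := ⊤) Groth.Agent.StFib.good_unramified.bc
    (fun _ _ _ _ _ hZ a b _ hab => Groth.Agent.StFib.locP_of_comp
      Groth.Agent.AlgSpCov.standard_unramified.etaleLocal (fun _ _ _ => Groth.Agent.StFib.unramified_of_comp_scheme) hZ a b hab)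
    (Groth.Agent.StFib.repByAlgSp1_iff_with_top.1 (Groth.Agent.StFib.repByAlgSp1_diag h𝒴.diag h𝒵.diag g)) h

end Groth.Agent.S12956
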