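import Groth.Statements.S1296
import Groth.Agent.RGFlat.ImpurityDescend

set_option autoImplicit false
universe u
open FlatMor

namespace Groth.Agent.S1296

/-- Ring form, X = Spec B affine, T = Spec A' with A' the colimit of a directed system of A-algebras
A'_i: let B be a finite type A-algebra, N a finite B-module, p a prime of A, and suppose given an
impurity of N above p with base change ring A' and points t' ⊆ t. Then for some index i there is an
impurity of N above p whose base change ring is A'_i (up to an A-isomorphism) and whose point t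
corresponds to the contraction of t to A'_i. -/
theorem result {A B : Type u} [CommRing A] [CommRing B] [Algebra A B] [Algebra.FiniteType A B]
    (N : Type u) [AddCommGroup N] [Module B N] [Module.Finite B N] (p : Ideal A) [p.IsPrime]
    {ι : Type u} [Preorder ι] (G : ι → Type u) [∀ i, CommRing (G i)] [∀ i, Algebra A (G i)]
    (g : ∀ i j, i ≤ j → G i →ₐ[A] G j)
    (A' : Type u) [CommRing A'] [Algebra A A'] [∀ i, Algebra (G i) A'] [∀ i, IsScalarTower A (G i) A']
    (hcolim : FlatCA.IsDirectedColimitRing G (fun i j h => (g i j h).toRingHom) A')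
    (B' N' : Type u) [CommRing B'] [Algebra B B'] [Algebra A' B'] [Algebra A B'] [IsScalarTower A B B'] [IsScalarTower A A' B']
    [AddCommGroup N'] [Module B' N'] [Module B N'] [IsScalarTower B B' N'] [Module A' N'] [IsScalarTower A' B' N']
    (f : N →ₗ[B] N') (t' t : Ideal A') [t'.IsPrime] [t.IsPrime] (P : Ideal B') [P.IsPrime]
    (himp : FlatCA.IsImpurity A B N p A' B' N' f t' t P) :
    ∃ i : ι, FlatCA.HasImpurity A B N p (fun A'' _ _ t'' => ∃ e : A'' ≃ₐ[A] G i, t''.map e = t.comap (algebraMap (G i) A')) := by
  classical
  obtain ⟨hdir, hne, -, -, hg, hsurj, -⟩ := hcolim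
  haveI := hdir
  haveI := hne
  obtain ⟨F, hF⟩ := Groth.Agent.RGFlat.Impurity.exists_descend himp
  choose idx x hx using hsurj
  obtain ⟨i, hi⟩ := Finset.exists_le (F.image idx)
  obtain ⟨BR, NR, _, _, _, _, _, _, _, _, _, _, _, _, gg, PR, _, s, hs, hI⟩ := hF (G i) fun a ha =>
    ⟨g (idx a) i (hi _ (Finset.mem_image_of_mem idx ha)) (x a),
      (RingHom.congr_fun (hg (idx a) i (hi _ (Finset.mem_image_of_mem idx ha))) (x a)).trans (hx a)⟩
  haveI := himp.2.2.2.1
  haveI : (t.comap (algebraMap (G i) A')).LiesOver p := ⟨by
    show p = (t.comap (algebraMap (G i) A')).comap (algebraMap A (G i))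
    rw [Ideal.comap_comap, ← IsScalarTower.algebraMap_eq, ← Ideal.under_def, ← Ideal.over_def t p]⟩
  exact ⟨i, G i, BR, NR, inferInstance, inferInstance, inferInstance, inferInstance, inferInstance, inferInstance,
    inferInstance, inferInstance, inferInstance, inferInstance, inferInstance, inferInstance, inferInstance,
    inferInstance, gg, t'.comap (algebraMap (G i) A'), t.comap (algebraMap (G i) A'), Ideal.comap_isPrime _ _,
    Ideal.comap_isPrime _ _, PR, inferInstance, hI _ le_rfl hs inferInstance, AlgEquiv.refl,
    Ideal.map_id _⟩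

end Groth.Agent.S1296
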