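import Groth.Statements.S12963
import Groth.Agent.StFib.DiagLft
import Groth.Agent.S10519
import Groth.Agent.S10520

set_option autoImplicit false
set_option backward.isDefEq.respectTransparency false
set_option backward.isDefEq.respectTransparency.types false
universe u
open CategoryTheory AlgebraicGeometry
open AlgSt

namespace Groth.Agent.S12963

/-- Let f : 𝒳 → 𝒴 be a morphism of algebraic stacks and W → 𝒴 a surjective, flat, locally finitely
presented morphism whose source is an algebraic space. Whenever the projection W ×_𝒴 𝒳 → W is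
quasi-separated, f is quasi-separated too (quasi-separated: the diagonal is quasi-compact and
quasi-separated, and representable by algebraic spaces). -/
theorem result
    (S : Scheme.{u}) (𝒳 : AlgSt.Cat S) (𝒴 : AlgSt.Cat S)
    (h𝒳 : AlgSt.IsAlgStack Scheme.fppfPrecoverage 𝒳)
    (h𝒴 : AlgSt.IsAlgStack Scheme.fppfPrecoverage 𝒴)
    (f : 𝒳 ⥤ᵇ 𝒴)
    (W : AlgSp.Space S) (w : AlgSt.ofSp W.obj ⥤ᵇ 𝒴)
    (hw₁ : AlgSt.RepByAlgSpWith (AlgSp.LocP @Flat) w)
    (hw₂ : AlgSt.RepByAlgSpWith (AlgSp.LocP @LocallyOfFinitePresentation) w)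
    (hw₃ : AlgSt.RepByAlgSpWith AlgSp.IsSurjectiveMor w) :
    AlgSt.IsQuasiSeparatedMor (FibCat.fpFst w f) → AlgSt.IsQuasiSeparatedMor f := by
  intro h
  refine Groth.Agent.StFib.diag_of_fpFst_cover
    (Groth.Agent.StFib.good_quasiCompact.inf Groth.Agent.StFib.good_quasiSeparated).bc ?_ h𝒴.isStack.1
    (Groth.Agent.StFib.repByAlgSp1_diag h𝒳.diag h𝒴.diag f) (Stk.isFibGrpd_ofPsh _) hw₁ hw₂ hw₃ h
  intro ι Y Yi g hY hYi hc X a hX Xi p q hXi sq
  have h1 := Groth.Agent.StFib.fppfLocal_of_fpqc (Groth.Agent.S10519.result S) Yi g hY hYi hc a hX Xi p q hXi sq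
  have h2 := Groth.Agent.StFib.fppfLocal_of_fpqc (Groth.Agent.S10520.result S) Yi g hY hYi hc a hX Xi p q hXi sq
  exact ⟨fun hh i => ⟨h1.1 hh.1 i, h2.1 hh.2 i⟩, fun hh => ⟨h1.2 fun i => (hh i).1, h2.2 fun i => (hh i).2⟩⟩

end Groth.Agent.S12963
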