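import Groth.Statements.S12971
import Groth.Agent.StFib.DiagRep2

set_option autoImplicit false
set_option backward.isDefEq.respectTransparency false
set_option backward.isDefEq.respectTransparency.types false
universe u
open CategoryTheory AlgebraicGeometry
open AlgSt

namespace Groth.Agent.S12971

/-- A monomorphism of algebraic stacks (representable by algebraic spaces and a monomorphism) is
separated and DM. -/
theorem result
    (S : Scheme.{u}) (𝒳 : AlgSt.Cat S) (𝒴 : AlgSt.Cat S)
    (h𝒳 : AlgSt.IsAlgStack Scheme.fppfPrecoverage 𝒳)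
    (h𝒴 : AlgSt.IsAlgStack Scheme.fppfPrecoverage 𝒴)
    (f : 𝒳 ⥤ᵇ 𝒴) :
    AlgSt.IsMono f → AlgSt.IsSeparatedMor f ∧ AlgSt.IsDMMor f := by
  intro hf
  constructor
  · exact Groth.Agent.StFib.diag_of_rep_mem Groth.Agent.StFib.good_proper.bc
      (fun A U hA a (ha : Mono a) => Groth.Agent.StFib.isProperMor_of_repWith_closedImmersion
        (Groth.Agent.AlgSp.isAlgSpace_pullback (Groth.Agent.StFib.isAlgSpace_yon U) hA hA a a) _
        (Groth.Agent.StFib.repWith_diagonal_of_mono @IsClosedImmersion a)) hf
  · exact Groth.Agent.StFib.isDMMor_of_rep (Groth.Agent.StFib.repByAlgSp1_of_with hf)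

end Groth.Agent.S12971
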