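import Groth.Statements.S12978
import Groth.Agent.StFib.Inertia

set_option autoImplicit false
set_option backward.isDefEq.respectTransparency false
set_option backward.isDefEq.respectTransparency.types false
universe u
open CategoryTheory AlgebraicGeometry
open AlgSt

namespace Groth.Agent.S12978

/-- A morphism f of algebraic stacks whose diagonal is a monomorphism (representable by algebraic spaces
and a monomorphism) is representable by algebraic spaces. Together with the forward direction (a
morphism representable by algebraic spaces has monomorphic diagonal) this characterises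
representability by the first diagonal. -/
theorem result
    (S : Scheme.{u}) (𝒳 : AlgSt.Cat S) (𝒴 : AlgSt.Cat S)
    (h𝒳 : AlgSt.IsAlgStack Scheme.fppfPrecoverage 𝒳)
    (h𝒴 : AlgSt.IsAlgStack Scheme.fppfPrecoverage 𝒴)
    (f : 𝒳 ⥤ᵇ 𝒴) :
    AlgSt.IsMono (FibCat.diag f) → AlgSt.RepByAlgSp1 f := by
  open Groth.Agent.StFib in
  intro h
  have := (fullyFaithful_of_isMono h𝒳.isStack.1
    (isFibGrpd_fp h𝒳.isStack.1 h𝒳.isStack.1 h𝒴.isStack.1 f f) (FibCat.diag f) h).1
  exact (faithful_iff_repByAlgSp1 h𝒳 h𝒴 f).1 (faithful_of_full_diag f)

end Groth.Agent.S12978
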