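import Groth.Statements.S1298
import Groth.Agent.FlatMisc.NowhereDenseFib
import Mathlib.AlgebraicGeometry.Fiber
import Mathlib.AlgebraicGeometry.Noetherian
import Mathlib.AlgebraicGeometry.Morphisms.FiniteType

set_option autoImplicit false
universe u
open FlatMor

namespace Groth.Agent.S1298

open AlgebraicGeometry CategoryTheory Limits TopologicalSpace

/-- A closed subset is nowhere dense in a fibre iff each of its points in that fibre is a
specialisation of a point of the fibre outside it. -/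
theorem fibre_nowhereDense {X Y : Scheme.{u}} (f : X ⟶ Y) (y : ↥Y) (Z : Set ↥X) (hZ : IsClosed Z)
    (h : ∀ x, f x = y → x ∈ Z → ∃ x', x' ⤳ x ∧ f x' = y ∧ x' ∉ Z) :
    IsNowhereDense ((f.fiberι y) ⁻¹' Z) := by
  have hc : IsClosed ((f.fiberι y) ⁻¹' Z) := hZ.preimage (f.fiberι y).continuous
  rw [IsNowhereDense, hc.closure_eq, Set.eq_empty_iff_forall_notMem]
  intro w hw
  have hwy : f (f.fiberι y w) = y := by
    have : f.fiberι y w ∈ f ⁻¹' {y} := f.range_fiberι y ▸ Set.mem_range_self w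
    exact this
  obtain ⟨x', hsp, hx', hnZ⟩ := h _ hwy (interior_subset hw :)
  obtain ⟨w', rfl⟩ : x' ∈ Set.range (f.fiberι y) := by
    rw [f.range_fiberι]
    exact hx'
  exact hnZ (interior_subset (s := (f.fiberι y) ⁻¹' Z)
    (((f.fiberι y).isEmbedding.isInducing.specializes_iff.mp hsp).mem_open isOpen_interior hw))


set_option backward.isDefEq.respectTransparency.types false in
open AlgebraicGeometry CategoryTheory Limits in
/-- Let f be of finite type with irreducible target and let Z be a closed subset of the source whose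
trace on the generic fibre is nowhere dense there. Then over some nonempty open of the target every
fibre of Z is nowhere dense in the corresponding fibre of f. -/
theorem result {X Y : Scheme.{u}} (f : X ⟶ Y) [IrreducibleSpace ↑Y] [LocallyOfFiniteType f] [QuasiCompact f]
    (Z : Set ↑X) (hZ : IsClosed Z) (h : IsNowhereDense ((f.fiberι (genericPoint ↑Y)) ⁻¹' Z)) :
    ∃ V : Y.Opens, (V : Set ↑Y).Nonempty ∧ ∀ y ∈ V, IsNowhereDense ((f.fiberι y) ⁻¹' Z) := by
  set η := genericPoint ↑Y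
  -- a neighbourhood
  obtain ⟨_, ⟨V, hV, rfl⟩, hηV, -⟩ :=
    Y.isBasis_affineOpens.exists_subset_of_mem_open (Set.mem_univ η) isOpen_univ
  replace hV : IsAffineOpen V := hV
  obtain ⟨a₀, ha₀⟩ : ∃ a₀ : PrimeSpectrum Γ(Y, V), hV.fromSpec a₀ = η := by
    have : η ∈ Set.range hV.fromSpec := by rw [hV.range_fromSpec]; exact hηV
    exact this
  have hP : a₀.asIdeal ≤ nilradical Γ(Y, V) := by
    rw [nilradical_eq_sInf]
    refine le_sInf fun p hp => ?_
    refine (PrimeSpectrum.le_iff_specializes a₀ ⟨p, hp⟩).mpr ?_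
    refine hV.fromSpec.isOpenEmbedding.isInducing.specializes_iff.mp ?_
    rw [ha₀]
    exact genericPoint_specializes _
  -- the hypothesis: points of the generic fibre on `Z` generalize out of `Z`
  have hgenpt : ∀ x : ↥X, f x = η → x ∈ Z → ∃ x', x' ⤳ x ∧ f x' = η ∧ x' ∉ Z := by
    intro x hx hxZ
    obtain ⟨w, rfl⟩ : x ∈ Set.range (f.fiberι η) := by rw [f.range_fiberι]; exact hx
    have : LocallyOfFiniteType (f.fiberToSpecResidueField η) :=
      MorphismProperty.pullback_snd f _ ‹LocallyOfFiniteType f›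
    have : IsLocallyNoetherian (f.fiber η) :=
      LocallyOfFiniteType.isLocallyNoetherian (f.fiberToSpecResidueField η)
    have : AlgebraicGeometry.IsNoetherian (f.fiber η) := {}
    obtain ⟨c, hc, hwc⟩ : ∃ c ∈ irreducibleComponents ↥(f.fiber η), w ∈ c :=
      ⟨irreducibleComponent w, irreducibleComponent_mem_irreducibleComponents w, mem_irreducibleComponent⟩
    obtain ⟨o, ho, hone, hoc⟩ : ∃ o : Set ↥(f.fiber η), IsOpen o ∧ o.Nonempty ∧ o ⊆ c := by
      have hfin : (irreducibleComponents ↥(f.fiber η) \ {c}).Finite :=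
        NoetherianSpace.finite_irreducibleComponents.subset Set.sdiff_subset
      refine ⟨(⋃₀ (irreducibleComponents ↥(f.fiber η) \ {c}))ᶜ, ?_, ?_, ?_⟩
      · rw [isOpen_compl_iff, Set.sUnion_eq_biUnion]
        exact hfin.isClosed_biUnion fun c' hc' => isClosed_of_mem_irreducibleComponents c' hc'.1
      · rw [Set.nonempty_compl]
        intro hall
        obtain ⟨t, ht, hct⟩ := isIrreducible_iff_sUnion_isClosed.mp hc.1 hfin.toFinset
          (fun z hz => isClosed_of_mem_irreducibleComponents z ((hfin.mem_toFinset.mp hz).1))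
          (by rw [hfin.coe_toFinset, hall]; exact Set.subset_univ _)
        have ht' := hfin.mem_toFinset.mp ht
        exact ht'.2 (le_antisymm (hc.2 ht'.1.1 hct) hct)
      · intro v hv
        by_contra hvc
        exact hv ⟨irreducibleComponent v, ⟨irreducibleComponent_mem_irreducibleComponents v,
          fun h' => hvc (h' ▸ mem_irreducibleComponent)⟩, mem_irreducibleComponent⟩
    have hci : IsIrreducible c := hc.1
    have hcc : IsClosed c := isClosed_of_mem_irreducibleComponents c hc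
    have hg := hci.isGenericPoint_genericPoint hcc
    set g := hci.genericPoint
    have hgo : g ∈ o := hg.mem_open_set_iff ho |>.mpr (by
      rw [Set.inter_eq_right.mpr hoc]; exact hone)
    refine ⟨f.fiberι η g, (hg.specializes hwc).map (f.fiberι η).continuous, ?_, fun hgZ => ?_⟩
    · have : f.fiberι η g ∈ f ⁻¹' {η} := f.range_fiberι η ▸ Set.mem_range_self g
      exact this
    · have hcl : IsClosed ((f.fiberι η) ⁻¹' Z) := hZ.preimage (f.fiberι η).continuous
      have hsub : o ⊆ (f.fiberι η) ⁻¹' Z := fun v hv =>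
        (hg.specializes (hoc hv)).mem_closed hcl hgZ
      rw [IsNowhereDense, hcl.closure_eq] at h
      exact Set.Nonempty.ne_empty ⟨g, interior_maximal hsub ho hgo⟩ h
  -- the affine pieces
  obtain ⟨s, hs, hcov⟩ := isCompact_iff_finite_and_eq_biUnion_affineOpens.mp
    (f.isCompact_preimage hV.isCompact : IsCompact ((f ⁻¹ᵁ V : X.Opens) : Set X))
  have key : ∀ U ∈ s, ∃ g : Γ(Y, V), g ∉ a₀.asIdeal ∧ ∀ x : ↥X, x ∈ (U : X.Opens) →
      f x ∈ Y.basicOpen g → x ∈ Z → ∃ x', x' ⤳ x ∧ f x' = f x ∧ x' ∉ Z := by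
    intro U hU
    have hU2 : IsAffineOpen (U : X.Opens) := U.2
    have e : (U : X.Opens) ≤ f ⁻¹ᵁ V :=
      hcov.symm ▸ le_iSup₂_of_le (f := fun (i : X.affineOpens) (_ : i ∈ s) => (i : X.Opens)) U hU le_rfl
    algebraize [(f.appLE V U e).hom]
    have : Algebra.FiniteType Γ(Y, V) Γ(X, U) := f.finiteType_appLE hV hU2 e
    have hcomm : ∀ b : PrimeSpectrum Γ(X, U),
        f (hU2.fromSpec b) = hV.fromSpec (PrimeSpectrum.comap (algebraMap Γ(Y, V) Γ(X, U)) b) := by
      intro b
      exact (congr($(IsAffineOpen.SpecMap_appLE_fromSpec f hV hU2 e) b)).symm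
    obtain ⟨J, hJ⟩ : ∃ J : Ideal Γ(X, U), PrimeSpectrum.zeroLocus (J : Set Γ(X, U)) =
        hU2.fromSpec ⁻¹' Z := by
      obtain ⟨J, hJ⟩ := (PrimeSpectrum.isClosed_iff_zeroLocus_ideal _).mp
        (hZ.preimage hU2.fromSpec.continuous)
      exact ⟨J, hJ.symm⟩
    have hmem : ∀ b : PrimeSpectrum Γ(X, U), J ≤ b.asIdeal ↔ hU2.fromSpec b ∈ Z := fun b => by
      show _ ↔ b ∈ hU2.fromSpec ⁻¹' Z
      rw [← hJ]
      exact (PrimeSpectrum.mem_zeroLocus b _).symm
    have hlift : ∀ (b : PrimeSpectrum Γ(X, U)) (x' : ↥X), x' ⤳ hU2.fromSpec b →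
        ∃ b' : PrimeSpectrum Γ(X, U), b'.asIdeal ≤ b.asIdeal ∧ hU2.fromSpec b' = x' := by
      intro b x' hsp
      obtain ⟨b', rfl⟩ := hsp.mem_open hU2.fromSpec.isOpenEmbedding.isOpen_range ⟨b, rfl⟩
      exact ⟨b', (PrimeSpectrum.le_iff_specializes b' b).mpr
        (hU2.fromSpec.isOpenEmbedding.isInducing.specializes_iff.mp hsp), rfl⟩
    obtain ⟨g, hg, hG⟩ := Groth.Agent.FlatMisc.NowhereDenseFib.exists_avoid' a₀.asIdeal hP J
      fun q hq hc hJq => by
        have h1 : f (hU2.fromSpec ⟨q, hq⟩) = η := by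
          rw [hcomm, ← ha₀]
          exact congrArg _ (PrimeSpectrum.ext hc)
        obtain ⟨x', hsp, hx', hnZ⟩ := hgenpt _ h1 ((hmem ⟨q, hq⟩).mp hJq)
        obtain ⟨b', hle, rfl⟩ := hlift ⟨q, hq⟩ x' hsp
        refine ⟨b'.asIdeal, b'.2, hle, ?_, fun hJb => hnZ ((hmem b').mp hJb)⟩
        rw [hcomm, ← ha₀] at hx'
        exact congrArg PrimeSpectrum.asIdeal (hV.fromSpec.isOpenEmbedding.injective hx')
    refine ⟨g, hg, fun x hxU hfx hxZ => ?_⟩
    obtain ⟨b, rfl⟩ : x ∈ Set.range hU2.fromSpec := by rw [hU2.range_fromSpec]; exact hxU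
    have hgb : algebraMap Γ(Y, V) Γ(X, U) g ∉ b.asIdeal := by
      have : PrimeSpectrum.comap (algebraMap Γ(Y, V) Γ(X, U)) b ∈
          hV.fromSpec ⁻¹ᵁ Y.basicOpen g := by
        show hV.fromSpec _ ∈ Y.basicOpen g
        exact (hcomm b) ▸ hfx
      rw [hV.fromSpec_preimage_basicOpen] at this
      exact this
    obtain ⟨q', hq', hle, hc, hJ'⟩ := hG b.asIdeal b.2 hgb ((hmem b).mpr hxZ)
    refine ⟨hU2.fromSpec ⟨q', hq'⟩,
      ((PrimeSpectrum.le_iff_specializes ⟨q', hq'⟩ b).mp hle).map hU2.fromSpec.continuous, ?_,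
      fun hx' => hJ' ((hmem ⟨q', hq'⟩).mpr hx')⟩
    exact (hcomm ⟨q', hq'⟩).trans ((congrArg hV.fromSpec (PrimeSpectrum.ext hc)).trans (hcomm b).symm)
  choose! g hg hG using key
  obtain ⟨s', rfl⟩ : ∃ s' : Finset X.affineOpens, s = s' := ⟨hs.toFinset, by simp⟩
  refine ⟨Y.basicOpen (∏ U ∈ s', g U), ⟨η, ?_⟩, fun y hy => fibre_nowhereDense f y Z hZ fun x hx hxZ => ?_⟩
  · have : a₀ ∈ hV.fromSpec ⁻¹ᵁ Y.basicOpen (∏ U ∈ s', g U) := by
      rw [hV.fromSpec_preimage_basicOpen]
      intro hm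
      obtain ⟨U, hU, hU'⟩ := a₀.2.prod_mem_iff.mp hm
      exact hg U hU hU'
    rw [← ha₀]
    exact this
  · have hxV : x ∈ f ⁻¹ᵁ V := by
      show f x ∈ V
      rw [hx]
      exact Y.basicOpen_le _ hy
    rw [hcov] at hxV
    simp only [Opens.mem_iSup] at hxV
    obtain ⟨U, hU, hxU⟩ := hxV
    subst hx
    refine hG U hU x hxU ?_ hxZ
    have h3 : Y.basicOpen (∏ U ∈ s', g U) ≤ Y.basicOpen (g U) := by
      classical
      rw [← Finset.mul_prod_erase _ _ (Finset.mem_coe.mp hU), Scheme.basicOpen_mul]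
      exact inf_le_left
    exact h3 hy

end Groth.Agent.S1298
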