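import Groth.Statements.S1368
import Groth.Agent.Wt.RelAssGeneric

set_option autoImplicit false
universe u
open FlatMor

namespace Groth.Agent.S1368

open AlgebraicGeometry CategoryTheory Limits in
/-- Let f be of finite type with irreducible target, F a quasi-coherent module of finite type on the
source and U an open of the source. If the associated points of F restricted to the generic fibre
all lie in U, then over some nonempty open of the target the associated points of F restricted to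
every fibre lie in U. -/
theorem result {X Y : Scheme.{u}} (f : X ⟶ Y) [IrreducibleSpace ↑Y] [LocallyOfFiniteType f] [QuasiCompact f]
    (F : X.Modules) (hF : Coh.IsCoh F) (U : X.Opens)
    (h : ∀ x ∈ MoreMor.relAss f F, f x = genericPoint ↑Y → x ∈ U) :
    ∃ V : Y.Opens, (V : Set ↑Y).Nonempty ∧ ∀ x ∈ MoreMor.relAss f F, f x ∈ V → x ∈ U := by
  obtain ⟨_, ⟨W, hW, rfl⟩, hη, -⟩ := Y.isBasis_affineOpens.exists_subset_of_mem_open
    (Set.mem_univ (genericPoint ↑Y)) isOpen_univ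
  have := hF.1
  have hc : IsCompact ((f ⁻¹ᵁ W : X.Opens) : Set ↑X) := f.isCompact_preimage hW.isCompact
  obtain ⟨s, hs, hcover⟩ := (TopologicalSpace.Opens.isBasis_iff_cover.mp X.isBasis_affineOpens) (f ⁻¹ᵁ W)
  have hsV : ∀ V ∈ s, V ≤ f ⁻¹ᵁ W := fun V hV => hcover ▸ le_sSup hV
  choose a haη ha using fun V : s => Groth.Agent.Wt.RelAssRing.exists_forall_relAss_mem f F hW
    (V := V.1) (hs V.2) hF U hη h (hsV V.1 V.2)
  obtain ⟨t, ht⟩ := hc.elim_finite_subcover (fun V : s => (V.1 : Set ↑X)) (fun V => V.1.2) (by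
    intro x hx
    have : x ∈ sSup s := hcover ▸ hx
    obtain ⟨V, hV, hxV⟩ := TopologicalSpace.Opens.mem_sSup.mp this
    exact Set.mem_iUnion.mpr ⟨⟨V, hV⟩, hxV⟩)
  refine ⟨Y.basicOpen (∏ V ∈ t, a V) ⊓ W, ⟨genericPoint ↑Y, ?_, hη⟩, fun x hxA hfx => ?_⟩
  · refine (Groth.Agent.AssSch.Stalk.mem_basicOpen_iff hW _ hη _).mpr fun hmem => ?_
    obtain ⟨V, -, hV⟩ := Ideal.IsPrime.prod_mem_iff.mp hmem
    exact (Groth.Agent.AssSch.Stalk.mem_basicOpen_iff hW _ hη _).mp (haη V) hV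
  · obtain ⟨V, hVt, hxV⟩ := Set.mem_iUnion₂.mp (ht (show x ∈ f ⁻¹' (W : Set ↑Y) from hfx.2))
    refine ha V x hxV hxA ((Groth.Agent.AssSch.Stalk.mem_basicOpen_iff hW _ hfx.2 _).mpr fun hV => ?_)
    exact (Groth.Agent.AssSch.Stalk.mem_basicOpen_iff hW _ hfx.2 _).mp hfx.1
      (Ideal.IsPrime.prod_mem_iff.mpr ⟨V, hVt, hV⟩)

end Groth.Agent.S1368
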