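import Groth.Statements.S1699
import Groth.Agent.WeakAssSch.Unit

set_option autoImplicit false
universe u
open CategoryTheory CategoryTheory.Limits AlgebraicGeometry TopologicalSpace
open SDiv

namespace Groth.Agent.S1699

/-- (1) if and only if (3): let X be a locally Noetherian scheme and U an open subscheme. Then U is
scheme-theoretically dense in X if and only if U contains every associated point of X (every point
whose local ring has its maximal ideal as an associated prime). -/
theorem result (X : Scheme.{u}) [IsLocallyNoetherian X] (U : X.Opens) :
    CInt.IsSchematicallyDense U ↔ ∀ x : ↥X, IsAssociatedPrime (IsLocalRing.maximalIdeal ↑(X.presheaf.stalk x)) ↑(X.presheaf.stalk x) → x ∈ U := by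
  have := WeakAssSch.isQuasicoherent_unit X
  simp only [← WeakAssSch.isWeakAssPoint_unit_iff_isAssociatedPrime]
  constructor
  · intro hU x hx
    by_contra hxU
    obtain ⟨W, hxW, m, hne, hzero⟩ :=
      WeakAssSch.exists_basicOpen_germ_eq_zero (Coh.structureModule X) hx
    have hm0 : m = 0 := by
      refine hU W ((WeakAssSch.section_eq_zero_of_germ (Coh.structureModule X)
        ((Coh.structureModule X).presheaf.map (homOfLE (inf_le_left : W ⊓ U ≤ W)).op m)
        fun y hy => ?_).trans (map_zero _).symm)
      exact ((Coh.structureModule X).presheaf.germ_res_apply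
        (homOfLE (inf_le_left : W ⊓ U ≤ W)) y hy m).trans
        (hzero y hy.1 fun hs => hxU (hs.mem_open U.2 hy.2))
    rw [hm0] at hne
    exact hne (map_zero ((Coh.structureModule X).presheaf.germ W x hxW).hom)
  · intro h V a b hab
    exact WeakAssSch.restrict_injective (Coh.structureModule X) inf_le_left
      (fun x hx hwa => ⟨hx, h x hwa⟩) hab

end Groth.Agent.S1699
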