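import Groth.Statements.S1300
import Groth.Agent.S1368
import Groth.Agent.S1699
import Groth.Agent.AssSch.TensorFlat
import Groth.Agent.AssSch.Quot
import Groth.Agent.WeakAssSch.Unit
import Groth.Agent.QCoh.Pullback
import Groth.Agent.ProperFin.Supp
import Groth.Agent.FlatMor.SchDom

set_option autoImplicit false
universe u
open FlatMor

namespace Groth.Agent.S1300

open AlgebraicGeometry CategoryTheory Limits TopologicalSpace

set_option backward.isDefEq.respectTransparency.types false in
theorem locallyOfFiniteType_fibre {X Y : Scheme.{u}} (f : X ⟶ Y) [LocallyOfFiniteType f] (y : Y) :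
    LocallyOfFiniteType (f.fiberToSpecResidueField y) :=
  MorphismProperty.pullback_snd f _ ‹LocallyOfFiniteType f›

theorem dense_iff_dominant {X : Scheme.{u}} [IsLocallyNoetherian X] (V : X.Opens) :
    CInt.IsSchematicallyDense V ↔ IsSchemeTheoreticallyDominant V.ι := by
  constructor
  · intro hV
    refine ⟨le_bot_iff.1 fun W => ?_⟩
    intro s hs
    have h1 : V.ι.app W.1 s = 0 := V.ι.ideal_ker_le W hs
    rw [Scheme.IdealSheafData.ideal_bot, Pi.bot_apply, Ideal.mem_bot]
    apply hV W.1
    rw [map_zero]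
    rw [Scheme.Opens.ι_app] at h1
    have h2 : (W.1 : X.Opens) ⊓ V ≤ V.ι ''ᵁ V.ι ⁻¹ᵁ W.1 := by
      rw [V.ι.image_preimage_eq_opensRange_inf, Scheme.Opens.opensRange_ι, inf_comm]
    have h3 := (congrArg (X.presheaf.map (homOfLE h2).op) h1).trans (map_zero (X.presheaf.map (homOfLE h2).op).hom)
    change X.presheaf.map _ s = 0
    refine Eq.trans ?_ h3
    change _ = (X.presheaf.map _ ≫ X.presheaf.map _) s
    rw [← Functor.map_comp]
    rfl
  · intro _ W
    refine (injective_iff_map_eq_zero _).mpr fun a ha => ?_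
    refine FlatMor.SchDom.app_injective' V.ι (Or.inl inferInstance) W ?_
    rw [map_zero, Scheme.Opens.ι_app]
    change X.presheaf.map _ a = 0
    have h2 : V.ι ''ᵁ V.ι ⁻¹ᵁ W ≤ W ⊓ V := by
      rw [V.ι.image_preimage_eq_opensRange_inf, Scheme.Opens.opensRange_ι, inf_comm]
    have h3 := (congrArg (X.presheaf.map (homOfLE h2).op) ha).trans (map_zero (X.presheaf.map (homOfLE h2).op).hom)
    refine Eq.trans ?_ h3
    change _ = (X.presheaf.map _ ≫ X.presheaf.map _) a
    rw [← Functor.map_comp]
    rfl

theorem dominant_fibre_iff {X Y : Scheme.{u}} (f : X ⟶ Y) [LocallyOfFiniteType f] (U : X.Opens)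
    (y : Y) : IsSchemeTheoreticallyDominant (f.fiberι y ⁻¹ᵁ U).ι ↔
      ∀ x ∈ MoreMor.relAss f (Coh.structureModule X), f x = y → x ∈ U := by
  have := locallyOfFiniteType_fibre f y
  have : IsLocallyNoetherian (f.fiber y) :=
    LocallyOfFiniteType.isLocallyNoetherian (f.fiberToSpecResidueField y)
  have key : ∀ z : f.fiber y, f.fiberι y z ∈ MoreMor.relAss f (Coh.structureModule X) ↔
      IsAssociatedPrime (IsLocalRing.maximalIdeal ((f.fiber y).presheaf.stalk z))
        ((f.fiber y).presheaf.stalk z) := fun z => by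
    rw [← WeakAssSch.isWeakAssPoint_unit_iff_isAssociatedPrime,
      ← WeakAssSch.isAssPoint_iff_isWeakAssPoint]
    let e : (Scheme.Modules.pullback (f.fiberι y)).obj (Coh.structureModule X) ≅
      Coh.structureModule (f.fiber y) := QCoh.pullbackUnitIso (f.fiberι y)
    exact (AssSch.TensorFlat.mem_ass_fibre_iff f (Coh.structureModule X) y z).symm.trans
      ⟨fun h => AssSch.Quot.ass_subset_of_mono e.hom h, fun h => AssSch.Quot.ass_subset_of_mono e.inv h⟩
  rw [← dense_iff_dominant, S1699.result]
  constructor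
  · intro h x hx hxy
    obtain ⟨z, rfl⟩ : x ∈ Set.range (f.fiberι y) := by rw [f.range_fiberι]; exact hxy
    exact h z ((key z).1 hx)
  · intro h z hz
    have hzy : f (f.fiberι y z) = y := by
      have : f.fiberι y z ∈ f ⁻¹' {y} := f.range_fiberι y ▸ Set.mem_range_self z
      exact this
    exact h _ ((key z).2 hz) hzy

open AlgebraicGeometry CategoryTheory Limits in
/-- Let f be of finite type with irreducible target and let U be an open of the source whose trace on
the generic fibre is scheme theoretically dense in it (the inclusion has trivial kernel ideal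
sheaf). Then over some nonempty open of the target the trace of U on every fibre is scheme
theoretically dense in that fibre. -/
theorem result {X Y : Scheme.{u}} (f : X ⟶ Y) [IrreducibleSpace ↑Y] [LocallyOfFiniteType f] [QuasiCompact f]
    (U : X.Opens) (h : IsSchemeTheoreticallyDominant (f.fiberι (genericPoint ↑Y) ⁻¹ᵁ U).ι) :
    ∃ V : Y.Opens, (V : Set ↑Y).Nonempty ∧ ∀ y ∈ V, IsSchemeTheoreticallyDominant (f.fiberι y ⁻¹ᵁ U).ι := by
  obtain ⟨V, hV, h'⟩ := S1368.result f (Coh.structureModule X) (ProperFin.isCoh_structureModule X) U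
    ((dominant_fibre_iff f U (genericPoint ↑Y)).1 h)
  exact ⟨V, hV, fun y hy => (dominant_fibre_iff f U y).2 fun x hx hxy => h' x hx (hxy ▸ hy)⟩

end Groth.Agent.S1300
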