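import Groth.Statements.S13000
import Groth.Agent.StFib.LocQDescent
import Groth.Agent.StFib.DiagLft

set_option autoImplicit false
set_option backward.isDefEq.respectTransparency false
set_option backward.isDefEq.respectTransparency.types false
universe u
open CategoryTheory AlgebraicGeometry
open AlgSt

namespace Groth.Agent.S13000

/-- Let f : 𝒳 → 𝒴 be a morphism of algebraic stacks and W → 𝒴 a surjective, flat, locally finitely
presented morphism whose source is an algebraic space. Whenever the projection to W from W ×_𝒴 𝒳 is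
locally of finite type, so is f. -/
theorem result
    (S : Scheme.{u}) (𝒳 : AlgSt.Cat S) (𝒴 : AlgSt.Cat S)
    (h𝒳 : AlgSt.IsAlgStack Scheme.fppfPrecoverage 𝒳)
    (h𝒴 : AlgSt.IsAlgStack Scheme.fppfPrecoverage 𝒴)
    (f : 𝒳 ⥤ᵇ 𝒴)
    (W : AlgSp.Space S) (w : AlgSt.ofSp W.obj ⥤ᵇ 𝒴)
    (hw₁ : AlgSt.RepByAlgSpWith (AlgSp.LocP @Flat) w)
    (hw₂ : AlgSt.RepByAlgSpWith (AlgSp.LocP @LocallyOfFinitePresentation) w)
    (hw₃ : AlgSt.RepByAlgSpWith AlgSp.IsSurjectiveMor w) :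
    AlgSt.LocQ (AlgSp.LocP @LocallyOfFiniteType) (FibCat.fpFst w f) → AlgSt.LocQ (AlgSp.LocP @LocallyOfFiniteType) f := by
  have hW := Groth.Agent.StFib.isAlgStack_of_repByAlgSp (Groth.Agent.StFib.repByAlgSp_ofSp W.property)
  exact Groth.Agent.StFib.locQ_of_fppf _ (Groth.Agent.StFib.isSmoothLocalST_locP Groth.Agent.StFib.smoothLocalProp_lft) Groth.Agent.StFib.fppfLocal_lft h𝒳 h𝒴 hW
    (Groth.Agent.StFib.locQ_of_repByAlgSpWith (Groth.Agent.StFib.isSmoothLocalST_locP Groth.Agent.StFib.smoothLocalProp_flat) hW h𝒴 hw₁)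
    (Groth.Agent.StFib.locQ_of_repByAlgSpWith (Groth.Agent.StFib.isSmoothLocalST_locP Groth.Agent.StFib.smoothLocalProp_lfp) hW h𝒴 hw₂)
    ((Groth.Agent.StFib.isSurjective_iff_rep hW h𝒴 (Groth.Agent.StFib.repByAlgSp1_of_with hw₁)).2 hw₃)

end Groth.Agent.S13000
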