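import Groth.Statements.S13007
import Groth.Agent.StFib.LocQDescent
import Groth.Agent.StFib.LocQMore
import Groth.Agent.StFib.RepPoints
import Groth.Agent.GrpdLib.FppfSourceDescentScheme

set_option autoImplicit false
set_option backward.isDefEq.respectTransparency false
set_option backward.isDefEq.respectTransparency.types false
universe u
open CategoryTheory AlgebraicGeometry
open AlgSt

namespace Groth.Agent.S13007

/-- Let 𝒳 → 𝒴 → 𝒵 be morphisms of algebraic stacks with 𝒳 → 𝒵 locally of finite presentation and 𝒳 → 𝒴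
flat, surjective and locally of finite presentation. In that case 𝒴 → 𝒵 is locally of finite
presentation as well. -/
theorem result
    (S : Scheme.{u}) (𝒳 : AlgSt.Cat S) (𝒴 : AlgSt.Cat S) (𝒵 : AlgSt.Cat S)
    (h𝒳 : AlgSt.IsAlgStack Scheme.fppfPrecoverage 𝒳)
    (h𝒴 : AlgSt.IsAlgStack Scheme.fppfPrecoverage 𝒴)
    (h𝒵 : AlgSt.IsAlgStack Scheme.fppfPrecoverage 𝒵)
    (f : 𝒳 ⥤ᵇ 𝒴) (g : 𝒴 ⥤ᵇ 𝒵)
    (hf₁ : AlgSt.LocQ (AlgSp.LocP @Flat) f) (hf₂ : AlgSt.LocQ (AlgSp.LocP @LocallyOfFinitePresentation) f) (hf₃ : AlgSt.IsSurjective f) :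
    AlgSt.LocQ (AlgSp.LocP @LocallyOfFinitePresentation) (BasedFunctor.comp f g) → AlgSt.LocQ (AlgSp.LocP @LocallyOfFinitePresentation) g := by
  intro hfg
  obtain ⟨W, z, hz, hzs⟩ := h𝒵.atlas
  obtain ⟨U, V, x, y, h₁, h₂, α, β, hx, hxs, hy, hys, hsur, h1, -, h12⟩ :=
    Groth.Agent.StFib.exists_comp_square h𝒳 h𝒴 h𝒵 f g hz hzs
  refine ⟨V, W, y, z, h₂, β, hy, hys, hz, Groth.Agent.StFib.locP_of_scheme_mem Groth.Agent.StFib.smoothLocalProp_lfp ?_⟩
  have : Flat h₁.left := Groth.Agent.StFib.scheme_mem_of_locP (h1 _ (Groth.Agent.StFib.isSmoothLocalST_locP Groth.Agent.StFib.smoothLocalProp_flat) hf₁)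
  have : LocallyOfFinitePresentation h₁.left := Groth.Agent.StFib.scheme_mem_of_locP (h1 _ (Groth.Agent.StFib.isSmoothLocalST_locP Groth.Agent.StFib.smoothLocalProp_lfp) hf₂)
  have : LocallyOfFinitePresentation (h₁.left ≫ h₂.left) :=
    Groth.Agent.StFib.scheme_mem_of_locP (h12 _ (Groth.Agent.StFib.isSmoothLocalST_locP Groth.Agent.StFib.smoothLocalProp_lfp) hfg)
  have := hsur hf₃
  exact GrpdLib.FppfSourceDescent.locallyOfFinitePresentation_of_comp_fppf h₁.left h₂.left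

end Groth.Agent.S13007
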