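import Groth.Statements.S13035
import Groth.Agent.StFib.LocQMore
import Groth.Agent.StFib.LocQDescent
import Groth.Agent.StFib.FppfLift
import Groth.Agent.StFib.Compact
import Groth.Agent.StFib.RepPoints
import Groth.Agent.SubtrLib.Basic

set_option autoImplicit false
set_option backward.isDefEq.respectTransparency false
set_option backward.isDefEq.respectTransparency.types false
universe u
open CategoryTheory AlgebraicGeometry
open AlgSt

namespace Groth.Agent.S13035

/-- Let f : 𝒳 → 𝒴 be a flat morphism of algebraic stacks and Spec A → 𝒴 a morphism with A a valuation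
ring whose closed point maps into the image of |𝒳| → |𝒴|. Then there are an extension of valuation
rings A → A' (an injective local homomorphism of valuation rings) and a morphism Spec A' → 𝒳 making
the square with Spec A' → Spec A → 𝒴 2-commute. -/
theorem result
    (S : Scheme.{u}) (𝒳 : AlgSt.Cat S) (𝒴 : AlgSt.Cat S)
    (h𝒳 : AlgSt.IsAlgStack Scheme.fppfPrecoverage 𝒳)
    (h𝒴 : AlgSt.IsAlgStack Scheme.fppfPrecoverage 𝒴)
    (f : 𝒳 ⥤ᵇ 𝒴)
    (hf : AlgSt.LocQ (AlgSp.LocP @Flat) f)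
    (A : Type u) [CommRing A] [IsDomain A] [ValuationRing A] (sA : Spec (CommRingCat.of A) ⟶ S)
    (a : FibCat.overCat (Over.mk sA) ⥤ᵇ 𝒴)
    (ha : AlgSt.Points.ofChart a (IsLocalRing.closedPoint A) ∈ Set.range (AlgSt.Points.map f)) :
    ∃ (A' : Type u) (_ : CommRing A') (_ : IsDomain A') (_ : ValuationRing A') (φ : A →+* A'),
      Function.Injective φ ∧ IsLocalHom φ ∧
      ∃ x : FibCat.overCat (Over.mk (Spec.map (CommRingCat.ofHom φ) ≫ sA)) ⥤ᵇ 𝒳,
        Nonempty (BasedFunctor.comp x f ≅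
          BasedFunctor.comp (AlgSt.overMap (Over.homMk (Spec.map (CommRingCat.ofHom φ)) rfl :
            Over.mk (Spec.map (CommRingCat.ofHom φ) ≫ sA) ⟶ Over.mk sA)) a) := by
  have h𝒜 : AlgSt.IsAlgStack Scheme.fppfPrecoverage (FibCat.overCat (Over.mk sA)) :=
    Groth.Agent.StFib.isAlgStack_of_repByAlgSp (Groth.Agent.StFib.repByAlgSp_overCat _)
  have hst := Groth.Agent.StFib.isSmoothLocalST_locP (S := S) Groth.Agent.StFib.smoothLocalProp_flat
  have hQ := Groth.Agent.StFib.locQ_fpFst hst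
    (Groth.Agent.StFib.good_locP Groth.Agent.AlgSpCov.standard_flat).bc h𝒳 h𝒴 h𝒜 a hf
  have hW := Groth.Agent.StFib.isAlgStack_fp h𝒴.isStack h𝒴.diag h𝒜 h𝒳 a f
  have hy : AlgSt.RepByAlgSpWith (AlgSp.LocP @Smooth) (AlgSt.overMap (𝟙 (Over.mk sA))) :=
    Groth.Agent.StFib.repByAlgSpWith_overMap_locP Groth.Agent.AlgSpCov.standard_smooth _
      (inferInstanceAs (Smooth (𝟙 (Spec (CommRingCat.of A)))))
  obtain ⟨U, x, h, α, hx, -, hl, hls⟩ :=
    Groth.Agent.StFib.exists_smooth_square hW h𝒜 (FibCat.fpFst a f) hy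
  have : Flat h.left := Groth.Agent.StFib.scheme_mem_of_locP
    (Groth.Agent.StFib.mem_of_locQ hst hW h𝒜 hQ α hy hl)
  obtain ⟨Q, hQf⟩ := ha
  obtain ⟨R, hR, -⟩ := Groth.Agent.StFib.exists_points_fp_of_map_eq h𝒳.isStack.1
    (Groth.Agent.StFib.isFibGrpd_overCat _) h𝒴.isStack.1 f a
    (AlgSt.Points.ofChart (BasedFunctor.id _) (IsLocalRing.closedPoint A)) Q
    (by rw [hQf]; exact (Groth.Agent.StFib.ofChart_eq_map a _).symm)
  have hcp : AlgSt.Points.ofChart (AlgSt.overMap (𝟙 (Over.mk sA))) (IsLocalRing.closedPoint A) =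
      AlgSt.Points.ofChart (BasedFunctor.id _) (IsLocalRing.closedPoint A) :=
    (Groth.Agent.StFib.ofChart_overMap (BasedFunctor.id _) (𝟙 (Over.mk sA)) _)
  obtain ⟨u, hu⟩ := Groth.Agent.StFib.mem_range_of_square hW h𝒜 α hls (IsLocalRing.closedPoint A)
    ⟨R, hR.trans hcp.symm⟩
  let g₀ := Groth.Agent.SubtrLib.gen A
  obtain ⟨u', hu', hu'g⟩ := Flat.generalizingMap h.left
    (show g₀ ⤳ h.left u by rw [hu]; exact Groth.Agent.SubtrLib.gen_specializes (V := A) _)
  obtain ⟨B, _, _, _, g, hgc, hgg⟩ := Groth.Agent.SubtrLib.exists_valuationRing_of_specializes hu'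
  let φ : A →+* B := (Spec.preimage (g ≫ h.left)).hom
  have hφ : Spec.map (CommRingCat.ofHom φ) = g ≫ h.left := Spec.map_preimage (g ≫ h.left)
  have e₁ : Spec.map (CommRingCat.ofHom φ) (Groth.Agent.SubtrLib.gen B) = g₀ := by
    rw [hφ, Scheme.Hom.comp_apply, hgg]
    exact hu'g
  have e₂ : Spec.map (CommRingCat.ofHom φ) (IsLocalRing.closedPoint B) = IsLocalRing.closedPoint A := by
    rw [hφ, Scheme.Hom.comp_apply, hgc]
    exact hu
  refine ⟨B, inferInstance, inferInstance, inferInstance, φ, ?_, ?_, ?_⟩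
  · rw [RingHom.injective_iff_ker_eq_bot]
    exact congrArg PrimeSpectrum.asIdeal e₁
  · exact ((IsLocalRing.local_hom_TFAE φ).out 0 4).2 (congrArg PrimeSpectrum.asIdeal e₂)
  let s : Over.mk (Spec.map (CommRingCat.ofHom φ) ≫ sA) ⟶ Over.mk sA :=
    Over.homMk (Spec.map (CommRingCat.ofHom φ)) rfl
  let k : Over.mk (Spec.map (CommRingCat.ofHom φ) ≫ sA) ⟶ U := Over.homMk g (by
    change g ≫ U.hom = Spec.map (CommRingCat.ofHom φ) ≫ sA
    rw [hφ, Category.assoc]
    exact congrArg (g ≫ ·) (Over.w h).symm)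
  have hk : (k ≫ h) ≫ 𝟙 (Over.mk sA) = s :=
    (Category.comp_id _).trans (Over.OverMorphism.ext hφ.symm)
  refine ⟨BasedFunctor.comp (BasedFunctor.comp (AlgSt.overMap k) x) (FibCat.fpSnd a f), ⟨?_⟩⟩
  exact Groth.Agent.StFib.isoWhiskerLeft (BasedFunctor.comp (AlgSt.overMap k) x) (FibCat.fpIso a f).symm ≪≫
    Groth.Agent.StFib.isoWhiskerRight
      (Groth.Agent.StFib.isoWhiskerLeft (AlgSt.overMap k) α ≪≫
        Groth.Agent.StFib.isoWhiskerRight (Groth.Agent.StFib.overMapCompIso k h).symm (AlgSt.overMap (𝟙 _)) ≪≫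
        (Groth.Agent.StFib.overMapCompIso (k ≫ h) (𝟙 _)).symm ≪≫
        eqToIso (congrArg AlgSt.overMap hk)) a

end Groth.Agent.S13035
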