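import Groth.Statements.S13036
import Groth.Agent.StFib.LocQDescent
import Groth.Agent.StFib.Compact
import Groth.Agent.StFib.QC
import Groth.Agent.SubtrLib.Basic

set_option autoImplicit false
set_option backward.isDefEq.respectTransparency false
set_option backward.isDefEq.respectTransparency.types false
universe u
open CategoryTheory AlgebraicGeometry
open AlgSt

namespace Groth.Agent.S13036

/-- Let f : 𝒳 → 𝒴 be a quasi-compact morphism of algebraic stacks and y a point of |𝒴| in the closure of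
the image of |f|. Then there are a valuation ring A with fraction field K and a 2-commutative square
Spec K → 𝒳, Spec A → 𝒴 (over Spec K → Spec A and f) such that the closed point of Spec A maps to y. -/
theorem result
    (S : Scheme.{u}) (𝒳 : AlgSt.Cat S) (𝒴 : AlgSt.Cat S)
    (h𝒳 : AlgSt.IsAlgStack Scheme.fppfPrecoverage 𝒳)
    (h𝒴 : AlgSt.IsAlgStack Scheme.fppfPrecoverage 𝒴)
    (f : 𝒳 ⥤ᵇ 𝒴)
    (hf : AlgSt.IsQuasiCompactMor Scheme.fppfPrecoverage f)
    (y : AlgSt.Points 𝒴) (hy : y ∈ closure (Set.range (AlgSt.Points.map f))) :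
    ∃ (A : Type u) (_ : CommRing A) (_ : IsDomain A) (_ : ValuationRing A) (sA : Spec (CommRingCat.of A) ⟶ S)
      (a : FibCat.overCat (Over.mk sA) ⥤ᵇ 𝒴)
      (x : FibCat.overCat (Over.mk (Spec.map (CommRingCat.ofHom (algebraMap A (FractionRing A))) ≫ sA)) ⥤ᵇ 𝒳),
      Nonempty (BasedFunctor.comp x f ≅
        BasedFunctor.comp (AlgSt.overMap (Over.homMk (Spec.map (CommRingCat.ofHom (algebraMap A (FractionRing A)))) rfl :
          Over.mk (Spec.map (CommRingCat.ofHom (algebraMap A (FractionRing A))) ≫ sA) ⟶ Over.mk sA)) a) ∧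
      AlgSt.Points.ofChart a (IsLocalRing.closedPoint A) = y := by
  obtain ⟨V, c, hc, hcs⟩ := h𝒴.atlas
  obtain ⟨v₁, hv₁⟩ := Groth.Agent.StFib.ofChart_surjective h𝒴.isStack.1 hcs y
  obtain ⟨O, hO, hvO, -⟩ := exists_isAffineOpen_mem_and_subset (TopologicalSpace.Opens.mem_top v₁)
  let V' : Over S := Over.mk (O.ι ≫ V.hom)
  let ι : V' ⟶ V := Over.homMk O.ι rfl
  let y' : FibCat.overCat V' ⥤ᵇ 𝒴 := BasedFunctor.comp (AlgSt.overMap ι) c
  let v₀ : ↥V'.left := (⟨v₁, hvO⟩ : O.toScheme)
  have hofy : AlgSt.Points.ofChart y' = AlgSt.Points.ofChart c ∘ ι.left :=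
    funext (Groth.Agent.StFib.ofChart_overMap c ι)
  have hv₀ : AlgSt.Points.ofChart y' v₀ = y := by rw [hofy]; exact hv₁
  have hopen : IsOpenMap (AlgSt.Points.ofChart y') := by
    rw [hofy]
    exact (Groth.Agent.StFib.isOpenMap_ofChart h𝒴 (Groth.Agent.StFib.repByAlgSpWith_flat_of_smooth hc)
      (Groth.Agent.StFib.repByAlgSpWith_lfp_of_smooth hc)).comp O.ι.isOpenEmbedding.isOpenMap
  have hcont : Continuous (AlgSt.Points.ofChart y') := Groth.Agent.StFib.continuous_ofChart h𝒴 y'
  have : IsAffine V'.left := hO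
  have : CompactSpace V'.left := inferInstance
  obtain ⟨U, x, hU, hx, hxs⟩ := hf (FibCat.overCat V') (Groth.Agent.StFib.isAlgStack_overCat V')
    (Groth.Agent.StFib.isQuasiCompact_overCat V') y'
  obtain ⟨h, ⟨ih⟩⟩ := Groth.Agent.StFib.exists_iso_overMap (BasedFunctor.comp x (FibCat.fpFst y' f))
  have hrange : AlgSt.Points.ofChart y' ⁻¹' Set.range (AlgSt.Points.map f) = Set.range h.left := by
    ext v
    constructor
    · rintro ⟨Q, hQ⟩
      obtain ⟨R, hR, -⟩ := Groth.Agent.StFib.exists_points_fp_of_map_eq h𝒳.isStack.1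
        (Groth.Agent.StFib.isFibGrpd_overCat _) h𝒴.isStack.1 f y'
        (AlgSt.Points.ofChart (BasedFunctor.id _) v) Q
        (by rw [hQ]; exact (Groth.Agent.StFib.ofChart_eq_map y' v).symm)
      obtain ⟨u, rfl⟩ := Groth.Agent.StFib.ofChart_surjective (Groth.Agent.StFib.isFibGrpd_fp
        (Groth.Agent.StFib.isFibGrpd_overCat V') h𝒳.isStack.1 h𝒴.isStack.1 y' f) hxs R
      refine ⟨u, ?_⟩
      rw [Groth.Agent.StFib.map_ofChart, Groth.Agent.StFib.ofChart_congr ih] at hR
      have h2 := congrArg Groth.Agent.StFib.ptMap hR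
      rw [Groth.Agent.StFib.ptMap_ofChart_id] at h2
      exact ((congrArg Groth.Agent.StFib.ptMap
        (Groth.Agent.StFib.ofChart_overMap (BasedFunctor.id _) h u)).trans
        (Groth.Agent.StFib.ptMap_ofChart_id _)).symm.trans h2
    · rintro ⟨u, rfl⟩
      refine ⟨AlgSt.Points.ofChart (BasedFunctor.comp x (FibCat.fpSnd y' f)) u, ?_⟩
      rw [Groth.Agent.StFib.map_ofChart, ← Groth.Agent.StFib.ofChart_overMap y' h u]
      exact congrFun (Groth.Agent.StFib.ofChart_congr
        (Groth.Agent.StFib.isoWhiskerLeft x (FibCat.fpIso y' f).symm ≪≫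
          Groth.Agent.StFib.isoWhiskerRight ih y')) u
  have hv : v₀ ∈ closure (Set.range h.left) := by
    rw [← hrange, ← hopen.preimage_closure_eq_closure_preimage hcont]
    change AlgSt.Points.ofChart y' v₀ ∈ closure (Set.range (AlgSt.Points.map f))
    rw [hv₀]
    exact hy
  have : CompactSpace U.left := inferInstance
  have : QuasiCompact h.left := inferInstance
  have huniv : ProCons.IsProConstructible (Set.univ : Set U.left) :=
    Groth.Agent.FDesc.ProConsImage.isProConstructible_of_isClosed_cons fun W _ => by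
      rw [Set.preimage_univ]; exact @isClosed_univ _ (constructibleTopology _)
  obtain ⟨v', hv', hsp⟩ := Groth.Agent.LimTop.exists_specializes_of_mem_closure
    (Groth.Agent.FDesc.ProConsImage.isProConstructible_image h.left huniv)
    (by rw [Set.image_univ]; exact hv)
  obtain ⟨u, -, rfl⟩ := hv'
  let ψ₀ : V'.left.presheaf.stalk v₀ ⟶ U.left.residueField u :=
    V'.left.presheaf.stalkSpecializes hsp ≫ h.left.stalkMap u ≫ U.left.residue u
  obtain ⟨A, hA, hAloc⟩ := IsLocalRing.exists_factor_valuationRing ψ₀.hom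
  let ψ : V'.left.presheaf.stalk v₀ ⟶ CommRingCat.of A := CommRingCat.ofHom (ψ₀.hom.codRestrict _ hA)
  let g : Spec (CommRingCat.of A) ⟶ V'.left := Spec.map ψ ≫ V'.left.fromSpecStalk v₀
  let gv : Over.mk (g ≫ V'.hom) ⟶ V' := Over.homMk g rfl
  let L := U.left.residueField u
  let e : FractionRing A ≃ₐ[A] L := FractionRing.algEquiv A L
  let m : Spec (CommRingCat.of (FractionRing A)) ⟶ U.left :=
    Spec.map (CommRingCat.ofHom e.symm.toAlgHom.toRingHom) ≫ U.left.fromSpecResidueField u
  let i := Spec.map (CommRingCat.ofHom (algebraMap A (FractionRing A)))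
  have key : i ≫ g = m ≫ h.left := by
    have h1 : U.left.fromSpecResidueField u ≫ h.left = Spec.map ψ₀ ≫ V'.left.fromSpecStalk v₀ := by
      simp only [ψ₀, Scheme.fromSpecResidueField, Spec.map_comp, Category.assoc]
      rw [Scheme.SpecMap_stalkSpecializes_fromSpecStalk, Scheme.SpecMap_stalkMap_fromSpecStalk]
    simp only [i, g, m, Category.assoc, h1, ← Spec.map_comp_assoc]
    congr 2
    ext r
    exact (e.symm.commutes (ψ₀.hom.codRestrict A.toSubring hA r)).symm
  let kv : Over.mk (i ≫ g ≫ V'.hom) ⟶ Over.mk (g ≫ V'.hom) := Over.homMk i rfl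
  let mu : Over.mk (i ≫ g ≫ V'.hom) ⟶ U := Over.homMk m (by
    change m ≫ U.hom = i ≫ g ≫ V'.hom
    rw [← Over.w h, ← Category.assoc, ← key, Category.assoc])
  refine ⟨A, inferInstance, inferInstance, inferInstance, g ≫ V'.hom,
    BasedFunctor.comp (AlgSt.overMap gv) y',
    BasedFunctor.comp (BasedFunctor.comp (AlgSt.overMap mu) x) (FibCat.fpSnd y' f), ⟨?_⟩, ?_⟩
  · exact Groth.Agent.StFib.isoWhiskerLeft (BasedFunctor.comp (AlgSt.overMap mu) x)
        (FibCat.fpIso y' f).symm ≪≫
      Groth.Agent.StFib.isoWhiskerRight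
        (Groth.Agent.StFib.isoWhiskerLeft (AlgSt.overMap mu) ih ≪≫
          (Groth.Agent.StFib.overMapCompIso mu h).symm ≪≫
          eqToIso (congrArg AlgSt.overMap (Over.OverMorphism.ext key.symm :
            mu ≫ h = kv ≫ gv)) ≪≫
          Groth.Agent.StFib.overMapCompIso kv gv) y'
  · rw [Groth.Agent.StFib.ofChart_overMap, ← hv₀]
    congr 1
    change (Spec.map ψ ≫ V'.left.fromSpecStalk v₀) (IsLocalRing.closedPoint A) = v₀
    have : Spec.map ψ (IsLocalRing.closedPoint A) = IsLocalRing.closedPoint (V'.left.presheaf.stalk v₀) :=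
      IsLocalRing.comap_closedPoint (S := A) (ψ₀.hom.codRestrict A.toSubring hA)
    rw [Scheme.Hom.comp_apply, this, Scheme.fromSpecStalk_closedPoint]

end Groth.Agent.S13036
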