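import Mathlib.RingTheory.Flat.Basic
import Mathlib.RingTheory.TensorProduct.Basic
import Mathlib.RingTheory.Localization.FractionRing
import Mathlib.RingTheory.Finiteness.Defs
import Mathlib

set_option autoImplicit false
universe u
namespace MaxMod
end MaxMod
open MaxMod

namespace Groth.Agent.S13041

/-- Let R be a domain with fraction field K, let A → B be a homomorphism of commutative R-algebras that
are flat over R, with B module-finite over A, such that the induced map K ⊗_R A → K ⊗_R B is
bijective. If the A-linear map Hom_A(B, A) → A evaluating at 1 is surjective, then A → B is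
bijective. (The published statement concerns a finite morphism of flat schemes over a discrete
valuation ring, with locally free relative dualizing sheaves, that is an isomorphism over a
schematically dense open and whose trace map on dualizing sheaves is surjective; this row is the
statement about rings to which the printed proof reduces it and which that proof establishes, and
the argument uses only that R is a domain.) -/
theorem result
    (R K A B : Type u) [CommRing R] [IsDomain R] [Field K] [Algebra R K] [IsFractionRing R K]
    [CommRing A] [CommRing B] [Algebra R A] [Algebra R B] [Algebra A B] [IsScalarTower R A B]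
    [Module.Flat R A] [Module.Flat R B] [Module.Finite A B]
    (hK : Function.Bijective
      (Algebra.TensorProduct.map (AlgHom.id R K) (IsScalarTower.toAlgHom R A B)))
    (htr : Function.Surjective (fun u : B →ₗ[A] A => u 1)) :
    Function.Bijective (algebraMap A B) := by
  obtain ⟨u, hu⟩ := htr 1
  change u 1 = 1 at hu
  have hua : ∀ a : A, u (algebraMap A B a) = a := fun a => by
    rw [Algebra.algebraMap_eq_smul_one, map_smul, hu, smul_eq_mul, mul_one]
  refine ⟨fun a b h => by rw [← hua a, h, hua b], fun b => ⟨u b, ?_⟩⟩
  -- clear denominators
  obtain ⟨z, hz⟩ := hK.2 ((1 : K) ⊗ₜ[R] b)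
  have hex : ∀ z : TensorProduct R K A, ∃ (r : R) (a : A), r ≠ 0 ∧ r • z = (1 : K) ⊗ₜ[R] a := by
    intro z
    induction z using TensorProduct.induction_on with
    | zero => exact ⟨1, 0, one_ne_zero, by simp⟩
    | tmul k a =>
      obtain ⟨⟨c, s⟩, hc⟩ := IsLocalization.surj (nonZeroDivisors R) k
      refine ⟨s, c • a, nonZeroDivisors.coe_ne_zero s, ?_⟩
      rw [TensorProduct.smul_tmul', TensorProduct.tmul_smul, TensorProduct.smul_tmul']
      congr 1
      rw [Algebra.smul_def, Algebra.smul_def, mul_one, mul_comm, hc]
    | add x y hx hy =>
      obtain ⟨r, a, hr, hra⟩ := hx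
      obtain ⟨r', a', hr', hra'⟩ := hy
      refine ⟨r * r', r' • a + r • a', mul_ne_zero hr hr', ?_⟩
      rw [smul_add, TensorProduct.tmul_add, TensorProduct.tmul_smul, TensorProduct.tmul_smul,
        ← hra, ← hra', smul_smul, smul_smul, mul_comm r r']
  obtain ⟨r, a, hr, hra⟩ := hex z
  have hrb : (1 : K) ⊗ₜ[R] (r • b) = (1 : K) ⊗ₜ[R] algebraMap A B a := by
    have h := congrArg (Algebra.TensorProduct.map (AlgHom.id R K) (IsScalarTower.toAlgHom R A B)) hra
    rw [map_smul, hz] at h
    rw [TensorProduct.tmul_smul, h]
    simp
  have hinj : Function.Injective (fun x : B => (1 : K) ⊗ₜ[R] x) := by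
    have h1 : Function.Injective (LinearMap.rTensor B (Algebra.linearMap R K)) :=
      Module.Flat.rTensor_preserves_injective_linearMap _ (IsFractionRing.injective R K)
    have h2 : (fun x : B => (1 : K) ⊗ₜ[R] x) =
        LinearMap.rTensor B (Algebra.linearMap R K) ∘ (TensorProduct.lid R B).symm := by
      funext x; simp
    rw [h2]
    exact h1.comp (TensorProduct.lid R B).symm.injective
  have hb : r • b = algebraMap A B a := hinj hrb
  have ha : r • u b = a := by
    rw [← hua a, ← hb]
    exact ((u.restrictScalars R).map_smul r b).symm
  have hsm : r • (b - algebraMap A B (u b)) = 0 := by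
    rw [smul_sub, hb]
    have : r • algebraMap A B (u b) = algebraMap A B (r • u b) :=
      ((IsScalarTower.toAlgHom R A B).toLinearMap.map_smul r (u b)).symm
    rw [this, ha, sub_self]
  have h0 : b - algebraMap A B (u b) = 0 := by
    apply hinj
    change (1 : K) ⊗ₜ[R] _ = (1 : K) ⊗ₜ[R] _
    have hr' : algebraMap R K r ≠ 0 := by
      simpa using (IsFractionRing.injective R K).ne hr
    have : algebraMap R K r • ((1 : K) ⊗ₜ[R] (b - algebraMap A B (u b))) = 0 := by
      rw [algebraMap_smul, ← TensorProduct.tmul_smul, hsm, TensorProduct.tmul_zero]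
    rw [smul_eq_zero] at this
    rw [TensorProduct.tmul_zero]
    exact this.resolve_left hr'
  exact (sub_eq_zero.1 h0).symm

end Groth.Agent.S13041
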