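import Mathlib.RingTheory.MvPolynomial.Basic
import Mathlib.RingTheory.Ideal.Quotient.Operations
import Mathlib.RingTheory.LocalRing.MaximalIdeal.Basic
import Mathlib.Algebra.CharP.Defs
import Mathlib

set_option autoImplicit false
universe u
namespace MaxMod
end MaxMod
open MaxMod

namespace Groth.Agent.S13042

open MvPolynomial in
/-- Let p be a prime, R a local ring of characteristic p, λ an element of the maximal ideal of R and f ∈
R. Then there is an isomorphism of R-algebras R[W₁, W₂]/(W₁^p − f, W₂^p − f) ≅ R[x, W]/(x^p, W^p −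
f) with W₁ ↦ x + W + λ·x·W and W₂ ↦ W; that is, Spec R[W]/(W^p − f) with the action w ↦ x + w + λxw
is a torsor under the group scheme Spec R[x]/(x^p) with law x₁ ∘ x₂ = x₁ + x₂ + λx₁x₂. (The
published statement is over a complete discrete valuation ring of characteristic p with λ a nonzero
nonunit, and also asserts that for f in the fraction field with negative valuation v(f) > −p·v(λ)
the torsor W^p = f extends to a torsor over R, using the coordinate 1/W; that second case fails: for
p = 2, λ = π a uniformizer and f = 1/π, every model is Spec R[π^a t] with t² = π, and none of these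
is a torsor since the coaction sends t to t − π(1 + t)x. Only the case f ∈ R is stated, and the
argument there uses only that R is local of characteristic p.) -/
theorem result
    (p : ℕ) [Fact p.Prime] (R : Type u) [CommRing R] [IsLocalRing R] [CharP R p]
    (lam f : R) (hlam : lam ∈ IsLocalRing.maximalIdeal R) :
    ∃ e : (MvPolynomial (Fin 2) R ⧸ Ideal.span {(X 0 ^ p - C f : MvPolynomial (Fin 2) R), X 1 ^ p - C f}) ≃ₐ[R]
        (MvPolynomial (Fin 2) R ⧸ Ideal.span {(X 0 ^ p : MvPolynomial (Fin 2) R), X 1 ^ p - C f}),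
      e (Ideal.Quotient.mk _ (X 0)) = Ideal.Quotient.mk _ (X 0 + X 1 + C lam * X 0 * X 1) ∧
      e (Ideal.Quotient.mk _ (X 1)) = Ideal.Quotient.mk _ (X 1) := by
  classical
  let I : Ideal (MvPolynomial (Fin 2) R) := Ideal.span {X 0 ^ p - C f, X 1 ^ p - C f}
  let J : Ideal (MvPolynomial (Fin 2) R) := Ideal.span {X 0 ^ p, X 1 ^ p - C f}
  let A := MvPolynomial (Fin 2) R ⧸ I
  let B := MvPolynomial (Fin 2) R ⧸ J
  have hunit : IsUnit (1 + lam ^ p * f) := by
    rw [← not_not (a := IsUnit _), ← mem_nonunits_iff, ← IsLocalRing.mem_maximalIdeal]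
    intro h
    have hm : lam ^ p * f ∈ IsLocalRing.maximalIdeal R :=
      Ideal.mul_mem_right _ _ (Ideal.pow_mem_of_mem _ hlam p (Fact.out : p.Prime).pos)
    exact (IsLocalRing.maximalIdeal.isMaximal R).ne_top
      ((Ideal.eq_top_iff_one _).2 (by simpa using Submodule.sub_mem _ h hm))
  obtain ⟨c, hc⟩ := hunit.exists_left_inv
  have frob : ∀ {S : Type u} [CommRing S] [Algebra R S] (a b : S), (a + b) ^ p = a ^ p + b ^ p := by
    intro S _ _ a b
    obtain hS | hS := subsingleton_or_nontrivial S
    · exact Subsingleton.elim _ _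
    have hp0 : (p : S) = 0 := by
      rw [← map_natCast (algebraMap R S), CharP.cast_eq_zero R p, map_zero]
    haveI : CharP S p :=
      (CharP.charP_iff_prime_eq_zero (Fact.out : p.Prime)).2 hp0
    exact add_pow_char a b p
  -- the maps
  let x0 : A := Ideal.Quotient.mk I (X 0)
  let w : A := Ideal.Quotient.mk I (X 1)
  have hx0 : x0 ^ p = algebraMap R A f := by
    rw [← sub_eq_zero]
    exact Ideal.Quotient.eq_zero_iff_mem.2 (Ideal.subset_span (Set.mem_insert _ _))
  have hw : w ^ p = algebraMap R A f := by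
    rw [← sub_eq_zero]
    exact Ideal.Quotient.eq_zero_iff_mem.2 (Ideal.subset_span (Set.mem_insert_of_mem _ rfl))
  let y : B := Ideal.Quotient.mk J (X 0)
  let v : B := Ideal.Quotient.mk J (X 1)
  have hy : y ^ p = 0 :=
    Ideal.Quotient.eq_zero_iff_mem.2 (Ideal.subset_span (Set.mem_insert _ _))
  have hv : v ^ p = algebraMap R B f := by
    rw [← sub_eq_zero]
    exact Ideal.Quotient.eq_zero_iff_mem.2 (Ideal.subset_span (Set.mem_insert_of_mem _ rfl))
  have hp1 : (p - 1) + 1 = p := Nat.sub_add_cancel (Fact.out : p.Prime).one_le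
  let d : A := algebraMap R A c * (1 + algebraMap R A lam * w) ^ (p - 1)
  have hd : (1 + algebraMap R A lam * w) * d = 1 := by
    have h1 : (1 + algebraMap R A lam * w) ^ p = algebraMap R A (1 + lam ^ p * f) := by
      rw [frob, one_pow, mul_pow, hw, map_add, map_one, map_mul, map_pow]
    calc (1 + algebraMap R A lam * w) * d
        = algebraMap R A c * ((1 + algebraMap R A lam * w) ^ (p - 1) * (1 + algebraMap R A lam * w)) := by
          simp only [d]; ring
      _ = algebraMap R A c * (1 + algebraMap R A lam * w) ^ p := by rw [← pow_succ, hp1]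
      _ = 1 := by rw [h1, ← map_mul, hc, map_one]
  let e1 : B := y + v + algebraMap R B lam * y * v
  let φ₀ : MvPolynomial (Fin 2) R →ₐ[R] B := aeval ![e1, v]
  have hφ : ∀ a ∈ I, φ₀ a = 0 := by
    intro a ha
    have hle : I ≤ RingHom.ker φ₀.toRingHom := by
      rw [Ideal.span_le]
      rintro q (rfl | rfl)
      · simp [φ₀, e1, frob, mul_pow, hy, hv, MvPolynomial.algebraMap_eq]
      · simp [φ₀, hv, MvPolynomial.algebraMap_eq]
    exact hle ha
  let φ : A →ₐ[R] B := Ideal.Quotient.liftₐ I φ₀ hφ
  let e2 : A := (x0 - w) * d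
  let ψ₀ : MvPolynomial (Fin 2) R →ₐ[R] A := aeval ![e2, w]
  have hψ : ∀ a ∈ J, ψ₀ a = 0 := by
    intro a ha
    have hle : J ≤ RingHom.ker ψ₀.toRingHom := by
      rw [Ideal.span_le]
      rintro q (rfl | rfl)
      · have h0 : (x0 - w) ^ p = 0 := by
          have h := frob (x0 - w) w
          rw [sub_add_cancel, hx0, hw] at h
          simpa using h.symm
        simp [ψ₀, e2, mul_pow, h0]
      · simp [ψ₀, hw, MvPolynomial.algebraMap_eq]
    exact hle ha
  let ψ : B →ₐ[R] A := Ideal.Quotient.liftₐ J ψ₀ hψ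
  have φx : φ x0 = e1 := (aeval_X ![e1, v] 0)
  have φw : φ w = v := (aeval_X ![e1, v] 1)
  have ψy : ψ y = e2 := (aeval_X ![e2, w] 0)
  have ψv : ψ v = w := (aeval_X ![e2, w] 1)
  have hψφ : ψ.comp φ = AlgHom.id R A := by
    apply Ideal.Quotient.algHom_ext
    apply MvPolynomial.algHom_ext
    intro i
    fin_cases i
    · change ψ (φ x0) = x0
      rw [φx]
      simp only [e1, map_add, map_mul, AlgHom.commutes, ψy, ψv]
      linear_combination (x0 - w) * hd
    · change ψ (φ w) = w
      rw [φw, ψv]
  have hφd : φ d * (1 + algebraMap R B lam * v) = 1 := by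
    have h := congrArg φ hd
    simp only [map_add, map_mul, map_one, AlgHom.commutes, φw] at h
    rw [mul_comm]; exact h
  have hφψ : φ.comp ψ = AlgHom.id R B := by
    apply Ideal.Quotient.algHom_ext
    apply MvPolynomial.algHom_ext
    intro i
    fin_cases i
    · change φ (ψ y) = y
      rw [ψy]
      simp only [e2, map_sub, map_mul, φx, φw, e1]
      linear_combination y * hφd
    · change φ (ψ v) = v
      rw [ψv, φw]
  refine ⟨AlgEquiv.ofAlgHom φ ψ hφψ hψφ, ?_, ?_⟩
  · change φ x0 = _
    rw [φx]
    simp only [e1, y, v, map_add, map_mul]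
    rfl
  · exact φw

end Groth.Agent.S13042
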