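import Groth.Statements.S13043
import Groth.Agent.AffComp.Basic
import Groth.Agent.Rat20Lib.CodimOne

set_option autoImplicit false
universe u
open CoPerf

namespace Groth.Agent.S13043

open AlgebraicGeometry CategoryTheory Topology in
theorem max_compl_of_affine {S : Scheme.{u}} [IsLocallyNoetherian S] (U V : S.Opens) (hUV : U ≤ V)
    (hU : Dense (U : Set S)) [IsAffineHom V.ι] (ξ : S) (hξ : ξ ∉ V)
    (hmax : ∀ η : S, η ∉ V → η ⤳ ξ → η = ξ) : ξ ∉ U ∧ ∀ η : S, η ∉ U → η ⤳ ξ → η = ξ := by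
  refine ⟨fun h => hξ (hUV h), fun η hη hs => ?_⟩
  by_contra hne
  refine hη (Rat20Lib.mem_of_dense_of_dim_zero hU ?_)
  have h1 := AffComp.dim_le_one V ξ hξ hmax
  rw [ringKrullDim_stalk_eq_coheight] at h1 ⊢
  have h1' : Order.coheight ξ ≤ 1 := by exact_mod_cast h1
  have hlt : ξ < η := lt_of_le_not_ge hs fun h => hne (Specializes.antisymm h hs).eq.symm
  have h2 : Order.coheight η < Order.coheight ξ :=
    Order.coheight_strictAnti hlt (((Order.coheight_anti hlt.le).trans h1').trans_lt (ENat.coe_lt_top 1))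
  have h3 : Order.coheight η = 0 := Order.lt_one_iff.mp (h2.trans_le h1')
  simp [h3]

open AlgebraicGeometry CategoryTheory in
theorem isAffineHom_ι_inf {S : Scheme.{u}} (V W : S.Opens) (hV : IsAffineHom V.ι) (hW : IsAffineHom W.ι) :
    IsAffineHom (V ⊓ W).ι := by
  refine ⟨fun U hU => ?_⟩
  have h1 := ((hV.isAffine_preimage U hU).image_of_isOpenImmersion V.ι)
  rw [V.ι.image_preimage_eq_opensRange_inf, Scheme.Opens.opensRange_ι] at h1
  have h2 := ((hW.isAffine_preimage _ h1).image_of_isOpenImmersion W.ι)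
  rw [W.ι.image_preimage_eq_opensRange_inf, Scheme.Opens.opensRange_ι] at h2
  have h3 := h2.preimage_of_isOpenImmersion (V ⊓ W).ι (by
    rw [Scheme.Opens.opensRange_ι]
    exact le_inf (inf_le_right.trans inf_le_left) inf_le_left)
  convert h3 using 1
  ext x
  simp [x.2.1, x.2.2]

open AlgebraicGeometry CategoryTheory Topology in
theorem finite_max_compl {S : Scheme.{u}} [IsNoetherian S] (U : S.Opens) :
    {ξ : S | ξ ∉ U ∧ ∀ η : S, η ∉ U → η ⤳ ξ → η = ξ}.Finite := by
  let Z : Set S := (U : Set S)ᶜ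
  have hZ : IsClosed Z := U.2.isClosed_compl
  haveI : QuasiSober Z := hZ.isClosedEmbedding_subtypeVal.quasiSober
  have hfin := genericPoints.finite (α := Z) (TopologicalSpace.NoetherianSpace.finite_irreducibleComponents)
  refine (hfin.image Subtype.val).subset ?_
  rintro ξ ⟨hξ, hmax⟩
  refine ⟨⟨ξ, hξ⟩, ?_, rfl⟩
  obtain ⟨C, hC, hξC⟩ := exists_mem_irreducibleComponents_subset_of_isIrreducible
    (closure {(⟨ξ, hξ⟩ : Z)}) isIrreducible_singleton.closure
  obtain ⟨c, hc⟩ := QuasiSober.sober hC.1 (isClosed_of_mem_irreducibleComponents C hC)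
  have hsp : c ⤳ (⟨ξ, hξ⟩ : Z) := hc.specializes (hξC (subset_closure rfl))
  have heq : c = ⟨ξ, hξ⟩ := Subtype.ext (hmax c.1 c.2 (hsp.map continuous_subtype_val))
  subst heq
  show closure {(⟨ξ, hξ⟩ : Z)} ∈ irreducibleComponents Z
  rw [hc.def]
  exact hC

open AlgebraicGeometry in
/-- For a Noetherian scheme S that is separated, and a dense open subset U ⊆ S that is not empty, only
finitely many open subsets V ⊇ U have an affine inclusion morphism V → S, and among them there is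
one contained in all the others (a least element for inclusion). -/
theorem result
    (S : Scheme.{u}) [IsNoetherian S] [S.IsSeparated] (U : S.Opens)
    (hne : (U : Set S).Nonempty) (hU : Dense (U : Set S)) :
    Set.Finite {V : S.Opens | U ≤ V ∧ IsAffineHom V.ι} ∧
      ∃ V₀ : S.Opens, (U ≤ V₀ ∧ IsAffineHom V₀.ι) ∧
        ∀ V : S.Opens, U ≤ V → IsAffineHom V.ι → V₀ ≤ V := by
  classical
  let P : Set S := {ξ : S | ξ ∉ U ∧ ∀ η : S, η ∉ U → η ⤳ ξ → η = ξ}
  have hkey : ∀ V V' : S.Opens, U ≤ V → IsAffineHom V.ι → (∀ ξ ∈ P, ξ ∈ V' → ξ ∈ V) → V' ≤ V := by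
    intro V V' hUV hV h x hx
    by_contra hxV
    haveI := hV
    haveI : QuasiSober ((V : Set S)ᶜ : Set S) := V.2.isClosed_compl.isClosedEmbedding_subtypeVal.quasiSober
    obtain ⟨ξ, hξx, hξV, hmax⟩ : ∃ ξ : S, ξ ⤳ x ∧ ξ ∉ V ∧ ∀ η : S, η ∉ V → η ⤳ ξ → η = ξ := by
      let Z : Set S := (V : Set S)ᶜ
      obtain ⟨C, hC, hxC⟩ := exists_mem_irreducibleComponents_subset_of_isIrreducible
        (closure {(⟨x, hxV⟩ : Z)}) isIrreducible_singleton.closure
      obtain ⟨c, hc⟩ := QuasiSober.sober hC.1 (isClosed_of_mem_irreducibleComponents C hC)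
      refine ⟨c.1, (hc.specializes (hxC (subset_closure rfl))).map continuous_subtype_val, c.2,
        fun η hη hs => ?_⟩
      have hs' : (⟨η, hη⟩ : Z) ⤳ c := (subtype_specializes_iff _ _).mpr hs
      have hsub : C ⊆ closure {(⟨η, hη⟩ : Z)} := hc.def ▸ closure_minimal
        (Set.singleton_subset_iff.mpr hs'.mem_closure) isClosed_closure
      have heq : closure {(⟨η, hη⟩ : Z)} ⊆ C := hC.2 isIrreducible_singleton.closure hsub
      exact congrArg Subtype.val ((hc.specializes (heq (subset_closure rfl))).antisymm hs').eq.symm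
    obtain ⟨h1, h2⟩ := max_compl_of_affine U V hUV hU ξ hξV hmax
    exact hξV (h ξ ⟨h1, h2⟩ (hξx.mem_open V'.2 hx))
  have hfin : Set.Finite {V : S.Opens | U ≤ V ∧ IsAffineHom V.ι} := by
    refine Set.Finite.of_finite_image
      ((finite_max_compl U).finite_subsets.subset (s := _) (t := (fun V : S.Opens => P ∩ V) '' _) ?_) ?_
    · rintro _ ⟨V, -, rfl⟩
      exact Set.inter_subset_left
    · rintro V ⟨hUV, hV⟩ V' ⟨hUV', hV'⟩ (he : P ∩ (V : Set S) = P ∩ V')
      refine le_antisymm (hkey V' V hUV' hV' fun ξ hP hξ => ?_) (hkey V V' hUV hV fun ξ hP hξ => ?_)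
      · exact (he.le ⟨hP, hξ⟩).2
      · exact (he.ge ⟨hP, hξ⟩).2
  refine ⟨hfin, ?_⟩
  have hinf : ∀ t : Finset S.Opens, (∀ V ∈ t, U ≤ V ∧ IsAffineHom V.ι) →
      U ≤ t.inf id ∧ IsAffineHom (t.inf id).ι := by
    intro t
    induction t using Finset.induction with
    | empty =>
      intro _
      rw [Finset.inf_empty]
      refine ⟨le_top, ?_⟩
      haveI : CategoryTheory.IsIso (⊤ : S.Opens).ι := by rw [← Scheme.topIso_hom]; infer_instance
      infer_instance
    | insert a t ha ih =>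
      intro h
      obtain ⟨ha1, ha2⟩ := h a (Finset.mem_insert_self _ _)
      obtain ⟨ht1, ht2⟩ := ih fun V hV => h V (Finset.mem_insert_of_mem hV)
      rw [Finset.inf_insert]
      exact ⟨le_inf ha1 ht1, isAffineHom_ι_inf _ _ ha2 ht2⟩
  obtain ⟨h1, h2⟩ := hinf hfin.toFinset fun V hV => hfin.mem_toFinset.1 hV
  exact ⟨_, ⟨h1, h2⟩, fun V hUV hV => Finset.inf_le (f := id) (hfin.mem_toFinset.2 ⟨hUV, hV⟩)⟩

end Groth.Agent.S13043
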