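import Mathlib.AlgebraicGeometry.Morphisms.Flat
import Mathlib.AlgebraicGeometry.Morphisms.ClosedImmersion
import Mathlib.AlgebraicGeometry.Pullbacks
import Mathlib.RingTheory.DiscreteValuationRing.Basic
import Mathlib.RingTheory.Localization.FractionRing
import Mathlib.AlgebraicGeometry.Morphisms.Separated
import Mathlib

set_option autoImplicit false
universe u
namespace MaxMod
end MaxMod
open MaxMod

namespace Groth.Agent.S13044

open CategoryTheory CategoryTheory.Limits AlgebraicGeometry in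
theorem isIso_of_dense_factor {W X Z : Scheme.{u}} (i : Z ⟶ X) [IsClosedImmersion i] (ι : W ⟶ X)
    [IsSchemeTheoreticallyDominant ι] (l : W ⟶ Z) (hl : l ≫ i = ι) : IsIso i := by
  have hk : i.ker = ⊥ := by
    refine le_bot_iff.1 ?_
    calc i.ker ≤ (l ≫ i).ker := Scheme.Hom.le_ker_comp l i
      _ = ⊥ := by rw [hl, ι.ker_eq_bot]
  exact IsClosedImmersion.isIso_of_ker_eq i (𝟙 X) i (Category.comp_id i)
    (by rw [hk, Scheme.Hom.ker_eq_bot_of_isIso])

open CategoryTheory CategoryTheory.Limits AlgebraicGeometry in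
theorem extend_from_generic {R K : Type u} [CommRing R] [IsDomain R] [Field K] [Algebra R K]
    [IsFractionRing R K] {W P Γ : Scheme.{u}} (w : W ⟶ Spec (CommRingCat.of R)) [Flat w]
    (m : W ⟶ P) (γ : Γ ⟶ P) [IsClosedImmersion γ]
    (c : pullback w (Spec.map (CommRingCat.ofHom (algebraMap R K))) ⟶ Γ)
    (hc : c ≫ γ = pullback.fst _ _ ≫ m) : ∃ c' : W ⟶ Γ, c' ≫ γ = m := by
  have : IsDominant (Spec.map (CommRingCat.ofHom (algebraMap R K))) := by
    rw [isDominant_iff]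
    exact PrimeSpectrum.denseRange_comap_iff_ker_le_nilRadical _ |>.2 (by
      rw [CommRingCat.hom_ofHom, (RingHom.injective_iff_ker_eq_bot _).1 (IsFractionRing.injective R K)]
      exact bot_le)
  have : IsSchemeTheoreticallyDominant (Spec.map (CommRingCat.ofHom (algebraMap R K))) :=
    .of_isDominant _
  have := isIso_of_dense_factor (pullback.fst m γ) (pullback.fst w (Spec.map (CommRingCat.ofHom (algebraMap R K))))
    (pullback.lift (pullback.fst _ _) c hc.symm) (pullback.lift_fst _ _ _)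
  exact ⟨inv (pullback.fst m γ) ≫ pullback.snd m γ, by
    rw [Category.assoc, ← pullback.condition, IsIso.inv_hom_id_assoc]⟩

open CategoryTheory Limits AlgebraicGeometry in
/-- Let R be a discrete valuation ring with fraction field K, let Y be a flat separated R-scheme and let
Γ → Y ×_R Y be a closed subscheme, with projections p₁, p₂ : Γ → Y, such that Γ is flat over R
(equivalently, Γ is the schematic closure of its generic fibre) and p₁, p₂ are flat. If for every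
scheme T over Spec K the relation on the T-valued points of Y defined by the T-valued points of Γ is
an equivalence relation, then for every scheme T over Spec R that relation is an equivalence
relation: Γ is a flat equivalence relation on Y. -/
theorem result
    (R K : Type u) [CommRing R] [IsDomain R] [IsDiscreteValuationRing R]
    [Field K] [Algebra R K] [IsFractionRing R K]
    (Y Γ : Scheme.{u}) (f : Y ⟶ Spec (CommRingCat.of R)) [IsSeparated f] [Flat f]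
    (p₁ p₂ : Γ ⟶ Y) (h : p₁ ≫ f = p₂ ≫ f)
    (hΓ : IsClosedImmersion (pullback.lift p₁ p₂ h))
    [Flat (p₁ ≫ f)] [Flat p₁] [Flat p₂]
    (hK : ∀ (T : Scheme.{u}) (t : T ⟶ Spec (CommRingCat.of R)),
      (∃ s : T ⟶ Spec (CommRingCat.of K), t = s ≫ Spec.map (CommRingCat.ofHom (algebraMap R K))) →
      _root_.Equivalence fun a b : {a : T ⟶ Y // a ≫ f = t} =>
        ∃ c : T ⟶ Γ, c ≫ p₁ = a.1 ∧ c ≫ p₂ = b.1) :
    ∀ (T : Scheme.{u}) (t : T ⟶ Spec (CommRingCat.of R)),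
      _root_.Equivalence fun a b : {a : T ⟶ Y // a ≫ f = t} =>
        ∃ c : T ⟶ Γ, c ≫ p₁ = a.1 ∧ c ≫ p₂ = b.1 := by
  set γ : Γ ⟶ pullback f f := pullback.lift p₁ p₂ h with hγ
  haveI : IsClosedImmersion γ := hΓ
  have hγ1 : γ ≫ pullback.fst f f = p₁ := pullback.lift_fst _ _ _
  have hγ2 : γ ≫ pullback.snd f f = p₂ := pullback.lift_snd _ _ _
  have ext : ∀ {W : Scheme.{u}} (w : W ⟶ Spec (CommRingCat.of R)) [Flat w] (a b : W ⟶ Y)
      (hb : a ≫ f = b ≫ f),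
      (∃ c : pullback w (Spec.map (CommRingCat.ofHom (algebraMap R K))) ⟶ Γ,
        c ≫ p₁ = pullback.fst _ _ ≫ a ∧ c ≫ p₂ = pullback.fst _ _ ≫ b) →
      ∃ c : W ⟶ Γ, c ≫ p₁ = a ∧ c ≫ p₂ = b := by
    rintro W w _ a b hb ⟨c, hc1, hc2⟩
    obtain ⟨c', hc'⟩ := extend_from_generic w (pullback.lift a b hb) γ c (by
      apply pullback.hom_ext
      · rw [Category.assoc, hγ1, Category.assoc, pullback.lift_fst, hc1]
      · rw [Category.assoc, hγ2, Category.assoc, pullback.lift_snd, hc2])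
    refine ⟨c', ?_, ?_⟩
    · rw [← hγ1, reassoc_of% hc', pullback.lift_fst]
    · rw [← hγ2, reassoc_of% hc', pullback.lift_snd]
  -- reflexivity on `Y`
  obtain ⟨e, he1, he2⟩ : ∃ e : Y ⟶ Γ, e ≫ p₁ = 𝟙 Y ∧ e ≫ p₂ = 𝟙 Y := by
    refine ext f (𝟙 Y) (𝟙 Y) rfl ?_
    have hr := (hK _ (pullback.fst f (Spec.map (CommRingCat.ofHom (algebraMap R K))) ≫ f)
      ⟨pullback.snd _ _, pullback.condition⟩).refl ⟨pullback.fst _ _, rfl⟩
    simpa using hr
  -- symmetry on `Γ`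
  obtain ⟨σ, hσ1, hσ2⟩ : ∃ σ : Γ ⟶ Γ, σ ≫ p₁ = p₂ ∧ σ ≫ p₂ = p₁ := by
    refine ext (p₁ ≫ f) p₂ p₁ h.symm ?_
    let ι := pullback.fst (p₁ ≫ f) (Spec.map (CommRingCat.ofHom (algebraMap R K)))
    exact (hK _ (ι ≫ p₁ ≫ f) ⟨pullback.snd _ _, pullback.condition⟩).symm
      (x := ⟨ι ≫ p₁, Category.assoc _ _ _⟩)
      (y := ⟨ι ≫ p₂, by rw [Category.assoc]; exact congrArg (ι ≫ ·) h.symm⟩) ⟨ι, rfl, rfl⟩
  -- transitivity on `Γ ×_Y Γ`
  obtain ⟨μ, hμ1, hμ2⟩ : ∃ μ : pullback p₂ p₁ ⟶ Γ,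
      μ ≫ p₁ = pullback.fst p₂ p₁ ≫ p₁ ∧ μ ≫ p₂ = pullback.snd p₂ p₁ ≫ p₂ := by
    haveI : Flat (pullback.fst p₂ p₁) := MorphismProperty.pullback_fst _ _ ‹Flat p₁›
    haveI : Flat (pullback.fst p₂ p₁ ≫ p₁ ≫ f) := inferInstance
    have hmid : pullback.fst p₂ p₁ ≫ p₁ ≫ f = pullback.snd p₂ p₁ ≫ p₂ ≫ f := by
      rw [h, pullback.condition_assoc, h]
    refine ext (pullback.fst p₂ p₁ ≫ p₁ ≫ f) _ _ (by simpa using hmid) ?_
    let ι := pullback.fst (pullback.fst p₂ p₁ ≫ p₁ ≫ f) (Spec.map (CommRingCat.ofHom (algebraMap R K)))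
    exact (hK _ (ι ≫ pullback.fst p₂ p₁ ≫ p₁ ≫ f) ⟨pullback.snd _ _, pullback.condition⟩).trans
      (x := ⟨ι ≫ pullback.fst p₂ p₁ ≫ p₁, by simp⟩)
      (y := ⟨ι ≫ pullback.fst p₂ p₁ ≫ p₂, by simp [h]⟩)
      (z := ⟨ι ≫ pullback.snd p₂ p₁ ≫ p₂, by simp [hmid]⟩)
      ⟨ι ≫ pullback.fst p₂ p₁, by simp, by simp⟩
      ⟨ι ≫ pullback.snd p₂ p₁, by simp [pullback.condition], by simp⟩
  intro T t
  refine ⟨fun a => ⟨a.1 ≫ e, by simp [he1], by simp [he2]⟩, ?_, ?_⟩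
  · rintro a b ⟨c, hc1, hc2⟩
    exact ⟨c ≫ σ, by rw [Category.assoc, hσ1, hc2], by rw [Category.assoc, hσ2, hc1]⟩
  · rintro a b c ⟨c₁, h11, h12⟩ ⟨c₂, h21, h22⟩
    refine ⟨pullback.lift c₁ c₂ (h12.trans h21.symm) ≫ μ, ?_, ?_⟩
    · rw [Category.assoc, hμ1, pullback.lift_fst_assoc, h11]
    · rw [Category.assoc, hμ2, pullback.lift_snd_assoc, h22]

end Groth.Agent.S13044
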