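import Groth.Statements.S13047
import Mathlib.Algebra.QuadraticAlgebra.Basic
import Mathlib.RingTheory.Ideal.Quotient.Operations
import Mathlib.Tactic.Ring
import Mathlib.Tactic.LinearCombination

set_option autoImplicit false
universe u
open FrobAlg

namespace Groth.Agent.S13047

open Polynomial TensorProduct

section

variable (p : ℕ) [Fact p.Prime] (R : Type u) [CommRing R] [CharP R p] (u v : R) (huv : u * v = 0)

/-- The ideal defining `R[α]/(uα, α² - v²)`. -/
noncomputable abbrev J : Ideal R[X] := Ideal.span {(C u * X : R[X]), X ^ 2 - C (v ^ 2)}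


/-- The class of `α`. -/
noncomputable def α : R[X] ⧸ J R u v := Ideal.Quotient.mk _ X

theorem u_mul_α : algebraMap R (R[X] ⧸ J R u v) u * α R u v = 0 :=
  Ideal.Quotient.eq_zero_iff_mem.2 (Ideal.subset_span (Set.mem_insert _ _))

theorem α_sq : α R u v ^ 2 = algebraMap R (R[X] ⧸ J R u v) (v ^ 2) :=
  Ideal.Quotient.eq.2 (Ideal.subset_span (Set.mem_insert_of_mem _ rfl))

theorem exists_normalForm (b : (R[X] ⧸ J R u v)) : ∃ r s : R, b = algebraMap R (R[X] ⧸ J R u v) r + algebraMap R (R[X] ⧸ J R u v) s * α R u v := by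
  obtain ⟨f, rfl⟩ := Ideal.Quotient.mk_surjective b
  induction f using Polynomial.induction_on' with
  | add f g hf hg =>
    obtain ⟨r, s, hf⟩ := hf
    obtain ⟨r', s', hg⟩ := hg
    exact ⟨r + r', s + s', by rw [map_add, hf, hg, map_add, map_add]; ring⟩
  | monomial n c =>
    induction n generalizing c with
    | zero => exact ⟨c, 0, by rw [map_zero, zero_mul, add_zero, monomial_zero_left]; rfl⟩
    | succ n ih =>
      obtain ⟨r, s, h⟩ := ih c
      refine ⟨s * v ^ 2, r, ?_⟩
      rw [← monomial_mul_X, map_mul, h, show Ideal.Quotient.mk (J R u v) X = α R u v from rfl, map_mul (algebraMap R (R[X] ⧸ J R u v)) s, ← α_sq]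
      ring


/-- The class of `α` in the `i`-th twist. -/
noncomputable def αT (i : ℕ) : W4c1imperftorsors.Twist p R (R[X] ⧸ J R u v) i := (1 : R) ⊗ₜ (W4c1imperftorsors.aEquiv p R (R[X] ⧸ J R u v) i).symm (α R u v)

theorem one_tmul_algebraMap (i : ℕ) (r : R) :
    (1 : R) ⊗ₜ[W4c1imperftorsors.Src p R i] (W4c1imperftorsors.aEquiv p R (R[X] ⧸ J R u v) i).symm (algebraMap R (R[X] ⧸ J R u v) r) =
      algebraMap R (W4c1imperftorsors.Twist p R (R[X] ⧸ J R u v) i) (r ^ p ^ i) := by
  have h1 : (W4c1imperftorsors.aEquiv p R (R[X] ⧸ J R u v) i).symm (algebraMap R (R[X] ⧸ J R u v) r) =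
      algebraMap (W4c1imperftorsors.Src p R i) _ ((W4c1imperftorsors.srcEquiv p R i).symm r) := by
    rw [W4c1imperftorsors.algebraMap_aSrc, RingEquiv.apply_symm_apply]
  rw [h1, Algebra.algebraMap_eq_smul_one, ← TensorProduct.smul_tmul, Algebra.smul_def,
    W4c1imperftorsors.algebraMap_src, RingEquiv.apply_symm_apply, mul_one]
  rfl

theorem exists_normalForm_twist (i : ℕ) (z : W4c1imperftorsors.Twist p R (R[X] ⧸ J R u v) i) : ∃ r s : R, z = algebraMap R (W4c1imperftorsors.Twist p R (R[X] ⧸ J R u v) i) r + algebraMap R (W4c1imperftorsors.Twist p R (R[X] ⧸ J R u v) i) s * αT p R u v i := by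
  induction z using TensorProduct.induction_on with
  | zero => exact ⟨0, 0, by simp⟩
  | tmul c b =>
    obtain ⟨b, rfl⟩ := (W4c1imperftorsors.aEquiv p R (R[X] ⧸ J R u v) i).symm.surjective b
    obtain ⟨r, s, rfl⟩ := exists_normalForm R u v b
    refine ⟨c * r ^ p ^ i, c * s ^ p ^ i, ?_⟩
    have hc : ∀ y : W4c1imperftorsors.ASrc p R (R[X] ⧸ J R u v) i,
        c ⊗ₜ[W4c1imperftorsors.Src p R i] y = algebraMap R (W4c1imperftorsors.Twist p R (R[X] ⧸ J R u v) i) c * ((1 : R) ⊗ₜ y) := fun y => by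
      rw [Algebra.TensorProduct.algebraMap_apply, Algebra.algebraMap_self, RingHom.id_apply,
        Algebra.TensorProduct.tmul_mul_tmul, mul_one, one_mul]
    have hm : ∀ y z : W4c1imperftorsors.ASrc p R (R[X] ⧸ J R u v) i,
        (1 : R) ⊗ₜ[W4c1imperftorsors.Src p R i] (y * z) = ((1 : R) ⊗ₜ y) * ((1 : R) ⊗ₜ z) := fun y z => by
      rw [Algebra.TensorProduct.tmul_mul_tmul, mul_one]
    rw [hc, map_add, map_mul, TensorProduct.tmul_add, hm, one_tmul_algebraMap, one_tmul_algebraMap,
      map_mul, map_mul, mul_add, mul_assoc]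
    rfl
  | add z w hz hw =>
    obtain ⟨r, s, rfl⟩ := hz
    obtain ⟨r', s', rfl⟩ := hw
    exact ⟨r + r', s + s', by rw [map_add, map_add]; ring⟩

theorem algebraMap_pow_u_mul (i : ℕ) (a : R) :
    algebraMap R (W4c1imperftorsors.Twist p R (R[X] ⧸ J R u v) i) (a * u ^ p ^ i) * αT p R u v i = 0 := by
  rw [map_mul, ← one_tmul_algebraMap p R u v i u, mul_assoc, αT, Algebra.TensorProduct.tmul_mul_tmul, ← map_mul, u_mul_α,
    map_zero, TensorProduct.tmul_zero, mul_zero]

variable [CharP (R[X] ⧸ J R u v) p]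

theorem relFrob_αT (hp : p ≠ 2) (i : ℕ) :
    W4c1imperftorsors.relFrob p R (R[X] ⧸ J R u v) i (αT p R u v (i + 1)) =
      algebraMap R (W4c1imperftorsors.Twist p R (R[X] ⧸ J R u v) i) ((v ^ (p - 1)) ^ p ^ i) * αT p R u v i := by
  obtain ⟨m, hm⟩ := (Fact.out : p.Prime).odd_of_ne_two hp
  have hα : α R u v ^ p = algebraMap R (R[X] ⧸ J R u v) (v ^ (p - 1)) * α R u v := by
    conv_lhs => rw [hm, pow_succ, pow_mul, α_sq, ← map_pow, ← pow_mul]
    rw [show p - 1 = 2 * m by omega]
  change (W4c1imperftorsors.relFrobAux p R (R[X] ⧸ J R u v) i) ((1 : R) ⊗ₜ _) = _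
  rw [W4c1imperftorsors.relFrobAux, Algebra.TensorProduct.lift_tmul, map_one, one_mul]
  change (1 : R) ⊗ₜ[W4c1imperftorsors.Src p R i] (W4c1imperftorsors.aEquiv p R (R[X] ⧸ J R u v) i).symm
    ((W4c1imperftorsors.aEquiv p R (R[X] ⧸ J R u v) (i + 1) ((W4c1imperftorsors.aEquiv p R (R[X] ⧸ J R u v) (i + 1)).symm (α R u v))) ^ p) = _
  rw [RingEquiv.apply_symm_apply, hα, map_mul, ← one_tmul_algebraMap, αT, Algebra.TensorProduct.tmul_mul_tmul, mul_one]

omit [CharP (R[X] ⧸ J R u v) p]

variable {C' : Type u} [CommRing C'] [Algebra R C'] (w : C')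

/-- Maps out of the twist. -/
noncomputable def ev (i : ℕ) (h1 : algebraMap R C' (u ^ p ^ i) * w = 0) (h2 : w ^ 2 = algebraMap R C' ((v ^ 2) ^ p ^ i)) :
    W4c1imperftorsors.Twist p R (R[X] ⧸ J R u v) i →+* C' :=
  letI : Algebra (W4c1imperftorsors.Src p R i) C' :=
    ((algebraMap R C').comp (algebraMap (W4c1imperftorsors.Src p R i) R)).toAlgebra
  let e : (R[X] ⧸ J R u v) →+* C' := Ideal.Quotient.lift _ (Polynomial.eval₂RingHom ((algebraMap R C').comp (iterateFrobenius R p i)) w)
    fun f hf => by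
      refine (Ideal.span_le (I := RingHom.ker (Polynomial.eval₂RingHom ((algebraMap R C').comp (iterateFrobenius R p i)) w))).2 ?_ hf
      rintro _ (rfl | rfl)
      · simp [iterateFrobenius_def, ← map_pow]; simpa using h1
      · simp [iterateFrobenius_def, ← map_pow]; simpa [sub_eq_zero] using h2
  (Algebra.TensorProduct.lift
    ({ algebraMap R C' with commutes' := fun _ => rfl } : R →ₐ[W4c1imperftorsors.Src p R i] C')
    ({ e.comp (W4c1imperftorsors.aEquiv p R (R[X] ⧸ J R u v) i).toRingHom with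
        commutes' := fun s => by
          change e (W4c1imperftorsors.aEquiv p R (R[X] ⧸ J R u v) i (algebraMap (W4c1imperftorsors.Src p R i) _ s)) = _
          rw [W4c1imperftorsors.algebraMap_aSrc, RingEquiv.apply_symm_apply]
          exact Polynomial.eval₂_C _ _ } : W4c1imperftorsors.ASrc p R (R[X] ⧸ J R u v) i →ₐ[W4c1imperftorsors.Src p R i] C')
    fun _ _ => Commute.all _ _).toRingHom

theorem ev_αT (i : ℕ) (h1 : algebraMap R C' (u ^ p ^ i) * w = 0) (h2 : w ^ 2 = algebraMap R C' ((v ^ 2) ^ p ^ i)) :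
    ev p R u v w i h1 h2 (αT p R u v i) = w := by
  letI : Algebra (W4c1imperftorsors.Src p R i) C' :=
    ((algebraMap R C').comp (algebraMap (W4c1imperftorsors.Src p R i) R)).toAlgebra
  change algebraMap R C' 1 * _ = w
  rw [map_one, one_mul]
  exact Polynomial.eval₂_X _ _

theorem ev_algebraMap (i : ℕ) (h1 : algebraMap R C' (u ^ p ^ i) * w = 0) (h2 : w ^ 2 = algebraMap R C' ((v ^ 2) ^ p ^ i))
    (r : R) : ev p R u v w i h1 h2 (algebraMap R (W4c1imperftorsors.Twist p R (R[X] ⧸ J R u v) i) r) = algebraMap R C' r := by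
  rw [Algebra.TensorProduct.algebraMap_apply, Algebra.algebraMap_self, RingHom.id_apply]
  letI : Algebra (W4c1imperftorsors.Src p R i) C' :=
    ((algebraMap R C').comp (algebraMap (W4c1imperftorsors.Src p R i) R)).toAlgebra
  refine (Algebra.TensorProduct.lift_tmul _ _ _ _ _).trans ?_
  rw [map_one, mul_one]
  rfl

end

open Polynomial in
/-- Let p be an odd prime, R a commutative ring of characteristic p and u, v ∈ R with uv = 0, such that
for every N ≥ 1 an element of R lying in (v^n) + (u^N) for all n lies in (u^N) (v-adic separatedness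
of R/(u^N)). Let B = R[α]/(uα, α² − v²), an R-algebra of characteristic p, with Frobenius twists
B^{p^i/R} = R ⊗_{F^i,R} B and preperfection B^{p^∞/R} = lim_i B^{p^i/R} along the relative Frobenius
maps. Then the structure map R → B^{p^∞/R} is bijective: the preperfection of B is R. (The published
statement is for R = F_p[[u, v]]/(uv), where B arises as the preperfection of R[x, y, 1/(x − y)]/(xy
− u), so that the second preperfection of that algebra is R although the first is not perfect; the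
printed computation uses only the hypotheses listed here, which that R satisfies.) -/
theorem result
    (p : ℕ) [Fact p.Prime] (hp : p ≠ 2) (R : Type u) [CommRing R] [CharP R p]
    (u v : R) (huv : u * v = 0)
    (hsep : ∀ N : ℕ, 1 ≤ N → ∀ g : R,
      (∀ n : ℕ, g ∈ Ideal.span {v ^ n} ⊔ Ideal.span {u ^ N}) → g ∈ Ideal.span {u ^ N})
    [CharP (R[X] ⧸ Ideal.span {(C u * X : R[X]), X ^ 2 - C (v ^ 2)}) p] :
    Function.Bijective
      (algebraMap R ↥(W4c1imperftorsors.prePerf p R
        (R[X] ⧸ Ideal.span {(C u * X : R[X]), X ^ 2 - C (v ^ 2)}))) := by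
  classical
  have hpp := (Fact.out : p.Prime)
  have huvn : ∀ n : ℕ, u ^ n * v ^ n = 0 ∨ n = 0 := fun n => by
    rcases Nat.eq_zero_or_pos n with h | h
    · exact Or.inr h
    · exact Or.inl (by rw [← mul_pow, huv, zero_pow h.ne'])
  have h1 : ∀ i, algebraMap R R (u ^ p ^ i) * v ^ p ^ i = 0 := fun i => by
    rw [Algebra.algebraMap_self, RingHom.id_apply]
    exact (huvn _).resolve_right (pow_ne_zero i hpp.ne_zero)
  have h2 : ∀ i, (v ^ p ^ i) ^ 2 = algebraMap R R ((v ^ 2) ^ p ^ i) := fun i => by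
    rw [Algebra.algebraMap_self, RingHom.id_apply, pow_right_comm]
  refine ⟨fun a b hab => ?_, fun x => ?_⟩
  · have := congrArg (fun y => ev p R u v (v ^ p ^ 0) 0 (h1 0) (h2 0) (y.1 0)) hab
    change ev p R u v (v ^ p ^ 0) 0 (h1 0) (h2 0) (algebraMap R _ a) = ev p R u v (v ^ p ^ 0) 0 (h1 0) (h2 0) (algebraMap R _ b) at this
    rw [ev_algebraMap, ev_algebraMap] at this
    exact this
  have hx : ∀ j, W4c1imperftorsors.relFrob p R _ j (x.1 (j + 1)) = x.1 j := fun j => by
    have h := x.2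
    simp only [W4c1imperftorsors.prePerf, Algebra.mem_iInf] at h
    exact h j
  have hiter : ∀ n i, ∃ r s : R, x.1 i = algebraMap R _ r + algebraMap R _ (s * v ^ n) * αT p R u v i := by
    intro n
    induction n with
    | zero =>
      intro i
      obtain ⟨r, s, h⟩ := exists_normalForm_twist p R u v i (x.1 i)
      exact ⟨r, s, by rw [h, pow_zero, mul_one]⟩
    | succ n ih =>
      intro i
      obtain ⟨r, s, h⟩ := ih (i + 1)
      have hpos : 1 ≤ (p - 1) * p ^ i := Nat.one_le_iff_ne_zero.2 (Nat.mul_ne_zero (by have := hpp.one_lt; omega) (pow_ne_zero i hpp.ne_zero))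
      refine ⟨r, s * v ^ ((p - 1) * p ^ i - 1), ?_⟩
      rw [← hx i, h, map_add, map_mul, AlgHom.commutes, AlgHom.commutes, relFrob_αT p R u v hp i, ← mul_assoc, ← map_mul]
      congr 3
      rw [← pow_mul, mul_assoc, mul_assoc, ← pow_add, ← pow_add]
      congr 2
      omega
  have key : ∀ i, x.1 i = algebraMap R _ (ev p R u v (v ^ p ^ i) i (h1 i) (h2 i) (x.1 i)) := by
    intro i
    obtain ⟨r, s, h⟩ := exists_normalForm_twist p R u v i (x.1 i)
    have hs : s ∈ Ideal.span {u ^ p ^ i} := by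
      refine hsep _ (Nat.one_le_pow _ _ hpp.pos) s fun n => ?_
      obtain ⟨r', s', h'⟩ := hiter n i
      let R' := R ⧸ Ideal.span {u ^ p ^ i}
      let Q := QuadraticAlgebra R' (Ideal.Quotient.mk _ ((v ^ 2) ^ p ^ i)) 0
      letI : Algebra R Q := ((algebraMap R' Q).comp (Ideal.Quotient.mk _)).toAlgebra
      have hA : ∀ a : R, algebraMap R Q a = algebraMap R' Q (Ideal.Quotient.mk _ a) := fun a => rfl
      let w : Q := ⟨0, 1⟩
      have e1 : algebraMap R Q (u ^ p ^ i) * w = 0 := by
        rw [hA, Ideal.Quotient.eq_zero_iff_mem.2 (Ideal.mem_span_singleton_self _), map_zero, zero_mul]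
      have e2 : w ^ 2 = algebraMap R Q ((v ^ 2) ^ p ^ i) := by
        rw [sq, hA]
        ext <;> simp [w, Q, QuadraticAlgebra.algebraMap_eq, -map_pow]
      have e := congrArg (fun z => QuadraticAlgebra.im (ev p R u v w i e1 e2 z)) (h.symm.trans h')
      simp only [map_add, map_mul, ev_algebraMap, ev_αT, hA] at e
      simp [w, Q, QuadraticAlgebra.algebraMap_eq] at e
      rw [← map_pow, ← map_mul, Ideal.Quotient.eq] at e
      rw [show s = s' * v ^ n + (s - s' * v ^ n) by ring]
      exact Submodule.add_mem_sup (Ideal.mul_mem_left _ _ (Ideal.mem_span_singleton_self _)) e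
    obtain ⟨a, rfl⟩ := Ideal.mem_span_singleton'.1 hs
    rw [algebraMap_pow_u_mul, add_zero] at h
    rw [h, ev_algebraMap, Algebra.algebraMap_self, RingHom.id_apply]
  refine ⟨ev p R u v (v ^ p ^ 0) 0 (h1 0) (h2 0) (x.1 0), Subtype.ext (funext fun i => ?_)⟩
  change algebraMap R _ (ev p R u v (v ^ p ^ 0) 0 (h1 0) (h2 0) (x.1 0)) = x.1 i
  induction i with
  | zero => exact (key 0).symm
  | succ i ih =>
    rw [key (i + 1)]
    congr 1
    have e3 := hx i
    rw [key (i + 1), AlgHom.commutes, ← ih] at e3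
    have e4 := congrArg (ev p R u v (v ^ p ^ i) i (h1 i) (h2 i)) e3
    rw [ev_algebraMap, ev_algebraMap, Algebra.algebraMap_self, RingHom.id_apply, RingHom.id_apply] at e4
    exact e4.symm

end Groth.Agent.S13047
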