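import Groth.Statements.S13048
import Mathlib.RingTheory.Jacobson.Ring
import Mathlib.Algebra.CharP.Algebra
import Mathlib.RingTheory.Localization.AtPrime.Basic
import Mathlib.RingTheory.Filtration
import Mathlib.RingTheory.Localization.Submodule
import Mathlib.Tactic.LinearCombination


set_option autoImplicit false
universe u
open FrobAlg

namespace Groth.Agent.S13048

/-- Let k be an algebraically closed field of characteristic p > 0 and let A be a reduced finitely
generated commutative k-algebra with connected spectrum (A ≠ 0 and 0, 1 are its only idempotents).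
If x ∈ A is a p^n-th power in A for every n ≥ 0, then x lies in the image of k; that is, ⋂_n A^{p^n}
= k. (The published statement is: for an artinian local ring R of characteristic p and a flat
R-algebra A of finite type, the maps A^ét → O(π₀(A)) → A^{p^∞/R} from the largest étale subalgebra
to the preperfection are isomorphisms. This row is the case R = k algebraically closed and A reduced
with connected spectrum, where A^ét = k and the preperfection is ⋂_n A^{p^n}; the printed proof
reduces to this case and its last step proves it.) -/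
theorem result
    (p : ℕ) [Fact p.Prime] (k : Type u) [Field k] [IsAlgClosed k] [CharP k p]
    (A : Type u) [CommRing A] [Algebra k A] [Algebra.FiniteType k A] [IsReduced A] [Nontrivial A]
    (hconn : ∀ e : A, IsIdempotentElem e → e = 0 ∨ e = 1)
    (x : A) (hx : ∀ n : ℕ, ∃ a : A, a ^ p ^ n = x) :
    x ∈ (algebraMap k A).range := by
  have hp := (Fact.out : p.Prime)
  haveI : IsNoetherianRing A := Algebra.FiniteType.isNoetherianRing k A
  let J : k → Ideal A := fun c => LinearMap.ker (LinearMap.mulRight A (x - algebraMap k A c))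
  have hJ : ∀ c a, a ∈ J c ↔ a * (x - algebraMap k A c) = 0 := fun c a => Iff.rfl
  have hloc : ∀ m : Ideal A, m.IsMaximal → ∃ c, ¬ J c ≤ m := by
    intro m hm
    letI := Ideal.Quotient.field m
    haveI : Algebra.FiniteType k (A ⧸ m) := Algebra.FiniteType.of_surjective (Ideal.Quotient.mkₐ k m) Ideal.Quotient.mk_surjective
    haveI : Module.Finite k (A ⧸ m) := finite_of_finite_type_of_isJacobsonRing k (A ⧸ m)
    obtain ⟨c, hc⟩ := (IsAlgClosed.algebraMap_bijective_of_isIntegral (k := k) (K := A ⧸ m)).2 (Ideal.Quotient.mk m x)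
    refine ⟨c, fun hle => ?_⟩
    have hmem : ∀ n, x - algebraMap k A c ∈ m ^ (p ^ n) := by
      intro n
      obtain ⟨a, ha⟩ := hx n
      obtain ⟨c', hc'⟩ := IsAlgClosed.exists_pow_nat_eq c (pow_pos hp.pos n)
      haveI : CharP A p := charP_of_injective_algebraMap (algebraMap k A).injective p
      rw [← ha, ← hc', map_pow, ← sub_pow_char_pow]
      refine Ideal.pow_mem_pow ?_ _
      have hm' : (a - algebraMap k A c') ^ p ^ n ∈ m := by
        rw [sub_pow_char_pow, ha, ← map_pow, hc', ← Ideal.Quotient.eq, ← hc]
        rfl
      exact hm.isPrime.mem_of_pow_mem _ hm'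
    set y := x - algebraMap k A c
    have hy : algebraMap A (Localization.AtPrime m) y = 0 := by
      rw [← Ideal.mem_bot, ← Ideal.iInf_pow_eq_bot_of_isLocalRing _ (IsLocalRing.maximalIdeal.isMaximal (Localization.AtPrime m)).ne_top, Ideal.mem_iInf]
      intro n
      refine Ideal.pow_le_pow_right (Nat.lt_pow_self hp.one_lt).le ?_
      rw [← Localization.AtPrime.map_eq_maximalIdeal, ← Ideal.map_pow]
      exact Ideal.mem_map_of_mem _ (hmem n)
    obtain ⟨s, hs⟩ := (IsLocalization.map_eq_zero_iff m.primeCompl _ y).1 hy
    exact s.2 (hle ((hJ c _).2 hs))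
  obtain ⟨m₀, hm₀⟩ := Ideal.exists_maximal A
  obtain ⟨c, hc⟩ := hloc m₀ hm₀
  let J' : Ideal A := ⨆ c' : {c' // c' ≠ c}, J c'
  have hmul : ∀ a ∈ J c, ∀ b ∈ J', a * b = 0 := by
    intro a ha b hb
    induction hb using Submodule.iSup_induction' with
    | mem c' b hb =>
      have h : algebraMap k A (c'.1 - c) * (a * b) = 0 := by
        rw [map_sub]
        linear_combination b * (hJ c a).1 ha - a * (hJ c'.1 b).1 hb
      rwa [((sub_ne_zero.2 c'.2).isUnit.map (algebraMap k A)).mul_right_eq_zero] at h
    | zero => rw [mul_zero]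
    | add b b' _ _ h h' => rw [mul_add, h, h', add_zero]
  have htop : J c ⊔ J' = ⊤ := by
    by_contra h
    obtain ⟨m, hm, hle⟩ := Ideal.exists_le_maximal _ h
    obtain ⟨c', hc'⟩ := hloc m hm
    by_cases hcc : c' = c
    · subst hcc; exact hc' (le_sup_left.trans hle)
    · exact hc' ((le_iSup (fun c' : {c' // c' ≠ c} => J c') ⟨c', hcc⟩).trans (le_sup_right.trans hle))
  obtain ⟨e, he, e', he', hee⟩ := Submodule.mem_sup.1 ((Ideal.eq_top_iff_one _).1 htop)
  have hid : IsIdempotentElem e := by
    change e * e = e
    linear_combination e * hee - hmul e he e' he'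
  rcases hconn e hid with h0 | h1
  · refine absurd (fun a ha => ?_) hc
    have : a * 1 = 0 := by rw [← hee, h0, zero_add]; exact hmul a ha e' he'
    rw [mul_one] at this
    rw [this]; exact m₀.zero_mem
  · rw [h1] at he
    have := (hJ c 1).1 he
    rw [one_mul, sub_eq_zero] at this
    exact ⟨c, this.symm⟩

end Groth.Agent.S13048
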