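import Groth.Statements.S13049


set_option autoImplicit false
universe u
open FrobAlg

namespace Groth.Agent.S13049

/-- Let p be a prime and A a commutative ring of characteristic p whose nilradical N satisfies x^(p^e) =
0 for all x ∈ N and some fixed e (for instance A Noetherian). Then the map between the inverse-limit
perfections along the absolute Frobenius, lim (⋯ → A → A) → lim (⋯ → A/N → A/N), induced by the
projection A → A/N, is bijective. (The published argument takes A of finite type over a field, where
the nilradical is finitely generated; this row assumes only that the nilradical is killed by one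
fixed iterate of Frobenius, which is all that argument uses.) -/
theorem result
    (p : ℕ) [Fact p.Prime] (A : Type u) [CommRing A] [CharP A p]
    [CharP (A ⧸ nilradical A) p] (e : ℕ) (he : ∀ x ∈ nilradical A, x ^ p ^ e = 0) :
    Function.Bijective (Perfection.map p (Ideal.Quotient.mk (nilradical A))) := by
  have key : ∀ x y : A, x - y ∈ nilradical A → x ^ p ^ e = y ^ p ^ e := fun x y h => by
    rw [← sub_eq_zero, ← sub_pow_char_pow]; exact he _ h
  constructor
  · intro f g h
    ext n
    have hn : Perfection.coeff A p (n + e) f - Perfection.coeff A p (n + e) g ∈ nilradical A := by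
      rw [← Ideal.Quotient.eq]
      simpa using congrArg (Perfection.coeff (A ⧸ nilradical A) p (n + e)) h
    have hf : ∀ f : Perfection A p, Perfection.coeff A p n f = Perfection.coeff A p (n + e) f ^ p ^ e := by
      intro f
      rw [← Perfection.coeff_iterate_frobenius f n e, iterate_frobenius, map_pow]
    rw [hf f, hf g]
    exact key _ _ hn
  · intro h
    choose a ha using fun n => Ideal.Quotient.mk_surjective (Perfection.coeff (A ⧸ nilradical A) p n h)
    have hstep : ∀ n, a (n + 1) ^ p - a n ∈ nilradical A := fun n => by
      rw [← Ideal.Quotient.eq, map_pow, ha, ha]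
      exact Perfection.coeff_pow_p' h n
    refine ⟨⟨fun n => a (n + e) ^ p ^ e, fun n => ?_⟩, ?_⟩
    · rw [← pow_mul, mul_comm, pow_mul]
      exact key _ _ (by rw [show n + 1 + e = n + e + 1 by omega]; exact hstep (n + e))
    · ext n
      rw [Perfection.coeff_map]
      change Ideal.Quotient.mk _ (a (n + e) ^ p ^ e) = _
      rw [map_pow, ha, ← map_pow, ← iterate_frobenius, Perfection.coeff_iterate_frobenius]

end Groth.Agent.S13049
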