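import Groth.Statements.S1305
import Groth.Agent.S1302
-- import your own Groth.Agent.* helpers here

set_option autoImplicit false
universe u
open FlatMor

namespace Groth.Agent.S1305

open AlgebraicGeometry CategoryTheory in
/-- An element of the kernel of a surjective closed immersion is nilpotent. -/
theorem isNilpotent_of_app_eq_zero {X₀ X : Scheme.{u}} (i : X₀ ⟶ X) [AlgebraicGeometry.Surjective i]
    {U : X.Opens} (hU : IsAffineOpen U) {x : Γ(X, U)} (hx : (i.app U).hom x = 0) : IsNilpotent x := by
  rw [Scheme.isNilpotent_iff_basicOpen_eq_bot_of_isCompact hU.isCompact]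
  refine Groth.Agent.AffThick.preimage_inj i ?_
  rw [Scheme.preimage_basicOpen i x, show (i.app U).hom x = 0 from hx, Scheme.basicOpen_zero]
  rfl

open Polynomial in
/-- Integrality lifts along a map with nil kernel. -/
theorem isIntegral_of_nilKernel {A B C : Type u} [CommRing A] [CommRing B] [CommRing C]
    (φ : A →+* B) (π : B →+* C) (hn : ∀ b, π b = 0 → IsNilpotent b)
    (h : (π.comp φ).IsIntegral) : φ.IsIntegral := by
  intro b
  obtain ⟨p, hp, hp0⟩ := h (π b)
  have : IsNilpotent (p.eval₂ φ b) := hn _ (by rw [hom_eval₂]; exact hp0)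
  obtain ⟨m, hm⟩ := this
  exact ⟨p ^ m, hp.pow m, by rw [eval₂_pow, hm]⟩

open AlgebraicGeometry CategoryTheory Limits in
/-- For a morphism of thickenings, that is a commutative square whose horizontal maps are thickenings
(closed immersions that are surjective on points), the morphism between the thin schemes is integral
if and only if the morphism between the thick ones is. -/
theorem result {X X' S S' : Scheme.{u}} (iX : X ⟶ X') (iS : S ⟶ S') (f : X ⟶ S) (f' : X' ⟶ S')
    (hX : MoreMor.IsThickening iX) (hS : MoreMor.IsThickening iS) (w : iX ≫ f' = f ≫ iS) :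
    IsIntegralHom f ↔ IsIntegralHom f' := by
  constructor
  · intro hf
    have hfa : IsAffineHom f' := (Groth.Agent.S1302.result iX iS f f' hX hS w).1 inferInstance
    obtain ⟨hXc, hXs⟩ := hX
    obtain ⟨hSc, hSs⟩ := hS
    have hcomp : IsIntegralHom (iX ≫ f') := w ▸ inferInstance
    refine ⟨fun U hU => isIntegral_of_nilKernel _ (iX.app (f' ⁻¹ᵁ U)).hom
      (fun b hb => isNilpotent_of_app_eq_zero iX (hU.preimage f') hb) ?_⟩
    rw [← CommRingCat.hom_comp, ← Scheme.Hom.comp_app]
    exact hcomp.isIntegral_app U hU
  · intro hf'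
    obtain ⟨hXc, hXs⟩ := hX
    obtain ⟨hSc, hSs⟩ := hS
    have : IsIntegralHom (f ≫ iS) := w ▸ inferInstance
    exact IsIntegralHom.of_comp f iS

end Groth.Agent.S1305
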