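import Groth.Statements.S13053
import Groth.Agent.ZetaLib.ProjPoints
import Mathlib.Algebra.BigOperators.Field

set_option autoImplicit false
universe u
open CategoryTheory AlgebraicGeometry
open Zeta

namespace Groth.Agent.S13053

/-- For a finite field k with q elements, Z(P^n_k, t) = 1 / ((1 − t)(1 − qt) ⋯ (1 − q^n t)); stated as
Z(P^n_k, t) · ∏_{i = 0}^{n} (1 − q^i t) = 1 in ℚ⟦t⟧. -/
theorem result (k : Type u) [Field k] [Finite k] (n : ℕ) :
    Zeta.zetaFun (CohB1.ProjSpace.toSpec n k) *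
        ∏ i ∈ Finset.range (n + 1), (1 - PowerSeries.C ((Nat.card k : ℚ) ^ i) * PowerSeries.X) = 1 := by
  haveI : LocallyOfFiniteType (CohB1.ProjSpace.toSpec n k) := ZetaLib.locallyOfFiniteType_toSpec n k
  haveI : QuasiCompact (CohB1.ProjSpace.toSpec n k) := ZetaLib.quasiCompact_toSpec n k
  have hn : ∀ m ≠ 0, (Zeta.nPts (CohB1.ProjSpace.toSpec n k) m : ℚ) = ∑ i ∈ Finset.range (n + 1), ((Nat.card k : ℚ) ^ i) ^ m := by
    intro m hm
    obtain ⟨k', _, _, _, hk'⟩ := ZetaLib.exists_extension k hm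
    haveI : Module.Finite k k' := .of_finite
    rw [← hk', ← ZetaLib.pointCount_eq_nPts k', ZetaLib.pointCount_projSpace, Module.natCard_eq_pow_finrank (K := k) (V := k')]
    push_cast
    simp_rw [← pow_mul, mul_comm]
  have hL : Zeta.logZeta (CohB1.ProjSpace.toSpec n k) =
      ∑ i ∈ Finset.range (n + 1), PowExp.geomLog ((Nat.card k : ℚ) ^ i) := by
    ext m
    rcases eq_or_ne m 0 with rfl | hm
    · simp [Zeta.logZeta, PowExp.geomLog]
    · simp [Zeta.logZeta, PowExp.geomLog, hn m hm, Finset.sum_div]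
  show PowExp.expS _ * _ = 1
  rw [hL, PowExp.expS_sum _ _ fun i _ => PowExp.constantCoeff_geomLog _, ← Finset.prod_mul_distrib]
  exact Finset.prod_eq_one fun i _ => PowExp.expS_geomLog_mul _

end Groth.Agent.S13053
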