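import Groth.Statements.S13055
import Groth.Agent.PowExp.Basic
import Mathlib.Algebra.BigOperators.Field

set_option autoImplicit false
universe u
open CategoryTheory AlgebraicGeometry
open Zeta

namespace Groth.Agent.S13055

/-- Let X be a scheme of finite type over a finite field k with q elements and P = a_d y^d + ⋯ + a_0 ∈
ℤ[y] with N_m = P(q^m) for every m ≥ 1 (X is of polynomial count). Then Z(X, t) = ∏_{i = 0}^{d} (1 −
q^i t)^{−a_i}; stated cleared of denominators, with the factors of positive exponent moved to the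
left. -/
theorem result {k : Type u} [Field k] [Finite k] {X : Scheme.{u}}
    (f : X ⟶ Spec (CommRingCat.of k)) [LocallyOfFiniteType f] [QuasiCompact f] (P : Polynomial ℤ)
    (hP : ∀ m : ℕ, 1 ≤ m → (Zeta.nPts f m : ℤ) = P.eval ((Nat.card k : ℤ) ^ m)) :
    Zeta.zetaFun f * ∏ i ∈ Finset.range (P.natDegree + 1),
        (1 - PowerSeries.C ((Nat.card k : ℚ) ^ i) * PowerSeries.X) ^ (P.coeff i).toNat =
      ∏ i ∈ Finset.range (P.natDegree + 1),
        (1 - PowerSeries.C ((Nat.card k : ℚ) ^ i) * PowerSeries.X) ^ (-P.coeff i).toNat := by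
  classical
  set g : ℕ → PowerSeries ℚ := fun i => Groth.Agent.PowExp.geomLog ((Nat.card k : ℚ) ^ i)
  have hg : ∀ i, PowerSeries.constantCoeff (g i) = 0 := fun i =>
    Groth.Agent.PowExp.constantCoeff_geomLog _
  have hneg : ∀ (i e : ℕ),
      Groth.Agent.PowExp.expS ((e : PowerSeries ℚ) * (-g i)) =
        (1 - PowerSeries.C ((Nat.card k : ℚ) ^ i) * PowerSeries.X) ^ e := by
    intro i e
    rw [Groth.Agent.PowExp.expS_natMul (by simp [hg])]
    congr 1
    have h1 := Groth.Agent.PowExp.expS_add (hg i) (L' := -g i) (by simp [hg])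
    rw [add_neg_cancel, Groth.Agent.PowExp.expS_zero] at h1
    have h2 := Groth.Agent.PowExp.expS_geomLog_mul ((Nat.card k : ℚ) ^ i)
    exact mul_left_cancel₀ (left_ne_zero_of_mul_eq_one h2) (h1.symm.trans h2.symm)
  have hc : ∀ (i e : ℕ), PowerSeries.constantCoeff ((e : PowerSeries ℚ) * (-g i)) = 0 := by
    intro i e; simp [hg]
  have hL : PowerSeries.constantCoeff (Zeta.logZeta f) = 0 := by
    simp [Zeta.logZeta, ← PowerSeries.coeff_zero_eq_constantCoeff_apply]
  show Groth.Agent.PowExp.expS (Zeta.logZeta f) * _ = _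
  simp only [← hneg]
  rw [← Groth.Agent.PowExp.expS_sum _ _ (fun i _ => hc i _),
    ← Groth.Agent.PowExp.expS_sum _ _ (fun i _ => hc i _),
    ← Groth.Agent.PowExp.expS_add hL (by simp [hg])]
  congr 1
  have hlog : Zeta.logZeta f =
      ∑ i ∈ Finset.range (P.natDegree + 1), ((P.coeff i : ℤ) : PowerSeries ℚ) * g i := by
    ext m
    rcases Nat.eq_zero_or_pos m with rfl | hm
    · simp [hg, Zeta.logZeta]
    · simp only [Zeta.logZeta, PowerSeries.coeff_mk, map_sum, g, Groth.Agent.PowExp.geomLog,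
        ← map_intCast (PowerSeries.C (R := ℚ)), PowerSeries.coeff_C_mul]
      rw [show (Zeta.nPts f m : ℚ) = ((P.eval ((Nat.card k : ℤ) ^ m) : ℤ) : ℚ) by
        rw [← hP m hm]; norm_num, Polynomial.eval_eq_sum_range]
      push_cast
      rw [Finset.sum_div]
      refine Finset.sum_congr rfl fun i _ => ?_
      rw [← pow_mul, ← pow_mul, mul_comm m i]; ring
  rw [hlog, ← Finset.sum_add_distrib]
  refine Finset.sum_congr rfl fun i _ => ?_
  have : ((P.coeff i : ℤ) : PowerSeries ℚ) =
      ((P.coeff i).toNat : PowerSeries ℚ) - ((-P.coeff i).toNat : PowerSeries ℚ) := by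
    rw [← Int.cast_natCast, ← Int.cast_natCast ((-P.coeff i).toNat), ← Int.cast_sub]
    congr 1; omega
  rw [this]; ring

end Groth.Agent.S13055
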