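import Groth.Statements.S13057
import Mathlib.LinearAlgebra.Dual.Lemmas
import Mathlib.RingTheory.PowerSeries.Trunc

set_option autoImplicit false
universe u
open Zeta

namespace Groth.Agent.S13057

/-- A power series f = ∑_{m ≥ 0} a_m t^m over a field L lies in L(t), i.e. f · Q = P for some
polynomials P, Q with Q ≠ 0, if and only if there are natural numbers M, N such that the vectors
(a_i, a_{i+1}, …, a_{i+N}) ∈ L^{N+1}, i ≥ M, span a proper subspace. -/
theorem result {L : Type u} [Field L]
    (f : PowerSeries L) :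
    (∃ P Q : Polynomial L, Q ≠ 0 ∧ f * (Q : PowerSeries L) = (P : PowerSeries L)) ↔
      ∃ M N : ℕ, Submodule.span L
          {v : Fin (N + 1) → L | ∃ i : ℕ, M ≤ i ∧ v = fun j : Fin (N + 1) => PowerSeries.coeff (i + (j : ℕ)) f} ≠ ⊤ := by
  constructor
  · rintro ⟨P, Q, hQ, hfQ⟩
    refine ⟨P.natDegree + 1, Q.natDegree, fun htop => ?_⟩
    let φ : (Fin (Q.natDegree + 1) → L) →ₗ[L] L :=
      Fintype.linearCombination L (fun j : Fin (Q.natDegree + 1) => Q.coeff (Q.natDegree - j))
    have hker : ∀ v ∈ {v : Fin (Q.natDegree + 1) → L | ∃ i : ℕ, P.natDegree + 1 ≤ i ∧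
        v = fun j : Fin (Q.natDegree + 1) => PowerSeries.coeff (i + (j : ℕ)) f}, φ v = 0 := by
      rintro v ⟨i, hi, rfl⟩
      have h := congrArg (PowerSeries.coeff (i + Q.natDegree)) hfQ
      rw [Polynomial.coeff_coe, Polynomial.coeff_eq_zero_of_natDegree_lt (by omega),
        PowerSeries.coeff_mul, Finset.Nat.sum_antidiagonal_eq_sum_range_succ_mk] at h
      rw [← Finset.sum_range_add_sum_Ico _ (show i ≤ i + Q.natDegree + 1 by omega),
        Finset.sum_eq_zero (s := Finset.range i) (fun x hx => by
          rw [Polynomial.coeff_coe, Polynomial.coeff_eq_zero_of_natDegree_lt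
            (by rw [Finset.mem_range] at hx; omega), mul_zero]), zero_add,
        Finset.sum_Ico_eq_sum_range, show i + Q.natDegree + 1 - i = Q.natDegree + 1 by omega,
        Finset.sum_range] at h
      simp only [φ, Fintype.linearCombination_apply, smul_eq_mul, ← h]
      refine Finset.sum_congr rfl fun j _ => ?_
      rw [Polynomial.coeff_coe]
      congr 2
      omega
    have hφ : φ = 0 := LinearMap.ker_eq_top.mp <| eq_top_iff.mpr <| htop.symm.le.trans
      (Submodule.span_le.mpr fun v hv => hker v hv)
    have h0 := LinearMap.congr_fun hφ (Pi.single 0 1)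
    simp [φ, Fintype.linearCombination_apply_single] at h0
    exact hQ h0
  · rintro ⟨M, N, hne⟩
    classical
    obtain ⟨φ, hφ0, hφ⟩ := Submodule.exists_dual_map_eq_bot_of_lt_top hne.lt_top inferInstance
    set q : Fin (N + 1) → L := fun j => φ (Pi.single j 1)
    let Q : Polynomial L := ∑ j : Fin (N + 1), Polynomial.monomial (N - (j : ℕ)) (q j)
    have hQc : ∀ j : Fin (N + 1), Q.coeff (N - (j : ℕ)) = q j := fun j => by
      simp only [Q, Polynomial.finsetSum_coeff, Polynomial.coeff_monomial]
      rw [Finset.sum_eq_single j (fun l _ hl => if_neg (fun h => hl (Fin.ext (by omega))))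
        (by simp), if_pos rfl]
    have hQ : Q ≠ 0 := fun h => hφ0 <| by
      refine (Pi.basisFun L (Fin (N + 1))).ext fun j => ?_
      simpa [h, q] using (hQc j).symm
    have hzero : ∀ m, M + N ≤ m → PowerSeries.coeff m (f * (Q : PowerSeries L)) = 0 := by
      intro m hm
      have hv : φ (fun j : Fin (N + 1) => PowerSeries.coeff (m - N + (j : ℕ)) f) = 0 := by
        rw [← Submodule.mem_bot L, ← hφ]
        exact Submodule.mem_map_of_mem (Submodule.subset_span ⟨m - N, by omega, rfl⟩)
      rw [LinearMap.pi_apply_eq_sum_univ φ] at hv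
      have hQ' : (Q : PowerSeries L) =
          ∑ j : Fin (N + 1), PowerSeries.monomial (N - (j : ℕ)) (q j) := by
        simp only [Q, ← Polynomial.coeToPowerSeries.ringHom_apply, map_sum]
        simp
      rw [hQ', Finset.mul_sum, map_sum, ← hv]
      refine Finset.sum_congr rfl fun j _ => ?_
      rw [PowerSeries.monomial_eq_C_mul_X_pow, ← mul_assoc, PowerSeries.coeff_mul_X_pow',
        if_pos (by omega), PowerSeries.coeff_mul_C, smul_eq_mul,
        show m - (N - (j : ℕ)) = m - N + (j : ℕ) by omega]
      congr 1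
      simp only [q]
      congr 1
      ext l
      simp [Pi.single_apply, eq_comm]
    refine ⟨PowerSeries.trunc (M + N) (f * (Q : PowerSeries L)), Q, hQ, ?_⟩
    ext m
    rw [Polynomial.coeff_coe, PowerSeries.coeff_trunc]
    split_ifs with h
    · rfl
    · exact hzero m (by omega)

end Groth.Agent.S13057
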