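import Groth.Statements.S13058
import Groth.Agent.S13057

set_option autoImplicit false
universe u v
open Zeta

namespace Groth.Agent.S13058

/-- If L'/L is a field extension, a power series f ∈ L⟦t⟧ belongs to L(t) exactly when it belongs to
L'(t); here membership in L(t) means f · Q = P for polynomials P, Q over the field in question with
Q ≠ 0. -/
theorem result {L : Type u} {L' : Type v} [Field L] [Field L']
    [Algebra L L'] (f : PowerSeries L) :
    (∃ P Q : Polynomial L', Q ≠ 0 ∧
        PowerSeries.map (algebraMap L L') f * (Q : PowerSeries L') = (P : PowerSeries L')) ↔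
      ∃ P Q : Polynomial L, Q ≠ 0 ∧ f * (Q : PowerSeries L) = (P : PowerSeries L) := by
  constructor
  · intro h
    rw [Groth.Agent.S13057.result] at h ⊢
    obtain ⟨M, N, hne⟩ := h
    refine ⟨M, N, fun htop => hne ?_⟩
    rw [eq_top_iff, ← (Pi.basisFun L' (Fin (N + 1))).span_eq, Submodule.span_le]
    rintro _ ⟨j, rfl⟩
    let ψ : (Fin (N + 1) → L) →ₗ[L] (Fin (N + 1) → L') :=
      LinearMap.compLeft (Algebra.linearMap L L') (Fin (N + 1))
    have hj : ψ (Pi.single j 1) ∈ (Submodule.span L'
        {v : Fin (N + 1) → L' | ∃ i : ℕ, M ≤ i ∧ v = fun j : Fin (N + 1) =>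
          PowerSeries.coeff (i + (j : ℕ)) (PowerSeries.map (algebraMap L L') f)}).restrictScalars L := by
      have hmem : (Pi.single j 1 : Fin (N + 1) → L) ∈ (⊤ : Submodule L _) := Submodule.mem_top
      rw [← htop] at hmem
      have hle := Submodule.apply_mem_span_image_of_mem_span ψ hmem
      refine Submodule.span_le.mpr ?_ hle
      rintro _ ⟨v, ⟨i, hi, rfl⟩, rfl⟩
      exact Submodule.subset_span ⟨i, hi, by ext l; simp [ψ]⟩
    rw [SetLike.mem_coe, ← Submodule.restrictScalars_mem L]
    convert hj using 1
    ext l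
    by_cases h : l = j
    · subst h; simp [ψ]
    · simp [ψ, h]
  · rintro ⟨P, Q, hQ, hfQ⟩
    refine ⟨P.map (algebraMap L L'), Q.map (algebraMap L L'),
      (Polynomial.map_ne_zero_iff (algebraMap L L').injective).mpr hQ, ?_⟩
    rw [Polynomial.polynomial_map_coe, Polynomial.polynomial_map_coe, ← map_mul, hfQ]

end Groth.Agent.S13058
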