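import Groth.Statements.S13059
import Groth.Agent.S3252
import Mathlib.LinearAlgebra.Charpoly.ToMatrix

set_option autoImplicit false
universe u
open Zeta

namespace Groth.Agent.S13059

theorem charpoly_of_mul_eq_one {K : Type*} [CommRing K] {n : Type*} [Fintype n] [DecidableEq n]
    {M N : Matrix n n K} (h : M * N = 1) :
    N.charpoly = ((-1) ^ Fintype.card n * N.det) • M.charpolyRev := by
  have h' : N * M = 1 := mul_eq_one_comm.mp h
  have hm : Matrix.charmatrix N =
      (-(N.map Polynomial.C)) * (1 - (Polynomial.X : Polynomial K) • M.map Polynomial.C) := by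
    rw [Matrix.mul_sub, Matrix.mul_one, Matrix.mul_smul, Matrix.neg_mul, ← Matrix.map_mul, h']
    refine Matrix.ext fun i j => ?_
    rcases eq_or_ne i j with rfl | hij
    · simp [Matrix.charmatrix, add_comm]; ring
    · simp [Matrix.charmatrix, hij]
  rw [Matrix.charpoly, hm, Matrix.det_mul, Matrix.det_neg, Matrix.charpolyRev,
    Polynomial.smul_eq_C_mul, ← RingHom.mapMatrix_apply, ← RingHom.map_det]
  simp

/-- Let B : V × W → K be a perfect pairing of finite-dimensional vector spaces over a field K, c ∈ K
nonzero, and f, g endomorphisms of V, W with B(f v, g w) = c · B(v, w) for all v, w. Then det(Id − t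
g) = (−1)^r c^r t^r det(f)^{−1} det(Id − c^{−1} t^{−1} f) with r the common dimension; stated
cleared of denominators as det(f) · det(Id − t g) = (−1)^r c^r · det(t Id − c^{−1} f) in K[t],
det(Id − t g) being the reverse of the characteristic polynomial of g. -/
theorem result (K : Type u) [Field K] (V W : Type u)
    [AddCommGroup V] [Module K V] [FiniteDimensional K V] [AddCommGroup W] [Module K W]
    [FiniteDimensional K W] (B : V →ₗ[K] W →ₗ[K] K) [B.IsPerfPair] (f : V →ₗ[K] V) (g : W →ₗ[K] W)
    (c : K) (hc : c ≠ 0) (hfg : ∀ (v : V) (w : W), B (f v) (g w) = c * B v w) :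
    LinearMap.det f • (LinearMap.charpoly g).reverse =
      ((-1) ^ Module.finrank K W * c ^ Module.finrank K W) • (c⁻¹ • f).charpoly := by
  set φ := B.toPerfPair
  set f' := c⁻¹ • f with hf'
  have h1 : g.dualMap ∘ₗ (φ.toLinearMap ∘ₗ f' ∘ₗ φ.symm.toLinearMap) = LinearMap.id := by
    ext ψ w
    simp only [LinearMap.comp_apply, LinearEquiv.coe_coe, LinearMap.dualMap_apply,
      LinearMap.id_apply, hf', LinearMap.smul_apply, map_smul]
    obtain ⟨v, rfl⟩ := φ.surjective ψ
    simp only [LinearEquiv.symm_apply_apply]
    simp [φ, hfg, hc]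
  let b := Module.finBasis K W
  let M := LinearMap.toMatrix b b g
  let N' := LinearMap.toMatrix b.dualBasis b.dualBasis (φ.toLinearMap ∘ₗ f' ∘ₗ φ.symm.toLinearMap)
  have hMN : M.transpose * N' = 1 := by
    have h2 := congrArg (LinearMap.toMatrix b.dualBasis b.dualBasis) h1
    rw [LinearMap.toMatrix_comp b.dualBasis b.dualBasis b.dualBasis] at h2
    rw [LinearMap.toMatrix_id] at h2
    rw [← h2, LinearMap.dualMap_def, LinearMap.toMatrix_transpose]
  have hcf : f'.charpoly = N'.charpoly := by
    rw [show N'.charpoly = (φ.toLinearMap ∘ₗ f' ∘ₗ φ.symm.toLinearMap).charpoly from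
      LinearMap.charpoly_toMatrix _ _]
    exact (LinearEquiv.charpoly_conj φ f').symm
  have hg : g.charpoly.reverse = M.transpose.charpolyRev := by
    rw [← LinearMap.charpoly_toMatrix g b, ← Matrix.charpoly_transpose, Matrix.reverse_charpoly]
  have key := charpoly_of_mul_eq_one hMN
  have hdg : M.transpose.det = LinearMap.det g := by
    rw [Matrix.det_transpose]; exact LinearMap.det_toMatrix b g
  rw [hcf, hg]
  have hdet := Groth.Agent.S3252.result K V W B f g c hfg
  have hr : Module.finrank K V = Module.finrank K W := Module.finrank_of_isPerfPair B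
  rw [← hdg, hr] at hdet
  rw [key, smul_smul, ← hdet]
  have hd0 : M.transpose.det * N'.det = 1 := by rw [← Matrix.det_mul, hMN, Matrix.det_one]
  congr 1
  have hs : ((-1 : K) ^ Module.finrank K W) * (-1) ^ Module.finrank K W = 1 := by
    rw [← mul_pow]; simp
  simp only [Fintype.card_fin]
  linear_combination (-(LinearMap.det f)) * hd0 + (-(LinearMap.det f * M.transpose.det * N'.det)) * hs

end Groth.Agent.S13059
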