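import Groth.Statements.S13060
import Mathlib.LinearAlgebra.TensorProduct.Basis

set_option autoImplicit false
universe u v w x
open TensorProduct
open Zeta

namespace Groth.Agent.S13060

/-- Let k be a field, V and W vector spaces over k and G a group acting on V by k-linear automorphisms;
for the induced action on V ⊗_k W (trivial on W) one has (V ⊗_k W)^G = V^G ⊗_k W, i.e. the
invariants of V ⊗ W are the image of V^G ⊗ W → V ⊗ W. -/
theorem result {k : Type u} [Field k] {G : Type v} [Group G]
    {V : Type w} {W : Type x} [AddCommGroup V] [Module k V] [AddCommGroup W] [Module k W]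
    (ρ : Representation k G V) :
    (ρ.tprod (Representation.trivial k G W)).invariants =
      LinearMap.range (TensorProduct.map ρ.invariants.subtype (LinearMap.id : W →ₗ[k] W)) := by
  classical
  let b := Module.Free.chooseBasis k W
  let e := TensorProduct.equivFinsuppOfBasisRight (M := V) b
  have he : ∀ (g : G) (x : TensorProduct k V W),
      e (TensorProduct.map (ρ g) LinearMap.id x) = (e x).mapRange (ρ g) (map_zero _) := by
    intro g x
    induction x using TensorProduct.induction_on with
    | zero => simp
    | tmul v w =>
      ext i
      simp [e, TensorProduct.equivFinsuppOfBasisRight_apply_tmul]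
    | add x y hx hy =>
      simp [map_add, hx, hy, Finsupp.mapRange_add]
  apply le_antisymm
  · intro x hx
    have hcoord : ∀ i, e x i ∈ ρ.invariants := fun i g => by
      have h := hx g
      rw [Representation.tprod_apply, show Representation.trivial k G W g = LinearMap.id from rfl]
        at h
      have h2 := congrArg (fun y => e y i) h
      simpa [he] using h2
    rw [← e.symm_apply_apply x, ← (e x).sum_single, map_finsuppSum]
    refine Submodule.sum_mem _ fun i _ => ?_
    refine ⟨(⟨e x i, hcoord i⟩ : ρ.invariants) ⊗ₜ b i, ?_⟩
    simp [e]
  · rintro _ ⟨y, rfl⟩ g
    induction y using TensorProduct.induction_on with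
    | zero => simp
    | tmul v w =>
      simp [Representation.tprod_apply, v.2 g]
    | add x y hx hy => rw [map_add, map_add, hx, hy]

end Groth.Agent.S13060
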