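import Groth.Statements.S13061
import Mathlib.GroupTheory.Sylow
import Mathlib.RingTheory.Ideal.Quotient.Operations
import Mathlib.Algebra.CharP.Algebra

set_option autoImplicit false
universe u v w
open Zeta

namespace Groth.Agent.S13061

/-- Let A be a commutative algebra over a field k, G a finite group acting on A by k-algebra
automorphisms and I ⊆ A an ideal preserved by G. If p^n is the largest power of p = char(k) dividing
|G| (with p^n = 1 when char(k) = 0), then for every G-invariant b ∈ A/I the power b^{p^n} lies in
the image of A^G → (A/I)^G. (The published statement takes A finitely generated over k, which the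
proof does not use.) -/
theorem result {k : Type u} [Field k]
    {A : Type v} [CommRing A] [Algebra k A] {G : Type w} [Group G] [Finite G]
    [MulSemiringAction G A] [SMulCommClass G k A] (I : Ideal A)
    (hI : ∀ (g : G) (a : A), a ∈ I → g • a ∈ I) (u : A) (hu : ∀ g : G, g • u - u ∈ I) :
    ∃ a : A, (∀ g : G, g • a = a) ∧
      Ideal.Quotient.mk I a =
        Ideal.Quotient.mk I u ^ (ringChar k ^ (Nat.card G).factorization (ringChar k)) := by
  classical
  set p := ringChar k with hp
  set m := p ^ (Nat.card G).factorization p with hm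
  obtain ⟨P, hPcard, hPinv⟩ : ∃ P : Subgroup G, Nat.card P = m ∧ (P.index : k) ≠ 0 := by
    by_cases h0 : p = 0
    · have : CharP k 0 := h0 ▸ ringChar.charP k
      have : CharZero k := CharP.charP_to_charZero k
      refine ⟨⊥, ?_, ?_⟩
      · simp [hm, h0]
      · simp [Nat.card_pos.ne']
    · have hpp : p.Prime := (CharP.char_is_prime_or_zero k p).resolve_right h0
      haveI := Fact.mk hpp
      obtain ⟨Q⟩ : Nonempty (Sylow p G) := inferInstance
      refine ⟨Q.toSubgroup, Q.card_eq_multiplicity, ?_⟩
      rw [Ne, ringChar.spec, ← hp]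
      exact Q.not_dvd_index
  let _ : Fintype P := Fintype.ofFinite P
  let _ : Fintype (G ⧸ P) := Fintype.ofFinite _
  set N : A := ∏ g : P, (g : G) • u with hN
  have hNinv : ∀ h : G, h ∈ P → h • N = N := by
    intro h hh
    rw [hN, Finset.smul_prod']
    exact Fintype.prod_equiv (Equiv.mulLeft (⟨h, hh⟩ : P)) _ _ fun g => by simp [mul_smul]
  let F : G ⧸ P → A := Quotient.lift (fun g : G => g • N) (fun a b hab => by
    replace hab : a⁻¹ * b ∈ P := QuotientGroup.leftRel_apply.mp hab
    show a • N = b • N
    conv_rhs => rw [← mul_inv_cancel_left a b, mul_smul, hNinv _ hab])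
  have hF : ∀ (g : G) (q : G ⧸ P), g • F q = F (g • q) := by
    intro g q
    induction q using QuotientGroup.induction_on with
    | H x => exact (mul_smul g x N).symm
  refine ⟨(P.index : k)⁻¹ • ∑ q, F q, fun g => ?_, ?_⟩
  · rw [smul_comm g, Finset.smul_sum]
    congr 1
    exact Fintype.sum_equiv (MulAction.toPerm g) _ _ fun q => by simp [hF]
  · have hgu : ∀ g : G, Ideal.Quotient.mk I (g • u) = Ideal.Quotient.mk I u :=
      fun g => Ideal.Quotient.eq.mpr (hu g)
    have hNu : Ideal.Quotient.mk I N = Ideal.Quotient.mk I u ^ m := by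
      rw [hN, map_prod, Finset.prod_congr rfl (fun g _ => hgu _), Finset.prod_const,
        Finset.card_univ, ← Nat.card_eq_fintype_card, hPcard]
    have hFu : ∀ q, Ideal.Quotient.mk I (F q) = Ideal.Quotient.mk I u ^ m := by
      intro q
      induction q using QuotientGroup.induction_on with
      | H x =>
        rw [show F (x : G ⧸ P) = x • N from rfl, ← hNu]
        refine Ideal.Quotient.eq.mpr ?_
        have h1 : x • (N - u ^ m) ∈ I := hI x _ (by rw [← Ideal.Quotient.eq, map_pow]; exact hNu)
        have h2 : x • u ^ m - u ^ m ∈ I := by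
          rw [← Ideal.Quotient.eq, smul_pow', map_pow, map_pow, hgu]
        have h3 : N - u ^ m ∈ I := by rw [← Ideal.Quotient.eq, map_pow]; exact hNu
        have := I.sub_mem (I.add_mem h1 h2) h3
        rwa [smul_sub, show x • N - x • u ^ m + (x • u ^ m - u ^ m) - (N - u ^ m) = x • N - N by ring]
          at this
    have hmk : ∀ (a : k) (y : A), Ideal.Quotient.mk I (a • y) = a • Ideal.Quotient.mk I y :=
      fun a y => (Ideal.Quotient.mkₐ k I).toLinearMap.map_smul a y
    rw [hmk, map_sum, Finset.sum_congr rfl (fun q _ => hFu q), Finset.sum_const, Finset.card_univ,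
      ← Nat.card_eq_fintype_card, ← Subgroup.index, ← Nat.cast_smul_eq_nsmul k,
      inv_smul_smul₀ hPinv]

end Groth.Agent.S13061
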