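import Groth.Statements.S13063
import Groth.Agent.LangWeil.Scheme

set_option autoImplicit false
universe u
open CategoryTheory AlgebraicGeometry Limits
open Zeta

namespace Groth.Agent.S13063

/-- Let X be a scheme of finite type over a finite field k with q elements, of dimension r. For each
irreducible component Z of X of dimension r let m_Z be the number of irreducible components of its
preimage in X ×_k k̄, k̄ an algebraic closure of k, and put a_e = ∑_{Z : m_Z ∣ e} m_Z. Then there
are constants α, α' > 0 such that for every e ≥ 1: if a_e > 0 then |N_e − a_e q^{er}| ≤ α q^{e(r −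
1/2)}, and if a_e = 0 then N_e ≤ α' q^{e(r − 1)}, where N_e = ∑_{d ∣ e} d · #{closed points of
residue degree d} is the number of points of X in the degree-e extension of k. (Stated for schemes
of finite type; reducedness plays no role.) -/
theorem result {k : Type u} [Field k] [Finite k] {X : Scheme.{u}}
    (f : X ⟶ Spec (CommRingCat.of k)) [LocallyOfFiniteType f] [QuasiCompact f] (r : ℕ)
    (hr : topologicalKrullDim X = r) :
    ∃ α α' : ℝ, 0 < α ∧ 0 < α' ∧ ∀ e : ℕ, 1 ≤ e →
      (0 < (∑ᶠ (Z : Set X) (_ : Z ∈ irreducibleComponents X ∧ topologicalKrullDim Z = r ∧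
            Nat.card (irreducibleComponents ((pullback.fst f (Spec.map (CommRingCat.ofHom
              (algebraMap k (AlgebraicClosure k))))).base ⁻¹' Z)) ∣ e),
          Nat.card (irreducibleComponents ((pullback.fst f (Spec.map (CommRingCat.ofHom
              (algebraMap k (AlgebraicClosure k))))).base ⁻¹' Z))) →
        |(Zeta.nPts f e : ℝ) -
            (∑ᶠ (Z : Set X) (_ : Z ∈ irreducibleComponents X ∧ topologicalKrullDim Z = r ∧
              Nat.card (irreducibleComponents ((pullback.fst f (Spec.map (CommRingCat.ofHom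
                (algebraMap k (AlgebraicClosure k))))).base ⁻¹' Z)) ∣ e),
            Nat.card (irreducibleComponents ((pullback.fst f (Spec.map (CommRingCat.ofHom
                (algebraMap k (AlgebraicClosure k))))).base ⁻¹' Z)) : ℕ) *
              (Nat.card k : ℝ) ^ (e * r)| ≤
          α * (Nat.card k : ℝ) ^ ((e : ℝ) * ((r : ℝ) - 1 / 2))) ∧
      ((∑ᶠ (Z : Set X) (_ : Z ∈ irreducibleComponents X ∧ topologicalKrullDim Z = r ∧
            Nat.card (irreducibleComponents ((pullback.fst f (Spec.map (CommRingCat.ofHom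
              (algebraMap k (AlgebraicClosure k))))).base ⁻¹' Z)) ∣ e),
          Nat.card (irreducibleComponents ((pullback.fst f (Spec.map (CommRingCat.ofHom
              (algebraMap k (AlgebraicClosure k))))).base ⁻¹' Z))) = 0 →
        (Zeta.nPts f e : ℝ) ≤ α' * (Nat.card k : ℝ) ^ ((e : ℝ) * ((r : ℝ) - 1))) := by
  classical
  obtain ⟨T, C, hC0, -, hT, hpos, hb⟩ := Groth.Agent.LangWeil.exists_scheme_bound f hr
  refine ⟨C + 1, C + 1, by linarith, by linarith, fun e he => ?_⟩
  set m : Set X → ℕ := fun Z => Nat.card (irreducibleComponents (Groth.Agent.LangWeil.geomProj f ⁻¹' Z)) with hm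
  have hsum : (∑ᶠ (Z : Set X) (_ : Z ∈ irreducibleComponents X ∧ topologicalKrullDim Z = r ∧ m Z ∣ e), m Z) =
      ∑ Z ∈ T, if m Z ∣ e then m Z else 0 := by
    rw [← Finset.sum_filter]
    refine finsum_cond_eq_sum_of_cond_iff _ fun {Z} _ => ?_
    rw [Finset.mem_filter, hT, and_assoc]
  set q : ℝ := (Nat.card k : ℝ)
  have hq : 0 < q := Nat.cast_pos.2 Nat.card_pos
  have hqr : ∀ t : ℝ, q ^ ((e : ℝ) * t) = (q ^ e) ^ t := fun t => by
    rw [Real.rpow_mul hq.le, Real.rpow_natCast]
  have hQ : 0 < q ^ e := pow_pos hq e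
  have h1 : q ^ ((e : ℝ) * ((r : ℝ) - 1 / 2)) = (q ^ e) ^ r / Real.sqrt (q ^ e) := by
    rw [hqr, Real.rpow_sub hQ, Real.rpow_natCast, Real.sqrt_eq_rpow]
  have h2 : q ^ ((e : ℝ) * ((r : ℝ) - 1)) = (q ^ e) ^ r / q ^ e := by
    rw [hqr, Real.rpow_sub hQ, Real.rpow_natCast, Real.rpow_one]
  obtain ⟨hb1, hb2⟩ := hb e he
  refine ⟨fun _ => ?_, fun h0 => ?_⟩
  · show |(Zeta.nPts f e : ℝ) - ((∑ᶠ (Z : Set X) (_ : Z ∈ irreducibleComponents X ∧ topologicalKrullDim Z = r ∧ m Z ∣ e), m Z : ℕ) : ℝ) * q ^ (e * r)| ≤ _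
    rw [hsum, pow_mul]
    rw [h1, ← mul_div_assoc]
    exact hb1.trans (by gcongr; linarith)
  · have h0' : (∑ Z ∈ T, if m Z ∣ e then m Z else 0) = 0 := hsum.symm.trans h0
    have h3 := hb2 fun Z hZ hd => by
      have := Finset.sum_eq_zero_iff.1 h0' Z hZ
      rw [if_pos hd] at this
      exact (hpos Z hZ).ne' this
    rw [h2, ← mul_div_assoc, le_div_iff₀ hQ]
    exact h3.trans (by gcongr; linarith)

end Groth.Agent.S13063
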