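import Groth.Statements.S13065
import Mathlib.FieldTheory.Finite.Basic
import Mathlib.RingTheory.MvPolynomial.Homogeneous

set_option autoImplicit false
universe u
open Zeta

namespace Groth.Agent.S13065

/-- Let k be a finite field with q elements and characteristic p, n ≥ 2, and f ∈ k[x_0, …, x_n]
homogeneous of degree n + 1, defining the hypersurface Z ⊂ P^n_k. Then #Z(F_q) ≢ 1 (mod p) if and
only if the coefficient of (x_0 ⋯ x_n)^{q−1} in f^{q−1} is nonzero. Stated through the affine count:
#Z(F_q) ≡ 1 (mod p) exactly when p divides the number of zeros of f in k^{n+1} (as (q − 1) #Z(F_q) +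
1 is that number). -/
theorem result {k : Type u} [Field k] [Finite k] (p : ℕ)
    [CharP k p] (n : ℕ) (hn : 2 ≤ n) (f : MvPolynomial (Fin (n + 1)) k)
    (hf : f.IsHomogeneous (n + 1)) :
    p ∣ Nat.card {a : Fin (n + 1) → k // MvPolynomial.eval a f = 0} ↔
      MvPolynomial.coeff (Finsupp.equivFunOnFinite.symm fun _ : Fin (n + 1) => Nat.card k - 1)
        (f ^ (Nat.card k - 1)) = 0 := by
  classical
  let _ := Fintype.ofFinite k
  set q := Fintype.card k with hq
  have hcard : Nat.card k = q := Nat.card_eq_fintype_card
  have hq1 : 1 < q := Fintype.one_lt_card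
  have hsum : ∑ a : Fin (n + 1) → k, MvPolynomial.eval a (f ^ (q - 1)) =
      (-1) ^ (n + 1) * MvPolynomial.coeff
        (Finsupp.equivFunOnFinite.symm fun _ : Fin (n + 1) => q - 1) (f ^ (q - 1)) := by
    have hhom := hf.pow (q - 1)
    simp only [MvPolynomial.eval_eq']
    rw [Finset.sum_comm]
    simp only [← Finset.mul_sum]
    have key : ∀ m ∈ (f ^ (q - 1)).support,
        ∑ a : Fin (n + 1) → k, ∏ i, a i ^ m i =
          if m = Finsupp.equivFunOnFinite.symm (fun _ : Fin (n + 1) => q - 1) then (-1) ^ (n + 1)
          else 0 := by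
      intro m hm
      rw [← Fintype.prod_sum (fun (i : Fin (n + 1)) (x : k) => x ^ m i)]
      split_ifs with h
      · subst h
        have : ∑ x : k, x ^ (q - 1) = -1 := by
          rw [← Finset.add_sum_erase _ _ (Finset.mem_univ (0 : k)), zero_pow (by omega), zero_add,
            Finset.sum_congr rfl (fun x hx => FiniteField.pow_card_sub_one_eq_one x
              (Finset.ne_of_mem_erase hx)), Finset.sum_const, Finset.card_erase_of_mem
              (Finset.mem_univ _), Finset.card_univ, ← hq, nsmul_eq_mul, mul_one,
              Nat.cast_sub hq1.le, FiniteField.cast_card_eq_zero, Nat.cast_one, zero_sub]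
        simp [this]
      · obtain ⟨i, hi⟩ : ∃ i, m i < q - 1 := by
          by_contra hcon
          push Not at hcon
          refine h (Finsupp.ext fun i => ?_)
          have hdeg : ∑ i, m i = (n + 1) * (q - 1) := by
            rw [← hhom (MvPolynomial.mem_support_iff.mp hm), Finsupp.weight_apply,
              Finsupp.sum_fintype _ _ (by simp)]
            simp
          by_contra hne
          have hlt : ∑ _i : Fin (n + 1), (q - 1) < ∑ i, m i :=
            Finset.sum_lt_sum (fun j _ => hcon j)
              ⟨i, Finset.mem_univ i, lt_of_le_of_ne (hcon i) fun h' => hne (by simp [← h'])⟩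
          simp [hdeg] at hlt
        exact Finset.prod_eq_zero (Finset.mem_univ i)
          (FiniteField.sum_pow_lt_card_sub_one k _ hi)
    rw [Finset.sum_congr rfl (fun m hm => by rw [key m hm]), ]
    simp only [mul_ite, mul_zero, Finset.sum_ite_eq']
    split_ifs with h
    · ring
    · rw [MvPolynomial.notMem_support_iff.mp h, mul_zero]
  have hcount : ((Nat.card {a : Fin (n + 1) → k // MvPolynomial.eval a f = 0} : ℕ) : k) =
      -∑ a : Fin (n + 1) → k, MvPolynomial.eval a (f ^ (q - 1)) := by
    have h1 : ∀ a, MvPolynomial.eval a (f ^ (q - 1)) =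
        1 - (if MvPolynomial.eval a f = 0 then (1 : k) else 0) := fun a => by
      rw [map_pow]
      split_ifs with h
      · simp [h, zero_pow (show q - 1 ≠ 0 by omega)]
      · rw [sub_zero]; exact FiniteField.pow_card_sub_one_eq_one _ h
    simp only [h1, Finset.sum_sub_distrib, Finset.sum_boole, Finset.sum_const, nsmul_eq_mul,
      mul_one, Finset.card_univ, Fintype.card_fun, Fintype.card_fin, Nat.cast_pow, ← hq,
      Nat.card_eq_fintype_card, Fintype.card_subtype]
    rw [hq, FiniteField.cast_card_eq_zero, zero_pow (Nat.succ_ne_zero n), zero_sub, neg_neg]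
  rw [← CharP.cast_eq_zero_iff k p, hcount, hsum, hcard]
  simp

end Groth.Agent.S13065
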