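import Groth.Statements.S13066
import Mathlib.FieldTheory.Finite.Basic
import Mathlib.RingTheory.MvPolynomial.Expand
import Mathlib.RingTheory.MvPolynomial.Homogeneous

set_option autoImplicit false
universe u
open Zeta

namespace Groth.Agent.S13066

/-- Let k be a finite field with q elements and characteristic p, n ≥ 2, and f ∈ k[x_0, …, x_n]
homogeneous of degree n + 1. Then the coefficient of (x_0 ⋯ x_n)^{q−1} in f^{q−1} is nonzero if and
only if the coefficient of (x_0 ⋯ x_n)^{p−1} in f^{p−1} is nonzero. -/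
theorem result {k : Type u} [Field k] [Finite k]
    (p : ℕ) [CharP k p] (n : ℕ) (hn : 2 ≤ n) (f : MvPolynomial (Fin (n + 1)) k)
    (hf : f.IsHomogeneous (n + 1)) :
    MvPolynomial.coeff (Finsupp.equivFunOnFinite.symm fun _ : Fin (n + 1) => Nat.card k - 1)
        (f ^ (Nat.card k - 1)) ≠ 0 ↔
      MvPolynomial.coeff (Finsupp.equivFunOnFinite.symm fun _ : Fin (n + 1) => p - 1)
        (f ^ (p - 1)) ≠ 0 := by
  classical
  let _ := Fintype.ofFinite k
  obtain ⟨⟨e, he⟩, hp, hcard⟩ := FiniteField.card k p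
  haveI := Fact.mk hp
  rw [Nat.card_eq_fintype_card, hcard]
  set c : (ℕ) → k := fun j => MvPolynomial.coeff
    (Finsupp.equivFunOnFinite.symm fun _ : Fin (n + 1) => p ^ j - 1) (f ^ (p ^ j - 1)) with hc
  have hstep : ∀ j, c (j + 1) = c 1 * c j ^ p := by
    intro j
    have hpj : 1 ≤ p ^ j := Nat.one_le_pow _ _ hp.pos
    have hexp : p ^ (j + 1) - 1 = (p - 1) + (p ^ j - 1) * p := by
      have : p ≤ p ^ j * p := Nat.le_mul_of_pos_left _ hpj
      rw [Nat.sub_mul, one_mul, pow_succ]
      have := hp.one_lt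
      omega
    simp only [hc, pow_one]
    rw [show f ^ (p ^ (j + 1) - 1) = f ^ (p - 1) * (f ^ (p ^ j - 1)) ^ p by
      rw [hexp, pow_add, pow_mul], MvPolynomial.coeff_mul,
      ← MvPolynomial.map_frobenius_expand p]
    rw [Finset.sum_eq_single
      (Finsupp.equivFunOnFinite.symm (fun _ : Fin (n + 1) => p - 1),
        p • Finsupp.equivFunOnFinite.symm (fun _ : Fin (n + 1) => p ^ j - 1))]
    · rw [MvPolynomial.coeff_map, MvPolynomial.coeff_expand_smul _ hp.ne_zero, frobenius_def]
    · rintro ⟨s, t⟩ hst hne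
      rw [MvPolynomial.coeff_map]
      by_cases hs : MvPolynomial.coeff s (f ^ (p - 1)) = 0
      · rw [hs, zero_mul]
      by_cases ht : MvPolynomial.coeff t ((f ^ (p ^ j - 1)).expand p) = 0
      · rw [ht, map_zero, mul_zero]
      exfalso
      have hdvd : ∀ i, p ∣ t i := fun i => by
        by_contra h; exact ht (MvPolynomial.coeff_expand_of_not_dvd _ h)
      rw [Finset.mem_antidiagonal] at hst
      have hi : ∀ i, s i + t i = p ^ (j + 1) - 1 := fun i => by
        simpa using Finsupp.ext_iff.mp hst i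
      have hsge : ∀ i, p - 1 ≤ s i := fun i => by
        obtain ⟨b, hb⟩ := hdvd i
        have h := hi i
        rw [hexp, hb, mul_comm (p ^ j - 1) p] at h
        by_contra hlt
        have hlt' : p * b < p * (p ^ j - 1) + p := by omega
        have hgt : p * (p ^ j - 1) < p * b := by omega
        have h1 : b < p ^ j - 1 + 1 := Nat.lt_of_mul_lt_mul_left (a := p) (by rwa [Nat.mul_succ])
        have h2 := Nat.lt_of_mul_lt_mul_left hgt
        omega
      have hdeg : ∑ i, s i = (n + 1) * (p - 1) := by
        rw [← (hf.pow (p - 1)) hs, Finsupp.weight_apply, Finsupp.sum_fintype _ _ (by simp)]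
        simp
      have hseq : ∀ i, s i = p - 1 := fun i => by
        by_contra hne'
        have hlt : ∑ _i : Fin (n + 1), (p - 1) < ∑ i, s i :=
          Finset.sum_lt_sum (fun l _ => hsge l)
            ⟨i, Finset.mem_univ i, lt_of_le_of_ne (hsge i) fun h' => hne' h'.symm⟩
        simp [hdeg] at hlt
      apply hne
      refine Prod.ext (Finsupp.ext fun i => by simp [hseq i]) (Finsupp.ext fun i => ?_)
      have h := hi i
      rw [hseq i, hexp, mul_comm] at h
      simp; omega
    · intro h
      refine absurd (Finset.mem_antidiagonal.mpr (Finsupp.ext fun i => ?_)) h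
      simp only [Finsupp.add_apply, Finsupp.smul_apply, Finsupp.coe_equivFunOnFinite_symm,
        smul_eq_mul, hexp]
      ring
  have h1 : MvPolynomial.coeff (Finsupp.equivFunOnFinite.symm fun _ : Fin (n + 1) => p - 1)
      (f ^ (p - 1)) = c 1 := by simp [hc]
  rw [h1]
  show c e ≠ 0 ↔ c 1 ≠ 0
  obtain ⟨j, rfl⟩ : ∃ j, e = j + 1 := ⟨e - 1, by omega⟩
  clear hcard he
  induction j with
  | zero => exact Iff.rfl
  | succ j ih =>
    rw [hstep, mul_ne_zero_iff, pow_ne_zero_iff hp.ne_zero, ih, and_self]

end Groth.Agent.S13066
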