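import Groth.Statements.S13070
import Groth.Agent.ZetaLib.CountScheme
import Mathlib.Analysis.SpecialFunctions.Pow.Real
import Mathlib.FieldTheory.Finite.Basic

set_option autoImplicit false
universe u
open CategoryTheory AlgebraicGeometry
open Zeta

namespace Groth.Agent.S13070

/-- For an arithmetic scheme X (of finite type over ℤ) of dimension r there are c_X > 0 and p₀ such that
#X(F_{p^m}) ≤ c_X p^{m(r−1)} for all primes p ≥ p₀ and m ≥ 1, and #X(F_{p^m}) ≤ c_X p^{mr} for p <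
p₀ and m ≥ 1. Here #X(F) is the number of morphisms Spec F → X, and the dimension is only assumed ≤
r. -/
theorem result {X : Scheme.{u}}
    (f : X ⟶ Spec (CommRingCat.of (ULift.{u} ℤ))) [LocallyOfFiniteType f] [QuasiCompact f] (r : ℕ)
    (hr : topologicalKrullDim X ≤ r) :
    ∃ (c : ℝ) (p₀ : ℕ), 0 < c ∧ ∀ (p m : ℕ), p.Prime → 1 ≤ m →
      ∀ (F : Type u) [Field F], Nat.card F = p ^ m →
        (p₀ ≤ p → (Nat.card (Spec (CommRingCat.of F) ⟶ X) : ℝ) ≤
            c * (p : ℝ) ^ ((m : ℝ) * ((r : ℝ) - 1))) ∧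
        (p < p₀ → (Nat.card (Spec (CommRingCat.of F) ⟶ X) : ℝ) ≤ c * (p : ℝ) ^ ((m : ℝ) * r)) := by
  obtain ⟨c, p₀, hc⟩ := ZetaLib.exists_const_card_points_le f hr
  refine ⟨(c : ℝ) + 1, p₀, by positivity, fun p m hp hm F _ hF => ?_⟩
  haveI : Finite F := Nat.finite_of_card_ne_zero (by rw [hF]; exact pow_ne_zero _ hp.ne_zero)
  obtain ⟨q, hq⟩ := CharP.exists F
  have hchar : ringChar F = p := by
    rw [ringChar.eq F q]
    letI := Fintype.ofFinite F
    obtain ⟨n, hqp, hn⟩ := FiniteField.card F q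
    rw [← Nat.card_eq_fintype_card, hF] at hn
    exact ((Nat.prime_dvd_prime_iff_eq hqp hp).mp (hqp.dvd_of_dvd_pow (n := m)
      (hn ▸ dvd_pow_self q n.ne_zero)))
  obtain ⟨h1, h2, -⟩ := hc F
  have hp0 : (0 : ℝ) < p := by exact_mod_cast hp.pos
  have hpow : ((Nat.card F : ℕ) : ℝ) ^ r = (p : ℝ) ^ ((m : ℝ) * r) := by
    rw [hF, ← Nat.cast_mul m r, Real.rpow_natCast, Nat.cast_pow, ← pow_mul]
  refine ⟨fun h => ?_, fun h => ?_⟩
  · have h3 : (Nat.card (Spec (CommRingCat.of F) ⟶ X) : ℝ) * (p : ℝ) ^ (m : ℝ) ≤ c * (p : ℝ) ^ ((m : ℝ) * r) := by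
      rw [← hpow, Real.rpow_natCast]
      have := h2 (hchar ▸ h)
      rw [hF] at this ⊢
      exact_mod_cast this
    rw [mul_sub, mul_one, Real.rpow_sub hp0, mul_div_assoc', le_div_iff₀ (Real.rpow_pos_of_pos hp0 _)]
    exact h3.trans (mul_le_mul_of_nonneg_right (by simp) (Real.rpow_nonneg hp0.le _))
  · refine le_trans ?_ (mul_le_mul_of_nonneg_right (by simp : (c : ℝ) ≤ c + 1) (Real.rpow_nonneg hp0.le _))
    rw [← hpow]
    exact_mod_cast h1

end Groth.Agent.S13070
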