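import Groth.Statements.S13075
import Groth.Agent.PowExp.Basic
open scoped PowerSeries

set_option autoImplicit false
open Zeta

namespace Groth.Agent.S13075

/-- For the formal power series exp(t) = ∑_{m ≥ 0} t^m / m! and log(1 + t) = ∑_{m ≥ 1} (−1)^{m+1} t^m /
m over ℚ, log(exp(u)) = u and exp(log(1 + u)) = 1 + u for every u ∈ tℚ⟦t⟧; stated for u = t (the
general case is obtained by substitution): substituting exp(t) − 1 into log(1 + ·) gives t, and
substituting log(1 + t) into exp gives 1 + t. -/
theorem result :
    PowerSeries.subst (PowerSeries.exp ℚ - 1)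
        (PowerSeries.mk fun m : ℕ => if m = 0 then (0 : ℚ) else (-1) ^ (m + 1) / (m : ℚ)) =
      PowerSeries.X ∧
    PowerSeries.subst (PowerSeries.mk fun m : ℕ => if m = 0 then (0 : ℚ) else (-1) ^ (m + 1) / (m : ℚ))
        (PowerSeries.exp ℚ) = 1 + PowerSeries.X := by
  have hlog : (PowerSeries.mk fun m : ℕ => if m = 0 then (0 : ℚ) else (-1) ^ (m + 1) / (m : ℚ)) =
      PowerSeries.log ℚ := by
    ext m; simp
  rw [hlog]
  have hD : (1 + PowerSeries.X) * d⁄dX ℚ (PowerSeries.log ℚ) = 1 := by
    rw [PowerSeries.deriv_log]
    ext n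
    cases n with
    | zero => simp [add_mul]
    | succ n => simp [add_mul, pow_succ]
  have hexp : PowerSeries.HasSubst (PowerSeries.exp ℚ - 1) := PowerSeries.HasSubst.exp_sub_one
  constructor
  · apply PowerSeries.derivative.ext
    · rw [PowerSeries.derivative_subst hexp, PowerSeries.derivative_X, map_sub,
        PowerSeries.derivative_one, sub_zero, PowerSeries.derivative_exp, mul_comm]
      have h := congrArg (PowerSeries.subst (PowerSeries.exp ℚ - 1)) hD
      rw [PowerSeries.subst_mul hexp, PowerSeries.subst_add hexp, PowerSeries.subst_X hexp,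
        ← PowerSeries.coe_substAlgHom hexp, map_one, PowerSeries.coe_substAlgHom hexp] at h
      simpa using h
    · rw [PowerSeries.constantCoeff_X]
      exact PowerSeries.constantCoeff_subst_eq_zero (by simp [← PowerSeries.constantCoeff_eq]) _ (by simp)
  · refine (Groth.Agent.PowExp.eq_expS (by simp) (by simp) ?_).symm
    rw [hD, map_add, PowerSeries.derivative_one, PowerSeries.derivative_X, zero_add]

end Groth.Agent.S13075
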