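import Groth.Statements.S13079
import Groth.Agent.SGA1Quot.Comp

set_option autoImplicit false
universe u
open CategoryTheory AlgebraicGeometry Limits
open Zeta

namespace Groth.Agent.S13079

/-- Suppose the finite groups G and H act by algebraic k-automorphisms on schemes X and Y of finite type
over k, both admitting quotients X → X/G and Y → Y/H (equivalently, covered by invariant affine
opens). Then X × Y has the same property for the product action of G × H and (X × Y)/(G × H) ≅ X/G ×
Y/H: the morphism X ×_k Y → X/G ×_k Y/H with components the two quotient maps is a quotient for the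
product action. The product action θ and that morphism π are pinned by their composites with the
projections. -/
theorem result {k : Type u} [Field k] {G H : Type u} [Group G] [Finite G] [Group H]
    [Finite H] {X Y XG YH : Scheme.{u}} (fX : X ⟶ Spec (CommRingCat.of k))
    (fY : Y ⟶ Spec (CommRingCat.of k)) [LocallyOfFiniteType fX] [QuasiCompact fX]
    [LocallyOfFiniteType fY] [QuasiCompact fY] (gX : XG ⟶ Spec (CommRingCat.of k))
    (gY : YH ⟶ Spec (CommRingCat.of k)) (ρ : G →* Aut X) (σ : H →* Aut Y)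
    (hρ : ∀ g, (ρ g).hom ≫ fX = fX) (hσ : ∀ h, (σ h).hom ≫ fY = fY)
    (p : X ⟶ XG) (hp : p ≫ gX = fX) (q : Y ⟶ YH) (hq : q ≫ gY = fY)
    (hP : SGA1.IsQuot ρ p) (hQ : SGA1.IsQuot σ q)
    (θ : G × H →* Aut (pullback fX fY))
    (hθ1 : ∀ gh : G × H, (θ gh).hom ≫ pullback.fst fX fY = pullback.fst fX fY ≫ (ρ gh.1).hom)
    (hθ2 : ∀ gh : G × H, (θ gh).hom ≫ pullback.snd fX fY = pullback.snd fX fY ≫ (σ gh.2).hom)
    (π : pullback fX fY ⟶ pullback gX gY) (hπ1 : π ≫ pullback.fst gX gY = pullback.fst fX fY ≫ p)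
    (hπ2 : π ≫ pullback.snd gX gY = pullback.snd fX fY ≫ q) :
    SGA1.IsQuot θ π := by
  let ι₁ : G →* G × H := MonoidHom.inl G H
  let m : H → (pullback gX fY ⟶ pullback gX fY) := fun h =>
    pullback.lift (pullback.fst gX fY) (pullback.snd gX fY ≫ (σ h).hom) (by rw [Category.assoc, hσ, pullback.condition])
  let p₁ : pullback fX fY ⟶ pullback gX fY :=
    pullback.lift (pullback.fst fX fY ≫ p) (pullback.snd fX fY) (by rw [Category.assoc, hp, pullback.condition])
  let p₂ : pullback gX fY ⟶ pullback gX gY :=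
    pullback.lift (pullback.fst gX fY) (pullback.snd gX fY ≫ q) (by rw [Category.assoc, hq, pullback.condition])
  have hm : ∀ a b, m (a * b) = m b ≫ m a := fun a b => by
    apply pullback.hom_ext <;> simp [pullback.lift_fst, pullback.lift_snd, pullback.lift_fst_assoc, pullback.lift_snd_assoc, m, map_mul, Aut.Aut_mul_def]
  have hm1 : m 1 = 𝟙 _ := by
    have h1 : (1 : Aut Y).hom = 𝟙 Y := rfl
    apply pullback.hom_ext <;> simp [pullback.lift_fst, pullback.lift_snd, pullback.lift_fst_assoc, pullback.lift_snd_assoc, m, map_one, h1]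
  let σ' : H →* Aut (pullback gX fY) :=
    { toFun := fun h => ⟨m h, m h⁻¹, by rw [← hm, inv_mul_cancel, hm1], by rw [← hm, mul_inv_cancel, hm1]⟩
      map_one' := Iso.ext hm1
      map_mul' := fun a b => Iso.ext (hm a b) }
  have hcomp : π = p₁ ≫ p₂ := by
    apply pullback.hom_ext <;> simp [pullback.lift_fst, pullback.lift_snd, pullback.lift_fst_assoc, pullback.lift_snd_assoc, p₁, p₂, hπ1, hπ2]
  subst hcomp
  have hsq₁ : IsPullback (pullback.fst fX fY) p₁ p (pullback.fst gX fY) := by
    refine IsPullback.of_bot ?_ (by simp [pullback.lift_fst, pullback.lift_snd, pullback.lift_fst_assoc, pullback.lift_snd_assoc, p₁]) (IsPullback.of_hasPullback gX fY)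
    simpa [pullback.lift_fst, pullback.lift_snd, p₁, hp] using IsPullback.of_hasPullback fX fY
  have hsq₂ : IsPullback (pullback.snd gX fY) p₂ q (pullback.snd gX gY) := by
    refine IsPullback.of_bot ?_ (by simp [pullback.lift_fst, pullback.lift_snd, pullback.lift_fst_assoc, pullback.lift_snd_assoc, p₂]) (IsPullback.of_hasPullback gX gY).flip
    simpa [pullback.lift_fst, pullback.lift_snd, p₂, hq] using (IsPullback.of_hasPullback gX fY).flip
  have h₁ : SGA1.IsQuot (θ.comp ι₁) p₁ := by
    refine Groth.Agent.SGA1Quot.isQuot_baseChange hP (pullback.fst gX fY) (pullback.fst fX fY) p₁ hsq₁ _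
      (fun g => hθ1 (g, 1)) fun g => ?_
    apply pullback.hom_ext
    · simp [pullback.lift_fst, pullback.lift_snd, pullback.lift_fst_assoc, pullback.lift_snd_assoc, p₁, ι₁, reassoc_of% hθ1, hP.inv]
    · have h1 : (1 : Aut Y).hom = 𝟙 Y := rfl
      simp [pullback.lift_fst, pullback.lift_snd, pullback.lift_fst_assoc, pullback.lift_snd_assoc, p₁, ι₁, hθ2, map_one, h1]
  have h₂ : SGA1.IsQuot σ' p₂ := by
    refine Groth.Agent.SGA1Quot.isQuot_baseChange hQ (pullback.snd gX gY) (pullback.snd gX fY) p₂ hsq₂ σ'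
      (fun h => pullback.lift_snd _ _ _) fun h => ?_
    apply pullback.hom_ext
    · simp [pullback.lift_fst, pullback.lift_snd, pullback.lift_fst_assoc, pullback.lift_snd_assoc, p₂, σ', m]
    · simp [pullback.lift_fst, pullback.lift_snd, pullback.lift_fst_assoc, pullback.lift_snd_assoc, p₂, σ', m, hQ.inv]
  refine Groth.Agent.SGA1Quot.isQuot_comp ι₁ h₁ (MonoidHom.snd G H) (fun h => ⟨(1, h), rfl⟩) (fun gh => ?_) h₂
  apply pullback.hom_ext
  · simp [pullback.lift_fst, pullback.lift_snd, pullback.lift_fst_assoc, pullback.lift_snd_assoc, p₁, σ', m, reassoc_of% hθ1, hP.inv]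
  · simp [pullback.lift_fst, pullback.lift_snd, pullback.lift_fst_assoc, pullback.lift_snd_assoc, p₁, σ', m, hθ2]

end Groth.Agent.S13079
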