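import Groth.Statements.S13080
import Groth.Agent.SGA1Quot.Comp

set_option autoImplicit false
universe u
open CategoryTheory AlgebraicGeometry Limits
open Zeta

namespace Groth.Agent.S13080

/-- Let G be a finite group acting by algebraic automorphisms over k on a scheme X of finite type over k
admitting a quotient p : X → X/G, H ⊆ G a subgroup and Y ⊆ X an open subset preserved by H such that
X is the disjoint union of the translates Y g over the cosets of G mod H. Then the natural morphism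
Y/H → X/G is an isomorphism: Y → X/G is a quotient of Y by H. The action of H on Y is pinned by
compatibility with the inclusion Y → X; the coset condition is stated as: the translates of Y cover
X, and g(Y) is disjoint from Y for g ∉ H. -/
theorem result {k : Type u} [Field k] {G : Type u} [Group G]
    [Finite G] {X XG : Scheme.{u}} (fX : X ⟶ Spec (CommRingCat.of k)) [LocallyOfFiniteType fX]
    [QuasiCompact fX] (ρ : G →* Aut X) (hρ : ∀ g, (ρ g).hom ≫ fX = fX) (p : X ⟶ XG)
    (hP : SGA1.IsQuot ρ p) (H : Subgroup G) (Y : X.Opens)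
    (hcov : ∀ x : X, ∃ g : G, x ∈ (ρ g).hom.base '' (Y : Set X))
    (hdisj : ∀ g : G, g ∉ H → Disjoint ((ρ g).hom.base '' (Y : Set X)) (Y : Set X))
    (ρY : H →* Aut (Y : Scheme.{u})) (hρY : ∀ h : H, (ρY h).hom ≫ Y.ι = Y.ι ≫ (ρ (h : G)).hom) :
    SGA1.IsQuot ρY (Y.ι ≫ p) := by
  haveI := hP.affine
  have hYst : ∀ (h : H) (x : X), x ∈ Y → (ρ (h : G)).hom x ∈ Y := fun h x hx => by
    have := congrArg (fun k : (Y : Scheme.{u}) ⟶ X => k ⟨x, hx⟩) (hρY h)
    simp only [Scheme.Hom.comp_apply] at this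
    exact this ▸ ((ρY h).hom ⟨x, hx⟩).2
  have hclosed : IsClosed (Set.range Y.ι) := by
    rw [Scheme.Opens.range_ι, ← isOpen_compl_iff, isOpen_iff_mem_nhds]
    intro x hx
    obtain ⟨g, y, hy, rfl⟩ := hcov x
    by_cases hg : g ∈ H
    · exact absurd (hYst ⟨g, hg⟩ y hy) hx
    · exact Filter.mem_of_superset (((ρ g).hom.isOpenEmbedding.isOpenMap _ Y.isOpen).mem_nhds ⟨y, hy, rfl⟩)
        ((hdisj g hg).subset_compl_right)
  haveI : IsClosedImmersion Y.ι := IsClosedImmersion.of_isPreimmersion _ hclosed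
  have hinv : ∀ h : H, (ρY h).hom ≫ (Y.ι ≫ p) = Y.ι ≫ p := fun h => by
    rw [← Category.assoc, hρY, Category.assoc, hP.inv]
  refine Groth.Agent.SGA1Quot.isQuot_of_good (hinv := hinv) inferInstance fun U => ?_
  set P := p ⁻¹ᵁ U
  set Y' := Y ⊓ P
  let V : (Y : Scheme.{u}).Opens := Y.ι ⁻¹ᵁ P
  have hV : V ≤ Y.ι ⁻¹ᵁ Y' := fun z hz => ⟨z.2, hz⟩
  let f := Y.ι.appLE Y' V hV
  have hbij : Function.Bijective f.hom := by
    haveI : IsIso f := by
      have e : Y.ι ''ᵁ V = Y' := by
        rw [Scheme.Hom.image_preimage_eq_opensRange_inf, Scheme.Opens.opensRange_ι]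
      have hf : f = X.presheaf.map (eqToHom e).op := Scheme.Opens.ι_appLE _ _ _ _
      rw [hf]
      haveI : IsIso (eqToHom e).op := inferInstance
      exact Functor.map_isIso X.presheaf _
    exact ConcreteCategory.bijective_of_isIso f
  have hP' : ∀ g, P ≤ (ρ g).hom ⁻¹ᵁ P := fun g => SGA1.preimage_le_of_inv ρ p hP.inv g U
  let A : G → X.Opens := fun g => (ρ g).hom ⁻¹ᵁ Y'
  have hAP : ∀ g, A g ≤ P := fun g x hx => by
    have h2 : p ((ρ g).hom x) ∈ U := hx.2
    rwa [← Scheme.Hom.comp_apply, hP.inv] at h2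
  have hcA : P ≤ iSup A := fun x hx => by
    obtain ⟨g, y, hy, rfl⟩ := hcov x
    refine TopologicalSpace.Opens.mem_iSup.2 ⟨g⁻¹, ?_⟩
    have he : (ρ g⁻¹).hom ((ρ g).hom y) = y := by
      rw [map_inv, Aut.Aut_inv_def, Iso.symm_hom, ← Scheme.Hom.comp_apply, Iso.hom_inv_id]
      rfl
    refine ⟨?_, hP' g⁻¹ hx⟩
    show (ρ g⁻¹).hom ((ρ g).hom y) ∈ Y
    rw [he]; exact hy
  have hres : ∀ (t : Γ(X, P)) (hle : Y' ≤ P), (∀ g, Groth.Agent.SGA1Quot.act ρ p hP.inv g U t = t) → ∀ g,
      (X.presheaf.map (homOfLE (hAP g)).op).hom t =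
        ((ρ g).hom.appLE Y' (A g) le_rfl).hom ((X.presheaf.map (homOfLE hle).op).hom t) := fun t hle ht g => by
    have key : (ρ g).hom.appLE P P (hP' g) ≫ X.presheaf.map (homOfLE (hAP g)).op =
        X.presheaf.map (homOfLE hle).op ≫ (ρ g).hom.appLE Y' (A g) le_rfl := by
      rw [Scheme.Hom.appLE_map, Scheme.Hom.map_appLE]
    have := ConcreteCategory.congr_hom key t
    simp only [CommRingCat.comp_apply] at this
    refine Eq.trans ?_ this
    exact congrArg (X.presheaf.map (homOfLE (hAP g)).op).hom (ht g).symm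
  have happ : ∀ w, ((Y.ι ≫ p).app U).hom w = f.hom ((X.presheaf.map (homOfLE (inf_le_right : Y' ≤ P)).op).hom ((p.app U).hom w)) := fun w => by
    have key : (Y.ι ≫ p).app U = p.app U ≫ X.presheaf.map (homOfLE (inf_le_right : Y' ≤ P)).op ≫ f := by
      rw [Scheme.Hom.comp_app, Scheme.Hom.map_appLE]
      exact congrArg (p.app U ≫ ·) Y.ι.app_eq_appLE
    exact ConcreteCategory.congr_hom key w
  refine ⟨fun a b hab => ?_, fun s hs => ?_⟩
  · refine hP.injective U ?_
    rw [happ, happ] at hab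
    refine X.sheaf.eq_of_locally_eq' A P (fun g => homOfLE (hAP g)) hcA _ _ fun g => ?_
    refine (hres _ inf_le_right (fun g => Groth.Agent.SGA1Quot.act_comp_app ρ p hP.inv g U a) g).trans
      (Eq.trans ?_ (hres _ inf_le_right (fun g => Groth.Agent.SGA1Quot.act_comp_app ρ p hP.inv g U b) g).symm)
    rw [hbij.1 hab]
  · obtain ⟨s', rfl⟩ := hbij.2 s
    have hst : ∀ h : H, Y' ≤ (ρ (h : G)).hom ⁻¹ᵁ Y' := fun h x hx => ⟨hYst h x hx.1, hP' _ hx.2⟩
    have hs' : ∀ h : H, ((ρ (h : G)).hom.appLE Y' Y' (hst h)).hom s' = s' := fun h => by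
      apply hbij.1
      refine Eq.trans ?_ (hs h)
      have key : (ρ (h : G)).hom.appLE Y' Y' (hst h) ≫ f =
          f ≫ (ρY h).hom.appLE V V (SGA1.preimage_le_of_inv ρY _ hinv h U) := by
        simp only [f, Scheme.Hom.appLE_comp_appLE]
        exact (Groth.Agent.SGA1Quot.appLE_congr_hom (hρY h) _ _ _).symm
      exact ConcreteCategory.congr_hom key s'
    have hcompat : TopCat.Presheaf.IsCompatible X.presheaf A (fun g => ((ρ g).hom.appLE Y' (A g) le_rfl).hom s') := by
      intro a b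
      show (X.presheaf.map _).hom _ = (X.presheaf.map _).hom _
      rw [← CommRingCat.comp_apply, ← CommRingCat.comp_apply, Scheme.Hom.appLE_map, Scheme.Hom.appLE_map]
      by_cases hne : ∃ x, x ∈ A a ⊓ A b
      · obtain ⟨x, hxa, hxb⟩ := hne
        have hmem : b * a⁻¹ ∈ H := by
          by_contra hnot
          refine Set.disjoint_left.mp (hdisj _ hnot) ⟨(ρ a).hom x, hxa.1, ?_⟩ hxb.1
          rw [← Scheme.Hom.comp_apply]
          have : (ρ a).hom ≫ (ρ (b * a⁻¹)).hom = (ρ b).hom := by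
            rw [← Iso.trans_hom, ← Aut.Aut_mul_def, ← map_mul, inv_mul_cancel_right]
          rw [this]
        have he : (ρ b).hom = (ρ a).hom ≫ (ρ (b * a⁻¹)).hom := by
          rw [← Iso.trans_hom, ← Aut.Aut_mul_def, ← map_mul, inv_mul_cancel_right]
        refine Eq.trans ?_ (ConcreteCategory.congr_hom (Groth.Agent.SGA1Quot.appLE_congr_hom he _ _ _).symm s')
        refine Eq.trans ?_ (ConcreteCategory.congr_hom
          (Scheme.Hom.appLE_comp_appLE (ρ a).hom (ρ (b * a⁻¹)).hom Y' Y' (A a ⊓ A b) (hst ⟨_, hmem⟩) inf_le_left) s')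
        exact congrArg _ (hs' ⟨_, hmem⟩).symm
      · have hbot : A a ⊓ A b = ⊥ := le_bot_iff.mp fun x hx => (hne ⟨x, hx⟩).elim
        haveI : Subsingleton Γ(X, A a ⊓ A b) :=
          CommRingCat.subsingleton_of_isTerminal (X.sheaf.isTerminalOfEqEmpty hbot)
        exact Subsingleton.elim _ _
    obtain ⟨t, ht, -⟩ := X.sheaf.existsUnique_gluing' A P (fun g => homOfLE (hAP g)) hcA _ hcompat
    have htinv : ∀ g, Groth.Agent.SGA1Quot.act ρ p hP.inv g U t = t := fun g => by
      refine X.sheaf.eq_of_locally_eq' A P (fun a => homOfLE (hAP a)) hcA _ _ fun a => ?_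
      refine Eq.trans ?_ (ht a).symm
      have he : (ρ a).hom = (ρ g).hom ≫ (ρ (a * g⁻¹)).hom := by
        rw [← Iso.trans_hom, ← Aut.Aut_mul_def, ← map_mul, inv_mul_cancel_right]
      have hsub : A a ≤ (ρ g).hom ⁻¹ᵁ A (a * g⁻¹) := fun x hx => by
        show (ρ (a * g⁻¹)).hom ((ρ g).hom x) ∈ Y'
        rw [← Scheme.Hom.comp_apply, ← he]; exact hx
      have key : (ρ g).hom.appLE P P (hP' g) ≫ X.presheaf.map (homOfLE (hAP a)).op =
          X.presheaf.map (homOfLE (hAP (a * g⁻¹))).op ≫ (ρ g).hom.appLE (A (a * g⁻¹)) (A a) hsub := by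
        rw [Scheme.Hom.appLE_map, Scheme.Hom.map_appLE]
      refine (ConcreteCategory.congr_hom key t).trans ?_
      rw [CommRingCat.comp_apply]
      refine (congrArg ((ρ g).hom.appLE (A (a * g⁻¹)) (A a) hsub).hom (ht (a * g⁻¹))).trans ?_
      refine (ConcreteCategory.congr_hom
        (Scheme.Hom.appLE_comp_appLE (ρ g).hom (ρ (a * g⁻¹)).hom Y' (A (a * g⁻¹)) (A a) le_rfl hsub) s').trans ?_
      exact ConcreteCategory.congr_hom (Groth.Agent.SGA1Quot.appLE_congr_hom he.symm _ _ _) s'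
    obtain ⟨w, hw⟩ := (hP.range_iff U t).2 htinv
    refine ⟨w, ?_⟩
    rw [happ]
    refine congrArg f.hom ?_
    have hY1 : Y' ≤ A 1 := fun x hx => by
      show (ρ 1).hom x ∈ Y'
      rw [map_one]; exact hx
    refine Eq.trans ?_ (hs' 1)
    have key : (ρ ((1 : H) : G)).hom.appLE Y' Y' (hst 1) =
        (ρ 1).hom.appLE Y' (A 1) le_rfl ≫ X.presheaf.map (homOfLE hY1).op :=
      (Scheme.Hom.appLE_map _ _ _).symm
    rw [key, CommRingCat.comp_apply, hw]
    refine Eq.trans ?_ (congrArg (X.presheaf.map (homOfLE hY1).op).hom (ht 1))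
    exact ConcreteCategory.congr_hom (X.presheaf.map_comp (homOfLE (hAP 1)).op (homOfLE hY1).op) t

end Groth.Agent.S13080
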