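import Groth.Statements.S13096
import Mathlib
-- import your own Groth.Agent.* helpers here

set_option autoImplicit false
universe u v
open CAlg

namespace Groth.Agent.S13096


theorem injective_of_surjective_endo {A : Type*} [CommRing A] [IsNoetherianRing A] (f : A →+* A)
    (hf : Function.Surjective f) : Function.Injective f := by
  let K : ℕ →o Submodule A A :=
    { toFun := fun n => RingHom.ker (f ^ n)
      monotone' := monotone_nat_of_le_succ fun n x hx => by
        rw [RingHom.mem_ker] at hx ⊢
        rw [pow_succ', RingHom.mul_def, RingHom.comp_apply, hx, map_zero] }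
  obtain ⟨n, hn⟩ := monotone_stabilizes_iff_noetherian.mpr inferInstance K
  rw [injective_iff_map_eq_zero]
  intro x hx
  have hs : Function.Surjective ⇑(f ^ n) := by
    rw [RingHom.coe_pow]; exact hf.iterate n
  obtain ⟨y, rfl⟩ := hs x
  have hy : y ∈ K (n + 1) := by
    show y ∈ RingHom.ker (f ^ (n + 1))
    rw [RingHom.mem_ker, pow_succ', RingHom.mul_def, RingHom.comp_apply]
    exact hx
  rw [← hn (n + 1) (Nat.le_succ n)] at hy
  exact RingHom.mem_ker.mp hy

theorem exists_coeffs {R : Type u} [CommRing R] {R' : Type v} [CommRing R'] [Algebra R R']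
    (s : Set R') {y : R'} (hy : y ∈ Algebra.adjoin R s) :
    ∃ c : Finset R, y ∈ Algebra.adjoin ℤ (s ∪ algebraMap R R' '' (c : Set R)) := by
  classical
  have mono : ∀ {c d : Finset R}, c ⊆ d → Algebra.adjoin ℤ (s ∪ algebraMap R R' '' (c : Set R)) ≤
      Algebra.adjoin ℤ (s ∪ algebraMap R R' '' (d : Set R)) := fun h =>
    Algebra.adjoin_mono (Set.union_subset_union_right s (Set.image_mono (Finset.coe_subset.mpr h)))
  induction hy using Algebra.adjoin_induction with
  | mem x hx => exact ⟨∅, Algebra.subset_adjoin (Or.inl hx)⟩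
  | algebraMap r => exact ⟨{r}, Algebra.subset_adjoin (Or.inr ⟨r, by simp, rfl⟩)⟩
  | add x y _ _ hx hy =>
    obtain ⟨c, hc⟩ := hx; obtain ⟨d, hd⟩ := hy
    exact ⟨c ∪ d, add_mem (mono Finset.subset_union_left hc) (mono Finset.subset_union_right hd)⟩
  | mul x y _ _ hx hy =>
    obtain ⟨c, hc⟩ := hx; obtain ⟨d, hd⟩ := hy
    exact ⟨c ∪ d, mul_mem (mono Finset.subset_union_left hc) (mono Finset.subset_union_right hd)⟩

/-- Let R be a commutative ring and R' a commutative R-algebra of finite presentation. Then every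
surjective R-algebra endomorphism α : R' → R' is bijective (an automorphism). -/
theorem result (R : Type u) [CommRing R]
    (R' : Type v) [CommRing R'] [Algebra R R'] [Algebra.FinitePresentation R R']
    (α : R' →ₐ[R] R') (hα : Function.Surjective α) : Function.Bijective α := by

  classical
  refine ⟨?_, hα⟩
  rw [injective_iff_map_eq_zero]
  intro x hx
  obtain ⟨s, hs⟩ := (inferInstance : Algebra.FiniteType R R').out
  choose pre' hpre using hα
  have hmem : ∀ y : R', ∃ c : Finset R,
      y ∈ Algebra.adjoin ℤ ((s : Set R') ∪ algebraMap R R' '' (c : Set R)) := fun y =>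
    exists_coeffs _ (hs ▸ Algebra.mem_top)
  choose cf hcf using hmem
  set c : Finset R := cf x ∪ s.biUnion fun g => cf (α g) ∪ cf (pre' g) with hc
  set G : Set R' := (s : Set R') ∪ algebraMap R R' '' (c : Set R) with hG
  set B := Algebra.adjoin ℤ G with hB
  have inB : ∀ {y}, cf y ⊆ c → y ∈ B := fun {y} h =>
    Algebra.adjoin_mono (Set.union_subset_union_right _ (Set.image_mono (Finset.coe_subset.mpr h))) (hcf y)
  have hxB : x ∈ B := inB Finset.subset_union_left
  have hmap : B.map (α.restrictScalars ℤ) = B := by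
    rw [hB, AlgHom.map_adjoin]
    refine le_antisymm (Algebra.adjoin_le ?_) (Algebra.adjoin_le ?_)
    · rintro _ ⟨g, hg | ⟨r, hr, rfl⟩, rfl⟩
      · exact inB (Finset.subset_union_left.trans ((Finset.subset_biUnion_of_mem
          (fun g => cf (α g) ∪ cf (pre' g)) hg).trans Finset.subset_union_right))
      · exact Algebra.subset_adjoin (Or.inr ⟨r, hr, (α.commutes r).symm⟩)
    · rintro y (hy | ⟨r, hr, rfl⟩)
      · rw [← AlgHom.map_adjoin]
        exact ⟨pre' y, inB (Finset.subset_union_right.trans ((Finset.subset_biUnion_of_mem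
          (fun g => cf (α g) ∪ cf (pre' g)) hy).trans Finset.subset_union_right)), hpre y⟩
      · exact Algebra.subset_adjoin ⟨_, Or.inr ⟨r, hr, rfl⟩, α.commutes r⟩
  have hFG : B.FG := by
    rw [hB, hG, ← Finset.coe_image, ← Finset.coe_union]
    exact Subalgebra.fg_adjoin_finset _
  have : IsNoetherianRing B := isNoetherianRing_of_fg hFG
  have hcl : ∀ b : B, α b ∈ B := fun b => hmap.le ⟨b, b.2, rfl⟩
  let f : B →+* B := (α.toRingHom.comp B.val.toRingHom).codRestrict B.toSubring hcl
  have hf : Function.Surjective f := fun b => by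
    obtain ⟨a, ha, hab⟩ := hmap.ge b.2
    exact ⟨⟨a, ha⟩, Subtype.ext hab⟩
  exact congrArg Subtype.val
    ((injective_iff_map_eq_zero f).mp (injective_of_surjective_endo f hf) ⟨x, hxB⟩ (Subtype.ext hx))

end Groth.Agent.S13096
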