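import Groth.Statements.S13097
import Groth.Agent.Thick.Topo
import Mathlib.AlgebraicGeometry.ZariskisMainTheorem

set_option autoImplicit false
universe u
open FlatMor

namespace Groth.Agent.S13097

open CategoryTheory AlgebraicGeometry in
/-- Let f : X → S be a quasi-compact, separated morphism of schemes with a section e : S → X (e followed
by f is the identity of S), and U ⊆ S an open subscheme such that f⁻¹(U) is schematically dense in X
(for every open V of X, restriction of functions from V to V ∩ f⁻¹(U) is injective) and such that
the restriction f⁻¹(U) → U of f is a homeomorphism of underlying spaces. Then f is universally a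
homeomorphism (every base change of f is a homeomorphism), and f is finite as soon as it is locally
of finite type. (The published statement also lists surjectivity of f, which a section forces, and
offers as an alternative to the section the hypothesis that f be flat, still with f⁻¹(U) → U only a
homeomorphism; that flat alternative fails: the spectrum of a separable quadratic field extension
over the spectrum of the ground field, with U the whole base, is flat, surjective, quasi-compact,
separated and a homeomorphism over U, yet not universally injective. Only the case of a section,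
whose published proof is complete, is stated here.) -/
theorem result {X S : Scheme.{u}} (f : X ⟶ S)
    [QuasiCompact f] [IsSeparated f] (U : S.Opens)
    (hdense : CInt.IsSchematicallyDense (f ⁻¹ᵁ U)) (hU : IsHomeomorph (f ∣_ U).base)
    (e : S ⟶ X) (he : e ≫ f = 𝟙 S) :
    FlatMor.IsUnivHomeo f ∧ (LocallyOfFiniteType f → IsFinite f) := by
  have hec : IsClosedImmersion e := by
    have : IsClosedImmersion (e ≫ f) := he ▸ inferInstance
    exact IsClosedImmersion.of_comp e f
  have hd : Dense ((f ⁻¹ᵁ U : X.Opens) : Set X) := by
    rw [dense_iff_inter_open]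
    intro V hV hne
    by_contra h
    obtain ⟨y, hy⟩ := hne
    have hbot : (⟨V, hV⟩ ⊓ f ⁻¹ᵁ U : X.Opens) = ⊥ :=
      TopologicalSpace.Opens.ext (Set.not_nonempty_iff_eq_empty.mp h)
    have : Subsingleton Γ(X, ⟨V, hV⟩ ⊓ f ⁻¹ᵁ U) := by rw [hbot]; infer_instance
    have h01 : (1 : Γ(X, ⟨V, hV⟩)) = 0 := hdense ⟨V, hV⟩ (Subsingleton.elim _ _)
    have h2 := congrArg (fun a => X.presheaf.germ (U := ⟨V, hV⟩) y hy a) h01
    simp only [map_one, map_zero] at h2
    exact one_ne_zero h2
  have hes : Surjective e := by
    constructor
    rw [← Set.range_eq_univ]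
    refine e.isClosedEmbedding.isClosed_range.closure_eq ▸ (Dense.mono ?_ hd).closure_eq
    intro z hz
    have hf : (e ≫ f) (f z) = f z := by rw [he]; rfl
    rw [Scheme.Hom.comp_apply] at hf
    have hz' : e (f z) ∈ f ⁻¹ᵁ U := by
      show f (e (f z)) ∈ U
      rw [hf]; exact hz
    have := hU.injective (a₁ := ⟨e (f z), hz'⟩) (a₂ := ⟨z, hz⟩)
      (Subtype.ext ((morphismRestrict_base_coe f U ⟨e (f z), hz'⟩).trans
        (hf.trans (morphismRestrict_base_coe f U ⟨z, hz⟩).symm)))
    exact ⟨f z, congrArg Subtype.val this⟩
  have huh : FlatMor.IsUnivHomeo f := by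
    intro X' Y' i₁ i₂ f' H'
    have H := H'.flip
    let e' : Y' ⟶ X' := H.lift (i₂ ≫ e) (𝟙 _) (by rw [Category.assoc, he, Category.comp_id, Category.id_comp])
    have he'f : e' ≫ f' = 𝟙 _ := H.lift_snd _ _ _
    have sq : IsPullback i₂ e' e i₁ := by
      refine IsPullback.of_bot ?_ (H.lift_fst _ _ _).symm H
      rw [he'f, he]
      exact IsPullback.of_horiz_isIso_mono ⟨by simp⟩ |>.flip
    have : IsClosedImmersion e' := MorphismProperty.of_isPullback sq hec
    have : Surjective e' := MorphismProperty.of_isPullback sq hes
    have hh := Groth.Agent.Thick.Topo.isHomeomorph e'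
    refine isHomeomorph_iff_exists_inverse.mpr ⟨f'.continuous, e', ?_, ?_, hh.continuous⟩
    · intro z
      obtain ⟨w, rfl⟩ := e'.surjective z
      show e' (f' (e' w)) = e' w
      rw [← Scheme.Hom.comp_apply e' f', he'f]; rfl
    · intro w
      show f' (e' w) = w
      rw [← Scheme.Hom.comp_apply, he'f]; rfl
  refine ⟨huh, fun _ => ?_⟩
  have : UniversallyClosed f := ⟨fun _ _ _ _ _ H => (huh _ _ _ H).isClosedMap⟩
  have : IsProper f := {}
  have : LocallyQuasiFinite f := by
    have h1 : LocallyQuasiFinite (e ≫ f) := he ▸ inferInstance
    exact (Groth.Agent.Thick.Topo.locallyQuasiFinite_iff e (𝟙 S) (𝟙 S) f (by simp [he])).mp inferInstance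
  exact IsFinite.of_isProper_of_locallyQuasiFinite f

end Groth.Agent.S13097
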