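import Groth.Statements.S13099
import Mathlib.RingTheory.MvPolynomial.Ideal
import Mathlib.Data.Nat.Choose.Lucas
import Mathlib.Algebra.CharP.Lemmas
import Mathlib.Algebra.Polynomial.Derivative
import Mathlib.RingTheory.AdjoinRoot
import Mathlib.Data.Nat.Choose.Sum
import Mathlib.Tactic.LinearCombination
import Mathlib.Data.ZMod.Basic
import Mathlib.RingTheory.FiniteType
import Mathlib.LinearAlgebra.FiniteDimensional.Basic
import Mathlib.RingTheory.OrzechProperty

set_option autoImplicit false
universe u
open GrpSch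

namespace Groth.Agent.S13099

open Polynomial in
/-- Let p be a prime and A a commutative ring of characteristic p, and consider the infinitesimal group
scheme Spec A[X]/(X^{p²}) with the additive group law. In coordinates: (1) a polynomial q ∈ A[X] of
degree less than p² satisfies q(Y + Z) − q(Y) − q(Z) ∈ (Y^{p²}, Z^{p²}) in A[Y, Z] (that is, X ↦ q
respects the comultiplication) if and only if q = a₁ X + a_p X^p for some a₁, a_p ∈ A; (2) an
A-algebra endomorphism of A[X]/(X^{p²}) that sends the class of X to the class of a₁ X + a_p X^p is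
bijective if and only if a₁ is a unit of A. (The printed statement is that the automorphism group
scheme of this group scheme is the semidirect product of the additive group by the multiplicative
group, v acting on u by v^{p−1}u; this row records the two computations it consists of, in
coordinates.) -/
theorem result (p : ℕ) [Fact p.Prime] (A : Type u) [CommRing A] [CharP A p] :
    (∀ q : A[X], q.natDegree < p ^ 2 →
      (Polynomial.aeval (MvPolynomial.X 0 + MvPolynomial.X 1 : MvPolynomial (Fin 2) A) q -
            Polynomial.aeval (MvPolynomial.X 0 : MvPolynomial (Fin 2) A) q -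
            Polynomial.aeval (MvPolynomial.X 1 : MvPolynomial (Fin 2) A) q ∈
          Ideal.span ({MvPolynomial.X 0 ^ p ^ 2, MvPolynomial.X 1 ^ p ^ 2} : Set (MvPolynomial (Fin 2) A)) ↔
        ∃ a₁ ap : A, q = Polynomial.C a₁ * X + Polynomial.C ap * X ^ p)) ∧
    (∀ (a₁ ap : A) (φ : (A[X] ⧸ Ideal.span ({X ^ p ^ 2} : Set A[X])) →ₐ[A] (A[X] ⧸ Ideal.span ({X ^ p ^ 2} : Set A[X]))),
      φ (Ideal.Quotient.mk (Ideal.span ({X ^ p ^ 2} : Set A[X])) X) =
          Ideal.Quotient.mk (Ideal.span ({X ^ p ^ 2} : Set A[X])) (Polynomial.C a₁ * X + Polynomial.C ap * X ^ p) →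
        (Function.Bijective φ ↔ IsUnit a₁)) := by
  classical
  have hp : p.Prime := Fact.out
  have hunit : ∀ m : ℕ, ¬ p ∣ m → IsUnit (m : A) := by
    intro m hm
    have h : IsUnit (m : ZMod p) := (ZMod.isUnit_iff_coprime m p).2 ((hp.coprime_iff_not_dvd.2 hm).symm)
    simpa using h.map (ZMod.castHom dvd_rfl A)
  haveI : CharP (MvPolynomial (Fin 2) A) p := inferInstance
  refine ⟨fun q hq => ⟨fun hmem => ?_, ?_⟩, fun a₁ ap φ hφ => ⟨fun hbij => ?_, fun ha => ?_⟩⟩
  · set Δ := Polynomial.aeval (MvPolynomial.X 0 + MvPolynomial.X 1 : MvPolynomial (Fin 2) A) q -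
      Polynomial.aeval (MvPolynomial.X 0 : MvPolynomial (Fin 2) A) q -
      Polynomial.aeval (MvPolynomial.X 1 : MvPolynomial (Fin 2) A) q with hΔ
    have hvan : ∀ i j : ℕ, i < p ^ 2 → j < p ^ 2 →
        Δ.coeff (Finsupp.single 0 i + Finsupp.single 1 j) = 0 := by
      intro i j hi hj
      by_contra hne
      have hI : ({MvPolynomial.X 0 ^ p ^ 2, MvPolynomial.X 1 ^ p ^ 2} : Set (MvPolynomial (Fin 2) A)) =
          (fun s => MvPolynomial.monomial s (1 : A)) '' {Finsupp.single 0 (p ^ 2), Finsupp.single 1 (p ^ 2)} := by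
        simp [Set.image_pair, MvPolynomial.X_pow_eq_monomial]
      rw [hI, MvPolynomial.mem_ideal_span_monomial_image] at hmem
      obtain ⟨s, hs, hle⟩ := hmem _ (MvPolynomial.mem_support_iff.2 hne)
      rcases hs with rfl | rfl
      · have := hle 0
        simp at this
        lia
      · have := hle 1
        simp at this
        lia
    have hcoef : ∀ n i, 0 < i → i < n → n < p ^ 2 → (n.choose i : A) * q.coeff n = 0 := by
      intro n i hi hin hn
      have hc := hvan i (n - i) (by lia) (by lia)
      have hX : ∀ (v : Fin 2) (k : ℕ), ((MvPolynomial.X v : MvPolynomial (Fin 2) A) ^ k).coeff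
          (Finsupp.single 0 i + Finsupp.single 1 (n - i)) = 0 := by
        intro v k
        rw [MvPolynomial.coeff_X_pow, if_neg]
        intro h
        have h0 := DFunLike.congr_fun h 0
        have h1 := DFunLike.congr_fun h 1
        fin_cases v <;> simp at h0 h1 <;> lia
      rw [hΔ, Polynomial.aeval_eq_sum_range, Polynomial.aeval_eq_sum_range, Polynomial.aeval_eq_sum_range] at hc
      simp only [MvPolynomial.coeff_sub, MvPolynomial.coeff_sum, MvPolynomial.coeff_smul, hX, smul_zero,
        Finset.sum_const_zero, sub_zero, smul_eq_mul] at hc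
      have hpow : ∀ k, ((MvPolynomial.X 0 + MvPolynomial.X 1 : MvPolynomial (Fin 2) A) ^ k).coeff
          (Finsupp.single 0 i + Finsupp.single 1 (n - i)) = if k = n then (n.choose i : A) else 0 := by
        intro k
        have hmon : ∀ m : ℕ, (MvPolynomial.X 0 : MvPolynomial (Fin 2) A) ^ m * MvPolynomial.X 1 ^ (k - m) * (k.choose m : MvPolynomial (Fin 2) A) =
            MvPolynomial.monomial (Finsupp.single 0 m + Finsupp.single 1 (k - m)) (k.choose m : A) := fun m => by
          rw [MvPolynomial.X_pow_eq_monomial, MvPolynomial.X_pow_eq_monomial, MvPolynomial.monomial_mul, one_mul,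
            ← map_natCast (MvPolynomial.C : A →+* MvPolynomial (Fin 2) A), mul_comm, MvPolynomial.C_mul_monomial,
            mul_one]
        rw [add_pow, MvPolynomial.coeff_sum, Finset.sum_congr rfl fun m _ => by rw [hmon m, MvPolynomial.coeff_monomial]]
        split_ifs with hk
        · subst hk
          rw [Finset.sum_eq_single i]
          · simp
          · intro m _ hm
            rw [if_neg]
            intro h
            have := DFunLike.congr_fun h 0
            simp at this
            exact hm this
          · intro h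
            simp at h
            lia
        · refine Finset.sum_eq_zero fun m hm => if_neg fun h => hk ?_
          have h0 := DFunLike.congr_fun h 0
          have h1 := DFunLike.congr_fun h 1
          simp at h0 h1 hm
          lia
      simp only [hpow, mul_ite, mul_zero, Finset.sum_ite_eq', Finset.mem_range, Finset.sum_const_zero, sub_zero] at hc
      by_cases hnd : n < q.natDegree + 1
      · rwa [if_pos hnd, mul_comm] at hc
      · rw [Polynomial.coeff_eq_zero_of_natDegree_lt (by lia), mul_zero]
    have h0 : q.coeff 0 = 0 := by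
      have hc := hvan 0 0 (pow_pos hp.pos 2) (pow_pos hp.pos 2)
      have key : ∀ v : MvPolynomial (Fin 2) A, MvPolynomial.constantCoeff (Polynomial.aeval v q) =
          q.eval (MvPolynomial.constantCoeff v) := fun v => by
        rw [Polynomial.aeval_def, Polynomial.hom_eval₂, MvPolynomial.algebraMap_eq, MvPolynomial.constantCoeff_comp_C,
          Polynomial.eval]
      simpa [hΔ, Finsupp.single_zero, ← MvPolynomial.constantCoeff_eq, key, Polynomial.coeff_zero_eq_eval_zero] using hc
    refine ⟨q.coeff 1, q.coeff p, Polynomial.ext fun n => ?_⟩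
    rw [Polynomial.coeff_add, Polynomial.coeff_C_mul, Polynomial.coeff_C_mul, Polynomial.coeff_X,
      Polynomial.coeff_X_pow]
    rcases eq_or_ne n 1 with rfl | hn1
    · rw [if_pos rfl, mul_one, if_neg hp.one_lt.ne, mul_zero, add_zero]
    rcases eq_or_ne n p with rfl | hnp
    · simp [Ne.symm hn1]
    rw [if_neg (Ne.symm hn1), if_neg hnp, mul_zero, mul_zero, add_zero]
    by_cases hn : n < p ^ 2
    swap
    · exact Polynomial.coeff_eq_zero_of_natDegree_lt (by lia)
    rcases Nat.eq_zero_or_pos n with rfl | hn0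
    · exact h0
    by_cases hdvd : p ∣ n
    · obtain ⟨b, rfl⟩ := hdvd
      have hb : b < p := by
        rw [sq] at hn
        exact Nat.lt_of_mul_lt_mul_left hn
      have hb1 : 1 < b := by
        rcases b with _ | _ | b
        · simp at hn0
        · simp at hnp
        · lia
      have hlt : p < p * b := by nlinarith [hp.pos]
      refine (hunit _ fun hd => ?_).mul_right_eq_zero.1 (hcoef (p * b) p hp.pos hlt hn)
      have hl := Choose.choose_modEq_choose_mod_mul_choose_div_nat (n := p * b) (k := p) (p := p)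
      rw [Nat.mul_mod_right, Nat.mod_self, Nat.mul_div_cancel_left _ hp.pos, Nat.div_self hp.pos, Nat.choose_self,
        Nat.choose_one_right, one_mul] at hl
      have := hl.symm.trans (Nat.modEq_zero_iff_dvd.2 hd)
      exact absurd (Nat.le_of_dvd (by lia) (Nat.modEq_zero_iff_dvd.1 this)) (by lia)
    · refine (hunit _ ?_).mul_right_eq_zero.1 (hcoef n 1 one_pos (by lia) hn)
      rwa [Nat.choose_one_right]
  · rintro ⟨a₁, ap, rfl⟩
    have : Polynomial.aeval (MvPolynomial.X 0 + MvPolynomial.X 1 : MvPolynomial (Fin 2) A) (Polynomial.C a₁ * Polynomial.X + Polynomial.C ap * Polynomial.X ^ p) -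
        Polynomial.aeval (MvPolynomial.X 0 : MvPolynomial (Fin 2) A) (Polynomial.C a₁ * Polynomial.X + Polynomial.C ap * Polynomial.X ^ p) -
        Polynomial.aeval (MvPolynomial.X 1 : MvPolynomial (Fin 2) A) (Polynomial.C a₁ * Polynomial.X + Polynomial.C ap * Polynomial.X ^ p) = 0 := by
      simp only [map_add, map_mul, map_pow, Polynomial.aeval_C, Polynomial.aeval_X, add_pow_char]
      ring
    rw [this]
    exact Ideal.zero_mem _
  · obtain ⟨y, hy⟩ := hbij.2 (Ideal.Quotient.mk (Ideal.span ({Polynomial.X ^ p ^ 2} : Set (Polynomial A))) Polynomial.X)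
    obtain ⟨g, rfl⟩ := Ideal.Quotient.mk_surjective y
    have h : φ (Ideal.Quotient.mk (Ideal.span ({Polynomial.X ^ p ^ 2} : Set (Polynomial A))) g) =
        Ideal.Quotient.mk (Ideal.span ({Polynomial.X ^ p ^ 2} : Set (Polynomial A))) (g.comp (Polynomial.C a₁ * Polynomial.X + Polynomial.C ap * Polynomial.X ^ p)) := by
      have h1 : φ.comp (Ideal.Quotient.mkₐ A (Ideal.span ({Polynomial.X ^ p ^ 2} : Set (Polynomial A)))) = (Ideal.Quotient.mkₐ A (Ideal.span ({Polynomial.X ^ p ^ 2} : Set (Polynomial A)))).comp
          (Polynomial.aeval (Polynomial.C a₁ * Polynomial.X + Polynomial.C ap * Polynomial.X ^ p)) :=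
        Polynomial.algHom_ext (by simpa using hφ)
      exact AlgHom.congr_fun h1 g
    rw [h, Ideal.Quotient.eq, Ideal.mem_span_singleton, Polynomial.X_pow_dvd_iff] at hy
    have h2 : 1 < p ^ 2 := Nat.one_lt_pow two_ne_zero hp.one_lt
    have h3 := hy 1 h2
    rw [Polynomial.coeff_sub, Polynomial.coeff_X_one, sub_eq_zero] at h3
    have h4 : ∀ f : Polynomial A, f.coeff 1 = (Polynomial.derivative f).eval 0 := fun f => by
      rw [← Polynomial.coeff_zero_eq_eval_zero, Polynomial.coeff_derivative]
      simp
    rw [h4, Polynomial.derivative_comp, Polynomial.eval_mul, Polynomial.eval_comp] at h3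
    simp [hp.ne_zero, Polynomial.derivative_X_pow, zero_pow (Nat.sub_ne_zero_of_lt hp.one_lt)] at h3
    exact IsUnit.of_mul_eq_one _ h3
  · haveI : Module.Finite A (Polynomial A ⧸ (Ideal.span ({Polynomial.X ^ p ^ 2} : Set (Polynomial A)))) := (Polynomial.monic_X_pow (R := A) (p ^ 2)).finite_quotient
    haveI : CharP A p := inferInstance
    obtain ⟨u, rfl⟩ := ha
    have hXp : Ideal.Quotient.mk (Ideal.span ({Polynomial.X ^ p ^ 2} : Set (Polynomial A))) (Polynomial.X ^ p) ∈ φ.range := by
      refine ⟨algebraMap A _ ((↑u⁻¹ : A) ^ p) * (Ideal.Quotient.mk (Ideal.span ({Polynomial.X ^ p ^ 2} : Set (Polynomial A))) Polynomial.X) ^ p, ?_⟩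
      change φ (algebraMap A (Polynomial A ⧸ (Ideal.span ({Polynomial.X ^ p ^ 2} : Set (Polynomial A)))) ((↑u⁻¹ : A) ^ p) * (Ideal.Quotient.mk (Ideal.span ({Polynomial.X ^ p ^ 2} : Set (Polynomial A))) Polynomial.X) ^ p) = _
      rw [map_mul, map_pow φ, hφ, AlgHom.commutes, ← map_pow (Ideal.Quotient.mk (Ideal.span ({Polynomial.X ^ p ^ 2} : Set (Polynomial A)))),
        ← Ideal.Quotient.mk_algebraMap, ← map_mul, Ideal.Quotient.eq, Ideal.mem_span_singleton]
      refine ⟨Polynomial.C ((↑u⁻¹ : A) ^ p * ap ^ p), ?_⟩
      rw [add_pow_char, mul_pow, mul_pow, ← pow_mul, ← sq, Polynomial.algebraMap_eq, map_mul, map_pow, map_pow]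
      have : (Polynomial.C (↑u⁻¹ : A)) ^ p * Polynomial.C (↑u : A) ^ p = 1 := by
        rw [← mul_pow, ← map_mul, Units.inv_mul, map_one, one_pow]
      linear_combination this * Polynomial.X ^ p
    have hX : Ideal.Quotient.mk (Ideal.span ({Polynomial.X ^ p ^ 2} : Set (Polynomial A))) Polynomial.X ∈ φ.range := by
      have : Ideal.Quotient.mk (Ideal.span ({Polynomial.X ^ p ^ 2} : Set (Polynomial A))) Polynomial.X = algebraMap A _ (↑u⁻¹ : A) *
          (φ (Ideal.Quotient.mk (Ideal.span ({Polynomial.X ^ p ^ 2} : Set (Polynomial A))) Polynomial.X) - algebraMap A _ ap * Ideal.Quotient.mk (Ideal.span ({Polynomial.X ^ p ^ 2} : Set (Polynomial A))) (Polynomial.X ^ p)) := by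
        rw [hφ, ← Ideal.Quotient.mk_algebraMap, ← Ideal.Quotient.mk_algebraMap, ← map_mul, ← map_sub, ← map_mul,
          Polynomial.algebraMap_eq, add_sub_cancel_right, ← mul_assoc, ← map_mul, Units.inv_mul, map_one, one_mul]
      rw [this]
      exact Subalgebra.mul_mem _ (Subalgebra.algebraMap_mem _ _)
        (Subalgebra.sub_mem _ ⟨_, rfl⟩ (Subalgebra.mul_mem _ (Subalgebra.algebraMap_mem _ _) hXp))
    have hsurj : Function.Surjective φ := by
      intro z
      obtain ⟨g, rfl⟩ := Ideal.Quotient.mk_surjective z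
      induction g using Polynomial.induction_on with
      | C a => exact ⟨algebraMap A _ a, φ.commutes a⟩
      | add f g hf hg =>
        obtain ⟨x, hx⟩ := hf
        obtain ⟨y, hy⟩ := hg
        exact ⟨x + y, by rw [map_add, map_add, hx, hy]⟩
      | monomial n a _ =>
        refine AlgHom.mem_range φ |>.1 ?_
        rw [map_mul, map_pow]
        exact Subalgebra.mul_mem _ (Subalgebra.algebraMap_mem φ.range a) (Subalgebra.pow_mem _ hX _)
    exact ⟨OrzechProperty.injective_of_surjective_endomorphism φ.toLinearMap hsurj, hsurj⟩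

end Groth.Agent.S13099
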