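import Groth.Statements.S13100
import Mathlib

set_option autoImplicit false
universe u
open GrpSch

namespace Groth.Agent.S13100

open Finset in
/-- coefficients of a square root -/
noncomputable def sq {k : Type u} [Field k] (a : ℕ → k) (c : k) : ℕ → k
  | 0 => c
  | n + 1 => (a (n + 1) - ∑ i : Fin n, sq a c (i + 1) * sq a c (n - i)) / (2 * c)

lemma exists_sqrt {k : Type u} [Field k] [IsAlgClosed k] (h2 : (2 : k) ≠ 0) (p : PowerSeries k)
    (hp : PowerSeries.coeff 0 p ≠ 0) : ∃ q : PowerSeries k, q * q = p := by
  obtain ⟨c, hc⟩ := IsAlgClosed.exists_eq_mul_self (PowerSeries.coeff 0 p)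
  have hc0 : c ≠ 0 := fun h => hp (by rw [hc, h, mul_zero])
  let a := fun n => PowerSeries.coeff n p
  refine ⟨PowerSeries.mk (sq a c), PowerSeries.ext fun n => ?_⟩
  rw [PowerSeries.coeff_mul, Finset.Nat.sum_antidiagonal_eq_sum_range_succ
    (fun i j => PowerSeries.coeff i (PowerSeries.mk (sq a c)) * PowerSeries.coeff j (PowerSeries.mk (sq a c)))]
  simp only [PowerSeries.coeff_mk]
  cases n with
  | zero => simp [sq, hc]
  | succ n =>
    rw [Finset.sum_range_succ, Finset.sum_range_succ', ← Fin.sum_univ_eq_sum_range
      (fun i => sq a c (i + 1) * sq a c (n + 1 - (i + 1)))]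
    simp only [Nat.sub_self, Nat.sub_zero, Nat.succ_sub_succ_eq_sub]
    rw [show sq a c 0 = c from sq.eq_1 a c, sq.eq_2 a c n]
    field_simp
    ring

/-- Let k be an algebraically closed field of characteristic different from 2 and K = k((t)) the field
of Laurent series over k. Then a non-zero Laurent series f is a square in K if and only if its order
in t is even; consequently the group Kˣ/Kˣ² of non-zero elements modulo squares has exactly two
elements, represented by 1 and t. -/
theorem result (k : Type u) [Field k] [IsAlgClosed k] (h2 : (2 : k) ≠ 0)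
    (f : LaurentSeries k) (hf : f ≠ 0) : IsSquare f ↔ Even f.order := by
  classical
  constructor
  · rintro ⟨g, rfl⟩
    have hg : g ≠ 0 := fun h => hf (by rw [h, mul_zero])
    exact ⟨g.order, by rw [HahnSeries.order_mul hg hg]⟩
  · rintro ⟨m, hm⟩
    have hp : PowerSeries.coeff 0 f.powerSeriesPart ≠ 0 := by
      rw [LaurentSeries.powerSeriesPart_coeff, Nat.cast_zero, add_zero]
      exact fun h => hf (HahnSeries.coeff_order_eq_zero.mp h)
    obtain ⟨q, hq⟩ := exists_sqrt h2 _ hp
    refine ⟨HahnSeries.single m 1 * (q : LaurentSeries k), ?_⟩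
    rw [mul_mul_mul_comm, HahnSeries.single_mul_single, mul_one, ← hm, ← map_mul (HahnSeries.ofPowerSeries ℤ k), hq]
    exact (LaurentSeries.single_order_mul_powerSeriesPart f).symm

end Groth.Agent.S13100
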