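import Groth.Statements.S13101
import Mathlib.LinearAlgebra.Matrix.Determinant.Basic
import Mathlib.LinearAlgebra.Matrix.ToLin
import Mathlib.LinearAlgebra.Matrix.NonsingularInverse
import Mathlib.Tactic.LinearCombination
import Mathlib.Tactic.Ring

set_option autoImplicit false
universe u v
open GrpSch

namespace Groth.Agent.S13101

/-- Bracket in coordinates for a semidirect product of a line acting on a plane. -/
lemma bracket_eq {R : Type*} [CommRing R] {L : Type*} [LieRing L] [LieAlgebra R L]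
    (bs : Module.Basis (Fin 3) R L) (m₁₁ m₂₁ m₁₂ m₂₂ : R)
    (h01 : ⁅bs 0, bs 1⁆ = m₁₁ • bs 1 + m₂₁ • bs 2) (h02 : ⁅bs 0, bs 2⁆ = m₁₂ • bs 1 + m₂₂ • bs 2)
    (h12 : ⁅bs 1, bs 2⁆ = 0) (x y : L) :
    bs.repr ⁅x, y⁆ 0 = 0 ∧
    bs.repr ⁅x, y⁆ 1 = m₁₁ * (bs.repr x 0 * bs.repr y 1 - bs.repr x 1 * bs.repr y 0)
      + m₁₂ * (bs.repr x 0 * bs.repr y 2 - bs.repr x 2 * bs.repr y 0) ∧
    bs.repr ⁅x, y⁆ 2 = m₂₁ * (bs.repr x 0 * bs.repr y 1 - bs.repr x 1 * bs.repr y 0)
      + m₂₂ * (bs.repr x 0 * bs.repr y 2 - bs.repr x 2 * bs.repr y 0) := by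
  have h10 : ⁅bs 1, bs 0⁆ = -(m₁₁ • bs 1 + m₂₁ • bs 2) := by rw [← lie_skew, h01]
  have h20 : ⁅bs 2, bs 0⁆ = -(m₁₂ • bs 1 + m₂₂ • bs 2) := by rw [← lie_skew, h02]
  have h21 : ⁅bs 2, bs 1⁆ = 0 := by rw [← lie_skew, h12, neg_zero]
  have key : ⁅x, y⁆ =
      (m₁₁ * (bs.repr x 0 * bs.repr y 1 - bs.repr x 1 * bs.repr y 0)
        + m₁₂ * (bs.repr x 0 * bs.repr y 2 - bs.repr x 2 * bs.repr y 0)) • bs 1 +
      (m₂₁ * (bs.repr x 0 * bs.repr y 1 - bs.repr x 1 * bs.repr y 0)
        + m₂₂ * (bs.repr x 0 * bs.repr y 2 - bs.repr x 2 * bs.repr y 0)) • bs 2 := by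
    conv_lhs => rw [← bs.sum_repr x, ← bs.sum_repr y]
    simp only [Fin.sum_univ_three, lie_add, add_lie, lie_smul, smul_lie, h01, h02, h12, h10, h20,
      h21, lie_self, smul_zero]
    module
  refine ⟨?_, ?_, ?_⟩ <;> simp [key]

/-- The determinant of the matrix of an isomorphism is a unit. -/
lemma isUnit_det {R : Type*} [CommRing R] {L L' : Type*} [AddCommGroup L] [Module R L]
    [AddCommGroup L'] [Module R L'] (b : Module.Basis (Fin 3) R L) (b' : Module.Basis (Fin 3) R L')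
    (f : L ≃ₗ[R] L') : IsUnit (LinearMap.toMatrix b b' f.toLinearMap).det :=
  (Matrix.isUnit_iff_isUnit_det _).mp ⟨⟨_, LinearMap.toMatrix b' b f.symm.toLinearMap, by
    rw [← LinearMap.toMatrix_comp b' b b']; simp [LinearMap.toMatrix_id], by
    rw [← LinearMap.toMatrix_comp b b' b]; simp [LinearMap.toMatrix_id]⟩, rfl⟩

/-- Let A be a commutative ring in which 2 is a unit, and L a Lie algebra over A, free as a module with
basis x = bs 0, y = bs 1, z = bs 2 and brackets [x,y] = y, [x,z] = y + z, [y,z] = 0. Then for every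
Lie algebra automorphism φ of L over A there are b, c, h ∈ A and a unit i of A with φ(x) = x + b y +
c z, φ(y) = i y and φ(z) = h y + i z. Only the form of an automorphism is stated, not that every map
of this form is one. (The published statement identifies the automorphism group scheme with a
semidirect product of two additive groups by the product of the multiplicative and additive group,
for algebras over a field of Laurent series of characteristic not 2, and deduces the vanishing of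
its first cohomology; this row records the determination of the automorphisms, over any base ring
with 2 invertible; the cohomological consequence is not restated.) -/
theorem result (A : Type u) [CommRing A] (h2 : IsUnit (2 : A))
    (L : Type v) [LieRing L] [LieAlgebra A L] (bs : Module.Basis (Fin 3) A L)
    (hxy : ⁅bs 0, bs 1⁆ = bs 1) (hxz : ⁅bs 0, bs 2⁆ = bs 1 + bs 2) (hyz : ⁅bs 1, bs 2⁆ = 0)
    (φ : L ≃ₗ⁅A⁆ L) :
    ∃ b c h i : A, IsUnit i ∧ φ (bs 0) = bs 0 + b • bs 1 + c • bs 2 ∧ φ (bs 1) = i • bs 1 ∧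
      φ (bs 2) = h • bs 1 + i • bs 2 := by
  have hb := bracket_eq bs 1 0 1 1 (by simp [hxy]) (by simp [hxz]) hyz
  have ey : ⁅φ (bs 0), φ (bs 1)⁆ = φ (bs 1) := by rw [← LieEquiv.map_lie, hxy]
  have ez : ⁅φ (bs 0), φ (bs 2)⁆ = φ (bs 1) + φ (bs 2) := by
    rw [← LieEquiv.map_lie, hxz]; exact φ.toLinearEquiv.map_add _ _
  obtain ⟨y0, y1, y2⟩ := hb (φ (bs 0)) (φ (bs 1))
  rw [ey] at y0 y1 y2
  obtain ⟨z0, z1, z2⟩ := hb (φ (bs 0)) (φ (bs 2))
  rw [ez] at z0 z1 z2
  simp only [map_add, Finsupp.add_apply, y0, zero_add] at z0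
  simp only [map_add, Finsupp.add_apply, y0, z0, mul_zero, sub_zero, zero_mul,
    zero_add, add_zero, one_mul] at y1 y2 z1 z2
  have hdet := isUnit_det bs bs φ.toLinearEquiv
  rw [Matrix.det_fin_three] at hdet
  simp [LinearMap.toMatrix_apply, y0, z0] at hdet
  set a := bs.repr (φ (bs 0)) 0
  set e := bs.repr (φ (bs 1)) 1
  set g := bs.repr (φ (bs 1)) 2
  set h := bs.repr (φ (bs 2)) 1
  set i := bs.repr (φ (bs 2)) 2
  have hai : IsUnit (a * a * (i * i)) := by
    convert hdet using 1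
    linear_combination (a * h) * z2 + (-a * i) * z1 + 0
  have hu : IsUnit i := isUnit_of_mul_isUnit_left (isUnit_of_mul_isUnit_right hai)
  have hua : IsUnit a := isUnit_of_mul_isUnit_left (isUnit_of_mul_isUnit_left hai)
  have h1 : (a - 1) * (a - 1) * i = 0 := by
    linear_combination (-1 : A) * y2 + (1 - a) * z2
  have h1' : (a - 1) * (a - 1) = 0 := (hu.mul_left_eq_zero).mp h1
  have h2' : (a - 1) * (2 * a * i + (a - 1) * h) = 0 := by
    linear_combination (-1 : A) * y1 + (1 - a) * z1 + (-a) * z2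
  have h3 : (a - 1) * (2 * a * i) = 0 := by linear_combination h2' - h * h1'
  have ha : a = 1 := sub_eq_zero.mp ((((h2.mul hua).mul hu).mul_left_eq_zero).mp h3)
  have hg : g = 0 := by linear_combination z2 + i * ha
  have hei : e = i := by linear_combination z1 + (h + i) * ha
  refine ⟨bs.repr (φ (bs 0)) 1, bs.repr (φ (bs 0)) 2, h, i, hu, ?_, ?_, ?_⟩ <;>
    conv => lhs; rw [← bs.sum_repr (φ _), Fin.sum_univ_three]
  · simp only [show bs.repr (φ (bs 0)) 0 = 1 from ha, one_smul]
  · simp only [y0, show bs.repr (φ (bs 1)) 2 = 0 from hg, show bs.repr (φ (bs 1)) 1 = i from hei, zero_smul, zero_add, add_zero]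
  · simp only [z0, zero_smul, zero_add, h, i]

end Groth.Agent.S13101
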