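import Groth.Statements.S13102
import Mathlib.LinearAlgebra.Determinant
import Mathlib.LinearAlgebra.Matrix.Determinant.Basic
import Mathlib.Tactic.LinearCombination
import Mathlib.Tactic.Module

set_option autoImplicit false
universe u v w
open GrpSch

namespace Groth.Agent.S13102

/-- Let K be a field, α ∈ K, A a commutative K-algebra and L a Lie algebra over A which is free as an
A-module with basis x = bs 0, y = bs 1, z = bs 2 and brackets [x,y] = y, [x,z] = α z, [y,z] = 0. If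
α² ≠ 1 then every Lie algebra automorphism φ of L over A satisfies φ(x) = x + b y + c z, φ(y) = e y,
φ(z) = i z for some b, c ∈ A and units e, i of A. If α = 1 then every such φ satisfies φ(x) = x + b
y + c z, φ(y) = e y + f z, φ(z) = h y + i z with e i − f h a unit of A. (The printed statement
identifies the automorphism group schemes with the corresponding semidirect products, treats also α
= −1 in characteristic not 2, and computes first cohomology over a field of Laurent series; those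
clauses are not restated here.) -/
theorem result (K : Type u) [Field K] (α : K) (A : Type v) [CommRing A] [Algebra K A]
    (L : Type w) [LieRing L] [LieAlgebra A L] (bs : Module.Basis (Fin 3) A L)
    (hxy : ⁅bs 0, bs 1⁆ = bs 1) (hxz : ⁅bs 0, bs 2⁆ = algebraMap K A α • bs 2) (hyz : ⁅bs 1, bs 2⁆ = 0)
    (φ : L ≃ₗ⁅A⁆ L) :
    (α ^ 2 ≠ 1 → ∃ b c e i : A, IsUnit e ∧ IsUnit i ∧ φ (bs 0) = bs 0 + b • bs 1 + c • bs 2 ∧
        φ (bs 1) = e • bs 1 ∧ φ (bs 2) = i • bs 2) ∧
    (α = 1 → ∃ b c e f h i : A, IsUnit (e * i - f * h) ∧ φ (bs 0) = bs 0 + b • bs 1 + c • bs 2 ∧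
        φ (bs 1) = e • bs 1 + f • bs 2 ∧ φ (bs 2) = h • bs 1 + i • bs 2) := by
  set a := algebraMap K A α with ha
  let m : Matrix (Fin 3) (Fin 3) A := LinearMap.toMatrix bs bs φ.toLinearEquiv.toLinearMap
  have hm : ∀ j, φ (bs j) = m 0 j • bs 0 + m 1 j • bs 1 + m 2 j • bs 2 := fun j => by
    conv_lhs => rw [← bs.sum_repr (φ (bs j))]
    rw [Fin.sum_univ_three]
    simp [m, LinearMap.toMatrix_apply]
  have hdet : IsUnit m.det := LinearEquiv.isUnit_det φ.toLinearEquiv bs bs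
  have hyx : ⁅bs 1, bs 0⁆ = -bs 1 := by rw [← lie_skew, hxy]
  have hzx : ⁅bs 2, bs 0⁆ = -(a • bs 2) := by rw [← lie_skew, hxz]
  have hzy : ⁅bs 2, bs 1⁆ = 0 := by rw [← lie_skew, hyz, neg_zero]
  have hbr : ∀ i j, ⁅φ (bs i), φ (bs j)⁆ =
      (m 0 i * m 1 j - m 1 i * m 0 j) • bs 1 + (a * (m 0 i * m 2 j - m 2 i * m 0 j)) • bs 2 := fun i j => by
    rw [hm i, hm j]
    simp only [add_lie, lie_add, smul_lie, lie_smul, lie_self, hxy, hxz, hyz, hyx, hzx, hzy]
    module
  have hcoord : ∀ (p q r p' q' r' : A), p • bs 0 + q • bs 1 + r • bs 2 = p' • bs 0 + q' • bs 1 + r' • bs 2 →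
      p = p' ∧ q = q' ∧ r = r' := fun p q r p' q' r' h => by
    refine ⟨?_, ?_, ?_⟩
    · simpa using congrArg (fun v => bs.repr v 0) h
    · simpa using congrArg (fun v => bs.repr v 1) h
    · simpa using congrArg (fun v => bs.repr v 2) h
  obtain ⟨e0, e1, e2⟩ := hcoord 0 (m 0 0 * m 1 1 - m 1 0 * m 0 1) (a * (m 0 0 * m 2 1 - m 2 0 * m 0 1))
    (m 0 1) (m 1 1) (m 2 1) (by rw [zero_smul, zero_add, ← hbr, ← hm, ← φ.map_lie, hxy])
  obtain ⟨f0, f1, f2⟩ := hcoord 0 (m 0 0 * m 1 2 - m 1 0 * m 0 2) (a * (m 0 0 * m 2 2 - m 2 0 * m 0 2))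
    (a * m 0 2) (a * m 1 2) (a * m 2 2) (by
      rw [zero_smul, zero_add, ← hbr, ← φ.map_lie, hxz, map_smul, hm, smul_add, smul_add, smul_smul, smul_smul,
        smul_smul])
  obtain ⟨-, g1, g2⟩ := hcoord 0 (m 0 1 * m 1 2 - m 1 1 * m 0 2) (a * (m 0 1 * m 2 2 - m 2 1 * m 0 2)) 0 0 0
    (by rw [zero_smul, zero_add, ← hbr, ← φ.map_lie, hyz]; simp)
  have hy0 : m 0 1 = 0 := e0.symm
  rw [hy0] at e1 e2 g1 g2
  have hz0 : m 0 2 = 0 := by
    by_cases hα : α = 0
    · have hf : m 2 1 = 0 := by rw [← e2, ha, hα, map_zero, zero_mul]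
      have hd : m.det = m 1 1 * (m 0 0 * m 2 2 - m 2 0 * m 0 2) := by
        rw [Matrix.det_fin_three, hy0, hf]; ring
      rw [hd, IsUnit.mul_iff] at hdet
      refine hdet.1.mul_right_eq_zero.1 ?_
      linear_combination -g1
    · exact ((Ne.isUnit hα).map (algebraMap K A)).mul_right_eq_zero.1 f0.symm
  rw [hz0] at f1 f2
  have hd : m.det = m 0 0 * (m 1 1 * m 2 2 - m 2 1 * m 1 2) := by
    rw [Matrix.det_fin_three, hy0, hz0]; ring
  rw [hd, IsUnit.mul_iff] at hdet
  have hφ : ∀ b : A, m 0 0 = 1 → φ (bs 0) = bs 0 + m 1 0 • bs 1 + m 2 0 • bs 2 := fun _ h => by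
    rw [hm 0, h, one_smul]
  constructor
  · intro hα
    have hu : IsUnit (a * a - 1) := by
      have := (Ne.isUnit (sub_ne_zero.2 hα)).map (algebraMap K A)
      rwa [map_sub, map_pow, map_one, sq] at this
    have hfh : m 2 1 * m 1 2 = 0 := by
      refine hu.mul_right_eq_zero.1 ?_
      linear_combination m 1 2 * e2 - a * m 2 1 * f1
    rw [hfh, sub_zero, IsUnit.mul_iff] at hdet
    have hp : m 0 0 = 1 := by
      rw [← sub_eq_zero]
      refine hdet.2.1.mul_left_eq_zero.1 ?_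
      linear_combination e1
    have hu1 : IsUnit (a - 1) := by
      rw [show a * a - 1 = (a - 1) * (a + 1) by ring, IsUnit.mul_iff] at hu
      exact hu.1
    have hf : m 2 1 = 0 := by
      refine hu1.mul_right_eq_zero.1 ?_
      rw [hp] at e2
      linear_combination e2
    have hh : m 1 2 = 0 := by
      refine hu1.mul_right_eq_zero.1 ?_
      rw [hp] at f1
      linear_combination -f1
    exact ⟨m 1 0, m 2 0, m 1 1, m 2 2, hdet.2.1, hdet.2.2, hφ 0 hp, by rw [hm 1, hy0, hf]; simp,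
      by rw [hm 2, hz0, hh]; simp⟩
  · intro hα
    have ha1 : a = 1 := by rw [ha, hα, map_one]
    rw [ha1] at e2 f1 f2
    have hp : m 0 0 = 1 := by
      rw [← sub_eq_zero]
      refine hdet.2.mul_left_eq_zero.1 ?_
      linear_combination m 2 2 * e1 - m 2 1 * f1
    refine ⟨m 1 0, m 2 0, m 1 1, m 2 1, m 1 2, m 2 2, hdet.2, hφ 0 hp, by rw [hm 1, hy0]; simp,
      by rw [hm 2, hz0]; simp⟩

end Groth.Agent.S13102
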