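import Groth.Statements.S13104
import Mathlib.Algebra.DualNumber
import Mathlib.AlgebraicGeometry.Morphisms.Flat
import Mathlib.Tactic.LinearCombination

set_option autoImplicit false
universe u
open GrpSch

namespace Groth.Agent.S13104

open TrivSqZeroExt CategoryTheory AlgebraicGeometry in
theorem ψ_injective {B : Type u} [CommRing B]
    (ψ : DualNumber B →+* DualNumber (DualNumber B))
    (hψB : ∀ b : B, ψ (algebraMap B (DualNumber B) b) = algebraMap B (DualNumber (DualNumber B)) b)
    (hψ : ψ DualNumber.eps = algebraMap (DualNumber B) (DualNumber (DualNumber B)) DualNumber.eps * DualNumber.eps) :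
    Function.Injective ψ := by
  refine (injective_iff_map_eq_zero _).mpr fun x hx => ?_
  have hdec : x = algebraMap B (DualNumber B) x.fst + algebraMap B (DualNumber B) x.snd * DualNumber.eps := by
    ext <;> simp [TrivSqZeroExt.algebraMap_eq_inl]
  rw [hdec, map_add, map_mul, hψB, hψB, hψ] at hx
  have h1 := congrArg (fun z => z.fst.fst) hx
  have h2 := congrArg (fun z => z.snd.snd) hx
  simp [IsScalarTower.algebraMap_apply B (DualNumber B) (DualNumber (DualNumber B)),
    TrivSqZeroExt.algebraMap_eq_inl] at h1 h2
  ext
  · exact h1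
  · exact h2

open TrivSqZeroExt in
theorem exists_eq_add_nilpotent {B : Type u} [CommRing B] (t : DualNumber (DualNumber B)) :
    ∃ b : B, IsNilpotent (t - algebraMap B (DualNumber (DualNumber B)) b) := by
  refine ⟨t.fst.fst, ⟨4, ?_⟩⟩
  set n := t - algebraMap B (DualNumber (DualNumber B)) t.fst.fst with hn
  have h0 : n.fst.fst = 0 := by
    simp [hn, IsScalarTower.algebraMap_apply B (DualNumber B) (DualNumber (DualNumber B)),
      TrivSqZeroExt.algebraMap_eq_inl]
  have sq : ∀ {R : Type u} [CommRing R] (z : DualNumber R), z.fst = 0 → z * z = 0 := fun z hz => by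
    ext <;> simp [hz]
  have h1 : (n * n).fst = 0 := by
    rw [TrivSqZeroExt.fst_mul]
    exact sq n.fst h0
  rw [show (4 : ℕ) = 2 + 2 from rfl, pow_add, pow_two]
  exact sq _ h1

theorem comap_surjective {B : Type u} [CommRing B]
    (ψ : DualNumber B →+* DualNumber (DualNumber B))
    (hψB : ∀ b : B, ψ (algebraMap B (DualNumber B) b) = algebraMap B (DualNumber (DualNumber B)) b) :
    Function.Surjective (PrimeSpectrum.comap (R := DualNumber B) (S := DualNumber (DualNumber B)) ψ) := fun p => by
  let π : DualNumber (DualNumber B) →+* B :=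
    (TrivSqZeroExt.fstHom B B B).toRingHom.comp
      (TrivSqZeroExt.fstHom (DualNumber B) (DualNumber B) (DualNumber B)).toRingHom
  refine ⟨PrimeSpectrum.comap π (PrimeSpectrum.comap (algebraMap B (DualNumber B)) p), PrimeSpectrum.ext ?_⟩
  have key : ∀ (P Q : PrimeSpectrum (DualNumber B)),
      (∀ b, algebraMap B (DualNumber B) b ∈ P.asIdeal ↔ algebraMap B (DualNumber B) b ∈ Q.asIdeal) →
        P.asIdeal = Q.asIdeal := fun P Q h => by
    have hn : ∀ (x : DualNumber B) (T : PrimeSpectrum (DualNumber B)),
        x ∈ T.asIdeal ↔ algebraMap B (DualNumber B) x.fst ∈ T.asIdeal := fun x T => by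
      have hnil : x - algebraMap B (DualNumber B) x.fst ∈ T.asIdeal := T.isPrime.mem_of_pow_mem 2 (by
        have : (x - algebraMap B (DualNumber B) x.fst) ^ 2 = 0 := by
          rw [pow_two]
          ext <;> simp [TrivSqZeroExt.algebraMap_eq_inl]
        rw [this]
        exact zero_mem _)
      exact ⟨fun hx => by simpa using sub_mem hx hnil, fun hx => by simpa using add_mem hnil hx⟩
    ext x
    rw [hn x P, hn x Q, h]
  refine key _ p fun b => ?_
  simp only [PrimeSpectrum.comap_asIdeal, Ideal.mem_comap, hψB]
  have : π (algebraMap B (DualNumber (DualNumber B)) b) = b := by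
    simp [π, IsScalarTower.algebraMap_apply B (DualNumber B) (DualNumber (DualNumber B)),
      TrivSqZeroExt.algebraMap_eq_inl]
  rw [this]

theorem exists_mul_eq_zero {B : Type u} [CommRing B]
    (ψ : DualNumber B →+* DualNumber (DualNumber B))
    (hψB : ∀ b : B, ψ (algebraMap B (DualNumber B) b) = algebraMap B (DualNumber (DualNumber B)) b)
    (hψ : ψ DualNumber.eps = algebraMap (DualNumber B) (DualNumber (DualNumber B)) DualNumber.eps * DualNumber.eps)
    (q : PrimeSpectrum (DualNumber (DualNumber B))) (a : DualNumber B) (t : DualNumber (DualNumber B))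
    (ht : t ∉ q.asIdeal) (h : t * ψ a = 0) :
    ∃ r : DualNumber B, ψ r ∉ q.asIdeal ∧ r * a = 0 := by
  obtain ⟨b, m, hm⟩ := exists_eq_add_nilpotent t
  have hbq : algebraMap B (DualNumber (DualNumber B)) b ∉ q.asIdeal := fun hb => ht (by
    have := q.isPrime.mem_of_pow_mem m (hm.symm ▸ zero_mem q.asIdeal)
    simpa using add_mem this hb)
  have hba : ψ (algebraMap B (DualNumber B) b ^ m * a) = 0 := by
    rw [map_mul, map_pow, hψB]
    have h' : algebraMap B (DualNumber (DualNumber B)) b * ψ a =
        -(t - algebraMap B (DualNumber (DualNumber B)) b) * ψ a := by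
      linear_combination h
    have key : ∀ j : ℕ, algebraMap B (DualNumber (DualNumber B)) b ^ j * ψ a =
        (-(t - algebraMap B (DualNumber (DualNumber B)) b)) ^ j * ψ a := fun j => by
      induction j with
      | zero => simp
      | succ j ih =>
        rw [pow_succ, pow_succ]
        linear_combination (algebraMap B (DualNumber (DualNumber B)) b) * ih +
          ((-(t - algebraMap B (DualNumber (DualNumber B)) b)) ^ j) * h'
    rw [key, neg_pow, hm, mul_zero, zero_mul]
  refine ⟨algebraMap B (DualNumber B) b ^ m, fun hmem => hbq ?_,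
    (ψ_injective ψ hψB hψ) (hba.trans (map_zero ψ).symm)⟩
  have hmem' : ψ (algebraMap B (DualNumber B) b ^ m) ∈ q.asIdeal := hmem
  rw [map_pow] at hmem'
  have := q.isPrime.mem_of_pow_mem m hmem'
  rwa [hψB] at this

open CategoryTheory AlgebraicGeometry in
set_option backward.isDefEq.respectTransparency.types false in
theorem epi_spec {R S : Type u} [CommRing R] [CommRing S] (ψ : R →+* S)
    (hs : Surjective (Spec.map (CommRingCat.ofHom ψ)))
    (h : ∀ (q : PrimeSpectrum S) (a : R) (t : S), t ∉ q.asIdeal → t * ψ a = 0 →
      ∃ r : R, ψ r ∉ q.asIdeal ∧ r * a = 0) :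
    Epi (Spec.map (CommRingCat.ofHom ψ)) := by
  apply CategoryTheory.Functor.epi_of_epi_map (Scheme.forgetToLocallyRingedSpace)
  apply CategoryTheory.Functor.epi_of_epi_map (LocallyRingedSpace.forgetToSheafedSpace)
  apply SheafedSpace.epi_of_base_surjective_of_stalk_mono _ hs.surj
  intro x
  apply ConcreteCategory.mono_of_injective
  have hl : Function.Injective (Localization.localRingHom (x.asIdeal.comap ψ) x.asIdeal ψ rfl) := by
    refine (injective_iff_map_eq_zero _).mpr fun z hz => ?_
    obtain ⟨⟨a, s⟩, rfl⟩ := IsLocalization.mk'_surjective (x.asIdeal.comap ψ).primeCompl z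
    rw [Localization.localRingHom_mk', IsLocalization.mk'_eq_zero_iff] at hz
    obtain ⟨⟨t, ht⟩, h0⟩ := hz
    obtain ⟨r, hr, hra⟩ := h x a t ht h0
    exact (IsLocalization.mk'_eq_zero_iff _ _).mpr ⟨⟨r, hr⟩, hra⟩
  exact ((MorphismProperty.injective CommRingCat).arrow_mk_iso_iff
    (Scheme.arrowStalkMapSpecIso (CommRingCat.ofHom ψ) x)).mpr hl


open CategoryTheory AlgebraicGeometry in
/-- Let B be a commutative ring, B[ε] the ring of dual numbers (ε² = 0) and B[α, β]/(α², β²) the double
dual numbers, realised as dual numbers over the dual numbers with α the inner and β the outer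
generator, and let ψ : B[ε] → B[α, β]/(α², β²) be the B-algebra homomorphism with ψ(ε) = αβ. Then
for every scheme G the map u ↦ Spec(ψ) ≫ u from morphisms Spec B[ε] → G to morphisms Spec
B[α,β]/(α²,β²) → G is injective. (The printed statement is its consequence for a group scheme G: the
map Lie(G)(B) → G(B[α,β]/(α²,β²)), x ↦ exp(αβ x), is injective; the injectivity on all B[ε]-points
stated here is what the printed argument establishes.) -/
theorem result (B : Type u) [CommRing B]
    (ψ : DualNumber B →+* DualNumber (DualNumber B))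
    (hψB : ∀ b : B, ψ (algebraMap B (DualNumber B) b) = algebraMap B (DualNumber (DualNumber B)) b)
    (hψ : ψ DualNumber.eps = algebraMap (DualNumber B) (DualNumber (DualNumber B)) DualNumber.eps * DualNumber.eps)
    (G : Scheme.{u}) :
    Function.Injective (fun u : Spec (CommRingCat.of (DualNumber B)) ⟶ G =>
      Spec.map (CommRingCat.ofHom (R := DualNumber B) (S := DualNumber (DualNumber B)) ψ) ≫ u) := by
  have : Surjective (Spec.map (CommRingCat.ofHom (R := DualNumber B) (S := DualNumber (DualNumber B)) ψ)) :=
    ⟨comap_surjective ψ hψB⟩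
  have : Epi (Spec.map (CommRingCat.ofHom (R := DualNumber B) (S := DualNumber (DualNumber B)) ψ)) :=
    epi_spec (R := DualNumber B) (S := DualNumber (DualNumber B)) ψ this
      fun q a t ht h => exists_mul_eq_zero ψ hψB hψ q a t ht h
  exact fun u v h => (cancel_epi _).mp h


end Groth.Agent.S13104
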