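import Groth.Statements.S13106
import Groth.Agent.SchDense.Basic
import Mathlib.AlgebraicGeometry.Restrict

set_option autoImplicit false
universe u
open GrpSch

namespace Groth.Agent.S13106

open CategoryTheory AlgebraicGeometry in
/-- Let f : X → Y be a morphism of schemes and U ⊆ Y a schematically dense open subscheme (for every
open V of Y, restriction of functions from V to V ∩ U is injective) such that the restriction f⁻¹(U)
→ U of f is an isomorphism. Then two morphisms from Y to a scheme separated over a base T that agree
after composing with f and have the same composite to T are equal: if Z → T is separated and v₁, v₂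
: Y → Z satisfy v₁ ≫ (Z → T) = v₂ ≫ (Z → T) and f ≫ v₁ = f ≫ v₂, then v₁ = v₂. (The published
statement is the case of a morphism between two prolongations over A[[t]] of a finite group scheme
over A((t)), where U is the generic fibre, schematically dense by flatness; uniqueness of
prolongation maps follows.) -/
theorem result {X Y Z T : Scheme.{u}} (f : X ⟶ Y)
    (U : Y.Opens) (hU : CInt.IsSchematicallyDense U) [IsIso (f ∣_ U)]
    (z : Z ⟶ T) [IsSeparated z] (v₁ v₂ : Y ⟶ Z) (hz : v₁ ≫ z = v₂ ≫ z) (h : f ≫ v₁ = f ≫ v₂) :
    v₁ = v₂ := by
  haveI : IsSeparated (Over.mk z).hom := ‹IsSeparated z›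
  have hU' : U.ι ≫ v₁ = U.ι ≫ v₂ := by
    rw [← cancel_epi (f ∣_ U), ← Category.assoc, ← Category.assoc, morphismRestrict_ι, Category.assoc, Category.assoc, h]
  exact congrArg CommaMorphism.left (Groth.Agent.SchDense.eq_of_isSeparated (S := T) (X := Over.mk (v₁ ≫ z))
    (Y := Over.mk z) U hU (Over.homMk v₁ rfl) (Over.homMk v₂ hz.symm) hU')

end Groth.Agent.S13106
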