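import Groth.Statements.S13107
import Mathlib.LinearAlgebra.Matrix.Determinant.Basic
import Mathlib.LinearAlgebra.Matrix.ToLin
import Mathlib.LinearAlgebra.Matrix.NonsingularInverse
import Mathlib.Tactic.LinearCombination
import Mathlib.Tactic.Ring

set_option autoImplicit false
universe u v w
open GrpSch

namespace Groth.Agent.S13107

/-- Bracket in coordinates for a semidirect product of a line acting on a plane. -/
lemma bracket_eq {R : Type*} [CommRing R] {L : Type*} [LieRing L] [LieAlgebra R L]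
    (bs : Module.Basis (Fin 3) R L) (m₁₁ m₂₁ m₁₂ m₂₂ : R)
    (h01 : ⁅bs 0, bs 1⁆ = m₁₁ • bs 1 + m₂₁ • bs 2) (h02 : ⁅bs 0, bs 2⁆ = m₁₂ • bs 1 + m₂₂ • bs 2)
    (h12 : ⁅bs 1, bs 2⁆ = 0) (x y : L) :
    bs.repr ⁅x, y⁆ 0 = 0 ∧
    bs.repr ⁅x, y⁆ 1 = m₁₁ * (bs.repr x 0 * bs.repr y 1 - bs.repr x 1 * bs.repr y 0)
      + m₁₂ * (bs.repr x 0 * bs.repr y 2 - bs.repr x 2 * bs.repr y 0) ∧
    bs.repr ⁅x, y⁆ 2 = m₂₁ * (bs.repr x 0 * bs.repr y 1 - bs.repr x 1 * bs.repr y 0)
      + m₂₂ * (bs.repr x 0 * bs.repr y 2 - bs.repr x 2 * bs.repr y 0) := by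
  have h10 : ⁅bs 1, bs 0⁆ = -(m₁₁ • bs 1 + m₂₁ • bs 2) := by rw [← lie_skew, h01]
  have h20 : ⁅bs 2, bs 0⁆ = -(m₁₂ • bs 1 + m₂₂ • bs 2) := by rw [← lie_skew, h02]
  have h21 : ⁅bs 2, bs 1⁆ = 0 := by rw [← lie_skew, h12, neg_zero]
  have key : ⁅x, y⁆ =
      (m₁₁ * (bs.repr x 0 * bs.repr y 1 - bs.repr x 1 * bs.repr y 0)
        + m₁₂ * (bs.repr x 0 * bs.repr y 2 - bs.repr x 2 * bs.repr y 0)) • bs 1 +
      (m₂₁ * (bs.repr x 0 * bs.repr y 1 - bs.repr x 1 * bs.repr y 0)
        + m₂₂ * (bs.repr x 0 * bs.repr y 2 - bs.repr x 2 * bs.repr y 0)) • bs 2 := by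
    conv_lhs => rw [← bs.sum_repr x, ← bs.sum_repr y]
    simp only [Fin.sum_univ_three, lie_add, add_lie, lie_smul, smul_lie, h01, h02, h12, h10, h20,
      h21, lie_self, smul_zero]
    module
  refine ⟨?_, ?_, ?_⟩ <;> simp [key]

/-- The determinant of the matrix of an isomorphism is a unit. -/
lemma isUnit_det {R : Type*} [CommRing R] {L L' : Type*} [AddCommGroup L] [Module R L]
    [AddCommGroup L'] [Module R L'] (b : Module.Basis (Fin 3) R L) (b' : Module.Basis (Fin 3) R L')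
    (f : L ≃ₗ[R] L') : IsUnit (LinearMap.toMatrix b b' f.toLinearMap).det :=
  (Matrix.isUnit_iff_isUnit_det _).mp ⟨⟨_, LinearMap.toMatrix b' b f.symm.toLinearMap, by
    rw [← LinearMap.toMatrix_comp b' b b']; simp [LinearMap.toMatrix_id], by
    rw [← LinearMap.toMatrix_comp b b' b]; simp [LinearMap.toMatrix_id]⟩, rfl⟩

/-- Let k be a field, K = k((t)) the field of Laurent series over k, F a Lie algebra over K with a basis
x' = bF 0, y' = bF 1, z' = bF 2 and brackets [x',y'] = z', [x',z'] = t y', [y',z'] = 0, and L a Lie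
algebra over K with a basis x = bL 0, y = bL 1, z = bL 2 and brackets [x,y] = y, [x,z] = −z, [y,z] =
0. Then there is no K-linear isomorphism of Lie algebras between L and F: F is a non-trivial form of
L over K. (The published result is the classification of three-dimensional Lie algebras over k((t))
for k algebraically closed of characteristic not 2, with F its only non-split entry; this row states
the non-isomorphism of F and L over k((t)) for every field k.) -/
theorem result (k : Type u) [Field k]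
    (F : Type v) [LieRing F] [LieAlgebra (LaurentSeries k) F] (bF : Module.Basis (Fin 3) (LaurentSeries k) F)
    (hF01 : ⁅bF 0, bF 1⁆ = bF 2) (hF02 : ⁅bF 0, bF 2⁆ = (HahnSeries.single 1 (1 : k) : LaurentSeries k) • bF 1)
    (hF12 : ⁅bF 1, bF 2⁆ = 0)
    (L : Type w) [LieRing L] [LieAlgebra (LaurentSeries k) L] (bL : Module.Basis (Fin 3) (LaurentSeries k) L)
    (hL01 : ⁅bL 0, bL 1⁆ = bL 1) (hL02 : ⁅bL 0, bL 2⁆ = -bL 2) (hL12 : ⁅bL 1, bL 2⁆ = 0) :
    IsEmpty (L ≃ₗ⁅LaurentSeries k⁆ F) := by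
  refine ⟨fun φ => ?_⟩
  set a := bF.repr (φ (bL 0)) 0 with ha
  set t : LaurentSeries k := HahnSeries.single 1 (1 : k) with ht
  have hb := bracket_eq bF 0 1 t 0 (by simp [hF01]) (by simp [hF02, ht]) hF12
  have e : ⁅φ (bL 0), φ (bL 1)⁆ = φ (bL 1) := by rw [← LieEquiv.map_lie, hL01]
  obtain ⟨h0, h1, h2⟩ := hb (φ (bL 0)) (φ (bL 1))
  rw [e] at h0 h1 h2
  simp only [h0, mul_zero, sub_zero, zero_mul, zero_add, add_zero, one_mul] at h1 h2
  rw [← ha] at h1 h2
  have hp : bF.repr (φ (bL 1)) 1 ≠ 0 := by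
    intro hp
    rw [hp, mul_zero] at h2
    have : φ (bL 1) = 0 := by
      rw [← bF.sum_repr (φ (bL 1)), Fin.sum_univ_three, h0, hp, h2]; simp
    exact bL.ne_zero 1 (φ.toLinearEquiv.map_eq_zero_iff.mp this)
  have hat : t * a * a = 1 := by
    refine mul_right_cancel₀ hp ?_
    linear_combination -h1 + -(t * a) * h2
  have hane : a ≠ 0 := fun h => by simp [h] at hat
  have hord := congrArg HahnSeries.order hat
  rw [HahnSeries.order_mul (mul_ne_zero (by simp [ht]) hane) hane,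
    HahnSeries.order_mul (by simp [ht]) hane, ht, HahnSeries.order_single one_ne_zero,
    HahnSeries.order_one] at hord
  omega

end Groth.Agent.S13107
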