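import Groth.Statements.S13108
import Mathlib.LinearAlgebra.Matrix.Determinant.Basic
import Mathlib.LinearAlgebra.Matrix.ToLin
import Mathlib.LinearAlgebra.Matrix.NonsingularInverse
import Mathlib.Tactic.LinearCombination
import Mathlib.Tactic.Ring

set_option autoImplicit false
universe u v w
open GrpSch

namespace Groth.Agent.S13108

/-- Bracket in coordinates for a semidirect product of a line acting on a plane. -/
lemma bracket_eq {R : Type*} [CommRing R] {L : Type*} [LieRing L] [LieAlgebra R L]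
    (bs : Module.Basis (Fin 3) R L) (m₁₁ m₂₁ m₁₂ m₂₂ : R)
    (h01 : ⁅bs 0, bs 1⁆ = m₁₁ • bs 1 + m₂₁ • bs 2) (h02 : ⁅bs 0, bs 2⁆ = m₁₂ • bs 1 + m₂₂ • bs 2)
    (h12 : ⁅bs 1, bs 2⁆ = 0) (x y : L) :
    bs.repr ⁅x, y⁆ 0 = 0 ∧
    bs.repr ⁅x, y⁆ 1 = m₁₁ * (bs.repr x 0 * bs.repr y 1 - bs.repr x 1 * bs.repr y 0)
      + m₁₂ * (bs.repr x 0 * bs.repr y 2 - bs.repr x 2 * bs.repr y 0) ∧
    bs.repr ⁅x, y⁆ 2 = m₂₁ * (bs.repr x 0 * bs.repr y 1 - bs.repr x 1 * bs.repr y 0)
      + m₂₂ * (bs.repr x 0 * bs.repr y 2 - bs.repr x 2 * bs.repr y 0) := by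
  have h10 : ⁅bs 1, bs 0⁆ = -(m₁₁ • bs 1 + m₂₁ • bs 2) := by rw [← lie_skew, h01]
  have h20 : ⁅bs 2, bs 0⁆ = -(m₁₂ • bs 1 + m₂₂ • bs 2) := by rw [← lie_skew, h02]
  have h21 : ⁅bs 2, bs 1⁆ = 0 := by rw [← lie_skew, h12, neg_zero]
  have key : ⁅x, y⁆ =
      (m₁₁ * (bs.repr x 0 * bs.repr y 1 - bs.repr x 1 * bs.repr y 0)
        + m₁₂ * (bs.repr x 0 * bs.repr y 2 - bs.repr x 2 * bs.repr y 0)) • bs 1 +
      (m₂₁ * (bs.repr x 0 * bs.repr y 1 - bs.repr x 1 * bs.repr y 0)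
        + m₂₂ * (bs.repr x 0 * bs.repr y 2 - bs.repr x 2 * bs.repr y 0)) • bs 2 := by
    conv_lhs => rw [← bs.sum_repr x, ← bs.sum_repr y]
    simp only [Fin.sum_univ_three, lie_add, add_lie, lie_smul, smul_lie, h01, h02, h12, h10, h20,
      h21, lie_self, smul_zero]
    module
  refine ⟨?_, ?_, ?_⟩ <;> simp [key]

/-- The determinant of the matrix of an isomorphism is a unit. -/
lemma isUnit_det {R : Type*} [CommRing R] {L L' : Type*} [AddCommGroup L] [Module R L]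
    [AddCommGroup L'] [Module R L'] (b : Module.Basis (Fin 3) R L) (b' : Module.Basis (Fin 3) R L')
    (f : L ≃ₗ[R] L') : IsUnit (LinearMap.toMatrix b b' f.toLinearMap).det :=
  (Matrix.isUnit_iff_isUnit_det _).mp ⟨⟨_, LinearMap.toMatrix b' b f.symm.toLinearMap, by
    rw [← LinearMap.toMatrix_comp b' b b']; simp [LinearMap.toMatrix_id], by
    rw [← LinearMap.toMatrix_comp b b' b]; simp [LinearMap.toMatrix_id]⟩, rfl⟩

/-- Let k be a field and t, t' ∈ k both non-zero; let L be a Lie algebra over k with a basis x = b 0, y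
= b 1, z = b 2 and brackets [x,y] = y, [x,z] = t z, [y,z] = 0, and L' a Lie algebra over k with a
basis x' = b' 0, y' = b' 1, z' = b' 2 and brackets [x',y'] = y', [x',z'] = t' z', [y',z'] = 0. Then
L and L' are isomorphic Lie algebras over k if and only if t' = t or t' = t⁻¹. -/
theorem result (k : Type u) [Field k] (t t' : k) (ht : t ≠ 0) (ht' : t' ≠ 0)
    (L : Type v) [LieRing L] [LieAlgebra k L] (b : Module.Basis (Fin 3) k L)
    (h01 : ⁅b 0, b 1⁆ = b 1) (h02 : ⁅b 0, b 2⁆ = t • b 2) (h12 : ⁅b 1, b 2⁆ = 0)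
    (L' : Type w) [LieRing L'] [LieAlgebra k L'] (b' : Module.Basis (Fin 3) k L')
    (h01' : ⁅b' 0, b' 1⁆ = b' 1) (h02' : ⁅b' 0, b' 2⁆ = t' • b' 2) (h12' : ⁅b' 1, b' 2⁆ = 0) :
    Nonempty (L ≃ₗ⁅k⁆ L') ↔ (t' = t ∨ t' = t⁻¹) := by
  constructor
  · rintro ⟨φ⟩
    have hb := bracket_eq b' 1 0 0 t' (by simp [h01']) (by simp [h02']) h12'
    have ey : ⁅φ (b 0), φ (b 1)⁆ = φ (b 1) := by rw [← LieEquiv.map_lie, h01]
    have ez : ⁅φ (b 0), φ (b 2)⁆ = t • φ (b 2) := by
      rw [← LieEquiv.map_lie, h02]; exact φ.toLinearEquiv.map_smul t (b 2)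
    obtain ⟨y0, y1, y2⟩ := hb (φ (b 0)) (φ (b 1))
    rw [ey] at y0 y1 y2
    obtain ⟨z0, z1, z2⟩ := hb (φ (b 0)) (φ (b 2))
    rw [ez] at z0 z1 z2
    simp only [map_smul, Finsupp.smul_apply, smul_eq_mul, mul_eq_zero, ht, false_or] at z0
    simp only [map_smul, Finsupp.smul_apply, smul_eq_mul, y0, z0, mul_zero, sub_zero, zero_mul,
      zero_add, add_zero, one_mul] at y1 y2 z1 z2
    have hdet := (isUnit_det b b' φ.toLinearEquiv).ne_zero
    rw [Matrix.det_fin_three] at hdet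
    simp [LinearMap.toMatrix_apply, y0, z0] at hdet
    by_cases hp : b'.repr (φ (b 1)) 1 = 0
    · have hq : b'.repr (φ (b 1)) 2 ≠ 0 := fun hq => hdet (by rw [hp, hq]; ring)
      have hr : b'.repr (φ (b 2)) 1 ≠ 0 := fun hr => hdet (by rw [hp, hr]; ring)
      have h1 : b'.repr (φ (b 0)) 0 = t := (mul_right_cancel₀ hr z1.symm)
      rw [h1] at y2
      have h2 : t' * t = 1 := mul_right_cancel₀ hq (by linear_combination -y2)
      exact Or.inr (eq_inv_of_mul_eq_one_left h2)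
    · have h1 : b'.repr (φ (b 0)) 0 = 1 := mul_right_cancel₀ hp (by linear_combination -y1)
      rw [h1] at z1 z2 y2
      by_cases hs : b'.repr (φ (b 2)) 2 = 0
      · have hr : b'.repr (φ (b 2)) 1 ≠ 0 := fun hr => hdet (by rw [hs, hr]; ring)
        have hq : b'.repr (φ (b 1)) 2 ≠ 0 := fun hq => hdet (by rw [hs, hq]; ring)
        have h2 : t = 1 := mul_right_cancel₀ hr (by linear_combination z1)
        have h3 : t' = 1 := mul_right_cancel₀ hq (by linear_combination -y2)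
        exact Or.inl (h3.trans h2.symm)
      · exact Or.inl (mul_right_cancel₀ hs (by linear_combination -z2))
  · intro h
    rcases h with rfl | rfl
    · refine ⟨{ b.equiv b' (Equiv.refl _) with map_lie' := fun {x y} => ?_ }⟩
      show (b.equiv b' (Equiv.refl _)) ⁅x, y⁆ = ⁅(b.equiv b' (Equiv.refl _)) x, (b.equiv b' (Equiv.refl _)) y⁆
      have hb := bracket_eq b 1 0 0 t' (by simp [h01]) (by simp [h02]) h12 x y
      have hb' := bracket_eq b' 1 0 0 t' (by simp [h01']) (by simp [h02']) h12'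
        ((b.equiv b' (Equiv.refl _)) x) ((b.equiv b' (Equiv.refl _)) y)
      have he : ∀ z i, b'.repr ((b.equiv b' (Equiv.refl _)) z) i = b.repr z i := fun z i => by
        simp [Module.Basis.equiv]
      refine b'.ext_elem fun i => ?_
      rw [he]
      fin_cases i <;> simp [hb, hb', he]
    · let σ : Fin 3 ≃ Fin 3 := Equiv.swap 1 2
      let c : Module.Basis (Fin 3) k L' :=
        (b'.reindex σ).unitsSMul ![Units.mk0 t ht, 1, 1]
      have c0 : c 0 = t • b' 0 := by simp [c, σ, Module.Basis.unitsSMul_apply]; rw [Equiv.swap_apply_of_ne_of_ne (by decide) (by decide)]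
      have c1 : c 1 = b' 2 := by simp [c, σ, Module.Basis.unitsSMul_apply]
      have c2 : c 2 = b' 1 := by simp [c, σ, Module.Basis.unitsSMul_apply]
      have hc01 : ⁅c 0, c 1⁆ = c 1 := by rw [c0, c1, smul_lie, h02', smul_smul, mul_inv_cancel₀ ht, one_smul]
      have hc02 : ⁅c 0, c 2⁆ = t • c 2 := by rw [c0, c2, smul_lie, h01']
      have hc12 : ⁅c 1, c 2⁆ = 0 := by rw [c1, c2, ← lie_skew, h12', neg_zero]
      refine ⟨{ b.equiv c (Equiv.refl _) with map_lie' := fun {x y} => ?_ }⟩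
      show (b.equiv c (Equiv.refl _)) ⁅x, y⁆ = ⁅(b.equiv c (Equiv.refl _)) x, (b.equiv c (Equiv.refl _)) y⁆
      have hb := bracket_eq b 1 0 0 t (by simp [h01]) (by simp [h02]) h12 x y
      have hb' := bracket_eq c 1 0 0 t (by simp [hc01]) (by simp [hc02]) hc12
        ((b.equiv c (Equiv.refl _)) x) ((b.equiv c (Equiv.refl _)) y)
      have he : ∀ z i, c.repr ((b.equiv c (Equiv.refl _)) z) i = b.repr z i := fun z i => by
        simp [Module.Basis.equiv]
      refine c.ext_elem fun i => ?_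
      rw [he]
      fin_cases i <;> simp [hb, hb', he]

end Groth.Agent.S13108
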