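import Groth.Statements.S13110
import Groth.Agent.RedNorm.Basic
import Groth.Agent.DVRDom.Basic
import Mathlib
-- import your own Groth.Agent.* helpers here

set_option autoImplicit false
universe u
open HTop

namespace Groth.Agent.S13110

section
open CategoryTheory AlgebraicGeometry W4c1hilbchowinc

/-- The value map `A → κ(p)` at a point of `Spec A`. -/
noncomputable def ev (A : Type u) [CommRing A] (p : Spec (CommRingCat.of A)) :
    A →+* (Spec (CommRingCat.of A)).residueField p :=
  ((Spec (CommRingCat.of A)).Γevaluation p).hom.comp (Scheme.ΓSpecIso (CommRingCat.of A)).inv.hom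

theorem ev_eq_zero_iff {A : Type u} [CommRing A] (p : Spec (CommRingCat.of A)) (a : A) :
    ev A p a = 0 ↔ a ∈ p.asIdeal := by
  show (Spec (CommRingCat.of A)).Γevaluation p ((Scheme.ΓSpecIso (CommRingCat.of A)).inv a) = 0 ↔ _
  refine (Scheme.evaluation_eq_zero_iff_notMem_basicOpen (U := ⊤) (Spec (CommRingCat.of A)) p (TopologicalSpace.Opens.mem_top _) _).trans ?_
  rw [basicOpen_eq_of_affine]
  exact not_not

theorem exists_ev_fraction {A : Type u} [CommRing A] (p : Spec (CommRingCat.of A))
    (z : (Spec (CommRingCat.of A)).residueField p) :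
    ∃ a b : A, b ∉ p.asIdeal ∧ z * ev A p b = ev A p a := by
  haveI : p.asIdeal.IsPrime := p.isPrime
  let e := (Scheme.Spec.residueFieldIso (CommRingCat.of A) p).commRingCatIsoToRingEquiv
  have he : ∀ a : A, e.symm (algebraMap A p.asIdeal.ResidueField a) = ev A p a := fun a =>
    congrArg (fun m : (CommRingCat.of A) ⟶ _ => m a)
      (Scheme.Spec.algebraMap_residueFieldIso_inv (CommRingCat.of A) p)
  obtain ⟨x, y, hy, hxy⟩ := IsFractionRing.div_surjective (A ⧸ p.asIdeal) (e z)
  obtain ⟨a, rfl⟩ := Ideal.Quotient.mk_surjective x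
  obtain ⟨b, rfl⟩ := Ideal.Quotient.mk_surjective y
  have hb : b ∉ p.asIdeal := fun h => nonZeroDivisors.ne_zero hy (Ideal.Quotient.eq_zero_iff_mem.2 h)
  refine ⟨a, b, hb, e.injective ?_⟩
  rw [map_mul, ← he, ← he, e.apply_symm_apply, e.apply_symm_apply, ← hxy]
  show _ / algebraMap A p.asIdeal.ResidueField b * algebraMap A p.asIdeal.ResidueField b = _
  exact div_mul_cancel₀ _ fun h => hb (Ideal.algebraMap_residueField_eq_zero.mp h)

theorem residueFieldMap_ev {A R : Type u} [CommRing A] [CommRing R] (φ : A →+* R)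
    (q : Spec (CommRingCat.of R)) (a : A) :
    (Spec.map (CommRingCat.ofHom φ)).residueFieldMap q (ev A (Spec.map (CommRingCat.ofHom φ) q) a) =
      ev R q (φ a) := by
  show (Spec.map (CommRingCat.ofHom φ)).residueFieldMap q
    ((Spec (CommRingCat.of A)).Γevaluation _ ((Scheme.ΓSpecIso (CommRingCat.of A)).inv a)) = _
  rw [Scheme.Γevaluation_naturality_apply]
  exact congrArg ((Spec (CommRingCat.of R)).Γevaluation q)
    (congrArg (fun m : CommRingCat.of A ⟶ _ => m a) (Scheme.ΓSpecIso_inv_naturality (CommRingCat.ofHom φ))).symm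

/-- Along a valuation ring map, a pointwise function varying along DVRs is given by one element. -/
theorem exists_value {A : Type u} [CommRing A] (f : PtFun (Spec (CommRingCat.of A))) (hf : f.VariesAlongDVR)
    (R : Type u) [CommRing R] [IsDomain R] [IsDiscreteValuationRing R] (φ : A →+* R) :
    ∃ r : R, ∀ q : Spec (CommRingCat.of R),
      ev R q r = (Spec.map (CommRingCat.ofHom φ)).residueFieldMap q (f (Spec.map (CommRingCat.ofHom φ) q)) := by
  obtain ⟨s, hs⟩ := hf R (Spec.map (CommRingCat.ofHom φ))
  refine ⟨(Scheme.ΓSpecIso (CommRingCat.of R)).hom s, fun q => ?_⟩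
  show (Spec (CommRingCat.of R)).Γevaluation q ((Scheme.ΓSpecIso _).inv ((Scheme.ΓSpecIso _).hom s)) = _
  rw [← ConcreteCategory.comp_apply (Scheme.ΓSpecIso (CommRingCat.of R)).hom, Iso.hom_inv_id]
  exact congrFun hs q

/-- The element of the DVR attached to `f` is the ratio `a / b` representing `f` at the generic point. -/
theorem value_eq {A : Type u} [CommRing A] (f : PtFun (Spec (CommRingCat.of A)))
    {R : Type u} [CommRing R] [IsDomain R] (φ : A →+* R) (η : Spec (CommRingCat.of A))
    (hη : η.asIdeal = RingHom.ker φ) {a b : A} (hab : f η * ev A η b = ev A η a) (r : R)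
    (hr : ∀ q : Spec (CommRingCat.of R),
      ev R q r = (Spec.map (CommRingCat.ofHom φ)).residueFieldMap q (f (Spec.map (CommRingCat.ofHom φ) q))) :
    r * φ b = φ a := by
  let q₀ : Spec (CommRingCat.of R) := ⟨⊥, Ideal.isPrime_bot⟩
  have hq : Spec.map (CommRingCat.ofHom φ) q₀ = η :=
    PrimeSpectrum.ext (hη.trans (RingHom.ker_eq_comap_bot φ)).symm
  subst hq
  have h0 : ev R q₀ (r * φ b - φ a) = 0 := by
    rw [map_sub, map_mul, hr, ← residueFieldMap_ev φ q₀ b, ← residueFieldMap_ev φ q₀ a, ← map_mul, hab,
      sub_self]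
  exact sub_eq_zero.1 ((Submodule.mem_bot R).1 ((ev_eq_zero_iff q₀ _).1 h0))

theorem isIntegral_of_mem_adjoin_inv {D K : Type u} [CommRing D] [Field K] [Algebra D K] {z : K}
    (hz : z ≠ 0) (h : z ∈ Algebra.adjoin D ({z⁻¹} : Set K)) : IsIntegral D z := by
  rw [Algebra.adjoin_singleton_eq_range_aeval, AlgHom.mem_range] at h
  obtain ⟨p, hp⟩ := h
  let n := p.natDegree
  let s : Polynomial D := ∑ i ∈ Finset.range (n + 1), Polynomial.C (p.coeff i) * Polynomial.X ^ (n - i)
  refine ⟨Polynomial.X ^ (n + 1) - s, Polynomial.monic_X_pow_sub ?_, ?_⟩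
  · refine (Polynomial.degree_sum_le _ _).trans_lt ?_
    refine (Finset.sup_lt_iff (WithBot.bot_lt_coe _)).2 fun i _ => ?_
    refine (Polynomial.degree_C_mul_X_pow_le _ _).trans_lt ?_
    exact Nat.cast_lt.2 (by omega)
  · rw [← Polynomial.aeval_def, map_sub, map_pow, Polynomial.aeval_X, map_sum]
    have e : ∑ i ∈ Finset.range (n + 1), Polynomial.aeval z (Polynomial.C (p.coeff i) * Polynomial.X ^ (n - i)) =
        z ^ n * Polynomial.aeval z⁻¹ p := by
      rw [Polynomial.aeval_eq_sum_range, Finset.mul_sum]
      refine Finset.sum_congr rfl fun i hi => ?_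
      rw [map_mul, Polynomial.aeval_C, map_pow, Polynomial.aeval_X, Algebra.smul_def, inv_pow,
        mul_left_comm, ← pow_sub₀ z hz (Nat.lt_succ_iff.1 (Finset.mem_range.1 hi))]
    rw [e, hp, pow_succ, sub_self]

/-- A nonzero prime of a Noetherian domain is centred by a discrete valuation ring of the fraction field. -/
theorem exists_dvr_centred (D : Type u) [CommRing D] [IsDomain D] [IsNoetherianRing D] (K : Type u)
    [Field K] [Algebra D K] [IsFractionRing D K] (P : Ideal D) [P.IsPrime] (hP : P ≠ ⊥) :
    ∃ W : ValuationSubring K, IsDiscreteValuationRing W ∧ (∀ d : D, algebraMap D K d ∈ W) ∧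
      (∀ d, d ∈ P ↔ W.valuation (algebraMap D K d) < 1) := by
  have hu : ∀ y : P.primeCompl, IsUnit (algebraMap D K y) := fun y =>
    isUnit_iff_ne_zero.2 fun h => y.2 (by
      rw [show (y : D) = 0 from IsFractionRing.injective D K (h.trans (map_zero _).symm)]; exact zero_mem P)
  letI : Algebra (Localization.AtPrime P) K :=
    (IsLocalization.lift (M := P.primeCompl) hu : Localization.AtPrime P →+* K).toAlgebra
  haveI : IsScalarTower D (Localization.AtPrime P) K :=
    IsScalarTower.of_algebraMap_eq fun x => (IsLocalization.lift_eq hu x).symm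
  haveI : IsFractionRing (Localization.AtPrime P) K :=
    IsFractionRing.isFractionRing_of_isDomain_of_isLocalization P.primeCompl (Localization.AtPrime P) K
  haveI : IsNoetherianRing (Localization.AtPrime P) := IsLocalization.isNoetherianRing P.primeCompl _ inferInstance
  have hmem : ∀ d ∈ P, algebraMap D (Localization.AtPrime P) d ∈ IsLocalRing.maximalIdeal (Localization.AtPrime P) := fun d hd => by
    rw [← Localization.AtPrime.map_eq_maximalIdeal]; exact Ideal.mem_map_of_mem _ hd
  have hnf : ¬ IsField (Localization.AtPrime P) := fun hF => by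
    obtain ⟨x, hx, hx0⟩ := Submodule.exists_mem_ne_zero_of_ne_bot hP
    have h := hmem x hx
    rw [(IsLocalRing.isField_iff_maximalIdeal_eq).1 hF, Ideal.mem_bot] at h
    exact hx0 (IsLocalization.injective (Localization.AtPrime P) P.primeCompl_le_nonZeroDivisors (h.trans (map_zero _).symm))
  obtain ⟨W, hdvr, hW, hlt⟩ := Groth.Agent.DVRDom.exists_dvr_dominating (Localization.AtPrime P) hnf K K ⟨∅, by rw [Finset.coe_empty, IntermediateField.adjoin_empty]; exact IntermediateField.ext fun x => iff_of_true (IntermediateField.mem_bot.2 ⟨x, rfl⟩) trivial⟩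
  have hD : ∀ d : D, algebraMap D K d ∈ W := fun d => by
    rw [IsScalarTower.algebraMap_apply D (Localization.AtPrime P) K]; exact hW _
  refine ⟨W, hdvr, hD, fun d => ⟨fun hd => ?_, fun hd => ?_⟩⟩
  · rw [IsScalarTower.algebraMap_apply D (Localization.AtPrime P) K]
    exact hlt _ (hmem d hd)
  · by_contra hdP
    obtain ⟨v, hv⟩ := (IsLocalization.map_units (Localization.AtPrime P) (⟨d, hdP⟩ : P.primeCompl)).exists_right_inv
    have h1 := congrArg (algebraMap (Localization.AtPrime P) K) hv
    rw [map_mul, map_one, ← IsScalarTower.algebraMap_apply] at h1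
    have h2 := (W.valuation_le_one_iff _).2 (hW v)
    have h3 := congrArg W.valuation h1
    rw [map_mul, map_one] at h3
    exact absurd h3 (ne_of_lt (mul_lt_one_of_lt_of_le hd h2))

end

open CategoryTheory in
open AlgebraicGeometry W4c1hilbchowinc in
set_option maxHeartbeats 1000000 in
/-- Let A be a reduced Noetherian ring, integrally closed inside its total ring of fractions
(equivalently, a finite product of integrally closed Noetherian domains). Then a pointwise function
on Spec A — one element of the residue field κ(y) for every point y — which varies algebraically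
along discrete valuation rings (for every discrete valuation ring R and every morphism Spec R → Spec
A there is an element of R whose values at the two points of Spec R are the images of the chosen
values) is the family of values of exactly one global section. Reducedness is part of the meaning of
integrally closed here; test rings range over the universe of A. -/
theorem result
    (A : Type u) [CommRing A] [IsReduced A] [IsNoetherianRing A] [IsIntegrallyClosed A]
    (f : PtFun (Spec (CommRingCat.of A))) (hf : f.VariesAlongDVR) :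
    ∃! a : Γ(Spec (CommRingCat.of A), ⊤), PtFun.ofSection (Spec (CommRingCat.of A)) a = f := by
  classical
  haveI : Finite ↥(minimalPrimes A) := (minimalPrimes.finite_of_isNoetherianRing A).to_subtype
  haveI : IsFractionRing A (Groth.Agent.RedNorm.PiFrac A) := Groth.Agent.RedNorm.isFractionRing_pi A
  let pt : ↥(minimalPrimes A) → Spec (CommRingCat.of A) := fun η => ⟨η.1, η.2.1.1⟩
  choose num den hden hnd using fun η => exists_ev_fraction (pt η) (f (pt η))
  let K : ↥(minimalPrimes A) → Type u := fun η => FractionRing (A ⧸ η.1)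
  let z : Groth.Agent.RedNorm.PiFrac A := fun η => algebraMap A (K η) (num η) / algebraMap A (K η) (den η)
  have hinj : ∀ η : ↥(minimalPrimes A), Function.Injective (algebraMap (A ⧸ η.1) (K η)) := fun η =>
    IsFractionRing.injective _ _
  have hden0 : ∀ η, algebraMap A (K η) (den η) ≠ 0 := fun η h =>
    hden η ((Groth.Agent.RedNorm.algebraMap_fractionRing_eq_zero_iff A _ η).1 h)
  -- along a DVR of the fraction field, the value is `z η`
  have key : ∀ (η : ↥(minimalPrimes A)) (W : ValuationSubring (K η)) [IsDiscreteValuationRing W]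
      (hW : ∀ a : A, algebraMap A (K η) a ∈ W), ∃ hz : z η ∈ W, ∀ q : Spec (CommRingCat.of W),
        ev W q ⟨z η, hz⟩ = (Spec.map (CommRingCat.ofHom ((algebraMap A (K η)).codRestrict W.toSubring hW))).residueFieldMap q
          (f (Spec.map (CommRingCat.ofHom ((algebraMap A (K η)).codRestrict W.toSubring hW)) q)) := by
    intro η W _ hW
    let φ : A →+* W := (algebraMap A (K η)).codRestrict W.toSubring hW
    obtain ⟨r, hr⟩ := exists_value f hf W φ
    have hker : (pt η).asIdeal = RingHom.ker φ := by
      ext a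
      rw [RingHom.mem_ker]
      refine (Groth.Agent.RedNorm.algebraMap_fractionRing_eq_zero_iff A a η).symm.trans ?_
      exact ⟨fun h => Subtype.ext h, fun h => congrArg Subtype.val h⟩
    have h := congrArg Subtype.val (value_eq f φ (pt η) hker (hnd η) r hr)
    have hrz : (r : K η) = z η := (eq_div_iff (hden0 η)).2 h
    refine ⟨hrz ▸ r.2, fun q => ?_⟩
    rw [show (⟨z η, hrz ▸ r.2⟩ : W) = r from Subtype.ext hrz.symm]
    exact hr q
  -- `z` is integral
  have hzint : IsIntegral A z := by
    rw [Groth.Agent.RedNorm.isIntegral_pi_iff]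
    intro η
    by_contra hne
    have hz0 : z η ≠ 0 := fun h => hne (h ▸ isIntegral_zero)
    let D := A ⧸ η.1
    let B : Subalgebra D (K η) := Algebra.adjoin D {(z η)⁻¹}
    let w : B := ⟨(z η)⁻¹, Algebra.subset_adjoin rfl⟩
    have hwnu : ¬ IsUnit w := fun hu => by
      obtain ⟨v, hv⟩ := hu.exists_right_inv
      have hvz : (v : K η) = z η := by
        have := congrArg Subtype.val hv
        simpa [w, inv_mul_eq_iff_eq_mul₀ hz0] using this
      exact hne (isIntegral_trans (A := D) (z η) (isIntegral_of_mem_adjoin_inv hz0 (show z η ∈ B by rw [← hvz]; exact v.2)))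
    obtain ⟨M, hM, hwM⟩ := exists_max_ideal_of_mem_nonunits hwnu
    haveI : IsNoetherianRing B := isNoetherianRing_of_fg (by
      have := Subalgebra.fg_adjoin_finset (R := D) ({(z η)⁻¹} : Finset (K η))
      rwa [Finset.coe_singleton] at this)
    haveI : FaithfulSMul B (K η) := (faithfulSMul_iff_algebraMap_injective B (K η)).2 Subtype.val_injective
    haveI : IsFractionRing B (K η) := IsFractionRing.of_field B (K η) fun x => by
      obtain ⟨a, b, -, hab⟩ := IsFractionRing.div_surjective D x
      exact ⟨algebraMap D B a, algebraMap D B b, hab.symm⟩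
    haveI := hM.isPrime
    obtain ⟨W, hdvr, hmem, hlt⟩ := exists_dvr_centred B (K η) M (fun h => hz0 (inv_eq_zero.1 (by
      rw [h, Ideal.mem_bot] at hwM
      exact congrArg Subtype.val hwM)))
    haveI := hdvr
    have hWA : ∀ a : A, algebraMap A (K η) a ∈ W := fun a => hmem (algebraMap D B (Ideal.Quotient.mk η.1 a))
    obtain ⟨hzW, -⟩ := key η W hWA
    have h1 := (hlt w).1 hwM
    have h2 : W.valuation (z η) ≤ 1 := (W.valuation_le_one_iff _).2 hzW
    have h3 : W.valuation (algebraMap B (K η) w) * W.valuation (z η) = 1 := by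
      rw [← map_mul]
      show W.valuation ((z η)⁻¹ * z η) = 1
      rw [inv_mul_cancel₀ hz0, map_one]
    exact absurd h3 (ne_of_lt (mul_lt_one_of_lt_of_le h1 h2))
  obtain ⟨a₀, ha₀⟩ := (isIntegrallyClosed_iff (Groth.Agent.RedNorm.PiFrac A)).1 ‹_› hzint
  let X := Spec (CommRingCat.of A)
  have hval : ∀ p : X, ev A p a₀ = f p := by
    intro p
    haveI : p.asIdeal.IsPrime := p.isPrime
    obtain ⟨η', hη', hle⟩ := Ideal.exists_minimalPrimes_le (bot_le (a := p.asIdeal))
    let η : ↥(minimalPrimes A) := ⟨η', hη'⟩
    have haη : algebraMap A (K η) a₀ = z η := congrFun ha₀ η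
    by_cases hp : η' = p.asIdeal
    · have hpe : p = pt η := PrimeSpectrum.ext hp.symm
      subst hpe
      refine mul_right_cancel₀ (fun h => hden η ((ev_eq_zero_iff _ _).1 h)) (?_ : _ * ev A (pt η) (den η) = _)
      rw [hnd η, ← map_mul, ← sub_eq_zero, ← map_sub, ev_eq_zero_iff]
      refine (Groth.Agent.RedNorm.algebraMap_fractionRing_eq_zero_iff A _ η).1 ?_
      show algebraMap A (K η) (a₀ * den η - num η) = 0
      rw [map_sub, map_mul, haη, sub_eq_zero]
      exact div_mul_cancel₀ _ (hden0 η)
    · let D := A ⧸ η'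
      haveI : η'.IsPrime := hη'.1.1
      haveI : p.asIdeal.IsPrime := p.isPrime
      haveI hpD : (p.asIdeal.map (Ideal.Quotient.mk η')).IsPrime :=
        Ideal.map_isPrime_of_surjective Ideal.Quotient.mk_surjective (by rw [Ideal.mk_ker]; exact hle)
      have hcomap : (p.asIdeal.map (Ideal.Quotient.mk η')).comap (Ideal.Quotient.mk η') = p.asIdeal := by
        rw [Ideal.comap_map_of_surjective _ Ideal.Quotient.mk_surjective, ← RingHom.ker_eq_comap_bot,
          Ideal.mk_ker, sup_eq_left.2 hle]
      obtain ⟨W, hdvr, hmem, hlt⟩ := exists_dvr_centred D (K η) (p.asIdeal.map (Ideal.Quotient.mk η'))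
        (fun h => hp (le_antisymm hle (by rw [← hcomap, h, ← RingHom.ker_eq_comap_bot, Ideal.mk_ker])))
      haveI := hdvr
      have hWA : ∀ a : A, algebraMap A (K η) a ∈ W := fun a => hmem (Ideal.Quotient.mk η' a)
      obtain ⟨hzW, hq⟩ := key η W hWA
      let φ : A →+* W := (algebraMap A (K η)).codRestrict W.toSubring hWA
      let q : Spec (CommRingCat.of W) := IsLocalRing.closedPoint W
      have hpq : Spec.map (CommRingCat.ofHom φ) q = p := by
        refine PrimeSpectrum.ext (Ideal.ext fun x => ?_)
        refine Iff.trans ?_ ((Iff.of_eq (congrArg (fun J : Ideal A => x ∈ J) hcomap.symm)).symm)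
        rw [Ideal.mem_comap, hlt]
        exact W.valuation_lt_one_iff _
      subst hpq
      apply ((Spec.map (CommRingCat.ofHom φ)).residueFieldMap q).hom.injective
      refine (residueFieldMap_ev φ q a₀).trans (Eq.trans ?_ (hq q))
      exact congrArg (ev W q) (Subtype.ext haη)
  refine ⟨(Scheme.ΓSpecIso (CommRingCat.of A)).inv a₀, funext hval, fun b hb => ?_⟩
  obtain ⟨c, rfl⟩ : ∃ c, (Scheme.ΓSpecIso (CommRingCat.of A)).inv c = b :=
    ⟨(Scheme.ΓSpecIso (CommRingCat.of A)).hom b, by
      rw [← ConcreteCategory.comp_apply, Iso.hom_inv_id]; rfl⟩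
  congr 1
  refine sub_eq_zero.1 (Groth.Agent.RedNorm.eq_zero_of_forall_mem fun η => (ev_eq_zero_iff (pt η) _).1 ?_)
  rw [map_sub, hval, sub_eq_zero]
  exact congrFun hb (pt η)

end Groth.Agent.S13110
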