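import Groth.Statements.S13111
import Mathlib
-- import your own Groth.Agent.* helpers here

set_option autoImplicit false
universe u
open HTop

namespace Groth.Agent.S13111

open AlgebraicGeometry W4c1hilbchowinc in
/-- Let A be a reduced Noetherian ring whose integral closure in its total ring of fractions is a finite
A-module. Suppose that any pointwise function on Spec A that is algebraic along every discrete
valuation ring (for every discrete valuation ring R and every morphism Spec R → Spec A there is an
element of R whose values at the two points of Spec R are the images of the chosen values) is the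
family of values of exactly one global section. Then A is seminormal: whenever x^3 = y^2 there is
exactly one a with x = a^2 and y = a^3. Test rings range over the universe of A. -/
theorem result
    (A : Type u) [CommRing A] [IsReduced A] [IsNoetherianRing A]
    (hfin : Module.Finite A (integralClosure A (FractionRing A)))
    (h : ∀ f : PtFun (Spec (CommRingCat.of A)), f.VariesAlongDVR →
      ∃! a : Γ(Spec (CommRingCat.of A), ⊤), PtFun.ofSection (Spec (CommRingCat.of A)) a = f) :
    HTop.IsSeminormalRing A := by
  intro x y hxy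
  let X := Spec (CommRingCat.of A)
  let ι : A ≃+* Γ(X, ⊤) := (Scheme.ΓSpecIso (CommRingCat.of A)).symm.commRingCatIsoToRingEquiv
  have hz : ∀ c : Γ(X, ⊤), (∀ p : X, X.Γevaluation p c = 0) → c = 0 := fun c hc =>
    (AlgebraicGeometry.basicOpen_eq_bot_iff c).1
      ((Scheme.basicOpen_eq_bot_iff_forall_evaluation_eq_zero X c).2 fun p => hc p.1)
  let ev : ∀ p : X, A →+* X.residueField p := fun p => (X.Γevaluation p).hom.comp ι.toRingHom
  -- the pointwise root
  classical
  let f : PtFun X := fun p => if ev p x = 0 then 0 else ev p y / ev p x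
  have hf : ∀ p, ev p x = f p ^ 2 ∧ ev p y = f p ^ 3 := fun p => by
    have e : ev p x ^ 3 = ev p y ^ 2 := by rw [← map_pow, ← map_pow, hxy]
    simp only [f]
    split_ifs with h0
    · rw [h0, zero_pow three_ne_zero] at e
      have : ev p y = 0 := eq_zero_of_pow_eq_zero e.symm
      simp [h0, this]
    · constructor
      · field_simp
        linear_combination e
      · field_simp
        linear_combination e * ev p y
  have funiq : ∀ {K : Type u} [Field K] {a b : K}, a ^ 2 = b ^ 2 → a ^ 3 = b ^ 3 → a = b := by
    intro K _ a b h2 h3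
    by_cases ha : a = 0
    · subst ha
      exact (eq_zero_of_pow_eq_zero (n := 2) (by simpa using h2.symm)).symm
    · have : a ^ 2 * a = a ^ 2 * b := by linear_combination h3 - b * h2
      exact mul_left_cancel₀ (pow_ne_zero 2 ha) this
  have hvar : f.VariesAlongDVR := by
    intro R _ _ _ g
    let Y := Spec (CommRingCat.of R)
    let κ : R ≃+* Γ(Y, ⊤) := (Scheme.ΓSpecIso (CommRingCat.of R)).symm.commRingCatIsoToRingEquiv
    let θ : A →+* R := κ.symm.toRingHom.comp (g.appTop.hom.comp ι.toRingHom)
    have e : θ x ^ 3 = θ y ^ 2 := by rw [← map_pow, ← map_pow, hxy]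
    obtain ⟨r, hr2, hr3⟩ : ∃ r : R, θ x = r ^ 2 ∧ θ y = r ^ 3 := by
      by_cases h0 : θ x = 0
      · refine ⟨0, by simp [h0], ?_⟩
        rw [h0, zero_pow three_ne_zero] at e
        simpa using eq_zero_of_pow_eq_zero e.symm
      · obtain ⟨r, hr⟩ : ∃ r, θ y = θ x * r := by
          refine (IsIntegrallyClosed.pow_dvd_pow_iff two_ne_zero).1 ?_
          exact ⟨θ x, by rw [← e]; ring⟩
        have h2 : θ x = r ^ 2 := by
          refine mul_left_cancel₀ (pow_ne_zero 2 h0) ?_
          linear_combination e + (θ y + θ x * r) * hr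
        exact ⟨r, h2, by rw [hr, h2]; ring⟩
    refine ⟨κ r, funext fun q => ?_⟩
    show Y.Γevaluation q (κ r) = g.residueFieldMap q (f (g q))
    have key : ∀ a : A, g.residueFieldMap q (ev (g q) a) = Y.Γevaluation q (κ (θ a)) := fun a => by
      show g.residueFieldMap q (X.Γevaluation (g q) (ι a)) = _
      rw [Scheme.Γevaluation_naturality_apply]
      exact congrArg (Y.Γevaluation q) (κ.apply_symm_apply _).symm
    refine funiq ?_ ?_
    · rw [← map_pow, ← map_pow, ← hr2, ← map_pow, ← (hf (g q)).1, key]
    · rw [← map_pow, ← map_pow, ← hr3, ← map_pow, ← (hf (g q)).2, key]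
  obtain ⟨a, ha, -⟩ := h f hvar
  have hev : ∀ p, ev p (ι.symm a) = f p := fun p => by
    show X.Γevaluation p (ι (ι.symm a)) = f p
    rw [ι.apply_symm_apply]
    exact congrFun ha p
  have hA : ∀ c : A, (∀ p, ev p c = 0) → c = 0 := fun c hc => ι.injective ((hz _ hc).trans (map_zero ι).symm)
  have h2 : x = ι.symm a ^ 2 := sub_eq_zero.1 (hA _ fun p => by
    rw [map_sub, map_pow, hev, (hf p).1, sub_self])
  have h3 : y = ι.symm a ^ 3 := sub_eq_zero.1 (hA _ fun p => by
    rw [map_sub, map_pow, hev, (hf p).2, sub_self])
  refine ⟨ι.symm a, ⟨h2, h3⟩, fun b hb => sub_eq_zero.1 (hA _ fun p => ?_)⟩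
  rw [map_sub, sub_eq_zero]
  exact funiq (by rw [← map_pow, ← map_pow, ← hb.1, ← h2]) (by rw [← map_pow, ← map_pow, ← hb.2, ← h3])

end Groth.Agent.S13111
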