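import Groth.Statements.S13112
import Groth.Agent.WN.Scheme
-- import your own Groth.Agent.* helpers here

set_option autoImplicit false
universe u
open HTop

namespace Groth.Agent.S13112

open CategoryTheory AlgebraicGeometry in
/-- Let k be a field, T a seminormal scheme of finite type over k, and f : X → Y a proper universally
injective k-morphism of schemes locally of finite type over k. If a morphism of schemes g : T → Y
lifts through f at every point of T, i.e. for every t the composite Spec κ(t) → T → Y factors
through f, then g itself factors through f. -/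
theorem result
    {k : Type u} [Field k] {T X Y : Scheme.{u}}
    (sT : T ⟶ Spec (CommRingCat.of k)) (sX : X ⟶ Spec (CommRingCat.of k)) (sY : Y ⟶ Spec (CommRingCat.of k))
    [LocallyOfFiniteType sT] [QuasiCompact sT] [LocallyOfFiniteType sX] [LocallyOfFiniteType sY]
    (hT : HTop.IsSeminormal T)
    (f : X ⟶ Y) (hf : f ≫ sY = sX) [IsProper f] [UniversallyInjective f]
    (g : T ⟶ Y)
    (hlift : ∀ t : T, ∃ l : Spec (T.residueField t) ⟶ X, l ≫ f = T.fromSpecResidueField t ≫ g) :
    ∃ h : T ⟶ X, h ≫ f = g := by
  open CategoryTheory.Limits in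
  open Groth.Agent.WN in
  haveI : AlgebraicGeometry.IsReduced T := isReduced_of_isSeminormal hT
  obtain ⟨P₀, ι, hP₀, -, hι, -⟩ := exists_reduction (pullback f g)
  let q := pullback.snd f g
  have hres : ResLift q := fun t => by
    obtain ⟨l, hl⟩ := hlift t
    exact ⟨pullback.lift l (T.fromSpecResidueField t) hl, pullback.lift_snd _ _ _⟩
  haveI : UniversallyInjective q := MorphismProperty.pullback_snd (P := @UniversallyInjective) _ _ ‹_›
  haveI : Surjective q := ⟨fun t => by
    obtain ⟨l, hl⟩ := hres t
    exact ⟨l (IsLocalRing.closedPoint _), by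
      rw [← Scheme.Hom.comp_apply, hl, Scheme.fromSpecResidueField_apply]⟩⟩
  have hcl : Topology.IsClosedEmbedding q :=
    .of_continuous_injective_isClosedMap q.continuous q.injective q.isClosedMap
  haveI : IsAffineHom q := isAffineHom_of_isInducing q hcl.isInducing hcl.isClosed_range
  haveI : IsIntegralHom q := IsIntegralHom.iff_universallyClosed_and_isAffineHom.mpr ⟨inferInstance, inferInstance⟩
  have hgood : GoodMor True q :=
    ⟨(isUnivHomeo_iff q).mpr ⟨inferInstance, inferInstance, inferInstance⟩,
      fun _ => residueFieldsIso_of_resLift q.injective hres⟩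
  haveI : IsIso (ι ≫ q) := isIso_of_isClosedScheme _ ((hι True).comp hgood) (isClosedScheme_true.2 hT)
  refine ⟨inv (ι ≫ q) ≫ ι ≫ pullback.fst f g, ?_⟩
  rw [Category.assoc, Category.assoc, pullback.condition, ← Category.assoc ι, IsIso.inv_hom_id_assoc]

end Groth.Agent.S13112
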