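import Groth.Statements.S13114
import Mathlib

set_option autoImplicit false
universe u
open HilbChow

namespace Groth.Agent.S13114

/-- Let k be an algebraically closed field, A a commutative local k-algebra of finite dimension n over k
and u a unit of A. Then the determinant of multiplication by u on the k-vector space A, mapped to
the residue field of A, equals the n-th power of the residue class of u. -/
theorem result
    (k A : Type u) [Field k] [IsAlgClosed k] [CommRing A] [Algebra k A] [IsLocalRing A]
    [Module.Finite k A] (u : Aˣ) :
    algebraMap k (IsLocalRing.ResidueField A) (Algebra.norm k (u : A)) =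
      IsLocalRing.residue A (u : A) ^ Module.finrank k A := by
  classical
  have hint : Algebra.IsIntegral k (IsLocalRing.ResidueField A) := by
    haveI : Module.Finite k (IsLocalRing.ResidueField A) :=
      Module.Finite.of_surjective (IsScalarTower.toAlgHom k A (IsLocalRing.ResidueField A)).toLinearMap
        IsLocalRing.residue_surjective
    exact Algebra.IsIntegral.of_finite k _
  obtain ⟨c, hc⟩ := (IsAlgClosed.algebraMap_bijective_of_isIntegral (k := k) (K := IsLocalRing.ResidueField A)).2
    (IsLocalRing.residue A (u : A))
  rw [← hc, ← map_pow]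
  congr 1
  haveI : IsArtinianRing A := IsArtinianRing.of_finite k A
  have hν : IsNilpotent ((u : A) - algebraMap k A c) := by
    obtain ⟨N, hN⟩ := IsArtinianRing.isNilpotent_jacobson_bot (R := A)
    have hmem : (u : A) - algebraMap k A c ∈ IsLocalRing.maximalIdeal A := by
      rw [← IsLocalRing.residue_eq_zero_iff, map_sub, ← hc, sub_eq_zero]
      rfl
    refine ⟨N, ?_⟩
    rw [Ideal.jacobson_bot, Ring.jacobson_eq_sInf_isMaximal] at hN
    have hle : IsLocalRing.maximalIdeal A ≤ sInf {I : Ideal A | I.IsMaximal} :=
      le_sInf fun I hI => (IsLocalRing.eq_maximalIdeal hI).ge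
    have := Ideal.pow_mem_pow (hle hmem) N
    rw [hN] at this
    exact Ideal.mem_bot.mp this
  let b := Module.finBasis k A
  have hN : IsNilpotent (-(Algebra.leftMulMatrix b ((u : A) - algebraMap k A c))) :=
    (hν.map (Algebra.leftMulMatrix b)).neg
  have hcp : (-(Algebra.leftMulMatrix b ((u : A) - algebraMap k A c))).charpoly =
      Polynomial.X ^ Module.finrank k A := by
    rw [← sub_eq_zero]
    have := (Matrix.isNilpotent_charpoly_sub_pow_of_isNilpotent hN).eq_zero
    simpa [Fintype.card_fin] using this
  have := congrArg (Polynomial.eval c) hcp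
  rw [Matrix.eval_charpoly, Polynomial.eval_pow, Polynomial.eval_X, sub_neg_eq_add, map_sub, AlgHom.commutes,
    Matrix.algebraMap_eq_diagonal] at this
  rw [Algebra.norm_eq_matrix_det b, ← this]
  congr 1
  simp [Matrix.scalar_apply, Pi.algebraMap_def]

end Groth.Agent.S13114
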