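import Groth.Statements.S13115
import Mathlib.RingTheory.MvPolynomial.Basic
import Mathlib.Algebra.MvPolynomial.Funext
import Mathlib.LinearAlgebra.Dual.Lemmas
import Mathlib.LinearAlgebra.Basis.VectorSpace
import Mathlib.Logic.Equiv.Fin.Basic

set_option autoImplicit false
universe u
open scoped TensorProduct
open HilbChow

namespace Groth.Agent.S13115

theorem exists_perm {m : ℕ} {α : Type*} [DecidableEq α] (s t : Fin m → α)
    (h : ∀ y, (Finset.univ.filter fun j => s j = y).card = (Finset.univ.filter fun j => t j = y).card) :
    ∃ σ : Equiv.Perm (Fin m), t = s ∘ σ := by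
  have hc : ∀ y, Fintype.card {j // t j = y} = Fintype.card {j // s j = y} := fun y => by
    rw [Fintype.card_subtype, Fintype.card_subtype, h]
  refine ⟨((Equiv.sigmaFiberEquiv t).symm.trans (Equiv.sigmaCongrRight fun y => Fintype.equivOfCardEq (hc y))).trans
    (Equiv.sigmaFiberEquiv s), funext fun j => ?_⟩
  exact ((Fintype.equivOfCardEq (hc (t j))) ⟨j, rfl⟩).2.symm

/-- Let k be an infinite field, V a k-vector space and m a natural number. Then every symmetric tensor
in the m-fold tensor power of V — one fixed by every permutation of the factors — is a k-linear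
combination of pure powers v ⊗ ⋯ ⊗ v with v in V. (The published statement concerns the ring of
functions of an affine scheme over an infinite field, where it gives the uniqueness of the algebra
map defining the Hilbert-to-Chow morphism for zero-cycles; this row states it for any vector space.) -/
theorem result
    (k V : Type u) [Field k] [Infinite k] [AddCommGroup V] [Module k V] (m : ℕ)
    (x : ⨂[k] _ : Fin m, V)
    (hx : ∀ σ : Equiv.Perm (Fin m), PiTensorProduct.reindex k (fun _ : Fin m => V) σ x = x) :
    x ∈ Submodule.span k (Set.range fun v : V => PiTensorProduct.tprod k (fun _ : Fin m => v)) := by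
  classical
  by_contra hxW
  obtain ⟨φ, hφx, hφ⟩ := Submodule.exists_dual_map_eq_bot_of_notMem hxW inferInstance
  have hφW : ∀ v : V, φ (PiTensorProduct.tprod k (fun _ : Fin m => v)) = 0 := fun v => by
    have := Submodule.mem_map_of_mem (f := φ)
      (show PiTensorProduct.tprod k (fun _ : Fin m => v) ∈
        Submodule.span k (Set.range fun v : V => PiTensorProduct.tprod k (fun _ : Fin m => v)) from
        Submodule.subset_span ⟨v, rfl⟩)
    rw [hφ] at this
    exact (Submodule.mem_bot k).1 this
  let b := Module.Basis.ofVectorSpace k V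
  let L : ∀ s : Fin m → _, (⨂[k] _ : Fin m, V) →ₗ[k] k := fun s =>
    PiTensorProduct.lift ((MultilinearMap.mkPiAlgebra k (Fin m) k).compLinearMap fun j => b.coord (s j))
  have hL : ∀ s v, L s (PiTensorProduct.tprod k v) = ∏ j, b.repr (v j) (s j) := fun s v => by
    simp [L]
  -- expansion on a finite set of indices
  have hexp : ∀ y : ⨂[k] _ : Fin m, V, ∃ J₀ : Finset (Module.Basis.ofVectorSpaceIndex k V), ∀ J, J₀ ⊆ J →
      y = ∑ r : Fin m → J, L (fun j => (r j : _)) y • PiTensorProduct.tprod k (fun j => b (r j : _)) := by
    intro y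
    induction y using PiTensorProduct.induction_on with
    | smul_tprod c v =>
      refine ⟨Finset.univ.biUnion fun j => (b.repr (v j)).support, fun J hJ => ?_⟩
      have hv : ∀ j, v j = ∑ i : J, b.repr (v j) i • b i := fun j => by
        conv_lhs => rw [← b.linearCombination_repr (v j), Finsupp.linearCombination_apply]
        rw [Finset.sum_coe_sort J (fun i => b.repr (v j) i • b i)]
        refine Finsupp.sum_of_support_subset _ (fun i hi => hJ (Finset.mem_biUnion.2 ⟨j, Finset.mem_univ j, hi⟩)) _
          (fun i _ => by simp)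
      conv_lhs => rw [funext hv, MultilinearMap.map_sum, Finset.smul_sum]
      refine Finset.sum_congr rfl fun r _ => ?_
      rw [MultilinearMap.map_smul_univ, map_smul, hL, smul_eq_mul, smul_smul]
    | add x y hx hy =>
      obtain ⟨J₁, h1⟩ := hx
      obtain ⟨J₂, h2⟩ := hy
      refine ⟨J₁ ∪ J₂, fun J hJ => ?_⟩
      conv_lhs => rw [h1 J (Finset.union_subset_left hJ), h2 J (Finset.union_subset_right hJ)]
      simp only [map_add, add_smul, Finset.sum_add_distrib]
  obtain ⟨J, hJ⟩ := hexp x
  have hJx := hJ J subset_rfl
  -- symmetry of the coefficients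
  have hsym : ∀ (σ : Equiv.Perm (Fin m)) (s : Fin m → Module.Basis.ofVectorSpaceIndex k V),
      L (s ∘ σ) x = L s x := by
    intro σ s
    have h1 : (L s).comp (PiTensorProduct.reindex k (fun _ : Fin m => V) σ).toLinearMap = L (s ∘ σ) := by
      refine PiTensorProduct.ext (MultilinearMap.ext fun v => ?_)
      simp only [LinearMap.compMultilinearMap_apply, LinearMap.comp_apply, LinearEquiv.coe_coe,
        PiTensorProduct.reindex_tprod, hL]
      exact Fintype.prod_equiv σ.symm _ _ fun j => by simp
    rw [← h1, LinearMap.comp_apply, LinearEquiv.coe_coe, hx σ]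
  -- the polynomial
  let F : (Fin m → J) → k := fun r => φ (PiTensorProduct.tprod k fun j => b (r j : _))
  let P : MvPolynomial J k := ∑ r : Fin m → J, MvPolynomial.monomial (∑ j, Finsupp.single (r j) 1) (F r)
  have hP : P = 0 := by
    refine MvPolynomial.funext fun t => ?_
    rw [map_zero, map_sum, ← hφW (∑ i : J, t i • b i)]
    rw [show (fun _ : Fin m => ∑ i : J, t i • b i) = fun j : Fin m => ∑ i : J, (fun (_ : Fin m) (i : J) => t i • b i) j i from rfl,
      MultilinearMap.map_sum, map_sum]
    refine Finset.sum_congr rfl fun r _ => ?_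
    rw [MultilinearMap.map_smul_univ, map_smul, smul_eq_mul, MvPolynomial.monomial_sum_index, map_mul, map_prod,
      MvPolynomial.eval_C, mul_comm]
    simp [F, MvPolynomial.eval_monomial]
  apply hφx
  rw [hJx, map_sum, ← Finset.sum_fiberwise_of_maps_to (t := Finset.univ.image fun r : Fin m → J => ∑ j, Finsupp.single (r j) 1)
    (g := fun r : Fin m → J => ∑ j, Finsupp.single (r j) 1) (fun r hr => Finset.mem_image_of_mem _ hr)]
  refine Finset.sum_eq_zero fun q hq => ?_
  obtain ⟨r₀, -, rfl⟩ := Finset.mem_image.1 hq
  have hconst : ∀ r : Fin m → J, (∑ j, Finsupp.single (r j) 1 : J →₀ ℕ) = ∑ j, Finsupp.single (r₀ j) 1 →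
      L (fun j => (r j : _)) x = L (fun j => (r₀ j : _)) x := by
    intro r hr
    obtain ⟨σ, hσ⟩ := exists_perm r₀ r fun y => by
      have := DFunLike.congr_fun hr y
      simp only [Finsupp.finsetSum_apply, Finsupp.single_apply, Finset.sum_boole, Nat.cast_id] at this
      exact this.symm
    rw [← hsym σ (fun j => (r₀ j : _)), hσ]
    rfl
  rw [Finset.sum_congr rfl fun r hr => show φ (L (fun j => (r j : _)) x • PiTensorProduct.tprod k fun j => b (r j : _)) =
      L (fun j => (r₀ j : _)) x * F r by rw [map_smul, hconst r (Finset.mem_filter.1 hr).2, smul_eq_mul], ← Finset.mul_sum]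
  have := congrArg (MvPolynomial.coeff (∑ j, Finsupp.single (r₀ j) 1)) hP
  rw [MvPolynomial.coeff_zero, MvPolynomial.coeff_sum] at this
  simp only [MvPolynomial.coeff_monomial] at this
  rw [← Finset.sum_filter] at this
  rw [this, mul_zero]

end Groth.Agent.S13115
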