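import Groth.Statements.S13116
import Mathlib.AlgebraicGeometry.Morphisms.Finite
import Mathlib.AlgebraicGeometry.Morphisms.QuasiFinite
import Groth.Agent.SemiLocPic.Basic
import Groth.Agent.PicCl.Basic
-- import your own Groth.Agent.* helpers here

set_option autoImplicit false
universe u
open HilbChow

namespace Groth.Agent.S13116

open CategoryTheory CategoryTheory.Limits AlgebraicGeometry in
/-- Let k be a field, X an integral scheme smooth over k that is a closed subscheme of a projective
space over k, R a discrete valuation ring containing k, Z a subscheme of X ×_k Spec R which is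
finite over Spec R, and L an invertible module on X. Then the pullback of L to Z along Z → X ×_k
Spec R → X is isomorphic to the structure sheaf of Z (an isomorphism exists; none is singled out). -/
theorem result
    {k : Type u} [Field k] {X : Scheme.{u}} (sX : X ⟶ Spec (CommRingCat.of k))
    [IsIntegral X] [Smooth sX] (hproj : RelProj.IsHProjective sX)
    (R : Type u) [CommRing R] [IsDomain R] [IsDiscreteValuationRing R] [Algebra k R]
    {Z : Scheme.{u}}
    (i : Z ⟶ pullback sX (Spec.map (CommRingCat.ofHom (algebraMap k R)))) [IsImmersion i]
    [IsFinite (i ≫ pullback.snd sX (Spec.map (CommRingCat.ofHom (algebraMap k R))))]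
    (L : X.Modules) (hL : PicF.IsInvertible L) :
    Nonempty ((Scheme.Modules.pullback
        (i ≫ pullback.fst sX (Spec.map (CommRingCat.ofHom (algebraMap k R))))).obj L ≅
      Coh.structureModule Z) := by
  set g := i ≫ pullback.snd sX (Spec.map (CommRingCat.ofHom (algebraMap k R))) with hg
  haveI : IsAffine Z := isAffine_of_isAffineHom g
  have hfin : (closedPoints (Z : Type u)).Finite := by
    refine (g.finite_preimage_singleton (IsLocalRing.closedPoint R)).subset fun z hz => ?_
    have hc : IsClosed ({g.base z} : Set (Spec (CommRingCat.of R))) := by
      simpa using g.isClosedMap _ (show IsClosed ({z} : Set Z) from hz)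
    exact PrimeSpectrum.ext (IsLocalRing.eq_maximalIdeal
      ((PrimeSpectrum.isClosed_singleton_iff_isMaximal _).1 hc))
  obtain ⟨e⟩ := Groth.Agent.SemiLocPic.nonempty_iso_of_finite_closedPoints hfin
    (Groth.Agent.PicCl.isInvertible_pullback _ hL)
  exact ⟨e.symm⟩

end Groth.Agent.S13116
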