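import Groth.Statements.S13117
import Mathlib.RingTheory.Spectrum.Prime.Noetherian
import Mathlib.RingTheory.Norm.Basic
import Mathlib.LinearAlgebra.Eigenspace.Zero
import Mathlib.LinearAlgebra.Matrix.Block
import Mathlib.RingTheory.KrullDimension.Zero
import Mathlib.LinearAlgebra.StdBasis
import Mathlib.FieldTheory.IsAlgClosed.Basic

set_option autoImplicit false
universe u
open HilbChow

namespace Groth.Agent.S13117

theorem norm_pi {k : Type*} [Field k] {ι : Type*} [Fintype ι] {B : ι → Type*} [∀ i, CommRing (B i)] [∀ i, Algebra k (B i)]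
    [∀ i, Module.Finite k (B i)] (x : ∀ i, B i) : Algebra.norm k x = ∏ i, Algebra.norm k (x i) := by
  classical
  let b := fun i => Module.finBasis k (B i)
  rw [Algebra.norm_eq_matrix_det (Pi.basis b)]
  have h : Algebra.leftMulMatrix (Pi.basis b) x = Matrix.blockDiagonal' fun i => Algebra.leftMulMatrix (b i) (x i) := by
    ext ⟨i, c⟩ ⟨j, a⟩
    rw [Algebra.leftMulMatrix_eq_repr_mul, Pi.basis_repr, Pi.basis_apply]
    rcases eq_or_ne i j with rfl | hij
    · rw [Matrix.blockDiagonal'_apply_eq, Algebra.leftMulMatrix_eq_repr_mul]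
      simp
    · rw [Matrix.blockDiagonal'_apply_ne _ _ _ hij]
      simp [hij]
  letI : LinearOrder ι := LinearOrder.lift' (Fintype.equivFin ι) (Fintype.equivFin ι).injective
  have htri : Matrix.BlockTriangular (Matrix.blockDiagonal' fun i => Algebra.leftMulMatrix (b i) (x i)) Sigma.fst := by
    rintro ⟨i, c⟩ ⟨j, a⟩ hlt
    exact Matrix.blockDiagonal'_apply_ne _ _ _ (ne_of_gt hlt)
  have hblock : ∀ i, ((Matrix.blockDiagonal' fun i => Algebra.leftMulMatrix (b i) (x i)).toSquareBlock Sigma.fst i).det =
      (Algebra.leftMulMatrix (b i) (x i)).det := fun i => by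
    rw [← Matrix.det_submatrix_equiv_self (Equiv.sigmaSubtype (β := fun i => Fin (Module.finrank k (B i))) i).symm]
    congr 1
    ext c a
    exact Matrix.blockDiagonal'_apply_eq (fun i => Algebra.leftMulMatrix (b i) (x i)) i c a
  rw [h]
  convert (htri.det_fintype).trans ((Finset.prod_congr rfl fun i _ => hblock i).trans
    (Finset.prod_congr rfl fun i _ => (Algebra.norm_eq_matrix_det (b i) (x i)).symm)) using 2
  congr
  exact Subsingleton.elim _ _

theorem norm_add_nilpotent {k : Type*} [Field k] {B : Type*} [CommRing B] [Algebra k B] [Module.Finite k B]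
    (c : k) {n : B} (hn : IsNilpotent n) :
    Algebra.norm k (algebraMap k B c + n) = c ^ Module.finrank k B := by
  have h := LinearMap.eval_charpoly (Algebra.lmul k B (-n)) c
  have hnil : IsNilpotent (Algebra.lmul k B (-n)) := hn.neg.map (Algebra.lmul k B)
  rw [hnil.charpoly_eq_X_pow_finrank, Polynomial.eval_pow, Polynomial.eval_X] at h
  rw [Algebra.norm_apply, h]
  congr 1
  rw [map_add, AlgHom.commutes, map_neg, sub_neg_eq_add]

/-- Let k be an algebraically closed field, A a finite-dimensional commutative k-algebra (the coordinate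
ring of a zero-dimensional subscheme Z of length dim_k A) and f ∈ A. Then the determinant of
multiplication by f on A is the product over the points x of Z — the k-algebra homomorphisms A → k —
of the value f(x) raised to the length of the local ring of Z at x, that length being the
k-dimension of the localisation of A at the corresponding maximal ideal. This is the formula by
which the Hilbert-to-Chow morphism for zero-cycles sends Z to its fundamental cycle Σ ℓ(O_{Z,x})[x]. -/
theorem result
    (k A : Type u) [Field k] [IsAlgClosed k] [CommRing A] [Algebra k A] [Module.Finite k A] (f : A) :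
    Algebra.norm k f =
      ∏ᶠ φ : A →ₐ[k] k, φ f ^ Module.finrank k (Localization.AtPrime (Ideal.comap φ ⊥)) := by
  classical
  haveI : IsArtinianRing A := IsArtinianRing.of_finite k A
  haveI : Fintype (PrimeSpectrum A) := Fintype.ofFinite _
  haveI : ∀ p : PrimeSpectrum A, Module.Finite k (Localization.AtPrime p.asIdeal) := fun p =>
    Module.Finite.of_surjective (Algebra.algHom k A (Localization.AtPrime p.asIdeal)).toLinearMap
      (IsArtinianRing.localization_surjective p.asIdeal.primeCompl (Localization.AtPrime p.asIdeal))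
  rw [← Algebra.norm_eq_of_algEquiv ((PrimeSpectrum.toPiLocalizationEquiv A).restrictScalars k) f, norm_pi]
  have hres : ∀ p : PrimeSpectrum A, ∃ φ : A →ₐ[k] k, Ideal.comap φ ⊥ = p.asIdeal := by
    intro p
    let e := AlgEquiv.ofBijective (Algebra.ofId k (A ⧸ p.asIdeal)) IsAlgClosed.algebraMap_bijective_of_isIntegral
    refine ⟨e.symm.toAlgHom.comp (Ideal.Quotient.mkₐ k p.asIdeal), ?_⟩
    ext a
    rw [Ideal.mem_comap, Ideal.mem_bot, AlgHom.comp_apply]
    exact (map_eq_zero_iff e.symm e.symm.injective).trans Ideal.Quotient.eq_zero_iff_mem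
  choose φ hφ using hres
  let P : (A →ₐ[k] k) → PrimeSpectrum A := fun ψ => ⟨Ideal.comap ψ ⊥, Ideal.IsPrime.comap ψ (hK := Ideal.isPrime_bot)⟩
  have hP : ∀ ψ, φ (P ψ) = ψ := fun ψ => by
    refine AlgHom.ext fun a => ?_
    have h1 : a - algebraMap k A (ψ a) ∈ Ideal.comap ψ (⊥ : Ideal k) := by simp
    have h2 : a - algebraMap k A (ψ a) ∈ Ideal.comap (φ (P ψ)) (⊥ : Ideal k) := by rw [hφ (P ψ)]; exact h1
    rw [Ideal.mem_comap, Ideal.mem_bot, map_sub, AlgHom.commutes, sub_eq_zero] at h2
    exact h2
  let E : PrimeSpectrum A ≃ (A →ₐ[k] k) := ⟨φ, P, fun p => PrimeSpectrum.ext (hφ p), hP⟩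
  haveI : Fintype (A →ₐ[k] k) := Fintype.ofEquiv _ E
  rw [finprod_eq_prod_of_fintype]
  refine Fintype.prod_equiv E _ _ fun p => ?_
  set c := φ p f with hc
  have hmem : f - algebraMap k A c ∈ p.asIdeal := by
    rw [← hφ p, Ideal.mem_comap, Ideal.mem_bot, map_sub, AlgHom.commutes, hc]
    exact sub_self _
  have hn : IsNilpotent (algebraMap A (Localization.AtPrime p.asIdeal) (f - algebraMap k A c)) := by
    rw [Ring.KrullDimLE.isNilpotent_iff_mem_maximalIdeal,
      IsLocalization.AtPrime.to_map_mem_maximal_iff (Localization.AtPrime p.asIdeal) p.asIdeal]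
    exact hmem
  have h : algebraMap k (Localization.AtPrime p.asIdeal) c + algebraMap A _ (f - algebraMap k A c) =
      algebraMap A (Localization.AtPrime p.asIdeal) f := by
    rw [IsScalarTower.algebraMap_apply k A (Localization.AtPrime p.asIdeal), ← map_add, add_sub_cancel]
  change Algebra.norm k (algebraMap A (Localization.AtPrime p.asIdeal) f) = _
  rw [← h, norm_add_nilpotent c hn]
  change _ = φ p f ^ _
  congr 1
  have key : ∀ (I J : Ideal A) [I.IsPrime] [J.IsPrime], I = J →
      Module.finrank k (Localization.AtPrime I) = Module.finrank k (Localization.AtPrime J) := by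
    intro I J _ _ h
    subst h
    rfl
  exact key _ _ (hφ p).symm

end Groth.Agent.S13117
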