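import Groth.Statements.S13118
import Groth.Agent.DetInv.Frame

set_option autoImplicit false
universe u
open scoped TensorProduct
open HilbChow

namespace Groth.Agent.S13118

open Groth.Agent.DetInv.Frame

variable {A B : Type u} [CommRing A] [CommRing B] [Algebra A B] (n : ℕ)

/-- `∧ⁿ` of multiplication by `g`. -/
noncomputable def mu {M : Type u} [AddCommGroup M] [Module B M] [Module A M] [IsScalarTower A B M]
    (g : M) : (⋀[A]^n B) →ₗ[A] (⋀[A]^n M) :=
  exteriorPower.map n ((LinearMap.toSpanSingleton B M g).restrictScalars A)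

/-- `∧ⁿ` of a functional. -/
noncomputable def nu {M : Type u} [AddCommGroup M] [Module B M] [Module A M] [IsScalarTower A B M]
    (ψ : M →ₗ[B] B) : (⋀[A]^n M) →ₗ[A] (⋀[A]^n B) :=
  exteriorPower.map n (ψ.restrictScalars A)

theorem mu_mul {M : Type u} [AddCommGroup M] [Module B M] [Module A M] [IsScalarTower A B M]
    (u : B) (g : M) : (mu n (u • g) : (⋀[A]^n B) →ₗ[A] _) = mu n g ∘ₗ mu n u := by
  rw [mu, mu, mu, ← exteriorPower.map_comp]
  congr 1
  ext b
  simp [smul_smul]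

theorem map_smul_id {M : Type u} [AddCommGroup M] [Module A M] (r : A) :
    exteriorPower.map n (r • (LinearMap.id : M →ₗ[A] M)) = r ^ n • LinearMap.id := by
  refine exteriorPower.linearMap_ext (AlternatingMap.ext fun v => ?_)
  simp only [LinearMap.compAlternatingMap_apply, exteriorPower.map_apply_ιMulti, LinearMap.smul_apply,
    LinearMap.id_apply]
  rw [show (⇑(r • (LinearMap.id : M →ₗ[A] M)) ∘ v) = fun i => r • v i from rfl,
    AlternatingMap.map_smul_univ, Finset.prod_const, Finset.card_univ, Fintype.card_fin]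

theorem mu_smul {M : Type u} [AddCommGroup M] [Module B M] [Module A M] [IsScalarTower A B M]
    (r : A) (g : M) : (mu n (r • g) : (⋀[A]^n B) →ₗ[A] _) = r ^ n • mu n g := by
  rw [mu, mu, show (LinearMap.toSpanSingleton B M (r • g)).restrictScalars A
      = (LinearMap.toSpanSingleton B M g).restrictScalars A ∘ₗ (r • LinearMap.id) from by
    ext b; simp [smul_comm b r g], exteriorPower.map_comp, map_smul_id,
    LinearMap.comp_smul, LinearMap.comp_id]

theorem mu_nu {M : Type u} [AddCommGroup M] [Module B M] [Module A M] [IsScalarTower A B M]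
    {g : M} {ψ : M →ₗ[B] B} {r : A} (hg : ψ g = algebraMap A B r)
    (hψ : ∀ x, ψ x • g = algebraMap A B r • x) :
    mu n g ∘ₗ nu n ψ = r ^ n • (LinearMap.id : (⋀[A]^n M) →ₗ[A] _) ∧
      nu n ψ ∘ₗ mu n g = r ^ n • (LinearMap.id : (⋀[A]^n B) →ₗ[A] _) := by
  constructor <;> rw [mu, nu, ← exteriorPower.map_comp, ← map_smul_id] <;> congr 1
  · ext x
    simp [hψ]
  · ext b
    simp [hg, Algebra.smul_def, mul_comm]


set_option maxHeartbeats 1600000 in
/-- Let A → B be a ring homomorphism making B a finite locally free A-module of constant rank n, and let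
M₁, M₂ be locally free B-modules of rank 1. Then, as A-modules, ∧ⁿ_A B ⊗_A ∧ⁿ_A(M₁ ⊗_B M₂) ≅ ∧ⁿ_A M₁
⊗_A ∧ⁿ_A M₂. (The published statement gives a specific, canonical isomorphism and covers any finite
family M₁, …, M_r, with the (r−1)-st tensor power of ∧ⁿ_A B; this row asserts only that an
isomorphism exists, for two modules, the case from which the general one follows by induction.)
Locally free of rank r is expressed as finitely generated projective with all localisations at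
primes of rank r. -/
theorem result
    (A B : Type u) [CommRing A] [CommRing B] [Algebra A B] [Module.Finite A B] [Module.Projective A B]
    (n : ℕ) (hn : ∀ q : PrimeSpectrum A, Module.finrank (Localization.AtPrime q.asIdeal) (LocalizedModule q.asIdeal.primeCompl B) = n)
    (M₁ M₂ : Type u) [AddCommGroup M₁] [Module B M₁] [Module A M₁] [IsScalarTower A B M₁]
    [AddCommGroup M₂] [Module B M₂] [Module A M₂] [IsScalarTower A B M₂]
    [Module.Finite B M₁] [Module.Projective B M₁] [Module.Finite B M₂] [Module.Projective B M₂]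
    (h₁ : ∀ q : PrimeSpectrum B, Module.finrank (Localization.AtPrime q.asIdeal) (LocalizedModule q.asIdeal.primeCompl M₁) = 1)
    (h₂ : ∀ q : PrimeSpectrum B, Module.finrank (Localization.AtPrime q.asIdeal) (LocalizedModule q.asIdeal.primeCompl M₂) = 1) :
    Nonempty ((⋀[A]^n B) ⊗[A] (⋀[A]^n (M₁ ⊗[B] M₂)) ≃ₗ[A] (⋀[A]^n M₁) ⊗[A] (⋀[A]^n M₂)) := by
  have hL : LocCyclic A (⋀[A]^n B) := locCyclic_exteriorPower n hn
  let L := ⋀[A]^n B
  let S : Set ((L ⊗[A] (⋀[A]^n (M₁ ⊗[B] M₂))) × ((⋀[A]^n M₁) ⊗[A] (⋀[A]^n M₂))) :=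
    {p | ∃ (g : M₁) (h : M₂) (x y : L), p = (x ⊗ₜ[A] mu n (g ⊗ₜ[B] h) y, mu n g x ⊗ₜ[A] mu n h y)}
  let Γ := Submodule.span A S
  -- the local data
  have key : ∀ q : PrimeSpectrum A, ∃ (t : A), t ∉ q.asIdeal ∧
      ∃ (F₁ : L ⊗[A] L →ₗ[A] L ⊗[A] (⋀[A]^n (M₁ ⊗[B] M₂))) (G₁ : L ⊗[A] (⋀[A]^n (M₁ ⊗[B] M₂)) →ₗ[A] L ⊗[A] L)
        (F₂ : L ⊗[A] L →ₗ[A] (⋀[A]^n M₁) ⊗[A] (⋀[A]^n M₂)) (G₂ : (⋀[A]^n M₁) ⊗[A] (⋀[A]^n M₂) →ₗ[A] L ⊗[A] L),
        (∀ z, G₁ (F₁ z) = t • z) ∧ (∀ z, F₁ (G₁ z) = t • z) ∧ (∀ z, G₂ (F₂ z) = t • z) ∧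
        (∀ z, F₂ (G₂ z) = t • z) ∧ (∀ z, (F₁ z, F₂ z) ∈ Γ) ∧
        ∀ γ ∈ Γ, ∃ z, t • γ = (F₁ z, F₂ z) := by
    intro q
    obtain ⟨g₁, ψ₁, r₁, hr₁, hg₁, hψ₁⟩ := exists_section h₁ q
    obtain ⟨g₂, ψ₂, r₂, hr₂, hg₂, hψ₂⟩ := exists_section h₂ q
    let ψ₁₂ : M₁ ⊗[B] M₂ →ₗ[B] B := (TensorProduct.lid B B).toLinearMap ∘ₗ TensorProduct.map ψ₁ ψ₂
    have hg₁₂ : ψ₁₂ (g₁ ⊗ₜ[B] g₂) = algebraMap A B (r₁ * r₂) := by
      simp [ψ₁₂, hg₁, hg₂, map_mul]
    have hψ₁₂ : ∀ x, ψ₁₂ x • (g₁ ⊗ₜ[B] g₂) = algebraMap A B (r₁ * r₂) • x := by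
      intro x
      induction x using TensorProduct.induction_on with
      | zero => simp
      | add x y hx hy => rw [map_add, add_smul, hx, hy, smul_add]
      | tmul x y =>
        show (ψ₁ x • ψ₂ y) • (g₁ ⊗ₜ[B] g₂) = _
        rw [smul_eq_mul, ← TensorProduct.smul_tmul_smul, hψ₁, hψ₂, TensorProduct.smul_tmul_smul, map_mul]
    obtain ⟨ha, ha'⟩ := mu_nu n hg₁ hψ₁
    obtain ⟨hb, hb'⟩ := mu_nu n hg₂ hψ₂
    obtain ⟨hc, hc'⟩ := mu_nu n hg₁₂ hψ₁₂
    refine ⟨(r₁ * r₂) ^ n, fun hm => ?_, LinearMap.lTensor L (mu n (g₁ ⊗ₜ[B] g₂)),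
      LinearMap.lTensor L (nu n ψ₁₂), TensorProduct.map (mu n g₁) (mu n g₂),
      TensorProduct.map (nu n ψ₁) (nu n ψ₂), fun z => ?_, fun z => ?_, fun z => ?_, fun z => ?_,
      fun z => ?_, fun γ hγ => ?_⟩
    · exact (q.2.mul_notMem hr₁ hr₂) (q.2.mem_of_pow_mem n hm)
    · rw [← LinearMap.lTensor_comp_apply, hc', LinearMap.lTensor_smul, LinearMap.lTensor_id]; rfl
    · rw [← LinearMap.lTensor_comp_apply, hc, LinearMap.lTensor_smul, LinearMap.lTensor_id]; rfl
    · rw [← LinearMap.comp_apply, ← TensorProduct.map_comp, ha', hb', TensorProduct.map_smul_left,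
        TensorProduct.map_smul_right, smul_smul, TensorProduct.map_id, ← mul_pow]
      rfl
    · rw [← LinearMap.comp_apply, ← TensorProduct.map_comp, ha, hb, TensorProduct.map_smul_left,
        TensorProduct.map_smul_right, smul_smul, TensorProduct.map_id, ← mul_pow]
      rfl
    · induction z using TensorProduct.induction_on with
      | zero => simp only [map_zero]; exact zero_mem Γ
      | add x y hx hy => simp only [map_add]; exact add_mem hx hy
      | tmul x y => exact Submodule.subset_span ⟨g₁, g₂, x, y, rfl⟩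
    · induction hγ using Submodule.span_induction with
      | mem γ hγ =>
        obtain ⟨g, h, x, y, rfl⟩ := hγ
        refine ⟨mu n (ψ₁ g) x ⊗ₜ[A] mu n (ψ₂ h) y, Prod.ext ?_ ?_⟩
        · show (r₁ * r₂) ^ n • (x ⊗ₜ[A] mu n (g ⊗ₜ[B] h) y)
            = mu n (ψ₁ g) x ⊗ₜ[A] mu n (g₁ ⊗ₜ[B] g₂) (mu n (ψ₂ h) y)
          have h12 : (r₁ * r₂) • (g ⊗ₜ[B] h) = ψ₁ g • ψ₂ h • (g₁ ⊗ₜ[B] g₂) := by
            rw [smul_smul, ← TensorProduct.smul_tmul_smul, hψ₁, hψ₂, TensorProduct.smul_tmul_smul,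
              ← map_mul, algebraMap_smul]
          rw [← TensorProduct.tmul_smul, ← LinearMap.smul_apply, ← mu_smul, h12, smul_smul, mu_mul,
            LinearMap.comp_apply, show ψ₁ g * ψ₂ h = ψ₂ h • ψ₁ g from mul_comm _ _, mu_mul, LinearMap.comp_apply]
          let e : (⋀[A]^n B) →ₗ[A] ⋀[A]^n B := mu n (ψ₁ g)
          have hcomm : ∀ z, x ⊗ₜ[A] e z = e x ⊗ₜ[A] z := fun z => (tmul_endo_comm hL e x z).symm
          have hmap := congrArg (LinearMap.lTensor L (mu n (g₁ ⊗ₜ[B] g₂))) (hcomm (mu n (ψ₂ h) y))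
          rw [LinearMap.lTensor_tmul, LinearMap.lTensor_tmul] at hmap
          exact hmap
        · show (r₁ * r₂) ^ n • (mu n g x ⊗ₜ[A] mu n h y)
            = mu n g₁ (mu n (ψ₁ g) x) ⊗ₜ[A] mu n g₂ (mu n (ψ₂ h) y)
          rw [← LinearMap.comp_apply, ← mu_mul, ← LinearMap.comp_apply, ← mu_mul, hψ₁, hψ₂,
            algebraMap_smul, algebraMap_smul, mu_smul, mu_smul, LinearMap.smul_apply, LinearMap.smul_apply,
            TensorProduct.smul_tmul_smul, mul_pow]
      | zero => exact ⟨0, by rw [smul_zero, map_zero, map_zero]; rfl⟩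
      | add x y _ _ hx hy =>
        obtain ⟨z, hz⟩ := hx
        obtain ⟨w, hw⟩ := hy
        exact ⟨z + w, by rw [smul_add, hz, hw, map_add, map_add]; rfl⟩
      | smul c x _ hx =>
        obtain ⟨z, hz⟩ := hx
        exact ⟨c • z, by rw [smul_comm, hz, map_smul, map_smul]; rfl⟩
  let π₁ := (LinearMap.fst A _ _).comp Γ.subtype
  let π₂ := (LinearMap.snd A _ _).comp Γ.subtype
  have inj₁ : Function.Injective π₁ := by
    suffices hz0 : ∀ γ ∈ Γ, γ.1 = 0 → γ = 0 from fun x y hxy =>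
      Subtype.ext (by
        have e1 : (x.1 + (-1 : A) • y.1).1 = 0 := by
          show x.1.1 + (-1 : A) • y.1.1 = 0
          rw [show x.1.1 = y.1.1 from hxy]
          nth_rw 1 [← one_smul A y.1.1]
          rw [← add_smul, add_neg_cancel, zero_smul]
        have e2 := hz0 _ (Γ.add_mem x.2 (Γ.smul_mem _ y.2)) e1
        calc x.1 = x.1 + ((-1 : A) + 1) • y.1 := by rw [neg_add_cancel, zero_smul, add_zero]
          _ = y.1 := by rw [add_smul, one_smul, ← add_assoc, e2, zero_add])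
    intro γ hγ h0
    refine Prod.ext h0 (eq_zero_of_forall_exists_smul_eq_zero (A := A) γ.2 fun q => ?_)
    obtain ⟨t, ht, F₁, G₁, F₂, G₂, hGF₁, -, -, -, -, hz⟩ := key q
    obtain ⟨z, hz⟩ := hz γ hγ
    refine ⟨t * t, q.2.mul_notMem ht ht, ?_⟩
    have h1 : F₁ z = 0 := (congrArg Prod.fst hz).symm.trans (by rw [Prod.smul_fst, show γ.1 = 0 from h0, smul_zero])
    have h2 : t • z = 0 := by rw [← hGF₁, h1, map_zero]
    rw [mul_smul, show t • γ.2 = F₂ z from congrArg Prod.snd hz, ← map_smul, h2, map_zero]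
  have inj₂ : Function.Injective π₂ := by
    suffices hz0 : ∀ γ ∈ Γ, γ.2 = 0 → γ = 0 from fun x y hxy =>
      Subtype.ext (by
        have e1 : (x.1 + (-1 : A) • y.1).2 = 0 := by
          show x.1.2 + (-1 : A) • y.1.2 = 0
          rw [show x.1.2 = y.1.2 from hxy]
          nth_rw 1 [← one_smul A y.1.2]
          rw [← add_smul, add_neg_cancel, zero_smul]
        have e2 := hz0 _ (Γ.add_mem x.2 (Γ.smul_mem _ y.2)) e1
        calc x.1 = x.1 + ((-1 : A) + 1) • y.1 := by rw [neg_add_cancel, zero_smul, add_zero]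
          _ = y.1 := by rw [add_smul, one_smul, ← add_assoc, e2, zero_add])
    intro γ hγ h0
    refine Prod.ext (eq_zero_of_forall_exists_smul_eq_zero (A := A) γ.1 fun q => ?_) h0
    obtain ⟨t, ht, F₁, G₁, F₂, G₂, -, -, hGF₂, -, -, hz⟩ := key q
    obtain ⟨z, hz⟩ := hz γ hγ
    refine ⟨t * t, q.2.mul_notMem ht ht, ?_⟩
    have h1 : F₂ z = 0 := (congrArg Prod.snd hz).symm.trans (by rw [Prod.smul_snd, show γ.2 = 0 from h0, smul_zero])
    have h2 : t • z = 0 := by rw [← hGF₂, h1, map_zero]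
    rw [mul_smul, show t • γ.1 = F₁ z from congrArg Prod.fst hz, ← map_smul, h2, map_zero]
  have surj₁ : Function.Surjective π₁ := fun w =>
    LinearMap.mem_range.1 (mem_of_forall_exists_smul_mem (LinearMap.range π₁) w fun q => by
      obtain ⟨t, ht, F₁, G₁, F₂, G₂, -, hFG, -, -, hmem, -⟩ := key q
      exact ⟨t, ht, ⟨⟨_, hmem (G₁ w)⟩, hFG w⟩⟩)
  have surj₂ : Function.Surjective π₂ := fun w =>
    LinearMap.mem_range.1 (mem_of_forall_exists_smul_mem (LinearMap.range π₂) w fun q => by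
      obtain ⟨t, ht, F₁, G₁, F₂, G₂, -, -, -, hFG, hmem, -⟩ := key q
      exact ⟨t, ht, ⟨⟨_, hmem (G₂ w)⟩, hFG w⟩⟩)
  exact ⟨(LinearEquiv.ofBijective π₁ ⟨inj₁, surj₁⟩).symm ≪≫ₗ LinearEquiv.ofBijective π₂ ⟨inj₂, surj₂⟩⟩

end Groth.Agent.S13118
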