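import Groth.Statements.S13119
import Groth.Agent.DetInv.Top
import Mathlib.LinearAlgebra.Matrix.Block
import Mathlib.LinearAlgebra.PiTensorProduct.Basic

set_option autoImplicit false
universe u
open scoped TensorProduct
open HilbChow

namespace Groth.Agent.S13119

open Groth.Agent.DetInv

variable {A B : Type u} [CommRing A] [CommRing B] [Algebra A B] {n k : ℕ}

/-- The block diagonal matrix of coordinates, indexed by pairs. -/
def diagMat (δ : B →ₗ[A] (Fin n → A)) (v : Fin k → Fin n → B) :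
    Matrix (Fin k × Fin n) (Fin k × Fin n) A :=
  Matrix.of fun p p' => if p.1 = p'.1 then δ (v p.1 p.2) p'.2 else 0

theorem det_diagMat (δ : B →ₗ[A] (Fin n → A)) (v : Fin k → Fin n → B) :
    (diagMat δ v).det = ∏ a, (Matrix.of fun i => δ (v a i)).det := by
  have h : diagMat δ v = (Matrix.blockDiagonal fun a => Matrix.of fun i => δ (v a i)).submatrix
      (Equiv.prodComm (Fin k) (Fin n)) (Equiv.prodComm (Fin k) (Fin n)) := by
    ext ⟨a, i⟩ ⟨b, j⟩
    simp [diagMat, Matrix.blockDiagonal_apply]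
  rw [h, Matrix.det_submatrix_equiv_self, Matrix.det_blockDiagonal]

/-- The comparison of the two determinant functionals. -/
theorem det_key (ε : (Fin n → A) →ₗ[A] B) (δ : B →ₗ[A] (Fin n → A)) (r : A)
    (hεδ : ∀ x, ε (δ x) = r • x) (hδε : ∀ w, δ (ε w) = r • w) (v : Fin (k + 1) → Fin n → B)
    (U : Matrix (Fin (k + 1)) (Fin (k + 1)) B) :
    ∃ N : ℕ,
      r ^ N * (r ^ (n * (k + 1)) * r ^ n) *
          (Matrix.of fun x y : Fin (k + 1) × Fin n => δ (v x.1 x.2 * U x.1 y.1) y.2).det
        = r ^ N * (r ^ (n * (k + 1)) * r ^ n) *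
          ((∏ a : Fin k, (Matrix.of fun i => δ (v a.castSucc i)).det) *
            (Matrix.of fun i => δ (v (Fin.last k) i * U.det)).det) := by
  obtain ⟨N, hN⟩ := Top.det_comp_eq ε δ r hεδ hδε U.transpose
  rw [Matrix.det_transpose] at hN
  refine ⟨N, ?_⟩
  have hK : r • (Matrix.of fun x y : Fin (k + 1) × Fin n => δ (v x.1 x.2 * U x.1 y.1) y.2)
      = diagMat δ v * ((U.transpose.map (Top.mulMat ε δ)).comp (Fin (k + 1)) (Fin (k + 1)) (Fin n) (Fin n) A).transpose := by
    ext ⟨a, i⟩ ⟨b, j⟩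
    have h := congrFun (Top.mulMat_mulVec ε δ r hεδ (U a b) (v a i)) j
    rw [mul_comm (U a b)] at h
    simp only [Matrix.smul_apply, Matrix.of_apply, Matrix.mul_apply, Fintype.sum_prod_type, diagMat,
      Matrix.transpose_apply, Matrix.comp_apply, Matrix.map_apply, ite_mul, zero_mul]
    refine h.symm.trans ?_
    rw [Finset.sum_comm]
    simp only [Finset.sum_ite_eq, Finset.mem_univ, if_true, Matrix.mulVec, dotProduct]
    exact Finset.sum_congr rfl fun l _ => mul_comm _ _
  have h1 := congrArg Matrix.det hK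
  rw [Matrix.det_smul, Matrix.det_mul, Matrix.det_transpose, det_diagMat, Fintype.card_prod,
    Fintype.card_fin, Fintype.card_fin, Fin.prod_univ_castSucc, mul_comm (k + 1) n] at h1
  have hW : r • (Matrix.of fun i => δ (v (Fin.last k) i * U.det))
      = (Matrix.of fun i => δ (v (Fin.last k) i)) * (Top.mulMat ε δ U.det).transpose := by
    ext i j
    have h := congrFun (Top.mulMat_mulVec ε δ r hεδ U.det (v (Fin.last k) i)) j
    rw [mul_comm U.det] at h
    simp only [Matrix.smul_apply, Matrix.of_apply, Matrix.mul_apply, Matrix.transpose_apply]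
    refine h.symm.trans ?_
    simp only [Matrix.mulVec, dotProduct]
    exact Finset.sum_congr rfl fun l _ => mul_comm _ _
  have h2 := congrArg Matrix.det hW
  rw [Matrix.det_smul, Matrix.det_mul, Matrix.det_transpose, Fintype.card_fin] at h2
  linear_combination (r ^ N * r ^ n) * h1
    - (r ^ N * r ^ (n * (k + 1)) * ∏ a : Fin k, (Matrix.of fun i => δ (v a.castSucc i)).det) * h2
    - ((∏ a : Fin k, (Matrix.of fun i => δ (v a.castSucc i)).det) * (Matrix.of fun i => δ (v (Fin.last k) i)).det) * hN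


set_option maxHeartbeats 1600000 in
/-- Let A → B be a ring homomorphism making B a finite locally free A-module of constant rank n, and
take a B-module M that is locally free of rank k, with k at least 1. Then, as A-modules, ∧^{nk}_A M
≅ (∧ⁿ_A B)^{⊗(k−1)} ⊗_A ∧ⁿ_A(∧^k_B M). (The published statement gives a specific, canonical
isomorphism, allows k = 0 with the exponent k − 1 read in the Picard group, and has a companion
formula for duals; this row asserts only that an isomorphism exists, for k ≥ 1, since with a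
natural-number exponent k = 0 would change the meaning, and omits the dual formula.) Locally free of
rank r is expressed as finitely generated projective with all localisations at primes of rank r. -/
theorem result
    (A B : Type u) [CommRing A] [CommRing B] [Algebra A B] [Module.Finite A B] [Module.Projective A B]
    (n : ℕ) (hn : ∀ q : PrimeSpectrum A, Module.finrank (Localization.AtPrime q.asIdeal) (LocalizedModule q.asIdeal.primeCompl B) = n)
    (M : Type u) [AddCommGroup M] [Module B M] [Module A M] [IsScalarTower A B M]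
    [Module.Finite B M] [Module.Projective B M] (k : ℕ) (hk : 1 ≤ k)
    (hM : ∀ q : PrimeSpectrum B, Module.finrank (Localization.AtPrime q.asIdeal) (LocalizedModule q.asIdeal.primeCompl M) = k) :
    Nonempty ((⋀[A]^(n * k) M) ≃ₗ[A]
      (TensorPower A (k - 1) (⋀[A]^n B)) ⊗[A] (⋀[A]^n (⋀[B]^k M))) := by
  classical
  obtain ⟨k, rfl⟩ : ∃ k', k = k' + 1 := ⟨k - 1, by omega⟩
  let e : Fin (n * (k + 1)) ≃ Fin (k + 1) × Fin n :=
    (finCongr (mul_comm n (k + 1))).trans finProdFinEquiv.symm
  let P₁ := ⋀[A]^(n * (k + 1)) M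
  let P₂ := (TensorPower A k (⋀[A]^n B)) ⊗[A] (⋀[A]^n (⋀[B]^(k + 1) M))
  let ω : (Fin (k + 1) → M) → ⋀[B]^(k + 1) M := fun g => exteriorPower.ιMulti B (k + 1) g
  let pr : (Fin (k + 1) → M) → (Fin (k + 1) → Fin n → B) → P₁ × P₂ := fun g v =>
    (exteriorPower.ιMulti A (n * (k + 1)) fun x => v (e x).1 (e x).2 • g (e x).1,
      PiTensorProduct.tprod A (fun a : Fin k => exteriorPower.ιMulti A n (v a.castSucc)) ⊗ₜ[A]
        exteriorPower.ιMulti A n fun i => v (Fin.last k) i • ω g)
  let Γ : Submodule A (P₁ × P₂) :=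
    Submodule.span A (Set.range fun p : (Fin (k + 1) → M) × (Fin (k + 1) → Fin n → B) => pr p.1 p.2)
  have key : ∀ q : PrimeSpectrum A, ∃ (R : A) (γ₀ : P₁ × P₂) (D₁ : P₁ →ₗ[A] A) (D₂ : P₂ →ₗ[A] A),
      R ∉ q.asIdeal ∧ γ₀ ∈ Γ ∧ (∀ ξ, R • ξ = D₁ ξ • γ₀.1) ∧ (∀ η, R • η = D₂ η • γ₀.2) ∧
      D₁ γ₀.1 = R ∧ D₂ γ₀.2 = R ∧ ∀ γ ∈ Γ, ∃ (t c : A), t ∉ q.asIdeal ∧ t • γ = c • γ₀ := by
    intro q
    obtain ⟨ε, δ, r, hr, hεδ, hδε⟩ := Top.exists_iso (A := A) (B := A) (M := B) n hn q
    simp only [Algebra.algebraMap_self, RingHom.id_apply] at hεδ hδε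
    obtain ⟨Φ, Ψ, r', hr', hΦΨ, hΨΦ⟩ := Top.exists_iso (A := A) (k + 1) hM q
    simp only [algebraMap_smul] at hΦΨ hΨΦ
    let C₁ : M →ₗ[A] (Fin (n * (k + 1)) → A) := LinearMap.pi fun y =>
      LinearMap.proj (e y).2 ∘ₗ δ ∘ₗ LinearMap.proj (e y).1 ∘ₗ Ψ.restrictScalars A
    let P : (Fin (n * (k + 1)) → A) →ₗ[A] M :=
      Φ.restrictScalars A ∘ₗ LinearMap.pi fun a => ε ∘ₗ LinearMap.funLeft A A fun i => e.symm (a, i)
    have hPC : ∀ x, P (C₁ x) = (r * r') • x := fun x => by
      have h : (fun a => ε (fun i => C₁ x (e.symm (a, i)))) = r • Ψ x := funext fun a => by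
        rw [Pi.smul_apply, ← hεδ]
        congr 1
        funext i
        simp [C₁]
      show Φ (fun a => ε (fun i => C₁ x (e.symm (a, i)))) = _
      rw [h, LinearMap.map_smul_of_tower, hΦΨ, smul_smul]
    have hCP : ∀ w, C₁ (P w) = (r * r') • w := fun w => funext fun y => by
      show δ (Ψ (Φ (fun a => ε (fun i => w (e.symm (a, i))))) (e y).1) (e y).2 = _
      rw [hΨΦ, Pi.smul_apply, map_smul, hδε, smul_smul, mul_comm r']
      simp
    let C₃ : ⋀[B]^(k + 1) M →ₗ[A] (Fin n → A) := δ ∘ₗ (Top.topForm Ψ).restrictScalars A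
    let ω₀ := ω fun a => Φ (Pi.single a 1)
    let P₃ : (Fin n → A) →ₗ[A] ⋀[B]^(k + 1) M :=
      (LinearMap.toSpanSingleton B _ ω₀).restrictScalars A ∘ₗ ε
    have htop := Top.smul_eq_topForm_smul Φ Ψ (algebraMap A B r') (fun x => by rw [hΦΨ, algebraMap_smul])
    have hω₀ : Top.topForm Ψ ω₀ = algebraMap A B r' ^ (k + 1) :=
      Top.topForm_base Φ Ψ (algebraMap A B r') (fun x => by rw [hΨΦ, algebraMap_smul])
    have hPC₃ : ∀ x, P₃ (C₃ x) = (r * r' ^ (k + 1)) • x := fun x => by
      show ε (δ (Top.topForm Ψ x)) • ω₀ = _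
      rw [hεδ, smul_assoc, ← htop x, ← map_pow, algebraMap_smul, smul_smul]
    have hCP₃ : ∀ w, C₃ (P₃ w) = (r * r' ^ (k + 1)) • w := fun w => by
      show δ (Top.topForm Ψ (ε w • ω₀)) = _
      rw [map_smul, hω₀, smul_eq_mul, mul_comm (ε w), ← map_pow, ← Algebra.smul_def, map_smul, hδε,
        smul_smul, mul_comm]
    let γ₀ : P₁ × P₂ := pr (fun a => Φ (Pi.single a 1)) fun _ i => ε (Pi.single i 1)
    have hX₀ : γ₀.1 = exteriorPower.ιMulti A (n * (k + 1)) fun x => P (Pi.single x 1) := by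
      show exteriorPower.ιMulti A (n * (k + 1)) _ = _
      congr 1
      funext x
      show ε (Pi.single (e x).2 1) • Φ (Pi.single (e x).1 1) = Φ _
      rw [← map_smul]
      congr 1
      funext a
      show (ε (Pi.single (e x).2 1) • (Pi.single (e x).1 (1 : B) : Fin (k + 1) → B)) a
        = ε (fun i => (Pi.single x (1 : A) : Fin (n * (k + 1)) → A) (e.symm (a, i)))
      rcases eq_or_ne a (e x).1 with rfl | ha
      · rw [Pi.smul_apply, Pi.single_eq_same, smul_eq_mul, mul_one]
        congr 1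
        funext i
        rcases eq_or_ne i (e x).2 with rfl | hi
        · simp
        · rw [Pi.single_eq_of_ne hi, Pi.single_eq_of_ne fun hx => hi (by rw [← hx, Equiv.apply_symm_apply])]
      · rw [Pi.smul_apply, Pi.single_eq_of_ne ha, smul_zero]
        refine (map_zero ε).symm.trans (congrArg ε (funext fun i => ?_))
        rw [Pi.single_eq_of_ne fun hx => ha (by rw [← hx, Equiv.apply_symm_apply])]
        rfl
    let D₂ : P₂ →ₗ[A] A := (TensorProduct.lid A A).toLinearMap ∘ₗ TensorProduct.map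
      (PiTensorProduct.lift ((MultilinearMap.mkPiAlgebra A (Fin k) A).compLinearMap fun _ => Top.topForm δ))
      (Top.topForm C₃)
    have hD₂ : ∀ (l : Fin k → ⋀[A]^n B) (y : ⋀[A]^n (⋀[B]^(k + 1) M)),
        D₂ (PiTensorProduct.tprod A l ⊗ₜ[A] y) = (∏ a, Top.topForm δ (l a)) * Top.topForm C₃ y := by
      intro l y
      refine ((congrArg (TensorProduct.lid A A) (TensorProduct.map_tmul _ _ _ _)).trans
        (TensorProduct.lid_tmul _ _)).trans ?_
      erw [PiTensorProduct.lift.tprod]
      rfl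
    have hη : ∀ η : P₂, (r * r') ^ (n * (k + 1)) • η = D₂ η • γ₀.2 := fun η => by
      have hR : (r * r') ^ (n * (k + 1)) = (r ^ n) ^ k * (r * r' ^ (k + 1)) ^ n := by
        rw [mul_pow, mul_pow, ← pow_mul, ← pow_mul, ← mul_assoc, ← pow_add, mul_comm (k + 1) n, mul_add_one]
      rw [hR]
      induction η using TensorProduct.induction_on with
      | zero => simp only [smul_zero, map_zero, zero_smul]
      | add a b ha hb => rw [smul_add, ha, hb, map_add, add_smul]
      | tmul z y =>
        induction z using PiTensorProduct.induction_on with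
        | add a b ha hb => rw [TensorProduct.add_tmul, smul_add, ha, hb, map_add, add_smul]
        | smul_tprod c l =>
          rw [← TensorProduct.smul_tmul', smul_comm, map_smul, smul_eq_mul, mul_smul c]
          congr 1
          rw [← TensorProduct.smul_tmul_smul, Top.smul_eq_topForm_smul P₃ C₃ _ hPC₃ y]
          have hl : (r ^ n) ^ k • PiTensorProduct.tprod A l
              = (∏ a, Top.topForm δ (l a)) •
                PiTensorProduct.tprod A fun _ : Fin k => exteriorPower.ιMulti A n fun i => ε (Pi.single i 1) := by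
            rw [← MultilinearMap.map_smul_univ]
            refine Eq.trans ?_ (congrArg (PiTensorProduct.tprod A) (funext fun a =>
              Top.smul_eq_topForm_smul ε δ r hεδ (l a)))
            rw [MultilinearMap.map_smul_univ, Finset.prod_const, Finset.card_univ, Fintype.card_fin]
          rw [hl, TensorProduct.smul_tmul_smul]
          rw [hD₂]
          rfl
    refine ⟨(r * r') ^ (n * (k + 1)), γ₀, Top.topForm C₁, D₂, fun hm => q.2.mul_notMem hr hr'
      (q.2.mem_of_pow_mem _ hm), Submodule.subset_span ⟨(fun a => Φ (Pi.single a 1), fun _ i => ε (Pi.single i 1)), rfl⟩, fun ξ => ?_, hη, ?_, ?_, ?_⟩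
    · rw [hX₀]
      exact Top.smul_eq_topForm_smul P C₁ _ hPC ξ
    · rw [hX₀]
      exact Top.topForm_base P C₁ _ hCP
    · refine (hD₂ _ _).trans ?_
      have h3 : Top.topForm C₃ (exteriorPower.ιMulti A n fun i => ε (Pi.single i 1) • ω₀)
          = (r * r' ^ (k + 1)) ^ n := Top.topForm_base P₃ C₃ _ hCP₃
      have h4 : ∀ _ : Fin k, Top.topForm δ (exteriorPower.ιMulti A n fun i => ε (Pi.single i 1)) = r ^ n :=
        fun _ => Top.topForm_base ε δ r hδε
      refine (congrArg₂ (· * ·) (Finset.prod_congr rfl fun a _ => h4 a) h3).trans ?_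
      rw [Finset.prod_const, Finset.card_univ, Fintype.card_fin, mul_pow, mul_pow, ← pow_mul, ← pow_mul,
        ← mul_assoc, ← pow_add, mul_comm (k + 1) n, mul_add_one]
    · intro γ hγ
      induction hγ using Submodule.span_induction with
      | mem γ hγ =>
        obtain ⟨⟨g, v⟩, rfl⟩ := hγ
        obtain ⟨N, hN⟩ := det_key ε δ r hεδ hδε v (Matrix.of fun a b => Ψ (g a) b)
        let T := r ^ N * (r ^ (n * (k + 1)) * r ^ n)
        have hT : T ∉ q.asIdeal := q.2.mul_notMem (fun hm => hr (q.2.mem_of_pow_mem _ hm))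
          (q.2.mul_notMem (fun hm => hr (q.2.mem_of_pow_mem _ hm)) fun hm => hr (q.2.mem_of_pow_mem _ hm))
        have h1 : Top.topForm C₁ (pr g v).1
            = (Matrix.of fun x y : Fin (k + 1) × Fin n => δ (v x.1 x.2 * Ψ (g x.1) y.1) y.2).det := by
          rw [show (pr g v).1 = exteriorPower.ιMulti A (n * (k + 1)) fun x => v (e x).1 (e x).2 • g (e x).1
            from rfl, Top.topForm_ιMulti, ← Matrix.det_submatrix_equiv_self e]
          congr 1
          ext x y
          simp [C₁]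
        have h2 : D₂ (pr g v).2 = (∏ a : Fin k, (Matrix.of fun i => δ (v a.castSucc i)).det) *
            (Matrix.of fun i => δ (v (Fin.last k) i * (Matrix.of fun a b => Ψ (g a) b).det)).det := by
          refine (hD₂ _ _).trans ?_
          rw [Top.topForm_ιMulti C₃]
          congr 1
          · exact Finset.prod_congr rfl fun a _ => Top.topForm_ιMulti _ _
          · congr 1
            ext i j
            show δ (Top.topForm Ψ (v (Fin.last k) i • ω g)) j = δ (v (Fin.last k) i * _) j
            rw [map_smul, Top.topForm_ιMulti, smul_eq_mul]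
        simp only [Matrix.of_apply] at hN
        refine ⟨T * (r * r') ^ (n * (k + 1)), T * Top.topForm C₁ (pr g v).1,
          q.2.mul_notMem hT (fun hm => q.2.mul_notMem hr hr' (q.2.mem_of_pow_mem _ hm)), Prod.ext ?_ ?_⟩
        · show (T * _) • (pr g v).1 = (T * _) • γ₀.1
          rw [mul_smul T, mul_smul T, hX₀]
          exact congrArg (T • ·) (Top.smul_eq_topForm_smul P C₁ _ hPC _)
        · show (T * _) • (pr g v).2 = (T * _) • γ₀.2
          have hT2 : T * Top.topForm C₁ (pr g v).1 = T * D₂ (pr g v).2 := by rw [h1, h2]; exact hN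
          rw [hT2, mul_smul T, mul_smul T]
          exact congrArg (T • ·) (hη (pr g v).2)
      | zero => exact ⟨1, 0, q.asIdeal.one_notMem, by simp⟩
      | add a b _ _ ha hb =>
        obtain ⟨t, c, ht, h⟩ := ha
        obtain ⟨t', c', ht', h'⟩ := hb
        refine ⟨t * t', t' * c + t * c', q.2.mul_notMem ht ht', ?_⟩
        rw [smul_add, add_smul, mul_comm t t', mul_smul, h, smul_smul, mul_comm t' t, mul_smul t t', h', smul_smul]
      | smul a b _ hb =>
        obtain ⟨t, c, ht, h⟩ := hb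
        exact ⟨t, a * c, ht, by rw [smul_comm, h, smul_smul]⟩
  let : AddCommGroup P₂ := Module.addCommMonoidToAddCommGroup A
  let π₁ : Γ →ₗ[A] P₁ := (LinearMap.fst A P₁ P₂).comp Γ.subtype
  let π₂ : Γ →ₗ[A] P₂ := (LinearMap.snd A P₁ P₂).comp Γ.subtype
  have hzero : ∀ γ ∈ Γ, (γ.1 = 0 ∨ γ.2 = 0) → γ = 0 := fun γ hγ h => by
    refine Frame.eq_zero_of_forall_exists_smul_eq_zero (A := A) γ fun q => ?_
    obtain ⟨R, γ₀, D₁, D₂, hR, -, -, -, hD₁, hD₂, hline⟩ := key q
    obtain ⟨t, c, ht, htc⟩ := hline γ hγ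
    refine ⟨R * t, q.2.mul_notMem hR ht, ?_⟩
    have hc : c * R = 0 := by
      rcases h with h | h
      · rw [← hD₁, ← smul_eq_mul, ← map_smul, ← Prod.smul_fst, ← htc, Prod.smul_fst, h, smul_zero, map_zero]
      · rw [← hD₂, ← smul_eq_mul, ← map_smul, ← Prod.smul_snd, ← htc, Prod.smul_snd, h, smul_zero, map_zero]
    rw [mul_smul, htc, smul_smul, mul_comm, hc, zero_smul]
  have hdiff : ∀ x y : Γ, (π₁ x = π₁ y ∨ π₂ x = π₂ y) → x = y := fun x y hxy => by
    have e2 := hzero _ (Γ.add_mem x.2 (Γ.smul_mem (-1 : A) y.2)) (by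
      rcases hxy with h | h
      · left
        show x.1.1 + (-1 : A) • y.1.1 = 0
        rw [show x.1.1 = y.1.1 from h]
        nth_rw 1 [← one_smul A y.1.1]
        rw [← add_smul, add_neg_cancel, zero_smul]
      · right
        show x.1.2 + (-1 : A) • y.1.2 = 0
        rw [show x.1.2 = y.1.2 from h]
        nth_rw 1 [← one_smul A y.1.2]
        rw [← add_smul, add_neg_cancel, zero_smul])
    refine Subtype.ext ?_
    calc x.1 = x.1 + ((-1 : A) + 1) • y.1 := by rw [neg_add_cancel, zero_smul, add_zero]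
      _ = y.1 := by rw [add_smul, one_smul, ← add_assoc, e2, zero_add]
  have surj₁ : Function.Surjective π₁ := fun w =>
    LinearMap.mem_range.1 (Frame.mem_of_forall_exists_smul_mem (LinearMap.range π₁) w fun q => by
      obtain ⟨R, γ₀, D₁, D₂, hR, hγ₀, h₁, -, -, -, -⟩ := key q
      exact ⟨R, hR, ⟨⟨_, Γ.smul_mem (D₁ w) hγ₀⟩, (h₁ w).symm⟩⟩)
  have surj₂ : Function.Surjective π₂ := fun w =>
    LinearMap.mem_range.1 (Frame.mem_of_forall_exists_smul_mem (LinearMap.range π₂) w fun q => by
      obtain ⟨R, γ₀, D₁, D₂, hR, hγ₀, -, h₂, -, -, -⟩ := key q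
      exact ⟨R, hR, ⟨⟨_, Γ.smul_mem (D₂ w) hγ₀⟩, (h₂ w).symm⟩⟩)
  exact ⟨(LinearEquiv.ofBijective π₁ ⟨fun x y h => hdiff x y (Or.inl h), surj₁⟩).symm ≪≫ₗ
    LinearEquiv.ofBijective π₂ ⟨fun x y h => hdiff x y (Or.inr h), surj₂⟩⟩

end Groth.Agent.S13119
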