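import Groth.Statements.S13124
import Groth.Prelude.Def_GLin
import Mathlib.RingTheory.IntegralClosure.IntegrallyClosed
import Mathlib.RingTheory.Flat.Basic

set_option autoImplicit false
universe u v w
open KumFam

namespace Groth.Agent.S13124

/-- Let k be a commutative ring, A a commutative k-bialgebra that is flat over k, and R a commutative
k-algebra which is an integrally closed domain, with a coaction R → R ⊗ A that is an algebra
homomorphism. Then the ring of invariants (the elements f with coaction f ⊗ 1) is an integrally
closed domain. (The published statement is for a finite group scheme acting on a normal scheme whose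
quotient is, locally, the spectrum of the ring of invariants; this row is the affine integral case
and allows any commutative bialgebra flat over k, flatness being automatic over a field.) -/
theorem result (k : Type u) [CommRing k]
    (A : Type v) [CommRing A] [Bialgebra k A] [Module.Flat k A]
    (R : Type w) [CommRing R] [Algebra k R] [IsDomain R] [IsIntegrallyClosed R]
    [HopfRep.Comod k A R] [GLin.IsCoactAlg k A R] :
    IsIntegrallyClosed (GLin.invariants k A R) := by
  refine isIntegrallyClosed_iff (FractionRing (GLin.invariants k A R)) |>.2 fun {x} hx => ?_
  obtain ⟨a, b, hb, rfl⟩ := IsFractionRing.div_surjective (A := GLin.invariants k A R) x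
  have hb0 : (b : R) ≠ 0 := fun h => nonZeroDivisors.ne_zero hb (Subtype.ext h)
  let F := FractionRing R
  let g : FractionRing (GLin.invariants k A R) →+* F := IsFractionRing.lift (A := GLin.invariants k A R)
    (g := (algebraMap R F).comp (GLin.invariants k A R).val.toRingHom)
    ((IsFractionRing.injective R F).comp Subtype.val_injective)
  have hg : ∀ y : GLin.invariants k A R, g (algebraMap (GLin.invariants k A R) (FractionRing (GLin.invariants k A R)) y) =
      algebraMap R F (y : R) := fun y => IsFractionRing.lift_algebraMap _ y
  have hint : IsIntegral R (g (algebraMap (GLin.invariants k A R) (FractionRing (GLin.invariants k A R)) a /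
      algebraMap (GLin.invariants k A R) (FractionRing (GLin.invariants k A R)) b)) := by
    obtain ⟨p, hp, hp'⟩ := hx
    refine ⟨p.map (GLin.invariants k A R).val.toRingHom, hp.map _, ?_⟩
    have e : (algebraMap R F).comp (GLin.invariants k A R).val.toRingHom =
        g.comp (algebraMap (GLin.invariants k A R) (FractionRing (GLin.invariants k A R))) := RingHom.ext fun y => (hg y).symm
    rw [Polynomial.eval₂_map, e, ← Polynomial.hom_eval₂, hp', map_zero]
  obtain ⟨r, hr⟩ := IsIntegrallyClosed.isIntegral_iff.1 hint
  rw [map_div₀, hg, hg, eq_div_iff (by simpa using hb0), ← map_mul] at hr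
  have hr' : r * (b : R) = a := IsFractionRing.injective R F hr
  have hfix : r ∈ GLin.invariants k A R := by
    have h := congrArg (HopfRep.Comod.coact (k := k) (A := A)) hr'
    rw [GLin.IsCoactAlg.coact_mul, (GLin.mem_invariants_iff k A R _).1 b.2,
      (GLin.mem_invariants_iff k A R _).1 a.2, ← hr'] at h
    rw [GLin.mem_invariants_iff]
    have hinj : Function.Injective ((LinearMap.mulRight k (b : R)).rTensor A) :=
      Module.Flat.rTensor_preserves_injective_linearMap _ fun u v huv => mul_right_cancel₀ hb0 huv
    have key : ∀ w : TensorProduct k R A,
        (LinearMap.mulRight k (b : R)).rTensor A w = w * ((b : R) ⊗ₜ[k] (1 : A)) := by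
      intro w
      induction w using TensorProduct.induction_on with
      | zero => simp
      | tmul u v => simp
      | add u v hu hv => simp only [map_add, add_mul, hu, hv]
    apply hinj
    rw [key, key, h]
    simp
  exact ⟨⟨r, hfix⟩, by
    rw [eq_div_iff (by simpa using nonZeroDivisors.ne_zero hb), ← map_mul]
    exact congrArg _ (Subtype.ext hr')⟩

end Groth.Agent.S13124
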