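import Groth.Statements.S13125
-- import your own Groth.Agent.* helpers here

set_option autoImplicit false
universe u v
open KumFam

namespace Groth.Agent.S13125

/-- Let A be a commutative ring graded by an additive monoid ι (an abelian group in the published
statement) through additive subgroups 𝒜 i, and I an ideal of A. Then I is a homogeneous ideal if and
only if A/I carries a structure of ι-graded ring ℬ for which the quotient map sends 𝒜 i into ℬ i for
all i. -/
theorem result (ι : Type u) [DecidableEq ι] [AddMonoid ι]
    (A : Type v) [CommRing A] (𝒜 : ι → AddSubgroup A) [GradedRing 𝒜] (I : Ideal A) :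
    I.IsHomogeneous 𝒜 ↔
      ∃ ℬ : ι → AddSubgroup (A ⧸ I), Nonempty (GradedRing ℬ) ∧
        ∀ i : ι, (𝒜 i).map (Ideal.Quotient.mk I : A →+ A ⧸ I) ≤ ℬ i := by
  classical
  constructor
  · intro hI
    let ℬ : ι → AddSubgroup (A ⧸ I) := fun i => (𝒜 i).map (Ideal.Quotient.mk I : A →+ A ⧸ I)
    have hint : DirectSum.IsInternal ℬ := by
      constructor
      · rw [injective_iff_map_eq_zero]
        intro b hb
        have hlift : ∀ i, ∃ a : 𝒜 i, Ideal.Quotient.mk I (a : A) = ((b i : ℬ i) : A ⧸ I) := fun i => by
          obtain ⟨a, ha, h⟩ := (b i).2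
          exact ⟨⟨a, ha⟩, h⟩
        choose a ha using hlift
        let a' : DirectSum ι fun i => 𝒜 i := ∑ i ∈ b.support, DirectSum.of _ i (a i)
        have hsum : ((DirectSum.decompose 𝒜).symm a' : A) ∈ I := by
          rw [← Ideal.Quotient.eq_zero_iff_mem, ← hb]
          conv_rhs => rw [← DirectSum.sum_support_of b]
          simp only [a', DirectSum.decompose_symm_sum, DirectSum.decompose_symm_of, map_sum,
            DirectSum.coeAddMonoidHom_of, ha]
        refine DFinsupp.ext fun i => ?_
        by_cases hi : i ∈ b.support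
        · have h := hI i hsum
          rw [DirectSum.decompose, Equiv.apply_symm_apply] at h
          have e : a' i = a i := by
            show (∑ l ∈ DFinsupp.support b, DirectSum.of (fun i => 𝒜 i) l (a l)) i = a i
            rw [DFinsupp.finsetSum_apply, Finset.sum_eq_single i
              (fun j _ hj => DirectSum.of_eq_of_ne _ _ _ hj.symm) (fun h => absurd hi h),
              DirectSum.of_eq_same]
          rw [e] at h
          apply Subtype.ext
          rw [← ha i]
          exact Ideal.Quotient.eq_zero_iff_mem.2 h
        · exact DFinsupp.notMem_support_iff.1 hi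
      · intro q
        obtain ⟨a, rfl⟩ := Ideal.Quotient.mk_surjective q
        induction a using DirectSum.Decomposition.inductionOn 𝒜 with
        | zero => exact ⟨0, by simp⟩
        | @homogeneous i a =>
          exact ⟨DirectSum.of (fun i => ℬ i) i ⟨_, a, a.2, rfl⟩, DirectSum.coeAddMonoidHom_of _ _ _⟩
        | add a a' ha ha' =>
          obtain ⟨x, hx⟩ := ha
          obtain ⟨y, hy⟩ := ha'
          exact ⟨x + y, by rw [map_add, hx, hy, map_add]⟩
    letI : SetLike.GradedMonoid ℬ :=
      { one_mem := ⟨1, SetLike.GradedOne.one_mem, rfl⟩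
        mul_mem := by
          rintro i j _ _ ⟨a, ha, rfl⟩ ⟨a', ha', rfl⟩
          exact ⟨a * a', SetLike.GradedMul.mul_mem ha ha', map_mul (Ideal.Quotient.mk I) _ _⟩ }
    letI := hint.chooseDecomposition
    exact ⟨ℬ, ⟨{}⟩, fun i => le_rfl⟩
  · rintro ⟨ℬ, ⟨hB⟩, hle⟩ i a ha
    have key : ∀ a : A, ∀ j, (DirectSum.decompose ℬ (Ideal.Quotient.mk I a) j : A ⧸ I) =
        Ideal.Quotient.mk I (DirectSum.decompose 𝒜 a j : A) := by
      intro a j
      induction a using DirectSum.Decomposition.inductionOn 𝒜 with
      | zero => simp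
      | @homogeneous l a =>
        have hm : Ideal.Quotient.mk I (a : A) ∈ ℬ l := hle l ⟨a, a.2, rfl⟩
        rcases eq_or_ne l j with rfl | hne
        · rw [DirectSum.decompose_of_mem_same ℬ hm, DirectSum.decompose_of_mem_same 𝒜 a.2]
        · rw [DirectSum.decompose_of_mem_ne ℬ hm hne, DirectSum.decompose_of_mem_ne 𝒜 a.2 hne,
            map_zero]
      | add a a' h h' =>
        simp only [map_add, DirectSum.decompose_add, DirectSum.add_apply, AddSubgroup.coe_add, h, h']
    rw [← Ideal.Quotient.eq_zero_iff_mem, ← key a i, Ideal.Quotient.eq_zero_iff_mem.2 ha]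
    simp

end Groth.Agent.S13125
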