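import Groth.Statements.S13126
import Mathlib.RingTheory.Ideal.Operations
import Mathlib.RingTheory.Ideal.Quotient.Operations
import Mathlib.RingTheory.Coprime.Lemmas
import Mathlib.Algebra.Polynomial.Div
import Mathlib.Algebra.Polynomial.RingDivision
import Mathlib.Algebra.Polynomial.BigOperators

set_option autoImplicit false
universe u
open KumFam

namespace Groth.Agent.S13126

open Polynomial in
/-- Let R be a commutative ring, n a natural number which is a unit in R, and ζ ∈ R with ζ^n = 1 and 1 −
ζ^i a unit for 0 < i < n (a primitive n-th root of unity in the fibrewise sense: the powers ζ^0, …,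
ζ^(n−1) are roots of X^n − 1 with pairwise unit differences; over an integral domain in which n is a
unit this is the same as ζ having multiplicative order n). Then the R-algebra homomorphism R[X] →
(Fin n → R) sending a polynomial to its values at ζ^0, …, ζ^(n−1) is surjective and its kernel is
the ideal generated by X^n − 1; hence R[X]/(X^n − 1) ≅ R^n as R-algebras, i.e. the scheme of n-th
roots of unity over Spec R is the disjoint union of n copies of Spec R. (The published statement
asks that R contain a primitive n-th root of unity without defining the term; its Chinese-remainder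
argument uses that the ideals (X − ζ^i), i < n, are pairwise comaximal, which is the unit-difference
condition taken as the hypothesis here, whereas under the reading 'ζ has multiplicative order n'
alone the surjectivity fails over a product of two fields. The published statement also asserts that
the isomorphism respects the group-scheme structures of the n-th roots of unity and of the constant
group ℤ/n; this row does not state that.) -/
theorem result (R : Type u) [CommRing R]
    (n : ℕ) (hn : IsUnit (n : R)) (ζ : R) (hζ : ζ ^ n = 1)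
    (hprim : ∀ i : ℕ, 0 < i → i < n → IsUnit (1 - ζ ^ i)) :
    Function.Surjective (AlgHom.pi (fun i : Fin n => Polynomial.aeval (R := R) (ζ ^ (i : ℕ)))) ∧
      RingHom.ker (AlgHom.pi (fun i : Fin n => Polynomial.aeval (R := R) (ζ ^ (i : ℕ)))) =
        Ideal.span {(X ^ n - 1 : R[X])} := by
  classical
  let J : Fin n → Ideal R[X] := fun i => Ideal.span {X - C (ζ ^ (i : ℕ))}
  rcases Nat.eq_zero_or_pos n with rfl | hnpos
  · haveI : Subsingleton R := by
      have := hn
      rw [Nat.cast_zero] at this
      exact subsingleton_of_zero_eq_one (isUnit_zero_iff.1 this)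
    exact ⟨fun f => ⟨0, Subsingleton.elim _ _⟩, Subsingleton.elim _ _⟩
  have hζu : IsUnit ζ := .of_pow_eq_one hζ hnpos.ne'
  have hunit : ∀ i j : Fin n, i ≠ j → IsUnit (ζ ^ (i : ℕ) - ζ ^ (j : ℕ)) := by
    intro i j hij
    rcases lt_or_gt_of_ne (fun h => hij (Fin.ext h)) with h | h
    · have : ζ ^ (i : ℕ) - ζ ^ (j : ℕ) = ζ ^ (i : ℕ) * (1 - ζ ^ ((j : ℕ) - i)) := by
        rw [mul_sub, ← pow_add, Nat.add_sub_cancel' h.le, mul_one]
      rw [this]
      exact (hζu.pow _).mul (hprim _ (by omega) (by omega))
    · have : ζ ^ (i : ℕ) - ζ ^ (j : ℕ) = -(ζ ^ (j : ℕ) * (1 - ζ ^ ((i : ℕ) - j))) := by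
        rw [mul_sub, ← pow_add, Nat.add_sub_cancel' h.le, mul_one, neg_sub]
      rw [this]
      exact ((hζu.pow _).mul (hprim _ (by omega) (by omega))).neg
  have hcop : Pairwise fun i j : Fin n => IsCoprime (J i) (J j) := fun i j hij => by
    change IsCoprime (J i) (J j)
    rw [Ideal.isCoprime_span_singleton_iff]
    exact Polynomial.isCoprime_X_sub_C_of_isUnit_sub (hunit i j hij)
  let Φ := AlgHom.pi (fun i : Fin n => Polynomial.aeval (R := R) (ζ ^ (i : ℕ)))
  have hΦ : ∀ (f : R[X]) (i : Fin n), Φ f i = f.eval (ζ ^ (i : ℕ)) := fun f i => by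
    simp [Φ, Polynomial.coe_aeval_eq_eval]
  refine ⟨fun v => ?_, ?_⟩
  · obtain ⟨f, hf⟩ := Ideal.exists_forall_sub_mem_ideal hcop fun i => C (v i)
    refine ⟨f, funext fun i => ?_⟩
    obtain ⟨g, hg⟩ := Ideal.mem_span_singleton'.1 (hf i)
    have := congrArg (Polynomial.eval (ζ ^ (i : ℕ))) hg
    simp at this
    rw [hΦ]
    exact sub_eq_zero.1 this.symm
  · refine le_antisymm (fun f hf => ?_) ?_
    · have hf' : ∀ i : Fin n, X - C (ζ ^ (i : ℕ)) ∣ f := fun i => by
        rw [Polynomial.dvd_iff_isRoot, Polynomial.IsRoot.def, ← hΦ f i]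
        exact congrFun hf i
      have hprod : ∏ i : Fin n, (X - C (ζ ^ (i : ℕ))) ∣ f :=
        Fintype.prod_dvd_of_coprime (fun i j hij => Polynomial.isCoprime_X_sub_C_of_isUnit_sub (hunit i j hij)) hf'
      have hxn : ∏ i : Fin n, (X - C (ζ ^ (i : ℕ))) = X ^ n - 1 := by
        have hdvd : ∏ i : Fin n, (X - C (ζ ^ (i : ℕ))) ∣ X ^ n - 1 := by
          refine Fintype.prod_dvd_of_coprime (fun i j hij => Polynomial.isCoprime_X_sub_C_of_isUnit_sub (hunit i j hij)) fun i => ?_
          rw [Polynomial.dvd_iff_isRoot]
          simp only [Polynomial.IsRoot.def, Polynomial.eval_sub, Polynomial.eval_pow, Polynomial.eval_X, Polynomial.eval_one]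
          rw [← pow_mul, mul_comm, pow_mul, hζ, one_pow, sub_self]
        nontriviality R
        refine (Polynomial.eq_of_monic_of_dvd_of_natDegree_le
          (Polynomial.monic_prod_of_monic _ _ fun i _ => Polynomial.monic_X_sub_C _)
          (by simpa using Polynomial.monic_X_pow_sub_C (1 : R) hnpos.ne') hdvd ?_).symm
        rw [Polynomial.natDegree_prod_of_monic _ _ fun i _ => Polynomial.monic_X_sub_C _]
        rw [show (X ^ n - 1 : R[X]) = X ^ n - C 1 by simp, Polynomial.natDegree_X_pow_sub_C]
        simp only [Polynomial.natDegree_X_sub_C]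
        simp
      rw [Ideal.mem_span_singleton, ← hxn]
      exact hprod
    · rw [Ideal.span_le, Set.singleton_subset_iff]
      refine funext fun i => ?_
      change Φ (X ^ n - 1) i = 0
      simp only [hΦ, Polynomial.eval_sub, Polynomial.eval_pow, Polynomial.eval_X, Polynomial.eval_one]
      rw [← pow_mul, mul_comm, pow_mul, hζ, one_pow, sub_self]

end Groth.Agent.S13126
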