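import Groth.Statements.S13127
import Groth.Agent.KumFam.TriSubst
import Mathlib.Algebra.CharP.Two
import Mathlib.Tactic.LinearCombination
import Mathlib.Tactic.FinCases

set_option autoImplicit false
universe u
open KumFam

namespace Groth.Agent.S13127

open MvPowerSeries in
/-- Let R be a commutative ring of characteristic 2 and l0, l2, l4, s0, s2, s4, τ, lam, sig ∈ R with l4,
s4, lam, sig units, and let κ₁, κ₂ ∈ R satisfy s4² κ₁³ = sig² and l4² κ₂³ = lam² (cube roots of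
sig²/s4² and lam²/l4²). In the power series ring R[[a, b, c]] (a = X 0, b = X 1, c = X 2) put F = c²
+ s0² a³ b⁴ + s2² a³ b² + s4² a³ + l0² a⁴ b³ + l2² a² b³ + l4² b³ + τ² a³ b³ and F₀ = c² + sig² a³ +
lam² b³. Then some R-algebra automorphism of R[[a, b, c]] maps F to F₀; consequently R[[a, b,
c]]/(F) ≅ R[[a, b, c]]/(F₀). (In the published statement lam, sig are the representatives in the
ground field of the residues of l4, s4 at a rational point, so that F₀ is the equation of the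
special fibre made constant; this row takes them to be arbitrary units.) -/
theorem result (R : Type u) [CommRing R] [CharP R 2]
    (l0 l2 l4 s0 s2 s4 τ lam sig κ₁ κ₂ : R) (hl4 : IsUnit l4) (hs4 : IsUnit s4) (hlam : IsUnit lam)
    (hsig : IsUnit sig) (h₁ : s4 ^ 2 * κ₁ ^ 3 = sig ^ 2) (h₂ : l4 ^ 2 * κ₂ ^ 3 = lam ^ 2) :
    ∃ φ : MvPowerSeries (Fin 3) R ≃ₐ[R] MvPowerSeries (Fin 3) R,
      φ ((X 2 ^ 2 + C (s0 ^ 2) * X 0 ^ 3 * X 1 ^ 4 + C (s2 ^ 2) * X 0 ^ 3 * X 1 ^ 2 +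
          C (s4 ^ 2) * X 0 ^ 3 + C (l0 ^ 2) * X 0 ^ 4 * X 1 ^ 3 + C (l2 ^ 2) * X 0 ^ 2 * X 1 ^ 3 +
          C (l4 ^ 2) * X 1 ^ 3 + C (τ ^ 2) * X 0 ^ 3 * X 1 ^ 3 : MvPowerSeries (Fin 3) R)) =
        (X 2 ^ 2 + C (sig ^ 2) * X 0 ^ 3 + C (lam ^ 2) * X 1 ^ 3 : MvPowerSeries (Fin 3) R) := by
  have h3 : IsUnit (3 : R) := by
    rw [show (3 : R) = 2 + 1 by norm_num, CharTwo.two_eq_zero, zero_add]; exact isUnit_one
  obtain ⟨si, hsi⟩ := hs4.exists_right_inv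
  obtain ⟨li, hli⟩ := hl4.exists_right_inv
  have hk1 : IsUnit κ₁ := (isUnit_pow_iff three_ne_zero).1
    (IsUnit.mul_iff.1 (h₁ ▸ hsig.pow 2)).2
  have hk2 : IsUnit κ₂ := (isUnit_pow_iff three_ne_zero).1
    (IsUnit.mul_iff.1 (h₂ ▸ hlam.pow 2)).2
  obtain ⟨k1, hk1'⟩ := hk1.exists_right_inv
  obtain ⟨k2, hk2'⟩ := hk2.exists_right_inv
  let a : MvPowerSeries (Fin 3) R := X 0
  let b : MvPowerSeries (Fin 3) R := X 1
  obtain ⟨w1, hw10, hw1⟩ := KumFam.TriSubst.exists_cube_root h3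
    (C (si ^ 2) * (C (s2 ^ 2) * b ^ 2 + C (s0 ^ 2) * b ^ 4 + C (τ ^ 2) * b ^ 3)) (by simp [b])
  obtain ⟨w2, hw20, hw2⟩ := KumFam.TriSubst.exists_cube_root h3
    (C (li ^ 2) * (C (l2 ^ 2) * a ^ 2 + C (l0 ^ 2) * a ^ 4)) (by simp [a])
  have hU : ∀ i, IsUnit (constantCoeff ((![C k1 * w1, C k2 * w2, 1] : Fin 3 → MvPowerSeries (Fin 3) R) i)) := by
    intro i; fin_cases i <;>
      simp [hw10, hw20, IsUnit.of_mul_eq_one_right _ hk1', IsUnit.of_mul_eq_one_right _ hk2']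
  let e1 := KumFam.TriSubst.equiv ![C k1 * w1, C k2 * w2, 1] hU
  refine ⟨e1.symm, ?_⟩
  rw [AlgEquiv.symm_apply_eq]
  simp only [e1, map_add, map_mul, map_pow,
    KumFam.TriSubst.equiv_X, KumFam.TriSubst.equiv_C,
    Matrix.cons_val_zero, Matrix.cons_val_one, Matrix.cons_val, mul_one]
  simp only [a, b, map_pow] at hw1 hw2
  have e1' : C s4 ^ 2 * C κ₁ ^ 3 = (C sig : MvPowerSeries (Fin 3) R) ^ 2 := by
    rw [← map_pow, ← map_pow, ← map_pow, ← map_mul, h₁]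
  have e2' : C l4 ^ 2 * C κ₂ ^ 3 = (C lam : MvPowerSeries (Fin 3) R) ^ 2 := by
    rw [← map_pow, ← map_pow, ← map_pow, ← map_mul, h₂]
  have f1 : C κ₁ * C k1 = (1 : MvPowerSeries (Fin 3) R) := by rw [← map_mul, hk1', map_one]
  have f2 : C κ₂ * C k2 = (1 : MvPowerSeries (Fin 3) R) := by rw [← map_mul, hk2', map_one]
  have g1 : C s4 * C si = (1 : MvPowerSeries (Fin 3) R) := by rw [← map_mul, hsi, map_one]
  have g2 : C l4 * C li = (1 : MvPowerSeries (Fin 3) R) := by rw [← map_mul, hli, map_one]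
  have A1 : (C sig : MvPowerSeries (Fin 3) R) ^ 2 * C k1 ^ 3 = C s4 ^ 2 := by
    rw [← e1']
    calc _ = C s4 ^ 2 * (C κ₁ * C k1) ^ 3 := by ring
      _ = _ := by rw [f1, one_pow, mul_one]
  have A2 : (C lam : MvPowerSeries (Fin 3) R) ^ 2 * C k2 ^ 3 = C l4 ^ 2 := by
    rw [← e2']
    calc _ = C l4 ^ 2 * (C κ₂ * C k2) ^ 3 := by ring
      _ = _ := by rw [f2, one_pow, mul_one]
  linear_combination (- X 0 ^ 3 * w1 ^ 3) * A1 - X 0 ^ 3 * C s4 ^ 2 * hw1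
    + (- X 1 ^ 3 * w2 ^ 3) * A2 - X 1 ^ 3 * C l4 ^ 2 * hw2
    - X 0 ^ 3 * (C s4 * C si + 1) * (C s2 ^ 2 * X 1 ^ 2 + C s0 ^ 2 * X 1 ^ 4 + C τ ^ 2 * X 1 ^ 3) * g1
    - X 1 ^ 3 * (C l4 * C li + 1) * (C l2 ^ 2 * X 0 ^ 2 + C l0 ^ 2 * X 0 ^ 4) * g2

end Groth.Agent.S13127
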