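import Groth.Statements.S13128
import Groth.Agent.KumFam.TriSubst
import Mathlib.Algebra.CharP.Two
import Mathlib.Tactic.LinearCombination
import Mathlib.Tactic.FinCases

set_option autoImplicit false
universe u
open KumFam

namespace Groth.Agent.S13128

open MvPowerSeries in
/-- Let R be a commutative ring of characteristic 2, l0, l2, l4, s0, s2, s4, τ ∈ R with τ a unit, and α,
β ∈ R with l4² α⁴ + l2² α² + τ² α + l0² = 0 and s4² β⁴ + s2² β² + τ² β + s0² = 0. In characteristic
2 these relations give τ² α = (l4 α² + l2 α + l0)² and τ² β = (s4 β² + s2 β + s0)², so α = α′² and β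
= β′² with α′ = (l4 α² + l2 α + l0)/τ and β′ = (s4 β² + s2 β + s0)/τ. In R[[a, b, c]] (a = X 0, b =
X 1, c = X 2) put h = c² + τ² a b + (s4² b⁴ + s2² b²) a + (l4² a⁴ + l2² a²) b + l4² β a⁴ + l2² β a²
+ s4² α b⁴ + s2² α b²; this is the chart equation c² + τ² a b + (s4² b⁴ + s2² b² + s0²) a + (l4² a⁴
+ l2² a² + l0²) b after the substitution a ↦ a + α, b ↦ b + β, c ↦ c + τ α′ β′, which moves the
point (α, β, τ α′ β′) of that surface, where all partial derivatives vanish, to the origin. Then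
some R-algebra automorphism of R[[a, b, c]] maps h to c² + a b; consequently R[[a, b, c]]/(h) ≅
R[[a, b, c]]/(c² + a b), the completed local ring of an ordinary double point, constant over R. (The
published statement translates only a and b, so that its h carries the additional constant term τ² α
β; with that term h is a unit of R[[a, b, c]] whenever τ α β is a unit, for instance c² + a b + 1
over the field with two elements with l0 = s0 = τ = α = β = 1 and l2 = l4 = s2 = s4 = 0, and no ring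
automorphism carries a unit to c² + a b. The published proof begins by shifting c by a polynomial in
a, b whose constant term is τ α′ β′, a substitution of the polynomial ring which removes the term τ²
α β, and the rest of its argument takes place in R[[a, b, c]]; this row states the result for the
fully translated equation, which is what that argument proves.) -/
theorem result (R : Type u) [CommRing R] [CharP R 2]
    (l0 l2 l4 s0 s2 s4 τ α β : R) (hτ : IsUnit τ)
    (hα : l4 ^ 2 * α ^ 4 + l2 ^ 2 * α ^ 2 + τ ^ 2 * α + l0 ^ 2 = 0)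
    (hβ : s4 ^ 2 * β ^ 4 + s2 ^ 2 * β ^ 2 + τ ^ 2 * β + s0 ^ 2 = 0) :
    ∃ φ : MvPowerSeries (Fin 3) R ≃ₐ[R] MvPowerSeries (Fin 3) R,
      φ ((X 2 ^ 2 + C (τ ^ 2) * X 0 * X 1 + (C (s4 ^ 2) * X 1 ^ 4 + C (s2 ^ 2) * X 1 ^ 2) * X 0 +
          (C (l4 ^ 2) * X 0 ^ 4 + C (l2 ^ 2) * X 0 ^ 2) * X 1 + C (l4 ^ 2 * β) * X 0 ^ 4 +
          C (l2 ^ 2 * β) * X 0 ^ 2 + C (s4 ^ 2 * α) * X 1 ^ 4 + C (s2 ^ 2 * α) * X 1 ^ 2 :
          MvPowerSeries (Fin 3) R)) =
        (X 2 ^ 2 + X 0 * X 1 : MvPowerSeries (Fin 3) R) := by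
  have h2 : (2 : MvPowerSeries (Fin 3) R) = 0 := by
    rw [show (2 : MvPowerSeries (Fin 3) R) = C (2 : R) by simp [map_ofNat], CharTwo.two_eq_zero, map_zero]
  obtain ⟨τi, hτi⟩ := hτ.exists_right_inv
  obtain ⟨α', hα'⟩ : ∃ α' : R, α' ^ 2 = α := ⟨(l4 * α ^ 2 + l2 * α + l0) * τi, by
    have : (l4 * α ^ 2 + l2 * α + l0) ^ 2 = τ ^ 2 * α := by
      rw [CharTwo.add_sq, CharTwo.add_sq]
      linear_combination hα - (τ ^ 2 * α) * (CharTwo.two_eq_zero (R := R))
    linear_combination τi ^ 2 * this + α * (τ * τi + 1) * hτi⟩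
  obtain ⟨β', hβ'⟩ : ∃ β' : R, β' ^ 2 = β := ⟨(s4 * β ^ 2 + s2 * β + s0) * τi, by
    have : (s4 * β ^ 2 + s2 * β + s0) ^ 2 = τ ^ 2 * β := by
      rw [CharTwo.add_sq, CharTwo.add_sq]
      linear_combination hβ - (τ ^ 2 * β) * (CharTwo.two_eq_zero (R := R))
    linear_combination τi ^ 2 * this + β * (τ * τi + 1) * hτi⟩
  let a : MvPowerSeries (Fin 3) R := X 0
  let b : MvPowerSeries (Fin 3) R := X 1
  let U0 : MvPowerSeries (Fin 3) R :=
    C (τ ^ 2) + C (s4 ^ 2) * b ^ 3 + C (s2 ^ 2) * b + C (l4 ^ 2) * a ^ 3 + C (l2 ^ 2) * a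
  have hU : ∀ i, IsUnit (constantCoeff ((![U0, 1, 1] : Fin 3 → MvPowerSeries (Fin 3) R) i)) := by
    intro i; fin_cases i <;> simp [U0, a, b, hτ.pow 2]
  let g : MvPowerSeries (Fin 3) R :=
    C β' * (C l4 * a ^ 2 + C l2 * a) + C α' * (C s4 * b ^ 2 + C s2 * b)
  let v : Fin 3 → MvPowerSeries (Fin 3) R := ![X 0, X 1, X 2 + g]
  have hv : HasSubst v := hasSubst_of_constantCoeff_zero fun i => by
    fin_cases i <;> simp [v, g, a, b]
  have hC : ∀ r : R, substAlgHom (R := R) hv (C r) = C r := fun r => (substAlgHom hv).commutes r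
  have h0 : substAlgHom (R := R) hv (X 0) = a := by rw [substAlgHom_apply, subst_X hv]; rfl
  have h1 : substAlgHom (R := R) hv (X 1) = b := by rw [substAlgHom_apply, subst_X hv]; rfl
  have h2' : substAlgHom (R := R) hv (X 2) = X 2 + g := by rw [substAlgHom_apply, subst_X hv]; rfl
  have hinv : (substAlgHom (R := R) hv).comp (substAlgHom (R := R) hv) = AlgHom.id R _ := by
    have hgg : substAlgHom (R := R) hv g = g := by
      simp only [g, a, b, map_add, map_mul, map_pow, hC, h0, h1]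
    have hid : (fun s => subst v (v s)) = (X : Fin 3 → MvPowerSeries (Fin 3) R) := by
      funext i
      rw [← substAlgHom_apply hv]
      fin_cases i
      · exact h0
      · exact h1
      · change substAlgHom hv (X 2 + g) = X 2
        rw [map_add, h2', hgg]
        linear_combination g * h2
    ext1 f
    rw [AlgHom.comp_apply, substAlgHom_apply, substAlgHom_apply, subst_comp_subst_apply hv hv, hid,
      subst_self]
    rfl
  let e2 : MvPowerSeries (Fin 3) R ≃ₐ[R] MvPowerSeries (Fin 3) R :=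
    AlgEquiv.ofAlgHom _ _ hinv hinv
  let e1 := KumFam.TriSubst.equiv ![U0, 1, 1] hU
  refine ⟨(e1.trans e2).symm, ?_⟩
  rw [AlgEquiv.symm_apply_eq]
  simp only [e1, e2, AlgEquiv.trans_apply, AlgEquiv.ofAlgHom_apply, map_add, map_mul, map_pow,
    KumFam.TriSubst.equiv_X, KumFam.TriSubst.equiv_C, hC, h0, h1, h2',
    Matrix.cons_val_zero, Matrix.cons_val_one, Matrix.cons_val, mul_one]
  simp only [g, U0, a, b, map_add, map_mul, map_pow, hC, h0, h1, ← hα', ← hβ']
  linear_combination
    -((C β' * (C l4 * X 0 ^ 2 + C l2 * X 0)) * (C α' * (C s4 * X 1 ^ 2 + C s2 * X 1))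
      + X 2 * (C β' * (C l4 * X 0 ^ 2 + C l2 * X 0) + C α' * (C s4 * X 1 ^ 2 + C s2 * X 1))
      + C β' ^ 2 * C l4 * C l2 * X 0 ^ 3 + C α' ^ 2 * C s4 * C s2 * X 1 ^ 3) * h2

end Groth.Agent.S13128
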