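import Groth.Statements.S14821
import Groth.Agent.S2422
import Groth.Agent.Fibration.Basic
import Groth.Agent.NormalSec.Basic
import Mathlib.RingTheory.Localization.Integral
-- import your own Groth.Agent.* helpers here

set_option autoImplicit false
universe u
open CategoryTheory CategoryTheory.Limits AlgebraicGeometry
open CohIII

namespace Groth.Agent.S14821

section Helper

open AlgebraicGeometry CategoryTheory TopologicalSpace Opposite Groth.Agent.S2422

variable {X Y : Scheme.{u}} (f : X ⟶ Y) [IsIntegral X] [IsIntegral Y]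
  (hdom : f.base (genericPoint X) ⤳ genericPoint Y)
include hdom

/-- An element of the function field integral over the functions of `V` is regular on the preimage of `V`. -/
theorem exists_section_of_integral (hX : Pi1.IsNormalScheme X) {V : Y.Opens} (hne : Nonempty V)
    (z : X.functionField)
    (hz : ((X.presheaf.germ (f ⁻¹ᵁ V) (genericPoint X) (genericPoint_mem_preimage f hdom hne)).hom.comp
      (f.app V).hom).IsIntegralElem z) :
    ∃ s : Γ(X, f ⁻¹ᵁ V),
      X.presheaf.germ (f ⁻¹ᵁ V) (genericPoint X) (genericPoint_mem_preimage f hdom hne) s = z := by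
  obtain ⟨P, hP, hPz⟩ := hz
  let ι := {W : X.affineOpens // (W : X.Opens) ≤ f ⁻¹ᵁ V ∧ Nonempty (W : X.Opens)}
  let U : ι → X.Opens := fun W => (W.1 : X.Opens)
  have hg : ∀ W : ι, genericPoint X ∈ U W := fun W =>
    ((genericPoint_spec X).mem_open_set_iff (U W).isOpen).mpr (by
      obtain ⟨x, hx⟩ := W.2.2
      exact ⟨x, trivial, hx⟩)
  have hloc : ∀ W : ι, ∃ a : Γ(X, U W), X.presheaf.germ (U W) (genericPoint X) (hg W) a = z := by
    intro W
    haveI : Nonempty (U W) := W.2.2
    haveI := functionField_isFractionRing_of_isAffineOpen X (U W) W.1.2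
    haveI : IsIntegrallyClosed Γ(X, U W) := Groth.Agent.NormalSec.isIntegrallyClosed_sections (U W)
      (fun y _ => (hX y).1) (fun y _ => (hX y).2)
      fun b hb y hy h => hb (germ_injective_of_isIntegral X y hy (h.trans (map_zero _).symm))
    have hzi : IsIntegral Γ(X, U W) z := by
      refine ⟨P.map ((X.presheaf.map (homOfLE W.2.1).op).hom.comp (f.app V).hom), hP.map _, ?_⟩
      rw [Polynomial.eval₂_map]
      have hgerm : (algebraMap Γ(X, U W) X.functionField).comp (X.presheaf.map (homOfLE W.2.1).op).hom =
          (X.presheaf.germ (f ⁻¹ᵁ V) (genericPoint X) (genericPoint_mem_preimage f hdom hne)).hom :=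
        RingHom.ext fun t => TopCat.Presheaf.germ_res_apply X.presheaf _ _ _ t
      rw [← RingHom.comp_assoc, hgerm]
      exact hPz
    obtain ⟨a, ha⟩ := IsIntegrallyClosed.isIntegral_iff.mp hzi
    exact ⟨a, ha⟩
  choose a ha using hloc
  have hcomp : TopCat.Presheaf.IsCompatible X.sheaf.1 U a := fun i j => by
    refine germ_injective_of_isIntegral X (genericPoint X)
      (show genericPoint X ∈ U i ⊓ U j from ⟨hg i, hg j⟩) ?_
    erw [TopCat.Presheaf.germ_res_apply, TopCat.Presheaf.germ_res_apply]
    exact (ha i).trans (ha j).symm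
  have hcov : f ⁻¹ᵁ V ≤ iSup U := fun v hv => by
    obtain ⟨_, ⟨W, hW, rfl⟩, hvW, hWV⟩ :=
      X.isBasis_affineOpens.exists_subset_of_mem_open (show v ∈ ((f ⁻¹ᵁ V : X.Opens) : Set X) from hv)
        (f ⁻¹ᵁ V).isOpen
    exact Opens.mem_iSup.mpr ⟨⟨⟨W, hW⟩, hWV, ⟨⟨v, hvW⟩⟩⟩, hvW⟩
  obtain ⟨s, hs, -⟩ := X.sheaf.existsUnique_gluing' U (f ⁻¹ᵁ V) (fun W => homOfLE W.2.1) hcov a hcomp
  refine ⟨s, ?_⟩
  obtain ⟨W, hW⟩ := Opens.mem_iSup.mp (hcov (genericPoint_mem_preimage f hdom hne))
  rw [← ha W, ← hs W]
  exact (TopCat.Presheaf.germ_res_apply X.presheaf _ _ _ _).symm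

/-- A fibration of normal integral schemes has algebraically closed function field. -/
theorem mem_range_of_fibration (hX : Pi1.IsNormalScheme X) (h : ∀ U : Y.Opens, IsIso (f.app U))
    (x : X.functionField)
    (hx : (CohIII.stalkToFunctionField f (genericPoint Y) hdom).IsIntegralElem x) :
    x ∈ (CohIII.stalkToFunctionField f (genericPoint Y) hdom).range := by
  obtain ⟨_, ⟨V, hV, rfl⟩, hgV, -⟩ :=
    Y.isBasis_affineOpens.exists_subset_of_mem_open (Set.mem_univ (genericPoint Y)) isOpen_univ
  have hne : Nonempty V := ⟨⟨_, hgV⟩⟩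
  haveI := functionField_isFractionRing_of_isAffineOpen Y V hV
  let φ := CohIII.stalkToFunctionField f (genericPoint Y) hdom
  let g : Γ(Y, V) →+* Y.functionField := algebraMap Γ(Y, V) Y.functionField
  let ψ := (X.presheaf.germ (f ⁻¹ᵁ V) (genericPoint X) (genericPoint_mem_preimage f hdom hne)).hom
  have hc : φ.comp g = ψ.comp (f.app V).hom :=
    RingHom.ext fun a => stalkToFunctionField_germ f hdom hne a
  letI : Algebra Y.functionField X.functionField := φ.toAlgebra
  letI : Algebra Γ(Y, V) X.functionField := (φ.comp g).toAlgebra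
  haveI : IsScalarTower Γ(Y, V) Y.functionField X.functionField := IsScalarTower.of_algebraMap_eq fun _ => rfl
  obtain ⟨⟨m, hm⟩, hmx⟩ := IsIntegral.exists_multiple_integral_of_isLocalization (M := nonZeroDivisors Γ(Y, V))
    (Rₘ := Y.functionField) (R := Γ(Y, V)) x hx
  have hmx' : (φ.comp g).IsIntegralElem (φ (g m) * x) := hmx
  rw [hc] at hmx'
  obtain ⟨s, hs⟩ := exists_section_of_integral f hdom hX hne _ hmx'
  haveI := h V
  obtain ⟨a, rfl⟩ := (ConcreteCategory.bijective_of_isIso (f.app V)).2 s
  have hs' : φ (g a) = φ (g m) * x := (congr($hc a)).trans hs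
  have hgm : g m ≠ 0 := IsFractionRing.to_map_ne_zero_of_mem_nonZeroDivisors hm
  refine ⟨g a / g m, ?_⟩
  rw [map_div₀, hs', mul_div_cancel_left₀ _ ((map_ne_zero φ).2 hgm)]

end Helper

/-- Let k be a field and f : X → Y a surjective k-morphism between integral proper k-schemes which are
both normal (all local rings integrally closed domains). Then f is a fibration, i.e. O_Y → f_*O_X is
an isomorphism (Γ(U, O_Y) → Γ(f⁻¹U, O_X) is bijective for every open U ⊆ Y), exactly when K(Y) is
algebraically closed inside K(X): every element of the function field of X which is integral over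
the function field of Y, embedded through the stalk map of f at the generic points, lies in the
image of K(Y). (The published statement assumes only Y normal; without normality of X the forward
implication fails — for a quadratic field extension k ⊂ k', the projective line over k' with one
k'-rational point pinched to a k-rational point, mapped to Spec k, has ring of global functions k
although k is not algebraically closed in its function field k'(t) — and the published proof
resolves the indeterminacy of a rational map on the generic fibre by a graph whose projection is a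
fibration, which needs X normal; so this row assumes X normal as well. The reverse implication holds
without it.) -/
theorem result (k : Type u) [Field k]
    (X Y : Scheme.{u}) [X.Over (Spec (CommRingCat.of k))] [Y.Over (Spec (CommRingCat.of k))]
    [IsProper (X ↘ Spec (CommRingCat.of k))] [IsProper (Y ↘ Spec (CommRingCat.of k))] [IsIntegral X] [IsIntegral Y]
    (hX : Pi1.IsNormalScheme X) (hY : Pi1.IsNormalScheme Y) (f : X ⟶ Y) [Surjective f] (hf : f ≫ (Y ↘ Spec (CommRingCat.of k)) = X ↘ Spec (CommRingCat.of k))
    (h : f.base (genericPoint ↥X) ⤳ genericPoint ↥Y) :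
    (∀ U : Y.Opens, IsIso (f.app U)) ↔
      ∀ x : ↑X.functionField, (CohIII.stalkToFunctionField f (genericPoint ↥Y) h).IsIntegralElem x → x ∈ (CohIII.stalkToFunctionField f (genericPoint ↥Y) h).range := by
  have : IsProper f := Groth.Agent.Fibration.isProper_of_over f _ _ hf
  refine ⟨fun hf' x hx => mem_range_of_fibration f h hX hf' x hx, fun halg => ?_⟩
  haveI : IsLocallyNoetherian X := LocallyOfFiniteType.isLocallyNoetherian (X ↘ Spec (CommRingCat.of k))
  haveI : IsLocallyNoetherian Y := LocallyOfFiniteType.isLocallyNoetherian (Y ↘ Spec (CommRingCat.of k))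
  refine Groth.Agent.S2422.result hY f h fun x hx => ?_
  obtain ⟨p, hp, hpx⟩ := hx
  refine halg x ⟨p * Polynomial.C p.leadingCoeff⁻¹, Polynomial.monic_mul_leadingCoeff_inv hp, ?_⟩
  rw [Polynomial.eval₂_mul, hpx, zero_mul]

end Groth.Agent.S14821
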