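import Groth.Statements.S13129
import Groth.Agent.EulerChar.Leray
import Groth.Agent.EulerChar.Torsion
import Groth.Agent.FormalVan.Basic
import Groth.Agent.ModShf.Flasque
import Groth.Agent.ModShf.GrothAb
import Groth.Agent.LFFrame.Basic
import Mathlib.Algebra.Category.ModuleCat.Sheaf.PullbackFree
import Groth.Agent.S14821
import Groth.Agent.S9791

set_option autoImplicit false
universe u
open CategoryTheory CategoryTheory.Limits AlgebraicGeometry
open KumFam

namespace Groth.Agent.S13129

/-- A subsingleton set has dimension at most zero. -/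
lemma dim_le_zero_of_subsingleton {T : Type u} [TopologicalSpace T] {A : Set T} (hA : A.Subsingleton) :
    topologicalKrullDim A ≤ 0 :=
  haveI : Subsingleton A := hA.coe_sort
  topologicalKrullDim_zero_of_discreteTopology A

/-- A module all of whose stalks are zero is zero. -/
lemma isZero_of_stalks {X : Scheme.{u}} {M : X.Modules}
    (h : ∀ z : X, Subsingleton (M.presheaf.stalk z)) : IsZero M := by
  rw [IsZero.iff_id_eq_zero]
  ext U s
  exact TopCat.Presheaf.section_ext (⟨M.presheaf, M.isSheaf⟩ : TopCat.Sheaf AddCommGrpCat X) U _ _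
    fun z hz => (h z).elim _ _

/-- Higher direct images vanish above the dimension of the fibre. -/
lemma subsingleton_stalk_rpush {X Y : Scheme.{u}} (f : X ⟶ Y) [IsProper f] [IsLocallyNoetherian Y]
    (z : Y) (d : ℕ) (M : X.Modules) (hM : Coh.IsCoh M)
    (hd : topologicalKrullDim (f.base ⁻¹' ({z} : Set Y)) ≤ d) (p : ℕ) (hp : d < p) :
    Subsingleton (((Coh.Rpush f p).obj M).presheaf.stalk z) := by
  have h := (Groth.Agent.FormalVan.isZero_stalk_RpushAb f z d
    (by rw [IsHomeomorph.topologicalKrullDim_eq _ (f.fiberHomeo z).isHomeomorph]; exact hd) M hM p hp).of_iso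
    ((TopCat.Presheaf.stalkFunctor AddCommGrpCat.{u} z).mapIso
      ((sheafToPresheaf _ _).mapIso ((Groth.Agent.ModShf.rpushCompToAb f p).app M)))
  exact AddCommGrpCat.subsingleton_of_isZero h

section Prep

variable {k : Type u} [Field k] {X Y : Scheme.{u}} [X.Over (Spec (CommRingCat.of k))]
  [Y.Over (Spec (CommRingCat.of k))] [IsProper (X ↘ Spec (CommRingCat.of k))]
  [IsProper (Y ↘ Spec (CommRingCat.of k))] (π : X ⟶ Y) (U : Y.Opens) [IsIso (π ∣_ U)]

omit [X.Over (Spec (CommRingCat.of k))] [Y.Over (Spec (CommRingCat.of k))]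
  [IsProper (X ↘ Spec (CommRingCat.of k))] [IsProper (Y ↘ Spec (CommRingCat.of k))] in
lemma exists_preimage {z : Y} (hz : z ∈ U) : ∃ x : X, π x = z := by
  obtain ⟨⟨x, hx⟩, h⟩ := (π ∣_ U).surjective ⟨z, hz⟩
  exact ⟨x, (morphismRestrict_base_coe π U ⟨x, hx⟩).symm.trans (congrArg Subtype.val h)⟩

omit [X.Over (Spec (CommRingCat.of k))] [Y.Over (Spec (CommRingCat.of k))]
  [IsProper (X ↘ Spec (CommRingCat.of k))] [IsProper (Y ↘ Spec (CommRingCat.of k))] in
lemma fibre_subsingleton {z : Y} (hz : z ∈ U) : (π.base ⁻¹' ({z} : Set Y)).Subsingleton := by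
  intro a ha b hb
  have ha' : π a = z := ha
  have hb' : π b = z := hb
  have h : (π ∣_ U) ⟨a, show π a ∈ U by rw [ha']; exact hz⟩ =
      (π ∣_ U) ⟨b, show π b ∈ U by rw [hb']; exact hz⟩ := by
    apply Subtype.ext
    rw [morphismRestrict_base_coe, morphismRestrict_base_coe]
    exact ha'.trans hb'.symm
  exact congrArg Subtype.val ((π ∣_ U).homeomorph.injective h)

variable [IsIntegral X] [IsIntegral Y] [Smooth (X ↘ Spec (CommRingCat.of k))]

/-- `π_* O_X = O_Y` for a birational proper map onto a normal variety. -/
lemma nonempty_unit_iso (hYn : Pi1.IsNormalScheme Y) [Surjective π]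
    (hw : π ≫ (Y ↘ Spec (CommRingCat.of k)) = X ↘ Spec (CommRingCat.of k)) (hU : genericPoint Y ∈ U) :
    Nonempty (Coh.structureModule Y ≅ (Scheme.Modules.pushforward π).obj (Coh.structureModule X)) := by
  have hXn : Pi1.IsNormalScheme X :=
    Groth.Agent.S9791.isNormalScheme_of_smooth_field (X ↘ Spec (CommRingCat.of k))
  obtain ⟨x, hx⟩ := π.surjective (genericPoint Y)
  have h : π.base (genericPoint X) ⤳ genericPoint Y :=
    (((genericPoint_spec X).specializes trivial : genericPoint X ⤳ x).map π.continuous).trans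
      (specializes_of_eq hx)
  have heq : π.base (genericPoint X) = genericPoint Y :=
    h.antisymm ((genericPoint_spec Y).specializes trivial) |>.eq
  haveI : IsIso (π.stalkMap (genericPoint X)) := by
    have hm : π.base (genericPoint X) ∈ U := by rw [heq]; exact hU
    exact ((MorphismProperty.isomorphisms CommRingCat).arrow_mk_iso_iff
      (morphismRestrictStalkMap π U ⟨genericPoint X, hm⟩)).1
      (inferInstanceAs (IsIso ((π ∣_ U).stalkMap _)))
  haveI : IsIso (Y.presheaf.stalkSpecializes h) :=
    (Y.presheaf.stalkCongr (Inseparable.of_eq heq)).isIso_inv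
  have hsurj : Function.Surjective (CohIII.stalkToFunctionField π (genericPoint Y) h) :=
    (ConcreteCategory.bijective_of_isIso
      (Y.presheaf.stalkSpecializes h ≫ π.stalkMap (genericPoint X))).2
  have happ : ∀ V : Y.Opens, IsIso (π.app V) :=
    (Groth.Agent.S14821.result k X Y hXn hYn π hw h).2 fun x _ => hsurj x
  let v : Coh.structureModule Y ⟶ (Scheme.Modules.pushforward π).obj (Coh.structureModule X) :=
    SheafOfModules.unitToPushforwardObjUnit π.toRingCatSheafHom
  haveI : IsIso v := Groth.Agent.LFFrame.isIso_of_locally_bijective v fun s =>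
    ⟨⊤, trivial, fun V _ => haveI := happ V; ConcreteCategory.bijective_of_isIso (π.app V)⟩
  exact ⟨asIso v⟩

end Prep

/-- Let k be an algebraically closed field, Y a proper normal surface over k (irreducible of dimension 2
with integrally closed local domains), X a proper smooth surface over k, and π : X → Y a k-morphism
which restricts to an isomorphism over Y minus a closed point y and whose fibre over y is
one-dimensional (a resolution of the singularity (Y, y)). Then R¹π_* O_X = 0 (first higher direct
image of the underlying abelian sheaf) if and only if χ(X, O_X) = χ(Y, O_Y). -/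
theorem result (k : Type u) [Field k] [IsAlgClosed k]
    (X Y : Scheme.{u}) [X.Over (Spec (CommRingCat.of k))] [Y.Over (Spec (CommRingCat.of k))]
    [IsProper (X ↘ Spec (CommRingCat.of k))] [IsProper (Y ↘ Spec (CommRingCat.of k))]
    [IrreducibleSpace X] [IrreducibleSpace Y] (hdX : topologicalKrullDim X = 2)
    (hdY : topologicalKrullDim Y = 2) [Smooth (X ↘ Spec (CommRingCat.of k))]
    (hYn : Pi1.IsNormalScheme Y) (π : X ⟶ Y) [π.IsOver (Spec (CommRingCat.of k))]
    (y : Y) (hy : IsClosed ({y} : Set Y))
    (hiso : IsIso (π ∣_ (⟨({y} : Set Y)ᶜ, hy.isOpen_compl⟩ : Y.Opens)))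
    (hfib : topologicalKrullDim ((fun x : X => π.base x) ⁻¹' ({y} : Set Y)) = 1) :
    IsZero ((Coh.RpushAb π 1).obj (Coh.toAb (Coh.structureModule X))) ↔
      Curv2.euler k X (Coh.structureModule X) = Curv2.euler k Y (Coh.structureModule Y) := by
  classical
  haveI := hiso
  let U : Y.Opens := ⟨({y} : Set Y)ᶜ, hy.isOpen_compl⟩
  have hw : π ≫ (Y ↘ Spec (CommRingCat.of k)) = X ↘ Spec (CommRingCat.of k) := comp_over π _
  haveI : IsProper π := Groth.Agent.Fibration.isProper_of_over π _ _ hw
  haveI : IsLocallyNoetherian Y := Groth.Agent.EulerChar.isLocallyNoetherian k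
  haveI : IsLocallyNoetherian X := Groth.Agent.EulerChar.isLocallyNoetherian k
  -- `U` is dense
  have hUne : (U : Set Y).Nonempty := by
    by_contra hne
    rw [Set.not_nonempty_iff_eq_empty] at hne
    have huniv : (fun x : X => π.base x) ⁻¹' ({y} : Set Y) = Set.univ := by
      refine Set.eq_univ_of_forall fun x => ?_
      by_contra hx
      have : π.base x ∈ (U : Set Y) := hx
      rw [hne] at this
      exact this
    rw [huniv, IsHomeomorph.topologicalKrullDim_eq _ (Homeomorph.Set.univ X).isHomeomorph, hdX] at hfib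
    exact absurd hfib (by norm_num)
  haveI : Surjective π := ⟨fun z => by
    have hc : IsClosed (Set.range π.base) := π.isClosedMap.isClosed_range
    have hs : (U : Set Y) ⊆ Set.range π.base := fun z hz => exists_preimage π U hz
    exact hc.closure_subset_iff.2 hs (U.2.dense hUne z)⟩
  haveI : AlgebraicGeometry.IsReduced Y := by
    haveI : ∀ z : Y, _root_.IsReduced (Y.presheaf.stalk z) := fun z =>
      haveI := (hYn z).1; inferInstance
    exact isReduced_of_isReduced_stalk Y
  haveI : AlgebraicGeometry.IsReduced X := by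
    haveI : ∀ z : X, _root_.IsReduced (X.presheaf.stalk z) := fun z =>
      haveI := (Groth.Agent.S9791.isNormalScheme_of_smooth_field (X ↘ Spec (CommRingCat.of k)) z).1
      inferInstance
    exact isReduced_of_isReduced_stalk X
  haveI : IsIntegral X := isIntegral_of_irreducibleSpace_of_isReduced X
  haveI : IsIntegral Y := isIntegral_of_irreducibleSpace_of_isReduced Y
  have hgen : genericPoint Y ∈ U :=
    (genericPoint_spec Y).mem_open_set_iff U.2 |>.2 (by simpa using hUne)
  let G := Coh.structureModule X
  have hG : Coh.IsCoh G := Groth.Agent.ProperFin.isCoh_structureModule X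
  have hcoh : ∀ i, Coh.IsCoh ((Coh.Rpush π i).obj G) := fun i => Groth.Agent.S0036.result π G hG i
  -- stalks of higher direct images
  have hfib1 : ∀ z : Y, topologicalKrullDim (π.base ⁻¹' ({z} : Set Y)) ≤ (1 : ℕ) := by
    intro z
    by_cases hz : z = y
    · subst hz
      exact le_of_eq hfib
    · exact (dim_le_zero_of_subsingleton (fibre_subsingleton π U hz)).trans (by norm_num)
  have hvan : ∀ i, 2 ≤ i → IsZero ((Coh.Rpush π i).obj G) := fun i hi =>
    isZero_of_stalks fun z => subsingleton_stalk_rpush
      π z 1 G hG (hfib1 z) i (by omega)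
  have hsupp : topologicalKrullDim (CohB1.support ((Coh.Rpush π 1).obj G)) ≤ 0 := by
    refine dim_le_zero_of_subsingleton (Set.subsingleton_singleton.anti (t := {y}) fun z hz => ?_)
    by_contra hzy
    exact hz (subsingleton_stalk_rpush π z 0 G hG
      (by simpa using dim_le_zero_of_subsingleton (fibre_subsingleton π U hzy)) 1 one_pos)
  -- the Euler characteristics
  obtain ⟨e⟩ := nonempty_unit_iso π U hYn hw hgen
  have h0 : Curv2.euler k Y ((Coh.Rpush π 0).obj G) = Curv2.euler k Y (Coh.structureModule Y) :=
    Groth.Agent.EulerChar.euler_iso k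
      ((Scheme.Modules.pushforward π).rightDerivedZeroIsoSelf.app G ≪≫ e.symm)
  have hχ : Curv2.euler k X G =
      Curv2.euler k Y (Coh.structureModule Y) - Curv2.euler k Y ((Coh.Rpush π 1).obj G) := by
    rw [Groth.Agent.EulerChar.euler_leray π hw G hG,
      finsum_eq_sum_of_support_subset (s := Finset.range 2) _ (fun i hi => by
        by_contra hn
        simp only [Finset.coe_range, Set.mem_Iio, not_lt] at hn
        exact hi (by simp [Groth.Agent.EulerChar.euler_of_isZero k (hvan i hn)]))]
    simp [Finset.sum_range_succ, h0]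
    ring
  -- abelian sheaves versus modules
  let a := (Groth.Agent.ModShf.rpushCompToAb π 1).app G
  constructor
  · intro hz
    have hz' : IsZero ((Coh.Rpush π 1).obj G) := by
      rw [IsZero.iff_id_eq_zero]
      haveI : (Groth.Agent.ModShf.toAbFunctor Y).Faithful :=
        (inferInstance : (SheafOfModules.toSheaf.{u} Y.ringCatSheaf).Faithful)
      apply (Groth.Agent.ModShf.toAbFunctor Y).map_injective
      exact (hz.of_iso a).eq_of_src _ _
    rw [hχ, Groth.Agent.EulerChar.euler_of_isZero k hz', sub_zero]
  · intro h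
    have hz : IsZero ((Coh.Rpush π 1).obj G) :=
      Groth.Agent.EulerChar.isZero_of_euler_eq_zero k (hcoh 1) hsupp (by rw [hχ] at h; linarith)
    exact ((Groth.Agent.ModShf.toAbFunctor Y).map_isZero hz).of_iso a.symm

end Groth.Agent.S13129
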