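import Groth.Statements.S13131
import Mathlib.AlgebraicGeometry.Limits

set_option autoImplicit false
universe u
open CategoryTheory CategoryTheory.Limits AlgebraicGeometry
open KumFam

namespace Groth.Agent.S13131

/-- Let S be a scheme, M a set and p : T → S a scheme over S. The S-morphisms T → ∐_{m ∈ M} S (the
constant S-scheme on M, with its structure map the codiagonal) are in bijection with the locally
constant maps T → M, a morphism f corresponding to the function sending t to the index of the copy
of S containing f(t). (In the published statement M is a group and ∐_M S the constant group scheme;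
the group structures play no role in this description of T-points.) -/
theorem result (S : Scheme.{u}) (M : Type u)
    (T : Scheme.{u}) (p : T ⟶ S) :
    ∃ e : {f : T ⟶ ∐ (fun _ : M => S) // f ≫ Sigma.desc (fun _ : M => 𝟙 S) = p} ≃
        LocallyConstant T M,
      ∀ (f : {f : T ⟶ ∐ (fun _ : M => S) // f ≫ Sigma.desc (fun _ : M => 𝟙 S) = p}) (t : T),
        e f t = ((sigmaMk (fun _ : M => S)).symm (f.1.base t)).1 := by
  classical
  let g : M → Scheme.{u} := fun _ => S
  let idx : {f : T ⟶ ∐ g // f ≫ Sigma.desc (fun _ : M => 𝟙 S) = p} → LocallyConstant T M := fun f =>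
    ⟨fun t => ((sigmaMk g).symm (f.1.base t)).1, (IsLocallyConstant.iff_isOpen_fiber).2 fun m => by
      have h : IsOpen {z : Σ _ : M, S | z.1 = m} := by
        rw [isOpen_sigma_iff]
        intro i
        by_cases hi : i = m
        · subst hi; simp
        · simp [Set.preimage, hi]
      exact h.preimage ((sigmaMk g).symm.continuous.comp f.1.continuous)⟩
  have hidx : ∀ (f : T ⟶ ∐ g) (t : T) (m : M) (s : S), f.base t = (Sigma.ι g m).base s →
      ((sigmaMk g).symm (f.base t)).1 = m := fun f t m s h => by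
    rw [h, show (Sigma.ι g m).base s = sigmaMk g ⟨m, s⟩ from (sigmaMk_mk g m s).symm, Homeomorph.symm_apply_apply]
  have hmem : ∀ (f : T ⟶ ∐ g) (t : T), ∃ s : S, f.base t = (Sigma.ι g ((sigmaMk g).symm (f.base t)).1).base s := by
    intro f t
    refine ⟨((sigmaMk g).symm (f.base t)).2, ?_⟩
    exact ((sigmaMk g).apply_symm_apply (f.base t)).symm.trans (sigmaMk_mk g _ _)
  have hinj : Function.Injective idx := by
    rintro ⟨f, hf⟩ ⟨f', hf'⟩ h
    refine Subtype.ext ?_
    let V : M → T.Opens := fun m => ⟨{t | idx ⟨f, hf⟩ t = m}, (idx ⟨f, hf⟩).isLocallyConstant.isOpen_fiber m⟩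
    have hV : iSup V = ⊤ := TopologicalSpace.Opens.ext (Set.eq_univ_of_forall fun t => by
      simp [V])
    refine (T.openCoverOfIsOpenCover V hV).hom_ext _ _ fun (m : M) => ?_
    have hr : ∀ (f'' : T ⟶ ∐ g), (∀ t, ((sigmaMk g).symm (f''.base t)).1 = idx ⟨f, hf⟩ t) →
        f'' ≫ Sigma.desc (fun _ : M => 𝟙 S) = p → (V m).ι ≫ f'' = (V m).ι ≫ p ≫ Sigma.ι g m := by
      intro f'' hidx' hp
      have hrange : Set.range ((V m).ι ≫ f'') ⊆ Set.range (Sigma.ι g m) := by
        rintro _ ⟨t, rfl⟩
        obtain ⟨s, hs⟩ := hmem f'' ((V m).ι t)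
        have e : ((sigmaMk g).symm (f''.base ((V m).ι t))).1 = m := (hidx' _).trans t.2
        refine ⟨e ▸ s, ?_⟩
        rw [Scheme.Hom.comp_apply]
        generalize ((sigmaMk g).symm (f''.base ((V m).ι t))).1 = i at e hs s
        subst e
        exact hs.symm
      have hl : IsOpenImmersion.lift (Sigma.ι g m) _ hrange = (V m).ι ≫ p := by
        have h1 := congrArg (· ≫ Sigma.desc (fun _ : M => 𝟙 S)) (IsOpenImmersion.lift_fac (Sigma.ι g m) _ hrange)
        simp only [g, Category.assoc, Sigma.ι_desc, Category.comp_id] at h1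
        exact h1.trans (congrArg ((V m).ι ≫ ·) hp)
      rw [← IsOpenImmersion.lift_fac (Sigma.ι g m) _ hrange, hl, Category.assoc]
    exact (hr f (fun t => rfl) hf).trans (hr f' (fun t => (DFunLike.congr_fun h t).symm) hf').symm
  have hsurj : Function.Surjective idx := by
    intro c
    let V : M → T.Opens := fun m => ⟨{t | c t = m}, c.isLocallyConstant.isOpen_fiber m⟩
    have hV : iSup V = ⊤ := TopologicalSpace.Opens.ext (Set.eq_univ_of_forall fun t => by
      simp [V])
    let 𝒰 := T.openCoverOfIsOpenCover V hV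
    let F : T ⟶ ∐ g := 𝒰.glueMorphisms (fun m => (V m).ι ≫ p ≫ Sigma.ι g m) fun (i j : M) => by
      by_cases hij : i = j
      · subst hij
        change pullback.fst (V i).ι (V i).ι ≫ _ = pullback.snd (V i).ι (V i).ι ≫ _
        rw [(cancel_mono (V i).ι).1 (show pullback.fst (V i).ι (V i).ι ≫ (V i).ι = pullback.snd (V i).ι (V i).ι ≫ (V i).ι
          from pullback.condition)]
      · have : IsEmpty ↑(pullback (V i).ι (V j).ι) := ⟨fun z => hij (by
          have h1 : c ((V i).ι (pullback.fst (V i).ι (V j).ι z)) = i := (pullback.fst (V i).ι (V j).ι z).2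
          have h2 : c ((V j).ι (pullback.snd (V i).ι (V j).ι z)) = j := (pullback.snd (V i).ι (V j).ι z).2
          rw [← Scheme.Hom.comp_apply] at h1 h2
          rw [pullback.condition] at h1
          exact h1.symm.trans h2)⟩
        change pullback.fst (V i).ι (V j).ι ≫ _ = pullback.snd (V i).ι (V j).ι ≫ _
        exact (isInitialOfIsEmpty).hom_ext _ _
    have hF : ∀ m, (V m).ι ≫ F = (V m).ι ≫ p ≫ Sigma.ι g m := fun m => 𝒰.ι_glueMorphisms _ _ m
    have hFp : F ≫ Sigma.desc (fun _ : M => 𝟙 S) = p := by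
      refine 𝒰.hom_ext _ _ fun (m : M) => ?_
      change (V m).ι ≫ F ≫ _ = (V m).ι ≫ p
      rw [← Category.assoc, hF]
      simp [g]
    refine ⟨⟨F, hFp⟩, LocallyConstant.ext fun t => ?_⟩
    refine hidx F t (c t) (p t) ?_
    have h := congrArg (fun φ => φ.base (⟨t, rfl⟩ : V (c t))) (hF (c t))
    exact h
  exact ⟨Equiv.ofBijective idx ⟨hinj, hsurj⟩, fun f t => rfl⟩

end Groth.Agent.S13131
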