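import Groth.Statements.S13132
import Groth.Agent.FlatArtin.Basic
-- import your own Groth.Agent.* helpers here

set_option autoImplicit false
universe u v
open CAlg

namespace Groth.Agent.S13132

/-- Let A' be an Artinian local ring, I a proper ideal of A' and S' a flat A'-algebra. An element f' of
S' is a non-zero-divisor exactly when its image in S'/IS' is one; and when f' is a non-zero-divisor,
the quotient S'/(f') is flat over A'. (The published statement is for local Artinian algebras with a
fixed residue field over a ring of Witt vectors and a surjection between two of them; the argument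
uses only that A' is Artinian local and I is a proper ideal, which is the form taken here.) -/
theorem result
    {A' : Type u} [CommRing A'] [IsArtinianRing A'] [IsLocalRing A'] (I : Ideal A') (hI : I ≠ ⊤)
    {S' : Type v} [CommRing S'] [Algebra A' S'] [Module.Flat A' S'] (f' : S') :
    (f' ∈ nonZeroDivisors S' ↔
      Ideal.Quotient.mk (I.map (algebraMap A' S')) f' ∈ nonZeroDivisors (S' ⧸ I.map (algebraMap A' S'))) ∧
    (f' ∈ nonZeroDivisors S' → Module.Flat A' (S' ⧸ Ideal.span {f'})) := by
  have key : f' ∈ nonZeroDivisors S' ↔ RingTheory.Sequence.IsWeaklyRegular S' [f'] := by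
    rw [mem_nonZeroDivisors_iff_right, RingTheory.Sequence.isWeaklyRegular_singleton_iff,
      isSMulRegular_iff_right_eq_zero_of_smul]
    simp [smul_eq_mul, mul_comm]
  have key' : Ideal.Quotient.mk (I.map (algebraMap A' S')) f' ∈ nonZeroDivisors (S' ⧸ I.map (algebraMap A' S')) ↔
      RingTheory.Sequence.IsWeaklyRegular (S' ⧸ I.map (algebraMap A' S'))
        [Ideal.Quotient.mk (I.map (algebraMap A' S')) f'] := by
    rw [mem_nonZeroDivisors_iff_right, RingTheory.Sequence.isWeaklyRegular_singleton_iff,
      isSMulRegular_iff_right_eq_zero_of_smul]
    simp [smul_eq_mul, mul_comm]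
  refine ⟨?_, fun h => ?_⟩
  · rw [key, key']
    exact FlatArtin.isWeaklyRegular_iff_mod hI [f']
  · haveI := FlatArtin.flat_of_isWeaklyRegular (A := A') (key.1 h)
    exact Module.Flat.of_linearEquiv
      (Ideal.quotientEquivAlgOfEq A' (Ideal.ofList_singleton f')).symm.toLinearEquiv

end Groth.Agent.S13132
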