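import Groth.Statements.S13133
import Groth.Agent.FlatArtin.Basic
-- import your own Groth.Agent.* helpers here

set_option autoImplicit false
universe u v
open CAlg

namespace Groth.Agent.S13133

/-- Let A' be an Artinian local ring, I a proper ideal of A', S' a flat A'-algebra and f'_1, …, f'_n
elements of S' with n ≥ 1. A family f'_1, …, f'_n in S' is a regular sequence exactly when its
reduction modulo I·S' is a regular sequence of S'/IS'. (Regular sequences are defined in the
published text over Noetherian rings; this row does not assume S' Noetherian, which the argument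
does not use. The published statement is for a surjection of local Artinian algebras with a fixed
residue field over a ring of Witt vectors; only the Artinian local base and the proper ideal are
used, which is the form taken here.) -/
theorem result
    {A' : Type u} [CommRing A'] [IsArtinianRing A'] [IsLocalRing A'] (I : Ideal A') (hI : I ≠ ⊤)
    {S' : Type v} [CommRing S'] [Algebra A' S'] [Module.Flat A' S'] {n : ℕ} (hn : 1 ≤ n)
    (f' : Fin n → S') :
    RingTheory.Sequence.IsRegular S' (List.ofFn f') ↔
      RingTheory.Sequence.IsRegular (S' ⧸ I.map (algebraMap A' S'))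
        (List.ofFn fun i => Ideal.Quotient.mk (I.map (algebraMap A' S')) (f' i)) := by
  have hw := FlatArtin.isWeaklyRegular_iff_mod (A := A') hI (List.ofFn f')
  rw [List.map_ofFn] at hw
  rw [RingTheory.Sequence.isRegular_iff, RingTheory.Sequence.isRegular_iff]
  refine and_congr hw (not_congr ?_)
  rw [smul_eq_mul, Ideal.mul_top, smul_eq_mul, Ideal.mul_top, eq_comm, eq_comm (a := (⊤ : Ideal (_ ⧸ _)))]
  have hof : Ideal.ofList (List.ofFn fun i => Ideal.Quotient.mk (I.map (algebraMap A' S')) (f' i)) =
      (Ideal.ofList (List.ofFn f')).map (Ideal.Quotient.mk (I.map (algebraMap A' S'))) := by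
    rw [Ideal.map_ofList, List.map_ofFn]
    rfl
  rw [hof]
  refine ⟨fun h => by rw [h, Ideal.map_top], fun h => ?_⟩
  have h1 := congrArg (Ideal.comap (Ideal.Quotient.mk (I.map (algebraMap A' S')))) h
  rw [Ideal.comap_map_of_surjective _ Ideal.Quotient.mk_surjective, ← RingHom.ker_eq_comap_bot,
    Ideal.mk_ker, Ideal.comap_top, Ideal.eq_top_iff_one] at h1
  obtain ⟨a, ha, j, hj, haj⟩ := Submodule.mem_sup.1 h1
  have hnil : IsNilpotent j := by
    obtain ⟨k, hk⟩ := FlatArtin.isNilpotent_of_ne_top hI
    refine ⟨k, ?_⟩
    have := Ideal.pow_mem_pow hj k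
    rwa [← Ideal.map_pow, hk, Ideal.zero_eq_bot, Ideal.map_bot, Ideal.mem_bot] at this
  refine Ideal.eq_top_of_isUnit_mem _ ha ?_
  rw [show a = 1 - j by rw [← haj]; ring]
  exact hnil.isUnit_one_sub

end Groth.Agent.S13133
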