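import Groth.Statements.S13134
import Groth.Agent.FlatArtin.Basic
-- import your own Groth.Agent.* helpers here

set_option autoImplicit false
universe u v
open CAlg

namespace Groth.Agent.S13134

/-- Let A' be an Artinian local ring, I a proper ideal, A = A'/I and f_1, …, f_m ∈ A[x_1, …, x_n]. Every
flat A'-algebra B' equipped with a surjection π onto A[x]/(f_1, …, f_m) with kernel I·B', compatible
with A' → A, is a quotient of A'[x_1, …, x_n] by the ideal generated by some lifts f'_1, …, f'_m of
the f_i, compatibly with π and with reduction of polynomials modulo I. (The published statement is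
for a surjection of local Artinian algebras with a fixed residue field over a ring of Witt vectors;
only the Artinian local base and the proper ideal are used, which is the form taken here.) -/
theorem result
    {A' : Type u} [CommRing A'] [IsArtinianRing A'] [IsLocalRing A'] (I : Ideal A') (hI : I ≠ ⊤)
    {n m : ℕ} (f : Fin m → MvPolynomial (Fin n) (A' ⧸ I))
    {B' : Type v} [CommRing B'] [Algebra A' B'] [Module.Flat A' B']
    (π : B' →+* MvPolynomial (Fin n) (A' ⧸ I) ⧸ Ideal.span (Set.range f))
    (hπ : Function.Surjective π) (hker : RingHom.ker π = I.map (algebraMap A' B'))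
    (hcomp : π.comp (algebraMap A' B') =
      ((Ideal.Quotient.mk (Ideal.span (Set.range f))).comp MvPolynomial.C).comp (Ideal.Quotient.mk I)) :
    ∃ (f' : Fin m → MvPolynomial (Fin n) A') (ψ : MvPolynomial (Fin n) A' →ₐ[A'] B'),
      (∀ i, MvPolynomial.map (Ideal.Quotient.mk I) (f' i) = f i) ∧
      Function.Surjective ψ ∧ RingHom.ker ψ.toRingHom = Ideal.span (Set.range f') ∧
      ∀ q, π (ψ q) = Ideal.Quotient.mk (Ideal.span (Set.range f)) (MvPolynomial.map (Ideal.Quotient.mk I) q) := by
  classical
  choose b hb using fun i => hπ (Ideal.Quotient.mk (Ideal.span (Set.range f)) (MvPolynomial.X i))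
  let ψ : MvPolynomial (Fin n) A' →ₐ[A'] B' := MvPolynomial.aeval b
  have hcomp' : ∀ q, π (ψ q) =
      Ideal.Quotient.mk (Ideal.span (Set.range f)) (MvPolynomial.map (Ideal.Quotient.mk I) q) := by
    intro q
    have : π.comp ψ.toRingHom = (Ideal.Quotient.mk (Ideal.span (Set.range f))).comp
        (MvPolynomial.map (Ideal.Quotient.mk I)) := by
      refine MvPolynomial.ringHom_ext (fun a => ?_) fun i => ?_
      · simp only [ψ, RingHom.comp_apply, AlgHom.toRingHom_eq_coe, RingHom.coe_coe, MvPolynomial.aeval_C,
          MvPolynomial.map_C]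
        exact RingHom.congr_fun hcomp a
      · simp only [ψ, RingHom.comp_apply, AlgHom.toRingHom_eq_coe, RingHom.coe_coe, MvPolynomial.aeval_X,
          MvPolynomial.map_X]
        exact hb i
    exact RingHom.congr_fun this q
  obtain ⟨N, hN⟩ := FlatArtin.isNilpotent_of_ne_top hI
  have hsurj : Function.Surjective ψ := by
    have step : ∀ x : B', ∃ q, x - ψ q ∈ I.map (algebraMap A' B') := by
      intro x
      obtain ⟨q, hq⟩ := Ideal.Quotient.mk_surjective (π x)
      obtain ⟨q, rfl⟩ := MvPolynomial.map_surjective (Ideal.Quotient.mk I) Ideal.Quotient.mk_surjective q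
      exact ⟨q, by rw [← hker, RingHom.mem_ker, map_sub, hcomp', hq, sub_self]⟩
    have all : ∀ k : ℕ, ∀ x : B', ∃ q, x - ψ q ∈ (I ^ k).map (algebraMap A' B') := by
      intro k
      induction k with
      | zero => exact fun x => ⟨0, by simp [Ideal.map_top]⟩
      | succ k ih =>
        intro x
        obtain ⟨q, hq⟩ := ih x
        suffices H : ∀ y ∈ (I ^ k).map (algebraMap A' B'),
            ∃ q, y - ψ q ∈ (I ^ (k + 1)).map (algebraMap A' B') by
          obtain ⟨q', hq'⟩ := H _ hq
          exact ⟨q + q', by rw [map_add, ← sub_sub]; exact hq'⟩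
        intro y hy
        rw [Ideal.map, Ideal.span] at hy
        induction hy using Submodule.span_induction with
        | mem y hy =>
          obtain ⟨a, ha, rfl⟩ := hy
          exact ⟨MvPolynomial.C a, by simp [ψ]⟩
        | zero => exact ⟨0, by simp⟩
        | add y z _ _ hy hz =>
          obtain ⟨q₁, h₁⟩ := hy
          obtain ⟨q₂, h₂⟩ := hz
          exact ⟨q₁ + q₂, by rw [map_add, add_sub_add_comm]; exact add_mem h₁ h₂⟩
        | smul c y hym hy =>
          obtain ⟨q₁, h₁⟩ := hy
          obtain ⟨q₂, h₂⟩ := step c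
          refine ⟨q₂ * q₁, ?_⟩
          have e : c • y - ψ (q₂ * q₁) = (c - ψ q₂) * y + ψ q₂ * (y - ψ q₁) := by
            rw [smul_eq_mul, map_mul]; ring
          rw [e]
          refine add_mem ?_ (Ideal.mul_mem_left _ _ h₁)
          rw [pow_succ', Ideal.map_mul]
          exact Ideal.mul_mem_mul h₂ hym
    intro x
    obtain ⟨q, hq⟩ := all N x
    rw [hN, Ideal.zero_eq_bot, Ideal.map_bot, Ideal.mem_bot, sub_eq_zero] at hq
    exact ⟨q, hq.symm⟩
  let P := MvPolynomial (Fin n) A'
  let J : Ideal P := I.map (algebraMap A' P)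
  have hkerφ : RingHom.ker (MvPolynomial.map (Ideal.Quotient.mk I) :
      P →+* MvPolynomial (Fin n) (A' ⧸ I)) = J := by
    rw [MvPolynomial.ker_map, Ideal.mk_ker]; rfl
  have hlift : ∀ i, ∃ g : P, MvPolynomial.map (Ideal.Quotient.mk I) g = f i ∧ ψ g = 0 := by
    intro i
    obtain ⟨g, hg⟩ := MvPolynomial.map_surjective (Ideal.Quotient.mk I) Ideal.Quotient.mk_surjective (f i)
    have h1 : ψ g ∈ I.map (algebraMap A' B') := by
      rw [← hker, RingHom.mem_ker, hcomp', hg, Ideal.Quotient.eq_zero_iff_mem]
      exact Ideal.subset_span ⟨i, rfl⟩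
    have h2 : ψ g ∈ J.map ψ.toRingHom := by
      rwa [Ideal.map_map, show ψ.toRingHom.comp (algebraMap A' P) = algebraMap A' B' from ψ.comp_algebraMap]
    obtain ⟨h, hh, hhg⟩ := (Ideal.mem_map_iff_of_surjective ψ.toRingHom hsurj).1 h2
    refine ⟨g - h, ?_, by rw [map_sub, ← hhg]; exact sub_self _⟩
    rw [← hkerφ, RingHom.mem_ker] at hh
    rw [map_sub, hh, sub_zero, hg]
  choose f' hf' hψf using hlift
  refine ⟨f', ψ, hf', hsurj, le_antisymm ?_ ?_, hcomp'⟩
  · have hle : RingHom.ker ψ.toRingHom ≤ Ideal.span (Set.range f') ⊔ J * RingHom.ker ψ.toRingHom := by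
      intro x hx
      have h1 : MvPolynomial.map (Ideal.Quotient.mk I) x ∈
          (Ideal.span (Set.range f')).map (MvPolynomial.map (Ideal.Quotient.mk I)) := by
        rw [Ideal.map_span, ← Set.range_comp, show (MvPolynomial.map (Ideal.Quotient.mk I)) ∘ f' = f from funext hf',
          ← Ideal.Quotient.eq_zero_iff_mem, ← hcomp', show ψ x = 0 from hx, map_zero]
      obtain ⟨y, hy, hyx⟩ := (Ideal.mem_map_iff_of_surjective _
        (MvPolynomial.map_surjective _ Ideal.Quotient.mk_surjective)).1 h1
      have hxyJ : x - y ∈ J := by rw [← hkerφ, RingHom.mem_ker, map_sub, hyx, sub_self]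
      have hyK : ψ y = 0 := by
        have : Ideal.span (Set.range f') ≤ RingHom.ker ψ := Ideal.span_le.2 (by
          rintro _ ⟨i, rfl⟩; exact hψf i)
        exact this hy
      have hxyK : ψ (x - y) = 0 := by rw [map_sub, hyK, sub_zero]; exact hx
      refine Submodule.mem_sup.2 ⟨y, hy, x - y, ?_, by ring⟩
      rw [show J = I.map (algebraMap A' P) from rfl, Ideal.map, Ideal.span, Submodule.mem_span_set'] at hxyJ
      obtain ⟨k, c, g, hg⟩ := hxyJ
      choose a ha hga using fun i => (g i).2
      have hrel : ∑ i, a i • ψ (c i) = 0 := by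
        rw [← hxyK, ← hg, map_sum]
        refine Finset.sum_congr rfl fun i _ => ?_
        rw [← hga i, smul_eq_mul, map_mul, AlgHom.commutes, Algebra.smul_def, mul_comm]
      obtain ⟨l, d, w, hw, hd⟩ := Module.Flat.isTrivialRelation_of_sum_smul_eq_zero (R := A') (M := B') hrel
      choose w' hw' using fun j => hsurj (w j)
      have hsum : ∑ i, algebraMap A' P (a i) * (∑ j, d i j • w' j) = 0 := by
        have : ∀ i, algebraMap A' P (a i) * (∑ j, d i j • w' j) = ∑ j, (a i * d i j) • w' j := fun i => by
          rw [Finset.mul_sum]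
          exact Finset.sum_congr rfl fun j _ => by rw [Algebra.smul_def, Algebra.smul_def, map_mul, mul_assoc]
        rw [Finset.sum_congr rfl fun i _ => this i, Finset.sum_comm]
        exact Finset.sum_eq_zero fun j _ => by rw [← Finset.sum_smul, hd j, zero_smul]
      have hx2 : x - y = ∑ i, algebraMap A' P (a i) * (c i - ∑ j, d i j • w' j) := by
        simp only [mul_sub, Finset.sum_sub_distrib, hsum, sub_zero, ← hg]
        exact Finset.sum_congr rfl fun i _ => by rw [← hga i, smul_eq_mul, mul_comm]
      rw [hx2]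
      refine Ideal.sum_mem _ fun i _ => Ideal.mul_mem_mul (Ideal.mem_map_of_mem _ (ha i)) ?_
      show ψ (c i - ∑ j, d i j • w' j) = 0
      rw [map_sub, map_sum, show ψ (c i) = _ from hw i, sub_eq_zero]
      exact Finset.sum_congr rfl fun j _ => by rw [map_smul, hw']
    have hpow : ∀ k, RingHom.ker ψ.toRingHom ≤ Ideal.span (Set.range f') ⊔ J ^ k := by
      intro k
      induction k with
      | zero => simp
      | succ k ih =>
        refine hle.trans (sup_le le_sup_left ((Ideal.mul_mono_right ih).trans ?_))
        rw [Ideal.mul_sup, ← pow_succ']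
        exact sup_le_sup_right Ideal.mul_le_right _
    have hJN : J ^ N = ⊥ := by rw [← Ideal.map_pow, hN, Ideal.zero_eq_bot, Ideal.map_bot]
    simpa [hJN] using hpow N
  · rw [Ideal.span_le]
    rintro _ ⟨i, rfl⟩
    exact hψf i

end Groth.Agent.S13134
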