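import Groth.Statements.S13137
import Groth.Agent.FrobW.W2

set_option autoImplicit false
universe u v
open FrobAlg

namespace Groth.Agent.S13137

/-- For a perfect field k of characteristic p, a flat W₂(k)-algebra B and an ideal J of B, the quotient
B/J is flat over W₂(k) if and only if (p) ∩ J = pJ in B. (With B a flat lifting of A = B/pB this
says: B/J is a flat lifting of A modulo the image of J exactly when (p) ∩ J = pJ.) -/
theorem result
    (p : ℕ) [Fact p.Prime] (k : Type u) [Field k] [CharP k p] [PerfectRing k p]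
    (B : Type v) [CommRing B] [Algebra (FrobAlg.W2 p k) B] [Module.Flat (FrobAlg.W2 p k) B]
    (J : Ideal B) :
    Module.Flat (FrobAlg.W2 p k) (B ⧸ J) ↔
      Ideal.span {(p : B)} ⊓ J = Ideal.span {(p : B)} * J := by
  set P := (p : FrobAlg.W2 p k)
  have hsm : ∀ b : B, P • b = (p : B) * b := fun b => by rw [Algebra.smul_def, map_natCast]
  have hB := (Groth.Agent.FrobW.W2.flat_iff p k B).1 inferInstance
  rw [Groth.Agent.FrobW.W2.flat_iff]
  constructor
  · intro h
    refine le_antisymm ?_ (Ideal.mul_le_inf)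
    rintro x ⟨hx, hxJ⟩
    obtain ⟨b, rfl⟩ := Ideal.mem_span_singleton'.1 hx
    obtain ⟨m', hm'⟩ := h (Ideal.Quotient.mk J b) (by
      change Ideal.Quotient.mk J (P • b) = 0
      rw [hsm, Ideal.Quotient.eq_zero_iff_mem, mul_comm]
      exact hxJ)
    obtain ⟨b', rfl⟩ := Ideal.Quotient.mk_surjective m'
    change Ideal.Quotient.mk J b = Ideal.Quotient.mk J (P • b') at hm'
    rw [hsm, Ideal.Quotient.eq] at hm'
    have hp2 : (p : B) ^ 2 = 0 := by
      rw [← map_natCast (algebraMap (FrobAlg.W2 p k) B), ← map_pow, Groth.Agent.FrobW.W2.natCast_sq, map_zero]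
    rw [show b * (p : B) = (p : B) * (b - (p : B) * b') by linear_combination b' * hp2]
    exact Ideal.mul_mem_mul (Ideal.mem_span_singleton_self _) hm'
  · intro h m hm
    obtain ⟨b, rfl⟩ := Ideal.Quotient.mk_surjective m
    change Ideal.Quotient.mk J (P • b) = 0 at hm
    rw [hsm, Ideal.Quotient.eq_zero_iff_mem] at hm
    have hmem : (p : B) * b ∈ Ideal.span {(p : B)} * J := by
      rw [← h]; exact ⟨Ideal.mul_mem_right _ _ (Ideal.mem_span_singleton_self _), hm⟩
    obtain ⟨j, hj, hj'⟩ := Ideal.mem_span_singleton_mul.1 hmem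
    obtain ⟨b', hb'⟩ := hB (b - j) (by rw [hsm, mul_sub, hj', sub_self])
    refine ⟨Ideal.Quotient.mk J b', ?_⟩
    change Ideal.Quotient.mk J b = Ideal.Quotient.mk J (P • b')
    rw [Ideal.Quotient.eq, ← hb', sub_sub_cancel]
    exact hj

end Groth.Agent.S13137
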