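import Groth.Statements.S13138
import Groth.Agent.FrobW.Witt
import Groth.Agent.S13137
import Mathlib.Algebra.MvPolynomial.PDeriv
import Mathlib.RingTheory.Polynomial.Basic
import Mathlib.Tactic.LinearCombination
import Mathlib.LinearAlgebra.FreeModule.Basic

set_option autoImplicit false
universe u
open scoped BigOperators
open FrobAlg

namespace Groth.Agent.S13138

section

variable (p : ℕ) [Fact p.Prime] (k : Type u) [Field k] [CharP k p] [PerfectRing k p] (n : ℕ)

local notation "W" => FrobAlg.W2 p k
local notation "P" => MvPolynomial (Fin n) (FrobAlg.W2 p k)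

theorem natCast_mul_self : (p : P) * (p : P) = 0 := by
  rw [← sq, ← map_natCast (MvPolynomial.C : W →+* P), ← map_pow, Groth.Agent.FrobW.W2.natCast_sq, map_zero]

theorem ker_map_res : RingHom.ker (MvPolynomial.map (σ := Fin n) (FrobAlg.res p k)) = Ideal.span {(p : P)} := by
  rw [MvPolynomial.ker_map, Groth.Agent.FrobW.Witt.ker_res, Ideal.map_span, Set.image_singleton, map_natCast]

theorem res_sigma (a : W) : FrobAlg.res p k (FrobAlg.sigma p k a) = FrobAlg.res p k a ^ p := by
  simp [WittGrp.coeff_frob]

theorem map_polyFrob (f : P) :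
    MvPolynomial.map (FrobAlg.res p k) (FrobAlg.polyFrob p k (Fin n) f) = MvPolynomial.map (FrobAlg.res p k) f ^ p := by
  have : (MvPolynomial.map (FrobAlg.res p k)).comp (FrobAlg.polyFrob p k (Fin n)) =
      (frobenius (MvPolynomial (Fin n) k) p).comp (MvPolynomial.map (FrobAlg.res p k)) :=
    MvPolynomial.ringHom_ext
      (fun a => by simp only [RingHom.comp_apply, FrobAlg.polyFrob, MvPolynomial.eval₂Hom_C, MvPolynomial.map_C, frobenius_def, ← map_pow, res_sigma])
      (fun i => by simp [FrobAlg.polyFrob, frobenius_def])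
  exact RingHom.congr_fun this f

theorem natCast_mul_polyFrob (f : P) : (p : P) * FrobAlg.polyFrob p k (Fin n) f = (p : P) * f ^ p := by
  have h : FrobAlg.polyFrob p k (Fin n) f - f ^ p ∈ Ideal.span {(p : P)} := by
    rw [← ker_map_res, RingHom.mem_ker, map_sub, map_polyFrob, map_pow, sub_self]
  obtain ⟨c, hc⟩ := Ideal.mem_span_singleton.1 h
  rw [← sub_eq_zero, ← mul_sub, hc, ← mul_assoc, natCast_mul_self, zero_mul]

/-- A perturbation of the standard Frobenius lift. -/
noncomputable def pert (h : Fin n → P) : P →+* P :=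
  MvPolynomial.eval₂Hom (MvPolynomial.C.comp (FrobAlg.sigma p k)) fun j => MvPolynomial.X j ^ p + (p : P) * h j

theorem pert_eq (h : Fin n → P) (f : P) :
    pert p k n h f = FrobAlg.polyFrob p k (Fin n) f + (p : P) * ∑ j, MvPolynomial.pderiv j f ^ p * h j := by
  classical
  have key : pert p k n h f =
      FrobAlg.polyFrob p k (Fin n) f + (p : P) * ∑ j, FrobAlg.polyFrob p k (Fin n) (MvPolynomial.pderiv j f) * h j := by
    induction f using MvPolynomial.induction_on with
    | C a => simp [pert, FrobAlg.polyFrob, MvPolynomial.pderiv_C]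
    | add f g hf hg =>
      simp only [map_add, add_mul, Finset.sum_add_distrib, mul_add, hf, hg]
      ring
    | mul_X f i hf =>
      have hX : FrobAlg.polyFrob p k (Fin n) (MvPolynomial.X i) = MvPolynomial.X i ^ p := by simp [FrobAlg.polyFrob]
      rw [map_mul, hf, show pert p k n h (MvPolynomial.X i) = MvPolynomial.X i ^ p + (p : P) * h i by simp [pert]]
      have hs : ∑ j, FrobAlg.polyFrob p k (Fin n) (MvPolynomial.pderiv j (f * MvPolynomial.X i)) * h j =
          (∑ j, FrobAlg.polyFrob p k (Fin n) (MvPolynomial.pderiv j f) * h j) * MvPolynomial.X i ^ p +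
            FrobAlg.polyFrob p k (Fin n) f * h i := by
        simp only [MvPolynomial.pderiv_mul, map_add, map_mul, hX, MvPolynomial.pderiv_X, add_mul, Finset.sum_add_distrib]
        congr 1
        · rw [Finset.sum_mul]
          exact Finset.sum_congr rfl fun j _ => by ring
        · rw [Finset.sum_eq_single i]
          · simp
          · intro j _ hj; simp [Ne.symm hj]
          · simp
      rw [hs, map_mul, hX]
      linear_combination (∑ j, FrobAlg.polyFrob p k (Fin n) (MvPolynomial.pderiv j f) * h j) * h i * natCast_mul_self p k n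
  rw [key, Finset.mul_sum, Finset.mul_sum]
  congr 1
  refine Finset.sum_congr rfl fun j _ => ?_
  rw [← mul_assoc, natCast_mul_polyFrob, mul_assoc]

end

/-- Let k be a perfect field of characteristic p, R' = W₂(k)[x_1, …, x_n], f'_1, …, f'_m ∈ R' with
reductions f_1, …, f_m ∈ R = k[x_1, …, x_n], J' = (f'_1, …, f'_m), J = (f_1, …, f_m), and assume B'
= R'/J' is flat over W₂(k), so that it is a flat lifting of B = R/J. The Frobenius of B lifts to B'
— there is a ring endomorphism of B' semilinear for the Witt-vector Frobenius σ₂ of W₂(k) and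
reducing to the p-th power map of B — if and only if there are h_1, …, h_n ∈ R' with F'(f'_i) −
f'_i^p − p·Σ_j (∂f'_i/∂x_j)^p h_j ∈ pJ' for every i, where F' is the standard Frobenius lift of R'
(σ₂ on coefficients, x_j ↦ x_j^p). Since multiplication by p identifies R with pR', this is the
congruence P(f'_i) ≡ Σ_j (∂f_i/∂x_j)^p h_j modulo J for the Frobenius residues P(f'_i) = (F'(f'_i) −
f'_i^p)/p. -/
theorem result
    (p : ℕ) [Fact p.Prime] (k : Type u) [Field k] [CharP k p] [PerfectRing k p]
    {n m : ℕ} (f' : Fin m → MvPolynomial (Fin n) (FrobAlg.W2 p k))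
    (hflat : ((Ideal.Quotient.mk (Ideal.span (Set.range f'))).comp
      (MvPolynomial.C : FrobAlg.W2 p k →+* MvPolynomial (Fin n) (FrobAlg.W2 p k))).Flat) :
    (∃ Φ : (MvPolynomial (Fin n) (FrobAlg.W2 p k) ⧸ Ideal.span (Set.range f')) →+*
        (MvPolynomial (Fin n) (FrobAlg.W2 p k) ⧸ Ideal.span (Set.range f')),
      Φ.comp ((Ideal.Quotient.mk (Ideal.span (Set.range f'))).comp MvPolynomial.C) =
        ((Ideal.Quotient.mk (Ideal.span (Set.range f'))).comp MvPolynomial.C).comp (FrobAlg.sigma p k) ∧
      ∀ b, Ideal.quotientMap ((Ideal.span (Set.range f')).map (MvPolynomial.map (FrobAlg.res p k)))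
          (MvPolynomial.map (FrobAlg.res p k)) Ideal.le_comap_map (Φ b) =
        (Ideal.quotientMap ((Ideal.span (Set.range f')).map (MvPolynomial.map (FrobAlg.res p k)))
          (MvPolynomial.map (FrobAlg.res p k)) Ideal.le_comap_map b) ^ p) ↔
    ∃ h : Fin n → MvPolynomial (Fin n) (FrobAlg.W2 p k), ∀ i,
      FrobAlg.polyFrob p k (Fin n) (f' i) - f' i ^ p
        - (p : MvPolynomial (Fin n) (FrobAlg.W2 p k)) * ∑ j, MvPolynomial.pderiv j (f' i) ^ p * h j
        ∈ Ideal.span {(p : MvPolynomial (Fin n) (FrobAlg.W2 p k))} * Ideal.span (Set.range f') := by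
  classical
  set J := Ideal.span (Set.range f') with hJ
  have hred : ∀ x : (MvPolynomial (Fin n) (FrobAlg.W2 p k)), Ideal.quotientMap (J.map (MvPolynomial.map (FrobAlg.res p k)))
      (MvPolynomial.map (FrobAlg.res p k)) Ideal.le_comap_map (Ideal.Quotient.mk J x) =
        Ideal.Quotient.mk _ (MvPolynomial.map (FrobAlg.res p k) x) := fun x => rfl
  haveI : Module.Flat (FrobAlg.W2 p k) ((MvPolynomial (Fin n) (FrobAlg.W2 p k)) ⧸ J) := RingHom.flat_algebraMap_iff.1 hflat
  have hinf : Ideal.span {(p : (MvPolynomial (Fin n) (FrobAlg.W2 p k)))} ⊓ J = Ideal.span {(p : (MvPolynomial (Fin n) (FrobAlg.W2 p k)))} * J := (Groth.Agent.S13137.result p k (MvPolynomial (Fin n) (FrobAlg.W2 p k)) J).1 inferInstance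
  constructor
  · rintro ⟨Φ, hΦ1, hΦ2⟩
    have hh : ∀ j, ∃ h : (MvPolynomial (Fin n) (FrobAlg.W2 p k)), Φ (Ideal.Quotient.mk J (MvPolynomial.X j)) = Ideal.Quotient.mk J (MvPolynomial.X j ^ p + (p : (MvPolynomial (Fin n) (FrobAlg.W2 p k))) * h) := by
      intro j
      obtain ⟨x, hx⟩ := Ideal.Quotient.mk_surjective (Φ (Ideal.Quotient.mk J (MvPolynomial.X j)))
      have := hΦ2 (Ideal.Quotient.mk J (MvPolynomial.X j))
      rw [← hx, hred, hred, ← map_pow, Ideal.Quotient.eq, Ideal.mem_map_iff_of_surjective _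
        (MvPolynomial.map_surjective _ (fun c => ⟨TruncatedWittVector.mk p fun _ => c, by simp⟩))] at this
      obtain ⟨y, hy, hy'⟩ := this
      have hk : x - MvPolynomial.X j ^ p - y ∈ Ideal.span {(p : (MvPolynomial (Fin n) (FrobAlg.W2 p k)))} := by
        rw [← ker_map_res, RingHom.mem_ker, map_sub, hy', map_sub, map_pow, sub_self]
      obtain ⟨c, hc⟩ := Ideal.mem_span_singleton.1 hk
      refine ⟨c, ?_⟩
      rw [← hx, Ideal.Quotient.eq, ← hc, show x - (MvPolynomial.X j ^ p + (x - MvPolynomial.X j ^ p - y)) = y by ring]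
      exact hy
    choose h hh using hh
    refine ⟨fun j => -h j, fun i => ?_⟩
    have hcomp : Φ.comp (Ideal.Quotient.mk J) = (Ideal.Quotient.mk J).comp (pert p k n h) := by
      refine MvPolynomial.ringHom_ext (fun a => ?_) fun j => ?_
      · rw [RingHom.comp_apply, ← RingHom.comp_apply (Ideal.Quotient.mk J) MvPolynomial.C, ← RingHom.comp_apply Φ, hΦ1]
        simp [pert]
      · rw [RingHom.comp_apply, hh]
        simp [pert]
    have hmem : pert p k n h (f' i) ∈ J := by
      rw [← Ideal.Quotient.eq_zero_iff_mem, ← RingHom.comp_apply, ← hcomp, RingHom.comp_apply,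
        Ideal.Quotient.eq_zero_iff_mem.2 (Ideal.subset_span (Set.mem_range_self i)), map_zero]
    have hfp : f' i ^ p ∈ J := J.pow_mem_of_mem (Ideal.subset_span (Set.mem_range_self i)) _ (Fact.out : p.Prime).pos
    rw [← hinf]
    refine ⟨?_, ?_⟩
    · exact sub_mem (by rw [← ker_map_res, RingHom.mem_ker, map_sub, map_polyFrob, map_pow, sub_self])
        (Ideal.mul_mem_right _ _ (Ideal.mem_span_singleton_self _))
    · have := sub_mem hmem hfp
      rw [pert_eq] at this
      change _ ∈ J
      convert this using 1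
      simp only [mul_neg, Finset.sum_neg_distrib]
      ring
  · rintro ⟨h, hh⟩
    let g := pert p k n fun j => -h j
    have hg : J ≤ J.comap g := by
      rw [hJ, Ideal.span_le]
      rintro _ ⟨i, rfl⟩
      change g (f' i) ∈ J
      have hfp : f' i ^ p ∈ J := J.pow_mem_of_mem (Ideal.subset_span (Set.mem_range_self i)) _ (Fact.out : p.Prime).pos
      have := add_mem (Ideal.mul_le_right (hh i)) hfp
      convert this using 1
      rw [pert_eq]
      simp only [mul_neg, Finset.sum_neg_distrib]
      ring
    refine ⟨Ideal.quotientMap J g hg, ?_, fun b => ?_⟩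
    · refine RingHom.ext fun a => ?_
      change Ideal.Quotient.mk J (g (MvPolynomial.C a)) = Ideal.Quotient.mk J (MvPolynomial.C (FrobAlg.sigma p k a))
      simp [g, pert]
    · obtain ⟨x, rfl⟩ := Ideal.Quotient.mk_surjective b
      rw [Ideal.quotientMap_mk, hred, hred, ← map_pow]
      congr 1
      rw [pert_eq, map_add, map_polyFrob, map_mul, map_natCast, CharP.cast_eq_zero, zero_mul, add_zero]

end Groth.Agent.S13138
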