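import Groth.Statements.S13139
import Groth.Agent.S13138
import Mathlib.RingTheory.Regular.RegularSequence
import Mathlib.RingTheory.RingHom.Flat
import Mathlib.Algebra.BigOperators.Fin

set_option autoImplicit false
universe u
open scoped BigOperators
open FrobAlg

namespace Groth.Agent.S13139

/-- Relations of a weakly regular family lift along any surjective ring map. -/
theorem exists_lift_relation {R S : Type*} [CommRing R] [CommRing S] (φ : S →+* R) (hφ : Function.Surjective φ) :
    ∀ {m : ℕ} (f : Fin m → R) (f' : Fin m → S), (∀ i, φ (f' i) = f i) →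
      (∀ (i : Fin m) (a : R), a * f i ∈ Ideal.span (f '' {j | j < i}) → a ∈ Ideal.span (f '' {j | j < i})) →
      ∀ a : Fin m → R, ∑ i, a i * f i = 0 → ∃ a' : Fin m → S, (∀ i, φ (a' i) = a i) ∧ ∑ i, a' i * f' i = 0 := by
  intro m
  induction m with
  | zero => intro f f' _ _ a _; exact ⟨fun i => i.elim0, fun i => i.elim0, by simp⟩
  | succ m ih =>
    intro f f' hf H a ha
    have hset : f '' {j | j < Fin.last m} = Set.range (f ∘ Fin.castSucc) := by
      rw [Set.range_comp]
      congr 1
      ext j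
      exact ⟨fun hj => Fin.exists_castSucc_eq.2 (ne_of_lt hj), fun ⟨l, hl⟩ => hl ▸ Fin.castSucc_lt_last l⟩
    rw [Fin.sum_univ_castSucc, add_eq_zero_iff_neg_eq] at ha
    have hmem : a (Fin.last m) ∈ Ideal.span (f '' {j | j < Fin.last m}) := by
      apply H
      rw [← ha, hset, neg_mem_iff]
      exact Ideal.sum_mem _ fun i _ => Ideal.mul_mem_left _ _ (Ideal.subset_span ⟨i, rfl⟩)
    rw [hset, Ideal.mem_span_range_iff_exists_fun] at hmem
    obtain ⟨c, hc⟩ := hmem
    obtain ⟨b, hb, hb0⟩ := ih (f ∘ Fin.castSucc) (f' ∘ Fin.castSucc) (fun i => hf _) (fun i x hx => by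
        have hset' : (f ∘ Fin.castSucc) '' {j | j < i} = f '' {j | j < i.castSucc} := by
          rw [Set.image_comp]
          congr 1
          ext j
          constructor
          · rintro ⟨l, hl, rfl⟩; exact Fin.castSucc_lt_castSucc_iff.2 hl
          · intro hj
            obtain ⟨l, rfl⟩ := Fin.exists_castSucc_eq.2 (Fin.ne_last_of_lt hj)
            exact ⟨l, Fin.castSucc_lt_castSucc_iff.1 hj, rfl⟩
        rw [hset'] at hx ⊢
        exact H _ _ hx)
      (fun i => a i.castSucc + c i * f (Fin.last m)) (by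
        simp only [Function.comp_apply, add_mul, Finset.sum_add_distrib]
        have : ∑ i : Fin m, c i * f (Fin.last m) * f i.castSucc = a (Fin.last m) * f (Fin.last m) := by
          rw [← hc, Finset.sum_mul]
          exact Finset.sum_congr rfl fun i _ => by simp only [Function.comp_apply]; ring
        rw [this, ← ha, add_neg_cancel])
    choose c' hc' using fun i => hφ (c i)
    refine ⟨Fin.snoc (fun i => b i - c' i * f' (Fin.last m)) (∑ i, c' i * f' i.castSucc), fun i => ?_, ?_⟩
    · refine Fin.lastCases ?_ (fun i => ?_) i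
      · rw [Fin.snoc_last, map_sum, ← hc]
        exact Finset.sum_congr rfl fun i _ => by rw [map_mul, hc', hf]; rfl
      · rw [Fin.snoc_castSucc, map_sub, map_mul, hb, hc', hf, add_sub_cancel_right]
    · rw [Fin.sum_univ_castSucc, Fin.snoc_last]
      simp only [Fin.snoc_castSucc, sub_mul, Finset.sum_sub_distrib]
      simp only [Function.comp_apply] at hb0
      rw [hb0, Finset.sum_mul, zero_sub, neg_add_eq_zero]
      exact Finset.sum_congr rfl fun i _ => by ring

theorem regular_family {R : Type*} [CommRing R] {m : ℕ} (f : Fin m → R)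
    (h : RingTheory.Sequence.IsWeaklyRegular R (List.ofFn f)) (i : Fin m) (a : R)
    (ha : a * f i ∈ Ideal.span (f '' {j | j < i})) : a ∈ Ideal.span (f '' {j | j < i}) := by
  have hi : (i : ℕ) < (List.ofFn f).length := by simp
  have hreg := h.regular_mod_prev i hi
  have hI : Ideal.ofList ((List.ofFn f).take i) • (⊤ : Submodule R R) = Ideal.span (f '' {j | j < i}) := by
    rw [smul_eq_mul, Ideal.mul_top]
    refine congrArg Ideal.span (Set.ext fun x => ?_)
    simp only [Set.mem_setOf_eq, List.mem_take_iff_getElem, Set.mem_image, List.getElem_ofFn]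
    constructor
    · rintro ⟨j, hj, rfl⟩
      exact ⟨⟨j, by simp only [List.length_ofFn] at hj; omega⟩, by simp only [Fin.lt_def]; omega, rfl⟩
    · rintro ⟨j, hj, rfl⟩
      exact ⟨j, by simp only [List.length_ofFn]; omega, rfl⟩
  have key := (isSMulRegular_quotient_iff_mem_of_smul_mem _ _).1 hreg a
  rw [hI, List.getElem_ofFn, smul_eq_mul, mul_comm] at key
  exact key ha

/-- Let k be a perfect field of characteristic p and f_1, …, f_m a regular sequence in R = k[x_1, …,
x_n]. The complete intersection A = R/(f_1, …, f_m) lifts to W₂(k) compatibly with Frobenius if and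
only if for some lifts f'_1, …, f'_m ∈ R' = W₂(k)[x_1, …, x_n] of the f_i and some h_1, …, h_n ∈ R'
one has F'(f'_i) − f'_i^p − p·Σ_j (∂f'_i/∂x_j)^p h_j ∈ p·(f'_1, …, f'_m) for every i, F' being the
standard Frobenius lift of R'. In terms of Frobenius residues P(f') = (F'(f') − f'^p)/p ∈ R, which
change by g^p when f' changes by pg, this is the congruence P_{f_i} + g_i^p ≡ Σ_j (∂f_i/∂x_j)^p h_j
modulo (f_1, …, f_m) for some g_i, h_j. -/
theorem result
    (p : ℕ) [Fact p.Prime] (k : Type u) [Field k] [CharP k p] [PerfectRing k p]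
    {n m : ℕ} (f : Fin m → MvPolynomial (Fin n) k)
    (hreg : RingTheory.Sequence.IsRegular (MvPolynomial (Fin n) k) (List.ofFn f)) :
    FrobAlg.IsFLiftable p k (MvPolynomial (Fin n) k ⧸ Ideal.span (Set.range f)) ↔
    ∃ (f' : Fin m → MvPolynomial (Fin n) (FrobAlg.W2 p k)) (h : Fin n → MvPolynomial (Fin n) (FrobAlg.W2 p k)),
      (∀ i, MvPolynomial.map (FrobAlg.res p k) (f' i) = f i) ∧
      ∀ i, FrobAlg.polyFrob p k (Fin n) (f' i) - f' i ^ p
        - (p : MvPolynomial (Fin n) (FrobAlg.W2 p k)) * ∑ j, MvPolynomial.pderiv j (f' i) ^ p * h j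
        ∈ Ideal.span {(p : MvPolynomial (Fin n) (FrobAlg.W2 p k))} * Ideal.span (Set.range f') := by
  classical
  set W := FrobAlg.W2 p k with hW
  let r := MvPolynomial.map (σ := Fin n) (FrobAlg.res p k)
  have hrs : Function.Surjective r :=
    MvPolynomial.map_surjective _ (fun c => ⟨TruncatedWittVector.mk p fun _ => c, by simp⟩)
  have hmap : ∀ f' : Fin m → MvPolynomial (Fin n) (FrobAlg.W2 p k), (∀ i, r (f' i) = f i) →
      (Ideal.span (Set.range f')).map r = Ideal.span (Set.range f) := fun f' hf' => by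
    rw [Ideal.map_span, ← Set.range_comp, show r ∘ f' = f from funext hf']
  constructor
  · rintro ⟨B, iB, ι, π, Φ, hΦ⟩
    have hB := hΦ.toIsLift
    choose b hb using fun j => hB.surj (Ideal.Quotient.mk _ (MvPolynomial.X j : MvPolynomial (Fin n) k))
    let q : MvPolynomial (Fin n) (FrobAlg.W2 p k) →+* B := MvPolynomial.eval₂Hom ι b
    have hπq : ∀ x, π (q x) = Ideal.Quotient.mk _ (r x) := by
      refine RingHom.congr_fun (MvPolynomial.ringHom_ext (f := π.comp q) (g := (Ideal.Quotient.mk _).comp r)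
        (fun a => ?_) fun j => by simp [q, r, hb])
      have := RingHom.congr_fun hB.comm a
      simp only [RingHom.comp_apply, q, r, MvPolynomial.eval₂Hom_C, MvPolynomial.map_C]
      exact this
    have hcover : ∀ y, ∃ x c, y = q x + (p : B) * c := fun y => by
      obtain ⟨z, hz⟩ := Ideal.Quotient.mk_surjective (π y)
      obtain ⟨x, rfl⟩ := hrs z
      obtain ⟨c, hc⟩ := Groth.Agent.FrobW.Witt.lift_exists_eq_natCast_mul hB (b := y - q x) (by rw [map_sub, hπq, hz, sub_self])
      exact ⟨x, c, by rw [← hc, add_sub_cancel]⟩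
    have hp2 : (p : B) * (p : B) = 0 := by rw [← sq]; exact Groth.Agent.FrobW.Witt.lift_natCast_sq hB
    have hq : Function.Surjective q := fun y => by
      obtain ⟨x, c, rfl⟩ := hcover y
      obtain ⟨x', c', rfl⟩ := hcover c
      refine ⟨x + (p : MvPolynomial (Fin n) (FrobAlg.W2 p k)) * x', ?_⟩
      rw [map_add, map_mul, map_natCast, mul_add, ← mul_assoc, hp2, zero_mul, add_zero]
    have hlift : ∀ i, ∃ g, r g = f i ∧ q g = 0 := fun i => by
      obtain ⟨g, hg⟩ := hrs (f i)
      obtain ⟨c, hc⟩ := Groth.Agent.FrobW.Witt.lift_exists_eq_natCast_mul hB (b := q g) (by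
        rw [hπq, hg, Ideal.Quotient.eq_zero_iff_mem]; exact Ideal.subset_span ⟨i, rfl⟩)
      obtain ⟨c, rfl⟩ := hq c
      refine ⟨g - (p : MvPolynomial (Fin n) (FrobAlg.W2 p k)) * c, ?_, ?_⟩
      · rw [map_sub, map_mul, map_natCast, CharP.cast_eq_zero, zero_mul, sub_zero, hg]
      · rw [map_sub, map_mul, map_natCast, hc, sub_self]
    choose f' hf' hqf' using hlift
    set J := Ideal.span (Set.range f')
    have hJ : J ≤ RingHom.ker q := Ideal.span_le.2 (Set.range_subset_iff.2 hqf')
    have hmem : ∀ x, q x = 0 → ∃ j ∈ J, ∃ c, x = j + (p : MvPolynomial (Fin n) (FrobAlg.W2 p k)) * c := fun x hx => by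
      have h1 : r x ∈ J.map r := by
        rw [hmap f' hf', ← Ideal.Quotient.eq_zero_iff_mem, ← hπq, hx, map_zero]
      obtain ⟨j, hj, hjx⟩ := (Ideal.mem_map_iff_of_surjective r hrs).1 h1
      have hk : x - j ∈ Ideal.span {(p : MvPolynomial (Fin n) (FrobAlg.W2 p k))} := by
        rw [← Groth.Agent.S13138.ker_map_res, RingHom.mem_ker, map_sub]; exact sub_eq_zero.2 hjx.symm
      obtain ⟨c, hc⟩ := Ideal.mem_span_singleton.1 hk
      exact ⟨j, hj, c, by rw [← hc, add_sub_cancel]⟩
    have hker : RingHom.ker q = J := by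
      refine le_antisymm (fun x hx => ?_) hJ
      obtain ⟨j, hj, c, rfl⟩ := hmem x hx
      rw [RingHom.mem_ker, map_add, hJ hj, zero_add, map_mul, map_natCast,
        Groth.Agent.FrobW.Witt.lift_natCast_mul_eq_zero hB, hπq, Ideal.Quotient.eq_zero_iff_mem, ← hmap f' hf'] at hx
      obtain ⟨j', hj', hjc⟩ := (Ideal.mem_map_iff_of_surjective r hrs).1 hx
      have hk : c - j' ∈ Ideal.span {(p : MvPolynomial (Fin n) (FrobAlg.W2 p k))} := by
        rw [← Groth.Agent.S13138.ker_map_res, RingHom.mem_ker, map_sub]; exact sub_eq_zero.2 hjc.symm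
      obtain ⟨d, hd⟩ := Ideal.mem_span_singleton.1 hk
      refine J.add_mem hj ?_
      rw [show c = j' + (p : MvPolynomial (Fin n) (FrobAlg.W2 p k)) * d by rw [← hd, add_sub_cancel], mul_add, ← mul_assoc,
        Groth.Agent.S13138.natCast_mul_self, zero_mul, add_zero]
      exact J.mul_mem_left _ hj'
    let e : (MvPolynomial (Fin n) (FrobAlg.W2 p k) ⧸ J) ≃+* B :=
      (Ideal.quotEquivOfEq hker.symm).trans (RingHom.quotientKerEquivOfSurjective hq)
    have he : ∀ x, e (Ideal.Quotient.mk J x) = q x := fun x => rfl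
    have hes : ∀ x, e.symm (q x) = Ideal.Quotient.mk J x := fun x => by rw [← he, RingEquiv.symm_apply_apply]
    have hιe : (Ideal.Quotient.mk J).comp MvPolynomial.C = e.symm.toRingHom.comp ι := RingHom.ext fun a => by
      have h1 : ι a = q (MvPolynomial.C a) := (MvPolynomial.eval₂Hom_C _ _ _).symm
      exact ((congrArg e.symm h1).trans (hes _)).symm
    have hflat : ((Ideal.Quotient.mk J).comp MvPolynomial.C : FrobAlg.W2 p k →+* _).Flat := by
      rw [hιe]; exact hB.flat.comp (RingHom.Flat.of_bijective e.symm.bijective)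
    suffices hΦ' : ∃ Φ' : _ →+* _, _ ∧ _ from
      let ⟨h, hh⟩ := (Groth.Agent.S13138.result p k f' hflat).1 hΦ'
      ⟨f', h, hf', hh⟩
    refine ⟨e.symm.toRingHom.comp (Φ.comp e.toRingHom), ?_, ?_⟩
    · refine RingHom.ext fun a => ?_
      change e.symm (Φ (e (Ideal.Quotient.mk J (MvPolynomial.C a)))) = Ideal.Quotient.mk J (MvPolynomial.C (FrobAlg.sigma p k a))
      rw [he, ← hes (MvPolynomial.C (FrobAlg.sigma p k a))]
      congr 1
      simp only [q, MvPolynomial.eval₂Hom_C]
      exact RingHom.congr_fun hΦ.semi a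
    · intro y
      obtain ⟨x, rfl⟩ := Ideal.Quotient.mk_surjective y
      obtain ⟨x', hx'⟩ := hq (Φ (q x))
      change Ideal.quotientMap _ _ _ (e.symm (Φ (e (Ideal.Quotient.mk J x)))) = _
      rw [he, ← hx', hes, Ideal.quotientMap_mk, Ideal.quotientMap_mk, ← map_pow, Ideal.Quotient.eq, hmap f' hf',
        ← Ideal.Quotient.eq, map_pow, ← hπq, ← hπq, hx', hΦ.red]
  · rintro ⟨f', h, hf', hh⟩
    set J := Ideal.span (Set.range f')
    haveI : Module.Flat (FrobAlg.W2 p k) (MvPolynomial (Fin n) (FrobAlg.W2 p k) ⧸ J) := by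
      refine (Groth.Agent.S13137.result p k (MvPolynomial (Fin n) (FrobAlg.W2 p k)) J).2
        (le_antisymm ?_ Ideal.mul_le_inf)
      rintro x ⟨hxp, hxJ⟩
      obtain ⟨a, rfl⟩ := (Ideal.mem_span_range_iff_exists_fun).1 hxJ
      have h0 : ∑ i, r (a i) * f i = 0 := by
        have : ∑ i, a i * f' i ∈ RingHom.ker r := by rw [Groth.Agent.S13138.ker_map_res]; exact hxp
        rw [RingHom.mem_ker, map_sum] at this
        simp only [map_mul, r, hf'] at this
        exact this
      obtain ⟨a', ha', ha0⟩ := exists_lift_relation r hrs f f' hf' (regular_family f hreg.toIsWeaklyRegular) _ h0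
      rw [← sub_zero (∑ i, a i * f' i), ← ha0, ← Finset.sum_sub_distrib]
      refine Ideal.sum_mem _ fun i _ => ?_
      rw [← sub_mul]
      refine Ideal.mul_mem_mul ?_ (Ideal.subset_span ⟨i, rfl⟩)
      rw [← Groth.Agent.S13138.ker_map_res, RingHom.mem_ker, map_sub]
      exact sub_eq_zero.2 (ha' i).symm
    have hflat : ((Ideal.Quotient.mk J).comp MvPolynomial.C : FrobAlg.W2 p k →+* _).Flat :=
      RingHom.flat_algebraMap_iff.2 ‹_›
    obtain ⟨Φ, hΦ1, hΦ2⟩ := (Groth.Agent.S13138.result p k f' hflat).2 ⟨h, hh⟩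
    let π : (MvPolynomial (Fin n) (FrobAlg.W2 p k) ⧸ J) →+* MvPolynomial (Fin n) k ⧸ Ideal.span (Set.range f) :=
      Ideal.quotientMap _ r (Ideal.map_le_iff_le_comap.1 (hmap f' hf').le)
    refine ⟨_, inferInstance, (Ideal.Quotient.mk J).comp MvPolynomial.C, π, Φ,
      { flat := hflat, surj := ?_, ker_eq := ?_, comm := ?_, semi := hΦ1, red := ?_ }⟩
    · exact Ideal.quotientMap_surjective hrs
    · rw [Groth.Agent.FrobW.Witt.map_ker_res]
      refine le_antisymm (fun y hy => ?_) ?_
      · obtain ⟨x, rfl⟩ := Ideal.Quotient.mk_surjective y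
        rw [RingHom.mem_ker, Ideal.quotientMap_mk, Ideal.Quotient.eq_zero_iff_mem, ← hmap f' hf'] at hy
        obtain ⟨j, hj, hjx⟩ := (Ideal.mem_map_iff_of_surjective r hrs).1 hy
        have hk : x - j ∈ Ideal.span {(p : MvPolynomial (Fin n) (FrobAlg.W2 p k))} := by
          rw [← Groth.Agent.S13138.ker_map_res, RingHom.mem_ker, map_sub]; exact sub_eq_zero.2 hjx.symm
        obtain ⟨c, hc⟩ := Ideal.mem_span_singleton.1 hk
        rw [show Ideal.Quotient.mk J x = Ideal.Quotient.mk J ((p : MvPolynomial (Fin n) (FrobAlg.W2 p k)) * c) from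
          Ideal.Quotient.eq.2 (by rw [← hc, sub_sub_cancel]; exact hj), map_mul, map_natCast]
        exact Ideal.mul_mem_right _ _ (Ideal.mem_span_singleton_self _)
      · rw [Ideal.span_le, Set.singleton_subset_iff, SetLike.mem_coe, RingHom.mem_ker, map_natCast,
          ← map_natCast (algebraMap k (MvPolynomial (Fin n) k ⧸ Ideal.span (Set.range f))), CharP.cast_eq_zero, map_zero]
    · refine RingHom.ext fun a => ?_
      change Ideal.Quotient.mk _ (r (MvPolynomial.C a)) = _
      simp only [r, MvPolynomial.map_C]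
      rfl
    · intro y
      obtain ⟨x, rfl⟩ := Ideal.Quotient.mk_surjective y
      obtain ⟨x', hx'⟩ := Ideal.Quotient.mk_surjective (Φ (Ideal.Quotient.mk J x))
      have := hΦ2 (Ideal.Quotient.mk J x)
      rw [← hx', Ideal.quotientMap_mk, Ideal.quotientMap_mk, ← map_pow, Ideal.Quotient.eq, hmap f' hf', ← Ideal.Quotient.eq,
        map_pow] at this
      rw [← hx']
      exact this

end Groth.Agent.S13139
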