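import Mathlib.Algebra.MonoidAlgebra.Basic
import Mathlib.Algebra.Module.Projective
import Mathlib.SetTheory.Cardinal.Finite
import Mathlib.RepresentationTheory.Maschke
import Mathlib.RingTheory.TensorProduct.Free

set_option autoImplicit false
universe u v w
namespace GrpAlg
end GrpAlg
open GrpAlg

namespace Groth.Agent.S13140

/-- Let G be a finite group, R a commutative ring in which |G| is a unit, and M a module over the group
algebra R[G] whose underlying R-module is projective. Then M is a projective R[G]-module. -/
theorem result
    (R : Type u) [CommRing R] (G : Type v) [Group G] [Finite G] (hG : IsUnit ((Nat.card G : ℕ) : R))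
    (M : Type w) [AddCommGroup M] [Module R M] [Module (MonoidAlgebra R G) M]
    [IsScalarTower R (MonoidAlgebra R G) M] [Module.Projective R M] :
    Module.Projective (MonoidAlgebra R G) M := by
  classical
  have := Fintype.ofFinite G
  let A := MonoidAlgebra R G
  let q : TensorProduct R A M →ₗ[A] M := haveI : SMulCommClass R A M := IsScalarTower.to_smulCommClass
    TensorProduct.AlgebraTensorModule.lift (LinearMap.toSpanSingleton A (M →ₗ[R] M) LinearMap.id)
  let s : M →ₗ[R] TensorProduct R A M := TensorProduct.mk R A M 1
  have hqs : ∀ m, q (s m) = m := fun m => by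
    show q (TensorProduct.tmul R (1 : A) m) = m
    show (1 : A) • m = m
    rw [one_smul]
  refine Module.Projective.of_split (s.equivariantProjection G) q (LinearMap.ext fun m => ?_)
  rw [LinearMap.comp_apply, LinearMap.equivariantProjection_apply, LinearMap.id_apply,
    LinearMap.map_smul_of_tower, map_sum]
  simp only [LinearMap.conjugate_apply, map_smul, hqs, smul_smul, MonoidAlgebra.single_mul_single,
    inv_mul_cancel, mul_one, ← MonoidAlgebra.one_def, one_smul]
  rw [Finset.sum_const, Finset.card_univ, ← Nat.cast_smul_eq_nsmul R, smul_smul,
    ← Nat.card_eq_fintype_card, Ring.inverse_mul_cancel _ hG, one_smul]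

end Groth.Agent.S13140
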