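import Mathlib.RepresentationTheory.Invariants
import Mathlib.Algebra.Module.Projective
import Mathlib.LinearAlgebra.TensorProduct.Tower
import Mathlib.SetTheory.Cardinal.Finite
import Groth.Agent.SmallAlg.Average

set_option autoImplicit false
universe u v w w'
open scoped TensorProduct
namespace GrpAlg
end GrpAlg
open GrpAlg

namespace Groth.Agent.S13141

/-- Let G be a finite group, R a commutative ring with |G| invertible in R, M a projective R-module with
an R-linear G-action and S an R-algebra. The natural map M^G ⊗_R S → M ⊗_R S is injective and its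
image is the submodule of G-invariants of M ⊗_R S (G acting on the first factor); that is, M^G ⊗_R S
→ (M ⊗_R S)^G is bijective. -/
theorem result
    (R : Type u) [CommRing R] (G : Type v) [Group G] [Finite G] (hG : IsUnit ((Nat.card G : ℕ) : R))
    (M : Type w) [AddCommGroup M] [Module R M] [Module.Projective R M] (ρ : Representation R G M)
    (S : Type w') [CommRing S] [Algebra R S] :
    Function.Injective (TensorProduct.map ρ.invariants.subtype (LinearMap.id : S →ₗ[R] S)) ∧
    LinearMap.range (TensorProduct.map ρ.invariants.subtype (LinearMap.id : S →ₗ[R] S)) =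
      ⨅ g : G, LinearMap.eqLocus (LinearMap.rTensor S (ρ g)) LinearMap.id := by
  obtain ⟨P, hP1, hP2, hP3, c, _, hc, hPeq⟩ := Groth.Agent.SmallAlg.exists_averaging ρ hG
  let P' : M →ₗ[R] ρ.invariants := P.codRestrict _ fun m => hP1 m
  have hret : P' ∘ₗ ρ.invariants.subtype = LinearMap.id :=
    LinearMap.ext fun m => Subtype.ext (hP2 m.1 m.2)
  have hid : ∀ z, TensorProduct.map P' (LinearMap.id : S →ₗ[R] S)
      (TensorProduct.map ρ.invariants.subtype LinearMap.id z) = z := fun z => by
    rw [← LinearMap.comp_apply, ← TensorProduct.map_comp, hret, LinearMap.id_comp, TensorProduct.map_id,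
      LinearMap.id_apply]
  refine ⟨Function.LeftInverse.injective hid, le_antisymm ?_ fun z hz => ?_⟩
  · rintro _ ⟨z, rfl⟩
    rw [Submodule.mem_iInf]
    intro g
    rw [LinearMap.mem_eqLocus, LinearMap.id_apply, ← LinearMap.comp_apply, LinearMap.rTensor,
      ← TensorProduct.map_comp, LinearMap.id_comp]
    congr 2
    exact LinearMap.ext fun m => m.2 g
  · rw [Submodule.mem_iInf] at hz
    refine ⟨TensorProduct.map P' LinearMap.id z, ?_⟩
    rw [← LinearMap.comp_apply, ← TensorProduct.map_comp, LinearMap.id_comp]
    rw [show ρ.invariants.subtype ∘ₗ P' = P from LinearMap.ext fun m => rfl, hPeq]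
    show LinearMap.rTensor S (c • ∑ g : G, ρ g) z = z
    rw [LinearMap.rTensor_smul, ← LinearMap.coe_rTensorHom, map_sum, LinearMap.smul_apply,
      LinearMap.sum_apply, Finset.sum_congr rfl fun g _ => show LinearMap.rTensorHom S (ρ g) z = z from hz g,
      Finset.sum_const, Finset.card_univ, ← Nat.cast_smul_eq_nsmul R, smul_smul, hc, one_smul]

end Groth.Agent.S13141
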