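import Mathlib.RingTheory.Flat.Basic
import Mathlib.Algebra.MvPolynomial.CommRing
import Mathlib.Algebra.Algebra.Equiv
import Mathlib.SetTheory.Cardinal.Finite
import Groth.Agent.SmallAlg.Average

set_option autoImplicit false
universe u v
namespace GrpAlg
end GrpAlg
open GrpAlg

namespace Groth.Agent.S13142

/-- Let G be a finite group and R a commutative ring with |G| invertible in R, acting on R[x_1, …, x_n]
by R-algebra automorphisms. The invariant subring R[x_1, …, x_n]^G is a flat R-module (so the
quotient of affine n-space over R by G is flat over R). -/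
theorem result
    (R : Type u) [CommRing R] (G : Type v) [Group G] [Finite G] (hG : IsUnit ((Nat.card G : ℕ) : R))
    (n : ℕ) (ρ : G →* (MvPolynomial (Fin n) R ≃ₐ[R] MvPolynomial (Fin n) R)) :
    Module.Flat R ↥(⨅ g : G, LinearMap.eqLocus (ρ g).toLinearMap (LinearMap.id : MvPolynomial (Fin n) R →ₗ[R] MvPolynomial (Fin n) R)) := by
  let σ : Representation R G (MvPolynomial (Fin n) R) :=
    MonoidHom.mk ⟨fun g => (ρ g).toLinearMap, by rw [map_one]; rfl⟩ fun a b => by
      show (ρ (a * b)).toLinearMap = _
      rw [map_mul]; rfl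
  obtain ⟨P, hP1, hP2, -, -⟩ := Groth.Agent.SmallAlg.exists_averaging σ hG
  have hmem : ∀ m, P m ∈ ⨅ g : G, LinearMap.eqLocus (ρ g).toLinearMap
      (LinearMap.id : MvPolynomial (Fin n) R →ₗ[R] MvPolynomial (Fin n) R) := fun m => by
    rw [Submodule.mem_iInf]
    exact fun g => hP1 m g
  have : Module.Projective R ↥(⨅ g : G, LinearMap.eqLocus (ρ g).toLinearMap
      (LinearMap.id : MvPolynomial (Fin n) R →ₗ[R] MvPolynomial (Fin n) R)) :=
    Module.Projective.of_split (Submodule.subtype _) (P.codRestrict _ hmem)
      (LinearMap.ext fun m => Subtype.ext (hP2 m.1 fun g => (Submodule.mem_iInf _).1 m.2 g))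
  infer_instance

end Groth.Agent.S13142
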