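import Groth.Statements.S13143
import Groth.Agent.FrobW.LiftData
import Mathlib.Algebra.MvPolynomial.CommRing

set_option autoImplicit false
universe u
open FrobAlg

namespace Groth.Agent.S13143

/-- Let k be a perfect field of characteristic p and A → B a homomorphism of Noetherian k-algebras with
an A-linear retraction B → A. If B lifts flatly to W₂(k), so does A. (The published statement
phrases the descent for finite surjective morphisms of degree prime to p, via a trace splitting; the
argument uses exactly an A-linear splitting of A → B for an affine morphism, which is the hypothesis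
taken here.) -/
theorem result
    (p : ℕ) [Fact p.Prime] (k : Type u) [Field k] [CharP k p] [PerfectRing k p]
    (A B : Type u) [CommRing A] [CommRing B] [Algebra k A] [Algebra k B]
    [IsNoetherianRing A] [IsNoetherianRing B] [Algebra A B] [IsScalarTower k A B]
    (r : B →ₗ[A] A) (hr : ∀ a : A, r (algebraMap A B a) = a)
    (hB : FrobAlg.IsW2Liftable p k B) : FrobAlg.IsW2Liftable p k A := by
  obtain ⟨B', _, ι', π, hB⟩ := hB
  let q : MvPolynomial A (FrobAlg.W2 p k) →+* A := MvPolynomial.eval₂Hom ((algebraMap k A).comp (FrobAlg.res p k)) id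
  choose s hs using hB.surj
  let ψ : MvPolynomial A (FrobAlg.W2 p k) →+* B' := MvPolynomial.eval₂Hom ι' fun a => s (algebraMap A B a)
  have hψ : π.comp ψ = (algebraMap A B).comp q := by
    refine MvPolynomial.ringHom_ext (fun w => ?_) fun a => ?_
    · simp only [ψ, q, RingHom.comp_apply, MvPolynomial.eval₂Hom_C]
      rw [← IsScalarTower.algebraMap_apply k A B]
      exact RingHom.congr_fun hB.comm w
    · simp [ψ, q, hs]
  obtain ⟨h, hadd, hmul, hp⟩ := Groth.Agent.FrobW.LiftData.exists_divided hB q (algebraMap A B) ψ hψ
  refine Groth.Agent.FrobW.LiftData.isW2Liftable_of_functional A _ MvPolynomial.C q (fun a => ⟨MvPolynomial.X a, by simp [q]⟩)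
    (RingHom.ext fun w => by simp [q]) (fun a => r (h a)) (fun a b => by rw [hadd, map_add]) (fun x a => ?_) fun x hx => ?_
  · rw [hmul, ← Algebra.smul_def, map_smul, smul_eq_mul]
  · rw [hp, hr]

end Groth.Agent.S13143
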