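import Groth.Statements.S13150
import Groth.Agent.FrobW.Witt
import Mathlib.Algebra.MvPolynomial.CommRing
import Mathlib.Algebra.MvPolynomial.Eval

set_option autoImplicit false
universe u
open FrobAlg

namespace Groth.Agent.S13150

/-- Let k be a perfect field of characteristic p and (B, ι, π) a flat lifting over W₂(k) of a Noetherian
k-algebra A. The Frobenius of A lifts to B (a σ₂-semilinear ring endomorphism of B reducing to the
p-th power map) if and only if there is a ring homomorphism θ : B → W₂(A) over A (the zeroth Witt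
component of θ(b) is π(b)) with θ ∘ ι equal to the map W₂(k) → W₂(A) induced by k → A. (The
published statement is for a flat W₂(k)-extension of the structure sheaf of a scheme and says: the
push-out of that extension along the Frobenius O_X → F_*O_X is isomorphic, as an extension by F_*O_X
over W₂(k), to W₂(O_X); by the universal property of the push-out this is the existence of a
morphism of extensions to W₂(O_X), which in the affine case taken here is the map θ.) -/
theorem result
    (p : ℕ) [Fact p.Prime] (k : Type u) [Field k] [CharP k p] [PerfectRing k p]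
    (A B : Type u) [CommRing A] [Algebra k A] [IsNoetherianRing A] [CommRing B]
    (ι : FrobAlg.W2 p k →+* B) (π : B →+* A) (hB : FrobAlg.IsLift p k A B ι π) :
    (∃ Φ : B →+* B, FrobAlg.IsFrobLift p k A B ι π Φ) ↔
      ∃ θ : B →+* FrobAlg.W2 p A,
        (FrobAlg.res p A).comp θ = π ∧ θ.comp ι = WittGrp.truncMap p 2 (algebraMap k A) := by
  classical
  have hp0 : (p : A) = 0 := Groth.Agent.FrobW.Witt.natCast_eq_zero hB
  have hTsurj : Function.Surjective (WittGrp.truncMap p 2 π) := fun x => by
    choose s hs using hB.surj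
    exact ⟨TruncatedWittVector.mk p fun i => s (x.coeff i), TruncatedWittVector.ext fun i => by simp [hs]⟩
  constructor
  · rintro ⟨Φ, hΦ⟩
    have hd : ∀ b, ∃ c, Φ b - b ^ p = (p : B) * c := fun b =>
      Groth.Agent.FrobW.Witt.lift_exists_eq_natCast_mul hB (by rw [map_sub, hΦ.red, map_pow, sub_self])
    choose d hd using hd
    let ev : MvPolynomial B ℤ →+* B := MvPolynomial.eval₂Hom (Int.castRingHom B) id
    let Ψ : MvPolynomial B ℤ →+* FrobAlg.W2 p B :=
      MvPolynomial.eval₂Hom (Int.castRingHom _) fun b => TruncatedWittVector.mk p (if · = 0 then b else d b)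
    have hev : Function.Surjective ev := fun b => ⟨MvPolynomial.X b, by simp [ev]⟩
    have h0 : (FrobAlg.res p B).comp Ψ = ev := MvPolynomial.ringHom_ext (fun n => by simp [Ψ, ev]) fun b => by
      simp [Ψ, ev]
    have h1 : (Groth.Agent.FrobW.Witt.ghostOne B).comp Ψ = Φ.comp ev :=
      MvPolynomial.ringHom_ext (fun n => by simp [Ψ, ev]) fun b => by
        simp [Ψ, ev, Groth.Agent.FrobW.Witt.ghostOne_apply, ← hd]
    let Ψ' := (WittGrp.truncMap p 2 π).comp Ψ
    have hker : RingHom.ker ev ≤ RingHom.ker Ψ' := by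
      intro x hx
      rw [RingHom.mem_ker] at hx ⊢
      have e0 : (Ψ x).coeff 0 = 0 := by
        rw [← Groth.Agent.FrobW.Witt.res_eq, ← RingHom.comp_apply, h0, hx]
      have e1 : π ((Ψ x).coeff 1) = 0 := by
        rw [← Groth.Agent.FrobW.Witt.lift_natCast_mul_eq_zero hB]
        have h := RingHom.congr_fun h1 x
        rw [RingHom.comp_apply, RingHom.comp_apply, hx, map_zero, Groth.Agent.FrobW.Witt.ghostOne_apply, e0,
          zero_pow (Fact.out : p.Prime).ne_zero, zero_add] at h
        exact h
      refine TruncatedWittVector.ext fun i => ?_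
      rw [RingHom.comp_apply, WittGrp.coeff_truncMap, TruncatedWittVector.coeff_zero]
      fin_cases i
      · simp [e0]
      · simpa using e1
    let θ : B →+* FrobAlg.W2 p A := RingHom.liftOfSurjective ev hev ⟨Ψ', hker⟩
    have hθ : θ.comp ev = Ψ' := RingHom.liftOfRightInverse_comp _ _ _ _
    have hres : (FrobAlg.res p A).comp θ = π := by
      refine RingHom.ext fun b => ?_
      obtain ⟨x, rfl⟩ := hev b
      rw [RingHom.comp_apply, ← RingHom.comp_apply θ, hθ, ← h0]
      simp [Ψ']
    refine ⟨θ, hres, ?_⟩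
    refine Groth.Agent.FrobW.Witt.hom_ext _ _ (FrobAlg.res p A) ?_ (fun u v hu hv => Groth.Agent.FrobW.Witt.mul_eq_zero_of_res hp0 hu hv)
      fun u hu => Groth.Agent.FrobW.Witt.natCast_mul_eq_zero_of_res hp0 hu
    rw [← RingHom.comp_assoc, hres, hB.comm]
    exact RingHom.ext fun w => by simp
  · rintro ⟨θ, hres, hθι⟩
    let T := WittGrp.truncMap p 2 π
    have hker : RingHom.ker T ≤ RingHom.ker (Groth.Agent.FrobW.Witt.ghostOne B) := by
      intro x hx
      rw [RingHom.mem_ker] at hx ⊢
      have h : ∀ i, π (x.coeff i) = 0 := fun i => by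
        rw [← WittGrp.coeff_truncMap p 2 π, hx, TruncatedWittVector.coeff_zero]
      rw [Groth.Agent.FrobW.Witt.ghostOne_apply, (Groth.Agent.FrobW.Witt.lift_natCast_mul_eq_zero hB).2 (h 1),
        pow_eq_zero_of_le (Fact.out : p.Prime).two_le ((pow_two _).trans (Groth.Agent.FrobW.Witt.lift_mul_eq_zero hB (h 0) (h 0))),
        add_zero]
    let G : FrobAlg.W2 p A →+* B := RingHom.liftOfSurjective T hTsurj ⟨Groth.Agent.FrobW.Witt.ghostOne B, hker⟩
    have hG : ∀ w, π (G w) = w.coeff 0 ^ p := fun w => by
      obtain ⟨x, rfl⟩ := hTsurj w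
      rw [show G (T x) = Groth.Agent.FrobW.Witt.ghostOne B x from RingHom.liftOfRightInverse_comp_apply _ _ _ _ x,
        Groth.Agent.FrobW.Witt.ghostOne_apply, map_add, map_mul, map_pow, map_natCast, hp0, zero_mul, add_zero,
        WittGrp.coeff_truncMap]
    refine ⟨G.comp θ, ⟨hB, ?_, fun b => ?_⟩⟩
    · refine Groth.Agent.FrobW.Witt.hom_ext _ _ π (RingHom.ext fun w => ?_) (fun u v hu hv => Groth.Agent.FrobW.Witt.lift_mul_eq_zero hB hu hv)
        fun u hu => (Groth.Agent.FrobW.Witt.lift_natCast_mul_eq_zero hB).2 hu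
      have hc : ∀ v, π (ι v) = algebraMap k A (FrobAlg.res p k v) := fun v => RingHom.congr_fun hB.comm v
      simp only [RingHom.comp_apply, hG, hc]
      rw [show θ (ι w) = WittGrp.truncMap p 2 (algebraMap k A) w from RingHom.congr_fun hθι w]
      simp [WittGrp.coeff_frob]
    · rw [RingHom.comp_apply, hG, ← Groth.Agent.FrobW.Witt.res_eq, ← RingHom.comp_apply, hres]

end Groth.Agent.S13150
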