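import Groth.Statements.S13144
import Groth.Agent.FrobW.Witt
import Groth.Agent.S13150

set_option autoImplicit false
universe u
open FrobAlg

namespace Groth.Agent.S13144

/-- Let k be a perfect field of characteristic p, A → B a homomorphism of Noetherian k-algebras with an
A-linear retraction B → A, and A' → B' a homomorphism over W₂(k) between flat liftings of A and B
which reduces to A → B. If the Frobenius of B lifts to B' (a σ₂-semilinear ring endomorphism
reducing to the p-th power map), then the Frobenius of A lifts to A'. (The published statement is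
for an affine morphism whose map on structure sheaves splits linearly; the affine case with an
A-linear splitting is taken here.) -/
theorem result
    (p : ℕ) [Fact p.Prime] (k : Type u) [Field k] [CharP k p] [PerfectRing k p]
    (A B : Type u) [CommRing A] [CommRing B] [Algebra k A] [Algebra k B]
    [IsNoetherianRing A] [IsNoetherianRing B] [Algebra A B] [IsScalarTower k A B]
    (r : B →ₗ[A] A) (hr : ∀ a : A, r (algebraMap A B a) = a)
    (A' B' : Type u) [CommRing A'] [CommRing B']
    (ιA : FrobAlg.W2 p k →+* A') (πA : A' →+* A) (hA : FrobAlg.IsLift p k A A' ιA πA)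
    (ιB : FrobAlg.W2 p k →+* B') (πB : B' →+* B) (hB : FrobAlg.IsLift p k B B' ιB πB)
    (φ' : A' →+* B') (hφι : φ'.comp ιA = ιB) (hφπ : πB.comp φ' = (algebraMap A B).comp πA)
    (ΦB : B' →+* B') (hΦB : FrobAlg.IsFrobLift p k B B' ιB πB ΦB) :
    ∃ ΦA : A' →+* A', FrobAlg.IsFrobLift p k A A' ιA πA ΦA := by
  classical
  have hpA : (p : A) = 0 := Groth.Agent.FrobW.Witt.natCast_eq_zero hA
  have hpB : (p : B) = 0 := Groth.Agent.FrobW.Witt.natCast_eq_zero hB
  obtain ⟨θ, hθres, hθι⟩ := (Groth.Agent.S13150.result p k B B' ιB πB hB).1 ⟨ΦB, hΦB⟩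
  apply (Groth.Agent.S13150.result p k A A' ιA πA hA).2
  let i := WittGrp.truncMap p 2 (algebraMap A B)
  let V := @Groth.Agent.FrobW.Witt.vOne p _ B _
  let V' := @Groth.Agent.FrobW.Witt.vOne p _ A _
  have hiV : ∀ a, i (V' a) = V (algebraMap A B a) := fun a => by
    refine TruncatedWittVector.ext fun j => ?_
    fin_cases j <;> simp [i, V, V']
  let Rel : FrobAlg.W2 p B → FrobAlg.W2 p A → Prop := fun x z => ∃ y c, x = i y + V c ∧ z = y + V' (r c)
  have hi0 : ∀ y, (i y).coeff 0 = algebraMap A B (y.coeff 0) := fun y => WittGrp.coeff_truncMap ..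
  have hinj : Function.Injective (algebraMap A B) := Function.LeftInverse.injective hr
  have huniq : ∀ x z z', Rel x z → Rel x z' → z = z' := by
    rintro x z z' ⟨y, c, rfl, rfl⟩ ⟨y', c', h, rfl⟩
    have h0 : (y - y').coeff 0 = 0 := by
      rw [← Groth.Agent.FrobW.Witt.res_eq]
      apply hinj
      have h2 := congrArg (FrobAlg.res p B) h
      rw [map_add, map_add, Groth.Agent.FrobW.Witt.res_eq, Groth.Agent.FrobW.Witt.res_eq,
        Groth.Agent.FrobW.Witt.res_eq (i y'), Groth.Agent.FrobW.Witt.res_eq (V c'), hi0, hi0,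
        Groth.Agent.FrobW.Witt.coeff_vOne_zero, Groth.Agent.FrobW.Witt.coeff_vOne_zero, add_zero, add_zero] at h2
      rw [map_zero, map_sub, map_sub, Groth.Agent.FrobW.Witt.res_eq, Groth.Agent.FrobW.Witt.res_eq, h2, sub_self]
    have hy : y = y' + V' ((y - y').coeff 1) := by
      rw [← Groth.Agent.FrobW.Witt.eq_vOne h0, add_sub_cancel]
    rw [hy, map_add, hiV, add_assoc, add_right_inj, ← map_add] at h
    have h1 := congrArg (TruncatedWittVector.coeff 1) h
    rw [Groth.Agent.FrobW.Witt.coeff_vOne_one, Groth.Agent.FrobW.Witt.coeff_vOne_one] at h1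
    conv_lhs => rw [hy, add_assoc, ← map_add, ← hr ((y - y').coeff 1), ← map_add, h1]
  have hadd : ∀ x z x' z', Rel x z → Rel x' z' → Rel (x + x') (z + z') := by
    rintro _ _ _ _ ⟨y, c, rfl, rfl⟩ ⟨y', c', rfl, rfl⟩
    exact ⟨y + y', c + c', by simp only [map_add]; abel, by simp only [map_add]; abel⟩
  have hmul : ∀ x z x' z', Rel x z → Rel x' z' → Rel (x * x') (z * z') := by
    rintro _ _ _ _ ⟨y, c, rfl, rfl⟩ ⟨y', c', rfl, rfl⟩
    refine ⟨y * y', algebraMap A B (y.coeff 0 ^ p) * c' + algebraMap A B (y'.coeff 0 ^ p) * c, ?_, ?_⟩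
    · have hVV : V c * V c' = 0 := Groth.Agent.FrobW.Witt.mul_eq_zero_of_res hpB (by simp [V]) (by simp [V])
      rw [map_add, map_mul i, map_pow, map_pow, ← hi0, ← hi0, ← Groth.Agent.FrobW.Witt.mul_vOne hpB, ← Groth.Agent.FrobW.Witt.mul_vOne hpB]
      linear_combination hVV
    · have hVV : V' (r c) * V' (r c') = 0 := Groth.Agent.FrobW.Witt.mul_eq_zero_of_res hpA (by simp [V']) (by simp [V'])
      rw [map_add r, ← Algebra.smul_def, ← Algebra.smul_def, map_smul, map_smul, smul_eq_mul, smul_eq_mul, map_add V',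
        ← Groth.Agent.FrobW.Witt.mul_vOne hpA, ← Groth.Agent.FrobW.Witt.mul_vOne hpA]
      linear_combination hVV
  have hex : ∀ a, ∃ z, Rel (θ (φ' a)) z := by
    intro a
    let y : FrobAlg.W2 p A := TruncatedWittVector.mk p fun _ => πA a
    refine ⟨_, y, (θ (φ' a) - i y).coeff 1, ?_, rfl⟩
    rw [← Groth.Agent.FrobW.Witt.eq_vOne, add_sub_cancel]
    rw [← Groth.Agent.FrobW.Witt.res_eq, map_sub, ← RingHom.comp_apply (FrobAlg.res p B), hθres,
      ← RingHom.comp_apply πB, hφπ, Groth.Agent.FrobW.Witt.res_eq, hi0, sub_eq_zero]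
    simp [y]
  choose θA hθA using hex
  let θA' : A' →+* FrobAlg.W2 p A := RingHom.mk'
    { toFun := θA
      map_one' := huniq _ _ _ (hθA 1) ⟨1, 0, by simp, by simp⟩
      map_mul' := fun a b => huniq _ _ _ (hθA (a * b)) (by rw [map_mul, map_mul]; exact hmul _ _ _ _ (hθA a) (hθA b)) }
    fun a b => huniq _ _ _ (hθA (a + b)) (by rw [map_add, map_add]; exact hadd _ _ _ _ (hθA a) (hθA b))
  refine ⟨θA', RingHom.ext fun a => ?_, RingHom.ext fun w => ?_⟩
  · obtain ⟨y, c, hy, hz⟩ := hθA a
    apply hinj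
    have h0 := congrArg (FrobAlg.res p B) hy
    rw [← RingHom.comp_apply (FrobAlg.res p B), hθres, ← RingHom.comp_apply πB, hφπ, RingHom.comp_apply, map_add,
      Groth.Agent.FrobW.Witt.res_eq, Groth.Agent.FrobW.Witt.res_eq, hi0, Groth.Agent.FrobW.Witt.coeff_vOne_zero, add_zero] at h0
    change algebraMap A B (FrobAlg.res p A (θA a)) = algebraMap A B (πA a)
    rw [hz, map_add, Groth.Agent.FrobW.Witt.res_eq, Groth.Agent.FrobW.Witt.res_eq, Groth.Agent.FrobW.Witt.coeff_vOne_zero,
      add_zero, ← h0]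
  · refine huniq _ _ _ (hθA (ιA w)) ⟨WittGrp.truncMap p 2 (algebraMap k A) w, 0, ?_, by simp⟩
    rw [← RingHom.comp_apply φ', hφι, ← RingHom.comp_apply θ, hθι, map_zero, add_zero]
    refine TruncatedWittVector.ext fun j => ?_
    simp [i, ← IsScalarTower.algebraMap_apply k A B]

end Groth.Agent.S13144
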