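import Groth.Statements.S13145
import Groth.Agent.FrobW.LiftData
import Mathlib.RingTheory.Localization.Submodule
import Mathlib.RingTheory.EssentialFiniteness
import Mathlib.RingTheory.Polynomial.Basic
import Mathlib.RingTheory.Flat.FaithfullyFlat.Basic
import Mathlib.RingTheory.TensorProduct.Basic
import Mathlib.Algebra.Module.FinitePresentation

set_option autoImplicit false
universe u
open FrobAlg

namespace Groth.Agent.S13145

/-- For liftings over W₂(k) — let k be a perfect field of characteristic p, A a k-algebra essentially of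
finite type and A → B étale and faithfully flat. If B lifts flatly to W₂(k) then so does A. (The
published statement allows an étale surjective cover of Spec A by a scheme; an affine cover is taken
here, to which the published argument reduces.) -/
theorem result
    (p : ℕ) [Fact p.Prime] (k : Type u) [Field k] [CharP k p] [PerfectRing k p]
    (A B : Type u) [CommRing A] [CommRing B] [Algebra k A] [Algebra.EssFiniteType k A]
    [Algebra A B] [Algebra.Etale A B] [Module.FaithfullyFlat A B] [Algebra k B] [IsScalarTower k A B]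
    (hB : FrobAlg.IsW2Liftable p k B) : FrobAlg.IsW2Liftable p k A := by
  classical
  obtain ⟨B', _, ι', π, hB⟩ := hB
  set s := Algebra.EssFiniteType.finset k A
  set R₀ := MvPolynomial s (FrobAlg.W2 p k)
  let q₀ : R₀ →+* A := MvPolynomial.eval₂Hom ((algebraMap k A).comp (FrobAlg.res p k)) Subtype.val
  let M : Submonoid R₀ := (IsUnit.submonoid A).comap q₀
  let P := Localization M
  haveI : IsNoetherianRing (WittVector p k) := inferInstance
  haveI : IsNoetherianRing (FrobAlg.W2 p k) := isNoetherianRing_of_surjective _ _ (WittVector.truncate 2)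
    (WittVector.truncate_surjective p 2 k)
  haveI : IsNoetherianRing P := IsLocalization.isNoetherianRing M P inferInstance
  let q : P →+* A := IsLocalization.lift (M := M) (g := q₀) fun m => m.2
  have hq₀ : ∀ a ∈ Algebra.EssFiniteType.subalgebra k A, ∃ x, q₀ x = a := by
    intro a ha
    change a ∈ Algebra.adjoin k (s : Set A) at ha
    induction ha using Algebra.adjoin_induction with
    | mem a ha => exact ⟨MvPolynomial.X ⟨a, ha⟩, (MvPolynomial.eval₂_X _ _ _)⟩
    | algebraMap c =>
      obtain ⟨w, hw⟩ : ∃ w, FrobAlg.res p k w = c :=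
        ⟨TruncatedWittVector.mk p fun _ => c, by rw [FrobAlg.res_apply, TruncatedWittVector.coeff_mk]⟩
      exact ⟨MvPolynomial.C w, (MvPolynomial.eval₂_C _ _ _).trans (congrArg (algebraMap k A) hw)⟩
    | add a b _ _ ha hb =>
      obtain ⟨x, rfl⟩ := ha
      obtain ⟨y, rfl⟩ := hb
      exact ⟨x + y, map_add _ _ _⟩
    | mul a b _ _ ha hb =>
      obtain ⟨x, rfl⟩ := ha
      obtain ⟨y, rfl⟩ := hb
      exact ⟨x * y, map_mul _ _ _⟩
  have hq : Function.Surjective q := by
    intro a
    obtain ⟨⟨c, t⟩, hct⟩ := IsLocalization.surj (Algebra.EssFiniteType.submonoid k A) a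
    obtain ⟨x, hx⟩ := hq₀ c c.2
    obtain ⟨y, hy⟩ := hq₀ t.1 t.1.2
    have hyM : y ∈ M := by
      change IsUnit (q₀ y)
      rw [hy]
      exact t.2
    refine ⟨IsLocalization.mk' P x ⟨y, hyM⟩, (IsLocalization.lift_mk'_spec _ _ _ _).2 ?_⟩
    rw [hx]
    change (c : A) = q₀ y * a
    rw [hy, mul_comm]
    exact hct.symm
  choose σ hσ using hB.surj
  let ψ₀ : R₀ →+* B' := MvPolynomial.eval₂Hom ι' fun a => σ (algebraMap A B a)
  have hψ₀ : π.comp ψ₀ = (algebraMap A B).comp q₀ := by
    refine MvPolynomial.ringHom_ext (fun w => ?_) fun a => ?_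
    · simp only [ψ₀, q₀, RingHom.comp_apply, MvPolynomial.eval₂Hom_C]
      rw [← IsScalarTower.algebraMap_apply k A B]
      exact RingHom.congr_fun hB.comm w
    · simp [ψ₀, q₀, hσ]
  have hunit : ∀ m : M, IsUnit (ψ₀ m) := by
    intro m
    have h1 : IsUnit (π (ψ₀ m)) := by
      rw [← RingHom.comp_apply π, hψ₀]
      exact (m.2 : IsUnit (q₀ m)).map (algebraMap A B)
    obtain ⟨v, hv⟩ := h1.exists_left_inv
    have h2 : π (σ v * ψ₀ m - 1) = 0 := by rw [map_sub, map_mul, hσ, hv, map_one, sub_self]
    have h3 : IsNilpotent (σ v * ψ₀ m - 1) := ⟨2, by rw [pow_two]; exact Groth.Agent.FrobW.Witt.lift_mul_eq_zero hB h2 h2⟩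
    have h4 := h3.isUnit_one_add
    rw [add_sub_cancel] at h4
    exact isUnit_of_mul_isUnit_right h4
  let ψ : P →+* B' := IsLocalization.lift hunit
  have hψ : π.comp ψ = (algebraMap A B).comp q := by
    refine IsLocalization.ringHom_ext M ?_
    rw [RingHom.comp_assoc, RingHom.comp_assoc, IsLocalization.lift_comp, IsLocalization.lift_comp]
    exact hψ₀
  obtain ⟨h, hadd, hmul, hp⟩ := Groth.Agent.FrobW.LiftData.exists_divided hB q (algebraMap A B) ψ hψ
  letI : Algebra P A := q.toAlgebra
  letI : Module P B := Module.compHom B q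
  haveI : IsScalarTower P A B := ⟨fun x a b => by
    change ((q x) * a) • b = q x • a • b
    rw [mul_smul]⟩
  let h' : RingHom.ker q →ₗ[P] B :=
    { toFun := h
      map_add' := hadd
      map_smul' := fun x a => by
        rw [hmul]
        exact (Algebra.smul_def _ _).symm }
  haveI : Module.Finite P (RingHom.ker q) := Module.Finite.of_fg ((isNoetherianRing_iff_ideal_fg P).1 inferInstance _)
  haveI : Module.FinitePresentation P (RingHom.ker q) := Module.finitePresentation_of_finite (R := P) (M := ↥(RingHom.ker q))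
  have hpq : ∀ x : P, (p : P) * x ∈ RingHom.ker q := fun x => by
    rw [RingHom.mem_ker, map_mul, map_natCast, ← map_natCast (algebraMap k A), CharP.cast_eq_zero, map_zero, zero_mul]
  haveI : IsNoetherianRing A := isNoetherianRing_of_surjective P A q hq
  haveI : Module.FinitePresentation A (TensorProduct P A (RingHom.ker q)) := Module.finitePresentation_of_finite A _
  obtain ⟨n, f, g, hfg⟩ := Module.Flat.exists_factorization_of_finitePresentation (R := A) (h'.liftBaseChange A)
  let e₀ : TensorProduct P A (RingHom.ker q) := (1 : A) ⊗ₜ[P] ⟨(p : P) * 1, hpq 1⟩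
  have he₀ : h'.liftBaseChange A e₀ = 1 := by
    simp only [e₀, LinearMap.liftBaseChange_tmul, one_smul]
    change h _ = 1
    rw [hp, map_one, map_one]
  have hI : (Ideal.span (Set.range fun i => f e₀ i)).map (algebraMap A B) = ⊤ := by
    rw [Ideal.eq_top_iff_one, ← he₀, hfg, LinearMap.comp_apply, ← Finsupp.univ_sum_single (f e₀), map_sum]
    refine Ideal.sum_mem _ fun i _ => ?_
    rw [← Finsupp.smul_single_one, map_smul, Algebra.smul_def]
    exact Ideal.mul_mem_right _ _ (Ideal.mem_map_of_mem _ (Ideal.subset_span ⟨i, by simp⟩))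
  have hI' : Ideal.span (Set.range fun i => f e₀ i) = ⊤ := by
    by_contra hne
    obtain ⟨m, hm, hle⟩ := Ideal.exists_le_maximal _ hne
    refine Module.FaithfullyFlat.submodule_ne_top (R := A) (M := B) hm ?_
    rw [Ideal.smul_top_eq_map]
    exact (Submodule.restrictScalars_eq_top_iff A B B).2 (top_unique (hI ▸ Ideal.map_mono hle))
  obtain ⟨c, hc⟩ := (Submodule.mem_span_range_iff_exists_fun A).1 ((Ideal.eq_top_iff_one _).1 hI')
  let lA : TensorProduct P A (RingHom.ker q) →ₗ[A] A := (∑ i, c i • Finsupp.lapply i).comp f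
  refine Groth.Agent.FrobW.LiftData.isW2Liftable_of_functional A P ((algebraMap R₀ P).comp MvPolynomial.C) q hq
    ?_ (fun a => lA ((1 : A) ⊗ₜ[P] a)) (fun a b => by rw [TensorProduct.tmul_add, map_add]) (fun x a => ?_) fun x hx => ?_
  · rw [← RingHom.comp_assoc, IsLocalization.lift_comp]
    exact RingHom.ext fun w => MvPolynomial.eval₂_C _ _ _
  · rw [TensorProduct.tmul_smul, ← algebraMap_smul A x, map_smul, smul_eq_mul]
    rfl
  · have hxe : ((1 : A) ⊗ₜ[P] (⟨(p : P) * x, hx⟩ : RingHom.ker q)) = q x • e₀ := by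
      rw [show (⟨(p : P) * x, hx⟩ : RingHom.ker q) = x • ⟨(p : P) * 1, hpq 1⟩ from Subtype.ext
        (by rw [SetLike.val_smul, smul_eq_mul]; ring), TensorProduct.tmul_smul, ← algebraMap_smul A x]
      rfl
    rw [hxe, map_smul, smul_eq_mul]
    have : lA e₀ = 1 := by
      rw [← hc]
      simp [lA, LinearMap.sum_apply]
    rw [this, mul_one]

end Groth.Agent.S13145
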