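import Groth.Statements.S13146
import Groth.Agent.FrobW.Witt
import Mathlib.RingTheory.MvPolynomial.Basic
import Mathlib.Algebra.CharP.Algebra

set_option autoImplicit false
universe u
open scoped BigOperators
open FrobAlg

namespace Groth.Agent.S13146

/-- In an even number of variables — for a perfect field k of characteristic p and n ≥ 3, the local
Artinian algebra k[x_1, y_1, …, x_n, y_n]/(x_1y_1 + ⋯ + x_ny_n, x_1^p, y_1^p, …, x_n^p, y_n^p)
admits no flat lifting over W₂(k). (The published statement covers every number N ≥ 5 of variables,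
using x_1x_2 + ⋯ + x_{N−2}x_{N−1} + x_N² for odd N; the printed argument is written out for even N
and the odd case is said to be analogous, so only even N = 2n ≥ 6 is taken here.) -/
theorem result
    (p : ℕ) [Fact p.Prime] (k : Type u) [Field k] [CharP k p] [PerfectRing k p]
    (n : ℕ) (hn : 3 ≤ n) :
    ¬ FrobAlg.IsW2Liftable p k
      (MvPolynomial (Fin n × Fin 2) k ⧸ Ideal.span
        (insert (∑ i : Fin n, MvPolynomial.X (i, (0 : Fin 2)) * MvPolynomial.X (i, (1 : Fin 2)))
          (Set.range fun v : Fin n × Fin 2 => (MvPolynomial.X v : MvPolynomial (Fin n × Fin 2) k) ^ p))) := by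
  classical
  have hp := (Fact.out : p.Prime)
  set P := MvPolynomial (Fin n × Fin 2) k
  set J : Ideal P := Ideal.span (insert (∑ i : Fin n, MvPolynomial.X (i, (0 : Fin 2)) * MvPolynomial.X (i, (1 : Fin 2)))
    (Set.range fun v : Fin n × Fin 2 => (MvPolynomial.X v : P) ^ p))
  rintro ⟨B, _, ι, π, hB⟩
  let z : Fin n → P := fun i => MvPolynomial.X (i, 0) * MvPolynomial.X (i, 1)
  -- the universal divided difference
  have hR : ∀ s : Finset (Fin n), ∃ R : MvPolynomial (Fin n) ℤ,
      (∑ i ∈ s, MvPolynomial.X i) ^ p - ∑ i ∈ s, MvPolynomial.X i ^ p = MvPolynomial.C (p : ℤ) * R := by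
    intro s
    induction s using Finset.induction with
    | empty => exact ⟨0, by simp [hp.ne_zero]⟩
    | insert a s ha ih =>
      obtain ⟨R, hR⟩ := ih
      obtain ⟨r, hr⟩ := exists_add_pow_prime_eq hp (MvPolynomial.X a : MvPolynomial (Fin n) ℤ) (∑ i ∈ s, MvPolynomial.X i)
      refine ⟨R + MvPolynomial.X a * (∑ i ∈ s, MvPolynomial.X i) * r, ?_⟩
      rw [Finset.sum_insert ha, Finset.sum_insert ha, hr, map_natCast]
      rw [map_natCast] at hR
      linear_combination hR
  obtain ⟨R, hR⟩ := hR Finset.univ
  -- `R (z)` lies in `J`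
  have hRJ : MvPolynomial.aeval z R ∈ J := by
    choose s hs using fun v : Fin n × Fin 2 => hB.surj (Ideal.Quotient.mk J (MvPolynomial.X v))
    let zB : Fin n → B := fun i => s (i, 0) * s (i, 1)
    have h2 : ∀ u w : B, π u = 0 → π w = 0 → u * w = 0 := fun u w => Groth.Agent.FrobW.Witt.lift_mul_eq_zero hB
    have e1 : π (∑ i, zB i) = 0 := by
      rw [map_sum]
      simp only [zB, map_mul, hs]
      simp only [← map_mul, ← map_sum]
      exact Ideal.Quotient.eq_zero_iff_mem.2 (Ideal.subset_span (α := P) (Set.mem_insert _ _))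
    have e2 : ∀ v, π (s v ^ p) = 0 := fun v => by
      rw [map_pow, hs, ← map_pow]
      exact Ideal.Quotient.eq_zero_iff_mem.2 (Ideal.subset_span (α := P) (Set.mem_insert_of_mem _ ⟨v, rfl⟩))
    have e3 : (∑ i, zB i) ^ p = 0 := pow_eq_zero_of_le hp.two_le ((pow_two _).trans (h2 _ _ e1 e1))
    have e4 : ∀ i, zB i ^ p = 0 := fun i => by simp only [zB, mul_pow]; exact h2 _ _ (e2 _) (e2 _)
    have := congrArg (MvPolynomial.aeval zB) hR
    simp only [map_sub, map_pow, map_sum, map_mul, MvPolynomial.aeval_X, e3, e4, Finset.sum_const_zero, sub_zero] at this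
    rw [map_natCast MvPolynomial.C, map_natCast] at this
    rw [← Ideal.Quotient.eq_zero_iff_mem]
    have e5 := (Groth.Agent.FrobW.Witt.lift_natCast_mul_eq_zero hB).1 this.symm
    refine Eq.trans ?_ e5
    have e6 : ((Ideal.Quotient.mk J).comp (MvPolynomial.aeval (R := ℤ) z).toRingHom) =
        π.comp (MvPolynomial.aeval (R := ℤ) zB).toRingHom := by
      refine MvPolynomial.ringHom_ext (fun m => ?_) fun i => ?_
      · simp
      · simp [z, zB, hs, map_mul]
    exact RingHom.congr_fun e6 R
  -- a functional vanishing on `J`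
  let i₀ : Fin n := ⟨0, by omega⟩
  let i₁ : Fin n := ⟨1, by omega⟩
  let i₂ : Fin n := ⟨2, by omega⟩
  let Z₀ : Fin n → MvPolynomial (Fin 2) ℤ := fun i =>
    if i = i₀ then MvPolynomial.X 0 else if i = i₁ then MvPolynomial.X 1 else
      if i = i₂ then -(MvPolynomial.X 0 + MvPolynomial.X 1) else 0
  let Z : Fin n → MvPolynomial (Fin 2) k := fun i => MvPolynomial.map (Int.castRingHom k) (Z₀ i)
  let d : Fin 2 →₀ ℕ := Finsupp.single 0 1 + Finsupp.single 1 (p - 1)
  let val : ((Fin n × Fin 2) →₀ ℕ) → k := fun e =>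
    if ∀ i, e (i, 0) = e (i, 1) then MvPolynomial.coeff d (∏ i, Z i ^ e (i, 0)) else 0
  let L : P →ₗ[k] k := (MvPolynomial.basisMonomials (Fin n × Fin 2) k).constr k val
  have hL : ∀ e, L (MvPolynomial.monomial e 1) = val e := fun e => by
    have := (MvPolynomial.basisMonomials (Fin n × Fin 2) k).constr_basis k val e
    rwa [MvPolynomial.coe_basisMonomials] at this
  let ε : Fin n → (Fin n × Fin 2) →₀ ℕ := fun i => Finsupp.single (i, 0) 1 + Finsupp.single (i, 1) 1
  have hz : ∀ i, z i = MvPolynomial.monomial (ε i) 1 := fun i => by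
    simp only [z, ε, MvPolynomial.X]
    rw [MvPolynomial.monomial_mul, one_mul]
  have hsum : ∑ i, Z i = 0 := by
    simp only [Z, ← map_sum]
    rw [show ∑ i, Z₀ i = Z₀ i₀ + (Z₀ i₁ + Z₀ i₂) by
      rw [← Finset.add_sum_erase _ _ (Finset.mem_univ i₀), ← Finset.add_sum_erase _ _ (show i₁ ∈ Finset.univ.erase i₀ by simp [i₀, i₁]),
        Finset.sum_eq_single_of_mem i₂ (by simp [i₀, i₁, i₂]) (fun j hj hj2 => by
          simp only [Finset.mem_erase] at hj
          simp [Z₀, hj.1, hj.2.1, hj2])]]
    simp [Z₀, i₀, i₁, i₂]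
  have hd0 : d 0 = 1 := by simp [d]
  have hd1 : d 1 = p - 1 := by simp [d]
  have hdvd : ∀ (j : Fin 2) (g : MvPolynomial (Fin 2) k), MvPolynomial.coeff d (MvPolynomial.X j ^ p * g) = 0 := fun j g => by
    rw [MvPolynomial.X_pow_eq_monomial, MvPolynomial.coeff_monomial_mul', if_neg]
    intro hle
    have := hle j
    rw [Finsupp.single_eq_same] at this
    have h2 := hp.two_le
    fin_cases j
    · simp only [Fin.zero_eta, hd0] at this; omega
    · simp only [Fin.mk_one, hd1] at this; omega
  have hZp : ∀ i g, MvPolynomial.coeff d (Z i ^ p * g) = 0 := by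
    intro i g
    haveI : CharP (MvPolynomial (Fin 2) k) p := inferInstance
    simp only [Z, Z₀]
    split_ifs
    · simpa using hdvd 0 g
    · simpa using hdvd 1 g
    · rw [map_neg, map_add, MvPolynomial.map_X, MvPolynomial.map_X, ← neg_one_mul, mul_pow, add_pow_char, mul_assoc, add_mul, mul_add]
      rw [← mul_left_comm, ← mul_left_comm (MvPolynomial.X 1 ^ p), MvPolynomial.coeff_add, hdvd, hdvd, add_zero]
    · simp [hp.ne_zero]
  have hJ : ∀ f ∈ J, L f = 0 := by
    intro f hf
    suffices h : ∀ a : P, L (a * f) = 0 by simpa using h 1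
    induction hf using Submodule.span_induction with
    | mem f hf =>
      intro a
      induction a using MvPolynomial.induction_on' with
      | monomial e c =>
        rw [show MvPolynomial.monomial e c = c • MvPolynomial.monomial e 1 by rw [MvPolynomial.smul_monomial, smul_eq_mul, mul_one],
          smul_mul_assoc, map_smul]
        suffices h : L (MvPolynomial.monomial e 1 * f) = 0 by rw [h, smul_zero]
        rcases hf with rfl | ⟨v, rfl⟩
        · change L (MvPolynomial.monomial e 1 * ∑ i, z i) = 0
          simp only [Finset.mul_sum, hz, map_sum, MvPolynomial.monomial_mul, one_mul, hL, val]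
          have hiff : ∀ i, (∀ j, (e + ε i) (j, 0) = (e + ε i) (j, 1)) ↔ ∀ j, e (j, 0) = e (j, 1) := fun i => by
            refine forall_congr' fun j => ?_
            simp [ε, Finsupp.single_apply, Prod.ext_iff]
          by_cases he : ∀ j, e (j, 0) = e (j, 1)
          · simp only [hiff, he, implies_true, if_true]
            rw [← MvPolynomial.coeff_sum]
            suffices h : ∑ i, ∏ j, Z j ^ (e + ε i) (j, 0) = (∑ i, Z i) * ∏ j, Z j ^ e (j, 0) by
              rw [h, hsum, zero_mul, MvPolynomial.coeff_zero]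
            rw [Finset.sum_mul]
            refine Finset.sum_congr rfl fun i _ => ?_
            simp only [Finsupp.add_apply, pow_add, Finset.prod_mul_distrib]
            rw [mul_comm]
            congr 1
            rw [Finset.prod_eq_single i]
            · simp [ε]
            · intro j _ hj
              simp [ε, Finsupp.single_apply, Prod.ext_iff, hj.symm]
            · simp
          · simp only [hiff, he, if_false, Finset.sum_const_zero]
        · simp only [MvPolynomial.X_pow_eq_monomial]
          rw [MvPolynomial.monomial_mul, one_mul, hL]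
          simp only [val]
          split_ifs with he
          · obtain ⟨i, j⟩ := v
            have hge : p ≤ (e + Finsupp.single (i, j) p) (i, 0) := by
              fin_cases j
              · simp
              · rw [he i]; simp
            rw [← Finset.mul_prod_erase _ _ (Finset.mem_univ i), ← Nat.add_sub_cancel' hge, pow_add, mul_assoc]
            exact hZp _ _
          · rfl
      | add a b ha hb => rw [add_mul, map_add, ha, hb, add_zero]
    | zero => intro a; simp
    | add f g _ _ hf hg => intro a; rw [mul_add, map_add, hf, hg, add_zero]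
    | smul c f _ hf => intro a; rw [smul_eq_mul, ← mul_assoc]; exact hf _
  have hbal : ∀ (R : MvPolynomial (Fin n) ℤ), L (MvPolynomial.aeval z R) = MvPolynomial.coeff d (MvPolynomial.aeval Z R) := by
    intro R
    induction R using MvPolynomial.induction_on' with
    | monomial a c =>
      rw [MvPolynomial.aeval_monomial, MvPolynomial.aeval_monomial, Finsupp.prod_fintype _ _ (fun i => pow_zero _),
        Finsupp.prod_fintype _ _ (fun i => pow_zero _)]
      simp only [hz, MvPolynomial.monomial_pow, one_pow]
      have hprod : ∀ s : Finset (Fin n), (∏ i ∈ s, MvPolynomial.monomial (a i • ε i) (1 : k)) =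
          MvPolynomial.monomial (∑ i ∈ s, a i • ε i) 1 := fun s => by
        rw [MvPolynomial.monomial_sum_one]
      have hpw : (∏ i, (MvPolynomial.monomial (ε i) (1 : k)) ^ a i) = MvPolynomial.monomial (∑ i, a i • ε i) 1 := by
        rw [← hprod]; exact Finset.prod_congr rfl fun i _ => by rw [MvPolynomial.monomial_pow, one_pow]
      simp only [algebraMap_int_eq, eq_intCast, ← zsmul_eq_mul, map_zsmul, hprod, hpw, hL, MvPolynomial.coeff_smul, val]
      have hev : ∀ i (j : Fin 2), (∑ l, a l • ε l) (i, j) = a i := fun i j => by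
        rw [Finsupp.finsetSum_apply, Finset.sum_eq_single i]
        · fin_cases j <;> simp [ε]
        · intro l _ hl; simp [ε, Finsupp.single_apply, Prod.ext_iff, hl]
        · simp
      simp [hev]
    | add a b ha hb => simp only [map_add, ha, hb, MvPolynomial.coeff_add]
  have hval : MvPolynomial.coeff d (MvPolynomial.aeval Z₀ R) = -((-1) ^ p) := by
    have h0 : ∑ i, Z₀ i = 0 := by
      rw [show ∑ i, Z₀ i = Z₀ i₀ + (Z₀ i₁ + Z₀ i₂) by
        rw [← Finset.add_sum_erase _ _ (Finset.mem_univ i₀), ← Finset.add_sum_erase _ _ (show i₁ ∈ Finset.univ.erase i₀ by simp [i₀, i₁]),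
          Finset.sum_eq_single_of_mem i₂ (by simp [i₀, i₁, i₂]) (fun j hj hj2 => by
            simp only [Finset.mem_erase] at hj
            simp [Z₀, hj.1, hj.2.1, hj2])]]
      simp [Z₀, i₀, i₁, i₂]
    have hpw : ∑ i, Z₀ i ^ p = MvPolynomial.X 0 ^ p + (MvPolynomial.X 1 ^ p + (-1) ^ p * (MvPolynomial.X 0 + MvPolynomial.X 1) ^ p) := by
      rw [← Finset.add_sum_erase _ _ (Finset.mem_univ i₀), ← Finset.add_sum_erase _ _ (show i₁ ∈ Finset.univ.erase i₀ by simp [i₀, i₁]),
        Finset.sum_eq_single_of_mem i₂ (by simp [i₀, i₁, i₂]) (fun j hj hj2 => by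
          simp only [Finset.mem_erase] at hj
          simp [Z₀, hj.1, hj.2.1, hj2, hp.ne_zero])]
      have : i₂ ≠ i₀ ∧ i₂ ≠ i₁ ∧ i₁ ≠ i₀ := by simp [i₀, i₁, i₂]
      simp only [Z₀, this, if_false, if_true]
      rw [← neg_one_mul, mul_pow]
    have := congrArg (fun f => MvPolynomial.coeff d (MvPolynomial.aeval Z₀ f)) hR
    simp only [map_sub, map_pow, map_sum, map_mul, MvPolynomial.aeval_X, h0, hpw, zero_pow hp.ne_zero, zero_sub,
      MvPolynomial.coeff_neg, MvPolynomial.coeff_add, MvPolynomial.aeval_C, algebraMap_int_eq, eq_intCast, Int.cast_natCast] at this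
    have c0 : ∀ j : Fin 2, MvPolynomial.coeff d ((MvPolynomial.X j : MvPolynomial (Fin 2) ℤ) ^ p) = 0 := fun j => by
      rw [MvPolynomial.X_pow_eq_monomial, MvPolynomial.coeff_monomial, if_neg]
      intro h
      have h2 := hp.two_le
      have h' := DFunLike.congr_fun h j
      rw [Finsupp.single_eq_same] at h'
      fin_cases j
      · simp only [Fin.zero_eta, hd0] at h'; omega
      · simp only [Fin.mk_one, hd1] at h'; omega
    rw [map_natCast, c0, c0, zero_add, zero_add, show ((-1 : MvPolynomial (Fin 2) ℤ)) ^ p = MvPolynomial.C ((-1) ^ p) by simp,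
      MvPolynomial.coeff_C_mul, ← map_natCast (MvPolynomial.C : ℤ →+* MvPolynomial (Fin 2) ℤ) p, MvPolynomial.coeff_C_mul] at this
    have hb : MvPolynomial.coeff d ((MvPolynomial.X 0 + MvPolynomial.X 1 : MvPolynomial (Fin 2) ℤ) ^ p) = p := by
      have hd : ∀ t ≤ p, Finsupp.single (0 : Fin 2) t + Finsupp.single 1 (p - t) = d ↔ t = 1 := fun t _ => by
        refine ⟨fun h => ?_, fun h => by rw [h]⟩
        have := DFunLike.congr_fun h 0
        simpa [d] using this
      rw [add_pow, MvPolynomial.coeff_sum, Finset.sum_eq_single 1]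
      · rw [← map_natCast (MvPolynomial.C : ℤ →+* MvPolynomial (Fin 2) ℤ), MvPolynomial.X_pow_eq_monomial,
          MvPolynomial.X_pow_eq_monomial, MvPolynomial.monomial_mul, mul_comm, MvPolynomial.coeff_C_mul, MvPolynomial.coeff_monomial]
        simp [d]
      · intro t ht hne
        rw [← map_natCast (MvPolynomial.C : ℤ →+* MvPolynomial (Fin 2) ℤ), MvPolynomial.X_pow_eq_monomial,
          MvPolynomial.X_pow_eq_monomial, MvPolynomial.monomial_mul, mul_comm, MvPolynomial.coeff_C_mul, MvPolynomial.coeff_monomial,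
          if_neg (fun h => hne ((hd t (Nat.lt_succ_iff.1 (Finset.mem_range.1 ht))).1 h)), mul_zero]
      · intro h; exact absurd (Finset.mem_range.2 (by have := hp.two_le; omega)) h
    rw [hb] at this
    have hp' : (p : ℤ) ≠ 0 := by exact_mod_cast hp.ne_zero
    apply mul_left_cancel₀ hp'
    rw [← this]
    ring
  have h0 := hJ _ hRJ
  rw [hbal] at h0
  have hmap : MvPolynomial.aeval Z R = MvPolynomial.map (Int.castRingHom k) (MvPolynomial.aeval Z₀ R) := by
    have : (MvPolynomial.aeval (R := ℤ) Z).toRingHom = (MvPolynomial.map (Int.castRingHom k)).comp (MvPolynomial.aeval (R := ℤ) Z₀).toRingHom :=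
      MvPolynomial.ringHom_ext (fun m => by simp) fun i => by simp [Z]
    exact RingHom.congr_fun this R
  rw [hmap, MvPolynomial.coeff_map, hval] at h0
  simp at h0

end Groth.Agent.S13146
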