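import Groth.Statements.S13147
import Groth.Agent.FrobW.Witt

set_option autoImplicit false
universe u
open FrobAlg

namespace Groth.Agent.S13147

/-- Let k be a perfect field of characteristic p and (A, φ) a k-algebra with a Frobenius splitting (φ
additive, φ(a^p b) = a φ(b), φ(1) = 1). The quotient of W₂(A) by the ideal generated by the Witt
vectors (0, a) with φ(a) = 0 — the ring of twisted Witt vectors of (A, φ) — is a flat lifting of A
over W₂(k): flat over W₂(k), with reduction map onto A induced by (a₀, a₁) ↦ a₀ whose kernel is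
generated by the maximal ideal of W₂(k). (The published statement also asserts that a morphism of
algebras with Frobenius splittings compatible with the splittings induces a ring map between these
quotients; that part is not stated here.) -/
theorem result
    (p : ℕ) [Fact p.Prime] (k : Type u) [Field k] [CharP k p] [PerfectRing k p]
    (A : Type u) [CommRing A] [Algebra k A] (φ : A →+ A)
    (hφ : ∀ a b : A, φ (a ^ p * b) = a * φ b) (hφ1 : φ 1 = 1) :
    FrobAlg.IsLift p k A (FrobAlg.W2 p A ⧸ FrobAlg.splitIdeal p A φ)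
      ((Ideal.Quotient.mk (FrobAlg.splitIdeal p A φ)).comp (WittGrp.truncMap p 2 (algebraMap k A)))
      (FrobAlg.splitRes p A φ) := by
  haveI : CharP k p := inferInstance
  have hpA : (p : A) = 0 := by rw [← map_natCast (algebraMap k A), CharP.cast_eq_zero, map_zero]
  set I := FrobAlg.splitIdeal p A φ
  have hmem : ∀ w, w ∈ I ↔ w.coeff 0 = 0 ∧ φ (w.coeff 1) = 0 := by
    intro w
    refine ⟨fun hw => ?_, fun h => Ideal.subset_span ⟨by rw [Groth.Agent.FrobW.Witt.res_eq]; exact h.1, h.2⟩⟩
    induction hw using Submodule.span_induction with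
    | mem w hw => exact ⟨(Groth.Agent.FrobW.Witt.res_eq w).symm.trans hw.1, hw.2⟩
    | zero => simp
    | add a b _ _ ha hb =>
      have : a + b = Groth.Agent.FrobW.Witt.vOne (a.coeff 1 + b.coeff 1) := by
        rw [map_add, ← Groth.Agent.FrobW.Witt.eq_vOne ha.1, ← Groth.Agent.FrobW.Witt.eq_vOne hb.1]
      rw [this, Groth.Agent.FrobW.Witt.coeff_vOne_zero, Groth.Agent.FrobW.Witt.coeff_vOne_one, map_add, ha.2, hb.2, add_zero]
      exact ⟨rfl, rfl⟩
    | smul c a _ ha =>
      rw [smul_eq_mul, Groth.Agent.FrobW.Witt.eq_vOne ha.1, Groth.Agent.FrobW.Witt.mul_vOne hpA]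
      simp [hφ, ha.2]
  have hφp : ∀ a, φ (a ^ p) = a := fun a => by have := hφ a 1; rwa [mul_one, hφ1, mul_one] at this
  refine Groth.Agent.FrobW.Witt.isLift_of_natCast (fun a => ?_) (RingHom.ext fun w => ?_) (fun b hb => ?_) fun b hb => ?_
  · exact ⟨Ideal.Quotient.mk I (TruncatedWittVector.mk p fun _ => a), by simp [FrobAlg.splitRes, I]⟩
  · simp [FrobAlg.splitRes, I]
  · obtain ⟨w, rfl⟩ := Ideal.Quotient.mk_surjective b
    replace hb : w.coeff 0 = 0 := by simpa [FrobAlg.splitRes, I] using hb
    refine ⟨Ideal.Quotient.mk I (TruncatedWittVector.mk p fun _ => φ (w.coeff 1)), ?_⟩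
    rw [← map_natCast (Ideal.Quotient.mk I), ← map_mul, Ideal.Quotient.eq, Groth.Agent.FrobW.Witt.natCast_mul_two hpA,
      TruncatedWittVector.coeff_mk]
    rw (occs := .pos [1]) [Groth.Agent.FrobW.Witt.eq_vOne hb]
    rw [hmem, ← map_sub, Groth.Agent.FrobW.Witt.coeff_vOne_zero, Groth.Agent.FrobW.Witt.coeff_vOne_one, map_sub, hφp, sub_self]
    exact ⟨rfl, rfl⟩
  · obtain ⟨w, rfl⟩ := Ideal.Quotient.mk_surjective b
    rw [← map_natCast (Ideal.Quotient.mk I), ← map_mul, Ideal.Quotient.eq_zero_iff_mem,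
      Groth.Agent.FrobW.Witt.natCast_mul_two hpA, hmem, Groth.Agent.FrobW.Witt.coeff_vOne_one, hφp] at hb
    simpa [FrobAlg.splitRes, I] using hb.2

end Groth.Agent.S13147
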