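import Groth.Statements.S13148
import Groth.Agent.FrobW.LiftData
import Groth.Agent.S13150
import Groth.Agent.EGA4Lib.SmoothRegular
import Groth.Agent.RegLoc.Basic
import Mathlib.RingTheory.LocalProperties.Reduced
import Mathlib.RingTheory.Localization.AtPrime.Basic

set_option autoImplicit false
universe u
open FrobAlg

namespace Groth.Agent.S13148

/-- Over a perfect field k of characteristic p, every smooth affine scheme Spec A admits a flat lifting
over W₂(k) together with a lifting of Frobenius (not necessarily unique). -/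
theorem result
    (p : ℕ) [Fact p.Prime] (k : Type u) [Field k] [CharP k p] [PerfectRing k p]
    (A : Type u) [CommRing A] [Algebra k A] [Algebra.Smooth k A] :
    FrobAlg.IsFLiftable p k A := by
  classical
  -- `A` is reduced
  haveI : IsReduced A := by
    haveI : IsNoetherianRing A := Algebra.FiniteType.isNoetherianRing k A
    refine isReduced_ofLocalizationMaximal A fun m hm => ?_
    have hk : PrimeSpectrum.comap (algebraMap k A) ⟨m, hm.isPrime⟩ ∈ EGA4.regLocus k := by
      change IsRegularLocalRing (Localization.AtPrime _)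
      have hP : (PrimeSpectrum.comap (algebraMap k A) ⟨m, hm.isPrime⟩).asIdeal = ⊥ :=
        Ideal.eq_bot_or_top _ |>.resolve_right (PrimeSpectrum.isPrime _).ne_top
      exact IsRegularLocalRing.of_ringEquiv (IsLocalization.atUnits k
        (PrimeSpectrum.comap (algebraMap k A) ⟨m, hm.isPrime⟩).asIdeal.primeCompl fun x hx =>
          IsUnit.mk0 x fun h0 => hx (h0 ▸ Ideal.zero_mem _)).toRingEquiv
    haveI : IsRegularLocalRing (Localization.AtPrime m) :=
      Groth.Agent.EGA4Lib.mem_regLocus_of_smooth (R := k) (S := A) ⟨m, hm.isPrime⟩ hk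
    haveI := Groth.Agent.RegLoc.isDomain (Localization.AtPrime m)
    infer_instance
  have hp := (Fact.out : p.Prime)
  have hpA : (p : A) = 0 := by rw [← map_natCast (algebraMap k A), CharP.cast_eq_zero, map_zero]
  set P := MvPolynomial A (FrobAlg.W2 p k)
  let q : P →+* A := MvPolynomial.eval₂Hom ((algebraMap k A).comp (FrobAlg.res p k)) id
  have hqC : ∀ w, q (MvPolynomial.C w) = algebraMap k A (FrobAlg.res p k w) := fun w => MvPolynomial.eval₂_C _ _ _
  have hqX : ∀ a, q (MvPolynomial.X a) = a := fun a => MvPolynomial.eval₂_X _ _ _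
  set Q := RingHom.ker q
  -- the first order thickening of `A` in characteristic `p`
  set I₀ : Ideal P := Ideal.span {(p : P)} ⊔ Q * Q
  have hI₀ : I₀ ≤ Q := sup_le (Ideal.span_le.2 (Set.singleton_subset_iff.2 (by
    change q (p : P) = 0
    rw [map_natCast, hpA]))) Ideal.mul_le_right
  obtain ⟨j, hj⟩ : ∃ j : k →+* P ⧸ I₀, j.comp (FrobAlg.res p k) = (Ideal.Quotient.mk I₀).comp MvPolynomial.C := by
    refine ⟨RingHom.liftOfSurjective (FrobAlg.res p k) (fun c => ⟨TruncatedWittVector.mk p fun _ => c, by simp⟩)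
      ⟨(Ideal.Quotient.mk I₀).comp MvPolynomial.C, fun w hw => ?_⟩, RingHom.liftOfRightInverse_comp _ _ _ _⟩
    rw [Groth.Agent.FrobW.Witt.ker_res, Ideal.mem_span_singleton'] at hw
    obtain ⟨v, rfl⟩ := hw
    rw [RingHom.mem_ker, RingHom.comp_apply, Ideal.Quotient.eq_zero_iff_mem, map_mul, map_natCast]
    exact Ideal.mem_sup_left (Ideal.mul_mem_left _ _ (Ideal.mem_span_singleton_self _))
  letI : Algebra k (P ⧸ I₀) := j.toAlgebra
  let g : P ⧸ I₀ →ₐ[k] A :=
    { toRingHom := Ideal.Quotient.lift I₀ q fun x hx => hI₀ hx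
      commutes' := fun c => by
        obtain ⟨w, rfl⟩ : ∃ w, FrobAlg.res p k w = c := ⟨TruncatedWittVector.mk p fun _ => c, by simp⟩
        change Ideal.Quotient.lift I₀ q _ (j (FrobAlg.res p k w)) = _
        rw [show j (FrobAlg.res p k w) = Ideal.Quotient.mk I₀ (MvPolynomial.C w) from RingHom.congr_fun hj w,
          Ideal.Quotient.lift_mk, hqC] }
  have hgmk : ∀ x, g (Ideal.Quotient.mk I₀ x) = q x := fun x => rfl
  have hgs : Function.Surjective g := fun a => ⟨Ideal.Quotient.mk I₀ (MvPolynomial.X a), hqX a⟩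
  have hgn : IsNilpotent (RingHom.ker (g : P ⧸ I₀ →+* A)) := by
    refine ⟨2, ?_⟩
    rw [Submodule.zero_eq_bot, eq_bot_iff]
    refine le_trans (le_of_eq (by rw [Submodule.pow_succ, Submodule.pow_one])) (Ideal.mul_le.2 ?_)
    intro a ha b hb
    obtain ⟨a, rfl⟩ := Ideal.Quotient.mk_surjective a
    obtain ⟨b, rfl⟩ := Ideal.Quotient.mk_surjective b
    rw [Submodule.mem_bot, ← map_mul, Ideal.Quotient.eq_zero_iff_mem]
    exact Ideal.mem_sup_right (Ideal.mul_mem_mul ha hb)
  let sec : A →ₐ[k] P ⧸ I₀ := Algebra.FormallySmooth.liftOfSurjective (AlgHom.id k A) g hgs hgn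
  have hsec : ∀ a, g (sec a) = a := fun a => Algebra.FormallySmooth.liftOfSurjective_apply _ _ hgs hgn a
  choose s hs using fun a => Ideal.Quotient.mk_surjective (I := I₀) (sec a)
  let e : P →+* P := MvPolynomial.eval₂Hom MvPolynomial.C s
  have hmke : (Ideal.Quotient.mk I₀).comp e = sec.toRingHom.comp q := by
    refine MvPolynomial.ringHom_ext (fun w => ?_) fun a => ?_
    · change Ideal.Quotient.mk I₀ (e (MvPolynomial.C w)) = sec (q (MvPolynomial.C w))
      rw [hqC, AlgHom.commutes, show e (MvPolynomial.C w) = MvPolynomial.C w from MvPolynomial.eval₂_C _ _ _]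
      exact (RingHom.congr_fun hj w).symm
    · change Ideal.Quotient.mk I₀ (e (MvPolynomial.X a)) = sec (q (MvPolynomial.X a))
      rw [hqX, show e (MvPolynomial.X a) = s a from MvPolynomial.eval₂_X _ _ _, hs]
  let θ₀ : P →+* FrobAlg.W2 p A := MvPolynomial.eval₂Hom (WittGrp.truncMap p 2 (algebraMap k A))
    fun a => TruncatedWittVector.mk p fun _ => a
  have hres₀ : (FrobAlg.res p A).comp θ₀ = q :=
    MvPolynomial.ringHom_ext (fun w => by simp [θ₀, hqC]) fun a => by simp [θ₀, hqX]
  let θ := θ₀.comp e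
  have hres : (FrobAlg.res p A).comp θ = q := by
    refine RingHom.ext fun x => ?_
    change FrobAlg.res p A (θ₀ (e x)) = q x
    rw [← RingHom.comp_apply, hres₀, ← hgmk, ← RingHom.comp_apply (Ideal.Quotient.mk I₀) e, hmke]
    exact hsec _
  have hroot : ∀ f : Q, ∃ c, θ f = Groth.Agent.FrobW.Witt.vOne (c ^ p) := by
    intro f
    have hmem : e f ∈ I₀ := by
      rw [← Ideal.Quotient.eq_zero_iff_mem, ← RingHom.comp_apply, hmke, RingHom.comp_apply, RingHom.mem_ker.1 f.2, map_zero]
    obtain ⟨a, ha, b, hb, hab⟩ := Submodule.mem_sup.1 hmem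
    obtain ⟨y, rfl⟩ := Ideal.mem_span_singleton.1 ha
    have hb0 : θ₀ b = 0 := by
      refine Submodule.mul_induction_on hb (fun u hu v hv => ?_) (fun u v hu hv => ?_)
      · rw [map_mul]
        exact Groth.Agent.FrobW.Witt.mul_eq_zero_of_res hpA ((RingHom.congr_fun hres₀ u).trans hu) ((RingHom.congr_fun hres₀ v).trans hv)
      · rw [map_add, hu, hv, add_zero]
    refine ⟨q y, ?_⟩
    change θ₀ (e f) = _
    rw [← hab, map_add, map_mul, map_natCast, hb0, add_zero, Groth.Agent.FrobW.Witt.natCast_mul_two hpA,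
      ← Groth.Agent.FrobW.Witt.res_eq, ← RingHom.comp_apply, hres₀]
  choose l hl using hroot
  rcases subsingleton_or_nontrivial A with hA | hA
  · refine ⟨A, inferInstance, (algebraMap k A).comp (FrobAlg.res p k), RingHom.id A, RingHom.id A,
      ⟨Groth.Agent.FrobW.Witt.isLift_of_natCast (fun a => ⟨a, rfl⟩) rfl (fun b _ => ⟨0, Subsingleton.elim _ _⟩)
        (fun b _ => Subsingleton.elim _ _), RingHom.ext fun _ => Subsingleton.elim _ _, fun _ => Subsingleton.elim _ _⟩⟩
  haveI : CharP A p := (CharP.charP_iff_prime_eq_zero hp).mpr hpA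
  have hinj : ∀ c c' : A, Groth.Agent.FrobW.Witt.vOne (p := p) (c ^ p) = Groth.Agent.FrobW.Witt.vOne (c' ^ p) → c = c' := fun c c' h => by
    have h1 := congrArg (TruncatedWittVector.coeff 1) h
    rw [Groth.Agent.FrobW.Witt.coeff_vOne_one, Groth.Agent.FrobW.Witt.coeff_vOne_one] at h1
    exact frobenius_inj A p h1
  obtain ⟨J, hJ, π, hπ, hlift⟩ := Groth.Agent.FrobW.LiftData.exists_lift_of_functional A P MvPolynomial.C q
    (fun a => ⟨MvPolynomial.X a, hqX a⟩) (RingHom.ext hqC) l
    (fun a b => hinj _ _ (by rw [← hl, Submodule.coe_add, map_add, hl, hl, ← map_add, add_pow_char]))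
    (fun x a => hinj _ _ (by
      rw [← hl, SetLike.val_smul, smul_eq_mul, map_mul, hl, Groth.Agent.FrobW.Witt.mul_vOne hpA, mul_pow,
        ← Groth.Agent.FrobW.Witt.res_eq, ← RingHom.comp_apply, hres]))
    (fun x hx => hinj _ _ (by
      rw [← hl]
      change θ ((p : P) * x) = _
      rw [map_mul, map_natCast, Groth.Agent.FrobW.Witt.natCast_mul_two hpA, ← Groth.Agent.FrobW.Witt.res_eq,
        ← RingHom.comp_apply, hres]))
  let θ' : P ⧸ J →+* FrobAlg.W2 p A := Ideal.Quotient.lift J θ fun x hx => by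
    obtain ⟨hx, h0⟩ := hJ x hx
    rw [show θ x = Groth.Agent.FrobW.Witt.vOne (l ⟨x, hx⟩ ^ p) from hl ⟨x, hx⟩, h0, zero_pow hp.ne_zero, map_zero]
  haveI : IsNoetherianRing A := Algebra.FiniteType.isNoetherianRing k A
  obtain ⟨Φ, hΦ⟩ := (Groth.Agent.S13150.result p k A (P ⧸ J) _ π hlift).2 ⟨θ', by
    refine Ideal.Quotient.ringHom_ext ?_
    rw [RingHom.comp_assoc, Ideal.Quotient.lift_comp_mk, hres, hπ], RingHom.ext fun w => by
      change θ₀ (e (MvPolynomial.C w)) = _
      rw [show e (MvPolynomial.C w) = MvPolynomial.C w from MvPolynomial.eval₂_C _ _ _]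
      exact MvPolynomial.eval₂_C _ _ _⟩
  exact ⟨P ⧸ J, inferInstance, _, π, Φ, hΦ⟩

end Groth.Agent.S13148
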