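import Groth.Statements.S13149
import Mathlib.LinearAlgebra.Matrix.NonsingularInverse
import Mathlib.Data.ZMod.Basic
import Mathlib.Tactic.LinearCombination
import Mathlib.Tactic.FinCases
import Mathlib.RingTheory.LocalRing.MaximalIdeal.Basic
import Mathlib.LinearAlgebra.Matrix.Notation
-- import your own Groth.Agent.* helpers here

set_option autoImplicit false
universe u
open CAlg

namespace Groth.Agent.S13149

open Matrix

theorem det_eq_zero_of_orth {A : Type u} [CommRing A] (r₀ r₁ r₂ : Fin 3 → A) (n : Fin 3 → A)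
    (hn : ∃ i, IsUnit (n i)) (h₀ : dotProduct r₀ n = 0) (h₁ : dotProduct r₁ n = 0) (h₂ : dotProduct r₂ n = 0) :
    Matrix.det (Matrix.of ![r₀, r₁, r₂]) = 0 := by
  set R := Matrix.of ![r₀, r₁, r₂] with hR
  have h : R.mulVec n = 0 := by
    funext i
    fin_cases i <;> simp [hR, Matrix.mulVec, h₀, h₁, h₂]
  obtain ⟨i, hi⟩ := hn
  have h2 := congrArg (fun v => R.adjugate.mulVec v i) h
  simp only [Matrix.mulVec_mulVec, Matrix.adjugate_mul, Matrix.smul_mulVec, Matrix.one_mulVec, Pi.smul_apply,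
    smul_eq_mul, Matrix.mulVec_zero, Pi.zero_apply] at h2
  exact hi.mul_left_eq_zero.mp h2

/-- Let A be a local ring and ρ a map from the points of the projective plane over F_p to the points of
the projective plane over A (vectors with a unit coordinate, up to units) taking collinear triples
to collinear triples (three points are collinear when a vector with a unit coordinate is orthogonal
to all three). If ρ sends the standard frame (1:0:0), (0:1:0), (0:0:1), (1:1:1) to four points in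
general position, then p = 0 in A. (The published statement asks only that ρ preserve collinearity;
a constant map does so over any ring, and the published argument begins by moving the images of the
standard frame to the standard frame, which needs them in general position — that condition is made
a hypothesis here.) -/
theorem result
    (p : ℕ) [Fact p.Prime] (A : Type u) [CommRing A] [IsLocalRing A]
    (ρ : (Fin 3 → ZMod p) → (Fin 3 → A))
    (hpt : ∀ v : Fin 3 → ZMod p, v ≠ 0 → ∃ i, IsUnit (ρ v i))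
    (hcol : ∀ u v w : Fin 3 → ZMod p, u ≠ 0 → v ≠ 0 → w ≠ 0 →
      Matrix.det (Matrix.of ![u, v, w]) = 0 →
      ∃ n : Fin 3 → A, (∃ i, IsUnit (n i)) ∧
        dotProduct (ρ u) n = 0 ∧ dotProduct (ρ v) n = 0 ∧ dotProduct (ρ w) n = 0)
    (hgen : IsUnit (Matrix.det (Matrix.of ![ρ (Pi.single 0 1), ρ (Pi.single 1 1), ρ (Pi.single 2 1)])) ∧
      IsUnit (Matrix.det (Matrix.of ![ρ (Pi.single 0 1), ρ (Pi.single 1 1), ρ (fun _ => 1)])) ∧
      IsUnit (Matrix.det (Matrix.of ![ρ (Pi.single 0 1), ρ (Pi.single 2 1), ρ (fun _ => 1)])) ∧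
      IsUnit (Matrix.det (Matrix.of ![ρ (Pi.single 1 1), ρ (Pi.single 2 1), ρ (fun _ => 1)]))) :
    (p : A) = 0 := by
  classical
  set M : Matrix (Fin 3) (Fin 3) A :=
    Matrix.of ![ρ (Pi.single 0 1), ρ (Pi.single 1 1), ρ (Pi.single 2 1)] with hM
  obtain ⟨hd, hd01, hd02, hd12⟩ := hgen
  let e : Fin 3 → ZMod p := fun _ => 1
  set u : Fin 3 → A := ρ e ᵥ* M⁻¹ with hu
  have hρe : ρ e = u ᵥ* M := by rw [hu, Matrix.vecMul_vecMul, Matrix.nonsing_inv_mul M hd, Matrix.vecMul_one]
  have hcomb : ∀ j, ρ e j = u 0 * ρ (Pi.single 0 1) j + u 1 * ρ (Pi.single 1 1) j + u 2 * ρ (Pi.single 2 1) j := by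
    intro j
    rw [hρe]
    simp [hM, Matrix.vecMul, dotProduct, Fin.sum_univ_three]
  have huu : ∀ i, IsUnit (u i) := by
    intro i
    fin_cases i
    · have : Matrix.det (Matrix.of ![ρ (Pi.single 1 1), ρ (Pi.single 2 1), ρ e]) = u 0 * M.det := by
        simp [hM, Matrix.det_fin_three, hcomb]; ring
      exact isUnit_of_mul_isUnit_left (this ▸ hd12)
    · have : Matrix.det (Matrix.of ![ρ (Pi.single 0 1), ρ (Pi.single 2 1), ρ e]) = -u 1 * M.det := by
        simp [hM, Matrix.det_fin_three, hcomb]; ring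
      exact (IsUnit.neg_iff _).mp (isUnit_of_mul_isUnit_left (this ▸ hd02))
    · have : Matrix.det (Matrix.of ![ρ (Pi.single 0 1), ρ (Pi.single 1 1), ρ e]) = u 2 * M.det := by
        simp [hM, Matrix.det_fin_three, hcomb]; ring
      exact isUnit_of_mul_isUnit_left (this ▸ hd01)
  let D : Matrix (Fin 3) (Fin 3) A := Matrix.diagonal fun i => ((huu i).unit⁻¹ : Aˣ)
  let σ : (Fin 3 → ZMod p) → (Fin 3 → A) := fun v => ρ v ᵥ* (M⁻¹ * D)
  have hDD : ∀ i, ((huu i).unit⁻¹ : Aˣ) * u i = (1 : A) := fun i => (huu i).val_inv_mul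
  have hinv : (M⁻¹ * D) * (Matrix.diagonal u * M) = 1 := by
    rw [Matrix.mul_assoc, ← Matrix.mul_assoc D, Matrix.diagonal_mul_diagonal]
    simp only [hDD, Matrix.diagonal_one, Matrix.one_mul, Matrix.nonsing_inv_mul M hd]
  have σpt : ∀ v : Fin 3 → ZMod p, v ≠ 0 → ∃ i, IsUnit (σ v i) := by
    intro v hv
    by_contra! h
    obtain ⟨i, hi⟩ := hpt v hv
    have hρ : ρ v = σ v ᵥ* (Matrix.diagonal u * M) := by
      rw [Matrix.vecMul_vecMul, hinv, Matrix.vecMul_one]
    rw [hρ] at hi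
    refine (IsLocalRing.mem_maximalIdeal _).mp ?_ hi
    simp only [Matrix.vecMul, dotProduct]
    exact sum_mem fun j _ => Ideal.mul_mem_right _ _ ((IsLocalRing.mem_maximalIdeal _).mpr (h j))
  have σcol : ∀ a b c : Fin 3 → ZMod p, a ≠ 0 → b ≠ 0 → c ≠ 0 → Matrix.det (Matrix.of ![a, b, c]) = 0 →
      Matrix.det (Matrix.of ![σ a, σ b, σ c]) = 0 := by
    intro a b c ha hb hc h
    obtain ⟨n, hn, h0, h1, h2⟩ := hcol a b c ha hb hc h
    have : Matrix.of ![σ a, σ b, σ c] = Matrix.of ![ρ a, ρ b, ρ c] * (M⁻¹ * D) := by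
      ext i j
      fin_cases i <;> simp [σ, Matrix.vecMul, Matrix.mul_apply, dotProduct]
    rw [this, Matrix.det_mul, det_eq_zero_of_orth _ _ _ n hn h0 h1 h2, zero_mul]
  have σe : ∀ i, σ (Pi.single i 1) = Pi.single i (((huu i).unit⁻¹ : Aˣ) : A) := by
    intro i
    have hrow : ρ (Pi.single i 1) = Pi.single i (1 : A) ᵥ* M := by
      rw [Matrix.single_one_vecMul]
      funext j
      fin_cases i <;> simp [hM]
    show ρ _ ᵥ* (M⁻¹ * D) = _
    rw [hrow, Matrix.vecMul_vecMul, ← Matrix.mul_assoc, Matrix.mul_nonsing_inv M hd, Matrix.one_mul,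
      Matrix.single_one_vecMul]
    funext j
    simp [D, Matrix.diagonal, Pi.single_apply, eq_comm]
  have σ1 : σ e = fun _ => 1 := by
    funext j
    show (ρ e ᵥ* (M⁻¹ * D)) j = 1
    rw [← Matrix.vecMul_vecMul, ← hu]
    simp [D, Matrix.vecMul_diagonal]
  have w0 := (huu 0).unit⁻¹.isUnit
  have w1 := (huu 1).unit⁻¹.isUnit
  have w2 := (huu 2).unit⁻¹.isUnit
  have ne2 : ∀ v : Fin 3 → ZMod p, v 2 = 1 → v ≠ 0 := fun v hv h => one_ne_zero (α := ZMod p) (by rw [← hv, h]; rfl)
  have nes : ∀ i : Fin 3, (Pi.single i 1 : Fin 3 → ZMod p) ≠ 0 := fun i => by simp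
  have unit2 : ∀ (v : Fin 3 → A), (∃ i, IsUnit (v i)) → ∀ c₀ c₁ : A, v 0 = c₀ * v 2 → v 1 = c₁ * v 2 → IsUnit (v 2) := by
    rintro v ⟨i, hi⟩ c₀ c₁ h0 h1
    fin_cases i
    · exact isUnit_of_mul_isUnit_right (h0 ▸ hi)
    · exact isUnit_of_mul_isUnit_right (h1 ▸ hi)
    · exact hi
  -- the image of (0 : 1 : 1)
  obtain ⟨E, hE0, hE1, hE2⟩ : ∃ E : A, IsUnit E ∧ σ ![0, 1, 1] 1 = E ∧ σ ![0, 1, 1] = ![0, E, E] := by
    have h1 := σcol _ _ _ (nes 1) (nes 2) (ne2 ![0, 1, 1] rfl) (by simp [Matrix.det_fin_three])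
    have h2 := σcol _ _ _ (nes 0) (ne2 e rfl) (ne2 ![0, 1, 1] rfl) (by simp [Matrix.det_fin_three, e])
    rw [σe, σe] at h1
    rw [σe, σ1] at h2
    simp [Matrix.det_fin_three] at h1 h2
    have a0 : σ ![0, 1, 1] 0 = 0 := by
      refine (w1.mul w2).mul_right_eq_zero.mp ?_
      linear_combination h1
    have a1 : σ ![0, 1, 1] 1 = σ ![0, 1, 1] 2 := by
      refine sub_eq_zero.mp (w0.mul_right_eq_zero.mp ?_)
      linear_combination -h2
    refine ⟨_, ?_, rfl, by funext i; fin_cases i <;> simp [a0, a1]⟩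
    rw [a1]
    exact unit2 _ (σpt _ (ne2 _ rfl)) 0 1 (by simp [a0]) (by simp [a1])
  -- the image of (1 : 1 : 0)
  obtain ⟨G, hG0, hG2⟩ : ∃ G : A, IsUnit G ∧ σ ![1, 1, 0] = ![G, G, 0] := by
    have hne : (![1, 1, 0] : Fin 3 → ZMod p) ≠ 0 := fun h => one_ne_zero (α := ZMod p) (congrFun h 0)
    have h1 := σcol _ _ _ (nes 0) (nes 1) hne (by simp [Matrix.det_fin_three])
    have h2 := σcol _ _ _ (nes 2) (ne2 e rfl) hne (by simp [Matrix.det_fin_three, e])
    rw [σe, σe] at h1
    rw [σe, σ1] at h2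
    simp [Matrix.det_fin_three] at h1 h2
    have a2 : σ ![1, 1, 0] 2 = 0 := by
      refine (w0.mul w1).mul_right_eq_zero.mp ?_
      linear_combination h1
    have a1 : σ ![1, 1, 0] 1 = σ ![1, 1, 0] 0 := by
      refine sub_eq_zero.mp (w2.mul_right_eq_zero.mp ?_)
      linear_combination h2
    refine ⟨σ ![1, 1, 0] 0, ?_, by funext i; fin_cases i <;> simp [a1, a2]⟩
    obtain ⟨i, hi⟩ := σpt _ hne
    fin_cases i
    · exact hi
    · exact a1 ▸ hi
    · simp [a2] at hi
  have main : ∀ n : ℕ, ∃ t : A, IsUnit t ∧ σ ![-(n : ZMod p), 0, 1] = ![t * -(n : A), 0, t] := by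
    intro n
    induction n with
    | zero =>
      refine ⟨_, w2, ?_⟩
      have : (![-((0 : ℕ) : ZMod p), 0, 1] : Fin 3 → ZMod p) = Pi.single 2 1 := by
        funext i; fin_cases i <;> simp
      rw [this, σe]
      funext i; fin_cases i <;> simp
    | succ n ih =>
      obtain ⟨t, ht, hP⟩ := ih
      set c : A := -(n : A) with hc
      set Q : Fin 3 → ZMod p := ![-(n : ZMod p), 1, 1] with hQ
      have h1 := σcol _ _ _ (nes 1) (ne2 ![-(n : ZMod p), 0, 1] rfl) (ne2 Q rfl) (by simp [Matrix.det_fin_three, hQ])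
      have h2 := σcol _ _ _ (nes 0) (ne2 ![0, 1, 1] rfl) (ne2 Q rfl) (by simp [Matrix.det_fin_three, hQ])
      rw [σe, hP] at h1
      rw [σe, hE2] at h2
      simp [Matrix.det_fin_three] at h1 h2
      have q0 : σ Q 0 = c * σ Q 2 := by
        refine sub_eq_zero.mp ((w1.mul ht).mul_right_eq_zero.mp ?_)
        linear_combination h1
      have q1 : σ Q 1 = 1 * σ Q 2 := by
        refine sub_eq_zero.mp ((w0.mul hE0).mul_right_eq_zero.mp ?_)
        linear_combination -h2
      have hq2 := unit2 _ (σpt _ (ne2 Q rfl)) c 1 q0 q1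
      set R : Fin 3 → ZMod p := ![-((n + 1 : ℕ) : ZMod p), 0, 1] with hR
      have h3 := σcol _ _ _ (nes 0) (nes 2) (ne2 R rfl) (by simp [Matrix.det_fin_three, hR])
      have h4 := σcol _ _ _ (ne2 Q rfl)
        (show (![1, 1, 0] : Fin 3 → ZMod p) ≠ 0 from fun h => one_ne_zero (α := ZMod p) (congrFun h 0))
        (ne2 R rfl) (by simp [Matrix.det_fin_three, hQ, hR]; ring)
      rw [σe, σe] at h3
      rw [hG2] at h4
      simp [Matrix.det_fin_three] at h3 h4
      have r1 : σ R 1 = 0 := by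
        refine (w0.mul w2).mul_right_eq_zero.mp ?_
        linear_combination h3
      have r0 : σ R 0 = (c - 1) * σ R 2 := by
        refine sub_eq_zero.mp ((hG0.mul hq2).mul_right_eq_zero.mp ?_)
        rw [q0, q1, r1] at h4
        linear_combination -(1 : A) * h4
      have hr2 := unit2 _ (σpt _ (ne2 R rfl)) (c - 1) 0 r0 (by simp [r1])
      refine ⟨_, hr2, ?_⟩
      funext i
      fin_cases i
      · simp [r0, hc]; ring
      · simpa using r1
      · simp
  obtain ⟨t, ht, hP⟩ := main p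
  have hz : (![-((p : ℕ) : ZMod p), 0, 1] : Fin 3 → ZMod p) = Pi.single 2 1 := by
    funext i; fin_cases i <;> simp
  rw [hz, σe] at hP
  have := congrFun hP 0
  simp [ht.mul_right_eq_zero] at this
  exact this

end Groth.Agent.S13149
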