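import Groth.Statements.S13151
-- import your own Groth.Agent.* helpers here

set_option autoImplicit false
universe u
open CAlg

namespace Groth.Agent.S13151

/-- Let A → B be an injective ring homomorphism of integral domains which is integral, with A integrally
closed, and let π be an element of A. Then the contraction to A of the ideal πB is πA, i.e. an
element of A which is a multiple of π in B is already a multiple of π in A; in particular if B/πB is
an integral domain then A/πA is an integral domain. (The published statement is for an integral
dominant morphism of integral schemes flat over a discrete valuation ring, with normal target and π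
a uniformizer; flatness and the valuation ring play no role, so π is an arbitrary element here.) -/
theorem result {A B : Type u} [CommRing A] [CommRing B]
    [IsDomain A] [IsDomain B] [IsIntegrallyClosed A] [Algebra A B] [Algebra.IsIntegral A B]
    (hinj : Function.Injective (algebraMap A B)) (π : A) :
    (Ideal.span {algebraMap A B π}).comap (algebraMap A B) = Ideal.span {π} ∧
      (IsDomain (B ⧸ Ideal.span {algebraMap A B π}) → IsDomain (A ⧸ Ideal.span {π})) := by
  have key : (Ideal.span {algebraMap A B π}).comap (algebraMap A B) = Ideal.span {π} := by
    refine le_antisymm (fun a ha => ?_) ?_
    · rw [Ideal.mem_comap, Ideal.mem_span_singleton] at ha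
      obtain ⟨b, hb⟩ := ha
      rw [Ideal.mem_span_singleton]
      rcases eq_or_ne π 0 with rfl | hπ
      · rw [map_zero, zero_mul, ← map_zero (algebraMap A B)] at hb
        rw [hinj hb]
      let g : A →+* FractionRing B := (algebraMap B (FractionRing B)).comp (algebraMap A B)
      have hg : Function.Injective g := (IsFractionRing.injective B (FractionRing B)).comp hinj
      letI : Algebra (FractionRing A) (FractionRing B) := (IsFractionRing.lift hg).toAlgebra
      haveI : IsScalarTower A (FractionRing A) (FractionRing B) := IsScalarTower.of_algebraMap_eq fun z => by
        rw [RingHom.algebraMap_toAlgebra, IsFractionRing.lift_algebraMap]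
        rw [IsScalarTower.algebraMap_apply A B (FractionRing B)]
        rfl
      set x : FractionRing A := algebraMap A _ a / algebraMap A _ π with hx
      have himg : algebraMap (FractionRing A) (FractionRing B) x = algebraMap B _ b := by
        rw [hx, map_div₀, ← IsScalarTower.algebraMap_apply, ← IsScalarTower.algebraMap_apply,
          IsScalarTower.algebraMap_apply A B (FractionRing B), IsScalarTower.algebraMap_apply A B (FractionRing B), hb,
          map_mul, mul_div_cancel_left₀]
        exact fun h => hπ (hinj (by simpa using h))
      have hint : IsIntegral A x := by
        rw [← isIntegral_algHom_iff (IsScalarTower.toAlgHom A (FractionRing A) (FractionRing B))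
          (RingHom.injective _)]
        rw [IsScalarTower.coe_toAlgHom', himg]
        exact (Algebra.IsIntegral.isIntegral b).algebraMap
      obtain ⟨c, hc⟩ := IsIntegrallyClosed.isIntegral_iff.mp hint
      refine ⟨c, IsFractionRing.injective A (FractionRing A) ?_⟩
      rw [map_mul, hc, hx, mul_div_cancel₀]
      exact fun h => hπ (IsFractionRing.injective A (FractionRing A) (by simpa using h))
    · rw [Ideal.span_le, Set.singleton_subset_iff]
      exact Ideal.mem_span_singleton_self _
  refine ⟨key, fun h => ?_⟩
  let q := Ideal.quotientMap (Ideal.span {algebraMap A B π}) (algebraMap A B) key.ge
  exact Function.Injective.isDomain q (Ideal.quotientMap_injective' key.le)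

end Groth.Agent.S13151
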