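import Groth.Statements.S13153
import Mathlib.RingTheory.Etale.Kaehler
import Mathlib.RingTheory.Etale.Field
import Mathlib.RingTheory.Kaehler.Polynomial
import Mathlib.RingTheory.AlgebraicIndependent.TranscendenceBasis
import Mathlib.RingTheory.AlgebraicIndependent.Adjoin
import Mathlib.RingTheory.TensorProduct.Free
import Mathlib.FieldTheory.Perfect
import Mathlib.RingTheory.Flat.FaithfullyFlat.Algebra
-- import your own Groth.Agent.* helpers here

set_option autoImplicit false
universe u
open CAlg

namespace Groth.Agent.S13153

open scoped TensorProduct

open KaehlerDifferential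

theorem D_ne_zero_of_transcendental {K L : Type u} [Field K] [Field L] [CharZero K] [Algebra K L]
    {g : L} (hg : Transcendental K g) : D K L g ≠ 0 := by
  classical
  have h1 : AlgebraicIndepOn K id ({g} : Set L) :=
    (algebraicIndependent_singleton_iff (⟨g, rfl⟩ : ({g} : Set L))).mpr hg
  obtain ⟨t, hgt, ht⟩ := exists_isTranscendenceBasis_superset h1
  let M := MvPolynomial t K
  let S := FractionRing M
  have hinj : Function.Injective (MvPolynomial.aeval ((↑) : t → L) : M →ₐ[K] L) :=
    algebraicIndependent_iff_injective_aeval.mp ht.1
  letI : Algebra M L := (MvPolynomial.aeval ((↑) : t → L)).toRingHom.toAlgebra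
  haveI : IsScalarTower K M L :=
    IsScalarTower.of_algebraMap_eq fun x => ((MvPolynomial.aeval ((↑) : t → L)).commutes x).symm
  letI : Algebra S L := (IsFractionRing.lift (K := S) hinj).toAlgebra
  haveI : IsScalarTower M S L :=
    IsScalarTower.of_algebraMap_eq fun x => (IsFractionRing.lift_algebraMap hinj x).symm
  haveI : Algebra.IsAlgebraic M L := by
    haveI := ht.isAlgebraic
    exact Algebra.IsAlgebraic.of_ringHom_of_comp_eq (S := Algebra.adjoin K (Set.range ((↑) : t → L)))
      (ht.1.aevalEquiv.toRingEquiv.toRingHom) (RingHom.id L) ht.1.aevalEquiv.surjective Function.injective_id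
      (RingHom.ext fun x => ht.1.algebraMap_aevalEquiv x)
  haveI : Algebra.IsAlgebraic S L := Algebra.IsAlgebraic.extendScalars (R := M) (IsFractionRing.injective M S)
  haveI : CharZero S := charZero_of_injective_algebraMap (algebraMap K S).injective
  haveI : Algebra.IsSeparable S L := Algebra.IsAlgebraic.isSeparable_of_perfectField
  haveI : Algebra.FormallyEtale M S := Algebra.FormallyEtale.of_isLocalization (nonZeroDivisors M)
  haveI : Algebra.FormallyEtale S L := Algebra.FormallyEtale.of_isSeparable S L
  haveI : Algebra.FormallyEtale M L := Algebra.FormallyEtale.comp M S L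
  intro h0
  let i : t := ⟨g, hgt rfl⟩
  have hi : algebraMap M L (MvPolynomial.X i) = g := MvPolynomial.aeval_X _ i
  have h2 := tensorKaehlerEquivOfFormallyEtale_symm_D_algebraMap K M L (MvPolynomial.X i)
  rw [hi, h0, map_zero] at h2
  let bM : Module.Basis t (MvPolynomial t K) (Ω[MvPolynomial t K⁄K]) := mvPolynomialBasis K t
  let bL := Algebra.TensorProduct.basis L bM
  have hb : bL i = (1 : L) ⊗ₜ[M] bM i := Algebra.TensorProduct.basis_apply bM i
  have hbi : bM i = D K M (MvPolynomial.X i) := mvPolynomialBasis_apply K t i
  rw [← hbi, ← hb] at h2
  exact bL.ne_zero i h2.symm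

/-- Let R be a discrete valuation ring whose fraction field K has characteristic zero, A an integral
domain which is a faithfully flat R-algebra, with fraction field L, such that K is algebraically
closed in L (every element of L algebraic over K is in the image of K). If f ∈ A has vanishing
differential, df = 0 in Ω_{A/R}, then f is the image of an element of R. (The published statement is
the sheaf form: for a faithfully flat morphism X → Spec R with geometrically integral generic fibre,
the kernel of d : O_X → Ω¹_{X/R} is the inverse image of O_{Spec R}; for integral X, geometric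
integrality of the generic fibre in characteristic zero amounts to K being algebraically closed in
the function field, which is the form used here, and this row is the case of global sections over an
affine X = Spec A.) -/
theorem result (R : Type u) [CommRing R] [IsDomain R]
    [IsDiscreteValuationRing R] [CharZero R] (K : Type u) [Field K] [Algebra R K] [IsFractionRing R K]
    (A : Type u) [CommRing A] [IsDomain A] [Algebra R A] [Module.FaithfullyFlat R A]
    (L : Type u) [Field L] [Algebra A L] [IsFractionRing A L] [Algebra R L] [Algebra K L]
    [IsScalarTower R A L] [IsScalarTower R K L]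
    (hac : ∀ x : L, IsAlgebraic K x → x ∈ (algebraMap K L).range)
    (f : A) (hf : KaehlerDifferential.D R A f = 0) : f ∈ (algebraMap R A).range := by
  have hD : KaehlerDifferential.D K L (algebraMap A L f) = 0 := by
    rw [← KaehlerDifferential.map_D R K A L f, hf, map_zero]
  haveI : CharZero K := charZero_of_injective_algebraMap (IsFractionRing.injective R K)
  have halg : IsAlgebraic K (algebraMap A L f) := by
    by_contra h
    exact D_ne_zero_of_transcendental h hD
  obtain ⟨c, hc⟩ := hac _ halg
  obtain ⟨a, b, hb, rfl⟩ := IsFractionRing.div_surjective (A := R) c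
  have hb0 : b ≠ 0 := nonZeroDivisors.ne_zero hb
  have hKb : algebraMap R K b ≠ 0 := fun h => hb0 (IsFractionRing.injective R K (by simpa using h))
  have hb' : algebraMap K L (algebraMap R K b) ≠ 0 := fun h => hKb ((algebraMap K L).injective (by simpa using h))
  have hab : algebraMap R A a = f * algebraMap R A b := by
    apply IsFractionRing.injective A L
    rw [map_mul, ← IsScalarTower.algebraMap_apply, ← IsScalarTower.algebraMap_apply,
      IsScalarTower.algebraMap_apply R K L, IsScalarTower.algebraMap_apply R K L, ← hc, map_div₀, div_mul_cancel₀ _ hb']
  have hmem : a ∈ Ideal.span {b} := by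
    rw [← Ideal.comap_map_eq_self_of_faithfullyFlat (B := A) (Ideal.span {b}), Ideal.mem_comap, Ideal.map_span,
      Set.image_singleton, Ideal.mem_span_singleton]
    exact ⟨f, by rw [hab, mul_comm]⟩
  obtain ⟨d, rfl⟩ := Ideal.mem_span_singleton.mp hmem
  refine ⟨d, ?_⟩
  have hA : algebraMap R A b ≠ 0 := fun h => hb0 (FaithfulSMul.algebraMap_injective R A (by simpa using h))
  exact mul_left_cancel₀ hA (by rw [← map_mul, hab, mul_comm])

end Groth.Agent.S13153
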