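import Groth.Statements.S13154
import Mathlib.RingTheory.Flat.FaithfullyFlat.Algebra
import Mathlib.RingTheory.Flat.Stability
import Mathlib.RingTheory.Flat.TorsionFree
-- import your own Groth.Agent.* helpers here

set_option autoImplicit false
universe u
open scoped TensorProduct
open CAlg

namespace Groth.Agent.S13154

/-- Let R be a discrete valuation ring with fraction field K, A a faithfully flat R-algebra (an affine
faithfully flat base change S' → S = Spec R) and B₁, B₂ flat R-algebras (two affine S-schemes X₁ =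
Spec B₁, X₂ = Spec B₂, flat over S). Suppose given a K-algebra homomorphism φ_K : K ⊗ B₂ → K ⊗ B₁ (a
morphism of the generic fibres X₁,K → X₂,K) and an A-algebra homomorphism φ_A : A ⊗ B₂ → A ⊗ B₁ (a
morphism X₁ ×_S S' → X₂ ×_S S' over S') which coincide after base change to K ⊗ A, in the sense that
for every b ∈ B₂ the images of φ_K(1 ⊗ b) and φ_A(1 ⊗ b) in (K ⊗ A) ⊗ B₁ agree. Then there is
exactly one R-algebra homomorphism φ : B₂ → B₁ (a morphism X₁ → X₂) whose base changes to K and to A
are φ_K and φ_A. (The published statement assumes only X₂ flat over S; flatness of X₁ is also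
needed: with B₂ = R[t], B₁ = R[e]/(e², πe) for a uniformizer π and A = R[x], the maps t ↦ 0 over K
and t ↦ e x over A agree over K ⊗ A = K[x] but come from no map over R.) -/
theorem result (R : Type u) [CommRing R] [IsDomain R]
    [IsDiscreteValuationRing R] (K : Type u) [Field K] [Algebra R K] [IsFractionRing R K]
    (A : Type u) [CommRing A] [Algebra R A] [Module.FaithfullyFlat R A]
    (B₁ B₂ : Type u) [CommRing B₁] [CommRing B₂] [Algebra R B₁] [Algebra R B₂]
    [Module.Flat R B₁] [Module.Flat R B₂]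
    (φK : K ⊗[R] B₂ →ₐ[K] K ⊗[R] B₁) (φA : A ⊗[R] B₂ →ₐ[A] A ⊗[R] B₁)
    (hcomp : ∀ b : B₂,
      Algebra.TensorProduct.map (Algebra.TensorProduct.includeLeft : K →ₐ[R] K ⊗[R] A) (AlgHom.id R B₁)
          (φK (1 ⊗ₜ b)) =
        Algebra.TensorProduct.map (Algebra.TensorProduct.includeRight : A →ₐ[R] K ⊗[R] A) (AlgHom.id R B₁)
          (φA (1 ⊗ₜ b))) :
    ∃! φ : B₂ →ₐ[R] B₁, (∀ b : B₂, φK (1 ⊗ₜ b) = 1 ⊗ₜ φ b) ∧ (∀ b : B₂, φA (1 ⊗ₜ b) = 1 ⊗ₜ φ b) := by
  classical
  let iA : B₁ →ₐ[R] A ⊗[R] B₁ := Algebra.TensorProduct.includeRight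
  let iK : B₁ →ₐ[R] K ⊗[R] B₁ := Algebra.TensorProduct.includeRight
  let eA := Algebra.TensorProduct.map (Algebra.TensorProduct.includeRight : A →ₐ[R] K ⊗[R] A) (AlgHom.id R B₁)
  let eK := Algebra.TensorProduct.map (Algebra.TensorProduct.includeLeft : K →ₐ[R] K ⊗[R] A) (AlgHom.id R B₁)
  have hiA : Function.Injective iA := Module.FaithfullyFlat.tensorProduct_mk_injective (A := R) (B := A) B₁
  have heA : Function.Injective eA := by
    have h1 : Function.Injective (TensorProduct.mk R K A 1) := Module.Flat.tensorProduct_mk_injective R A K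
    exact Module.Flat.rTensor_preserves_injective_linearMap (M := B₁) _ h1
  haveI : IsLocalizedModule (nonZeroDivisors R) (TensorProduct.mk R K B₁ 1) :=
    (isLocalizedModule_iff_isBaseChange (nonZeroDivisors R) K _).mpr (TensorProduct.isBaseChange R B₁ K)
  have main : ∀ b : B₂, ∃ c : B₁, φK (1 ⊗ₜ b) = iK c ∧ φA (1 ⊗ₜ b) = iA c := by
    intro b
    obtain ⟨⟨b', s⟩, hs⟩ := IsLocalizedModule.surj (nonZeroDivisors R) (TensorProduct.mk R K B₁ 1) (φK (1 ⊗ₜ b))
    have hs' : (s : R) • φK (1 ⊗ₜ b) = iK b' := hs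
    have hy : (s : R) • φA (1 ⊗ₜ b) = iA b' := by
      apply heA
      rw [map_smul, ← hcomp b, ← map_smul, hs']
      simp [eA, iA, iK, Algebra.TensorProduct.one_def]
    let N : Submodule R B₁ := LinearMap.range (LinearMap.lsmul R B₁ (s : R))
    have hmem : b' ∈ N := by
      rw [← Submodule.Quotient.mk_eq_zero]
      apply Module.FaithfullyFlat.tensorProduct_mk_injective (A := R) (B := A) (B₁ ⧸ N)
      have h2 := congrArg (LinearMap.lTensor A N.mkQ) hy
      have h3 : ∀ t : A ⊗[R] B₁, LinearMap.lTensor A N.mkQ ((s : R) • t) = 0 := by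
        intro t
        rw [map_smul]
        have : (s : R) • LinearMap.lTensor A N.mkQ = 0 := by
          rw [← LinearMap.lTensor_smul]
          have : (s : R) • N.mkQ = 0 := LinearMap.ext fun z => (Submodule.Quotient.mk_eq_zero N).mpr ⟨z, rfl⟩
          rw [this, LinearMap.lTensor_zero]
        exact LinearMap.congr_fun this t
      rw [h3] at h2
      simpa [iA] using h2.symm
    obtain ⟨c, rfl⟩ := hmem
    have hsne : (s : R) ≠ 0 := nonZeroDivisors.ne_zero s.2
    refine ⟨c, ?_, ?_⟩
    · apply IsLocalizedModule.smul_injective (TensorProduct.mk R K B₁ 1) s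
      change (s : R) • φK (1 ⊗ₜ b) = (s : R) • iK c
      rw [hs', ← map_smul]; rfl
    · have hinj : Function.Injective ((LinearMap.lsmul R B₁ (s : R)).lTensor A) :=
        Module.Flat.lTensor_preserves_injective_linearMap _ fun u v huv =>
          smul_right_injective B₁ hsne huv
      have hl : ∀ t : A ⊗[R] B₁, (LinearMap.lsmul R B₁ (s : R)).lTensor A t = (s : R) • t := by
        intro t
        induction t with
        | zero => simp
        | tmul a z => simp
        | add t u ht hu => rw [map_add, ht, hu, smul_add]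
      apply hinj
      rw [hl, hl, hy, ← map_smul]; rfl
  choose c hcK hcA using main
  refine ⟨{ toFun := c, map_one' := ?_, map_mul' := ?_, map_zero' := ?_, map_add' := ?_, commutes' := ?_ },
    ⟨fun b => hcK b, fun b => hcA b⟩, fun ψ hψ => ?_⟩
  · apply hiA; rw [← hcA, map_one, ← Algebra.TensorProduct.one_def, map_one]
  · intro x y; apply hiA; rw [map_mul, ← hcA, ← hcA, ← hcA, ← map_mul, Algebra.TensorProduct.tmul_mul_tmul, one_mul]
  · apply hiA; rw [← hcA, TensorProduct.tmul_zero, map_zero, map_zero]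
  · intro x y; apply hiA; rw [map_add, ← hcA, ← hcA, ← hcA, ← map_add, TensorProduct.tmul_add]
  · intro r; apply hiA
    rw [AlgHom.commutes, ← hcA, ← Algebra.TensorProduct.includeRight_apply, AlgHom.commutes, IsScalarTower.algebraMap_apply R A (A ⊗[R] B₂), AlgHom.commutes, ← IsScalarTower.algebraMap_apply]
  · ext b
    exact hiA ((hψ.2 b).symm.trans (hcA b))

end Groth.Agent.S13154
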