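import Groth.Statements.S13155
import Mathlib
-- import your own Groth.Agent.* helpers here

set_option autoImplicit false
universe u
open CAlg

namespace Groth.Agent.S13155

/-- Let R be a discrete valuation ring of characteristic zero with uniformizer π, and A a Noetherian
integrally closed domain which is an R-algebra with injective structure map and in which πA is a
prime ideal (X = Spec A is normal, flat over R, with integral special fibre). Let m ≥ 1 and let f ∈
A be invertible in A[1/π] (so Z^m = f defines a μ_m-torsor over the generic fibre), such that S =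
A[1/π][Z]/(Z^m − f) is an integral domain and, writing B for the integral closure of A in S (the
normalization of X in that cover), πB is a prime ideal of B (the normalization has integral special
fibre). Then f is, up to a unit of A, an m-th power of a power of π: f = π^{mq}·u with q ≥ 0 and u ∈
A^×, so that the cover extends to the μ_m-torsor Z^m = u over all of X. (The published statement is
the existence and uniqueness of the extending μ_m-torsor over a normal faithfully flat R-scheme with
integral fibres, R containing a primitive m-th root of unity; this row is the affine computation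
that carries the proof.) -/
theorem result (R : Type u) [CommRing R]
    [IsDomain R] [IsDiscreteValuationRing R] [CharZero R] (ϖ : R) (hϖ : Irreducible ϖ)
    (A : Type u) [CommRing A] [IsDomain A] [IsNoetherianRing A] [IsIntegrallyClosed A] [Algebra R A]
    (hinj : Function.Injective (algebraMap R A)) (hprime : (Ideal.span {algebraMap R A ϖ}).IsPrime)
    (m : ℕ) (hm : 0 < m) (f : A) (hf : IsUnit (algebraMap A (Localization.Away (algebraMap R A ϖ)) f))
    [IsDomain (AdjoinRoot (Polynomial.X ^ m - Polynomial.C (algebraMap A (Localization.Away (algebraMap R A ϖ)) f)))]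
    (hsp : (Ideal.span {algebraMap A (integralClosure A
        (AdjoinRoot (Polynomial.X ^ m - Polynomial.C (algebraMap A (Localization.Away (algebraMap R A ϖ)) f))))
          (algebraMap R A ϖ)}).IsPrime) :
    ∃ (q : ℕ) (u : Aˣ), f = algebraMap R A ϖ ^ (m * q) * (u : A) := by
  set π := algebraMap R A ϖ with hπ
  have hπ0 : π ≠ 0 := fun h => hϖ.ne_zero (hinj (by rw [← hπ, h, map_zero]))
  have hp : Prime π := (Ideal.span_singleton_prime hπ0).1 hprime
  obtain ⟨e, u', hu', rfl⟩ := WfDvdMonoid.max_power_factor (a₀ := f)
    (by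
      rintro rfl
      rw [map_zero, isUnit_zero_iff] at hf
      obtain ⟨⟨_, N, rfl⟩, hN⟩ := (IsLocalization.map_eq_zero_iff (Submonoid.powers π)
        (Localization.Away π) 1).1 (by rw [map_one, ← hf])
      exact pow_ne_zero N hπ0 (by simpa using hN)) hp.irreducible
  have hu'u : IsUnit u' := by
    rw [map_mul, IsUnit.mul_iff] at hf
    obtain ⟨v, hv⟩ := hf.2.exists_right_inv
    obtain ⟨⟨g, ⟨_, N, rfl⟩⟩, hg⟩ := IsLocalization.surj (Submonoid.powers π) v
    have h1 : algebraMap A (Localization.Away π) (u' * g) = algebraMap A _ (π ^ N) := by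
      rw [map_mul, ← hg, ← mul_assoc, hv, one_mul]
    obtain ⟨⟨_, M, rfl⟩, hM⟩ := (IsLocalization.eq_iff_exists (Submonoid.powers π) _).1 h1
    have h2 : u' * g = π ^ N := mul_left_cancel₀ (pow_ne_zero M hπ0) hM
    obtain ⟨j, -, hj⟩ := (dvd_prime_pow hp N).1 (Dvd.intro g h2)
    rcases Nat.eq_zero_or_pos j with rfl | hj0
    · exact (hj.symm.isUnit (by simp))
    · exact absurd ((dvd_pow_self π hj0.ne').trans hj.symm.dvd) hu'
  obtain ⟨u, rfl⟩ := hu'u
  set g := algebraMap A (Localization.Away π) (π ^ e * u) with hgdef
  let S := AdjoinRoot (Polynomial.X ^ m - Polynomial.C g)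
  have hzm : (AdjoinRoot.root (Polynomial.X ^ m - Polynomial.C g)) ^ m = algebraMap A S (π ^ e * u) := by
    have := AdjoinRoot.eval₂_root (Polynomial.X ^ m - Polynomial.C g)
    rw [Polynomial.eval₂_sub, Polynomial.eval₂_pow, Polynomial.eval₂_X, Polynomial.eval₂_C,
      sub_eq_zero] at this
    rw [this]
    rfl
  have hzint : IsIntegral A (AdjoinRoot.root (Polynomial.X ^ m - Polynomial.C g)) :=
    ⟨Polynomial.X ^ m - Polynomial.C (π ^ e * u), Polynomial.monic_X_pow_sub_C _ hm.ne', by
      rw [Polynomial.eval₂_sub, Polynomial.eval₂_pow, Polynomial.eval₂_X, Polynomial.eval₂_C, hzm,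
        sub_self]⟩
  let B := integralClosure A S
  let z : B := ⟨_, hzint⟩
  let P : B := algebraMap A B π
  have hz : z ^ m = algebraMap A B (π ^ e) * algebraMap A B u := by
    rw [← map_mul]; exact Subtype.ext hzm
  have hu : IsUnit (algebraMap A B u) := (Units.isUnit u).map _
  have hnu : ¬ IsUnit P := fun h => hsp.ne_top (Ideal.span_singleton_eq_top.2 h)
  by_cases hdiv : m ∣ e
  · obtain ⟨q, rfl⟩ := hdiv
    exact ⟨q, u, rfl⟩
  exfalso
  have key : ∀ j, j * m < e → ∀ z' : B, z = P ^ j * z' → P ∣ z' := by
    intro j hj z' hzz'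
    have hP0 : P ≠ 0 := by
      intro h0
      refine hdiv ?_
      rcases Nat.eq_zero_or_pos e with rfl | he
      · exact dvd_zero m
      exfalso
      have : algebraMap A B (π ^ e) = 0 := by rw [map_pow, show algebraMap A B π = P from rfl, h0, zero_pow he.ne']
      have hgu : algebraMap A S (π ^ e * u) = 0 := by
        rw [map_mul, IsScalarTower.algebraMap_apply A B S, this, map_zero, zero_mul]
      have hne : (1 : S) = 0 := by
        rw [← map_one (AdjoinRoot.of (Polynomial.X ^ m - Polynomial.C g))]
        obtain ⟨v, hv⟩ := hf.exists_right_inv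
        rw [← hv, map_mul]
        show algebraMap A S (π ^ e * u) * _ = 0
        rw [hgu, zero_mul]
      exact one_ne_zero hne
    have h1 : z' ^ m = P ^ (e - j * m) * algebraMap A B u := by
      refine mul_left_cancel₀ (pow_ne_zero (j * m) hP0) ?_
      rw [← mul_assoc, ← pow_add, show j * m + (e - j * m) = e by omega, pow_mul, ← mul_pow, ← hzz', hz,
        map_pow]
    have : z' ^ m ∈ Ideal.span {P} := by
      rw [h1]
      exact Ideal.mul_mem_right _ _ (Ideal.pow_mem_of_mem _ (Ideal.mem_span_singleton_self P) _ (by omega))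
    exact Ideal.mem_span_singleton.1 (hsp.mem_of_pow_mem m this)
  have hall : ∀ j, j * m < e + m → ∃ z', z = P ^ j * z' := by
    intro j
    induction j with
    | zero => exact fun _ => ⟨z, by simp⟩
    | succ j ih =>
      intro hj
      rw [Nat.succ_mul] at hj
      obtain ⟨z', hz'⟩ := ih (by omega)
      obtain ⟨w, hw⟩ := key j (by omega) z' hz'
      exact ⟨w, by rw [hz', hw, pow_succ, mul_assoc]⟩
  have hej : e < (e / m + 1) * m := by
    rw [Nat.succ_mul]; have := Nat.div_add_mod e m; have := Nat.mod_lt e hm; rw [mul_comm]; omega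
  obtain ⟨z', hz'⟩ := hall (e / m + 1) (by
    rw [Nat.succ_mul]
    have h1 := Nat.div_mul_le_self e m
    have h2 : e / m * m ≠ e := fun h => hdiv ⟨e / m, by rw [mul_comm]; exact h.symm⟩
    omega)
  have hP0' : algebraMap A B (π ^ e) ≠ 0 := by
    intro h0
    have hgu : algebraMap A S (π ^ e * u) = 0 := by
      rw [map_mul, IsScalarTower.algebraMap_apply A B S, h0, map_zero, zero_mul]
    obtain ⟨v, hv⟩ := hf.exists_right_inv
    have hne : (1 : S) = 0 := by
      rw [← map_one (AdjoinRoot.of (Polynomial.X ^ m - Polynomial.C g)), ← hv, map_mul]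
      show algebraMap A S (π ^ e * u) * _ = 0
      rw [hgu, zero_mul]
    exact one_ne_zero hne
  refine hnu ?_
  obtain ⟨v, hv⟩ := hu.exists_right_inv
  refine IsUnit.of_mul_eq_one (P ^ ((e / m + 1) * m - e - 1) * z' ^ m * v) (mul_left_cancel₀ hP0' ?_)
  rw [mul_one, map_pow]
  show P ^ e * _ = P ^ e
  calc P ^ e * (P * (P ^ ((e / m + 1) * m - e - 1) * z' ^ m * v))
      = P ^ (e + 1 + ((e / m + 1) * m - e - 1)) * z' ^ m * v := by rw [pow_add, pow_succ]; ring
    _ = z ^ m * v := by rw [show e + 1 + ((e / m + 1) * m - e - 1) = (e / m + 1) * m by omega, pow_mul, ← mul_pow, ← hz']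
    _ = P ^ e := by rw [hz, mul_assoc, hv, mul_one, map_pow]

end Groth.Agent.S13155
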