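import Groth.Statements.S13156
import Mathlib
-- import your own Groth.Agent.* helpers here

set_option autoImplicit false
universe u
open scoped Polynomial
open CAlg

namespace Groth.Agent.S13156

/-- Let p be a prime number, A a commutative ring in which (p−1)! is invertible, μ an element of A, and
F ∈ A[X] a polynomial of degree at most p − 1 with coefficients a_0, a_1, …. Then the identity
F(S)·F(T) − a_0² = F(S + T + μST) − a_0 holds in the polynomial ring A[S, T] if and only if a_1·F(S)
= F′(S)·(1 + μS) holds in A[S], F′ the formal derivative. (The published statement is over the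
quotient of a discrete valuation ring of residue characteristic p by a nonzero element of its
maximal ideal; only the invertibility of 1, …, p − 1 is used, so an arbitrary such ring A is allowed
here.) -/
theorem result (A : Type u) [CommRing A] (p : ℕ) [Fact p.Prime]
    (hu : IsUnit ((Nat.factorial (p - 1) : ℕ) : A)) (μ : A) (F : A[X]) (hF : F.natDegree < p) :
    (Polynomial.aeval (MvPolynomial.X 0 : MvPolynomial (Fin 2) A) F *
          Polynomial.aeval (MvPolynomial.X 1 : MvPolynomial (Fin 2) A) F - MvPolynomial.C (F.coeff 0 ^ 2) =
        Polynomial.aeval (MvPolynomial.X 0 + MvPolynomial.X 1 +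
            MvPolynomial.C μ * MvPolynomial.X 0 * MvPolynomial.X 1 : MvPolynomial (Fin 2) A) F -
          MvPolynomial.C (F.coeff 0)) ↔
      F * Polynomial.C (F.coeff 1) = Polynomial.derivative F * (1 + Polynomial.C μ * Polynomial.X) := by
  classical
  have hfac : ∀ r, 1 ≤ r → r < p → IsUnit ((r : ℕ) : A) := fun r hr1 hr => by
    obtain ⟨c, hc⟩ := Nat.dvd_factorial hr1 (show r ≤ p - 1 by omega)
    rw [hc, Nat.cast_mul] at hu
    exact isUnit_of_mul_isUnit_left hu
  let Φ : MvPolynomial (Fin 2) A →ₐ[A] Polynomial (Polynomial A) :=
    MvPolynomial.aeval ![Polynomial.C Polynomial.X, Polynomial.X]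
  have hΦinj : Function.Injective Φ := by
    let Ψ : Polynomial (Polynomial A) →+* MvPolynomial (Fin 2) A :=
      Polynomial.eval₂RingHom (Polynomial.aeval (MvPolynomial.X 0 : MvPolynomial (Fin 2) A)).toRingHom (MvPolynomial.X 1)
    refine Function.LeftInverse.injective (g := Ψ) fun q => ?_
    have : Ψ.comp Φ.toRingHom = RingHom.id _ := by
      refine MvPolynomial.ringHom_ext (fun a => by simp [Φ, Ψ]) fun i => ?_
      fin_cases i <;> simp [Φ, Ψ]
    exact RingHom.congr_fun this q
  rw [← hΦinj.eq_iff]
  have e0 : Φ (Polynomial.aeval (MvPolynomial.X 0 : MvPolynomial (Fin 2) A) F) = Polynomial.C F := by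
    rw [← Polynomial.aeval_algHom_apply]
    have : Φ (MvPolynomial.X 0) = Polynomial.C Polynomial.X := by simp [Φ]
    rw [this, show (Polynomial.C Polynomial.X : Polynomial (Polynomial A)) =
      IsScalarTower.toAlgHom A (Polynomial A) (Polynomial (Polynomial A)) Polynomial.X from rfl,
      Polynomial.aeval_algHom_apply, Polynomial.aeval_X_left_apply]
    rfl
  let Fm : Polynomial (Polynomial A) := F.map Polynomial.C
  have e1 : Φ (Polynomial.aeval (MvPolynomial.X 1 : MvPolynomial (Fin 2) A) F) = Fm := by
    rw [← Polynomial.aeval_algHom_apply, show Φ (MvPolynomial.X 1) = Polynomial.X by simp [Φ]]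
    exact (Polynomial.aeval_map_algebraMap (Polynomial A) Polynomial.X F).symm.trans
      (Polynomial.aeval_X_left_apply _)
  let c : Polynomial A := 1 + Polynomial.C μ * Polynomial.X
  let U : Polynomial (Polynomial A) := Polynomial.C Polynomial.X + Polynomial.C c * Polynomial.X
  have e2 : Φ (Polynomial.aeval (MvPolynomial.X 0 + MvPolynomial.X 1 +
      MvPolynomial.C μ * MvPolynomial.X 0 * MvPolynomial.X 1 : MvPolynomial (Fin 2) A) F) = Fm.comp U := by
    rw [← Polynomial.aeval_algHom_apply, Polynomial.comp]
    rw [show Φ (MvPolynomial.X 0 + MvPolynomial.X 1 +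
      MvPolynomial.C μ * MvPolynomial.X 0 * MvPolynomial.X 1) = U by simp [Φ, U, c]; ring]
    exact (Polynomial.aeval_map_algebraMap (Polynomial A) U F).symm
  have eC : ∀ a : A, Φ (MvPolynomial.C a) = Polynomial.C (Polynomial.C a) := fun a => by simp [Φ]
  rw [map_sub, map_sub, map_mul, e0, e1, e2, eC, eC]
  set a0 := F.coeff 0 with ha0
  set a1 := F.coeff 1 with ha1
  have hd : Polynomial.derivative (Fm.comp U) =
      Polynomial.C c * (Polynomial.derivative Fm).comp U := by
    rw [Polynomial.derivative_comp]
    simp [U]
  constructor
  · intro h
    have h1 := congrArg (fun q => Polynomial.eval 0 (Polynomial.derivative q)) h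
    simp only [Polynomial.derivative_sub, Polynomial.derivative_C, sub_zero, Polynomial.derivative_C_mul,
      hd, Polynomial.eval_mul, Polynomial.eval_C, Polynomial.eval_comp] at h1
    have hU0 : U.eval 0 = Polynomial.X := by simp [U]
    have hm : ∀ q : Polynomial A, (q.map Polynomial.C).eval Polynomial.X = q := fun q => by
      rw [Polynomial.eval_map]; exact Polynomial.eval₂_C_X
    rw [hU0, Polynomial.derivative_map, hm, ← Polynomial.coeff_zero_eq_eval_zero, Polynomial.coeff_map,
      Polynomial.coeff_derivative] at h1
    simp only [Nat.cast_zero, zero_add, mul_one] at h1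
    rw [h1, mul_comm c]
  · intro h
    have hrec : ∀ r, F.coeff r * a1 = F.coeff (r + 1) * (r + 1) + F.coeff r * r * μ := by
      intro r
      have := congrArg (fun q => Polynomial.coeff q r) h
      simp only [Polynomial.coeff_mul_C] at this
      rw [this, mul_add, mul_one, Polynomial.coeff_add, Polynomial.coeff_derivative, mul_left_comm,
        Polynomial.coeff_C_mul]
      cases r with
      | zero => simp
      | succ r => rw [Polynomial.coeff_mul_X, Polynomial.coeff_derivative]; push_cast; ring
    have ha : (a0 - 1) * a1 = 0 := by
      have := hrec 0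
      simp only [Nat.cast_zero, zero_add, mul_one, mul_zero, zero_mul, add_zero] at this
      linear_combination this
    have hz : ∀ r, 1 ≤ r → (a0 - 1) * F.coeff r = 0 := by
      intro r hr
      induction r, hr using Nat.le_induction with
      | base => exact ha
      | succ r hr ih =>
        rcases lt_or_ge (r + 1) p with h1 | h1
        · have := hfac (r + 1) (by omega) h1
          push_cast at this
          refine this.mul_left_cancel ?_
          rw [mul_zero]
          linear_combination (a1 - r * μ) * ih - (a0 - 1) * hrec r
        · rw [Polynomial.coeff_eq_zero_of_natDegree_lt (lt_of_lt_of_le hF h1), mul_zero]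
    have hF0 : Polynomial.C (a0 - 1) * (F - Polynomial.C a0) = 0 := by
      ext r
      rw [Polynomial.coeff_C_mul, Polynomial.coeff_sub, Polynomial.coeff_C, Polynomial.coeff_zero]
      rcases Nat.eq_zero_or_pos r with rfl | hr
      · simp [a0]
      · rw [if_neg hr.ne', sub_zero]; exact hz r hr
    let Q : Polynomial (Polynomial A) :=
      Fm.comp U - Polynomial.C (Polynomial.C a0) - (Polynomial.C F * Fm - Polynomial.C (Polynomial.C (a0 ^ 2)))
    suffices hQ : Q = 0 by
      simp only [Q] at hQ
      exact (sub_eq_zero.1 hQ).symm
    have hQ0 : Q.coeff 0 = 0 := by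
      rw [Polynomial.coeff_zero_eq_eval_zero]
      simp only [Q, Polynomial.eval_sub, Polynomial.eval_comp, Polynomial.eval_C, Polynomial.eval_mul]
      have hU0 : U.eval 0 = Polynomial.X := by simp [U]
      rw [hU0, Polynomial.eval_map, Polynomial.eval₂_C_X, ← Polynomial.coeff_zero_eq_eval_zero,
        Polynomial.coeff_map, ← ha0]
      rw [map_sub, map_one] at hF0
      rw [map_pow]
      linear_combination -hF0
    have hQdeg : Q.natDegree < p := by
      have hm : Fm.natDegree ≤ F.natDegree := Polynomial.natDegree_map_le
      have hc : (Fm.comp U).natDegree ≤ F.natDegree := by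
        refine Polynomial.natDegree_comp_le.trans ((Nat.mul_le_mul hm ?_).trans (by rw [mul_one]))
        simp only [U]
        compute_degree
      have hm2 : (Polynomial.C F * Fm).natDegree ≤ F.natDegree := (Polynomial.natDegree_C_mul_le _ _).trans hm
      refine lt_of_le_of_lt ?_ hF
      simp only [Q]
      refine (Polynomial.natDegree_sub_le _ _).trans (max_le ((Polynomial.natDegree_sub_le _ _).trans (max_le hc ?_))
        ((Polynomial.natDegree_sub_le _ _).trans (max_le hm2 ?_)))
      · rw [Polynomial.natDegree_C]; exact Nat.zero_le _
      · rw [Polynomial.natDegree_C]; exact Nat.zero_le _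
    have hm' : Polynomial.derivative Fm * (1 + Polynomial.C (Polynomial.C μ) * Polynomial.X) =
        Fm * Polynomial.C (Polynomial.C a1) := by
      have := congrArg (Polynomial.map Polynomial.C) h
      simp only [Polynomial.map_mul, Polynomial.map_add, Polynomial.map_one, Polynomial.map_C, Polynomial.map_X,
        ← Polynomial.derivative_map] at this
      exact this.symm
    have hDQ : Polynomial.derivative Q * (1 + Polynomial.C (Polynomial.C μ) * Polynomial.X) =
        Q * Polynomial.C (Polynomial.C a1) := by
      have hU : Polynomial.C c * (1 + Polynomial.C (Polynomial.C μ) * Polynomial.X) =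
          1 + Polynomial.C (Polynomial.C μ) * U := by
        simp only [c, U, map_add, map_one, map_mul]
        ring
      have h2 : (Polynomial.derivative Fm).comp U * (1 + Polynomial.C (Polynomial.C μ) * U) =
          Fm.comp U * Polynomial.C (Polynomial.C a1) := by
        have := congrArg (fun q : Polynomial (Polynomial A) => q.comp U) hm'
        simpa using this
      have ha' : Polynomial.C (Polynomial.C ((a0 - 1) * a1)) = (0 : Polynomial (Polynomial A)) := by
        rw [ha, map_zero, map_zero]
      simp only [map_mul, map_sub, map_one] at ha'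
      simp only [Q, Polynomial.derivative_sub, Polynomial.derivative_C, sub_zero,
        Polynomial.derivative_C_mul, hd]
      simp only [map_pow]
      linear_combination (Polynomial.derivative Fm).comp U * hU + h2 - Polynomial.C F * hm' -
        Polynomial.C (Polynomial.C a0) * ha'
    ext1 r
    rw [Polynomial.coeff_zero]
    induction r with
    | zero => exact hQ0
    | succ r ih =>
      rcases lt_or_ge (r + 1) p with h1 | h1
      · have hu' := (hfac (r + 1) (by omega) h1).map (Polynomial.C : A →+* Polynomial A)
        rw [map_natCast] at hu'
        refine hu'.mul_left_cancel ?_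
        have := congrArg (fun q : Polynomial (Polynomial A) => Polynomial.coeff q r) hDQ
        simp only [Polynomial.coeff_mul_C] at this
        rw [mul_add, mul_one, Polynomial.coeff_add, Polynomial.coeff_derivative, mul_left_comm,
          Polynomial.coeff_C_mul, ih, zero_mul] at this
        rw [mul_zero]
        cases r with
        | zero => simpa [mul_comm] using this
        | succ r =>
          rw [Polynomial.coeff_mul_X, Polynomial.coeff_derivative, ih] at this
          simpa [mul_comm] using this
      · exact Polynomial.coeff_eq_zero_of_natDegree_lt (lt_of_lt_of_le hQdeg h1)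

end Groth.Agent.S13156
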