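import Groth.Statements.S13157
import Mathlib
-- import your own Groth.Agent.* helpers here

set_option autoImplicit false
universe u
open scoped Polynomial
open CAlg

namespace Groth.Agent.S13157

/-- (i) ⇔ (ii): let p be a prime number, A a commutative ring in which (p−1)! is invertible, μ ∈ A, and
F ∈ A[X] a polynomial of degree at most p − 1 with constant term a_0 = 1 and coefficients a_1, a_2,
…. Then the relations a_{r−1}·a_1 = (r − 1)μ·a_{r−1} + r·a_r for 1 ≤ r ≤ p (with a_p = 0), written
here as the single identity a_1·F = F′·(1 + μX), hold if and only if r!·a_r = ∏_{k=0}^{r−1} (a_1 −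
kμ) for every 1 ≤ r ≤ p − 1 and ∏_{k=0}^{p−1} (a_1 − kμ) = 0. (The published statement lists the
relations only for 1 ≤ r ≤ p − 1, while its proof uses and derives the relation for r = p as well,
which is needed for the vanishing of the last product; it is included here. The published setting is
the quotient of a discrete valuation ring of residue characteristic p by a nonzero non-unit; only
the invertibility of 1, …, p − 1 is used.) -/
theorem result (A : Type u) [CommRing A] (p : ℕ) [Fact p.Prime]
    (hu : IsUnit ((Nat.factorial (p - 1) : ℕ) : A)) (μ : A) (F : A[X]) (hF : F.natDegree < p)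
    (h0 : F.coeff 0 = 1) :
    F * Polynomial.C (F.coeff 1) = Polynomial.derivative F * (1 + Polynomial.C μ * Polynomial.X) ↔
      ((∀ r : ℕ, 1 ≤ r → r < p →
          (r.factorial : A) * F.coeff r = ∏ k ∈ Finset.range r, (F.coeff 1 - (k : A) * μ)) ∧
        ∏ k ∈ Finset.range p, (F.coeff 1 - (k : A) * μ) = 0) := by
  have hfac : ∀ r, r < p → IsUnit ((r.factorial : ℕ) : A) := fun r hr => by
    obtain ⟨c, hc⟩ := Nat.factorial_dvd_factorial (show r ≤ p - 1 by omega)
    rw [hc, Nat.cast_mul] at hu
    exact isUnit_of_mul_isUnit_left hu
  have hcoeff : ∀ r, p ≤ r → F.coeff r = 0 := fun r hr =>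
    Polynomial.coeff_eq_zero_of_natDegree_lt (lt_of_lt_of_le hF hr)
  have hstep : (F * Polynomial.C (F.coeff 1) = Polynomial.derivative F * (1 + Polynomial.C μ * Polynomial.X)) ↔
      ∀ r, F.coeff r * F.coeff 1 = F.coeff (r + 1) * (r + 1) + F.coeff r * r * μ := by
    rw [Polynomial.ext_iff]
    refine forall_congr' fun r => ?_
    rw [Polynomial.coeff_mul_C]
    have : (Polynomial.derivative F * (1 + Polynomial.C μ * Polynomial.X)).coeff r =
        F.coeff (r + 1) * (r + 1) + F.coeff r * r * μ := by
      rw [mul_add, mul_one, Polynomial.coeff_add, Polynomial.coeff_derivative, mul_left_comm,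
        Polynomial.coeff_C_mul]
      cases r with
      | zero => simp
      | succ r => rw [Polynomial.coeff_mul_X, Polynomial.coeff_derivative]; push_cast; ring
    rw [this]
  rw [hstep]
  have hprod : ∀ (rel : ∀ r, r < p → F.coeff r * F.coeff 1 = F.coeff (r + 1) * (r + 1) + F.coeff r * r * μ) (r : ℕ),
      r ≤ p → (r.factorial : A) * F.coeff r = ∏ k ∈ Finset.range r, (F.coeff 1 - (k : A) * μ) := by
    intro rel r
    induction r with
    | zero => intro _; simp [h0]
    | succ r ih =>
      intro hr
      rw [Finset.prod_range_succ, ← ih (by omega), Nat.factorial_succ]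
      push_cast
      linear_combination -((r.factorial : A)) * rel r (by omega)
  constructor
  · intro h
    refine ⟨fun r _ hr => hprod (fun r _ => h r) r hr.le, ?_⟩
    rw [← hprod (fun r _ => h r) p le_rfl, hcoeff p le_rfl, mul_zero]
  · rintro ⟨h1, h2⟩ r
    have h1' : ∀ r, r < p → (r.factorial : A) * F.coeff r = ∏ k ∈ Finset.range r, (F.coeff 1 - (k : A) * μ) := by
      intro r hr
      rcases Nat.eq_zero_or_pos r with rfl | hr0
      · simp [h0]
      · exact h1 r hr0 hr
    rcases lt_or_ge r p with hr | hr
    · refine (hfac r hr).mul_left_cancel ?_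
      rcases lt_or_ge (r + 1) p with hr1 | hr1
      · have e1 := h1' (r + 1) hr1
        rw [Finset.prod_range_succ, ← h1' r hr, Nat.factorial_succ] at e1
        push_cast at e1
        linear_combination -e1
      · obtain rfl : p = r + 1 := by omega
        rw [Finset.prod_range_succ, ← h1' r hr] at h2
        rw [hcoeff (r + 1) le_rfl]
        linear_combination h2
    · rw [hcoeff r hr, hcoeff (r + 1) (by omega)]; ring

end Groth.Agent.S13157
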