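import Groth.Statements.S13158
import Mathlib
-- import your own Groth.Agent.* helpers here

set_option autoImplicit false
universe u
open CAlg

namespace Groth.Agent.S13158

/-- Let R be a discrete valuation ring of characteristic zero whose maximal ideal contains the prime
number p, let n ≥ 1, and let λ be a nonzero element of R such that λ^(p^(n−1)(p−1)) divides p (the
condition v(p) ≥ p^(n−1)(p−1)·v(λ) under which the polynomial ((1 + λT)^(p^n) − 1)/λ^(p^n) has
coefficients in R). Let A be an integrally closed integral domain which is a faithfully flat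
R-algebra. Then for every unit x of A, λ^(p^n) divides x^(p^n) − 1 in A if and only if λ divides x −
1 in A. -/
theorem result (R : Type u) [CommRing R]
    [IsDomain R] [IsDiscreteValuationRing R] [CharZero R] (p n : ℕ) [Fact p.Prime] (hn : 1 ≤ n)
    (hp : (p : R) ∈ IsLocalRing.maximalIdeal R) (lam : R) (hlam : lam ≠ 0)
    (hstar : lam ^ (p ^ (n - 1) * (p - 1)) ∣ (p : R))
    (A : Type u) [CommRing A] [IsDomain A] [IsIntegrallyClosed A] [Algebra R A] [Module.FaithfullyFlat R A]
    (x : Aˣ) :
    (algebraMap R A lam ^ p ^ n ∣ (x : A) ^ p ^ n - 1) ↔ (algebraMap R A lam ∣ (x : A) - 1) := by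

  classical
  have hpp : p.Prime := Fact.out
  have h1p : 1 ≤ p := hpp.one_le
  set N := p ^ n with hN
  have hNpos : 0 < N := pow_pos hpp.pos n
  -- the binomial coefficients are divisible by enough powers of `lam`
  have key : ∀ i, 1 ≤ i → i ≤ N → lam ^ N ∣ (N.choose i : R) * lam ^ i := by
    intro i hi hiN
    rcases Nat.lt_or_ge i N with hlt | hge
    · obtain ⟨j, i', hi', rfl⟩ := Nat.exists_eq_pow_mul_and_not_dvd (by omega : i ≠ 0) p hpp.ne_one
      have hi'1 : 1 ≤ i' := Nat.one_le_iff_ne_zero.2 fun h => hi' (h ▸ dvd_zero p)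
      have hjle : p ^ j ≤ p ^ j * i' := Nat.le_mul_of_pos_right _ hi'1
      have hjn : j < n := by
        by_contra h
        exact absurd (lt_of_lt_of_le hlt ((Nat.pow_le_pow_right hpp.pos (not_lt.1 h)).trans hjle)) (lt_irrefl _)
      have hdvd : p ^ (n - j) ∣ N.choose (p ^ j * i') := by
        have h := Nat.add_one_mul_choose_eq (N - 1) (p ^ j * i' - 1)
        rw [Nat.sub_add_cancel hNpos, Nat.sub_add_cancel (by omega : 1 ≤ p ^ j * i')] at h
        have h2 : p ^ j * p ^ (n - j) ∣ p ^ j * (N.choose (p ^ j * i') * i') := by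
          rw [← pow_add, Nat.add_sub_cancel' hjn.le]
          refine ⟨(N - 1).choose (p ^ j * i' - 1), ?_⟩
          rw [← hN, h]; ring
        exact (Nat.Coprime.dvd_of_dvd_mul_right ((hpp.coprime_iff_not_dvd.2 hi').pow_left _)
          (Nat.dvd_of_mul_dvd_mul_left (pow_pos hpp.pos j) h2))
      have hle : N ≤ (p ^ (n - 1) * (p - 1)) * (n - j) + p ^ j * i' := by
        refine le_trans ?_ (Nat.add_le_add_left hjle _)
        obtain ⟨d, hd⟩ := Nat.exists_eq_add_of_le hjn.le
        rw [hN, hd, Nat.add_sub_cancel_left]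
        clear hd hdvd hlt hjn hiN hi hN N hNpos hstar hn hjle
        induction d with
        | zero => simp
        | succ d ih =>
          have h1 : p ^ (j + (d + 1)) = p ^ (j + d) * (p - 1) + p ^ (j + d) := by
            rw [← Nat.mul_succ, Nat.succ_eq_add_one, Nat.sub_add_cancel h1p, ← add_assoc, pow_succ]
          rw [h1, show j + (d + 1) - 1 = j + d by omega]
          have h2 : p ^ (j + d - 1) * (p - 1) * d ≤ p ^ (j + d) * (p - 1) * d :=
            Nat.mul_le_mul_right _ (Nat.mul_le_mul_right _ (Nat.pow_le_pow_right hpp.pos (Nat.sub_le _ _)))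
          rw [Nat.mul_succ]
          omega
      refine (pow_dvd_pow lam hle).trans ?_
      rw [pow_add, pow_mul]
      refine mul_dvd_mul ((pow_dvd_pow_of_dvd hstar _).trans ?_) dvd_rfl
      exact_mod_cast Nat.cast_dvd_cast hdvd
    · rw [le_antisymm hiN hge, Nat.choose_self, Nat.cast_one, one_mul]
  choose! a ha using key
  set L := algebraMap R A lam with hL
  have hL0 : L ≠ 0 := (map_ne_zero_iff _ (FaithfulSMul.algebraMap_injective R A)).2 hlam
  have hterm : ∀ i, 1 ≤ i → i ≤ N → (N.choose i : A) * L ^ i = L ^ N * algebraMap R A (a i) := fun i h1 h2 => by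
    have := congrArg (algebraMap R A) (ha i h1 h2)
    rwa [map_mul, map_mul, map_natCast, map_pow, map_pow] at this
  constructor
  · rintro ⟨c, hc⟩
    let K := FractionRing A
    have hι := IsFractionRing.injective A K
    have hL0' : algebraMap A K L ≠ 0 := (map_ne_zero_iff _ hι).2 hL0
    set z : K := (algebraMap A K ((x : A) - 1)) / algebraMap A K L with hz
    have hzL : algebraMap A K L * z = algebraMap A K (x : A) - 1 := by
      rw [hz, mul_div_assoc', mul_div_cancel_left₀ _ hL0', map_sub, map_one]
    suffices hzint : IsIntegral A z by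
      obtain ⟨y, hy⟩ := IsIntegrallyClosed.isIntegral_iff.1 hzint
      refine ⟨y, hι ?_⟩
      rw [map_mul, hy, hzL, map_sub, map_one]
    let f : Polynomial A := (∑ i ∈ Finset.Icc 1 N, Polynomial.C (algebraMap R A (a i)) * Polynomial.X ^ i) - Polynomial.C c
    have haN : a N = 1 := by
      have h := ha N hNpos le_rfl
      rw [Nat.choose_self, Nat.cast_one, one_mul] at h
      exact mul_left_cancel₀ (pow_ne_zero N hlam) (h.symm.trans (mul_one _).symm)
    have hmon : f.Monic := by
      have hsplit : Finset.Icc 1 N = insert N (Finset.Ico 1 N) := (Finset.Ico_insert_right hNpos).symm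
      simp only [f, hsplit, Finset.sum_insert (show N ∉ Finset.Ico 1 N by simp), haN, map_one, one_mul, add_sub_assoc]
      refine Polynomial.monic_X_pow_add (lt_of_le_of_lt (Polynomial.degree_sub_le _ _) (max_lt ?_ ?_))
      · refine lt_of_le_of_lt (Polynomial.degree_sum_le _ _) ((Finset.sup_lt_iff (WithBot.bot_lt_coe N)).2 fun i hi => ?_)
        exact lt_of_le_of_lt (Polynomial.degree_C_mul_X_pow_le _ _) (WithBot.coe_lt_coe.2 (Finset.mem_Ico.1 hi).2)
      · exact lt_of_le_of_lt Polynomial.degree_C_le (WithBot.coe_lt_coe.2 hNpos)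
    refine ⟨f, hmon, ?_⟩
    rw [← Polynomial.aeval_def]
    refine mul_left_cancel₀ (pow_ne_zero N hL0') ?_
    simp only [f, map_sub, map_sum, map_mul, map_pow, Polynomial.aeval_C, Polynomial.aeval_X, mul_sub,
      Finset.mul_sum, mul_zero]
    rw [sub_eq_zero]
    have hbin : algebraMap A K ((x : A) ^ N - 1) = ∑ i ∈ Finset.Icc 1 N, (algebraMap A K L * z) ^ i * (N.choose i : K) := by
      rw [map_sub, map_pow, map_one, show algebraMap A K (x : A) = algebraMap A K L * z + 1 by rw [hzL]; ring,
        add_pow, Finset.range_eq_Ico, ← Finset.Ico_add_one_right_eq_Icc,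
        Finset.sum_eq_sum_Ico_succ_bot (Nat.succ_pos N)]
      simp
    rw [← map_pow, ← map_mul, ← hc, hbin]
    rw [Finset.mul_sum, map_pow]
    refine Finset.sum_congr rfl fun i hi => ?_
    obtain ⟨h1, h2⟩ := Finset.mem_Icc.1 hi
    have := congrArg (algebraMap A K) (hterm i h1 h2)
    rw [map_mul, map_mul, map_natCast, map_pow, map_pow] at this
    rw [← mul_assoc, ← this]; ring
  · rintro ⟨t, ht⟩
    have hx : (x : A) = L * t + 1 := by rw [← ht]; ring
    rw [hx, add_pow, Finset.range_eq_Ico, Finset.sum_eq_sum_Ico_succ_bot (Nat.succ_pos N)]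
    simp only [pow_zero, one_pow, mul_one, Nat.choose_zero_right, Nat.cast_one, add_sub_cancel_left]
    refine Finset.dvd_sum fun i hi => ?_
    obtain ⟨h1, h2⟩ := Finset.mem_Ico.1 hi
    rw [mul_pow, mul_comm _ (N.choose i : A), ← mul_assoc, hterm i h1 (Nat.lt_succ_iff.1 h2), mul_assoc]
    exact dvd_mul_right _ _

end Groth.Agent.S13158
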