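import Groth.Statements.S13160
import Mathlib
import Groth.Agent.S18589
-- import your own Groth.Agent.* helpers here

set_option autoImplicit false
universe u
open CAlg

namespace Groth.Agent.S13160

/-- Let R be a discrete valuation ring, p a prime number and λ an element of R dividing p (so that R/λR
is an 𝔽_p-algebra), and let a and b be p-typical Witt vectors with coefficients in R/λR which are
killed by the Frobenius endomorphism. Then the Witt sum a + b has components a_n + b_n for every n.
(The published statement allows an arbitrary λ ∈ R and is stated for Witt vectors with finitely many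
nonzero components; this row assumes that λ divides p, so that p = 0 in R/λR, and allows all Witt
vectors.) -/
theorem result (R : Type u) [CommRing R] [IsDomain R]
    [IsDiscreteValuationRing R] (p : ℕ) [Fact p.Prime] (lam : R) (hlam : lam ∣ (p : R))
    (a b : WittVector p (R ⧸ Ideal.span {lam})) (ha : WittVector.frobenius a = 0)
    (hb : WittVector.frobenius b = 0) (n : ℕ) : (a + b).coeff n = a.coeff n + b.coeff n := by
  classical
  rcases subsingleton_or_nontrivial (R ⧸ Ideal.span {lam}) with hs | hs
  · exact Subsingleton.elim _ _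
  have hp0 : (p : R ⧸ Ideal.span {lam}) = 0 := by
    rw [← map_natCast (Ideal.Quotient.mk (Ideal.span {lam})), Ideal.Quotient.eq_zero_iff_mem,
      Ideal.mem_span_singleton]
    exact hlam
  haveI : CharP (R ⧸ Ideal.span {lam}) p := (CharP.charP_iff_prime_eq_zero Fact.out).2 hp0
  let J : Ideal (R ⧸ Ideal.span {lam}) := RingHom.ker (_root_.frobenius (R ⧸ Ideal.span {lam}) p)
  have hJp : J ^ p = ⊥ := by
    haveI : IsPrincipalIdealRing (R ⧸ Ideal.span {lam}) :=
      IsPrincipalIdealRing.of_surjective _ Ideal.Quotient.mk_surjective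
    have hprin := IsPrincipalIdealRing.principal J
    obtain ⟨g, hg⟩ := hprin.principal
    have hgJ : g ∈ J := hg ▸ Submodule.mem_span_singleton_self g
    rw [hg]
    show Ideal.span {g} ^ p = ⊥
    rw [Ideal.span_singleton_pow, Ideal.span_singleton_eq_bot]
    exact hgJ
  have haJ : ∀ i, a.coeff i ∈ J := fun i => by
    show a.coeff i ^ p = 0
    rw [← WittVector.coeff_frobenius_charP, ha, WittVector.zero_coeff]
  have hbJ : ∀ i, b.coeff i ∈ J := fun i => by
    show b.coeff i ^ p = 0
    rw [← WittVector.coeff_frobenius_charP, hb, WittVector.zero_coeff]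
  let P : MvPolynomial (Fin 2 × ℕ) ℤ := WittVector.wittAdd p n - MvPolynomial.X (0, n) - MvPolynomial.X (1, n)
  have hX : ∀ i : Fin 2, MvPolynomial.IsWeightedHomogeneous (fun i : Fin 2 × ℕ => p ^ i.2)
      (MvPolynomial.X (i, n) : MvPolynomial (Fin 2 × ℕ) ℤ) (p ^ n) :=
    fun i => MvPolynomial.isWeightedHomogeneous_X ℤ _ _
  have hP : MvPolynomial.IsWeightedHomogeneous (fun i : Fin 2 × ℕ => p ^ i.2) P (p ^ n) :=
    (MvPolynomial.weightedHomogeneousSubmodule ℤ _ _).sub_mem
      ((MvPolynomial.weightedHomogeneousSubmodule ℤ _ _).sub_mem (S18589.result p n) (hX 0)) (hX 1)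
  have hlt : ∀ m ∈ P.support, ∀ i ∈ m.support, i.2 < n := by
    intro m hm i hi
    have hw := hP (MvPolynomial.mem_support_iff.1 hm)
    rw [Finsupp.weight_apply, Finsupp.sum] at hw
    have h1 : m i • p ^ i.2 ≤ p ^ n := by
      rw [← hw]
      exact Finset.single_le_sum (f := fun i => m i • p ^ i.2) (fun _ _ => Nat.zero_le _) hi
    rw [smul_eq_mul] at h1
    have hmi : 1 ≤ m i := Nat.one_le_iff_ne_zero.2 (Finsupp.mem_support_iff.1 hi)
    have hple : i.2 ≤ n := (Nat.pow_le_pow_iff_right (Fact.out (p := p.Prime)).one_lt).1
      (le_trans (Nat.le_mul_of_pos_left _ hmi) h1)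
    refine lt_of_le_of_ne hple fun hin => ?_
    rw [hin] at h1
    have hm1 : m i = 1 := le_antisymm (Nat.le_of_mul_le_mul_right (by rwa [one_mul]) (Nat.pow_pos (Fact.out (p := p.Prime)).pos)) hmi
    have hsupp : m = Finsupp.single i 1 := by
      have hs : m.support = {i} := by
        refine Finset.eq_singleton_iff_unique_mem.2 ⟨hi, fun k hk => ?_⟩
        by_contra hki
        have h2 : m i • p ^ i.2 + m k • p ^ k.2 ≤ p ^ n := by
          rw [← hw, ← Finset.sum_pair (f := fun i => m i • p ^ i.2) (Ne.symm hki)]
          exact Finset.sum_le_sum_of_subset (by intro x hx; simp at hx; rcases hx with rfl | rfl <;> assumption)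
        rw [hm1, one_smul, hin, smul_eq_mul] at h2
        have : 0 < m k * p ^ k.2 := Nat.mul_pos (Nat.pos_of_ne_zero (Finsupp.mem_support_iff.1 hk))
          (Nat.pos_of_ne_zero (by simp [(Fact.out (p := p.Prime)).ne_zero]))
        omega
      rw [Finsupp.support_eq_singleton.1 hs |>.2, hm1]
    refine MvPolynomial.mem_support_iff.1 hm ?_
    -- evaluate at an indicator vector
    let x : Fin 2 → WittVector p ℤ := fun l => if l = i.1 then WittVector.mk p (fun k => if k = n then 1 else 0) else 0
    have hev : MvPolynomial.aeval (fun q : Fin 2 × ℕ => (x q.1).coeff q.2) P = 0 := by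
      have hadd := WittVector.add_coeff (x 0) (x 1) n
      have hxx : (x 0 + x 1).coeff n = (x 0).coeff n + (x 1).coeff n := by
        obtain ⟨l, j⟩ := i
        fin_cases l <;> simp [x]
      rw [hxx] at hadd
      simp only [P, map_sub, MvPolynomial.aeval_X]
      rw [show WittVector.peval (WittVector.wittAdd p n) ![(x 0).coeff, (x 1).coeff] =
        MvPolynomial.aeval (fun q : Fin 2 × ℕ => (x q.1).coeff q.2) (WittVector.wittAdd p n) by
          unfold WittVector.peval
          congr 1
          refine MvPolynomial.algHom_ext fun q => ?_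
          simp only [MvPolynomial.aeval_X]
          obtain ⟨l, j⟩ := q
          fin_cases l <;> rfl] at hadd
      rw [← hadd]
      ring
    rw [MvPolynomial.aeval_def, MvPolynomial.eval₂_eq] at hev
    rw [Finset.sum_eq_single (Finsupp.single i 1)] at hev
    · have hi' : i = (i.1, n) := Prod.ext rfl hin
      rw [hsupp]
      rw [Finsupp.support_single_ne_zero _ one_ne_zero, Finset.prod_singleton, Finsupp.single_eq_same,
        pow_one, hi'] at hev
      simpa [x, ← hi'] using hev
    · intro m' hm' hne
      have hex : ∃ k ∈ m'.support, k ≠ i := by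
        by_contra hcon
        simp only [not_exists, not_and, not_not] at hcon
        have hw' := hP (MvPolynomial.mem_support_iff.1 hm')
        have : m' = Finsupp.single i (m' i) := by
          ext k
          rcases eq_or_ne k i with rfl | hki
          · rw [Finsupp.single_eq_same]
          · rw [Finsupp.single_eq_of_ne hki]
            by_contra h0
            exact hki (hcon k (Finsupp.mem_support_iff.2 h0))
        rw [this, Finsupp.weight_apply, Finsupp.sum_single_index (by simp), smul_eq_mul, hin] at hw'
        have : m' i = 1 := Nat.eq_of_mul_eq_mul_right (Nat.pow_pos (Fact.out (p := p.Prime)).pos)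
          (by rw [hw', one_mul])
        apply hne
        rw [‹m' = Finsupp.single i (m' i)›, this]
      obtain ⟨k, hk, hki⟩ := hex
      refine mul_eq_zero_of_right _ (Finset.prod_eq_zero hk ?_)
      have hk0 : (x k.1).coeff k.2 = 0 := by
        by_cases hl : k.1 = i.1
        · have : k.2 ≠ n := fun h => hki (Prod.ext hl (h.trans hin.symm))
          simp [x, hl, this]
        · simp [x, hl]
      rw [hk0, zero_pow (Finsupp.mem_support_iff.1 hk)]
    · intro h
      exact absurd (hsupp ▸ hm) h
  rw [WittVector.add_coeff]
  let v : Fin 2 × ℕ → R ⧸ Ideal.span {lam} := Function.uncurry ![a.coeff, b.coeff]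
  show MvPolynomial.aeval v (WittVector.wittAdd p n) = _
  have hPv : MvPolynomial.aeval v P = 0 := by
    rw [MvPolynomial.aeval_def, MvPolynomial.eval₂_eq]
    refine Finset.sum_eq_zero fun m hm => mul_eq_zero_of_right _ ?_
    have hmem : ∏ i ∈ m.support, v i ^ m i ∈ J ^ ∑ i ∈ m.support, m i := by
      rw [← Finset.prod_pow_eq_pow_sum]
      exact Ideal.prod_mem_prod fun i _ => Ideal.pow_mem_pow (by
        obtain ⟨l, j⟩ := i
        fin_cases l
        · exact haJ j
        · exact hbJ j) _
    have hdeg : p ≤ ∑ i ∈ m.support, m i := by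
      have hw := hP (MvPolynomial.mem_support_iff.1 hm)
      rw [Finsupp.weight_apply, Finsupp.sum] at hw
      by_contra hlt'
      have hn : 0 < n := by
        rcases Nat.eq_zero_or_pos n with rfl | h
        · rcases m.support.eq_empty_or_nonempty with he | ⟨i, hi⟩
          · rw [he, Finset.sum_empty] at hw; simp at hw
          · exact absurd (hlt m hm i hi) (Nat.not_lt_zero _)
        · exact h
      have hle : p ^ n ≤ (∑ i ∈ m.support, m i) * p ^ (n - 1) := by
        rw [← hw, Finset.sum_mul]
        exact Finset.sum_le_sum fun i hi => by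
          rw [smul_eq_mul]
          exact Nat.mul_le_mul le_rfl (Nat.pow_le_pow_right (Fact.out (p := p.Prime)).pos
            (by have := hlt m hm i hi; omega))
      have : (∑ i ∈ m.support, m i) * p ^ (n - 1) < p * p ^ (n - 1) :=
        Nat.mul_lt_mul_of_pos_right (by omega) (Nat.pow_pos (Fact.out (p := p.Prime)).pos)
      rw [← pow_succ', show n - 1 + 1 = n by omega] at this
      omega
    have := Ideal.pow_le_pow_right hdeg hmem
    rwa [hJp, Ideal.mem_bot] at this
  rw [show WittVector.wittAdd p n = P + MvPolynomial.X (0, n) + MvPolynomial.X (1, n) by simp only [P]; ring,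
    map_add, map_add, hPv, MvPolynomial.aeval_X, MvPolynomial.aeval_X, zero_add]
  rfl

end Groth.Agent.S13160
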