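import Groth.Statements.S13161
import Mathlib
-- import your own Groth.Agent.* helpers here

set_option autoImplicit false
universe u
open scoped TensorProduct
open CAlg

namespace Groth.Agent.S13161

/-- Let R be a discrete valuation ring with fraction field K, A an R-algebra which is semireflexive as
an R-module (the map to its double dual is injective: every nonzero a ∈ A has an R-linear form f : A
→ R with f(a) ≠ 0), and B an A-algebra which is finitely generated as an A-module and flat over R.
Suppose B ⊗ K is semireflexive as a module over A ⊗ K, which for such B amounts to: every nonzero b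
∈ B has an A-linear map g : B → A ⊗_R K with g(b) ≠ 0. Then B is semireflexive as an R-module: every
nonzero b ∈ B has an R-linear form h : B → R with h(b) ≠ 0. (The published statement phrases the
hypothesis on B_K as an A_K-module; for B flat over R and finite over A this is the elementwise
condition used here.) -/
theorem result (R : Type u) [CommRing R] [IsDomain R]
    [IsDiscreteValuationRing R] (K : Type u) [Field K] [Algebra R K] [IsFractionRing R K]
    (A B : Type u) [CommRing A] [CommRing B] [Algebra R A] [Algebra R B] [Algebra A B] [IsScalarTower R A B]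
    [Module.Finite A B] [Module.Flat R B]
    (hA : ∀ a : A, a ≠ 0 → ∃ f : A →ₗ[R] R, f a ≠ 0)
    (hBK : ∀ b : B, b ≠ 0 → ∃ g : B →ₗ[A] A ⊗[R] K, g b ≠ 0) :
    ∀ b : B, b ≠ 0 → ∃ h : B →ₗ[R] R, h b ≠ 0 := by
  classical
  intro b hb
  obtain ⟨g, hg⟩ := hBK b hb
  let ι : A →ₗ[A] A ⊗[R] K := (Algebra.linearMap A (A ⊗[R] K))
  have hιdef : ∀ a, ι a = a ⊗ₜ 1 := fun a => rfl
  have hinjι : Function.Injective ι := by
    rw [injective_iff_map_eq_zero]
    intro a ha
    by_contra ha0
    obtain ⟨f, hf⟩ := hA a ha0
    have h := congrArg (TensorProduct.lid R K ∘ f.rTensor K) ha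
    rw [hιdef] at h
    simp only [Function.comp_apply, LinearMap.rTensor_tmul, TensorProduct.lid_tmul, map_zero] at h
    rw [← Algebra.algebraMap_eq_smul_one] at h
    exact hf ((IsFractionRing.injective R K) (by rw [h, map_zero]))
  have hden : ∀ z : A ⊗[R] K, ∃ r : R, r ≠ 0 ∧ ∃ a, r • z = ι a := by
    intro z
    induction z using TensorProduct.induction_on with
    | zero => exact ⟨1, one_ne_zero, 0, by simp⟩
    | tmul a x =>
      obtain ⟨⟨c, d⟩, hcd⟩ := IsLocalization.surj (nonZeroDivisors R) x
      refine ⟨d, nonZeroDivisors.ne_zero d.2, c • a, ?_⟩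
      rw [hιdef, ← TensorProduct.tmul_smul, TensorProduct.smul_tmul, ← Algebra.algebraMap_eq_smul_one]
      congr 1
      rw [Algebra.smul_def, mul_comm]
      exact hcd
    | add z w hz hw =>
      obtain ⟨r, hr, a, ha⟩ := hz
      obtain ⟨r', hr', a', ha'⟩ := hw
      refine ⟨r * r', mul_ne_zero hr hr', r' • a + r • a', ?_⟩
      rw [map_add, LinearMap.map_smul_of_tower, LinearMap.map_smul_of_tower, ← ha, ← ha', smul_add,
        smul_smul, smul_smul, mul_comm r' r]
  obtain ⟨s, hs⟩ := (Module.finite_def.1 (inferInstance : Module.Finite A B))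
  choose r hr a ha using fun x : B => hden (g x)
  let ρ : R := ∏ x ∈ s, r x
  have hρ : ρ ≠ 0 := Finset.prod_ne_zero_iff.2 fun x _ => hr x
  have hmem : ∀ y, ρ • g y ∈ LinearMap.range ι := by
    intro y
    have hy : y ∈ Submodule.span A (s : Set B) := hs ▸ Submodule.mem_top
    induction hy using Submodule.span_induction with
    | mem x hx =>
      obtain ⟨c, hc⟩ := Finset.dvd_prod_of_mem r hx
      refine ⟨c • a x, ?_⟩
      rw [LinearMap.map_smul_of_tower, ← ha, smul_smul, mul_comm, ← hc]
    | zero => simp
    | add x y _ _ hx hy => rw [map_add, smul_add]; exact Submodule.add_mem _ hx hy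
    | smul c x _ hx => rw [map_smul, smul_comm]; exact Submodule.smul_mem _ _ hx
  let g' : B →ₗ[A] A := (LinearEquiv.ofInjective ι hinjι).symm.toLinearMap ∘ₗ
    LinearMap.codRestrict (LinearMap.range ι) (ρ • g) hmem
  have hne : g' b ≠ 0 := by
    intro h
    have h' : (ρ • g) b = 0 := by
      have := congrArg (LinearEquiv.ofInjective ι hinjι) h
      rw [map_zero] at this
      simpa [g'] using congrArg Subtype.val this
    rw [LinearMap.smul_apply] at h'
    have hu : IsUnit (algebraMap R K ρ) := Ne.isUnit fun h0 => hρ ((IsFractionRing.injective R K) (by rw [h0, map_zero]))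
    obtain ⟨v, hv⟩ := hu.exists_left_inv
    refine hg ?_
    have h2 : ∀ z : A ⊗[R] K, ρ • z = 0 → z = 0 := by
      intro z hz
      have h3 := congrArg (LinearMap.lTensor A (LinearMap.mulLeft R v)) hz
      rw [map_zero] at h3
      rw [← h3, map_smul]
      clear h3 hz h' hg
      induction z using TensorProduct.induction_on with
      | zero => simp
      | tmul a x =>
        rw [LinearMap.lTensor_tmul, ← TensorProduct.tmul_smul, LinearMap.mulLeft_apply, Algebra.smul_def,
          ← mul_assoc, mul_comm _ v, hv, one_mul]
      | add z w hz hw => rw [map_add, smul_add, ← hz, ← hw]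
    exact h2 _ h'
  obtain ⟨f, hf⟩ := hA _ hne
  exact ⟨f.comp (g'.restrictScalars R), hf⟩

end Groth.Agent.S13161
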