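import Groth.Statements.S13162
import Mathlib.Data.Nat.Choose.Lucas
import Mathlib.RingTheory.Ideal.Quotient.Operations
import Mathlib.Data.Nat.Factorization.Basic

set_option autoImplicit false
universe u v
open ZeroCyc

namespace Groth.Agent.S13162

/-- Let a finite group G act on a commutative ring A by ring automorphisms and let p be a prime such
that every integer prime to p is a unit in A. If I is an ideal of A and f ∈ A has G-invariant class
modulo I, then f^(p^k) is congruent modulo I to a G-invariant element of A, where p^k is the exact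
power of p dividing the order of G. (The published statement assumes I stable under G, so that G
acts on A/I and the claim reads: the p^k-th power of an invariant of A/I lies in the image of the
invariants of A; the form here asks only that the class of f be invariant.) -/
theorem result {A : Type u} [CommRing A] {G : Type v} [Group G] [Fintype G]
    [MulSemiringAction G A] (p : ℕ) [Fact p.Prime]
    (hA : ∀ m : ℕ, ¬ p ∣ m → IsUnit (m : A))
    (I : Ideal A) (f : A) (hf : ∀ g : G, g • f - f ∈ I) :
    ∃ a : A, (∀ g : G, g • a = a) ∧ a - f ^ (p ^ (Fintype.card G).factorization p) ∈ I := by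
  classical
  have hp : p.Prime := Fact.out
  set j := p ^ (Fintype.card G).factorization p with hj
  set E : A := ∑ S ∈ (Finset.univ : Finset G).powersetCard j, ∏ h ∈ S, h • f with hE
  obtain ⟨u, hu⟩ : IsUnit (((Fintype.card G).choose j : ℕ) : A) := by
    refine hA _ fun hdvd => ?_
    set n := Fintype.card G
    have hn : n ≠ 0 := Fintype.card_ne_zero
    have h1 : n.choose j ≡ n / j [MOD p] := by
      have e : n.choose j ≡ (n / j).choose 1 [MOD p] := by
        have := Choose.choose_pow_mul_pow_mul_modEq_choose_nat (p := p) (k := n.factorization p) (a := n / j) (b := 1)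
        rwa [mul_one, ← hj, Nat.mul_div_cancel' (Nat.ordProj_dvd n p)] at this
      rwa [Nat.choose_one_right] at e
    exact Nat.not_dvd_ordCompl hp hn ((h1.dvd_iff dvd_rfl).mp hdvd)
  have hEG : ∀ g : G, g • E = E := by
    intro g
    rw [hE, Finset.smul_sum]
    refine Finset.sum_equiv (Equiv.mulLeft g).finsetCongr (fun S => ?_) (fun S _ => ?_)
    · simp [Finset.mem_powersetCard]
    · rw [Finset.smul_prod', Equiv.finsetCongr_apply, Finset.prod_map]
      simp [mul_smul]
  have hu' : ∀ g : G, g • ((u⁻¹ : Aˣ) : A) = ((u⁻¹ : Aˣ) : A) := fun g => by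
    have h1 : g • (u : A) * g • ((u⁻¹ : Aˣ) : A) = 1 := by
      rw [← smul_mul', Units.mul_inv, smul_one]
    have h2 : g • (u : A) = (u : A) := by
      rw [hu]; exact map_natCast (MulSemiringAction.toRingHom G A g) _
    rw [h2] at h1
    exact u.inv_eq_of_mul_eq_one_right h1 |>.symm
  refine ⟨((u⁻¹ : Aˣ) : A) * E, fun g => by rw [smul_mul', hu', hEG], ?_⟩
  have hmk : Ideal.Quotient.mk I E = Ideal.Quotient.mk I ((u : A) * f ^ j) := by
    rw [hE, map_sum, hu, map_mul, map_natCast, map_pow]
    rw [Finset.sum_congr rfl (fun S hS => ?_), Finset.sum_const, Finset.card_powersetCard,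
      Finset.card_univ, nsmul_eq_mul]
    rw [map_prod, Finset.prod_congr rfl (fun h _ => (Ideal.Quotient.eq.mpr (hf h))), Finset.prod_const,
      (Finset.mem_powersetCard.mp hS).2]
  rw [← Ideal.Quotient.eq, map_mul, hmk, ← map_mul, ← mul_assoc, Units.inv_mul, one_mul]

end Groth.Agent.S13162
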