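import Groth.Statements.S13163
import Mathlib.SetTheory.Cardinal.Finite

set_option autoImplicit false
universe u
open ZeroCyc

namespace Groth.Agent.S13163

open Polynomial in
/-- Let P_d(T) = ∏_{0 ≤ i < j ≤ d} (T^i − T^j) − 1 ∈ ℤ[T]. Every residue field of ℤ[T]/(P_d), i.e. every
field receiving a ring homomorphism from it, has at least d + 1 elements. -/
theorem result (d : ℕ) (k : Type u) [Field k]
    (φ : (ℤ[X] ⧸ Ideal.span {(∏ j ∈ Finset.range (d + 1), ∏ i ∈ Finset.range j,
        ((X : ℤ[X]) ^ i - X ^ j)) - 1}) →+* k) :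
    ((d + 1 : ℕ) : Cardinal) ≤ Cardinal.mk k := by
  classical
  by_contra hlt
  push Not at hlt
  set P : ℤ[X] := ∏ j ∈ Finset.range (d + 1), ∏ i ∈ Finset.range j, ((X : ℤ[X]) ^ i - X ^ j) with hP
  set x : k := φ (Ideal.Quotient.mk _ X) with hx
  have h0 : φ (Ideal.Quotient.mk _ P) = 1 := by
    have h : Ideal.Quotient.mk (Ideal.span {P - 1}) P = 1 := by
      rw [← map_one (Ideal.Quotient.mk (Ideal.span {P - 1})), Ideal.Quotient.eq]
      exact Ideal.mem_span_singleton_self _
    rw [h, map_one]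
  obtain ⟨a, b, hab, hne⟩ : ∃ a b : Fin (d + 1), x ^ (a : ℕ) = x ^ (b : ℕ) ∧ a < b := by
    by_contra hc
    push Not at hc
    have hinj : Function.Injective (fun a : Fin (d + 1) => x ^ (a : ℕ)) := fun a b h => by
      rcases lt_trichotomy a b with h' | h' | h'
      · exact absurd h' (not_lt.mpr (hc a b h))
      · exact h'
      · exact absurd h' (not_lt.mpr (hc b a h.symm))
    have := Cardinal.lift_mk_le'.mpr ⟨⟨_, hinj⟩⟩
    rw [Cardinal.mk_fin, Cardinal.lift_natCast, Cardinal.lift_uzero] at this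
    exact absurd hlt (not_lt.mpr this)
  refine zero_ne_one (α := k) ?_
  refine Eq.trans ?_ h0
  simp only [hP]
  rw [map_prod, map_prod]
  refine (Finset.prod_eq_zero (Finset.mem_range.mpr b.2) ?_).symm
  rw [map_prod, map_prod]
  refine Finset.prod_eq_zero (Finset.mem_range.mpr hne) ?_
  rw [map_sub, map_sub, map_pow, map_pow, map_pow, map_pow, ← hx, hab, sub_self]

end Groth.Agent.S13163
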