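import Groth.Statements.S13166
import Groth.Agent.Small70.Avoid
import Mathlib.Algebra.Algebra.Subalgebra.Lattice
import Mathlib.Data.Sym.Card

set_option autoImplicit false
universe u
open ZeroCyc

namespace Groth.Agent.S13166

/-- Let k be a field, B a k-algebra generated as an algebra by a k-subspace V, k'/k a field extension
and x_1, …, x_d pairwise distinct k'-points of B ⊗_k k' (equivalently, distinct k-algebra
homomorphisms B → k'). If k has at least d(d − 1)/2 elements, then there is b ∈ V whose values at
x_1, …, x_d are pairwise distinct. -/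
theorem result {k : Type u} [Field k] {B : Type u} [CommRing B] [Algebra k B] (V : Submodule k B)
    (hV : Algebra.adjoin k (V : Set B) = ⊤) {k' : Type u} [Field k'] [Algebra k k']
    {d : ℕ} (x : Fin d → (B →ₐ[k] k')) (hx : Function.Injective x)
    (hk : ((d.choose 2 : ℕ) : Cardinal) ≤ Cardinal.mk k) :
    ∃ b ∈ V, Function.Injective fun i => x i b := by
  classical
  let S : Finset (Sym2 (Fin d)) := Finset.univ.filter fun z => ¬ z.IsDiag
  have hs : S.card = d.choose 2 := by
    rw [← Fintype.card_subtype, Sym2.card_subtype_not_diag, Fintype.card_fin]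
  let W : Sym2 (Fin d) → Submodule k V := Sym2.lift
    ⟨fun i j => LinearMap.ker (((x i).toLinearMap - (x j).toLinearMap).comp V.subtype), fun i j => by
      ext b; simp only [LinearMap.mem_ker, LinearMap.comp_apply, LinearMap.sub_apply, sub_eq_zero]; exact eq_comm⟩
  have hne : ∀ z ∈ S, ∃ m, m ∉ W z := fun z hz => by
    induction z using Sym2.ind with
    | _ i j =>
      simp [S] at hz
      by_contra hno
      push Not at hno
      refine hz (hx (AlgHom.ext_of_adjoin_eq_top hV fun b hb => ?_))
      have := hno ⟨b, hb⟩
      simpa [W, sub_eq_zero] using this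
  obtain ⟨b, hb⟩ := Groth.Agent.Small70.exists_avoid W S hne (κ := k) id
    (fun z _ a c hac m hm => (Submodule.smul_mem_iff _ (sub_ne_zero.mpr hac)).mp hm)
    (by rw [hs]; exact hk)
  refine ⟨b, b.2, fun i j hij => ?_⟩
  by_contra hne'
  exact hb s(i, j) (by simp [S, hne']) (by simp [W, sub_eq_zero]; exact hij)

end Groth.Agent.S13166
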