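import Groth.Statements.S13167
import Groth.Agent.Small70.Avoid
import Groth.Agent.ProjLcm70.Graded
import Mathlib.RingTheory.LocalRing.ResidueField.Ideal
import Mathlib.RingTheory.IntegralDomain

set_option autoImplicit false
universe u
open AlgebraicGeometry
open ZeroCyc

namespace Groth.Agent.S13167

/-- Let B be a graded R-algebra generated by its degree-one part B_1, with B_1 a finitely generated
R-module, and let x_1, …, x_d be points of X = Proj B lying over one and the same prime p of R. If
the residue field of p has at least d elements, then some f ∈ B_1 ⊆ Γ(X, O_X(1)) has all the x_i in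
D_+(f). (Without the hypothesis on the residue field such an f exists in some B_n with n ≥ 1; that
first assertion is a known property of ample sheaves and is not restated here.) -/
theorem result {R A : Type u} [CommRing R] [CommRing A] [Algebra R A] (𝒜 : ℕ → Submodule R A) [GradedAlgebra 𝒜]
    (hgen : Algebra.adjoin R (𝒜 1 : Set A) = ⊤) (hfg : (𝒜 1).FG)
    (p : Ideal R) [p.IsPrime] {d : ℕ} (x : Fin d → Proj 𝒜)
    (hx : ∀ i, ((x i).asHomogeneousIdeal.toIdeal).comap (algebraMap R A) = p)
    (hcard : (d : Cardinal) ≤ Cardinal.mk p.ResidueField) :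
    ∃ g ∈ 𝒜 1, ∀ i, x i ∈ Proj.basicOpen 𝒜 g := by
  classical
  let W : Fin d → Submodule R (𝒜 1) := fun i =>
    ((x i).asHomogeneousIdeal.toIdeal.restrictScalars R).comap (𝒜 1).subtype
  have hne : ∀ i ∈ (Finset.univ : Finset (Fin d)), ∃ m, m ∉ W i := fun i _ => by
    by_contra hno
    push Not at hno
    refine (x i).not_irrelevant_le fun a ha => ?_
    rw [← DirectSum.sum_support_decompose 𝒜 a]
    refine sum_mem fun m _ => ?_
    rcases m with _ | m
    · have h0 : (DirectSum.decompose 𝒜 a 0 : A) = 0 := ha
      rw [h0]; exact zero_mem _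
    · exact Groth.Agent.ProjLcm70.hom_induction (fun b : 𝒜 1 => (b : A)) (fun _ => 1) (fun b => b.2)
        (by convert hgen using 2; exact Subtype.range_coe) (fun m a => m ≠ 0 → a ∈ (x i).asHomogeneousIdeal)
        (fun _ _ => zero_mem _) (fun _ _ _ hy hz h => add_mem (hy h) (hz h))
        (fun _ r y hy h => by rw [Algebra.smul_def]; exact Ideal.mul_mem_left _ _ (hy h))
        (fun h => absurd rfl h) (fun b _ => hno b)
        (fun i' j a b _ _ hPa hPb h => by
          rcases Nat.eq_zero_or_pos i' with hi | hi
          · exact Ideal.mul_mem_left _ _ (hPb (by omega))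
          · exact Ideal.mul_mem_right _ _ (hPa (by omega)))
        _ _ (DirectSum.decompose 𝒜 a (m + 1)).2 (Nat.succ_ne_zero m)
  have hκ : (d : Cardinal) ≤ Cardinal.mk (R ⧸ p) := by
    rcases finite_or_infinite (R ⧸ p) with hfin | hinf
    · haveI : p.IsMaximal := Ideal.Quotient.maximal_of_isField p (Finite.isField_of_domain (R ⧸ p))
      refine hcard.trans_eq (Cardinal.mk_congr ?_)
      exact (Equiv.ofBijective _ p.bijective_algebraMap_quotient_residueField).symm
    · exact (Cardinal.natCast_lt_aleph0).le.trans (Cardinal.aleph0_le_mk _)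
  have hc : ∀ i ∈ (Finset.univ : Finset (Fin d)), ∀ a b : R ⧸ p, a ≠ b → ∀ m,
      (Quotient.out a - Quotient.out b) • m ∈ W i → m ∈ W i := fun i _ a b hab m hm => by
    simp only [W, Submodule.mem_comap, map_smul, Submodule.restrictScalars_mem, Algebra.smul_def] at hm ⊢
    refine ((x i).isPrime.mem_or_mem hm).resolve_left fun h => ?_
    have h' : Quotient.out a - Quotient.out b ∈ p := (hx i).le h
    rw [← Ideal.Quotient.eq] at h'
    exact hab (by rwa [Ideal.Quotient.mk_out, Ideal.Quotient.mk_out] at h')
  obtain ⟨m, hm⟩ := Groth.Agent.Small70.exists_avoid W Finset.univ hne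
    (fun a : R ⧸ p => Quotient.out a) hc (by simpa using hκ)
  exact ⟨m, m.2, fun i => hm i (Finset.mem_univ i)⟩

end Groth.Agent.S13167
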