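import Groth.Statements.S13169
import Groth.Agent.ProjLcm70.Generated

set_option autoImplicit false
universe u
open AlgebraicGeometry
open ZeroCyc

namespace Groth.Agent.S13169

/-- Let B be a graded R-algebra generated by homogeneous elements f_1, …, f_s of positive degrees d_1,
…, d_s, let l be the least common multiple of the d_i and X = Proj B. For n = a l with a ≥ 1, the
twisting sheaf O_X(n) is ample and is generated by its global sections b/1, b ∈ B_n. -/
theorem result {R A : Type u} [CommRing R] [CommRing A] [Algebra R A] (𝒜 : ℕ → Submodule R A) [GradedAlgebra 𝒜]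
    {s : ℕ} (f : Fin s → A) (deg : Fin s → ℕ) (hdeg : ∀ i, 0 < deg i) (hf : ∀ i, f i ∈ 𝒜 (deg i))
    (hgen : Algebra.adjoin R (Set.range f) = ⊤) (a : ℕ) (ha : 0 < a) :
    CohB1.IsAmple (Twist.twist 𝒜 ((a * Finset.univ.lcm deg : ℕ) : ℤ)) ∧
      ProjUP.GeneratedBy (Twist.twist 𝒜 ((a * Finset.univ.lcm deg : ℕ) : ℤ))
        (fun b : 𝒜 (a * Finset.univ.lcm deg) =>
          (Twist.globalOf 𝒜 b : ProjUP.Γm (Twist.twist 𝒜 ((a * Finset.univ.lcm deg : ℕ) : ℤ)))) := by
  haveI := Groth.Agent.ProjLcm70.compactSpace_proj hf hgen hdeg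
  refine ⟨Groth.Agent.Props.AmpleTwist.isAmple_twist
      (F := fun g : 𝒜 (a * Finset.univ.lcm deg) => (g : A))
      (Nat.mul_pos ha (Groth.Agent.ProjLcm70.lcm_pos hdeg)) (fun g => g.2)
      (Groth.Agent.ProjLcm70.iSup_basicOpen_mul_lcm hf hgen hdeg a), ?_⟩
  exact Groth.Agent.ProjLcm70.generatedBy_of_cover _ fun x =>
    Groth.Agent.ProjLcm70.exists_mul_lcm_not_mem hf hgen hdeg a x

end Groth.Agent.S13169
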