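import Groth.Statements.S13175
import Groth.Agent.PLaw.PolyTest

set_option autoImplicit false
universe u v w
open scoped TensorProduct
open ZeroCyc

namespace Groth.Agent.S13175

theorem rTensor_eq {A : Type u} [CommRing A] {B : Type v} [CommRing B] [Algebra A B]
    {S S' : Type u} [CommSemiring S] [Algebra A S] [CommSemiring S'] [Algebra A S'] (φ : S →ₐ[A] S')
    (x : S ⊗[A] B) : φ.toLinearMap.rTensor B x = Algebra.TensorProduct.map φ (AlgHom.id A B) x := by
  induction x using TensorProduct.induction_on with
  | zero => simp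
  | tmul a b => rfl
  | add a b ha hb => simp [ha, hb]

theorem compat' {A : Type u} [CommRing A] {B : Type v} [CommRing B] [Algebra A B]
    {C : Type w} [CommRing C] [Algebra A C] (F : B →ₚₗ[A] C)
    {S S' : Type u} [CommSemiring S] [Algebra A S] [CommSemiring S'] [Algebra A S'] (φ : S →ₐ[A] S')
    (x : S ⊗[A] B) :
    Algebra.TensorProduct.map φ (AlgHom.id A C) (F.toFun' S x) =
      F.toFun' S' (Algebra.TensorProduct.map φ (AlgHom.id A B) x) := by
  rw [← rTensor_eq, ← rTensor_eq, PLaw.compat]


/-- Let B and C be A-algebras and F : B → C a polynomial law. If the maps F over the polynomial rings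
A[t_1, …, t_n], n ≥ 0, are multiplicative (send 1 to 1 and products to products), then F is a
multiplicative law: F sends 1 to 1 and products to products over every A-algebra. -/
theorem result {A : Type u} [CommRing A] {B : Type v} [CommRing B] [Algebra A B] {C : Type w} [CommRing C] [Algebra A C]
    (F : B →ₚₗ[A] C)
    (h1 : ∀ n : ℕ, F.toFun' (MvPolynomial (Fin n) A) 1 = 1)
    (hmul : ∀ (n : ℕ) (x y : MvPolynomial (Fin n) A ⊗[A] B),
      F.toFun' (MvPolynomial (Fin n) A) (x * y) = F.toFun' (MvPolynomial (Fin n) A) x * F.toFun' (MvPolynomial (Fin n) A) y) :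
    ∀ (S : Type u) [CommRing S] [Algebra A S], F.toFun' S 1 = 1 ∧
      ∀ x y : S ⊗[A] B, F.toFun' S (x * y) = F.toFun' S x * F.toFun' S y := by
  intro S _ _
  refine ⟨?_, fun x y => ?_⟩
  · have := compat' F (MvPolynomial.aeval (R := A) (fun i : Fin 0 => (Fin.elim0 i : S))) 1
    rwa [h1 0, map_one, map_one, eq_comm] at this
  · obtain ⟨n, ψ, p, q, rfl, rfl⟩ := PLaw.exists_lift₂ x y
    rw [rTensor_eq, rTensor_eq, ← map_mul, ← compat', ← compat', ← compat', hmul, map_mul]

end Groth.Agent.S13175
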