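import Groth.Statements.S13176
import Groth.Agent.SGA1Quot.HomeoCmp

set_option autoImplicit false
universe u
open CategoryTheory CategoryTheory.Limits AlgebraicGeometry
open ZeroCyc

namespace Groth.Agent.S13176

/-- Let a finite group G act on a scheme X over S through ρ, let q : X → Y be a quotient of X by G over
S (affine, G-invariant, O_Y = the G-invariant sections of O_X), let S' → S be any morphism and X' =
X ×_S S' with the induced action ρ', and let r : X' → Y' be a quotient of X' by G. Then the morphism
Y' → Y ×_S S' through which the canonical map X' → Y ×_S S' factors via r is a universal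
homeomorphism. (The published statement assumes every G-orbit lies in an affine open, which is what
makes the quotients exist; here the two quotients are hypotheses.) -/
theorem result {X Y S S' Y' : Scheme.{u}} {G : Type u} [Group G] [Finite G]
    (ρ : G →* Aut X) (f : X ⟶ S) (hρ : ∀ σ : G, (ρ σ).hom ≫ f = f)
    (q : X ⟶ Y) (h : Y ⟶ S) (hq : q ≫ h = f) (hquot : SGA1.IsQuot ρ q)
    (g : S' ⟶ S)
    (ρ' : G →* Aut (pullback f g))
    (hρ' : ∀ σ : G, (ρ' σ).hom ≫ pullback.fst f g = pullback.fst f g ≫ (ρ σ).hom ∧
      (ρ' σ).hom ≫ pullback.snd f g = pullback.snd f g)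
    (r : pullback f g ⟶ Y') (hr : SGA1.IsQuot ρ' r)
    (m : Y' ⟶ pullback h g)
    (hm : r ≫ m = pullback.map f g h g q (𝟙 S') (𝟙 S)
      ((Category.comp_id f).trans hq.symm) ((Category.comp_id g).trans (Category.id_comp g).symm)) :
    FlatMor.IsUnivHomeo m := by
  haveI := SGA1Quot.isIntegralHom_of_isQuot hquot
  haveI : Surjective q := ⟨SGA1Quot.surjective hquot⟩
  have hsq : IsPullback (pullback.fst f g) (r ≫ m) q (pullback.fst h g) := by
    have h1 : IsPullback (pullback.fst f g) ((r ≫ m) ≫ pullback.snd h g) (q ≫ h) g := by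
      rw [hm, pullback.lift_snd, Category.comp_id, hq]; exact IsPullback.of_hasPullback f g
    refine IsPullback.of_bot h1 ?_ (IsPullback.of_hasPullback h g)
    rw [hm, pullback.lift_fst]
  haveI : IsIntegralHom (r ≫ m) := MorphismProperty.of_isPullback (P := @IsIntegralHom) hsq ‹_›
  haveI : Surjective (r ≫ m) := MorphismProperty.of_isPullback (P := @Surjective) hsq ‹_›
  refine SGA1Quot.isUnivHomeo_of_quot hr m fun Ω _ _ a b hab => ?_
  have h2 : (r ≫ m) ≫ pullback.snd h g = pullback.snd f g := by
    rw [hm, pullback.lift_snd, Category.comp_id]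
  have e1 : (a ≫ pullback.fst f g) ≫ q = (b ≫ pullback.fst f g) ≫ q := by
    have := congrArg (· ≫ pullback.fst h g) hab
    simp only [Category.assoc] at this ⊢
    rwa [← Category.assoc r m, ← hsq.w] at this
  have e2 : a ≫ pullback.snd f g = b ≫ pullback.snd f g := by
    have := congrArg (· ≫ pullback.snd h g) hab
    simp only [Category.assoc] at this
    rwa [← Category.assoc r m, h2] at this
  obtain ⟨σ, hσ⟩ := SGA1Quot.geomTransitive_of_isQuot hquot Ω _ _ e1
  refine ⟨σ, pullback.hom_ext ?_ ?_⟩
  · rw [Category.assoc, (hρ' σ).1, ← hσ, Category.assoc]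
  · rw [Category.assoc, (hρ' σ).2, e2]

end Groth.Agent.S13176
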