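import Groth.Statements.S13177
import Groth.Agent.SGA1Quot.HomeoCmp

set_option autoImplicit false
universe u
open CategoryTheory CategoryTheory.Limits AlgebraicGeometry
open ZeroCyc

namespace Groth.Agent.S13177

/-- Let a finite group G act on a scheme X with quotient q : X → Y (affine, G-invariant, O_Y = the
invariant sections), let i : Z → X be a G-stable closed subscheme with the induced action and r : Z
→ W a quotient of Z by G, and let q(Z) be the scheme-theoretic image of Z in Y. Then the morphism W
→ q(Z) through which Z → q(Z) factors via r is a schematically dominant universal homeomorphism.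
(The published statement assumes the quotient of X exists; here both quotients are hypotheses.) -/
theorem result {X Y Z W : Scheme.{u}} {G : Type u} [Group G] [Finite G]
    (ρ : G →* Aut X) (q : X ⟶ Y) (hquot : SGA1.IsQuot ρ q)
    (i : Z ⟶ X) [IsClosedImmersion i] (ρZ : G →* Aut Z) (hρZ : ∀ σ : G, (ρZ σ).hom ≫ i = i ≫ (ρ σ).hom)
    (r : Z ⟶ W) (hr : SGA1.IsQuot ρZ r)
    (m : W ⟶ (i ≫ q).ker.subscheme) (hm : r ≫ m ≫ (i ≫ q).ker.subschemeι = i ≫ q) :
    FlatMor.IsUnivHomeo m ∧ IsSchemeTheoreticallyDominant m := by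
  haveI := SGA1Quot.isIntegralHom_of_isQuot hquot
  let ι := (i ≫ q).ker.subschemeι
  have hu : r ≫ m = (i ≫ q).toImage := by
    rw [← cancel_mono ι, Category.assoc]
    exact hm.trans (i ≫ q).toImage_imageι.symm
  haveI : IsIntegralHom (i ≫ q) := inferInstance
  have hsq : IsPullback (𝟙 Z) (r ≫ m) (i ≫ q) ι := by
    refine IsPullback.of_isLimit (f := i ≫ q) (g := ι) (c := PullbackCone.mk (𝟙 Z) (r ≫ m) (by
      rw [Category.id_comp, Category.assoc]; exact hm.symm)) ?_
    refine PullbackCone.IsLimit.mk _ (fun c => c.fst) (fun c => Category.comp_id _) (fun c => ?_)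
      fun c l hl _ => by rw [← hl, Category.comp_id]
    rw [← cancel_mono ι, Category.assoc, Category.assoc]
    exact (congrArg (c.fst ≫ ·) hm).trans c.condition
  haveI : IsIntegralHom (r ≫ m) := MorphismProperty.of_isPullback (P := @IsIntegralHom) hsq ‹_›
  haveI hdom : IsSchemeTheoreticallyDominant (r ≫ m) := by rw [hu]; exact SGA1Quot.isSchemeTheoreticallyDominant_toImage _
  haveI : Surjective (r ≫ m) := inferInstance
  refine ⟨SGA1Quot.isUnivHomeo_of_quot hr m fun Ω _ _ a b hab => ?_,
    ⟨le_bot_iff.mp ((Scheme.Hom.le_ker_comp r m).trans_eq hdom.ker_eq_bot)⟩⟩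
  have e : (a ≫ i) ≫ q = (b ≫ i) ≫ q := by
    simp only [Category.assoc]
    rw [← hm, ← Category.assoc r m, ← Category.assoc a, ← Category.assoc b]
    rw [hab]
  obtain ⟨σ, hσ⟩ := SGA1Quot.geomTransitive_of_isQuot hquot Ω _ _ e
  exact ⟨σ, by rw [← cancel_mono i, Category.assoc, hρZ, ← Category.assoc, hσ]⟩

end Groth.Agent.S13177
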