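import Groth.Statements.S13180
import Groth.Agent.SGA1Quot.Exists
import Groth.Agent.SGA1Quot.Finiteness
import Groth.Agent.SGA1Quot.NormQuot
import Groth.Agent.GalCohAux.AmpleFinite

set_option autoImplicit false
universe u
open CategoryTheory CategoryTheory.Limits AlgebraicGeometry
open ZeroCyc

namespace Groth.Agent.S13180

/-- Every orbit lies in an affine open. -/
theorem exists_affine_orbit {X S : Scheme.{u}} (f : X ⟶ S) {G : Type u} [Group G] [Finite G]
    (ρ : G →* Aut X) (hρ : ∀ σ : G, (ρ σ).hom ≫ f = f) {L : X.Modules}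
    (hL : RelAmple.IsRelAmple f L) (x : X) :
    ∃ U : X.Opens, IsAffineOpen U ∧ ∀ g : G, (ρ g).hom.base x ∈ U := by
  obtain ⟨V, hV, hxV, -⟩ := exists_isAffineOpen_mem_and_subset (X := S) (x := f x) (U := ⊤) trivial
  have hamp : CohB1.IsAmple (L.restrict (f ⁻¹ᵁ V).ι) := hL.2 ⟨V, hV⟩
  have hx : ∀ g : G, (ρ g).hom.base x ∈ f ⁻¹ᵁ V := fun g => by
    change f ((ρ g).hom x) ∈ V
    rw [SGA1Quot.inv_apply hρ g x]
    exact hxV
  obtain ⟨U, hU, hFU⟩ := GalCohAux.AmpleFinite.exists_affine_of_finite hamp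
    (F := Set.range fun g : G => (⟨(ρ g).hom.base x, hx g⟩ : (f ⁻¹ᵁ V).toScheme))
    (Set.finite_range _)
  exact ⟨(f ⁻¹ᵁ V).ι ''ᵁ U, hU.image_of_isOpenImmersion _,
    fun g => ⟨⟨(ρ g).hom.base x, hx g⟩, hFU ⟨g, rfl⟩, rfl⟩⟩

/-- Let S be a Noetherian scheme, X → S quasi-projective (of finite type with a relatively ample
invertible module) and G a finite group acting on X by S-automorphisms. Then a quotient q : X → X/G
by G exists (affine, G-invariant, O_{X/G} = invariant sections) with X/G → S quasi-projective. -/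
theorem result {X S : Scheme.{u}} (f : X ⟶ S) [IsNoetherian S]
    {G : Type u} [Group G] [Finite G] (ρ : G →* Aut X) (hρ : ∀ σ : G, (ρ σ).hom ≫ f = f)
    (hf : RelProj.IsQuasiProjective f) :
    ∃ (Y : Scheme.{u}) (q : X ⟶ Y) (h : Y ⟶ S), q ≫ h = f ∧ SGA1.IsQuot ρ q ∧ RelProj.IsQuasiProjective h := by
  obtain ⟨hlft, hqc, L, hL⟩ := hf
  obtain ⟨Y, q, hq⟩ := SGA1Quot.exists_quotient ρ (exists_affine_orbit f ρ hρ hL)
  obtain ⟨h, hh, -⟩ := SGA1Quot.existsUnique_desc_of_isQuot hq f hρ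
  obtain ⟨-, -, hfin, hY⟩ := SGA1Quot.affine_separated_finite_iff hq f h hh
  obtain ⟨hlft', hqc'⟩ := hY inferInstance hlft hqc
  haveI := hfin hlft
  haveI := Fintype.ofFinite G
  refine ⟨Y, q, h, hh, hq, hlft', hqc', ?_⟩
  subst hh
  exact SGA1Quot.exists_isRelAmple_quotient hq h hL

end Groth.Agent.S13180
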