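import Groth.Statements.S13184
import Groth.Agent.Small70.RootField

set_option autoImplicit false
universe u
open ZeroCyc

namespace Groth.Agent.S13184

/-- Let k ⊆ K be a finite extension of fields of characteristic p > 0, viewed inside an algebraically
closed field Ω, and for e ≥ 0 let k^{p^{-e}} ⊆ Ω be the field of elements whose p^e-th power lies in
k. Then the compositum k^{p^{-e}}K is separable over k^{p^{-e}} if and only if x^{p^e} is separable
over k for every x ∈ K; hence the exponent of K/k (the least n ≥ 1 with K^n separable over k, a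
power of p) is the least p^e for which k^{p^{-e}} ⊆ k^{p^{-e}}K is separable. -/
theorem result {k : Type u} [Field k] (p : ℕ) [Fact p.Prime] [CharP k p]
    {K : Type u} [Field K] [Algebra k K] [FiniteDimensional k K]
    {Ω : Type u} [Field Ω] [Algebra k Ω] [Algebra K Ω] [IsScalarTower k K Ω] [IsAlgClosed Ω] (e : ℕ) :
    (∀ x : Ω, x ∈ IntermediateField.adjoin k {y : Ω | y ^ (p ^ e) ∈ Set.range (algebraMap k Ω)} ⊔
        IntermediateField.adjoin k (Set.range (algebraMap K Ω)) →
      IsSeparable (IntermediateField.adjoin k {y : Ω | y ^ (p ^ e) ∈ Set.range (algebraMap k Ω)}) x) ↔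
    ∀ x : K, x ^ (p ^ e) ∈ separableClosure k K := by
  have hmap : ∀ y : K, IsSeparable k (algebraMap K Ω y) ↔ IsSeparable k y := fun y => by
    unfold IsSeparable
    rw [minpoly.algebraMap_eq (algebraMap K Ω).injective]
  constructor
  · intro h x
    rw [mem_separableClosure_iff, ← hmap, map_pow, ← Groth.Agent.Small70.isSeparable_rootField_iff]
    exact h _ (le_sup_right (α := IntermediateField k Ω) (IntermediateField.subset_adjoin k _ ⟨x, rfl⟩))
  · intro h x hx
    have hle : IntermediateField.adjoin k {y : Ω | y ^ (p ^ e) ∈ Set.range (algebraMap k Ω)} ⊔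
        IntermediateField.adjoin k (Set.range (algebraMap K Ω)) ≤
        (separableClosure (Groth.Agent.Small70.rootField k p Ω e) Ω).restrictScalars k := by
      refine sup_le (fun y hy => ?_) (IntermediateField.adjoin_le_iff.mpr ?_)
      · exact (separableClosure (Groth.Agent.Small70.rootField k p Ω e) Ω).algebraMap_mem ⟨y, hy⟩
      · rintro _ ⟨y, rfl⟩
        show algebraMap K Ω y ∈ separableClosure (Groth.Agent.Small70.rootField k p Ω e) Ω
        rw [mem_separableClosure_iff, Groth.Agent.Small70.isSeparable_rootField_iff, ← map_pow, hmap,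
          ← mem_separableClosure_iff]
        exact h y
    exact mem_separableClosure_iff.mp (hle hx)

end Groth.Agent.S13184
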