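import Groth.Statements.S13186
import Groth.Agent.GalCohAux.Hilbert90GL
import Mathlib.LinearAlgebra.Matrix.NonsingularInverse

set_option autoImplicit false
universe u
open GalCoh

namespace Groth.Agent.S13186

/-- Let L/K be a finite Galois extension of fields, n a natural number, and B a map from the Galois
group of L over K to the invertible n × n matrices over L such that B(σ) · σ(B(τ)) = B(στ) for all
σ, τ (σ acting on matrices entrywise, στ applying τ first) and det B(σ) = 1 for every σ. Then there
is an invertible matrix A over L of determinant 1 with B(σ) = A⁻¹ · σ(A) for every σ; that is, every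
1-cocycle of the Galois group with values in SL_n(L) is the coboundary of an element of SL_n(L), so
H¹ of the Galois group with values in SL_n(L) is a point. (The published statement says that every
torsor under the special linear group over K is trivial; this row is the finite-Galois-level cocycle
form that its proof establishes.) -/
theorem result (K L : Type u) [Field K] [Field L]
    [Algebra K L] [FiniteDimensional K L] [IsGalois K L] (n : ℕ)
    (B : (L ≃ₐ[K] L) → GL (Fin n) L)
    (hB : ∀ σ τ : L ≃ₐ[K] L,
      (B σ : Matrix (Fin n) (Fin n) L) * (B τ : Matrix (Fin n) (Fin n) L).map σ =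
        (B (σ * τ) : Matrix (Fin n) (Fin n) L))
    (hdet : ∀ σ : L ≃ₐ[K] L, Matrix.det (B σ : Matrix (Fin n) (Fin n) L) = 1) :
    ∃ A : GL (Fin n) L, Matrix.det (A : Matrix (Fin n) (Fin n) L) = 1 ∧ ∀ σ : L ≃ₐ[K] L,
      (B σ : Matrix (Fin n) (Fin n) L) =
        ((A⁻¹ : GL (Fin n) L) : Matrix (Fin n) (Fin n) L) * (A : Matrix (Fin n) (Fin n) L).map σ := by
  classical
  obtain ⟨C, hC⟩ := Groth.Agent.GalCohAux.Hilbert90GL.exists_eq_mul B (fun σ τ => (hB σ τ).symm)
  set d : L := Matrix.det (C : Matrix (Fin n) (Fin n) L) with hd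
  have hCdet : IsUnit d := (Matrix.isUnit_iff_isUnit_det _).1 C.isUnit
  have hfix : ∀ σ : L ≃ₐ[K] L, σ d = d := fun σ => by
    have h := congrArg Matrix.det (hC σ)
    rw [Matrix.det_mul, hdet, one_mul] at h
    exact ((σ : L →+* L).map_det _).trans h
  let Dm : Matrix (Fin n) (Fin n) L := Matrix.diagonal (fun i => if (i : ℕ) = 0 then d else 1)
  have hDdet : Dm.det = d := by
    rcases n with _ | n
    · simp [Dm, hd, Matrix.det_isEmpty]
    · rw [Matrix.det_diagonal, Fin.prod_univ_succ]
      simp
  have hDmap : ∀ σ : L ≃ₐ[K] L, Dm.map σ = Dm := fun σ => by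
    rw [Matrix.diagonal_map (map_zero σ)]
    congr 1
    funext i
    split_ifs
    · exact hfix σ
    · exact map_one σ
  haveI : Invertible Dm.det := (hDdet.symm ▸ hCdet).invertible
  haveI := Matrix.invertibleOfDetInvertible Dm
  let D : GL (Fin n) L := unitOfInvertible Dm
  refine ⟨D * C⁻¹, ?_, fun σ => ?_⟩
  · rw [Units.val_mul, Matrix.det_mul, show (D : Matrix (Fin n) (Fin n) L) = Dm from rfl, hDdet,
      Matrix.coe_units_inv, Matrix.det_nonsing_inv, Ring.inverse_eq_inv, ← hd]
    exact mul_inv_cancel₀ hCdet.ne_zero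
  · have hmap : ∀ M N : Matrix (Fin n) (Fin n) L, (M * N).map σ = M.map σ * N.map σ := fun M N =>
      Matrix.map_mul (f := (σ : L →+* L))
    rw [mul_inv_rev, inv_inv, Units.val_mul, Units.val_mul, hmap,
      show (D : Matrix (Fin n) (Fin n) L).map σ = Dm from hDmap σ, mul_assoc,
      ← mul_assoc ((D⁻¹ : GL (Fin n) L) : Matrix (Fin n) (Fin n) L),
      show ((D⁻¹ : GL (Fin n) L) : Matrix (Fin n) (Fin n) L) * Dm = 1 from D.inv_mul, one_mul]
    conv_rhs => rw [← hC σ, mul_assoc, ← hmap, Units.mul_inv,
      Matrix.map_one _ (map_zero σ) (map_one σ), mul_one]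

end Groth.Agent.S13186
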