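import Groth.Statements.S13187
import Groth.Agent.CiFields.RatFunc

set_option autoImplicit false
universe u v
open Curves

namespace Groth.Agent.S13187

/-- If a field k has property C_m for systems of forms and the extension field K of k has a finite
transcendence basis with t elements, then K has property C_{m+t} for systems of forms. (Property C_m
is the systems version: any r forms of positive degrees d_1, …, d_r in n variables with Σ d_i^m < n
have a common non-trivial zero.) -/
theorem result (k : Type u) [Field k] (K : Type v) [Field K] [Algebra k K]
    (m t : ℕ) (x : Fin t → K) (hx : IsTranscendenceBasis k x) (hk : Curves.IsCi k m) :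
    Curves.IsCi K (m + t) := by
  classical
  let F : ℕ → IntermediateField k K := fun j => IntermediateField.adjoin k (x '' {i | i.1 < j})
  have key : ∀ j, j ≤ t → Curves.IsCi (F j) (m + j) := by
    intro j hj
    induction j with
    | zero =>
      have hF : F 0 = ⊥ := by
        simp only [F, Nat.not_lt_zero, Set.setOf_false, Set.image_empty, IntermediateField.adjoin_empty]
      rw [hF, add_zero]
      exact Groth.Agent.CiFields.isCi_of_ringEquiv (IntermediateField.botEquiv k K).symm.toRingEquiv hk
    | succ j ih =>
      have hj' : Curves.IsCi (F j) (m + j) := ih (by omega)
      let i : Fin t := ⟨j, by omega⟩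
      have htr : Transcendental (F j) (x i) :=
        IntermediateField.transcendental_adjoin_iff.2 (hx.1.transcendental_adjoin (by simp [i]))
      have hEq : (IntermediateField.adjoin (F j) {x i}).restrictScalars k = F (j + 1) := by
        rw [IntermediateField.adjoin_adjoin_left]
        simp only [F]
        congr 1
        ext y
        simp only [Set.mem_union, Set.mem_image, Set.mem_setOf_eq, Set.mem_singleton_iff]
        constructor
        · rintro (⟨l, hl, rfl⟩ | rfl)
          · exact ⟨l, by omega, rfl⟩
          · exact ⟨i, Nat.lt_succ_self j, rfl⟩
        · rintro ⟨l, hl, rfl⟩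
          rcases Nat.lt_succ_iff_lt_or_eq.1 hl with h | h
          · exact Or.inl ⟨l, h, rfl⟩
          · exact Or.inr (by rw [show l = i from Fin.ext h])
      have hC : Curves.IsCi (IntermediateField.adjoin (F j) {x i}) (m + j + 1) :=
        Groth.Agent.CiFields.isCi_of_ringEquiv
          (RatFunc.algEquivOfTranscendental (x i) htr).toRingEquiv
          (Groth.Agent.CiFields.isCi_ratFunc hj')
      rw [← hEq]
      exact hC
  have hFt : F t = IntermediateField.adjoin k (Set.range x) := by
    simp only [F]
    congr 1
    rw [← Set.image_univ]
    congr 1
    ext l
    simp [l.2]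
  haveI : Algebra.IsAlgebraic (F t) K := by
    rw [hFt]
    exact hx.isAlgebraic_field
  exact Groth.Agent.CiFields.isCi_of_isAlgebraic (K := F t) (key t le_rfl)

end Groth.Agent.S13187
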