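import Groth.Statements.S13188
import Groth.Agent.CSA.RedNorm

set_option autoImplicit false
universe u v w
open Brauer

namespace Groth.Agent.S13188

/-- Let K be a field with property C_2 for systems of forms and D a finite-dimensional central division
algebra over K with dim_K D = d². Let N : D → K be multiplicative, a reduced norm of D over K, and
given in the coordinates of a K-basis b of D by a homogeneous polynomial F of degree d, i.e. N(Σ x_i
b_i) = F(x) for every coordinate vector x (the reduced norm of a central simple algebra of dimension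
d² is such a polynomial map of degree d; these data record it). Then N : D → K is surjective. -/
theorem result (K : Type u) [Field K] (hK : Curves.IsCi K 2)
    (D : Type v) [DivisionRing D] [Algebra K D] [Algebra.IsCentral K D] [FiniteDimensional K D]
    (d : ℕ) (hd : Module.finrank K D = d ^ 2)
    (N : D →* K) (hN : CSAGal.IsRedNorm K D N)
    {ι : Type w} [Fintype ι] (b : Module.Basis ι K D)
    (F : MvPolynomial ι K) (hF : F.IsHomogeneous d)
    (hNF : ∀ x : ι → K, N (∑ i, x i • b i) = MvPolynomial.eval x F) :
    Function.Surjective N := by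
  classical
  intro c
  obtain ⟨f, hf⟩ := Groth.Agent.CSA.exists_hom_of_isRedNorm hN
  obtain rfl : d = Groth.Agent.CSA.deg K D := (Groth.Agent.CSA.deg_eq_of_finrank K D hd).symm
  have hd0 : 0 < Groth.Agent.CSA.deg K D := by
    exact Groth.Agent.CSA.deg_pos K D
  have hN0 : N 0 = 0 := by
    have : NeZero (Groth.Agent.CSA.deg K D) := ⟨(Groth.Agent.CSA.deg_pos K D).ne'⟩
    apply (algebraMap K (AlgebraicClosure K)).injective
    rw [hf, map_zero, map_zero, Matrix.det_zero]
  have hunit : ∀ x : D, x ≠ 0 → N x ≠ 0 := fun x hx h =>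
    ((Groth.Agent.CSA.charpoly_of_isUnit_norm (Groth.Agent.CSA.finrank_eq_deg_sq K D) f x).1 hx.isUnit)
      (by rw [← hf, h, map_zero])
  have hcard : Fintype.card ι = (Groth.Agent.CSA.deg K D) ^ 2 := by rw [← hd, Module.finrank_eq_card_basis b]
  let e : ι ≃ Fin ((Groth.Agent.CSA.deg K D) ^ 2) := (Fintype.equivFin ι).trans (finCongr hcard)
  let G : MvPolynomial (Fin ((Groth.Agent.CSA.deg K D) ^ 2 + 1)) K :=
    MvPolynomial.rename (fun i => Fin.castSucc (e i)) F - MvPolynomial.C c * MvPolynomial.X (Fin.last _) ^ Groth.Agent.CSA.deg K D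
  have hG : G.IsHomogeneous (Groth.Agent.CSA.deg K D) := by
    refine (hF.rename_isHomogeneous).sub ?_
    simpa using ((MvPolynomial.isHomogeneous_X K (Fin.last ((Groth.Agent.CSA.deg K D) ^ 2))).pow (Groth.Agent.CSA.deg K D)).C_mul c
  obtain ⟨a, ha0, ha⟩ := hK 1 ((Groth.Agent.CSA.deg K D) ^ 2 + 1) (fun _ => G) (fun _ => Groth.Agent.CSA.deg K D) (fun _ => hG) (fun _ => hd0) (by simp)
  have h0 := ha 0
  simp only [G, map_sub, map_mul, map_pow, MvPolynomial.eval_rename, MvPolynomial.eval_C, MvPolynomial.eval_X,
    sub_eq_zero] at h0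
  set x : ι → K := fun i => a (Fin.castSucc (e i)) with hx
  have hNx : N (∑ i, x i • b i) = c * a (Fin.last _) ^ Groth.Agent.CSA.deg K D := by
    rw [hNF]
    exact h0
  by_cases ht : a (Fin.last _) = 0
  · exfalso
    apply hunit (∑ i, x i • b i) ?_ (by rw [hNx, ht, zero_pow hd0.ne', mul_zero])
    intro hsum
    apply ha0
    funext j
    refine Fin.lastCases ht (fun i => ?_) j
    have := Fintype.linearIndependent_iff.1 b.linearIndependent x hsum (e.symm i)
    simpa [hx] using this
  · refine ⟨(a (Fin.last _))⁻¹ • ∑ i, x i • b i, ?_⟩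
    have hsc : ∀ (r : K) (y : D), N (r • y) = r ^ Groth.Agent.CSA.deg K D * N y := fun r y => by
      apply (algebraMap K (AlgebraicClosure K)).injective
      rw [hf, map_smul, map_mul, hf, map_pow, ← IsScalarTower.algebraMap_smul (AlgebraicClosure K) r (f y),
        Matrix.det_smul, Fintype.card_fin]
    rw [hsc, hNx, inv_pow, mul_comm c, inv_mul_cancel_left₀ (pow_ne_zero _ ht)]

end Groth.Agent.S13188
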