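import Groth.Statements.S13191
-- import your own Groth.Agent.* helpers here

set_option autoImplicit false
universe u v w x
open GalCoh

namespace Groth.Agent.S13191

/-- Let a group G act by automorphisms on a group A, and let E and E' each be a G-equivariant right
A-torsor (a set with a simply transitive right action of A, written m ↦ m·a, and a left action of G
with g(m·a) = (gm)·(ga)). Let m ∈ E and m' ∈ E' be points with attached maps a, a' : G → A (g·m =
m·a(g) and g·m' = m'·a'(g) for all g). Then there is a bijection E ≃ E' commuting with the actions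
of G and of A if and only if a and a' are cohomologous. (The published statement is for a Galois
group acting on discrete modules; this row takes an arbitrary group acting on a group.) -/
theorem result {G : Type u} {A : Type v} {E : Type w} {E' : Type x}
    [Group G] [Group A] [MulDistribMulAction G A]
    [MulAction G E] [MulAction Aᵐᵒᵖ E]
    (hfree : ∀ m₁ m₂ : E, ∃! a : A, m₂ = MulOpposite.op a • m₁)
    (hcompat : ∀ (g : G) (a : A) (m : E), g • (MulOpposite.op a • m) = MulOpposite.op (g • a) • g • m)
    [MulAction G E'] [MulAction Aᵐᵒᵖ E']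
    (hfree' : ∀ m₁ m₂ : E', ∃! a : A, m₂ = MulOpposite.op a • m₁)
    (hcompat' : ∀ (g : G) (a : A) (m : E'), g • (MulOpposite.op a • m) = MulOpposite.op (g • a) • g • m)
    (m : E) (a : G → A) (ha : ∀ g : G, g • m = MulOpposite.op (a g) • m)
    (m' : E') (a' : G → A) (ha' : ∀ g : G, g • m' = MulOpposite.op (a' g) • m') :
    (∃ f : E ≃ E', (∀ (g : G) (e : E), f (g • e) = g • f e) ∧
        ∀ (b : A) (e : E), f (MulOpposite.op b • e) = MulOpposite.op b • f e) ↔
      GpH1.Cohomologous a a' := by
  have cancel : ∀ (e : E') (x y : A), MulOpposite.op x • e = MulOpposite.op y • e → x = y := by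
    intro e x y hxy
    obtain ⟨z, -, hu⟩ := hfree' e (MulOpposite.op x • e)
    rw [hu x rfl, hu y hxy]
  have hmul : ∀ (e : E') (x y : A), MulOpposite.op y • MulOpposite.op x • e = MulOpposite.op (x * y) • e := by
    intro e x y
    rw [MulOpposite.op_mul, mul_smul]
  constructor
  · rintro ⟨f, hG, hA⟩
    obtain ⟨c, hc, -⟩ := hfree' m' (f m)
    refine ⟨c, fun σ => ?_⟩
    have h := hG σ m
    rw [ha σ, hA, hc, hcompat', ha', hmul, hmul] at h
    rw [mul_assoc, ← cancel m' _ _ h]
    group
  · rintro ⟨c, hc⟩
    choose d hd hdu using fun e : E => hfree m e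
    choose d' hd' hdu' using fun e : E' => hfree' (MulOpposite.op c • m') e
    refine ⟨⟨fun e => MulOpposite.op (d e) • MulOpposite.op c • m',
      fun e => MulOpposite.op (d' e) • m, fun e => ?_, fun e => ?_⟩, ?_, ?_⟩
    · dsimp only
      rw [← hdu' _ (d e) rfl, ← hd e]
    · dsimp only
      rw [← hdu _ (d' e) rfl, ← hd' e]
    · intro g e
      have he : g • e = MulOpposite.op (a g * g • d e) • m := by
        conv_lhs => rw [hd e, hcompat, ha g]
        rw [MulOpposite.op_mul, mul_smul]
      dsimp only [Equiv.coe_fn_mk]
      rw [← hdu _ _ he, hcompat', hcompat', ha', hmul, hmul, hmul, hc g]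
      congr 2
      group
    · intro b e
      have he : MulOpposite.op b • e = MulOpposite.op (d e * b) • m := by
        conv_lhs => rw [hd e]
        rw [MulOpposite.op_mul, mul_smul]
      dsimp only [Equiv.coe_fn_mk]
      rw [← hdu _ _ he, MulOpposite.op_mul, mul_smul]

end Groth.Agent.S13191
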