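import Groth.Statements.S13196
import Groth.Agent.GalCohAux.FiniteLevel
import Mathlib.RingTheory.Trace.Basic

set_option autoImplicit false
universe u
open GalCoh

namespace Groth.Agent.S13196

/-- Let K be a field and L a separable closure of K. Every map a from the automorphism group of L over K
to L which is locally constant for the Krull topology and satisfies a(στ) = a(σ) + σ(a(τ)) for all
σ, τ is of the form a(σ) = σ(y) − y for a single y in L. (The published statement asserts vanishing
in every positive degree; this row is the degree-one statement for the absolute Galois group with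
continuous cochains.) -/
theorem result (K L : Type u) [Field K] [Field L] [Algebra K L]
    [IsSepClosure K L] (a : (L ≃ₐ[K] L) → L)
    (ha : ∀ σ τ : L ≃ₐ[K] L, a (σ * τ) = a σ + σ (a τ)) (hlc : IsLocallyConstant a) :
    ∃ y : L, ∀ σ : L ≃ₐ[K] L, a σ = σ y - y := by
  haveI : IsGalois K L := IsSepClosure.isGalois
  have ha1 : a 1 = 0 := by
    have h := ha 1 1
    rw [mul_one] at h
    exact left_eq_add.1 h
  obtain ⟨E, hfin, hgal, hconst, hmem⟩ := Groth.Agent.GalCohAux.FiniteLevel.exists_level a hlc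
    (fun σ τ h => by rw [ha, h, ha1, map_zero, add_zero]) id
  obtain ⟨b, hb⟩ := Groth.Agent.GalCohAux.FiniteLevel.exists_descend (fun σ => (⟨a σ, hmem σ⟩ : E)) E
    (fun σ τ h => Subtype.ext (hconst σ τ h))
  have hres : ∀ (σ : L ≃ₐ[K] L) (x : E), ((AlgEquiv.restrictNormalHom E σ x : E) : L) = σ (x : L) :=
    fun σ x => AlgEquiv.restrictNormal_commutes σ E x
  have hcoc : ∀ x y : E ≃ₐ[K] E, b (x * y) = b x + x (b y) := by
    intro x y
    obtain ⟨σ, rfl⟩ := AlgEquiv.restrictNormalHom_surjective (F := K) (K₁ := E) (E := L) x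
    obtain ⟨τ, rfl⟩ := AlgEquiv.restrictNormalHom_surjective (F := K) (K₁ := E) (E := L) y
    rw [← map_mul, ← hb, ← hb, ← hb]
    apply Subtype.ext
    rw [AddMemClass.coe_add, hres]
    exact ha σ τ
  obtain ⟨c, hc⟩ := Algebra.trace_surjective K E 1
  refine ⟨((-∑ x : E ≃ₐ[K] E, b x * x c : E) : L), fun σ => ?_⟩
  rw [← hres σ]
  set g := AlgEquiv.restrictNormalHom E σ
  have h1 : g (∑ x : E ≃ₐ[K] E, b x * x c) = (∑ x : E ≃ₐ[K] E, b x * x c) - b g := by
    have h2 : ∀ x, g (b x * x c) = b (g * x) * (g * x) c - b g * (g * x) c := fun x => by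
      rw [hcoc, map_mul, ← AlgEquiv.mul_apply, add_mul]
      ring
    rw [map_sum, Finset.sum_congr rfl fun x _ => h2 x, Finset.sum_sub_distrib, ← Finset.mul_sum]
    have e1 := Equiv.sum_comp (Equiv.mulLeft g) fun x : E ≃ₐ[K] E => b x * x c
    have e2 := Equiv.sum_comp (Equiv.mulLeft g) fun x : E ≃ₐ[K] E => x c
    simp only [Equiv.coe_mulLeft] at e1 e2
    rw [e1, e2, ← trace_eq_sum_automorphisms, hc, map_one, mul_one]
  rw [map_neg, h1, ← AddSubgroupClass.coe_sub]
  change (⟨a σ, hmem σ⟩ : E).1 = _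
  congr 1
  refine (hb σ).trans ?_
  ring

end Groth.Agent.S13196
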