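import Groth.Statements.S13195
import Groth.Agent.GalCohAux.FiniteLevel
import Mathlib.RepresentationTheory.Homological.GroupCohomology.Hilbert90

set_option autoImplicit false
universe u
open GalCoh

namespace Groth.Agent.S13195

/-- Let K be a field and L a separable closure of K. Every map a from the automorphism group of L over K
to the units of L which is locally constant for the Krull topology and satisfies the 1-cocycle
identity a(στ) = a(σ) · σ(a(τ)) for all σ, τ has the form a(σ) = c⁻¹ · σ(c) for a single unit c of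
L; that is, the first cohomology set of the absolute Galois group of K with continuous cochains and
values in the multiplicative group of the separable closure is reduced to its base point. (The
finite-level statement for a finite Galois extension is the classical Hilbert 90; this row is the
statement for the absolute Galois group.) -/
theorem result (K L : Type u) [Field K] [Field L]
    [Algebra K L] [IsSepClosure K L] (a : (L ≃ₐ[K] L) → Lˣ)
    (ha : ∀ σ τ : L ≃ₐ[K] L, a (σ * τ) = a σ * σ • a τ) (hlc : IsLocallyConstant a) :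
    ∃ c : Lˣ, ∀ σ : L ≃ₐ[K] L, a σ = c⁻¹ * σ • c := by
  haveI : IsGalois K L := IsSepClosure.isGalois
  have ha1 : a 1 = 1 := by
    have h := ha 1 1
    rw [mul_one, one_smul] at h
    exact left_eq_mul.1 h
  obtain ⟨E, hfin, hgal, hconst, hmem⟩ := Groth.Agent.GalCohAux.FiniteLevel.exists_level a hlc
    (fun σ τ h => by rw [ha, h, ha1, smul_one, mul_one]) (fun u => (u : L))
  obtain ⟨b, hb⟩ := Groth.Agent.GalCohAux.FiniteLevel.exists_descend (fun σ => (⟨(a σ : L), hmem σ⟩ : E)) E
    (fun σ τ h => Subtype.ext (congrArg Units.val (hconst σ τ h)))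
  have hb0 : ∀ x, b x ≠ 0 := fun x => by
    obtain ⟨σ, rfl⟩ := AlgEquiv.restrictNormalHom_surjective (F := K) (K₁ := E) (E := L) x
    rw [← hb]
    exact fun h => (a σ).ne_zero (congrArg Subtype.val h)
  have hres : ∀ (σ : L ≃ₐ[K] L) (x : E), ((AlgEquiv.restrictNormalHom E σ x : E) : L) = σ (x : L) :=
    fun σ x => AlgEquiv.restrictNormal_commutes σ E x
  have hcoc : ∀ x y : E ≃ₐ[K] E, b (x * y) = b x * x (b y) := by
    intro x y
    obtain ⟨σ, rfl⟩ := AlgEquiv.restrictNormalHom_surjective (F := K) (K₁ := E) (E := L) x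
    obtain ⟨τ, rfl⟩ := AlgEquiv.restrictNormalHom_surjective (F := K) (K₁ := E) (E := L) y
    rw [← map_mul, ← hb, ← hb, ← hb]
    apply Subtype.ext
    rw [MulMemClass.coe_mul, hres]
    exact congrArg Units.val (ha σ τ)
  obtain ⟨β, hβ⟩ := groupCohomology.isMulCoboundary₁_of_isMulCocycle₁_of_aut_to_units
    (fun x => Units.mk0 (b x) (hb0 x)) (fun x y => Units.ext ((hcoc x y).trans (mul_comm _ _)))
  refine ⟨Units.map (algebraMap E L).toMonoidHom β, fun σ => Units.ext ?_⟩
  have h := congrArg (fun u : Eˣ => ((u : E) : L)) (hβ (AlgEquiv.restrictNormalHom E σ))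
  simp only [Units.val_div_eq_div_val, Units.val_mk0, Units.val_smul, AlgEquiv.smul_def] at h
  rw [← hb, IntermediateField.coe_div, show (((AlgEquiv.restrictNormalHom E σ) • β : Eˣ) : E) =
    AlgEquiv.restrictNormalHom E σ (β : E) from rfl, hres] at h
  rw [Units.val_mul]
  change _ = ((Units.map (algebraMap E L).toMonoidHom β)⁻¹ : Lˣ) * σ ((β : E) : L)
  rw [← map_inv, mul_comm]
  change _ = σ ((β : E) : L) * ((β⁻¹ : Eˣ) : E)
  rw [Units.val_inv_eq_inv_val, IntermediateField.coe_inv, ← div_eq_mul_inv]
  exact h.symm

end Groth.Agent.S13195
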