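import Groth.Statements.S13199
import Groth.Agent.Hens.SmoothPrime

set_option autoImplicit false
universe u
open Hensel

namespace Groth.Agent.S13199

/-- Let R be a Noetherian integral domain which is a strictly henselian local ring (henselian with
separably closed residue field), R' a smooth R-algebra and p a prime ideal of R' lying over the
maximal ideal of R (that is, containing its image). Then the local ring R'_p is an integral domain
and is geometrically unibranch: the integral closure of R'_p in its fraction field is a local ring
whose residue field is purely inseparable over that of R'_p. (The published statement concludes that
every strict henselization of R'_p is an integral domain; for a local ring this is equivalent to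
being an integral domain which is geometrically unibranch, the conclusion stated here.) -/
theorem result
    (R R' : Type u) [CommRing R] [IsDomain R] [IsNoetherianRing R] [HenselianLocalRing R]
    [IsSepClosed (IsLocalRing.ResidueField R)]
    [CommRing R'] [Algebra R R'] [Algebra.Smooth R R']
    (p : Ideal R') [p.IsPrime] (hp : (IsLocalRing.maximalIdeal R).map (algebraMap R R') ≤ p) :
    IsDomain (Localization.AtPrime p) ∧ CAlg2.IsGeomUnibranch (Localization.AtPrime p) :=
  Groth.Agent.Hens.SmoothUnibranch.isDomain_and_isGeomUnibranch_of_smooth (A := R) p hp
    (Groth.Agent.Hens.SmoothPrime.isGeomUnibranch_of_strictlyHenselian R)

end Groth.Agent.S13199
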