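import Groth.Statements.S13200
import Groth.Agent.S4737
import Groth.Agent.Hensel.ExcellentHens
import Groth.Agent.EGA4Lib.HomToLocal
import Groth.Agent.Hensel.CplTensor
import Groth.Agent.Hensel.Completion
import Groth.Agent.AzInvLib.SH
-- import your own Groth.Agent.* helpers here

set_option autoImplicit false
universe u
open Hensel

namespace Groth.Agent.S13200

/-- Let R be an excellent local ring which is strictly henselian (henselian with separably closed
residue field), and let R^ denote its completion at the maximal ideal. An element Δ of R is a prime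
element of R exactly when its image in R^ is a prime element of R^. -/
theorem result
    (R : Type u) [CommRing R] [HenselianLocalRing R] [IsSepClosed (IsLocalRing.ResidueField R)]
    (hR : EGA4.IsExcellent R) (Δ : R) :
    Prime Δ ↔ Prime (algebraMap R (AdicCompletion (IsLocalRing.maximalIdeal R) R) Δ) := by
  haveI : IsNoetherianRing R := hR.1
  let C := EGA4.Cpl R
  haveI : Module.FaithfullyFlat R C := Module.FaithfullyFlat.of_flat_of_isLocalHom
  have hinj : Function.Injective (algebraMap R C) := FaithfulSMul.algebraMap_injective R C
  have hreg := (Groth.Agent.Hensel.isGRing_iff_isRegularHom_cpl R).1 hR.2.2.1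
  by_cases h0 : Δ = 0
  · subst h0
    rw [map_zero]
    exact iff_of_false not_prime_zero not_prime_zero
  have h0' : algebraMap R C Δ ≠ 0 := fun h => h0 (hinj (h.trans (map_zero _).symm))
  show Prime Δ ↔ Prime (algebraMap R C Δ)
  rw [← Ideal.span_singleton_prime h0, ← Ideal.span_singleton_prime h0', ← Set.image_singleton,
    ← Ideal.map_span]
  constructor
  · intro hP
    haveI := hP
    haveI : HenselianLocalRing (R ⧸ Ideal.span {Δ}) :=
      Groth.Agent.AzInvLib.henselianLocalRing_of_surjective (Ideal.Quotient.mk _) Ideal.Quotient.mk_surjective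
    have hq := Groth.Agent.S4737.result R hreg (Ideal.span {Δ})
    have hgn : EGA4.HasGeomNormalFormalFibres (R ⧸ Ideal.span {Δ}) := fun p _ =>
      Groth.Agent.EGA4Lib.isGeomNormal_of_isGeometricallyRegular _ _ (hq.2 p).2
    haveI := Groth.Agent.Hensel.isDomain_cpl hgn
    obtain ⟨e⟩ := Groth.Agent.Hensel.nonempty_quotient_completion_equiv R (Ideal.span {Δ})
    rw [← Ideal.Quotient.isDomain_iff_prime]
    exact MulEquiv.isDomain _ e.symm.toMulEquiv
  · intro hP
    have := hP.comap (algebraMap R C)
    rwa [Ideal.comap_map_eq_self_of_faithfullyFlat] at this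

end Groth.Agent.S13200
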