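import Groth.Statements.S13201
import Groth.Agent.UVD13201.Setup
set_option autoImplicit false
universe u
open CAlg

namespace Groth.Agent.S13201

open MvPowerSeries in
/-- Let R be a complete regular local ring and Δ an element of the maximal ideal of R. The quotient of
the power series ring R[[u,v]] in two variables by the ideal generated by uv − Δ is an integral
domain with unique factorization exactly when Δ is a prime element of R. -/
theorem result
    (R : Type u) [CommRing R] [IsRegularLocalRing R] [IsAdicComplete (IsLocalRing.maximalIdeal R) R]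
    (Δ : R) (hΔ : Δ ∈ IsLocalRing.maximalIdeal R) :
    (IsDomain (MvPowerSeries (Fin 2) R ⧸ Ideal.span {(X 0 * X 1 - C Δ : MvPowerSeries (Fin 2) R)}) ∧
      UniqueFactorizationMonoid (MvPowerSeries (Fin 2) R ⧸ Ideal.span {(X 0 * X 1 - C Δ : MvPowerSeries (Fin 2) R)}))
      ↔ Prime Δ := by
  haveI : IsDomain R := RegLoc.isDomain R
  haveI : UniqueFactorizationMonoid R := RegLoc.UFD.uniqueFactorizationMonoid R
  show (IsDomain (MvPowerSeries (Fin 2) R ⧸ Ideal.span {UVD13201.rel Δ}) ∧
      UniqueFactorizationMonoid (MvPowerSeries (Fin 2) R ⧸ Ideal.span {UVD13201.rel Δ})) ↔ _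
  haveI : IsNoetherianRing (MvPowerSeries (Fin 2) R) := inferInstance
  haveI := UVD13201.nontrivial_bar hΔ
  haveI hnt : Nontrivial (MvPowerSeries (Fin 2) R ⧸ Ideal.span {UVD13201.rel Δ}) :=
    (UVD13201.redS Δ 1).domain_nontrivial
  haveI : IsLocalRing (MvPowerSeries (Fin 2) R ⧸ Ideal.span {UVD13201.rel Δ}) :=
    IsLocalRing.of_surjective' (Ideal.Quotient.mk _) Ideal.Quotient.mk_surjective
  constructor
  · rintro ⟨hdom, hufd⟩
    have hΔ0 : Δ ≠ 0 := by
      rintro rfl
      have h : Ideal.Quotient.mk (Ideal.span {UVD13201.rel (0 : R)}) (MvPowerSeries.X 0) *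
          Ideal.Quotient.mk _ (MvPowerSeries.X 1) = 0 := by
        rw [← map_mul, Ideal.Quotient.eq_zero_iff_mem]
        exact Ideal.mem_span_singleton.mpr (by simp [UVD13201.rel])
      rcases mul_eq_zero.mp h with h | h
      · have := congrArg (UVD13201.redS (0 : R) 0) h
        rw [UVD13201.redS_mk, UVD13201.killCompl_X_self, map_zero] at this
        exact PowerSeries.X_ne_zero ((PowerSeries.map_X _).symm.trans this)
      · have := congrArg (UVD13201.redS (0 : R) 1) h
        rw [UVD13201.redS_mk, UVD13201.killCompl_X_self, map_zero] at this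
        exact PowerSeries.X_ne_zero ((PowerSeries.map_X _).symm.trans this)
    let D := UVD13201.uvData Δ hΔ0
    have hu0 : D.u ≠ 0 := fun h => by
      have := D.φv_u
      rw [h, map_zero] at this
      exact PowerSeries.X_ne_zero this.symm
    have hirr : Irreducible D.u := by
      refine ⟨D.u_nonunit hΔ, fun a b hab => ?_⟩
      have h1 : PowerSeries.X = D.swap.psi hΔ a * D.swap.psi hΔ b := by
        rw [← map_mul, ← hab]
        exact (D.swap.psi_v hΔ).symm
      haveI : IsLocalHom (D.swap.psi hΔ) := IsLocalHom.of_surjective _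
        ((PowerSeries.map_surjective (UVD13201.res hΔ) fun r => by
          obtain ⟨c, rfl⟩ := IsLocalRing.residue_surjective r
          exact ⟨Ideal.Quotient.mk _ c, rfl⟩).comp D.swap.surj_u)
      exact (PowerSeries.X_irreducible.isUnit_or_isUnit h1).imp
        (IsUnit.of_map (D.swap.psi hΔ) a) (IsUnit.of_map (D.swap.psi hΔ) b)
    have hp := UniqueFactorizationMonoid.irreducible_iff_prime.mp hirr
    refine (Ideal.span_singleton_prime hΔ0).mp ((Ideal.Quotient.isDomain_iff_prime _).mp ?_)
    haveI : NoZeroDivisors (R ⧸ Ideal.span {Δ}) := ⟨fun {x y} hxy => by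
      obtain ⟨a, ha⟩ := D.surj_u (PowerSeries.C x)
      obtain ⟨b, hb⟩ := D.surj_u (PowerSeries.C y)
      have h2 : D.φu (a * b) = 0 := by rw [map_mul, ha, hb, ← map_mul, hxy, map_zero]
      refine (hp.dvd_or_dvd (D.ker_u _ h2)).imp (fun h => ?_) (fun h => ?_)
      · obtain ⟨c, rfl⟩ := h
        rw [map_mul, D.φu_u, zero_mul] at ha
        simpa using congrArg PowerSeries.constantCoeff ha.symm
      · obtain ⟨c, rfl⟩ := h
        rw [map_mul, D.φu_u, zero_mul] at hb
        simpa using congrArg PowerSeries.constantCoeff hb.symm⟩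
    exact NoZeroDivisors.to_isDomain _
  · intro hP
    let D := UVD13201.uvData Δ hP.ne_zero
    haveI := D.isDomain hP hΔ
    exact ⟨inferInstance, D.ufd hP hΔ⟩
end Groth.Agent.S13201
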