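import Groth.Statements.S9460
import Groth.Agent.StrictHens.SchemeBC
import Groth.Agent.Hens.Unique
-- import your own Groth.Agent.* helpers here

set_option autoImplicit false
universe u
open Hensel

namespace Groth.Agent.S9460

open TensorProduct in
/-- Let R → S be a ring map, q a prime of S over p, and R^{sh}, S^{sh} strict henselizations of R_p and
S_q, S^{sh} carrying a compatible R^{sh}-algebra structure (a map R^{sh} → S^{sh} over R; these
correspond to the embeddings of separable closures in the published statement). Let φ : R^{sh} ⊗_R S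
→ S^{sh} be the induced map and Q the preimage under φ of the maximal ideal (a prime over the
maximal ideal of R^{sh} and over q). Then S^{sh} is a strict henselization of (R^{sh} ⊗_R S)_Q:
every strict henselization E of that local ring admits a ring isomorphism E ≅ S^{sh} compatible with
the two maps from R^{sh} ⊗_R S. -/
theorem result (R : Type u) [CommRing R]
    (S : Type u) [CommRing S] [Algebra R S] (p : Ideal R) [p.IsPrime] (q : Ideal S) [q.IsPrime]
    [q.LiesOver p]
    (Rh : Type u) [CommRing Rh] [IsLocalRing Rh] [Algebra (Localization.AtPrime p) Rh]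
    [IsLocalHom (algebraMap (Localization.AtPrime p) Rh)]
    [Hensel.IsStrictHenselization (Localization.AtPrime p) Rh] [Algebra R Rh]
    [IsScalarTower R (Localization.AtPrime p) Rh]
    (Sh : Type u) [CommRing Sh] [IsLocalRing Sh] [Algebra (Localization.AtPrime q) Sh]
    [IsLocalHom (algebraMap (Localization.AtPrime q) Sh)]
    [Hensel.IsStrictHenselization (Localization.AtPrime q) Sh] [Algebra S Sh]
    [IsScalarTower S (Localization.AtPrime q) Sh] [Algebra R Sh] [IsScalarTower R S Sh]
    [Algebra Rh Sh] [IsScalarTower R Rh Sh]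
    (E : Type u) [CommRing E] [IsLocalRing E]
    [Algebra (Localization.AtPrime (Ideal.comap (Algebra.TensorProduct.lift (IsScalarTower.toAlgHom R Rh Sh) (IsScalarTower.toAlgHom R S Sh)
          (fun _ _ => Commute.all _ _)) (IsLocalRing.maximalIdeal Sh))) E]
    [IsLocalHom (algebraMap (Localization.AtPrime
      (Ideal.comap (Algebra.TensorProduct.lift (IsScalarTower.toAlgHom R Rh Sh) (IsScalarTower.toAlgHom R S Sh)
          (fun _ _ => Commute.all _ _)) (IsLocalRing.maximalIdeal Sh))) E)]
    [Hensel.IsStrictHenselization (Localization.AtPrime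
      (Ideal.comap (Algebra.TensorProduct.lift (IsScalarTower.toAlgHom R Rh Sh) (IsScalarTower.toAlgHom R S Sh)
          (fun _ _ => Commute.all _ _)) (IsLocalRing.maximalIdeal Sh))) E] :
    ∃ e : E ≃+* Sh, ∀ d : Rh ⊗[R] S,
      e (algebraMap (Localization.AtPrime
        (Ideal.comap (Algebra.TensorProduct.lift (IsScalarTower.toAlgHom R Rh Sh) (IsScalarTower.toAlgHom R S Sh)
          (fun _ _ => Commute.all _ _)) (IsLocalRing.maximalIdeal Sh))) E
        (algebraMap (Rh ⊗[R] S) _ d)) = (Algebra.TensorProduct.lift (IsScalarTower.toAlgHom R Rh Sh) (IsScalarTower.toAlgHom R S Sh)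
          (fun _ _ => Commute.all _ _)) d := by
  let μ := Algebra.TensorProduct.lift (IsScalarTower.toAlgHom R Rh Sh) (IsScalarTower.toAlgHom R S Sh)
    (fun _ _ => Commute.all _ _)
  let Q := Ideal.comap μ (IsLocalRing.maximalIdeal Sh)
  let L := Localization.AtPrime Q
  have hR : StrictHens.Basic.IsSH R Rh :=
    (StrictHens.Basic.isSH_of_isStrictHenselization (A := Localization.AtPrime p)).of_localization p.primeCompl
  have hS : StrictHens.Basic.IsSH S Sh :=
    (StrictHens.Basic.isSH_of_isStrictHenselization (A := Localization.AtPrime q)).of_localization q.primeCompl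
  have hE0 : StrictHens.Basic.IsSH L E := StrictHens.Basic.isSH_of_isStrictHenselization
  have := hS.henselian
  have := hE0.henselian
  have := hS.sepClosed
  have := hE0.sepClosed
  letI : Algebra (Rh ⊗[R] S) E := ((algebraMap L E).comp (algebraMap (Rh ⊗[R] S) L)).toAlgebra
  have : IsScalarTower (Rh ⊗[R] S) L E := .of_algebraMap_eq fun _ => rfl
  have hE : StrictHens.Basic.IsSH (Rh ⊗[R] S) E := hE0.of_localization Q.primeCompl
  have hu : ∀ y : Q.primeCompl, IsUnit (μ y) := fun y => by
    by_contra hy; exact y.2 hy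
  let f : L →+* Sh := IsLocalization.lift (g := μ.toRingHom) hu
  have : IsLocalHom f := ⟨fun z hz => by
    obtain ⟨x, y, rfl⟩ := IsLocalization.exists_mk'_eq Q.primeCompl z
    rw [IsLocalization.AtPrime.isUnit_mk'_iff L Q]
    intro hx
    rw [IsLocalization.lift_mk'] at hz
    exact hx (isUnit_of_mul_isUnit_left hz)⟩
  obtain ⟨h, hloc, hh⟩ := StrictHens.SchemeBC.exists_hom (S := E) f
  have hμ : ∀ d, h (algebraMap (Rh ⊗[R] S) E d) = μ d := fun d =>
    (RingHom.congr_fun hh _).trans (IsLocalization.lift_eq hu d)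
  obtain ⟨k, hkloc, hk, hkr⟩ := hS.exists_lift h (RingHom.id Sh)
    ((algebraMap (Rh ⊗[R] S) E).comp Algebra.TensorProduct.includeRight.toRingHom) fun s => by
      refine congrArg _ ((hμ _).trans ?_)
      show μ ((1 : Rh) ⊗ₜ[R] s) = _
      simp [μ]
  have hks : ∀ s, k (algebraMap S Sh s) = algebraMap (Rh ⊗[R] S) E ((1 : Rh) ⊗ₜ[R] s) :=
    fun s => RingHom.congr_fun hk s
  have hhk : RingHom.id Sh = h.comp k := hS.hom_ext (fun s => by
    show algebraMap S Sh s = h (k (algebraMap S Sh s))
    rw [hks, hμ]
    simp [μ]) fun x => hkr x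
  have hhk' : ∀ x, h (k x) = x := fun x => (RingHom.congr_fun hhk x).symm
  have hι : ∀ x y : E, IsLocalRing.residue Sh (h x) = IsLocalRing.residue Sh (h y) →
      IsLocalRing.residue E x = IsLocalRing.residue E y := fun x y hxy =>
    (IsLocalRing.ResidueField.map h).injective hxy
  have hRloc : IsLocalHom (algebraMap Rh Sh) := by
    refine ((IsLocalRing.local_hom_TFAE (algebraMap Rh Sh)).out 0 2).2 ?_
    rw [← Hens.map_maximalIdeal_of_isStrictHenselization (R := Localization.AtPrime p) Rh,
      ← Localization.AtPrime.map_eq_maximalIdeal (I := p), Ideal.map_map, Ideal.map_map,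
      Ideal.map_le_iff_le_comap]
    intro r hr
    rw [Ideal.mem_comap]
    show algebraMap Rh Sh (algebraMap (Localization.AtPrime p) Rh (algebraMap R (Localization.AtPrime p) r)) ∈ _
    rw [← IsScalarTower.algebraMap_apply R (Localization.AtPrime p) Rh, ← IsScalarTower.algebraMap_apply R Rh Sh,
      IsScalarTower.algebraMap_apply R S Sh, IsScalarTower.algebraMap_apply S (Localization.AtPrime q) Sh]
    refine map_nonunit _ _ ((IsLocalization.AtPrime.to_map_mem_maximal_iff _ q _).2 ?_)
    exact (Ideal.mem_of_liesOver q p r).1 hr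
  let ρ : Rh →+* E := (algebraMap (Rh ⊗[R] S) E).comp Algebra.TensorProduct.includeLeftRingHom
  have hρ : ∀ r, h (ρ r) = algebraMap Rh Sh r := fun r => (hμ _).trans (by simp [μ])
  have : IsLocalHom ρ := ⟨fun r hr => isUnit_of_map_unit (algebraMap Rh Sh) r (hρ r ▸ hr.map h)⟩
  have hkR : ρ = k.comp (algebraMap Rh Sh) := hR.hom_ext (fun r => by
    show algebraMap (Rh ⊗[R] S) E (algebraMap R Rh r ⊗ₜ[R] (1 : S)) = k (algebraMap Rh Sh (algebraMap R Rh r))
    rw [← IsScalarTower.algebraMap_apply R Rh Sh, IsScalarTower.algebraMap_apply R S Sh, hks,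
      Algebra.TensorProduct.tmul_one_eq_one_tmul])
    fun x => hι _ _ (by rw [hρ]; exact congrArg _ (hhk' _))
  have hkμ : ∀ d, k (μ d) = algebraMap (Rh ⊗[R] S) E d := fun d => by
    induction d using TensorProduct.induction_on with
    | zero => simp
    | add x y hx hy => simp only [map_add, hx, hy]
    | tmul r s =>
      rw [show μ (r ⊗ₜ[R] s) = algebraMap Rh Sh r * algebraMap S Sh s from
        Algebra.TensorProduct.lift_tmul .., map_mul, hks,
        show k (algebraMap Rh Sh r) = ρ r from (RingHom.congr_fun hkR r).symm,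
        show r ⊗ₜ[R] s = (r ⊗ₜ[R] (1 : S)) * ((1 : Rh) ⊗ₜ[R] s) by simp, map_mul]
      rfl
  have hkh : RingHom.id E = k.comp h := hE.hom_ext (fun d => by
    show algebraMap (Rh ⊗[R] S) E d = k (h (algebraMap (Rh ⊗[R] S) E d))
    rw [hμ, hkμ]) fun x => hι _ _ (congrArg _ (hhk' _))
  exact ⟨RingEquiv.ofRingHom h k hhk.symm hkh.symm, hμ⟩

end Groth.Agent.S9460
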