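import Groth.Statements.S13202
import Groth.Agent.Hens.SmoothPrime
import Groth.Agent.S9460
import Groth.Agent.S0537
import Groth.Agent.S0540

set_option autoImplicit false
set_option linter.style.haveILetI false
set_option backward.isDefEq.respectTransparency.types false
universe u
open Hensel IsLocalRing TensorProduct

namespace Groth.Agent.S13202

/-- Let R be a Noetherian regular ring (every localization at a prime ideal is a regular local ring) and
Δ ∈ R. The element Δ is étale-universally prime — meaning that for every prime ideal p of R
containing Δ and every strict henselization T of R_p, the image of Δ in T is a prime element —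
exactly when for every smooth R-algebra R', every prime ideal q of R' and every strict henselization
T of R'_q, the image of Δ in T is either invertible or a prime element. (Smooth R-algebras and their
strict henselizations are taken in the universe of R.) -/
theorem result
    (R : Type u) [CommRing R] [IsNoetherianRing R]
    (hreg : ∀ (p : Ideal R) [p.IsPrime], IsRegularLocalRing (Localization.AtPrime p)) (Δ : R) :
    (∀ (p : Ideal R) [p.IsPrime], Δ ∈ p →
        ∀ (T : Type u) [CommRing T] [IsLocalRing T] [Algebra (Localization.AtPrime p) T]
          [IsLocalHom (algebraMap (Localization.AtPrime p) T)]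
          [Hensel.IsStrictHenselization (Localization.AtPrime p) T],
          Prime (algebraMap (Localization.AtPrime p) T (algebraMap R (Localization.AtPrime p) Δ))) ↔
    (∀ (R' : Type u) [CommRing R'] [Algebra R R'] [Algebra.Smooth R R'] (q : Ideal R') [q.IsPrime]
        (T : Type u) [CommRing T] [IsLocalRing T] [Algebra (Localization.AtPrime q) T]
          [IsLocalHom (algebraMap (Localization.AtPrime q) T)]
          [Hensel.IsStrictHenselization (Localization.AtPrime q) T],
        IsUnit (algebraMap (Localization.AtPrime q) T (algebraMap R' (Localization.AtPrime q) (algebraMap R R' Δ))) ∨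
          Prime (algebraMap (Localization.AtPrime q) T (algebraMap R' (Localization.AtPrime q) (algebraMap R R' Δ)))) := by
  constructor
  · intro h R' _ _ _ q _ T _ _ _ _ _
    by_cases hΔ : algebraMap R R' Δ ∈ q
    swap
    · exact .inl ((IsLocalization.map_units (Localization.AtPrime q) (M := q.primeCompl) ⟨_, hΔ⟩).map _)
    right
    let p : Ideal R := q.comap (algebraMap R R')
    haveI : q.LiesOver p := ⟨rfl⟩
    obtain ⟨Rh, _, _, _, _, hRh⟩ := S0537.result (Localization.AtPrime p)
    haveI := hRh
    haveI : IsNoetherianRing Rh := (S0540.result (Localization.AtPrime p) Rh).1 inferInstance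
    haveI := hRh.henselian
    haveI := hRh.isSepClosure.sep_closed
    haveI := (‹Hensel.IsStrictHenselization (Localization.AtPrime q) T›).henselian
    haveI := (‹Hensel.IsStrictHenselization (Localization.AtPrime q) T›).isSepClosure.sep_closed
    let f : Localization.AtPrime p →+* T :=
      (algebraMap (Localization.AtPrime q) T).comp (Localization.localRingHom p q (algebraMap R R') rfl)
    haveI : IsLocalHom (Localization.localRingHom p q (algebraMap R R') rfl) :=
      Localization.isLocalHom_localRingHom p q (algebraMap R R') rfl
    haveI : IsLocalHom f := RingHom.isLocalHom_comp _ _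
    letI : Algebra (ResidueField (Localization.AtPrime p)) (ResidueField T) := (ResidueField.map f).toAlgebra
    haveI := hRh.isSepClosure.separable
    let τ : ResidueField Rh →ₐ[ResidueField (Localization.AtPrime p)] ResidueField T := IsSepClosed.lift
    obtain ⟨g, ⟨hg, hgτ⟩, -⟩ := hRh.universal T f τ.toRingHom (RingHom.ext fun x => τ.commutes x)
    haveI : IsLocalHom g := ⟨fun x hx => by
      by_contra hn
      exact (residue_ne_zero_iff_isUnit (g x)).2 hx ((hgτ x).trans ((congrArg τ ((residue_eq_zero_iff x).2
        ((mem_maximalIdeal x).2 hn))).trans (map_zero τ)))⟩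
    letI : Algebra R Rh := ((algebraMap (Localization.AtPrime p) Rh).comp (algebraMap R _)).toAlgebra
    haveI : IsScalarTower R (Localization.AtPrime p) Rh := .of_algebraMap_eq' rfl
    letI : Algebra R' T := ((algebraMap (Localization.AtPrime q) T).comp (algebraMap R' _)).toAlgebra
    haveI : IsScalarTower R' (Localization.AtPrime q) T := .of_algebraMap_eq' rfl
    letI : Algebra R T := ((algebraMap R' T).comp (algebraMap R R')).toAlgebra
    haveI : IsScalarTower R R' T := .of_algebraMap_eq' rfl
    letI : Algebra Rh T := g.toAlgebra
    haveI : IsScalarTower R Rh T := .of_algebraMap_eq fun x => by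
      show algebraMap R T x = g (algebraMap (Localization.AtPrime p) Rh (algebraMap R _ x))
      rw [← RingHom.comp_apply g, hg]
      show _ = algebraMap (Localization.AtPrime q) T (Localization.localRingHom p q _ rfl (algebraMap R _ x))
      rw [Localization.localRingHom_to_map]
      rfl
    let ℓ := Algebra.TensorProduct.lift (IsScalarTower.toAlgHom R Rh T) (IsScalarTower.toAlgHom R R' T)
      (fun _ _ => Commute.all _ _)
    let P : Ideal (Rh ⊗[R] R') := Ideal.comap ℓ (maximalIdeal T)
    haveI : P.IsPrime := Ideal.IsPrime.comap _
    obtain ⟨E, _, _, _, _, hE⟩ := S0537.result (Localization.AtPrime P)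
    haveI := hE
    obtain ⟨e, he⟩ := S9460.result R R' p q Rh T E
    have hP : (maximalIdeal Rh).map (algebraMap Rh (Rh ⊗[R] R')) ≤ P := Ideal.map_le_iff_le_comap.2 fun x hx => by
      show ℓ (algebraMap Rh (Rh ⊗[R] R') x) ∈ maximalIdeal T
      rw [Algebra.TensorProduct.algebraMap_apply, Algebra.TensorProduct.lift_tmul, map_one, mul_one]
      exact map_nonunit g x hx
    have hd := Hens.SmoothPrime.prime_map_strictHenselization (R := Rh) (R' := Rh ⊗[R] R') (T := E) P hP
      (algebraMap (Localization.AtPrime p) Rh (algebraMap R _ Δ)) (h p hΔ Rh)
    have h2 := (MulEquiv.prime_iff e.toMulEquiv).2 hd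
    convert h2 using 1
    show _ = e _
    rw [he, Algebra.TensorProduct.algebraMap_apply, Algebra.TensorProduct.lift_tmul, map_one, mul_one]
    show algebraMap R T Δ = algebraMap Rh T (algebraMap R Rh Δ)
    exact IsScalarTower.algebraMap_apply R Rh T Δ
  · intro h p _ hp T _ _ _ _ _
    rcases h R p T with hu | hu
    · exfalso
      have := isUnit_of_map_unit (algebraMap (Localization.AtPrime p) T) _ hu
      exact (IsLocalization.AtPrime.isUnit_to_map_iff (Localization.AtPrime p) p _).1 this hp
    · exact hu

end Groth.Agent.S13202
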