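import Groth.Statements.S13204
import Groth.Agent.DVRDom.Basic
import Mathlib.RingTheory.Polynomial.Basic
import Mathlib.RingTheory.LocalRing.ResidueField.Basic

set_option autoImplicit false
universe u
open Neron

namespace Groth.Agent.S13204

open Polynomial IsLocalRing

theorem eval_one_mem {R : Type u} [CommRing R] [IsDomain R] [IsLocalRing R] [UniqueFactorizationMonoid R]
    (Δ₁ Δ₂ : R) (h₁ : ¬ IsUnit Δ₁) (h₂ : ¬ IsUnit Δ₂) (hcop : IsRelPrime Δ₁ Δ₂)
    {K : Type u} [Field K] [Algebra R K] [IsFractionRing R K] (hd2 : Δ₂ ≠ 0) :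
    ∀ (n : ℕ) (p : R[X]), p.natDegree ≤ n → aeval (algebraMap R K Δ₁ / algebraMap R K Δ₂) p = 0 →
      p.eval 1 ∈ maximalIdeal R := by
  set x := algebraMap R K Δ₁ / algebraMap R K Δ₂ with hx
  have h2K : algebraMap R K Δ₂ ≠ 0 := (map_ne_zero_iff _ (IsFractionRing.injective R K)).2 hd2
  intro n
  induction n with
  | zero =>
    intro p hp h0
    rw [eq_C_of_natDegree_le_zero hp] at h0 ⊢
    rw [aeval_C, map_eq_zero_iff _ (IsFractionRing.injective R K)] at h0
    simp [h0]
  | succ n ih =>
    intro p hp h0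
    -- homogenise
    have hsum : ∑ i ∈ Finset.range (n + 2), p.coeff i * Δ₁ ^ i * Δ₂ ^ (n + 1 - i) = 0 := by
      apply IsFractionRing.injective R K
      rw [map_sum, map_zero]
      rw [aeval_eq_sum_range' (show p.natDegree < n + 2 by omega)] at h0
      have := congrArg (· * algebraMap R K Δ₂ ^ (n + 1)) h0
      simp only [zero_mul, Finset.sum_mul] at this
      refine Eq.trans ?_ this
      refine Finset.sum_congr rfl fun i hi => ?_
      have hi' : i ≤ n + 1 := Nat.lt_succ_iff.1 (Finset.mem_range.1 hi)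
      obtain ⟨j, hj⟩ := Nat.exists_eq_add_of_le hi'
      rw [hj, Nat.add_sub_cancel_left, Algebra.smul_def, map_mul, map_mul, map_pow, map_pow, pow_add, hx, div_pow]
      field_simp
    have hdvd : Δ₂ ∣ p.coeff (n + 1) * Δ₁ ^ (n + 1) := by
      rw [Finset.sum_range_succ, Nat.sub_self, pow_zero, mul_one, add_eq_zero_iff_neg_eq] at hsum
      rw [← hsum, dvd_neg]
      refine Finset.dvd_sum fun i hi => Dvd.dvd.mul_left (dvd_pow_self Δ₂ ?_) _
      have := Finset.mem_range.1 hi
      omega
    obtain ⟨e, he⟩ := (hcop.symm.pow_right : IsRelPrime Δ₂ (Δ₁ ^ (n + 1))).dvd_of_dvd_mul_right hdvd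
    let p' : R[X] := p - C e * (C Δ₂ * X - C Δ₁) * X ^ n
    have hp' : p'.natDegree ≤ n := by
      refine natDegree_le_iff_coeff_eq_zero.2 fun m hm => ?_
      simp only [p', coeff_sub, mul_sub, sub_mul]
      rw [show C e * (C Δ₂ * X) * X ^ n = C (e * Δ₂) * X ^ (n + 1) by rw [map_mul, pow_succ]; ring,
        show C e * C Δ₁ * X ^ n = C (e * Δ₁) * X ^ n by rw [map_mul], coeff_C_mul_X_pow, coeff_C_mul_X_pow,
        if_neg (by omega : m ≠ n), sub_zero]
      by_cases hm1 : m = n + 1
      · subst hm1; rw [if_pos rfl, he]; ring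
      · rw [if_neg hm1, sub_zero, coeff_eq_zero_of_natDegree_lt (by omega)]
    have h0' : aeval x p' = 0 := by
      simp only [p', map_sub, map_mul, aeval_C, aeval_X, map_pow, h0]
      rw [hx, mul_div_cancel₀ _ h2K, sub_self]
      ring
    have := ih p' hp' h0'
    simp only [p', eval_sub, eval_mul, eval_C, eval_X, eval_pow, mul_one, one_pow] at this
    have h3 : e * (Δ₂ - Δ₁) ∈ maximalIdeal R :=
      Ideal.mul_mem_left _ _ (sub_mem ((IsLocalRing.mem_maximalIdeal _).2 h₂) ((IsLocalRing.mem_maximalIdeal _).2 h₁))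
    have := add_mem this h3
    rwa [sub_add_cancel] at this

/-- Let R be a strictly henselian Noetherian local unique factorization domain and Δ₁, Δ₂ two non-units
of R with no common prime factor. Then there are a discrete valuation ring A and an injective local
homomorphism f : R → A — so that Spec A → Spec R sends the closed point to the closed point and the
generic point to the generic point, which lies in every dense open subset — such that f(Δ₁) is a
non-zero non-unit and f(Δ₁) = u · f(Δ₂) for some unit u of A congruent to 1 modulo the maximal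
ideal. (The published statement asks for the images of Δ₁ and Δ₂ in A to be equal, with the generic
point of Spec A sent into a given dense open subset of Spec R; that cannot hold in general — for R =
ℂ[[a,b]], Δ₁ = a, Δ₂ = b and the dense open D(a − b), any local map to a discrete valuation ring
identifying a and b sends the generic point into V(a − b) — so this row asks instead for f(Δ₁) = u ·
f(Δ₂) with u a unit congruent to 1 modulo the maximal ideal.) -/
theorem result
    (R : Type u) [CommRing R] [IsDomain R] [IsNoetherianRing R] [UniqueFactorizationMonoid R]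
    [HenselianLocalRing R] [IsSepClosed (IsLocalRing.ResidueField R)]
    (Δ₁ Δ₂ : R) (h₁ : ¬ IsUnit Δ₁) (h₂ : ¬ IsUnit Δ₂) (hcop : IsRelPrime Δ₁ Δ₂) :
    ∃ (A : Type u) (_ : CommRing A) (_ : IsDomain A) (_ : IsDiscreteValuationRing A) (f : R →+* A),
      IsLocalHom f ∧ Function.Injective f ∧ ¬ IsUnit (f Δ₁) ∧
        ∃ u : Aˣ, (u : A) - 1 ∈ IsLocalRing.maximalIdeal A ∧ f Δ₁ = (u : A) * f Δ₂ := by
  classical
  have hd2 : Δ₂ ≠ 0 := by rintro rfl; exact h₁ (isRelPrime_zero_right.1 hcop)
  let K := FractionRing R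
  set x : K := algebraMap R K Δ₁ / algebraMap R K Δ₂ with hx
  have h2K : algebraMap R K Δ₂ ≠ 0 := (map_ne_zero_iff _ (IsFractionRing.injective R K)).2 hd2
  let φ : R[X] →+* K := (aeval x).toRingHom
  let D := R[X] ⧸ RingHom.ker φ
  haveI : (RingHom.ker φ).IsPrime := RingHom.ker_isPrime φ
  let ψ : D →+* ResidueField R := Ideal.Quotient.lift _ ((residue R).comp (evalRingHom 1)) fun p hp =>
    Ideal.Quotient.eq_zero_iff_mem.2 (eval_one_mem Δ₁ Δ₂ h₁ h₂ hcop hd2 p.natDegree p le_rfl hp)
  let Q : Ideal D := RingHom.ker ψ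
  haveI : Q.IsPrime := RingHom.ker_isPrime ψ
  let L := Localization.AtPrime Q
  haveI : IsNoetherianRing L := IsLocalization.isNoetherianRing Q.primeCompl L inferInstance
  let g : R →+* L := (algebraMap D L).comp ((Ideal.Quotient.mk _).comp C)
  have hgm : ∀ r ∈ maximalIdeal R, g r ∈ maximalIdeal L := by
    intro r hr
    refine (IsLocalization.AtPrime.to_map_mem_maximal_iff L Q _).2 ?_
    show ψ (Ideal.Quotient.mk _ (C r)) = 0
    show residue R ((C r).eval 1) = 0
    rw [eval_C]
    exact (residue_eq_zero_iff _).2 hr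
  have hinjD : Function.Injective (algebraMap D L) :=
    IsLocalization.injective L (Ideal.primeCompl_le_nonZeroDivisors Q)
  have hginj : Function.Injective g := by
    refine hinjD.comp (f := ⇑((Ideal.Quotient.mk (RingHom.ker φ)).comp C)) ((injective_iff_map_eq_zero _).2 fun r hr => ?_)
    have h := Ideal.Quotient.eq_zero_iff_mem.1 hr
    simpa [φ] using (show aeval x (C r) = 0 from h)
  have hm2 : g Δ₂ ∈ maximalIdeal L := hgm _ ((IsLocalRing.mem_maximalIdeal _).2 h₂)
  have hL : ¬ IsField L := fun h => by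
    rw [IsLocalRing.isField_iff_maximalIdeal_eq.1 h, Ideal.mem_bot] at hm2
    exact hd2 (hginj (hm2.trans (map_zero g).symm))
  obtain ⟨W, hW, hmem, hval⟩ := DVRDom.exists_dvr_dominating L hL (FractionRing L) (FractionRing L)
    (by rw [← IntermediateField.bot_eq_top_of_finrank_adjoin_eq_one (F := FractionRing L) (E := FractionRing L)
          (fun y => IntermediateField.finrank_adjoin_simple_eq_one_iff.2 (IntermediateField.mem_bot.2 ⟨y, rfl⟩))]
        exact IntermediateField.fg_bot)
  let j : L →+* W := (algebraMap L (FractionRing L)).codRestrict W.toSubring hmem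
  have hjm : ∀ a ∈ maximalIdeal L, j a ∈ maximalIdeal W := fun a ha =>
    (W.valuation_lt_one_iff _).2 (hval a ha)
  let X' : L := algebraMap D L (Ideal.Quotient.mk _ X)
  have hX : X' * g Δ₂ = g Δ₁ := by
    simp only [X', g, RingHom.comp_apply, ← map_mul]
    congr 1
    rw [Ideal.Quotient.eq]
    show aeval x (X * C Δ₂ - C Δ₁) = 0
    simp only [map_sub, map_mul, aeval_X, aeval_C, hx]
    rw [div_mul_cancel₀ _ h2K, sub_self]
  have hX1 : X' - 1 ∈ maximalIdeal L := by
    have : X' - 1 = algebraMap D L (Ideal.Quotient.mk _ (X - 1)) := by simp [X']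
    rw [this]
    refine (IsLocalization.AtPrime.to_map_mem_maximal_iff L Q _).2 ?_
    show ψ (Ideal.Quotient.mk _ (X - 1)) = 0
    show residue R ((X - 1 : R[X]).eval 1) = 0
    rw [eval_sub, eval_X, eval_one, sub_self, map_zero]
  refine ⟨W, inferInstance, inferInstance, hW, j.comp g, ⟨fun r hr => ?_⟩, ?_, ?_, ?_⟩
  · by_contra hu
    exact (IsLocalRing.mem_maximalIdeal _).1 (hjm _ (hgm r ((IsLocalRing.mem_maximalIdeal _).2 hu))) hr
  · exact fun a b h => hginj (IsFractionRing.injective L (FractionRing L) (congrArg Subtype.val h))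
  · exact (IsLocalRing.mem_maximalIdeal _).1 (hjm _ (hgm _ ((IsLocalRing.mem_maximalIdeal _).2 h₁)))
  · have hu : IsUnit (j X') := by
      by_contra hu
      have h1 := sub_mem ((IsLocalRing.mem_maximalIdeal _).2 hu) (hjm _ hX1)
      rw [map_sub, map_one, sub_sub_cancel] at h1
      exact (IsLocalRing.mem_maximalIdeal _).1 h1 isUnit_one
    refine ⟨hu.unit, ?_, ?_⟩
    · rw [IsUnit.unit_spec, ← map_one j, ← map_sub]; exact hjm _ hX1
    · show j (g Δ₁) = (hu.unit : W) * j (g Δ₂)
      rw [IsUnit.unit_spec, ← map_mul, hX]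

end Groth.Agent.S13204
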