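import Groth.Statements.S13205
import Groth.Agent.AbsAbh.Structure
-- import your own Groth.Agent.* helpers here

set_option autoImplicit false
universe u
open IsLocalRing
open SGA1

namespace Groth.Agent.S13205

/-- Let A be a strictly henselian regular local ring, f_1, …, f_r elements of the maximal ideal of A
whose images in m_A/m_A² are linearly independent (so that V(f_1 ⋯ f_r) is a strict normal crossings
divisor with complement U = D(f_1 ⋯ f_r)), and S' = Spec B → Spec A a finite locally free morphism,
tamely ramified along the f_i and étale over U, with S' connected and regular (B an integral domain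
with regular local rings). Then S' is a Kummer covering: for some integers n_i ≥ 1 prime to the
residue characteristic, B is isomorphic as an A-algebra to A[T_1, …, T_r]/(T_i^{n_i} − f_i). -/
theorem result
    (A : Type u) [CommRing A] [IsRegularLocalRing A] [IsDomain A] [HenselianLocalRing A]
    [IsSepClosed (ResidueField A)] (r : ℕ) (f : Fin r → A)
    (hm : ∀ i, f i ∈ maximalIdeal A)
    (hf : LinearIndependent (ResidueField A) (fun i => (maximalIdeal A).toCotangent ⟨f i, hm i⟩))
    [∀ i, (Ideal.span {f i}).IsPrime]
    (B : Type u) [CommRing B] [IsDomain B] [Algebra A B] [Module.Finite A B] [Module.Free A B]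
    (hreg : ∀ (q : Ideal B) [q.IsPrime], IsRegularLocalRing (Localization.AtPrime q))
    [Algebra.Etale (Localization.Away (∏ i, f i)) (TensorProduct A (Localization.Away (∏ i, f i)) B)]
    (htame : SGA1.IsTameAlong f (algebraMap A B)) :
    ∃ n : Fin r → ℕ, (∀ i, 1 ≤ n i) ∧ (∀ i, IsUnit ((n i : ℕ) : ResidueField A)) ∧
      Nonempty (B ≃ₐ[A] SGA1.kummerAlg A f n) := by
  haveI : IsLocalRing B := Milnor.isLocalRing_of_finite_domain A B
  haveI : IsRegularLocalRing B := by
    haveI : IsLocalization.AtPrime B (maximalIdeal B) :=
      IsLocalization.self fun x hx => not_not.1 hx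
    haveI := hreg (maximalIdeal B)
    exact IsRegularLocalRing.of_ringEquiv (R := Localization.AtPrime (maximalIdeal B))
      (IsLocalization.algEquiv (maximalIdeal B).primeCompl (Localization.AtPrime (maximalIdeal B)) B).toRingEquiv
  obtain ⟨_, hunit, hint⟩ := AbsAbh.localization_facts f (B := B)
  exact AbsAbh.exists_algEquiv_kummer f (FaithfulSMul.algebraMap_injective A B) hm hf htame hunit hint

end Groth.Agent.S13205
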