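import Groth.Statements.S13206
import Mathlib.AlgebraicGeometry.Morphisms.Separated
import Mathlib.Data.Fintype.Card

set_option autoImplicit false
universe u
open CategoryTheory AlgebraicGeometry
open AlgGrp

namespace Groth.Agent.S13206

/-- Let X → S be a separated morphism of schemes and let a finite group G act on X through
S-automorphisms. Then the functor of G-fixed points is represented by a closed subscheme of X: there
are a scheme Z and a closed immersion i : Z → X with i ∘ g = i for all g ∈ G such that every
morphism x : T → X with g ∘ x = x for all g ∈ G factors uniquely through i. (The published statement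
is for an algebraic space X over S, also treats the locally separated case and notes compatibility
with base change; this row is the separated case for schemes.) -/
theorem result
    {X S : Scheme.{u}} (p : X ⟶ S) [IsSeparated p]
    (G : Type u) [Group G] [Finite G] (ρ : G →* Aut X) (hρ : ∀ g : G, (ρ g).hom ≫ p = p) :
    ∃ (Z : Scheme.{u}) (i : Z ⟶ X), IsClosedImmersion i ∧ (∀ g : G, i ≫ (ρ g).hom = i) ∧
      ∀ (T : Scheme.{u}) (x : T ⟶ X), (∀ g : G, x ≫ (ρ g).hom = x) → ∃! z : T ⟶ Z, z ≫ i = x := by
  classical
  have := Fintype.ofFinite G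
  suffices H : ∀ s : Finset G, ∃ (Z : Scheme.{u}) (i : Z ⟶ X), IsClosedImmersion i ∧
      (∀ g ∈ s, i ≫ (ρ g).hom = i) ∧
      ∀ (T : Scheme.{u}) (x : T ⟶ X), (∀ g ∈ s, x ≫ (ρ g).hom = x) → ∃! z : T ⟶ Z, z ≫ i = x by
    obtain ⟨Z, i, h₁, h₂, h₃⟩ := H Finset.univ
    exact ⟨Z, i, h₁, fun g => h₂ g (Finset.mem_univ g), fun T x hx => h₃ T x fun g _ => hx g⟩
  intro s
  induction s using Finset.induction with
  | empty =>
    exact ⟨X, 𝟙 X, inferInstance, by simp, fun T x _ => ⟨x, Category.comp_id x,
      fun z hz => (Category.comp_id z).symm.trans hz⟩⟩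
  | @insert g s _ ih =>
    obtain ⟨Z, i, hi, hfix, huniv⟩ := ih
    let a : Over.mk (i ≫ p) ⟶ Over.mk p := Over.homMk i rfl
    let b : Over.mk (i ≫ p) ⟶ Over.mk p := Over.homMk (i ≫ (ρ g).hom) (by simp [hρ])
    have : IsSeparated (Over.mk p).hom := ‹IsSeparated p›
    refine ⟨(Limits.equalizer a b).left, (Limits.equalizer.ι a b).left ≫ i, ?_, ?_, ?_⟩
    · have : IsClosedImmersion (Limits.equalizer.ι a b).left := inferInstance
      exact inferInstance
    · intro g' hg'
      rcases Finset.mem_insert.mp hg' with rfl | hg'
      · have := congr($(Limits.equalizer.condition a b).left)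
        simp only [Over.comp_left, a, b, Over.homMk_left] at this
        rw [Category.assoc]
        exact this.symm
      · rw [Category.assoc]
        exact congrArg ((Limits.equalizer.ι a b).left ≫ ·) (hfix g' hg')
    · intro T x hx
      obtain ⟨z, hz, hzu⟩ := huniv T x fun g' hg' => hx g' (Finset.mem_insert_of_mem hg')
      let T' : Over S := Over.mk (x ≫ p)
      let z' : T' ⟶ Over.mk (i ≫ p) := Over.homMk z (by simp [T', reassoc_of% hz])
      have hzab : z' ≫ a = z' ≫ b := by
        ext
        simp only [Over.comp_left, a, b, z', Over.homMk_left]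
        rw [reassoc_of% hz, hx g (Finset.mem_insert_self g s), hz]
      refine ⟨(Limits.equalizer.lift z' hzab).left, ?_, fun w hw => ?_⟩
      · change (Limits.equalizer.lift z' hzab).left ≫ (Limits.equalizer.ι a b).left ≫ i = x
        rw [← Category.assoc, ← Over.comp_left, Limits.equalizer.lift_ι]
        exact hz
      · have : IsClosedImmersion (Limits.equalizer.ι a b).left := inferInstance
        rw [← cancel_mono (Limits.equalizer.ι a b).left, ← Over.comp_left, Limits.equalizer.lift_ι]
        exact hzu _ ((Category.assoc _ _ _).trans hw)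

end Groth.Agent.S13206
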