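import Groth.Statements.S13207
import Groth.Agent.NeronMap.Basic

set_option autoImplicit false
universe u
open CategoryTheory CategoryTheory.Limits AlgebraicGeometry
open Neron

open Groth.Agent.NeronMap

namespace Groth.Agent.S13207

theorem isPullback_sigmaMap {I : Type u} {B N : I → Scheme.{u}} (f : ∀ i, N i ⟶ B i) (i : I) :
    IsPullback (f i) (Limits.Sigma.ι N i) (Limits.Sigma.ι B i) (Limits.Sigma.map f) := by
  refine IsOpenImmersion.isPullback _ _ _ _ (by simp) ?_
  apply le_antisymm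
  · rintro x ⟨y, hxy⟩
    obtain ⟨⟨j, z⟩, rfl⟩ := (sigmaMk N).surjective x
    rw [sigmaMk_mk] at hxy ⊢
    have h1 : (Limits.Sigma.map f) (Limits.Sigma.ι N j z) = Limits.Sigma.ι B j (f j z) := by
      rw [← Scheme.Hom.comp_apply, Sigma.ι_map, Scheme.Hom.comp_apply]
    obtain ⟨rfl, -⟩ := Sigma.mk.inj_iff.mp ((sigmaι_eq_iff _ _ _ _ _).mp (hxy.trans h1))
    exact ⟨z, rfl⟩
  · rintro _ ⟨z, rfl⟩
    refine ⟨f i z, ?_⟩
    show Limits.Sigma.ι B i (f i z) = (Limits.Sigma.map f) (Limits.Sigma.ι N i z)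
    rw [← Scheme.Hom.comp_apply, ← Scheme.Hom.comp_apply, Sigma.ι_map]

/-- Let (S_i)_{i ∈ I} be a family of schemes, (N_i → S_i)_{i ∈ I} morphisms of schemes, S = ∐ S_i and N
= ∐ N_i with the induced morphism N → S, and U ⊆ S a schematically dense open subscheme with
preimages U_i ⊆ S_i. Then N → S is smooth with the Néron mapping property with respect to U — for
every smooth S-scheme Y, restriction to U is a bijection from S-morphisms Y → N onto U-morphisms Y
×_S U → N ×_S U — if and only if every N_i → S_i is smooth with the Néron mapping property with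
respect to U_i. (The published statement is for algebraic spaces N_i tested against smooth algebraic
spaces, and has the same form for separated models; this row is the not-necessarily-separated case
for schemes tested against smooth schemes.) -/
theorem result
    {I : Type u} (B N : I → Scheme.{u}) (f : ∀ i, N i ⟶ B i)
    (U : (∐ B).Opens) (hU : CInt.IsSchematicallyDense U) :
    (Smooth (Limits.Sigma.map f) ∧ ∀ Y : Over (∐ B), Smooth Y.hom →
        Function.Bijective (fun g : Y ⟶ Over.mk (Limits.Sigma.map f) => (Over.pullback U.ι).map g)) ↔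
    ∀ i, Smooth (f i) ∧ ∀ Y : Over (B i), Smooth Y.hom →
        Function.Bijective (fun g : Y ⟶ Over.mk (f i) => (Over.pullback ((Limits.Sigma.ι B i) ⁻¹ᵁ U).ι).map g) := by
  simp only [bijective_pullback_map_iff, Over.mk_hom]
  constructor
  · rintro ⟨hsm, H⟩ i
    have hP := isPullback_sigmaMap f i
    refine ⟨MorphismProperty.of_isPullback hP.flip hsm, fun Y hY h hh => ?_⟩
    obtain ⟨g, ⟨hg1, hg2⟩, hg3⟩ := H (Over.mk (Y.hom ≫ Limits.Sigma.ι B i))
      (show Smooth (Y.hom ≫ Limits.Sigma.ι B i) from inferInstance) (h ≫ Limits.Sigma.ι N i)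
      (((Category.assoc _ _ _).trans (congrArg (h ≫ ·) (Sigma.ι_map f i))).trans
        ((Category.assoc _ _ _).symm.trans ((congrArg (· ≫ Limits.Sigma.ι B i) hh).trans (Category.assoc _ _ _))))
    refine ⟨hP.lift Y.hom g hg1.symm, ⟨hP.lift_fst _ _ _, ?_⟩, fun g' hg' => ?_⟩
    · rw [← cancel_mono (Limits.Sigma.ι N i), Category.assoc, hP.lift_snd]
      exact hg2
    · rw [← cancel_mono (Limits.Sigma.ι N i), hP.lift_snd]
      refine hg3 _ ⟨?_, ?_⟩
      · exact ((Category.assoc _ _ _).trans (congrArg (g' ≫ ·) (Sigma.ι_map f i))).trans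
          ((Category.assoc _ _ _).symm.trans (congrArg (· ≫ Limits.Sigma.ι B i) hg'.1))
      · exact (Category.assoc _ _ _).symm.trans (congrArg (· ≫ Limits.Sigma.ι N i) hg'.2)
  · intro H
    have := HasRingHomProperty.instIsZariskiLocalAtSource (P := @Smooth.{u}) (Q := RingHom.Smooth)
    refine ⟨?_, ?_⟩
    · refine (IsZariskiLocalAtSource.iff_of_openCover (P := @Smooth.{u}) (sigmaOpenCover N)).2 fun (i : I) => ?_
      have := (H i).1
      exact (Sigma.ι_map f i).symm ▸ (inferInstanceAs (Smooth (f i ≫ Limits.Sigma.ι B i)))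
    intro Y hY h hh
    let W := Y.hom ⁻¹ᵁ U
    let V : I → Y.left.Opens := fun i => Y.hom ⁻¹ᵁ (Limits.Sigma.ι B i).opensRange
    have hV : ∀ y : Y.left, ∃ i, y ∈ V i := fun y => by
      obtain ⟨⟨i, b⟩, hb⟩ := (sigmaMk B).surjective (Y.hom y)
      exact ⟨i, b, by rw [← hb, sigmaMk_mk]⟩
    have hVc : TopologicalSpace.IsOpenCover V :=
      TopologicalSpace.Opens.ext (Set.eq_univ_of_forall fun y => by simpa using hV y)
    let 𝒰 := Y.left.openCoverOfIsOpenCover V hVc
    have hrange : ∀ i, Set.range ((V i).ι ≫ Y.hom) ⊆ Set.range (Limits.Sigma.ι B i) := by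
      rintro i _ ⟨y, rfl⟩
      rw [Scheme.Hom.comp_apply]
      exact y.2
    let q : ∀ i, (V i : Scheme.{u}) ⟶ B i := fun i => IsOpenImmersion.lift _ _ (hrange i)
    have hq : ∀ i, q i ≫ Limits.Sigma.ι B i = (V i).ι ≫ Y.hom := fun i => IsOpenImmersion.lift_fac _ _ _
    have hqsm : ∀ i, Smooth (q i) := fun i =>
      MorphismProperty.of_isPullback (IsOpenImmersion.isPullback (q i) (V i).ι (Limits.Sigma.ι B i) Y.hom
        (hq i).symm (Scheme.Opens.opensRange_ι _).symm).flip hY
    let Wi : ∀ i, (V i : Scheme.{u}).Opens := fun i => q i ⁻¹ᵁ (Limits.Sigma.ι B i ⁻¹ᵁ U)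
    have hWi : ∀ i, Wi i = (V i).ι ⁻¹ᵁ W := fun i => by
      show (q i ≫ Limits.Sigma.ι B i) ⁻¹ᵁ U = _
      rw [hq i]; rfl
    let r : ∀ i, (Wi i : Scheme.{u}) ⟶ W := fun i => (V i).ι.resLE W (Wi i) (hWi i).le
    have hr : ∀ i, r i ≫ W.ι = (Wi i).ι ≫ (V i).ι := fun i => Scheme.Hom.resLE_comp_ι _ _
    have hhi : ∀ i, ((Wi i).ι ≫ q i) ≫ Limits.Sigma.ι B i = (r i ≫ h) ≫ Limits.Sigma.map f := fun i => by
      rw [Category.assoc, Category.assoc, hq i]
      exact ((reassoc_of% (hr i)) Y.hom).symm.trans (congrArg (r i ≫ ·) hh.symm) |>.trans (Category.assoc _ _ _).symm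
    let hi : ∀ i, (Wi i : Scheme.{u}) ⟶ N i := fun i => (isPullback_sigmaMap f i).lift _ _ (hhi i)
    have hgi := fun i => (H i).2 (Over.mk (q i)) (hqsm i) (hi i) ((isPullback_sigmaMap f i).lift_fst _ _ _)
    choose g hg hguniq using hgi
    have compat : ∀ i j, pullback.fst (𝒰.f i) (𝒰.f j) ≫ g i ≫ Limits.Sigma.ι N i =
        pullback.snd (𝒰.f i) (𝒰.f j) ≫ g j ≫ Limits.Sigma.ι N j := by
      intro i j
      by_cases hij : i = j
      · subst hij
        rw [(cancel_mono (𝒰.f i)).mp pullback.condition]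
      · have : IsEmpty ↑(pullback (𝒰.f i) (𝒰.f j)) := isEmpty_of_commSq_sigmaι_of_ne (g := B)
          (a := pullback.fst (𝒰.f i) (𝒰.f j) ≫ q i) (b := pullback.snd (𝒰.f i) (𝒰.f j) ≫ q j) ⟨by
            exact ((Category.assoc _ _ _).trans (congrArg (pullback.fst (𝒰.f i) (𝒰.f j) ≫ ·) (hq i))).trans
              ((pullback.condition_assoc Y.hom).trans ((Category.assoc _ _ _).trans
                (congrArg (pullback.snd (𝒰.f i) (𝒰.f j) ≫ ·) (hq j))).symm)⟩ hij
        exact isInitialOfIsEmpty.hom_ext _ _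
    let G : Y.left ⟶ ∐ N := 𝒰.glueMorphisms (fun i => g i ≫ Limits.Sigma.ι N i) compat
    have hG : ∀ i, (V i).ι ≫ G = g i ≫ Limits.Sigma.ι N i := fun i => Scheme.Cover.ι_glueMorphisms 𝒰 _ compat i
    refine ⟨G, ⟨?_, ?_⟩, ?_⟩
    · refine Scheme.Cover.hom_ext 𝒰 _ _ fun (i : I) => ?_
      show (V i).ι ≫ G ≫ Limits.Sigma.map f = (V i).ι ≫ Y.hom
      exact ((Category.assoc _ _ _).symm.trans (congrArg (· ≫ Limits.Sigma.map f) (hG i))).trans
        (((Category.assoc _ _ _).trans (congrArg (g i ≫ ·) (Sigma.ι_map f i))).trans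
          ((Category.assoc _ _ _).symm.trans ((congrArg (· ≫ Limits.Sigma.ι B i) (hg i).1).trans (hq i))))
    · refine Scheme.Cover.hom_ext (𝒰.pullback₁ W.ι) _ _ fun (i : I) => ?_
      show pullback.fst W.ι (V i).ι ≫ W.ι ≫ G = pullback.fst W.ι (V i).ι ≫ h
      have hlift : Set.range (pullback.snd W.ι (V i).ι) ⊆ Set.range (Wi i).ι := by
        rintro _ ⟨z, rfl⟩
        rw [Scheme.Opens.range_ι]
        show pullback.snd W.ι (V i).ι z ∈ Wi i
        rw [hWi, Scheme.Hom.mem_preimage, ← Scheme.Hom.comp_apply, ← pullback.condition, Scheme.Hom.comp_apply]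
        exact (pullback.fst W.ι (V i).ι z).2
      let l := IsOpenImmersion.lift (Wi i).ι (pullback.snd W.ι (V i).ι) hlift
      have hl : l ≫ r i = pullback.fst W.ι (V i).ι := by
        rw [← cancel_mono W.ι, Category.assoc, hr, IsOpenImmersion.lift_fac_assoc, pullback.condition]
      rw [pullback.condition_assoc, hG, ← IsOpenImmersion.lift_fac (Wi i).ι _ hlift, Category.assoc,
        ← Category.assoc (Wi i).ι, show (Wi i).ι ≫ g i = hi i from (hg i).2,
        (isPullback_sigmaMap f i).lift_snd, ← hl, Category.assoc]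
    · rintro G' ⟨hG'1, hG'2⟩
      refine Scheme.Cover.hom_ext 𝒰 _ _ fun (i : I) => ?_
      show (V i).ι ≫ G' = (V i).ι ≫ G
      have hP := isPullback_sigmaMap f i
      let g' := hP.lift (q i) ((V i).ι ≫ G') (by rw [hq i, Category.assoc, hG'1])
      have : g' = g i := hguniq i g' ⟨hP.lift_fst _ _ _, by
        refine hP.hom_ext ?_ ?_
        · rw [Category.assoc, hP.lift_fst]; exact ((hP.lift_fst _ _ (hhi i))).symm
        · rw [Category.assoc, hP.lift_snd, hP.lift_snd, ← hG'2, reassoc_of% hr i]; rfl⟩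
      rw [hG, ← this, hP.lift_snd]

end Groth.Agent.S13207
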