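import Groth.Statements.S13209
import Groth.Agent.AlgSp.Basic
import Groth.Agent.AlgSp.Quot
-- import your own Groth.Agent.* helpers here

set_option autoImplicit false
universe u
open CategoryTheory CategoryTheory.Limits AlgebraicGeometry
open Neron

namespace Groth.Agent.S13209

/-- Let S be a scheme, U ⊆ S a schematically dense open subscheme and N → S a smooth S-scheme with the
Néron mapping property for schemes with respect to U: for every smooth S-scheme Y, composition with
the projection Y ×_S U → Y is a bijection from S-morphisms Y → N onto S-morphisms Y ×_S U → N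
(equivalently, onto U-morphisms Y ×_S U → N ×_S U). Then N also has the Néron mapping property with
respect to smooth algebraic spaces: for every algebraic space F over S (an fppf sheaf of sets on
S-schemes with representable diagonal and an étale surjective chart from a scheme) whose structure
map to h_S is smooth, composition with the first projection F × h_U → F is a bijection from
morphisms of sheaves F → h_N onto morphisms F × h_U → h_N. -/
theorem result
    {S : Scheme.{u}} (U : S.Opens) (hU : CInt.IsSchematicallyDense U) (N : Over S) [Smooth N.hom]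
    (hN : ∀ Y : Over S, Smooth Y.hom →
      Function.Bijective (fun g : Y ⟶ N => (Over.mapPullbackAdj U.ι).counit.app Y ≫ g))
    (F : AlgSp.Sp S) (hF : AlgSp.IsAlgSpace F)
    (sF : F ⟶ (AlgSp.yon S).obj (Over.mk (𝟙 S))) (hsm : AlgSp.LocP @Smooth sF) :
    Function.Bijective (fun φ : F ⟶ (AlgSp.yon S).obj N =>
      (Limits.prod.fst : F ⨯ (AlgSp.yon S).obj (Over.mk U.ι) ⟶ F) ≫ φ) := by
  open CategoryTheory.Limits in
  haveI : MorphismProperty.ContainsIdentities (@Etale : MorphismProperty Scheme.{u}) :=
    ⟨fun X => inferInstanceAs (Etale (𝟙 X))⟩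
  obtain ⟨U₀, a, hae, has⟩ := hF.atlas
  haveI := Groth.Agent.AlgSp.isLocallySurjective_of_etale_surjective a hae has
  haveI hU₀ : Smooth U₀.hom := by
    obtain ⟨h, hh⟩ := (AlgSp.yon S).map_surjective (a ≫ sF)
    have h1 : Smooth h.left := hsm a (𝟙 _) h hae (AlgSp.repWith_id _ _)
      (hh.symm.trans (Category.comp_id _).symm)
    have h2 : h.left = U₀.hom := (Category.comp_id h.left).symm.trans (Over.w h)
    exact h2 ▸ h1
  -- the kernel pair of the atlas
  let R := hae.1.pullback a
  let s : R ⟶ U₀ := hae.1.snd a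
  obtain ⟨t, ht⟩ := (AlgSp.yon S).map_surjective (hae.1.fst a)
  have sq : IsPullback ((AlgSp.yon S).map t) ((AlgSp.yon S).map s) a a := by
    rw [ht]; exact hae.1.isPullback a
  haveI : Etale s.left := hae.2 _ _ _ (hae.1.isPullback a)
  haveI hR : Smooth R.hom := by
    rw [← Over.w s]; infer_instance
  obtain ⟨hcol⟩ := Groth.Agent.AlgSp.isColimit_of_isPullback a sq
  -- restriction to `U`
  let r := fun Y : Over S => (Over.mapPullbackAdj U.ι).counit.app Y
  let q : ∀ Y : Over S, (Over.pullback U.ι ⋙ Over.map U.ι).obj Y ⟶ Over.mk U.ι := fun Y =>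
    Over.homMk (pullback.snd Y.hom U.ι) rfl
  let c : (AlgSp.yon S).obj ((Over.pullback U.ι ⋙ Over.map U.ι).obj U₀) ⟶
      F ⨯ (AlgSp.yon S).obj (Over.mk U.ι) :=
    prod.lift ((AlgSp.yon S).map (r U₀) ≫ a) ((AlgSp.yon S).map (q U₀))
  haveI : Sheaf.IsLocallySurjective c := by
    refine Groth.Agent.AlgSp.isLocallySurjective_of_fppf_lift c fun T g => ?_
    obtain ⟨w, hw⟩ := (AlgSp.yon S).map_surjective (g ≫ prod.snd)
    let x := g ≫ prod.fst
    let k : hae.1.pullback x ⟶ T := hae.1.snd x
    obtain ⟨y, hy⟩ := (AlgSp.yon S).map_surjective (hae.1.fst x)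
    have he := hae.2 _ _ _ (hae.1.isPullback x)
    let l : hae.1.pullback x ⟶ (Over.pullback U.ι ⋙ Over.map U.ι).obj U₀ :=
      Over.homMk (pullback.lift y.left (k.left ≫ w.left) (by
        rw [Over.w y, Category.assoc]
        erw [Over.w w]
        exact (Over.w k).symm))
        (by
          show pullback.lift _ _ _ ≫ pullback.snd _ _ ≫ U.ι = _
          rw [pullback.lift_snd_assoc, Category.assoc]
          erw [Over.w w]
          exact Over.w k)
    have hl₁ : l ≫ r U₀ = y := Over.OverMorphism.ext (pullback.lift_fst _ _ _)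
    have hl₂ : l ≫ q U₀ = k ≫ w := Over.OverMorphism.ext (pullback.lift_snd _ _ _)
    haveI : Etale k.left := he
    refine ⟨_, k, (AlgSp.yon S).map l, inferInstance, has.2 _ _ _ (hae.1.isPullback x), inferInstance, ?_⟩
    apply prod.hom_ext
    · rw [Category.assoc, prod.lift_fst, ← Category.assoc, ← Functor.map_comp, hl₁, hy]
      exact (hae.1.w x).trans (Category.assoc _ _ _).symm
    · rw [Category.assoc, prod.lift_snd, ← Functor.map_comp, hl₂, Functor.map_comp, hw, Category.assoc]
  haveI : Epi c := Sheaf.epi_of_isLocallySurjective c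
  haveI : Epi a := Sheaf.epi_of_isLocallySurjective a
  refine ⟨fun φ ψ h => ?_, fun χ => ?_⟩
  · obtain ⟨g, hg⟩ := (AlgSp.yon S).map_surjective (a ≫ φ)
    obtain ⟨g', hg'⟩ := (AlgSp.yon S).map_surjective (a ≫ ψ)
    have hgg : g = g' := (hN U₀ hU₀).1 ((AlgSp.yon S).map_injective (by
      rw [Functor.map_comp, Functor.map_comp, hg, hg', ← Category.assoc, ← Category.assoc]
      have h3 : c ≫ prod.fst ≫ φ = c ≫ prod.fst ≫ ψ := congrArg (c ≫ ·) h
      rwa [← Category.assoc, ← Category.assoc, prod.lift_fst] at h3))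
    rw [← cancel_epi a, ← hg, ← hg', hgg]
  · obtain ⟨g₀, hg₀⟩ := (AlgSp.yon S).map_surjective (c ≫ χ)
    obtain ⟨g, hg⟩ := (hN U₀ hU₀).2 g₀
    replace hg : r U₀ ≫ g = g₀ := hg
    have nat : ∀ v : R ⟶ U₀, r R ≫ v = (Over.pullback U.ι ⋙ Over.map U.ι).map v ≫ r U₀ := fun v =>
      ((Over.mapPullbackAdj U.ι).counit.naturality v).symm
    have hq : ∀ v : R ⟶ U₀, (Over.pullback U.ι ⋙ Over.map U.ι).map v ≫ q U₀ = q R := fun v =>
      Over.OverMorphism.ext (pullback.lift_snd _ _ _)
    have hts : t ≫ g = s ≫ g := (hN R hR).1 (by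
      show r R ≫ t ≫ g = r R ≫ s ≫ g
      rw [reassoc_of% nat t, reassoc_of% nat s, hg]
      simp only [Functor.comp_map] at nat hq ⊢
      apply (AlgSp.yon S).map_injective
      rw [Functor.map_comp, Functor.map_comp, hg₀, ← Category.assoc, ← Category.assoc]
      congr 1
      apply prod.hom_ext
      · rw [Category.assoc, Category.assoc, prod.lift_fst, ← Category.assoc, ← Category.assoc,
          ← Functor.map_comp, ← Functor.map_comp, ← nat t, ← nat s, Functor.map_comp, Functor.map_comp,
          Category.assoc, Category.assoc, sq.w]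
      · rw [Category.assoc, Category.assoc, prod.lift_snd, ← Functor.map_comp, ← Functor.map_comp, hq, hq])
    refine ⟨hcol.desc (Cofork.ofπ ((AlgSp.yon S).map g) (by rw [← Functor.map_comp, ← Functor.map_comp, hts])), ?_⟩
    have hfac := hcol.fac (Cofork.ofπ ((AlgSp.yon S).map g) (by rw [← Functor.map_comp, ← Functor.map_comp, hts]))
      WalkingParallelPair.one
    replace hfac : a ≫ hcol.desc (Cofork.ofπ ((AlgSp.yon S).map g)
        (by rw [← Functor.map_comp, ← Functor.map_comp, hts])) = (AlgSp.yon S).map g := hfac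
    show prod.fst ≫ _ = χ
    rw [← cancel_epi c, ← hg₀, ← hg, ← Category.assoc, prod.lift_fst, Category.assoc, hfac,
      Functor.map_comp]

end Groth.Agent.S13209
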