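import Groth.Statements.S13210
import Groth.Agent.AlgSp.Presheaf
import Groth.Agent.AlgSpCov.Sheaf
import Groth.Agent.AlgSp.Basic

set_option autoImplicit false
universe u
open CategoryTheory CategoryTheory.Limits AlgebraicGeometry
open AlgGrp AlgSp

namespace Groth.Agent.S13210

/-- Let S be a scheme, F an algebraic space over S which is separated over S, and G a finite group
acting on F by S-automorphisms. If i : Z → F exhibits the fppf sheaf Z as the sub-sheaf of G-fixed
points of F (i is G-invariant and every G-invariant morphism W → F factors uniquely through i), then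
Z is an algebraic space and i is a closed immersion (representable by closed immersions). (The
published statement also treats a locally separated F, whose fixed points form a subspace, and
compatibility with base change; this row states only the separated case.) -/
theorem result
    {S : Scheme.{u}} (F : AlgSp.Sp S) (hF : AlgSp.IsAlgSpace F) (hsep : AlgSp.IsSeparatedSp F)
    (G : Type u) [Group G] [Finite G] (ρ : G →* Aut F)
    (Z : AlgSp.Sp S) (i : Z ⟶ F) (hi : ∀ g : G, i ≫ (ρ g).hom = i)
    (huniv : ∀ (W : AlgSp.Sp S) (x : W ⟶ F), (∀ g : G, x ≫ (ρ g).hom = x) → ∃! z : W ⟶ Z, z ≫ i = x) :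
    AlgSp.IsAlgSpace Z ∧ AlgSp.RepWith @IsClosedImmersion i := by
  classical
  have hmonoP : ∀ {A B : AlgSp.Sp S} (a : A ⟶ B), RepWith @IsClosedImmersion a → Mono a := fun a ha =>
    Groth.Agent.AlgSp.mono_of_repWith (fun f hf => (have : IsClosedImmersion f := hf; inferInstance : Mono f)) a ha
  have key : ∀ T : Finset G, ∃ (ZT : AlgSp.Sp S) (j : ZT ⟶ F), RepWith @IsClosedImmersion j ∧
      (∀ g ∈ T, j ≫ (ρ g).hom = j) ∧
      ∀ (W : AlgSp.Sp S) (x : W ⟶ F), (∀ g ∈ T, x ≫ (ρ g).hom = x) → ∃ z, z ≫ j = x := by
    intro T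
    induction T using Finset.induction with
    | empty =>
      refine ⟨F, 𝟙 F, MorphismProperty.id_mem _ F, by simp, fun W x _ => ⟨x, Category.comp_id x⟩⟩
    | @insert g T hg ih =>
      obtain ⟨ZT, j, hj, hjT, hu⟩ := ih
      let d : ZT ⟶ F ⨯ F := prod.lift j (j ≫ (ρ g).hom)
      let k := pullback.snd (Limits.diag F) d
      have hk : RepWith @IsClosedImmersion k :=
        AlgSpCov.repWith_bc (IsPullback.of_hasPullback (Limits.diag F) d) hsep
      refine ⟨pullback (Limits.diag F) d, k ≫ j, AlgSpCov.repWith_comp hk hj, ?_, fun W x hx => ?_⟩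
      · intro g' hg'
        rcases Finset.mem_insert.1 hg' with rfl | hg'
        · have h := pullback.condition (f := Limits.diag F) (g := d)
          have h1 := congrArg (fun m => m ≫ prod.fst) h
          have h2 := congrArg (fun m => m ≫ prod.snd) h
          simp [d, Category.assoc, prod.lift_fst, prod.lift_snd] at h1 h2
          rw [Category.assoc]
          exact h2.symm.trans h1
        · rw [Category.assoc, hjT g' hg']
      · obtain ⟨z, hz⟩ := hu W x fun g' hg' => hx g' (Finset.mem_insert_of_mem hg')
        refine ⟨pullback.lift x z (prod.hom_ext ?_ ?_), ?_⟩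
        · simp [d, hz, prod.lift_fst]
        · simp [d, prod.lift_snd, reassoc_of% hz, hx g (Finset.mem_insert_self g T)]
        · rw [← Category.assoc, pullback.lift_snd, hz]
  have := Fintype.ofFinite G
  obtain ⟨ZT, j, hj, hjT, hu⟩ := key Finset.univ
  obtain ⟨a, ha⟩ := hu Z i fun g _ => hi g
  obtain ⟨b, hb, -⟩ := huniv ZT j fun g => hjT g (Finset.mem_univ g)
  have := hmonoP j hj
  have hab : a ≫ b = 𝟙 Z := (huniv Z i hi).unique (by rw [Category.assoc, hb, ha]) (Category.id_comp i)
  have hba : b ≫ a = 𝟙 ZT := by rw [← cancel_mono j, Category.assoc, ha, hb, Category.id_comp]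
  let e : Z ≅ ZT := ⟨a, b, hab, hba⟩
  have : IsIso a := e.isIso_hom
  have hi' : RepWith @IsClosedImmersion i := by
    rw [← ha]
    exact ((RepWith (S := S) @IsClosedImmersion).cancel_left_of_respectsIso a j).2 hj
  exact ⟨Groth.Agent.AlgSp.isAlgSpace_of_representable i hi'.1 hF, hi'⟩

end Groth.Agent.S13210
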