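import Groth.Statements.S5658
import Mathlib
-- import your own Groth.Agent.* helpers here

set_option autoImplicit false
universe u
open CAlg

namespace Groth.Agent.S5658

section
open Matrix

variable {R : Type u} [CommRing R] {n : ℕ}

local notation "GLn" R => Matrix.GeneralLinearGroup (Fin n) R

/-- being (the matrix of) an element of the commutator subgroup -/
def Good (M : Matrix (Fin n) (Fin n) R) : Prop :=
  ∃ g ∈ commutator (GLn R), (g : Matrix (Fin n) (Fin n) R) = M

theorem Good.one : Good (1 : Matrix (Fin n) (Fin n) R) := ⟨1, one_mem _, rfl⟩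

theorem Good.mul {M N : Matrix (Fin n) (Fin n) R} (hM : Good M) (hN : Good N) : Good (M * N) := by
  obtain ⟨g, hg, rfl⟩ := hM
  obtain ⟨h, hh, rfl⟩ := hN
  exact ⟨g * h, mul_mem hg hh, rfl⟩

theorem Good.cancel_left {U M : Matrix (Fin n) (Fin n) R} (hU : Good U) (h : Good (U * M)) : Good M := by
  obtain ⟨g, hg, rfl⟩ := hU
  obtain ⟨k, hk, hk'⟩ := h
  refine ⟨g⁻¹ * k, mul_mem (inv_mem hg) hk, ?_⟩
  rw [Units.val_mul, hk', ← mul_assoc, ← Units.val_mul, inv_mul_cancel, Units.val_one, one_mul]

theorem Good.cancel_right {U M : Matrix (Fin n) (Fin n) R} (hU : Good U) (h : Good (M * U)) : Good M := by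
  obtain ⟨g, hg, rfl⟩ := hU
  obtain ⟨k, hk, hk'⟩ := h
  refine ⟨k * g⁻¹, mul_mem hk (inv_mem hg), ?_⟩
  rw [Units.val_mul, hk', mul_assoc, ← Units.val_mul, mul_inv_cancel, Units.val_one, mul_one]

/-- diagonal matrices as units -/
def Dg : (Fin n → Rˣ) →* GLn R where
  toFun d := ⟨diagonal fun i => (d i : R), diagonal fun i => ((d i)⁻¹ : Rˣ),
    by rw [diagonal_mul_diagonal]; simp, by rw [diagonal_mul_diagonal]; simp⟩
  map_one' := by ext1; simp
  map_mul' d e := by ext1; simp [diagonal_mul_diagonal]

theorem Dg_coe (d : Fin n → Rˣ) : (Dg d : Matrix (Fin n) (Fin n) R) = diagonal fun i => (d i : R) := rfl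

/-- transvections as units -/
def El (i j : Fin n) (h : i ≠ j) (c : R) : GLn R :=
  ⟨transvection i j c, transvection i j (-c),
    by rw [transvection_mul_transvection_same i j h, add_neg_cancel, transvection_zero],
    by rw [transvection_mul_transvection_same i j h, neg_add_cancel, transvection_zero]⟩

theorem good_transvection {a : Rˣ} (ha : IsUnit ((a : R) - 1)) (i j : Fin n) (h : i ≠ j) (c : R) :
    Good (transvection i j c) := by
  classical
  obtain ⟨v, hv⟩ := ha
  let d : Fin n → Rˣ := Pi.mulSingle i a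
  let b : R := (↑v⁻¹ : R) * c
  refine ⟨Dg d * El i j h b * (Dg d)⁻¹ * (El i j h b)⁻¹, Subgroup.commutator_mem_commutator (Subgroup.mem_top _) (Subgroup.mem_top _), ?_⟩
  have h1 : (Dg d : Matrix (Fin n) (Fin n) R) * transvection i j b = transvection i j ((a : R) * b) * Dg d := by
    rw [Dg_coe, transvection, transvection, mul_add, add_mul, mul_one, one_mul]
    congr 1
    ext k l
    rw [diagonal_mul, mul_diagonal, single_apply, single_apply]
    by_cases hkl : i = k ∧ j = l
    · obtain ⟨rfl, rfl⟩ := hkl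
      simp [d, h.symm]
    · simp [hkl]
  simp only [Units.val_mul]
  show (Dg d : Matrix (Fin n) (Fin n) R) * transvection i j b * ((Dg d)⁻¹ : GLn R) * transvection i j (-b) = _
  rw [h1, mul_assoc (transvection i j ((a : R) * b)), ← Units.val_mul, mul_inv_cancel, Units.val_one, mul_one,
    transvection_mul_transvection_same i j h]
  congr 1
  simp only [b]
  linear_combination ((↑v⁻¹ : R) * c) * hv.symm + c * (Units.inv_mul v)

theorem good_diag (d : Fin n → Rˣ) (hd : ∏ i, d i = 1) : Good (diagonal fun i => (d i : R)) := by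
  classical
  rcases n.eq_zero_or_pos with hn | hn
  · subst hn
    exact ⟨1, one_mem _, Subsingleton.elim _ _⟩
  let i0 : Fin n := ⟨0, hn⟩
  refine ⟨Dg d, ?_, Dg_coe d⟩
  have hdec : d = ∏ i, (Pi.mulSingle i (d i) * Pi.mulSingle i0 (d i)⁻¹) := by
    rw [Finset.prod_mul_distrib, Finset.univ_prod_mulSingle]
    have : ∏ i, (Pi.mulSingle i0 (d i)⁻¹ : Fin n → Rˣ) = Pi.mulSingle i0 (∏ i, (d i)⁻¹) :=
      (map_prod (MonoidHom.mulSingle (fun _ : Fin n => Rˣ) i0) _ _).symm
    rw [this, Finset.prod_inv_distrib, hd, inv_one, Pi.mulSingle_one, mul_one]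
  rw [hdec]
  refine Subgroup.mem_comap.mp (Subgroup.prod_mem _ fun i _ => Subgroup.mem_comap.mpr ?_)
  by_cases hi : i = i0
  · subst hi
    rw [← Pi.mulSingle_mul, mul_inv_cancel, Pi.mulSingle_one, map_one]
    exact one_mem _
  let σ := Equiv.swap i i0
  let P : GLn R := ⟨σ.permMatrix R, σ.permMatrix R, by rw [← permMatrix_mul]; simp [σ],
    by rw [← permMatrix_mul]; simp [σ]⟩
  let e : Fin n → Rˣ := Pi.mulSingle i (d i)
  have hconj : P * Dg e⁻¹ * P⁻¹ = Dg (Pi.mulSingle i0 (d i)⁻¹) := by
    rw [mul_inv_eq_iff_eq_mul]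
    ext1
    simp only [Units.val_mul, Dg_coe]
    ext k l
    show (σ.permMatrix R * (diagonal _ : Matrix (Fin n) (Fin n) R)) k l = ((diagonal _ : Matrix (Fin n) (Fin n) R) * σ.permMatrix R) k l
    rw [mul_diagonal, diagonal_mul, Equiv.Perm.permMatrix, PEquiv.toMatrix_apply]
    by_cases hkl : σ k = l
    · subst hkl
      simp only [Equiv.toPEquiv_apply, Option.mem_def, if_true, one_mul, mul_one, e]
      congr 1
      rcases eq_or_ne k i0 with rfl | hk0
      · simp [σ]
      · rcases eq_or_ne k i with rfl | hk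
        · simp [σ, hi, Ne.symm hi]
        · simp [σ, Equiv.swap_apply_of_ne_of_ne hk hk0, hk, hk0]
    · simp [Equiv.toPEquiv_apply, hkl]
  rw [map_mul, ← hconj, map_inv, ← mul_assoc, ← mul_assoc]
  exact Subgroup.commutator_mem_commutator (Subgroup.mem_top _) (Subgroup.mem_top _)

theorem good_col {a : Rˣ} (ha : IsUnit ((a : R) - 1)) (j : Fin n) (v : Fin n → R) :
    ∀ T : Finset (Fin n), j ∉ T → Good (1 + ∑ i ∈ T, single i j (v i)) := by
  intro T
  induction T using Finset.induction_on with
  | empty => intro _; simpa using Good.one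
  | insert i T hi ih =>
    intro hj
    rw [Finset.mem_insert, not_or] at hj
    have := (ih hj.2).mul (good_transvection ha i j (Ne.symm hj.1) (v i))
    have h0 : ∀ k, single k j (v k) * single i j (v i) = (0 : Matrix (Fin n) (Fin n) R) :=
      fun k => single_mul_single_of_ne _ k j i hj.1 _
    rw [transvection, add_mul, one_mul, mul_add, mul_one, Finset.sum_mul] at this
    simp only [h0, Finset.sum_const_zero, add_zero] at this
    rw [Finset.sum_insert hi]
    convert this using 1
    abel

theorem good_row {a : Rˣ} (ha : IsUnit ((a : R) - 1)) (j : Fin n) (v : Fin n → R) :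
    ∀ T : Finset (Fin n), j ∉ T → Good (1 + ∑ i ∈ T, single j i (v i)) := by
  intro T
  induction T using Finset.induction_on with
  | empty => intro _; simpa using Good.one
  | insert i T hi ih =>
    intro hj
    rw [Finset.mem_insert, not_or] at hj
    have := (good_transvection ha j i hj.1 (v i)).mul (ih hj.2)
    have h0 : ∀ k, single j i (v i) * single j k (v k) = (0 : Matrix (Fin n) (Fin n) R) :=
      fun k => single_mul_single_of_ne _ j i j (Ne.symm hj.1) _
    rw [transvection, add_mul, one_mul, mul_add, mul_one, Finset.mul_sum] at this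
    simp only [h0, Finset.sum_const_zero, add_zero] at this
    rw [Finset.sum_insert hi]
    convert this using 1
    abel

theorem mul_col_apply (j : Fin n) (v : Fin n → R) (M : Matrix (Fin n) (Fin n) R) (i k : Fin n) :
    ((1 + ∑ l ∈ Finset.univ.erase j, single l j (v l)) * M : Matrix _ _ R) i k =
      M i k + (if i = j then 0 else v i * M j k) := by
  classical
  rw [add_mul, one_mul, Finset.sum_mul, Matrix.add_apply, Matrix.sum_apply]
  congr 1
  split_ifs with h
  · refine Finset.sum_eq_zero fun l hl => single_mul_apply_of_ne _ l j i k ?_ M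
    exact h ▸ Ne.symm (Finset.ne_of_mem_erase hl)
  · rw [Finset.sum_eq_single i (fun l _ hl => single_mul_apply_of_ne _ l j i k (Ne.symm hl) M)
      (fun hi => absurd (Finset.mem_erase.mpr ⟨h, Finset.mem_univ _⟩) hi), single_mul_apply_same]

theorem mul_row_apply (j : Fin n) (v : Fin n → R) (M : Matrix (Fin n) (Fin n) R) (i k : Fin n) :
    (M * (1 + ∑ l ∈ Finset.univ.erase j, single j l (v l)) : Matrix _ _ R) i k =
      M i k + (if k = j then 0 else M i j * v k) := by
  classical
  rw [mul_add, mul_one, Finset.mul_sum, Matrix.add_apply, Matrix.sum_apply]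
  congr 1
  split_ifs with h
  · refine Finset.sum_eq_zero fun l hl => mul_single_apply_of_ne _ j l i k ?_ M
    exact h ▸ Ne.symm (Finset.ne_of_mem_erase hl)
  · rw [Finset.sum_eq_single k (fun l _ hl => mul_single_apply_of_ne _ j l i k (Ne.symm hl) M)
      (fun hk => absurd (Finset.mem_erase.mpr ⟨h, Finset.mem_univ _⟩) hk), mul_single_apply_same]

theorem good_of_det [IsLocalRing R] {a : Rˣ} (ha : IsUnit ((a : R) - 1)) :
    ∀ (m : ℕ) (S : Finset (Fin n)), n - S.card = m → ∀ M : Matrix (Fin n) (Fin n) R, M.det = 1 →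
      (∀ k ∈ S, ∀ i, i ≠ k → M i k = 0 ∧ M k i = 0) → Good M := by
  classical
  intro m
  induction m with
  | zero =>
    intro S hS M hdet hM
    have hSu : S = Finset.univ := (Finset.card_eq_iff_eq_univ _).mp (by
      have := S.card_le_univ
      simp only [Fintype.card_fin] at this ⊢
      omega)
    have hdiag : M = diagonal fun i => M i i := by
      ext i k
      by_cases h : i = k
      · subst h; simp
      · rw [diagonal_apply_ne _ h]; exact (hM k (by simp [hSu]) i h).1
    have hprod : ∏ i, M i i = 1 := by rw [hdiag, det_diagonal] at hdet; exact hdet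
    have hu : ∀ i, IsUnit (M i i) := fun i => isUnit_of_dvd_one (hprod ▸ Finset.dvd_prod_of_mem _ (Finset.mem_univ i))
    let d : Fin n → Rˣ := fun i => (hu i).unit
    have := good_diag d (Units.ext (by simp [d, hprod]))
    rw [hdiag]
    exact this
  | succ m ih =>
    intro S hS M hdet hM
    obtain ⟨j, hjS⟩ : ∃ j, j ∉ S := by
      by_contra hcon
      push_neg at hcon
      rw [Finset.eq_univ_of_forall hcon, Finset.card_univ, Fintype.card_fin] at hS
      omega
    suffices key : ∀ N : Matrix (Fin n) (Fin n) R, N.det = 1 → (∀ k ∈ S, ∀ i, i ≠ k → N i k = 0 ∧ N k i = 0) →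
        IsUnit (N j j) → Good N by
      by_cases hu : IsUnit (M j j)
      · exact key M hdet hM hu
      · obtain ⟨i, hi⟩ : ∃ i, IsUnit (M i j) := by
          by_contra hcon
          push_neg at hcon
          have : (M.map (IsLocalRing.residue R)).det = 0 := det_eq_zero_of_column_eq_zero j fun i => by
            rw [map_apply, IsLocalRing.residue_eq_zero_iff]
            exact hcon i
          rw [← RingHom.mapMatrix_apply, ← RingHom.map_det, hdet, map_one] at this
          exact one_ne_zero this
        have hij : j ≠ i := fun h => hu (h ▸ hi)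
        refine (good_transvection ha j i hij 1).cancel_left (key _ (by rw [det_mul, det_transvection_of_ne _ _ hij, hdet, one_mul]) ?_ ?_)
        · intro k hk l hl
          have hkj : k ≠ j := fun h => hjS (h ▸ hk)
          have hik : i ≠ k := fun h => not_isUnit_zero ((hM k hk j hkj.symm).2 ▸ h ▸ hi)
          refine ⟨?_, ?_⟩
          · by_cases hlj : l = j
            · subst hlj
              rw [transvection_mul_apply_same, (hM k hk _ hl).1, (hM k hk i hik).1]; ring
            · rw [transvection_mul_apply_of_ne _ _ _ _ hlj, (hM k hk l hl).1]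
          · rw [transvection_mul_apply_of_ne _ _ _ _ hkj, (hM k hk l hl).2]
        · rw [transvection_mul_apply_same, one_mul]
          by_contra h
          exact IsLocalRing.nonunits_add h (show -M j j ∈ nonunits R from fun h' => hu (by simpa using h'.neg)) (by simpa using hi)
    intro N hN hNS hu
    obtain ⟨u, hu⟩ := hu
    let v : Fin n → R := fun i => -(N i j * ↑u⁻¹)
    let w : Fin n → R := fun k => -((↑u⁻¹ : R) * N j k)
    let U : Matrix (Fin n) (Fin n) R := 1 + ∑ l ∈ Finset.univ.erase j, single l j (v l)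
    let V : Matrix (Fin n) (Fin n) R := 1 + ∑ l ∈ Finset.univ.erase j, single j l (w l)
    have hU : Good U := good_col ha j v _ (Finset.notMem_erase _ _)
    have hV : Good V := good_row ha j w _ (Finset.notMem_erase _ _)
    have hdetU : ∀ {X : Matrix (Fin n) (Fin n) R}, Good X → X.det = 1 := by
      rintro X ⟨g, hg, rfl⟩
      have : g ∈ (Matrix.GeneralLinearGroup.det : (GLn R) →* Rˣ).ker := Abelianization.commutator_subset_ker _ hg
      exact congrArg Units.val this
    refine hU.cancel_left (hV.cancel_right (ih (insert j S) (by rw [Finset.card_insert_of_notMem hjS]; omega) _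
      (by rw [det_mul, det_mul, hdetU hU, hdetU hV, hN]; ring) ?_))
    have h1 : ∀ i, i ≠ j → (U * N) i j = 0 := fun i hi => by
      rw [mul_col_apply, if_neg hi]
      simp only [v, ← hu]
      linear_combination (-N i j) * (Units.inv_mul u)
    have h2 : (U * N) j j = N j j := by rw [mul_col_apply, if_pos rfl, add_zero]
    intro k hk i hik
    rcases Finset.mem_insert.mp hk with hkj | hkS
    · subst hkj
      refine ⟨?_, ?_⟩
      · rw [mul_row_apply, if_pos rfl, add_zero]; exact h1 i hik
      · rw [mul_row_apply, if_neg hik, h2, mul_col_apply, if_pos rfl, add_zero]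
        simp only [w, ← hu]
        linear_combination (-N k i) * (Units.mul_inv u)
    · have hkj : k ≠ j := fun h => hjS (h ▸ hkS)
      have hvk : N k j = 0 := (hNS k hkS j hkj.symm).2
      have hwk : N j k = 0 := (hNS k hkS j hkj.symm).1
      refine ⟨?_, ?_⟩
      · rw [mul_row_apply, if_neg hkj, mul_col_apply, mul_col_apply]
        simp [hwk, (hNS k hkS i hik).1, w]
      · rw [mul_row_apply, mul_col_apply, mul_col_apply]
        simp [hvk, (hNS k hkS i hik).2, v, hkj]

theorem spread {A' : Type u} [CommRing A'] (q : Ideal A') [q.IsPrime] (x : GLn (Localization.AtPrime q))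
    (hx : x ∈ commutator (GLn (Localization.AtPrime q))) :
    ∃ (g : A') (hg : g ∉ q), ∃ y ∈ commutator (GLn (Localization.Away g)),
      Matrix.GeneralLinearGroup.map (IsLocalization.Away.lift (S := Localization.Away g) g
        (g := algebraMap A' (Localization.AtPrime q)) (IsLocalization.map_units _ (⟨g, hg⟩ : q.primeCompl))) y = x := by
  classical
  let R₀ := Localization.AtPrime q
  let θ : ∀ g : A', g ∉ q → (Localization.Away g →+* R₀) := fun g hg =>
    IsLocalization.Away.lift (S := Localization.Away g) g (g := algebraMap A' R₀) (IsLocalization.map_units _ (⟨g, hg⟩ : q.primeCompl))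
  have hθ : ∀ g hg a, θ g hg (algebraMap A' _ a) = algebraMap A' R₀ a := fun g hg a => IsLocalization.Away.lift_eq _ _ _
  have push : ∀ g h (hg : g ∉ q) (hh : h ∉ q), g ∣ h → ∀ y : GLn (Localization.Away g),
      ∃ y' : GLn (Localization.Away h), Matrix.GeneralLinearGroup.map (θ h hh) y' = Matrix.GeneralLinearGroup.map (θ g hg) y ∧
        (y ∈ commutator (GLn (Localization.Away g)) → y' ∈ commutator (GLn (Localization.Away h))) := by
    intro g h hg hh hgh y
    have hu : IsUnit (algebraMap A' (Localization.Away h) g) :=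
      isUnit_of_dvd_unit (map_dvd _ hgh) (IsLocalization.Away.algebraMap_isUnit h)
    let ρ : Localization.Away g →+* Localization.Away h := IsLocalization.Away.lift g hu
    refine ⟨Matrix.GeneralLinearGroup.map ρ y, ?_, fun hy => ?_⟩
    · rw [← MonoidHom.comp_apply, ← Matrix.GeneralLinearGroup.map_comp]
      congr 2
      refine IsLocalization.ringHom_ext (Submonoid.powers g) (RingHom.ext fun a => ?_)
      simp only [RingHom.comp_apply, ρ, IsLocalization.Away.lift_eq, hθ]
    · have : commutator (GLn (Localization.Away g)) ≤ (commutator (GLn (Localization.Away h))).comap (Matrix.GeneralLinearGroup.map ρ) := by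
        rw [← Subgroup.map_le_iff_le_comap, commutator_def, Subgroup.map_commutator]
        exact Subgroup.commutator_mono le_top le_top
      exact this hy
  have lift : ∀ z : GLn R₀, ∃ g hg, ∃ y : GLn (Localization.Away g), Matrix.GeneralLinearGroup.map (θ g hg) y = z := by
    intro z
    obtain ⟨b, hb⟩ := IsLocalization.exist_integer_multiples_of_finite q.primeCompl
      (fun t : (Fin n × Fin n) ⊕ (Fin n × Fin n) => Sum.elim (fun ij => (z : Matrix _ _ R₀) ij.1 ij.2) (fun ij => ((z⁻¹ : GLn R₀) : Matrix _ _ R₀) ij.1 ij.2) t)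
    choose c hc using hb
    let M : Matrix (Fin n) (Fin n) A' := Matrix.of fun i k => c (.inl (i, k))
    let N : Matrix (Fin n) (Fin n) A' := Matrix.of fun i k => c (.inr (i, k))
    let f := algebraMap A' R₀
    have hM : f.mapMatrix M = f b • (z : Matrix _ _ R₀) := by
      ext i k
      rw [RingHom.mapMatrix_apply, map_apply, Matrix.smul_apply, smul_eq_mul]
      exact (hc (.inl (i, k))).trans (Algebra.smul_def _ _)
    have hN : f.mapMatrix N = f b • ((z⁻¹ : GLn R₀) : Matrix _ _ R₀) := by
      ext i k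
      rw [RingHom.mapMatrix_apply, map_apply, Matrix.smul_apply, smul_eq_mul]
      exact (hc (.inr (i, k))).trans (Algebra.smul_def _ _)
    have he : ∀ X Y : Matrix (Fin n) (Fin n) A', f.mapMatrix X = f.mapMatrix Y → ∃ t : q.primeCompl, (t : A') • X = (t : A') • Y := by
      intro X Y hXY
      have := fun ij : Fin n × Fin n => (IsLocalization.eq_iff_exists q.primeCompl R₀).mp (congrFun (congrFun hXY ij.1) ij.2)
      choose t ht using this
      refine ⟨∏ ij, t ij, ?_⟩
      ext i k
      simp only [Matrix.smul_apply, smul_eq_mul, Submonoid.coe_finsetProd]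
      rw [← Finset.prod_erase_mul _ _ (Finset.mem_univ (i, k)), mul_assoc, mul_assoc, ht]
    obtain ⟨t₁, ht₁⟩ := he (M * N) (((b : A') * b) • (1 : Matrix _ _ A')) (by
      rw [map_mul, hM, hN, smul_mul_smul_comm, ← Units.val_mul, mul_inv_cancel, Units.val_one]
      ext i k; by_cases h : i = k <;> simp [h, map_mul, f])
    obtain ⟨t₂, ht₂⟩ := he (N * M) (((b : A') * b) • (1 : Matrix _ _ A')) (by
      rw [map_mul, hM, hN, smul_mul_smul_comm, ← Units.val_mul, inv_mul_cancel, Units.val_one]
      ext i k; by_cases h : i = k <;> simp [h, map_mul, f])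
    let g : A' := b * t₁ * t₂
    have hg : g ∉ q := (b * t₁ * t₂ : q.primeCompl).2
    let L := Localization.Away g
    let l := algebraMap A' L
    have hgu : IsUnit (l g) := IsLocalization.Away.algebraMap_isUnit g
    obtain ⟨ub, hub⟩ : IsUnit (l b) := isUnit_of_dvd_unit (map_dvd _ ⟨(t₁ : A') * t₂, by simp only [g]; ring⟩) hgu
    have key : ∀ (t : q.primeCompl) (X : Matrix (Fin n) (Fin n) A'), (t : A') ∣ g → (t : A') • X = (t : A') • (((b : A') * b) • 1) →
        l.mapMatrix X = (l b * l b) • 1 := by
      intro t X htg hX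
      have hu : IsUnit (l t) := isUnit_of_dvd_unit (map_dvd _ htg) hgu
      ext i k
      have := congrArg l (congrFun (congrFun hX i) k)
      simp only [Matrix.smul_apply, smul_eq_mul, map_mul] at this
      rw [RingHom.mapMatrix_apply, map_apply, hu.mul_left_cancel this, Matrix.smul_apply, smul_eq_mul]
      congr 1; rw [Matrix.one_apply, Matrix.one_apply]; split_ifs <;> simp
    have k1 := key t₁ _ ⟨(b : A') * t₂, by simp only [g]; ring⟩ ht₁
    have k2 := key t₂ _ ⟨(b : A') * t₁, by simp only [g]; ring⟩ ht₂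
    rw [map_mul] at k1 k2
    let y : GLn L := ⟨(↑ub⁻¹ : L) • l.mapMatrix M, (↑ub⁻¹ : L) • l.mapMatrix N,
      by rw [smul_mul_smul_comm, k1, smul_smul, ← hub, mul_mul_mul_comm, Units.inv_mul, one_mul, one_smul],
      by rw [smul_mul_smul_comm, k2, smul_smul, ← hub, mul_mul_mul_comm, Units.inv_mul, one_mul, one_smul]⟩
    refine ⟨g, hg, y, Units.ext ?_⟩
    ext i k
    show θ g hg ((↑ub⁻¹ : L) * l (M i k)) = (z : Matrix _ _ R₀) i k
    have h1 : f b * θ g hg (↑ub⁻¹ : L) = 1 := by
      rw [← hθ g hg, ← map_mul, ← hub, Units.mul_inv, map_one]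
    have h2 : f (M i k) = f b * (z : Matrix _ _ R₀) i k := congrFun (congrFun hM i) k
    rw [map_mul, hθ g hg, h2, ← mul_assoc, mul_comm _ (f b), h1, one_mul]
  suffices hP : ∃ g hg, ∃ y ∈ commutator (GLn (Localization.Away g)), Matrix.GeneralLinearGroup.map (θ g hg) y = x from hP
  rw [commutator_eq_closure] at hx
  induction hx using Subgroup.closure_induction with
  | mem z hz =>
    obtain ⟨a₁, a₂, rfl⟩ := hz
    obtain ⟨g₁, hg₁, y₁, rfl⟩ := lift a₁
    obtain ⟨g₂, hg₂, y₂, rfl⟩ := lift a₂
    have hg : g₁ * g₂ ∉ q := q.primeCompl.mul_mem hg₁ hg₂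
    obtain ⟨z₁, hz₁, -⟩ := push g₁ (g₁ * g₂) hg₁ hg (dvd_mul_right _ _) y₁
    obtain ⟨z₂, hz₂, -⟩ := push g₂ (g₁ * g₂) hg₂ hg (dvd_mul_left _ _) y₂
    exact ⟨_, hg, z₁ * z₂ * z₁⁻¹ * z₂⁻¹, Subgroup.commutator_mem_commutator (Subgroup.mem_top _) (Subgroup.mem_top _),
      by rw [map_mul, map_mul, map_mul, map_inv, map_inv, hz₁, hz₂]; rfl⟩
  | one => exact ⟨1, q.primeCompl.one_mem, 1, one_mem _, map_one _⟩
  | mul u v _ _ hu hv =>
    obtain ⟨g₁, hg₁, y₁, hy₁, rfl⟩ := hu
    obtain ⟨g₂, hg₂, y₂, hy₂, rfl⟩ := hv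
    have hg : g₁ * g₂ ∉ q := q.primeCompl.mul_mem hg₁ hg₂
    obtain ⟨z₁, hz₁, hz₁'⟩ := push g₁ (g₁ * g₂) hg₁ hg (dvd_mul_right _ _) y₁
    obtain ⟨z₂, hz₂, hz₂'⟩ := push g₂ (g₁ * g₂) hg₂ hg (dvd_mul_left _ _) y₂
    exact ⟨_, hg, z₁ * z₂, mul_mem (hz₁' hy₁) (hz₂' hy₂), by rw [map_mul, hz₁, hz₂]⟩
  | inv u _ hu =>
    obtain ⟨g₁, hg₁, y₁, hy₁, rfl⟩ := hu
    exact ⟨g₁, hg₁, y₁⁻¹, inv_mem hy₁, map_inv _ _⟩

end

/-- On the big étale site of a scheme the sheaf of commutator subgroups of Gl(n) is Sl(n) = Ker(det).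
Concretely: let A be a commutative ring, n ≥ 0, s ∈ SL_n(A) and p a prime ideal of A. Then there are
an étale A-algebra A' with a prime ideal lying over p such that the image of s in GL_n(A') lies in
the commutator subgroup of GL_n(A'). (The inclusion of commutators in SL_n being clear, this is the
content of the statement.) -/
theorem result (A : Type u) [CommRing A] (n : ℕ)
    (s : Matrix.SpecialLinearGroup (Fin n) A) (p : PrimeSpectrum A) :
    ∃ (A' : Type u) (_ : CommRing A') (_ : Algebra A A'), Algebra.Etale A A' ∧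
      (∃ q : PrimeSpectrum A', q.asIdeal.comap (algebraMap A A') = p.asIdeal) ∧
      (Matrix.GeneralLinearGroup.map (algebraMap A A')) (Matrix.SpecialLinearGroup.toGL s) ∈
        commutator (Matrix.GeneralLinearGroup (Fin n) A') := by
  classical
  obtain ⟨B, iB1, iB2, hBet, q, hq, a, ha⟩ : ∃ (B : Type u) (_ : CommRing B) (_ : Algebra A B), Algebra.Etale A B ∧
      ∃ q : PrimeSpectrum B, q.asIdeal.comap (algebraMap A B) = p.asIdeal ∧ ∃ a : Bˣ, IsUnit ((a : B) - 1) := by
    by_cases h2 : (2 : A) ∈ p.asIdeal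
    · let P : StandardEtalePair A :=
        { f := Polynomial.X ^ 2 + Polynomial.X + 1
          monic_f := by monicity!
          g := 2 * Polynomial.X + 1
          cond := ⟨1, 0, 1, by simp [Polynomial.derivative_pow, one_add_one_eq_two, map_ofNat]⟩ }
      let Ω := AlgebraicClosure p.asIdeal.ResidueField
      have h20 : (2 : Ω) = 0 := by
        rw [← map_ofNat (algebraMap A Ω) 2, IsScalarTower.algebraMap_apply A p.asIdeal.ResidueField Ω,
          Ideal.algebraMap_residueField_eq_zero.mpr h2, map_zero]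
      obtain ⟨x, hx⟩ := IsAlgClosed.exists_root (Polynomial.X ^ 2 + Polynomial.X + 1 : Polynomial Ω)
        (by rw [show (Polynomial.X ^ 2 + Polynomial.X + 1 : Polynomial Ω).degree = 2 by compute_degree!]; simp)
      have hmap : P.HasMap x := ⟨by simpa [P, Polynomial.IsRoot] using hx, by simp [P, h20, map_ofNat]⟩
      let φ := P.lift x hmap
      have hX : Polynomial.aeval P.X P.f = 0 := P.hasMap_X.1
      obtain ⟨gu, hgu⟩ := P.hasMap_X.2
      simp only [P, map_add, map_pow, Polynomial.aeval_X, map_one] at hX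
      simp only [P, map_add, map_mul, map_ofNat, Polynomial.aeval_X, map_one] at hgu
      refine ⟨P.Ring, inferInstance, inferInstance, inferInstance, ⟨RingHom.ker φ.toRingHom, RingHom.ker_isPrime _⟩, ?_,
        ⟨P.X, -P.X - 1, by linear_combination -hX, by linear_combination -hX⟩, ?_⟩
      · ext r
        simp only [Ideal.mem_comap, RingHom.mem_ker, AlgHom.toRingHom_eq_coe, RingHom.coe_coe, AlgHom.commutes]
        rw [IsScalarTower.algebraMap_apply A p.asIdeal.ResidueField Ω, map_eq_zero,
          Ideal.algebraMap_residueField_eq_zero]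
      · refine isUnit_of_dvd_unit ⟨P.X + 2, ?_⟩ (gu.isUnit.mul gu.isUnit)
        rw [hgu]
        linear_combination 3 * hX
    · let B := Localization.Away (2 : A)
      have hu : IsUnit (algebraMap A B 2) := IsLocalization.Away.algebraMap_isUnit (2 : A)
      refine ⟨B, inferInstance, inferInstance, inferInstance, ⟨Ideal.map (algebraMap A B) p.asIdeal, ?_⟩, ?_, -1, ?_⟩
      · exact IsLocalization.isPrime_of_isPrime_disjoint (Submonoid.powers (2 : A)) B p.asIdeal p.2
          (Set.disjoint_left.mpr fun x hx hxp => by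
            obtain ⟨k, rfl⟩ := hx
            exact h2 (p.2.mem_of_pow_mem k hxp))
      · exact IsLocalization.comap_map_of_isPrime_disjoint (Submonoid.powers (2 : A)) B p.2
          (Set.disjoint_left.mpr fun x hx hxp => by
            obtain ⟨k, rfl⟩ := hx
            exact h2 (p.2.mem_of_pow_mem k hxp))
      · rw [show (((-1 : Bˣ) : B) - 1) = -algebraMap A B 2 by rw [map_ofNat, Units.val_neg, Units.val_one]; norm_num]
        exact hu.neg
  letI := iB1; letI := iB2
  haveI := hBet
  let R₀ := Localization.AtPrime q.asIdeal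
  let f : B →+* R₀ := algebraMap B R₀
  let s₀ : Matrix (Fin n) (Fin n) R₀ := (s : Matrix (Fin n) (Fin n) A).map (f.comp (algebraMap A B))
  have hgood : Good s₀ := good_of_det (a := Units.map f a) (by simpa using ha.map f) n ∅ (by simp) s₀ (by
    have := RingHom.map_det (f.comp (algebraMap A B)) (s : Matrix (Fin n) (Fin n) A)
    rw [s.2, map_one] at this
    exact this.symm) (by simp)
  obtain ⟨x, hx, hxs⟩ := hgood
  obtain ⟨g, hg, y, hy, hyx⟩ := spread q.asIdeal x hx
  let L := Localization.Away g
  let sL : Matrix (Fin n) (Fin n) L := (s : Matrix (Fin n) (Fin n) A).map (algebraMap A L)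
  have hdiff : ∀ i k, ∃ c : B, c ∉ q.asIdeal ∧ algebraMap B L c * ((y : Matrix _ _ L) i k - sL i k) = 0 := by
    intro i k
    obtain ⟨⟨a₀, t⟩, ht⟩ := IsLocalization.surj (Submonoid.powers g) ((y : Matrix _ _ L) i k - sL i k)
    have h0 : IsLocalization.Away.lift (S := L) g (g := f) (IsLocalization.map_units _ (⟨g, hg⟩ : q.asIdeal.primeCompl))
        ((y : Matrix _ _ L) i k - sL i k) = 0 := by
      rw [map_sub, sub_eq_zero]
      have h1 := congrArg (fun z : Matrix.GeneralLinearGroup (Fin n) R₀ => (z : Matrix _ _ R₀) i k) hyx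
      refine h1.trans ?_
      rw [congrFun (congrFun hxs i) k]
      simp only [sL, s₀, Matrix.map_apply, RingHom.comp_apply]
      rw [IsScalarTower.algebraMap_apply A B L, IsLocalization.Away.lift_eq]
    have ha0 : f a₀ = 0 := by
      have := congrArg (IsLocalization.Away.lift (S := L) g (g := f) (IsLocalization.map_units _ (⟨g, hg⟩ : q.asIdeal.primeCompl))) ht
      rw [map_mul, h0, zero_mul, IsLocalization.Away.lift_eq] at this
      exact this.symm
    obtain ⟨c, hc⟩ := (IsLocalization.map_eq_zero_iff q.asIdeal.primeCompl R₀ a₀).mp ha0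
    refine ⟨c, c.2, ?_⟩
    refine (IsLocalization.map_units L t).mul_left_eq_zero.mp ?_
    rw [mul_assoc, ht, ← map_mul, hc, map_zero]
  choose c hcq hc using hdiff
  let G : B := g * ∏ ik : Fin n × Fin n, c ik.1 ik.2
  have hG : G ∉ q.asIdeal := q.asIdeal.primeCompl.mul_mem hg (prod_mem fun ik _ => hcq _ _)
  let A' := Localization.Away G
  have hdisj : Disjoint ((Submonoid.powers G : Submonoid B) : Set B) (q.asIdeal : Set B) :=
    Set.disjoint_left.mpr fun x hx hxp => by
      obtain ⟨k, rfl⟩ := hx
      exact hG (q.2.mem_of_pow_mem k hxp)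
  refine ⟨A', inferInstance, inferInstance, Algebra.Etale.comp A B A',
    ⟨⟨Ideal.map (algebraMap B A') q.asIdeal, IsLocalization.isPrime_of_isPrime_disjoint _ A' q.asIdeal q.2 hdisj⟩, ?_⟩, ?_⟩
  · rw [IsScalarTower.algebraMap_eq A B A', ← Ideal.comap_comap]
    show Ideal.comap (algebraMap A B) (Ideal.under B (Ideal.map (algebraMap B A') q.asIdeal)) = _
    rw [IsLocalization.comap_map_of_isPrime_disjoint _ A' q.2 hdisj, hq]
  let ρ : L →+* A' := IsLocalization.Away.lift g
    (isUnit_of_dvd_unit (map_dvd (algebraMap B A') (dvd_mul_right g _)) (IsLocalization.Away.algebraMap_isUnit G))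
  have hy' : Matrix.GeneralLinearGroup.map ρ y ∈ commutator (Matrix.GeneralLinearGroup (Fin n) A') := by
    have : commutator (Matrix.GeneralLinearGroup (Fin n) L) ≤ (commutator (Matrix.GeneralLinearGroup (Fin n) A')).comap (Matrix.GeneralLinearGroup.map ρ) := by
      rw [← Subgroup.map_le_iff_le_comap, commutator_def, Subgroup.map_commutator]
      exact Subgroup.commutator_mono le_top le_top
    exact this hy
  convert hy' using 1
  ext i k
  show algebraMap A A' ((s : Matrix (Fin n) (Fin n) A) i k) = ρ ((y : Matrix _ _ L) i k)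
  have hci := congrArg ρ (hc i k)
  rw [map_mul, map_zero, IsLocalization.Away.lift_eq, map_sub] at hci
  have hu : IsUnit (algebraMap B A' (c i k)) :=
    isUnit_of_dvd_unit (map_dvd _ (dvd_mul_of_dvd_right (Finset.dvd_prod_of_mem (fun ik : Fin n × Fin n => c ik.1 ik.2) (Finset.mem_univ (i, k))) g)) (IsLocalization.Away.algebraMap_isUnit G)
  rw [hu.mul_right_eq_zero, sub_eq_zero] at hci
  rw [hci]
  simp only [sL, Matrix.map_apply]
  rw [IsScalarTower.algebraMap_apply A B L, IsLocalization.Away.lift_eq, ← IsScalarTower.algebraMap_apply]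

end Groth.Agent.S5658
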