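import Groth.Statements.S13341
-- import your own Groth.Agent.* helpers here

set_option autoImplicit false
open CategoryTheory
universe u
open FCompl

namespace Groth.Agent.S13341

open CategoryTheory CategoryTheory.Limits in
/-- Graphs of a compatible pair of morphisms form a cartesian square along monomorphisms. -/
theorem isPullback_graph {C : Type*} [Category C] [HasPullbacks C] {A A' B B' S S' : C}
    (a : A ⟶ A') (b : B ⟶ B') (σ : S ⟶ S') [Mono b] (p : A ⟶ S) (p' : A' ⟶ S') (q : B ⟶ S)
    (q' : B' ⟶ S') (hp : p ≫ σ = a ≫ p') (hq : q ≫ σ = b ≫ q') (f : A ⟶ B) (f' : A' ⟶ B')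
    (hf : f ≫ b = a ≫ f') (hw : f ≫ q = p) (hw' : f' ≫ q' = p') :
    IsPullback a (pullback.lift (𝟙 A) f (by rw [Category.id_comp, hw]))
      (pullback.lift (𝟙 A') f' (by rw [Category.id_comp, hw']))
      (pullback.map p q p' q' a b σ hp hq) := by
  have c1 : a ≫ pullback.lift (𝟙 A') f' (by rw [Category.id_comp, hw']) =
      pullback.lift (𝟙 A) f (by rw [Category.id_comp, hw]) ≫ pullback.map p q p' q' a b σ hp hq := by
    apply pullback.hom_ext <;> simp only [pullback.map, pullback.lift_fst, pullback.lift_snd, pullback.lift_fst_assoc, pullback.lift_snd_assoc, Category.id_comp, Category.comp_id, Category.assoc, hf]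
  refine IsPullback.of_isLimit' ⟨c1⟩
    (PullbackCone.IsLimit.mk _ (fun s => s.snd ≫ pullback.fst _ _) (fun s => ?_) (fun s => ?_)
      fun s m h₁ h₂ => ?_)
  · have e := congrArg (fun t => t ≫ pullback.fst _ _) s.condition
    simp only [pullback.map, pullback.lift_fst, pullback.lift_snd, pullback.lift_fst_assoc, pullback.lift_snd_assoc, Category.id_comp, Category.comp_id, Category.assoc] at e
    simpa only [Category.assoc] using e.symm
  · apply pullback.hom_ext
    · simp only [pullback.lift_fst, pullback.lift_snd, pullback.lift_fst_assoc, pullback.lift_snd_assoc, Category.id_comp, Category.comp_id, Category.assoc]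
    · simp only [pullback.lift_fst, pullback.lift_snd, pullback.lift_fst_assoc, pullback.lift_snd_assoc, Category.id_comp, Category.comp_id, Category.assoc]
      rw [← cancel_mono b]
      have e1 := congrArg (fun t => t ≫ pullback.fst _ _) s.condition
      have e2 := congrArg (fun t => t ≫ pullback.snd _ _) s.condition
      simp only [pullback.map, pullback.lift_fst, pullback.lift_snd, pullback.lift_fst_assoc, pullback.lift_snd_assoc, Category.id_comp, Category.comp_id, Category.assoc] at e1 e2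
      simp only [Category.assoc]
      rw [hf, ← reassoc_of% e1, e2]
  · rw [← h₂]
    simp only [pullback.lift_fst, pullback.lift_snd, pullback.lift_fst_assoc, pullback.lift_snd_assoc, Category.id_comp, Category.comp_id, Category.assoc]

open AlgebraicGeometry in
/-- Formal schemes are presented as locally Noetherian adic systems of thickenings and the fibre product
is taken levelwise (it presents the fibre product of formal schemes since one factor is adic over
the base). Let 𝔖 be a locally Noetherian formal system, 𝔛 and 𝔜 locally Noetherian formal systems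
over 𝔖 such that 𝔛 or 𝔜 is of finite type over 𝔖, and 𝔜 separated over 𝔖 at level 0. Then for every
𝔖-morphism f : 𝔛 → 𝔜 the graph morphism 𝔛 → 𝔛 ×_𝔖 𝔜 is a closed immersion: adic, with level 0 a
closed immersion. -/
theorem result {𝔛 𝔜 𝔖 : FSch.Sys.{u}} (h𝔖 : 𝔖.IsLocNoethFormal) (h𝔛 : 𝔛.IsLocNoethFormal)
    (h𝔜 : 𝔜.IsLocNoethFormal) (p : 𝔛 ⟶ 𝔖) (q : 𝔜 ⟶ 𝔖) (hpq : FSch.IsFiniteTypeHom p ∨ FSch.IsFiniteTypeHom q)
    (hq : IsSeparated ((q : FSch.Hom 𝔜 𝔖).app 0)) (f : 𝔛 ⟶ 𝔜) (w : f ≫ q = p) :
    FSch.IsClosedImmHom (FSch.graph f p q w) := by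
  haveI := hq
  refine ⟨fun n => ?_, ?_⟩
  · haveI : IsClosedImmersion (𝔜.ι n) := (h𝔜.1 n).1
    exact isPullback_graph (𝔛.ι n) (𝔜.ι n) (𝔖.ι n) _ _ _ _ ((p : FSch.Hom 𝔛 𝔖).comm n)
      ((q : FSch.Hom 𝔜 𝔖).comm n) _ _ ((f : FSch.Hom 𝔛 𝔜).comm n)
      (by rw [← FSch.comp_app, w]) (by rw [← FSch.comp_app, w])
  · haveI : IsSeparated (Limits.pullback.fst ((p : FSch.Hom 𝔛 𝔖).app 0) ((q : FSch.Hom 𝔜 𝔖).app 0)) :=
      MorphismProperty.pullback_fst _ _ hq
    haveI : IsClosedImmersion (Limits.pullback.lift (𝟙 (𝔛.X 0)) ((f : FSch.Hom 𝔛 𝔜).app 0)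
          (by rw [Category.id_comp, ← FSch.comp_app, w]) ≫
        Limits.pullback.fst ((p : FSch.Hom 𝔛 𝔖).app 0) ((q : FSch.Hom 𝔜 𝔖).app 0)) := by
      rw [Limits.pullback.lift_fst]
      infer_instance
    exact @IsClosedImmersion.of_comp _ _ _ (Limits.pullback.lift (𝟙 (𝔛.X 0)) ((f : FSch.Hom 𝔛 𝔜).app 0) _) (Limits.pullback.fst ((p : FSch.Hom 𝔛 𝔖).app 0) ((q : FSch.Hom 𝔜 𝔖).app 0)) _ _

end Groth.Agent.S13341
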