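import Groth.Statements.S13345
import Groth.Agent.PullFlatStalk.Completion

set_option autoImplicit false
open CategoryTheory CategoryTheory.Limits
universe u
open FCompl

namespace Groth.Agent.S13345

open AlgebraicGeometry in
/-- For a locally Noetherian scheme X and a quasi-coherent ideal sheaf 𝓘, the canonical morphism of
ringed spaces from the completion X̂ of X along 𝓘 (the system of closed subschemes of the powers of
𝓘, with structure sheaf lim O_{X_k}) to X is flat; flatness of a morphism of ringed spaces is
rendered as exactness (preservation of finite limits) of its inverse image functor on modules. -/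
theorem result (X : Scheme.{u}) [IsLocallyNoetherian X] (𝓘 : X.IdealSheafData)
    (h : (FSch.completionAlong X 𝓘).IsFormal) :
    ModSite.RMor.IsFlat (FSch.toSchemeMor (FSch.completionAlong X 𝓘) h (FSch.completionToX X 𝓘) (FSch.completionToX_comm X 𝓘)) := by

  refine Groth.Agent.PullFlatStalk.isFlat_of_stalkHom (FSch.completionToX X 𝓘 0).base _ fun x => ?_
  unfold Groth.Agent.PullFlatStalk.stalkHom
  rw [CommRingCat.hom_comp]
  exact RingHom.Flat.comp (RingHom.Flat.of_bijective (ConcreteCategory.bijective_of_isIso
    (Groth.Agent.InjMod.PointStalk.fiberIso ((FSch.completionToX X 𝓘 0).base x) X.sheaf.obj).hom))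
    (Groth.Agent.PullFlatStalk.flat_stalk X 𝓘 h x)

end Groth.Agent.S13345
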