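import Groth.Statements.S13347
import Groth.Agent.AffThick.Nil

set_option autoImplicit false
open CategoryTheory CategoryTheory.Limits
universe u
open Opposite
open FCompl

namespace Groth.Agent.S13347

open AlgebraicGeometry in
/-- Let (X_i) be an inductive system of preschemes on one underlying space with surjective transition
homomorphisms whose kernels O_{X_i} → O_{X_0} are locally nilpotent — here a system of thickenings
(closed immersions surjective on points) with the kernel ideal of X_0 → X_i nilpotent on every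
affine open of X_i — and O_𝔛 = lim O_{X_i} the structure sheaf of the formal prescheme it defines.
Then the canonical homomorphisms O_𝔛 → O_{X_i} are surjective: over every affine open U of X_0 the
map on sections Γ(U, O_𝔛) → Γ(U_i, O_{X_i}) is onto. -/
theorem result (𝔛 : FSch.Sys.{u}) (h : 𝔛.IsFormal)
    (hb : ∀ (i : ℕ) (V : (𝔛.X i).affineOpens), IsNilpotent ((𝔛.toX i).ker.ideal V))
    (i : ℕ) (U : (𝔛.X 0).Opens) (hU : IsAffineOpen U) :
    Function.Surjective ((𝔛.OshProj h i).hom.app (op U)) := by
  have hsurj : ∀ n, Function.Surjective ((𝔛.levelMap h n).hom.app (op U)).hom := fun n => by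
    haveI := (h n).1
    haveI := FSch.Sys.toX_isClosedImmersion 𝔛 h (n + 1)
    haveI : Surjective (𝔛.toX (n + 1)) := ⟨FSch.Sys.toX_surjective 𝔛 h (n + 1)⟩
    let V := 𝔛.lvU h (n + 1) U
    have hpre : (𝔛.toX (n + 1)) ⁻¹ᵁ V = U := by
      change (TopologicalSpace.Opens.map ((𝔛.toX (n + 1)).base ≫ 𝔛.gInv h (n + 1))).obj U = U
      rw [FSch.Sys.toX_base_gInv]
      rfl
    haveI : IsAffine ((𝔛.toX (n + 1)) ⁻¹ᵁ V : (𝔛.X 0).Opens).toScheme := by rw [hpre]; exact hU
    haveI : Surjective (𝔛.toX (n + 1) ∣_ V) := IsZariskiLocalAtTarget.restrict ‹_› V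
    have hV : IsAffineOpen V := Groth.Agent.AffThick.isAffine_of_surjective (𝔛.toX (n + 1) ∣_ V)
    change Function.Surjective ((𝔛.ι n).appLE V (𝔛.lvU h n U) (𝔛.lvU_le h n U)).hom
    have e : (homOfLE (𝔛.lvU_le h n U)).op =
        eqToHom (congrArg op (𝔛.lvU_succ h n U)) := Subsingleton.elim _ _
    rw [Scheme.Hom.appLE, e]
    refine (ConcreteCategory.bijective_of_isIso ((𝔛.X n).presheaf.map _)).surjective.comp ?_
    exact (𝔛.ι n).app_surjective V hV
  let G : Sheaf (Opens.grothendieckTopology (𝔛.X 0)) CommRingCat.{u} ⥤ CommRingCat.{u} :=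
    sheafToPresheaf _ _ ⋙ (evaluation _ _).obj (op U)
  have hlimG : IsLimit ((G ⋙ forget CommRingCat.{u}).mapCone (limit.cone (𝔛.levelRing h))) :=
    isLimitOfPreserves _ (limit.isLimit _)
  let F := 𝔛.levelRing h ⋙ G ⋙ forget CommRingCat.{u}
  have hF : ∀ n, Function.Surjective (F.map (homOfLE (Nat.le_add_right n 1)).op) :=
    fun n => by
      simp only [F, Functor.comp_map]
      erw [FSch.Sys.levelRing_map_succ]
      exact hsurj n
  intro a
  let sq : ∀ k, F.obj (op (i + k)) := fun k => Nat.rec (motive := fun k => F.obj (op (i + k))) a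
    (fun k b => (hF (i + k) b).choose) k
  have hsq : ∀ k, F.map (homOfLE (Nat.le_add_right (i + k) 1)).op (sq (k + 1)) = sq k :=
    fun k => (hF (i + k) (sq k)).choose_spec
  have hz : ∀ k, F.map (homOfLE (Nat.le_add_right i k)).op (sq k) = a := fun k => by
    induction k with
    | zero => exact ConcreteCategory.congr_hom (F.map_id (op i)) a
    | succ k ih =>
      refine (ConcreteCategory.congr_hom (F.map_comp (homOfLE (Nat.le_add_right (i + k) 1)).op
        (homOfLE (Nat.le_add_right i k)).op) (sq (k + 1))).trans ?_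
      exact (congrArg (F.map _) (hsq k)).trans ih
  have hc : ∀ {p q r : ℕᵒᵖ} (f : p ⟶ q) (g : q ⟶ r) (k : p ⟶ r) (x : F.obj p),
      F.map g (F.map f x) = F.map k x := fun f g k x => by
    rw [Subsingleton.elim k (f ≫ g)]
    exact (ConcreteCategory.congr_hom (F.map_comp f g) x).symm
  let z : ∀ n, F.obj (op n) := fun n => F.map (homOfLE (Nat.le_add_left n i)).op (sq n)
  let s : Cone F :=
    { pt := PUnit.{u + 1}
      π := NatTrans.ofOpSequence (fun n => ↾fun _ => z n) (fun n => by
        ext x
        suffices e : F.map (homOfLE n.le_succ).op (z (n + 1)) = z n from e.symm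
        simp only [z]
        rw [← hsq n]
        exact (hc _ _ (homOfLE (by omega : n ≤ i + (n + 1))).op _).trans (hc _ _ _ _).symm) }
  refine ⟨hlimG.lift s PUnit.unit, ?_⟩
  exact (ConcreteCategory.congr_hom (hlimG.fac s (op i)) PUnit.unit).trans (hz i)

end Groth.Agent.S13347
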