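import Groth.Statements.S1335
import Groth.Agent.SecComp.GeomNear
import Groth.Agent.Wt.GenFibCount

set_option autoImplicit false
universe u
open FlatMor

namespace Groth.Agent.S1335

open AlgebraicGeometry CategoryTheory Limits in
/-- The function on the target counting the connected components of the geometric fibres is compatible
with base change: for a cartesian square it is obtained on the new base by composing with the map to
the old base. -/
theorem result {X Y X' Y' : Scheme.{u}} (f : X ⟶ Y) (f' : X' ⟶ Y') (g' : X' ⟶ X) (g : Y' ⟶ Y)
    (hc : IsPullback g' f' f g) (y' : Y') :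
    MoreMor.nGeomConnComp f' y' = MoreMor.nGeomConnComp f (g y') := by
  obtain ⟨L, _, _, pt, hpt⟩ := Groth.Agent.SecComp.exists_algClosed_point Y' y'
  let e : pullback f' pt ≅ pullback f (pt ≫ g) :=
    ((IsPullback.of_hasPullback f' pt).paste_horiz hc).isoPullback
  have h := (Groth.Agent.SecComp.nGeom_eq f' pt).2
  have h' := (Groth.Agent.SecComp.nGeom_eq f (pt ≫ g)).2
  rw [Scheme.Hom.comp_apply, hpt] at h'
  rw [hpt] at h
  rw [← h, ← h']
  exact Groth.Agent.Wt.GenFib.card_connectedComponents_of_homeomorph (Scheme.homeoOfIso e)

end Groth.Agent.S1335
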