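import Groth.Statements.S13352
import Groth.Agent.Adic.CV.GenericPoints
-- import your own Groth.Agent.* helpers here

set_option autoImplicit false
universe u
open scoped TensorProduct
open AdicRing

namespace Groth.Agent.S13352

/-- Let R be a complete valuation ring of height one with t a nonzero element generating an ideal of
definition and K its field of fractions, A an admissible R-algebra, and f_1, ..., f_n elements of A
⊗_R K that are integral over A. Then A' = A[f_1, ..., f_n], a subalgebra of A ⊗_R K, is an
admissible R-algebra which is finite over A. (The published hypothesis is that each f_i has supremum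
seminorm at most 1 on the affinoid algebra A ⊗_R K; integrality of the f_i over A is what is derived
from it and used, and is the hypothesis taken here.) -/
theorem result
    (R : Type u) [CommRing R] [IsDomain R] [ValuationRing R] [Ring.KrullDimLE 1 R]
    (t : R) (ht : t ≠ 0) [IsAdicComplete (Ideal.span {t}) R]
    (A : Type u) [CommRing A] [Algebra R A] (hA : AdicRing.Admissible R (Ideal.span {t}) A)
    (n : ℕ) (f : Fin n → A ⊗[R] FractionRing R) (hf : ∀ i, IsIntegral A (f i)) :
    AdicRing.Admissible R (Ideal.span {t}) ↥(Algebra.adjoin A (Set.range f)) ∧
      Module.Finite A ↥(Algebra.adjoin A (Set.range f)) := by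
  obtain ⟨⟨m, φ, hφ, -⟩, -⟩ := hA
  exact Groth.Agent.Adic.CV.finite_admissible_adjoin ht A ⟨m, φ, hφ⟩ f hf

end Groth.Agent.S13352
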