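import Groth.Statements.S13358
import Groth.Agent.GaExt.Cocycle

set_option autoImplicit false
universe u
open GaDual

namespace Groth.Agent.S13358

open Groth.Agent.GaExt

lemma ioo_eq (p : ℕ) : Finset.Ioo 0 p = Finset.Ico 1 p := by ext; simp [Finset.mem_Ioo, Finset.mem_Ico]; omega

lemma aeval_shape (p : ℕ) [Fact p.Prime] {R : Type u} [CommRing R] {σ : Type} (w : Fin 2 → MvPolynomial σ R)
    (G : Polynomial R) (N : ℕ) (r : ℕ → R) :
    MvPolynomial.aeval w (Polynomial.aeval (MvPolynomial.X 0 + MvPolynomial.X 1 : MvPolynomial (Fin 2) R) G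
              - Polynomial.aeval (MvPolynomial.X 0 : MvPolynomial (Fin 2) R) G
              - Polynomial.aeval (MvPolynomial.X 1 : MvPolynomial (Fin 2) R) G
            + ∑ i ∈ Finset.range N, MvPolynomial.C (r i) *
                MvPolynomial.aeval ![MvPolynomial.X 0 ^ p ^ i, MvPolynomial.X 1 ^ p ^ i]
                  (∑ j ∈ Finset.Ioo 0 p, MvPolynomial.C ((p.choose j / p : ℕ) : R) *
                    MvPolynomial.X 0 ^ j * MvPolynomial.X 1 ^ (p - j) : MvPolynomial (Fin 2) R)) =
      -delta MvPolynomial.C G (w 0) (w 1) -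
        ∑ i ∈ Finset.range N, MvPolynomial.C (r i) * wfun p (w 0 ^ p ^ i) (w 1 ^ p ^ i) := by
  rw [map_add, map_sub, map_sub, map_sum, sub_eq_add_neg (-delta _ _ _ _), ← Finset.sum_neg_distrib]
  congr 1
  · simp only [← Polynomial.aeval_algHom_apply, map_add, MvPolynomial.aeval_X, delta]
    simp only [Polynomial.aeval_def, MvPolynomial.algebraMap_eq]
    ring
  · refine Finset.sum_congr rfl fun i _ => ?_
    simp [wfun, map_sum, Finset.mul_sum, ioo_eq, mul_assoc]

/-- Over a commutative algebra R of prime characteristic p, a polynomial F(X,Y) is symmetric and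
satisfies the two-cocycle identity F(X,Y+Z) + F(Y,Z) − F(X+Y,Z) − F(X,Y) = 0 if and only if it has
the form G(X+Y) − G(X) − G(Y) + Σ_i r_i S(X^(p^i), Y^(p^i)) with G a one-variable polynomial, r_i in
R and S(X,Y) = Σ_{0<j<p} (C(p,j)/p) X^j Y^(p−j) the reduction mod p of ((X+Y)^p − X^p − Y^p)/p. -/
theorem result (p : ℕ) [Fact p.Prime] (R : Type u) [CommRing R] [CharP R p]
    (F : MvPolynomial (Fin 2) R) :
    (MvPolynomial.aeval ![MvPolynomial.X 1, MvPolynomial.X 0] F = F ∧
      MvPolynomial.aeval ![MvPolynomial.X 0, MvPolynomial.X 1 + MvPolynomial.X 2] F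
          + MvPolynomial.aeval ![MvPolynomial.X 1, MvPolynomial.X 2] F
          - MvPolynomial.aeval ![MvPolynomial.X 0 + MvPolynomial.X 1, MvPolynomial.X 2] F
          - MvPolynomial.aeval ![MvPolynomial.X 0, MvPolynomial.X 1] F = (0 : MvPolynomial (Fin 3) R)) ↔
      ∃ (G : Polynomial R) (N : ℕ) (r : ℕ → R),
        F = Polynomial.aeval (MvPolynomial.X 0 + MvPolynomial.X 1 : MvPolynomial (Fin 2) R) G
              - Polynomial.aeval (MvPolynomial.X 0 : MvPolynomial (Fin 2) R) G
              - Polynomial.aeval (MvPolynomial.X 1 : MvPolynomial (Fin 2) R) G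
            + ∑ i ∈ Finset.range N, MvPolynomial.C (r i) *
                MvPolynomial.aeval ![MvPolynomial.X 0 ^ p ^ i, MvPolynomial.X 1 ^ p ^ i]
                  (∑ j ∈ Finset.Ioo 0 p, MvPolynomial.C ((p.choose j / p : ℕ) : R) *
                    MvPolynomial.X 0 ^ j * MvPolynomial.X 1 ^ (p - j) : MvPolynomial (Fin 2) R) := by
  constructor
  · rintro ⟨hs, hc⟩
    have hF : F ∈ (⊤ : Ideal R).map MvPolynomial.C := by simp [Ideal.map_top]
    obtain ⟨G, M, c, -, -, h⟩ := exists_decomposition_mod p (⊤ : Ideal R) ⊥ F hF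
      (by rw [sub_eq_zero.2 hs]; exact Submodule.zero_mem _)
      (by convert Submodule.zero_mem _; linear_combination -hc)
    rw [Ideal.map_bot, Ideal.mem_bot, sub_eq_zero] at h
    refine ⟨-G, M, fun s => -c s, ?_⟩
    have e := aeval_shape p (MvPolynomial.X : Fin 2 → MvPolynomial (Fin 2) R) (-G) M (fun s => -c s)
    rw [MvPolynomial.aeval_X_left_apply] at e
    rw [e, h]
    simp [delta]
    ring
  · rintro ⟨G, N, r, rfl⟩
    refine ⟨?_, ?_⟩
    · have e := aeval_shape p (MvPolynomial.X : Fin 2 → MvPolynomial (Fin 2) R) G N r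
      rw [MvPolynomial.aeval_X_left_apply] at e
      rw [aeval_shape, e]
      simp only [Matrix.cons_val_zero, Matrix.cons_val_one, Matrix.cons_val_fin_one, delta,
        add_comm (MvPolynomial.X 1 : MvPolynomial (Fin 2) R) (MvPolynomial.X 0)]
      rw [Finset.sum_congr rfl fun i (_ : i ∈ Finset.range N) =>
        congrArg (MvPolynomial.C (r i) * ·) (wfun_comm p ((MvPolynomial.X 1 : MvPolynomial (Fin 2) R) ^ p ^ i) (MvPolynomial.X 0 ^ p ^ i))]
      ring
    · simp only [aeval_shape, Matrix.cons_val_zero, Matrix.cons_val_one, Matrix.cons_val_fin_one]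
      set x : MvPolynomial (Fin 3) R := MvPolynomial.X 0
      set y : MvPolynomial (Fin 3) R := MvPolynomial.X 1
      set z : MvPolynomial (Fin 3) R := MvPolynomial.X 2
      have hw : ∑ i ∈ Finset.range N, MvPolynomial.C (r i) * wfun p (x ^ p ^ i) (y ^ p ^ i) +
          ∑ i ∈ Finset.range N, MvPolynomial.C (r i) * wfun p ((x + y) ^ p ^ i) (z ^ p ^ i) =
          ∑ i ∈ Finset.range N, MvPolynomial.C (r i) * wfun p (x ^ p ^ i) ((y + z) ^ p ^ i) +
          ∑ i ∈ Finset.range N, MvPolynomial.C (r i) * wfun p (y ^ p ^ i) (z ^ p ^ i) := by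
        rw [← Finset.sum_add_distrib, ← Finset.sum_add_distrib]
        refine Finset.sum_congr rfl fun i _ => ?_
        rw [← mul_add, ← mul_add, add_pow_char_pow, add_pow_char_pow, wfun_cocycle]
      simp only [delta, add_assoc x y z]
      linear_combination hw

end Groth.Agent.S13358
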