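import Groth.Statements.S13359
import Mathlib
import Groth.Agent.EtStruct.PiLocal
-- import your own Groth.Agent.* helpers here

set_option autoImplicit false
universe u
open UltraProd

namespace Groth.Agent.S13359

theorem aux {ι : Type u} (R : ι → Type u) [∀ i, CommRing (R i)] [∀ i, IsDomain (R i)]
    [∀ i, IsIntegrallyClosed (R i)] (P : Ideal (∀ i, R i)) [P.IsPrime] (L : Type u) [CommRing L]
    [IsDomain L] [Algebra (∀ i, R i) L] [IsLocalization.AtPrime L P] :
    IsIntegrallyClosed L := by
  classical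
  refine (isIntegrallyClosed_iff (FractionRing L)).mpr fun {z} hz ↦ ?_
  have hinj : Function.Injective (algebraMap L (FractionRing L)) := IsFractionRing.injective L (FractionRing L)
  obtain ⟨⟨m, hm⟩, hmz⟩ := IsIntegral.exists_multiple_integral_of_isLocalization P.primeCompl _ hz
  obtain ⟨a, b, hb, rfl⟩ := IsFractionRing.div_surjective L z
  obtain ⟨x, s, rfl⟩ := IsLocalization.exists_mk'_eq P.primeCompl a
  obtain ⟨y, t, rfl⟩ := IsLocalization.exists_mk'_eq P.primeCompl b
  let φ := algebraMap (∀ i, R i) (FractionRing L)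
  let X := m * x * t.1
  let Y := y * s.1
  have hφ : ∀ v, φ v = algebraMap L (FractionRing L) (algebraMap _ L v) := fun v ↦
    IsScalarTower.algebraMap_apply (∀ i, R i) L (FractionRing L) v
  have hunit : ∀ v : P.primeCompl, φ v ≠ 0 := fun v h ↦ by
    rw [hφ, map_eq_zero_iff _ hinj] at h
    exact (IsLocalization.map_units L v).ne_zero h
  have hy : φ y ≠ 0 := by
    intro h
    have : algebraMap _ L y = 0 := by rwa [hφ, map_eq_zero_iff _ hinj] at h
    exact nonZeroDivisors.ne_zero hb (by
      rw [← IsLocalization.mk'_spec L y t] at this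
      exact (mul_eq_zero.mp this).resolve_right (IsLocalization.map_units L t).ne_zero)
  have hY : φ Y ≠ 0 := by simp only [Y, map_mul, ne_eq, mul_eq_zero, hy, hunit s, or_self, not_false_eq_true]
  have hzval : ∀ (v : ∀ i, R i) (r : P.primeCompl),
      algebraMap L (FractionRing L) (IsLocalization.mk' L v r) = φ v / φ r := fun v r ↦ by
    rw [eq_div_iff (hunit r), hφ, hφ, ← map_mul, IsLocalization.mk'_spec]
  have hz' : (⟨m, hm⟩ : P.primeCompl) • (algebraMap L (FractionRing L) (IsLocalization.mk' L x s) /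
      algebraMap L (FractionRing L) (IsLocalization.mk' L y t)) = φ X / φ Y := by
    rw [Submonoid.smul_def, Algebra.smul_def, hzval, hzval]
    simp only [X, Y, map_mul]
    field_simp [hunit s, hunit t, hy]
    ring
  rw [hz'] at hmz
  obtain ⟨p, hp, hp0⟩ := hmz
  have hQ : φ ((Polynomial.scaleRoots p Y).eval X) = 0 := by
    have := Polynomial.scaleRoots_eval₂_eq_zero φ (s := Y) hp0
    rw [mul_div_cancel₀ _ hY] at this
    rwa [← Polynomial.eval₂_at_apply]
  rw [hφ, map_eq_zero_iff _ hinj, IsLocalization.map_eq_zero_iff P.primeCompl] at hQ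
  obtain ⟨⟨u, hu⟩, huQ⟩ := hQ
  rcases Groth.Agent.EtStruct.pi_idem_notMem_or P (fun i ↦ Y i ≠ 0 ∧ u i ≠ 0) with h | h
  swap
  · exfalso
    apply hY
    rw [hφ, map_eq_zero_iff _ hinj, IsLocalization.map_eq_zero_iff P.primeCompl]
    refine ⟨⟨_, P.primeCompl.mul_mem h hu⟩, funext fun i ↦ ?_⟩
    by_cases hi : Y i ≠ 0 ∧ u i ≠ 0
    · simp [hi]
    · rcases not_and_or.mp hi with h' | h' <;> push Not at h' <;> simp [h']
  have hw : ∀ i, ∃ w, (Y i ≠ 0 ∧ u i ≠ 0) → w * Y i = X i := fun i ↦ by
    by_cases hi : Y i ≠ 0 ∧ u i ≠ 0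
    swap
    · exact ⟨0, fun h ↦ absurd h hi⟩
    let K := FractionRing (R i)
    let f := (algebraMap (R i) K).comp (Pi.evalRingHom R i)
    have hfY : f Y ≠ 0 := fun h0 ↦ hi.1 (IsFractionRing.injective (R i) K (h0.trans (map_zero _).symm))
    have h0 : Polynomial.eval₂ f (f X) (Polynomial.scaleRoots p Y) = 0 := by
      rw [Polynomial.eval₂_at_apply]
      have h1 := congrFun huQ i
      simp only [Pi.mul_apply, Pi.zero_apply, mul_eq_zero, hi.2, false_or] at h1
      simp [f, h1]
    have h1 : Polynomial.eval₂ f (f X / f Y) p = 0 := by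
      rw [← mul_div_cancel₀ (f X) hfY, Polynomial.scaleRoots_eval₂_mul] at h0
      exact (mul_eq_zero.mp h0).resolve_left (pow_ne_zero _ hfY)
    obtain ⟨w, hw⟩ := IsIntegrallyClosed.algebraMap_eq_of_integral
      (show IsIntegral (R i) (f X / f Y) from ⟨p.map (Pi.evalRingHom R i), hp.map _,
        by rwa [Polynomial.eval₂_map]⟩)
    refine ⟨w, fun _ ↦ IsFractionRing.injective (R i) K ?_⟩
    rw [eq_div_iff hfY] at hw
    simpa [f] using hw
  choose w hw using hw
  have hwY : φ w * φ Y = φ X := by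
    rw [← map_mul, hφ, hφ]
    congr 1
    rw [IsLocalization.eq_iff_exists P.primeCompl]
    refine ⟨⟨_, h⟩, funext fun i ↦ ?_⟩
    by_cases hi : Y i ≠ 0 ∧ u i ≠ 0
    · simp [hi, hw i hi]
    · simp [hi]
  refine ⟨IsLocalization.mk' L w ⟨m, hm⟩, ?_⟩
  rw [hzval, div_eq_iff (hunit ⟨m, hm⟩)]
  have := hz'
  rw [Submonoid.smul_def, Algebra.smul_def, eq_div_iff hY, ← hwY] at this
  exact (mul_right_cancel₀ hY this).symm.trans (mul_comm _ _)


/-- If (R_i) is a nonempty family of integrally closed domains, then the localization of the product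
ring ∏ R_i at any prime ideal is an integrally closed domain. -/
theorem result {ι : Type u} [Nonempty ι] (R : ι → Type u)
    [∀ i, CommRing (R i)] [∀ i, IsDomain (R i)] [∀ i, IsIntegrallyClosed (R i)]
    (P : Ideal (∀ i, R i)) [P.IsPrime] :
    IsDomain (Localization.AtPrime P) ∧ IsIntegrallyClosed (Localization.AtPrime P) := by
  have hd := Groth.Agent.EtStruct.isDomain_localization_pi P
  exact ⟨hd, aux R P (Localization.AtPrime P)⟩

end Groth.Agent.S13359
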