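import Groth.Statements.S13360
import Mathlib
import Groth.Agent.EtStruct.PiLocal
-- import your own Groth.Agent.* helpers here

set_option autoImplicit false
universe u
open UltraProd

namespace Groth.Agent.S13360

/-- If (R_i) is a nonempty family of valuation rings, then the localization of the product ring ∏ R_i at
any prime ideal is a valuation ring: a domain in which, of any two elements, one divides the other. -/
theorem result {ι : Type u} [Nonempty ι] (R : ι → Type u)
    [∀ i, CommRing (R i)] [∀ i, IsDomain (R i)] [∀ i, ValuationRing (R i)]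
    (P : Ideal (∀ i, R i)) [P.IsPrime] :
    IsDomain (Localization.AtPrime P) ∧ PreValuationRing (Localization.AtPrime P) := by
  classical
  have hd := Groth.Agent.EtStruct.isDomain_localization_pi P
  refine ⟨hd, ⟨fun a b ↦ ?_⟩⟩
  obtain ⟨x, s, rfl⟩ := IsLocalization.exists_mk'_eq P.primeCompl a
  obtain ⟨y, t, rfl⟩ := IsLocalization.exists_mk'_eq P.primeCompl b
  let ψ := algebraMap (∀ i, R i) (Localization.AtPrime P)
  have key : ∀ (x y e : ∀ i, R i) (s t : P.primeCompl), e ∉ P →
      (∀ i, e i = 0 ∨ x i ∣ y i) →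
      ∃ c, IsLocalization.mk' (Localization.AtPrime P) x s * c = IsLocalization.mk' _ y t := by
    intro x y e s t he hdiv
    have hw : ∀ i, ∃ w, e i * (x i * w) = e i * y i := fun i ↦ by
      rcases hdiv i with h | ⟨w, hw⟩
      · exact ⟨0, by simp [h]⟩
      · exact ⟨w, by rw [hw]⟩
    choose w hw using hw
    refine ⟨IsLocalization.mk' _ (w * s.1) t, ?_⟩
    rw [← IsLocalization.mk'_mul, IsLocalization.mk'_eq_iff_eq, IsLocalization.eq_iff_exists P.primeCompl]
    refine ⟨⟨e, he⟩, funext fun i ↦ ?_⟩
    simp only [Pi.mul_apply, Submonoid.coe_mul]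
    calc e i * (t.1 i * (x i * (w i * s.1 i))) = (e i * (x i * w i)) * (t.1 i * s.1 i) := by ring
      _ = _ := by rw [hw i]; ring
  rcases Groth.Agent.EtStruct.pi_idem_notMem_or P (fun i ↦ x i ∣ y i) with h | h
  · obtain ⟨c, hc⟩ := key x y _ s t h fun i ↦ by
      by_cases hi : x i ∣ y i
      · exact Or.inr hi
      · exact Or.inl (by simp [hi])
    exact ⟨c, Or.inl hc⟩
  · obtain ⟨c, hc⟩ := key y x _ t s h fun i ↦ by
      by_cases hi : x i ∣ y i
      · exact Or.inl (by simp [hi])
      · obtain ⟨c, hc | hc⟩ := PreValuationRing.cond (x i) (y i)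
        · exact absurd ⟨c, hc.symm⟩ hi
        · exact Or.inr ⟨c, hc.symm⟩
    exact ⟨c, Or.inr hc⟩

end Groth.Agent.S13360
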