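import Groth.Statements.S13361
import Mathlib
-- import your own Groth.Agent.* helpers here

set_option autoImplicit false
universe u
open ProCompl

namespace Groth.Agent.S13361

/-- A finite abelian group with a nonzero element contained in every nonzero subgroup is isomorphic to a
cyclic group of prime-power order Z/p^n. -/
theorem result {A : Type u} [AddCommGroup A] [Finite A]
    (a : A) (ha : a ≠ 0) (h : ∀ B : AddSubgroup A, B ≠ ⊥ → a ∈ B) :
    ∃ p n : ℕ, p.Prime ∧ Nonempty (A ≃+ ZMod (p ^ n)) := by
  obtain ⟨ι, hι, q, hq, e, ⟨f⟩⟩ := AddCommGroup.equiv_directSum_zmod_of_finite A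
  classical
  haveI := hι
  have hkey : ∀ j, ∀ x : ZMod (q j ^ e j), x ≠ 0 →
      ∃ y, f a = DirectSum.of (fun i => ZMod (q i ^ e i)) j y := by
    intro j x hx
    let g : ZMod (q j ^ e j) →+ A := f.symm.toAddMonoidHom.comp (DirectSum.of (fun i => ZMod (q i ^ e i)) j)
    have hb : g.range ≠ ⊥ := by
      intro hb
      have : g x = 0 := by
        have : g x ∈ g.range := ⟨x, rfl⟩
        rwa [hb, AddSubgroup.mem_bot] at this
      apply hx
      apply DirectSum.of_injective (β := fun i => ZMod (q i ^ e i)) j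
      apply f.symm.injective
      simpa [g] using this
    obtain ⟨y, hy⟩ := h _ hb
    exact ⟨y, by rw [← hy]; simp [g]⟩
  obtain ⟨j, hj⟩ : ∃ j, f a j ≠ 0 := by
    by_contra hc
    push Not at hc
    exact ha (f.map_eq_zero_iff.1 (DFinsupp.ext hc))
  have huniq : ∀ i, i ≠ j → ∀ x : ZMod (q i ^ e i), x = 0 := by
    intro i hij x
    by_contra hx
    obtain ⟨y, hy⟩ := hkey i x hx
    rw [hy, DirectSum.of_eq_of_ne _ _ _ hij.symm] at hj
    exact hj rfl
  refine ⟨q j, e j, hq j, ⟨f.trans
    { toFun := fun v => v j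
      invFun := fun y => DirectSum.of (fun i => ZMod (q i ^ e i)) j y
      left_inv := fun v => ?_
      right_inv := fun y => DirectSum.of_eq_same _ _
      map_add' := fun v w => rfl }⟩⟩
  refine DFinsupp.ext fun i => ?_
  by_cases hi : i = j
  · subst hi; exact DirectSum.of_eq_same _ _
  · rw [huniq i hi (v i)]; exact DirectSum.of_eq_of_ne _ _ _ hi

end Groth.Agent.S13361
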