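import Groth.Statements.S13363
import Groth.Agent.ProC84
-- import your own Groth.Agent.* helpers here

set_option autoImplicit false
universe u
open ProCompl

namespace Groth.Agent.S13363

/-- Let A be a topological abelian group such that the subgroup n·A is open for each n > 0, and a ∈ A.
Then A has an open subgroup of finite index not containing a if and only if a does not lie in the
subgroup of divisible elements ∩_n nA. -/
theorem result {A : Type u} [AddCommGroup A]
    [TopologicalSpace A] [IsTopologicalAddGroup A]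
    (hn : ∀ n : ℕ, 0 < n → IsOpen (Set.range (fun x : A => n • x))) (a : A) :
    (∃ B : AddSubgroup A, IsOpen (B : Set A) ∧ B.FiniteIndex ∧ a ∉ B) ↔
      ¬ (∀ n : ℕ, 0 < n → ∃ b : A, n • b = a) := by
  constructor
  · rintro ⟨B, -, hB, haB⟩ hdiv
    obtain ⟨b, rfl⟩ := hdiv B.index (Nat.pos_of_ne_zero hB.index_ne_zero)
    exact haB (AddSubgroup.nsmul_index_mem B b)
  · intro hnot
    push Not at hnot
    obtain ⟨n, hn0, hna⟩ := hnot
    obtain ⟨H, hUH, haH, hH⟩ := Groth.Agent.ProC84.exists_finiteIndex_avoid (nsmulAddMonoidHom n).range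
      hn0.ne' (fun x => ⟨x, rfl⟩) (a := a) (fun ⟨b, hb⟩ => hna b hb)
    exact ⟨H, AddSubgroup.isOpen_mono hUH (hn n hn0), hH, haH⟩

end Groth.Agent.S13363
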