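import Groth.Statements.S13365
import Mathlib
-- import your own Groth.Agent.* helpers here

set_option autoImplicit false
universe u
open ProCompl

namespace Groth.Agent.S13365

/-- The quotient of a profinite (compact, Hausdorff, totally disconnected) abelian topological group by
a compact subgroup is profinite. -/
theorem result {A : Type u} [AddCommGroup A] [TopologicalSpace A]
    [IsTopologicalAddGroup A] [CompactSpace A] [T2Space A] [TotallyDisconnectedSpace A]
    (B : AddSubgroup A) (hB : IsCompact (B : Set A)) :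
    CompactSpace (A ⧸ B) ∧ T2Space (A ⧸ B) ∧ TotallyDisconnectedSpace (A ⧸ B) := by
  have hc : IsClosed (B : Set A) := hB.isClosed
  haveI : T1Space (A ⧸ B) := inferInstance
  haveI h2 : T2Space (A ⧸ B) := inferInstance
  refine ⟨inferInstance, h2, ?_⟩
  haveI : CompactSpace (A ⧸ B) := inferInstance
  haveI : NonarchimedeanAddGroup (A ⧸ B) := ⟨fun U hU => by
    obtain ⟨W, hW, hWo, h0⟩ := mem_nhds_iff.1 ((QuotientAddGroup.continuous_mk (N := B)).continuousAt.preimage_mem_nhds hU)
    obtain ⟨H, hH⟩ := ProfiniteGrp.exist_openNormalAddSubgroup_sub_open_nhds_of_zero hWo h0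
    refine ⟨⟨(H : AddSubgroup A).map (QuotientAddGroup.mk' B), ?_⟩, ?_⟩
    · exact QuotientAddGroup.isOpenMap_coe _ H.isOpen'
    · rintro _ ⟨x, hx, rfl⟩
      exact hW (hH hx)⟩
  exact TotallySeparatedSpace.totallyDisconnectedSpace _

end Groth.Agent.S13365
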