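import Groth.Statements.S13369
import Groth.Agent.PBasis.Field

set_option autoImplicit false
universe u
open GaDual

namespace Groth.Agent.S13369

/-- For a normal Noetherian domain A of prime characteristic p, an element whose differential vanishes
in the absolute Kähler differentials of A is a p-th power; that is, the sequence F : A → A, d : A →
Ω_A (F the Frobenius) is exact at the middle term. (The published statement is for normal locally
Noetherian schemes of characteristic p; this row is the case of the spectrum of a normal Noetherian
domain.) -/
theorem result (p : ℕ) [Fact p.Prime] {A : Type u} [CommRing A] [IsDomain A]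
    [IsNoetherianRing A] [IsIntegrallyClosed A] [CharP A p] (s : A) (hs : KaehlerDifferential.D ℤ A s = 0) :
    ∃ f : A, f ^ p = s := by
  let K := FractionRing A
  have : CharP K p := charP_of_injective_algebraMap (IsFractionRing.injective A K) p
  let k : Subfield K := ⊥
  have : @IsScalarTower ℤ k K Algebra.toSMul Algebra.toSMul Algebra.toSMul :=
    IsScalarTower.of_algebraMap_eq' (RingHom.ext_int _ _)
  have hz : KaehlerDifferential.D k K (algebraMap A K s) = 0 := by
    have := congrArg (KaehlerDifferential.map ℤ k A K) hs
    rwa [KaehlerDifferential.map_D, map_zero] at this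
  rw [Groth.Agent.PBasis.Field.D_eq_zero_iff p] at hz
  let G : IntermediateField k K :=
    (frobenius K p).fieldRange.toIntermediateField fun c => (bot_le : k ≤ _) c.2
  have hG : Groth.Agent.PBasis.Field.pField p k K ≤ G :=
    Groth.Agent.PBasis.Field.pField_le p fun y => ⟨y, rfl⟩
  obtain ⟨y, hy⟩ := hG hz
  have hy' : y ^ p = algebraMap A K s := hy
  obtain ⟨f, hf⟩ := IsIntegrallyClosed.isIntegral_iff.1
    (IsIntegral.of_pow (R := A) (Fact.out : p.Prime).pos (hy' ▸ isIntegral_algebraMap))
  exact ⟨f, IsFractionRing.injective A K (by rw [map_pow, hf, hy'])⟩

end Groth.Agent.S13369
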