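import Groth.Statements.S13370
import Mathlib.AlgebraicGeometry.AffineSpace

set_option autoImplicit false
universe u
open GaDual

namespace Groth.Agent.S13370

open AlgebraicGeometry CategoryTheory CategoryTheory.Limits

/-- The zero section. -/
noncomputable def zeroSection (n : Type u) (X : Scheme.{u}) : X ⟶ 𝔸(n; X) :=
  AffineSpace.homOfVector (𝟙 X) (fun _ => 0)

lemma zeroSection_map (n : Type u) {X Y : Scheme.{u}} (g : Y ⟶ X) :
    zeroSection n Y ≫ AffineSpace.map n g = g ≫ zeroSection n X := by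
  apply AffineSpace.hom_ext
  · simp [zeroSection]
  · intro i
    rw [Scheme.Hom.comp_appTop, Scheme.Hom.comp_appTop, CommRingCat.comp_apply, CommRingCat.comp_apply,
      AffineSpace.map_appTop_coord]
    simp [zeroSection]

lemma affine (n : Type u) (R : CommRingCat.{u}) [_root_.IsReduced R]
    (w : Γ(𝔸(n; Spec R), ⊤)) (hw : IsUnit w) :
    (𝔸(n; Spec R) ↘ Spec R).appTop ((zeroSection n (Spec R)).appTop w) = w := by
  let e := AffineSpace.SpecIso n R
  obtain ⟨c, -, hc⟩ := MvPolynomial.isUnit_iff_eq_C_of_isReduced.1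
    (hw.map ((e.inv.appTop ≫ (Scheme.ΓSpecIso _).hom).hom))
  let d : Γ(Spec R, ⊤) := (Scheme.ΓSpecIso R).inv c
  have hd : (𝔸(n; Spec R) ↘ Spec R).appTop d = w := by
    have : IsIso e.inv.appTop := inferInstanceAs (IsIso (e.inv.app ⊤))
    apply (ConcreteCategory.bijective_of_isIso (e.inv.appTop ≫ (Scheme.ΓSpecIso _).hom)).1
    refine Eq.trans ?_ hc.symm
    have h2 : (Scheme.ΓSpecIso R).inv ≫ (𝔸(n; Spec R) ↘ Spec R).appTop ≫ e.inv.appTop ≫ (Scheme.ΓSpecIso _).hom
        = CommRingCat.ofHom MvPolynomial.C := by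
      rw [← Scheme.Hom.comp_appTop_assoc, AffineSpace.SpecIso_inv_over, Scheme.ΓSpecIso_naturality,
        ]
      exact Iso.inv_hom_id_assoc _ _
    exact congr($h2 c)
  have hs : zeroSection n (Spec R) ≫ (𝔸(n; Spec R) ↘ Spec R) = 𝟙 _ := AffineSpace.homOfVector_over _ _
  have hsd : (zeroSection n (Spec R)).appTop w = d := by
    rw [← hd, ← CommRingCat.comp_apply, ← Scheme.Hom.comp_appTop, hs]
    simp
  rw [hsd, hd]

lemma general (n : Type u) (X : Scheme.{u}) [IsReduced X] (w : Γ(𝔸(n; X), ⊤)) (hw : IsUnit w) :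
    (𝔸(n; X) ↘ X).appTop ((zeroSection n X).appTop w) = w := by
  refine Scheme.OpenCover.ext_elem _ _ (X.affineCover.pullback₁ (𝔸(n; X) ↘ X)) fun i => ?_
  let g := X.affineCover.f i
  let h := (AffineSpace.isPullback_map (n := n) g).flip
  let e : 𝔸(n; X.affineCover.X i) ≅ pullback (𝔸(n; X) ↘ X) g := (AffineSpace.isPullback_map (n := n) g).isoPullback
  have : IsIso e.hom.appTop := inferInstanceAs (IsIso (e.hom.app ⊤))
  apply (ConcreteCategory.bijective_of_isIso e.hom.appTop).1
  have he : e.hom ≫ pullback.fst (𝔸(n; X) ↘ X) g = AffineSpace.map n g :=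
    (AffineSpace.isPullback_map (n := n) g).isoPullback_hom_fst
  have hpull : ∀ z, e.hom.appTop ((pullback.fst (𝔸(n; X) ↘ X) g).appTop z) = (AffineSpace.map n g).appTop z :=
    fun z => by rw [← he]; rfl
  refine (hpull _).trans (Eq.trans ?_ (hpull _).symm)
  have : IsReduced (X.affineCover.X i) := isReduced_of_isOpenImmersion g
  have hR : _root_.IsReduced Γ(X.affineCover.X i, ⊤) := inferInstance
  obtain ⟨R, hR'⟩ : ∃ R, X.affineCover.X i = Spec R := ⟨_, rfl⟩
  have key : ∀ (R : CommRingCat.{u}) [IsReduced (Spec R)] (g : Spec R ⟶ X),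
      (AffineSpace.map n g).appTop ((𝔸(n; X) ↘ X).appTop ((zeroSection n X).appTop w)) =
        (AffineSpace.map n g).appTop w := by
    intro R _ g
    have : _root_.IsReduced R := (affine_isReduced_iff R).1 inferInstance
    rw [← CommRingCat.comp_apply, ← CommRingCat.comp_apply, ← Scheme.Hom.comp_appTop, AffineSpace.map_over,
      ← Scheme.Hom.comp_appTop, ← affine n R _ (hw.map (AffineSpace.map n g).appTop.hom),
      ← CommRingCat.comp_apply, ← CommRingCat.comp_apply, ← Scheme.Hom.comp_appTop, ← Scheme.Hom.comp_appTop,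
      Category.assoc, Category.assoc, zeroSection_map]
  exact @key _ this g

open AlgebraicGeometry in
/-- Over a reduced scheme X, each invertible global function on 𝔸ⁿ_X comes, by pullback along the
projection to X, from an invertible global function on X. -/
theorem result (n : Type u) [Finite n] (X : Scheme.{u}) [IsReduced X]
    (w : Γ(𝔸(n; X), ⊤)) (hw : IsUnit w) :
    ∃ v : Γ(X, ⊤), IsUnit v ∧ (𝔸(n; X) ↘ X).appTop v = w := by
  exact ⟨_, hw.map (zeroSection n X).appTop.hom, general n X w hw⟩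

end Groth.Agent.S13370
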