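import Groth.Statements.S13371
import Groth.Agent.S13370
import Groth.Agent.RedPts.RankOne

set_option autoImplicit false
universe u
open GaDual

namespace Groth.Agent.S13371

open CategoryTheory AlgebraicGeometry MonObj CartesianMonoidalCategory in
/-- If S is a reduced scheme, every homomorphism of S-group schemes from the additive group to the
multiplicative group over S is the trivial homomorphism. -/
theorem result (S : Scheme.{u}) [IsReduced S] (φ : Red.Ga S ⟶ Red.Gm S)
    [IsMonHom φ] : φ = 1 := by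
  let n : Type u := PUnit
  let P : Over S := Over.mk (𝔸(n; S) ↘ S)
  let a : Γ(P.left, ⊤) := AffineSpace.coord S (PUnit.unit : n)
  let x : P ⟶ Red.Ga S := Groth.Agent.RedPts.gaPt a
  have hw := Groth.Agent.S13370.general n S (Red.gmFn (x ≫ φ)) (Groth.Agent.RedPts.gm_isUnit _)
  let s : Over.mk (𝟙 S) ⟶ P := Over.homMk (Groth.Agent.S13370.zeroSection n S) (AffineSpace.homOfVector_over _ _)
  have hs : s ≫ x = 1 := by
    refine Groth.Agent.RedPts.ga_injective ?_
    have h0 : Red.gaFn (1 : Over.mk (𝟙 S) ⟶ Red.Ga S) = 0 := by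
      have := Groth.Agent.RedPts.ga_mul (1 : Over.mk (𝟙 S) ⟶ Red.Ga S) 1
      erw [_root_.one_mul (1 : Over.mk (𝟙 S) ⟶ Red.Ga S)] at this
      simpa using this
    rw [Groth.Agent.RedPts.ga_comp, Groth.Agent.RedPts.gaFn_gaPt, h0]
    exact AffineSpace.homOfVector_appTop_coord _ _ _
  have h1 : ∀ (Z : Over S), Red.gmFn (1 : Z ⟶ Red.Gm S) = 1 := fun Z => by
    refine (Groth.Agent.RedPts.gm_isUnit _).mul_left_cancel (a := Red.gmFn (1 : Z ⟶ Red.Gm S)) ?_
    refine ((Groth.Agent.RedPts.gm_mul _ _).symm.trans ?_).trans (_root_.mul_one (Red.gmFn (1 : Z ⟶ Red.Gm S))).symm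
    exact congrArg Red.gmFn (_root_.one_mul (1 : Z ⟶ Red.Gm S))
  have hxφ : x ≫ φ = 1 := by
    refine Groth.Agent.RedPts.gm_injective ?_
    rw [h1, ← hw]
    have : (Groth.Agent.S13370.zeroSection n S).appTop (Red.gmFn (x ≫ φ)) = Red.gmFn (s ≫ x ≫ φ) :=
      (Groth.Agent.RedPts.gm_comp s (x ≫ φ)).symm
    have h2 : (1 : Over.mk (𝟙 S) ⟶ Red.Ga S) ≫ φ = 1 := MonObj.one_comp φ
    rw [this, ← Category.assoc, hs, h2, h1]
    exact map_one _
  let h : Red.Ga S ⟶ P := Over.homMk (AffineSpace.homOfVector (Red.Ga S).hom (fun _ => Red.gaFn (𝟙 (Red.Ga S))))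
    (AffineSpace.homOfVector_over _ _)
  have hh : h ≫ x = 𝟙 _ := by
    refine Groth.Agent.RedPts.ga_injective ?_
    rw [Groth.Agent.RedPts.ga_comp, Groth.Agent.RedPts.gaFn_gaPt]
    exact AffineSpace.homOfVector_appTop_coord _ _ _
  rw [← Category.id_comp φ, ← hh, Category.assoc, hxφ, MonObj.comp_one]

end Groth.Agent.S13371
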