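import Groth.Statements.S13372
import Groth.Agent.GaFrob87.Lift

set_option autoImplicit false
universe u
open GaDual

namespace Groth.Agent.S13372

open CategoryTheory AlgebraicGeometry in
/-- For a commutative ring R of prime characteristic p with surjective Frobenius, the group Ext^1 of the
additive group by the multiplicative group, computed in the category of abelian sheaves on the big
fppf site of Spec R, vanishes. -/
theorem result (p : ℕ) [Fact p.Prime] (R : Type u) [CommRing R]
    [CharP R p] (hF : Function.Surjective (frobenius R p)) :
    Subsingleton (CGrpSh.ExtS Scheme.fppfPrecoverage
      (Red.Ga (Spec (CommRingCat.of R))) (Red.Gm (Spec (CommRingCat.of R))) 1) := by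
  exact Groth.Agent.GaFrob87.subsingleton_ext_one p hF

end Groth.Agent.S13372
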