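import Groth.Statements.S13373
import Groth.Agent.GaChar.Basic
import Groth.Agent.S13355

set_option autoImplicit false
universe u
open GaDual

namespace Groth.Agent.S13373

/-- Over a commutative algebra A of prime characteristic p, the formal characters (power series χ with
constant term 1 and χ(X+Y) = χ(X)χ(Y)) are exactly the infinite products ∏_n exp_p(a_n X^(p^n)) with
a_n^p = 0, where exp_p(Y) = Σ_{j<p} Y^j/j!; the infinite product is expressed through its
truncations: χ mod X^(p^m) equals the finite product over n < m. -/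
theorem result (p : ℕ) [Fact p.Prime] (A : Type u) [CommRing A] [CharP A p]
    (χ : PowerSeries A) :
    (PowerSeries.constantCoeff χ = 1 ∧
      PowerSeries.subst (MvPowerSeries.X 0 + MvPowerSeries.X 1 : MvPowerSeries (Fin 2) A) χ =
        PowerSeries.subst (MvPowerSeries.X 0 : MvPowerSeries (Fin 2) A) χ *
          PowerSeries.subst (MvPowerSeries.X 1 : MvPowerSeries (Fin 2) A) χ) ↔
      ∃ a : ℕ → A, (∀ n, a n ^ p = 0) ∧ ∀ m : ℕ,
        PowerSeries.trunc (p ^ m) χ = ∏ n ∈ Finset.range m, ∑ j ∈ Finset.range p,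
          Polynomial.C (Ring.inverse (j.factorial : A) * a n ^ j) * Polynomial.X ^ (j * p ^ n) := by
  rw [Groth.Agent.S13355.mul_iff]
  constructor
  · rintro ⟨h0, h⟩
    have hc : ∀ M, Groth.Agent.GaChar.IsCharUpTo (fun N => PowerSeries.coeff N χ) M := fun M =>
      ⟨by simpa [PowerSeries.coeff_zero_eq_constantCoeff_apply] using h0, fun i j _ _ => h i j⟩
    refine ⟨fun n => PowerSeries.coeff (p ^ n) χ, fun n => (hc (p ^ (n + 1))).pow_eq_zero p (Nat.lt_succ_self n), fun m => ?_⟩
    refine (hc _).trunc_eq p _ ?_ fun N hN => by rw [PowerSeries.coeff_trunc, if_pos hN]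
    obtain ⟨q, hq⟩ := Nat.exists_eq_succ_of_ne_zero (pow_ne_zero m (Fact.out : p.Prime).ne_zero)
    rw [hq]
    exact PowerSeries.natDegree_trunc_lt χ q
  · rintro ⟨a, ha, h⟩
    have hc : ∀ m N, N < p ^ m → PowerSeries.coeff N χ = (Groth.Agent.GaChar.prodFactor p a m).coeff N := by
      intro m N hN
      have := congrArg (fun f => f.coeff N) (h m)
      simp only [PowerSeries.coeff_trunc, if_pos hN] at this
      exact this
    refine ⟨?_, fun i j => ?_⟩
    · rw [← PowerSeries.coeff_zero_eq_constantCoeff_apply, hc 0 0 (by simp)]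
      exact Groth.Agent.GaChar.prodFactor_coeff_zero p a 0
    · have hlt : i + j < p ^ (i + j) := Nat.lt_pow_self (Fact.out : p.Prime).one_lt
      rw [hc _ _ hlt, hc (i + j) i (by omega), hc (i + j) j (by omega)]
      exact Groth.Agent.GaChar.prodFactor_identity p a ha _ i j

end Groth.Agent.S13373
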