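import Groth.Statements.S13375
import Groth.Agent.LadderLift.Basic
-- import your own Groth.Agent.* helpers here

set_option autoImplicit false
universe u v
open CechDer

namespace Groth.Agent.S13375

open CategoryTheory Groth.Agent

open CategoryTheory CategoryTheory.Limits in
/-- In an abelian category, given two degreewise left exact sequences of nonnegatively graded cochain
complexes 0 → C' → C → C'' and 0 → I' → I → I'', each complex exact in positive degrees and the I's
termwise injective, every commutative ladder of maps g', g, g'' between their degree-zero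
cohomologies is induced by chain maps f' : C' → I', f : C → I, f'' : C'' → I'' commuting with the
given maps of complexes. -/
theorem result {V : Type u} [Category.{v} V]
    [Abelian V] (C' C C'' I' I I'' : CochainComplex V ℕ)
    (jC : C' ⟶ C) (πC : C ⟶ C'') (jI : I' ⟶ I) (πI : I ⟶ I'')
    (mC : ∀ n, Mono (jC.f n)) (wC : ∀ n, jC.f n ≫ πC.f n = 0)
    (exC : ∀ n, (ShortComplex.mk (jC.f n) (πC.f n) (wC n)).Exact)
    (mI : ∀ n, Mono (jI.f n)) (wI : ∀ n, jI.f n ≫ πI.f n = 0)
    (exI : ∀ n, (ShortComplex.mk (jI.f n) (πI.f n) (wI n)).Exact)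
    (hC' : ∀ n, 0 < n → C'.ExactAt n) (hC : ∀ n, 0 < n → C.ExactAt n) (hC'' : ∀ n, 0 < n → C''.ExactAt n)
    (hI' : ∀ n, 0 < n → I'.ExactAt n) (hI : ∀ n, 0 < n → I.ExactAt n) (hI'' : ∀ n, 0 < n → I''.ExactAt n)
    (injI' : ∀ n, Injective (I'.X n)) (injI : ∀ n, Injective (I.X n)) (injI'' : ∀ n, Injective (I''.X n))
    (g' : C'.homology 0 ⟶ I'.homology 0) (g : C.homology 0 ⟶ I.homology 0)
    (g'' : C''.homology 0 ⟶ I''.homology 0)
    (hg1 : HomologicalComplex.homologyMap jC 0 ≫ g = g' ≫ HomologicalComplex.homologyMap jI 0)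
    (hg2 : HomologicalComplex.homologyMap πC 0 ≫ g'' = g ≫ HomologicalComplex.homologyMap πI 0) :
    ∃ (f' : C' ⟶ I') (f : C ⟶ I) (f'' : C'' ⟶ I''),
      jC ≫ f = f' ≫ jI ∧ πC ≫ f'' = f ≫ πI ∧
      HomologicalComplex.homologyMap f' 0 = g' ∧ HomologicalComplex.homologyMap f 0 = g ∧
      HomologicalComplex.homologyMap f'' 0 = g'' := by
  open CategoryTheory.Limits in
  let c : ∀ {K L : CochainComplex V ℕ}, (K.homology 0 ⟶ L.homology 0) → (K.cycles 0 ⟶ L.cycles 0) :=
    fun {K L} g => K.isoHomologyπ₀.hom ≫ g ≫ L.isoHomologyπ₀.inv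
  have hback : ∀ {K L : CochainComplex V ℕ} (f : K ⟶ L) (g : K.homology 0 ⟶ L.homology 0),
      HomologicalComplex.cyclesMap f 0 = c g → HomologicalComplex.homologyMap f 0 = g := by
    intro K L f g hfg
    rw [← cancel_mono L.isoHomologyπ₀.inv, CochainComplex.isoHomologyπ₀_inv_naturality, hfg]
    simp [c]
  have hnat : ∀ {K L : CochainComplex V ℕ} (f : K ⟶ L),
      HomologicalComplex.cyclesMap f 0 = c (HomologicalComplex.homologyMap f 0) := by
    intro K L f
    simp only [c]
    rw [CochainComplex.isoHomologyπ₀_inv_naturality, Iso.hom_inv_id_assoc]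
  have hcomp : ∀ {K L M : CochainComplex V ℕ} (a : K.homology 0 ⟶ L.homology 0) (b : L.homology 0 ⟶ M.homology 0),
      c a ≫ c b = c (a ≫ b) := by
    intro K L M a b
    simp only [c, Category.assoc, Iso.inv_hom_id_assoc]
  -- the first map
  let Z : CochainComplex V ℕ := C'
  obtain ⟨f', -, hf'g⟩ := LadderLift.exists_hom (X := C') (C := C') (I := I')
    (0 : C' ⟶ C') (0 : C' ⟶ I') (c g') hC' hC' injI'
    (fun n A x _ => ⟨A, 𝟙 A, inferInstance, 0, x, by simp, by simp, by simp⟩)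
    (fun n A k _ => by simp) (by
      rw [HomologicalComplex.cyclesMap_zero, HomologicalComplex.cyclesMap_zero, zero_comp])
  obtain ⟨f, hfe, hfg⟩ := LadderLift.exists_hom jC (f' ≫ jI) (c g) hC hC' injI
    (fun n A x hx => by
      refine ⟨A, 𝟙 A, inferInstance, x, 0, ?_, zero_comp, by simp⟩
      have := mC (n + 1)
      rw [← cancel_mono (jC.f (n + 1)), Category.assoc, ← jC.comm, ← Category.assoc, hx, zero_comp])
    (fun n A k hk => by
      have := mC n
      rw [show k = 0 by rwa [← cancel_mono (jC.f n), zero_comp], zero_comp])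
    (by rw [hnat jC, hcomp, hg1, ← hcomp, ← hf'g, ← hnat, ← HomologicalComplex.cyclesMap_comp])
  have hk'' : ∀ (n : ℕ) {A : V} (k : A ⟶ C.X n), k ≫ πC.f n = 0 → k ≫ (f ≫ πI).f n = 0 := by
    intro n A k hk
    obtain ⟨A', π, _, a, ha⟩ := (exC n).exact_up_to_refinements k hk
    have ha' : π ≫ k = a ≫ jC.f n := ha
    have h2 : jC.f n ≫ f.f n = f'.f n ≫ jI.f n := HomologicalComplex.congr_hom hfe n
    rw [← cancel_epi π, comp_zero, reassoc_of% ha']
    simp [reassoc_of% h2, wI n]
  obtain ⟨f'', hf''e, hf''g⟩ := LadderLift.exists_hom πC (f ≫ πI) (c g'') hC'' hC injI''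
    (fun n A b hb => by
      obtain ⟨A₁, π₁, _, a', ha'⟩ := (exC (n + 1)).exact_up_to_refinements (b ≫ C.d n (n + 1))
        (by show (b ≫ C.d n (n + 1)) ≫ πC.f (n + 1) = 0
            rw [Category.assoc, ← πC.comm, ← Category.assoc, hb])
      have ha1 : π₁ ≫ b ≫ C.d n (n + 1) = a' ≫ jC.f (n + 1) := ha'
      have hex : (C'.sc' n (n + 1) (n + 2)).Exact :=
        (C'.exactAt_iff' n (n + 1) (n + 2) (by simp) (by simp)).1 (hC' (n + 1) (by omega))
      obtain ⟨A₂, π₂, _, a₀, ha₀⟩ := hex.exact_up_to_refinements a' (by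
        show a' ≫ C'.d (n + 1) (n + 2) = 0
        have := mC (n + 2)
        rw [← cancel_mono (jC.f (n + 2)), Category.assoc, ← jC.comm, ← reassoc_of% ha1, zero_comp]
        simp)
      have ha2 : π₂ ≫ a' = a₀ ≫ C'.d n (n + 1) := ha₀
      refine ⟨A₂, π₂ ≫ π₁, epi_comp _ _, π₂ ≫ π₁ ≫ b - a₀ ≫ jC.f n, a₀ ≫ jC.f n, ?_, ?_, by simp⟩
      · rw [Preadditive.sub_comp, sub_eq_zero, Category.assoc, Category.assoc, Category.assoc, ha1,
          reassoc_of% ha2]; exact congrArg (a₀ ≫ ·) (jC.comm n (n + 1)).symm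
      · rw [Category.assoc]; erw [wC]; exact comp_zero)
    hk''
    (by rw [hnat πC, hcomp, hg2, ← hcomp, ← hfg, ← hnat, ← HomologicalComplex.cyclesMap_comp])
  exact ⟨f', f, f'', hfe, hf''e, hback _ _ hf'g, hback _ _ hfg, hback _ _ hf''g⟩


end Groth.Agent.S13375
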