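import Groth.Statements.S13376
import Mathlib
import Groth.Agent.SmoothAcyc.Main
import Groth.Agent.GmFppf.HULeray
import Groth.Agent.EtSection.Profinite
-- import your own Groth.Agent.* helpers here

set_option autoImplicit false
universe u
open GaDual

namespace Groth.Agent.S13376

open CategoryTheory AlgebraicGeometry in
/-- For a smooth commutative group scheme G over a field k, the cohomology of the sheaf of G on the big
fppf site, taken over the n-fold tensor power k̄ ⊗_k ⋯ ⊗_k k̄ of an algebraic closure, vanishes in
every positive degree j for every n > 0. -/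
theorem result (k : Type u) [Field k]
    (G : Over (Spec (CommRingCat.of k))) [GrpObj G] [IsCommMonObj G] [Smooth G.hom]
    (n j : ℕ) (hn : 0 < n) (hj : 0 < j) :
    Subsingleton (BigSite.HU Scheme.fppfPrecoverage (CGrpSh.pts Scheme.fppfPrecoverage G) j
      (Over.mk (Spec.map (CommRingCat.ofHom (algebraMap k (PiTensorProduct k (fun _ : Fin n => AlgebraicClosure k))))))) := by
  classical
  let R := PiTensorProduct k (fun _ : Fin n => AlgebraicClosure k)
  let S : Scheme.{u} := Spec (CommRingCat.of R)
  have hint : Algebra.IsIntegral k R := ⟨fun x => by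
    induction x using PiTensorProduct.induction_on with
    | smul_tprod r a =>
      refine IsIntegral.smul r ?_
      have h : PiTensorProduct.tprod k a =
          ∏ i, (PiTensorProduct.singleAlgHom (R := k) (A := fun _ : Fin n => AlgebraicClosure k) i (a i)) := by
        have h1 := (map_prod (PiTensorProduct.tprodMonoidHom (A := fun _ : Fin n => AlgebraicClosure k) k)
          (fun i => Pi.mulSingle i (a i)) Finset.univ).symm
        rw [Finset.univ_prod_mulSingle] at h1
        exact h1.symm
      rw [h]
      exact IsIntegral.prod _ fun i _ => (Algebra.IsIntegral.isIntegral (a i)).map _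
    | add x y hx hy => exact hx.add hy⟩
  have hmax : ∀ p : PrimeSpectrum R, p.asIdeal.IsMaximal := fun p =>
    Ideal.isMaximal_of_isIntegral_of_isMaximal_comap (R := k) p.asIdeal (by
      rw [show p.asIdeal.comap (algebraMap k R) = ⊥ from Ideal.eq_bot_of_prime _]
      exact Ideal.bot_isMaximal)
  have hclosed : ∀ x : S, IsClosed ({x} : Set S) := fun x =>
    (PrimeSpectrum.isClosed_singleton_iff_isMaximal x).2 (hmax x)
  have hsep : ∀ x : S, IsSepClosed (S.residueField x) := fun x => by
    let x' : PrimeSpectrum R := x
    haveI := hmax x'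
    let e : x'.asIdeal.ResidueField ≃+* S.residueField x :=
      (Scheme.Spec.residueFieldIso (CommRingCat.of R) x').commRingCatIsoToRingEquiv.symm
    let φ : AlgebraicClosure k →+* x'.asIdeal.ResidueField :=
      (algebraMap R x'.asIdeal.ResidueField).comp
        (PiTensorProduct.singleAlgHom (R := k) (A := fun _ : Fin n => AlgebraicClosure k) ⟨0, hn⟩).toRingHom
    letI := φ.toAlgebra
    have hφ : Function.Bijective φ := by
      haveI : Algebra.IsIntegral (AlgebraicClosure k) x'.asIdeal.ResidueField := ⟨fun y => by
        obtain ⟨r, rfl⟩ := Ideal.algebraMap_residueField_surjective x'.asIdeal y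
        have h1 : IsIntegral k r := Algebra.IsIntegral.isIntegral r
        obtain ⟨P, hP, hPr⟩ := h1
        refine ⟨P.map (algebraMap k (AlgebraicClosure k)), hP.map _, ?_⟩
        rw [Polynomial.eval₂_map, show (algebraMap (AlgebraicClosure k) x'.asIdeal.ResidueField).comp
          (algebraMap k (AlgebraicClosure k)) = (algebraMap R x'.asIdeal.ResidueField).comp (algebraMap k R) from
            RingHom.ext fun c => congrArg (algebraMap R x'.asIdeal.ResidueField)
              ((PiTensorProduct.singleAlgHom (R := k) (A := fun _ : Fin n => AlgebraicClosure k) ⟨0, hn⟩).commutes c),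
          ← Polynomial.hom_eval₂, hPr, map_zero]⟩
      exact IsAlgClosed.algebraMap_bijective_of_isIntegral
    haveI : IsAlgClosed (S.residueField x) :=
      IsAlgClosed.of_ringEquiv _ _ ((RingEquiv.ofBijective φ hφ).trans e)
    infer_instance
  have hS : ∀ x : S, EtCoh.IsStrictlyHenselianLocalRing (S.presheaf.stalk x) := fun x =>
    Groth.Agent.EtSection.isSH_stalk x (fun y hy => by
      have h := hy.mem_closed (hclosed y) rfl
      exact h.symm) (hsep x)
  let T : Over (Spec (CommRingCat.of k)) := Over.mk (Spec.map (CommRingCat.ofHom (algebraMap k R)))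
  obtain ⟨e⟩ := Groth.Agent.GmFppf.nonempty_HU_iso T (CGrpSh.pts Scheme.fppfPrecoverage G)
    (Groth.Agent.SmoothAcyc.acyc_pts (G := G)) j
  haveI := Groth.Agent.EtSection.subsingleton_H (S := S) hS hclosed
    ((Groth.Agent.EtFppfCmp.resAt T).obj (CGrpSh.pts Scheme.fppfPrecoverage G)) j hj
  exact @Equiv.subsingleton _ _ e.addCommGroupIsoToAddEquiv.toEquiv this

end Groth.Agent.S13376
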