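import Groth.Statements.S13378
import Groth.Agent.ProC84
import Groth.Agent.ProC84Prof
-- import your own Groth.Agent.* helpers here

set_option autoImplicit false
universe u
open ProCompl

namespace Groth.Agent.S13378

/-- For an abelian group A (written multiplicatively, discrete) and a subgroup A' such that the quotient
A/A' has no nontrivial divisible element and its torsion elements are killed by one positive
integer, the map induced on profinite completions by the inclusion of A' in A is injective. (The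
published statement is for topological abelian groups in which every nA is open, with completions
formed from open subgroups of finite index; this row is the case of the discrete topology.) -/
theorem result (A : Type u) [CommGroup A] (A' : Subgroup A)
    (hdiv : ∀ x : A ⧸ A', (∀ n : ℕ, 0 < n → ∃ y : A ⧸ A', y ^ n = x) → x = 1)
    (htors : ∃ N : ℕ, 0 < N ∧ ∀ x : A ⧸ A', IsOfFinOrder x → x ^ N = 1) :
    Function.Injective (ProfiniteGrp.profiniteCompletion.map (GrpCat.ofHom A'.subtype)).hom := by
  refine (injective_iff_map_eq_one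
    (ProfiniteGrp.profiniteCompletion.map (GrpCat.ofHom A'.subtype)).hom.toMonoidHom).2 fun x hx => ?_
  refine Subtype.ext (funext fun K => ?_)
  obtain ⟨N, hN0, hN⟩ := htors
  have hKf : K.toSubgroup.FiniteIndex := K.isFiniteIndex'
  let n := K.toSubgroup.index
  let U : Subgroup A := K.toSubgroup.map A'.subtype ⊔ (powMonoidHom (n * N)).range
  have hU : ∀ a : A', (a : A) ∈ U → a ∈ K.toSubgroup := by
    intro a ha
    obtain ⟨_, ⟨k, hk, rfl⟩, _, ⟨y, rfl⟩, heq⟩ := Subgroup.mem_sup.1 ha
    have hyA : y ^ (n * N) ∈ A' := by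
      have : y ^ (n * N) = (↑k)⁻¹ * (↑a : A) := by
        rw [← heq]; simp [powMonoidHom]
      rw [this]
      exact mul_mem (inv_mem k.2) a.2
    have hyN : y ^ N ∈ A' := by
      rw [← QuotientGroup.eq_one_iff, QuotientGroup.mk_pow]
      refine hN _ (isOfFinOrder_iff_pow_eq_one.2 ⟨n * N,
        Nat.mul_pos (Nat.pos_of_ne_zero hKf.index_ne_zero) hN0, ?_⟩)
      rw [← QuotientGroup.mk_pow]
      exact (QuotientGroup.eq_one_iff _).2 hyA
    have : a = k * (⟨y ^ N, hyN⟩ : A') ^ n := by
      refine Subtype.ext ?_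
      rw [← heq, Subgroup.coe_mul, SubmonoidClass.coe_pow, ← pow_mul, Nat.mul_comm N n]
      rfl
    rw [this]
    exact mul_mem hk (Subgroup.pow_index_mem _ _)
  have hex : ∀ a : A', ∃ V : Subgroup A, V.FiniteIndex ∧ U ≤ V ∧
      (a ∉ K.toSubgroup → (a : A) ∉ V) := by
    intro a
    by_cases ha : a ∈ K.toSubgroup
    · exact ⟨⊤, inferInstance, le_top, fun h => absurd ha h⟩
    obtain ⟨H, hUH, haH, hH⟩ := Groth.Agent.ProC84.exists_finiteIndex_avoid (A := Additive A)
      (Subgroup.toAddSubgroup U) (n := n * N) (Nat.mul_ne_zero hKf.index_ne_zero hN0.ne')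
      (fun y => (show (Additive.toMul y) ^ (n * N) ∈ U from Subgroup.mem_sup_right ⟨Additive.toMul y, rfl⟩))
      (a := Additive.ofMul (a : A)) (fun h => ha (hU a h))
    exact ⟨AddSubgroup.toSubgroup' H, ⟨hH.index_ne_zero⟩, fun y hy => hUH hy, fun _ => haH⟩
  choose V hVf hUV hV using hex
  have : Finite (A' ⧸ K.toSubgroup) := Subgroup.finite_quotient_of_finiteIndex
  let W : Subgroup A := ⨅ q : A' ⧸ K.toSubgroup, V q.out
  have : W.FiniteIndex := Subgroup.finiteIndex_iInf fun q => hVf q.out
  let W' : FiniteIndexNormalSubgroup A := FiniteIndexNormalSubgroup.ofSubgroup W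
  have hle : W'.comap A'.subtype ≤ K := by
    intro a ha
    by_contra hak
    have hq : a⁻¹ * (a : A' ⧸ K.toSubgroup).out ∈ K.toSubgroup :=
      QuotientGroup.eq.1 (QuotientGroup.out_eq' _).symm
    refine hV (a : A' ⧸ K.toSubgroup).out (fun h => hak ?_) ?_
    · change a ∈ K.toSubgroup
      simpa using mul_mem h (inv_mem hq)
    · have h1 : (a : A) ∈ V (a : A' ⧸ K.toSubgroup).out := Subgroup.mem_iInf.1 ha _
      have h2 : ((a⁻¹ * (a : A' ⧸ K.toSubgroup).out : A') : A) ∈ V (a : A' ⧸ K.toSubgroup).out :=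
        hUV _ (Subgroup.mem_sup_left ⟨_, hq, rfl⟩)
      simpa using mul_mem h1 h2
  obtain ⟨a, ha⟩ := QuotientGroup.mk_surjective (x.1 (W'.comap A'.subtype))
  have h1 := Groth.Agent.ProC84.map_component A'.subtype x W' ha.symm
  have hx' : (ProfiniteGrp.profiniteCompletion.map (GrpCat.ofHom A'.subtype)).hom x = 1 := hx
  rw [hx'] at h1
  have h2 : a ∈ (W'.comap A'.subtype).toSubgroup :=
    (QuotientGroup.eq_one_iff (N := W'.toSubgroup) (A'.subtype a)).1 h1.symm
  rw [← x.2 (CategoryTheory.homOfLE hle), ← ha]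
  exact (QuotientGroup.eq_one_iff a).2 (hle h2)

end Groth.Agent.S13378
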