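import Groth.Statements.S13379
import Groth.Agent.ProC84
import Groth.Agent.ProC84Prof
-- import your own Groth.Agent.* helpers here

set_option autoImplicit false
universe u
open ProCompl

namespace Groth.Agent.S13379

/-- Profinite completion is right exact: for an abelian group A (written multiplicatively, discrete) and
a subgroup A', the map on profinite completions induced by A → A/A' is surjective and its kernel is
the image of the completion of A'. (The published statement is right-exactness for topological
abelian groups with completions formed from open subgroups of finite index; this row is the case of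
the discrete topology.) -/
theorem result (A : Type u) [CommGroup A] (A' : Subgroup A) :
    Function.Surjective (ProfiniteGrp.profiniteCompletion.map (GrpCat.ofHom (QuotientGroup.mk' A'))).hom ∧
      (ProfiniteGrp.profiniteCompletion.map (GrpCat.ofHom (QuotientGroup.mk' A'))).hom.toMonoidHom.ker =
        (ProfiniteGrp.profiniteCompletion.map (GrpCat.ofHom A'.subtype)).hom.toMonoidHom.range := by
  constructor
  · intro z
    have hcl := (isCompact_range (ProfiniteGrp.profiniteCompletion.map
      (GrpCat.ofHom (QuotientGroup.mk' A'))).hom.continuous_toFun).isClosed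
    refine hcl.closure_subset_iff.2 ?_
      ((ProfiniteGrp.ProfiniteCompletion.denseRange (GrpCat.of (A ⧸ A'))) z)
    rintro _ ⟨q, rfl⟩
    obtain ⟨a, rfl⟩ := QuotientGroup.mk'_surjective A' q
    exact ⟨ProfiniteGrp.ProfiniteCompletion.etaFn (GrpCat.of A) a, Groth.Agent.ProC84.map_etaFn _ a⟩
  · ext x
    constructor
    · intro hx
      have hx' : (ProfiniteGrp.profiniteCompletion.map (GrpCat.ofHom (QuotientGroup.mk' A'))).hom x
          = 1 := hx
      have : Nonempty (FiniteIndexNormalSubgroup A) :=
        ⟨FiniteIndexNormalSubgroup.ofSubgroup ⊤⟩
      let S : FiniteIndexNormalSubgroup A →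
          Set (ProfiniteGrp.ProfiniteCompletion.completion (GrpCat.of A')) := fun K =>
        {y | ((ProfiniteGrp.profiniteCompletion.map (GrpCat.ofHom A'.subtype)).hom y).1 K = x.1 K}
      have hS : ∀ K, IsClosed (S K) := fun K => by
        have : DiscreteTopology
            ↥((ProfiniteGrp.ProfiniteCompletion.diagram (GrpCat.of A)).obj K) := ⟨rfl⟩
        exact isClosed_eq ((Groth.Agent.ProC84.continuous_component (G := A) K).comp
          (ProfiniteGrp.profiniteCompletion.map (GrpCat.ofHom A'.subtype)).hom.continuous_toFun)
          continuous_const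
      obtain ⟨y, hy⟩ := IsCompact.nonempty_iInter_of_directed_nonempty_isCompact_isClosed S
        (fun K L => by
          have := K.isFiniteIndex'
          have := L.isFiniteIndex'
          refine ⟨FiniteIndexNormalSubgroup.ofSubgroup (K.toSubgroup ⊓ L.toSubgroup), ?_, ?_⟩ <;>
            intro y hy
          · show _ = _
            rw [← ((ProfiniteGrp.profiniteCompletion.map (GrpCat.ofHom A'.subtype)).hom y).2
              (CategoryTheory.homOfLE (show FiniteIndexNormalSubgroup.ofSubgroup
                (K.toSubgroup ⊓ L.toSubgroup) ≤ K from fun a ha => ha.1)), hy, x.2]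
          · show _ = _
            rw [← ((ProfiniteGrp.profiniteCompletion.map (GrpCat.ofHom A'.subtype)).hom y).2
              (CategoryTheory.homOfLE (show FiniteIndexNormalSubgroup.ofSubgroup
                (K.toSubgroup ⊓ L.toSubgroup) ≤ L from fun a ha => ha.2)), hy, x.2])
        (fun K => by
          have := K.isFiniteIndex'
          let L : Subgroup (A ⧸ A') := K.toSubgroup.map (QuotientGroup.mk' A')
          have : L.FiniteIndex := ⟨fun h => this.index_ne_zero (Nat.eq_zero_of_zero_dvd
            (h ▸ K.toSubgroup.index_map_dvd (QuotientGroup.mk'_surjective A')))⟩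
          let K' := (FiniteIndexNormalSubgroup.ofSubgroup L).comap (QuotientGroup.mk' A')
          have hle : K ≤ K' := fun a ha => ⟨a, ha, rfl⟩
          obtain ⟨b, hb⟩ := QuotientGroup.mk_surjective (x.1 K)
          have h1 : x.1 K' = (b : A ⧸ K'.toSubgroup) := by
            rw [← x.2 (CategoryTheory.homOfLE hle), ← hb]
            rfl
          have h2 := Groth.Agent.ProC84.map_component (QuotientGroup.mk' A') x
            (FiniteIndexNormalSubgroup.ofSubgroup L) h1
          rw [hx'] at h2
          obtain ⟨k, hk, hkb⟩ := (QuotientGroup.eq_one_iff (N := L) _).1 h2.symm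
          have hmem : k⁻¹ * b ∈ A' := QuotientGroup.eq.1 hkb
          refine ⟨ProfiniteGrp.ProfiniteCompletion.etaFn (GrpCat.of A') ⟨k⁻¹ * b, hmem⟩, ?_⟩
          show _ = _
          rw [Groth.Agent.ProC84.map_etaFn, ← hb]
          exact QuotientGroup.eq.2 (by simpa [mul_inv_rev, mul_comm, mul_left_comm] using hk))
        (fun K => (hS K).isCompact) hS
      rw [Set.mem_iInter] at hy
      exact ⟨y, Subtype.ext (funext fun K => hy K)⟩
    · rintro ⟨y, rfl⟩
      refine Subtype.ext (funext fun K => ?_)
      obtain ⟨a, ha⟩ := QuotientGroup.mk_surjective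
        (y.1 ((K.comap (QuotientGroup.mk' A')).comap A'.subtype))
      have h := Groth.Agent.ProC84.map_component (QuotientGroup.mk' A') _ K
        (Groth.Agent.ProC84.map_component A'.subtype y _ ha.symm)
      refine h.trans ?_
      rw [show QuotientGroup.mk' A' (A'.subtype a) = 1 from (QuotientGroup.eq_one_iff _).2 a.2]
      rfl

end Groth.Agent.S13379
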