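import Groth.Statements.S13384
import Mathlib
import Groth.Agent.RedPts.Basic
import Groth.Agent.DiagRig.DSAlgebra
import Groth.Agent.FpqcDesc.Props
import Groth.Agent.S7782
import Groth.Agent.Thick.FlatCancel

set_option autoImplicit false
universe u
open AlgGrpK

namespace Groth.Agent.S13384

section
open Opposite CategoryTheory CategoryTheory.Limits MonoidalCategory CartesianMonoidalCategory MonObj GrpObj AlgebraicGeometry
open Groth.Agent.RedPts

set_option backward.isDefEq.respectTransparency.types false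

variable {S : Scheme.{u}}

theorem isMonHom_of_pts {A B : Over S} [GrpObj A] [GrpObj B] (v : A ⟶ B)
    (h : ∀ (Y : Over S) (x y : Y ⟶ A), (x * y) ≫ v = (x ≫ v) * (y ≫ v)) : IsMonHom v where
  one_hom := by
    have h1 := h (𝟙_ (Over S)) 1 1
    rw [_root_.mul_one] at h1
    have h2 : (1 : 𝟙_ (Over S) ⟶ A) ≫ v = 1 := mul_eq_left.mp h1.symm
    simpa [Hom.one_def, toUnit_unique (toUnit (𝟙_ (Over S))) (𝟙 _)] using h2
  mul_hom := by
    rw [mul_eq_mul, h, mul_eq_mul, MonObj.comp_mul]
    simp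

theorem isPullback_bcMap {S' : Scheme.{u}} (b : S' ⟶ S) {A B : Over S} (φ : A ⟶ B) :
    IsPullback (pullback.fst A.hom b) ((Over.pullback b).map φ).left φ.left (pullback.fst B.hom b) := by
  refine IsPullback.of_bot ?_ ?_ (IsPullback.of_hasPullback B.hom b)
  · have h1 : ((Over.pullback b).map φ).left ≫ pullback.snd B.hom b = pullback.snd A.hom b :=
      Over.w ((Over.pullback b).map φ)
    rw [h1, Over.w φ]
    exact IsPullback.of_hasPullback A.hom b
  · simp only [Over.pullback, Over.homMk_left]; exact (pullback.lift_fst _ _ _).symm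

theorem pow_eq_DSmap (U : Scheme.{u}) (M : Type) [AddCommGroup M] (n : ℕ) :
    (𝟙 (Red.DS U M)) ^ n = Red.DSmap U (nsmulAddMonoidHom n : M →+ M) := d_ext fun m => by
  have key : ∀ k : ℕ, dFn ((𝟙 (Red.DS U M)) ^ k) m = dFn (𝟙 (Red.DS U M)) (k • m) := fun k => by
    induction k with
    | zero =>
      rw [pow_zero, zero_smul, d_zero]
      have h := d_mul (1 : Red.DS U M ⟶ Red.DS U M) 1 m
      exact ((d_isUnit (1 : Red.DS U M ⟶ Red.DS U M) m).mul_eq_left).1
        (((congrArg (fun a => dFn a m) (_root_.one_mul (1 : Red.DS U M ⟶ Red.DS U M))).symm.trans h).symm)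
    | succ k ih => rw [pow_succ, d_mul, ih, succ_nsmul, d_add]
  rw [key, ← Category.id_comp (Red.DSmap U _), DSmap_fn]
  rfl

/-- A square which is cartesian on points is cartesian. -/
theorem isPullback_of_pts {P X Y Z : Over S} (a : P ⟶ X) (b : P ⟶ Y) (c : X ⟶ Z) (d : Y ⟶ Z)
    (w : a ≫ c = b ≫ d)
    (h : ∀ (W : Over S) (x : W ⟶ X) (y : W ⟶ Y), x ≫ c = y ≫ d → ∃ p, p ≫ a = x ∧ p ≫ b = y)
    (huniq : ∀ (W : Over S) (p p' : W ⟶ P), p ≫ a = p' ≫ a → p ≫ b = p' ≫ b → p = p') :
    IsPullback a b c d :=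
  ⟨⟨w⟩, ⟨PullbackCone.IsLimit.mk w
    (fun s => (h s.pt s.fst s.snd s.condition).choose)
    (fun s => (h s.pt s.fst s.snd s.condition).choose_spec.1)
    (fun s => (h s.pt s.fst s.snd s.condition).choose_spec.2)
    (fun s m h1 h2 => huniq s.pt _ _ (h1.trans (h s.pt s.fst s.snd s.condition).choose_spec.1.symm)
      (h2.trans (h s.pt s.fst s.snd s.condition).choose_spec.2.symm))⟩⟩

theorem left_isPullback {P X Y Z : Over S} {a : P ⟶ X} {b : P ⟶ Y} {c : X ⟶ Z} {d : Y ⟶ Z}
    (h : IsPullback a b c d) : IsPullback a.left b.left c.left d.left :=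
  h.map (Over.forget S)

/-- A kernel as a group object. -/
noncomputable def kerFunctor {G H : Over S} [GrpObj G] [GrpObj H] (φ : G ⟶ H) [IsMonHom φ] :
    (Over S)ᵒᵖ ⥤ GrpCat.{u} where
  obj Y := GrpCat.of (MonoidHom.mk' (fun x : Y.unop ⟶ G => x ≫ φ) (fun x y => MonObj.mul_comp x y φ)).ker
  map {Y Y'} g := GrpCat.ofHom
    (MonoidHom.mk' (fun x => ⟨g.unop ≫ x.1, by
        have hx : x.1 ≫ φ = 1 := x.2
        show (g.unop ≫ x.1) ≫ φ = 1
        rw [Category.assoc, hx, MonObj.comp_one]⟩)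
      fun x y => Subtype.ext (MonObj.comp_mul g.unop x.1 y.1))
  map_id Y := by
    ext x
    exact congrArg (fun a => a.left) (Category.id_comp x.1)
  map_comp g g' := by
    ext x
    exact Category.assoc _ _ _

theorem exists_kerGrp {G H : Over S} [GrpObj G] [GrpObj H] (φ : G ⟶ H) [IsMonHom φ] :
    ∃ (A : Over S) (_ : GrpObj A) (i : A ⟶ G) (_ : IsMonHom i) (_ : Mono i),
      IsPullback i (toUnit A) φ η[H] := by
  have hP := IsPullback.of_hasPullback φ η[H]
  have hP' : IsPullback (pullback.fst φ η[H]) (toUnit (pullback φ η[H])) φ η[H] := by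
    rwa [toUnit_unique (toUnit _) (pullback.snd φ η[H])]
  let α : (kerFunctor φ ⋙ forget GrpCat).RepresentableBy (pullback φ η[H]) :=
    { homEquiv := fun {Y} =>
        { toFun := fun f => ⟨f ≫ pullback.fst φ η[H], by
            show (f ≫ pullback.fst φ η[H]) ≫ φ = 1
            rw [Category.assoc, hP'.w, ← Category.assoc, toUnit_unique (f ≫ toUnit _) (toUnit _), Hom.one_def]⟩
          invFun := fun x => hP'.lift x.1 (toUnit Y) (by
            have hx : x.1 ≫ φ = 1 := x.2
            rw [hx, Hom.one_def])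
          left_inv := fun f => hP'.hom_ext (hP'.lift_fst _ _ _) (toUnit_unique _ _)
          right_inv := fun x => Subtype.ext (hP'.lift_fst _ _ _) }
      homEquiv_comp := fun f g => Subtype.ext (Category.assoc _ _ _) }
  letI := GrpObj.ofRepresentableBy (pullback φ η[H]) (kerFunctor φ) α
  refine ⟨_, this, pullback.fst φ η[H], isMonHom_of_pts _ fun Y x y => ?_, inferInstance, hP'⟩
  have hsymm : ∀ {W : Over S} (z : (kerFunctor φ ⋙ forget GrpCat).obj (op W)),
      (α.homEquiv.symm z) ≫ pullback.fst φ η[H] = z.1 := fun z =>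
    congrArg Subtype.val (α.homEquiv.apply_symm_apply z)
  rw [Hom.mul_def, Category.assoc]
  refine (congrArg (lift x y ≫ ·) (hsymm _)).trans ?_
  show lift x y ≫ ((fst _ _ ≫ pullback.fst φ η[H]) * (snd _ _ ≫ pullback.fst φ η[H])) = _
  rw [MonObj.comp_mul, lift_fst_assoc, lift_snd_assoc]

theorem good_DSmap_nsmul (U : Scheme.{u}) (r n : ℕ) (hn : 0 < n) :
    IsFinite (Red.DSmap U (nsmulAddMonoidHom n : (Fin r → ℤ) →+ (Fin r → ℤ))).left ∧
      Flat (Red.DSmap U (nsmulAddMonoidHom n : (Fin r → ℤ) →+ (Fin r → ℤ))).left ∧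
      Surjective (Red.DSmap U (nsmulAddMonoidHom n : (Fin r → ℤ) →+ (Fin r → ℤ))).left := by
  let φ := (nsmulAddMonoidHom n : (Fin r → ℤ) →+ (Fin r → ℤ))
  let f := (MonoidAlgebra.mapDomainAlgHom (ULift.{u} ℤ) (ULift.{u} ℤ) (AddMonoidHom.toMultiplicative φ)).toRingHom
  have hft : f.FiniteType :=
    RingHom.FiniteType.of_comp_finiteType (f := algebraMap (ULift.{u} ℤ) _) (by
      rw [show f.comp (algebraMap (ULift.{u} ℤ) _) = algebraMap (ULift.{u} ℤ) _ from RingHom.ext fun c => (MonoidAlgebra.mapDomainAlgHom (ULift.{u} ℤ) (ULift.{u} ℤ) (AddMonoidHom.toMultiplicative φ)).commutes c,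
        RingHom.finiteType_algebraMap]
      infer_instance)
  have hint : f.IsIntegral := by
    letI := f.toAlgebra
    intro x
    show _root_.IsIntegral _ x
    induction x using MonoidAlgebra.induction_on with
    | of g =>
      refine IsIntegral.of_pow hn ?_
      rw [← map_pow, show g ^ n = (AddMonoidHom.toMultiplicative φ) g from rfl]
      have h1 : (MonoidAlgebra.of (ULift.{u} ℤ) (Multiplicative (Fin r → ℤ))) ((AddMonoidHom.toMultiplicative φ) g) =
          f (MonoidAlgebra.of (ULift.{u} ℤ) (Multiplicative (Fin r → ℤ)) g) :=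
        (MonoidAlgebra.mapDomain_single).symm
      rw [h1]
      exact RingHom.isIntegralElem_map f
    | add a b ha hb => exact IsIntegral.add ha hb
    | smul c a ha =>
      rw [Algebra.smul_def]
      refine IsIntegral.mul ?_ ha
      have h1 : algebraMap (ULift.{u} ℤ) (MonoidAlgebra (ULift.{u} ℤ) (Multiplicative (Fin r → ℤ))) c =
          f (algebraMap _ _ c) := (AlgHom.commutes _ c).symm
      rw [h1]
      exact RingHom.isIntegralElem_map f
  have hfin : f.Finite := RingHom.IsIntegral.to_finite hint hft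
  have h1 : IsFinite (Red.diagMap (ULift.{u} ℤ) φ).left := (IsFinite.SpecMap_iff _).mpr hfin
  have hinj : Function.Injective φ := fun a b h => by
    funext j
    have := congrFun h j
    simpa [φ, hn.ne'] using this
  haveI : Nontrivial (ULift.{u} ℤ) := inferInstance
  have hff := DiagRig.faithfullyFlat_monMap (ULift.{u} ℤ) φ hinj
  rw [RingHom.FaithfullyFlat.iff_flat_and_comap_surjective] at hff
  have h2 : Flat (Red.diagMap (ULift.{u} ℤ) φ).left := HasRingHomProperty.Spec_iff.mpr hff.1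
  have h3 : Surjective (Red.diagMap (ULift.{u} ℤ) φ).left := ⟨hff.2⟩
  have sq := isPullback_bcMap (IsTerminal.from specULiftZIsTerminal U) (Red.diagMap (ULift.{u} ℤ) φ)
  exact ⟨MorphismProperty.of_isPullback sq h1, MorphismProperty.of_isPullback sq h2, MorphismProperty.of_isPullback sq h3⟩

/-- Power maps on tori over a field are finite, flat and surjective. -/
theorem good_pow_torus (k : Type u) [Field k] {R : Over (Spec (CommRingCat.of k))} [GrpObj R]
    (hR : Red.IsTorus R) (n : ℕ) (hn : 0 < n) :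
    IsFinite (𝟙 R ^ n : R ⟶ R).left ∧ Flat (𝟙 R ^ n : R ⟶ R).left ∧ Surjective (𝟙 R ^ n : R ⟶ R).left := by
  obtain ⟨S', f, hf, hs, -, hloc⟩ := hR
  obtain ⟨z, -⟩ := hs.1 default
  obtain ⟨U, hzU, r, ⟨e⟩⟩ := hloc z
  obtain ⟨ei, hei⟩ : ∃ ei : Red.bc (U.ι ≫ f) R ≅ Red.DS (U : Scheme.{u}) (Fin r → ℤ), IsMonHom ei.hom :=
    ⟨(Grp.forget _).mapIso e, e.hom.hom.isMonHom_hom⟩
  have hpc : ((𝟙 (Red.bc (U.ι ≫ f) R)) ^ n : Red.bc (U.ι ≫ f) R ⟶ Red.bc (U.ι ≫ f) R) ≫ ei.hom = ei.hom ^ n := by
    exact (@MonObj.pow_comp _ _ _ _ _ _ _ _ _ n ei.hom hei).trans (by rw [Category.id_comp])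
  have hmap : (Over.pullback (U.ι ≫ f)).map (𝟙 R ^ n : R ⟶ R) = (𝟙 (Red.bc (U.ι ≫ f) R)) ^ n :=
    ((Functor.homMonoidHom (F := Over.pullback (U.ι ≫ f))).map_pow (𝟙 R) n).trans
      (congrArg (fun a => a ^ n) ((Over.pullback (U.ι ≫ f)).map_id R))
  have heq : (Over.pullback (U.ι ≫ f)).map (𝟙 R ^ n : R ⟶ R) =
      ei.hom ≫ Red.DSmap (U : Scheme.{u}) (nsmulAddMonoidHom n) ≫ ei.inv := by
    rw [← Category.assoc, Iso.eq_comp_inv, ← pow_eq_DSmap, MonObj.comp_pow, Category.comp_id, hmap]
    exact hpc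
  haveI : IsIso ei.hom.left := (inferInstance : IsIso ((CategoryTheory.Over.forget _).map ei.hom))
  haveI : IsIso ei.inv.left := (inferInstance : IsIso ((CategoryTheory.Over.forget _).map ei.inv))
  obtain ⟨_, _, _⟩ := good_DSmap_nsmul (U : Scheme.{u}) r n hn
  obtain ⟨W, hW, hzW, hWU⟩ := exists_isAffineOpen_mem_and_subset (X := (U : Scheme.{u})) (x := ⟨z, hzU⟩) (U := ⊤) trivial
  let a : (W : Scheme.{u}) ⟶ Spec (CommRingCat.of k) := W.ι ≫ U.ι ≫ f
  haveI : Nonempty (W : Scheme.{u}) := ⟨⟨_, hzW⟩⟩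
  haveI : IsAffine (W : Scheme.{u}) := hW
  haveI : Flat a := inferInstance
  haveI : Surjective a := ⟨fun y => ⟨Classical.arbitrary _, Subsingleton.elim _ _⟩⟩
  haveI : QuasiCompact a := inferInstance
  let pU := (Over.pullback (U.ι ≫ f)).map (𝟙 R ^ n : R ⟶ R)
  have hU : IsFinite pU.left ∧ Flat pU.left ∧ Surjective pU.left := by
    simp only [pU, heq, Over.comp_left]
    exact ⟨inferInstance, inferInstance, inferInstance⟩
  have key : ∀ (P : MorphismProperty Scheme.{u}) [P.IsStableUnderBaseChange],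
      P pU.left → P ((Over.pullback a).map (𝟙 R ^ n : R ⟶ R)).left := fun P _ h => by
    have h1 : P ((Over.pullback W.ι).map pU).left := MorphismProperty.of_isPullback (isPullback_bcMap W.ι pU) h
    let E := Over.pullbackComp W.ι (U.ι ≫ f)
    refine (P.arrow_mk_iso_iff (Arrow.isoMk ((CategoryTheory.Over.forget _).mapIso (E.app R))
      ((CategoryTheory.Over.forget _).mapIso (E.app R)) ?_)).2 h1
    exact congrArg CommaMorphism.left (E.hom.naturality (𝟙 R ^ n : R ⟶ R)).symm
  have sqW := isPullback_bcMap a (𝟙 R ^ n : R ⟶ R)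
  haveI : Surjective (pullback.fst R.hom a) := MorphismProperty.pullback_fst _ _ inferInstance
  haveI : Flat (pullback.fst R.hom a) := inferInstance
  haveI : QuasiCompact (pullback.fst R.hom a) := inferInstance
  haveI := key @IsFinite hU.1
  haveI := key @Flat hU.2.1
  haveI := key @Surjective hU.2.2
  haveI := FpqcDesc.descendsAlong_isFinite.{u}
  refine ⟨MorphismProperty.of_isPullback_of_descendsAlong (P := @IsFinite) (Q := FpqcDesc.FPQC) sqW.flip
      ⟨⟨‹_›, ‹_›⟩, ‹_›⟩ (key @IsFinite hU.1),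
    ?_, ?_⟩
  · haveI : Flat (pullback.fst R.hom a ≫ (𝟙 R ^ n : R ⟶ R).left) := by
      rw [sqW.w]; infer_instance
    exact Thick.FlatCancel.flat_of_comp (pullback.fst R.hom a) _
  haveI : Surjective (pullback.fst R.hom a ≫ (𝟙 R ^ n : R ⟶ R).left) := by
    rw [sqW.w]; infer_instance
  exact Surjective.of_comp (pullback.fst R.hom a) _

theorem main (k : Type u) [Field k]
    (G : Over (Spec (CommRingCat.of k))) [GrpObj G] [IsCommMonObj G]
    [LocallyOfFiniteType G.hom] [QuasiCompact G.hom] [IsAffine G.left]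
    (T Q : Over (Spec (CommRingCat.of k))) [GrpObj T] [GrpObj Q] (j : T ⟶ G) (q : G ⟶ Q)
    [IsMonHom j] [IsMonHom q] [Mono j] (hT : Red.IsTorus T) (hker : AlgGrp.IsKernel j q)
    [Flat q.left] [Surjective q.left] [IsFinite Q.hom] :
    ∃ (A T' : Over (Spec (CommRingCat.of k))) (_ : GrpObj A) (_ : GrpObj T') (f : A ⊗ T' ⟶ G) (_ : IsMonHom f),
      IsFinite A.hom ∧ Red.IsTorus T' ∧ SGA7.IsIsogenyOver f ∧ Flat f.left := by
  have hker' : IsPullback j (toUnit T) q η[Q] := hker
  haveI : IsCommMonObj T := ⟨by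
    rw [mul_eq_mul, MonObj.comp_mul, ← cancel_mono j, MonObj.mul_comp, MonObj.mul_comp]
    simp only [braiding_hom_fst, braiding_hom_snd]
    exact _root_.mul_comm _ _⟩
  -- `q` is a faithfully flat quasi-compact morphism
  haveI : IsAffineHom q.left := by
    haveI : IsAffineHom (q.left ≫ Q.hom) := by rw [Over.w]; infer_instance
    exact IsAffineHom.of_comp q.left Q.hom
  haveI : Epi q.left := Flat.epi_of_flat_of_surjective _
  haveI : Epi q := Over.epi_of_epi_left q
  haveI : IsCommMonObj Q := ⟨by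
    have sq1 : IsPullback (fst G G) (q ▷ G) q (fst Q G) := by
      refine isPullback_of_pts _ _ _ _ (by simp) (fun W x y hxy => ⟨lift x (y ≫ snd Q G), by simp, ?_⟩) fun W p p' h1 h2 => ?_
      · apply CartesianMonoidalCategory.hom_ext <;> simp [hxy]
      · exact CartesianMonoidalCategory.hom_ext _ _ h1 (by simpa using congrArg (· ≫ snd Q G) h2)
    have sq2 : IsPullback (snd Q G) (Q ◁ q) q (snd Q Q) := by
      refine isPullback_of_pts _ _ _ _ (by simp) (fun W x y hxy => ⟨lift (y ≫ fst Q Q) x, by simp, ?_⟩) fun W p p' h1 h2 => ?_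
      · apply CartesianMonoidalCategory.hom_ext <;> simp [hxy]
      · exact CartesianMonoidalCategory.hom_ext _ _ (by simpa using congrArg (· ≫ fst Q Q) h2) h1
    haveI : Flat (q ▷ G).left := MorphismProperty.of_isPullback (left_isPullback sq1) ‹Flat q.left›
    haveI : Surjective (q ▷ G).left := MorphismProperty.of_isPullback (left_isPullback sq1) ‹Surjective q.left›
    haveI : Flat (Q ◁ q).left := MorphismProperty.of_isPullback (left_isPullback sq2) ‹Flat q.left›
    haveI : Surjective (Q ◁ q).left := MorphismProperty.of_isPullback (left_isPullback sq2) ‹Surjective q.left›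
    haveI : Epi (q ▷ G).left := Flat.epi_of_flat_of_surjective _
    haveI : Epi (Q ◁ q).left := Flat.epi_of_flat_of_surjective _
    haveI : Epi (q ▷ G) := Over.epi_of_epi_left _
    haveI : Epi (Q ◁ q) := Over.epi_of_epi_left _
    haveI : Epi (q ⊗ₘ q) := by rw [MonoidalCategory.tensorHom_def]; infer_instance
    rw [← cancel_epi (q ⊗ₘ q), ← IsMonHom.mul_hom, BraidedCategory.braiding_naturality_assoc, ← IsMonHom.mul_hom,
      ← Category.assoc, IsCommMonObj.mul_comm]⟩
  haveI : Flat Q.hom := inferInstance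
  haveI : LocallyOfFinitePresentation Q.hom := LocallyOfFinitePresentation.iff_locallyOfFiniteType.mpr inferInstance
  -- the order of `Q`
  let n := Scheme.Hom.finrank Q.hom default
  have hrk : ∀ s, Scheme.Hom.finrank Q.hom s = n := fun s => by rw [Subsingleton.elim s default]
  have hn : 0 < n := by
    haveI : Surjective Q.hom := by
      haveI : Surjective (η[Q].left ≫ Q.hom) := by rw [Over.w]; exact inferInstanceAs (Surjective (𝟙 _))
      exact Surjective.of_comp η[Q].left Q.hom
    exact (Scheme.Hom.one_le_finrank_iff_surjective Q.hom).2 ‹_› default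
  have hQn : ∀ {Y : Over (Spec (CommRingCat.of k))} (y : Y ⟶ Q), y ^ n = 1 := fun y =>
    S7782.result Q n hrk _ y
  -- the power map lands in `T`
  obtain ⟨r, hr⟩ : ∃ r : G ⟶ T, r ≫ j = 𝟙 G ^ n := by
    refine ⟨hker'.lift (𝟙 G ^ n) (toUnit G) ?_, hker'.lift_fst _ _ _⟩
    rw [MonObj.pow_comp, Category.id_comp, hQn, Hom.one_def]
  have hrmul : ∀ {Y : Over (Spec (CommRingCat.of k))} (x y : Y ⟶ G), (x * y) ≫ r = (x ≫ r) * (y ≫ r) := fun x y => by
    rw [← cancel_mono j, Category.assoc, hr, MonObj.comp_pow, Category.comp_id, mul_pow,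
      MonObj.mul_comp, Category.assoc, Category.assoc, hr, MonObj.comp_pow, MonObj.comp_pow, Category.comp_id,
      Category.comp_id]
  haveI : IsMonHom r := isMonHom_of_pts _ fun Y x y => hrmul x y
  have hjr : ∀ {Y : Over (Spec (CommRingCat.of k))} (t : Y ⟶ T), (t ≫ j) ≫ r = t ^ n := fun t => by
    rw [← cancel_mono j, Category.assoc, hr, MonObj.comp_pow, Category.comp_id, MonObj.pow_comp]
  let pT : T ⟶ T := 𝟙 T ^ n
  have hpT : ∀ {Y : Over (Spec (CommRingCat.of k))} (t : Y ⟶ T), t ≫ pT = t ^ n := fun t => by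
    rw [MonObj.comp_pow, Category.comp_id]
  obtain ⟨hpfin, hpflat, hpsurj⟩ := good_pow_torus k hT n hn
  haveI : IsFinite pT.left := hpfin
  have hone : ∀ {Y : Over (Spec (CommRingCat.of k))} (t : Y ⟶ T), (t ≫ j) ≫ q = 1 := fun t => by
    rw [Category.assoc, hker'.w, ← Category.assoc, toUnit_unique (t ≫ toUnit T) (toUnit _), Hom.one_def]
  have hjq : j ≫ q = 1 := by rw [hker'.w, Hom.one_def]
  -- `(r, q)` is finite
  let θ : G ⟶ T ⊗ Q := lift r q
  let π : T ⊗ G ⟶ G := (fst T G ≫ j) * snd T G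
  let κ : T ⊗ G ⟶ T ⊗ G := lift ((fst T G ≫ pT) * (snd T G ≫ r)) (snd T G)
  let c : T ⊗ G ⟶ T ⊗ Q := T ◁ q
  have hπ : ∀ {W : Over (Spec (CommRingCat.of k))} (p : W ⟶ T ⊗ G),
      p ≫ π = (p ≫ fst T G ≫ j) * (p ≫ snd T G) := fun p => MonObj.comp_mul _ _ _
  have sqθ : IsPullback π κ θ c := by
    refine isPullback_of_pts _ _ _ _ ?_ (fun W x y hxy => ?_) fun W p p' h1 h2 => ?_
    · apply CartesianMonoidalCategory.hom_ext
      · simp only [θ, κ, c, π, Category.assoc, lift_fst, whiskerLeft_fst, hrmul, hjr, hpT]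
      · simp only [θ, κ, c, π, Category.assoc, lift_snd, whiskerLeft_snd, MonObj.mul_comp, hjq, MonObj.comp_one, _root_.one_mul,
          lift_snd_assoc]
    · have e1 : x ≫ r = y ≫ fst T G := by
        simpa [θ, c] using congrArg (· ≫ fst T Q) hxy
      have e2 : x ≫ q = y ≫ snd T G ≫ q := by
        simpa [θ, c] using congrArg (· ≫ snd T Q) hxy
      obtain ⟨s, hs⟩ : ∃ s : W ⟶ T, s ≫ j = x * (y ≫ snd T G)⁻¹ := by
        refine ⟨hker'.lift (x * (y ≫ snd T G)⁻¹) (toUnit W) ?_, hker'.lift_fst _ _ _⟩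
        rw [MonObj.mul_comp, GrpObj.inv_comp, Category.assoc, e2, mul_inv_cancel, Hom.one_def]
      refine ⟨lift s (y ≫ snd T G), ?_, ?_⟩
      · rw [hπ, lift_fst_assoc, hs, lift_snd, inv_mul_cancel_right]
      · apply CartesianMonoidalCategory.hom_ext
        · have := congrArg (· ≫ r) hs
          simp only [hjr, hrmul, GrpObj.inv_comp, e1, Category.assoc] at this
          simp only [κ, Category.assoc, lift_fst, MonObj.comp_mul, MonObj.comp_pow, lift_snd_assoc, hpT, this,
            inv_mul_cancel_right]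
        · simp only [κ, Category.assoc, lift_snd]
    · have e2 : p ≫ snd T G = p' ≫ snd T G := by simpa [κ] using congrArg (· ≫ snd T G) h2
      rw [hπ, hπ, e2, mul_left_inj] at h1
      exact CartesianMonoidalCategory.hom_ext _ _ (by rwa [← cancel_mono j, Category.assoc, Category.assoc]) e2
  let κ' : T ⊗ G ⟶ T ⊗ G := lift (fst T G * (snd T G ≫ r)) (snd T G)
  let κ'' : T ⊗ G ⟶ T ⊗ G := lift (fst T G * (snd T G ≫ r)⁻¹) (snd T G)
  haveI : IsIso κ' := ⟨κ'', by
    apply CartesianMonoidalCategory.hom_ext <;> simp [κ', κ'', MonObj.comp_mul, GrpObj.comp_inv], by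
    apply CartesianMonoidalCategory.hom_ext <;> simp [κ', κ'', MonObj.comp_mul, GrpObj.comp_inv]⟩
  have hκ : κ = (pT ▷ G) ≫ κ' := by
    apply CartesianMonoidalCategory.hom_ext <;> simp [κ, κ', MonObj.comp_mul]
  have sqp : IsPullback (fst T G) (pT ▷ G) pT (fst T G) := by
    refine isPullback_of_pts _ _ _ _ (by simp) (fun W x y hxy => ⟨lift x (y ≫ snd T G), by simp, ?_⟩) fun W p p' h1 h2 => ?_
    · apply CartesianMonoidalCategory.hom_ext <;> simp [hxy]
    · exact CartesianMonoidalCategory.hom_ext _ _ h1 (by simpa using congrArg (· ≫ snd T G) h2)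
  haveI : IsFinite (pT ▷ G).left := MorphismProperty.of_isPullback (left_isPullback sqp) ‹_›
  haveI : IsIso κ'.left := (inferInstance : IsIso ((Over.forget _).map κ'))
  haveI : IsFinite κ.left := by rw [hκ, Over.comp_left]; infer_instance
  have sqc : IsPullback (snd T G) c q (snd T Q) := by
    refine isPullback_of_pts _ _ _ _ (by simp [c]) (fun W x y hxy => ⟨lift (y ≫ fst T Q) x, by simp, ?_⟩) fun W p p' h1 h2 => ?_
    · apply CartesianMonoidalCategory.hom_ext <;> simp [c, hxy]
    · exact CartesianMonoidalCategory.hom_ext _ _ (by simpa [c] using congrArg (· ≫ fst T Q) h2) h1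
  haveI : IsFinite θ.left := by
    haveI := FpqcDesc.descendsAlong_isFinite.{u}
    haveI : Surjective c.left := MorphismProperty.of_isPullback (left_isPullback sqc) ‹Surjective q.left›
    haveI : Flat c.left := MorphismProperty.of_isPullback (left_isPullback sqc) ‹Flat q.left›
    haveI : QuasiCompact c.left := MorphismProperty.of_isPullback (P := @QuasiCompact) (left_isPullback sqc) inferInstance
    exact MorphismProperty.of_isPullback_of_descendsAlong (P := @IsFinite) (Q := FpqcDesc.FPQC)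
      (left_isPullback sqθ).flip ⟨⟨‹_›, ‹_›⟩, ‹_›⟩ ‹IsFinite κ.left›
  -- the finite group
  obtain ⟨A, _, i, _, _, hA⟩ := exists_kerGrp r
  have hir : i ≫ r = 1 := by rw [hA.w, Hom.one_def]
  let s₀ : Q ⟶ T ⊗ Q := lift 1 (𝟙 Q)
  have sqA : IsPullback i (i ≫ q) θ s₀ := by
    refine isPullback_of_pts _ _ _ _ ?_ (fun W x y hxy => ?_) fun W p p' h1 _ => (cancel_mono i).1 h1
    · apply CartesianMonoidalCategory.hom_ext <;> simp [θ, s₀, hir]
    · have e1 : x ≫ r = 1 := by simpa [θ, s₀] using congrArg (· ≫ fst T Q) hxy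
      have e2 : x ≫ q = y := by simpa [θ, s₀] using congrArg (· ≫ snd T Q) hxy
      refine ⟨hA.lift x (toUnit W) (by rw [e1, Hom.one_def]), hA.lift_fst _ _ _, ?_⟩
      rw [← Category.assoc, hA.lift_fst, e2]
  haveI : IsFinite (i ≫ q).left := MorphismProperty.of_isPullback (left_isPullback sqA) ‹IsFinite θ.left›
  haveI hAfin : IsFinite A.hom := by
    rw [← Over.w (i ≫ q)]; infer_instance
  -- the isogeny
  let f : A ⊗ T ⟶ G := (fst A T ≫ i) * (snd A T ≫ j)
  have hf : ∀ {W : Over (Spec (CommRingCat.of k))} (p : W ⟶ A ⊗ T),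
      p ≫ f = (p ≫ fst A T ≫ i) * (p ≫ snd A T ≫ j) := fun p => MonObj.comp_mul _ _ _
  haveI : IsMonHom f := isMonHom_of_pts _ fun Y x y => by
    rw [hf, hf, hf, MonObj.mul_comp, MonObj.mul_comp]
    exact mul_mul_mul_comm _ _ _ _
  have sqf : IsPullback f (snd A T) r pT := by
    refine isPullback_of_pts _ _ _ _ ?_ (fun W x y hxy => ?_) fun W p p' h1 h2 => ?_
    · simp only [f, hrmul, Category.assoc, hir, MonObj.comp_one, _root_.one_mul, hpT]
      exact (Category.assoc _ _ _).symm.trans (hjr _)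
    · obtain ⟨a, ha⟩ : ∃ a : W ⟶ A, a ≫ i = x * (y ≫ j)⁻¹ := by
        refine ⟨hA.lift (x * (y ≫ j)⁻¹) (toUnit W) ?_, hA.lift_fst _ _ _⟩
        rw [hrmul, GrpObj.inv_comp, hjr, hxy, hpT, mul_inv_cancel, Hom.one_def]
      refine ⟨lift a y, ?_, lift_snd _ _⟩
      rw [hf, lift_fst_assoc, lift_snd_assoc, ha, inv_mul_cancel_right]
    · rw [hf, hf, ← Category.assoc p (snd A T), ← Category.assoc p' (snd A T), h2, mul_left_inj] at h1
      exact CartesianMonoidalCategory.hom_ext _ _ ((cancel_mono i).1 (by rwa [Category.assoc, Category.assoc])) h2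
  haveI : IsFinite f.left := MorphismProperty.of_isPullback (left_isPullback sqf).flip ‹IsFinite pT.left›
  refine ⟨A, T, inferInstance, inferInstance, f, inferInstance, hAfin, hT,
    ⟨MorphismProperty.of_isPullback (left_isPullback sqf).flip hpsurj, fun N i' hN => ?_⟩,
    MorphismProperty.of_isPullback (left_isPullback sqf).flip hpflat⟩
  have hN' : IsPullback i' (toUnit N) f η[G] := hN
  have h3 : IsFinite (toUnit N).left := MorphismProperty.of_isPullback (left_isPullback hN') ‹IsFinite f.left›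
  haveI := h3
  haveI : IsFinite (𝟙_ (Over (Spec (CommRingCat.of k)))).hom := inferInstanceAs (IsFinite (𝟙 _))
  rw [← Over.w (toUnit N)]
  infer_instance

end


open CategoryTheory AlgebraicGeometry MonoidalCategory in
/-- If an affine commutative group scheme G of finite type over a field k contains a subtorus T with
finite quotient G/T (given as a flat surjective homomorphism with kernel T onto a finite k-group),
then G receives an isogeny — a flat surjective homomorphism with finite kernel — from the product of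
a finite k-group scheme and a k-torus. (The published statement also gives two further equivalent
conditions, on the reduced identity component over an algebraic closure and on Weil restrictions of
split tori; this row states only this implication.) -/
theorem result (k : Type u) [Field k]
    (G : Over (Spec (CommRingCat.of k))) [GrpObj G] [IsCommMonObj G]
    [LocallyOfFiniteType G.hom] [QuasiCompact G.hom] [IsAffine G.left]
    (T Q : Over (Spec (CommRingCat.of k))) [GrpObj T] [GrpObj Q] (j : T ⟶ G) (q : G ⟶ Q)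
    [IsMonHom j] [IsMonHom q] [Mono j] (hT : Red.IsTorus T) (hker : AlgGrp.IsKernel j q)
    [Flat q.left] [Surjective q.left] [IsFinite Q.hom] :
    ∃ (A T' : Over (Spec (CommRingCat.of k))) (_ : GrpObj A) (_ : GrpObj T') (f : A ⊗ T' ⟶ G) (_ : IsMonHom f),
      IsFinite A.hom ∧ Red.IsTorus T' ∧ SGA7.IsIsogenyOver f ∧ Flat f.left := by
  exact main k G T Q j q hT hker

end Groth.Agent.S13384
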