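import Groth.Statements.S13386
import Mathlib.RingTheory.Localization.Defs

set_option autoImplicit false
universe u
open scoped TensorProduct
open ZeroCyc

namespace Groth.Agent.S13386

/-- Let A' = T⁻¹A be a localization of the ring A, M an A-module and M' = A' ⊗_A M. In the divided power
algebra Γ_{A'}(M') the A'-span of the d-th divided powers γ_d(1 ⊗ m), m ∈ M, is the A'-span of
γ_d(M'). (The published statement phrases this as the surjectivity of the natural map from (γ_d(M))
⊗_A A' onto (γ_d(M')); its further clause through the base-change isomorphism Γ_A(M) ⊗_A A' ≅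
Γ_{A'}(M') is not restated here.) -/
theorem result {A A' M : Type u} [CommRing A] [CommRing A']
    [Algebra A A'] (T : Submonoid A) [IsLocalization T A'] [AddCommGroup M] [Module A M] (d : ℕ) :
    Submodule.span A' (Set.range fun m : M => DividedPowerAlgebra.dp A' d ((1 : A') ⊗ₜ[A] m)) =
      Submodule.span A' (Set.range (DividedPowerAlgebra.dp A' d (M := A' ⊗[A] M))) := by
  refine le_antisymm (Submodule.span_mono ?_) (Submodule.span_le.mpr ?_)
  · rintro _ ⟨m, rfl⟩
    exact ⟨_, rfl⟩
  · rintro _ ⟨z, rfl⟩
    suffices h : ∃ (q : A') (m : M), z = q • ((1 : A') ⊗ₜ[A] m) by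
      obtain ⟨q, m, rfl⟩ := h
      rw [SetLike.mem_coe, DividedPowerAlgebra.dp_smul]
      exact Submodule.smul_mem _ _ (Submodule.subset_span ⟨m, rfl⟩)
    induction z using TensorProduct.induction_on with
    | zero => exact ⟨0, 0, by simp⟩
    | tmul a m => exact ⟨a, m, by rw [TensorProduct.smul_tmul', smul_eq_mul, mul_one]⟩
    | add y z hy hz =>
      obtain ⟨q, m, rfl⟩ := hy
      obtain ⟨q', m', rfl⟩ := hz
      obtain ⟨r, t, rfl⟩ := IsLocalization.exists_mk'_eq T q
      obtain ⟨r', t', rfl⟩ := IsLocalization.exists_mk'_eq T q'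
      refine ⟨IsLocalization.mk' A' 1 (t * t'), (r * (t' : A)) • m + (r' * (t : A)) • m', ?_⟩
      have e : ∀ (c : A) (v : M), IsLocalization.mk' A' 1 (t * t') • ((1 : A') ⊗ₜ[A] (c • v)) =
          IsLocalization.mk' A' c (t * t') • ((1 : A') ⊗ₜ[A] v) := fun c v => by
        rw [TensorProduct.tmul_smul, ← algebraMap_smul A' c ((1 : A') ⊗ₜ[A] v), smul_smul]
        congr 1
        rw [mul_comm, IsLocalization.mul_mk'_eq_mk'_of_mul, mul_one]
      rw [TensorProduct.tmul_add, smul_add, e, e, IsLocalization.mk'_cancel]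
      congr 2
      rw [mul_comm t t', IsLocalization.mk'_cancel]

end Groth.Agent.S13386
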