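import Groth.Statements.S13393
import Groth.Agent.SymCmp.CharZero

set_option autoImplicit false
universe u
open CategoryTheory CategoryTheory.Limits AlgebraicGeometry
open ZeroCyc SymProd

namespace Groth.Agent.S13393

/-- Scheme case. Let f : X → S be separated and let (Y, q, g) be a d-th symmetric product of X over S: q
: (X/S)^d → Y is a quotient of the d-fold fibre product by the symmetric group permuting the factors
and g : Y → S its structure map. Let S' → S be a morphism, let the symmetric group act on (X/S)^d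
×_S S' through the first factor (this is the d-fold fibre product of X' = X ×_S S' over S' with its
permutation action), let r : (X/S)^d ×_S S' → Y' be a quotient by that action, i.e. a symmetric
product Sym^d(X'/S'), and let m : Y' → Y ×_S S' be the morphism with r ≫ m = q × id. Then m induces
an isomorphism on residue fields at every point of Y' (trivial residue field extensions); if every
positive integer is invertible in Γ(S', O_{S'}) then m is an isomorphism; and if X' → S' is flat
then m is a closed immersion. (The published statement is for X a separated algebraic space over S,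
where the symmetric products always exist as algebraic spaces; this row is the case of schemes in
which both quotients exist as schemes, taken as hypotheses, and leaves the universal-homeomorphism
clause to the general finite-group statement.) -/
theorem result {X S S' Y Y' : Scheme.{u}} (f : X ⟶ S) [IsSeparated f] (d : ℕ)
    (q : SymProd.fibPow f d ⟶ Y) (g : Y ⟶ S) (hq : SymProd.IsSymProd f d q g)
    (gS : S' ⟶ S)
    (ρ' : ULift.{u} (Equiv.Perm (Fin d)) →* Aut (pullback (WidePullback.base fun _ : Fin d => f) gS))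
    (hρ' : ∀ σ, (ρ' σ).hom ≫ pullback.fst (WidePullback.base fun _ : Fin d => f) gS =
        pullback.fst (WidePullback.base fun _ : Fin d => f) gS ≫ SymProd.permHom f d σ.down ∧
      (ρ' σ).hom ≫ pullback.snd (WidePullback.base fun _ : Fin d => f) gS =
        pullback.snd (WidePullback.base fun _ : Fin d => f) gS)
    (r : pullback (WidePullback.base fun _ : Fin d => f) gS ⟶ Y') (hr : SGA1.IsQuot ρ' r)
    (m : Y' ⟶ pullback g gS)
    (hm : r ≫ m = pullback.map (WidePullback.base fun _ : Fin d => f) gS g gS q (𝟙 S') (𝟙 S)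
      ((Category.comp_id _).trans hq.over.symm) ((Category.comp_id gS).trans (Category.id_comp gS).symm)) :
    (∀ y : Y', IsIso (m.residueFieldMap y)) ∧
    ((∀ n : ℕ, 0 < n → IsUnit ((n : ℕ) : Γ(S', ⊤))) → IsIso m) ∧
    (Flat (pullback.snd f gS) → IsClosedImmersion m) := by
  have hqg := hq.over
  haveI := hq.isQuot.affine
  have hP : IsPullback (pullback.fst (WidePullback.base fun _ : Fin d => f) gS)
      (pullback.snd (WidePullback.base fun _ : Fin d => f) gS)
      (WidePullback.base fun _ : Fin d => f) gS := IsPullback.of_hasPullback _ _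
  have hid : fibPowMap f d f (𝟙 X) (Category.id_comp f) = 𝟙 _ := by
    refine WidePullback.hom_ext _ _ _ (fun j => ?_) ?_ <;> simp
  have hmT : r ≫ m ≫ pullback.fst g gS =
      (pullback.fst (WidePullback.base fun _ : Fin d => f) gS ≫
        fibPowMap f d f (𝟙 X) (Category.id_comp f)) ≫ q := by
    rw [reassoc_of% hm, pullback.lift_fst, hid, Category.comp_id]
  have hmS : r ≫ m ≫ pullback.snd g gS = pullback.snd (WidePullback.base fun _ : Fin d => f) gS := by
    rw [reassoc_of% hm, pullback.lift_snd, Category.comp_id]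
  have huinv : ∀ σ, (ρ' σ).hom ≫ r ≫ m = r ≫ m := fun σ => by rw [← Category.assoc, hr.inv]
  have hu1 : (r ≫ m) ≫ pullback.fst g gS = _ := (Category.assoc _ _ _).trans hmT
  have hu2 : (r ≫ m) ≫ pullback.snd g gS = _ := (Category.assoc _ _ _).trans hmS
  have chart : ∀ t : (pullback g gS : Scheme.{u}), ∃ (S0 : S.Opens) (S0' : S'.Opens) (V : Y.Opens)
      (U : (pullback g gS).Opens), IsAffineOpen S0 ∧ IsAffineOpen S0' ∧ IsAffineOpen V ∧
      S0' ≤ gS ⁻¹ᵁ S0 ∧ V ≤ g ⁻¹ᵁ S0 ∧ U = pullback.fst g gS ⁻¹ᵁ V ⊓ pullback.snd g gS ⁻¹ᵁ S0' ∧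
      t ∈ U ∧ IsAffineOpen U ∧ IsAffineOpen (m ⁻¹ᵁ U) := by
    intro t
    obtain ⟨S0, hS0, hs, -⟩ := exists_isAffineOpen_mem_and_subset
      (x := gS (pullback.snd g gS t)) (U := ⊤) trivial
    obtain ⟨S0', hS0', hs', hle⟩ := exists_isAffineOpen_mem_and_subset
      (x := pullback.snd g gS t) (U := gS ⁻¹ᵁ S0) hs
    obtain ⟨V, hV, hv, hVS⟩ := exists_isAffineOpen_mem_and_subset
      (x := pullback.fst g gS t) (U := g ⁻¹ᵁ S0) (by
        change g (pullback.fst g gS t) ∈ S0
        rw [← Scheme.Hom.comp_apply, pullback.condition]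
        exact hs)
    refine ⟨S0, S0', V, _, hS0, hS0', hV, hle, hVS, rfl, ⟨hv, hs'⟩,
      SymCmp.isAffineOpen_pullback (IsPullback.of_hasPullback g gS) hS0 hS0' hV hle hVS, ?_⟩
    refine SGA1Quot.isAffineOpen_of_preimage hr _ ?_
    have e : r ⁻¹ᵁ (m ⁻¹ᵁ (pullback.fst g gS ⁻¹ᵁ V ⊓ pullback.snd g gS ⁻¹ᵁ S0')) =
        pullback.fst (WidePullback.base fun _ : Fin d => f) gS ⁻¹ᵁ (q ⁻¹ᵁ V) ⊓
          pullback.snd (WidePullback.base fun _ : Fin d => f) gS ⁻¹ᵁ S0' := by
      simp only [Scheme.Hom.preimage_inf, ← Scheme.Hom.comp_preimage, Category.assoc, hmT, hmS, hid,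
        Category.comp_id, Category.id_comp]
    rw [e]
    refine SymCmp.isAffineOpen_pullback hP hS0 hS0' (hV.preimage q) hle ?_
    rw [← hqg, Scheme.Hom.comp_preimage]
    exact fun x hx => hVS hx
  refine ⟨fun y => SymCmp.isIso_residueFieldMap hq (𝟙 X) (Category.id_comp f) hP ρ'
    (fun σ => (hρ' σ).1) (fun σ => (hρ' σ).2) hr hmT hmS y, fun hn => ?_, fun hfl => ?_⟩
  · refine SymCmp.isIso_of_cover m fun t => ?_
    obtain ⟨S0, S0', V, U, hS0, hS0', hV, hle, hVS, hU, htU, hUa, hmUa⟩ := chart t
    refine ⟨U, htU, hUa, hmUa, ?_, ?_⟩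
    · have hsq : IsPullback (pullback.fst (WidePullback.base fun _ : Fin d => f) gS) (r ≫ m) q
          (pullback.fst g gS) := by
        have h1 : IsPullback (pullback.fst (WidePullback.base fun _ : Fin d => f) gS)
            ((r ≫ m) ≫ pullback.snd g gS) (q ≫ g) gS := by
          rw [hu2, hqg]; exact hP
        refine IsPullback.of_bot h1 ?_ (IsPullback.of_hasPullback g gS)
        rw [hu1, hid, Category.comp_id]
      have hcard : IsUnit ((Nat.card (ULift.{u} (Equiv.Perm (Fin d))) : ℕ) : Γ(pullback g gS, U)) := by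
        have h := ((hn _ (Nat.card_pos (α := ULift.{u} (Equiv.Perm (Fin d))))).map
          ((pullback.snd g gS).appLE ⊤ U le_top).hom)
        rwa [map_natCast] at h
      have h := SymCmp.injective_app_of_isUnit hq.isQuot hsq hV hUa (hU.le.trans inf_le_left) hcard
      intro a b hab
      apply h
      change (r.app (m ⁻¹ᵁ U)).hom ((m.app U).hom a) = (r.app (m ⁻¹ᵁ U)).hom ((m.app U).hom b)
      rw [hab]
    · refine SymCmp.app_surjective_of_invariants hr m huinv U fun c hc => ?_
      refine SymCmp.mem_range_of_isUnit (𝟙 X) (Category.id_comp f) ρ' hq hP (fun σ => (hρ' σ).1) huinv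
        hu1 hu2 hV hS0 hVS hS0' hle ?_ hU c hc
      have h := ((hn _ (Nat.card_pos (α := ULift.{u} (Equiv.Perm (Fin d))))).map
        (S'.presheaf.map (homOfLE (le_top : S0' ≤ ⊤)).op).hom)
      rwa [map_natCast] at h
  · refine SymCmp.isClosedImmersion_of_cover m fun t => ?_
    obtain ⟨S0, S0', V, U, hS0, hS0', hV, hle, hVS, hU, htU, hUa, hmUa⟩ := chart t
    refine ⟨U, htU, hUa, hmUa, SymCmp.app_surjective_of_invariants hr m huinv U ?_⟩
    haveI := hfl
    obtain ⟨pr', D⟩ := SymCmp.exists_setup (u := r ≫ m) (pT := pullback.fst g gS)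
      (pS := pullback.snd g gS) hq (𝟙 X) (Category.id_comp f) hP ρ' (fun σ => (hρ' σ).1)
      (fun σ => (hρ' σ).2) huinv hu1 hu2
    exact (D.mem_range hV hS0 hVS hS0' hle hU).2

end Groth.Agent.S13393
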