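import Groth.Statements.S13394
import Groth.Agent.SymCmp.CharZero

set_option autoImplicit false
universe u
open CategoryTheory CategoryTheory.Limits AlgebraicGeometry
open ZeroCyc SymProd

namespace Groth.Agent.S13394

/-- Scheme case. Let f : X → S be separated, let (Y, q, g) be a d-th symmetric product of X over S (q :
(X/S)^d → Y a quotient of the d-fold fibre product by the symmetric group, g : Y → S), let i : Z → X
be a closed immersion and (W, r, g_W) a d-th symmetric product of Z over S, let q((Z/S)^d) ⊆ Y be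
the scheme-theoretic image of the composite (Z/S)^d → (X/S)^d → Y, and let m : W → q((Z/S)^d) be the
morphism through which that composite factors via r. Then m induces an isomorphism on residue fields
at every point of W (trivial residue field extensions); if every positive integer is invertible in
Γ(S, O_S) then m is an isomorphism; and if Z → S is flat then m is a closed immersion. (The
published statement is for X a separated algebraic space over S; this row is the case of schemes in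
which both symmetric products exist as schemes, taken as hypotheses, and leaves the
universal-homeomorphism clause to the general finite-group statement.) -/
theorem result {X Z S Y W : Scheme.{u}} (f : X ⟶ S) [IsSeparated f] (d : ℕ)
    (q : SymProd.fibPow f d ⟶ Y) (g : Y ⟶ S) (hq : SymProd.IsSymProd f d q g)
    (i : Z ⟶ X) [IsClosedImmersion i]
    (r : SymProd.fibPow (i ≫ f) d ⟶ W) (gW : W ⟶ S) (hr : SymProd.IsSymProd (i ≫ f) d r gW)
    (m : W ⟶ (SymProd.fibPowMap (i ≫ f) d f i rfl ≫ q).ker.subscheme)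
    (hm : r ≫ m ≫ (SymProd.fibPowMap (i ≫ f) d f i rfl ≫ q).ker.subschemeι =
      SymProd.fibPowMap (i ≫ f) d f i rfl ≫ q) :
    (∀ w : W, IsIso (m.residueFieldMap w)) ∧
    ((∀ n : ℕ, 0 < n → IsUnit ((n : ℕ) : Γ(S, ⊤))) → IsIso m) ∧
    (Flat (i ≫ f) → IsClosedImmersion m) := by
  have hqg := hq.over
  haveI := hq.isQuot.affine
  let fZ := i ≫ f
  haveI := SymCmp.isClosedImmersion_fibPowMap (f := f) i (rfl : i ≫ f = i ≫ f) d
  let ι := (fibPowMap (i ≫ f) d f i rfl ≫ q).ker.subschemeι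
  have hP : IsPullback (𝟙 (fibPow (i ≫ f) d)) (WidePullback.base fun _ : Fin d => i ≫ f)
      (WidePullback.base fun _ : Fin d => i ≫ f) (𝟙 S) := IsPullback.of_horiz_isIso ⟨by simp⟩
  have hρ₁ : ∀ σ, (permActU (i ≫ f) d σ).hom ≫ 𝟙 (fibPow (i ≫ f) d) =
      𝟙 (fibPow (i ≫ f) d) ≫ permHom (i ≫ f) d σ.down := fun σ => by simp
  have hρ₂ : ∀ σ, (permActU (i ≫ f) d σ).hom ≫ (WidePullback.base fun _ : Fin d => i ≫ f) =
      WidePullback.base fun _ : Fin d => i ≫ f := fun σ => by simp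
  have hmT : r ≫ (m ≫ ι) ≫ 𝟙 Y =
      (𝟙 (fibPow (i ≫ f) d) ≫ fibPowMap (i ≫ f) d f i rfl) ≫ q := by
    rw [Category.comp_id, Category.id_comp]; exact hm
  have hm' : r ≫ m ≫ ι = fibPowMap (i ≫ f) d f i rfl ≫ q := hm
  have hmS : r ≫ (m ≫ ι) ≫ g = WidePullback.base fun _ : Fin d => i ≫ f := by
    rw [Category.assoc, reassoc_of% hm', hqg, fibPowMap_base]
  have hu1 : (r ≫ (m ≫ ι)) ≫ 𝟙 Y = _ := (Category.assoc _ _ _).trans hmT
  have hu2 : (r ≫ (m ≫ ι)) ≫ g = _ := (Category.assoc _ _ _).trans hmS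
  have huinv : ∀ σ, (permActU (i ≫ f) d σ).hom ≫ r ≫ (m ≫ ι) = r ≫ (m ≫ ι) := fun σ => by
    rw [← Category.assoc, hr.isQuot.inv]
  have chart : ∀ y : Y, ∃ (S0 : S.Opens) (V : Y.Opens), IsAffineOpen S0 ∧ IsAffineOpen V ∧
      V ≤ g ⁻¹ᵁ S0 ∧ y ∈ V ∧ V = (𝟙 Y) ⁻¹ᵁ V ⊓ g ⁻¹ᵁ S0 ∧ IsAffineOpen ((m ≫ ι) ⁻¹ᵁ V) := by
    intro y
    obtain ⟨S0, hS0, hs, -⟩ := exists_isAffineOpen_mem_and_subset (x := g y) (U := ⊤) trivial
    obtain ⟨V, hV, hv, hVS⟩ := exists_isAffineOpen_mem_and_subset (x := y) (U := g ⁻¹ᵁ S0) hs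
    refine ⟨S0, V, hS0, hV, hVS, hv, ?_, SGA1Quot.isAffineOpen_of_preimage hr.isQuot _ ?_⟩
    · exact le_antisymm (le_inf le_rfl hVS) inf_le_left
    · rw [← Scheme.Hom.comp_preimage, hm', Scheme.Hom.comp_preimage]
      exact (hV.preimage q).preimage _
  have res : ∀ w : W, IsIso ((m ≫ ι).residueFieldMap w) :=
    SymCmp.isIso_residueFieldMap hq i rfl hP (permActU (i ≫ f) d) hρ₁ hρ₂ hr.isQuot hmT hmS
  have hiso : ∀ (_ : ∀ y : Y, ∃ V : Y.Opens, y ∈ V ∧ IsAffineOpen V ∧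
      IsAffineOpen ((m ≫ ι) ⁻¹ᵁ V) ∧ Function.Surjective ((m ≫ ι).app V).hom), IsIso m := by
    intro h
    haveI := SymCmp.isClosedImmersion_of_cover (m ≫ ι) h
    haveI := hr.isQuot.affine
    haveI : IsAffineHom (m ≫ ι) := inferInstance
    refine IsClosedImmersion.isIso_of_ker_eq (m ≫ ι) ι m rfl ?_
    refine Eq.trans ?_ (Scheme.IdealSheafData.ker_subschemeι _).symm
    refine Eq.trans ?_ (congrArg (fun k => Scheme.Hom.ker k) hm')
    refine Scheme.IdealSheafData.ext (funext fun U => ?_)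
    rw [Scheme.Hom.ker_apply, Scheme.Hom.ker_apply]
    refine Ideal.ext fun a => ?_
    rw [RingHom.mem_ker, RingHom.mem_ker]
    change _ ↔ (r.app ((m ≫ ι) ⁻¹ᵁ (U : Y.Opens))).hom (((m ≫ ι).app (U : Y.Opens)).hom a) = 0
    exact (map_eq_zero_iff _ (hr.isQuot.injective _)).symm
  refine ⟨fun w => ?_, fun hn => hiso fun y => ?_, fun hfl => ?_⟩
  · have h := res w
    rw [ConcreteCategory.isIso_iff_bijective] at h ⊢
    refine ⟨(m.residueFieldMap w).hom.injective, fun a => ?_⟩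
    obtain ⟨b, hb⟩ := h.2 a
    exact ⟨(ι.residueFieldMap (m w)).hom b, by rw [← hb, Scheme.residueFieldMap_comp]; rfl⟩
  · obtain ⟨S0, V, hS0, hV, hVS, hyV, hV', hmV⟩ := chart y
    refine ⟨V, hyV, hV, hmV, SymCmp.app_surjective_of_invariants hr.isQuot (m ≫ ι) huinv V fun c hc => ?_⟩
    refine SymCmp.mem_range_of_isUnit i rfl (permActU (i ≫ f) d) hq hP hρ₁ huinv hu1 hu2 hV hS0 hVS
      hS0 le_rfl ?_ hV' c hc
    have h := ((hn _ (Nat.card_pos (α := ULift.{u} (Equiv.Perm (Fin d))))).map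
      (S.presheaf.map (homOfLE (le_top : S0 ≤ ⊤)).op).hom)
    rwa [map_natCast] at h
  · suffices IsIso m from inferInstance
    refine hiso fun y => ?_
    obtain ⟨S0, V, hS0, hV, hVS, hyV, hV', hmV⟩ := chart y
    refine ⟨V, hyV, hV, hmV, SymCmp.app_surjective_of_invariants hr.isQuot (m ≫ ι) huinv V ?_⟩
    haveI := hfl
    haveI : Flat (pullback.snd (i ≫ f) (𝟙 S)) := inferInstance
    obtain ⟨pr', D⟩ := SymCmp.exists_setup (u := r ≫ (m ≫ ι)) (pT := 𝟙 Y) (pS := g) hq i rfl hP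
      (permActU (i ≫ f) d) hρ₁ hρ₂ huinv hu1 hu2
    exact (D.mem_range hV hS0 hVS hS0 le_rfl hV').2

end Groth.Agent.S13394
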