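import Groth.Statements.S13395
import Groth.Agent.SymCmp.Prod

set_option autoImplicit false
universe u
open CategoryTheory CategoryTheory.Limits AlgebraicGeometry
open ZeroCyc SymProd

namespace Groth.Agent.S13395

/-- Scheme case. Let f : X → S and g : Z → S be separated morphisms and suppose that either both are
flat or every positive integer is invertible in Γ(S, O_S) (S is a scheme over the rationals). Let
(P, q_X) be a d-th symmetric product of X over S and (Q, q_Z) an e-th symmetric product of Z over S,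
i.e. quotients of the fibre powers (X/S)^d and (Z/S)^e by the symmetric groups permuting the
factors, and let S_d × S_e act on (X/S)^d ×_S (Z/S)^e factorwise. Then q_X × q_Z : (X/S)^d ×_S
(Z/S)^e → P ×_S Q is a quotient by S_d × S_e (affine, invariant, with sections of P ×_S Q the
invariant sections): the mixed symmetric product Sym^{d,e}(X, Z) is Sym^d(X/S) ×_S Sym^e(Z/S). (The
published statement is for separated algebraic spaces, where these quotients always exist, and adds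
the identification with Γ^d(X/S) ×_S Γ^e(Z/S); this row is the scheme case with the two symmetric
products taken as hypotheses.) -/
theorem result {X Z S P Q : Scheme.{u}} (f : X ⟶ S) (g : Z ⟶ S)
    [IsSeparated f] [IsSeparated g] (d e : ℕ)
    (h : (Flat f ∧ Flat g) ∨ ∀ n : ℕ, 0 < n → IsUnit ((n : ℕ) : Γ(S, ⊤)))
    (qX : SymProd.fibPow f d ⟶ P) (pP : P ⟶ S) (hqX : SymProd.IsSymProd f d qX pP)
    (qZ : SymProd.fibPow g e ⟶ Q) (pQ : Q ⟶ S) (hqZ : SymProd.IsSymProd g e qZ pQ)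
    (ρ : ULift.{u} (Equiv.Perm (Fin d) × Equiv.Perm (Fin e)) →*
      Aut (pullback (WidePullback.base fun _ : Fin d => f) (WidePullback.base fun _ : Fin e => g)))
    (hρ : ∀ σ, (ρ σ).hom ≫ pullback.fst (WidePullback.base fun _ : Fin d => f) (WidePullback.base fun _ : Fin e => g) =
        pullback.fst (WidePullback.base fun _ : Fin d => f) (WidePullback.base fun _ : Fin e => g) ≫
          SymProd.permHom f d σ.down.1 ∧
      (ρ σ).hom ≫ pullback.snd (WidePullback.base fun _ : Fin d => f) (WidePullback.base fun _ : Fin e => g) =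
        pullback.snd (WidePullback.base fun _ : Fin d => f) (WidePullback.base fun _ : Fin e => g) ≫
          SymProd.permHom g e σ.down.2) :
    SGA1.IsQuot ρ (pullback.map (WidePullback.base fun _ : Fin d => f) (WidePullback.base fun _ : Fin e => g) pP pQ
      qX qZ (𝟙 S) ((Category.comp_id _).trans hqX.over.symm) ((Category.comp_id _).trans hqZ.over.symm)) := by
  haveI := hqX.isQuot.affine
  haveI := hqZ.isQuot.affine
  let bX : SymProd.fibPow f d ⟶ S := WidePullback.base _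
  let bZ : SymProd.fibPow g e ⟶ S := WidePullback.base _
  set u := pullback.map (WidePullback.base fun _ : Fin d => f) (WidePullback.base fun _ : Fin e => g) pP pQ
    qX qZ (𝟙 S) ((Category.comp_id _).trans hqX.over.symm) ((Category.comp_id _).trans hqZ.over.symm)
  have hu₁ : u ≫ pullback.fst pP pQ = pullback.fst _ _ ≫ qX := pullback.lift_fst _ _ _
  have hu₂ : u ≫ pullback.snd pP pQ = pullback.snd _ _ ≫ qZ := pullback.lift_snd _ _ _
  have hinv : ∀ σ, (ρ σ).hom ≫ u = u := fun σ => by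
    have e1 : permHom f d σ.down.1 ≫ qX = qX := hqX.isQuot.inv ⟨σ.down.1⟩
    have e2 : permHom g e σ.down.2 ≫ qZ = qZ := hqZ.isQuot.inv ⟨σ.down.2⟩
    refine pullback.hom_ext ?_ ?_
    · rw [Category.assoc, hu₁, ← Category.assoc, (hρ σ).1, Category.assoc, e1]
    · rw [Category.assoc, hu₂, ← Category.assoc, (hρ σ).2, Category.assoc, e2]
  have chart : ∀ t : (pullback pP pQ : Scheme.{u}), ∃ (S0 : S.Opens) (VP : P.Opens) (VQ : Q.Opens),
      IsAffineOpen S0 ∧ IsAffineOpen VP ∧ IsAffineOpen VQ ∧ VP ≤ pP ⁻¹ᵁ S0 ∧ VQ ≤ pQ ⁻¹ᵁ S0 ∧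
      t ∈ pullback.fst pP pQ ⁻¹ᵁ VP ⊓ pullback.snd pP pQ ⁻¹ᵁ VQ ∧
      IsAffineOpen (pullback.fst pP pQ ⁻¹ᵁ VP ⊓ pullback.snd pP pQ ⁻¹ᵁ VQ) ∧
      IsAffineOpen (u ⁻¹ᵁ (pullback.fst pP pQ ⁻¹ᵁ VP ⊓ pullback.snd pP pQ ⁻¹ᵁ VQ)) := by
    intro t
    obtain ⟨S0, hS0, hs, -⟩ := exists_isAffineOpen_mem_and_subset
      (x := pP (pullback.fst pP pQ t)) (U := ⊤) trivial
    obtain ⟨VP, hVP, hp, hPS⟩ := exists_isAffineOpen_mem_and_subset
      (x := pullback.fst pP pQ t) (U := pP ⁻¹ᵁ S0) hs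
    obtain ⟨VQ, hVQ, hq, hQS⟩ := exists_isAffineOpen_mem_and_subset
      (x := pullback.snd pP pQ t) (U := pQ ⁻¹ᵁ S0) (by
        change pQ (pullback.snd pP pQ t) ∈ S0
        rw [← Scheme.Hom.comp_apply, ← pullback.condition]
        exact hs)
    refine ⟨S0, VP, VQ, hS0, hVP, hVQ, hPS, hQS, ⟨hp, hq⟩,
      SymCmp.isAffineOpen_pullback (IsPullback.of_hasPullback pP pQ) hS0 hVQ hVP hQS hPS, ?_⟩
    have e : u ⁻¹ᵁ (pullback.fst pP pQ ⁻¹ᵁ VP ⊓ pullback.snd pP pQ ⁻¹ᵁ VQ) =
        pullback.fst bX bZ ⁻¹ᵁ (qX ⁻¹ᵁ VP) ⊓ pullback.snd bX bZ ⁻¹ᵁ (qZ ⁻¹ᵁ VQ) := by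
      simp only [bX, bZ, Scheme.Hom.preimage_inf, ← Scheme.Hom.comp_preimage, hu₁, hu₂]
    rw [e]
    refine SymCmp.isAffineOpen_pullback (IsPullback.of_hasPullback bX bZ) hS0 (hVQ.preimage qZ)
      (hVP.preimage qX) ?_ ?_
    · simp only [bZ, ← hqZ.over, Scheme.Hom.comp_preimage]
      exact fun x hx => hQS hx
    · simp only [bX, ← hqX.over, Scheme.Hom.comp_preimage]
      exact fun x hx => hPS hx
  haveI : IsAffineHom u := isAffineHom_of_forall_exists_isAffineOpen _ fun t => by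
    obtain ⟨S0, VP, VQ, -, -, -, -, -, ht, hU, huU⟩ := chart t
    exact ⟨_, ht, hU, huU⟩
  refine SGA1Quot.isQuot_of_affine_cover (hinv := hinv) fun t => ?_
  obtain ⟨S0, VP, VQ, hS0, hVP, hVQ, hPS, hQS, ht, hU, -⟩ := chart t
  exact ⟨_, hU, ht, SymCmp.good_prod hqX hqZ h ρ (fun σ => (hρ σ).1) (fun σ => (hρ σ).2) hu₁ hu₂
    hinv hS0 hVP hPS hVQ hQS⟩

end Groth.Agent.S13395
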