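import Groth.Statements.S13402
import Mathlib
-- import your own Groth.Agent.* helpers here

set_option autoImplicit false
universe u v w
open Hopf

namespace Groth.Agent.S13402

/-- Let k be a field and let A and B be finite-dimensional commutative and cocommutative Hopf algebras
over k (finite commutative k-group schemes G = Spec A and H = Spec B). Let f : B → A be a bialgebra
map (a homomorphism G → H) which is injective and such that the ideal of A generated by the image of
the augmentation ideal of B is the augmentation ideal of A (the homomorphism G → H has trivial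
kernel). Then f is bijective, so G → H is an isomorphism; this is what makes the category of finite
commutative k-group schemes abelian. -/
theorem result (k : Type u) [Field k] (A : Type v) (B : Type w)
    [CommRing A] [HopfAlgebra k A] [Module.Finite k A] [Coalgebra.IsCocomm k A]
    [CommRing B] [HopfAlgebra k B] [Module.Finite k B] [Coalgebra.IsCocomm k B]
    (f : B →ₐc[k] A) (hinj : Function.Injective f)
    (hker : Ideal.map f (RingHom.ker (Bialgebra.counitAlgHom k B)) = RingHom.ker (Bialgebra.counitAlgHom k A)) :
    Function.Bijective f := by
  refine ⟨hinj, ?_⟩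
  let _ : Algebra B A := (f : B →ₐ[k] A).toRingHom.toAlgebra
  have : IsScalarTower k B A := IsScalarTower.of_algebraMap_eq fun c => ((f : B →ₐ[k] A).commutes c).symm
  have : Module.Finite B A := Module.Finite.of_restrictScalars_finite k B A
  let u : A →ₐ[k] TensorProduct B A A := (Algebra.TensorProduct.includeLeft : A →ₐ[B] TensorProduct B A A).restrictScalars k
  let v : A →ₐ[k] TensorProduct B A A := (Algebra.TensorProduct.includeRight : A →ₐ[B] TensorProduct B A A).restrictScalars k
  have huv : u.comp (f : B →ₐ[k] A) = v.comp (f : B →ₐ[k] A) :=
    AlgHom.ext fun b => (Algebra.TensorProduct.includeLeft : A →ₐ[B] TensorProduct B A A).commutes b |>.trans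
      ((Algebra.TensorProduct.includeRight : A →ₐ[B] TensorProduct B A A).commutes b).symm
  let vS : A →ₐ[k] TensorProduct B A A := v.comp (HopfAlgebra.antipodeAlgHom k A)
  have inv1 : WithConv.toConv v * WithConv.toConv vS = 1 := by
    apply WithConv.ofConv_injective
    apply AlgHom.toLinearMap_injective
    apply WithConv.toConv_injective
    rw [AlgHom.toLinearMap_convMul, AlgHom.toLinearMap_convOne]
    refine (congrArg WithConv.toConv (LinearMap.algHom_comp_convMul_distrib v
      (WithConv.toConv LinearMap.id) (WithConv.toConv (HopfAlgebra.antipode k (A := A))))).symm.trans ?_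
    rw [LinearMap.id_mul_antipode]
    ext a
    simp
  have inv2 : WithConv.toConv vS * WithConv.toConv v = 1 := by rw [mul_comm]; exact inv1
  let w : A →ₐ[k] TensorProduct B A A := (WithConv.toConv u * WithConv.toConv vS).ofConv
  have hwf : w.comp (f : B →ₐ[k] A) = (1 : WithConv (A →ₐ[k] TensorProduct B A A)).ofConv.comp (f : B →ₐ[k] A) := by
    rw [← inv1]
    show AlgHom.comp (WithConv.toConv u * WithConv.toConv vS).ofConv _ = _
    rw [AlgHom.convMul_comp_bialgHom_distrib, AlgHom.convMul_comp_bialgHom_distrib]
    exact congrArg (fun t => (WithConv.toConv t * WithConv.toConv (vS.comp (f : B →ₐ[k] A))).ofConv) huv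
  have hw : WithConv.toConv u * WithConv.toConv vS = 1 := by
    apply WithConv.ofConv_injective
    refine AlgHom.ext fun a => ?_
    have hle : RingHom.ker (Bialgebra.counitAlgHom k A) ≤ RingHom.ker w := by
      rw [← hker]
      refine Ideal.map_le_iff_le_comap.2 fun b hb => ?_
      show w (f b) = 0
      have := DFunLike.congr_fun hwf b
      simp only [AlgHom.comp_apply] at this
      refine this.trans ?_
      show (1 : WithConv (A →ₐ[k] TensorProduct B A A)) (f b) = 0
      rw [AlgHom.convOne_apply, CoalgHomClass.counit_comp_apply f b]
      rw [show Coalgebra.counit (R := k) b = 0 from hb, map_zero]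
    have h0 : w (a - algebraMap k A (Bialgebra.counitAlgHom k A a)) = 0 :=
      hle (by simp [RingHom.mem_ker])
    rw [map_sub, AlgHom.commutes, sub_eq_zero] at h0
    exact h0
  have : WithConv.toConv u = WithConv.toConv v :=
    calc WithConv.toConv u = WithConv.toConv u * (WithConv.toConv vS * WithConv.toConv v) := by rw [inv2, mul_one]
      _ = WithConv.toConv v := by rw [← mul_assoc, hw, one_mul]
  have hepi : Algebra.IsEpi B A := by
    rw [Algebra.isEpi_iff_forall_one_tmul_eq]
    exact fun a => (DFunLike.congr_fun (congrArg WithConv.ofConv this) a).symm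
  exact Algebra.isEpi_iff_surjective_algebraMap_of_finite.1 hepi

end Groth.Agent.S13402
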