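import Groth.Statements.S13404
import Mathlib
import Groth.Agent.AzInvLib.SH

set_option autoImplicit false
universe u v
open Hopf

namespace Groth.Agent.S13404

open scoped TensorProduct
open IsLocalRing

theorem idem_local {S : Type*} [CommRing S] [IsLocalRing S] {a : S} (ha : IsIdempotentElem a) :
    a = 0 ∨ a = 1 := by
  rcases IsLocalRing.isUnit_or_isUnit_one_sub_self a with h | h
  · exact Or.inr ((h.mul_right_inj).1 (by rw [ha.eq, mul_one]))
  · refine Or.inl (h.mul_right_eq_zero.1 ?_)
    rw [sub_mul, one_mul, ha.eq, sub_self]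

/-- A local finite algebra with residue field that of the base: tensor squares are local. -/
theorem isLocalRing_tensor {R B : Type*} [CommRing R] [IsLocalRing R] [CommRing B] [Algebra R B]
    [IsLocalRing B] [Module.Finite R B] (ρ : B →ₐ[R] R) :
    IsLocalRing (B ⊗[R] B) := by
  let ρ2 : B ⊗[R] B →ₐ[R] R := Algebra.TensorProduct.lift ρ ρ (fun _ _ => Commute.all _ _)
  haveI : Nontrivial (B ⊗[R] B) := ρ2.toRingHom.domain_nontrivial
  have hmB : ∀ a : B, a - algebraMap R B (ρ a) ∈ maximalIdeal B := fun a => by
    rw [mem_maximalIdeal, mem_nonunits_iff]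
    intro hu
    have := hu.map ρ
    rw [map_sub, AlgHom.commutes, Algebra.algebraMap_self, RingHom.id_apply, sub_self] at this
    exact not_isUnit_zero this
  refine IsLocalRing.of_unique_max_ideal ⟨(maximalIdeal R).comap ρ2.toRingHom, ?_, ?_⟩
  · haveI : (maximalIdeal R).IsMaximal := inferInstance
    exact Ideal.comap_isMaximal_of_surjective _ (fun r => ⟨algebraMap R _ r, ρ2.commutes r⟩)
  intro N hN
  haveI : Algebra.IsIntegral R (B ⊗[R] B) := Algebra.IsIntegral.of_finite R _
  haveI := hN
  have hR : N.comap (algebraMap R (B ⊗[R] B)) = maximalIdeal R :=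
    IsLocalRing.eq_maximalIdeal (Ideal.isMaximal_comap_of_isIntegral_of_isMaximal N)
  haveI : Algebra.IsIntegral B (B ⊗[R] B) :=
    ⟨fun z => (Algebra.IsIntegral.isIntegral (R := R) z).tower_top⟩
  have hL : N.comap (Algebra.TensorProduct.includeLeft : B →ₐ[R] B ⊗[R] B) = maximalIdeal B :=
    IsLocalRing.eq_maximalIdeal (Ideal.isMaximal_comap_of_isIntegral_of_isMaximal (R := B) N)
  have hRt : N.comap (Algebra.TensorProduct.includeRight : B →ₐ[R] B ⊗[R] B) = maximalIdeal B := by
    have hf : (Algebra.TensorProduct.includeRight : B →ₐ[R] B ⊗[R] B).toRingHom.IsIntegral := fun z => by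
      obtain ⟨P, hP, hP'⟩ := Algebra.IsIntegral.isIntegral (R := R) z
      refine ⟨P.map (algebraMap R B), hP.map _, ?_⟩
      rw [Polynomial.eval₂_map]
      have : (Algebra.TensorProduct.includeRight : B →ₐ[R] B ⊗[R] B).toRingHom.comp (algebraMap R B) =
          algebraMap R (B ⊗[R] B) :=
        (Algebra.TensorProduct.includeRight : B →ₐ[R] B ⊗[R] B).comp_algebraMap
      rw [this]; exact hP'
    exact IsLocalRing.eq_maximalIdeal (Ideal.isMaximal_comap_of_isIntegral_of_isMaximal' _ hf N)
  have key : ∀ z : B ⊗[R] B, z - algebraMap R _ (ρ2 z) ∈ N := fun z => by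
    induction z using TensorProduct.induction_on with
    | zero => simp
    | add x y hx hy => rw [map_add, map_add, add_sub_add_comm]; exact N.add_mem hx hy
    | tmul a b =>
      have e : a ⊗ₜ[R] b - algebraMap R _ (ρ2 (a ⊗ₜ b)) =
          ((a - algebraMap R B (ρ a)) ⊗ₜ 1) * ((1 : B) ⊗ₜ b) +
            algebraMap R _ (ρ a) * ((1 : B) ⊗ₜ (b - algebraMap R B (ρ b))) := by
        rw [show ρ2 (a ⊗ₜ b) = ρ a * ρ b from rfl, map_mul]
        have hone : ∀ r : R, (1 : B) ⊗ₜ[R] algebraMap R B r = algebraMap R (B ⊗[R] B) r := fun r =>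
          (Algebra.TensorProduct.includeRight : B →ₐ[R] B ⊗[R] B).commutes r
        have hone' : ∀ r : R, algebraMap R B r ⊗ₜ[R] (1 : B) = algebraMap R (B ⊗[R] B) r := fun r =>
          (Algebra.TensorProduct.includeLeft : B →ₐ[R] B ⊗[R] B).commutes r
        rw [TensorProduct.sub_tmul, TensorProduct.tmul_sub, sub_mul, mul_sub, hone, hone',
          Algebra.TensorProduct.tmul_mul_tmul, mul_one, one_mul]
        abel
      rw [e]
      refine N.add_mem (N.mul_mem_right _ ?_) (N.mul_mem_left _ ?_)
      · exact hL.ge (hmB a)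
      · exact hRt.ge (hmB b)
  refine hN.eq_of_le ((Ideal.comap_isMaximal_of_surjective (K := maximalIdeal R) _
    (fun r => ⟨algebraMap R _ r, ρ2.commutes r⟩)).ne_top) fun z hz => ?_
  change ρ2 z ∈ maximalIdeal R
  rw [← hR, Ideal.mem_comap]
  have := N.sub_mem hz (key z)
  simpa using this

/-- Let R be a henselian local ring and G = Spec A a finite flat group scheme over R (A a commutative
Hopf algebra over R, finite and flat as an R-module; G need not be commutative). Let e be an
idempotent of A on which the counit takes the value 1 and such that A/(1 - e) is a local ring, so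
that Spec A/(1 - e) is the connected component G⁰ of G containing the unit section. Then the ideal
(1 - e) is a Hopf ideal (G⁰ is a closed subgroup scheme of G), A/(1 - e) is a henselian local ring
with the same residue field as R (the composite R → A/(1 - e) → residue field is surjective), and
A/(1 - e) is flat over R. (The published statement also asserts that G⁰ is normal in G; this row
does not state normality.) -/
theorem result (R : Type u) [CommRing R] [HenselianLocalRing R]
    (A : Type v) [CommRing A] [HopfAlgebra R A] [Module.Finite R A] [Module.Flat R A]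
    (e : A) (he : IsIdempotentElem e) (hε : Bialgebra.counitAlgHom R A e = 1)
    [IsLocalRing (A ⧸ Ideal.span ({1 - e} : Set A))] :
    (Ideal.span ({1 - e} : Set A)).IsHopfIdeal R ∧ HenselianLocalRing (A ⧸ Ideal.span ({1 - e} : Set A)) ∧
      Function.Surjective (⇑(IsLocalRing.residue (A ⧸ Ideal.span ({1 - e} : Set A))) ∘ ⇑(algebraMap R (A ⧸ Ideal.span ({1 - e} : Set A)))) ∧
      Module.Flat R (A ⧸ Ideal.span ({1 - e} : Set A)) := by
  let I : Ideal A := Ideal.span {1 - e}
  let ε := Bialgebra.counitAlgHom R A
  let π := Ideal.Quotient.mkₐ R I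
  have hπe : π e = 1 := (Ideal.Quotient.eq.2 (Ideal.mem_span_singleton_self (1 - e))).symm
  let ρ : A ⧸ I →ₐ[R] R := Ideal.Quotient.liftₐ I ε (fun a ha => by
    obtain ⟨c, rfl⟩ := Ideal.mem_span_singleton'.1 ha
    rw [map_mul, map_sub, map_one, hε, sub_self, mul_zero])
  haveI := isLocalRing_tensor (R := R) (B := A ⧸ I) ρ
  have hunit : ∀ a : A, IsIdempotentElem a → ε a = 1 → π a = 1 := fun a ha h1 => by
    rcases idem_local (ha.map π) with h | h
    · exfalso
      have : ρ (π a) = ε a := rfl
      rw [h, map_zero, h1] at this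
      exact zero_ne_one this
    · exact h
  have hcomul : Algebra.TensorProduct.map π π (Bialgebra.comulAlgHom R A e) = 1 := by
    rcases idem_local
      ((he.map (Bialgebra.comulAlgHom R A)).map (Algebra.TensorProduct.map π π)) with h | h
    · exfalso
      have h' := congrArg (Algebra.TensorProduct.map ρ (AlgHom.id R (A ⧸ I))) h
      have hcomp : ∀ z : A ⊗[R] A, Algebra.TensorProduct.map ρ (AlgHom.id R (A ⧸ I))
          (Algebra.TensorProduct.map π π z) =
            LinearMap.lTensor R π.toLinearMap (LinearMap.rTensor A (Coalgebra.counit (R := R)) z) := fun z => by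
        induction z using TensorProduct.induction_on with
        | zero => simp
        | add x y hx hy => simp only [map_add, hx, hy]
        | tmul x y => rfl
      rw [map_zero, hcomp, Bialgebra.comulAlgHom_apply, Coalgebra.rTensor_counit_comul, LinearMap.lTensor_tmul,
        AlgHom.toLinearMap_apply, hπe] at h'
      exact (one_ne_zero : (1 : R ⊗[R] (A ⧸ I)) ≠ 0) (Algebra.TensorProduct.one_def.trans h')
    · exact h
  refine ⟨{ counit_eq_zero := fun x hx => ?_, map_mkQ_comul_eq_zero := fun x hx => ?_,
            antipode_mem := fun x hx => ?_ }, ?_, ?_, ?_⟩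
  · obtain ⟨c, rfl⟩ := Ideal.mem_span_singleton'.1 hx
    exact (map_mul ε c (1 - e)).trans (by rw [map_sub, map_one, hε, sub_self, mul_zero])
  · obtain ⟨c, rfl⟩ := Ideal.mem_span_singleton'.1 hx
    have : Algebra.TensorProduct.map π π (Bialgebra.comulAlgHom R A (c * (1 - e))) = 0 := by
      rw [map_mul, map_mul, map_sub, map_sub, map_one, map_one, hcomul, sub_self, mul_zero]
    exact this
  · obtain ⟨c, rfl⟩ := Ideal.mem_span_singleton'.1 hx
    change HopfAlgebra.antipodeAlgHom R A (c * (1 - e)) ∈ I
    rw [map_mul, map_sub, map_one]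
    refine Ideal.mul_mem_left _ _ ?_
    have h := hunit _ (he.map (HopfAlgebra.antipodeAlgHom R A))
      ((HopfAlgebra.counit_antipode (R := R) e).trans hε)
    exact Ideal.Quotient.eq.1 (h.trans (map_one π).symm).symm
  · haveI : Small.{u} (A ⧸ I) := by
      obtain ⟨n, f, hf⟩ := Module.Finite.exists_fin' R (A ⧸ I)
      exact small_of_surjective hf
    let eq : Shrink.{u} (A ⧸ I) ≃ₐ[R] A ⧸ I := Shrink.algEquiv R (A ⧸ I)
    haveI : IsLocalRing (Shrink.{u} (A ⧸ I)) := eq.symm.toRingEquiv.isLocalRing
    haveI : Module.Finite R (Shrink.{u} (A ⧸ I)) := Module.Finite.equiv eq.symm.toLinearEquiv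
    haveI := StrictHens.Basic.henselianLocalRing_of_integral (R := R) (T := Shrink.{u} (A ⧸ I))
    exact AzInvLib.henselianLocalRing_of_surjective eq.toRingEquiv.toRingHom eq.surjective
  · intro x
    obtain ⟨a, rfl⟩ := IsLocalRing.residue_surjective x
    refine ⟨ρ a, ?_⟩
    refine Ideal.Quotient.eq.2 ?_
    rw [mem_maximalIdeal, mem_nonunits_iff]
    intro hu
    have := hu.map ρ
    rw [map_sub, AlgHom.commutes, Algebra.algebraMap_self, RingHom.id_apply, sub_self] at this
    exact not_isUnit_zero this
  · let s : (A ⧸ I) →ₗ[R] A := Submodule.liftQ (I.restrictScalars R) (LinearMap.mulLeft R e) (fun a ha => by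
      obtain ⟨c, rfl⟩ := Ideal.mem_span_singleton'.1 ha
      change e * (c * (1 - e)) = 0
      rw [mul_sub, mul_one, mul_sub, mul_comm c e, ← mul_assoc, he.eq, sub_self])
    refine Module.Flat.of_retract s π.toLinearMap (LinearMap.ext fun x => ?_)
    obtain ⟨a, rfl⟩ := Ideal.Quotient.mk_surjective x
    change π (e * a) = π a
    rw [map_mul, hπe, one_mul]

end Groth.Agent.S13404
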