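import Groth.Statements.S13405
import Groth.Agent.S7949
import Groth.Agent.CartKit.LiftTrunc

set_option autoImplicit false
universe u v
open Hopf

namespace Groth.Agent.S13405

open TensorProduct
/-- Let R be a complete discrete valuation ring whose residue field is perfect of characteristic p > 0,
and let G = Spec A be a connected finite flat group scheme over R: A is a commutative Hopf algebra
over R, finite and flat as an R-module, and a local ring. Then for some n there are natural numbers
e_1, ..., e_n and power series f_1, ..., f_n in R[[x_1, ..., x_n]] such that A is isomorphic as an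
R-algebra to R[[x_1, ..., x_n]]/(f_1, ..., f_n) and each f_i is x_i ^ (p ^ e_i) plus a polynomial
all of whose coefficients lie in the maximal ideal of R and whose degree in x_i is less than p ^
e_i. -/
theorem result (R : Type u) [CommRing R] [IsDomain R]
    [IsDiscreteValuationRing R] [IsAdicComplete (IsLocalRing.maximalIdeal R) R]
    (p : ℕ) [Fact p.Prime] [CharP (IsLocalRing.ResidueField R) p] [PerfectField (IsLocalRing.ResidueField R)]
    (A : Type v) [CommRing A] [HopfAlgebra R A] [Module.Finite R A] [Module.Flat R A] [IsLocalRing A] :
    ∃ (n : ℕ) (e : Fin n → ℕ) (g : Fin n → MvPolynomial (Fin n) R),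
      (∀ i, (∀ d, (g i).coeff d ∈ IsLocalRing.maximalIdeal R) ∧ (g i).degreeOf i < p ^ e i) ∧
      Nonempty (A ≃ₐ[R] (MvPowerSeries (Fin n) R ⧸
        Ideal.span (Set.range fun i => (MvPowerSeries.X i : MvPowerSeries (Fin n) R) ^ p ^ e i + ↑(g i)))) := by
  have : Module.Free R A := Module.free_of_flat_of_isLocalRing
  let k := IsLocalRing.ResidueField R
  let incl : A →+* TensorProduct R k A := (Algebra.TensorProduct.includeRight : A →ₐ[R] TensorProduct R k A).toRingHom
  have hincl : Function.Surjective incl := by
    intro z
    induction z using TensorProduct.induction_on with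
    | zero => exact ⟨0, map_zero _⟩
    | add x y hx hy =>
      obtain ⟨a, rfl⟩ := hx
      obtain ⟨b, rfl⟩ := hy
      exact ⟨a + b, map_add _ _ _⟩
    | tmul c a =>
      obtain ⟨r, rfl⟩ := IsLocalRing.residue_surjective c
      refine ⟨r • a, ?_⟩
      show (1 : k) ⊗ₜ[R] (r • a) = _
      rw [TensorProduct.tmul_smul, TensorProduct.smul_tmul', Algebra.smul_def, mul_one]
      rfl
  have : Nontrivial (TensorProduct R k A) := by
    have hA : Nontrivial A := inferInstance
    refine Module.nontrivial_of_finrank_pos (R := k) ?_
    rw [Module.finrank_baseChange]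
    exact Module.finrank_pos
  have : IsLocalRing (TensorProduct R k A) := IsLocalRing.of_surjective' incl hincl
  obtain ⟨n, e, he, ⟨ψ⟩⟩ := Groth.Agent.S7949.result k (TensorProduct R k A) p
  obtain ⟨g, hg, hiso⟩ := Groth.Agent.CartKit.InfStruct.exists_presentation p e ψ
  exact ⟨n, e, g, hg, hiso⟩

end Groth.Agent.S13405
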