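import Groth.Statements.S13407
import Mathlib
-- import your own Groth.Agent.* helpers here

set_option autoImplicit false
universe u
open TensorProduct
open Hopf

namespace Groth.Agent.S13407

open TensorProduct

section
variable {R : Type u} [CommRing R] {K : Type u} [Field K] [Algebra R K] [IsFractionRing R K]
  {A : Type u} [CommRing A] [HopfAlgebra R A]

local notation "ι" => (Algebra.TensorProduct.includeRight : A →ₐ[R] K ⊗[R] A)

lemma compat (W : Type u) [AddCommGroup W] [Module R W] [Module K W] [IsScalarTower R K W] :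
    CompatibleSMul R K W W :=
  IsLocalization.tensorProduct_compatibleSMul (nonZeroDivisors R) K W W

variable (K) in
/-- the comparison map on tensor squares -/
noncomputable def sq {Q W : Type u} [AddCommGroup Q] [Module R Q] [AddCommGroup W] [Module R W] [Module K W]
    [IsScalarTower R K W] (i : Q →ₗ[R] W) : Q ⊗[R] Q →ₗ[R] W ⊗[K] W :=
  (mapOfCompatibleSMul K R R W W) ∘ₗ TensorProduct.map i i

@[simp] lemma sq_tmul {Q W : Type u} [AddCommGroup Q] [Module R Q] [AddCommGroup W] [Module R W] [Module K W]
    [IsScalarTower R K W] (i : Q →ₗ[R] W) (a b : Q) : sq K i (a ⊗ₜ b) = i a ⊗ₜ[K] i b := rfl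

lemma sq_injective {Q W : Type u} [AddCommGroup Q] [Module R Q] [AddCommGroup W] [Module R W] [Module K W]
    [IsScalarTower R K W] [Module.Flat R Q] (i : Q →ₗ[R] W) (hi : Function.Injective i) :
    Function.Injective (sq K i) := by
  have : Module.Flat R K := IsLocalization.flat K (nonZeroDivisors R)
  have : Module.Flat R W := Module.Flat.trans R K W
  have := compat (R := R) (K := K) W
  refine Function.Injective.comp (g := mapOfCompatibleSMul K R R W W) ?_ ?_
  · exact (equivOfCompatibleSMul K R R W W).injective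
  · rw [← LinearMap.rTensor_comp_lTensor]
    exact (Module.Flat.rTensor_preserves_injective_linearMap i hi).comp
      (Module.Flat.lTensor_preserves_injective_linearMap i hi)

lemma counit_incl (x : A) : Coalgebra.counit (R := K) (ι x) = algebraMap R K (Coalgebra.counit x) := by
  simp [TensorProduct.counit_tmul, Algebra.smul_def]

lemma antipode_incl (x : A) : HopfAlgebra.antipode K (ι x) = ι (HopfAlgebra.antipode R x) := by
  simp [TensorProduct.antipode_def]

lemma comul_incl (x : A) :
    Coalgebra.comul (R := K) (ι x) = sq K (ι).toLinearMap (Coalgebra.comul (R := R) x) := by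
  rw [Algebra.TensorProduct.includeRight_apply, TensorProduct.comul_tmul, Bialgebra.comul_one,
    Algebra.TensorProduct.one_def]
  induction Coalgebra.comul (R := R) x using TensorProduct.induction_on with
  | zero => simp
  | tmul a b => rfl
  | add y z hy hz => simp only [tmul_add, map_add, hy, hz]

/-- The square comparing `A/J'` with `(K ⊗ A)/J`. -/
lemma key (J' : Ideal A) (J : Ideal (K ⊗[R] A)) (h : J' ≤ J.comap ι) (x : A) :
    TensorProduct.map (J.restrictScalars K).mkQ (J.restrictScalars K).mkQ (Coalgebra.comul (R := K) (ι x)) =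
      sq K ((Ideal.quotientMapₐ J ι h).toLinearMap : A ⧸ J' →ₗ[R] (K ⊗[R] A) ⧸ J)
        (TensorProduct.map (J'.restrictScalars R).mkQ (J'.restrictScalars R).mkQ (Coalgebra.comul (R := R) x)) := by
  rw [comul_incl]
  induction Coalgebra.comul (R := R) x using TensorProduct.induction_on with
  | zero => simp only [map_zero]; rfl
  | tmul a b => rfl
  | add y z hy hz => simp only [map_add, hy, hz]; exact (map_add _ _ _).symm

lemma isHopfIdeal_map (J' : Ideal A) [J'.IsHopfIdeal R] : (J'.map ι).IsHopfIdeal K := by
  let J := J'.map ι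
  have h1 : J' ≤ J.comap ι := Ideal.le_comap_map
  let mm : (K ⊗[R] A) →ₐ[K] ((K ⊗[R] A) ⧸ J) ⊗[K] ((K ⊗[R] A) ⧸ J) :=
    (Algebra.TensorProduct.map (Ideal.Quotient.mkₐ K J) (Ideal.Quotient.mkₐ K J)).comp (Bialgebra.comulAlgHom K (K ⊗[R] A))
  have hcom : J ≤ RingHom.ker mm := Ideal.map_le_iff_le_comap.2 fun x hx => by
    rw [Ideal.mem_comap, RingHom.mem_ker]
    show TensorProduct.map (J.restrictScalars K).mkQ (J.restrictScalars K).mkQ (Coalgebra.comul (R := K) (ι x)) = 0
    rw [key J' J h1 x, Submodule.IsCoideal.map_mkQ_comul_eq_zero (I := J'.restrictScalars R) hx]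
    exact map_zero _
  have hcou : J ≤ RingHom.ker (Bialgebra.counitAlgHom K (K ⊗[R] A)) := Ideal.map_le_iff_le_comap.2 fun x hx => by
    rw [Ideal.mem_comap, RingHom.mem_ker, Bialgebra.counitAlgHom_apply, counit_incl,
      Submodule.IsCoideal.counit_eq_zero (I := J'.restrictScalars R) hx, map_zero]
  have hant : J ≤ J.comap (HopfAlgebra.antipodeAlgHom K (K ⊗[R] A)) := Ideal.map_le_iff_le_comap.2 fun x hx => by
    show HopfAlgebra.antipode K (ι x) ∈ J
    rw [antipode_incl]
    exact Ideal.mem_map_of_mem _ (Ideal.IsHopfIdeal.antipode_mem (R := R) hx)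
  exact { counit_eq_zero := fun x hx => hcou hx, map_mkQ_comul_eq_zero := fun x hx => hcom hx, antipode_mem := fun x hx => hant hx }

lemma flat_comap [IsDomain R] [IsDedekindDomain R] (J : Ideal (K ⊗[R] A)) : Module.Flat R (A ⧸ J.comap ι) := by
  have hinj : Function.Injective (Ideal.quotientMapₐ J ι (le_refl (J.comap ι))).toLinearMap :=
    Ideal.quotientMap_injective
  have : Module.Flat R K := IsLocalization.flat K (nonZeroDivisors R)
  have : Module.Flat R ((K ⊗[R] A) ⧸ J) := Module.Flat.trans R K _
  rw [IsDedekindDomain.flat_iff_torsion_eq_bot, ← Submodule.isTorsionFree_iff_torsion_eq_bot]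
  exact hinj.moduleIsTorsionFree _ (by simp)

lemma isHopfIdeal_comap [IsDomain R] [IsDedekindDomain R] (J : Ideal (K ⊗[R] A)) [J.IsHopfIdeal K] :
    (J.comap ι).IsHopfIdeal R := by
  have := flat_comap J
  have hinj : Function.Injective (Ideal.quotientMapₐ J ι (le_refl (J.comap ι))).toLinearMap :=
    Ideal.quotientMap_injective
  refine { counit_eq_zero := fun x hx => ?_, map_mkQ_comul_eq_zero := fun x hx => ?_, antipode_mem := fun x hx => ?_ }
  · apply IsFractionRing.injective R K
    rw [map_zero, ← counit_incl]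
    exact Submodule.IsCoideal.counit_eq_zero (I := J.restrictScalars K) (show ι x ∈ J from hx)
  · have h := key (J.comap ι) J le_rfl x
    rw [Submodule.IsCoideal.map_mkQ_comul_eq_zero (I := J.restrictScalars K) (show ι x ∈ J from hx)] at h
    exact sq_injective _ hinj (h.symm.trans (map_zero _).symm)
  · show ι (HopfAlgebra.antipode R x) ∈ J
    rw [← antipode_incl]
    exact Ideal.IsHopfIdeal.antipode_mem (R := K) (show ι x ∈ J from hx)

end

/-- Let R be a Dedekind domain with fraction field K and let G = Spec A be a finite flat group scheme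
over R (A a commutative Hopf algebra over R, finite and flat as an R-module). Closed flat R-subgroup
schemes of G correspond one-to-one to closed K-subgroup schemes of the generic fibre G_K under H ↦
H_K: the map sending a Hopf ideal J' of A with A/J' flat over R to the ideal it generates in K ⊗_R A
is a bijection onto the set of Hopf ideals of the Hopf algebra K ⊗_R A over K (its inverse takes a
Hopf ideal of K ⊗_R A to its preimage in A). -/
theorem result (R : Type u) [CommRing R] [IsDedekindDomain R]
    (K : Type u) [Field K] [Algebra R K] [IsFractionRing R K]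
    (A : Type u) [CommRing A] [HopfAlgebra R A] [Module.Finite R A] [Module.Flat R A] :
    Set.BijOn (fun J' : Ideal A => Ideal.map (Algebra.TensorProduct.includeRight : A →ₐ[R] K ⊗[R] A) J')
      {J' : Ideal A | J'.IsHopfIdeal R ∧ Module.Flat R (A ⧸ J')}
      {J : Ideal (K ⊗[R] A) | J.IsHopfIdeal K} := by
  refine ⟨fun J' hJ' => ?_, fun J₁ h₁ J₂ h₂ h => ?_, fun J hJ => ?_⟩
  · have := hJ'.1
    exact isHopfIdeal_map (K := K) J'
  · have sat : ∀ J' : Ideal A, Module.Flat R (A ⧸ J') →
        (J'.map (Algebra.TensorProduct.includeRight : A →ₐ[R] K ⊗[R] A)).comap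
          (Algebra.TensorProduct.includeRight : A →ₐ[R] K ⊗[R] A) = J' := by
      intro J' hflat
      refine le_antisymm (fun x hx => ?_) Ideal.le_comap_map
      let f : K ⊗[R] A →ₐ[K] K ⊗[R] (A ⧸ J') := Algebra.TensorProduct.map (AlgHom.id K K) (Ideal.Quotient.mkₐ R J')
      have hle : J'.map (Algebra.TensorProduct.includeRight : A →ₐ[R] K ⊗[R] A) ≤ RingHom.ker f :=
        Ideal.map_le_iff_le_comap.2 fun y hy => by
          rw [Ideal.mem_comap, RingHom.mem_ker]
          simp [f, Ideal.Quotient.eq_zero_iff_mem.2 hy]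
      have h0 : (1 : K) ⊗ₜ[R] Ideal.Quotient.mk J' x = 0 := by
        have := hle hx
        rw [RingHom.mem_ker] at this
        simpa [f] using this
      exact Ideal.Quotient.eq_zero_iff_mem.1
        (Algebra.TensorProduct.includeRight_injective (R := R) (A := K) (B := A ⧸ J') (IsFractionRing.injective R K)
          (by simpa using h0))
    have h' := congrArg (Ideal.comap (Algebra.TensorProduct.includeRight : A →ₐ[R] K ⊗[R] A)) h
    rwa [sat J₁ h₁.2, sat J₂ h₂.2] at h'
  · have : J.IsHopfIdeal K := hJ
    refine ⟨J.comap (Algebra.TensorProduct.includeRight : A →ₐ[R] K ⊗[R] A), ⟨isHopfIdeal_comap J, flat_comap J⟩, ?_⟩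
    refine le_antisymm (Ideal.map_le_iff_le_comap.2 le_rfl) fun h hh => ?_
    obtain ⟨⟨a, t⟩, hs⟩ := IsLocalizedModule.surj (nonZeroDivisors R) (TensorProduct.mk R K A 1) h
    have hu : IsUnit (algebraMap R (K ⊗[R] A) t) := by
      rw [IsScalarTower.algebraMap_apply R K (K ⊗[R] A)]
      exact (IsLocalization.map_units K t).map _
    have hs' : algebraMap R (K ⊗[R] A) t * h = (Algebra.TensorProduct.includeRight : A →ₐ[R] K ⊗[R] A) a := by
      rw [← Algebra.smul_def]; exact hs
    rw [← Ideal.unit_mul_mem_iff_mem _ hu, hs']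
    refine Ideal.mem_map_of_mem _ ?_
    rw [Ideal.mem_comap, ← hs']
    exact Ideal.mul_mem_left _ _ hh

end Groth.Agent.S13407
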