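import Groth.Statements.S13414
import Groth.Agent.S13412
import Groth.Agent.S19255
import Groth.Agent.S0108
import Groth.Agent.GalCohAux.EtLocUD

set_option autoImplicit false
universe u
open CategoryTheory CategoryTheory.Limits AlgebraicGeometry
open HLoc2

namespace Groth.Agent.S13414

/-- Let `k` be an algebraically closed field of characteristic zero, `R₀` an excellent normal henselian
local `k`-domain of Krull dimension two with residue field `k`, `K` a finite extension of its
fraction field, `O_K` the integral closure of `R₀` in `K`, and `X` the open subscheme of `Spec O_K`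
of non-closed points; let `U` be a nonempty open subscheme of `X`. Assume, as holds in this
situation, that `K` has etale cohomological dimension at most 2 and that the residue field of every
closed point of `U` has cohomological dimension at most 1. (The published text asserts both facts
for this situation without proof; this row carries them as hypotheses.) Then `H^r(U, G_m) = 0` for
every `r ≥ 4`. (The published item also contains a four-term exact sequence involving the Brauer
groups of `K` and of its completions, which is not restated here.) -/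
theorem result
    (k : Type u) [Field k] [IsAlgClosed k] [CharZero k]
    (R₀ : Type u) [CommRing R₀] [IsDomain R₀] [HenselianLocalRing R₀] [Algebra k R₀]
    [IsIntegrallyClosed R₀] (hexc : EGA4.IsExcellent R₀) (hdim : ringKrullDim R₀ = 2)
    (hres : Function.Surjective (fun a : k => IsLocalRing.residue R₀ (algebraMap k R₀ a)))
    (K : Type u) [Field K] [Algebra R₀ K] [Algebra (FractionRing R₀) K]
    [IsScalarTower R₀ (FractionRing R₀) K] [FiniteDimensional (FractionRing R₀) K]
    (U : (Spec (CommRingCat.of ↥(integralClosure R₀ K))).Opens)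
    (hU : ∀ x : ↥(Spec (CommRingCat.of ↥(integralClosure R₀ K))), x ∈ U →
      ¬ IsClosed ({x} : Set ↥(Spec (CommRingCat.of ↥(integralClosure R₀ K)))))
    (hne : Nonempty ↥(↑U : Scheme.{u}))
    (hcdK : EtCoh.CohDimLE (Spec (CommRingCat.of K)) 2)
    (hcdv : ∀ x : ↥(↑U : Scheme.{u}), IsClosed ({x} : Set ↥(↑U : Scheme.{u})) →
      EtCoh.CohDimLE (Spec ((↑U : Scheme.{u}).residueField x)) 1)
    (r : ℕ) (hr : 4 ≤ r) :
    Subsingleton (EtCoh.H (↑U : Scheme.{u}) (EtCoh.Gm (↑U : Scheme.{u})) r) := by
  classical
  haveI : IsNoetherianRing R₀ := hexc.1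
  haveI : CharZero R₀ := charZero_of_injective_algebraMap (algebraMap k R₀).injective
  let S := ↥(integralClosure R₀ K)
  haveI : Module.Finite R₀ S := IsIntegralClosure.finite R₀ (FractionRing R₀) K S
  haveI : IsNoetherianRing S := IsNoetherianRing.of_finite R₀ S
  haveI : IsFractionRing S K :=
    IsIntegralClosure.isFractionRing_of_finite_extension R₀ (FractionRing R₀) K S
  haveI : IsIntegrallyClosed S := integralClosure.isIntegrallyClosedOfFiniteExtension (FractionRing R₀)
  haveI : FaithfulSMul R₀ S := (faithfulSMul_iff_algebraMap_injective _ _).2 fun a b h =>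
    (IsFractionRing.injective R₀ (FractionRing R₀)) ((algebraMap (FractionRing R₀) K).injective (by
      rw [← IsScalarTower.algebraMap_apply, ← IsScalarTower.algebraMap_apply]
      exact congrArg Subtype.val h))
  have hdimS : ringKrullDim S = 2 :=
    (VarDim.ringKrullDim_eq_of_isIntegral (R := R₀) (S := S)).trans hdim
  let X := Spec (CommRingCat.of S)
  haveI : IsNoetherian X := inferInstance
  haveI : IsLocallyNoetherian (↑U : Scheme.{u}) := isLocallyNoetherian_of_isOpenImmersion U.ι
  haveI : CompactSpace (↑U : Scheme.{u}) :=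
    isCompact_iff_compactSpace.1 (TopologicalSpace.NoetherianSpace.isCompact (U : Set X))
  haveI : IsNoetherian (↑U : Scheme.{u}) := {}
  let pr : (↑U : Scheme.{u}) → Ideal S := fun x => (U.ι x).asIdeal
  have hsp : ∀ a b : (↑U : Scheme.{u}), a ⤳ b ↔ pr a ≤ pr b := fun a b =>
    U.ι.isOpenEmbedding.isInducing.specializes_iff.symm.trans
      (PrimeSpectrum.le_iff_specializes (U.ι a) (U.ι b)).symm
  have hmax : ∀ a : (↑U : Scheme.{u}), ¬ (pr a).IsMaximal := fun a h => hU (U.ι a) a.2
    ((PrimeSpectrum.isClosed_singleton_iff_isMaximal _).2 h)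
  have hchain : ∀ q p : Ideal S, q.IsPrime → p.IsPrime → q ≠ ⊥ → ¬ p.IsMaximal → q ≤ p → q = p := by
    intro q p hq hp hq0 hpm hle
    by_contra hne
    obtain ⟨m, hm, hpm'⟩ := Ideal.exists_le_maximal p hp.ne_top
    have hlt : p < m := lt_of_le_of_ne hpm' fun e => hpm (e ▸ hm)
    let l : LTSeries (PrimeSpectrum S) :=
      (((RelSeries.singleton _ (⟨⊥, Ideal.isPrime_bot⟩ : PrimeSpectrum S)).snoc ⟨q, hq⟩
        (show (⊥ : Ideal S) < q from bot_lt_iff_ne_bot.2 hq0)).snoc ⟨p, hp⟩
        (by simp only [RelSeries.last_snoc]; exact lt_of_le_of_ne hle hne)).snoc ⟨m, hm.isPrime⟩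
        (by simp only [RelSeries.last_snoc]; exact hlt)
    have hl : ((3 : ℕ) : WithBot ℕ∞) ≤ ringKrullDim S := Order.LTSeries.length_le_krullDim l
    rw [hdimS] at hl
    have : (3 : ℕ) ≤ 2 := by exact_mod_cast hl
    omega
  have hstep : ∀ a b : (↑U : Scheme.{u}), a ⤳ b → a ≠ b → pr a = ⊥ ∧ pr b ≠ ⊥ := fun a b hab hne => by
    have hle := (hsp a b).1 hab
    have hne' : pr a ≠ pr b := fun e => hne (Specializes.antisymm hab ((hsp b a).2 e.ge)).eq
    have ha : pr a = ⊥ := by
      by_contra h
      exact hne' (hchain (pr a) (pr b) (U.ι a).isPrime (U.ι b).isPrime h (hmax b) hle)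
    exact ⟨ha, fun h => hne' (ha.trans h.symm)⟩
  refine GalCohAux.EtLocUD.subsingleton_H (EtCoh.Gm (↑U : Scheme.{u})) r (fun n hn => ?_) (fun n hn => ?_)
    fun G hG => ?_
  · haveI : Nonempty (↑U : Scheme.{u}) := hne
    have hu : IsUnit (n : Γ((↑U : Scheme.{u}), ⊤)) := by
      have h := ((U.ι.appTop.hom.comp (Scheme.ΓSpecIso (CommRingCat.of S)).inv.hom).comp
        ((algebraMap R₀ S).comp (algebraMap k R₀))).isUnit_map
        ((isUnit_iff_ne_zero).2 (Nat.cast_ne_zero.2 hn.ne') : IsUnit (n : k))
      rwa [map_natCast] at h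
    exact S0108.result _ n hu
  · refine S13412.vanishing_torsion k R₀ hexc hdim hres K U hU hcdK hcdv _ (fun V s x => ?_) r hr
    refine ⟨V, 𝟙 V, ⟨x, rfl⟩, isOfFinAddOrder_iff_nsmul_eq_zero.2 ⟨n, hn, ?_⟩⟩
    refine GalCohAux.EtNsmul.nsmul_sect_eq_zero ?_ V _
    rw [← cancel_mono (kernel.ι (n • 𝟙 (EtCoh.Gm (↑U : Scheme.{u})))), Preadditive.nsmul_comp,
      Category.id_comp, zero_comp]
    have h2 := kernel.condition (n • 𝟙 (EtCoh.Gm (↑U : Scheme.{u})))
    rwa [Preadditive.comp_nsmul, Category.comp_id] at h2
  · refine GalCohAux.EtDimVanC.vanishing GalCohAux.EtDimVanD.rationalClass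
      (fun a : (↑U : Scheme.{u}) => if pr a = ⊥ then 1 else 0) (fun a b hab hne => ?_)
      (fun a M hM q hq => S19255.subsingleton_of_field _ M hM q (by omega))
      (fun a b hab hne R _ _ _ _ _ P hP M hM q hq => ?_) G hG r fun a _ => ?_
    · obtain ⟨ha, hb⟩ := hstep a b hab hne
      simp [ha, hb]
    · haveI : P.IsPrime := hP.1.1
      obtain ⟨ha, hb⟩ := hstep a b hab hne
      simp only [ha, hb, if_true, if_false] at hq
      exact S19255.subsingleton_of_field _ M hM q (by omega)
    · split <;> omega

end Groth.Agent.S13414
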