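import Groth.Statements.S13415
import Groth.Agent.S13412
import Groth.Agent.GalCohAux.EtLocUD
import Groth.Agent.GalCohAux.EtDivExt

set_option autoImplicit false
universe u
open CategoryTheory CategoryTheory.Limits AlgebraicGeometry
open HLoc2

namespace Groth.Agent.S13415

/-- Let `k` be an algebraically closed field of characteristic zero, `R₀` an excellent normal henselian
local `k`-domain of Krull dimension two with residue field `k`, `K` a finite extension of its
fraction field, `O_K` the integral closure of `R₀` in `K`, and `X` the open subscheme of `Spec O_K`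
of non-closed points; let `U` be a nonempty open subscheme of `X`. Assume, as holds in this
situation, that `K` has etale cohomological dimension at most 2 and that the residue field of every
closed point of `U` has cohomological dimension at most 1. (The published text asserts both facts
for this situation without proof; this row carries them as hypotheses.) Let `F` be a constructible
abelian etale sheaf on `U` whose support lies in a closed subset `Z ≠ U` (so `Z` is a finite set of
closed points). Then `Hom_U(F, G_m) = 0` and, for every `r ≥ 0`, `Ext^{r+1}_U(F, G_m)` is isomorphic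
to `∏_{v ∈ Z} Ext^r_{k(v)}(i_v^* F, ℤ)`, where `i_v : Spec k(v) → U` is the inclusion of the point
`v` and the Ext groups are computed in abelian sheaves on the small etale sites (existence of an
isomorphism of abelian groups only; the published statement does not name it either). -/
theorem result
    (k : Type u) [Field k] [IsAlgClosed k] [CharZero k]
    (R₀ : Type u) [CommRing R₀] [IsDomain R₀] [HenselianLocalRing R₀] [Algebra k R₀]
    [IsIntegrallyClosed R₀] (hexc : EGA4.IsExcellent R₀) (hdim : ringKrullDim R₀ = 2)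
    (hres : Function.Surjective (fun a : k => IsLocalRing.residue R₀ (algebraMap k R₀ a)))
    (K : Type u) [Field K] [Algebra R₀ K] [Algebra (FractionRing R₀) K]
    [IsScalarTower R₀ (FractionRing R₀) K] [FiniteDimensional (FractionRing R₀) K]
    (U : (Spec (CommRingCat.of ↥(integralClosure R₀ K))).Opens)
    (hU : ∀ x : ↥(Spec (CommRingCat.of ↥(integralClosure R₀ K))), x ∈ U →
      ¬ IsClosed ({x} : Set ↥(Spec (CommRingCat.of ↥(integralClosure R₀ K)))))
    (hne : Nonempty ↥(↑U : Scheme.{u}))
    (hcdK : EtCoh.CohDimLE (Spec (CommRingCat.of K)) 2)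
    (hcdv : ∀ x : ↥(↑U : Scheme.{u}), IsClosed ({x} : Set ↥(↑U : Scheme.{u})) →
      EtCoh.CohDimLE (Spec ((↑U : Scheme.{u}).residueField x)) 1)
    (F : EtCoh.Ab (↑U : Scheme.{u})) (hF : EtPBC.IsConstructible F) (Z : Set ↥(↑U : Scheme.{u}))
    (hZ : IsClosed Z) (hZU : Z ≠ Set.univ) (hsupp : EtPBC.supp F ⊆ Z) :
    Subsingleton (Abelian.Ext.{u + 1} F (EtCoh.Gm (↑U : Scheme.{u})) 0) ∧
      ∀ r : ℕ, Nonempty (Abelian.Ext.{u + 1} F (EtCoh.Gm (↑U : Scheme.{u})) (r + 1) ≃+
        (∀ v : ↥Z, Abelian.Ext.{u + 1}
          ((EtCoh.pull ((↑U : Scheme.{u}).fromSpecResidueField (v : ↥(↑U : Scheme.{u})))).obj F)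
          (EtCoh.const (Spec ((↑U : Scheme.{u}).residueField (v : ↥(↑U : Scheme.{u})))) ℤ) r)) := by
  classical
  haveI : IsNoetherianRing R₀ := hexc.1
  haveI : CharZero R₀ := charZero_of_injective_algebraMap (algebraMap k R₀).injective
  let S := ↥(integralClosure R₀ K)
  haveI : Module.Finite R₀ S := IsIntegralClosure.finite R₀ (FractionRing R₀) K S
  haveI : IsNoetherianRing S := IsNoetherianRing.of_finite R₀ S
  haveI : IsFractionRing S K :=
    IsIntegralClosure.isFractionRing_of_finite_extension R₀ (FractionRing R₀) K S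
  haveI : IsIntegrallyClosed S := integralClosure.isIntegrallyClosedOfFiniteExtension (FractionRing R₀)
  haveI : FaithfulSMul R₀ S := (faithfulSMul_iff_algebraMap_injective _ _).2 fun a b h =>
    (IsFractionRing.injective R₀ (FractionRing R₀)) ((algebraMap (FractionRing R₀) K).injective (by
      rw [← IsScalarTower.algebraMap_apply, ← IsScalarTower.algebraMap_apply]
      exact congrArg Subtype.val h))
  have hdimS : ringKrullDim S = 2 :=
    (VarDim.ringKrullDim_eq_of_isIntegral (R := R₀) (S := S)).trans hdim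
  let X := Spec (CommRingCat.of S)
  haveI : IsNoetherian X := inferInstance
  haveI : IsLocallyNoetherian (↑U : Scheme.{u}) := isLocallyNoetherian_of_isOpenImmersion U.ι
  haveI : CompactSpace (↑U : Scheme.{u}) :=
    isCompact_iff_compactSpace.1 (TopologicalSpace.NoetherianSpace.isCompact (U : Set X))
  haveI : IsNoetherian (↑U : Scheme.{u}) := {}
  let pr : (↑U : Scheme.{u}) → Ideal S := fun x => (U.ι x).asIdeal
  have hsp : ∀ a b : (↑U : Scheme.{u}), a ⤳ b ↔ pr a ≤ pr b := fun a b =>
    U.ι.isOpenEmbedding.isInducing.specializes_iff.symm.trans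
      (PrimeSpectrum.le_iff_specializes (U.ι a) (U.ι b)).symm
  have hmax : ∀ a : (↑U : Scheme.{u}), ¬ (pr a).IsMaximal := fun a h => hU (U.ι a) a.2
    ((PrimeSpectrum.isClosed_singleton_iff_isMaximal _).2 h)
  have hchain : ∀ q p : Ideal S, q.IsPrime → p.IsPrime → q ≠ ⊥ → ¬ p.IsMaximal → q ≤ p → q = p := by
    intro q p hq hp hq0 hpm hle
    by_contra hne
    obtain ⟨m, hm, hpm'⟩ := Ideal.exists_le_maximal p hp.ne_top
    have hlt : p < m := lt_of_le_of_ne hpm' fun e => hpm (e ▸ hm)
    let l : LTSeries (PrimeSpectrum S) :=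
      (((RelSeries.singleton _ (⟨⊥, Ideal.isPrime_bot⟩ : PrimeSpectrum S)).snoc ⟨q, hq⟩
        (show (⊥ : Ideal S) < q from bot_lt_iff_ne_bot.2 hq0)).snoc ⟨p, hp⟩
        (by simp only [RelSeries.last_snoc]; exact lt_of_le_of_ne hle hne)).snoc ⟨m, hm.isPrime⟩
        (by simp only [RelSeries.last_snoc]; exact hlt)
    have hl : ((3 : ℕ) : WithBot ℕ∞) ≤ ringKrullDim S := Order.LTSeries.length_le_krullDim l
    rw [hdimS] at hl
    have : (3 : ℕ) ≤ 2 := by exact_mod_cast hl
    omega
  have hstep : ∀ a b : (↑U : Scheme.{u}), a ⤳ b → a ≠ b → pr a = ⊥ ∧ pr b ≠ ⊥ := fun a b hab hne => by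
    have hle := (hsp a b).1 hab
    have hne' : pr a ≠ pr b := fun e => hne (Specializes.antisymm hab ((hsp b a).2 e.ge)).eq
    have ha : pr a = ⊥ := by
      by_contra h
      exact hne' (hchain (pr a) (pr b) (U.ι a).isPrime (U.ι b).isPrime h (hmax b) hle)
    exact ⟨ha, fun h => hne' (ha.trans h.symm)⟩
  haveI : Nonempty (↑U : Scheme.{u}) := hne
  haveI : IsIntegral (↑U : Scheme.{u}) := inferInstance
  have hunit : ∀ n : ℕ, 0 < n → IsUnit (n : Γ((↑U : Scheme.{u}), ⊤)) := fun n hn => by
    have h := ((U.ι.appTop.hom.comp (Scheme.ΓSpecIso (CommRingCat.of S)).inv.hom).comp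
      ((algebraMap R₀ S).comp (algebraMap k R₀))).isUnit_map
      ((isUnit_iff_ne_zero).2 (Nat.cast_ne_zero.2 hn.ne') : IsUnit (n : k))
    rwa [map_natCast] at h
  have hdich : ∀ y : (↑U : Scheme.{u}), y ≠ genericPoint (↑U : Scheme.{u}) →
      IsClosed ({y} : Set (↑U : Scheme.{u})) ∧ ∃ _ : IsDomain ((↑U : Scheme.{u}).presheaf.stalk y),
        IsDiscreteValuationRing ((↑U : Scheme.{u}).presheaf.stalk y) := fun y hy => by
    have hb : pr y ≠ ⊥ := (hstep _ y (genericPoint_specializes y) (Ne.symm hy)).2
    refine ⟨?_, ?_⟩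
    · rw [← closure_subset_iff_isClosed]
      intro p hp
      by_contra hne'
      exact hb (hstep y p (specializes_iff_mem_closure.2 hp) fun e => hne' e.symm).1
    · haveI := (U.ι y).isPrime
      haveI hA : IsDiscreteValuationRing (Localization.AtPrime (pr y)) :=
        S13412.isDVR_localization (pr y) hb fun q hq h0 hle => hchain q _ hq (U.ι y).isPrime h0 (hmax y) hle
      let e₀ : Localization.AtPrime (pr y) ≃+* (↑U : Scheme.{u}).presheaf.stalk y :=
        (StructureSheaf.stalkIso S (U.ι y)).toRingEquiv.trans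
          (U.stalkIso y).symm.commRingCatIsoToRingEquiv
      haveI : IsDomain ((↑U : Scheme.{u}).presheaf.stalk y) := MulEquiv.isDomain _ e₀.symm.toMulEquiv
      exact ⟨inferInstance, S13412.isDVR_of_ringEquiv e₀⟩
  have hη : genericPoint (↑U : Scheme.{u}) ∉ Z := fun h =>
    hZU (Set.eq_univ_of_forall fun y => (genericPoint_specializes y).mem_closed hZ h)
  haveI : Fintype ↥Z := (GalCohAux.EtDivExt.finite_of_closed hdich hZ hη).fintype
  exact GalCohAux.EtDivExt.ext_Gm hdich hη hunit hZ F hsupp

end Groth.Agent.S13415
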