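import Groth.Statements.S13416
import Groth.Agent.EtConsAb.QFinPush
import Groth.Agent.EtaleSite.PushFiber
import Groth.Agent.S2654
import Groth.Agent.AlgSp.LqfDiscrete
import Groth.Agent.EtConsAb.PointTorsion
-- import your own Groth.Agent.* helpers here

set_option autoImplicit false
set_option linter.style.haveILetI false
universe u
open CategoryTheory CategoryTheory.Limits AlgebraicGeometry
open HLoc2

namespace Groth.Agent.S13416

open EtConsAb EtaleSite EtaleSite.ConstSections

/-- A constructible sheaf which becomes constant over a dense open of a normal finite cover embeds into the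
direct image of a constant sheaf plus a sheaf on the complement. -/
theorem exists_mono {U Un : Scheme.{u}} [AlgebraicGeometry.IsNoetherian U] (F : EtCoh.Ab U) (hF : EtPBC.IsConstructible F)
    (V : U.Opens) (π : Un ⟶ U) [IsFinite π] [Surjective π] (hnorm : Pi1.IsNormalScheme Un)
    (hd : Dense (Set.range (π ⁻¹ᵁ V).ι)) (hfin : ((V : Set U)ᶜ).Finite)
    {m : ℕ} (hmF : EtCoh.KilledBy m F) (hne : Nonempty ↥(π ⁻¹ᵁ V : Scheme.{u}))
    (M : Type) [AddCommGroup M]
    (hconst : Nonempty ((EtCoh.pull (π ⁻¹ᵁ V).ι).obj ((EtCoh.pull π).obj F) ≅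
      EtCoh.const (↑(π ⁻¹ᵁ V) : Scheme.{u}) M)) :
    (∀ x : M, m • x = 0) ∧ ∃ (Ff : EtCoh.Ab U), EtPBC.IsConstructible Ff ∧ (EtPBC.supp Ff).Finite ∧
        ∃ ι : F ⟶ (EtCoh.push π).obj (EtCoh.const Un M) ⊞ Ff, Mono ι := by
  classical
  obtain ⟨e⟩ := hconst
  let W : Scheme.{u} := (π ⁻¹ᵁ V : Scheme.{u})
  let j : W ⟶ Un := (π ⁻¹ᵁ V).ι
  have hkill : ∀ x : M, m • x = 0 := by
    intro x
    have h0 : m • 𝟙 F = 0 := by
      refine Sheaf.hom_ext (NatTrans.ext (funext fun ⟨O⟩ => ConcreteCategory.hom_ext _ _ fun s => ?_))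
      exact (PointTorsion.app_nsmul_id F m O s).trans (hmF O s)
    haveI : (EtCoh.pull π).Additive := (EtCoh.pullPushAdj π).left_adjoint_additive
    haveI : (EtCoh.pull j).Additive := (EtCoh.pullPushAdj j).left_adjoint_additive
    have hA : m • 𝟙 ((EtCoh.pull j).obj ((EtCoh.pull π).obj F)) = 0 := by
      rw [← CategoryTheory.Functor.map_id, ← CategoryTheory.Functor.map_id, ← Functor.map_nsmul,
        ← Functor.map_nsmul, h0, Functor.map_zero, Functor.map_zero]
    have h1 : m • 𝟙 (EtCoh.const W M) = 0 := by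
      have h : m • 𝟙 (EtCoh.const W M) = e.inv ≫ (m • 𝟙 _) ≫ e.hom := by
        rw [Preadditive.nsmul_comp, Category.id_comp, Preadditive.comp_nsmul, e.inv_hom_id]
      rw [h, hA]
      simp
    obtain ⟨w⟩ := hne
    have h2 := killedBy_of_nsmul h1 (EtCoh.top W) (cst (EtCoh.top W) (ULift.up x : AddCommGrpCat.of (ULift.{u + 1} M)))
    rw [cst, ← map_nsmul] at h2
    have h3 := cst_injective (W := EtCoh.top W) (M := AddCommGrpCat.of (ULift.{u + 1} M)) w
      (c := m • ULift.up x) (d := 0) (by rw [cst, cst, map_zero]; exact h2)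
    exact congrArg ULift.down h3
  refine ⟨hkill, ?_⟩
  let C : TopologicalSpace.Closeds U := ⟨(V : Set U)ᶜ, V.2.isClosed_compl⟩
  let c := (Scheme.IdealSheafData.vanishingIdeal C).subschemeι
  have hc : Set.range c = (V : Set U)ᶜ := by
    rw [Scheme.IdealSheafData.range_subschemeι, Scheme.IdealSheafData.coe_support_vanishingIdeal]
    rfl
  haveI : LocallyOfFinitePresentation c := inferInstance
  let Ff := (EtCoh.push c).obj ((EtCoh.pull c).obj F)
  haveI : IsLocallyNoetherian Un := LocallyOfFiniteType.isLocallyNoetherian π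
  haveI : CompactSpace Un := QuasiCompact.compactSpace_of_compactSpace π
  haveI : AlgebraicGeometry.IsNoetherian Un := {}
  haveI : QuasiCompact j := inferInstance
  haveI := isIso_unit_dense hnorm j hd (AddCommGrpCat.of (ULift.{u + 1} M))
  let β : (EtCoh.pull j).obj ((EtCoh.pull π).obj F) ⟶ (EtCoh.pull j).obj (EtCoh.const Un M) :=
    e.hom ≫ (EtCore.pullConst j M).inv
  let θ : (EtCoh.pull π).obj F ⟶ EtCoh.const Un M :=
    (EtCoh.pullPushAdj j).homEquiv _ _ β ≫ inv ((EtCoh.pullPushAdj j).unit.app (EtCoh.const Un M))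
  have hθ : (EtCoh.pull j).map θ = β := by
    refine ((EtCoh.pullPushAdj j).homEquiv _ _).injective ?_
    rw [Adjunction.homEquiv_unit]
    refine ((EtCoh.pullPushAdj j).unit.naturality θ).symm.trans ?_
    show θ ≫ _ = _
    simp [θ]
  haveI : IsIso ((EtCoh.pull j).map θ) := hθ ▸ inferInstance
  let ι : F ⟶ (EtCoh.push π).obj (EtCoh.const Un M) ⊞ Ff :=
    biprod.lift ((EtCoh.pullPushAdj π).homEquiv _ _ θ) ((EtCoh.pullPushAdj c).unit.app F)
  refine ⟨Ff, isConstructible_push_of_finite c (isConstructible_pull c hF), hfin.subset ?_, ι,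
    mono_of_stalk ι fun Ω _ _ ξ => ?_⟩
  · intro x hx hxV
    let ξ := geomPointAt U x
    have hξ : ξ default = x := geomPointAt_apply U x default
    rw [← hξ] at hx
    exact (mem_supp_iff ξ).1 hx (isZero_stalk_push c ξ (by rw [hc, hξ]; exact fun h => h hxV) _)
  suffices hz : ∀ {T : Scheme.{u}} (t : T ⟶ U), Mono ((EtCoh.pull t).map ι) → ξ default ∈ Set.range t →
      Function.Injective ((EtCoh.stalk ξ).map ι) by
    by_cases hxV : ξ default ∈ V
    · obtain ⟨y, hy⟩ := π.surjective (ξ default)
      haveI : Mono ((EtCoh.pull (j ≫ π)).map ι) := by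
        haveI : Mono ((EtCoh.pull j).map ((EtCoh.pull π).map ι)) := by
          have hfac : (EtCoh.pull π).map ι ≫ (EtCoh.pull π).map biprod.fst ≫
              (EtCoh.pullPushAdj π).counit.app _ = θ := by
            rw [← Category.assoc, ← Functor.map_comp, biprod.lift_fst]
            exact ((EtCoh.pullPushAdj π).homEquiv_counit _ _ _).symm.trans (Equiv.symm_apply_apply _ _)
          haveI : IsIso ((EtCoh.pull j).map ((EtCoh.pull π).map ι) ≫ (EtCoh.pull j).map
              ((EtCoh.pull π).map biprod.fst ≫ (EtCoh.pullPushAdj π).counit.app _)) := by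
            rw [← Functor.map_comp, hfac]
            infer_instance
          exact mono_of_mono _ ((EtCoh.pull j).map
              ((EtCoh.pull π).map biprod.fst ≫ (EtCoh.pullPushAdj π).counit.app _))
        exact ((MorphismProperty.monomorphisms _).arrow_mk_iso_iff
          (((Functor.mapArrowFunctor _ _).mapIso (pullComp π j)).app (Arrow.mk ι))).1 this
      refine hz (j ≫ π) inferInstance ⟨⟨y, show π y ∈ V from hy ▸ hxV⟩, ?_⟩
      exact hy
    · haveI : Mono ((EtCoh.pull c).map ι) := by
        haveI : IsIso ((EtCoh.pull c).map ι ≫ (EtCoh.pull c).map biprod.snd ≫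
            (EtCoh.pullPushAdj c).counit.app ((EtCoh.pull c).obj F)) := by
          rw [← Category.assoc, ← Functor.map_comp, biprod.lift_snd,
            (EtCoh.pullPushAdj c).left_triangle_components]
          infer_instance
        exact mono_of_mono _ ((EtCoh.pull c).map biprod.snd ≫
            (EtCoh.pullPushAdj c).counit.app ((EtCoh.pull c).obj F))
      exact hz c inferInstance (hc ▸ hxV)
  intro T t ht htx
  obtain ⟨w, hw⟩ := htx
  haveI := ht
  let ζ := geomPointAt T w
  have hK : IsZero ((EtCoh.pull t).obj (Limits.kernel ι)) :=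
    (Limits.isZero_kernel_of_mono ((EtCoh.pull t).map ι)).of_iso (Limits.PreservesKernel.iso _ ι)
  have hz : IsZero ((EtCoh.stalk (ζ ≫ t)).obj (Limits.kernel ι)) :=
    ((EtCoh.stalk ζ).map_isZero hK).of_iso ((stalkPullIso t ζ).symm.app _)
  have hx : (ζ ≫ t) default = ξ default := by rw [Scheme.Hom.comp_apply, geomPointAt_apply, hw]
  have hz' : IsZero ((EtCoh.stalk ξ).obj (Limits.kernel ι)) := by
    by_contra h
    exact (mem_supp_iff (ζ ≫ t)).1 (hx ▸ (mem_supp_iff ξ).2 h) hz
  haveI : Mono ((EtCoh.stalk ξ).map ι) :=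
    Preadditive.mono_of_isZero_kernel _ (hz'.of_iso (Limits.PreservesKernel.iso _ _).symm)
  exact (AddCommGrpCat.mono_iff_injective _).1 inferInstance

/-- Let `k` be an algebraically closed field of characteristic zero, `R₀` an excellent normal henselian
local `k`-domain of Krull dimension two with residue field `k`, `K` a finite extension of its
fraction field, `O_K` the integral closure of `R₀` in `K`, and `X` the open subscheme of `Spec O_K`
of non-closed points; let `U` be a nonempty open subscheme of `X`. Assume, as holds in this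
situation, that `K` has etale cohomological dimension at most 2 and that the residue field of every
closed point of `U` has cohomological dimension at most 1. (The published text asserts both facts
for this situation without proof; this row carries them as hypotheses.) Let `F` be a constructible
abelian etale sheaf on `U` with `mF = 0` for some `m ≥ 1`, `V` a nonempty open of `U`, and `π : U_n
→ U` a finite surjective morphism from an integral scheme with integrally closed local rings (for
instance the normalisation of `U` in a finite extension of `K`, which is the morphism the published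
statement uses) that is etale over `V` and such that the pullback of `F` to `π⁻¹(V)` is a constant
sheaf with finite value group. Then there exist a finite abelian group `M` with `mM = 0`, a
constructible abelian etale sheaf `F_f` on `U` with finite support, and a monomorphism `F →
π_*(M_{U_n}) ⊕ F_f` of abelian etale sheaves on `U`. -/
theorem result
    (k : Type u) [Field k] [IsAlgClosed k] [CharZero k]
    (R₀ : Type u) [CommRing R₀] [IsDomain R₀] [HenselianLocalRing R₀] [Algebra k R₀]
    [IsIntegrallyClosed R₀] (hexc : EGA4.IsExcellent R₀) (hdim : ringKrullDim R₀ = 2)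
    (hres : Function.Surjective (fun a : k => IsLocalRing.residue R₀ (algebraMap k R₀ a)))
    (K : Type u) [Field K] [Algebra R₀ K] [Algebra (FractionRing R₀) K]
    [IsScalarTower R₀ (FractionRing R₀) K] [FiniteDimensional (FractionRing R₀) K]
    (U : (Spec (CommRingCat.of ↥(integralClosure R₀ K))).Opens)
    (hU : ∀ x : ↥(Spec (CommRingCat.of ↥(integralClosure R₀ K))), x ∈ U →
      ¬ IsClosed ({x} : Set ↥(Spec (CommRingCat.of ↥(integralClosure R₀ K)))))
    (hne : Nonempty ↥(↑U : Scheme.{u}))
    (hcdK : EtCoh.CohDimLE (Spec (CommRingCat.of K)) 2)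
    (hcdv : ∀ x : ↥(↑U : Scheme.{u}), IsClosed ({x} : Set ↥(↑U : Scheme.{u})) →
      EtCoh.CohDimLE (Spec ((↑U : Scheme.{u}).residueField x)) 1)
    (F : EtCoh.Ab (↑U : Scheme.{u})) (hF : EtPBC.IsConstructible F) (m : ℕ) (hm : 1 ≤ m)
    (hmF : EtCoh.KilledBy m F) (V : (↑U : Scheme.{u}).Opens) (hV : Nonempty ↥(↑V : Scheme.{u}))
    (Un : Scheme.{u}) [IsIntegral Un] (hnorm : ∀ y : ↥Un, IsIntegrallyClosed ↑(Un.presheaf.stalk y))
    (π : Un ⟶ (↑U : Scheme.{u})) [IsFinite π] [Surjective π] [Etale (π ∣_ V)] (M₀ : Type) [AddCommGroup M₀] [Finite M₀]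
    (hconst : Nonempty ((EtCoh.pull (π ⁻¹ᵁ V).ι).obj ((EtCoh.pull π).obj F) ≅
      EtCoh.const (↑(π ⁻¹ᵁ V) : Scheme.{u}) M₀)) :
    ∃ (M : Type) (_ : AddCommGroup M) (_ : Finite M), (∀ x : M, m • x = 0) ∧
      ∃ (Ff : EtCoh.Ab (↑U : Scheme.{u})), EtPBC.IsConstructible Ff ∧ (EtPBC.supp Ff).Finite ∧
        ∃ ι : F ⟶ (EtCoh.push π).obj (EtCoh.const Un M) ⊞ Ff, Mono ι := by
  let O := integralClosure R₀ K
  haveI : IsNoetherianRing R₀ := hexc.1
  have hN : CAlg.IsNagata R₀ := S2654.result R₀ ⟨hexc.1, hexc.2.2.1, hexc.2.2.2⟩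
  have hN2 : CAlg.IsN2 R₀ :=
    Props.N2Local.isN2_of_ringEquiv (RingEquiv.quotientBot R₀) (hN.2 ⊥)
  haveI : Module.Finite R₀ O := Props.N2Local.finite_integralClosure hN2 (FractionRing R₀) K
  haveI : IsNoetherianRing O := IsNoetherianRing.of_finite R₀ O
  haveI : IsNoetherianRing (CommRingCat.of ↥O) := inferInstanceAs (IsNoetherianRing O)
  let S := Spec (CommRingCat.of ↥O)
  haveI : AlgebraicGeometry.IsNoetherian S := {}
  haveI : IsLocallyNoetherian (↑U : Scheme.{u}) := inferInstance
  haveI : CompactSpace ↥(↑U : Scheme.{u}) :=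
    isCompact_iff_compactSpace.1 (TopologicalSpace.NoetherianSpace.isCompact (U : Set ↥S))
  haveI : AlgebraicGeometry.IsNoetherian (↑U : Scheme.{u}) := {}
  haveI : IsIntegral (↑U : Scheme.{u}) := inferInstance
  obtain ⟨v₀⟩ := hV
  have hgenV : genericPoint ↥(↑U : Scheme.{u}) ∈ V := (genericPoint_specializes v₀.1).mem_open V.2 v₀.2
  have hne' : Nonempty ↥(π ⁻¹ᵁ V : Scheme.{u}) := by
    obtain ⟨y, hy⟩ := π.surjective v₀.1
    exact ⟨⟨y, show π y ∈ V from hy ▸ v₀.2⟩⟩
  have hfin : ((V : Set ↥(↑U : Scheme.{u}))ᶜ).Finite := by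
    have hkey : ∀ z z' : ↥(↑U : Scheme.{u}), z ∈ (V : Set ↥(↑U : Scheme.{u}))ᶜ → z ⤳ z' → z = z' := by
      intro z z' hz hzz'
      by_contra hne
      have hs : (z.1 : ↥S) ⤳ z'.1 := hzz'.map continuous_subtype_val
      let q : Ideal O := (z.1 : PrimeSpectrum O).asIdeal
      let q' : Ideal O := (z'.1 : PrimeSpectrum O).asIdeal
      haveI : q.IsPrime := (z.1 : PrimeSpectrum O).isPrime
      haveI : q'.IsPrime := (z'.1 : PrimeSpectrum O).isPrime
      have hle : q ≤ q' := (PrimeSpectrum.le_iff_specializes (z.1 : PrimeSpectrum O) (z'.1)).2 hs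
      have hlt : q < q' := lt_of_le_of_ne hle fun h => hne (Subtype.ext (PrimeSpectrum.ext h))
      obtain ⟨m, hm, hq'm⟩ := Ideal.exists_le_maximal q' (Ideal.IsPrime.ne_top inferInstance)
      have hlt' : q' < m := lt_of_le_of_ne hq'm fun h =>
        hU z'.1 z'.2 ((PrimeSpectrum.isClosed_singleton_iff_isMaximal (z'.1 : PrimeSpectrum O)).2 (h ▸ hm :))
      have h0 : (⊥ : Ideal O) < q := lt_of_le_of_ne bot_le fun h => hz (by
        have hzg : z ⤳ genericPoint ↥(↑U : Scheme.{u}) := by
          refine Topology.IsInducing.subtypeVal.specializes_iff.1 ?_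
          exact (PrimeSpectrum.le_iff_specializes (z.1 : PrimeSpectrum O) _).1
            (show q ≤ _ from h ▸ bot_le)
        exact hzg.mem_open V.2 hgenV)
      haveI : Algebra.IsIntegral R₀ O := Algebra.IsIntegral.of_finite R₀ O
      let p : Fin 4 → Ideal O := ![⊥, q, q', m]
      have hp : ∀ k, (p k).IsPrime := fun k => by
        fin_cases k
        · exact Ideal.isPrime_bot
        · exact inferInstanceAs q.IsPrime
        · exact inferInstanceAs q'.IsPrime
        · exact hm.isPrime
      have hp' : ∀ k : Fin 3, p k.castSucc < p k.succ := fun k => by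
        fin_cases k
        · exact h0
        · exact hlt
        · exact hlt'
      let s : LTSeries (PrimeSpectrum R₀) := LTSeries.mk 3
        (fun k => ⟨(p k).comap (algebraMap R₀ O), haveI := hp k; inferInstance⟩)
        (Fin.strictMono_iff_lt_succ.2 fun k => by
          haveI := hp k.castSucc
          exact Ideal.comap_lt_comap_of_integral_mem_sdiff (hp' k).le
            ⟨(Set.exists_of_ssubset (hp' k)).choose_spec.1, (Set.exists_of_ssubset (hp' k)).choose_spec.2⟩
            (Algebra.IsIntegral.isIntegral _))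
      have h3 := Order.LTSeries.length_le_krullDim s
      rw [show Order.krullDim (PrimeSpectrum R₀) = ringKrullDim R₀ from rfl, hdim] at h3
      change ((3 : ℕ) : WithBot ℕ∞) ≤ 2 at h3
      norm_cast at h3
    haveI : TopologicalSpace.NoetherianSpace ↥((V : Set ↥(↑U : Scheme.{u}))ᶜ) := inferInstance
    refine Set.finite_coe_iff.1 ?_
    haveI : T1Space ↥((V : Set ↥(↑U : Scheme.{u}))ᶜ) := t1Space_iff_specializes_imp_eq.2 fun a b hab =>
      Subtype.ext (hkey a b a.2 (hab.map continuous_subtype_val))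
    haveI : QuasiSober ↥((V : Set ↥(↑U : Scheme.{u}))ᶜ) :=
      V.2.isClosed_compl.isClosedEmbedding_subtypeVal.quasiSober
    haveI := AlgSp.discreteTopology_of_noetherian (X := ↥((V : Set ↥(↑U : Scheme.{u}))ᶜ))
      fun a => isClosed_singleton
    exact finite_of_compact_of_discrete
  have hd : Dense (Set.range (π ⁻¹ᵁ V).ι) := by
    rw [Scheme.Opens.range_ι]
    exact (π ⁻¹ᵁ V).2.dense (by obtain ⟨w⟩ := hne'; exact ⟨w.1, w.2⟩)
  obtain ⟨h1, h2⟩ := exists_mono F hF V π (fun y => ⟨inferInstance, hnorm y⟩) hd hfin hmF hne' M₀ hconst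
  exact ⟨M₀, inferInstance, inferInstance, h1, h2⟩

end Groth.Agent.S13416
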