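import Groth.Statements.S13417
import Groth.Agent.WEtale.Olivier
import Groth.Agent.Fibres16.WENormal.Ring
import Groth.Agent.EtAlgPair.WeakField
import Groth.Agent.EtaleSite.SplitAlg
import Groth.Agent.VarDim.Algebra

set_option autoImplicit false
universe u
open scoped TensorProduct
open HLoc2

namespace Groth.Agent.S13417

/-- Let `k` be a field with separable closure `kˢ` and `R₀` a commutative local `k`-algebra which is
excellent, henselian, integrally closed, of Krull dimension two, with residue field `k`, and
geometrically integral (`R₀ ⊗_k kˢ` is a domain). Then `R₀ ⊗_k kˢ` is a henselian local ring which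
is integrally closed, of Krull dimension two, and whose residue field is `kˢ` (the composite `kˢ →
R₀ ⊗_k kˢ →` residue field is surjective). (The published statement also asserts that `R₀ ⊗_k kˢ` is
excellent; that assertion is not restated here.) -/
theorem result
    (k : Type u) [Field k] (R₀ : Type u) [CommRing R₀] [IsDomain R₀] [HenselianLocalRing R₀] [Algebra k R₀]
    [IsIntegrallyClosed R₀] (hexc : EGA4.IsExcellent R₀) (hdim : ringKrullDim R₀ = 2)
    (hres : Function.Surjective (fun a : k => IsLocalRing.residue R₀ (algebraMap k R₀ a)))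
    [IsDomain (R₀ ⊗[k] SeparableClosure k)] :
    ∃ _ : HenselianLocalRing (R₀ ⊗[k] SeparableClosure k),
      IsIntegrallyClosed (R₀ ⊗[k] SeparableClosure k) ∧
      ringKrullDim (R₀ ⊗[k] SeparableClosure k) = 2 ∧
      Function.Surjective (fun a : SeparableClosure k =>
        IsLocalRing.residue (R₀ ⊗[k] SeparableClosure k)
          ((Algebra.TensorProduct.includeRight : SeparableClosure k →ₐ[k] R₀ ⊗[k] SeparableClosure k) a)) := by
  haveI : Algebra.WeaklyEtale k (SeparableClosure k) := EtAlgPair.WeakField.weaklyEtale_of_forall_separable fun b =>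
    ⟨minpoly k b, Algebra.IsSeparable.isSeparable k b, minpoly.aeval k b⟩
  haveI : Algebra.WeaklyEtale R₀ (R₀ ⊗[k] (SeparableClosure k)) := inferInstance
  haveI : Algebra.IsIntegral R₀ (R₀ ⊗[k] (SeparableClosure k)) := inferInstance
  haveI : IsLocalRing (R₀ ⊗[k] (SeparableClosure k)) := WEtale.Olivier.isLocalRing_of_integral (A := R₀) (S := R₀ ⊗[k] (SeparableClosure k))
  have hN : EGA4.IsNormalRing R₀ := fun p _ =>
    ⟨inferInstance, isIntegrallyClosed_of_isLocalization (Localization.AtPrime p) p.primeCompl p.primeCompl_le_nonZeroDivisors⟩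
  have hT := Fibres16.WENormal.isNormalRing_of_weaklyEtale R₀ (R₀ ⊗[k] (SeparableClosure k)) hN
  refine ⟨EtaleSite.henselianLocalRing_of_finite (R := R₀), ?_, ?_, ?_⟩
  · exact IsIntegrallyClosed.of_localization_maximal fun p _ _ => (hT p).2
  · rw [← hdim]
    haveI : FaithfulSMul R₀ (R₀ ⊗[k] (SeparableClosure k)) := (faithfulSMul_iff_algebraMap_injective R₀ (R₀ ⊗[k] (SeparableClosure k))).2
      (Algebra.TensorProduct.includeLeft_injective (S := R₀) (algebraMap k (SeparableClosure k)).injective)
    exact VarDim.ringKrullDim_eq_of_isIntegral (R := R₀) (S := R₀ ⊗[k] (SeparableClosure k))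
  · haveI : FaithfulSMul R₀ (R₀ ⊗[k] (SeparableClosure k)) := (faithfulSMul_iff_algebraMap_injective R₀ (R₀ ⊗[k] (SeparableClosure k))).2
      (Algebra.TensorProduct.includeLeft_injective (S := R₀) (algebraMap k (SeparableClosure k)).injective)
    let g : (SeparableClosure k) →+* IsLocalRing.ResidueField (R₀ ⊗[k] (SeparableClosure k)) :=
      (IsLocalRing.residue _).comp (Algebra.TensorProduct.includeRight : (SeparableClosure k) →ₐ[k] R₀ ⊗[k] (SeparableClosure k)).toRingHom
    intro y
    obtain ⟨t, rfl⟩ := IsLocalRing.residue_surjective y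
    simp only
    suffices h : IsLocalRing.residue (R₀ ⊗[k] (SeparableClosure k)) t ∈ g.range from h
    show IsLocalRing.residue (R₀ ⊗[k] (SeparableClosure k)) t ∈ g.range
    induction t with
    | zero => rw [map_zero]; exact zero_mem _
    | add a b ha hb => rw [map_add]; exact add_mem ha hb
    | tmul r c =>
      obtain ⟨a, ha⟩ := hres (IsLocalRing.residue R₀ r)
      have h1 : IsLocalRing.residue (R₀ ⊗[k] (SeparableClosure k)) (r ⊗ₜ[k] (1 : SeparableClosure k)) = g (algebraMap k (SeparableClosure k) a) := by
        let φ : R₀ →+* R₀ ⊗[k] (SeparableClosure k) := Algebra.TensorProduct.includeLeftRingHom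
        haveI : IsLocalHom φ := Algebra.IsIntegral.isLocalHom R₀ (R₀ ⊗[k] (SeparableClosure k))
        have := congrArg (IsLocalRing.ResidueField.map (S := R₀ ⊗[k] (SeparableClosure k)) φ) ha
        simp only [IsLocalRing.ResidueField.map_residue] at this
        refine this.symm.trans (congrArg (IsLocalRing.residue _) ?_)
        show algebraMap k R₀ a ⊗ₜ[k] (1 : SeparableClosure k) = (1 : R₀) ⊗ₜ[k] algebraMap k (SeparableClosure k) a
        rw [Algebra.algebraMap_eq_smul_one, Algebra.algebraMap_eq_smul_one, TensorProduct.smul_tmul]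
      rw [show r ⊗ₜ[k] c = (r ⊗ₜ[k] (1 : SeparableClosure k)) * ((1 : R₀) ⊗ₜ[k] c) by simp, map_mul, h1]
      exact mul_mem ⟨_, rfl⟩ ⟨c, rfl⟩

end Groth.Agent.S13417
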