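import Groth.Statements.S13422
import Groth.Agent.EtPoint.Basic
import Groth.Agent.SchDense.Basic
import Groth.Agent.AlgSp.DenseFlat
import Groth.Agent.NeronLib.MapBij

set_option autoImplicit false
universe u
open CategoryTheory AlgebraicGeometry
open NeronHD

namespace Groth.Agent.S13422

/-- Let S be a locally Noetherian scheme over a field of characteristic 0, S₀ ⊆ S a scheme-theoretically
dense open, and N a smooth S-scheme with the weak Néron mapping property for S₀ ⊆ S: for every étale
S-scheme U, restriction to S₀ is a bijection from S-morphisms U → N onto S₀-morphisms U|S₀ → N|S₀.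
Then N has the uniqueness half of the Néron mapping property: for every smooth S-scheme Z,
restriction of S-morphisms Z → N to S₀ is injective. (Case of schemes of a statement about algebraic
spaces.) -/
theorem result {k : Type u} [Field k] [CharZero k] {S : Scheme.{u}} (σ : S ⟶ Spec (CommRingCat.of k)) [IsLocallyNoetherian S] (S₀ : S.Opens) (hS₀ : CInt.IsSchematicallyDense S₀)
    (N : Over S) [Smooth N.hom]
    (hN : ∀ U : Over S, Etale U.hom → Function.Bijective (fun g : U ⟶ N => (Over.pullback S₀.ι).map g))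
    (Z : Over S) [Smooth Z.hom] :
    Function.Injective (fun g : Z ⟶ N => (Over.pullback S₀.ι).map g) := by
  intro g g' hgg
  have hfac : ∀ (U : Over S), Etale U.hom → ∀ h : U ⟶ Z, h ≫ g = h ≫ g' := fun U hU h =>
    (hN U hU).1 (by
      show (Over.pullback S₀.ι).map (h ≫ g) = (Over.pullback S₀.ι).map (h ≫ g')
      rw [Functor.map_comp, Functor.map_comp, show (Over.pullback S₀.ι).map g = _ from hgg])
  have sq := (isPullback_morphismRestrict Z.hom S₀).flip
  have h0 : (Z.hom ⁻¹ᵁ S₀).ι ≫ g.left = (Z.hom ⁻¹ᵁ S₀).ι ≫ g'.left := by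
    rw [← sq.isoPullback_hom_fst, Category.assoc, Category.assoc,
      (NeronLib.MapBij.map_eq_map_iff S₀.ι g g').1 hgg]
  obtain ⟨l, hl⟩ := SchDense.exists_lift (Z.hom ⁻¹ᵁ S₀) g g' h0
  haveI := SchDense.isImmersion_equalizer g g'
  let e := (Limits.equalizer.ι g g').left
  have hin : ∀ (U : Scheme.{u}) (p : U ⟶ S) (h : U ⟶ Z.left), Etale p → h ≫ Z.hom = p →
      ∀ v, h v ∈ Set.range e := fun U p h hp hh v => by
    let hO : Over.mk p ⟶ Z := Over.homMk h hh
    refine ⟨(Limits.equalizer.lift hO (hfac _ hp hO)).left v, ?_⟩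
    rw [← Scheme.Hom.comp_apply, ← Over.comp_left, Limits.equalizer.lift_ι]
    rfl
  have hsurj : Function.Surjective e := fun z => by
    obtain ⟨W, C, hW, hC, hWC⟩ := e.isLocallyClosed_range
    obtain ⟨U, p, v, h, hp, hh, hzv, -⟩ := EtPoint.exists_etale_hit σ Z.hom z
    have hv := hin U p h hp hh v
    rw [hWC] at hv
    have hzW : z ∈ W := hzv.mem_open hW hv.1
    by_contra hz
    have hzC : z ∉ C := fun hzC => hz (show z ∈ Set.range e from hWC ▸ ⟨hzW, hzC⟩)
    let O : Z.left.Opens := ⟨Cᶜ, hC.isOpen_compl⟩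
    obtain ⟨U', p', v', h', hp', hh', -, -⟩ :=
      EtPoint.exists_etale_hit σ (O.ι ≫ Z.hom) (⟨z, hzC⟩ : O)
    have hv' := hin U' p' (h' ≫ O.ι) hp' (by rw [Category.assoc, hh']) v'
    rw [hWC] at hv'
    exact (h' v').2 hv'.2
  haveI : IsClosedImmersion e := .of_isPreimmersion e (by rw [hsurj.range_eq]; exact isClosed_univ)
  haveI := SchDense.isIso_of_schDense e (Z.hom ⁻¹ᵁ S₀)
    (Groth.Agent.AlgSp.DenseFlat.preimage Z.hom S₀ hS₀) l hl
  ext1
  rw [← cancel_epi e]
  exact congr($(Limits.equalizer.condition g g').left)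

end Groth.Agent.S13422
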