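import Groth.Statements.S13423
import Groth.Agent.NeronHD.Irred
import Groth.Agent.S1450
import Groth.Agent.S4997
import Groth.Agent.UnramFib.Basic
import Groth.Agent.EtStruct.UnibranchGlobal

set_option autoImplicit false
universe u
open CategoryTheory AlgebraicGeometry
open NeronHD

namespace Groth.Agent.S13423

/-- Let S be a reduced, locally Noetherian scheme over a field of characteristic 0 whose local rings are
all geometrically unibranch, and let f : X → S be quasi-finite (locally of finite type,
quasi-compact, with finite discrete fibres), separated and dominant, with X connected and nonempty,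
such that every fibre X_s over the residue field k(s) is smooth. Then f is étale. (Case of schemes
of a statement about algebraic spaces.) -/
theorem result {k : Type u} [Field k] [CharZero k] {S : Scheme.{u}} (σ : S ⟶ Spec (CommRingCat.of k)) [IsLocallyNoetherian S] [IsReduced S]
    (hS : ∀ s : S, CAlg2.IsGeomUnibranch (S.presheaf.stalk s))
    {X : Scheme.{u}} (f : X ⟶ S) [LocallyOfFiniteType f] [QuasiCompact f] [LocallyQuasiFinite f] [IsSeparated f] [IsDominant f]
    [ConnectedSpace X]
    (hfib : ∀ s : S, Smooth (Limits.pullback.snd f (S.fromSpecResidueField s))) :
    Etale f := by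
  have hdom : ∀ s : S, IsDomain (S.presheaf.stalk s) := fun s => by
    haveI : IsDomain (S.presheaf.stalk s ⧸ nilradical (S.presheaf.stalk s)) := (hS s).1.1
    have hn : nilradical (S.presheaf.stalk s) = ⊥ := nilradical_eq_zero _
    exact MulEquiv.isDomain (S.presheaf.stalk s ⧸ nilradical (S.presheaf.stalk s))
      ((Ideal.quotEquivOfEq hn).trans (RingEquiv.quotientBot _)).symm.toMulEquiv
  haveI : ConnectedSpace S := by
    have h : _root_.IsConnected (Set.range f) := isConnected_range f.continuous
    have h' := h.closure
    rw [f.denseRange.closure_range] at h'
    exact connectedSpace_iff_univ.2 h'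
  haveI : IrreducibleSpace S := EtStruct.irreducibleSpace_of_connected_of_exists_irreducible_nhd fun s => by
    haveI := hdom s
    exact NeronHD.exists_irreducible_nhd s
  haveI : IsIntegral S := isIntegral_of_irreducibleSpace_of_isReduced S
  haveI : FormallyUnramified f := UnramFib.formallyUnramified_of_fibers f fun s => by
    haveI := hfib s
    haveI : Smooth (f.fiberToSpecResidueField s) := hfib s
    haveI : LocallyQuasiFinite (f.fiberToSpecResidueField s) :=
      MorphismProperty.pullback_snd _ _ ‹LocallyQuasiFinite f›
    haveI : Etale (f.fiberToSpecResidueField s) := (S4997.result _).2 ⟨inferInstance, inferInstance⟩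
    infer_instance
  have hη : genericPoint S ∈ Set.range f := by
    obtain ⟨y, hy⟩ := NeronHD.exists_generic_of_dominant f
    exact ⟨y, hy⟩
  exact (S1450.result f hS hη).1

end Groth.Agent.S13423
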