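import Groth.Statements.S13424
import Groth.Agent.EtNormal.Basic
import Groth.Agent.S14401
import Mathlib.AlgebraicGeometry.Morphisms.FlatMono
-- import your own Groth.Agent.* helpers here

set_option autoImplicit false
set_option backward.isDefEq.respectTransparency false
universe u
open CategoryTheory AlgebraicGeometry
open GrpSch

namespace Groth.Agent.S13424

/-- The closure of an open subset is open when the local rings are domains. -/
lemma isOpen_closure_of_domain {W : Scheme.{u}} [IsLocallyNoetherian W] (hW : ∀ x : W, IsDomain (W.presheaf.stalk x))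
    {O : Set W} (hO : IsOpen O) : IsOpen (closure O) := by
  refine isOpen_iff_forall_mem_open.2 fun x hx => ?_
  obtain ⟨V, hV, hxV, -⟩ := exists_isAffineOpen_mem_and_subset (x := x) (U := ⊤) trivial
  have : IsAffine (V : Scheme.{u}) := hV
  have : AlgebraicGeometry.IsNoetherian (V : Scheme.{u}) := {}
  have hd : ∀ y : (V : Scheme.{u}), IsDomain ((V : Scheme.{u}).presheaf.stalk y) := fun y => by
    have := hW (V.ι y)
    exact ((V.stalkIso y).commRingCatIsoToRingEquiv).toMulEquiv.isDomain _
  obtain ⟨hopen, hex⟩ := S14401.result (V : Scheme.{u}) hd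
  obtain ⟨Z, ⟨hZ, hxZ⟩, -⟩ := hex ⟨x, hxV⟩
  have hZo := hopen Z hZ
  refine ⟨V.ι '' Z, ?_, V.ι.isOpenEmbedding.isOpenMap _ hZo, ⟨_, hxZ, rfl⟩⟩
  rintro _ ⟨z, hz, rfl⟩
  obtain ⟨_, hyO, y, hy, rfl⟩ : (O ∩ V.ι '' Z).Nonempty := by
    obtain ⟨w, h1, h2⟩ := mem_closure_iff.1 hx _ (V.ι.isOpenEmbedding.isOpenMap _ hZo) ⟨⟨x, hxV⟩, hxZ, rfl⟩
    exact ⟨w, h2, h1⟩
  have hne : (Z ∩ (V.ι ⁻¹' O)).Nonempty := ⟨y, hy, hyO⟩
  have hsub := subset_closure_inter_of_isPreirreducible_of_isOpen hZ.1.2 (hO.preimage V.ι.continuous) hne hz
  exact closure_mono (Set.image_subset_iff.2 fun w hw => hw.2)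
    (image_closure_subset_closure_image V.ι.continuous ⟨z, hsub, rfl⟩)

/-- Let S be a normal, locally Noetherian scheme over a field of characteristic 0. Let p : G → S and q :
H → S be smooth morphisms with sections e_G and e_H, and f : G → H an étale morphism over S with f ∘
e_G = e_H (the case in view: an étale homomorphism of smooth group schemes and their unit sections).
Call such a pointed S-scheme aligned when the scheme-theoretic image of its section is étale over S.
If H is aligned then G is aligned. (The published statement has an arbitrary locally Noetherian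
base; over the reducible curve xy = 0 the étale group scheme obtained from two copies of the base
glued along the complement of one branch maps to the trivial group by an étale homomorphism and is
not aligned, so the base is taken normal here, where the closure of the section is a union of
connected components of the preimage of the image of e_H. Schemes only.) -/
theorem result {k : Type u} [Field k] [CharZero k] {S : Scheme.{u}} (σ : S ⟶ Spec (CommRingCat.of k)) [IsLocallyNoetherian S] (hS : Pi1.IsNormalScheme S)
    {G H : Scheme.{u}} (p : G ⟶ S) (q : H ⟶ S) [Smooth p] [Smooth q]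
    (eG : S ⟶ G) (eH : S ⟶ H) (heG : eG ≫ p = 𝟙 S) (heH : eH ≫ q = 𝟙 S)
    (f : G ⟶ H) [Etale f] (hf : f ≫ q = p) (hfe : eG ≫ f = eH)
    (hH : Etale (eH.ker.subschemeι ≫ q)) :
    Etale (eG.ker.subschemeι ≫ p) := by
  let π : Limits.pullback f eH.ker.subschemeι ⟶ G := Limits.pullback.fst f eH.ker.subschemeι
  let W := Limits.pullback f eH.ker.subschemeι
  let w : W ⟶ S := Limits.pullback.snd f eH.ker.subschemeι ≫ eH.ker.subschemeι ≫ q
  have : IsClosedImmersion π := inferInstance
  have hπ : π ≫ p = w := by
    rw [← hf, ← Category.assoc, Limits.pullback.condition, Category.assoc]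
  have : Etale w := inferInstanceAs (Etale (Limits.pullback.snd f eH.ker.subschemeι ≫ eH.ker.subschemeι ≫ q))
  let s : S ⟶ W := Limits.pullback.lift eG eH.toImage (by rw [hfe]; exact eH.toImage_imageι.symm)
  have hsπ : s ≫ π = eG := Limits.pullback.lift_fst _ _ _
  have hsw : s ≫ w = 𝟙 S := by rw [← hπ, reassoc_of% hsπ, heG]
  have : Etale (s ≫ w) := by rw [hsw]; infer_instance
  have : Etale s := Etale.of_comp s w
  have : Mono s := SplitMono.mono ⟨w, hsw⟩
  have : IsOpenImmersion s := IsOpenImmersion.of_flat_of_mono s
  have hWn : Pi1.IsNormalScheme W := EtNormal.isNormalScheme_of_etale w hS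
  have : IsLocallyNoetherian W := LocallyOfFiniteType.isLocallyNoetherian w
  have : ∀ x : W, _root_.IsReduced (W.presheaf.stalk x) := fun x => have := (hWn x).1; inferInstance
  have : IsReduced W := isReduced_of_isReduced_stalk W
  let V : W.Opens := ⟨closure (Set.range s), isOpen_closure_of_domain (fun x => (hWn x).1) s.isOpenEmbedding.isOpen_range⟩
  have : IsClosedImmersion V.ι := IsClosedImmersion.of_isPreimmersion _ (by
    rw [Scheme.Opens.range_ι]; exact isClosed_closure)
  let s' : S ⟶ (V : Scheme.{u}) := IsOpenImmersion.lift V.ι s (by rw [Scheme.Opens.range_ι]; exact subset_closure)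
  have hs' : s' ≫ V.ι = s := IsOpenImmersion.lift_fac _ _ _
  have : IsDominant s' := ⟨by
    intro v
    rw [V.ι.isOpenEmbedding.isInducing.closure_eq_preimage_closure_image, Set.mem_preimage,
      ← Set.range_comp]
    have : (V.ι ∘ s' : S → W) = s := funext fun z => by
      show V.ι (s' z) = s z
      rw [← Scheme.Hom.comp_apply, hs']
    rw [this]
    exact v.2⟩
  have : IsSchemeTheoreticallyDominant s' := .of_isDominant s'
  let h := V.ι ≫ π
  have hker : eG.ker = h.ker := by
    rw [← hsπ, ← hs', Category.assoc, Scheme.Hom.ker_comp, s'.ker_eq_bot, Scheme.IdealSheafData.map_bot]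
  rw [hker]
  have : IsIso h.toImage := inferInstance
  have e : h.ker.subschemeι ≫ p = inv h.toImage ≫ V.ι ≫ w := by
    rw [← hπ, IsIso.eq_inv_comp]
    show h.toImage ≫ h.imageι ≫ p = _
    rw [h.toImage_imageι_assoc, Category.assoc]
  rw [e]
  infer_instance

end Groth.Agent.S13424
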