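import Groth.Statements.S13426
import Groth.Agent.FlatMor.SchDom
import Groth.Agent.GrpScheme.Basic
import Groth.Agent.GrpScheme.Ext
-- import your own Groth.Agent.* helpers here

set_option autoImplicit false
set_option backward.isDefEq.respectTransparency false
universe u
open CategoryTheory MonoidalCategory CartesianMonoidalCategory MonObj GrpObj AlgebraicGeometry
open GrpSch

namespace Groth.Agent.S13426

/-- Let S be a locally Noetherian scheme over a field of characteristic 0, S₀ ⊆ S a scheme-theoretically
dense open, and G a smooth S-scheme with the weak Néron mapping property for S₀ ⊆ S: for every étale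
S-scheme U, restriction to S₀ is a bijection from S-morphisms U → G onto S₀-morphisms. Let H be a
smooth group scheme over S together with a monomorphism H → G of S-schemes (the case in view: G a
group scheme and H a subgroup scheme), and assume that H is aligned, i.e. the scheme-theoretic image
of its unit section is étale over S, and that H ×_S S₀ → S₀ is separated. Then H → S is separated.
(Case of schemes of a statement about group algebraic spaces; only the injectivity of H → G on
morphisms is used of the subgroup condition.) -/
theorem result {k : Type u} [Field k] [CharZero k] {S : Scheme.{u}} (σ : S ⟶ Spec (CommRingCat.of k)) [IsLocallyNoetherian S] (S₀ : S.Opens) (hS₀ : CInt.IsSchematicallyDense S₀)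
    (G : Over S) [Smooth G.hom]
    (hG : ∀ U : Over S, Etale U.hom → Function.Bijective (fun g : U ⟶ G => (Over.pullback S₀.ι).map g))
    (H : Over S) [GrpObj H] [Smooth H.hom] (j : H ⟶ G) [Mono j.left]
    (hal : Etale (η[H].left.ker.subschemeι ≫ H.hom))
    (h0 : IsSeparated (Limits.pullback.snd H.hom S₀.ι)) :
    IsSeparated H.hom := by
  have hη : η[H].left ≫ H.hom = 𝟙 S := Over.w η[H]
  have : IsLocallyNoetherian H.left := LocallyOfFiniteType.isLocallyNoetherian H.hom
  have : QuasiCompact η[H].left := by
    have : QuasiCompact (η[H].left ≫ H.hom) := by rw [hη]; exact inferInstanceAs (QuasiCompact (𝟙 S))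
    exact QuasiCompact.of_comp η[H].left H.hom
  let U : Over S := Over.mk (η[H].left.imageι ≫ H.hom)
  have hU : Etale U.hom := hal
  let σ : 𝟙_ (Over S) ⟶ U := Over.homMk η[H].left.toImage (by
    show η[H].left.toImage ≫ η[H].left.imageι ≫ H.hom = _
    rw [η[H].left.toImage_imageι_assoc]; exact Over.w η[H])
  have : IsSchemeTheoreticallyDominant σ.left :=
    FlatMor.SchDom.toImage_dominant η[H].left (Or.inl inferInstance)
  have : IsClosedImmersion η[H].left.imageι := inferInstanceAs (IsClosedImmersion η[H].left.ker.subschemeι)
  have : QuasiCompact σ.left := by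
    have : QuasiCompact (η[H].left.toImage ≫ η[H].left.imageι) := by
      rw [η[H].left.toImage_imageι]; infer_instance
    exact QuasiCompact.of_comp η[H].left.toImage η[H].left.imageι
  let a : U ⟶ H := Over.homMk η[H].left.imageι rfl
  let b : U ⟶ H := toUnit U ≫ η[H]
  have hσ : σ ≫ a = σ ≫ b := by
    rw [show σ ≫ a = η[H] from Over.OverMorphism.ext η[H].left.toImage_imageι,
      show σ ≫ b = η[H] from by rw [← Category.assoc, toUnit_unique (σ ≫ toUnit U) (𝟙 _), Category.id_comp]]
  let F := Over.pullback S₀.ι
  have hFσ : IsPullback (F.map σ).left (Limits.pullback.fst (𝟙_ (Over S)).hom S₀.ι) (Limits.pullback.fst U.hom S₀.ι) σ.left := by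
    refine IsPullback.of_right ?_ (Limits.pullback.lift_fst _ _ _) (IsPullback.of_hasPullback U.hom S₀.ι).flip
    rw [show (F.map σ).left ≫ Limits.pullback.snd U.hom S₀.ι = Limits.pullback.snd (𝟙_ (Over S)).hom S₀.ι from
      Limits.pullback.lift_snd _ _ _, Over.w σ]
    exact (IsPullback.of_hasPullback (𝟙_ (Over S)).hom S₀.ι).flip
  have : IsSchemeTheoreticallyDominant (F.map σ).left := IsSchemeTheoreticallyDominant.of_isPullback hFσ.flip
  have hF : F.map a = F.map b := by
    refine Over.OverMorphism.ext (GrpScheme.Ext.ext_of_schematicallyDominant (F.map σ).left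
      (Limits.pullback.snd H.hom S₀.ι) ?_ ?_)
    · exact (Over.w (F.map a)).trans (Over.w (F.map b)).symm
    · rw [← Over.comp_left, ← Over.comp_left, ← F.map_comp, ← F.map_comp, hσ]
  have hja : a ≫ j = b ≫ j := (hG U hU).1 (by
    show F.map (a ≫ j) = F.map (b ≫ j)
    rw [F.map_comp, F.map_comp, hF])
  have : Mono j := Over.mono_of_mono_left j
  have hab : a = b := (cancel_mono j).1 hja
  let p : U.left ⟶ (𝟙_ (Over S)).left := (toUnit U).left
  have hid : σ.left ≫ p = 𝟙 _ := by
    rw [← Over.comp_left, toUnit_unique (σ ≫ toUnit U) (𝟙 _)]; rfl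
  have hid' : p ≫ σ.left = 𝟙 _ := by
    rw [← cancel_mono η[H].left.imageι, Category.assoc, Category.id_comp]
    show p ≫ η[H].left.toImage ≫ η[H].left.imageι = _
    rw [η[H].left.toImage_imageι, ← Over.comp_left]
    exact (congrArg (fun m : U ⟶ H => m.left) hab).symm
  have : IsIso σ.left := ⟨p, hid, hid'⟩
  have : IsClosedImmersion η[H].left := by
    rw [← η[H].left.toImage_imageι]
    exact inferInstanceAs (IsClosedImmersion (σ.left ≫ η[H].left.imageι))
  exact ⟨GrpScheme.Basic.diagonal_mem @IsClosedImmersion inferInstance⟩

end Groth.Agent.S13426
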