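import Groth.Statements.S13428
import Groth.Agent.NeronHD.EtaleDense
import Groth.Agent.NeronLib.MapBij
import Groth.Agent.AlgSp.DenseFlat
import Groth.Agent.SchDense.Dense
import Mathlib.AlgebraicGeometry.Morphisms.FlatMono
import Mathlib.AlgebraicGeometry.Morphisms.FormallyUnramified

set_option autoImplicit false
universe u
open CategoryTheory AlgebraicGeometry
open NeronHD

namespace Groth.Agent.S13428

/-- Let S be a normal Noetherian scheme over a field of characteristic 0 and S₀ ⊆ S a
scheme-theoretically dense open. Let N be a smooth, separated and quasi-compact S-scheme with the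
Néron mapping property for S₀ ⊆ S (restriction to S₀ of S-morphisms from smooth S-schemes is
bijective) such that N|S₀ → S₀ is étale, so that N is a quasi-projective Néron model of the
quasi-projective étale S₀-scheme N|S₀. If M is a separated, quasi-compact, étale S-scheme and φ : M
→ N is an S-morphism restricting to an isomorphism over S₀ (so M is another quasi-projective étale
extension of N|S₀, and φ is its canonical map to the Néron model), then φ is an open immersion.
(Case of schemes of the published statement.) -/
theorem result {k : Type u} [Field k] [CharZero k] {S : Scheme.{u}} (σ : S ⟶ Spec (CommRingCat.of k)) [IsNoetherian S] (hS : Pi1.IsNormalScheme S) (S₀ : S.Opens) (hS₀ : CInt.IsSchematicallyDense S₀)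
    (N : Over S) [Smooth N.hom] [IsSeparated N.hom] [QuasiCompact N.hom]
    (hN : ∀ Z : Over S, Smooth Z.hom → Function.Bijective (fun g : Z ⟶ N => (Over.pullback S₀.ι).map g))
    [Etale ((Over.pullback S₀.ι).obj N).hom]
    (M : Over S) [Etale M.hom] [IsSeparated M.hom] [QuasiCompact M.hom]
    (φ : M ⟶ N) [IsIso ((Over.pullback S₀.ι).map φ)] :
    IsOpenImmersion φ.left := by
  haveI : Etale N.hom := by
    have hD : Dense ((N.hom ⁻¹ᵁ S₀ : N.left.Opens) : Set N.left) :=
      SchDense.dense_of_schDense (Groth.Agent.AlgSp.DenseFlat.preimage N.hom S₀ hS₀)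
    haveI : Etale (Limits.pullback.snd N.hom S₀.ι) :=
      ‹Etale ((Over.pullback S₀.ι).obj N).hom›
    haveI : Etale ((N.hom ⁻¹ᵁ S₀).ι ≫ N.hom) := by
      rw [← (isPullback_morphismRestrict N.hom S₀).flip.isoPullback_hom_fst, Category.assoc,
        Limits.pullback.condition]
      infer_instance
    exact NeronHD.etale_of_smooth_of_dense N.hom _ hD
  haveI : Etale (φ.left ≫ N.hom) := by rw [Over.w φ]; infer_instance
  haveI : Etale φ.left := Etale.of_comp φ.left N.hom
  haveI : IsSeparated (φ.left ≫ N.hom) := by rw [Over.w φ]; infer_instance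
  haveI : IsSeparated φ.left := IsSeparated.of_comp φ.left N.hom
  let p₁ := Limits.pullback.fst φ.left φ.left
  let p₂ := Limits.pullback.snd φ.left φ.left
  let q : Limits.pullback φ.left φ.left ⟶ S := p₁ ≫ M.hom
  let U := q ⁻¹ᵁ S₀
  have hU : Dense (U : Set ↥(Limits.pullback φ.left φ.left)) :=
    SchDense.dense_of_schDense (Groth.Agent.AlgSp.DenseFlat.preimage q S₀ hS₀)
  haveI : IsIso ((Over.pullback S₀.ι).map φ).left :=
    inferInstanceAs (IsIso ((Over.forget _).map ((Over.pullback S₀.ι).map φ)))
  have h12 : U.ι ≫ p₁ = U.ι ≫ p₂ := by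
    have c₁ : (U.ι ≫ p₁) ≫ M.hom = (q ∣_ S₀) ≫ S₀.ι := by
      rw [Category.assoc, morphismRestrict_ι]
    have c₂ : (U.ι ≫ p₂) ≫ M.hom = (q ∣_ S₀) ≫ S₀.ι := by
      rw [← c₁, Category.assoc, Category.assoc, ← Over.w φ]
      simp only [p₁, p₂, Limits.pullback.condition_assoc]
    have key : Limits.pullback.lift (U.ι ≫ p₁) (q ∣_ S₀) c₁ ≫ ((Over.pullback S₀.ι).map φ).left =
        Limits.pullback.lift (U.ι ≫ p₂) (q ∣_ S₀) c₂ ≫ ((Over.pullback S₀.ι).map φ).left := by
      apply Limits.pullback.hom_ext
      · simp only [Category.assoc, NeronLib.MapBij.map_left_fst, Limits.pullback.lift_fst_assoc]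
        simp only [p₁, p₂, Limits.pullback.condition]
      · simp only [Category.assoc]
        erw [Over.w ((Over.pullback S₀.ι).map φ)]
        erw [Limits.pullback.lift_snd, Limits.pullback.lift_snd]
    have := congrArg (· ≫ Limits.pullback.fst M.hom S₀.ι) ((cancel_mono _).1 key)
    erw [Limits.pullback.lift_fst, Limits.pullback.lift_fst] at this
    exact this
  have hUr : U.ι ≫ p₁ ≫ Limits.pullback.diagonal φ.left = U.ι := by
    apply Limits.pullback.hom_ext
    · simp [p₁]
    · simp only [Category.assoc, Limits.pullback.diagonal_snd, Category.comp_id]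
      exact h12
  haveI : Surjective (Limits.pullback.diagonal φ.left) := by
    refine ⟨fun z => ?_⟩
    have hsub : (U : Set ↥(Limits.pullback φ.left φ.left)) ⊆ Set.range (Limits.pullback.diagonal φ.left) :=
      fun w hw => ⟨(U.ι ≫ p₁) ⟨w, hw⟩, by
        rw [← Scheme.Hom.comp_apply, Category.assoc, hUr]
        rfl⟩
    exact closure_minimal hsub (Limits.pullback.diagonal φ.left).isClosedEmbedding.isClosed_range (hU z)
  haveI : IsIso (Limits.pullback.diagonal φ.left) :=
    isIso_of_isOpenImmersion_of_opensRange_eq_top _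
      (TopologicalSpace.Opens.ext (Surjective.surj (f := Limits.pullback.diagonal φ.left)).range_eq)
  haveI : Mono φ.left := (Limits.pullback.isIso_diagonal_iff _).1 inferInstance
  exact IsOpenImmersion.of_flat_of_mono φ.left

end Groth.Agent.S13428
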