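import Groth.Statements.S13430
import Groth.Agent.NeronHD.MapProp

set_option autoImplicit false
universe u
open CategoryTheory MonoidalCategory CartesianMonoidalCategory MonObj GrpObj AlgebraicGeometry
open NeronHD

namespace Groth.Agent.S13430

/-- The implication ⇐: let S be a locally Noetherian scheme over a field of characteristic 0 and S₀ ⊆ S
a scheme-theoretically dense open. Let G be a smooth group scheme over S and N a smooth S-scheme,
both with the Néron mapping property for S₀ ⊆ S (restriction to S₀ of S-morphisms from smooth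
S-schemes is bijective), and let a be an action of G on N over S whose translation map G ×_S N → N
×_S N, (g, x) ↦ (g·x, x), restricts to an isomorphism over S₀, so that N|S₀ is a pseudo-torsor under
G|S₀ and a is the unique extension of that action. If N → S is surjective, then the translation map
is an isomorphism: N is a pseudo-torsor under G over all of S (and then a torsor for the étale
topology, N → S being smooth and surjective). (Case of schemes of a statement about group algebraic
spaces; the converse 'torsor ⇒ surjective' presumes local triviality.) -/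
theorem result {k : Type u} [Field k] [CharZero k] {S : Scheme.{u}} (σ : S ⟶ Spec (CommRingCat.of k)) [IsLocallyNoetherian S] (S₀ : S.Opens) (hS₀ : CInt.IsSchematicallyDense S₀)
    (G : Over S) [GrpObj G] [Smooth G.hom]
    (hG : ∀ Z : Over S, Smooth Z.hom → Function.Bijective (fun g : Z ⟶ G => (Over.pullback S₀.ι).map g))
    (N : Over S) [Smooth N.hom] [Surjective N.hom]
    (hN : ∀ Z : Over S, Smooth Z.hom → Function.Bijective (fun g : Z ⟶ N => (Over.pullback S₀.ι).map g))
    (a : AlgGrp.Action G N)
    (h0 : IsIso ((Over.pullback S₀.ι).map (lift a.act (snd G N)))) :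
    NonAbH1.IsPseudoTorsorSch a := by
  have hGN : ∀ Z : Over S, Smooth Z.hom → Function.Bijective (fun g : Z ⟶ G ⊗ N => (Over.pullback S₀.ι).map g) :=
    fun Z hZ => NeronHD.bijective_prod S₀.ι G N Z (hG Z hZ) (hN Z hZ)
  have hNN : ∀ Z : Over S, Smooth Z.hom → Function.Bijective (fun g : Z ⟶ N ⊗ N => (Over.pullback S₀.ι).map g) :=
    fun Z hZ => NeronHD.bijective_prod S₀.ι N N Z (hN Z hZ) (hN Z hZ)
  have hs1 : Smooth (G ⊗ N).hom :=
    show Smooth (Limits.pullback.fst G.hom N.hom ≫ G.hom) from inferInstance
  have hs2 : Smooth (N ⊗ N).hom :=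
    show Smooth (Limits.pullback.fst N.hom N.hom ≫ N.hom) from inferInstance
  haveI := h0
  obtain ⟨ψ, hψ⟩ := (hGN _ hs2).2 (inv ((Over.pullback S₀.ι).map (lift a.act (snd G N))))
  replace hψ : (Over.pullback S₀.ι).map ψ = _ := hψ
  refine ⟨⟨ψ, (hGN _ hs1).1 ?_, (hNN _ hs2).1 ?_⟩⟩
  · show (Over.pullback S₀.ι).map (lift a.act (snd G N) ≫ ψ) = (Over.pullback S₀.ι).map (𝟙 (G ⊗ N))
    rw [Functor.map_comp, hψ, IsIso.hom_inv_id, CategoryTheory.Functor.map_id]
  · show (Over.pullback S₀.ι).map (ψ ≫ lift a.act (snd G N)) = (Over.pullback S₀.ι).map (𝟙 (N ⊗ N))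
    rw [Functor.map_comp, hψ, IsIso.inv_hom_id, CategoryTheory.Functor.map_id]

end Groth.Agent.S13430
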