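import Groth.Statements.S1344
import Groth.Agent.EquidimPt.LocalDim
import Groth.Agent.S9374
-- import your own Groth.Agent.* helpers here

set_option autoImplicit false
universe u
open FlatMor

namespace Groth.Agent.S1344

open AlgebraicGeometry CategoryTheory Limits in
/-- Let f be locally of finite type between locally Noetherian schemes and Cohen–Macaulay at every
point. Then for every point x of the source with image y, the local dimension of the source at x
equals the local dimension of the target at y plus the local dimension at x of the fibre over y. -/
theorem result {X Y : Scheme.{u}} (f : X ⟶ Y) [IsLocallyNoetherian X] [IsLocallyNoetherian Y] [LocallyOfFiniteType f]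
    (hf : ∀ x : X, MoreMor.IsCMAt f x) (x : X) :
    FlatMor.localDim ↑X x = FlatMor.localDim ↑Y (f x) + FlatMor.fibreDimAt f x := by
  have : Flat f := (Flat.iff_flat_stalkMap f).mpr fun x => (hf x).1
  have : LocallyOfFinitePresentation f := by
    refine ⟨fun {U} hU {V} hV e => ?_⟩
    have : IsNoetherianRing Γ(Y, U) := IsLocallyNoetherian.component_noetherian ⟨U, hU⟩
    have := f.finiteType_appLE hU hV e
    exact RingHom.FinitePresentation.of_finiteType.mp this
  obtain ⟨d, hd⟩ := Groth.Agent.FlatOpen.CMLocus.exists_fibreDimAt_eq f x
  let O : X.Opens := ⟨_, (Groth.Agent.S9374.result f hf).isOpen_fiber (FlatMor.fibreDimAt f x)⟩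
  rw [hd]
  exact Groth.Agent.EquidimPt.localDim_eq_add_of_flat f x d O rfl fun z hz => (show FlatMor.fibreDimAt f z = FlatMor.fibreDimAt f x from hz).trans hd

end Groth.Agent.S1344
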