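import Groth.Statements.S13443
import Groth.Agent.HilbPnLib.SigBound

set_option autoImplicit false
universe u
open W4c1hilbpn

namespace Groth.Agent.S13443

open Groth.Agent.HilbPnLib in
theorem aux {k : Type u} [Field k] {r : ℕ} {I : Ideal (MvPolynomial (Fin 3) k)} (hI : IsStronglyStable I)
    [Module.Finite k (MvPolynomial (Fin 3) k ⧸ I)]
    (hd : Module.finrank k (MvPolynomial (Fin 3) k ⧸ I) = Nat.choose (r + 2) 3) (i : Fin 3) (N : Set (Fin 3))
    (hN : N = ({i} : Set (Fin 3))ᶜ)
    (h : Module.finrank k ↥(sigPiece I ({i} : Set (Fin 3))) ≤ (r + 3).choose 4 ∧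
      (Module.finrank k ↥(sigPiece I ({i} : Set (Fin 3))) = (r + 3).choose 4 → I = mPow k r (Fin 3))) :
    (Module.finrank k ↥(sigPiece I ({i} : Set (Fin 3))) ≤ (r + 3).choose 4 ∧
      (Module.finrank k ↥(sigPiece I ({i} : Set (Fin 3))) = (r + 3).choose 4 ↔ I = mPow k r (Fin 3))) ∧
    (Module.finrank k ↥(sigPiece I N) ≤ (r + 2).choose 4 ∧
      (Module.finrank k ↥(sigPiece I N) = (r + 2).choose 4 ↔ I = mPow k r (Fin 3))) := by
  subst hN
  have hm : I = mPow k r (Fin 3) → Module.finrank k ↥(sigPiece I ({i} : Set (Fin 3))) = (r + 3).choose 4 := by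
    rintro rfl
    exact (tgt_mPow k r i).1
  have e := sig_single hI.1 i
  rw [hd] at e
  have e4 : (r + 3).choose 4 = (r + 2).choose 3 + (r + 2).choose 4 := Nat.choose_succ_succ (r + 2) 3
  exact ⟨⟨h.1, h.2, hm⟩, by omega, fun he => h.2 (by omega), fun he => by have := hm he; omega⟩


open W4c1hilbpn in
/-- Let k be an infinite field, S = k[x,y,z], and T(I) = Hom_S(I, S/I) graded by triples of integers (a
graded piece is indexed by its multidegree; its sign pattern records which of the three entries are
negative), variables ordered x > y > z; let m = (x,y,z), r a natural number and I a strongly stable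
ideal of colength C(r+2, 3) = dim S/m^r. Then the spans of the graded pieces of T(I) negative
exactly at z, resp. exactly at y, have dimension at most C(r+3, 4), the spans of those negative
exactly at x and y, resp. exactly at x and z, have dimension at most C(r+2, 4) (these are the
corresponding dimensions for m^r), and in each of the four cases equality holds if and only if I =
m^r. (The published statement assumes the ideal Borel-fixed over a field of characteristic zero,
which for monomial ideals means strongly stable; the argument uses only strong stability, and the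
row is stated in that form.) -/
theorem result (k : Type u) [Field k] [Infinite k] (r : ℕ)
    (I : Ideal (MvPolynomial (Fin 3) k)) (hI : IsStronglyStable I) [Module.Finite k (MvPolynomial (Fin 3) k ⧸ I)]
    (hd : Module.finrank k (MvPolynomial (Fin 3) k ⧸ I) = Nat.choose (r + 2) 3) :
    (Module.finrank k ↥(sigPiece I ({2} : Set (Fin 3))) ≤ Nat.choose (r + 3) 4 ∧
      (Module.finrank k ↥(sigPiece I ({2} : Set (Fin 3))) = Nat.choose (r + 3) 4 ↔ I = (Ideal.span (Set.range (MvPolynomial.X : Fin 3 → MvPolynomial (Fin 3) k))) ^ r)) ∧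
    (Module.finrank k ↥(sigPiece I ({1} : Set (Fin 3))) ≤ Nat.choose (r + 3) 4 ∧
      (Module.finrank k ↥(sigPiece I ({1} : Set (Fin 3))) = Nat.choose (r + 3) 4 ↔ I = (Ideal.span (Set.range (MvPolynomial.X : Fin 3 → MvPolynomial (Fin 3) k))) ^ r)) ∧
    (Module.finrank k ↥(sigPiece I ({0, 1} : Set (Fin 3))) ≤ Nat.choose (r + 2) 4 ∧
      (Module.finrank k ↥(sigPiece I ({0, 1} : Set (Fin 3))) = Nat.choose (r + 2) 4 ↔ I = (Ideal.span (Set.range (MvPolynomial.X : Fin 3 → MvPolynomial (Fin 3) k))) ^ r)) ∧
    (Module.finrank k ↥(sigPiece I ({0, 2} : Set (Fin 3))) ≤ Nat.choose (r + 2) 4 ∧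
      (Module.finrank k ↥(sigPiece I ({0, 2} : Set (Fin 3))) = Nat.choose (r + 2) 4 ↔ I = (Ideal.span (Set.range (MvPolynomial.X : Fin 3 → MvPolynomial (Fin 3) k))) ^ r)) := by
  obtain ⟨hz, hy⟩ := Groth.Agent.HilbPnLib.Slices.sig_bound hI hd.le
  obtain ⟨a, b⟩ := aux hI hd 2 ({0, 1} : Set (Fin 3)) (by ext x; fin_cases x <;> simp) hz
  obtain ⟨c, d⟩ := aux hI hd 1 ({0, 2} : Set (Fin 3)) (by ext x; fin_cases x <;> simp) hy
  exact ⟨a, c, b, d⟩

end Groth.Agent.S13443
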