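import Groth.Statements.S13444
import Groth.Agent.DualCx.GorNormal
import Groth.Agent.S0342
import Groth.Agent.SubHopf.LinearHull

set_option autoImplicit false
set_option linter.style.haveILetI false
set_option maxHeartbeats 800000
universe u
open W4c1hilbpn

namespace Groth.Agent.S13444

open CategoryTheory CategoryTheory.Abelian

variable {R : Type u} [CommRing R]

/-- Short exact sequence of a linear map and its quotient. -/
theorem shortExact_mk {A B C : Type u} [AddCommGroup A] [Module R A] [AddCommGroup B] [Module R B]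
    [AddCommGroup C] [Module R C] (f : A →ₗ[R] B) (g : B →ₗ[R] C) (hf : Function.Injective f)
    (hfg : Function.Exact f g) (hg : Function.Surjective g) :
    (ShortComplex.mk (ModuleCat.ofHom f) (ModuleCat.ofHom g) (by ext x; exact hfg.apply_apply_eq_zero x)).ShortExact :=
  { exact := (ShortComplex.ShortExact.moduleCat_exact_iff_function_exact _).2 hfg
    mono_f := (ModuleCat.mono_iff_injective _).2 hf
    epi_g := (ModuleCat.epi_iff_surjective _).2 hg }

variable {d : ℕ}

/-- `Ext^d(-, R)` of a cyclic module modulo `J`, when it is exact and preserves lengths on modules of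
finite length. -/
theorem length_ext_quot_add [IsNoetherianRing R] (I J : Ideal R) (hI : IsFiniteLength R (R ⧸ I))
    (hD : ∀ (M : Type u) [AddCommGroup M] [Module R M], IsFiniteLength R M →
      (∀ i : ℕ, i ≠ d → Subsingleton (Ext.{u} (ModuleCat.of R M) (ModuleCat.of R R) i)) ∧
        Module.length R (Ext.{u} (ModuleCat.of R M) (ModuleCat.of R R) d) = Module.length R M) :
    Module.length R (Ext.{u} (ModuleCat.of R (R ⧸ I)) (ModuleCat.of R R) d ⧸
        (J • ⊤ : Submodule R (Ext.{u} (ModuleCat.of R (R ⧸ I)) (ModuleCat.of R R) d))) +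
      Module.length R (R ⧸ I.colon J) = Module.length R (R ⧸ I) := by
  classical
  obtain ⟨s, j, hj⟩ := Submodule.fg_iff_exists_fin_generating_family.mp (IsNoetherian.noetherian J)
  let f : (R ⧸ I) →ₗ[R] (Fin s → R ⧸ I) := LinearMap.pi fun i => LinearMap.lsmul R (R ⧸ I) (j i)
  have hker : ∀ r : R, f (Submodule.Quotient.mk r) = 0 ↔ r ∈ I.colon J := by
    intro r
    rw [Submodule.mem_colon]
    constructor
    · intro h x hx
      rw [← hj] at hx
      induction hx using Submodule.span_induction with
      | mem y hy =>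
        obtain ⟨i, rfl⟩ := hy
        have h1 : (Submodule.Quotient.mk (j i * r) : R ⧸ I) = 0 := congrFun h i
        rw [Submodule.Quotient.mk_eq_zero] at h1
        rwa [smul_eq_mul, mul_comm]
      | zero => rw [smul_zero]; exact I.zero_mem
      | add y z _ _ hy hz => rw [smul_add]; exact I.add_mem hy hz
      | smul c y _ hy => rw [smul_comm]; exact I.smul_mem c hy
    · intro h
      funext i
      show (Submodule.Quotient.mk (j i * r) : R ⧸ I) = 0
      rw [Submodule.Quotient.mk_eq_zero, mul_comm]
      exact h (j i) (hj ▸ Submodule.subset_span ⟨i, rfl⟩)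
  have hIc : I ≤ I.colon J := fun r hr => Submodule.mem_colon.2 fun x _ => I.mul_mem_right x hr
  let q : (R ⧸ I) →ₗ[R] (R ⧸ I.colon J) := Submodule.factor hIc
  have hkq : LinearMap.ker f = LinearMap.ker q := by
    ext x
    obtain ⟨r, rfl⟩ := Submodule.Quotient.mk_surjective I x
    rw [LinearMap.mem_ker, LinearMap.mem_ker, hker]
    exact (Submodule.Quotient.mk_eq_zero _).symm
  let K := LinearMap.ker f
  have hlen : Module.length R (R ⧸ I) = Module.length R K + Module.length R (R ⧸ I.colon J) :=
    Module.length_eq_add_of_exact K.subtype q K.injective_subtype (Submodule.factor_surjective hIc)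
      (by show Function.Exact _ _; rw [show K = LinearMap.ker q from hkq]; exact LinearMap.exact_subtype_ker_map q)
  let P := LinearMap.range f
  have hT : IsFiniteLength R (Fin s → R ⧸ I) := by
    obtain ⟨_, _⟩ := isFiniteLength_iff_isNoetherian_isArtinian.1 hI
    exact isFiniteLength_iff_isNoetherian_isArtinian.2 ⟨inferInstance, inferInstance⟩
  have hP : IsFiniteLength R P := hT.of_injective P.injective_subtype
  have hQ : IsFiniteLength R ((Fin s → R ⧸ I) ⧸ P) := hT.of_surjective P.mkQ_surjective
  have hK : IsFiniteLength R K := hI.of_injective K.injective_subtype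
  have S1 := shortExact_mk K.subtype f.rangeRestrict K.injective_subtype
    (LinearMap.exact_iff.2 (by rw [LinearMap.ker_rangeRestrict, Submodule.range_subtype])) f.surjective_rangeRestrict
  have S2 := shortExact_mk P.subtype P.mkQ P.injective_subtype (LinearMap.exact_subtype_mkQ P) P.mkQ_surjective
  let D := Ext.{u} (ModuleCat.of R (R ⧸ I)) (ModuleCat.of R R) d
  let Φ : D →ₗ[R] Ext.{u} (ModuleCat.of R K) (ModuleCat.of R R) d :=
    (Ext.mk₀ (ModuleCat.ofHom K.subtype)).precompOfLinear R (ModuleCat.of R R) (zero_add d)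
  have hΦsurj : Function.Surjective Φ := by
    intro z
    haveI := (hD P hP).1 (1 + d) (by omega)
    exact Ext.contravariant_sequence_exact₁ S1 (ModuleCat.of R R) z rfl (Subsingleton.elim _ _)
  let inc : ∀ i : Fin s, ModuleCat.of R (R ⧸ I) ⟶ ModuleCat.of R (Fin s → R ⧸ I) :=
    fun i => ModuleCat.ofHom (LinearMap.single R (fun _ => R ⧸ I) i)
  let pr : ∀ i : Fin s, ModuleCat.of R (Fin s → R ⧸ I) ⟶ ModuleCat.of R (R ⧸ I) :=
    fun i => ModuleCat.ofHom (LinearMap.proj i)
  have hfsum : ModuleCat.ofHom f = ∑ i, j i • inc i := by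
    refine ModuleCat.hom_ext (LinearMap.ext fun x => funext fun i => ?_)
    simp [f, inc, Finset.sum_apply, LinearMap.single_apply, Pi.single_apply]
  have hfpr : ∀ i, ModuleCat.ofHom f ≫ pr i = j i • 𝟙 _ := fun i => by
    refine ModuleCat.hom_ext (LinearMap.ext fun x => ?_)
    simp [f, pr]
  have hfac : ModuleCat.ofHom f = ModuleCat.ofHom f.rangeRestrict ≫ ModuleCat.ofHom P.subtype := rfl
  have hkerΦ : LinearMap.ker Φ = J • ⊤ := by
    refine le_antisymm (fun y hy => ?_) (Submodule.smul_le.2 fun r hr y _ => ?_)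
    · obtain ⟨p, rfl⟩ := Ext.contravariant_sequence_exact₂ S1 (ModuleCat.of R R) y hy
      haveI := (hD _ hQ).1 (1 + d) (by omega)
      obtain ⟨t, rfl⟩ := Ext.contravariant_sequence_exact₁ S2 (ModuleCat.of R R) p rfl (Subsingleton.elim _ _)
      rw [Ext.mk₀_comp_mk₀_assoc, ← hfac, hfsum, Ext.mk₀_sum, Ext.sum_comp]
      refine Submodule.sum_mem _ fun i _ => ?_
      rw [Ext.mk₀_smul, Ext.smul_comp]
      exact Submodule.smul_mem_smul (hj ▸ Submodule.subset_span ⟨i, rfl⟩) trivial
    · rw [← hj] at hr
      induction hr using Submodule.span_induction with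
      | mem r hr =>
        obtain ⟨i, rfl⟩ := hr
        rw [LinearMap.mem_ker]
        show (Ext.mk₀ (ModuleCat.ofHom K.subtype)).comp (j i • y) (zero_add d) = 0
        have h1 : j i • y = (Ext.mk₀ (ModuleCat.ofHom f ≫ pr i)).comp y (zero_add d) := by
          rw [hfpr, Ext.mk₀_smul, Ext.smul_comp, Ext.mk₀_id_comp]
        have h2 : ModuleCat.ofHom K.subtype ≫ ModuleCat.ofHom f = 0 :=
          ModuleCat.hom_ext (LinearMap.ext fun x => LinearMap.mem_ker.1 x.2)
        rw [h1, Ext.mk₀_comp_mk₀_assoc, ← Category.assoc, h2, Limits.zero_comp, Ext.mk₀_zero, Ext.zero_comp]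
      | zero => rw [zero_smul]; exact zero_mem _
      | add a b _ _ ha hb => rw [add_smul]; exact add_mem ha hb
      | smul c a _ ha => rw [smul_assoc]; exact Submodule.smul_mem _ c ha
  have heq : Module.length R (D ⧸ (J • ⊤ : Submodule R D)) = Module.length R K := by
    rw [← (hD K hK).2]
    exact ((Submodule.quotEquivOfEq _ _ hkerΦ.symm).trans (Φ.quotKerEquivOfSurjective hΦsurj)).length_eq
  rw [hlen, heq]


/-- Let R be a regular local ring of Krull dimension 2 and I, J ideals of R such that R/I and R/J have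
finite length. Then the length of Hom_R(I, R/J) equals the length of R/J plus the length of (I :
J)/I; here the last length is moved to the other side as the length of R/(I : J), using that I ⊆ (I
: J) and all lengths are finite. -/
theorem result (R : Type u) [CommRing R]
    [IsRegularLocalRing R] (hdim : ringKrullDim R = 2) (I J : Ideal R)
    (hI : Module.length R (R ⧸ I) < ⊤) (hJ : Module.length R (R ⧸ J) < ⊤) :
    Module.length R (↥I →ₗ[R] (R ⧸ J)) + Module.length R (R ⧸ I.colon J) =
      Module.length R (R ⧸ J) + Module.length R (R ⧸ I) := by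
  classical
  haveI : LocCoh.IsGorensteinLocalRing R := S0342.result R
  have hD := fun (M : Type u) [AddCommGroup M] [Module R M] (hM : IsFiniteLength R M) =>
    DualCx.GorNormal.finiteLength (A := R) (d := 2) (by exact_mod_cast hdim) M hM
  have hIfl : IsFiniteLength R (R ⧸ I) := Module.length_ne_top_iff.1 hI.ne
  have hI0 : I ≠ ⊥ := by
    rintro rfl
    haveI : IsArtinian R (R ⧸ (⊥ : Ideal R)) := (isFiniteLength_iff_isNoetherian_isArtinian.1 hIfl).2
    haveI : IsArtinianRing R := (LinearEquiv.isArtinian_iff (Submodule.quotEquivOfEqBot (⊥ : Ideal R) rfl)).1 ‹_›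
    rw [(ringKrullDimZero_iff_ringKrullDim_eq_zero (R := R)).1 inferInstance] at hdim
    exact absurd hdim (by norm_num)
  haveI : IsDomain R := RegLoc.isDomain R
  obtain ⟨n, g, hg⟩ := Module.Finite.exists_fin' R I
  haveI : Module.Projective R (LinearMap.ker g) := by
    have h := SubHopf.projective_ker_of_regularLocal hdim.le (I.subtype.comp g)
    rwa [LinearMap.ker_comp_of_ker_eq_bot g I.ker_subtype] at h
  haveI : Module.Free R (LinearMap.ker g) := Module.free_of_flat_of_isLocalRing
  let b := Module.finBasis R (LinearMap.ker g)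
  set m := Module.finrank R (LinearMap.ker g) with hm
  let A : (Fin m → R) →ₗ[R] (Fin n → R) := (LinearMap.ker g).subtype.comp b.equivFun.symm.toLinearMap
  have hAinj : Function.Injective A := (LinearMap.ker g).injective_subtype.comp b.equivFun.symm.injective
  have hAg : Function.Exact A g := by
    rw [LinearMap.exact_iff, LinearMap.range_comp_of_range_eq_top _ (LinearEquiv.range _), Submodule.range_subtype]
  have hn : n = m + 1 := by
    have h := Submodule.finrank_quotient_add_finrank (LinearMap.ker g)
    rw [(g.quotKerEquivOfSurjective hg).finrank_eq, Module.finrank_fin_fun, ← hm] at h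
    obtain ⟨x, hx, hx0⟩ := Submodule.exists_mem_ne_zero_of_ne_bot hI0
    have h1 : Module.finrank R I = 1 := by
      refine le_antisymm (le_trans (LinearMap.finrank_le_finrank_of_injective I.injective_subtype) (Module.finrank_self R).le) ?_
      have hinj : Function.Injective (LinearMap.toSpanSingleton R I ⟨x, hx⟩) := by
        intro a c hac
        exact mul_right_cancel₀ hx0 (congrArg Subtype.val hac)
      exact (Module.finrank_self R).ge.trans (LinearMap.finrank_le_finrank_of_injective hinj)
    omega
  -- the dual of the resolution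
  have S1 := shortExact_mk A g hAinj hAg hg
  have S2 := shortExact_mk I.subtype I.mkQ I.injective_subtype (LinearMap.exact_subtype_mkQ I) I.mkQ_surjective
  haveI : Projective (ModuleCat.of R (Fin n → R)) := (IsProjective.iff_projective (R := R) (Fin n → R)).1 inferInstance
  haveI : Projective (ModuleCat.of R R) := (IsProjective.iff_projective (R := R) R).1 inferInstance
  let O := ModuleCat.of R R
  let δ₁ := S1.extClass.precompOfLinear R O (show 1 + 0 = 1 from rfl)
  let δ₂ := S2.extClass.precompOfLinear R O (show 1 + 1 = 2 from rfl)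
  let toE : ((Fin m → R) →ₗ[R] R) →ₗ[R] Ext.{u} (ModuleCat.of R (Fin m → R)) O 0 :=
    (Ext.linearEquiv₀ (R := R)).symm.toLinearMap.comp (ModuleCat.homLinearEquiv (S := R) (M := ModuleCat.of R (Fin m → R)) (N := O)).symm.toLinearMap
  have htoE : Function.Bijective toE :=
    (Ext.linearEquiv₀ (R := R)).symm.bijective.comp (ModuleCat.homLinearEquiv (S := R) (M := ModuleCat.of R (Fin m → R)) (N := O)).symm.bijective
  have htoE' : ∀ h, toE h = Ext.mk₀ (ModuleCat.ofHom h) := fun h => rfl
  let δ := (δ₂.comp δ₁).comp toE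
  have hδ₂ : Function.Bijective δ₂ := by
    constructor
    · rw [injective_iff_map_eq_zero]
      intro x hx
      obtain ⟨y, rfl⟩ := Ext.contravariant_sequence_exact₁ S2 O x rfl hx
      haveI := Ext.subsingleton_of_projective (C := ModuleCat.{u} R) (P := ModuleCat.of R R) (Y := O) (n := 0)
      rw [Ext.eq_zero_of_projective y, Ext.comp_zero]
    · intro z
      exact Ext.contravariant_sequence_exact₃ S2 O z (Ext.eq_zero_of_projective _) rfl
  have hδsurj : Function.Surjective δ := by
    refine hδ₂.2.comp (Function.Surjective.comp ?_ htoE.2)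
    intro z
    exact Ext.contravariant_sequence_exact₃ S1 O z (Ext.eq_zero_of_projective _) rfl
  let ψR : ((Fin n → R) →ₗ[R] R) →ₗ[R] ((Fin m → R) →ₗ[R] R) := LinearMap.lcomp R R A
  have hkerδ : LinearMap.ker δ = LinearMap.range ψR := by
    ext h
    rw [LinearMap.mem_ker, LinearMap.mem_range]
    show δ₂ (δ₁ (toE h)) = 0 ↔ _
    rw [map_eq_zero_iff δ₂ hδ₂.1, htoE']
    constructor
    · intro h1
      change S1.extClass.comp (Ext.mk₀ (ModuleCat.ofHom h)) (show 1 + 0 = 1 from rfl) = 0 at h1
      obtain ⟨y, hy⟩ := Ext.contravariant_sequence_exact₁ (n₀ := 0) S1 O (Ext.mk₀ (ModuleCat.ofHom h)) (show 1 + 0 = 1 from rfl) h1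
      obtain ⟨φ, rfl⟩ := (Ext.mk₀_bijective _ _).2 y
      rw [Ext.mk₀_comp_mk₀] at hy
      exact ⟨φ.hom, congrArg ModuleCat.Hom.hom ((Ext.mk₀_bijective _ _).1 hy)⟩
    · rintro ⟨φ, rfl⟩
      show S1.extClass.comp (Ext.mk₀ (ModuleCat.ofHom A ≫ ModuleCat.ofHom φ)) (show 1 + 0 = 1 from rfl) = 0
      rw [← Ext.mk₀_comp_mk₀, ShortComplex.ShortExact.extClass_comp_assoc]
  -- reduce modulo J
  let N := R ⧸ J
  let ψ : ((Fin n → R) →ₗ[R] N) →ₗ[R] ((Fin m → R) →ₗ[R] N) := LinearMap.lcomp R N A
  let p : ((Fin m → R) →ₗ[R] R) →ₗ[R] ((Fin m → R) →ₗ[R] N) ⧸ LinearMap.range ψ :=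
    (LinearMap.range ψ).mkQ.comp (J.mkQ.compRight R (M := Fin m → R))
  have hp : Function.Surjective p := by
    refine (Submodule.mkQ_surjective _).comp fun h => ?_
    obtain ⟨h', hh⟩ := Module.projective_lifting_property J.mkQ h J.mkQ_surjective
    exact ⟨h', hh⟩
  have hkerp : LinearMap.ker p = J • ⊤ ⊔ LinearMap.range ψR := by
    refine le_antisymm (fun h hh => ?_) (sup_le (Submodule.smul_le.2 fun r hr h _ => ?_) ?_)
    · have h0 := (Submodule.Quotient.mk_eq_zero _).1 (LinearMap.mem_ker.1 hh)
      obtain ⟨φ, hφ⟩ := h0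
      obtain ⟨φ', rfl⟩ := Module.projective_lifting_property J.mkQ φ J.mkQ_surjective
      rw [← sub_add_cancel h (ψR φ')]
      refine Submodule.add_mem_sup ?_ ⟨φ', rfl⟩
      set e := h - ψR φ'
      have he : ∀ i, e (Pi.single i 1) ∈ J := fun i => by
        have := LinearMap.congr_fun hφ (Pi.single i 1)
        exact (Submodule.Quotient.eq _).1 this.symm
      have hsum : e = ∑ i, e (Pi.single i 1) • (LinearMap.proj i : (Fin m → R) →ₗ[R] R) := by
        refine LinearMap.pi_ext' fun i => LinearMap.ext_ring ?_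
        simp [LinearMap.sum_apply, Pi.single_apply]
      rw [hsum]
      exact Submodule.sum_mem _ fun i _ => Submodule.smul_mem_smul (he i) trivial
    · rw [LinearMap.mem_ker, map_smul]
      show r • p h = 0
      obtain ⟨z, hz⟩ := Submodule.Quotient.mk_surjective _ (p h)
      rw [← hz, ← Submodule.Quotient.mk_smul, Submodule.Quotient.mk_eq_zero,
        show r • z = 0 from LinearMap.ext fun x => by
          obtain ⟨w, hw⟩ := Submodule.Quotient.mk_surjective J (z x)
          rw [LinearMap.smul_apply, ← hw, ← Submodule.Quotient.mk_smul]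
          exact (Submodule.Quotient.mk_eq_zero J).2 (J.mul_mem_right w hr)]
      exact zero_mem _
    · rintro _ ⟨φ, rfl⟩
      exact (Submodule.Quotient.mk_eq_zero _).2 ⟨J.mkQ.comp φ, rfl⟩
  let D := Ext.{u} (ModuleCat.of R (R ⧸ I)) O 2
  let π : ((Fin m → R) →ₗ[R] R) →ₗ[R] D ⧸ (J • ⊤ : Submodule R D) := (Submodule.mkQ _).comp δ
  have hπ : Function.Surjective π := (Submodule.mkQ_surjective _).comp hδsurj
  have hkerπ : LinearMap.ker π = J • ⊤ ⊔ LinearMap.range ψR := by
    rw [LinearMap.ker_comp, Submodule.ker_mkQ, ← hkerδ]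
    refine le_antisymm (fun h hh => ?_) (sup_le (Submodule.smul_le.2 fun r hr h _ => ?_) ?_)
    · have hmap : Submodule.map δ (J • ⊤) = J • ⊤ := by
        rw [Submodule.map_smul'', Submodule.map_top, LinearMap.range_eq_top.2 hδsurj]
      have h1 : δ h ∈ Submodule.map δ (J • ⊤) := hmap.symm ▸ hh
      obtain ⟨w, hw, hwh⟩ := h1
      rw [← sub_add_cancel h w, sup_comm]
      exact Submodule.add_mem_sup (by rw [LinearMap.mem_ker, map_sub, hwh, sub_self]) hw
    · rw [Submodule.mem_comap, map_smul]
      exact Submodule.smul_mem_smul hr trivial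
    · intro h hh
      rw [Submodule.mem_comap, LinearMap.mem_ker.1 hh]
      exact zero_mem _
  have hcoker : Module.length R (((Fin m → R) →ₗ[R] N) ⧸ LinearMap.range ψ) +
      Module.length R (R ⧸ I.colon J) = Module.length R (R ⧸ I) := by
    rw [← length_ext_quot_add I J hIfl hD]
    congr 1
    exact ((p.quotKerEquivOfSurjective hp).symm.trans ((Submodule.quotEquivOfEq _ _ (hkerp.trans hkerπ.symm)).trans
      (π.quotKerEquivOfSurjective hπ))).length_eq
  let ι : (I →ₗ[R] N) →ₗ[R] ((Fin n → R) →ₗ[R] N) := LinearMap.lcomp R N g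
  have hι : Function.Injective ι := fun x y h => LinearMap.ext fun z => by
    obtain ⟨w, rfl⟩ := hg z
    exact LinearMap.congr_fun h w
  have hex : Function.Exact ι ψ := by
    intro φ
    constructor
    · intro h
      have hle : LinearMap.ker g ≤ LinearMap.ker φ := fun x hx => by
        obtain ⟨y, rfl⟩ := (hAg x).1 hx
        exact LinearMap.congr_fun h y
      refine ⟨((LinearMap.ker g).liftQ φ hle).comp (g.quotKerEquivOfSurjective hg).symm.toLinearMap, LinearMap.ext fun x => ?_⟩
      show (LinearMap.ker g).liftQ φ hle ((g.quotKerEquivOfSurjective hg).symm (g x)) = φ x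
      rw [show (g.quotKerEquivOfSurjective hg).symm (g x) = Submodule.Quotient.mk x from
        (LinearEquiv.symm_apply_eq _).2 rfl, Submodule.liftQ_apply]
    · rintro ⟨w, rfl⟩
      refine LinearMap.ext fun y => ?_
      show w (g (A y)) = 0
      rw [hAg.apply_apply_eq_zero, map_zero]
  have hlenN : ∀ k : ℕ, Module.length R ((Fin k → R) →ₗ[R] N) = k * Module.length R N := fun k => by
    rw [((Pi.basisFun R (Fin k)).constr R : (Fin k → N) ≃ₗ[R] ((Fin k → R) →ₗ[R] N)).symm.length_eq,
      Module.length_pi, ENat.card_eq_coe_fintype_card, Fintype.card_fin]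
  have e1 : Module.length R ((Fin n → R) →ₗ[R] N) = Module.length R (I →ₗ[R] N) + Module.length R (LinearMap.range ψ) :=
    Module.length_eq_add_of_exact ι ψ.rangeRestrict hι ψ.surjective_rangeRestrict (by
      intro y; rw [← hex y]; exact Subtype.ext_iff)
  have e2 : Module.length R ((Fin m → R) →ₗ[R] N) = Module.length R (LinearMap.range ψ) +
      Module.length R (((Fin m → R) →ₗ[R] N) ⧸ LinearMap.range ψ) :=
    Module.length_eq_add_of_exact (LinearMap.range ψ).subtype (LinearMap.range ψ).mkQ (Submodule.injective_subtype _)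
      (Submodule.mkQ_surjective _) (LinearMap.exact_subtype_mkQ _)
  rw [hlenN, show (n : ℕ∞) = (m : ℕ∞) + 1 by rw [hn]; push_cast; rfl] at e1
  rw [hlenN] at e2
  rw [← hcoker, ← add_assoc]
  congr 1
  have hfin : Module.length R (LinearMap.range ψ) ≠ ⊤ := by
    intro h
    rw [h, top_add] at e2
    exact WithTop.mul_ne_top (ENat.natCast_ne_top m) hJ.ne e2
  refine (WithTop.add_right_inj hfin).1 ?_
  refine Eq.trans e1.symm ?_
  rw [add_mul, one_mul, e2]
  exact (add_assoc _ _ _).trans ((add_comm _ _).trans (congrArg (fun t : ℕ∞ => t + _) (add_comm _ _)))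

end Groth.Agent.S13444
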