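import Groth.Statements.S13445
import Groth.Agent.HilbPnLib.DegenCoord
import Groth.Agent.HilbPnLib.XPow

set_option autoImplicit false
universe u
open W4c1hilbpn

namespace Groth.Agent.S13445

open W4c1hilbpn in
/-- Let k be an infinite field, S = k[x,y,z] with irrelevant ideal m, and d, r natural numbers with d ≤
C(r+2, 3). For every ideal I of S of colength d, three times the dimension of Hom_S(I, S/I) is at
most four times the dimension of Hom_S(m^r, S/m^r). -/
theorem result (k : Type u) [Field k] [Infinite k] (d r : ℕ)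
    (hdr : d ≤ Nat.choose (r + 2) 3) (I : Ideal (MvPolynomial (Fin 3) k)) [Module.Finite k (MvPolynomial (Fin 3) k ⧸ I)]
    (hd : Module.finrank k (MvPolynomial (Fin 3) k ⧸ I) = d) :
    3 * Module.finrank k (Tgt I) ≤ 4 * Module.finrank k (Tgt ((Ideal.span (Set.range (MvPolynomial.X : Fin 3 → MvPolynomial (Fin 3) k))) ^ r)) := by
  haveI := ‹Module.Finite k (MvPolynomial (Fin 3) k ⧸ I)›
  obtain ⟨e, he⟩ := Groth.Agent.HilbPnLib.DegenCoord.exists_coords I r (hd ▸ hdr)
  obtain ⟨hfin, hJd, hle⟩ := Groth.Agent.HilbPnLib.DegenCoord.tgt_le_map I e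
  haveI := hfin
  haveI := Groth.Agent.HilbPnLib.Degen.finite_init MonomialOrder.degLex
    (I.map (e : MvPolynomial (Fin 3) k →+* MvPolynomial (Fin 3) k))
  have h0 := hle.trans (Groth.Agent.HilbPnLib.Degen.finrank_tgt_le_init MonomialOrder.degLex
    (I.map (e : MvPolynomial (Fin 3) k →+* MvPolynomial (Fin 3) k)))
  have he' : e3 r 0 0 ∈ exps (Groth.Agent.HilbPnLib.Degen.init MonomialOrder.degLex
      (I.map (e : MvPolynomial (Fin 3) k →+* MvPolynomial (Fin 3) k))) := by
    rw [Groth.Agent.HilbPnLib.Degen.exps_init]; exact he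
  have h1 := h0.trans (Groth.Agent.HilbPnLib.XPow.finrank_tgt_le Groth.Agent.HilbPnLib.Degen.isMonomial_init
    he')
  rw [Groth.Agent.HilbPnLib.Degen.finrank_init, hJd, hd] at h1
  refine (Nat.mul_le_mul_left 3 h1).trans ?_
  refine le_of_le_of_eq ?_ (congrArg (4 * ·) (Groth.Agent.HilbPnLib.tgt_mPow k r 0).2.2.symm)
  have h2 : ∀ n : ℕ, 2 * (n + 1).choose 2 = (n + 1) * n := fun n => by
    induction n with
    | zero => rfl
    | succ n ih => rw [Nat.choose_succ_succ (n + 1) 1, Nat.choose_one_right]; nlinarith [ih]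
  have h3 : ∀ n : ℕ, 6 * (n + 2).choose 3 = (n + 2) * (n + 1) * n := fun n => by
    induction n with
    | zero => rfl
    | succ n ih => rw [Nat.choose_succ_succ (n + 2) 2]; nlinarith [ih, h2 (n + 1)]
  have e4 : 4 * ((r + 2).choose 2 * (r + 1).choose 2) = (r + 2) * (r + 1) * ((r + 1) * r) := by
    rw [← h2 r, ← h2 (r + 1)]; ring
  have hstep : (2 * r + 1) * d ≤ (2 * r + 1) * (r + 2).choose 3 := Nat.mul_le_mul_left _ hdr
  have h5 : (2 * r + 1) * ((r + 2) * (r + 1) * r) ≤ (2 * (r + 1)) * ((r + 2) * (r + 1) * r) :=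
    Nat.mul_le_mul_right _ (by omega)
  nlinarith [h3 r, e4, hstep, h5]

end Groth.Agent.S13445
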