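import Groth.Statements.S13446
import Groth.Agent.HilbPnLib.XPow

set_option autoImplicit false
universe u
open W4c1hilbpn

namespace Groth.Agent.S13446

open W4c1hilbpn in
/-- Let k be an infinite field, S = k[x,y,z] with irrelevant ideal m, and d, r, p natural numbers with d
≤ C(r+2, 3) and 4p ≤ 3r + 1. For every monomial ideal I of S of colength d containing x^p, the
dimension of Hom_S(I, S/I) is at most that of Hom_S(m^r, S/m^r). -/
theorem result (k : Type u) [Field k] [Infinite k] (d r p : ℕ)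
    (hdr : d ≤ Nat.choose (r + 2) 3) (hp : 4 * p ≤ 3 * r + 1) (I : Ideal (MvPolynomial (Fin 3) k)) (hI : IsMonomial I)
    [Module.Finite k (MvPolynomial (Fin 3) k ⧸ I)] (hd : Module.finrank k (MvPolynomial (Fin 3) k ⧸ I) = d)
    (hx : (MvPolynomial.X 0 : MvPolynomial (Fin 3) k) ^ p ∈ I) :
    Module.finrank k (Tgt I) ≤ Module.finrank k (Tgt ((Ideal.span (Set.range (MvPolynomial.X : Fin 3 → MvPolynomial (Fin 3) k))) ^ r)) := by
  have hp' : e3 p 0 0 ∈ exps I := by
    show MvPolynomial.monomial (e3 p 0 0) (1 : k) ∈ I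
    rw [show e3 p 0 0 = Finsupp.single (0 : Fin 3) p by
      ext l; fin_cases l <;> simp [Groth.Agent.HilbPnLib.e3_apply], ← MvPolynomial.X_pow_eq_monomial]
    exact hx
  have h1 := Groth.Agent.HilbPnLib.XPow.finrank_tgt_le hI hp'
  rw [hd] at h1
  refine le_trans h1 ?_
  refine le_of_le_of_eq ?_ (Groth.Agent.HilbPnLib.tgt_mPow k r 0).2.2.symm
  have h2 : ∀ n : ℕ, 2 * (n + 1).choose 2 = (n + 1) * n := fun n => by
    induction n with
    | zero => rfl
    | succ n ih => rw [Nat.choose_succ_succ (n + 1) 1, Nat.choose_one_right]; nlinarith [ih]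
  have h3 : ∀ n : ℕ, 6 * (n + 2).choose 3 = (n + 2) * (n + 1) * n := fun n => by
    induction n with
    | zero => rfl
    | succ n ih => rw [Nat.choose_succ_succ (n + 2) 2]; nlinarith [ih, h2 (n + 1)]
  have e : 12 * ((r + 2).choose 2 * (r + 1).choose 2) = 3 * ((r + 2) * (r + 1) * ((r + 1) * r)) := by
    rw [← h2 r, ← h2 (r + 1)]; ring
  have hstep : (2 * p + 1) * d ≤ (2 * p + 1) * (r + 2).choose 3 := Nat.mul_le_mul_left _ hdr
  have h5 : (2 * (2 * p + 1)) * ((r + 2) * (r + 1) * r) ≤ (3 * (r + 1)) * ((r + 2) * (r + 1) * r) :=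
    Nat.mul_le_mul_right _ (by omega)
  nlinarith [h3 r, e, hstep, h5]

end Groth.Agent.S13446
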