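import Groth.Statements.S13449
import Groth.Agent.HilbPnLib.Borel
-- import your own Groth.Agent.* helpers here

set_option autoImplicit false
universe u
open W4c1hilbpn

namespace Groth.Agent.S13449

open W4c1hilbpn in
/-- Let k be a field and S = k[x_0, ..., x_n] with its standard grading; for an ideal I write Hom_S(I,
S/I)_0 for the degree-0 homomorphisms (for a monomial ideal: the span of the multigraded pieces
whose multidegree has entry sum 0). Let n ≥ 3 and I = x_0·(x_0, ..., x_{n-1}) + x_1·(x_1, ...,
x_{n-1}) (the case q = 1, r = 0 of the two-block family). Then Hom_S(I, S/I)_0 has dimension 6n - 4.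
(The published statement gives this as the dimension of the tangent space to the Hilbert scheme at
the point I; the row records the dimension count.) -/
theorem result (k : Type u) [Field k] (n : ℕ) (hn : 3 ≤ n) :
    Module.finrank k ↥(⨆ α : {α : Fin (n + 1) → ℤ // ∑ i, α i = 0}, tPiece (Ideal.span ({f : MvPolynomial (Fin (n + 1)) k | ∃ i : Fin (n + 1), i.val + 1 ≤ n ∧ f = MvPolynomial.X 0 * MvPolynomial.X i} ∪ {f : MvPolynomial (Fin (n + 1)) k | ∃ i : Fin (n + 1), 1 ≤ i.val ∧ i.val ≤ n - 1 ∧ f = MvPolynomial.X 1 * MvPolynomial.X i})) α.1) = 6 * n - 4 := by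
  have H : Groth.Agent.HilbPnLib.Borel.Hyp n 1 0 :=
    ⟨hn, fun h => by omega, le_rfl, by omega, fun h => by omega, fun _ => rfl, fun h => by omega⟩
  have e := Groth.Agent.HilbPnLib.Borel.gens_eq (k := k) H
  simp only [show n - 0 - 1 = n - 1 by omega, pow_one] at e
  rw [e, Groth.Agent.HilbPnLib.Borel.finrank_borel (k := k) H, if_pos rfl, if_pos rfl]
  have hc : Nat.choose (n + 1 - 1) (n - 1) = n := by
    rw [show n + 1 - 1 = n by omega]
    exact (Nat.choose_symm_of_eq_add (by omega : n = (n - 1) + 1)).trans (Nat.choose_one_right n)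
  rw [hc]
  omega

end Groth.Agent.S13449
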