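import Groth.Statements.S13450
import Groth.Agent.HilbPnLib.BorelPow
-- import your own Groth.Agent.* helpers here

set_option autoImplicit false
universe u
open W4c1hilbpn

namespace Groth.Agent.S13450

open W4c1hilbpn in
/-- Let k be a field and S = k[x_0, ..., x_n] with its standard grading; for an ideal I write Hom_S(I,
S/I)_0 for the degree-0 homomorphisms (for a monomial ideal: the span of the multigraded pieces
whose multidegree has entry sum 0). Let n and q satisfy n = 3 and q ≥ 4, or n ≥ 4 and q ≥ 2, and let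
I = x_0·(x_0, ..., x_{n-1}) + (x_1^q). Then Hom_S(I, S/I)_0 has dimension 2n - 1 + C(n+q-1, n-1).
(The published statement gives this as the dimension of the tangent space to the Hilbert scheme at
the point I; the row records the dimension count.) -/
theorem result (k : Type u) [Field k] (n q : ℕ)
    (hcase : (n = 3 ∧ 4 ≤ q) ∨ (4 ≤ n ∧ 2 ≤ q)) :
    Module.finrank k ↥(⨆ α : {α : Fin (n + 1) → ℤ // ∑ i, α i = 0},
      tPiece (Ideal.span ({f : MvPolynomial (Fin (n + 1)) k | ∃ i : Fin (n + 1), i.val + 1 ≤ n ∧ f = MvPolynomial.X 0 * MvPolynomial.X i} ∪ {MvPolynomial.X 1 ^ q})) α.1) =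
      2 * n - 1 + Nat.choose (n + q - 1) (n - 1) := by
  have h10 : (1 : Fin (n + 1)).val = 1 := by rw [Fin.val_one', Nat.mod_eq_of_lt]; omega
  have hset : ({f : MvPolynomial (Fin (n + 1)) k | ∃ i : Fin (n + 1), i.val + 1 ≤ n ∧ f = MvPolynomial.X 0 * MvPolynomial.X i} ∪
      {MvPolynomial.X 1 ^ q}) = (fun b => MvPolynomial.monomial b (1 : k)) '' Groth.Agent.HilbPnLib.powGens n q := by
    rw [Groth.Agent.HilbPnLib.powGens, Set.image_union, Set.image_singleton]
    congr 1
    · ext f
      constructor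
      · rintro ⟨i, hi, rfl⟩
        exact ⟨_, ⟨i, hi, rfl⟩, by simp [Groth.Agent.HilbPnLib.genA, MvPolynomial.X, MvPolynomial.monomial_mul]⟩
      · rintro ⟨b, ⟨i, hi, rfl⟩, rfl⟩
        exact ⟨i, hi, by simp [Groth.Agent.HilbPnLib.genA, MvPolynomial.X, MvPolynomial.monomial_mul]⟩
    · rw [Groth.Agent.HilbPnLib.genC, MvPolynomial.X_pow_eq_monomial]
  rw [hset]
  exact Groth.Agent.HilbPnLib.finrank_pow (k := k) (by omega) (by omega) (by omega)

end Groth.Agent.S13450
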