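import Groth.Statements.S13451
import Groth.Agent.HilbPnLib.TwoPlanes
-- import your own Groth.Agent.* helpers here

set_option autoImplicit false
universe u
open W4c1hilbpn

namespace Groth.Agent.S13451

open W4c1hilbpn in
/-- Let k be an algebraically closed field of characteristic different from 2, S = k[x_0, ..., x_n] with
its standard grading, 2 ≤ c ≤ d with n ≥ c + d, and I = (x_0, ..., x_{c-1})·(x_{n-d+1}, ..., x_n),
the ideal of the union of two coordinate linear spaces of codimensions c and d meeting transversely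
and not spanning the ambient space. Then the degree-0 homomorphisms Hom_S(I, S/I)_0 form a space of
dimension c(n-c+1) + d(n-d+1). (The published statement gives this number as the dimension of the
tangent space to the Hilbert scheme at the pair of planes, for every n; the row records the count of
degree-0 homomorphisms in the non-spanning range n ≥ c + d, where that tangent space is Hom_S(I,
S/I)_0.) -/
theorem result (k : Type u) [Field k] [IsAlgClosed k] (hchar : ringChar k ≠ 2)
    (n c d : ℕ) (hc : 2 ≤ c) (hcd : c ≤ d) (hn : c + d ≤ n) :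
    Module.finrank k ↥(⨆ α : {α : Fin (n + 1) → ℤ // ∑ i, α i = 0},
      tPiece (Ideal.span {f : MvPolynomial (Fin (n + 1)) k | ∃ i j : Fin (n + 1), i.val + 1 ≤ c ∧ n + 1 ≤ j.val + d ∧
        f = MvPolynomial.X i * MvPolynomial.X j}) α.1) = c * (n - c + 1) + d * (n - d + 1) := by
  classical
  let P : Fin (n + 1) → Prop := fun i => i.val + 1 ≤ c
  let Q : Fin (n + 1) → Prop := fun j => n + 1 ≤ j.val + d
  have hset : {f : MvPolynomial (Fin (n + 1)) k | ∃ i j : Fin (n + 1), i.val + 1 ≤ c ∧ n + 1 ≤ j.val + d ∧
      f = MvPolynomial.X i * MvPolynomial.X j} =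
      (fun b => MvPolynomial.monomial b (1 : k)) '' Groth.Agent.HilbPnLib.prodExps P Q := by
    ext f
    constructor
    · rintro ⟨i, j, hi, hj, rfl⟩
      exact ⟨_, ⟨i, j, hi, hj, rfl⟩, by simp [MvPolynomial.X, MvPolynomial.monomial_mul]⟩
    · rintro ⟨b, ⟨i, j, hi, hj, rfl⟩, rfl⟩
      exact ⟨i, j, hi, hj, by simp [MvPolynomial.X, MvPolynomial.monomial_mul]⟩
  rw [hset, Groth.Agent.HilbPnLib.finrank_planes (k := k) (X := P) (Y := Q)
    (fun i hi => by simp only [P, Q] at hi ⊢; omega)
    (fun a => by
      by_cases h : a.val = 0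
      · exact ⟨⟨1, by omega⟩, by simp only [P]; omega, fun e => by rw [← e] at h; simp at h⟩
      · exact ⟨⟨0, by omega⟩, by simp only [P]; omega, fun e => by rw [← e] at h; simp at h⟩)
    (fun a => by
      by_cases h : a.val = n
      · exact ⟨⟨n - 1, by omega⟩, by simp only [Q]; omega, fun e => by rw [← e] at h; simp at h; omega⟩
      · exact ⟨⟨n, by omega⟩, by simp only [Q]; omega, fun e => by rw [← e] at h; simp at h⟩)]
  have h1 : Nat.card {u // P u} = c := by
    rw [Nat.card_congr (Equiv.ofBijective (fun u : {u // P u} => (⟨u.1.val, u.2⟩ : Fin c))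
      ⟨fun a b h => Subtype.ext (Fin.ext (congrArg Fin.val h :)),
       fun b => ⟨⟨⟨b.val, by omega⟩, by simp only [P]; omega⟩, rfl⟩⟩), Nat.card_fin]
  have h2 : Nat.card {u // Q u} = d := by
    rw [Nat.card_congr (Equiv.ofBijective (fun u : {u // Q u} => (⟨n - u.1.val, by have := u.2; have := u.1.isLt; simp only [Q] at *; omega⟩ : Fin d))
      ⟨fun a b h => Subtype.ext (Fin.ext (by have := congrArg Fin.val h; have := a.1.isLt; have := b.1.isLt; simp only at *; omega)),
       fun b => ⟨⟨⟨n - b.val, by omega⟩, by simp only [Q]; omega⟩, Fin.ext (by simp; omega)⟩⟩), Nat.card_fin]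
  have h3 : ∀ R : Fin (n + 1) → Prop, Nat.card {u // R u} + Nat.card {u // ¬ R u} = n + 1 := fun R => by
    rw [← Nat.card_sum, Nat.card_congr (Equiv.sumCompl R), Nat.card_fin]
  have := h3 P; have := h3 Q
  rw [h1, h2, show Nat.card {v // ¬ P v} = n - c + 1 by omega, show Nat.card {v // ¬ Q v} = n - d + 1 by omega]

end Groth.Agent.S13451
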