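import Groth.Statements.S13455
import Mathlib.RingTheory.MvPolynomial.Ideal
-- import your own Groth.Agent.* helpers here

set_option autoImplicit false
universe u
open W4c1hilbpn

namespace Groth.Agent.S13455

/-- Let k be an algebraically closed field of characteristic different from 2, k0 ≥ 1 and n ≥ 2k0 - 1
natural numbers, S = k[x_0, ..., x_n], and e1 ≤ e2 ≤ k0 - 1. The ideal generated by all products x_p
x_q with e1 ≤ p, q ≤ e2 together with the products x_p x_{n-k0+1+q} for e1 ≤ p < q ≤ e2 is the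
intersection, over j from e1 to e2, of the ideals generated by the variables x_i with e1 ≤ i ≤ e2
and i ≠ j, the square x_j^2, and the variables x_{n-k0+1+q} for j < q ≤ e2 (a primary decomposition
of this monomial ideal). -/
theorem result (k : Type u) [Field k] [IsAlgClosed k] (hchar : ringChar k ≠ 2)
    (n k0 e1 e2 : ℕ) (hk : 1 ≤ k0) (hn : 2 * k0 ≤ n + 1) (he : e1 ≤ e2) (he2 : e2 + 1 ≤ k0) :
    Ideal.span ({f : MvPolynomial (Fin (n + 1)) k | ∃ p q : Fin (n + 1), e1 ≤ p.val ∧ p.val ≤ e2 ∧ e1 ≤ q.val ∧ q.val ≤ e2 ∧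
        f = MvPolynomial.X p * MvPolynomial.X q} ∪
      {f : MvPolynomial (Fin (n + 1)) k | ∃ p q m : Fin (n + 1), e1 ≤ p.val ∧ p.val < q.val ∧ q.val ≤ e2 ∧
        m.val + k0 = n + 1 + q.val ∧ f = MvPolynomial.X p * MvPolynomial.X m}) =
    ⨅ j : Fin (n + 1), ⨅ (_ : e1 ≤ j.val ∧ j.val ≤ e2),
      Ideal.span ({f : MvPolynomial (Fin (n + 1)) k | ∃ i : Fin (n + 1), e1 ≤ i.val ∧ i.val ≤ e2 ∧ i ≠ j ∧ f = MvPolynomial.X i} ∪
        {MvPolynomial.X j ^ 2} ∪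
        {f : MvPolynomial (Fin (n + 1)) k | ∃ q m : Fin (n + 1), j.val < q.val ∧ q.val ≤ e2 ∧ m.val + k0 = n + 1 + q.val ∧
          f = MvPolynomial.X m}) := by
  classical
  let A : Set (Fin (n + 1) →₀ ℕ) := {d | ∃ p q : Fin (n + 1), e1 ≤ p.val ∧ p.val ≤ e2 ∧ e1 ≤ q.val ∧ q.val ≤ e2 ∧
      d = Finsupp.single p 1 + Finsupp.single q 1} ∪
    {d | ∃ p q m : Fin (n + 1), e1 ≤ p.val ∧ p.val < q.val ∧ q.val ≤ e2 ∧ m.val + k0 = n + 1 + q.val ∧
      d = Finsupp.single p 1 + Finsupp.single m 1}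
  let B : Fin (n + 1) → Set (Fin (n + 1) →₀ ℕ) := fun j =>
    {d | ∃ i : Fin (n + 1), e1 ≤ i.val ∧ i.val ≤ e2 ∧ i ≠ j ∧ d = Finsupp.single i 1} ∪ {Finsupp.single j 2} ∪
    {d | ∃ q m : Fin (n + 1), j.val < q.val ∧ q.val ≤ e2 ∧ m.val + k0 = n + 1 + q.val ∧ d = Finsupp.single m 1}
  have hXX : ∀ p q : Fin (n + 1), (MvPolynomial.X p * MvPolynomial.X q : MvPolynomial (Fin (n + 1)) k) =
      MvPolynomial.monomial (Finsupp.single p 1 + Finsupp.single q 1) 1 := fun p q => by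
    simp [MvPolynomial.X, MvPolynomial.monomial_mul]
  have hL : ({f : MvPolynomial (Fin (n + 1)) k | ∃ p q : Fin (n + 1), e1 ≤ p.val ∧ p.val ≤ e2 ∧ e1 ≤ q.val ∧ q.val ≤ e2 ∧
        f = MvPolynomial.X p * MvPolynomial.X q} ∪
      {f : MvPolynomial (Fin (n + 1)) k | ∃ p q m : Fin (n + 1), e1 ≤ p.val ∧ p.val < q.val ∧ q.val ≤ e2 ∧
        m.val + k0 = n + 1 + q.val ∧ f = MvPolynomial.X p * MvPolynomial.X m}) =
      (fun d => MvPolynomial.monomial d (1 : k)) '' A := by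
    ext f
    constructor
    · rintro (⟨p, q, h1, h2, h3, h4, rfl⟩ | ⟨p, q, m, h1, h2, h3, h4, rfl⟩)
      · exact ⟨_, Or.inl ⟨p, q, h1, h2, h3, h4, rfl⟩, (hXX p q).symm⟩
      · exact ⟨_, Or.inr ⟨p, q, m, h1, h2, h3, h4, rfl⟩, (hXX p m).symm⟩
    · rintro ⟨d, (⟨p, q, h1, h2, h3, h4, rfl⟩ | ⟨p, q, m, h1, h2, h3, h4, rfl⟩), rfl⟩
      · exact Or.inl ⟨p, q, h1, h2, h3, h4, (hXX p q).symm⟩
      · exact Or.inr ⟨p, q, m, h1, h2, h3, h4, (hXX p m).symm⟩
  have hR : ∀ j : Fin (n + 1),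
      ({f : MvPolynomial (Fin (n + 1)) k | ∃ i : Fin (n + 1), e1 ≤ i.val ∧ i.val ≤ e2 ∧ i ≠ j ∧ f = MvPolynomial.X i} ∪
        {MvPolynomial.X j ^ 2} ∪
        {f : MvPolynomial (Fin (n + 1)) k | ∃ q m : Fin (n + 1), j.val < q.val ∧ q.val ≤ e2 ∧ m.val + k0 = n + 1 + q.val ∧
          f = MvPolynomial.X m}) = (fun d => MvPolynomial.monomial d (1 : k)) '' B j := by
    intro j
    ext f
    constructor
    · rintro ((⟨i, h1, h2, h3, rfl⟩ | rfl) | ⟨q, m, h1, h2, h3, rfl⟩)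
      · exact ⟨_, Or.inl (Or.inl ⟨i, h1, h2, h3, rfl⟩), rfl⟩
      · exact ⟨_, Or.inl (Or.inr rfl), (MvPolynomial.X_pow_eq_monomial).symm⟩
      · exact ⟨_, Or.inr ⟨q, m, h1, h2, h3, rfl⟩, rfl⟩
    · rintro ⟨d, ((⟨i, h1, h2, h3, rfl⟩ | hd) | ⟨q, m, h1, h2, h3, rfl⟩), rfl⟩
      · exact Or.inl (Or.inl ⟨i, h1, h2, h3, rfl⟩)
      · rw [Set.mem_singleton_iff] at hd
        subst hd
        exact Or.inl (Or.inr (MvPolynomial.X_pow_eq_monomial).symm)
      · exact Or.inr ⟨q, m, h1, h2, h3, rfl⟩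
  have key : ∀ δ : Fin (n + 1) →₀ ℕ, (∃ a ∈ A, a ≤ δ) ↔
      ∀ j : Fin (n + 1), e1 ≤ j.val ∧ j.val ≤ e2 → ∃ b ∈ B j, b ≤ δ := by
    intro δ
    constructor
    · rintro ⟨a, (⟨p, q, h1, h2, h3, h4, rfl⟩ | ⟨p, q, m, h1, h2, h3, h4, rfl⟩), hle⟩ j hj
      · by_cases hp : p = j
        · by_cases hq : q = j
          · refine ⟨_, Or.inl (Or.inr rfl), le_trans (le_of_eq ?_) hle⟩
            rw [hp, hq, ← Finsupp.single_add]
          · exact ⟨_, Or.inl (Or.inl ⟨q, h3, h4, hq, rfl⟩), le_trans le_add_self hle⟩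
        · exact ⟨_, Or.inl (Or.inl ⟨p, h1, h2, hp, rfl⟩), le_trans le_self_add hle⟩
      · by_cases hp : p = j
        · exact ⟨_, Or.inr ⟨q, m, hp ▸ h2, h3, h4, rfl⟩, le_trans le_add_self hle⟩
        · exact ⟨_, Or.inl (Or.inl ⟨p, h1, by omega, hp, rfl⟩), le_trans le_self_add hle⟩
    · intro H
      by_cases hex : ∃ p : Fin (n + 1), e1 ≤ p.val ∧ p.val ≤ e2 ∧ 1 ≤ δ p
      · obtain ⟨p, h1, h2, h3⟩ := hex
        obtain ⟨b, ((⟨i, g1, g2, g3, rfl⟩ | hb) | ⟨q, m, g1, g2, g3, rfl⟩), hle⟩ := H p ⟨h1, h2⟩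
        · refine ⟨_, Or.inl ⟨p, i, h1, h2, g1, g2, rfl⟩, fun l => ?_⟩
          have := Finsupp.single_le_iff.mp hle
          simp only [Finsupp.coe_add, Pi.add_apply, Finsupp.single_apply]
          split_ifs with ha hb <;> subst_vars
          · exact absurd rfl g3
          all_goals omega
        · rw [Set.mem_singleton_iff] at hb
          subst hb
          refine ⟨_, Or.inl ⟨p, p, h1, h2, h1, h2, rfl⟩, ?_⟩
          rw [← Finsupp.single_add]
          exact hle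
        · refine ⟨_, Or.inr ⟨p, q, m, h1, g1, g2, g3, rfl⟩, fun l => ?_⟩
          have := Finsupp.single_le_iff.mp hle
          simp only [Finsupp.coe_add, Pi.add_apply, Finsupp.single_apply]
          split_ifs with ha hb <;> subst_vars
          all_goals omega
      · exfalso
        simp only [not_exists, not_and, not_le] at hex
        obtain ⟨b, ((⟨i, g1, g2, g3, rfl⟩ | hb) | ⟨q, m, g1, g2, g3, rfl⟩), hle⟩ :=
          H ⟨e2, by omega⟩ ⟨he, le_rfl⟩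
        · have := Finsupp.single_le_iff.mp hle
          have := hex i g1 g2
          omega
        · rw [Set.mem_singleton_iff] at hb
          subst hb
          have := Finsupp.single_le_iff.mp hle
          have := hex ⟨e2, by omega⟩ he le_rfl
          omega
        · simp only at g1
          omega
  rw [hL]
  ext f
  simp only [Submodule.mem_iInf, hR, MvPolynomial.mem_ideal_span_monomial_image]
  exact ⟨fun h j hj δ hδ => (key δ).mp (h δ hδ) j hj, fun h δ hδ => (key δ).mpr fun j hj => h j hj δ hδ⟩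

end Groth.Agent.S13455
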