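import Groth.Statements.S6894
import Groth.Agent.FittLib.Rank
-- import your own Groth.Agent.* helpers here

set_option autoImplicit false
set_option linter.style.haveILetI false
universe u
open TensorProduct
open Fitt

namespace Groth.Agent.S6894

open LocalizedModule in
theorem localized_generators_iff {R : Type u} [CommRing R] {M : Type u} [AddCommGroup M] [Module R M]
    (S : Submonoid R) {k : ℕ} :
    (∃ g : Fin k → LocalizedModule S M, Submodule.span (Localization S) (Set.range g) = ⊤) ↔
      ∃ m : Fin k → M, ∀ x, ∃ s : S, (s : R) • x ∈ Submodule.span R (Set.range m) := by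
  constructor
  · rintro ⟨g, hg⟩
    choose ms hms using fun i => IsLocalizedModule.mk'_surjective S (mkLinearMap S M) (g i)
    refine ⟨fun i => (ms i).1, fun x => ?_⟩
    let N := Submodule.span R (Set.range fun i => (ms i).1)
    have key : ∀ y : LocalizedModule S M, ∃ n ∈ N, ∃ s : S, y = mk n s := by
      intro y
      have hy : y ∈ Submodule.span (Localization S) (Set.range g) := hg ▸ Submodule.mem_top
      induction hy using Submodule.span_induction with
      | mem z hz =>
        obtain ⟨i, rfl⟩ := hz
        exact ⟨(ms i).1, Submodule.subset_span ⟨i, rfl⟩, (ms i).2, by rw [← hms i]; exact (IsLocalizedModule.mk_eq_mk' (ms i).2 (ms i).1).symm⟩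
      | zero => exact ⟨0, zero_mem _, 1, (zero_mk 1).symm⟩
      | add a b _ _ ha hb =>
        obtain ⟨n, hn, s, rfl⟩ := ha
        obtain ⟨n', hn', s', rfl⟩ := hb
        exact ⟨_, add_mem (N.smul_mem _ hn) (N.smul_mem _ hn'), _, mk_add_mk⟩
      | smul c a _ ha =>
        obtain ⟨n, hn, s, rfl⟩ := ha
        induction c using Localization.induction_on with
        | H p => exact ⟨_, N.smul_mem p.1 hn, p.2 * s, mk_smul_mk _ _ _ _⟩
    obtain ⟨n, hn, s, hx⟩ := key (mk x 1)
    obtain ⟨c, hc⟩ := mk_eq.1 hx
    refine ⟨c * s, ?_⟩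
    simp only [one_smul, Submonoid.smul_def] at hc
    rw [Submonoid.coe_mul, mul_smul, hc]
    exact N.smul_mem _ hn
  · rintro ⟨m, hm⟩
    refine ⟨fun i => mk (m i) 1, eq_top_iff.2 fun y _ => ?_⟩
    induction y using LocalizedModule.induction_on with
    | _ x s =>
      obtain ⟨t, ht⟩ := hm x
      obtain ⟨a, ha⟩ := (Submodule.mem_span_range_iff_exists_fun R).1 ht
      have e : mk x s = ∑ i, Localization.mk (a i) (t * s) • mk (m i) 1 := by
        simp only [mk_smul_mk, mul_one]
        rw [← mk_cancel_common_left t s x, show t • x = ∑ i, a i • m i from ha.symm]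
        exact Groth.Agent.FittLib.mk_sum _ _ _
      rw [e]
      exact Submodule.sum_mem _ fun i _ => Submodule.smul_mem _ _ (Submodule.subset_span ⟨i, rfl⟩)

/-- Let `M` be a finite `R`-module, `k ≥ 0` and `𝔭 ⊆ R` a prime. Then each of the following conditions
implies all the others: the Fitting ideal `Fit_k(M)` is not contained in `𝔭`; the fiber `M ⊗_R κ(𝔭)`
has dimension at most `k` over `κ(𝔭)`; some `k` elements span the localization `M_𝔭` over `R_𝔭`; and
for some `f ∉ 𝔭`, the module `M_f` is spanned over `R_f` by `k` elements. -/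
theorem result {R : Type u} [CommRing R] (M : Type u) [AddCommGroup M] [Module R M]
    [Module.Finite R M] (k : ℕ) (p : Ideal R) [p.IsPrime] :
    (¬ Fitt.ideal R M k ≤ p ↔ Module.finrank p.ResidueField (p.ResidueField ⊗[R] M) ≤ k) ∧
    (¬ Fitt.ideal R M k ≤ p ↔
      ∃ g : Fin k → LocalizedModule p.primeCompl M, Submodule.span (Localization.AtPrime p) (Set.range g) = ⊤) ∧
    (¬ Fitt.ideal R M k ≤ p ↔ ∃ f : R, f ∉ p ∧
      ∃ g : Fin k → LocalizedModule (Submonoid.powers f) M,
        Submodule.span (Localization.Away f) (Set.range g) = ⊤) := by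
  refine ⟨Groth.Agent.FittLib.not_le_iff_finrank_le p k, ?_, ?_⟩
  · rw [Groth.Agent.FittLib.not_le_iff_exists_smul_mem, localized_generators_iff]
    refine ⟨fun ⟨f, hf, m, hm⟩ => ⟨m, fun x => ⟨⟨f, hf⟩, hm x⟩⟩, fun ⟨m, hm⟩ => ?_⟩
    obtain ⟨T, hT⟩ := Module.Finite.fg_top (R := R) (M := M)
    choose s hs using hm
    refine ⟨∏ x ∈ T, (s x : R), fun h => ?_, m, fun x => ?_⟩
    · obtain ⟨y, -, hy⟩ := (Ideal.IsPrime.prod_mem_iff (p := p)).1 h
      exact (s y).2 hy
    · have hx : x ∈ Submodule.span R (T : Set M) := hT ▸ Submodule.mem_top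
      induction hx using Submodule.span_induction with
      | mem y hy =>
        classical
        rw [← Finset.prod_erase_mul T _ hy, mul_smul]
        exact Submodule.smul_mem _ _ (hs y)
      | zero => rw [smul_zero]; exact zero_mem _
      | add a b _ _ ha hb => rw [smul_add]; exact add_mem ha hb
      | smul c a _ ha => rw [smul_comm]; exact Submodule.smul_mem _ _ ha
  · rw [Groth.Agent.FittLib.not_le_iff_exists_smul_mem]
    constructor
    · rintro ⟨f, hf, m, hm⟩
      exact ⟨f, hf, (localized_generators_iff _).2 ⟨m, fun x => ⟨⟨f, Submonoid.mem_powers f⟩, hm x⟩⟩⟩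
    · rintro ⟨f, hf, g⟩
      obtain ⟨m, hm⟩ := (localized_generators_iff _).1 g
      obtain ⟨T, hT⟩ := Module.Finite.fg_top (R := R) (M := M)
      choose s hs using hm
      refine ⟨∏ x ∈ T, (s x : R), fun h => ?_, m, fun x => ?_⟩
      · obtain ⟨y, -, hy⟩ := (Ideal.IsPrime.prod_mem_iff (p := p)).1 h
        obtain ⟨n, hn⟩ := (s y).2
        exact hf (‹p.IsPrime›.mem_of_pow_mem n (show f ^ n ∈ p by rw [show f ^ n = _ from hn]; exact hy))
      · have hx : x ∈ Submodule.span R (T : Set M) := hT ▸ Submodule.mem_top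
        induction hx using Submodule.span_induction with
        | mem y hy =>
          classical
          rw [← Finset.prod_erase_mul T _ hy, mul_smul]
          exact Submodule.smul_mem _ _ (hs y)
        | zero => rw [smul_zero]; exact zero_mem _
        | add a b _ _ ha hb => rw [smul_add]; exact add_mem ha hb
        | smul c a _ ha => rw [smul_comm]; exact Submodule.smul_mem _ _ ha

end Groth.Agent.S6894
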