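import Groth.Statements.S6895
import Groth.Agent.FittLib.Rank
import Groth.Agent.S6894
-- import your own Groth.Agent.* helpers here

set_option autoImplicit false
set_option linter.style.haveILetI false
universe u
open Fitt

namespace Groth.Agent.S6895

/-- (1) ⇔ (3): let `M` be a finite `R`-module and `r ≥ 0`. Then `M` is finite locally free of rank `r`
(every prime has a basic open neighbourhood `D(f)` with `M_f` free of rank `r` over `R_f`) if and
only if `Fit_k(M) = 0` for `k < r` and `Fit_k(M) = R` for `k ≥ r`. -/
theorem result {R : Type u} [CommRing R] (M : Type u) [AddCommGroup M] [Module R M]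
    [Module.Finite R M] (r : ℕ) :
    (∀ (p : Ideal R) [p.IsPrime], ∃ f : R, f ∉ p ∧
      Module.Free (Localization.Away f) (LocalizedModule (Submonoid.powers f) M) ∧
        Module.finrank (Localization.Away f) (LocalizedModule (Submonoid.powers f) M) = r) ↔
    ((∀ k, k < r → Fitt.ideal R M k = ⊥) ∧ (∀ k, r ≤ k → Fitt.ideal R M k = ⊤)) := by
  constructor
  · intro h
    have key : ∀ (p : Ideal R) [p.IsPrime], ∃ f, f ∉ p ∧
        (∀ k, k < r → (Fitt.ideal R M k).map (algebraMap R (Localization.Away f)) = ⊥) ∧
        (∀ k, r ≤ k → (Fitt.ideal R M k).map (algebraMap R (Localization.Away f)) = ⊤) := by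
      intro p _
      obtain ⟨f, hf, hfree, hr⟩ := h p
      haveI := hfree
      haveI : Nontrivial (Localization.Away f) := by
        by_contra hn
        rw [not_nontrivial_iff_subsingleton] at hn
        obtain ⟨c, hc⟩ := (IsLocalization.map_eq_zero_iff (Submonoid.powers f) (Localization.Away f) 1).1
          (Subsingleton.elim _ _)
        obtain ⟨n, hn⟩ := c.2
        rw [mul_one] at hc
        exact hf (‹p.IsPrime›.mem_of_pow_mem n (show f ^ n ∈ p by rw [show f ^ n = _ from hn, hc]; exact zero_mem _))
      let b := (Module.finBasis (Localization.Away f) (LocalizedModule (Submonoid.powers f) M)).reindex (finCongr hr)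
      exact ⟨f, hf, fun k hk => (Groth.Agent.FittLib.ideal_localizedModule _ k).symm.trans
          (Groth.Agent.FittLib.ideal_eq_bot_of_basis b hk),
        fun k hk => (Groth.Agent.FittLib.ideal_localizedModule _ k).symm.trans
          (Groth.Agent.FittLib.ideal_eq_top b b.span_eq hk)⟩
    refine ⟨fun k hk => eq_bot_iff.2 fun a ha => ?_, fun k hk => ?_⟩
    · have hann : Ideal.span {b | b * a = 0} = ⊤ := by
        by_contra hne
        obtain ⟨p, hp, hle⟩ := Ideal.exists_le_maximal _ hne
        obtain ⟨f, hf, hbot, -⟩ := key p
        have h0 : algebraMap R (Localization.Away f) a = 0 :=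
          (Submodule.mem_bot _).1 ((hbot k hk).le (Ideal.mem_map_of_mem _ ha))
        obtain ⟨c, hc⟩ := (IsLocalization.map_eq_zero_iff (Submonoid.powers f) (Localization.Away f) a).1 h0
        obtain ⟨n, hn⟩ := c.2
        exact hf (hp.isPrime.mem_of_pow_mem n (show f ^ n ∈ p by rw [show f ^ n = _ from hn]; exact hle (Ideal.subset_span hc)))
      have h1 : (1 : R) ∈ Ideal.span {b | b * a = 0} := hann ▸ Submodule.mem_top
      have h2 : ∀ b ∈ Ideal.span {b : R | b * a = 0}, b * a = 0 := fun b hb => by
        induction hb using Submodule.span_induction with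
        | mem y hy => exact hy
        | zero => exact zero_mul a
        | add y z _ _ hy hz => rw [add_mul, hy, hz, add_zero]
        | smul c y _ hy => rw [smul_eq_mul, mul_assoc, hy, mul_zero]
      simpa using h2 1 h1
    · by_contra hne
      obtain ⟨p, hp, hle⟩ := Ideal.exists_le_maximal _ hne
      obtain ⟨f, hf, -, htop⟩ := key p
      have hdisj : Disjoint (Submonoid.powers f : Set R) p :=
        (Ideal.disjoint_powers_iff_notMem_of_isPrime f).2 hf
      refine (IsLocalization.isPrime_of_isPrime_disjoint (Submonoid.powers f) (Localization.Away f) p hp.isPrime hdisj).ne_top ?_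
      exact top_le_iff.1 ((htop k hk).ge.trans (Ideal.map_mono hle))
  · rintro ⟨hbot, htop⟩ p _
    have hp : ¬ Fitt.ideal R M r ≤ p := by
      rw [htop r le_rfl, top_le_iff]
      exact Ideal.IsPrime.ne_top inferInstance
    obtain ⟨f, hf, m, hm⟩ := (Groth.Agent.FittLib.not_le_iff_exists_smul_mem p r).1 hp
    let g : Fin r → LocalizedModule (Submonoid.powers f) M := fun i => LocalizedModule.mk (m i) 1
    have hg : Submodule.span (Localization.Away f) (Set.range g) = ⊤ := by
      refine eq_top_iff.2 fun y _ => ?_
      induction y using LocalizedModule.induction_on with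
      | _ x s =>
        obtain ⟨a, ha⟩ := (Submodule.mem_span_range_iff_exists_fun R).1 (hm x)
        let t : Submonoid.powers f := ⟨f, Submonoid.mem_powers f⟩
        have e : LocalizedModule.mk x s = ∑ i, Localization.mk (a i) (t * s) • g i := by
          simp only [g, LocalizedModule.mk_smul_mk, mul_one]
          rw [← LocalizedModule.mk_cancel_common_left t s x, show t • x = ∑ i, a i • m i from ha.symm]
          exact Groth.Agent.FittLib.mk_sum _ _ _
        rw [e]
        exact Submodule.sum_mem _ fun i _ => Submodule.smul_mem _ _ (Submodule.subset_span ⟨i, rfl⟩)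
    haveI : Module.Finite (Localization.Away f) (LocalizedModule (Submonoid.powers f) M) :=
      Module.Finite.of_isLocalizedModule (Submonoid.powers f) (LocalizedModule.mkLinearMap _ M)
    have hli := Groth.Agent.FittLib.linearIndependent_of_ideal_eq_bot hg fun k hk => by
      rw [Groth.Agent.FittLib.ideal_localizedModule, hbot k hk, Ideal.map_bot]
    let b := Module.Basis.mk hli hg.ge
    refine ⟨f, hf, Module.Free.of_basis b, ?_⟩
    haveI : Nontrivial (Localization.Away f) := by
      by_contra hn
      rw [not_nontrivial_iff_subsingleton] at hn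
      obtain ⟨c, hc⟩ := (IsLocalization.map_eq_zero_iff (Submonoid.powers f) (Localization.Away f) 1).1
        (Subsingleton.elim _ _)
      obtain ⟨n, hn⟩ := c.2
      rw [mul_one] at hc
      exact hf (‹p.IsPrime›.mem_of_pow_mem n (show f ^ n ∈ p by rw [show f ^ n = _ from hn, hc]; exact zero_mem _))
    rw [Module.finrank_eq_card_basis b, Fintype.card_fin]

end Groth.Agent.S6895
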