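import Groth.Statements.S13456
import Groth.Agent.S6895
import Groth.Agent.FlatOpen.GenFree

set_option autoImplicit false
universe u
open W4c1hilbpn

namespace Groth.Agent.S13456

open Groth.Agent

open TensorProduct

/-- A finite projective module of rank `r` everywhere, in terms of Fitting ideals. -/
theorem projective_rank_iff (B : Type u) [CommRing B] (N : Type u) [AddCommGroup N] [Module B N]
    [Module.Finite B N] (r : ℕ) :
    (Module.Projective B N ∧ ∀ p : PrimeSpectrum B, Module.rankAtStalk N p = r) ↔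
      ((∀ k, k < r → Fitt.ideal B N k = ⊥) ∧ Fitt.ideal B N r = ⊤) := by
  constructor
  · rintro ⟨hproj, hr⟩
    haveI := hproj
    haveI : Module.FinitePresentation B N := Module.finitePresentation_of_projective B N
    have h := (Groth.Agent.S6895.result N r).1 (fun (p : Ideal B) (hp : p.IsPrime) => by
      haveI : Module.Free (Localization.AtPrime p) (LocalizedModule p.primeCompl N) :=
        Module.free_of_flat_of_isLocalRing (R := Localization.AtPrime p) (P := LocalizedModule p.primeCompl N)
      obtain ⟨g, hg, hfree, hrank⟩ := Module.FinitePresentation.exists_free_localizedModule_powers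
        p.primeCompl (LocalizedModule.mkLinearMap p.primeCompl N) (Localization.AtPrime p)
      exact ⟨g, hg, hfree, hrank.trans (hr ⟨p, hp⟩)⟩)
    exact ⟨h.1, h.2 r le_rfl⟩
  · rintro ⟨hbot, htop⟩
    have h := (Groth.Agent.S6895.result N r).2 ⟨hbot, fun k hk => top_le_iff.1 (htop ▸ FittLib.ideal_mono hk)⟩
    choose g hg hfree hrk using fun p : PrimeSpectrum B => h p.asIdeal
    have hspan : Ideal.span (Set.range g) = ⊤ := by
      by_contra hne
      obtain ⟨m, hm, hle⟩ := Ideal.exists_le_maximal _ hne
      exact hg ⟨m, hm.isPrime⟩ (hle (Ideal.subset_span ⟨⟨m, hm.isPrime⟩, rfl⟩))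
    haveI : ∀ t : Set.range g, Module.Free (Localization.Away t.1) (LocalizedModule.Away t.1 N) := by
      rintro ⟨_, p, rfl⟩
      exact hfree p
    haveI hfin : ∀ t : Set.range g, Module.Finite (Localization.Away t.1) (LocalizedModule.Away t.1 N) := fun t =>
      Module.Finite.of_isLocalizedModule (Submonoid.powers t.1) (LocalizedModule.mkLinearMap _ N)
    haveI : Module.FinitePresentation B N := Module.FinitePresentation.of_localizationSpan (Set.range g) hspan
      fun t => Module.finitePresentation_of_projective _ _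
    haveI : Module.Flat B N := Module.flat_of_localized_span B N (Set.range g) hspan
      fun t => Module.Flat.trans B (Localization.Away t.1) (LocalizedModule.Away t.1 N)
    have hproj : Module.Projective B N := Module.freeLocus_eq_univ_iff.1 Module.freeLocus_eq_univ
    refine ⟨hproj, fun p => ?_⟩
    rw [Module.rankAtStalk_eq]
    refine le_antisymm ((FittLib.not_le_iff_finrank_le p.asIdeal r).1 ?_) ?_
    · rw [htop, top_le_iff]
      exact p.2.ne_top
    · by_contra hlt
      refine (FittLib.not_le_iff_finrank_le p.asIdeal (r - 1)).2 (by exact Nat.le_sub_one_of_lt (not_le.1 hlt)) ?_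
      rw [hbot (r - 1) (Nat.sub_lt (Nat.lt_of_le_of_lt (Nat.zero_le _) (not_le.1 hlt)) Nat.one_pos)]
      exact bot_le

variable {A : Type u} [CommRing A] {R : Type u} [CommRing R] [Algebra A R] {M : Type u} [AddCommGroup M]
  [Module A M] [Module R M] [IsScalarTower A R M]

/-- Generic freeness of `M` over the closure of a prime. -/
theorem exists_free_baseChange [IsNoetherianRing A] [Algebra.FiniteType A R] [Module.Finite R M] (q : Ideal A) [q.IsPrime] :
    ∃ g : A ⧸ q, g ≠ 0 ∧ Module.Free (Localization.Away g) (Localization.Away g ⊗[A] M) := by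
  let I : Ideal R := q.map (algebraMap A R)
  let M' := M ⧸ (I • ⊤ : Submodule R M)
  letI : Module (A ⧸ q) M' := Module.compHom M' (algebraMap (A ⧸ q) (R ⧸ I))
  haveI : IsScalarTower (A ⧸ q) (R ⧸ I) M' := IsScalarTower.of_algebraMap_smul fun _ _ => rfl
  haveI : IsScalarTower A (A ⧸ q) M' := IsScalarTower.of_algebraMap_smul fun a m => by
    obtain ⟨m, rfl⟩ := Submodule.Quotient.mk_surjective _ m
    show Submodule.Quotient.mk (algebraMap A R a • m) = Submodule.Quotient.mk (a • m)
    rw [algebraMap_smul]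
  haveI : Algebra.FiniteType (A ⧸ q) (R ⧸ I) := by
    haveI : IsScalarTower A (A ⧸ q) (R ⧸ I) := IsScalarTower.of_algebraMap_eq fun a => rfl
    haveI : Algebra.FiniteType A (R ⧸ I) :=
      Algebra.FiniteType.of_surjective (Ideal.Quotient.mkₐ A I) Ideal.Quotient.mk_surjective
    exact Algebra.FiniteType.of_restrictScalars_finiteType A (A ⧸ q) (R ⧸ I)
  haveI : Module.Finite R M' := Module.Finite.of_surjective (Submodule.mkQ _) (Submodule.mkQ_surjective _)
  haveI : Module.Finite (R ⧸ I) M' := Module.Finite.of_restrictScalars_finite R (R ⧸ I) M'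
  obtain ⟨g, hg, hfree⟩ := FlatOpen.isGenFree_of_finiteType (A ⧸ q) (R ⧸ I) M'
  let φ : M →ₗ[A] M' := (Submodule.mkQ (I • ⊤ : Submodule R M)).restrictScalars A
  let F : (A ⧸ q) ⊗[A] M →ₗ[A ⧸ q] M' := φ.liftBaseChange (A ⧸ q)
  let o : M →ₗ[A] (A ⧸ q) ⊗[A] M := TensorProduct.mk A (A ⧸ q) M 1
  have ho : ∀ z ∈ (I • ⊤ : Submodule R M), o z = 0 := by
    intro z hz
    refine Submodule.smul_induction_on hz (fun r hr m _ => ?_) (fun x y hx hy => by rw [map_add, hx, hy, add_zero])
    revert m
    refine Submodule.span_induction ?_ ?_ ?_ ?_ hr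
    · rintro _ ⟨a, ha, rfl⟩ m -
      rw [algebraMap_smul, map_smul]
      show a • ((1 : A ⧸ q) ⊗ₜ[A] m) = 0
      rw [TensorProduct.smul_tmul', show a • (1 : A ⧸ q) = 0 by
        rw [Algebra.smul_def, mul_one]; exact Ideal.Quotient.eq_zero_iff_mem.2 ha, TensorProduct.zero_tmul]
    · intro m _; rw [zero_smul, map_zero]
    · intro x y _ _ hx hy m _; rw [add_smul, map_add, hx m trivial, hy m trivial, add_zero]
    · intro c x _ hx m _; rw [smul_eq_mul, mul_comm, mul_smul]; exact hx _ trivial
  have hFbij : Function.Bijective F := by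
    refine ⟨fun x y hxy => ?_, fun z => ?_⟩
    · have hs : ∀ x : (A ⧸ q) ⊗[A] M, ∃ m, o m = x := fun x => by
        induction x using TensorProduct.induction_on with
        | zero => exact ⟨0, map_zero o⟩
        | tmul a m =>
          obtain ⟨a, rfl⟩ := Ideal.Quotient.mk_surjective a
          refine ⟨a • m, ?_⟩
          show (1 : A ⧸ q) ⊗ₜ[A] (a • m) = _
          rw [← TensorProduct.smul_tmul, Algebra.smul_def, mul_one]
          rfl
        | add x y hx hy =>
          obtain ⟨m, rfl⟩ := hx
          obtain ⟨m', rfl⟩ := hy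
          exact ⟨m + m', map_add o m m'⟩
      obtain ⟨m, rfl⟩ := hs x
      obtain ⟨m', rfl⟩ := hs y
      rw [← sub_eq_zero, ← map_sub]
      refine ho _ ?_
      rw [← Submodule.Quotient.eq]
      simpa [F, o, φ] using hxy
    · obtain ⟨m, rfl⟩ := Submodule.Quotient.mk_surjective _ z
      exact ⟨o m, by simp [F, o, φ]⟩
  haveI := hfree
  exact ⟨g, hg, Module.Free.of_equiv ((TensorProduct.AlgebraTensorModule.congr (LinearEquiv.refl (Localization.Away g)
    (Localization.Away g)) (LinearEquiv.ofBijective F hFbij).symm).trans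
    (TensorProduct.AlgebraTensorModule.cancelBaseChange A (A ⧸ q) (Localization.Away g) (Localization.Away g) M))⟩

/-- The pattern of the Fitting ideals of the graded pieces at a prime. -/
def pattern (ℳ : ℤ → Submodule A M) (p : PrimeSpectrum A) : ℤ → ℕ → Prop :=
  fun v k => ¬ Fitt.ideal A (ℳ v) k ≤ p.asIdeal

/-- Generic constancy of the pattern. -/
theorem exists_pattern_const [IsNoetherianRing A] [Algebra.FiniteType A R] [Module.Finite R M]
    (ℳ : ℤ → Submodule A M) [DirectSum.Decomposition ℳ] (hfg : ∀ v, Module.Finite A (ℳ v))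
    (q : PrimeSpectrum A) :
    ∃ f : A, f ∉ q.asIdeal ∧ ∀ p : PrimeSpectrum A, q.asIdeal ≤ p.asIdeal → f ∉ p.asIdeal → pattern ℳ p = pattern ℳ q := by
  obtain ⟨g, hg, hfree⟩ := exists_free_baseChange (R := R) (M := M) q.asIdeal
  obtain ⟨f, rfl⟩ := Ideal.Quotient.mk_surjective g
  refine ⟨f, fun hf => hg (Ideal.Quotient.eq_zero_iff_mem.2 hf), fun p hqp hfp => ?_⟩
  set g := Ideal.Quotient.mk q.asIdeal f
  set L := Localization.Away g
  haveI : IsDomain L := IsLocalization.isDomain_localization
    (powers_le_nonZeroDivisors_of_noZeroDivisors hg)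
  haveI := hfree
  funext v k
  haveI := hfg v
  let π : M →ₗ[A] ℳ v := (DirectSum.component A ℤ (fun i => ℳ i) v).comp (DirectSum.decomposeLinearEquiv ℳ).toLinearMap
  have hπ : π.comp (ℳ v).subtype = LinearMap.id := LinearMap.ext fun x => by
    show (DirectSum.decompose ℳ (x : M)) v = x
    rw [DirectSum.decompose_coe, DirectSum.of_eq_same]
  haveI : Module.Projective L (L ⊗[A] ℳ v) := Module.Projective.of_split ((ℳ v).subtype.baseChange L) (π.baseChange L) (by
    rw [← LinearMap.baseChange_comp, hπ, LinearMap.baseChange_id])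
  have key : ∀ (p : PrimeSpectrum A), q.asIdeal ≤ p.asIdeal → f ∉ p.asIdeal →
      ((¬ Fitt.ideal A (ℳ v) k ≤ p.asIdeal) ↔ Module.rankAtStalk (L ⊗[A] ℳ v) (⟨⊥, Ideal.isPrime_bot⟩ : PrimeSpectrum L) ≤ k) := by
    intro p hqp hfp
    haveI : (p.asIdeal.map (Ideal.Quotient.mk q.asIdeal)).IsPrime :=
      Ideal.map_isPrime_of_surjective Ideal.Quotient.mk_surjective (by rwa [Ideal.mk_ker])
    have hc : (p.asIdeal.map (Ideal.Quotient.mk q.asIdeal)).comap (Ideal.Quotient.mk q.asIdeal) = p.asIdeal := by
      rw [Ideal.comap_map_of_surjective _ Ideal.Quotient.mk_surjective, ← RingHom.ker_eq_comap_bot, Ideal.mk_ker,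
        sup_eq_left.2 hqp]
    have hdisj : Disjoint (Submonoid.powers g : Set (A ⧸ q.asIdeal)) (p.asIdeal.map (Ideal.Quotient.mk q.asIdeal)) :=
      (Ideal.disjoint_powers_iff_notMem_of_isPrime g).2 fun h => hfp (hc ▸ h)
    let P : PrimeSpectrum L := ⟨_, IsLocalization.isPrime_of_isPrime_disjoint (Submonoid.powers g) L _ inferInstance hdisj⟩
    have hP : P.asIdeal.comap (algebraMap A L) = p.asIdeal := by
      rw [IsScalarTower.algebraMap_eq A (A ⧸ q.asIdeal) L, ← Ideal.comap_comap]
      show Ideal.comap _ ((Ideal.map (algebraMap (A ⧸ q.asIdeal) L) _).comap _) = _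
      exact (congrArg (Ideal.comap _) (IsLocalization.comap_map_of_isPrime_disjoint (Submonoid.powers g) L inferInstance hdisj)).trans hc
    rw [Module.rankAtStalk_eq_of_le_of_finite_of_flat (L ⊗[A] ℳ v) (show (⟨⊥, Ideal.isPrime_bot⟩ : PrimeSpectrum L) ≤ P from bot_le (a := P.asIdeal)),
      Module.rankAtStalk_eq, ← hP]
    haveI : P.asIdeal.IsPrime := P.2
    show _ ↔ Module.finrank P.asIdeal.ResidueField (P.asIdeal.ResidueField ⊗[L] (L ⊗[A] ℳ v)) ≤ k
    rw [← FittLib.not_le_iff_finrank_le P.asIdeal k, FittLib.ideal_baseChange, Ideal.map_le_iff_le_comap]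
  exact propext ((key p hqp hfp).trans (key q le_rfl fun hf => hg (Ideal.Quotient.eq_zero_iff_mem.2 hf)).symm)

/-- There are finitely many patterns. -/
theorem finite_pattern [IsNoetherianRing A] [Algebra.FiniteType A R] [Module.Finite R M]
    (ℳ : ℤ → Submodule A M) [DirectSum.Decomposition ℳ] (hfg : ∀ v, Module.Finite A (ℳ v)) :
    (Set.range (pattern ℳ)).Finite := by
  have main : ∀ J : Ideal A, (pattern ℳ '' {p : PrimeSpectrum A | J ≤ p.asIdeal}).Finite := by
    intro J
    induction J using WellFoundedGT.induction with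
    | ind J IH =>
      by_cases hJ : J.IsPrime
      · obtain ⟨f, hf, hc⟩ := exists_pattern_const (R := R) ℳ hfg ⟨J, hJ⟩
        refine ((IH (J ⊔ Ideal.span {f}) (lt_of_le_of_ne le_sup_left fun he => hf ?_)).union
          (Set.finite_singleton (pattern ℳ ⟨J, hJ⟩))).subset ?_
        · show f ∈ J
          rw [he]
          exact Ideal.mem_sup_right (Ideal.mem_span_singleton_self f)
        · rintro _ ⟨p, hp, rfl⟩
          by_cases hfp : f ∈ p.asIdeal
          · exact Or.inl ⟨p, sup_le hp ((Ideal.span_singleton_le_iff_mem _).2 hfp), rfl⟩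
          · exact Or.inr (hc p hp hfp)
      · by_cases htop : J = ⊤
        · refine Set.Finite.subset Set.finite_empty ?_
          rintro _ ⟨p, hp, rfl⟩
          exact p.2.ne_top (top_le_iff.1 (htop ▸ hp))
        · obtain ⟨x, y, hxy, hx, hy⟩ : ∃ x y, x * y ∈ J ∧ x ∉ J ∧ y ∉ J := by
            by_contra hne
            push Not at hne
            exact hJ ⟨htop, fun {x y} h => or_iff_not_imp_left.2 (hne x y h)⟩
          refine ((IH (J ⊔ Ideal.span {x}) (lt_of_le_of_ne le_sup_left fun he => hx ?_)).union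
            (IH (J ⊔ Ideal.span {y}) (lt_of_le_of_ne le_sup_left fun he => hy ?_))).subset ?_
          · rw [he]
            exact Ideal.mem_sup_right (Ideal.mem_span_singleton_self x)
          · rw [he]
            exact Ideal.mem_sup_right (Ideal.mem_span_singleton_self y)
          · rintro _ ⟨p, hp, rfl⟩
            rcases p.2.mem_or_mem (hp hxy) with h | h
            · exact Or.inl ⟨p, sup_le hp ((Ideal.span_singleton_le_iff_mem _).2 h), rfl⟩
            · exact Or.inr ⟨p, sup_le hp ((Ideal.span_singleton_le_iff_mem _).2 h), rfl⟩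
  refine (main ⊥).subset ?_
  rintro _ ⟨p, rfl⟩
  exact ⟨p, show ⊥ ≤ p.asIdeal from bot_le, rfl⟩


open TensorProduct in
/-- Let A be a Noetherian ring, R a finitely generated graded A-algebra (graded by the integers), M a
finitely generated graded R-module and h a function from the integers to the natural numbers. Then
the functor sending an A-algebra B to the condition 'every graded piece of M ⊗_A B is a finitely
generated locally free B-module of rank h(v)' is represented by a locally closed subscheme of Spec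
A: there are ideals a and b of A such that, for every A-algebra B, all B ⊗_A M_v are finitely
generated projective of constant rank h(v) if and only if a generates the zero ideal of B and b
generates the unit ideal of B. (The graded pieces M_v are assumed finitely generated over A, as they
are when R is positively graded with degree-zero part finite over A; the published setup allows any
finitely generated graded algebra, where graded pieces need not be finitely generated over A. Test
algebras B range over one universe.) -/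
theorem result
    (A : Type u) [CommRing A] [IsNoetherianRing A]
    (R : Type u) [CommRing R] [Algebra A R] [Algebra.FiniteType A R]
    (𝒜 : ℤ → Submodule A R) [GradedAlgebra 𝒜]
    (M : Type u) [AddCommGroup M] [Module A M] [Module R M] [IsScalarTower A R M] [Module.Finite R M]
    (ℳ : ℤ → Submodule A M) [DirectSum.Decomposition ℳ] [SetLike.GradedSMul 𝒜 ℳ]
    (hfg : ∀ v : ℤ, Module.Finite A ↥(ℳ v)) (h : ℤ → ℕ) :
    ∃ a b : Ideal A, ∀ (B : Type u) [CommRing B] [Algebra A B],
      ((∀ v : ℤ, Module.Finite B (B ⊗[A] ↥(ℳ v)) ∧ Module.Projective B (B ⊗[A] ↥(ℳ v)) ∧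
          ∀ p : PrimeSpectrum B, Module.rankAtStalk (B ⊗[A] ↥(ℳ v)) p = h v) ↔
        (Ideal.map (algebraMap A B) a = ⊥ ∧ Ideal.map (algebraMap A B) b = ⊤)) := by
  classical
  set C := (finite_pattern (R := R) ℳ hfg).toFinset
  let w : (ℤ → ℕ → Prop) → ℤ := fun c => if hc : ∃ v, ¬ c v (h v) then hc.choose else 0
  refine ⟨⨆ v : ℤ, ⨆ k : Fin (h v), Fitt.ideal A (ℳ v) k, ∏ v ∈ C.image w, Fitt.ideal A (ℳ v) (h v),
    fun B _ _ => ?_⟩
  have hiff : ∀ v : ℤ, (Module.Finite B (B ⊗[A] ↥(ℳ v)) ∧ Module.Projective B (B ⊗[A] ↥(ℳ v)) ∧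
      ∀ p : PrimeSpectrum B, Module.rankAtStalk (B ⊗[A] ↥(ℳ v)) p = h v) ↔
      ((∀ k, k < h v → (Fitt.ideal A (ℳ v) k).map (algebraMap A B) = ⊥) ∧
        (Fitt.ideal A (ℳ v) (h v)).map (algebraMap A B) = ⊤) := fun v => by
    haveI := hfg v
    rw [and_iff_right (inferInstance : Module.Finite B (B ⊗[A] ↥(ℳ v))), projective_rank_iff]
    simp only [FittLib.ideal_baseChange]
  have hmap : Ideal.map (algebraMap A B) (∏ v ∈ C.image w, Fitt.ideal A (ℳ v) (h v)) =
      ∏ v ∈ C.image w, Ideal.map (algebraMap A B) (Fitt.ideal A (ℳ v) (h v)) :=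
    map_prod (Ideal.mapHom (algebraMap A B)) _ _
  simp only [hiff, Ideal.map_iSup, iSup_eq_bot, hmap]
  constructor
  · intro H
    refine ⟨fun v k => (H v).1 k k.2, ?_⟩
    rw [← Ideal.one_eq_top]
    exact Finset.prod_eq_one fun v _ => (H v).2.trans Ideal.one_eq_top.symm
  · rintro ⟨hbot, htop⟩ v
    refine ⟨fun k hk => hbot v ⟨k, hk⟩, ?_⟩
    by_contra hne
    obtain ⟨P, hP, hle⟩ := Ideal.exists_le_maximal _ hne
    let p : PrimeSpectrum A := ⟨P.comap (algebraMap A B), Ideal.IsPrime.comap (hK := hP.isPrime) _⟩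
    have hex : ∃ v, ¬ pattern ℳ p v (h v) := ⟨v, not_not.2 (Ideal.map_le_iff_le_comap.1 hle)⟩
    have h1 : ¬ pattern ℳ p (w (pattern ℳ p)) (h (w (pattern ℳ p))) := by
      simp only [w, dif_pos hex]
      exact hex.choose_spec
    rw [pattern, not_not] at h1
    refine hP.ne_top (top_le_iff.1 (htop.ge.trans ?_))
    refine le_trans Ideal.prod_le_inf ((Finset.inf_le (Finset.mem_image_of_mem w (show pattern ℳ p ∈ C from ?_))).trans ?_)
    · exact (Set.Finite.mem_toFinset _).2 ⟨p, rfl⟩
    · exact Ideal.map_le_iff_le_comap.2 h1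

end Groth.Agent.S13456
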