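import Groth.Statements.S13459
import Groth.Agent.DualAbs.CurveDeg
-- import your own Groth.Agent.* helpers here

set_option autoImplicit false
universe u
open CategoryTheory CategoryTheory.Limits AlgebraicGeometry
open Surf

namespace Groth.Agent.S13459

/-- Let k be a field and S an integral surface (dimension two) which is smooth over k and projective (a
closed immersion into some P^n_k over k). Let i : C → S be the closed immersion of an integral curve
(dimension one) all of whose local rings are regular, with ideal sheaf I ⊆ O_S, and let L be an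
invertible O_S-module with an inverse L' (L ⊗ L' ≅ O_S). Then the intersection number of O_S(C) with
L, namely the alternating sum χ(O_S) − χ(I) − χ(L') + χ(I ⊗ L') formed with the inverses I = O_S(−C)
and L' (packaged as FGA.intNum), equals the degree of the restriction of L to C, the degree of a
module M on C being χ(M) − χ(O_C). -/
theorem result (k : Type u) [Field k] (S : Scheme.{u}) [S.Over (Spec (CommRingCat.of k))]
    [IsIntegral S] (hdim : topologicalKrullDim S = 2) [Smooth (S ↘ (Spec (CommRingCat.of k)))]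
    (hproj : ∃ (n : ℕ) (ι : S ⟶ CohB1.ProjSpace n k), IsClosedImmersion ι ∧ ι ≫ CohB1.ProjSpace.toSpec n k = (S ↘ (Spec (CommRingCat.of k))))
    (C : Scheme.{u}) (i : C ⟶ S) [IsClosedImmersion i] [IsIntegral C] (hC : topologicalKrullDim C = 1)
    (hCreg : ∀ c : C, IsRegularLocalRing (C.presheaf.stalk c))
    (L L' : S.Modules) (hL : PicF.IsInvertible L) (hLL' : Nonempty (CohB1.tensorMod L L' ≅ Coh.structureModule S)) :
    letI : C.Over (Spec (CommRingCat.of k)) := ⟨i ≫ (S ↘ (Spec (CommRingCat.of k)))⟩
    FGA.intNum k S 2 ![ClSub.idealMod i.ker, L'] (Coh.structureModule S) =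
      Curv2.deg k C ((Scheme.Modules.pullback i).obj L) 1 := by
  obtain ⟨n, ι, hι', hι⟩ := hproj
  haveI := hι'
  haveI := Groth.Agent.SurfRR.isProper_of_closedImmersion k ι hι
  letI : C.Over (Spec (CommRingCat.of k)) := ⟨i ≫ (S ↘ (Spec (CommRingCat.of k)))⟩
  have hd : topologicalKrullDim S = ((2 : ℕ) : WithBot ℕ∞) := by rw [hdim]; rfl
  have hreg : ∀ x : S, IsRegularLocalRing (S.presheaf.stalk x) := fun x =>
    CurveDVR.isRegularLocalRing_stalk (S ↘ Spec (CommRingCat.of k)) x
  have hI := SurfRR.isInvertible_curve k (i := i) hd hreg (by rw [hC]; rfl)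
  obtain ⟨e⟩ := hLL'
  have hL' : PicF.IsInvertible L' := by
    obtain ⟨M, hM, ⟨m⟩⟩ := PicLaw.exists_inverse hL
    exact PicCl.isInvertible_of_iso
      ((ProjTwist.oneTens M).symm ≪≫ ProjTwist.tensCongr (e.symm ≪≫ ProjTwist.tensComm L L') (Iso.refl M) ≪≫
        ProjTwist.tensAssoc L' L M ≪≫ ProjTwist.tensCongr (Iso.refl L') m ≪≫ ProjTwist.tensOne L') hM
  rw [SurfRR.pr_eq_intNum k hd.le hI hL', SurfRR.pr_comm, SurfRR.pr_inv k hd.le hL hL' hI e,
    SurfRR.pr_comm, DualAbs.CurveDeg.pr_ideal k i rfl hI hL, neg_neg]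

end Groth.Agent.S13459
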