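import Groth.Statements.S1346
import Groth.Agent.Wt.CMScheme
-- Template for statement S1346 (row 1346; see the milestone table for weights).
-- Copy to Groth/Agent/S1346.lean and replace the sorry. The statement below is byte-identical to the frozen
-- statement FlatMor.GrothFrozen.S1346 (Groth/Statements/S1346.lean; the theorem FlatMor.isCMAt_of_baseChange_of_flatAt);
-- the grader kernel-checks Groth.Agent.S1346.result against that frozen type. Keep the theorem IN THIS FILE
-- (a `result` declared elsewhere and merely imported here is not credited); helpers may live anywhere
-- under Groth/Agent/.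

set_option autoImplicit false
universe u
open FlatMor

namespace Groth.Agent.S1346

open AlgebraicGeometry CategoryTheory Limits in
/-- Let f have locally Noetherian fibres and let f' be its base change along a morphism locally of
finite type. Given a point x' with image x, flatness of f at x together with the Cohen–Macaulay
property of f' at x' implies that f is Cohen–Macaulay at x. -/
theorem result {X Y X' Y' : Scheme.{u}} (f : X ⟶ Y) (hN : ∀ y : Y, IsLocallyNoetherian (f.fiber y))
    (f' : X' ⟶ Y') (g' : X' ⟶ X) (g : Y' ⟶ Y) [LocallyOfFiniteType g] (hc : IsPullback g' f' f g) (x' : X')
    (hflat : (f.stalkMap (g' x')).hom.Flat) (h : MoreMor.IsCMAt f' x') : MoreMor.IsCMAt f (g' x') := by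
  exact (Wt.CMBase.isCMAt_baseChange_iff hc x' (hN _) (Or.inr inferInstance)).2 h hflat

end Groth.Agent.S1346
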