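import Groth.Statements.S13460
import Groth.Agent.WDivLib.Basic
import Mathlib.RingTheory.Ideal.KrullsHeightTheorem

set_option autoImplicit false
universe u
open CategoryTheory CategoryTheory.Limits AlgebraicGeometry TopologicalSpace
open WDiv

namespace Groth.Agent.S13460

/-- Let A be a Noetherian integral domain which is a unique factorization domain, and X = Spec A. Then
the divisor class group of X vanishes: every Weil divisor D on X, an integer-valued function on the
points of X with finite support inside the points of coheight 1 (codimension one), is the divisor of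
a nonzero rational function f on X, i.e. the order of vanishing of f at every point x of coheight 1
is D(x). (The published statement assumes only that A is a unique factorization domain; this row
also assumes A Noetherian.) -/
theorem result (A : Type u) [CommRing A] [IsDomain A] [IsNoetherianRing A]
    [UniqueFactorizationMonoid A]
    (D : ↥(Spec (CommRingCat.of A)) → ℤ) (hD : ∀ x, Order.coheight x ≠ 1 → D x = 0) (hfin : {x | D x ≠ 0}.Finite) :
    ∃ f : ↑(Spec (CommRingCat.of A)).functionField, f ≠ 0 ∧
      ∀ x : ↥(Spec (CommRingCat.of A)), Order.coheight x = 1 → Scheme.ord f x = D x := by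
  classical
  have hgen : ∀ x : ↥(Spec (CommRingCat.of A)), ∃ π : A, π ≠ 0 ∧
      (Order.coheight x = 1 → x.asIdeal = Ideal.span {π}) := by
    intro x
    by_cases hx : Order.coheight x = 1
    · haveI : x.asIdeal.IsPrime := PrimeSpectrum.isPrime x
      have hh : x.asIdeal.height = 1 := by rw [idealHeight_eq_coheight]; exact hx
      have hb : x.asIdeal ≠ ⊥ := fun hb => by
        rw [hb, Ideal.height_bot] at hh
        exact zero_ne_one hh
      obtain ⟨π, hπ, hprime⟩ := Ideal.IsPrime.exists_mem_prime_of_ne_bot ‹_› hb
      refine ⟨π, hprime.ne_zero, fun _ => ?_⟩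
      haveI hP : (Ideal.span {π}).IsPrime := (Ideal.span_singleton_prime hprime.ne_zero).2 hprime
      rcases ((Ideal.span_singleton_le_iff_mem _).2 hπ).lt_or_eq with hlt | heq
      · exfalso
        haveI := Ideal.isPrime_bot (α := A)
        have h1 := Ideal.height_strict_mono_of_isPrime hlt
        have h2 := Ideal.height_strict_mono_of_isPrime (I := (⊥ : Ideal A)) (J := Ideal.span {π})
          (bot_lt_iff_ne_bot.2 fun h => hprime.ne_zero (Ideal.span_singleton_eq_bot.1 h))
        rw [Ideal.height_bot] at h2
        rw [hh, Order.lt_one_iff] at h1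
        exact h2.ne' h1
      · exact heq.symm
    · exact ⟨1, one_ne_zero, fun h => absurd h hx⟩
  choose π hπ0 hπ using hgen
  have hr : ∀ x, WDivLib.rat A (π x) ≠ 0 := fun x =>
    (map_ne_zero_iff _ (WDivLib.rat_injective A)).2 (hπ0 x)
  refine ⟨∏ y ∈ hfin.toFinset, WDivLib.rat A (π y) ^ D y,
    Finset.prod_ne_zero_iff.2 fun y _ => zpow_ne_zero _ (hr y), fun x hx => ?_⟩
  rw [WDivLib.ord_prod _ _ (fun y _ => zpow_ne_zero _ (hr y)),
    Finset.sum_eq_single x]
  · rw [WDivLib.ord_zpow (hr x), ← WDivLib.algebraMap_loc A x (π x),
      WDivLib.ord_algebraMap_of_span_eq_maximalIdeal hx, mul_one]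
    · intro h0
      apply hr x
      rw [← WDivLib.algebraMap_loc A x (π x), h0, map_zero]
    · rw [WDivLib.maximalIdeal_eq_map, hπ x hx, Ideal.map_span, Set.image_singleton]
  · intro y hy hyx
    have hy1 : Order.coheight y = 1 := by_contra fun h => (hfin.mem_toFinset.1 hy) (hD y h)
    rw [WDivLib.ord_zpow (hr y), ← WDivLib.algebraMap_loc A x (π y),
      WDivLib.ord_algebraMap_of_isUnit, mul_zero]
    rw [WDivLib.isUnit_loc_iff]
    intro hmem
    refine WDivLib.coheight_one_notMem_closure hx hy1 hyx.symm ?_
    rw [← specializes_iff_mem_closure]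
    refine (PrimeSpectrum.le_iff_specializes y x).1 ?_
    change y.asIdeal ≤ x.asIdeal
    rw [hπ y hy1]
    exact (Ideal.span_singleton_le_iff_mem _).2 hmem
  · intro hnot
    have : D x = 0 := by simpa using hnot
    rw [this, zpow_zero, WDivLib.ord_one]

end Groth.Agent.S13460
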