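import Groth.Statements.S13461
import Groth.Agent.FFCurve.Nondegenerate
import Groth.Agent.FFCurve.OmegaBC
import Groth.Agent.VBLib.RRGeom
import Groth.Agent.AmpCrit.SerreVan
import Groth.Agent.GenusZeroPts92.Basic
import Groth.Agent.GrpScheme.HomFlat

set_option autoImplicit false
universe u
open CategoryTheory CategoryTheory.Limits AlgebraicGeometry TopologicalSpace
open Curves

set_option linter.style.haveILetI false
set_option linter.unusedSectionVars false
set_option backward.isDefEq.respectTransparency false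
set_option backward.isDefEq.respectTransparency.types false
set_option maxHeartbeats 1000000
namespace Groth.Agent.S13461

/-- Sections of `O(d)` killed by pullback, by counting dimensions. -/
theorem exists_pullSect_eq_zero (k : Type u) [Field k] {r d : ℕ} {X : Scheme.{u}} [X.Over (Spec (CommRingCat.of k))]
    (g : X ⟶ CohB1.ProjSpace r k) (hg : g ≫ CohB1.ProjSpace.toSpec r k = X ↘ Spec (CommRingCat.of k))
    [Module.Finite k (Coh.HH X ((Scheme.Modules.pullback g).obj (Twist.twistProjSpace r k (d : ℤ))) 0)]
    (h : Module.finrank k (Coh.HH X ((Scheme.Modules.pullback g).obj (Twist.twistProjSpace r k (d : ℤ))) 0) <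
      (r + d).choose r) :
    ∃ s : Γ(Twist.twistProjSpace r k (d : ℤ), (⊤ : (CohB1.ProjSpace r k).Opens)), s ≠ 0 ∧
      OmegaSh.pullSect g (Twist.twistProjSpace r k (d : ℤ)) ⊤ s = 0 := by
  letI : (CohB1.ProjSpace r k).Over (Spec (CommRingCat.of k)) := ⟨CohB1.ProjSpace.toSpec r k⟩
  set M := Twist.twistProjSpace r k (d : ℤ) with hM
  set L := (Scheme.Modules.pullback g).obj M with hL
  letI : Module k Γ(M, ⊤) := Module.compHom _ (KSMod.kTop k ((CohB1.ProjSpace r k) ↘ Spec (CommRingCat.of k)))
  letI : Module k Γ(L, ⊤) := Module.compHom _ (KSMod.kTop k (X ↘ Spec (CommRingCat.of k)))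
  let φ : Γ(M, ⊤) →ₗ[k] Γ(L, ⊤) :=
    { toFun := fun m => OmegaSh.pullSect g M ⊤ m
      map_add' := fun a b => map_add _ a b
      map_smul' := fun c m => by
        refine (OmegaSh.pullSect_smul g M ⊤ _ m).trans ?_
        rw [RingHom.id_apply]
        exact congrArg (fun t => t • OmegaSh.pullSect g M ⊤ m) (ProperFin.toGlobal_comp g hg c) }
  by_contra hcon
  have hinj : Function.Injective φ := (injective_iff_map_eq_zero φ).2 fun m hm => by
    by_contra hne
    exact hcon ⟨m, hne, hm⟩
  let ψ : Coh.HH (CohB1.ProjSpace r k) M 0 →ₗ[k] Coh.HH X L 0 :=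
    (ShStabLib.BC.h0Equiv (k := k) L).symm.toLinearMap.comp
      (φ.comp (ShStabLib.BC.h0Equiv (k := k) M).toLinearMap)
  have hψ : Function.Injective ψ :=
    (ShStabLib.BC.h0Equiv (k := k) L).symm.injective.comp
      (hinj.comp (ShStabLib.BC.h0Equiv (k := k) M).injective)
  have := LinearMap.finrank_le_finrank_of_injective hψ
  have e := (ProjTwist.Pn.h0Equiv r k d).finrank_eq
  rw [PlanePts.finrank_forms] at e
  exact absurd (e.trans_le this) (by simpa using h)


/-- Let k be a field and X a smooth proper geometrically connected curve over k (proper, smooth and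
geometrically connected over k, of dimension one) of genus dim_k H^1(X, O_X) = 4, and let i : X →
P^3_k be a closed immersion over k whose pullback of O(1) is isomorphic to the sheaf of
differentials Ω_{X/k} (X is canonically embedded, hence not hyperelliptic). Then X lies on a quadric
surface: there is a nonzero global section Q of O_{P^3_k}(2) whose pullback along i is the zero
section of i^*O(2). (The published statement goes on to assert that X is the complete intersection
of such a quadric with a cubic surface; this row states only the existence of the quadric.) -/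
theorem result (k : Type u) [Field k] (X : Scheme.{u}) [X.Over (Spec (CommRingCat.of k))]
    [IsProper (X ↘ (Spec (CommRingCat.of k)))] [Smooth (X ↘ (Spec (CommRingCat.of k)))] [GeometricallyConnected (X ↘ (Spec (CommRingCat.of k)))]
    (hdim : topologicalKrullDim X = 1) (hg : Curv2.genus k X = 4)
    (i : X ⟶ CohB1.ProjSpace 3 k) [IsClosedImmersion i] (hi : i ≫ CohB1.ProjSpace.toSpec 3 k = X ↘ (Spec (CommRingCat.of k)))
    (hcan : Nonempty ((Scheme.Modules.pullback i).obj (Twist.twistProjSpace 3 k 1) ≅ Omega.sheaf (X ↘ (Spec (CommRingCat.of k))))) :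
    ∃ Q : Γ(Twist.twistProjSpace 3 k 2, ⊤), Q ≠ 0 ∧
      OmegaSh.pullSect i (Twist.twistProjSpace 3 k 2) ⊤ Q = 0 := by
  haveI : IsIntegral X := CurveCoh.isIntegral_of_smooth k X
  haveI : GeometricallyReduced (X ↘ Spec (CommRingCat.of k)) := ⟨fun K _ y P fst snd H =>
    have : Smooth snd := MorphismProperty.of_isPullback H inferInstance
    GrpScheme.HomFlat.isReduced_of_smooth snd⟩
  have h0 : Module.finrank k (Coh.HH X (Coh.structureModule X) 0) = 1 :=
    VBLib.finrank_H0_structure_eq_one (VBLib.bijective_toGlobal_of_geometrically k X)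
  obtain ⟨-, hdΩ⟩ := FFCurve.OmegaBC.finrank_and_deg (X := X) k hdim
  have hΩ := FFCurve.OmegaBC.isInvertible_omega (X := X) k hdim
  obtain ⟨e1⟩ := hcan
  obtain ⟨e2⟩ := AmpCrit.SerreVan.nonempty_pullback_twist i 2
  let e : (Scheme.Modules.pullback i).obj (Twist.twistProjSpace 3 k ((2 : ℕ) : ℤ)) ≅
      CohB1.tensorMod (Omega.sheaf (X ↘ Spec (CommRingCat.of k))) (Omega.sheaf (X ↘ Spec (CommRingCat.of k))) :=
    e2 ≪≫ ProjTwist.tensCongr (ProjTwist.oneTens _ ≪≫ e1) e1
  have hT := AmpleLib.isInvertible_tensorMod hΩ hΩ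
  have hTc := VBLib.isCoh_of_ofRank (ProjTwist.isFinLocFreeOfRank_one hT)
  have hd := GenusZeroPts92.deg_tensor k hdim hΩ hΩ
  have hO := CurveSimple.euler_structure k hdim h0
  simp only [Curv2.deg, Nat.cast_one, one_mul] at hd hdΩ
  rw [hg] at hdΩ hO
  haveI h1 : Subsingleton (Coh.HH X (CohB1.tensorMod (Omega.sheaf (X ↘ Spec (CommRingCat.of k)))
      (Omega.sheaf (X ↘ Spec (CommRingCat.of k)))) 1) := by
    by_contra hne
    have := CurveSimple.euler_lt_of_h1 k hdim hTc hT (𝟙 _) (not_subsingleton_iff_nontrivial.1 hne)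
    rw [hg] at this
    push_cast at this hdΩ hO
    linarith
  have hh := CurveSimple.euler_eq k hdim (CohB1.tensorMod (Omega.sheaf (X ↘ Spec (CommRingCat.of k)))
      (Omega.sheaf (X ↘ Spec (CommRingCat.of k))))
  rw [Module.finrank_zero_of_subsingleton (M := Coh.HH X (CohB1.tensorMod _ _) 1)] at hh
  have hMc := CohDev.isCoh_of_iso e.symm hTc
  haveI := EulerChar.finite_HH k _ hMc 0
  have hfr := (CohLES.mapEquiv k e 0).finrank_eq
  refine exists_pullSect_eq_zero k (d := 2) i hi ?_
  rw [hfr, show Nat.choose (3 + 2) 3 = 10 by decide]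
  push_cast at hh hdΩ hO
  omega


end Groth.Agent.S13461
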