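import Groth.Statements.S13472
import Groth.Agent.GaFrobDual87.Main

set_option autoImplicit false
universe u
open GaDual

namespace Groth.Agent.S13472

open CategoryTheory AlgebraicGeometry MonObj in
/-- Let R be a commutative ring of prime characteristic p and F the Frobenius endomorphism of the
additive group over Spec R (the homomorphism of group schemes raising the coordinate function of
every point to the p-th power). Then for every i > 2 the map on H^i(R, Ĝ_a) induced by the dual F̂
of F, where Ĝ_a is the internal Hom from the additive into the multiplicative group on the big fppf
site of Spec R, is bijective. (The published statement also records that this bijection is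
Frobenius-semilinear for the natural R-module structures; this row states the bijectivity.) -/
theorem result (p : ℕ) [Fact p.Prime] (R : Type u) [CommRing R] [CharP R p]
    (F : Red.Ga (Spec (CommRingCat.of R)) ⟶ Red.Ga (Spec (CommRingCat.of R))) [IsMonHom F]
    (hF : ∀ (T : Over (Spec (CommRingCat.of R))) (x : T ⟶ Red.Ga (Spec (CommRingCat.of R))), Red.gaFn (x ≫ F) = Red.gaFn x ^ p)
    (i : ℕ) (hi : 2 < i) :
    Function.Bijective (Sheaf.H.map ((CGrpSh2.dualFunctor Scheme.fppfPrecoverage (Spec (CommRingCat.of R))).map
      (CGrpSh.ptsMap Scheme.fppfPrecoverage F).op) i) := by
  exact Groth.Agent.GaFrobDual87.bijective_H_map_Fd p (R := R) (Fs := CGrpSh.ptsMap Scheme.fppfPrecoverage F)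
    (fun W z => hF W _) i hi

end Groth.Agent.S13472
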