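import Groth.Statements.S13485
import Groth.Agent.KFlat.AwayRlim

set_option autoImplicit false
universe u
open CategoryTheory CategoryTheory.Limits Opposite
attribute [local instance] HasDerivedCategory.standard
open DerComp

namespace Groth.Agent.S13485

theorem exists_iso {D : Type*} [Category D] [HasZeroObject D] [HasShift D ℤ] [Preadditive D]
    [∀ n : ℤ, (shiftFunctor D n).Additive] [Pretriangulated D] {L R P : D} {g : P ⟶ P} {f : L ⟶ P} {f' : R ⟶ P}
    {δ : P ⟶ L⟦(1 : ℤ)⟧} {δ' : P ⟶ R⟦(1 : ℤ)⟧} (hL : Pretriangulated.Triangle.mk f g δ ∈ distTriang D)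
    (hR : Pretriangulated.Triangle.mk f' g δ' ∈ distTriang D) :
    Nonempty (L ≅ R) := by
  obtain ⟨a, ha₁, ha₂⟩ := Pretriangulated.complete_distinguished_triangle_morphism₁ _ _ hL hR (𝟙 P) (𝟙 P) ((Category.comp_id g).trans (Category.id_comp g).symm)
  let φ : Pretriangulated.Triangle.mk f g δ ⟶ Pretriangulated.Triangle.mk f' g δ' :=
    Pretriangulated.Triangle.homMk _ _ a (𝟙 P) (𝟙 P) ha₁ ((Category.comp_id g).trans (Category.id_comp g).symm) ha₂
  have : IsIso a := Pretriangulated.isIso₁_of_isIso₂₃ φ hL hR (inferInstanceAs (IsIso (𝟙 P))) (inferInstanceAs (IsIso (𝟙 P)))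
  exact ⟨@asIso _ _ _ _ a this⟩

/-- On a ringed site (C, O), for a global section f of O and K in D(O) admitting its countable
self-product, RHom_O(O_f, K) = 0 if and only if T(K, f) = 0, i.e. every derived limit of the tower
on K with transition maps multiplication by f vanishes. (Condition (2) of the published statement,
vanishing of RHom_O(L, K) for all L over O_f, is not stated.) -/
theorem result {C : Type u} [SmallCategory C] {J : GrothendieckTopology C} (O : Sheaf J CommRingCat.{u}) (s : DerComp.GSec O) [ModSite.HasLTensorCx ((CochainComplex.singleFunctor (ModSite.Mod O) 0).obj (DerComp.locAway s (ModSite.unit O)))] [DerComp.HasRHom ((CochainComplex.singleFunctor (ModSite.Mod O) 0).obj (DerComp.locAway s (ModSite.unit O)))] (K : DerivedCategory (ModSite.Mod O)) [HasProduct fun _ : ℕ => K] : IsZero ((DerComp.RHom ((CochainComplex.singleFunctor (ModSite.Mod O) 0).obj (DerComp.locAway s (ModSite.unit O)))).obj K) ↔ ∀ L : DerivedCategory (ModSite.Mod O), DerComp.IsT s K L → IsZero L := by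
  have hT := Groth.Agent.KFlat.AwayRlim.isT_RHom s K
  refine ⟨fun h L ⟨f, δ, hL⟩ => ?_, fun h => h _ hT⟩
  obtain ⟨f', δ', hR⟩ := hT
  obtain ⟨e⟩ := Groth.Agent.S13485.exists_iso hL hR
  exact h.of_iso e

end Groth.Agent.S13485
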