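import Groth.Statements.S13497
import Groth.Agent.LocCoh.CompBij
import Groth.Agent.LocCoh.CompLocal
import Mathlib.RingTheory.Filtration

set_option autoImplicit false
universe u
open CategoryTheory CategoryTheory.Limits
attribute [local instance] HasDerivedCategory.standard
open LocCoh

namespace Groth.Agent.S13497

open Groth.Agent.LocCoh Groth.Agent.DRing Groth.Agent.DRing.DBasic
open RGHom (inMap qJ)
open PC (inDEquiv)
open CompRlim (π₀ T₀ X T)
open CategoryTheory.Pretriangulated

variable {A : Type u} [CommRing A]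

theorem ext_η (I : Ideal A) [DRing.HasDerivedCompletion I] {K X : Dual.D A} (hX : DRing.IsDerivedComplete I X)
    (g g' : ((DRing.derivedCompletion I).obj K).obj ⟶ X)
    (h : DRing.toDerivedCompletion I K ≫ g = DRing.toDerivedCompletion I K ≫ g') : g = g' := by
  let Z : DRing.DComp I := ⟨X, hX⟩
  let G : (DRing.derivedCompletion I).obj K ⟶ Z := ObjectProperty.homMk g
  let G' : (DRing.derivedCompletion I).obj K ⟶ Z := ObjectProperty.homMk g'
  have : G = G' := ((DRing.derivedCompletionAdj I).homEquiv K Z).injective (by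
    rw [Adjunction.homEquiv_unit, Adjunction.homEquiv_unit]
    exact h)
  exact congrArg (fun t : (DRing.derivedCompletion I).obj K ⟶ Z => t.hom) this

variable [IsNoetherianRing A]

omit [IsNoetherianRing A] in
theorem exists_unit_eval : ∃ u v : A, u * v = 1 ∧ inDEquiv A A (DualCx.Cx.e₀ A) = u := by
  obtain ⟨f, hf⟩ := (DualCx.Cx.evalA_bijective (Dual.inD A A)).2 ((inDEquiv A A).symm 1)
  obtain ⟨g, rfl⟩ := (DerivedCategory.singleFunctor (ModuleCat.{u} A) 0).map_surjective f
  have hnat := ConcreteCategory.congr_hom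
    ((DerivedCategory.singleFunctorCompHomologyFunctorIso (ModuleCat.{u} A) 0).hom.naturality g)
    (DualCx.Cx.e₀ A)
  have h1 : g.hom (inDEquiv A A (DualCx.Cx.e₀ A)) = 1 := by
    refine Eq.trans ?_ ((inDEquiv A A).apply_symm_apply 1)
    refine Eq.trans ?_ (congrArg (inDEquiv A A) hf)
    exact hnat.symm
  refine ⟨_, g.hom (1 : A), ?_, rfl⟩
  rw [← smul_eq_mul, ← map_smul, smul_eq_mul, mul_one]
  exact h1

omit [IsNoetherianRing A] in
theorem evalA_inMap {M : Type u} [AddCommGroup M] [Module A M] (g : ModuleCat.of A A ⟶ ModuleCat.of A M) :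
    inDEquiv A M (DualCx.Cx.evalA (Dual.inD A M) (inMap g)) = g.hom (inDEquiv A A (DualCx.Cx.e₀ A)) :=
  ConcreteCategory.congr_hom
    ((DerivedCategory.singleFunctorCompHomologyFunctorIso (ModuleCat.{u} A) 0).hom.naturality g)
    (DualCx.Cx.e₀ A)

omit [IsNoetherianRing A] in
theorem evalA_comp {K L : Dual.D A} (f : Dual.inD A A ⟶ K) (h : K ⟶ L) :
    DualCx.Cx.evalA L (f ≫ h) =
      ((DerivedCategory.homologyFunctor (ModuleCat.{u} A) 0).map h).hom (DualCx.Cx.evalA K f) := by
  rw [DualCx.Cx.evalA_apply, DualCx.Cx.evalA_apply, Functor.map_comp, ModuleCat.hom_comp, LinearMap.comp_apply]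

theorem evalA_comp₂ {K L L' : Dual.D A} (f : Dual.inD A A ⟶ K) (h : K ⟶ L) (h' : L ⟶ L') :
    DualCx.Cx.evalA L' (f ≫ h ≫ h') =
      ((DerivedCategory.homologyFunctor (ModuleCat.{u} A) 0).map h').hom
        (((DerivedCategory.homologyFunctor (ModuleCat.{u} A) 0).map h).hom (DualCx.Cx.evalA K f)) := by
  rw [← evalA_comp, ← evalA_comp, Category.assoc]

/-- the union of the torsion submodules, through congruences -/
theorem mem_iff (I J : Ideal A) {M : Type u} [AddCommGroup M] [Module A M] [Module.Finite A M] (s : M) :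
    (∀ n, ∃ k : ℕ, ∀ c ∈ J ^ k, c • s ∈ (I ^ n • ⊤ : Submodule A M)) ↔
      ∃ J' : Ideal A, J' ≤ J ∧ J ≤ (J' ⊔ I).radical ∧ s ∈ DRing.torsionSub J' M := by
  constructor
  · intro h
    let N : Submodule A M := Submodule.span A {s}
    refine ⟨J ⊓ (LinearMap.ker (LinearMap.toSpanSingleton A M s)), inf_le_left, fun c hc => ?_,
      1, fun a ha => ?_⟩
    · obtain ⟨k₀, hk₀⟩ := I.exists_pow_inf_eq_pow_smul N
      obtain ⟨k, hk⟩ := h (k₀ + 1)
      have hmem : c ^ k • s ∈ I • N := by
        have h1 : c ^ k • s ∈ (I ^ (k₀ + 1) • ⊤ : Submodule A M) ⊓ N :=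
          ⟨hk _ (Ideal.pow_mem_pow hc k), N.smul_mem _ (Submodule.mem_span_singleton_self s)⟩
        rw [hk₀ (k₀ + 1) (by omega), Nat.add_sub_cancel_left, pow_one] at h1
        exact Submodule.smul_mono le_rfl inf_le_right h1
      obtain ⟨i, hi, his⟩ := Submodule.mem_smul_span_singleton.1 hmem
      refine ⟨k + 1, ?_⟩
      rw [show c ^ (k + 1) = c * (c ^ k - i) + c * i by ring]
      refine Submodule.add_mem_sup ⟨J.mul_mem_right _ hc, ?_⟩ (I.mul_mem_left _ hi)
      change (c * (c ^ k - i)) • s = 0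
      rw [mul_smul, sub_smul, his, sub_self, smul_zero]
    · rw [pow_one] at ha
      exact ha.2
  · rintro ⟨J', -, hJ, m, hm⟩ n
    obtain ⟨k, hk⟩ := Ideal.exists_pow_le_of_le_radical_of_fg hJ (IsNoetherian.noetherian J)
    refine ⟨k * (m + n), fun c hc => ?_⟩
    rw [pow_mul] at hc
    obtain ⟨t, ht, i, hi, rfl⟩ := Submodule.mem_sup.1
      (Ideal.sup_pow_add_le_pow_sup_pow (Ideal.pow_right_mono hk _ hc))
    rw [add_smul, hm t ht, zero_add]
    exact Submodule.smul_mem_smul hi Submodule.mem_top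

theorem eq_zero_of_comp_ε (J : Ideal A) [DRing.HasRgammaI J] {V : Type u} [AddCommGroup V] [Module A V]
    (x : Dual.inD A A ⟶ (DRing.RgammaI J).obj (Dual.inD A V))
    (hx : x ≫ (DRing.RgammaIε J).app (Dual.inD A V) = 0) : x = 0 := by
  let e : ModuleCat.of A (A ⧸ (⊥ : Ideal A)) ≅ ModuleCat.of A A :=
    (Submodule.quotEquivOfEqBot (⊥ : Ideal A) rfl).toModuleIso
  have h := CompLocal.eq_zero_of_comp_ε J (W := (⊥ : Ideal A)) (inMap e.hom ≫ x)
    (by rw [Category.assoc, hx, comp_zero])
  rw [← cancel_epi (inMap e.hom), h, comp_zero]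

variable (I J : Ideal A) [DRing.HasRgammaI J] {M : Type u} [AddCommGroup M] [Module A M]

theorem torsion_of_lift {n : ℕ} (g : ModuleCat.of A A ⟶ ModuleCat.of A (M ⧸ (I ^ n • ⊤ : Submodule A M)))
    (y : Dual.inD A A ⟶ X I J M n) (hy : y ≫ (DRing.RgammaIε J).app _ = inMap g) :
    ∃ k : ℕ, ∀ c ∈ J ^ k, c • g.hom (1 : A) = 0 := by
  obtain ⟨k, y', hy'⟩ := RGHom.exists_factor_RgammaI J (M ⧸ (I ^ n • ⊤ : Submodule A M)) 0
    (y ≫ (shiftFunctorZero (Dual.D A) ℤ).inv.app _)
  refine ⟨k, fun c hc => ?_⟩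
  have hkill : c • y = 0 := by
    rw [← cancel_mono ((shiftFunctorZero (Dual.D A) ℤ).inv.app (X I J M n)), zero_comp, Linear.smul_comp]
    refine (congrArg (fun t => c • t) hy'.symm).trans ?_
    have h0 : c • inMap (qJ J A k) = 0 := by
      rw [← Category.comp_id (inMap (qJ J A k)), ← Linear.comp_smul,
        CompRlim.smul_hom_eq_zero (fun w => ?_) (𝟙 _), comp_zero]
      obtain ⟨v, rfl⟩ := Submodule.Quotient.mk_surjective _ w
      rw [← Submodule.Quotient.mk_smul, Submodule.Quotient.mk_eq_zero]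
      exact Submodule.smul_mem_smul hc Submodule.mem_top
    exact (Linear.smul_comp _ _ _ _ _ _).symm.trans ((congrArg (· ≫ y') h0).trans zero_comp)
  have hg : c • g = 0 := by
    apply (DerivedCategory.singleFunctor (ModuleCat.{u} A) 0).map_injective
    rw [Functor.map_smul, Functor.map_zero]
    change c • inMap g = 0
    rw [← hy, ← Linear.smul_comp, hkill, zero_comp]
  exact ConcreteCategory.congr_hom hg (1 : A)

theorem exists_lift {n : ℕ} (g : ModuleCat.of A A ⟶ ModuleCat.of A (M ⧸ (I ^ n • ⊤ : Submodule A M)))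
    (k : ℕ) (hk : ∀ c ∈ J ^ k, c • g.hom (1 : A) = 0) :
    ∃ y : Dual.inD A A ⟶ X I J M n, y ≫ (DRing.RgammaIε J).app _ = inMap g := by
  let g' : ModuleCat.of A (A ⧸ (J ^ k • ⊤ : Submodule A A)) ⟶ ModuleCat.of A (M ⧸ (I ^ n • ⊤ : Submodule A M)) :=
    ModuleCat.ofHom (Submodule.liftQ _ g.hom (Submodule.smul_le.2 fun c hc a _ => by
      rw [LinearMap.mem_ker, show c • a = a • (c • (1 : A)) by simp only [smul_eq_mul]; ring, map_smul,
        map_smul, hk c hc, smul_zero]))
  obtain ⟨y, hy⟩ := (RGHom.bijective_comp_ε J (RGHom.HD_inD_torsion J k fun c hc w => by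
    obtain ⟨v, rfl⟩ := Submodule.Quotient.mk_surjective _ w
    rw [← Submodule.Quotient.mk_smul, Submodule.Quotient.mk_eq_zero]
    exact Submodule.smul_mem_smul hc Submodule.mem_top) _).2 (inMap g')
  refine ⟨inMap (qJ J A k) ≫ y, ?_⟩
  exact (Category.assoc _ _ _).trans ((congrArg (inMap (qJ J A k) ≫ ·) hy).trans ((Functor.map_comp _ _ _).symm))

set_option maxHeartbeats 800000 in
/-- the whole statement through morphisms out of `A` -/
theorem key [IsAdicComplete I A] [DRing.HasDerivedCompletion I] [Module.Finite A M] :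
    ∃ ψ : ((DRing.derivedCompletion I).obj (Dual.inD A M)).obj ⟶ Dual.inD A M,
      DRing.toDerivedCompletion I (Dual.inD A M) ≫ ψ = 𝟙 _ ∧
      ψ ≫ DRing.toDerivedCompletion I (Dual.inD A M) = 𝟙 _ ∧
      (∀ x : Dual.inD A A ⟶ ((DRing.derivedCompletion I).obj ((DRing.RgammaI J).obj (Dual.inD A M))).obj,
        x ≫ (ObjectProperty.ι (DRing.IsDerivedComplete I)).map
          ((DRing.derivedCompletion I).map ((DRing.RgammaIε J).app (Dual.inD A M))) ≫ ψ = 0 → x = 0) ∧
      ∀ g : ModuleCat.of A A ⟶ ModuleCat.of A M,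
        (∃ x : Dual.inD A A ⟶ ((DRing.derivedCompletion I).obj ((DRing.RgammaI J).obj (Dual.inD A M))).obj,
          x ≫ (ObjectProperty.ι (DRing.IsDerivedComplete I)).map
            ((DRing.derivedCompletion I).map ((DRing.RgammaIε J).app (Dual.inD A M))) ≫ ψ = inMap g) ↔
        ∀ n, ∃ k : ℕ, ∀ c ∈ J ^ k, c • g.hom (1 : A) ∈ (I ^ n • ⊤ : Submodule A M) := by
  have := CompLocal.hasProduct (A := A)
  obtain ⟨⟨a, c, hT, hη⟩, -⟩ := CompRlim.main_compat I J M
  let N := Dual.inD A M
  let K := (DRing.RgammaI J).obj N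
  let F := (ObjectProperty.ι (DRing.IsDerivedComplete I)).map
    ((DRing.derivedCompletion I).map ((DRing.RgammaIε J).app N))
  have hN : DRing.IsDerivedComplete I N := CompBij.isDerivedComplete_inD
  let ψ' := ((DRing.derivedCompletionAdj I).homEquiv N ⟨N, hN⟩).symm (𝟙 N)
  let ψ : ((DRing.derivedCompletion I).obj N).obj ⟶ N := ψ'.hom
  have hψ : DRing.toDerivedCompletion I N ≫ ψ = 𝟙 N :=
    ((DRing.derivedCompletionAdj I).homEquiv_unit ..).symm.trans (Equiv.apply_symm_apply _ _)
  have hψ' : ψ ≫ DRing.toDerivedCompletion I N = 𝟙 _ :=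
    ext_η I ((DRing.derivedCompletion I).obj N).property _ _
      (by rw [← Category.assoc, hψ, Category.id_comp, Category.comp_id])
  have hFη : DRing.toDerivedCompletion I K ≫ F =
      (DRing.RgammaIε J).app N ≫ DRing.toDerivedCompletion I N :=
    ((DRing.derivedCompletionAdj I).unit.naturality ((DRing.RgammaIε J).app N)).symm
  have hn : ∀ n, F ≫ ψ ≫ inMap (π₀ I M n) = a ≫ Pi.π (X I J M) n ≫ (DRing.RgammaIε J).app _ := by
    intro n
    refine ext_η I (CompBij.isDerivedComplete_inD (M := M ⧸ (I ^ n • ⊤ : Submodule A M))) _ _ ?_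
    refine (Category.assoc _ _ _).symm.trans ((congrArg (· ≫ ψ ≫ inMap (π₀ I M n)) hFη).trans
      ((Category.assoc _ _ _).trans ((congrArg ((DRing.RgammaIε J).app N ≫ ·)
        ((Category.assoc _ _ _).symm.trans ((congrArg (· ≫ inMap (π₀ I M n)) hψ).trans
          (Category.id_comp _)))).trans ?_)))
    exact ((DRing.RgammaIε J).naturality (inMap (π₀ I M n))).symm.trans
      ((congrArg (· ≫ (DRing.RgammaIε J).app _) (hη n)).symm.trans (by simp only [Category.assoc]; rfl))
  refine ⟨ψ, hψ, hψ', fun x hx => ?_, fun g => ⟨?_, fun hg => ?_⟩⟩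
  · refine Milnor.eq_zero_of_comp_π hT (fun _ => ⟨fun _ => 0, fun n => ?_⟩) x fun n => ?_
    · exact ((CompRlim.subsingleton_shifted (W := A) _ 1 (-1) (by norm_num)
        (subsingleton_of_forall_eq 0 (RGHom.eq_zero_of_neg J _ (-1) (by norm_num)))).elim _ _)
    · refine eq_zero_of_comp_ε J _ ?_
      rw [Category.assoc, Category.assoc, ← hn n, ← Category.assoc F, ← Category.assoc x, hx, zero_comp]
  · rintro ⟨x, hx⟩ n
    obtain ⟨k, hk⟩ := torsion_of_lift I J (g ≫ π₀ I M n) (x ≫ a ≫ Pi.π (X I J M) n) (by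
      rw [Category.assoc, Category.assoc, ← hn n, ← Category.assoc F, ← Category.assoc x, hx]
      exact (Functor.map_comp _ _ _).symm)
    exact ⟨k, fun c hc => (Submodule.Quotient.mk_eq_zero _).1 (hk c hc)⟩
  · have hy : ∀ n, ∃ y : Dual.inD A A ⟶ X I J M n,
        y ≫ (DRing.RgammaIε J).app _ = inMap (g ≫ π₀ I M n) := fun n => by
      obtain ⟨k, hk⟩ := hg n
      exact exists_lift I J _ k fun c hc => (Submodule.Quotient.mk_eq_zero _).2 (hk c hc)
    choose y hy using hy
    have hcomp : ∀ n, y (n + 1) ≫ T I J M n (n + 1) (Nat.le_succ n) = y n := fun n => by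
      refine sub_eq_zero.1 (eq_zero_of_comp_ε J _ ?_)
      rw [Preadditive.sub_comp, sub_eq_zero, hy n, Category.assoc]
      refine (congrArg (y (n + 1) ≫ ·) ((DRing.RgammaIε J).naturality (inMap (T₀ I M (Nat.le_succ n))))).trans ?_
      rw [← Category.assoc, hy (n + 1)]
      exact (Functor.map_comp _ _ _).symm
    obtain ⟨x, hx⟩ := Triangle.coyoneda_exact₂ _ hT (Pi.lift y)
      (Pi.hom_ext _ _ fun n => (Category.assoc _ _ _).trans ((congrArg (Pi.lift y ≫ ·) (Pi.lift_π _ n)).trans (by
        rw [Preadditive.comp_sub, ← Category.assoc, Pi.lift_π, Pi.lift_π, hcomp, sub_self]; exact zero_comp.symm)))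
    refine ⟨x, ?_⟩
    obtain ⟨g', hg'⟩ := (DerivedCategory.singleFunctor (ModuleCat.{u} A) 0).map_surjective (x ≫ F ≫ ψ)
    suffices g' = g by rw [← this]; exact hg'.symm
    have hH : IsHausdorff I M := (Adic.isAdicComplete_of_finite (I := I) (M := M)).toIsHausdorff
    have hmod : ∀ n, g' ≫ π₀ I M n = g ≫ π₀ I M n := fun n => by
      apply (DerivedCategory.singleFunctor (ModuleCat.{u} A) 0).map_injective
      refine (Functor.map_comp _ _ _).trans (Eq.trans ?_ ((hy n).trans rfl))
      refine (congrArg (· ≫ inMap (π₀ I M n)) hg').trans ((Category.assoc _ _ _).trans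
        ((congrArg (x ≫ ·) ((Category.assoc _ _ _).trans (hn n))).trans ?_))
      exact ((Category.assoc _ _ _).trans (Category.assoc _ _ _)).symm.trans
        (congrArg (· ≫ (DRing.RgammaIε J).app _) ((congrArg (· ≫ Pi.π (X I J M) n) hx.symm).trans (Pi.lift_π y n)))
    refine ModuleCat.hom_ext (LinearMap.ext fun b => sub_eq_zero.1 (hH.haus' _ fun n => ?_))
    rw [SModEq.zero, ← Submodule.Quotient.eq]
    exact ConcreteCategory.congr_hom (hmod n) b

/-- Let I and J be ideals of a Noetherian ring A which is I-adically complete, and M a finite A-module.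
Then H^0 of the derived I-adic completion of RGamma_J(M) is the filtered colimit (union) of the
submodules H^0_{V(J')}(M) of J'-power torsion elements of M, over the ideals J' contained in J with
V(J') ∩ V(I) = V(J) ∩ V(I), that is with J contained in the radical of J' + I. Precisely: the map on
H^0 induced by the completion of RGamma_J(M) -> M is injective, and its range is the image of that
union under M -> H^0(M^) (H^0 of the completion unit of M in degree 0). RGamma_J is the total right
derived functor of the J-power torsion functor (which is RGamma_{V(J)} since A is Noetherian); its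
existence, and that of derived I-completion, are instance hypotheses. -/
theorem result (A : Type u) [CommRing A] [IsNoetherianRing A] (I J : Ideal A) [IsAdicComplete I A] [DRing.HasRgammaI J] [DRing.HasDerivedCompletion I] (M : Type u) [AddCommGroup M] [Module A M] [Module.Finite A M] : Function.Injective ((DerivedCategory.homologyFunctor (ModuleCat.{u} A) 0).map ((ObjectProperty.ι (DRing.IsDerivedComplete I)).map ((DRing.derivedCompletion I).map ((DRing.RgammaIε J).app (Dual.inD A M))))).hom ∧ Set.range ((DerivedCategory.homologyFunctor (ModuleCat.{u} A) 0).map ((ObjectProperty.ι (DRing.IsDerivedComplete I)).map ((DRing.derivedCompletion I).map ((DRing.RgammaIε J).app (Dual.inD A M))))).hom = (fun s : M => ((DerivedCategory.homologyFunctor (ModuleCat.{u} A) 0).map (DRing.toDerivedCompletion I (Dual.inD A M))).hom (((DerivedCategory.singleFunctorCompHomologyFunctorIso (ModuleCat.{u} A) 0).inv.app (ModuleCat.of A M)).hom s)) '' {s : M | ∃ J' : Ideal A, J' ≤ J ∧ J ≤ (J' ⊔ I).radical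 ∧ s ∈ DRing.torsionSub J' M} := by
  obtain ⟨ψ, hψ, hψ', hinj, hiff⟩ := key I J (M := M)
  obtain ⟨u, v, huv, hu⟩ := exists_unit_eval (A := A)
  let N := Dual.inD A M
  let F := (ObjectProperty.ι (DRing.IsDerivedComplete I)).map
    ((DRing.derivedCompletion I).map ((DRing.RgammaIε J).app N))
  let H := DerivedCategory.homologyFunctor (ModuleCat.{u} A) 0
  let θ : M → Dual.HD A ((DRing.derivedCompletion I).obj N).obj 0 := fun s =>
    (H.map (DRing.toDerivedCompletion I N)).hom ((inDEquiv A M).symm s)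
  have hHη : ∀ z, θ (inDEquiv A M ((H.map ψ).hom z)) = z := fun z => by
    simp only [θ, LinearEquiv.symm_apply_apply]
    rw [← LinearMap.comp_apply, ← ModuleCat.hom_comp, ← Functor.map_comp, hψ', CategoryTheory.Functor.map_id]
    rfl
  refine ⟨fun z z' h => sub_eq_zero.1 ?_, ?_⟩
  · obtain ⟨x, hx⟩ := (DualCx.Cx.evalA_bijective _).2 (z - z')
    rw [← hx, hinj x ((DualCx.Cx.evalA_bijective _).1 ?_), map_zero]
    refine (evalA_comp₂ x F ψ).trans (Eq.trans ?_ (map_zero _).symm)
    refine (congrArg (fun t => (H.map ψ).hom ((H.map F).hom t)) hx).trans ?_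
    refine (congrArg (H.map ψ).hom ((map_sub _ z z').trans (sub_eq_zero.2 h))).trans (map_zero _)
  · refine Set.ext fun w => ⟨?_, ?_⟩
    · rintro ⟨z, rfl⟩
      obtain ⟨x, rfl⟩ := (DualCx.Cx.evalA_bijective _).2 z
      obtain ⟨g, hg⟩ := (DerivedCategory.singleFunctor (ModuleCat.{u} A) 0).map_surjective (x ≫ F ≫ ψ)
      refine ⟨inDEquiv A M ((H.map ψ).hom ((H.map F).hom (DualCx.Cx.evalA _ x))),
        (mem_iff I J _).1 fun n => ?_, hHη _⟩
      obtain ⟨k, hk⟩ := (hiff g).1 ⟨x, hg.symm⟩ n
      refine ⟨k, fun c hc => ?_⟩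
      have he : inDEquiv A M ((H.map ψ).hom ((H.map F).hom (DualCx.Cx.evalA _ x))) = u • g.hom (1 : A) := by
        refine (congrArg (inDEquiv A M) ((evalA_comp₂ x F ψ).symm.trans
          (congrArg (DualCx.Cx.evalA N) hg.symm))).trans ((evalA_inMap g).trans ?_)
        rw [hu, ← map_smul, smul_eq_mul, mul_one]
      rw [he, smul_comm]
      exact Submodule.smul_mem _ u (hk c hc)
    · rintro ⟨s, hs, rfl⟩
      let g : ModuleCat.of A A ⟶ ModuleCat.of A M := ModuleCat.ofHom (LinearMap.toSpanSingleton A M (v • s))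
      obtain ⟨x, hx⟩ := (hiff g).2 fun n => by
        obtain ⟨k, hk⟩ := (mem_iff I J s).2 hs n
        refine ⟨k, fun c hc => ?_⟩
        change c • ((1 : A) • v • s) ∈ _
        rw [one_smul, smul_comm]
        exact Submodule.smul_mem _ v (hk c hc)
      refine ⟨DualCx.Cx.evalA _ x, ?_⟩
      refine (hHη _).symm.trans (congrArg θ ?_)
      change inDEquiv A M ((H.map ψ).hom ((H.map F).hom _)) = s
      refine (congrArg (inDEquiv A M) ((evalA_comp₂ x F ψ).symm.trans
        (congrArg (DualCx.Cx.evalA N) hx))).trans ((evalA_inMap g).trans ?_)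
      rw [hu]
      change u • v • s = s
      rw [← mul_smul, huv, one_smul]

end Groth.Agent.S13497
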