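import Groth.Statements.S13499
import Groth.Agent.S7744

set_option autoImplicit false
universe u
open CategoryTheory CategoryTheory.Limits AlgebraicGeometry Opposite
open GalCoh

namespace Groth.Agent.S13499

open Limits in
theorem exact_constantSheaf (X : Scheme.{u}) :
    PreservesFiniteLimits (constantSheaf X.smallEtaleTopology AddCommGrpCat.{u + 1}) ∧
    PreservesFiniteColimits (constantSheaf X.smallEtaleTopology AddCommGrpCat.{u + 1}) := by
  refine ⟨comp_preservesFiniteLimits _ _, ?_⟩
  have : PreservesColimitsOfSize.{0, 0} (constantSheaf X.smallEtaleTopology AddCommGrpCat.{u + 1}) :=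
    (EtCore.constAdj X).leftAdjoint_preservesColimits
  exact PreservesColimitsOfSize.preservesFiniteColimits _

/-- For a field k and i ≥ 2 there is an isomorphism between H^i(Spec k, Z) and H^{i-1}(Spec k, Q/Z),
étale cohomology of Spec k with coefficients in the constant sheaves Z and Q/Z (existence of an
additive isomorphism only; the published statement is for an arbitrary profinite group with trivial
action and identifies the two groups through the boundary map of 0 → Z → Q → Q/Z → 0). -/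
theorem result (k : Type u) [Field k] (i : ℕ) (hi : 2 ≤ i) :
    Nonempty (EtCoh.H (Spec (CommRingCat.of k)) (EtCoh.const (Spec (CommRingCat.of k)) ℤ) i ≃+
      EtCoh.H (Spec (CommRingCat.of k))
        (EtCoh.const (Spec (CommRingCat.of k)) (ℚ ⧸ AddSubgroup.zmultiples (1 : ℚ))) (i - 1)) := by
  obtain ⟨q, rfl⟩ : ∃ q, i = q + 1 := ⟨i - 1, by omega⟩
  rw [Nat.add_sub_cancel]
  let X := Spec (CommRingCat.of k)
  let L := constantSheaf X.smallEtaleTopology AddCommGrpCat.{u + 1}
  obtain ⟨hl, hr⟩ := exact_constantSheaf X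
  haveI : Limits.PreservesFiniteLimits L := hl
  haveI : Limits.PreservesFiniteColimits L := hr
  haveI : L.Additive := Functor.additive_of_preserves_binary_products _
  let H := AddSubgroup.zmultiples (1 : ℚ)
  let f : AddCommGrpCat.of (ULift.{u + 1} ℤ) ⟶ AddCommGrpCat.of (ULift.{u + 1} ℚ) :=
    AddCommGrpCat.ofHom ((AddEquiv.ulift.symm.toAddMonoidHom.comp (Int.castAddHom ℚ)).comp AddEquiv.ulift.toAddMonoidHom)
  let g : AddCommGrpCat.of (ULift.{u + 1} ℚ) ⟶ AddCommGrpCat.of (ULift.{u + 1} (ℚ ⧸ H)) :=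
    AddCommGrpCat.ofHom ((AddEquiv.ulift.symm.toAddMonoidHom.comp (QuotientAddGroup.mk' H)).comp AddEquiv.ulift.toAddMonoidHom)
  have hfg : f ≫ g = 0 := by
    refine AddCommGrpCat.hom_ext (AddMonoidHom.ext fun z => ULift.ext _ _ ?_)
    exact (QuotientAddGroup.eq_zero_iff _).2 (AddSubgroup.mem_zmultiples_iff.2 ⟨z.down, zsmul_one _⟩)
  let S₀ := ShortComplex.mk f g hfg
  have hS₀ : S₀.ShortExact := by
    have : Mono S₀.f := (AddCommGrpCat.mono_iff_injective f).2 fun a b h =>
      ULift.ext _ _ (Int.cast_injective (α := ℚ) (congrArg ULift.down h))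
    have : Epi S₀.g := (AddCommGrpCat.epi_iff_surjective g).2 fun y => by
      obtain ⟨a, ha⟩ := QuotientAddGroup.mk'_surjective H y.down
      exact ⟨⟨a⟩, ULift.ext _ _ ha⟩
    refine { exact := (ShortComplex.ab_exact_iff S₀).2 fun y hy => ?_ }
    obtain ⟨z, hz⟩ := AddSubgroup.mem_zmultiples_iff.1 ((QuotientAddGroup.eq_zero_iff (N := H) y.down).1 (congrArg ULift.down hy))
    exact ⟨⟨z⟩, ULift.ext _ _ ((zsmul_one z).symm.trans hz)⟩
  have hS : (S₀.map L).ShortExact := hS₀.map_of_exact L
  have hQ : ∀ j : ℕ, 0 < j → Subsingleton (EtCoh.H X (S₀.map L).X₂ j) := fun j hj => by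
    refine S7744.result k (L.obj (AddCommGrpCat.of (ULift.{u + 1} ℚ))) (fun n hn => ?_) j hj
    have hiso : IsIso (n • 𝟙 (AddCommGrpCat.of (ULift.{u + 1} ℚ))) := by
      rw [ConcreteCategory.isIso_iff_bijective]
      have e : ∀ c : ULift.{u + 1} ℚ, ((n • 𝟙 (AddCommGrpCat.of (ULift.{u + 1} ℚ))) c : ULift.{u + 1} ℚ) = n • c := fun c => by
        let E : (AddCommGrpCat.of (ULift.{u + 1} ℚ) ⟶ AddCommGrpCat.of (ULift.{u + 1} ℚ)) →+ ULift.{u + 1} ℚ :=
          AddMonoidHom.mk' (fun a => a.hom c) fun a b => rfl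
        show E (n • 𝟙 (AddCommGrpCat.of (ULift.{u + 1} ℚ))) = _
        rw [map_nsmul]
        rfl
      have hn' : (n : ℚ) ≠ 0 := Nat.cast_ne_zero.2 hn.ne'
      constructor
      · intro a b h
        rw [e, e] at h
        have h' : n • a.down = n • b.down := congrArg ULift.down h
        rw [nsmul_eq_mul, nsmul_eq_mul] at h'
        exact ULift.ext _ _ (mul_left_cancel₀ hn' h')
      · intro c
        refine ⟨⟨c.down / n⟩, (e _).trans (ULift.ext _ _ ?_)⟩
        show n • (c.down / n) = c.down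
        rw [nsmul_eq_mul]
        field_simp
    have := L.map_isIso (n • 𝟙 (AddCommGrpCat.of (ULift.{u + 1} ℚ)))
    rwa [Functor.map_nsmul, CategoryTheory.Functor.map_id] at this
  refine ⟨(AddEquiv.ofBijective (hS.extClass.postcomp (EtCoh.const X ℤ) (rfl : q + 1 = q + 1)) ⟨?_, ?_⟩).symm⟩
  · refine (injective_iff_map_eq_zero _).2 fun z hz => ?_
    obtain ⟨w, rfl⟩ := Abelian.Ext.covariant_sequence_exact₃ _ hS z rfl hz
    rw [(hQ q (by omega)).elim w 0, Abelian.Ext.zero_comp]
  · intro y
    exact Abelian.Ext.covariant_sequence_exact₁ _ hS y ((hQ (q + 1) (by omega)).elim _ _) rfl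

end Groth.Agent.S13499
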