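import Groth.Statements.S13500
import Groth.Agent.S19255

set_option autoImplicit false
universe u
open CategoryTheory CategoryTheory.Limits AlgebraicGeometry Opposite
open Curves

namespace Groth.Agent.S13500

/-- Let k be an algebraically closed field and Y an integral scheme of dimension one which is locally of
finite type, quasi-compact and quasi-separated over k. For every abelian sheaf F on the small étale
site of Y on which multiplication by n is an isomorphism for every n > 0 (a sheaf of vector spaces
over the rationals), H^i(Y_et, F) vanishes for all i ≥ 2. -/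
theorem result {k : Type u} [Field k] [IsAlgClosed k]
    (Y : Scheme.{u}) [IsIntegral Y] (f : Y ⟶ Spec (CommRingCat.of k)) [LocallyOfFiniteType f]
    [QuasiCompact f] [QuasiSeparated f] (hdim : topologicalKrullDim Y = 1)
    (F : EtCoh.Ab Y) (hdiv : ∀ n : ℕ, 0 < n → IsIso (n • 𝟙 F)) (i : ℕ) (hi : 2 ≤ i) :
    Subsingleton (EtCoh.H Y F i) := by
  haveI : IsLocallyNoetherian Y := LocallyOfFiniteType.isLocallyNoetherian f
  haveI : CompactSpace Y := QuasiCompact.compactSpace_of_compactSpace f
  haveI : IsNoetherian Y := {}
  refine S19255.result Y 1 hdim.le F (fun U m hm => ?_) i hi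
  haveI := hdiv m hm
  haveI : IsIso ((sheafToPresheaf _ _).map (m • 𝟙 F)) := inferInstance
  have h := ConcreteCategory.bijective_of_isIso (((sheafToPresheaf _ _).map (m • 𝟙 F)).app (op U))
  have e : ((sheafToPresheaf _ _).map (m • 𝟙 F)).app (op U) = m • 𝟙 (F.obj.obj (op U)) := by
    rw [Functor.map_nsmul, CategoryTheory.Functor.map_id, NatTrans.app_nsmul]
    rfl
  rw [e] at h
  exact h

end Groth.Agent.S13500
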