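import Groth.Statements.S13501
import Groth.Agent.EtConsAb.Colim

set_option autoImplicit false
universe u
open CategoryTheory CategoryTheory.Limits AlgebraicGeometry Opposite
open EtPBC

namespace Groth.Agent.S13501

/-- Let X be a quasi-compact and quasi-separated scheme and F a torsion abelian sheaf on X_et. If Hom(F,
-) commutes with filtered colimits (of shape any small filtered category in the universe of the
sheaf category's morphisms), then F is constructible. This is the converse of the compactness of
constructible sheaves. -/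
theorem result (X : Scheme.{u}) [CompactSpace X]
    [QuasiSeparatedSpace X] (F : EtCoh.Ab X) (hF : EtCoh.IsTorsion F)
    (hc : ∀ (J : Type (u + 1)) [SmallCategory J] [IsFiltered J],
      PreservesColimitsOfShape J (coyoneda.obj (op F))) :
    EtPBC.IsConstructible F := by
  let P : Groth.Agent.EtConsAb.Stage F → Prop := fun _ => True
  have hP : ∀ p, ∃ q, p ≤ q ∧ P q := fun p => ⟨p, le_refl p, trivial⟩
  haveI := Groth.Agent.EtConsAb.Stage.directed_subtype P hP
  haveI : Nonempty {p // P p} := ⟨⟨Classical.arbitrary _, trivial⟩⟩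
  obtain ⟨hcol⟩ := Groth.Agent.EtConsAb.Stage.nonempty_isColimit_cocone hF P hP
  haveI := hc {p // P p}
  obtain ⟨p, s, hs⟩ := Types.jointly_surjective _ (isColimitOfPreserves (coyoneda.obj (op F)) hcol) (𝟙 F)
  let r : p.1.obj ⟶ F := p.1.π
  let s : F ⟶ p.1.obj := s
  replace hs : s ≫ r = 𝟙 F := hs
  have hD := Groth.Agent.EtConsAb.Stage.isConstructible_obj p.1
  have w : (𝟙 p.1.obj - r ≫ s) ≫ r = 0 := by
    rw [Preadditive.sub_comp, Category.assoc, hs, Category.id_comp, Category.comp_id, sub_self]
  haveI : IsSplitEpi r := IsSplitEpi.mk' ⟨s, hs⟩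
  have hcok : IsColimit (CokernelCofork.ofπ r w) :=
    CokernelCofork.IsColimit.ofπ _ _ (fun φ _ => s ≫ φ)
      (fun φ hφ => by
        rw [Preadditive.sub_comp, sub_eq_zero, Category.id_comp, Category.assoc] at hφ
        exact hφ.symm)
      (fun φ _ m hm => by rw [← hm, ← Category.assoc, hs, Category.id_comp])
  exact Groth.Agent.EtConsAb.isConstructible_of_iso
    ((cokernelIsCokernel (𝟙 p.1.obj - r ≫ s)).coconePointUniqueUpToIso hcok)
    (Groth.Agent.EtConsAb.isConstructible_cokernel _ hD hD)

end Groth.Agent.S13501
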