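import Groth.Statements.S14624
import Groth.Agent.IndAlg.Basic
import Mathlib.CategoryTheory.Limits.Types.Colimits

set_option linter.style.haveILetI false
set_option autoImplicit false
open CategoryTheory CategoryTheory.Limits
universe u
open Hensel

namespace Groth.Agent.S14624

/-- Let A be a commutative ring, m a proper ideal of A and Â the m-adic completion. Assume the
approximation property for polynomial systems: whenever finitely many polynomials over A in finitely
many variables have a common zero â in Â, then for every c there is a common zero a in A which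
agrees with â in A/m^c. Let F be a functor from A-algebras (commutative rings under A) to sets which
preserves filtered colimits, c a natural number and ξ ∈ F(Â). Then there is η ∈ F(A) whose image in
F(A/m^c) equals the image of ξ; here π is the A-algebra map Â → A/m^c (pinned by its underlying ring
map) and ρ the A-algebra map A → A/m^c. (The published statement takes for A the henselization at a
prime ideal of an algebra of finite type over a field or over an excellent discrete valuation ring,
for which the approximation property of polynomial systems is quoted; this row carries that property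
as a hypothesis and draws the published conclusion for functors.) -/
theorem result (A : Type u) [CommRing A]
    (m : Ideal A) (hm : m ≠ ⊤)
    (hAP : ∀ (k l c : ℕ) (f : Fin l → MvPolynomial (Fin k) A) (â : Fin k → AdicCompletion m A),
      (∀ i, MvPolynomial.aeval â (f i) = 0) →
      ∃ a : Fin k → A, (∀ i, MvPolynomial.eval a (f i) = 0) ∧
        ∀ j, Ideal.Quotient.mk (m ^ c) (a j) = AdicCompletion.evalₐ m c (â j))
    (F : Under (CommRingCat.of A) ⥤ Type u)
    (hF : ∀ (J : Type u) [SmallCategory J] [IsFiltered J], PreservesColimitsOfShape J F)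
    (c : ℕ)
    (π : Under.mk (CommRingCat.ofHom (algebraMap A (AdicCompletion m A))) ⟶
      Under.mk (CommRingCat.ofHom (algebraMap A (A ⧸ m ^ c))))
    (hπ : π.right = CommRingCat.ofHom
      (AdicCompletion.evalₐ m c : AdicCompletion m A →ₐ[A] A ⧸ m ^ c).toRingHom)
    (ρ : Under.mk (𝟙 (CommRingCat.of A)) ⟶ Under.mk (CommRingCat.ofHom (algebraMap A (A ⧸ m ^ c))))
    (ξ : F.obj (Under.mk (CommRingCat.ofHom (algebraMap A (AdicCompletion m A))))) :
    ∃ η : F.obj (Under.mk (𝟙 (CommRingCat.of A))), F.map ρ η = F.map π ξ := by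
  classical
  let B : Type u := AdicCompletion m A
  obtain ⟨J, _, _, D, cc, hc, hQ, ⟨e⟩⟩ :=
    Groth.Agent.IndAlg.isInd_of_fac (A := A) (B := B)
      (Q := fun E _ _ => Algebra.FinitePresentation A E) (fun E _ _ h => h)
      (fun E E' _ _ _ _ e h => @Algebra.FinitePresentation.equiv A E E' _ _ _ _ _ h e)
      (fun Z _ _ hZ g => ⟨Z, inferInstance, inferInstance, hZ, AlgHom.id A Z, g, AlgHom.comp_id g⟩)
  haveI := hF J
  obtain ⟨j, η₀, hη₀⟩ := CategoryTheory.Limits.Types.jointly_surjective _
    (CategoryTheory.Limits.isColimitOfPreserves F hc) (F.map e.inv ξ)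
  letI : Algebra A (D.obj j).right := (D.obj j).hom.hom.toAlgebra
  haveI : Algebra.FinitePresentation A (D.obj j).right := hQ j
  let ψ' : D.obj j ⟶ Under.mk (CommRingCat.ofHom (algebraMap A B)) := cc.ι.app j ≫ e.hom
  let ψ : (D.obj j).right →ₐ[A] B :=
    { toRingHom := ψ'.right.hom
      commutes' := fun a => congr($(Under.w ψ') a) }
  obtain ⟨k, pr, hpr, s, hs⟩ := Algebra.FinitePresentation.out (R := A) (A := (D.obj j).right)
  let fs : Fin s.card → MvPolynomial (Fin k) A := fun i => (s.equivFin.symm i : MvPolynomial (Fin k) A)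
  let ahat : Fin k → B := fun i => ψ (pr (MvPolynomial.X i))
  have hev : MvPolynomial.aeval ahat = ψ.comp pr := by ext i; simp [ahat]
  have hmem : ∀ p ∈ s, pr p = 0 := fun p hp =>
    (hs ▸ Ideal.subset_span hp : p ∈ RingHom.ker pr.toRingHom)
  obtain ⟨a, ha, hac⟩ := hAP k s.card c fs ahat fun i => by
    rw [hev, AlgHom.comp_apply, hmem _ (s.equivFin.symm i).2, map_zero]
  have hker : RingHom.ker pr.toRingHom ≤ RingHom.ker (MvPolynomial.aeval (R := A) a).toRingHom := by
    rw [← hs, Ideal.span_le]
    intro p hp
    have := ha (s.equivFin ⟨p, hp⟩)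
    simp only [fs, Equiv.symm_apply_apply] at this
    show MvPolynomial.aeval a p = 0
    rw [MvPolynomial.aeval_eq_eval₂Hom, ← this]
    rfl
  let h : (D.obj j).right →ₐ[A] A := AlgHom.liftOfSurjective pr hpr (MvPolynomial.aeval a) hker
  have hh : ∀ p, h (pr p) = MvPolynomial.aeval a p := fun p =>
    AlgHom.liftOfSurjective_apply pr hpr (MvPolynomial.aeval a) hker p
  let h' : D.obj j ⟶ Under.mk (𝟙 (CommRingCat.of A)) :=
    Under.homMk (CommRingCat.ofHom h.toRingHom) (by ext x; exact h.commutes x)
  have hcomp : (Ideal.Quotient.mkₐ A (m ^ c)).comp h = (AdicCompletion.evalₐ m c).comp ψ := by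
    refine AlgHom.ext fun y => ?_
    obtain ⟨p, rfl⟩ := hpr y
    refine AlgHom.congr_fun (φ₁ := ((Ideal.Quotient.mkₐ A (m ^ c)).comp h).comp pr)
      (φ₂ := ((AdicCompletion.evalₐ m c).comp ψ).comp pr) (MvPolynomial.algHom_ext fun i => ?_) p
    simp only [AlgHom.comp_apply, hh, MvPolynomial.aeval_X]
    exact hac i
  have hsq : h' ≫ ρ = ψ' ≫ π := by
    refine CategoryTheory.CommaMorphism.ext (Subsingleton.elim _ _) ?_
    ext y
    show ρ.right (h y) = π.right (ψ y)
    rw [hπ]
    refine Eq.trans ?_ (AlgHom.congr_fun hcomp y)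
    exact congr($(Under.w ρ) (h y))
  refine ⟨F.map h' η₀, ?_⟩
  have hψ : F.map ψ' η₀ = ξ := by
    have h1 : F.map e.hom (F.map (cc.ι.app j) η₀) = F.map e.hom (F.map e.inv ξ) := congrArg _ hη₀
    rw [← Functor.map_comp_apply, ← Functor.map_comp_apply, e.inv_hom_id, Functor.map_id_apply] at h1
    exact h1
  rw [← Functor.map_comp_apply, hsq, Functor.map_comp_apply, hψ]

end Groth.Agent.S14624
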