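import Groth.Statements.S13504
import Groth.Agent.EtConsAb.Compact
import Groth.Agent.EtColim.CohColimLarge
import Groth.Agent.EtColim.TorsionPush

set_option autoImplicit false
universe u
open CategoryTheory CategoryTheory.Limits AlgebraicGeometry
open EtPBC

namespace Groth.Agent.S13504

open Groth.Agent.EtColim.TorsionPush Groth.Agent.EtColim.CohColim Groth.Agent.EtColim.Sections

/-- The torsion part of an injective sheaf has no higher cohomology. -/
theorem subsingleton_H_torsion (X : Scheme.{u}) [CompactSpace X] [QuasiSeparatedSpace X] (I : EtCoh.Ab X)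
    [Injective I] (q : ℕ) : Subsingleton (EtCoh.H X (kernel (toLoc (Set.univ : Set ℕ) I)) (q + 1)) := by
  haveI : CompactSpace (EtCoh.top X).left := inferInstanceAs (CompactSpace X)
  haveI : QuasiSeparatedSpace (EtCoh.top X).left := inferInstanceAs (QuasiSeparatedSpace X)
  let S := torsSeq (Set.univ : Set ℕ) I
  have hS : S.ShortExact := torsSeq_shortExact _ I
  refine subsingleton_of_forall_eq 0 fun x => ?_
  obtain ⟨x₃, rfl⟩ := CategoryTheory.Abelian.Ext.covariant_sequence_exact₁ _ hS x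
    (CategoryTheory.Abelian.Ext.eq_zero_of_injective _) (rfl : q + 1 = q + 1)
  cases q with
  | zero =>
    obtain ⟨s, hs⟩ := surjective_toLoc (Set.univ : Set ℕ) I (EtCoh.top X)
      (Sheaf.H.equiv₀ S.X₃ (EtCore.topIsTerminal X) x₃)
    have hx : x₃ = Sheaf.H.map S.g 0 ((Sheaf.H.equiv₀ S.X₂ (EtCore.topIsTerminal X)).symm s) :=
      (Sheaf.H.equiv₀ S.X₃ (EtCore.topIsTerminal X)).injective (by
        rw [← Sheaf.H.equiv₀_naturality, AddEquiv.apply_symm_apply, hs])
    rw [hx, Sheaf.H.map_apply, CategoryTheory.Abelian.Ext.comp_assoc_of_second_deg_zero,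
      ShortComplex.ShortExact.comp_extClass, CategoryTheory.Abelian.Ext.comp_zero]
  | succ q =>
    have := (isCompactAcyclic_loc (Set.univ : Set ℕ) I).subsingleton_H q
    rw [Subsingleton.elim x₃ 0, CategoryTheory.Abelian.Ext.zero_comp]


/-- Let X be a quasi-compact and quasi-separated scheme. For every constructible abelian sheaf F on the
small étale site of X, every q > 0 and every class α in H^q(X, F) there are a constructible abelian
sheaf G and a monomorphism u : F → G such that H^q(u) sends α to 0. -/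
theorem result (X : Scheme.{u}) [CompactSpace X] [QuasiSeparatedSpace X]
    (F : EtCoh.Ab X) (hF : EtPBC.IsConstructible F) (q : ℕ) (hq : 0 < q) (α : EtCoh.H X F q) :
    ∃ (G : EtCoh.Ab X) (u : F ⟶ G), EtPBC.IsConstructible G ∧ Mono u ∧
      (EtCoh.HF X q).map u α = 0 := by
  classical
  let I := (emb X).obj F
  let T := kernel (toLoc (Set.univ : Set ℕ) I)
  have hFt : EtAcyc.IsLTorsion Set.univ F := fun U s x => by
    obtain ⟨V, g, hv, ht⟩ := Groth.Agent.EtConsAb.isTorsion_of_isConstructible hF U s x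
    obtain ⟨m, hm, hms⟩ := isOfFinAddOrder_iff_nsmul_eq_zero.1 ht
    exact ⟨V, g, m, hv, ⟨hm, fun _ _ _ => Set.mem_univ _⟩, hms⟩
  have hTt : EtCoh.IsTorsion T := fun U s x => by
    obtain ⟨V, g, m, hv, hm, hms⟩ := isLTorsion_kernel (Set.univ : Set ℕ) I U s x
    exact ⟨V, g, hv, isOfFinAddOrder_iff_nsmul_eq_zero.2 ⟨m, hm.1, hms⟩⟩
  let e : F ⟶ T := kernel.lift _ ((embι X).app F) (toLoc_eq_zero (Set.univ : Set ℕ) I hFt _)
  haveI : Mono e := by
    haveI : Mono (e ≫ kernel.ι (toLoc (Set.univ : Set ℕ) I)) := by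
      rw [kernel.lift_ι]; infer_instance
    exact mono_of_mono e (kernel.ι _)
  let P : Groth.Agent.EtConsAb.Stage T → Prop := fun _ => True
  have hP : ∀ p, ∃ q, p ≤ q ∧ P q := fun p => ⟨p, le_refl p, trivial⟩
  haveI := Groth.Agent.EtConsAb.Stage.directed_subtype P hP
  haveI : Nonempty {p // P p} := ⟨⟨Classical.arbitrary _, trivial⟩⟩
  obtain ⟨hcol⟩ := Groth.Agent.EtConsAb.Stage.nonempty_isColimit_cocone hTt P hP
  obtain ⟨hH⟩ := Groth.Agent.EtConsAb.nonempty_isColimit_map_coyoneda hF hcol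
  obtain ⟨i, s, hs⟩ := Types.jointly_surjective _ hH e
  let s : F ⟶ i.1.obj := s
  let c := Groth.Agent.EtConsAb.Stage.cocone P
  replace hs : s ≫ c.ι.app i = e := hs
  obtain ⟨q, rfl⟩ := Nat.exists_eq_succ_of_ne_zero hq.ne'
  haveI := subsingleton_H_torsion X I q
  have h0 : Sheaf.H.map (c.ι.app i) (q + 1) (Sheaf.H.map s (q + 1) α) = 0 :=
    Subsingleton.elim (α := EtCoh.H X T (q + 1)) _ _
  obtain ⟨j, φ, hj⟩ := (Groth.Agent.EtColim.CohColimLarge.coh_colimit (q + 1) hcol).2 i _ h0
  refine ⟨j.1.obj, s ≫ (Groth.Agent.EtConsAb.Stage.diagram P).map φ,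
    Groth.Agent.EtConsAb.Stage.isConstructible_obj j.1, ?_, ?_⟩
  · haveI : Mono ((s ≫ (Groth.Agent.EtConsAb.Stage.diagram P).map φ) ≫ c.ι.app j) := by
      rw [(Category.assoc _ _ _).trans ((congrArg (s ≫ ·) (c.w φ)).trans hs)]; exact ‹Mono e›
    exact mono_of_mono (s ≫ (Groth.Agent.EtConsAb.Stage.diagram P).map φ) (c.ι.app j)
  · exact (Sheaf.H.map_comp_apply s _ α).trans hj

end Groth.Agent.S13504
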