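import Groth.Statements.S13517
import Mathlib
import Groth.Agent.FibDescLib.CechLocal
-- import your own Groth.Agent.* helpers here

set_option autoImplicit false
universe u
open CategoryTheory CategoryTheory.Limits Opposite TopologicalSpace
open FibDesc

namespace Groth.Agent.S13517

/-- In the category of topological spaces with all abelian sheaves as coefficients (where every
continuous map is flat), a continuous map `f : X ⟶ S` admitting a continuous section is universally
of cohomological descent: for every base change `S' ⟶ S`, the augmented Cech simplicial space of the
base-changed map is an augmentation of cohomological 1-descent (its inverse image functor on bounded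
below derived categories of abelian sheaves is fully faithful). (The published statement concludes
2-descent, i.e. adds effective descent; this row states the 1-descent part.) -/
theorem result {X S : TopCat.{u}} (f : X ⟶ S) (s : S ⟶ X)
    (h : s ≫ f = 𝟙 S) : FibDesc.IsUnivCohDescentMap f := fun S' g =>
  (Groth.Agent.FibDescLib.isCohDescentMap_iff _).2 (Groth.Agent.FibDescLib.desc_cech_of_section _
    (pullback.lift (g ≫ s) (𝟙 S') (by rw [Category.assoc, h, Category.comp_id, Category.id_comp]))
    (pullback.lift_snd _ _ _))

end Groth.Agent.S13517
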