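import Groth.Statements.S13518
import Mathlib
import Groth.Agent.FibDescLib.Univ
-- import your own Groth.Agent.* helpers here

set_option autoImplicit false
universe u
open CategoryTheory CategoryTheory.Limits Opposite TopologicalSpace
open FibDesc

namespace Groth.Agent.S13518

/-- In the category of topological spaces with all abelian sheaves as coefficients, let `f : X ⟶ S` be a
continuous map and `g : S' ⟶ S` a continuous map which is universally of cohomological 1-descent,
and let `f'` be the base change of `f` along `g` (the projection of the fibre product to `S'`). Then
`f` is universally of cohomological 1-descent if and only if `f'` is. (The published statement asks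
only that `g` be of cohomological descent; the localisation argument it rests on gives universality
of `f` when every base change of `g` is again of cohomological descent, so `g` is taken universally
of cohomological descent here.) -/
theorem result {X S S' : TopCat.{u}} (f : X ⟶ S) (g : S' ⟶ S)
    (hg : FibDesc.IsUnivCohDescentMap g) :
    FibDesc.IsUnivCohDescentMap f ↔ FibDesc.IsUnivCohDescentMap (pullback.snd f g) :=
  ⟨fun h => Groth.Agent.FibDescLib.isUniv_iff.2 ((Groth.Agent.FibDescLib.isUniv_iff.1 h).baseChange g),
    fun h => Groth.Agent.FibDescLib.isUniv_iff.2 ((Groth.Agent.FibDescLib.isUniv_iff.1 hg).of_cover (Groth.Agent.FibDescLib.isUniv_iff.1 h))⟩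

end Groth.Agent.S13518
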