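import Groth.Statements.S1352
import Mathlib

set_option autoImplicit false
universe u
open FlatMor

namespace Groth.Agent.S1352

open MvPolynomial in
/-- The coefficients of a generic polynomial with exponents in `V`. -/
noncomputable abbrev gen {n : ℕ} {B : Type u} [CommRing B] (V : Finset (Fin n →₀ ℕ)) (x : V → B) :
    MvPolynomial (Fin n) B :=
  ∑ v : V, monomial v.1 (x v)

open MvPolynomial in
theorem gen_map {n : ℕ} {B C : Type u} [CommRing B] [CommRing C] (V : Finset (Fin n →₀ ℕ))
    (x : V → B) (g : B →+* C) : (gen V x).map g = gen V (g ∘ x) := by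
  simp [gen, map_monomial]

open MvPolynomial in
theorem coeff_gen {n : ℕ} {B : Type u} [CommRing B] (V : Finset (Fin n →₀ ℕ)) (x : V → B) (v : V) :
    (gen V x).coeff v.1 = x v := by
  classical
  simp only [gen, coeff_sum, coeff_monomial]
  rw [Finset.sum_eq_single v (fun w _ hw => if_neg fun e => hw (Subtype.ext e)) (by simp), if_pos rfl]

open MvPolynomial in
theorem eq_gen {n : ℕ} {B : Type u} [CommRing B] (V : Finset (Fin n →₀ ℕ))
    (Q : MvPolynomial (Fin n) B) (hQ : Q.support ⊆ V) : Q = gen V (fun v => Q.coeff v.1) := by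
  classical
  conv_lhs => rw [← Q.support_sum_monomial_coeff]
  rw [Finset.sum_subset hQ (fun v _ hv => by rw [notMem_support_iff.mp hv, map_zero]),
    ← Finset.sum_coe_sort]


/-- A nontrivial finite type algebra over a field has a point in the algebraic closure. -/
theorem exists_point_algebraicClosure (K B : Type u) [Field K] [CommRing B] [Algebra K B]
    [Algebra.FiniteType K B] [Nontrivial B] : Nonempty (B →ₐ[K] AlgebraicClosure K) := by
  obtain ⟨M, hM⟩ := Ideal.exists_maximal B
  let : Field (B ⧸ M) := Ideal.Quotient.field M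
  have : Algebra.FiniteType K (B ⧸ M) :=
    .of_surjective (Ideal.Quotient.mkₐ K M) Ideal.Quotient.mk_surjective
  have : Module.Finite K (B ⧸ M) := finite_of_finite_type_of_isJacobsonRing K (B ⧸ M)
  have : Algebra.IsAlgebraic K (B ⧸ M) := Algebra.IsAlgebraic.of_finite K (B ⧸ M)
  exact ⟨(IsAlgClosed.lift : B ⧸ M →ₐ[K] AlgebraicClosure K).comp (Ideal.Quotient.mkₐ K M)⟩

/-- A finite type algebra into which a domain injects has a point in the algebraic closure. -/
theorem exists_algHom_algebraicClosure {A : Type u} [CommRing A] [IsDomain A] (D : Type u)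
    [CommRing D] [Algebra A D] [Algebra.FiniteType A D] (hinj : Function.Injective (algebraMap A D)) :
    Nonempty (D →ₐ[A] AlgebraicClosure (FractionRing A)) := by
  let K := FractionRing A
  let Ω := AlgebraicClosure K
  obtain ⟨Q, hQ, -, hQc⟩ := Ideal.exists_comap_eq_of_mem_minimalPrimes (algebraMap A D)
    (I := (⊥ : Ideal D)) (⊥ : Ideal A) (by
      rw [← RingHom.ker_eq_comap_bot, (RingHom.injective_iff_ker_eq_bot _).mp hinj]
      show (⊥ : Ideal A) ∈ minimalPrimes A
      rw [IsDomain.minimalPrimes_eq_singleton_bot]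
      exact Set.mem_singleton _)
  have hAQ : Function.Injective (algebraMap A Q.ResidueField) := by
    refine (injective_iff_map_eq_zero _).mpr fun f hf => ?_
    rw [IsScalarTower.algebraMap_apply A D Q.ResidueField,
      Ideal.algebraMap_residueField_eq_zero, ← Ideal.mem_comap, hQc, Ideal.mem_bot] at hf
    exact hf
  let lK : K →ₐ[A] Q.ResidueField :=
    { IsFractionRing.lift hAQ with commutes' := fun r => IsFractionRing.lift_algebraMap hAQ r }
  let B := TensorProduct A K D
  have : Nontrivial B := (Algebra.TensorProduct.lift lK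
    (IsScalarTower.toAlgHom A D Q.ResidueField) fun _ _ => .all _ _).toRingHom.domain_nontrivial
  obtain ⟨ev⟩ := exists_point_algebraicClosure K B
  exact ⟨(ev.restrictScalars A).comp Algebra.TensorProduct.includeRight⟩

/-- For a domain A and a polynomial P in finitely many variables over A which is irreducible over an
algebraic closure of the fraction field of A: Then there is a nonzero f in A such that for every
ring map from A[1/f] to a field (in the same universe) the image of P is irreducible. (The source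
leaves the nonvanishing of f implicit; for f = 0 the conclusion would be vacuous.) -/
theorem result {A : Type u} [CommRing A] [IsDomain A] {n : ℕ} (P : MvPolynomial (Fin n) A)
    (hP : Irreducible (MvPolynomial.map (algebraMap A (AlgebraicClosure (FractionRing A))) P)) :
    ∃ f : A, f ≠ 0 ∧ ∀ (κ : Type u) [Field κ] (φ : Localization.Away f →+* κ),
      Irreducible (MvPolynomial.map (φ.comp (algebraMap A (Localization.Away f))) P) := by
  classical
  let K := FractionRing A
  let Ω := AlgebraicClosure K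
  set P' := MvPolynomial.map (algebraMap A Ω) P with hP'
  have hunit : ∀ {F : Type u} [Field F] (Q : MvPolynomial (Fin n) F),
      (∃ v, v ≠ 0 ∧ Q.coeff v ≠ 0) → ¬ IsUnit Q := by
    intro F _ Q ⟨v, hv0, hv⟩ hu
    have := MvPolynomial.isUnit_iff.mp hu
    exact hv (by simpa using (this.2 v hv0).eq_zero)
  have hnc : ∀ {F : Type u} [Field F] (Q : MvPolynomial (Fin n) F),
      Q ≠ 0 → ¬ IsUnit Q → ∃ v, v ≠ 0 ∧ Q.coeff v ≠ 0 := by
    intro F _ Q h0 hu
    by_contra h
    push Not at h
    refine hu (MvPolynomial.isUnit_iff.mpr ⟨Ne.isUnit fun hz => h0 ?_, fun v hv => by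
      rw [h v hv]; exact IsNilpotent.zero⟩)
    ext v
    by_cases hv : v = 0
    · rw [hv, hz, MvPolynomial.coeff_zero]
    · rw [h v hv, MvPolynomial.coeff_zero]
  obtain ⟨v₁, hv₁, hv₁P⟩ := hnc P' hP.ne_zero hP.not_isUnit
  have hv₁A : P.coeff v₁ ≠ 0 := fun h => hv₁P (by rw [hP', MvPolynomial.coeff_map, h, map_zero])
  let V : Finset (Fin n →₀ ℕ) :=
    Finset.Iic (Finsupp.equivFunOnFinite.symm fun _ => P.totalDegree)
  let C₀ := MvPolynomial (V ⊕ V) A
  let qG : MvPolynomial (Fin n) C₀ := gen V (fun v => MvPolynomial.X (Sum.inl v))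
  let rG : MvPolynomial (Fin n) C₀ := gen V (fun v => MvPolynomial.X (Sum.inr v))
  let J : Ideal C₀ := Ideal.span (Set.range fun v =>
    (qG * rG - MvPolynomial.map (algebraMap A C₀) P).coeff v)
  let z : V × V → C₀ ⧸ J := fun p =>
    Ideal.Quotient.mk J (MvPolynomial.X (Sum.inl p.1) * MvPolynomial.X (Sum.inr p.2))
  have key : ∀ p : V × V, p.1.1 ≠ 0 → p.2.1 ≠ 0 →
      ∃ f : A, f ≠ 0 ∧ algebraMap A (Localization.Away (z p)) f = 0 := by
    intro p hp1 hp2
    by_contra hcon
    push Not at hcon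
    let D := Localization.Away (z p)
    have : Algebra.FiniteType A (C₀ ⧸ J) :=
      .of_surjective (Ideal.Quotient.mkₐ A J) Ideal.Quotient.mk_surjective
    have : Algebra.FiniteType (C₀ ⧸ J) D := inferInstance
    have : Algebra.FiniteType A D := Algebra.FiniteType.trans (S := C₀ ⧸ J) ‹_› ‹_›
    have hinj : Function.Injective (algebraMap A D) := (injective_iff_map_eq_zero _).mpr fun f hf => by
      by_contra hne; exact hcon f hne hf
    obtain ⟨evD⟩ := exists_algHom_algebraicClosure D hinj
    let g : C₀ →ₐ[A] Ω := evD.comp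
      ((IsScalarTower.toAlgHom A (C₀ ⧸ J) D).comp (Ideal.Quotient.mkₐ A J))
    have hg : ∀ x ∈ J, g x = 0 := fun x hx => by
      simp [g, Ideal.Quotient.eq_zero_iff_mem.mpr hx]
    have hprod : qG.map (g : C₀ →+* Ω) * rG.map (g : C₀ →+* Ω) = P' := by
      rw [← map_mul, ← sub_eq_zero, hP']
      rw [show MvPolynomial.map (algebraMap A Ω) P =
        (MvPolynomial.map (algebraMap A C₀) P).map (g : C₀ →+* Ω) from by
          rw [MvPolynomial.map_map, g.comp_algebraMap], ← map_sub]
      ext v
      rw [MvPolynomial.coeff_map, MvPolynomial.coeff_zero]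
      exact hg _ (Ideal.subset_span ⟨v, rfl⟩)
    have hu : IsUnit (g (MvPolynomial.X (Sum.inl p.1) * MvPolynomial.X (Sum.inr p.2))) :=
      (IsLocalization.Away.algebraMap_isUnit (S := D) (z p)).map evD
    rw [map_mul, IsUnit.mul_iff] at hu
    rcases hP.isUnit_or_isUnit hprod.symm with h | h
    · refine hunit _ ⟨p.1.1, hp1, ?_⟩ h
      rw [gen_map, coeff_gen]
      exact hu.1.ne_zero
    · refine hunit _ ⟨p.2.1, hp2, ?_⟩ h
      rw [gen_map, coeff_gen]
      exact hu.2.ne_zero
  choose! fz hfz0 hfz using key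
  let s := (Finset.univ : Finset (V × V)).filter fun p => p.1.1 ≠ 0 ∧ p.2.1 ≠ 0
  refine ⟨P.coeff v₁ * ∏ p ∈ s, fz p, mul_ne_zero hv₁A (Finset.prod_ne_zero_iff.mpr fun p hp =>
    hfz0 p (Finset.mem_filter.mp hp).2.1 (Finset.mem_filter.mp hp).2.2), fun κ _ φ => ?_⟩
  set ψ := φ.comp (algebraMap A (Localization.Away (P.coeff v₁ * ∏ p ∈ s, fz p)))
  have hψ : IsUnit (ψ (P.coeff v₁ * ∏ p ∈ s, fz p)) :=
    (IsLocalization.Away.algebraMap_isUnit _).map φ
  rw [map_mul, IsUnit.mul_iff] at hψ
  set Pk := MvPolynomial.map ψ P with hPk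
  refine ⟨hunit Pk ⟨v₁, hv₁, by rw [hPk, MvPolynomial.coeff_map]; exact hψ.1.ne_zero⟩,
    fun Q R hQR => ?_⟩
  by_contra hcon
  push Not at hcon
  have hPk0 : Pk ≠ 0 := fun h => hψ.1.ne_zero (by rw [← MvPolynomial.coeff_map, ← hPk, h, MvPolynomial.coeff_zero])
  have hQ0 : Q ≠ 0 := fun h => hPk0 (by rw [hQR, h, zero_mul])
  have hR0 : R ≠ 0 := fun h => hPk0 (by rw [hQR, h, mul_zero])
  have hdeg : Q.totalDegree + R.totalDegree ≤ P.totalDegree := by
    rw [← MvPolynomial.totalDegree_mul_of_isDomain hQ0 hR0, ← hQR, hPk]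
    exact Finset.sup_mono (MvPolynomial.support_map_subset ψ P)
  have hsup : ∀ (T : MvPolynomial (Fin n) κ), T.totalDegree ≤ P.totalDegree → T.support ⊆ V := by
    intro T hT v hv
    refine Finset.mem_Iic.mpr fun i => ?_
    simpa using ((MvPolynomial.monomial_le_degreeOf i hv).trans
      (MvPolynomial.degreeOf_le_totalDegree T i)).trans hT
  have hQV := hsup Q (by omega)
  have hRV := hsup R (by omega)
  obtain ⟨v, hv0, hv⟩ := hnc Q hQ0 hcon.1
  obtain ⟨w, hw0, hw⟩ := hnc R hR0 hcon.2
  let : Algebra A κ := ψ.toAlgebra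
  let p : V × V := (⟨v, hQV (MvPolynomial.mem_support_iff.mpr hv)⟩,
    ⟨w, hRV (MvPolynomial.mem_support_iff.mpr hw)⟩)
  let g : C₀ →ₐ[A] κ := MvPolynomial.aeval
    (Sum.elim (fun v : V => Q.coeff v.1) (fun v : V => R.coeff v.1))
  have hgJ : ∀ x ∈ J, g x = 0 := by
    show J ≤ RingHom.ker g
    refine Ideal.span_le.mpr ?_
    rintro _ ⟨u, rfl⟩
    show g ((qG * rG - MvPolynomial.map (algebraMap A C₀) P).coeff u) = 0
    rw [show g ((qG * rG - MvPolynomial.map (algebraMap A C₀) P).coeff u) =
      ((qG * rG - MvPolynomial.map (algebraMap A C₀) P).map (g : C₀ →+* κ)).coeff u from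
        (MvPolynomial.coeff_map _ _ _).symm]
    rw [map_sub, map_mul, gen_map, gen_map, MvPolynomial.map_map, g.comp_algebraMap]
    have hq : gen V ((g : C₀ →+* κ) ∘ fun v => MvPolynomial.X (Sum.inl v)) = Q := by
      rw [show ((g : C₀ →+* κ) ∘ fun v => MvPolynomial.X (Sum.inl v)) = fun v => Q.coeff v.1 from
        funext fun v => MvPolynomial.aeval_X _ _]
      exact (eq_gen V Q hQV).symm
    have hr : gen V ((g : C₀ →+* κ) ∘ fun v => MvPolynomial.X (Sum.inr v)) = R := by
      rw [show ((g : C₀ →+* κ) ∘ fun v => MvPolynomial.X (Sum.inr v)) = fun v => R.coeff v.1 from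
        funext fun v => MvPolynomial.aeval_X _ _]
      exact (eq_gen V R hRV).symm
    rw [hq, hr, ← hQR, RingHom.algebraMap_toAlgebra, ← hPk, sub_self, MvPolynomial.coeff_zero]
  have hu : IsUnit (Ideal.Quotient.liftₐ J g hgJ (z p)) := by
    refine Ne.isUnit ?_
    show g (MvPolynomial.X (Sum.inl p.1) * MvPolynomial.X (Sum.inr p.2)) ≠ 0
    rw [map_mul, MvPolynomial.aeval_X, MvPolynomial.aeval_X]
    exact mul_ne_zero hv hw
  let G : Localization.Away (z p) →+* κ :=
    IsLocalization.Away.lift (z p) (g := (Ideal.Quotient.liftₐ J g hgJ).toRingHom) hu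
  have h0 := congrArg G (hfz p hv0 hw0)
  rw [map_zero, IsScalarTower.algebraMap_apply A (C₀ ⧸ J) (Localization.Away (z p))] at h0
  rw [IsLocalization.Away.lift_eq] at h0
  have h1 : ψ (fz p) = 0 := ((Ideal.Quotient.liftₐ J g hgJ).commutes (fz p)).symm.trans h0
  have hpu : IsUnit (ψ (∏ q ∈ s, fz q)) := hψ.2
  rw [map_prod, IsUnit.prod_iff] at hpu
  exact (hpu p (Finset.mem_filter.mpr ⟨Finset.mem_univ _, hv0, hw0⟩)).ne_zero h1

end Groth.Agent.S1352
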