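import Groth.Statements.S13523
import Mathlib
import Groth.Agent.FibDescLib.CechLocal
-- import your own Groth.Agent.* helpers here

set_option autoImplicit false
universe u
open CategoryTheory CategoryTheory.Limits Opposite TopologicalSpace
open FibDesc

namespace Groth.Agent.S13523

/-- A surjective local homeomorphism `f : X ⟶ S` of topological spaces is universally of cohomological
1-descent for abelian sheaves. -/
theorem result {X S : TopCat.{u}} (f : X ⟶ S)
    (hf : IsLocalHomeomorph f) (hsurj : Function.Surjective f) : FibDesc.IsUnivCohDescentMap f := fun S' g => by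
  refine (Groth.Agent.FibDescLib.isCohDescentMap_iff _).2 ?_
  choose e he hef using hf
  choose x hx using hsurj
  let W : S' → TopologicalSpace.Opens S' := fun t =>
    ⟨g ⁻¹' (e (x (g t))).target, (e (x (g t))).open_target.preimage g.hom.continuous⟩
  let q : ∀ t, TopCat.of (W t) ⟶ S' := fun t => TopCat.ofHom ⟨Subtype.val, continuous_subtype_val⟩
  refine Groth.Agent.FibDescLib.desc_cech_of_openCover _ q
    (fun t => (W t).isOpen.isOpenEmbedding_subtypeVal) (fun t => ?_) fun t => ?_
  · refine ⟨t, ⟨t, ?_⟩, rfl⟩
    show g t ∈ (e (x (g t))).target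
    have h₁ := (e (x (g t))).map_source (he (x (g t)))
    have h₂ : e (x (g t)) (x (g t)) = f (x (g t)) := congrFun (hef (x (g t))).symm _
    rwa [h₂, hx] at h₁
  · let σ : TopCat.of (W t) ⟶ X := TopCat.ofHom ⟨fun w => (e (x (g t))).symm (g w.1),
      (e (x (g t))).continuousOn_symm.comp_continuous
        (g.hom.continuous.comp continuous_subtype_val) fun w => w.2⟩
    have hσ : σ ≫ f = q t ≫ g := by
      ext w
      show f ((e (x (g t))).symm (g w.1)) = g w.1
      rw [congrFun (hef (x (g t))) _]
      exact (e (x (g t))).right_inv w.2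
    exact Groth.Agent.FibDescLib.desc_cech_of_section _
      (pullback.lift (pullback.lift σ (q t) hσ) (𝟙 _)
        ((pullback.lift_snd _ _ _).trans (Category.id_comp _).symm)) (pullback.lift_snd _ _ _)

end Groth.Agent.S13523
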