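import Groth.Statements.S13529
import Mathlib
import Groth.Agent.FibDescLib.Hyper
-- import your own Groth.Agent.* helpers here

set_option autoImplicit false
universe u
open CategoryTheory CategoryTheory.Limits Opposite TopologicalSpace
open FibDesc

namespace Groth.Agent.S13529

/-- In the category of topological spaces with all abelian sheaves as coefficients (every continuous map
being flat), let `S` be a space and `K` a simplicial space over `S` whose coskeleta over `S` exist,
and assume `K` is a hypercovering of `S` for the topology of universal cohomological descent: the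
structure map `K_0 ⟶ S` and, for every `n`, the canonical map `K_{n+1} ⟶ (cosk_n K)_{n+1}`
(coskeleton computed over `S`) are universally of cohomological 1-descent. Then the augmented
simplicial space `K ⟶ S` is an augmentation of cohomological 1-descent for abelian sheaves. (The
published statement concludes universal cohomological descent of the augmentation, i.e. the same
after every base change `S' ⟶ S`; this row states it over `S` itself.) -/
theorem result {S : TopCat.{u}}
    [∀ (n : ℕ) (G : (SimplexCategory.Truncated n)ᵒᵖ ⥤ Over S),
      (SimplexCategory.Truncated.inclusion n).op.HasRightKanExtension G]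
    (K : SimplicialObject (Over S))
    (h0 : FibDesc.IsUnivCohDescentMap (K.obj (op (SimplexCategory.mk 0))).hom)
    (hn : ∀ n : ℕ, FibDesc.IsUnivCohDescentMap
      (((SimplicialObject.coskAdj n).unit.app K).app (op (SimplexCategory.mk (n + 1)))).left) :
    FibDesc.IsCohDescentTop
      (AugmentedSimplexCategory.equivAugmentedSimplicialObject.inverse.obj
        (SimplicialObject.augment (K ⋙ Over.forget S) S (K.obj (op (SimplexCategory.mk 0))).hom
          (fun i g₁ g₂ => (Over.w (K.map g₁.op)).trans (Over.w (K.map g₂.op)).symm))) := by
  refine (Groth.Agent.FibDescLib.isCohDescentTop_iff.{u} (D := SimplexCategory) _).2 ?_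
  refine Groth.Agent.FibDescLib.Desc.of_iso ?_ (Groth.Agent.FibDescLib.desc_hyper K
    (Groth.Agent.FibDescLib.isUniv_iff.1 h0) (fun n => Groth.Agent.FibDescLib.isUniv_iff.1 (hn n)))
  refine NatIso.ofComponents (fun a => match a with
    | ⟨.of _⟩ => Iso.refl _
    | ⟨.star⟩ => Iso.refl _) (fun {a b} φ => ?_)
  obtain ⟨a⟩ := a
  obtain ⟨b⟩ := b
  obtain ⟨φ⟩ := φ
  cases a <;> cases b <;>
    first
    | exact (φ : PEmpty).elim
    | (refine (Category.comp_id _).trans (Eq.trans ?_ (Category.id_comp _).symm); rfl)
    | (refine (Category.comp_id _).trans (Eq.trans ?_ (Category.id_comp _).symm)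
       exact (Over.w (K.map _)).symm)


end Groth.Agent.S13529
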