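import Groth.Statements.S13532
import Groth.Agent.AlgSpCov.CodimQf.Space
import Groth.Agent.FlatMor.GenericPts

set_option autoImplicit false
universe u
open CategoryTheory Limits AlgebraicGeometry

namespace Groth.Agent.S13532

open CategoryTheory Limits AlgebraicGeometry in
/-- A morphism of finite type between locally Noetherian schemes which is birational (an isomorphism
over a dense open of the target whose preimage is dense in the source) has finite fibres over all
points of the target of codimension at most 1, i.e. whose local ring has Krull dimension at most 1. -/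
theorem result {X Y : Scheme.{u}}
    [IsLocallyNoetherian X] [IsLocallyNoetherian Y] (f : Y ⟶ X) [LocallyOfFiniteType f] [QuasiCompact f]
    (U : X.Opens) (hU : Dense (U : Set X)) (hU' : Dense ((f ⁻¹ᵁ U : Y.Opens) : Set Y)) (hiso : IsIso (f ∣_ U))
    (x : X) (hx : ringKrullDim (X.presheaf.stalk x) ≤ 1) :
    (f.base ⁻¹' {x}).Finite := by
  have : LocallyQuasiFinite ((f ⁻¹ᵁ U).ι ≫ f) := by
    rw [← morphismRestrict_ι]
    infer_instance
  have hgen : ∀ ξ : Y, (∀ z, z ⤳ ξ → z = ξ) → Dual3.resTrdeg f ξ = 0 := fun ξ hξ => by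
    have hmem : ξ ∈ f ⁻¹ᵁ U := FlatMor.GenericPts.mem_of_dense hU'
      ((FlatMor.GenericPts.closure_mem_irreducibleComponents_iff ξ).2 fun z hz => by rw [hξ z hz])
    refine AlgSpCov.CodimQf.resTrdeg_eq_zero_of_quasiFiniteAt f ξ ?_
    exact (Scheme.Hom.quasiFiniteAt_comp_iff_of_isOpenImmersion (f := (f ⁻¹ᵁ U).ι) (x := ⟨ξ, hmem⟩)).1
      (Scheme.Hom.quasiFiniteAt _ _)
  have hqf : ∀ y : Y, f y = x → f.QuasiFiniteAt y := fun y hy =>
    AlgSpCov.CodimQf.quasiFiniteAt_of_codim_le_one f y (by rw [hy]; exact hx) fun ξ _ h => hgen ξ h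
  have hd : ∀ z : f.fiber x, IsOpen ({z} : Set (f.fiber x)) := fun z => by
    have hz : f (f.fiberι x z) = x := by
      have := Set.mem_range_self (f := f.fiberι x) z
      rwa [f.range_fiberι] at this
    have h := hqf _ hz
    rw [Scheme.Hom.quasiFiniteAt_iff_isOpen_singleton_asFiber] at h
    have key : ∀ (x' : X) (y : Y) (e : f y = x') (w : f.fiber x'), f.fiberι x' w = y →
        IsOpen ({f.asFiber y} : Set (f.fiber (f y))) → IsOpen ({w} : Set (f.fiber x')) := by
      intro x' y e w hw h'
      subst e
      rwa [show f.asFiber y = w from (f.fiberι _).isEmbedding.injective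
        ((f.fiberι_asFiber _).trans hw.symm)] at h'
    exact key x _ hz z rfl h
  have : DiscreteTopology (f.fiber x) := discreteTopology_iff_isOpen_singleton.2 hd
  have : CompactSpace (f.fiber x) := inferInstance
  have := finite_of_compact_of_discrete (X := f.fiber x)
  rw [show f.base ⁻¹' {x} = Set.range (f.fiberι x) from (f.range_fiberι x).symm]
  exact Set.finite_range _

end Groth.Agent.S13532
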