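import Groth.Statements.S13533
import Mathlib.RingTheory.LocalRing.Module
import Mathlib.LinearAlgebra.Dimension.StrongRankCondition
import Mathlib.Algebra.Module.LocalizedModule.Submodule
import Mathlib.RingTheory.Ideal.AssociatedPrime.Finiteness
import Mathlib.RingTheory.Ideal.MinimalPrime.Noetherian
import Mathlib.RingTheory.Spectrum.Prime.Topology
import Mathlib.RingTheory.TensorProduct.IsBaseChangePi
import Mathlib.RingTheory.Support
import Mathlib.RingTheory.Ideal.Height

set_option autoImplicit false
universe u
open ResProp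

namespace Groth.Agent.S13533
open TensorProduct

variable {A : Type u} [CommRing A] {M : Type u} [AddCommGroup M] [Module A M]

/-- The subspace of the fibre at `q` spanned by the image of a set. -/
noncomputable def fib (q : Ideal A) [q.IsPrime] (s : Set M) :
    Submodule q.ResidueField (q.ResidueField ⊗[A] M) :=
  Submodule.span q.ResidueField ((fun x => (1 : q.ResidueField) ⊗ₜ[A] x) '' s)

theorem fib_span (q : Ideal A) [q.IsPrime] (s : Set M) :
    fib q (Submodule.span A s : Set M) = fib q s := by
  refine le_antisymm (Submodule.span_le.2 ?_) (Submodule.span_mono (Set.image_mono Submodule.subset_span))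
  rintro _ ⟨x, hx, rfl⟩
  induction hx using Submodule.span_induction with
  | mem x hx => exact Submodule.subset_span ⟨x, hx, rfl⟩
  | zero => simp
  | add a b _ _ ha hb => simp only [tmul_add]; exact add_mem ha hb
  | smul c a _ ha =>
    simp only [tmul_smul]
    rw [← algebraMap_smul q.ResidueField c]
    exact Submodule.smul_mem _ _ ha

theorem fib_univ (q : Ideal A) [q.IsPrime] : fib q (Set.univ : Set M) = ⊤ := by
  refine eq_top_iff.2 fun x _ => ?_
  induction x with
  | zero => exact zero_mem _
  | add a b ha hb => exact add_mem (ha trivial) (hb trivial)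
  | tmul a m =>
    rw [show a ⊗ₜ[A] m = a • ((1 : q.ResidueField) ⊗ₜ[A] m) by rw [smul_tmul', smul_eq_mul, mul_one]]
    exact Submodule.smul_mem _ _ (Submodule.subset_span ⟨m, trivial, rfl⟩)

theorem fib_eq_top_iff [Module.Finite A M] (q : PrimeSpectrum A) (S : Submodule A M) :
    fib q.asIdeal (S : Set M) = ⊤ ↔ q ∉ Module.support A (M ⧸ S) := by
  rw [Module.mem_support_iff_nontrivial_residueField_tensorProduct, not_nontrivial_iff_subsingleton]
  have hex := lTensor_exact q.asIdeal.ResidueField (LinearMap.exact_subtype_mkQ S) S.mkQ_surjective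
  have hsurj := LinearMap.lTensor_surjective q.asIdeal.ResidueField S.mkQ_surjective
  constructor
  · intro h
    refine subsingleton_iff.2 fun a b => ?_
    suffices hz : ∀ a, a = (0 : q.asIdeal.ResidueField ⊗[A] (M ⧸ S)) by rw [hz a, hz b]
    intro a
    obtain ⟨x, rfl⟩ := hsurj a
    have hx : x ∈ fib q.asIdeal (S : Set M) := h ▸ trivial
    induction hx using Submodule.span_induction with
    | mem x hx =>
      obtain ⟨s, hs, rfl⟩ := hx
      rw [LinearMap.lTensor_tmul, (Submodule.Quotient.mk_eq_zero S).2 hs |> fun e =>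
        (show S.mkQ s = 0 from e), tmul_zero]
    | zero => simp
    | add a b _ _ ha hb => rw [map_add, ha, hb, add_zero]
    | smul c a _ ha =>
      have : (S.mkQ.lTensor q.asIdeal.ResidueField) (c • a) = c • (S.mkQ.lTensor q.asIdeal.ResidueField) a :=
        map_smul (TensorProduct.AlgebraTensorModule.lTensor q.asIdeal.ResidueField q.asIdeal.ResidueField S.mkQ) c a
      rw [this, ha, smul_zero]
  · intro h
    refine eq_top_iff.2 fun x _ => ?_
    obtain ⟨y, rfl⟩ := (hex x).1 (Subsingleton.elim _ _)
    induction y with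
    | zero => simp
    | add a b ha hb => rw [map_add]; exact add_mem (ha trivial) (hb trivial)
    | tmul a m =>
      rw [LinearMap.lTensor_tmul,
        show a ⊗ₜ[A] (S.subtype m : M) = a • ((1 : q.asIdeal.ResidueField) ⊗ₜ[A] (m : M)) by
          rw [smul_tmul', smul_eq_mul, mul_one]; rfl]
      exact Submodule.smul_mem _ _ (Submodule.subset_span ⟨m, m.2, rfl⟩)

/-- `m` further elements complete `s` to generators at `q`. -/
def Cpl (q : PrimeSpectrum A) (s : Set M) (m : ℕ) : Prop :=
  ∃ u : Fin m → M, fib q.asIdeal (s ∪ Set.range u) = ⊤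

theorem Cpl.mono {q : PrimeSpectrum A} {s : Set M} {m m' : ℕ} (h : Cpl q s m) (hm : m ≤ m') :
    Cpl q s m' := by
  obtain ⟨u, hu⟩ := h
  refine ⟨fun i => if hi : (i : ℕ) < m then u ⟨i, hi⟩ else 0, top_le_iff.1 (hu ▸ ?_)⟩
  refine Submodule.span_mono (Set.image_mono (Set.union_subset_union_right _ ?_))
  rintro _ ⟨i, rfl⟩
  exact ⟨⟨i, lt_of_lt_of_le i.2 hm⟩, by simp⟩

theorem isClosed_not_cpl [Module.Finite A M] (s : Set M) (m : ℕ) :
    IsClosed {q : PrimeSpectrum A | ¬ Cpl q s m} := by
  have : {q : PrimeSpectrum A | ¬ Cpl q s m} =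
      ⋂ u : Fin m → M, Module.support A (M ⧸ Submodule.span A (s ∪ Set.range u)) := by
    ext q
    simp only [Set.mem_ofPred_eq, Set.mem_iInter, Cpl, not_exists]
    exact forall_congr' fun u => by rw [← fib_span, fib_eq_top_iff, not_not]
  rw [this]
  refine isClosed_iInter fun u => ?_
  rw [Module.support_eq_zeroLocus]
  exact PrimeSpectrum.isClosed_zeroLocus _

theorem exists_avoid {N : ℕ} (Q : Finset (PrimeSpectrum A)) (c : PrimeSpectrum A → Fin (N + 1) → A)
    (hc : ∀ q ∈ Q, ∃ i, c q i ∉ q.asIdeal) :
    ∃ a : Fin N → A, ∀ q ∈ Q,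
      c q (Fin.last N) - ∑ i, a i * c q i.castSucc ∉ q.asIdeal := by
  classical
  induction Q using Finset.strongInduction with
  | _ Q ih =>
    rcases Q.eq_empty_or_nonempty with rfl | hne
    · exact ⟨0, by simp⟩
    obtain ⟨q, hq, hmin⟩ := Q.exists_minimal hne
    obtain ⟨a, ha⟩ := ih (Q.erase q) (Finset.erase_ssubset hq) (fun p hp => hc p (Finset.mem_of_mem_erase hp))
    by_cases hgood : c q (Fin.last N) - ∑ i, a i * c q i.castSucc ∉ q.asIdeal
    · exact ⟨a, fun p hp => if h : p = q then h ▸ hgood else ha p (Finset.mem_erase.2 ⟨h, hp⟩)⟩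
    obtain ⟨j, hj⟩ : ∃ j : Fin N, c q j.castSucc ∉ q.asIdeal := by
      by_contra hall
      push Not at hall hgood
      obtain ⟨i, hi⟩ := hc q hq
      refine hi ?_
      refine Fin.lastCases ?_ hall i
      have hs : ∑ i, a i * c q i.castSucc ∈ q.asIdeal :=
        sum_mem fun i _ => q.asIdeal.mul_mem_left _ (hall i)
      simpa using add_mem hgood hs
    have hsep : ∀ p ∈ Q.erase q, ∃ e : A, e ∈ p.asIdeal ∧ e ∉ q.asIdeal := fun p hp => by
      obtain ⟨hpq, hp⟩ := Finset.mem_erase.1 hp
      exact SetLike.not_le_iff_exists.1 fun hle => hpq (le_antisymm hle (hmin hp hle))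
    choose! e he1 he2 using hsep
    set E := ∏ p ∈ Q.erase q, e p with hE
    refine ⟨Function.update a j (a j + E), fun p hp => ?_⟩
    have hsum : ∑ i, Function.update a j (a j + E) i * c p i.castSucc =
        ∑ i, a i * c p i.castSucc + E * c p j.castSucc := by
      rw [Finset.sum_eq_add_sum_sdiff_singleton_of_mem (Finset.mem_univ j),
        Finset.sum_eq_add_sum_sdiff_singleton_of_mem (Finset.mem_univ j) (fun i => a i * c p i.castSucc),
        Function.update_self, Finset.sum_congr rfl (g := fun i => a i * c p i.castSucc) (fun i hi => by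
          rw [Function.update_of_ne (by simp at hi; exact hi)])]
      ring
    rw [hsum, ← sub_sub]
    by_cases hpq : p = q
    · subst hpq
      intro hmem
      have : E * c p j.castSucc ∈ p.asIdeal := by
        simpa using sub_mem (not_not.1 hgood) hmem
      rcases p.isPrime.mem_or_mem this with h | h
      · obtain ⟨p', hp', h'⟩ := (Ideal.IsPrime.prod_mem_iff (hp := p.isPrime)).1 h
        exact he2 p' hp' h'
      · exact hj h
    · intro hmem
      have hp' : p ∈ Q.erase q := Finset.mem_erase.2 ⟨hpq, hp⟩
      apply ha p hp'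
      have := add_mem hmem (p.asIdeal.mul_mem_right (c p j.castSucc)
        (Ideal.mem_of_dvd p.asIdeal (Finset.dvd_prod_of_mem e hp') (he1 p hp')))
      rwa [← hE, sub_add_cancel] at this

variable [IsNoetherianRing A] [Module.Finite A M]

theorem exists_basic {k r : ℕ} (hkr : k < r)
    (hdim : ∀ q : PrimeSpectrum A, q.asIdeal.height ≤ k →
      Module.finrank q.asIdeal.ResidueField (q.asIdeal.ResidueField ⊗[A] M) = r) :
    ∃ s : M, ∀ q : PrimeSpectrum A, q.asIdeal.height ≤ k → Cpl q {s} (r - 1) := by
  classical
  suffices key : ∀ N (t : Fin (N + 1) → M), (∀ (q : PrimeSpectrum A) (h : ℕ), h ≤ k →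
      q.asIdeal.height = h → Cpl q (Set.range t) (max (r - (N + 1)) h)) →
      ∃ s : M, ∀ q : PrimeSpectrum A, q.asIdeal.height ≤ k → Cpl q {s} (r - 1) by
    obtain ⟨n, g, hg⟩ := Module.Finite.exists_fin (R := A) (M := M)
    refine key n (fun i => if hi : (i : ℕ) < n then g ⟨i, hi⟩ else 0) fun q h _ _ => ?_
    refine Cpl.mono (m := 0) ⟨Fin.elim0, top_le_iff.1 ?_⟩ (Nat.zero_le _)
    rw [← fib_univ q.asIdeal, ← Submodule.top_coe (R := A), ← hg, fib_span]
    refine Submodule.span_mono (Set.image_mono ?_)
    rintro _ ⟨i, rfl⟩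
    exact Or.inl ⟨i.castSucc, by simp⟩
  intro N
  induction N with
  | zero =>
    intro t ht
    refine ⟨t 0, fun q hq => ?_⟩
    obtain ⟨h, hh⟩ := ENat.ne_top_iff_exists.1 (ne_top_of_le_ne_top (ENat.coe_ne_top k) hq)
    have hh' : h ≤ k := by rw [← hh] at hq; exact_mod_cast hq
    have := (ht q h hh' hh.symm).mono (show max (r - 1) h ≤ r - 1 by omega)
    rwa [show Set.range t = {t 0} from Set.ext fun x => ⟨fun ⟨i, hi⟩ => by rw [← hi, show i = 0 from Fin.ext (by simp)]; rfl,
      fun hx => ⟨0, hx.symm⟩⟩] at this
  | succ N ih =>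
    intro t ht
    -- the finitely many critical primes
    have hfin : {q : PrimeSpectrum A | ∃ h ≤ k, q.asIdeal.height = h ∧ r < h + (N + 2) ∧
        ∀ h', h = h' + 1 → ¬ Cpl q (Set.range t) h'}.Finite := by
      refine Set.Finite.subset (s := (⋃ h' ∈ (Finset.range k : Set ℕ), {q : PrimeSpectrum A | q.asIdeal ∈
          (PrimeSpectrum.vanishingIdeal {q : PrimeSpectrum A | ¬ Cpl q (Set.range t) h'}).minimalPrimes}) ∪
          {q : PrimeSpectrum A | q.asIdeal ∈ (⊥ : Ideal A).minimalPrimes}) (Set.Finite.union
        ((Finset.range k).finite_toSet.biUnion fun h' _ =>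
          ((PrimeSpectrum.vanishingIdeal {q : PrimeSpectrum A | ¬ Cpl q (Set.range t) h'}).finite_minimalPrimes_of_isNoetherianRing A).preimage
            (f := fun q : PrimeSpectrum A => q.asIdeal) (fun a _ b _ e => PrimeSpectrum.ext e))
        (((⊥ : Ideal A).finite_minimalPrimes_of_isNoetherianRing A).preimage
          (f := fun q : PrimeSpectrum A => q.asIdeal) (fun a _ b _ e => PrimeSpectrum.ext e))) ?_
      rintro q ⟨h, hk, hht, hr, hnc⟩
      rcases h with _ | h'
      · haveI : q.asIdeal.FiniteHeight := Ideal.finiteHeight_iff_lt.mpr (Or.inr (by rw [hht]; exact ENat.natCast_lt_top _))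
        exact Or.inr (Ideal.mem_minimalPrimes_of_height_eq bot_le (by simp [hht]))
      · left
        set C := {q : PrimeSpectrum A | ¬ Cpl q (Set.range t) h'}
        have hC : C = PrimeSpectrum.zeroLocus (PrimeSpectrum.vanishingIdeal C : Set A) := by
          rw [PrimeSpectrum.zeroLocus_vanishingIdeal_eq_closure, (isClosed_not_cpl _ _).closure_eq]
        simp only [Set.mem_iUnion]
        refine ⟨h', Finset.mem_coe.2 (Finset.mem_range.2 (by omega)), ⟨q.isPrime, ?_⟩, ?_⟩
        · have : q ∈ C := hnc h' rfl
          rw [hC] at this; exact this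
        · rintro p ⟨hp, hpI⟩ hle
          by_contra hne
          have hlt : p < q.asIdeal := lt_of_le_of_ne hle fun e => hne (e ▸ le_rfl)
          haveI := hp
          have hpC : (⟨p, hp⟩ : PrimeSpectrum A) ∈ C := by rw [hC]; exact hpI
          haveI : q.asIdeal.FiniteHeight := Ideal.finiteHeight_iff_lt.mpr (Or.inr (by rw [hht]; exact ENat.natCast_lt_top _))
          have hlt' := Ideal.height_strict_mono_of_isPrime_of_isPrime hlt
          rw [hht] at hlt'
          obtain ⟨g, hg⟩ := ENat.ne_top_iff_exists.1 (ne_top_of_lt hlt')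
          rw [← hg] at hlt'
          have hgh : g < h' + 1 := by exact_mod_cast hlt'
          exact hpC ((ht ⟨p, hp⟩ g (by omega) hg.symm).mono (by omega))
    -- dependency relations at the critical primes
    have hdep : ∀ q ∈ hfin.toFinset, ∃ c : Fin (N + 2) → A, (∃ i, c i ∉ q.asIdeal) ∧
        (1 : q.asIdeal.ResidueField) ⊗ₜ[A] (∑ i, c i • t i) = 0 := by
      intro q hq
      obtain ⟨h, hk, hht, hr, hnc⟩ := hfin.mem_toFinset.1 hq
      have hV := hdim q (by rw [hht]; exact_mod_cast hk)
      haveI : FiniteDimensional q.asIdeal.ResidueField (q.asIdeal.ResidueField ⊗[A] M) := inferInstance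
      have hnli : ¬ LinearIndependent q.asIdeal.ResidueField (fun i => (1 : q.asIdeal.ResidueField) ⊗ₜ[A] t i) := by
        intro hli
        have h1 := hli.fintype_card_le_finrank
        rw [hV, Fintype.card_fin] at h1
        rcases h with _ | h'
        · omega
        apply hnc h' rfl
        refine Cpl.mono (m := r - (N + 2)) ?_ (by omega)
        let W := fib q.asIdeal (Set.range t)
        have hWe : Submodule.span q.asIdeal.ResidueField
            (Set.range fun i => (1 : q.asIdeal.ResidueField) ⊗ₜ[A] t i) = W := by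
          simp only [W, fib, ← Set.range_comp]
          rfl
        have hWd : Module.finrank q.asIdeal.ResidueField W = N + 2 :=
          (LinearEquiv.ofEq _ _ hWe).finrank_eq.symm.trans ((finrank_span_eq_card hli).trans (Fintype.card_fin _))
        have hQd := W.finrank_quotient_add_finrank
        obtain ⟨f, hf1, hf2, -⟩ := Submodule.exists_fun_fin_finrank_span_eq q.asIdeal.ResidueField
          ((fun x => W.mkQ ((1 : q.asIdeal.ResidueField) ⊗ₜ[A] x)) '' Set.univ)
        have htop : Submodule.span q.asIdeal.ResidueField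
            ((fun x => W.mkQ ((1 : q.asIdeal.ResidueField) ⊗ₜ[A] x)) '' Set.univ) = ⊤ := by
          rw [← Set.image_image (g := W.mkQ), Submodule.span_image]
          change Submodule.map W.mkQ (fib q.asIdeal Set.univ) = ⊤
          rw [fib_univ, Submodule.map_top, Submodule.range_mkQ]
        choose u _ hu using hf1
        have hn : Module.finrank q.asIdeal.ResidueField ↥(Submodule.span q.asIdeal.ResidueField
            ((fun x => W.mkQ ((1 : q.asIdeal.ResidueField) ⊗ₜ[A] x)) '' Set.univ)) = r - (N + 2) := by
          rw [htop, finrank_top]; omega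
        refine ⟨fun i => u (Fin.cast hn.symm i), ?_⟩
        refine top_le_iff.1 fun x _ => ?_
        have hx : W.mkQ x ∈ Submodule.map W.mkQ (fib q.asIdeal (Set.range fun i => u (Fin.cast hn.symm i))) := by
          have : W.mkQ x ∈ Submodule.span q.asIdeal.ResidueField (Set.range f) := by
            rw [hf2, htop]; trivial
          refine Submodule.span_le.2 ?_ this
          rintro _ ⟨i, rfl⟩
          exact ⟨_, Submodule.subset_span ⟨u i, ⟨Fin.cast hn i, by simp⟩, rfl⟩, hu i⟩
        obtain ⟨y, hy, hxy⟩ := hx
        have : x - y ∈ W := (Submodule.Quotient.eq W).1 hxy.symm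
        rw [← sub_add_cancel x y]
        exact add_mem (Submodule.span_mono (Set.image_mono Set.subset_union_left) this)
          (Submodule.span_mono (Set.image_mono Set.subset_union_right) hy)
      rw [Fintype.not_linearIndependent_iff] at hnli
      obtain ⟨g, hg0, i, hi⟩ := hnli
      haveI : q.asIdeal.IsPrime := q.isPrime
      -- clear denominators
      obtain ⟨d, hd⟩ := IsLocalization.exist_integer_multiples_of_finite (nonZeroDivisors (A ⧸ q.asIdeal)) g
      choose c hc using fun i => hd i
      choose c' hc' using fun i => Ideal.Quotient.mk_surjective (I := q.asIdeal) (c i)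
      refine ⟨c', ⟨i, fun hmem => ?_⟩, ?_⟩
      · have h0 : c i = 0 := by rw [← hc' i]; exact Ideal.Quotient.eq_zero_iff_mem.2 hmem
        have := hc i
        rw [h0, map_zero, Algebra.smul_def] at this
        rcases mul_eq_zero.1 this.symm with h | h
        · exact nonZeroDivisors.coe_ne_zero d (IsFractionRing.injective (A ⧸ q.asIdeal) q.asIdeal.ResidueField (h.trans (map_zero _).symm))
        · exact hi h
      · rw [tmul_sum]
        have : ∀ i, (1 : q.asIdeal.ResidueField) ⊗ₜ[A] (c' i • t i) =
            algebraMap (A ⧸ q.asIdeal) q.asIdeal.ResidueField d • (g i • (1 : q.asIdeal.ResidueField) ⊗ₜ[A] t i) := by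
          intro i
          rw [tmul_smul, ← algebraMap_smul q.asIdeal.ResidueField (c' i), smul_smul]
          congr 1
          rw [IsScalarTower.algebraMap_apply A (A ⧸ q.asIdeal) q.asIdeal.ResidueField, Ideal.Quotient.algebraMap_eq,
            hc', hc, Algebra.smul_def]
        simp only [this, ← Finset.smul_sum, hg0, smul_zero]
    choose! c hc hrel using hdep
    obtain ⟨a, ha⟩ := exists_avoid hfin.toFinset c hc
    let t' : Fin (N + 1) → M := fun i => t i.castSucc + a i • t (Fin.last _)
    refine ih t' fun q h hk hht => ?_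
    have hmem : Set.range t ⊆ (Submodule.span A (Set.range t' ∪ {t (Fin.last _)}) : Set M) := by
      rintro _ ⟨i, rfl⟩
      refine Fin.lastCases (Submodule.subset_span (Or.inr rfl)) (fun i => ?_) i
      have : t i.castSucc = t' i - a i • t (Fin.last _) := by simp [t']
      rw [this]
      exact sub_mem (Submodule.subset_span (Or.inl ⟨i, rfl⟩)) (Submodule.smul_mem _ _ (Submodule.subset_span (Or.inr rfl)))
    by_cases hcrit : q ∈ hfin.toFinset
    · obtain ⟨u, hu⟩ := (ht q h hk hht).mono (show max (r - (N + 1 + 1)) h ≤ max (r - (N + 1)) h by omega)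
      refine ⟨u, top_le_iff.1 (hu ▸ ?_)⟩
      have hlast : (1 : q.asIdeal.ResidueField) ⊗ₜ[A] t (Fin.last _) ∈ fib q.asIdeal (Set.range t') := by
        set e := c q (Fin.last _) - ∑ i, a i * c q i.castSucc with he
        have hsum : e • t (Fin.last _) = ∑ i, c q i • t i - ∑ i, c q i.castSucc • t' i := by
          rw [he, Fin.sum_univ_castSucc (f := fun i => c q i • t i), sub_smul, Finset.sum_smul]
          simp only [t', smul_add, Finset.sum_add_distrib, smul_smul, mul_comm (a _)]
          abel
        have h1 : algebraMap A q.asIdeal.ResidueField e • ((1 : q.asIdeal.ResidueField) ⊗ₜ[A] t (Fin.last _)) ∈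
            fib q.asIdeal (Set.range t') := by
          rw [algebraMap_smul, ← tmul_smul, hsum, tmul_sub, hrel q hcrit, zero_sub, ← fib_span]
          refine neg_mem (Submodule.subset_span ⟨_, ?_, rfl⟩)
          exact sum_mem fun i _ => Submodule.smul_mem _ _ (Submodule.subset_span ⟨i, rfl⟩)
        have he0 : algebraMap A q.asIdeal.ResidueField e ≠ 0 := fun h0 =>
          ha q hcrit (Ideal.algebraMap_residueField_eq_zero.1 h0)
        exact (Submodule.smul_mem_iff _ he0).1 h1
      rw [fib, fib, Submodule.span_le]
      rintro _ ⟨x, hx | hx, rfl⟩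
      · have hx' : (1 : q.asIdeal.ResidueField) ⊗ₜ[A] x ∈
            fib q.asIdeal (Submodule.span A (Set.range t' ∪ {t (Fin.last _)}) : Set M) :=
          Submodule.subset_span ⟨x, hmem hx, rfl⟩
        rw [fib_span] at hx'
        refine Submodule.span_le.2 ?_ hx'
        rintro _ ⟨y, hy | hy, rfl⟩
        · exact Submodule.subset_span ⟨y, Or.inl hy, rfl⟩
        · rw [Set.mem_singleton_iff.1 hy]
          exact Submodule.span_mono (Set.image_mono Set.subset_union_left) hlast
      · exact Submodule.subset_span ⟨x, Or.inr hx, rfl⟩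
    · have hm : ∃ m, m + 1 ≤ max (r - (N + 1)) h ∧ Cpl q (Set.range t) m := by
        by_cases h1 : h + (N + 2) ≤ r
        · exact ⟨r - (N + 2), by omega, (ht q h hk hht).mono (by omega)⟩
        · rw [hfin.mem_toFinset] at hcrit
          by_contra hcon
          push Not at hcon
          exact hcrit ⟨h, hk, hht, by omega, fun h' hh' hc' => hcon h' (by omega) hc'⟩
      obtain ⟨m, hm, u, hu⟩ := hm
      refine Cpl.mono ⟨Fin.cons (t (Fin.last _)) u, top_le_iff.1 (hu ▸ ?_)⟩ hm
      rw [← fib_span q.asIdeal (Set.range t' ∪ Set.range (Fin.cons (t (Fin.last _)) u))]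
      refine Submodule.span_mono (Set.image_mono (Set.union_subset (hmem.trans ?_) ?_))
      · refine Submodule.span_mono (Set.union_subset_union_right _ ?_)
        rintro _ rfl; exact ⟨0, by simp⟩
      · rintro _ ⟨i, rfl⟩
        exact Submodule.subset_span (Or.inr ⟨i.succ, by simp⟩)

theorem finrank_fibre {q : PrimeSpectrum A} {r : ℕ}
    (e : LocalizedModule q.asIdeal.primeCompl M ≃ₗ[Localization.AtPrime q.asIdeal]
      (Fin r → Localization.AtPrime q.asIdeal)) :
    Module.finrank q.asIdeal.ResidueField (q.asIdeal.ResidueField ⊗[A] M) = r := by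
  let e' := (AlgebraTensorModule.cancelBaseChange A (Localization.AtPrime q.asIdeal)
      q.asIdeal.ResidueField q.asIdeal.ResidueField M).symm.trans
    (AlgebraTensorModule.congr (LinearEquiv.refl q.asIdeal.ResidueField q.asIdeal.ResidueField)
      ((LocalizedModule.equivTensorProduct q.asIdeal.primeCompl M).symm.trans e))
  rw [(e'.trans (TensorProduct.piScalarRight _ _ _ _)).finrank_eq, Module.finrank_fin_fun]

theorem localized_step {q : PrimeSpectrum A} {r : ℕ} (hr : 0 < r) {s : M} (hs : Cpl q {s} (r - 1))
    (e : LocalizedModule q.asIdeal.primeCompl M ≃ₗ[Localization.AtPrime q.asIdeal]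
      (Fin r → Localization.AtPrime q.asIdeal)) :
    (∀ c : A, c • s = 0 → algebraMap A (Localization.AtPrime q.asIdeal) c = 0) ∧
    Nonempty (LocalizedModule q.asIdeal.primeCompl (M ⧸ Submodule.span A {s}) ≃ₗ[Localization.AtPrime q.asIdeal]
      (Fin (r - 1) → Localization.AtPrime q.asIdeal)) := by
  classical
  let B := Localization.AtPrime q.asIdeal
  set v := e (LocalizedModule.mkLinearMap q.asIdeal.primeCompl M s) with hv
  obtain ⟨j, hj⟩ : ∃ j, IsUnit (v j) := by
    by_contra hall
    push Not at hall
    obtain ⟨u, hu⟩ := hs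
    let e' := ((AlgebraTensorModule.cancelBaseChange A B
      q.asIdeal.ResidueField q.asIdeal.ResidueField M).symm.trans
      (AlgebraTensorModule.congr (LinearEquiv.refl q.asIdeal.ResidueField q.asIdeal.ResidueField)
        ((LocalizedModule.equivTensorProduct q.asIdeal.primeCompl M).symm.trans e))).trans
      (TensorProduct.piScalarRight _ _ _ _)
    have hz : e' ((1 : q.asIdeal.ResidueField) ⊗ₜ[A] s) = 0 := by
      have : e' ((1 : q.asIdeal.ResidueField) ⊗ₜ[A] s) = fun i => algebraMap B q.asIdeal.ResidueField (v i) := by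
        funext i
        simp [e', hv, B, LocalizedModule.equivTensorProduct_symm_apply_tmul, Algebra.smul_def, LocalizedModule.mkLinearMap_apply]
      rw [this]
      funext i
      exact (IsLocalRing.residue_eq_zero_iff _).2 (hall i)
    have hz' : (1 : q.asIdeal.ResidueField) ⊗ₜ[A] s = 0 := e'.map_eq_zero_iff.1 hz
    have hle : fib q.asIdeal ({s} ∪ Set.range u) ≤
        Submodule.span q.asIdeal.ResidueField (Set.range fun i => (1 : q.asIdeal.ResidueField) ⊗ₜ[A] u i) := by
      refine Submodule.span_le.2 ?_
      rintro _ ⟨x, hx | ⟨i, rfl⟩, rfl⟩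
      · rw [Set.mem_singleton_iff.1 hx]
        show (1 : q.asIdeal.ResidueField) ⊗ₜ[A] s ∈ _
        rw [hz']; exact zero_mem _
      · exact Submodule.subset_span ⟨i, rfl⟩
    have h1 := Submodule.finrank_mono hle
    rw [hu, finrank_top, finrank_fibre e] at h1
    have h2 := (finrank_range_le_card (R := q.asIdeal.ResidueField)
      (fun i => (1 : q.asIdeal.ResidueField) ⊗ₜ[A] u i))
    rw [Fintype.card_fin, Set.finrank] at h2
    omega
  constructor
  · intro c hc
    have : algebraMap A B c • v = 0 := by
      rw [hv, ← map_smul, algebraMap_smul, ← map_smul, hc, map_zero, map_zero]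
    have := congrFun this j
    simp only [Pi.smul_apply, smul_eq_mul, Pi.zero_apply] at this
    exact hj.mul_left_eq_zero.1 this
  · obtain ⟨w, hw⟩ := hj.exists_left_inv
    let P : (Fin r → B) →ₗ[B] (Fin r → B) := LinearMap.id - (w • LinearMap.proj j).smulRight v
    let ι : {i : Fin r // i ≠ j} → Fin r := Subtype.val
    let P' : (Fin r → B) →ₗ[B] ({i : Fin r // i ≠ j} → B) := (LinearMap.funLeft B B ι).comp P
    have hsurj : Function.Surjective P' := fun y => ⟨fun i => if h : i = j then 0 else y ⟨i, h⟩, by
      funext i; simp [P', P, ι, i.2]⟩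
    have hker : LinearMap.ker P' = Submodule.span B {v} := by
      refine le_antisymm (fun x hx => ?_) ((Submodule.span_singleton_le_iff_mem _ _).2 ?_)
      · refine Submodule.mem_span_singleton.2 ⟨w * x j, ?_⟩
        funext i
        rcases eq_or_ne i j with rfl | h
        · simp only [Pi.smul_apply, smul_eq_mul]; linear_combination x i * hw
        · have := congrFun (LinearMap.mem_ker.1 hx) ⟨i, h⟩
          simp [P', P, ι] at this ⊢
          linear_combination -this
      · rw [LinearMap.mem_ker]; funext i
        simp [P', P, ι, ← mul_assoc, hw]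
    let S := Submodule.span A {s}
    have hloc : S.localized q.asIdeal.primeCompl =
        Submodule.span B {LocalizedModule.mkLinearMap q.asIdeal.primeCompl M s} := by
      simp [S, B, Submodule.localized'_span]
    have hmap : (S.localized q.asIdeal.primeCompl).map (e : _ →ₗ[B] _) = LinearMap.ker P' := by
      rw [hloc, Submodule.map_span, Set.image_singleton, hker]; rfl
    have hcard : Fintype.card {i : Fin r // i ≠ j} = r - 1 := by
      simp [Fintype.card_subtype_compl]
    exact ⟨((localizedQuotientEquiv q.asIdeal.primeCompl S).symm.trans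
      (Submodule.Quotient.equiv _ _ e hmap)).trans
      (((P'.quotKerEquivOfSurjective hsurj)).trans
        (LinearEquiv.funCongrLeft B B (Fintype.equivFinOfCardEq hcard).symm))⟩


/-- Let k ≤ r, let A be a Noetherian ring none of whose associated primes has height greater than k, and
let M be a finitely generated A-module which is free of rank r at every prime of height at most k.
Then M has a free submodule N of rank r - k such that M/N is free of rank k at every prime of height
at most k. Freeness of a given rank is expressed by linear isomorphisms with coordinate modules.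
(The published statement has no hypothesis on the associated primes of A; for A = ℤ[X]/(X², 2X), M =
A/(X), k = 0 and r = 1 every other hypothesis holds while X annihilates M, so M contains no free
submodule of rank 1. The printed argument produces an element of M that is part of a basis at every
prime of height at most k; the submodule it generates is free exactly when its annihilator vanishes
at the associated primes of A, which the added hypothesis guarantees.) -/
theorem result (A : Type u) [CommRing A] [IsNoetherianRing A]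
    (M : Type u) [AddCommGroup M] [Module A M] [Module.Finite A M] (k r : ℕ) (hkr : k ≤ r)
    (hAss : ∀ p ∈ associatedPrimes A A, p.height ≤ k)
    (hM : ∀ p : PrimeSpectrum A, p.asIdeal.height ≤ k →
      Nonempty (LocalizedModule p.asIdeal.primeCompl M ≃ₗ[Localization.AtPrime p.asIdeal]
        (Fin r → Localization.AtPrime p.asIdeal))) :
    ∃ N : Submodule A M, Nonempty (N ≃ₗ[A] (Fin (r - k) → A)) ∧
      ∀ p : PrimeSpectrum A, p.asIdeal.height ≤ k →
        Nonempty (LocalizedModule p.asIdeal.primeCompl (M ⧸ N) ≃ₗ[Localization.AtPrime p.asIdeal]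
          (Fin k → Localization.AtPrime p.asIdeal)) := by
  classical
  obtain ⟨d, rfl⟩ : ∃ d, r = k + d := ⟨r - k, by omega⟩
  rw [Nat.add_sub_cancel_left]
  clear hkr
  induction d generalizing M with
  | zero =>
    refine ⟨⊥, ⟨default⟩, fun p hp => ?_⟩
    obtain ⟨e⟩ := hM p hp
    exact ⟨(IsLocalizedModule.mapEquiv p.asIdeal.primeCompl (LocalizedModule.mkLinearMap p.asIdeal.primeCompl _)
      (LocalizedModule.mkLinearMap p.asIdeal.primeCompl M) (Localization.AtPrime p.asIdeal)
      (Submodule.quotEquivOfEqBot ⊥ rfl)).trans e⟩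
  | succ d ih =>
    obtain ⟨s, hs⟩ := exists_basic (A := A) (M := M) (k := k) (r := k + (d + 1)) (by omega)
      (fun q hq => (hM q hq).elim finrank_fibre)
    have hnz : ∀ c : A, c • s = 0 → c = 0 := by
      intro c hc
      by_contra hc0
      obtain ⟨p, hp, hle⟩ := exists_le_isAssociatedPrime_of_isNoetherianRing A c hc0
      haveI := hp.isPrime
      let P : PrimeSpectrum A := ⟨p, hp.isPrime⟩
      obtain ⟨e⟩ := hM P (hAss p hp)
      have h0 := (localized_step (by omega) (hs P (hAss p hp)) e).1 c hc
      obtain ⟨⟨u, hu⟩, hu'⟩ := (IsLocalization.map_eq_zero_iff p.primeCompl _ c).1 h0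
      exact hu (hle (Submodule.mem_colon_singleton.2 (by simpa using hu')))
    let S := Submodule.span A {s}
    have hM' : ∀ p : PrimeSpectrum A, p.asIdeal.height ≤ k →
        Nonempty (LocalizedModule p.asIdeal.primeCompl (M ⧸ S) ≃ₗ[Localization.AtPrime p.asIdeal]
          (Fin (k + d) → Localization.AtPrime p.asIdeal)) := fun p hp => by
      obtain ⟨e⟩ := hM p hp
      exact (localized_step (by omega) (hs p hp) e).2
    obtain ⟨N', ⟨eN⟩, hN'⟩ := ih (M ⧸ S) hM'
    choose x hx using fun y : N' => S.mkQ_surjective y.1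
    let g : (Fin d → A) →ₗ[A] M := (Pi.basisFun A (Fin d)).constr A (fun i => x (eN.symm (Pi.basisFun A (Fin d) i)))
    have hg : S.mkQ.comp g = N'.subtype.comp eN.symm.toLinearMap := (Pi.basisFun A (Fin d)).ext fun i => by
      simp only [g, LinearMap.comp_apply, Module.Basis.constr_basis, hx]; rfl
    let G : (Fin (d + 1) → A) →ₗ[A] M :=
      (LinearMap.proj (R := A) (φ := fun _ : Fin (d + 1) => A) 0).smulRight s + g.comp (LinearMap.funLeft A A Fin.succ)
    have hG : ∀ y : Fin (d + 1) → A, S.mkQ (G y) = (eN.symm (fun i : Fin d => y i.succ) : M ⧸ S) := fun y => by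
      have h1 : S.mkQ s = 0 := (Submodule.Quotient.mk_eq_zero S).2 (Submodule.subset_span rfl)
      have h2 := LinearMap.congr_fun hg (fun i => y i.succ)
      simp only [LinearMap.comp_apply] at h2
      simp only [G, LinearMap.add_apply, LinearMap.smulRight_apply, map_add, map_smul, h1, smul_zero, zero_add]
      exact h2
    have hinj : Function.Injective G := by
      refine (injective_iff_map_eq_zero _).2 fun y hy => ?_
      have h1 := hG y
      rw [hy, map_zero] at h1
      have h2 : (fun i : Fin d => y i.succ) = 0 := eN.symm.map_eq_zero_iff.1 (Subtype.ext h1.symm)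
      have h3 : y 0 = 0 := hnz _ (by
        have : G y = y 0 • s + g (fun i : Fin d => y i.succ) := rfl
        rw [hy, h2, map_zero, add_zero] at this
        exact this.symm)
      funext i
      exact Fin.cases h3 (fun i => congrFun h2 i) i
    have hrange : LinearMap.range G = N'.comap S.mkQ := by
      refine le_antisymm ?_ fun z hz => ?_
      · rintro _ ⟨y, rfl⟩
        rw [Submodule.mem_comap, hG]; exact Subtype.coe_prop _
      · let w := eN ⟨S.mkQ z, hz⟩
        have h1 : S.mkQ (z - G (Fin.cons 0 w)) = 0 := by
          rw [map_sub, hG]; simp [w]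
        obtain ⟨a, ha⟩ := Submodule.mem_span_singleton.1 ((Submodule.Quotient.mk_eq_zero S).1 h1)
        refine ⟨Fin.cons a w, ?_⟩
        have e1 : G (Fin.cons a w) = a • s + G (Fin.cons 0 w) := by simp [G, LinearMap.funLeft]
        rw [e1, ha, sub_add_cancel]
    refine ⟨LinearMap.range G, ⟨(LinearEquiv.ofInjective G hinj).symm⟩, fun p hp => ?_⟩
    obtain ⟨e⟩ := hN' p hp
    have eq : ((M ⧸ LinearMap.range G)) ≃ₗ[A] ((M ⧸ S) ⧸ N') := by
      refine LinearEquiv.ofBijective (Submodule.mapQ _ _ S.mkQ hrange.le) ⟨?_, ?_⟩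
      · refine (injective_iff_map_eq_zero _).2 fun z => ?_
        obtain ⟨z, rfl⟩ := Submodule.mkQ_surjective _ z
        intro hz
        refine (Submodule.Quotient.mk_eq_zero _).2 (hrange ▸ ?_)
        exact (Submodule.Quotient.mk_eq_zero N').1 hz
      · intro z
        obtain ⟨z, rfl⟩ := N'.mkQ_surjective z
        obtain ⟨z, rfl⟩ := S.mkQ_surjective z
        exact ⟨Submodule.Quotient.mk z, rfl⟩
    exact ⟨(IsLocalizedModule.mapEquiv p.asIdeal.primeCompl (LocalizedModule.mkLinearMap p.asIdeal.primeCompl _)
      (LocalizedModule.mkLinearMap p.asIdeal.primeCompl _) (Localization.AtPrime p.asIdeal) eq).trans e⟩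

end Groth.Agent.S13533
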