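import Groth.Statements.S13534
import Groth.Agent.PinchLib.Modules
import Groth.Agent.Props.SubExt
import Groth.Agent.Props.QTilde
import Groth.Agent.Props.QApprox
import Groth.Agent.FlatSect.Basic
import Groth.Agent.QCoh.Exact
import Groth.Agent.QCoh.Qcqs
import Groth.Agent.CAlgLib.UnivInj
import Groth.Agent.FlatMor.FlatLemmas

set_option autoImplicit false
set_option linter.style.haveILetI false
universe u
open CategoryTheory CategoryTheory.Limits AlgebraicGeometry
open ResProp

namespace Groth.Agent.S13534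

open Groth.Agent TopologicalSpace
open scoped TensorProduct

set_option backward.isDefEq.respectTransparency false

/-- Stalkwise flatness on an open gives flat sections on the affine opens inside it. -/
theorem flat_sections {X : Scheme.{u}} {M : X.Modules} [M.IsQuasicoherent] {U : X.Opens}
    (hU : IsAffineOpen U) (h : ∀ x ∈ U, FlatMod.IsFlatAt M x) : Module.Flat Γ(X, U) Γ(M, U) := by
  have hpt : ∀ P : Ideal Γ(X, U), P.IsMaximal → ∃ x : U, (hU.primeIdealOf x).asIdeal = P := by
    intro P hP
    have hm : hU.fromSpec ⟨P, hP.isPrime⟩ ∈ U := hU.range_fromSpec.le ⟨_, rfl⟩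
    refine ⟨⟨_, hm⟩, congrArg PrimeSpectrum.asIdeal
      (hU.fromSpec.isOpenEmbedding.injective (hU.fromSpec_primeIdealOf ⟨_, hm⟩))⟩
  choose pt hpt using hpt
  letI (P : Ideal Γ(X, U)) [hP : P.IsMaximal] : Module Γ(X, U) (M.presheaf.stalk (pt P hP).1) :=
    LimTop.stalkModule M (pt P hP).2
  haveI (P : Ideal Γ(X, U)) [hP : P.IsMaximal] :
      IsLocalizedModule.AtPrime P (LimTop.germLin M (pt P hP).2) := by
    convert LimTop.isLocalizedModule_germLin M hU (pt P hP).2
    exact (hpt P hP).symm
  refine Module.flat_of_isLocalized_maximal Γ(X, U) Γ(M, U)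
    (fun P hP => M.presheaf.stalk (pt P hP).1) (fun P hP => LimTop.germLin M (pt P hP).2)
    fun P hP => ?_
  let x := pt P hP
  letI := X.presheaf.algebra_section_stalk x
  haveI : IsScalarTower Γ(X, U) (X.presheaf.stalk x.1) (M.presheaf.stalk x.1) :=
    IsScalarTower.of_algebraMap_smul fun _ _ => rfl
  haveI : Module.Flat (X.presheaf.stalk x.1) (M.presheaf.stalk x.1) := h x.1 x.2
  haveI := hU.isLocalization_stalk x
  haveI : Module.Flat Γ(X, U) (X.presheaf.stalk x.1) :=
    IsLocalization.flat (X.presheaf.stalk x.1) (hU.primeIdealOf x).asIdeal.primeCompl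
  exact Module.Flat.trans Γ(X, U) (X.presheaf.stalk x.1) (M.presheaf.stalk x.1)

/-- Every quasi-coherent module on an affine scheme is a quotient of a flat one. -/
theorem exists_flat_epi_Spec {R : CommRingCat.{u}} (G : (Spec R).Modules) [G.IsQuasicoherent] :
    ∃ (P : (Spec R).Modules) (p : P ⟶ G), P.IsQuasicoherent ∧ FlatMod.IsFlat P ∧ Epi p := by
  obtain ⟨N, e, he⟩ : ∃ (N : ModuleCat.{u} R) (e : tilde N ⟶ G), Epi e := by
    have : IsIso G.fromTildeΓ := inferInstance
    exact ⟨_, G.fromTildeΓ, inferInstance⟩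
  let f : ModuleCat.of R ((N : Type u) →₀ R) ⟶ N := ModuleCat.ofHom (Finsupp.linearCombination R id)
  have : Epi f := (ModuleCat.epi_iff_surjective _).mpr (Finsupp.linearCombination_id_surjective R N)
  have : Epi ((tilde.functor R).map f) := inferInstance
  refine ⟨tilde (ModuleCat.of R ((N : Type u) →₀ R)), (tilde.functor R).map f ≫ e,
    inferInstance, fun x => ?_, epi_comp _ _⟩
  have hflat : Module.Flat R Γ(tilde (ModuleCat.of R ((N : Type u) →₀ R)), ⊤) :=
    Module.Flat.of_linearEquiv (Props.QTilde.topEquiv _).symm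
  have := (FlatSect.flat_iff_of_ringEquiv _ (Props.QTilde.topRingEquiv R)
    (Props.QTilde.topRingEquiv_smul _)).mp hflat
  exact PinchLib.isFlatAt_of_flat_sections (isAffineOpen_top _) (U := ⊤) trivial

variable {X : Scheme.{u}}

/-- The map on sections, linear over the sections of the structure sheaf. -/
noncomputable def appLin {M N : X.Modules} (φ : M ⟶ N) (V : X.Opens) : Γ(M, V) →ₗ[Γ(X, V)] Γ(N, V) where
  toFun := φ.app V
  map_add' := map_add _
  map_smul' r x := Scheme.Modules.Hom.app_smul φ r x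

/-- One affine open more: a quotient flat there, and still flat where `M` was. -/
theorem step (hd : ∀ V W : X.Opens, IsAffineOpen V → IsAffineOpen W → IsAffineOpen (V ⊓ W))
    (M : X.Modules) [M.IsQuasicoherent] (U : X.Opens) (hMU : ∀ x ∈ U, FlatMod.IsFlatAt M x)
    {W : X.Opens} (hW : IsAffineOpen W) :
    ∃ (F : X.Modules) (π : F ⟶ M), F.IsQuasicoherent ∧ Epi π ∧
      ∀ x ∈ U ⊔ W, FlatMod.IsFlatAt F x := by
  let j := hW.fromSpec
  have hpre : ∀ {V : X.Opens}, IsAffineOpen V → IsAffineOpen (j ⁻¹ᵁ V) := by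
    intro V hV
    have h1 := (hd V W hV hW).preimage_of_isOpenImmersion j
      (inf_le_right.trans hW.opensRange_fromSpec.ge)
    have h2 : j ⁻¹ᵁ (V ⊓ W) = j ⁻¹ᵁ V := by
      ext x
      exact ⟨fun h => h.1, fun h => ⟨h, hW.range_fromSpec.le ⟨x, rfl⟩⟩⟩
    rwa [h2] at h1
  haveI : IsAffineHom j := ⟨fun V hV => hpre hV⟩
  let G := M.restrict j
  haveI : G.IsQuasicoherent := inferInstanceAs ((Scheme.Modules.restrictFunctor j).obj M).IsQuasicoherent
  obtain ⟨P, p, hP, hPflat, hp⟩ := exists_flat_epi_Spec G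
  let jP := (Scheme.Modules.pushforward j).obj P
  let jG := (Scheme.Modules.pushforward j).obj G
  haveI : jP.IsQuasicoherent := QCoh.isQuasicoherent_pushforward j P
  haveI : jG.IsQuasicoherent := QCoh.isQuasicoherent_pushforward j G
  let u : M ⟶ jG := (Scheme.Modules.restrictAdjunction j).unit.app M
  let q : jP ⟶ jG := (Scheme.Modules.pushforward j).map p
  haveI := Props.SubExt.isQuasicoherent_biprod M jP
  let d : M ⊞ jP ⟶ jG := biprod.fst ≫ u - biprod.snd ≫ q
  let a : kernel d ⟶ M := kernel.ι d ≫ biprod.fst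
  let b : kernel d ⟶ jP := kernel.ι d ≫ biprod.snd
  have hab : a ≫ u = b ≫ q := by
    have h := kernel.condition d
    rw [Preadditive.comp_sub, sub_eq_zero] at h
    simpa [a, b] using h
  have hqsurj : ∀ V : X.Opens, IsAffineOpen V → Function.Surjective (q.app V) := by
    intro V hV y
    obtain ⟨z, hz⟩ := QCoh.app_surjective_of_epi p (hpre hV) (QCoh.unPush j G y)
    exact ⟨z, hz⟩
  have hlift : ∀ (V : X.Opens) (m : Γ(M, V)) (y : Γ(jP, V)), u.app V m = q.app V y →
      ∃ z : Γ(kernel d, V), a.app V z = m ∧ b.app V z = y := by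
    intro V m y h
    let w : Γ(M ⊞ jP, V) :=
      (biprod.inl : M ⟶ M ⊞ jP).app V m + (biprod.inr : jP ⟶ M ⊞ jP).app V y
    have hfst : (biprod.fst : M ⊞ jP ⟶ M).app V w = m := by
      have e1 : (biprod.fst : M ⊞ jP ⟶ M).app V ((biprod.inl : M ⟶ M ⊞ jP).app V m) = m := by
        rw [← ConcreteCategory.comp_apply, ← Scheme.Modules.Hom.comp_app, biprod.inl_fst]
        simp
      have e2 : (biprod.fst : M ⊞ jP ⟶ M).app V ((biprod.inr : jP ⟶ M ⊞ jP).app V y) = 0 := by
        rw [← ConcreteCategory.comp_apply, ← Scheme.Modules.Hom.comp_app, biprod.inr_fst]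
        simp
      simp only [w, map_add, e1, e2, add_zero]
    have hsnd : (biprod.snd : M ⊞ jP ⟶ jP).app V w = y := by
      have e1 : (biprod.snd : M ⊞ jP ⟶ jP).app V ((biprod.inl : M ⟶ M ⊞ jP).app V m) = 0 := by
        rw [← ConcreteCategory.comp_apply, ← Scheme.Modules.Hom.comp_app, biprod.inl_snd]
        simp
      have e2 : (biprod.snd : M ⊞ jP ⟶ jP).app V ((biprod.inr : jP ⟶ M ⊞ jP).app V y) = y := by
        rw [← ConcreteCategory.comp_apply, ← Scheme.Modules.Hom.comp_app, biprod.inr_snd]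
        simp
      simp only [w, map_add, e1, e2, zero_add]
    have hdw : d.app V w = 0 := by
      simp [d, hfst, hsnd, h]
    have hex : (ShortComplex.mk (kernel.ι d) d (kernel.condition d)).Exact :=
      ShortComplex.exact_of_f_is_kernel _ (kernelIsKernel d)
    obtain ⟨z, hz⟩ := QCoh.exists_app_eq_of_app_eq_zero _ hex V w hdw
    refine ⟨z, ?_, ?_⟩
    · simp only [a, Scheme.Modules.Hom.comp_app, ConcreteCategory.comp_apply]
      exact (congrArg _ hz).trans hfst
    · simp only [b, Scheme.Modules.Hom.comp_app, ConcreteCategory.comp_apply]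
      exact (congrArg _ hz).trans hsnd
  have habV : ∀ (V : X.Opens) (z : Γ(kernel d, V)), u.app V (a.app V z) = q.app V (b.app V z) := by
    intro V z
    rw [← ConcreteCategory.comp_apply, ← Scheme.Modules.Hom.comp_app, hab]
    rfl
  have hjoint : ∀ (V : X.Opens) (z : Γ(kernel d, V)), a.app V z = 0 → b.app V z = 0 → z = 0 := by
    intro V z h1 h2
    apply QCoh.app_injective_of_mono (kernel.ι d) V
    rw [map_zero]
    simp only [a, b, Scheme.Modules.Hom.comp_app, ConcreteCategory.comp_apply] at h1 h2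
    set w := (kernel.ι d).app V z
    have htot : ((biprod.fst ≫ biprod.inl + biprod.snd ≫ biprod.inr : M ⊞ jP ⟶ M ⊞ jP)).app V w = w := by
      rw [biprod.total]
      simp
    simp only [Scheme.Modules.Hom.add_app, Scheme.Modules.Hom.comp_app, AddCommGrpCat.hom_add,
      AddMonoidHom.add_apply, ConcreteCategory.comp_apply, AddCommGrpCat.hom_comp,
      AddMonoidHom.coe_comp, Function.comp_apply, h1, h2, map_zero, add_zero] at htot
    exact htot.symm
  have hasurj : ∀ V : X.Opens, IsAffineOpen V → Function.Surjective (a.app V) := by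
    intro V hV m
    obtain ⟨y, hy⟩ := hqsurj V hV (u.app V m)
    obtain ⟨z, hz, -⟩ := hlift V m y hy.symm
    exact ⟨z, hz⟩
  refine ⟨kernel d, a, inferInstance, Props.QApprox.epi_of_local a hasurj, ?_⟩
  have hjPflat : ∀ V : X.Opens, IsAffineOpen V → Module.Flat Γ(X, V) Γ(jP, V) := by
    intro V hV
    letI : Algebra Γ(X, V) Γ(Spec Γ(X, W), j ⁻¹ᵁ V) := (j.app V).hom.toAlgebra
    haveI : Module.Flat Γ(X, V) Γ(Spec Γ(X, W), j ⁻¹ᵁ V) := by
      have := HasRingHomProperty.appLE @Flat j inferInstance ⟨V, hV⟩ ⟨j ⁻¹ᵁ V, hpre hV⟩ le_rfl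
      rw [← Scheme.Hom.app_eq_appLE] at this
      exact this
    letI : Module Γ(X, V) Γ(P, j ⁻¹ᵁ V) :=
      Module.compHom _ (algebraMap Γ(X, V) Γ(Spec Γ(X, W), j ⁻¹ᵁ V))
    haveI : IsScalarTower Γ(X, V) Γ(Spec Γ(X, W), j ⁻¹ᵁ V) Γ(P, j ⁻¹ᵁ V) :=
      IsScalarTower.of_algebraMap_smul fun _ _ => rfl
    haveI : Module.Flat Γ(Spec Γ(X, W), j ⁻¹ᵁ V) Γ(P, j ⁻¹ᵁ V) :=
      PinchLib.flat_sections hPflat (hpre hV)
    haveI : Module.Flat Γ(X, V) Γ(P, j ⁻¹ᵁ V) :=
      Module.Flat.trans Γ(X, V) Γ(Spec Γ(X, W), j ⁻¹ᵁ V) Γ(P, j ⁻¹ᵁ V)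
    let e : Γ(jP, V) ≃+ Γ(P, j ⁻¹ᵁ V) :=
      { toFun := fun x => QCoh.unPush j P x
        invFun := fun x => x
        left_inv := fun _ => rfl
        right_inv := fun _ => rfl
        map_add' := fun _ _ => rfl }
    exact Module.Flat.of_linearEquiv
      (e.toLinearEquiv (fun r x => QCoh.push_smul j P r x) : Γ(jP, V) ≃ₗ[Γ(X, V)] Γ(P, j ⁻¹ᵁ V))
  intro x hx
  rcases hx with hxU | hxW
  · obtain ⟨V, hV, hxV, hVU⟩ := exists_isAffineOpen_mem_and_subset hxU
    haveI := hjPflat V hV
    haveI : Module.Flat Γ(X, V) Γ(M, V) := flat_sections hV fun y hy => hMU y (hVU hy)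
    haveI : Module.Flat Γ(X, V) Γ(jG, V) := by
      let V' : X.Opens := j ''ᵁ (j ⁻¹ᵁ V)
      have hle : V' ≤ V := j.image_preimage_le V
      have hV' : IsAffineOpen V' := (hpre hV).image_of_isOpenImmersion j
      letI : Algebra Γ(X, V) Γ(X, V') := (X.presheaf.map (homOfLE hle).op).hom.toAlgebra
      haveI : Module.Flat Γ(X, V) Γ(X, V') := by
        have := HasRingHomProperty.appLE @Flat (𝟙 X) inferInstance ⟨V, hV⟩ ⟨V', hV'⟩ hle
        simp [Scheme.Hom.appLE] at this
        exact this
      haveI : Module.Flat Γ(X, V') Γ(M, V') :=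
        flat_sections hV' fun y hy => hMU y (hVU (hle hy))
      letI : Module Γ(X, V) Γ(M, V') := Module.compHom _ (algebraMap Γ(X, V) Γ(X, V'))
      haveI : IsScalarTower Γ(X, V) Γ(X, V') Γ(M, V') := IsScalarTower.of_algebraMap_smul fun _ _ => rfl
      haveI : Module.Flat Γ(X, V) Γ(M, V') := Module.Flat.trans Γ(X, V) Γ(X, V') Γ(M, V')
      let e : Γ(jG, V) ≃+ Γ(M, V') :=
        { toFun := (M.restrictAppIso j (j ⁻¹ᵁ V)).hom
          invFun := (M.restrictAppIso j (j ⁻¹ᵁ V)).inv
          left_inv := fun x => (M.restrictAppIso j (j ⁻¹ᵁ V)).hom_inv_id_apply x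
          right_inv := fun x => (M.restrictAppIso j (j ⁻¹ᵁ V)).inv_hom_id_apply x
          map_add' := fun x y => map_add _ x y }
      refine Module.Flat.of_linearEquiv (e.toLinearEquiv (fun r x => ?_) : Γ(jG, V) ≃ₗ[Γ(X, V)] Γ(M, V'))
      show (M.restrictAppIso j (j ⁻¹ᵁ V)).hom (QCoh.unPush j G (r • x)) = _
      rw [QCoh.push_smul]
      refine (QCoh.restrict_smul j M _ _).trans ?_
      congr 1
      exact congr($(j.app_appIso_inv V) r)
    haveI : Module.Flat Γ(X, V) (LinearMap.ker (appLin q V)) :=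
      FlatMor.FlatLemmas.flat_ker (appLin q V) (hqsurj V hV)
    let k : LinearMap.ker (appLin a V) →ₗ[Γ(X, V)] LinearMap.ker (appLin q V) :=
      ((appLin b V).comp (LinearMap.ker (appLin a V)).subtype).codRestrict _ fun z => by
        show q.app V (b.app V z.1) = 0
        rw [← habV, show a.app V z.1 = 0 from z.2, map_zero]
    have hk : Function.Bijective k := by
      constructor
      · rw [injective_iff_map_eq_zero]
        intro z hz
        exact Subtype.ext (hjoint V z.1 z.2 (congrArg Subtype.val hz))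
      · intro y
        obtain ⟨z, hz1, hz2⟩ := hlift V 0 y.1 (by
          rw [map_zero]; exact (show q.app V y.1 = 0 from y.2).symm)
        exact ⟨⟨z, hz1⟩, Subtype.ext hz2⟩
    haveI : Module.Flat Γ(X, V) (LinearMap.ker (appLin a V)) :=
      Module.Flat.of_linearEquiv (LinearEquiv.ofBijective k hk)
    haveI : Module.Flat Γ(X, V) Γ(kernel d, V) :=
      CAlgLib.UnivInj.flat_middle (f := (LinearMap.ker (appLin a V)).subtype) (g := appLin a V)
        (LinearMap.exact_subtype_ker_map _) (Submodule.subtype_injective _) (hasurj V hV)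
    exact PinchLib.isFlatAt_of_flat_sections hV hxV
  · obtain ⟨V, hV, hxV, hVW⟩ := exists_isAffineOpen_mem_and_subset hxW
    haveI := hjPflat V hV
    have hu : Function.Bijective (u.app V) := by
      have he : j ''ᵁ (j ⁻¹ᵁ V) = V := by
        rw [j.image_preimage_eq_opensRange_inf, hW.opensRange_fromSpec]
        exact inf_eq_right.mpr hVW
      haveI : IsIso (homOfLE (j.image_preimage_le V)) := by
        rw [Subsingleton.elim (homOfLE (j.image_preimage_le V)) (eqToHom he)]
        infer_instance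
      haveI : IsIso (u.app V) := by
        show IsIso (((Scheme.Modules.restrictAdjunction j).unit.app M).app V)
        rw [Scheme.Modules.restrictAdjunction_unit_app_app]
        infer_instance
      exact ConcreteCategory.bijective_of_isIso (u.app V)
    have hk : Function.Bijective (appLin b V) := by
      constructor
      · rw [injective_iff_map_eq_zero]
        intro z hz
        refine hjoint V z (hu.1 ?_) hz
        rw [habV, map_zero, show b.app V z = 0 from hz, map_zero]
      · intro y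
        obtain ⟨m, hm⟩ := hu.2 (q.app V y)
        obtain ⟨z, -, hz⟩ := hlift V m y hm
        exact ⟨z, hz⟩
    haveI : Module.Flat Γ(X, V) Γ(kernel d, V) :=
      Module.Flat.of_linearEquiv (LinearEquiv.ofBijective (appLin b V) hk)
    exact PinchLib.isFlatAt_of_flat_sections hV hxV

/-- In the case of schemes, on a quasi-compact scheme with affine diagonal (the intersection of any two
affine opens is affine) every quasi-coherent module is a quotient of a flat quasi-coherent module.
(The published statement is for quasi-compact algebraic stacks with affine diagonal; this row is the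
case of schemes.) -/
theorem result (X : Scheme.{u}) [CompactSpace X]
    (hd : ∀ V W : X.Opens, IsAffineOpen V → IsAffineOpen W → IsAffineOpen (V ⊓ W))
    (M : X.Modules) (hM : Coh.IsQCoh M) :
    ∃ (F : X.Modules) (π : F ⟶ M), Coh.IsQCoh F ∧ FlatMod.IsFlat F ∧ Epi π := by
  haveI : M.IsQuasicoherent := hM
  choose W hW using fun x : X => exists_isAffineOpen_mem_and_subset (X := X) (x := x) (U := ⊤) trivial
  obtain ⟨t, ht⟩ := isCompact_univ.elim_finite_subcover (fun x => ((W x : X.Opens) : Set X))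
    (fun x => (W x).2) fun x _ => Set.mem_iUnion.mpr ⟨x, (hW x).2.1⟩
  have key : ∀ s : Finset X, ∃ (F : X.Modules) (π : F ⟶ M), F.IsQuasicoherent ∧ Epi π ∧
      ∀ x ∈ s.sup W, FlatMod.IsFlatAt F x := by
    classical
    intro s
    induction s using Finset.induction_on with
    | empty => exact ⟨M, 𝟙 M, hM, inferInstance, fun x hx => absurd hx (by simp)⟩
    | insert a s _ ih =>
      obtain ⟨F, π, hF, hπ, hflat⟩ := ih
      obtain ⟨F', π', hF', hπ', hflat'⟩ := step hd F (s.sup W) hflat (hW a).1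
      refine ⟨F', π' ≫ π, hF', epi_comp _ _, fun x hx => hflat' x ?_⟩
      rw [Finset.sup_insert, sup_comm] at hx
      exact hx
  obtain ⟨F, π, hF, hπ, hflat⟩ := key t
  refine ⟨F, π, hF, fun x => hflat x ?_, hπ⟩
  obtain ⟨i, hi, hxi⟩ := Set.mem_iUnion₂.mp (ht (Set.mem_univ x))
  exact Finset.le_sup (f := W) hi hxi

end Groth.Agent.S13534
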