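import Groth.Statements.S13535
import Groth.Agent.ProjBundleLib.Tensor
import Groth.Agent.CohBase.FlatBC.TensorSec
import Groth.Agent.CBC.Nhd
import Groth.Agent.CMReg.Closed
import Groth.Agent.ProperFin.FiniteMap

set_option autoImplicit false
universe u
open CategoryTheory CategoryTheory.Limits AlgebraicGeometry
open ResProp


namespace Groth.Agent.S13535

open TopologicalSpace
open Groth.Agent.KFlat.StalkTensor Groth.Agent.ProjBundleLib

/-- `G ⊗ f_* N ⟶ f_* (f^* G ⊗ N)`. -/
noncomputable def projMap {X Y : Scheme.{u}} (f : Y ⟶ X) (G : X.Modules) (N : Y.Modules) :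
    CohB1.tensorMod G ((Scheme.Modules.pushforward f).obj N) ⟶
      (Scheme.Modules.pushforward f).obj (CohB1.tensorMod ((Scheme.Modules.pullback f).obj G) N) :=
  tensV ((Scheme.Modules.pullbackPushforwardAdjunction f).unit.app G) (𝟙 _)

set_option maxHeartbeats 1000000 in
theorem isIso_projMap {X Y : Scheme.{u}} (f : Y ⟶ X) [IsAffineHom f] (G : X.Modules) [G.IsQuasicoherent]
    (N : Y.Modules) [N.IsQuasicoherent] : IsIso (projMap f G N) := by
  haveI := QCoh.isQuasicoherent_pushforward f N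
  haveI := LimTop.TensorQC.isQuasicoherent_tensM G ((Scheme.Modules.pushforward f).obj N)
  refine CBC.isIso_of_small_affine _ (fun _ => True) (fun y => ⟨⊤, trivial, trivial⟩)
    (fun _ _ _ _ => trivial) fun V hV _ => ?_
  have hs := CBC.bijective_of_stalkwise hV
    (LimTop.TensorQC.isStalkwiseLoc_secMap G ((Scheme.Modules.pushforward f).obj N) hV)
  obtain ⟨κ, hκ, hκ'⟩ := CohBase.FlatBC.exists_tensor_sec f G N (le_rfl : f ⁻¹ᵁ V ≤ f ⁻¹ᵁ V) hV
    (hV.preimage f)
  let L : Γ((Scheme.Modules.pushforward f).obj N, V) ≃ₗ[Γ(X, V)]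
      LFDesc.Sec f N (le_rfl : f ⁻¹ᵁ V ≤ f ⁻¹ᵁ V) :=
    { AddEquiv.refl Γ(N, f ⁻¹ᵁ V) with
      map_smul' := fun r m => by
        change (f.app V r • (show Γ(N, f ⁻¹ᵁ V) from m)) =
          f.appLE V (f ⁻¹ᵁ V) le_rfl r • (show Γ(N, f ⁻¹ᵁ V) from m)
        rw [Scheme.Hom.appLE_eq_app] }
  let e := (TensorProduct.comm Γ(X, V) Γ(G, V) Γ((Scheme.Modules.pushforward f).obj N, V)).trans
    (TensorProduct.congr L (LinearEquiv.refl Γ(X, V) Γ(G, V)))
  let l : _ →+ Γ(CohB1.tensorMod ((Scheme.Modules.pullback f).obj G) N, f ⁻¹ᵁ V) :=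
    AddMonoidHom.comp ((projMap f G N).app V).hom
      (LimTop.TensorQC.secMap G ((Scheme.Modules.pushforward f).obj N) V).toAddMonoidHom
  let r : _ →+ Γ(CohB1.tensorMod ((Scheme.Modules.pullback f).obj G) N, f ⁻¹ᵁ V) :=
    AddMonoidHom.comp κ e.toAddEquiv.toAddMonoidHom
  have key : ∀ z, l z = r z := by
    intro z
    induction z using TensorProduct.induction_on with
    | zero => rw [map_zero, map_zero]
    | tmul s m =>
      have h1 : e (s ⊗ₜ m) = L m ⊗ₜ s := by
        simp only [e, LinearEquiv.trans_apply, TensorProduct.comm_tmul, TensorProduct.congr_tmul,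
          LinearEquiv.refl_apply]
      have h2 : r (s ⊗ₜ m) = tmulSec (f ⁻¹ᵁ V) (LimTop.unitSec f G le_rfl s)
          (show Γ(N, f ⁻¹ᵁ V) from m) := (congrArg κ h1).trans (hκ' _ s)
      have h3 : l (s ⊗ₜ m) = vsec (projMap f G N) V (Props.GenTensor.tmul s m) := rfl
      have h4 : LimTop.unitSec f G (le_rfl : f ⁻¹ᵁ V ≤ f ⁻¹ᵁ V) s =
          vsec ((Scheme.Modules.pullbackPushforwardAdjunction f).unit.app G) V s :=
        QCoh.res_self _ le_rfl _
      rw [h2, h4, h3, projMap, vsec_tensV]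
      rfl
    | add a b ha hb => rw [map_add, map_add, ha, hb]
  refine (Function.Bijective.of_comp_iff _ hs).mp ?_
  have hr : Function.Bijective r := hκ.comp e.bijective
  have hl : Function.Bijective l := (funext key : ⇑l = ⇑r) ▸ hr
  exact hl

end Groth.Agent.S13535

namespace Groth.Agent.S13535

/-- Let X and Y be proper over a Noetherian ring A and let f : Y ⟶ X be a finite A-morphism. If a
sequence (E_n) of coherent modules on X is cohomologically d-ample (d a positive integer), meaning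
that for every coherent F the groups H^i(X, F ⊗ E_n) vanish for all i ≥ d + 1 and all large n, then
so is the sequence of pullbacks (f^*E_n) on Y. -/
theorem result (A : Type u) [CommRing A] [IsNoetherianRing A]
    {X Y : Scheme.{u}} (pX : X ⟶ Spec (CommRingCat.of A)) (pY : Y ⟶ Spec (CommRingCat.of A))
    [IsProper pX] [IsProper pY] (f : Y ⟶ X) (hf : f ≫ pX = pY) [IsFinite f]
    (d : ℕ) (hd : 0 < d) (E : ℕ → X.Modules) (hE : ∀ n, Coh.IsCoh (E n))
    (hamp : ∀ F : X.Modules, Coh.IsCoh F → ∃ n₀ : ℕ, ∀ n : ℕ, n₀ ≤ n → ∀ i : ℕ, d + 1 ≤ i →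
        Subsingleton (Coh.HH X (CohB1.tensorMod F (E n)) i)) :
    ∀ F : Y.Modules, Coh.IsCoh F → ∃ n₀ : ℕ, ∀ n : ℕ, n₀ ≤ n → ∀ i : ℕ, d + 1 ≤ i →
        Subsingleton (Coh.HH Y (CohB1.tensorMod F ((Scheme.Modules.pullback f).obj (E n))) i) := by
  intro F hF
  haveI : Coh.IsQCoh F := hF.1
  haveI : F.IsQuasicoherent := hF.1
  obtain ⟨n₀, hn⟩ := hamp ((Coh.push f).obj F) (ProperFin.isCoh_push_of_isFinite f F hF)
  refine ⟨n₀, fun n hle i hi => ?_⟩
  haveI : (E n).IsQuasicoherent := (hE n).1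
  haveI := QCoh.isQuasicoherent_pullback f (E n)
  haveI : Coh.IsQCoh (CohB1.tensorMod F ((Scheme.Modules.pullback f).obj (E n))) :=
    LimTop.TensorQC.isQuasicoherent_tensM F _
  haveI := isIso_projMap f (E n) F
  haveI := hn n hle i hi
  refine (CMReg.subsingleton_push_iff f _ i).1 ?_
  exact (CohLin.hIso (ProjTwist.tensComm ((Coh.push f).obj F) (E n) ≪≫ asIso (projMap f (E n) F) ≪≫
    (Scheme.Modules.pushforward f).mapIso (ProjTwist.tensComm _ _)) i).symm.injective.subsingleton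

end Groth.Agent.S13535
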