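import Groth.Statements.S13536
import Groth.Agent.CohDev.Gen
import Groth.Agent.ProperFin.FinEx
import Groth.Agent.CohLin.Basic
-- import your own Groth.Agent.* helpers here

set_option autoImplicit false
universe u
open CategoryTheory CategoryTheory.Limits AlgebraicGeometry
open ResProp

namespace Groth.Agent.S13536

open Groth.Agent.CohAff in
/-- Vanishing of cohomology passes to the direct image along an affine morphism. -/
theorem hh_push {X Y : Scheme.{u}} (f : X ⟶ Y) [IsAffineHom f] (M : X.Modules) [Coh.IsQCoh M] (k : ℕ)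
    (h : Subsingleton (Coh.HH X M k)) : Subsingleton (Coh.HH Y ((Coh.push f).obj M) k) := by
  let R := FRes.ofMod M
  refine subsingleton_of_forall_eq 0 fun x => ?_
  obtain ⟨z, rfl⟩ := (R.pushAff f).clsTop_surjective k x
  refine ((R.pushAff f).clsTop_eq_zero_iff k z).2 ((R.ex_pushAff_iff f k ⊤ z).2 ?_)
  exact (R.clsTop_eq_zero_iff k z).1 (h.elim _ _)

open Groth.Agent.CohDev in
/-- Coherent modules supported on a closed subscheme inherit its vanishing. -/
theorem van {X : Scheme.{u}} [IsNoetherian X] {Z : Scheme.{u}} (ι : Z ⟶ X) [IsClosedImmersion ι]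
    (n : ℕ) (hcd : ∀ G : Z.Modules, Coh.IsQCoh G → Subsingleton (Coh.HH Z G n))
    {M : X.Modules} (hM : Coh.IsCoh M) (hs : CohB1.support M ⊆ Set.range ι.base) :
    Subsingleton (Coh.HH X M n) := by
  refine devissage_on (Set.range ι.base) (fun M => Subsingleton (Coh.HH X M n)) (fun M hz => ?_)
    (fun S hS _ _ _ _ p₁ p₃ => ?_) (fun x hx J hJ hs => ?_) hM hs
  · refine subsingleton_of_forall_eq 0 fun y => ?_
    have h := CohLin.hMap_id M n y
    rw [hz.eq_of_src (𝟙 M) 0] at h
    rw [← h]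
    exact map_zero (CohLin.hMapHom M M n y)
  · haveI := p₁
    haveI := p₃
    exact CohLin.subsingleton_X₂ hS
  · obtain ⟨g, hg, hJc, -⟩ := hJ
    let e := unitIsoOfKilled ι (killed_ker_of_killed_ptIdeal ι hx (killed_of_mono g (killed_oz x)))
    haveI hq : Coh.IsQCoh ((Scheme.Modules.pullback ι).obj J) :=
      (ZClosLib.CohDescent.isCoh_pullback ι J hJc).1
    haveI := hh_push ι _ n (hcd _ hq)
    exact (CohLin.hIso e n).toEquiv.subsingleton

open Groth.Agent.CohDev Groth.Agent.PullStalk.Sky Groth.Agent.PullStalk.Exact in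
/-- A map bijective on stalks off `Z` induces isomorphisms in degrees above `cd Z + 1`. -/
theorem hh_equiv {X : Scheme.{u}} [IsNoetherian X] {Z : Scheme.{u}} (ι : Z ⟶ X) [IsClosedImmersion ι]
    (m : ℕ) (h1 : ∀ G : Z.Modules, Coh.IsQCoh G → Subsingleton (Coh.HH Z G m))
    (h2 : ∀ G : Z.Modules, Coh.IsQCoh G → Subsingleton (Coh.HH Z G (m + 1)))
    (h3 : ∀ G : Z.Modules, Coh.IsQCoh G → Subsingleton (Coh.HH Z G (m + 2)))
    {A B : X.Modules} (f : A ⟶ B) (hA : Coh.IsCoh A) (hB : Coh.IsCoh B)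
    (hf : ∀ y, y ∉ Set.range ι.base → Function.Bijective (stalkLin f y)) :
    Nonempty (Coh.HH X A (m + 1) ≃+ Coh.HH X B (m + 1)) := by
  obtain ⟨I, p, q, w₁, w₂, hI, hS₁, hS₂⟩ := exists_image f hA hB
  have hKc := isCoh_kernel' f hA hB
  have hCc := isCoh_cokernel f hA.1 hB
  have hK : CohB1.support (kernel f) ⊆ Set.range ι.base := fun y hy =>
    by_contra fun hn => not_mem_support_kernel f (hf y hn).1 hy
  have hC : CohB1.support (cokernel f) ⊆ Set.range ι.base := fun y hy =>
    by_contra fun hn => not_mem_support_cokernel f (hf y hn).2 hy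
  haveI := van ι (m + 1) h2 hKc hK
  haveI := van ι (m + 2) h3 hKc hK
  haveI := van ι m h1 hCc hC
  haveI := van ι (m + 1) h2 hCc hC
  have b1 : Function.Bijective (CohLin.hMap p (m + 1)) := by
    refine ⟨(injective_iff_map_eq_zero _).mpr fun x hx => ?_, fun x => ?_⟩
    · obtain ⟨y, rfl⟩ := CohLin.exists_hMap_f_eq hS₁ x hx
      rw [Subsingleton.elim y 0, map_zero]
    · exact CohLin.exists_hMap_g_eq hS₁ x (Subsingleton.elim _ _)
  have b2 : Function.Bijective (CohLin.hMap q (m + 1)) := by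
    refine ⟨(injective_iff_map_eq_zero _).mpr fun x hx => ?_, fun x => ?_⟩
    · obtain ⟨y, rfl⟩ := CohLin.exists_hδ_eq hS₂ x hx
      rw [Subsingleton.elim y 0, map_zero]
    · exact CohLin.exists_hMap_f_eq hS₂ x (Subsingleton.elim _ _)
  exact ⟨((LinearEquiv.ofBijective _ b1).trans (LinearEquiv.ofBijective _ b2)).toAddEquiv⟩

/-- On a Noetherian scheme X let Z be a closed subscheme of cohomological dimension at most k (every
quasi-coherent module on Z has zero cohomology in degrees ≥ k + 1) and let F, F' be coherent modules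
which are isomorphic on the open complement of Z. Then H^i(X, F) and H^i(X, F') are isomorphic for
all i ≥ k + 2 (existence of an additive isomorphism only; the identification depends on choices). -/
theorem result (X : Scheme.{u}) [IsNoetherian X]
    {Z : Scheme.{u}} (ι : Z ⟶ X) [IsClosedImmersion ι] (k : ℕ)
    (hcd : ∀ G : Z.Modules, Coh.IsQCoh G → ∀ i : ℕ, k + 1 ≤ i → Subsingleton (Coh.HH Z G i))
    (U : X.Opens) (hU : (U : Set X) = (Set.range ι.base)ᶜ)
    (F F' : X.Modules) (hF : Coh.IsCoh F) (hF' : Coh.IsCoh F')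
    (hiso : Nonempty (F.restrict U.ι ≅ F'.restrict U.ι)) (i : ℕ) (hi : k + 2 ≤ i) :
    Nonempty (Coh.HH X F i ≃+ Coh.HH X F' i) := by
  obtain ⟨θ⟩ := hiso
  obtain ⟨m, rfl⟩ : ∃ m, i = m + 1 := ⟨i - 1, by omega⟩
  let R := Scheme.Modules.restrictFunctor U.ι
  let φ : R.obj F ⟶ R.obj (F ⊞ F') := R.map biprod.inl + θ.hom ≫ R.map biprod.inr
  obtain ⟨K, ψ, e, hK, he⟩ := CohDev.exists_coh_extension U.ι (F ⊞ F')
    (CohDev.isQCoh_biprod hF.1 hF'.1) (R.obj F)
    (CohDev.isCoh_of_iso (Scheme.Modules.restrictFunctorIsoPullback U.ι |>.app F).symm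
      (ZClosLib.CohDescent.isCoh_pullback U.ι F hF)) φ
  have ha : R.map (ψ ≫ biprod.fst) = e.hom := by
    rw [R.map_comp, ← he, Category.assoc, Preadditive.add_comp, Category.assoc, ← R.map_comp,
      ← R.map_comp, biprod.inl_fst, biprod.inr_fst, R.map_id, R.map_zero, comp_zero,
      add_zero, Category.comp_id]
  have hb : R.map (ψ ≫ biprod.snd) = e.hom ≫ θ.hom := by
    rw [R.map_comp, ← he, Category.assoc, Preadditive.add_comp, Category.assoc, ← R.map_comp,
      ← R.map_comp, biprod.inl_snd, biprod.inr_snd, R.map_id, R.map_zero, zero_add,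
      Category.comp_id]
  haveI : IsIso (R.map (ψ ≫ biprod.fst)) := ha ▸ inferInstance
  haveI : IsIso (R.map (ψ ≫ biprod.snd)) := hb ▸ inferInstance
  have hr : ∀ y, y ∉ Set.range ι.base → y ∈ Set.range U.ι.base := fun y hy => by
    rw [Scheme.Opens.range_ι, hU]; exact hy
  have hc : ∀ j, k + 1 ≤ j → ∀ G : Z.Modules, Coh.IsQCoh G → Subsingleton (Coh.HH Z G j) :=
    fun j hj G hG => hcd G hG j hj
  obtain ⟨e₁⟩ := hh_equiv ι m (hc _ (by omega)) (hc _ (by omega)) (hc _ (by omega))
    (ψ ≫ biprod.fst) hK hF fun y hy => CohDev.stalk_bijective_of_isIso_restrict U.ι _ (hr y hy)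
  obtain ⟨e₂⟩ := hh_equiv ι m (hc _ (by omega)) (hc _ (by omega)) (hc _ (by omega))
    (ψ ≫ biprod.snd) hK hF' fun y hy => CohDev.stalk_bijective_of_isIso_restrict U.ι _ (hr y hy)
  exact ⟨e₁.symm.trans e₂⟩

end Groth.Agent.S13536
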