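import Groth.Statements.S13543
import Groth.Agent.GenFam.Span
import Groth.Agent.GenFam.Sqz
import Groth.Agent.GenFam.DirSpec
import Groth.Agent.SymLib.Affine
import Groth.Agent.RelSpecLib.SpecMapGamma
import Groth.Agent.LimTop.SubAlg
import Groth.Agent.S8255
import Groth.Agent.ExtFilt.Stalkwise

set_option autoImplicit false
universe u
open CategoryTheory CategoryTheory.Limits AlgebraicGeometry
open ResProp TopologicalSpace Opposite
open Groth.Agent.GenFam Groth.Agent.QCoh Groth.Agent.PullStalk.Sky Groth.Agent.PullStalk.Exact Groth.Agent.Omega.Stalks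
open RelSpec

namespace Groth.Agent.S13543

/-- An algebra homomorphism from a module map to the direct image algebra, surjective over chosen affine opens. -/
theorem exists_embed {X Y : Scheme.{u}} (f : Y ⟶ X) [IsAffineHom f] (F : X.Modules) [F.IsQuasicoherent]
    (φ : F ⟶ (QCAlg.directImage f).toModule)
    (hφ : ∀ x : X, ∃ (U : X.Opens) (_ : IsAffineOpen U), x ∈ U ∧
      ∀ R : Subring ((QCAlg.directImage f).presheaf.obj (op U)),
        (∀ r, ((QCAlg.directImage f).str.app (op U)).hom r ∈ R) → (∀ e : Γ(F, U), φ.app U e ∈ R) → R = ⊤) :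
    ∃ (B : QCAlg X) (j : F ⟶ B.toModule) (c : Y ⟶ B.spec),
      RelSpec.IsSymAlg F B j ∧ IsClosedImmersion c ∧ c ≫ B.π = f := by
  have hsym := SymLib.isSymAlg_symAlg F
  obtain ⟨ψ, hψ, -⟩ := hsym (QCAlg.directImage f) φ
  obtain ⟨G, hG, hGf⟩ := exists_iso_spec f
  have hcl : IsClosedImmersion (QCAlg.specMap ψ) := by
    choose U hU hxU hgen using hφ
    rw [IsZariskiLocalAtTarget.iff_of_iSup_eq_top (P := @IsClosedImmersion)
      (fun x : X => (SymLib.symAlg F).π ⁻¹ᵁ U x) (by
        rw [eq_top_iff]
        intro y _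
        exact Opens.mem_iSup.2 ⟨(SymLib.symAlg F).π y, hxU _⟩)]
    intro x
    have hpre : QCAlg.specMap ψ ⁻¹ᵁ ((SymLib.symAlg F).ι (U x) (hU x)).opensRange =
        ((QCAlg.directImage f).ι (U x) (hU x)).opensRange := by
      rw [← QCAlg.π_preimage, ← QCAlg.π_preimage, ← Scheme.Hom.comp_preimage, QCAlg.specMap_π]
    have pb := IsOpenImmersion.isPullback (Spec.map (ψ.hom.app (op (U x)))) ((QCAlg.directImage f).ι (U x) (hU x))
      ((SymLib.symAlg F).ι (U x) (hU x)) (QCAlg.specMap ψ) (QCAlg.ι_specMap _ _ _) hpre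
    rw [QCAlg.π_preimage (SymLib.symAlg F) (U x) (hU x)]
    have hcl0 : IsClosedImmersion (Spec.map (ψ.hom.app (op (U x)))) := by
      refine IsClosedImmersion.spec_of_surjective _ ?_
      rw [← RingHom.range_eq_top]
      refine hgen x _ (fun r => ⟨((SymLib.symAlg F).str.app (op (U x))).hom r,
        congr($(NatTrans.congr_app ψ.comm (op (U x))).hom r)⟩) fun e => ⟨(SymLib.jSym F).app (U x) e, ?_⟩
      exact congr(($(hψ).app (U x)) e)
    rw [MorphismProperty.arrow_mk_iso_iff @IsClosedImmersion (morphismRestrictOpensRange _ _)]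
    rw [← pb.flip.isoPullback_inv_snd, MorphismProperty.cancel_left_of_respectsIso @IsClosedImmersion]
    exact hcl0
  refine ⟨SymLib.symAlg F, SymLib.jSym F, inv G ≫ QCAlg.specMap ψ, hsym, inferInstance, ?_⟩
  rw [Category.assoc, QCAlg.specMap_π, ← hGf, IsIso.inv_hom_id_assoc]

/-- In the case of schemes, on a quasi-compact quasi-separated scheme X let (E_i) be a family of
finitely presented quasi-coherent modules closed (up to isomorphism) under binary tensor products
and binary direct sums. Then (E_i) is a generating family, i.e. every quasi-coherent module is a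
quotient of a direct sum of copies of the E_i, if and only if every affine morphism Y ⟶ X factors
over X through a closed immersion of Y into the vector bundle V(E) = Spec Sym(E) of a direct sum E
of copies of members of the family, with finitely many summands whenever Y ⟶ X is of finite type
(V(E) is given as the relative spectrum of a quasi-coherent algebra that is the symmetric algebra of
E). (The published statement is for quasi-compact quasi-separated algebraic stacks and takes E to be
the direct sum of a subfamily without repeated members; this row is the case of schemes and allows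
repetitions, as the printed argument produces: for the generating family of free modules k, k^2,
k^3, … on a point and the affine morphism from the spectrum of a polynomial ring in uncountably many
variables, no direct sum of distinct members works.) -/
theorem result (X : Scheme.{u}) [CompactSpace X] [QuasiSeparatedSpace X]
    {ι : Type u} (E : ι → X.Modules) (hE : ∀ i, Coh.IsQCoh (E i) ∧ CohB1.IsFP (E i))
    (htens : ∀ i i' : ι, ∃ i'' : ι, Nonempty (E i'' ≅ CohB1.tensorMod (E i) (E i')))
    (hsum : ∀ i i' : ι, ∃ i'' : ι, Nonempty (E i'' ≅ E i ⊞ E i')) :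
    (∀ M : X.Modules, Coh.IsQCoh M → ∃ (κ : Type u) (j : κ → ι) (π : (∐ fun k : κ => E (j k)) ⟶ M), Epi π) ↔
    (∀ (Y : Scheme.{u}) (f : Y ⟶ X) [IsAffineHom f],
      ∃ (κ : Type u) (j : κ → ι) (B : RelSpec.QCAlg X) (φ : (∐ fun k : κ => E (j k)) ⟶ B.toModule) (c : Y ⟶ B.spec),
        RelSpec.IsSymAlg (∐ fun k : κ => E (j k)) B φ ∧ IsClosedImmersion c ∧ c ≫ B.π = f ∧
        (LocallyOfFiniteType f → Finite κ)) := by
  classical
  haveI : ∀ i, (E i).IsQuasicoherent := fun i => (hE i).1
  constructor
  · intro hgen Y f _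
    let A := QCAlg.directImage f
    haveI : A.toModule.IsQuasicoherent := LimTop.SubAlg.isQuasicoherent_toModule A
    obtain ⟨κ, j, π, hπ⟩ := hgen A.toModule ‹_›
    by_cases hft : LocallyOfFiniteType f
    · let 𝒰 := X.affineCover.finiteSubcover
      let U : 𝒰.I₀ → X.Opens := fun i => (𝒰.f i).opensRange
      have hU : ∀ i, IsAffineOpen (U i) := fun i => isAffineOpen_opensRange _
      haveI : Finite 𝒰.I₀ := Finite.of_fintype _
      have hfg : ∀ i, ∃ T : Finset Γ(Y, f ⁻¹ᵁ U i), ∀ R : Subring Γ(Y, f ⁻¹ᵁ U i),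
          (∀ r, f.app (U i) r ∈ R) → (∀ y ∈ T, y ∈ R) → R = ⊤ := by
        intro i
        have h1 : (f.app (U i)).hom.FiniteType := by
          have := f.finiteType_appLE (hU i) ((hU i).preimage f) le_rfl
          rwa [← Scheme.Hom.app_eq_appLE] at this
        let _ := (f.app (U i)).hom.toAlgebra
        obtain ⟨T, hT⟩ := (show Algebra.FiniteType Γ(X, U i) Γ(Y, f ⁻¹ᵁ U i) from h1).out
        refine ⟨T, fun R hR hTR => top_le_iff.mp fun z _ => ?_⟩
        have hz : z ∈ (Algebra.adjoin Γ(X, U i) (T : Set _)).toSubring := by rw [hT]; trivial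
        rw [Algebra.adjoin_eq_ring_closure] at hz
        exact Subring.closure_le.mpr (Set.union_subset (Set.range_subset_iff.mpr hR) hTR) hz
      choose T hT using hfg
      have hfin : ∀ p : (i : 𝒰.I₀) × T i, ∃ s : Finset κ, (show Γ(A.toModule, U p.1) from p.2.1) ∈
          ⨆ k ∈ s, LinearMap.range (CohDev.appLin (Sigma.ι (fun k => E (j k)) k ≫ π) (U p.1)) := by
        intro p
        refine Submodule.exists_finset_of_mem_iSup _ ?_
        rw [span_sections_eq_top (fun k => inferInstance) π (hU p.1)]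
        trivial
      choose S hS using hfin
      haveI : Fintype ((i : 𝒰.I₀) × T i) := Fintype.ofFinite _
      let κ₀ : Finset κ := Finset.univ.biUnion S
      let φ : (∐ fun k : κ₀ => E (j k)) ⟶ A.toModule :=
        Sigma.desc fun k => Sigma.ι (fun k => E (j k)) k.1 ≫ π
      obtain ⟨B, jB, c, h1, h2, h3⟩ := exists_embed f _ φ (fun x => by
        obtain ⟨i, y, hy⟩ := 𝒰.exists_eq x
        refine ⟨U i, hU i, ⟨y, hy⟩, fun R hR hφR => hT i R hR fun y hy => ?_⟩
        have hle : (⨆ k ∈ S ⟨i, y, hy⟩, LinearMap.range (CohDev.appLin (Sigma.ι (fun k => E (j k)) k ≫ π) (U i))) ≤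
            LinearMap.range (CohDev.appLin φ (U i)) := by
          refine iSup₂_le fun k hk => ?_
          rintro _ ⟨e, rfl⟩
          let k' : κ₀ := ⟨k, Finset.mem_biUnion.2 ⟨_, Finset.mem_univ _, hk⟩⟩
          refine ⟨(Sigma.ι (fun k : κ₀ => E (j k)) k').app (U i) e, ?_⟩
          show (Sigma.ι (fun k : κ₀ => E (j k)) k' ≫ φ).app (U i) e = _
          rw [Sigma.ι_desc]
          rfl
        obtain ⟨e, he⟩ := hle (hS ⟨i, y, hy⟩)
        exact (show φ.app (U i) e = y from he) ▸ hφR e)
      exact ⟨κ₀, fun k => j k, B, jB, c, h1, h2, h3, fun _ => inferInstance⟩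
    · obtain ⟨B, jB, c, h1, h2, h3⟩ := exists_embed f _ π (fun x => by
        obtain ⟨_, ⟨U, hU, rfl⟩, hxU, -⟩ :=
          X.isBasis_affineOpens.exists_subset_of_mem_open (Set.mem_univ x) isOpen_univ
        refine ⟨U, hU, hxU, fun R _ hR => top_le_iff.mp fun z _ => ?_⟩
        obtain ⟨e, he⟩ := app_surjective_of_epi π hU z
        exact he ▸ hR e)
      exact ⟨κ, j, B, jB, c, h1, h2, h3, fun h => absurd h hft⟩
  · intro hemb M hM
    haveI : M.IsQuasicoherent := hM
    obtain ⟨κ, j, B, φ, c, hB, hc, hcπ, -⟩ := hemb (sqz M).spec (sqz M).π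
    haveI : IsIso B.gammaMap := S8255.result B
    haveI : IsIso (sqz M).gammaMap := S8255.result (sqz M)
    let ψ : B ⟶ sqz M := ⟨inv B.gammaMap ≫ AffAlg.algHom B.π (sqz M).π c hcπ ≫ (sqz M).gammaMap, by
      rw [← B.π_c_gammaMap, Category.assoc, IsIso.hom_inv_id_assoc, ← Category.assoc,
        AffAlg.algHom_comm, (sqz M).π_c_gammaMap]⟩
    have hψ : ∀ (U : X.Opens), IsAffineOpen U → Function.Surjective (ψ.hom.app (op U)) := by
      intro U hU
      show Function.Surjective ((inv B.gammaMap).app (op U) ≫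
        (AffAlg.algHom B.π (sqz M).π c hcπ).app (op U) ≫ (sqz M).gammaMap.app (op U))
      simp only [CommRingCat.hom_comp, RingHom.coe_comp]
      refine ((ConcreteCategory.bijective_of_isIso _).2.comp ?_).comp (ConcreteCategory.bijective_of_isIso _).2
      rw [AffAlgLib.algHom_app, Scheme.Hom.appLE, CommRingCat.hom_comp, RingHom.coe_comp]
      refine Function.Surjective.comp ?_ (c.app_surjective _ (hU.preimage B.π))
      have e : c ⁻¹ᵁ (B.π ⁻¹ᵁ U) = (sqz M).π ⁻¹ᵁ U := by rw [← Scheme.Hom.comp_preimage, hcπ]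
      rw [show homOfLE (AffAlgLib.le_preimage B.π (sqz M).π hcπ U) = eqToHom e.symm from Subsingleton.elim _ _]
      exact (ConcreteCategory.bijective_of_isIso _).2
    let π : (∐ fun k : κ => E (j k)) ⟶ M := φ ≫ QCAlg.Hom.toModuleMap ψ ≫ sqSnd M
    refine ⟨κ, j, π, epi_of_stalk fun x t => ?_⟩
    obtain ⟨V, hxV, m, rfl⟩ := exists_germM_eq M x t
    obtain ⟨U, hU, hxU, hUV⟩ := exists_isAffineOpen_mem_and_subset (x := x) (U := V) hxV
    obtain ⟨b, hb⟩ := hψ U hU (TrivSqZeroExt.inr (QCoh.res M hUV m))
    have key : ∀ b, (ψ.hom.app (op U) b : Sq M U).snd ∈ LinearMap.range (CohDev.appLin π U) := by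
      intro b
      induction b using SymLib.affInduction hB hU with
      | hstr r =>
        rw [show ψ.hom.app (op U) ((B.str.app (op U)).hom r) = ((sqz M).str.app (op U)).hom r from
          congr($(NatTrans.congr_app ψ.comm (op U)).hom r)]
        exact (TrivSqZeroExt.snd_inl (M := Γ(M, U)) r).symm ▸ zero_mem _
      | hj e => exact ⟨e, rfl⟩
      | hmul a b ha hb =>
        rw [map_mul]
        have e := TrivSqZeroExt.snd_mul (show Sq M U from ψ.hom.app (op U) a) (show Sq M U from ψ.hom.app (op U) b)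
        rw [op_smul_eq_smul] at e
        refine cast (congrArg (fun t => t ∈ LinearMap.range (CohDev.appLin π U)) e.symm) ?_
        exact add_mem (Submodule.smul_mem _ _ hb) (Submodule.smul_mem _ _ ha)
      | hadd a b ha hb => rw [map_add]; exact add_mem ha hb
    obtain ⟨e, he⟩ := key b
    refine ⟨germM (∐ fun k : κ => E (j k)) U x hxU e, ?_⟩
    rw [stalkLin_germ, show π.app U e = QCoh.res M hUV m from
      he.trans ((congrArg TrivSqZeroExt.snd hb).trans (TrivSqZeroExt.snd_inr _ _))]
    exact M.presheaf.germ_res_apply _ x hxU m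

end Groth.Agent.S13543
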