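import Groth.Statements.S13541
import Groth.Agent.S13543
import Groth.Agent.PerfModel.Lift
import Groth.Agent.PerfTri.Betti
import Mathlib.AlgebraicGeometry.Morphisms.Finite

set_option autoImplicit false
universe u
open CategoryTheory CategoryTheory.Limits AlgebraicGeometry
open ResProp

namespace Groth.Agent.S13541

open Groth.Agent.GenFam Groth.Agent.QCoh Groth.Agent.PullStalk.Sky Groth.Agent.PullStalk.Exact Groth.Agent.Omega.Stalks
open Groth.Agent.Props.SubMod Groth.Agent.Props.SubSheaf
open RelSpec TopologicalSpace Opposite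

/-- The spectrum of the square zero algebra of a finite type module is finite. -/
theorem isFinite_sqz {S : Scheme.{u}} (M : S.Modules) [M.IsQuasicoherent]
    (hM : SheafOfModules.IsFiniteType.{u} M) : IsFinite (sqz M).π := by
  haveI : IsIso (sqz M).gammaMap := S8255.result (sqz M)
  refine { finite_app := fun U hU => ?_ }
  have h : (sqz M).π.app U = (sqz M).str.app (op U) ≫ inv ((sqz M).gammaMap.app (op U)) := by
    rw [← (sqz M).π_c_gammaMap, NatTrans.comp_app, Category.assoc, IsIso.hom_inv_id]
    exact (Category.comp_id _).symm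
  rw [h, CommRingCat.hom_comp]
  refine RingHom.Finite.comp (RingHom.Finite.of_surjective _
    (ConcreteCategory.bijective_of_isIso _).2) ?_
  haveI := QCoh.finite_sections_of_isFiniteType M hU
  let φ : Γ(S, U) →+* Sq M U := ((sqz M).str.app (op U)).hom
  show φ.Finite
  show (algebraMap Γ(S, U) (Sq M U)).Finite
  rw [RingHom.finite_algebraMap]
  exact Module.Finite.of_surjective
    ((Algebra.linearMap Γ(S, U) (Sq M U)).coprod ((TrivSqZeroExt.inrHom Γ(S, U) Γ(M, U)).restrictScalars Γ(S, U)))
    fun x => ⟨(x.fst, x.snd), TrivSqZeroExt.inl_fst_add_inr_snd_eq x⟩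

/-- In the case of schemes, a Noetherian scheme S has the resolution property exactly when each affine
finite-type morphism X ⟶ S factors over S through a closed immersion of X into a vector bundle V(E)
= Spec Sym(E), E a finite locally free module on S (V(E) is given as the relative spectrum of a
quasi-coherent algebra A with a map E ⟶ A making A the symmetric algebra of E). (The published
statement is for Noetherian algebraic stacks; this row is the case of schemes.) -/
theorem result (S : Scheme.{u}) [IsNoetherian S] :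
    PerfAux.HasResolutionProperty S ↔
      ∀ (X : Scheme.{u}) (f : X ⟶ S) [IsAffineHom f] [LocallyOfFiniteType f],
        ∃ (E : S.Modules) (A : RelSpec.QCAlg S) (j : E ⟶ A.toModule) (i : X ⟶ A.spec),
          Coh.IsQCoh E ∧ FlatMod.IsFinLocFree E ∧ RelSpec.IsSymAlg E A j ∧ IsClosedImmersion i ∧ i ≫ A.π = f := by
  classical
  constructor
  · intro hS X f _ _
    let A := QCAlg.directImage f
    haveI : A.toModule.IsQuasicoherent := LimTop.SubAlg.isQuasicoherent_toModule A
    obtain ⟨σ, hσ⟩ := Props.QApproxMain.exists_affine_finite_cover S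
    have hfg : ∀ W : S.affineOpens, ∃ T : Finset Γ(X, f ⁻¹ᵁ W.1), ∀ R : Subring Γ(X, f ⁻¹ᵁ W.1),
        (∀ r, f.app W.1 r ∈ R) → (∀ y ∈ T, y ∈ R) → R = ⊤ := by
      intro W
      have h1 : (f.app W.1).hom.FiniteType := by
        have := f.finiteType_appLE W.2 (W.2.preimage f) le_rfl
        rwa [← Scheme.Hom.app_eq_appLE] at this
      let _ := (f.app W.1).hom.toAlgebra
      obtain ⟨T, hT⟩ := (show Algebra.FiniteType Γ(S, W.1) Γ(X, f ⁻¹ᵁ W.1) from h1).out
      refine ⟨T, fun R hR hTR => top_le_iff.mp fun z _ => ?_⟩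
      have hz : z ∈ (Algebra.adjoin Γ(S, W.1) (T : Set _)).toSubring := by rw [hT]; trivial
      rw [Algebra.adjoin_eq_ring_closure] at hz
      exact Subring.closure_le.mpr (Set.union_subset (Set.range_subset_iff.mpr hR) hTR) hz
    choose T hT using hfg
    let κ := Σ W : S.affineOpens, Γ(X, f ⁻¹ᵁ W.1)
    choose Sb hSb hSb' using fun k : κ =>
      Props.SubExt.exists_sub_through_section A.toModule k.1.1 k.1.2 (show Γ(A.toModule, k.1.1) from k.2)
    let S' : StalkSub A.toModule := fun y => ⨆ k ∈ σ.sigma T, Sb k y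
    have hS' : FTOn S' ⊤ := PerfModel.ftOn_iSup _ Sb fun k _ => hSb k
    haveI := isQuasicoherent_sub hS'
    obtain ⟨E, π, hE, hπ⟩ := hS (sub S') (isQuasicoherent_sub hS') (isFiniteType_sub hS')
    haveI hEq : E.IsQuasicoherent := PerfTri.Betti.isQuasicoherent_of_isFinLocFree hE
    obtain ⟨B, j, c, hB, hc, hcπ⟩ := Groth.Agent.S13543.exists_embed f E (π ≫ incl S') (fun x => by
      obtain ⟨W, hW, hx⟩ := hσ x
      refine ⟨W.1, W.2, hx, fun R hR hφR => hT W R hR fun y hy => ?_⟩
      have hk : (⟨W, y⟩ : κ) ∈ σ.sigma T := Finset.mem_sigma.2 ⟨hW, hy⟩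
      obtain ⟨s, hs⟩ := (mem_range_incl S' (show Γ(A.toModule, W.1) from y)).2 fun z hz =>
        le_iSup₂ (f := fun k (_ : k ∈ σ.sigma T) => Sb k z) _ hk
          ((mem_range_incl (Sb ⟨W, y⟩) _).1 (hSb' ⟨W, y⟩) z hz)
      obtain ⟨e, he⟩ := QCoh.app_surjective_of_epi π W.2 s
      have h2 : (π ≫ incl S').app W.1 e = (show Γ(A.toModule, W.1) from y) := by
        rw [Scheme.Modules.Hom.comp_app]
        exact (congrArg ((incl S').app W.1) he).trans hs
      exact h2 ▸ hφR e)
    exact ⟨E, B, j, c, hEq, hE, hB, hc, hcπ⟩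
  · intro hemb M hM hMft
    haveI : M.IsQuasicoherent := hM
    haveI : IsFinite (sqz M).π := isFinite_sqz M hMft
    obtain ⟨E, B, φ, c, hEq, hE, hB, hc, hcπ⟩ := hemb (sqz M).spec (sqz M).π
    haveI : E.IsQuasicoherent := hEq
    haveI : IsIso B.gammaMap := S8255.result B
    haveI : IsIso (sqz M).gammaMap := S8255.result (sqz M)
    let ψ : B ⟶ sqz M := ⟨inv B.gammaMap ≫ AffAlg.algHom B.π (sqz M).π c hcπ ≫ (sqz M).gammaMap, by
      rw [← B.π_c_gammaMap, Category.assoc, IsIso.hom_inv_id_assoc, ← Category.assoc,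
        AffAlg.algHom_comm, (sqz M).π_c_gammaMap]⟩
    have hψ : ∀ (U : S.Opens), IsAffineOpen U → Function.Surjective (ψ.hom.app (op U)) := by
      intro U hU
      show Function.Surjective ((inv B.gammaMap).app (op U) ≫
        (AffAlg.algHom B.π (sqz M).π c hcπ).app (op U) ≫ (sqz M).gammaMap.app (op U))
      simp only [CommRingCat.hom_comp, RingHom.coe_comp]
      refine ((ConcreteCategory.bijective_of_isIso _).2.comp ?_).comp (ConcreteCategory.bijective_of_isIso _).2
      rw [AffAlgLib.algHom_app, Scheme.Hom.appLE, CommRingCat.hom_comp, RingHom.coe_comp]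
      refine Function.Surjective.comp ?_ (c.app_surjective _ (hU.preimage B.π))
      have e : c ⁻¹ᵁ (B.π ⁻¹ᵁ U) = (sqz M).π ⁻¹ᵁ U := by rw [← Scheme.Hom.comp_preimage, hcπ]
      rw [show homOfLE (AffAlgLib.le_preimage B.π (sqz M).π hcπ U) = eqToHom e.symm from Subsingleton.elim _ _]
      exact (ConcreteCategory.bijective_of_isIso _).2
    let π : E ⟶ M := φ ≫ QCAlg.Hom.toModuleMap ψ ≫ sqSnd M
    refine ⟨E, π, hE, Props.QApproxMain.epi_of_cover π fun x => ?_⟩
    obtain ⟨U, hU, hxU, -⟩ := exists_isAffineOpen_mem_and_subset (X := S) (TopologicalSpace.Opens.mem_top x)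
    refine ⟨U, hU, hxU, fun m => ?_⟩
    obtain ⟨b, hb⟩ := hψ U hU (TrivSqZeroExt.inr m)
    have key : ∀ b, (ψ.hom.app (op U) b : Sq M U).snd ∈ LinearMap.range (CohDev.appLin π U) := by
      intro b
      induction b using SymLib.affInduction hB hU with
      | hstr r =>
        rw [show ψ.hom.app (op U) ((B.str.app (op U)).hom r) = ((sqz M).str.app (op U)).hom r from
          congr($(NatTrans.congr_app ψ.comm (op U)).hom r)]
        exact (TrivSqZeroExt.snd_inl (M := Γ(M, U)) r).symm ▸ zero_mem _
      | hj e => exact ⟨e, rfl⟩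
      | hmul a b ha hb =>
        rw [map_mul]
        have e := TrivSqZeroExt.snd_mul (show Sq M U from ψ.hom.app (op U) a) (show Sq M U from ψ.hom.app (op U) b)
        rw [op_smul_eq_smul] at e
        refine cast (congrArg (fun t => t ∈ LinearMap.range (CohDev.appLin π U)) e.symm) ?_
        exact add_mem (Submodule.smul_mem _ _ hb) (Submodule.smul_mem _ _ ha)
      | hadd a b ha hb => rw [map_add]; exact add_mem ha hb
    obtain ⟨e, he⟩ := key b
    exact ⟨e, he.trans ((congrArg TrivSqZeroExt.snd hb).trans (TrivSqZeroExt.snd_inr _ _))⟩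

end Groth.Agent.S13541
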