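import Groth.Statements.S13542
import Groth.Agent.GenFam.FiniteFlat

set_option autoImplicit false
universe u
open CategoryTheory CategoryTheory.Limits AlgebraicGeometry
open ResProp
open Groth.Agent.GenFam Groth.Agent.PullStalk.Sky Groth.Agent.PullStalk.Exact Groth.Agent.Omega.Stalks
  Groth.Agent.QCoh

namespace Groth.Agent.S13542

/-- In the case of schemes over an affine base, let f : X ⟶ Y be finite, flat, of finite presentation
and surjective between quasi-compact quasi-separated schemes. If a family (E_i) of finitely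
presented quasi-coherent modules on X is generating, i.e. every quasi-coherent module on X is a
quotient of a direct sum of copies of the E_i, then the family of direct images (f_*E_i) is
generating on Y. (The published statement is for morphisms of algebraic stacks and families
generating relative to a further morphism; this row is the case of schemes with the absolute notion
of a generating family.) -/
theorem result {X Y : Scheme.{u}}
    [CompactSpace X] [QuasiSeparatedSpace X] [CompactSpace Y] [QuasiSeparatedSpace Y]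
    (f : X ⟶ Y) [IsFinite f] [Flat f] [LocallyOfFinitePresentation f] [Surjective f]
    {ι : Type u} (E : ι → X.Modules) (hE : ∀ i, Coh.IsQCoh (E i) ∧ CohB1.IsFP (E i))
    (hgen : ∀ M : X.Modules, Coh.IsQCoh M →
      ∃ (κ : Type u) (j : κ → ι) (π : (∐ fun k : κ => E (j k)) ⟶ M), Epi π) :
    ∀ N : Y.Modules, Coh.IsQCoh N →
      ∃ (κ : Type u) (j : κ → ι) (π : (∐ fun k : κ => (Scheme.Modules.pushforward f).obj (E (j k))) ⟶ N), Epi π := by
  intro N hN
  have hA := isFinLocFree_pushO f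
  haveI : (pushO f).IsQuasicoherent := PerfTri.Betti.isQuasicoherent_of_isFinLocFree hA
  have hP : Coh.IsQCoh (homO f N) := HomShQC.isQuasicoherent_homSh (pushO f) N (Props.QProj.isFP (pushO f) hA) hN
  haveI : (homO f N).IsQuasicoherent := hP
  haveI : N.IsQuasicoherent := hN
  obtain ⟨ev, hev⟩ := exists_ev f N
  let M := (Scheme.Modules.pullback f).obj (homO f N)
  haveI : M.IsQuasicoherent := QCoh.isQuasicoherent_pullback f (homO f N)
  obtain ⟨κ, j, π, hπ⟩ := hgen M ‹_›
  let ρ : ∀ k : κ, (Scheme.Modules.pushforward f).obj (E (j k)) ⟶ N := fun k =>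
    (Scheme.Modules.pushforward f).map (Sigma.ι (fun k => E (j k)) k ≫ π) ≫ ev
  refine ⟨κ, j, Sigma.desc ρ, epi_of_stalk fun y t => ?_⟩
  obtain ⟨U, hy, n, rfl⟩ := exists_germM_eq N y t
  obtain ⟨V, hV, hyV, hVU⟩ := exists_isAffineOpen_mem_and_subset (x := y) (U := U) hy
  have hVU' : V ≤ U := hVU
  letI := (f.app V).hom.toAlgebra
  haveI : Module.Finite Γ(Y, V) Γ(X, f ⁻¹ᵁ V) := IsFinite.finite_app f V hV
  haveI : Module.Flat Γ(Y, V) Γ(X, f ⁻¹ᵁ V) := by
    have := f.flat_appLE hV (hV.preimage f) le_rfl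
    rwa [← Scheme.Hom.app_eq_appLE] at this
  haveI : Algebra.FinitePresentation Γ(Y, V) Γ(X, f ⁻¹ᵁ V) := by
    have := LocallyOfFinitePresentation.finitePresentation_appLE (f := f) hV (hV.preimage f) le_rfl
    rwa [← Scheme.Hom.app_eq_appLE] at this
  haveI : Module.FinitePresentation Γ(Y, V) Γ(X, f ⁻¹ᵁ V) :=
    .of_finite_of_finitePresentation _ _
  haveI : Module.Projective Γ(Y, V) Γ(X, f ⁻¹ᵁ V) := Module.Flat.projective_of_finitePresentation
  obtain ⟨φ₁, hφ₁⟩ := exists_form_one Γ(Y, V) Γ(X, f ⁻¹ᵁ V) fun m hm htop => by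
    have hy' : hV.fromSpec ⟨m, hm.isPrime⟩ ∈ V := hV.range_fromSpec.le ⟨_, rfl⟩
    obtain ⟨x, hx⟩ := f.surjective (hV.fromSpec ⟨m, hm.isPrime⟩)
    have hxW : x ∈ f ⁻¹ᵁ V := by show f x ∈ V; rw [hx]; exact hy'
    have hc := IsAffineOpen.comap_primeIdealOf_appLE (f := f) (x := x) V hV (f ⁻¹ᵁ V) (hV.preimage f) le_rfl hxW
    have he : (hV.primeIdealOf ⟨f x, hxW⟩).asIdeal = m := by
      refine congrArg PrimeSpectrum.asIdeal (hV.fromSpec.isOpenEmbedding.injective (?_ : hV.fromSpec _ = hV.fromSpec ⟨m, hm.isPrime⟩))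
      rw [hV.fromSpec_primeIdealOf]
      exact hx
    refine ((hV.preimage f).primeIdealOf ⟨x, hxW⟩).2.ne_top (top_le_iff.1 (htop.symm.le.trans ?_))
    rw [Ideal.map_le_iff_le_comap]
    intro r hr
    rw [← he, ← hc] at hr
    rw [Ideal.mem_comap, RingHom.algebraMap_toAlgebra, Scheme.Hom.app_eq_appLE]
    exact hr
  let φ₀ : Γ(pushO f, V) →ₗ[Γ(Y, V)] Γ(N, V) :=
    { toFun := fun b => φ₁ (show Γ(X, f ⁻¹ᵁ V) from b) • res N hVU' n
      map_add' := fun a b => by
        show φ₁ ((show Γ(X, f ⁻¹ᵁ V) from a) + (show Γ(X, f ⁻¹ᵁ V) from b)) • _ = _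
        rw [map_add, add_smul]
      map_smul' := fun r b => by
        show φ₁ (r • (show Γ(X, f ⁻¹ᵁ V) from b)) • _ = r • (φ₁ (show Γ(X, f ⁻¹ᵁ V) from b) • _)
        rw [map_smul, smul_eq_mul, mul_smul] }
  obtain ⟨φ, hφ⟩ := (HomShQC.secEquiv (pushO f) N hV).surjective φ₀
  have hz : ev.app V (LimTop.unitSec f (homO f N) (le_rfl : f ⁻¹ᵁ V ≤ f ⁻¹ᵁ V) φ) = res N hVU' n := by
    have h1 := hev ⟨V, hV⟩ 1 φ
    rw [one_smul] at h1
    rw [h1, show HomShQC.sec (pushO f) N φ = φ₀ from hφ]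
    exact (congrArg (· • res N hVU' n) hφ₁).trans (one_smul _ _)
  let g : Γ(M, f ⁻¹ᵁ V) →+ N.presheaf.stalk y :=
    (N.presheaf.germ V y hyV).hom.comp (ev.app V).hom
  have hmem : ∀ z ∈ (⨆ k, LinearMap.range (CohDev.appLin (Sigma.ι (fun k => E (j k)) k ≫ π) (f ⁻¹ᵁ V))),
      g z ∈ LinearMap.range (stalkLin (Sigma.desc ρ) y) := by
    intro z hz
    induction hz using Submodule.iSup_induction' with
    | mem k z hz =>
      obtain ⟨e, rfl⟩ := hz
      refine ⟨stalkLin (Sigma.ι _ k) y (germM ((Scheme.Modules.pushforward f).obj (E (j k))) V y hyV e), ?_⟩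
      rw [← stalkLin_comp, Sigma.ι_desc]
      exact stalkLin_germ (ρ k) V y hyV e
    | zero => rw [map_zero g]; exact zero_mem _
    | add a b _ _ ha hb => rw [map_add g]; exact add_mem ha hb
  have := hmem (LimTop.unitSec f (homO f N) (le_rfl : f ⁻¹ᵁ V ≤ f ⁻¹ᵁ V) φ)
    ((span_sections_eq_top (fun k => (hE (j k)).1) π (hV.preimage f)).symm ▸ Submodule.mem_top)
  change germM N V y hyV (ev.app V (LimTop.unitSec f (homO f N) (le_rfl : f ⁻¹ᵁ V ≤ f ⁻¹ᵁ V) φ)) ∈ _ at this
  rw [hz, ExtFilt.Stalkwise.germM_res'] at this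
  exact this

end Groth.Agent.S13542
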