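import Groth.Statements.S9435
import Mathlib.FieldTheory.PrimitiveElement
import Mathlib.RingTheory.Polynomial.ScaleRoots
import Mathlib.RingTheory.Etale.StandardEtale
-- import your own Groth.Agent.* helpers here

set_option autoImplicit false
universe u
open CAlg

namespace Groth.Agent.S9435

/-- Given a prime p of a ring R and a finite separable extension L of κ(p), there is an étale R-algebra
R' with a prime p' over p whose residue field is κ(p)-isomorphic to L. Stated through an R-algebra
map ψ : R' → L whose image generates the field L: its kernel is such a prime p' and the induced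
κ(p') → L is then an isomorphism over κ(p). -/
theorem result (R : Type u) [CommRing R]
    (p : Ideal R) [p.IsPrime] (L : Type u) [Field L] [Algebra p.ResidueField L] [Algebra R L]
    [IsScalarTower R p.ResidueField L] [Module.Finite p.ResidueField L]
    [Algebra.IsSeparable p.ResidueField L] :
    ∃ (R' : Type u) (_ : CommRing R') (_ : Algebra R R') (_ : Algebra.Etale R R') (ψ : R' →ₐ[R] L),
      Subfield.closure (Set.range ψ) = ⊤ := by
  classical
  let κ := p.ResidueField
  obtain ⟨α, hα⟩ := Field.exists_primitive_element κ L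
  have hαi : IsIntegral κ α := Algebra.IsIntegral.isIntegral α
  let g := minpoly κ α
  obtain ⟨⟨s, hs⟩, hsg⟩ := IsLocalization.exist_integer_multiples_of_finset
    (nonZeroDivisors (R ⧸ p)) (Finset.image g.coeff (Finset.range g.natDegree))
  obtain ⟨t, rfl⟩ := Ideal.Quotient.mk_surjective s
  have ht0 : algebraMap R κ t ≠ 0 := by
    rw [Ne, Ideal.algebraMap_residueField_eq_zero]
    exact fun h => nonZeroDivisors.ne_zero hs (Ideal.Quotient.eq_zero_iff_mem.mpr h)
  let G := g.scaleRoots (algebraMap R κ t)
  have hG : G ∈ Polynomial.lifts (algebraMap R κ) := by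
    rw [Polynomial.lifts_iff_coeff_lifts]
    intro i
    rw [Polynomial.coeff_scaleRoots]
    rcases lt_trichotomy i g.natDegree with h | h | h
    · obtain ⟨a, ha⟩ := hsg _ (Finset.mem_image_of_mem _ (Finset.mem_range.mpr h))
      obtain ⟨a, rfl⟩ := Ideal.Quotient.mk_surjective a
      refine ⟨a * t ^ (g.natDegree - i - 1), ?_⟩
      have e : g.natDegree - i = (g.natDegree - i - 1) + 1 := by omega
      have hmk : ∀ r : R, algebraMap (R ⧸ p) κ (Ideal.Quotient.mk p r) = algebraMap R κ r :=
        fun r => (IsScalarTower.algebraMap_apply R (R ⧸ p) κ r).symm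
      simp only [Algebra.smul_def, hmk] at ha
      rw [map_mul, map_pow, ha]
      conv_rhs => rw [e, pow_succ]
      ring
    · exact ⟨1, by simp [h, (minpoly.monic hαi).coeff_natDegree, g]⟩
    · exact ⟨0, by simp [Polynomial.coeff_eq_zero_of_natDegree_lt h]⟩
  obtain ⟨f, hf, hfd, hfm⟩ := Polynomial.lifts_and_natDegree_eq_and_monic hG
    (Polynomial.monic_scaleRoots_iff _ |>.mpr (minpoly.monic hαi))
  let β : L := algebraMap κ L (algebraMap R κ t) * α
  have hβ0 : Polynomial.aeval β G = 0 := Polynomial.scaleRoots_aeval_eq_zero (minpoly.aeval κ α)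
  have hβi : IsIntegral κ β := Algebra.IsIntegral.isIntegral β
  have hgen : IntermediateField.adjoin κ {β} = ⊤ := by
    rw [eq_top_iff, ← hα, IntermediateField.adjoin_le_iff, Set.singleton_subset_iff]
    have hβ := IntermediateField.mem_adjoin_simple_self κ β
    have h2 := mul_mem (inv_mem ((IntermediateField.adjoin κ {β}).algebraMap_mem
      (algebraMap R κ t))) hβ
    rwa [← mul_assoc, inv_mul_cancel₀ ((map_ne_zero _).mpr ht0), one_mul] at h2
  have hGmin : minpoly κ β = G := by
    refine Polynomial.eq_of_monic_of_associated (minpoly.monic hβi) (hf ▸ hfm.map _) ?_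
    refine Polynomial.associated_of_dvd_of_natDegree_le (minpoly.dvd κ β hβ0)
      (hf ▸ hfm.map _).ne_zero ?_
    rw [Polynomial.natDegree_scaleRoots, ← IntermediateField.adjoin.finrank hβi,
      ← IntermediateField.adjoin.finrank hαi, hgen, hα]
  let P : StandardEtalePair R := ⟨f, hfm, Polynomial.derivative f, 1, 0, 1, by simp⟩
  have hmap : P.HasMap β := by
    refine ⟨?_, IsUnit.mk0 _ ?_⟩
    · rw [← Polynomial.aeval_map_algebraMap κ, hf]; exact hβ0
    · change Polynomial.aeval β (Polynomial.derivative f) ≠ 0
      rw [← Polynomial.aeval_map_algebraMap κ, ← Polynomial.derivative_map, hf, ← hGmin]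
      exact (Algebra.IsSeparable.isSeparable κ β).aeval_derivative_ne_zero (minpoly.aeval κ β)
  refine ⟨P.Ring, inferInstance, inferInstance, inferInstance, P.lift β hmap, ?_⟩
  set K := Subfield.closure (Set.range (P.lift β hmap))
  have hR : ∀ r : R, algebraMap R L r ∈ K := fun r =>
    Subfield.subset_closure ⟨algebraMap R P.Ring r, AlgHom.commutes _ r⟩
  have hκ : ∀ c : κ, algebraMap κ L c ∈ K := by
    intro c
    obtain ⟨a, b, -, rfl⟩ := IsFractionRing.div_surjective (A := R ⧸ p) c
    obtain ⟨a, rfl⟩ := Ideal.Quotient.mk_surjective a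
    obtain ⟨b, rfl⟩ := Ideal.Quotient.mk_surjective b
    rw [map_div₀]
    have hmk : ∀ r : R, algebraMap κ L (algebraMap (R ⧸ p) κ (Ideal.Quotient.mk p r)) ∈ K := by
      intro r
      rw [show algebraMap (R ⧸ p) κ (Ideal.Quotient.mk p r) = algebraMap R κ r from
        (IsScalarTower.algebraMap_apply R (R ⧸ p) κ r).symm, ← IsScalarTower.algebraMap_apply]
      exact hR r
    exact div_mem (hmk a) (hmk b)
  let K' : IntermediateField κ L := K.toIntermediateField hκ
  have : IntermediateField.adjoin κ {β} ≤ K' := IntermediateField.adjoin_le_iff.mpr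
    (Set.singleton_subset_iff.mpr (Subfield.subset_closure ⟨P.X, P.lift_X β hmap⟩))
  rw [hgen] at this
  exact eq_top_iff.mpr fun x _ => this (IntermediateField.mem_top (x := x))

end Groth.Agent.S9435
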