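import Groth.Statements.S1355
import Groth.Agent.FBaseSep.Connected
import Groth.Agent.Wt.Split

set_option autoImplicit false
set_option linter.style.haveILetI false
universe u
open CategoryTheory CategoryTheory.Limits AlgebraicGeometry
open Groth.Agent.FBase.BC (specMap)

namespace Groth.Agent.S1355

variable {X S : Scheme.{u}}

/-- A finite separable extension of a residue field embeds into one of an étale neighbourhood. -/
theorem exists_etale (s : S) (K : Type u) [Field K] [Algebra (S.residueField s) K]
    [Module.Finite (S.residueField s) K] [Algebra.IsSeparable (S.residueField s) K] :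
    ∃ (U : Scheme.{u}) (g : U ⟶ S) (u : U) (hu : g u = s) (χ : K →+* U.residueField u), Etale g ∧
      ((S.residueFieldCongr hu).inv ≫ g.residueFieldMap u).hom = χ.comp (algebraMap (S.residueField s) K) := by
  obtain ⟨V, hV, hsV, -⟩ := exists_isAffineOpen_mem_and_subset (U := (⊤ : S.Opens)) (x := s) trivial
  obtain ⟨p, rfl⟩ : s ∈ Set.range hV.fromSpec := by rw [hV.range_fromSpec]; exact hsV
  let c : S.residueField (hV.fromSpec p) ⟶ CommRingCat.of p.asIdeal.ResidueField :=
    hV.fromSpec.residueFieldMap p ≫ (Scheme.Spec.residueFieldIso Γ(S, V) p).hom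
  let ce : S.residueField (hV.fromSpec p) ≃+* p.asIdeal.ResidueField :=
    RingEquiv.ofBijective c.hom (ConcreteCategory.bijective_of_isIso c)
  letI : Algebra p.asIdeal.ResidueField K :=
    ((algebraMap (S.residueField (hV.fromSpec p)) K).comp ce.symm.toRingHom).toAlgebra
  have hc : (algebraMap p.asIdeal.ResidueField K).comp ce.toRingHom =
      (RingEquiv.refl K).toRingHom.comp (algebraMap (S.residueField (hV.fromSpec p)) K) := by
    ext x; simp [RingHom.algebraMap_toAlgebra]
  haveI : Module.Finite p.asIdeal.ResidueField K := Module.Finite.of_equiv_equiv ce (RingEquiv.refl K) hc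
  haveI : Algebra.IsSeparable p.asIdeal.ResidueField K :=
    Algebra.IsSeparable.of_equiv_equiv ce (RingEquiv.refl K) hc
  obtain ⟨R', φ, u, _, hu, χ, hχ⟩ := Wt.Split.exists_etale_affine Γ(S, V) p K
  subst hu
  refine ⟨Spec R', Spec.map φ ≫ hV.fromSpec, u, rfl, χ, inferInstance, ?_⟩
  rw [Scheme.residueFieldMap_comp]
  simp only [Scheme.residueFieldCongr_refl, Iso.refl_inv, Category.id_comp] at hχ ⊢
  refine (congrArg (fun r => r.comp (hV.fromSpec.residueFieldMap (Spec.map φ u)).hom) hχ).trans ?_
  ext x
  show χ (algebraMap (S.residueField _) K (ce.symm (ce x))) = _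
  rw [ce.symm_apply_apply]
  rfl

/-- A fibre of a base change is a base change of the fibre. -/
theorem exists_fibre_iso (f : X ⟶ S) {U : Scheme.{u}} (g : U ⟶ S) (u : U) (s : S) (h : g u = s) :
    Nonempty ((pullback.snd f g).fiber u ≅ pullback (f.fiberToSpecResidueField s)
      (Spec.map ((S.residueFieldCongr h).inv ≫ g.residueFieldMap u))) := by
  have hc : U.fromSpecResidueField u ≫ g =
      Spec.map ((S.residueFieldCongr h).inv ≫ g.residueFieldMap u) ≫ S.fromSpecResidueField s := by
    subst h
    simp [Scheme.Hom.SpecMap_residueFieldMap_fromSpecResidueField]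
  exact ⟨pullbackLeftPullbackSndIso f g _ ≪≫ pullback.congrHom rfl hc ≪≫
    (pullbackLeftPullbackSndIso f _ _).symm⟩

/-- Let f : X → S and s a point of S. The fibre of f over s is geometrically connected if and only if
for every étale morphism U → S and every point u over s, the fibre over u of the base change of f to
U is connected. -/
theorem result {X S : Scheme.{u}} (f : X ⟶ S) (s : S) :
    GeometricallyConnected (f.fiberToSpecResidueField s) ↔
      ∀ (U : Scheme.{u}) (g : U ⟶ S) (u : U), Etale g → g u = s → ConnectedSpace ↑((pullback.snd f g).fiber u) := by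
  constructor
  · intro hf U g u _ hu
    obtain ⟨e⟩ := exists_fibre_iso f g u s hu
    let ρ : S.residueField s →+* U.residueField u := ((S.residueFieldCongr hu).inv ≫ g.residueFieldMap u).hom
    letI := ρ.toAlgebra
    haveI : ConnectedSpace ↥(pullback (f.fiberToSpecResidueField s)
        (Spec.map ((S.residueFieldCongr hu).inv ≫ g.residueFieldMap u))) :=
      pullback_of_geometrically
        GeometricallyConnected.geometrically_connectedSpace (U.residueField u) _
    exact (Scheme.homeoOfIso e).symm.surjective.connectedSpace (Scheme.homeoOfIso e).symm.continuous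
  · intro h
    refine (FBaseSep.geometricallyConnected_iff_finite_separable (k := S.residueField s) _).mpr
      fun K _ _ _ _ => ?_
    obtain ⟨U, g, u, hu, χ, hg, hχ⟩ := exists_etale s K
    haveI := h U g u hg hu
    obtain ⟨e⟩ := exists_fibre_iso f g u s hu
    let F := f.fiberToSpecResidueField s
    let i := specMap (S.residueField s) K
    let b := Spec.map (CommRingCat.ofHom χ)
    have hb : Spec.map ((S.residueFieldCongr hu).inv ≫ g.residueFieldMap u) = b ≫ i := by
      rw [← Spec.map_comp]
      congr 1
      exact CommRingCat.hom_ext hχ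
    haveI : Surjective b := ⟨fun x => ⟨IsLocalRing.closedPoint _, Subsingleton.elim _ _⟩⟩
    let e' : (pullback.snd f g).fiber u ≅ pullback (pullback.snd F i) b :=
      e ≪≫ pullback.congrHom rfl hb ≪≫ (pullbackLeftPullbackSndIso F i b).symm
    haveI : ConnectedSpace ↥(pullback (pullback.snd F i) b) :=
      (Scheme.homeoOfIso e').surjective.connectedSpace (Scheme.homeoOfIso e').continuous
    exact FBase.BC.connectedSpace_of_surjective (pullback.fst (pullback.snd F i) b)

end Groth.Agent.S1355
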