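import Groth.Prelude.Def_TrivBC
import Groth.Prelude.Def_DRing2
import Mathlib.RingTheory.IsTensorProduct
import Groth.Agent.DRing.BCCmp.Cmp
import Groth.Agent.DRing.BCCmp.QIso
-- import your own Groth.Agent.* helpers here

set_option autoImplicit false
universe u
open CategoryTheory
attribute [local instance] HasDerivedCategory.standard
open DRing

namespace Groth.Agent.S13563

/-- Let R → A and R → R' be ring maps and A' = A ⊗_R R' (a cocartesian square of commutative rings),
with A and R' tor independent over R (Tor_p^R(A, R') = 0 for p ≥ 1). The derived base-change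
functors − ⊗^L_R R' and − ⊗^L_A A' are given together with adjunctions making them left adjoint to
restriction of scalars. Then for every K in D(A) the comparison map (K|_R) ⊗^L_R R' → (K ⊗^L_A
A')|_{R'} is an isomorphism. (Both hypotheses are needed: for a square that is not cocartesian tor
independence alone does not suffice.) -/
theorem result (R A R' A' : Type u) [CommRing R] [CommRing A] [CommRing R'] [CommRing A']
    [Algebra R A] [Algebra R R'] [Algebra A A'] [Algebra R' A'] [Algebra R A'] [IsScalarTower R A A'] [IsScalarTower R R' A']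
    [Algebra.IsPushout R A R' A']
    (htor : ∀ p : ℕ, 1 ≤ p → Subsingleton (DRing.Tor R p A R'))
    [DRing.HasLBaseChange (algebraMap R R')] [DRing.HasLBaseChange (algebraMap A A')]
    (adjρ : DRing.LBaseChange (algebraMap R R') ⊣ DRing.restrictD (algebraMap R R'))
    (adjα : DRing.LBaseChange (algebraMap A A') ⊣ DRing.restrictD (algebraMap A A'))
    (h : (algebraMap A A').comp (algebraMap R A) = (algebraMap R' A').comp (algebraMap R R'))
    (K : Dual.D A) : IsIso (TrivBC.cmp adjρ adjα h K) := by
  obtain ⟨X, hX, -, ⟨e⟩⟩ := Agent.DRing.DBasic.exists_kproj_iso K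
  haveI := hX
  refine Agent.DRing.BCCmp.isIso_cmp_of_iso h adjρ adjα e ?_
  obtain ⟨P, π, hP, -, hq, -⟩ :=
    Agent.DRing.KProjRes.exists_resolution ((DRing.restrictCx (algebraMap R A)).obj X)
  haveI := hP
  haveI := hq
  haveI : Algebra.IsPushout R R' A A' := Algebra.IsPushout.symm ‹_›
  have hb : ∀ M, Function.Bijective (Agent.DRing.RelPC.sqHom (algebraMap R A) (algebraMap R R') (algebraMap A A')
      (algebraMap R' A') (fun x => (RingHom.congr_fun h x).symm) M).hom := fun M =>
    Agent.DRing.RelPC.bijective_sqHom (algebraMap R A) (algebraMap R R') (algebraMap A A') (algebraMap R' A') _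
      ‹Algebra R A› ‹Algebra R R'› ‹Algebra A A'› ‹Algebra R' A'›
      (Algebra.algebra_ext _ _ fun _ => rfl) (Algebra.algebra_ext _ _ fun _ => rfl)
      (Algebra.algebra_ext _ _ fun _ => rfl) (Algebra.algebra_ext _ _ fun _ => rfl) M
  exact Agent.DRing.BCCmp.isIso_cmp_of_quasiIso h adjρ adjα hb π
    (Agent.DRing.BCCmp.quasiIso_extend R' (fun p hp => htor p hp) X π)

end Groth.Agent.S13563
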