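import Groth.Prelude.Def_DualFM
import Mathlib.AlgebraicGeometry.Morphisms.Separated
import Groth.Agent.DEq.KernelDiag
-- import your own Groth.Agent.* helpers here

set_option autoImplicit false
universe u
open CategoryTheory AlgebraicGeometry
attribute [local instance] HasDerivedCategory.standard

namespace Groth.Agent.S13565

/-- Let X → S be a separated morphism of schemes, so that the diagonal Δ : X → X ×_S X is a closed
immersion, and let K be a complex of modules on X ×_S X whose image in D(O_{X ×_S X}) is isomorphic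
to Δ_* O_X placed in degree 0. The derived functors involved are assumed to exist (instance
binders). Then the Fourier–Mukai functor Φ_K = Rpr_{2,*}(Lpr_1^*(−) ⊗^L K) : D(O_X) ⥤ D(O_X) is
isomorphic to the identity functor (existence of an isomorphism of functors). -/
theorem result {S X : Scheme.{u}} (a : X ⟶ S) [IsSeparated a]
    (K : CochainComplex (Limits.pullback a a).Modules ℤ) (hK : Nonempty (DCoh.toD _ K ≅ FMK.diagO a))
    [DCoh.HasLpull (Limits.pullback.fst a a)] [DCoh.HasLTensorCx K] [DCoh.HasRpush (Limits.pullback.snd a a)] :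
    Nonempty (FMK.phi a a K ≅ 𝟭 (DCoh.D X)) := by
  obtain ⟨e⟩ := hK
  haveI : IsClosedImmersion (Limits.pullback.diagonal a) := inferInstance
  let d := Limits.pullback.diagonal a
  let E := (HomologicalComplex.single (Limits.pullback a a).Modules (ComplexShape.up ℤ) 0).obj
    ((Scheme.Modules.pushforward d).obj (Coh.structureModule X))
  let p₁ := Limits.pullback.fst a a
  let p₂ := Limits.pullback.snd a a
  haveI := Agent.KFlat.LTensor.hasLTensorCx E
  haveI := Agent.KFlat.Pull.hasLpull d
  haveI := Agent.KFlat.RPush.hasRpush d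
  haveI := Agent.KFlat.Pull.hasLpull (d ≫ p₁)
  haveI := Agent.KFlat.RPush.hasRpush (d ≫ p₂)
  obtain ⟨eK⟩ := Agent.DEq.nonempty_ltensorCongr (E := K) (E' := E)
    (e ≪≫ (DerivedCategory.singleFunctorIsoCompQ (Limits.pullback a a).Modules 0).app _)
  obtain ⟨i₁⟩ := Agent.DEq.nonempty_lpullId (f := d ≫ p₁) (Limits.pullback.diagonal_fst a)
  obtain ⟨i₂⟩ := Agent.DEq.nonempty_rpushId (f := d ≫ p₂) (Limits.pullback.diagonal_snd a)
  exact ⟨Functor.isoWhiskerLeft _ (Functor.isoWhiskerRight (eK ≪≫ Agent.DEq.ltensorPushIso d) _ ≪≫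
      Functor.associator _ _ _) ≪≫ (Functor.associator _ _ _).symm ≪≫
    Functor.isoWhiskerRight (Agent.KFlat.Pull.lpullCompIso d p₁ ≪≫ i₁) _ ≪≫ Functor.leftUnitor _ ≪≫
    Agent.KFlat.RPush.rpushCompIso d p₂ ≪≫ i₂⟩

end Groth.Agent.S13565
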