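import Groth.Statements.S1357
import Groth.Agent.FlatMor.FiniteEtaleSpread
import Groth.Agent.Wt.Split
import Groth.Agent.S4646
import Groth.Agent.VarBC.Basic
import Groth.Agent.VarBC.SepFinite
import Groth.Agent.GeomPts.Basic
import Mathlib.Topology.NoetherianSpace

set_option autoImplicit false
set_option linter.style.haveILetI false
universe u
open AlgebraicGeometry CategoryTheory CategoryTheory.Limits
open FlatMor

namespace Groth.Agent.S1357

/-- A closed subset all of whose field extensions are irreducible is geometrically irreducible as a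
reduced closed subscheme. -/
theorem geometricallyIrreducible_of_preimage {L : Type u} [Field L] {P : Scheme.{u}}
    (g : P ⟶ Spec (CommRingCat.of L)) (T : Set P) (hT : IsClosed T)
    (h : ∀ (K : Type u) [Field K] [Algebra L K],
      IsIrreducible (pullback.fst g (Spec.map (CommRingCat.ofHom (algebraMap L K))) ⁻¹' T)) :
    GeometricallyIrreducible
      ((Scheme.IdealSheafData.vanishingIdeal ⟨T, hT⟩).subschemeι ≫ g) := by
  let j := (Scheme.IdealSheafData.vanishingIdeal ⟨T, hT⟩).subschemeι
  refine ⟨geometrically_iff_of_commRing_of_isClosedUnderIsomorphisms.mpr fun K _ _ ↦ ?_⟩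
  let q := Spec.map (CommRingCat.ofHom (algebraMap L K))
  let φ := pullback.map (j ≫ g) q g q j (𝟙 _) (𝟙 _) (by simp) (by simp)
  have hrange : Set.range φ = pullback.fst g q ⁻¹' T := by
    rw [Scheme.Pullback.range_map, Scheme.IdealSheafData.range_subschemeι,
      Scheme.IdealSheafData.coe_support_vanishingIdeal]
    simp
  have hsq : IsPullback φ (pullback.fst (j ≫ g) q) (pullback.fst g q) j := by
    refine (IsPullback.of_right (h₁₂ := pullback.snd g q) (v₁₃ := q) (h₂₂ := g) ?_ ?_
      (IsPullback.of_hasPullback g q).flip).flip.flip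
    · rw [pullback.lift_snd, Category.comp_id]
      exact (IsPullback.of_hasPullback (j ≫ g) q).flip
    · exact pullback.lift_fst _ _ _
  have : IsPreimmersion φ := MorphismProperty.of_isPullback (P := @IsPreimmersion) hsq.flip inferInstance
  obtain ⟨ζ, hζ⟩ : ∃ ζ, IsGenericPoint ζ (pullback.fst g q ⁻¹' T) :=
    QuasiSober.sober (h K) (hT.preimage (pullback.fst g q).continuous)
  obtain ⟨w, hw⟩ := hrange.ge hζ.mem
  exact Groth.Agent.VarBC.irreducibleSpace_of_forall_specializes (z := w) fun y ↦
    φ.isEmbedding.isInducing.specializes_iff.mp (hw.symm ▸ hζ.specializes (hrange.le ⟨y, rfl⟩))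

/-- The residue fields of a scheme of finite type over a field have finite separable closures. -/
theorem residueFieldProp {k : Type u} [Field k] {P : Scheme.{u}} (fib : P ⟶ Spec (CommRingCat.of k))
    [LocallyOfFiniteType fib] (x : P) :
    FBase.ResidueFieldProp fib x (fun K _ _ ↦ FiniteDimensional k (separableClosure k K)) := by
  letI : P.Over (Spec (CommRingCat.of k)) := ⟨fib⟩
  refine ⟨Curv2.resMap k P x, (Groth.Agent.VarBC.fromSpecResidueField_comp (k := k) P x).symm, ?_⟩
  have h := Groth.Agent.GeomPts.essFiniteType_residueField fib x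
  have e : Spec.preimage (P.fromSpecResidueField x ≫ fib) = CommRingCat.ofHom (Curv2.resMap k P x) :=
    Spec.map_injective (by rw [Spec.map_preimage]; exact Groth.Agent.VarBC.fromSpecResidueField_comp (k := k) P x)
  rw [e] at h
  letI := (Curv2.resMap k P x).toAlgebra
  have : Algebra.EssFiniteType k (P.residueField x) := h
  exact Groth.Agent.VarBC.finiteDimensional_separableClosure

set_option maxHeartbeats 1600000 in
set_option backward.isDefEq.respectTransparency.types false in
set_option backward.isDefEq.respectTransparency false in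
/-- Let f be of finite type with irreducible target Y. Then there are a nonempty open V of Y and a
surjective finite étale morphism g from an irreducible affine scheme Y' to V such that, for the base
change f' of f to Y', every irreducible component of the generic fibre of f' (with its reduced
induced structure) is geometrically irreducible over the residue field of the generic point of Y'. -/
theorem result {X Y : Scheme.{u}} (f : X ⟶ Y) [IrreducibleSpace ↑Y] [LocallyOfFiniteType f] [QuasiCompact f] :
    ∃ (V : Y.Opens) (Y' : Scheme.{u}) (g : Y' ⟶ (V : Scheme.{u})) (hY' : IrreducibleSpace ↑Y'), (V : Set ↑Y).Nonempty ∧ IsAffine Y' ∧ Surjective g ∧ IsFinite g ∧ Etale g ∧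
      ∀ (Z : Set ↑((pullback.snd f (g ≫ V.ι)).fiber (genericPoint ↑Y'))) (hZ : Z ∈ irreducibleComponents ↑((pullback.snd f (g ≫ V.ι)).fiber (genericPoint ↑Y'))),
        GeometricallyIrreducible ((Scheme.IdealSheafData.vanishingIdeal (⟨Z, isClosed_of_mem_irreducibleComponents Z hZ⟩ : TopologicalSpace.Closeds _)).subschemeι ≫
          (pullback.snd f (g ≫ V.ι)).fiberToSpecResidueField (genericPoint ↑Y')) := by
  classical
  obtain ⟨η, hη⟩ : ∃ η, genericPoint ↑Y = η := ⟨_, rfl⟩
  have hηgen : ∀ y : Y, η ⤳ y := fun y => hη ▸ genericPoint_specializes y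
  obtain ⟨V₀, hV, hηV, -⟩ := exists_isAffineOpen_mem_and_subset (U := (⊤ : Y.Opens)) (x := η) trivial
  obtain ⟨p, hp⟩ : η ∈ Set.range hV.fromSpec := by rw [hV.range_fromSpec]; exact hηV
  subst hp
  let k := Y.residueField (hV.fromSpec p)
  let fib := f.fiberToSpecResidueField (hV.fromSpec p)
  haveI : LocallyOfFiniteType fib := MorphismProperty.pullback_snd _ _ inferInstance
  haveI : QuasiCompact fib := MorphismProperty.pullback_snd _ _ inferInstance
  haveI : IsLocallyNoetherian (f.fiber (hV.fromSpec p)) := LocallyOfFiniteType.isLocallyNoetherian fib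
  haveI : CompactSpace ↥(f.fiber (hV.fromSpec p)) := QuasiCompact.compactSpace_of_compactSpace fib
  haveI : IsNoetherian (f.fiber (hV.fromSpec p)) := ⟨⟩
  haveI := (TopologicalSpace.NoetherianSpace.finite_irreducibleComponents
    (α := ↥(f.fiber (hV.fromSpec p)))).to_subtype
  obtain ⟨L, _, _, _, _, hL⟩ :=
    Groth.Agent.S4646.result (k := k) fib fun Z hZ => residueFieldProp fib hZ.1.genericPoint
  -- the residue field at the generic point
  let c : k ⟶ CommRingCat.of p.asIdeal.ResidueField :=
    hV.fromSpec.residueFieldMap p ≫ (Scheme.Spec.residueFieldIso Γ(Y, V₀) p).hom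
  let ce : k ≃+* p.asIdeal.ResidueField :=
    RingEquiv.ofBijective c.hom (ConcreteCategory.bijective_of_isIso c)
  letI : Algebra p.asIdeal.ResidueField L := ((algebraMap k L).comp ce.symm.toRingHom).toAlgebra
  have hc : (algebraMap p.asIdeal.ResidueField L).comp ce.toRingHom =
      (RingEquiv.refl L).toRingHom.comp (algebraMap k L) := by
    ext x; simp [RingHom.algebraMap_toAlgebra]
  haveI : Module.Finite p.asIdeal.ResidueField L := Module.Finite.of_equiv_equiv ce (RingEquiv.refl L) hc
  haveI : Algebra.IsSeparable p.asIdeal.ResidueField L :=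
    Algebra.IsSeparable.of_equiv_equiv ce (RingEquiv.refl L) hc
  have hp₀ : ∀ q : Ideal Γ(Y, V₀), q.IsPrime → p.asIdeal ≤ q := fun q hq =>
    (PrimeSpectrum.le_iff_specializes p ⟨q, hq⟩).mpr
      (hV.fromSpec.isOpenEmbedding.isInducing.specializes_iff.mp (hηgen _))
  obtain ⟨s, hs, E, _, _, _, _, ψ, hker, hsurj, hclos, hcomp⟩ :=
    FlatMor.FiniteEtaleSpread.exists_finite_etale_spread p.asIdeal hp₀ L
  let R := Γ(Y, V₀)
  let T := Localization.Away s
  let iT : Spec (CommRingCat.of T) ⟶ Spec R := Spec.map (CommRingCat.ofHom (algebraMap R T))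
  haveI : IsOpenImmersion iT := IsOpenImmersion.of_isLocalization s
  let j : Spec (CommRingCat.of T) ⟶ Y := iT ≫ hV.fromSpec
  let V : Y.Opens := j.opensRange
  let π : Spec (CommRingCat.of E) ⟶ Spec (CommRingCat.of T) := Spec.map (CommRingCat.ofHom (algebraMap T E))
  haveI : Etale π := HasRingHomProperty.Spec_iff.mpr (RingHom.etale_algebraMap.mpr ‹_›)
  haveI : IsFinite π := (IsFinite.SpecMap_iff _).mpr (RingHom.finite_algebraMap.mpr ‹_›)
  haveI : Surjective π := ⟨hsurj⟩
  let g : Spec (CommRingCat.of E) ⟶ (V : Scheme.{u}) := π ≫ j.isoOpensRange.hom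
  let ζ : PrimeSpectrum E := ⟨RingHom.ker ψ, RingHom.ker_isPrime ψ⟩
  let ζs : ↥(Spec (CommRingCat.of E)) := ζ
  have hζ : ∀ q : ↥(Spec (CommRingCat.of E)), ζs ⤳ q := fun q =>
    (PrimeSpectrum.le_iff_specializes ζ q).mp (hker q.asIdeal q.isPrime)
  haveI hY' : IrreducibleSpace ↥(Spec (CommRingCat.of E)) :=
    VarBC.irreducibleSpace_of_forall_specializes hζ
  have hgen : genericPoint ↥(Spec (CommRingCat.of E)) = ζs :=
    ((genericPoint_specializes ζs).antisymm (hζ _)).eq
  let φ : R ⟶ CommRingCat.of E :=
    CommRingCat.ofHom ((algebraMap T E).comp (algebraMap R T))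
  have hgg : g ≫ V.ι = Spec.map φ ≫ hV.fromSpec := by
    simp only [g, j, iT, V, π, φ, Category.assoc, Scheme.Hom.isoOpensRange_hom_ι]
    rw [← Category.assoc, ← Spec.map_comp]
    rfl
  have hu : Spec.map φ ζs = p := PrimeSpectrum.ext <| by
    ext r
    show (ψ.comp ((algebraMap T E).comp (algebraMap R T))) r = 0 ↔ _
    rw [hcomp, RingHom.comp_apply, map_eq_zero_iff _ (algebraMap p.asIdeal.ResidueField L).injective,
      Ideal.algebraMap_residueField_eq_zero]
  refine ⟨V, Spec (CommRingCat.of E), g, hY', ?_, inferInstance, inferInstance, inferInstance, inferInstance, ?_⟩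
  · exact ⟨(g ≫ V.ι) ζs, (g ζs).2⟩
  rw [hgen]
  intro Z hZ
  -- the residue field of the generic point upstairs
  haveI : (RingHom.ker ψ).IsPrime := RingHom.ker_isPrime ψ
  let ψb : (RingHom.ker ψ).ResidueField →+* L :=
    Ideal.ResidueField.lift (RingHom.ker ψ) ψ le_rfl (by
      intro r hr
      simp only [Submonoid.mem_comap]
      exact IsUnit.mem_submonoid_iff _ |>.mpr (isUnit_iff_ne_zero.mpr hr))
  have hψb : Function.Bijective ψb := by
    refine ⟨ψb.injective, ?_⟩
    have : ψb.fieldRange = ⊤ := by
      rw [eq_top_iff, ← hclos, Subfield.closure_le]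
      rintro _ ⟨r, rfl⟩
      exact ⟨algebraMap E _ r, Ideal.ResidueField.lift_algebraMap ..⟩
    exact RingHom.fieldRange_eq_top_iff.mp this
  let χ : L →+* (Spec (CommRingCat.of E)).residueField ζs :=
    (Scheme.Spec.residueFieldIso (CommRingCat.of E) ζs).inv.hom.comp
      (RingEquiv.ofBijective ψb hψb).symm.toRingHom
  have hχbij : Function.Bijective χ :=
    (ConcreteCategory.bijective_of_isIso (Scheme.Spec.residueFieldIso (CommRingCat.of E) ζs).inv).comp
      (RingEquiv.ofBijective ψb hψb).symm.bijective
  let gg := g ≫ V.ι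
  have hgζ : gg ζs = hV.fromSpec p := by
    show (g ≫ V.ι) ζs = _
    rw [hgg, Scheme.Hom.comp_apply, hu]
  let i := Spec.map (CommRingCat.ofHom χ)
  haveI : IsIso i := by
    haveI : IsIso (CommRingCat.ofHom χ) := (ConcreteCategory.isIso_iff_bijective _).mpr hχbij
    infer_instance
  let iL := Spec.map (CommRingCat.ofHom (algebraMap k L))
  have hb : (Spec (CommRingCat.of E)).fromSpecResidueField ζs ≫ gg =
      (i ≫ iL) ≫ Y.fromSpecResidueField (hV.fromSpec p) := by
    have hiso : Spec.map (CommRingCat.ofHom ((algebraMap k L))) =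
        Spec.map (CommRingCat.ofHom (algebraMap p.asIdeal.ResidueField L)) ≫ Spec.map c := by
      rw [← Spec.map_comp]
      congr 1
      exact CommRingCat.hom_ext (RingHom.ext fun x => (congrArg (fun h => h x) hc).symm)
    have e : (algebraMap p.asIdeal.ResidueField L) =
        ψb.comp (Ideal.ResidueField.map p.asIdeal (RingHom.ker ψ) φ.hom
          (congrArg PrimeSpectrum.asIdeal hu.symm)) := by
      refine Ideal.ResidueField.ringHom_ext ?_
      ext r
      simp only [RingHom.comp_apply, Ideal.ResidueField.map_algebraMap]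
      rw [Ideal.ResidueField.lift_algebraMap]
      exact (congrArg (fun h => h r) hcomp).symm
    show _ = (i ≫ iL) ≫ _
    show (Spec (CommRingCat.of E)).fromSpecResidueField ζs ≫ (g ≫ V.ι) = _
    rw [hgg, ← Category.assoc, ← Scheme.Hom.SpecMap_residueFieldMap_fromSpecResidueField,
      Category.assoc]
    have h1 : (Spec R).fromSpecResidueField (Spec.map φ ζs) =
        Spec.map (((Spec R).residueFieldCongr hu).inv) ≫ (Spec R).fromSpecResidueField p := by
      rw [Scheme.residueFieldCongr_inv, Scheme.residueFieldCongr_fromSpecResidueField]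
    rw [h1, Category.assoc, ← Scheme.Hom.SpecMap_residueFieldMap_fromSpecResidueField hV.fromSpec p,
      ← Spec.map_comp_assoc, ← Spec.map_comp_assoc]
    simp only [i, iL, ← Spec.map_comp]
    congr 2
    ext x
    apply (ConcreteCategory.bijective_of_isIso
      (Scheme.Spec.residueFieldIso (CommRingCat.of E) ζs).hom).1
    show _ = (Scheme.Spec.residueFieldIso (CommRingCat.of E) ζs).hom
      ((Scheme.Spec.residueFieldIso (CommRingCat.of E) ζs).inv _)
    rw [Iso.inv_hom_id_apply]
    refine (Wt.Split.residueFieldMap_SpecMap' φ ζs p hu (hV.fromSpec.residueFieldMap p x)).trans ?_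
    show _ = (RingEquiv.ofBijective ψb hψb).symm (algebraMap k L x)
    rw [RingEquiv.eq_symm_apply, RingEquiv.ofBijective_apply]
    exact (RingHom.congr_fun e (ce x)).symm.trans (RingHom.congr_fun hc x)
  let gL := pullback.snd fib iL
  let h := (pullback.snd f gg).fiberToSpecResidueField ζs
  let e : (pullback.snd f gg).fiber ζs ≅ pullback gL i :=
    pullbackLeftPullbackSndIso f gg _ ≪≫ pullback.congrHom rfl hb ≪≫
      (pullbackLeftPullbackSndIso f _ _).symm ≪≫ (pullbackLeftPullbackSndIso fib iL i).symm
  haveI : IsIso (pullback.fst gL i) := inferInstance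
  let e' : (pullback.snd f gg).fiber ζs ≅ pullback fib iL := e ≪≫ asIso (pullback.fst gL i)
  have he : h ≫ i = e'.hom ≫ gL := by
    simp only [e', e, gL, h, fib, Iso.trans_hom, Category.assoc, asIso_hom, Iso.symm_hom]
    rw [pullback.condition]
    simp [Scheme.Hom.fiberToSpecResidueField, pullback.map]
  let T' : Set ↥(pullback fib iL) := Scheme.homeoOfIso e' '' Z
  have hT' : T' ∈ irreducibleComponents ↥(pullback fib iL) := by
    refine ⟨hZ.1.image _ (Scheme.homeoOfIso e').continuous.continuousOn, fun S hS hle => ?_⟩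
    have h1 := hZ.2 (hS.image _ (Scheme.homeoOfIso e').symm.continuous.continuousOn)
      (fun z hz => ⟨_, hle ⟨z, hz, rfl⟩, (Scheme.homeoOfIso e').symm_apply_apply z⟩)
    exact fun w hw => ⟨_, h1 ⟨w, hw, rfl⟩, (Scheme.homeoOfIso e').apply_symm_apply w⟩
  refine geometricallyIrreducible_of_preimage _ Z (isClosed_of_mem_irreducibleComponents Z hZ) fun K _ _ => ?_
  let aK := algebraMap (IsLocalRing.ResidueField ((Spec (CommRingCat.of E)).presheaf.stalk ζs)) K
  letI : Algebra L K := (aK.comp χ).toAlgebra
  have hirr := hL K T' hT'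
  let q : Spec (CommRingCat.of K) ⟶ Spec ((Spec (CommRingCat.of E)).residueField ζs) :=
    Spec.map (CommRingCat.ofHom aK)
  let qL := Spec.map (CommRingCat.ofHom (algebraMap L K))
  have hq : q ≫ i = qL := by rw [← Spec.map_comp]; rfl
  let Φ : pullback h q ⟶ pullback gL qL :=
    pullback.map h q gL qL e'.hom (𝟙 _) i he (by rw [Category.id_comp, hq])
  haveI : IsIso Φ := pullback.map_isIso _ _ _ _ _ _ _ _ _
  have hΦ : pullback.fst h q ⁻¹' Z = (Scheme.homeoOfIso (asIso Φ)) ⁻¹' (pullback.fst gL qL ⁻¹' T') := by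
    ext z
    show pullback.fst h q z ∈ Z ↔ pullback.fst gL qL (Φ z) ∈ Scheme.homeoOfIso e' '' Z
    rw [← Scheme.Hom.comp_apply, pullback.lift_fst, Scheme.Hom.comp_apply]
    exact ((Scheme.homeoOfIso e').injective.mem_set_image).symm
  show IsIrreducible (pullback.fst h q ⁻¹' Z)
  rw [hΦ, ← Homeomorph.image_symm]
  exact hirr.image _ (Homeomorph.continuous _).continuousOn

end Groth.Agent.S1357
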