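import Groth.Statements.S13573
import Groth.Agent.StFib.QuotBridgeMap
import Groth.Agent.StFib.DiagLft
import Groth.Agent.StFib.SliceDMAtlas
import Groth.Agent.StFib.Props
import Groth.Agent.StFib.Props2
import Groth.Agent.S10542

set_option autoImplicit false
set_option backward.isDefEq.respectTransparency false
set_option backward.isDefEq.respectTransparency.types false
universe u
open CategoryTheory AlgebraicGeometry MonoidalCategory
open AlgSt

namespace Groth.Agent.S13573

/-- For a group action: let `G` be a group scheme over `S` that is smooth and affine over `S`, acting on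
a scheme `X` over `S`. Then the canonical morphism `X ⟶ [X/G]` (sending a `T`-point `x` of `X` to
the trivial torsor `G ×_S T` with the equivariant map `(g, t) ↦ g · x(t)`) is representable by
algebraic spaces, smooth, and surjective. (The published statement is for a smooth groupoid in
algebraic spaces; this row is the action groupoid of a smooth affine group scheme.) -/
theorem result {S : Scheme.{u}} (G : Over S) [GrpObj G]
    [Smooth G.hom] [IsAffineHom G.hom] (X : Over S) (aX : AlgGrp.Action G X) :
    AlgSt.RepByAlgSpWith (AlgSp.LocP @Smooth)
        (BasedFunctor.comp (AlgSt.ofOverCat X) (AlgSt.quotMap Scheme.fppfPrecoverage G aX)) ∧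
      AlgSt.RepByAlgSpWith AlgSp.IsSurjectiveMor
        (BasedFunctor.comp (AlgSt.ofOverCat X) (AlgSt.quotMap Scheme.fppfPrecoverage G aX)) := by
  exact ⟨Groth.Agent.StFib.QuotBr.repByAlgSpWith_quotMap' Groth.Agent.StFib.good_smooth.bc
      (Groth.Agent.StFib.fppfLocal_of_fpqc (Groth.Agent.S10542.result S))
      (Groth.Agent.StFib.QuotBr.locP_hom Groth.Agent.AlgSpCov.standard_smooth.etaleLocal inferInstance),
    Groth.Agent.StFib.QuotBr.repByAlgSpWith_quotMap' Groth.Agent.StFib.good_surjective.bc
      Groth.Agent.StFib.SliceDM.fppfLocal_surjective (Groth.Agent.StFib.SpTors.surjective_hom)⟩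

end Groth.Agent.S13573
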