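import Groth.Statements.S13576


set_option autoImplicit false
universe u
open CategoryTheory CategoryTheory.Limits MonoidalCategory
attribute [local instance] HasDerivedCategory.standard
open DTen

namespace Groth.Agent.S13576

lemma braid_invol {A : Type u} [CommRing A] (K L : DRing.Cx A) :
    (DTen.braidCx K L).hom ≫ (DTen.braidCx L K).hom = 𝟙 _ := by
  refine HomologicalComplex.hom_ext _ _ (fun n => HomologicalComplex.mapBifunctor.hom_ext (fun p q h => ?_))
  rw [HomologicalComplex.comp_f, HomologicalComplex.id_f]
  erw [DTen.ι_braidCx_hom_assoc K L p q n h, Category.comp_id]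
  simp only [Linear.units_smul_comp, Category.assoc]
  erw [DTen.ι_braidCx_hom L K q p n (by rw [add_comm]; exact h)]
  simp only [Linear.comp_units_smul, smul_smul, SymmetricCategory.symmetry_assoc]
  rw [mul_comm p q, Int.units_mul_self, one_smul]


/-- For a commutative ring `A` and objects `K`, `L` of `D(A)`, the canonical symmetry morphism `L ⊗^L K
⟶ K ⊗^L L` of the derived tensor product, the one compatible with the swap of complexes carrying the
sign `(-1)^{pq}` on `K^p ⊗ L^q`, is an isomorphism. -/
theorem result (A : Type u) [CommRing A] [DTen.HasLTen A] (K L : Dual.D A) :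
    IsIso ((DTen.symm A).app (K, L)) := by
  let s := DTen.symm A
  let t : DTen.LTen₂ A ⟶ DTen.LTen₂ A :=
    { app := fun X => s.app (X.2, X.1) ≫ s.app X
      naturality := fun X Y f => by
        have e1 := s.naturality (X := (X.2, X.1)) (Y := (Y.2, Y.1)) (Prod.mkHom f.2 f.1)
        have e2 := s.naturality f
        dsimp at e1 e2 ⊢
        refine ((reassoc_of% e1) _).trans ?_
        rw [e2, Category.assoc] }
  have key : t = 𝟙 _ := by
    apply (DTen.LTen₂ A).leftDerived_ext (DTen.ε A) (DTen.qis₂ A)
    ext ⟨P, R⟩
    have h1 := DTen.symm_fac A P R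
    have h2 := DTen.symm_fac A R P
    simp only [NatTrans.comp_app, Functor.whiskerLeft_app, NatTrans.id_app]
    change (s.app (DerivedCategory.Q.obj R, DerivedCategory.Q.obj P) ≫
      s.app (DerivedCategory.Q.obj P, DerivedCategory.Q.obj R)) ≫ _ = _
    erw [Category.id_comp]
    rw [Category.assoc]
    erw [h1]
    rw [← Category.assoc]
    erw [h2]
    rw [Category.assoc, ← Functor.map_comp, braid_invol]
    exact (congrArg _ (DerivedCategory.Q.map_id _)).trans (Category.comp_id _)
  refine ⟨s.app (L, K), ?_, ?_⟩
  · exact NatTrans.congr_app key (L, K)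
  · exact NatTrans.congr_app key (K, L)

end Groth.Agent.S13576
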