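import Groth.Statements.S13578
-- import your own Groth.Agent.* helpers here

set_option autoImplicit false
universe u
open CategoryTheory CategoryTheory.Limits MonoidalCategory
attribute [local instance] HasDerivedCategory.standard
open DTen

namespace Groth.Agent.S13578

variable {A : Type u} [CommRing A]

noncomputable abbrev S0 (M : Type u) [AddCommGroup M] [Module A M] : Dual.D A :=
  DerivedCategory.Q.obj ((HomologicalComplex.single (ModuleCat.{u} A) (ComplexShape.up ℤ) 0).obj (ModuleCat.of A M))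

noncomputable abbrev S0map {M N : Type u} [AddCommGroup M] [Module A M] [AddCommGroup N] [Module A N]
    (f : M →ₗ[A] N) : S0 (A := A) M ⟶ S0 (A := A) N :=
  DerivedCategory.Q.map ((HomologicalComplex.single (ModuleCat.{u} A) (ComplexShape.up ℤ) 0).map (ModuleCat.ofHom f))

lemma S0map_comp {M N P : Type u} [AddCommGroup M] [Module A M] [AddCommGroup N] [Module A N]
    [AddCommGroup P] [Module A P] (f : M →ₗ[A] N) (g : N →ₗ[A] P) :
    S0map f ≫ S0map g = S0map (g ∘ₗ f) := by
  rw [S0map, S0map, S0map, ← Functor.map_comp, ← Functor.map_comp]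
  rfl

lemma S0map_smul {M N : Type u} [AddCommGroup M] [Module A M] [AddCommGroup N] [Module A N]
    (f : M →ₗ[A] N) (r : A) : S0map (r • f) = r • S0map f := by
  have h : (HomologicalComplex.single (ModuleCat.{u} A) (ComplexShape.up ℤ) 0).map (ModuleCat.ofHom (r • f)) =
      r • (HomologicalComplex.single (ModuleCat.{u} A) (ComplexShape.up ℤ) 0).map (ModuleCat.ofHom f) := by
    refine HomologicalComplex.from_single_hom_ext ?_
    rw [HomologicalComplex.smul_f_apply, HomologicalComplex.single_map_f_self,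
      HomologicalComplex.single_map_f_self, show ModuleCat.ofHom (r • f) = r • ModuleCat.ofHom f from rfl,
      Linear.smul_comp, Linear.comp_smul]
  rw [S0map, S0map, h, Functor.map_smul]

lemma S0map_id (M : Type u) [AddCommGroup M] [Module A M] :
    S0map (LinearMap.id : M →ₗ[A] M) = 𝟙 _ := by
  rw [S0map, show ModuleCat.ofHom (LinearMap.id : M →ₗ[A] M) = 𝟙 _ from rfl,
    CategoryTheory.Functor.map_id, CategoryTheory.Functor.map_id]

lemma S0map_zero {M N : Type u} [AddCommGroup M] [Module A M] [AddCommGroup N] [Module A N] :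
    S0map (0 : M →ₗ[A] N) = 0 := by
  rw [S0map, show ModuleCat.ofHom (0 : M →ₗ[A] N) = 0 from rfl, Functor.map_zero, Functor.map_zero]

lemma smul_whiskerRight (K L : DRing.Cx A) (r : A) : (r • 𝟙 K) ▷ L = r • 𝟙 (K ⊗ L) := by
  refine HomologicalComplex.hom_ext _ _ (fun n => HomologicalComplex.mapBifunctor.hom_ext (fun p q h => ?_))
  change HomologicalComplex.ιMapBifunctor K L (curriedTensor (ModuleCat.{u} A)) (ComplexShape.up ℤ) p q n h ≫
    (HomologicalComplex.mapBifunctorMap (r • 𝟙 K) (𝟙 L) (curriedTensor (ModuleCat.{u} A)) (ComplexShape.up ℤ)).f n = _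
  rw [HomologicalComplex.ι_mapBifunctorMap]
  simp only [HomologicalComplex.smul_f_apply, HomologicalComplex.id_f, curriedTensor_map_app,
    MonoidalLinear.smul_whiskerRight, MonoidalCategory.id_whiskerRight, CategoryTheory.Functor.map_id,
    Category.comp_id, Linear.smul_comp, Category.id_comp]
  erw [Category.id_comp, Linear.comp_smul, Category.comp_id]

lemma isKFlat_unit : DRing.IsKFlat A (𝟙_ (DRing.Cx A)) := fun M hM i =>
  IsZero.of_iso (hM i) ((HomologicalComplex.homologyFunctor (ModuleCat.{u} A) (ComplexShape.up ℤ) i).mapIso (ρ_ M))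

variable [DTen.HasLTen A]

lemma LT_smul_one (r : A) (K L : Dual.D A) :
    (DTen.LTen₂ A).map (Prod.mkHom (r • 𝟙 K) (𝟙 L) : (K, L) ⟶ (K, L)) = r • 𝟙 _ := by
  let t₁ : DTen.LTen₂ A ⟶ DTen.LTen₂ A :=
    { app := fun X => (DTen.LTen₂ A).map (Prod.mkHom (r • 𝟙 X.1) (𝟙 X.2) : X ⟶ X)
      naturality := fun X Y f => by
        rw [← Functor.map_comp, ← Functor.map_comp]
        congr 1
        ext <;> simp }
  let t₂ : DTen.LTen₂ A ⟶ DTen.LTen₂ A :=
    { app := fun X => r • 𝟙 _
      naturality := fun X Y f => by simp }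
  have key : t₁ = t₂ := by
    apply (DTen.LTen₂ A).leftDerived_ext (DTen.ε A) (DTen.qis₂ A)
    ext ⟨P, R⟩
    simp only [NatTrans.comp_app, Functor.whiskerLeft_app]
    change (DTen.LTen₂ A).map (Prod.mkHom (r • 𝟙 (DerivedCategory.Q.obj P)) (𝟙 (DerivedCategory.Q.obj R))) ≫
      (DTen.ε A).app (P, R) = (r • 𝟙 _) ≫ (DTen.ε A).app (P, R)
    have e := (DTen.ε A).naturality (Prod.mkHom (r • 𝟙 P) (𝟙 R) : (P, R) ⟶ (P, R))
    have hQ : (DTen.QQ A).map (Prod.mkHom (r • 𝟙 P) (𝟙 R) : (P, R) ⟶ (P, R)) =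
        Prod.mkHom (r • 𝟙 (DerivedCategory.Q.obj P)) (𝟙 (DerivedCategory.Q.obj R)) := by
      refine Prod.ext ?_ ?_
      · change DerivedCategory.Q.map (r • 𝟙 P) = r • 𝟙 _
        rw [Functor.map_smul, CategoryTheory.Functor.map_id]
      · change DerivedCategory.Q.map (𝟙 R) = 𝟙 _
        rw [CategoryTheory.Functor.map_id]
    have hT : (DTen.tensor₂ A).map (Prod.mkHom (r • 𝟙 P) (𝟙 R) : (P, R) ⟶ (P, R)) = r • 𝟙 _ := by
      change DerivedCategory.Q.map ((r • 𝟙 P) ▷ R ≫ P ◁ (𝟙 R)) = _
      rw [MonoidalCategory.whiskerLeft_id, Category.comp_id, smul_whiskerRight, Functor.map_smul,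
        CategoryTheory.Functor.map_id]
      rfl
    rw [Functor.comp_map, hQ, hT] at e
    refine e.trans ?_
    rw [Linear.smul_comp, Linear.comp_smul, Category.comp_id]
    exact congrArg _ (Category.id_comp _).symm
  exact NatTrans.congr_app key (K, L)

lemma isIso_unitL [DTen.KFlatComputes A] (L : DRing.Cx A) :
    IsIso ((DTen.unitL A).app (DerivedCategory.Q.obj L)) := by
  rw [DTen.unitL_app]
  have := DTen.KFlatComputes.isIso_counit (A := A) (𝟙_ (DRing.Cx A)) L (Or.inl isKFlat_unit)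
  exact IsIso.comp_isIso

omit [DTen.HasLTen A] in
/-- If the elements of `J` act on the target `C` with square zero, then any map `M[0] ⟶ C` kills `J^n M`. -/
theorem exists_pow_kill [IsNoetherianRing A] (I : Ideal A) (C : Dual.D A)
    (hC : ∀ f ∈ I, (f ^ 2) • 𝟙 C = 0) (M : Type u) [AddCommGroup M] [Module A M] [Module.Finite A M]
    (π : S0 (A := A) M ⟶ C) :
    ∃ n : ℕ, 0 < n ∧ S0map (I ^ n • (⊤ : Submodule A M)).subtype ≫ π = 0 := by
  have : IsNoetherian A M := isNoetherian_of_isNoetherianRing_of_finite A M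
  let P : Set (Submodule A M) := { N | ∃ π' : S0 (A := A) (M ⧸ N) ⟶ C, S0map N.mkQ ≫ π' = π }
  have hP : P.Nonempty := by
    refine ⟨⊥, S0map ((Submodule.quotEquivOfEqBot ⊥ rfl).toLinearMap) ≫ π, ?_⟩
    rw [← Category.assoc, S0map_comp]
    have : (Submodule.quotEquivOfEqBot (⊥ : Submodule A M) rfl).toLinearMap ∘ₗ (⊥ : Submodule A M).mkQ
        = LinearMap.id := by ext x; rfl
    rw [this, S0map_id, Category.id_comp]
  obtain ⟨N, ⟨π', hπ'⟩, hmax⟩ := set_has_maximal_iff_noetherian.mpr inferInstance P hP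
  have key : ∀ f ∈ I, ∃ e : ℕ, ∀ x : M, f ^ e • x ∈ N := by
    intro f hf
    let φ : Module.End A (M ⧸ N) := algebraMap A (Module.End A (M ⧸ N)) f
    obtain ⟨c, hc⟩ := monotone_stabilizes_iff_noetherian.mpr
      (isNoetherian_of_isNoetherianRing_of_finite A (M ⧸ N)) φ.iterateKer
    have hφ : ∀ (e : ℕ) (x : M ⧸ N), (φ ^ e) x = f ^ e • x := by
      intro e x
      simp [φ, ← map_pow]
    let R := LinearMap.range (φ ^ c)
    let i : R →ₗ[A] M ⧸ N := f ^ 2 • R.subtype
    have hi : Function.Injective i := by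
      rw [← LinearMap.ker_eq_bot, LinearMap.ker_eq_bot']
      rintro ⟨x, y, rfl⟩ hx
      have hx' : f ^ 2 • (φ ^ c) y = 0 := hx
      rw [hφ, smul_smul, ← pow_add] at hx'
      have : y ∈ φ.iterateKer (2 + c) := by
        change (φ ^ (2 + c)) y = 0
        rw [hφ]; exact hx'
      rw [← hc (2 + c) (by omega)] at this
      exact Subtype.ext this
    let S : ShortComplex (ModuleCat.{u} A) := ShortComplex.mk (ModuleCat.ofHom i)
      (ModuleCat.ofHom (LinearMap.range i).mkQ) (by ext x; simp)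
    have hS : S.ShortExact :=
      { exact := (ShortComplex.moduleCat_exact_iff_range_eq_ker S).mpr (Submodule.ker_mkQ _).symm
        mono_f := (ModuleCat.mono_iff_injective _).mpr hi
        epi_g := (ModuleCat.epi_iff_surjective _).mpr (Submodule.mkQ_surjective _) }
    have h0 : S0map i ≫ π' = 0 := by
      rw [show S0map i = f ^ 2 • S0map R.subtype from S0map_smul _ _, Linear.smul_comp]
      rw [← Category.comp_id (S0map R.subtype ≫ π'), ← Linear.comp_smul, hC f hf, comp_zero]
    obtain ⟨π'', hπ''⟩ := Pretriangulated.Triangle.yoneda_exact₂ hS.singleTriangle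
      hS.singleTriangle_distinguished π' h0
    let q : (M ⧸ N) →ₗ[A] (M ⧸ N) ⧸ LinearMap.range i := (LinearMap.range i).mkQ
    let K := LinearMap.ker (q ∘ₗ N.mkQ)
    let e : (M ⧸ K) ≃ₗ[A] (M ⧸ N) ⧸ LinearMap.range i :=
      (q ∘ₗ N.mkQ).quotKerEquivOfSurjective
        ((Submodule.mkQ_surjective _).comp (Submodule.mkQ_surjective _))
    have hNK : N ≤ K := by
      intro x hx
      simp [K, LinearMap.mem_ker, (Submodule.Quotient.mk_eq_zero N).mpr hx]
    have hK : K ∈ P := by
      refine ⟨S0map e.toLinearMap ≫ π'', ?_⟩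
      rw [← Category.assoc, S0map_comp]
      have : e.toLinearMap ∘ₗ K.mkQ = q ∘ₗ N.mkQ := by ext x; rfl
      rw [this, ← S0map_comp, Category.assoc, show S0map q ≫ π'' = π' from hπ''.symm]
      exact hπ'
    have hKN : N = K := eq_of_le_of_not_lt hNK (hmax K hK)
    refine ⟨2 + c, fun x => ?_⟩
    rw [hKN]
    change q (N.mkQ (f ^ (2 + c) • x)) = 0
    refine (Submodule.Quotient.mk_eq_zero _).mpr ⟨⟨(φ ^ c) (N.mkQ x), LinearMap.mem_range_self _ _⟩, ?_⟩
    simp [i, hφ, smul_smul, ← pow_add]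
  -- hence a power of `I` kills `M ⧸ N`
  let J : Ideal A := Submodule.colon N (⊤ : Set M)
  have hJ : I ≤ J.radical := fun f hf => by
    obtain ⟨e, he⟩ := key f hf
    exact ⟨e, Submodule.mem_colon.mpr fun x _ => he x⟩
  obtain ⟨n, hn⟩ := Ideal.exists_pow_le_of_le_radical_of_fg hJ (IsNoetherian.noetherian I)
  refine ⟨n + 1, Nat.succ_pos _, ?_⟩
  have hn' : I ^ (n + 1) • (⊤ : Submodule A M) ≤ N := by
    refine Submodule.smul_le.mpr fun r hr x _ => ?_
    exact Submodule.mem_colon.mp (hn ((Ideal.pow_le_pow_right (Nat.le_succ n)) hr)) x trivial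
  rw [← hπ', ← Category.assoc, S0map_comp]
  have : N.mkQ ∘ₗ (I ^ (n + 1) • (⊤ : Submodule A M)).subtype = 0 := by
    ext x; exact (Submodule.Quotient.mk_eq_zero N).mpr (hn' x.2)
  rw [this, S0map_zero, zero_comp]


/-- Let `A` be a Noetherian commutative ring (the derived tensor product on `D(A)` being assumed to
exist and to be computed by K-flat complexes), `I` an ideal and `M` a finite `A`-module. Then there
is an integer `n > 0` such that the inclusion `I^n M ⟶ M`, viewed in `D(A)` in degree `0`, factors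
through the canonical morphism `I ⊗^L M ⟶ M` (the map `I ⊗^L M ⟶ A ⊗^L M` induced by `I ⊆ A`,
followed by the unit isomorphism). -/
theorem result (A : Type u) [CommRing A] [IsNoetherianRing A]
    [DTen.HasLTen A] [DTen.KFlatComputes A] (I : Ideal A) (M : Type u) [AddCommGroup M] [Module A M]
    [Module.Finite A M] :
    ∃ (n : ℕ) (_ : 0 < n)
      (g : DerivedCategory.Q.obj ((HomologicalComplex.single (ModuleCat.{u} A) (ComplexShape.up ℤ) 0).obj
              (ModuleCat.of A ↥(I ^ n • (⊤ : Submodule A M)))) ⟶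
            (DTen.LTen₂ A).obj (DerivedCategory.Q.obj ((HomologicalComplex.single (ModuleCat.{u} A) (ComplexShape.up ℤ) 0).obj
              (ModuleCat.of A ↥I)),
              DerivedCategory.Q.obj ((HomologicalComplex.single (ModuleCat.{u} A) (ComplexShape.up ℤ) 0).obj
              (ModuleCat.of A M)))),
      g ≫ (DTen.LTen₂ A).map (Prod.mkHom
              (DerivedCategory.Q.map ((HomologicalComplex.single (ModuleCat.{u} A) (ComplexShape.up ℤ) 0).map
                (ModuleCat.ofHom I.subtype)))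
              (𝟙 _)) ≫
          (DTen.unitL A).app (DerivedCategory.Q.obj ((HomologicalComplex.single (ModuleCat.{u} A) (ComplexShape.up ℤ) 0).obj
              (ModuleCat.of A M))) =
        DerivedCategory.Q.map ((HomologicalComplex.single (ModuleCat.{u} A) (ComplexShape.up ℤ) 0).map
          (ModuleCat.ofHom (I ^ n • (⊤ : Submodule A M)).subtype)) := by
  let a : (DTen.LTen₂ A).obj (S0 (A := A) ↥I, S0 (A := A) M) ⟶ S0 (A := A) M :=
    (DTen.LTen₂ A).map (Prod.mkHom (S0map I.subtype) (𝟙 _)) ≫ (DTen.unitL A).app (S0 (A := A) M)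
  obtain ⟨C, π, δ, hT⟩ := Pretriangulated.distinguished_cocone_triangle a
  have haπ : a ≫ π = 0 := Pretriangulated.comp_distTriang_mor_zero₁₂ _ hT
  have := isIso_unitL (A := A) ((HomologicalComplex.single (ModuleCat.{u} A) (ComplexShape.up ℤ) 0).obj (ModuleCat.of A M))
  have hg : ∀ f ∈ I, ∃ g : S0 (A := A) M ⟶ (DTen.LTen₂ A).obj (S0 (A := A) ↥I, S0 (A := A) M),
      g ≫ a = f • 𝟙 _ ∧ a ≫ g = f • 𝟙 _ := by
    intro f hf
    let j : A →ₗ[A] ↥I := LinearMap.toSpanSingleton A ↥I ⟨f, hf⟩
    have h1 : I.subtype ∘ₗ j = f • LinearMap.id := by ext; simp [j]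
    have h2 : j ∘ₗ I.subtype = f • LinearMap.id := by
      ext x; simp [j, mul_comm]
    refine ⟨inv ((DTen.unitL A).app (S0 (A := A) M)) ≫
      (DTen.LTen₂ A).map (Prod.mkHom (S0map j) (𝟙 _)), ?_, ?_⟩
    · simp only [a, Category.assoc, IsIso.inv_comp_eq]
      rw [← Category.assoc, ← Functor.map_comp]
      have : (Prod.mkHom (S0map j) (𝟙 _) ≫ Prod.mkHom (S0map I.subtype) (𝟙 (S0 (A := A) M)) :
          (S0 (A := A) A, S0 (A := A) M) ⟶ (S0 (A := A) A, S0 (A := A) M)) =
          Prod.mkHom (f • 𝟙 _) (𝟙 _) := by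
        ext
        · exact (S0map_comp j I.subtype).trans (by rw [h1, S0map_smul, S0map_id])
        · exact Category.id_comp _
      erw [this, LT_smul_one, Linear.smul_comp, Linear.comp_smul, Category.id_comp, Category.comp_id]
    · simp only [a, Category.assoc]
      rw [IsIso.hom_inv_id_assoc, ← Functor.map_comp]
      have : (Prod.mkHom (S0map I.subtype) (𝟙 (S0 (A := A) M)) ≫ Prod.mkHom (S0map j) (𝟙 _) :
          (S0 (A := A) ↥I, S0 (A := A) M) ⟶ (S0 (A := A) ↥I, S0 (A := A) M)) =
          Prod.mkHom (f • 𝟙 _) (𝟙 _) := by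
        ext
        · exact (S0map_comp I.subtype j).trans (by rw [h2, S0map_smul, S0map_id])
        · exact Category.id_comp _
      erw [this, LT_smul_one]
  have hC : ∀ f ∈ I, (f ^ 2) • 𝟙 C = 0 := by
    intro f hf
    obtain ⟨g, hga, hag⟩ := hg f hf
    have h1 : (f • 𝟙 C) ≫ δ = 0 := by
      have hz : δ ≫ (shiftFunctor (Dual.D A) (1 : ℤ)).map a = 0 :=
        Pretriangulated.comp_distTriang_mor_zero₃₁ _ hT
      have : δ ≫ (shiftFunctor (Dual.D A) (1 : ℤ)).map (a ≫ g) = 0 := by
        rw [Functor.map_comp, ← Category.assoc, hz, zero_comp]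
      rw [hag, Functor.map_smul, CategoryTheory.Functor.map_id, Linear.comp_smul,
        Category.comp_id] at this
      rw [Linear.smul_comp, Category.id_comp]
      exact this
    obtain ⟨w, hw⟩ := Pretriangulated.Triangle.coyoneda_exact₃ _ hT (f • 𝟙 C) h1
    have h2 : f • π = 0 := by
      rw [← Category.id_comp π, ← Linear.smul_comp, ← hga, Category.assoc, haπ, comp_zero]
    rw [pow_two, mul_smul, show f • 𝟙 C = w ≫ π from hw, ← Linear.comp_smul]
    exact (congrArg (w ≫ ·) h2).trans comp_zero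
  obtain ⟨n, hn, hz⟩ := exists_pow_kill I C hC M π
  obtain ⟨g, hg'⟩ := Pretriangulated.Triangle.coyoneda_exact₂ _ hT _ hz
  exact ⟨n, hn, g, hg'.symm⟩

end Groth.Agent.S13578
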