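import Groth.Statements.S13585
import Groth.Agent.S15539
import Groth.Agent.DualAbs.SmoothImm
import Groth.Agent.ProjTwist.Tensor
-- import your own Groth.Agent.* helpers here

set_option autoImplicit false
universe u
open CategoryTheory CategoryTheory.Limits AlgebraicGeometry
open Canon

namespace Groth.Agent.S13585

/-- Let `f : X ⟶ Y` and `g : Y ⟶ Z` be morphisms of schemes with `g` smooth of relative dimension `n`,
and let `Γ : X ⟶ X ×_Z Y` be the graph of `f`. Then `Γ` is a regular immersion of codimension `n`,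
and the top exterior power of its conormal sheaf is `f^* ω_{Y/Z}`, where `ω_{Y/Z} = Λ^n Ω_{Y/Z}`;
that is, the canonical sheaf of the immersion `Γ` is the dual of `f^* ω_{Y/Z}`. (This row takes `X`
locally Noetherian and `g` separated, so that the graph is a closed immersion and the criterion for
sections of smooth morphisms over a locally Noetherian base, through which the published proof goes,
applies; the published statement has arbitrary preschemes.) -/
theorem result {X Y Z : Scheme.{u}} [IsLocallyNoetherian X]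
    (f : X ⟶ Y) (g : Y ⟶ Z) (n : ℕ) [SmoothOfRelativeDimension n g] [IsSeparated g]
    (ωY : Y.Modules) (hω : Canon.IsTopDiff g n ωY) :
    RegImm.IsRegularImmersionOfCodim .regular n (pullback.lift (𝟙 X) f (Category.id_comp (f ≫ g))) ∧
      ExtPow.IsExtPow n (Omega.conormal (pullback.lift (𝟙 X) f (Category.id_comp (f ≫ g))))
        ((Scheme.Modules.pullback f).obj ωY) := by
  let Γ : X ⟶ pullback (f ≫ g) g := pullback.lift (𝟙 X) f (Category.id_comp (f ≫ g))
  let p₁ := pullback.fst (f ≫ g) g
  let p₂ := pullback.snd (f ≫ g) g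
  have h₁ : Γ ≫ p₁ = 𝟙 X := pullback.lift_fst _ _ _
  have h₂ : Γ ≫ p₂ = f := pullback.lift_snd _ _ _
  haveI := smoothOfRelativeDimension_isStableUnderBaseChange.{u} (n := n)
  haveI : SmoothOfRelativeDimension n p₁ :=
    MorphismProperty.of_isPullback (IsPullback.of_hasPullback (f ≫ g) g).flip inferInstance
  haveI : Smooth p₁ := SmoothOfRelativeDimension.smooth n p₁
  haveI : IsLocallyNoetherian (pullback (f ≫ g) g) := LocallyOfFiniteType.isLocallyNoetherian p₁
  haveI : SmoothOfRelativeDimension 0 (Γ ≫ p₁) := by rw [h₁]; infer_instance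
  haveI : IsClosedImmersion Γ :=
    haveI : IsClosedImmersion (Γ ≫ p₁) := by rw [h₁]; infer_instance
    IsClosedImmersion.of_comp Γ p₁
  refine ⟨by simpa using DualAbs.SmoothImm.isRegularImmersionOfCodim p₁ Γ n 0, ?_⟩
  haveI : (Omega.conormal Γ).IsQuasicoherent := by
    haveI : (ClSub.idealMod Γ.ker).IsQuasicoherent := AmpleLib.isQCoh_idealMod _
    exact QCoh.isQuasicoherent_pullback Γ (ClSub.idealMod Γ.ker)
  obtain ⟨DC, hDC⟩ := ExtPowSt.Exists.exists_isExtPow n (Omega.conormal Γ)
  have hLP := S15539.result Y Z _ X g p₁ p₂ (f ≫ g) (IsPullback.of_hasPullback (f ≫ g) g).flip n ωY hω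
  obtain ⟨i⟩ := DualAbs.SmoothImm.nonempty_pullback_top_iso p₁ Γ n 0 hLP hDC
    (ExtPowSt.Pullback.isExtPow_zero _)
  exact ExtPowSt.Pullback.isExtPow_of_iso ((ProjTwist.tensOne DC).symm ≪≫ i ≪≫
    (Scheme.Modules.pullbackComp Γ p₂).app ωY ≪≫ (Scheme.Modules.pullbackCongr h₂).app ωY) hDC

end Groth.Agent.S13585
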