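import Groth.Statements.S13587
import Groth.Agent.ExtSuppLib.Main
-- import your own Groth.Agent.* helpers here

set_option autoImplicit false
universe u
open CategoryTheory CategoryTheory.Limits
open ExtSupp

open CategoryTheory.Limits Opposite

namespace Groth.Agent.S13587

/-- On a ringed site, for an object `U` with closed complement `Z` and sheaves of modules `M`, `N`,
there is a bounded `E_2` spectral sequence of abelian groups with `E_2^{p,q}` isomorphic to
`H^p(ℰxt^q_{O,Z}(M, N))` (cohomology of the site) for `p, q ≥ 0` and zero otherwise, together with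
abutment data whose filtrations are finite on `Ext^n_Z(M, N)` (`n ≥ 0`; zero for `n < 0`). The `E_2`
identifications and the abutment isomorphisms are asserted to exist only and are not pinned to the
canonical maps, so edge maps are not part of this statement; the internal hom out of `M`, the right
adjoint of restriction to `U` and injective resolutions of sheaves of modules are assumed to exist.
(The published statement, on a ringed topos and likewise on a ringed space, is functorial in `M`,
`N` and in an object `X` of the topos; this row is the case of the final object.) -/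
theorem result {C : Type u} [SmallCategory C]
    {J : GrothendieckTopology C} {O : Sheaf J CommRingCat.{u}} [HasExt.{u} (ModSite.Mod O)]
    (U : C) [ModSite.HasPushOver O U] (M N : ModSite.Mod O) [ModSite.HasSheafHom M]
    [HasInjectiveResolutions (ModSite.Mod O)] :
    ∃ (E : E₂CohomologicalSpectralSequence AddCommGrpCat.{u})
      (a : SpSeq.Abutment E (fun n : ℤ =>
        if 0 ≤ n then AddCommGrpCat.of (ExtSupp.ExtZ U M N n.toNat) else AddCommGrpCat.of PUnit.{u + 1})),
      (∀ n, a.IsFinite n) ∧ SpSeq.IsBounded E ∧
      ∀ p q : ℤ, Nonempty ((E.page 2 le_rfl).X (p, q) ≅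
        (if 0 ≤ p ∧ 0 ≤ q then AddCommGrpCat.of (ModSite.HC O ((ModSite.extZSh U M q.toNat).obj N) p.toNat)
         else AddCommGrpCat.of PUnit.{u + 1})) := by
  let Q := (constantSheaf J AddCommGrpCat.{u}).obj (AddCommGrpCat.of (ULift ℤ))
  have hQ : ExtSuppLib.TF Q := ExtSuppLib.tf_constantSheaf
  let e : ExtSupp.gammaZHom U M ≅
      (ModSite.sheafHom M ⋙ ModSite.sectOn O U) ⋙ ExtSuppLib.homAbFrom O Q :=
    Functor.isoWhiskerLeft (ModSite.sheafHom M)
      (Functor.isoWhiskerLeft (ModSite.sectOn O U) (ExtSuppLib.globalIso O)) ≪≫
        (Functor.associator _ _ _).symm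
  exact ExtSuppLib.exists_ss (ModSite.sheafHom M ⋙ ModSite.sectOn O U) (ExtSuppLib.homAbFrom O Q)
    (fun I _ p hp => ExtSuppLib.isZero_rightDerived_homAbFrom hQ
      (ExtSuppLib.extP_sectOn U (ExtSuppLib.extP_sheafHom M I)) p hp) N
    (fun n => AddCommGrpCat.of (ExtSupp.ExtZ U M N n))
    (fun p q => AddCommGrpCat.of (ModSite.HC O ((ModSite.extZSh U M q).obj N) p))
    (fun n => by
      obtain ⟨e'⟩ := ExtSuppLib.nonempty_rightDerived_gammaZHom U M N n
      exact ⟨(ExtSuppLib.rightDerivedMapIso e.symm n).app N ≪≫ e'⟩)
    (fun p q => ExtSuppLib.nonempty_rightDerived_homAbFrom hQ _ p)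

end Groth.Agent.S13587
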