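import Groth.Statements.S13588
import Groth.Agent.ExtSuppLib.Main
-- import your own Groth.Agent.* helpers here

set_option autoImplicit false
universe u
open CategoryTheory CategoryTheory.Limits
open ExtSupp

open CategoryTheory.Limits Opposite

namespace Groth.Agent.S13588

/-- On a ringed site, for an object `U` with closed complement `Z` and sheaves of modules `M`, `N`,
there is a bounded `E_2` spectral sequence of abelian groups with `E_2^{p,q}` isomorphic to
`Ext^p_O(M, ℋ^q_Z(N))` for `p, q ≥ 0` and zero otherwise, together with abutment data whose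
filtrations are finite on `Ext^n_Z(M, N)` (`n ≥ 0`; zero for `n < 0`). The `E_2` identifications and
the abutment isomorphisms are asserted to exist only and are not pinned to the canonical maps, so
edge maps are not part of this statement; the internal hom out of `M`, the right adjoint of
restriction to `U` and injective resolutions of sheaves of modules are assumed to exist. (The
published statement, on a ringed topos and likewise on a ringed space, is functorial in `M`, `N` and
in an object `X` of the topos; this row is the case of the final object.) -/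
theorem result {C : Type u} [SmallCategory C]
    {J : GrothendieckTopology C} {O : Sheaf J CommRingCat.{u}} [HasExt.{u} (ModSite.Mod O)]
    (U : C) [ModSite.HasPushOver O U] (M N : ModSite.Mod O) [ModSite.HasSheafHom M]
    [HasInjectiveResolutions (ModSite.Mod O)] :
    ∃ (E : E₂CohomologicalSpectralSequence AddCommGrpCat.{u})
      (a : SpSeq.Abutment E (fun n : ℤ =>
        if 0 ≤ n then AddCommGrpCat.of (ExtSupp.ExtZ U M N n.toNat) else AddCommGrpCat.of PUnit.{u + 1})),
      (∀ n, a.IsFinite n) ∧ SpSeq.IsBounded E ∧
      ∀ p q : ℤ, Nonempty ((E.page 2 le_rfl).X (p, q) ≅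
        (if 0 ≤ p ∧ 0 ≤ q then AddCommGrpCat.of (Abelian.Ext.{u} M ((ModSite.HZsh O U q.toNat).obj N) p.toNat)
         else AddCommGrpCat.of PUnit.{u + 1})) := by
  let adj := ExtSuppLib.quotSectAdj (O := O) U
  have : (ModSite.quotOn O U).Additive := adj.left_adjoint_additive
  let e : ModSite.sectOn O U ⋙ preadditiveCoyoneda.obj (op M) ≅
      preadditiveCoyoneda.obj (op ((ModSite.quotOn O U).obj M)) :=
    NatIso.ofComponents (fun G => ((adj.homAddEquiv M G).symm).toAddCommGrpIso)
      (fun {G G'} g => by
        ext φ
        exact adj.homEquiv_naturality_right_symm φ g)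
  have hT : ∀ I : ModSite.Mod O, Injective I → ∀ p : ℕ, 0 < p →
      IsZero (((preadditiveCoyoneda.obj (op M)).rightDerived p).obj ((ModSite.sectOn O U).obj I)) :=
    fun I _ p hp => by
      have := ExtSuppLib.injective_sectOn U I
      obtain ⟨k, rfl⟩ : ∃ k, p = k + 1 := ⟨p - 1, by omega⟩
      exact Functor.isZero_rightDerived_obj_injective_succ _ k _
  exact ExtSuppLib.exists_ss (ModSite.sectOn O U) (preadditiveCoyoneda.obj (op M)) hT N
    (fun n => AddCommGrpCat.of (ExtSupp.ExtZ U M N n))
    (fun p q => AddCommGrpCat.of (Abelian.Ext.{u} M ((ModSite.HZsh O U q).obj N) p))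
    (fun n => by
      obtain ⟨e'⟩ := SiteCoh.ExtDerived.nonempty_rightDerived_iso ((ModSite.quotOn O U).obj M) N n
      exact ⟨(ExtSuppLib.rightDerivedMapIso e n).app N ≪≫ e'⟩)
    (fun p q => SiteCoh.ExtDerived.nonempty_rightDerived_iso M _ p)

end Groth.Agent.S13588
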