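import Groth.Statements.S13590
import Mathlib
import Groth.Agent.H85.ClosedPush
import Groth.Agent.LocCohZW.Basic
import Groth.Agent.CohTop.Restrict
import Groth.Agent.S0925

set_option autoImplicit false
universe u
open CategoryTheory TopologicalSpace
open SuppFam

namespace Groth.Agent.S13590

open CategoryTheory CategoryTheory.Limits TopologicalSpace Opposite

set_option synthInstance.maxHeartbeats 200000

theorem injective_sectSupp {X : TopCat.{u}} (U : Opens X) (I : CohTop.Ab X) [Injective I] :
    Injective (CohCx.sectSupp U I) := by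
  have hi : Topology.IsInducing (CohCx.inclCompl U) := Topology.IsInducing.subtypeVal
  have hc : IsClosed (Set.range (CohCx.inclCompl U)) := by
    change IsClosed (Set.range (Subtype.val : ((U : Set X)ᶜ : Set X) → X))
    rw [Subtype.range_coe]; exact U.isOpen.isClosed_compl
  have hsub : ∀ W : Opens X, (∀ z, CohCx.inclCompl U z ∉ W) →
      Subsingleton ((CohCx.sectSupp U I).obj.obj (op W)) := by
    intro W hW
    have hWU : W ≤ U := fun x hx => by
      by_contra hxU
      exact hW ⟨x, hxU⟩ hx
    refine subsingleton_of_forall_eq 0 fun t => ?_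
    apply ((AddCommGrpCat.mono_iff_injective _).1 (LocCohZW.kerSeq_map_exact U I W).2)
    have h := (LocCohZW.secEquiv U I W t).2
    change _ = 0 at h
    rw [map_zero]
    refine ((LocCohZW.res_eq_zero_iff_of_le (F := I) inf_le_left le_rfl (inf_eq_left.2 hWU) _).1 h ▸ ?_)
    change _ = (I.obj.map (𝟙 (op W))).hom _
    rw [I.obj.map_id]
    rfl
  obtain ⟨H, ⟨e⟩⟩ := H85.mem_essImage_push hi hc (CohCx.sectSupp U I) hsub
  let ff := H85.pushFullyFaithful hi
  let adj := TopCat.Sheaf.pullbackPushforwardAdjunction AddCommGrpCat.{u} (CohCx.inclCompl U)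
  haveI hF1 : (TopCat.Sheaf.pushforward AddCommGrpCat.{u} (CohCx.inclCompl U)).Full := ff.full
  haveI hF2 : (TopCat.Sheaf.pushforward AddCommGrpCat.{u} (CohCx.inclCompl U)).Faithful := ff.faithful
  haveI : IsIso adj.counit := @Adjunction.counit_isIso_of_R_fully_faithful _ _ _ _ _ _ adj hF1 hF2
  haveI hH : IsIso (adj.counit.app H) := @NatIso.isIso_app_of_isIso _ _ _ _ _ _ adj.counit _ H
  haveI : Injective H :=
    Injective.of_iso ((CohTop.pull (CohCx.inclCompl U)).mapIso e.symm ≪≫ @asIso _ _ _ _ (adj.counit.app H) hH) (S0925.result U I)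
  haveI := Groth.Agent.CohTop.Restrict.push_preservesInjectives (CohCx.inclCompl U)
  exact Injective.of_iso e ((CohTop.push (CohCx.inclCompl U)).injective_obj_of_injective (inferInstance : Injective H))

/-- For an abelian sheaf `F` on a topological space `X` and a locally closed `Z = V ∖ W` (`W ≤ V`
opens), if `F` is injective then the sheaf `Γ_Z(F) = i_* i^!(F)` of sections of `F` with supports in
`Z` is injective. -/
theorem result {X : TopCat.{u}} (F : CohTop.Ab X) {W V : Opens X} (h : W ≤ V)
    (hF : Injective F) : Injective ((SuppFam.sectSuppLC h).obj F) := by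
  haveI := hF
  haveI : Injective ((CohTop.restrFunctor V).obj F) := (CohTop.restrFunctor V).injective_obj F
  haveI hI2 : Injective ((LocCohZ.sectSuppF (SuppFam.inOpen V W)).obj ((CohTop.restrFunctor V).obj F)) :=
    injective_sectSupp _ _
  haveI := Groth.Agent.CohTop.Restrict.push_preservesInjectives (CohCx.incl V)
  exact (CohTop.push (CohCx.incl V)).injective_obj_of_injective hI2

end Groth.Agent.S13590
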