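import Groth.Statements.S13599
import Groth.Agent.IntMult66.GalDescent
import Groth.Agent.CycLib.PullFun

set_option autoImplicit false
universe u
open CategoryTheory AlgebraicGeometry
open CategoryTheory.Limits
open Cyc

namespace Groth.Agent.S13599

/-- Let k be a field, X a separated k-scheme of finite type, and k' a finite normal extension field of
k, with G the group of k-automorphisms of k'; put X' = X ×_k Spec k' with first projection p. The
group G acts on X' over X (σ acts through Spec σ on the second factor). If Z' is a cycle on X' (an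
integer-valued function on the points of X' with locally finite support) invariant under every σ ∈
G, then there is exactly one cycle Z on X with [k' : k]_insep · Z' = p^*Z, where [k' : k]_insep is
the inseparable degree and p^*Z is the flat pullback of cycles along p: its coefficient at x' is Z(p
x') times the length of the Artinian local ring O_{X',x'}/𝔪_{p x'}O_{X',x'} (p has discrete fibres,
so there is no dimension condition; the two auxiliary dimension functions are taken to be zero). -/
theorem result
    {k : Type u} [Field k] {k' : Type u} [Field k'] [Algebra k k'] [FiniteDimensional k k'] [Normal k k']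
    {X : Scheme.{u}} (f : X ⟶ Spec (CommRingCat.of k)) [LocallyOfFiniteType f] [QuasiCompact f]
    [IsSeparated f]
    (Z' : AlgebraicCycle (pullback f (Spec.map (CommRingCat.ofHom (algebraMap k k')))) ℤ)
    (hZ' : ∀ (σ : k' ≃ₐ[k] k')
      (t : pullback f (Spec.map (CommRingCat.ofHom (algebraMap k k'))) ⟶
        pullback f (Spec.map (CommRingCat.ofHom (algebraMap k k')))),
      t ≫ pullback.fst f _ = pullback.fst f _ →
      t ≫ pullback.snd f _ = pullback.snd f _ ≫ Spec.map (CommRingCat.ofHom σ.toAlgHom.toRingHom) →
      ∀ x', Z' (t.base x') = Z' x') :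
    ∃! Z : AlgebraicCycle X ℤ, ∀ x' : ↥(pullback f (Spec.map (CommRingCat.ofHom (algebraMap k k')))),
      (Field.finInsepDegree k k' : ℤ) * Z' x' =
        Cyc.pullFun (pullback.fst f (Spec.map (CommRingCat.ofHom (algebraMap k k'))))
          (fun _ => 0) (fun _ => 0) 0 ⇑Z x' := by
  classical
  let g := Spec.map (CommRingCat.ofHom (algebraMap k k'))
  let p := pullback.fst f g
  let e : ↥(pullback f g) → ℕ := fun x => Groth.Agent.Wt.FlatWt.ringLen (p.stalkMap x)
  have hpull : ∀ (W : X → ℤ) (x : ↥(pullback f g)),
      Cyc.pullFun p (fun _ => 0) (fun _ => 0) 0 W x = W (p x) * (e x : ℤ) := fun W x => by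
    unfold Cyc.pullFun
    rw [if_pos (show (0 : ℤ) = 0 + 0 by norm_num)]
    rfl
  have he := fun x => Groth.Agent.IntMult66.GalDescent.ringLen_fst f x (k' := k')
  have hconst : ∀ x₁ x₂, p x₁ = p x₂ → Z' x₁ = Z' x₂ ∧ e x₁ = e x₂ := by
    intro x₁ x₂ hx
    obtain ⟨σ, t, ht, ht1, ht2, htx⟩ := Groth.Agent.IntMult66.GalDescent.exists_translate f x₁ x₂ hx
    refine ⟨?_, ?_⟩
    · rw [← htx]
      exact (hZ' σ t ht1 ht2 x₁).symm
    · have h1 : ∀ q : pullback f g ⟶ X, q = t ≫ p →
          Groth.Agent.Wt.FlatWt.ringLen (q.stalkMap x₁) = Groth.Agent.Wt.FlatWt.ringLen (p.stalkMap (t x₁)) := by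
        rintro q rfl
        rw [Scheme.Hom.stalkMap_comp]
        exact Groth.Agent.Wt.FlatWt.ringLen_comp_of_flat _ _ (Flat.stalkMap t x₁)
          (Groth.Agent.Wt.FlatWt.etale_stalk t x₁).1
      show e x₁ = e x₂
      rw [← htx]
      exact h1 p ht1.symm
  haveI hs : Surjective (Spec.map (CommRingCat.ofHom (algebraMap k k'))) := ⟨fun z => by
    haveI : Nonempty ↥(Spec (CommRingCat.of k')) := inferInstanceAs (Nonempty (PrimeSpectrum k'))
    haveI : Subsingleton ↥(Spec (CommRingCat.of k)) := inferInstanceAs (Subsingleton (PrimeSpectrum k))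
    exact ⟨Classical.arbitrary _, Subsingleton.elim _ _⟩⟩
  haveI : Surjective p := MorphismProperty.of_isPullback (IsPullback.of_hasPullback f g).flip hs
  have hsurj : Function.Surjective p := p.surjective
  haveI : IsFinite g := (IsFinite.SpecMap_iff _).2 (RingHom.finite_algebraMap.2 inferInstance)
  haveI : CompactSpace X := QuasiCompact.compactSpace_of_compactSpace f
  haveI : CompactSpace ↥(pullback f g) := QuasiCompact.compactSpace_of_compactSpace p
  choose s hs' using hsurj
  let Zf : X → ℤ := fun x => ((Field.finInsepDegree k k' / e (s x) : ℕ) : ℤ) * Z' (s x)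
  have hZf : (Function.support Zf).Finite := by
    refine ((Groth.Agent.CycLib.finite_support_of_compact Z').image p).subset fun x hx => ⟨s x, ?_, hs' x⟩
    exact right_ne_zero_of_mul hx
  let Z : AlgebraicCycle X ℤ :=
    { toFun := Zf
      supportWithinDomain' := Set.subset_univ _
      supportLocallyFiniteWithinDomain' := fun z _ => ⟨Set.univ, Filter.univ_mem, by rwa [Set.univ_inter]⟩ }
  refine ⟨Z, fun x => ?_, fun W hW => DFunLike.ext _ _ fun x => ?_⟩
  · rw [hpull]
    show _ = Zf (p x) * _
    obtain ⟨h1, h2⟩ := hconst (s (p x)) x (hs' (p x))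
    simp only [Zf, h1, h2]
    have hdvd : e x * (Field.finInsepDegree k k' / e x) = Field.finInsepDegree k k' := Nat.mul_div_cancel' (he x).2
    conv_lhs => rw [← hdvd]
    push_cast
    ring
  · have h := hW (s x)
    rw [hpull, hs'] at h
    have hdvd : e (s x) * (Field.finInsepDegree k k' / e (s x)) = Field.finInsepDegree k k' :=
      Nat.mul_div_cancel' (he (s x)).2
    rw [← hdvd, Nat.cast_mul] at h
    have hne : (e (s x) : ℤ) ≠ 0 := by exact_mod_cast (he (s x)).1.ne'
    refine mul_right_cancel₀ hne ?_
    show W x * _ = Zf x * _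
    rw [← h]
    simp only [Zf]
    ring

end Groth.Agent.S13599
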