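import Groth.Statements.S13604
import Groth.Agent.SDivFib.Basic
import Groth.Agent.CartDiv.Local
-- import your own Groth.Agent.* helpers here

set_option autoImplicit false
universe u
open CategoryTheory AlgebraicGeometry
open CategoryTheory.Limits
open Cyc

namespace Groth.Agent.S13604

open IsLocalRing

/-- A principal ideal generated by a nonzerodivisor descends along a flat local map. -/
theorem exists_span_of_flat {A A' : Type u} [CommRing A] [IsLocalRing A] [CommRing A'] [IsLocalRing A']
    (φ : A →+* A') [IsLocalHom φ] (hφ : φ.Flat) (I : Ideal A) (h : A') (hh : h ∈ nonZeroDivisors A')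
    (hI : I.map φ = Ideal.span {h}) : ∃ g ∈ nonZeroDivisors A, I = Ideal.span {g} := by
  letI := φ.toAlgebra
  haveI : Module.Flat A A' := hφ
  haveI : IsLocalHom (algebraMap A A') := ‹IsLocalHom φ›
  haveI : Module.FaithfullyFlat A A' := Module.FaithfullyFlat.of_flat_of_isLocalHom
  have key : ∃ a ∈ I, ∃ d : A', IsUnit d ∧ d * h = φ a := by
    by_contra hcon
    push Not at hcon
    have hle : I.map φ ≤ maximalIdeal A' * Ideal.span {h} := Ideal.map_le_iff_le_comap.2 fun a ha => by
      obtain ⟨d, hd⟩ := Ideal.mem_span_singleton'.1 (hI ▸ Ideal.mem_map_of_mem φ ha)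
      rw [Ideal.mem_comap, ← hd]
      exact Ideal.mul_mem_mul ((mem_maximalIdeal _).2 fun hu => hcon a ha d hu hd)
        (Ideal.mem_span_singleton_self h)
    obtain ⟨t, ht, hth⟩ := Ideal.mem_mul_span_singleton.1 (hle (hI.symm ▸ Ideal.mem_span_singleton_self h))
    have h1 : (1 - t) * h = 0 := by rw [sub_mul, one_mul, hth, sub_self]
    have h2 : 1 - t = 0 := hh.2 _ h1
    exact (maximalIdeal.isMaximal A').ne_top ((Ideal.eq_top_iff_one _).2 (sub_eq_zero.1 h2 ▸ ht))
  obtain ⟨a, ha, d, hd, hda⟩ := key
  have hmap : (Ideal.span {a}).map φ = I.map φ := by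
    rw [hI, Ideal.map_span, Set.image_singleton, ← hda, Ideal.span_singleton_mul_left_unit hd]
  refine ⟨a, mem_nonZeroDivisors_iff_right.2 fun x hx => ?_, ?_⟩
  · have h3 : φ x * d * h = 0 := by rw [mul_assoc, hda, ← map_mul, hx, map_zero]
    have h4 := hd.mul_left_eq_zero.1 (hh.2 _ h3)
    exact FaithfulSMul.algebraMap_injective A A' (h4.trans (map_zero _).symm)
  · rw [← Ideal.comap_map_eq_self_of_faithfullyFlat (B := A') I,
      ← Ideal.comap_map_eq_self_of_faithfullyFlat (B := A') (Ideal.span {a})]
    exact congrArg (Ideal.comap _) hmap.symm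

/-- Let k be a field, X a separated k-scheme of finite type, smooth of relative dimension r, and Z ⊆ X a
closed subscheme (a quasi-coherent ideal sheaf) of pure dimension r − 1, i.e. the local ring of X at
every maximal point of Z has dimension 1. If for some field extension K/k the base change Z_K ⊆ X_K
= X ×_k Spec K (the inverse image ideal sheaf along the first projection) is an effective Cartier
divisor, then the ideal of Z is locally generated by a single non-zero-divisor, i.e. Z too is
effective Cartier. -/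
theorem result {k : Type u} [Field k] {K : Type u} [Field K]
    [Algebra k K] {X : Scheme.{u}} (f : X ⟶ Spec (CommRingCat.of k)) (r : ℕ) [SmoothOfRelativeDimension r f]
    [QuasiCompact f] [IsSeparated f] (𝓘 : X.IdealSheafData)
    (hpure : ∀ z : ↥𝓘.subscheme, (∀ z' : ↥𝓘.subscheme, z' ⤳ z → z' = z) →
      ringKrullDim ↑(X.presheaf.stalk (𝓘.subschemeι.base z)) = 1)
    (hK : BlowUp.IsEffCartierIdeal
      (𝓘.comap (pullback.fst f (Spec.map (CommRingCat.ofHom (algebraMap k K)))))) :
    BlowUp.IsEffCartierIdeal 𝓘 := by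
  haveI : Smooth f := SmoothOfRelativeDimension.smooth r f
  haveI : LocallyOfFiniteType f := inferInstance
  haveI : IsLocallyNoetherian X := LocallyOfFiniteType.isLocallyNoetherian f
  let c := Spec.map (CommRingCat.ofHom (algebraMap k K))
  haveI : Flat c := by
    rw [HasRingHomProperty.Spec_iff (P := @Flat), CommRingCat.hom_ofHom, RingHom.flat_algebraMap_iff]
    infer_instance
  refine CartDiv.Local.isEffCartier_of_stalks 𝓘 fun x _ U hx => ?_
  obtain ⟨z, rfl⟩ : ∃ z, pullback.fst f c z = x := by
    have : Surjective c := ⟨fun y => ⟨(IsLocalRing.closedPoint K : PrimeSpectrum K), Subsingleton.elim _ _⟩⟩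
    exact (pullback.fst f c).surjective x
  obtain ⟨V, hz, g, hg, he⟩ := hK z
  have hst : IntMult.stalkIdeal (𝓘.comap (pullback.fst f c)) z =
      Ideal.span {(pullback f c).presheaf.germ V.1 z hz g} := by
    rw [IdealSh.stalkIdeal_eq _ V hz, he, Ideal.map_span, Set.image_singleton]
  have hnzd : (pullback f c).presheaf.germ V.1 z hz g ∈ nonZeroDivisors ((pullback f c).presheaf.stalk z) := by
    letI := TopCat.Presheaf.algebra_section_stalk (pullback f c).presheaf ⟨z, hz⟩
    haveI := V.2.isLocalization_stalk ⟨z, hz⟩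
    exact IdealSh.EffCartier.map_mem_nonZeroDivisors_of_flat
      (algebraMap Γ(pullback f c, V.1) ((pullback f c).presheaf.stalk z))
      (RingHom.flat_algebraMap_iff.2 (IsLocalization.flat _ (V.2.primeIdealOf ⟨z, hz⟩).asIdeal.primeCompl)) hg
  rw [SDivFib.stalkIdeal_comap, IdealSh.stalkIdeal_eq _ U hx] at hst
  obtain ⟨a, ha, hIa⟩ := exists_span_of_flat ((pullback.fst f c).stalkMap z).hom
    (Flat.stalkMap (pullback.fst f c) z) _ _ hnzd hst
  exact ⟨a, ha, hIa⟩

end Groth.Agent.S13604
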