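import Groth.Statements.S13608
import Mathlib.RingTheory.Ideal.Operations
import Mathlib.RingTheory.Finiteness.Ideal
-- import your own Groth.Agent.* helpers here

set_option autoImplicit false
universe u v
open CAlg

namespace Groth.Agent.S13608

/-- Let A be a commutative ring, I a finitely generated ideal of A and (M_n) an inverse system of
A-modules with transition maps f_n : M_(n+1) → M_n such that I^(n+1) M_n = 0 for every n. If L is an
inverse limit of the system (projections π_n compatible with the f_n, jointly injective, and such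
that every compatible family of elements lifts to L), then L is complete and separated for the
I-adic topology. No surjectivity of the transition maps is assumed. -/
theorem result
    (A : Type u) [CommRing A] (I : Ideal A) (hI : I.FG)
    (M : ℕ → Type v) [∀ n, AddCommGroup (M n)] [∀ n, Module A (M n)]
    (f : ∀ n, M (n + 1) →ₗ[A] M n)
    (hkill : ∀ n, I ^ (n + 1) • (⊤ : Submodule A (M n)) = ⊥)
    (L : Type v) [AddCommGroup L] [Module A L] (π : ∀ n, L →ₗ[A] M n)
    (hπ : ∀ n, f n ∘ₗ π (n + 1) = π n)
    (hinj : ∀ x : L, (∀ n, π n x = 0) → x = 0)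
    (hlift : ∀ y : (∀ n, M n), (∀ n, f n (y (n + 1)) = y n) → ∃ x : L, ∀ n, π n x = y n) :
    IsAdicComplete I L := by
  have hπ0 : ∀ (m k : ℕ), m + 1 ≤ k → ∀ z ∈ I ^ k • (⊤ : Submodule A L), π m z = 0 := by
    intro m k hk z hz
    have : π m z ∈ I ^ (m + 1) • (⊤ : Submodule A (M m)) := by
      have h1 := Submodule.mem_map_of_mem (f := π m) hz
      rw [Submodule.map_smul''] at h1
      exact Submodule.smul_mono (Ideal.pow_le_pow_right hk) le_top h1
    rwa [hkill, Submodule.mem_bot] at this
  haveI : IsHausdorff I L := ⟨fun x hx => hinj x fun m => hπ0 m (m + 1) le_rfl x (by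
    simpa [SModEq.zero] using hx (m + 1))⟩
  haveI : IsPrecomplete I L := ⟨fun x hx => by
    -- limit of a Cauchy sequence whose `k`-th difference lies in `I ^ k L`
    have lim : ∀ z : ℕ → L, (∀ k, z (k + 1) - z k ∈ I ^ k • (⊤ : Submodule A L)) →
        ∃ Z : L, ∀ m k, m + 1 ≤ k → π m Z = π m (z k) := by
      intro z hz
      have hst : ∀ m k, m + 1 ≤ k → π m (z k) = π m (z (m + 1)) := by
        intro m k hk
        induction k, hk using Nat.le_induction with
        | base => rfl
        | succ k hk ih => rw [← ih, ← sub_eq_zero, ← map_sub]; exact hπ0 m k hk _ (hz k)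
      obtain ⟨Z, hZ⟩ := hlift (fun m => π m (z (m + 1))) fun m => by
        rw [← LinearMap.comp_apply, hπ]; exact hst m (m + 2) (by omega)
      exact ⟨Z, fun m k hk => by rw [hZ, hst m k hk]⟩
    have hd : ∀ k, x (k + 1) - x k ∈ I ^ k • (⊤ : Submodule A L) := fun k => by
      have := (hx (Nat.le_succ k)).symm
      rwa [SModEq.sub_mem] at this
    obtain ⟨X, hX⟩ := lim x hd
    refine ⟨X, fun n => ?_⟩
    rw [SModEq.sub_mem]
    classical
    obtain ⟨s, hs⟩ := hI.pow (n := n)
    have hdec : ∀ k, ∃ c : s → L, x (n + k + 1) - x (n + k) = ∑ i : s, (i : A) • c i ∧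
        ∀ i, c i ∈ I ^ k • (⊤ : Submodule A L) := by
      intro k
      have h1 : x (n + k + 1) - x (n + k) ∈ Ideal.span (s : Set A) • (I ^ k • (⊤ : Submodule A L)) := by
        rw [show Ideal.span (s : Set A) = I ^ n from hs, ← Submodule.smul_assoc, smul_eq_mul, ← pow_add]
        exact hd _
      generalize I ^ k • (⊤ : Submodule A L) = N at h1 ⊢
      generalize x (n + k + 1) - x (n + k) = w at h1 ⊢
      refine Submodule.smul_induction_on h1 (fun r hr z hz => ?_) ?_
      ·
        induction hr using Submodule.span_induction generalizing z with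
        | mem r hr =>
          refine ⟨Pi.single ⟨r, hr⟩ z, ?_, fun i => ?_⟩
          · rw [Finset.sum_eq_single ⟨r, hr⟩] <;> simp +contextual
          · rcases eq_or_ne i ⟨r, hr⟩ with rfl | h
            · simpa using hz
            · simp [h]
        | zero => exact ⟨0, by simp, fun i => zero_mem _⟩
        | add a b _ _ ha hb =>
          obtain ⟨c, hc, hc'⟩ := ha z hz
          obtain ⟨d, hd, hd'⟩ := hb z hz
          exact ⟨c + d, by simp [add_smul, hc, hd, Finset.sum_add_distrib], fun i => add_mem (hc' i) (hd' i)⟩
        | smul a r _ ha =>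
          obtain ⟨c, hc, hc'⟩ := ha (a • z) (N.smul_mem a hz)
          exact ⟨c, by rw [← hc, smul_smul, smul_eq_mul, mul_comm], hc'⟩
      · rintro a b ha hb
        obtain ⟨c, hc, hc'⟩ := ha
        obtain ⟨d, hd, hd'⟩ := hb
        exact ⟨c + d, by simp [hc, hd, Finset.sum_add_distrib], fun i => add_mem (hc' i) (hd' i)⟩
    choose c hc hc' using hdec
    have hlim : ∀ i : s, ∃ Z : L, ∀ m k, m + 1 ≤ k → π m Z = π m (∑ j ∈ Finset.range k, c j i) := fun i =>
      lim (fun k => ∑ j ∈ Finset.range k, c j i) fun k => by simpa [Finset.sum_range_succ] using hc' k i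
    choose Z hZ using hlim
    have heq : x n - X = - ∑ i : s, (i : A) • Z i := by
      rw [eq_neg_iff_add_eq_zero]
      refine hinj _ fun m => ?_
      have htel : ∑ i : s, (i : A) • ∑ j ∈ Finset.range (m + 1), c j i = x (n + (m + 1)) - x n := by
        simp only [Finset.smul_sum]
        rw [Finset.sum_comm]
        simp only [← hc]
        exact Finset.sum_range_sub (fun k => x (n + k)) _
      have hs : π m (∑ i : s, (i : A) • Z i) = π m (x (n + (m + 1))) - π m (x n) := by
        rw [← map_sub, ← htel, map_sum, map_sum]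
        exact Finset.sum_congr rfl fun i _ => by rw [map_smul, map_smul, hZ i m (m + 1) le_rfl]
      rw [map_add, map_sub, hs, hX m (n + (m + 1)) (by omega)]
      abel
    rw [heq, neg_mem_iff]
    refine sum_mem fun i _ => Submodule.smul_mem_smul ?_ Submodule.mem_top
    rw [← hs]
    exact Submodule.subset_span i.2⟩
  exact ⟨⟩

end Groth.Agent.S13608
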