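import Groth.Statements.S13609
import Mathlib
-- import your own Groth.Agent.* helpers here

set_option autoImplicit false
universe u v
open CAlg

namespace Groth.Agent.S13609

/-- A direct summand of a module that is complete and separated for the I-adic topology is again
complete and separated: for a commutative ring A, an ideal I and A-modules M₁, M₂, if M₁ × M₂ is
I-adically complete then so is M₁. -/
theorem result (A : Type u) [CommRing A] (I : Ideal A)
    (M₁ M₂ : Type v) [AddCommGroup M₁] [Module A M₁] [AddCommGroup M₂] [Module A M₂]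
    [IsAdicComplete I (M₁ × M₂)] : IsAdicComplete I M₁ := by
  have key : ∀ (n : ℕ) (x y : M₁), x ≡ y [SMOD (I ^ n • ⊤ : Submodule A M₁)] →
      (x, (0:M₂)) ≡ (y, 0) [SMOD (I ^ n • ⊤ : Submodule A (M₁ × M₂))] := by
    intro n x y h
    refine (h.map (LinearMap.inl A M₁ M₂)).mono ?_
    rw [Submodule.map_smul'']
    exact Submodule.smul_mono le_rfl le_top
  refine { haus' := ?_, prec' := ?_ }
  · intro x hx
    have h0 := IsHausdorff.haus' (I := I) ((x, (0:M₂))) (fun n => key n x 0 (hx n))
    exact congrArg Prod.fst h0
  · intro f hf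
    obtain ⟨L, hL⟩ := IsPrecomplete.prec' (I := I) (fun n => (f n, (0:M₂))) (fun h => key _ _ _ (hf h))
    refine ⟨L.1, fun n => ?_⟩
    refine ((hL n).map (LinearMap.fst A M₁ M₂)).mono ?_
    rw [Submodule.map_smul'']
    exact Submodule.smul_mono le_rfl le_top

end Groth.Agent.S13609
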