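import Groth.Statements.S1361
import Groth.Agent.S1356
import Groth.Agent.SecComp.Basic
import Groth.Agent.SchPoints.Basic
import Groth.Agent.Wt.GeomPts

set_option autoImplicit false
universe u
open FlatMor

namespace Groth.Agent.S1361

open Groth.Agent.FlatMor.GeomConnSpread TopologicalSpace

open AlgebraicGeometry CategoryTheory Limits in
/-- A point of a residue field, seen downstairs. -/
theorem fromSpecResidueField_comp {U S : Scheme.{u}} (g : U ⟶ S) (u : U) (s : S) (h : g u = s) :
    U.fromSpecResidueField u ≫ g =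
      Spec.map ((S.residueFieldCongr h).inv ≫ g.residueFieldMap u) ≫ S.fromSpecResidueField s := by
  subst h
  simp [Scheme.Hom.SpecMap_residueFieldMap_fromSpecResidueField]

open AlgebraicGeometry CategoryTheory Limits in
/-- The connected component of a rational point, when open, is geometrically connected. -/
theorem geometricallyConnected_component {k : Type u} [Field k] {Z : Scheme.{u}}
    (π : Z ⟶ Spec (CommRingCat.of k)) (σ : Spec (CommRingCat.of k) ⟶ Z) (hσ : σ ≫ π = 𝟙 _)
    (pt₀ : ↥(Spec (CommRingCat.of k))) (T : Z.Opens) (hT : (T : Set Z) = connectedComponent (σ pt₀)) :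
    GeometricallyConnected (T.ι ≫ π) := by
  refine ⟨geometrically_iff_of_commRing.mpr fun K _ _ W a b hW => ?_⟩
  let i := Spec.map (CommRingCat.ofHom (algebraMap k K))
  let ψ : W ⟶ pullback π i := pullback.lift (a ≫ T.ι) b (by rw [Category.assoc]; exact hW.w)
  have hψ : IsPullback a ψ T.ι (pullback.fst π i) := by
    refine IsPullback.of_bot (v₂₁ := pullback.snd π i) (v₂₂ := π) (h₃₁ := i) ?_
      (pullback.lift_fst _ _ _).symm (IsPullback.of_hasPullback π i)
    rw [pullback.lift_snd]
    exact hW
  haveI : IsOpenImmersion ψ := MorphismProperty.of_isPullback hψ inferInstance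
  have hr : Set.range ψ = pullback.fst π i ⁻¹' connectedComponent (σ pt₀) := by
    rw [← hT]
    ext x
    refine ⟨?_, fun hx => ?_⟩
    · rintro ⟨w, rfl⟩
      show pullback.fst π i (ψ w) ∈ T
      rw [← Scheme.Hom.comp_apply, pullback.lift_fst]
      exact (a w).2
    · obtain ⟨w, -, hw⟩ := Scheme.exists_preimage_of_isPullback hψ ⟨_, hx⟩ x rfl
      exact ⟨w, hw⟩
  have := Groth.Agent.SecComp.isConnected_preimage_component (K := K) π σ hσ pt₀
  rw [← hr] at this
  haveI := Subtype.connectedSpace this
  exact ψ.isEmbedding.toHomeomorph.symm.surjective.connectedSpace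
    ψ.isEmbedding.toHomeomorph.symm.continuous

open AlgebraicGeometry CategoryTheory Limits in
/-- Let f : X → S be flat, locally of finite presentation, with geometrically reduced fibres. Then for
every point x of X there are an étale morphism X' → X whose image contains x, an étale morphism S' →
S and a factorization X' → S' → S of X' → X → S such that X' → S' is a flat morphism of finite
presentation all of whose fibres are geometrically connected and geometrically reduced. -/
theorem result {X S : Scheme.{u}} (f : X ⟶ S) [Flat f] [LocallyOfFinitePresentation f] [GeometricallyReduced f] (x : X) :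
    ∃ (X' S' : Scheme.{u}) (a : X' ⟶ X) (b : X' ⟶ S') (c : S' ⟶ S), Etale a ∧ x ∈ Set.range ⇑a ∧ Etale c ∧ a ≫ f = b ≫ c ∧
      Flat b ∧ LocallyOfFinitePresentation b ∧ QuasiCompact b ∧ QuasiSeparated b ∧ GeometricallyConnected b ∧ GeometricallyReduced b := by
  obtain ⟨_, ⟨(S0 : S.Opens), hS0, rfl⟩, hxS0, -⟩ :=
    S.isBasis_affineOpens.exists_subset_of_mem_open (Set.mem_univ (f x)) isOpen_univ
  obtain ⟨_, ⟨(X0 : X.Opens), hX0, rfl⟩, hxX0, hX0le⟩ :=
    X.isBasis_affineOpens.exists_subset_of_mem_open (show x ∈ f ⁻¹ᵁ S0 from hxS0) (f ⁻¹ᵁ S0).2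
  haveI : IsAffine (S0 : Scheme.{u}) := hS0
  haveI : IsAffine (X0 : Scheme.{u}) := hX0
  let h0 : X0.toScheme ⟶ S0 := f.resLE S0 X0 hX0le
  have hsq : IsPullback (𝟙 X0.toScheme) h0 (X0.ι ≫ f) S0.ι :=
    IsPullback.of_horiz_isIso_mono ⟨by rw [Category.id_comp, Scheme.Hom.resLE_comp_ι]⟩
  haveI := geometricallyReduced_comp X0.ι f
  haveI : GeometricallyReduced h0 := MorphismProperty.of_isPullback hsq inferInstance
  haveI : Flat h0 := MorphismProperty.of_isPullback hsq inferInstance
  haveI : LocallyOfFinitePresentation h0 := MorphismProperty.of_isPullback hsq inferInstance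
  let x0 : X0.toScheme := ⟨x, hxX0⟩
  let s := h0 x0
  -- the connected component of `x` in its fibre
  let F := h0.fiber s
  haveI : LocallyOfFiniteType (h0.fiberToSpecResidueField s) :=
    MorphismProperty.pullback_snd _ _ inferInstance
  haveI : IsLocallyNoetherian F :=
    LocallyOfFiniteType.isLocallyNoetherian (h0.fiberToSpecResidueField s)
  haveI : IsNoetherian F := {}
  obtain ⟨xF, hxF⟩ : x0 ∈ Set.range (h0.fiberι s) := by rw [h0.range_fiberι s]; rfl
  let C : F.Opens := ⟨connectedComponent xF, SchPoints.isOpen_connectedComponent_of_noetherian xF⟩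
  obtain ⟨O, -, -, hOC⟩ := exists_isCompact_opens h0 s C ⊤ trivial
  obtain ⟨S'', g, s'', hg, hgs, σ, hσ⟩ := exists_etale_section h0 s O
    ⟨xF, by rw [hOC]; exact mem_connectedComponent⟩
  -- the component of the section in the fibre of the base change
  let h1 := pullback.snd h0 g
  haveI : Flat h1 := MorphismProperty.pullback_snd _ _ inferInstance
  haveI : LocallyOfFinitePresentation h1 := MorphismProperty.pullback_snd _ _ inferInstance
  haveI : QuasiCompact h1 := MorphismProperty.pullback_snd _ _ inferInstance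
  haveI : QuasiSeparated h1 := MorphismProperty.pullback_snd _ _ inferInstance
  haveI : GeometricallyReduced h1 := MorphismProperty.pullback_snd _ _ inferInstance
  let σ1 : S'' ⟶ pullback h0 g := pullback.lift (σ ≫ O.ι) (𝟙 _) (by
    rw [Category.assoc, hσ, Category.id_comp])
  let F1 := h1.fiber s''
  haveI : LocallyOfFiniteType (h1.fiberToSpecResidueField s'') :=
    MorphismProperty.pullback_snd _ _ inferInstance
  haveI : IsLocallyNoetherian F1 :=
    LocallyOfFiniteType.isLocallyNoetherian (h1.fiberToSpecResidueField s'')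
  haveI : IsNoetherian F1 := {}
  let c := S''.fromSpecResidueField s''
  let σF : Spec (S''.residueField s'') ⟶ F1 := pullback.lift (c ≫ σ1) (𝟙 _) (by
    rw [Category.assoc, pullback.lift_snd, Category.comp_id, Category.id_comp])
  let pt₀ : ↥(Spec (S''.residueField s'')) := IsLocalRing.closedPoint _
  let T : F1.Opens := ⟨connectedComponent (σF pt₀), SchPoints.isOpen_connectedComponent_of_noetherian _⟩
  have hT : GeometricallyConnected (T.ι ≫ h1.fiberToSpecResidueField s'') :=
    geometricallyConnected_component (k := S''.residueField s'') _ σF (pullback.lift_snd _ _ _) pt₀ T rfl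
  let ψ := Spec.map ((S0.toScheme.residueFieldCongr hgs).inv ≫ g.residueFieldMap s'')
  have hψ : c ≫ g = ψ ≫ S0.toScheme.fromSpecResidueField s :=
    fromSpecResidueField_comp g s'' s hgs
  let π : F1 ⟶ F := pullback.lift (h1.fiberι s'' ≫ pullback.fst h0 g)
    (h1.fiberToSpecResidueField s'' ≫ ψ) (by
      rw [Category.assoc, pullback.condition, Category.assoc, ← hψ]
      exact pullback.condition_assoc g)
  have hπ1 : π ≫ h0.fiberι s = h1.fiberι s'' ≫ pullback.fst h0 g := pullback.lift_fst _ _ _
  have hπ : IsPullback π (h1.fiberToSpecResidueField s'') (h0.fiberToSpecResidueField s) ψ := by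
    refine IsPullback.of_right ?_ (pullback.lift_snd _ _ _)
      (IsPullback.of_hasPullback h0 (S0.toScheme.fromSpecResidueField s))
    erw [hπ1]
    rw [← hψ]
    exact (IsPullback.of_hasPullback h1 c).paste_horiz (IsPullback.of_hasPullback h0 g)
  haveI := hg
  haveI : LocallyQuasiFinite g := Groth.Agent.Wt.Master.locallyQuasiFinite_of_etale g
  have hfinψ : IsFinite ψ := (IsFinite.SpecMap_iff _).mpr (by
    rw [CommRingCat.hom_comp]
    exact (Groth.Agent.Wt.GeomPts.residueFieldMap_finite (π := g) s'').comp
      (.of_surjective _ (ConcreteCategory.bijective_of_isIso _).2))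
  haveI : IsFinite π := MorphismProperty.of_isPullback hπ.flip hfinψ
  haveI : UniversallyOpen π := MorphismProperty.of_isPullback hπ.flip inferInstance
  have hclopen : IsClopen (π '' (T : Set F1)) :=
    ⟨π.isClosedMap _ isClosed_connectedComponent, π.isOpenMap _ T.2⟩
  have hyC : π (σF pt₀) ∈ C := by
    rw [← hOC]
    show h0.fiberι s (π (σF pt₀)) ∈ O
    rw [← Scheme.Hom.comp_apply π, hπ1, Scheme.Hom.comp_apply,
      ← Scheme.Hom.comp_apply σF,
      show σF ≫ h1.fiberι s'' = c ≫ σ1 from pullback.lift_fst _ _ _, Scheme.Hom.comp_apply,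
      ← Scheme.Hom.comp_apply σ1, pullback.lift_fst]
    exact (σ _).2
  obtain ⟨t, htT, ht⟩ : xF ∈ π '' (T : Set F1) :=
    hclopen.connectedComponent_subset (x := π (σF pt₀)) ⟨_, mem_connectedComponent, rfl⟩
      (connectedComponent_eq hyC ▸ mem_connectedComponent)
  -- spread out
  obtain ⟨S', g2, s', hS', hg2, V, hVc, hVconn, hVmem⟩ := S1356.result h1 s'' T hT
  haveI : Etale g2 := hg2.etale
  haveI : IsAffine S' := hS'
  obtain ⟨y', hy1, hy2⟩ := Scheme.Pullback.exists_preimage_pullback (f := h1) (g := g2)
    (h1.fiberι s'' t) s' (by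
      have : h1.fiberι s'' t ∈ Set.range (h1.fiberι s'') := ⟨t, rfl⟩
      rw [h1.range_fiberι s''] at this
      rw [show h1 (h1.fiberι s'' t) = s'' from this]
      exact hg2.base_eq.symm)
  have hy'V : y' ∈ V := (hVmem y' hy2).mpr ⟨t, htT, hy1.symm⟩
  haveI : Etale (pullback.fst h0 g) := MorphismProperty.pullback_fst _ _ hg
  haveI : Etale (pullback.fst h1 g2) := MorphismProperty.pullback_fst _ _ hg2.etale
  refine ⟨V.toScheme, S', V.ι ≫ pullback.fst h1 g2 ≫ pullback.fst h0 g ≫ X0.ι,
    V.ι ≫ pullback.snd h1 g2, g2 ≫ g ≫ S0.ι, inferInstance, ⟨⟨y', hy'V⟩, ?_⟩, inferInstance, ?_,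
    inferInstance, inferInstance, ?_, inferInstance, hVconn, geometricallyReduced_comp _ _⟩
  · show X0.ι (pullback.fst h0 g (pullback.fst h1 g2 y')) = x
    have h3 : pullback.fst h0 g (h1.fiberι s'' t) = h0.fiberι s (π t) := by
      rw [← Scheme.Hom.comp_apply, ← Scheme.Hom.comp_apply, hπ1]
    rw [hy1, h3, ht, hxF]
    rfl
  · simp only [Category.assoc]
    rw [← Scheme.Hom.resLE_comp_ι f hX0le, pullback.condition_assoc]
    exact congrArg (V.ι ≫ ·) (pullback.condition_assoc (f := h1) (g := g2) _)
  · haveI : CompactSpace V.toScheme := isCompact_iff_compactSpace.mp hVc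
    exact (HasAffineProperty.iff_of_isAffine (P := @QuasiCompact)).mpr inferInstance

end Groth.Agent.S1361
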