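import Groth.Prelude.Def_EtMod2
import Groth.Prelude.Def_ARSys
import Mathlib.CategoryTheory.Linear.FunctorCategory
import Mathlib.AlgebraicGeometry.Noetherian
import Mathlib.FieldTheory.IsSepClosed
import Mathlib.CategoryTheory.Subobject.Basic
import Mathlib.Order.Hom.Basic
import Groth.Agent.EtModWLib.ConsSys

set_option autoImplicit false
open CategoryTheory CategoryTheory.Limits AlgebraicGeometry Opposite
universe u
open EtModW

namespace Groth.Agent.S13619

open Groth.Agent.EtModWLib Groth.Agent.ARLib ARSys

/-- For a Noetherian scheme X, a Noetherian coefficient ring Λ and an ideal I of Λ, let F be an I-adic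
inverse system of constructible sheaves of Λ-modules on the small etale site of X. Then every
increasing sequence Z_0 ≤ Z_1 ≤ … of subobjects of F in the abelian category of inverse systems, all
of whose underlying systems are AR I-adic (termwise killed by I^(n+1) and receiving a morphism with
null kernel and cokernel from an I-adic system of constructible sheaves), becomes constant up to
translation: there is k₀ such that for every k ≥ k₀ the inclusion of Z_k into Z_(k+1) has kernel and
cokernel null up to translation. (The published statement is for AR-injective maps into an AR I-adic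
object; replacing each by the image of a representing morphism of systems and F by an I-adic system
gives the case of genuine subobjects stated here.) -/
theorem result
    (Λ : Type (u + 1)) [CommRing Λ] [IsNoetherianRing Λ] (I : Ideal Λ)
    {X : Scheme.{u}} [IsNoetherian X]
    (F : ARSys.PS (EtModW.Mod Λ X)) (hF : ARSys.IsAdic I F)
    (hFc : ∀ n : ℕ, EtModW.IsConstructible Λ (F.obj (op n)))
    (Z : ℕ →o Subobject F)
    (hZ : ∀ k : ℕ, (ARSys.TermKilled I (Subobject.underlying.obj (Z k) : ARSys.PS (EtModW.Mod Λ X)) ∧ ∃ (Y : ARSys.PS (EtModW.Mod Λ X)) (v : Y ⟶ (Subobject.underlying.obj (Z k) : ARSys.PS (EtModW.Mod Λ X))), ARSys.IsAdic I Y ∧ (∀ n : ℕ, EtModW.IsConstructible Λ (Y.obj (op n))) ∧ ARSys.IsARIso v)) :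
    ∃ k₀ : ℕ, ∀ k : ℕ, k₀ ≤ k → ARSys.IsARIso (Subobject.ofLE (Z k) (Z (k + 1)) (Z.monotone (Nat.le_succ k))) := by
  have hI : I.FG := IsNoetherian.noetherian I
  choose hk Y v hY hYc hv using hZ
  let a : ∀ k, Y k ⟶ F := fun k => v k ≫ (Z k).arrow
  let W : ℕ → ARSys.PS (EtModW.Mod Λ X) := fun k => Abelian.image (a k)
  let ι : ∀ k, W k ⟶ F := fun k => Abelian.image.ι (a k)
  have : ∀ k, Mono (ι k) := fun k => inferInstanceAs (Mono (kernel.ι _))
  have hW : ∀ k, IsStrict (W k) := by
    intro k n m hnm
    have := adic_strict (hY k) n m hnm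
    have := epi_app (Abelian.factorThruImage (a k)) n
    exact epi_of_epi_fac (tr_nat (Abelian.factorThruImage (a k)) hnm).symm
  -- maps from strict systems land in the image of `v m`
  have hzero : ∀ k m (hkm : k ≤ m),
      v k ≫ Subobject.ofLE _ _ (Z.monotone hkm) ≫ cokernel.π (v m) = 0 := by
    intro k m hkm
    obtain ⟨r, hr⟩ := (isARNull_iff _).1 (hv m).2
    apply NatTrans.ext
    funext n
    refine strict_cancel_zero (adic_strict (hY k)) (Nat.le_add_right n.unop r) ?_
    rw [tr_nat]
    exact (congrArg (_ ≫ ·) (hr n.unop)).trans comp_zero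
  have inc : ∀ k m, k ≤ m → ∃ c : W k ⟶ W m, c ≫ ι m = ι k := by
    intro k m hkm
    refine ⟨kernel.lift _ (kernel.ι _) ?_, kernel.lift_ι _ _ _⟩
    rw [← cancel_epi (Abelian.factorThruImage (a k)), ← Category.assoc, comp_zero]
    refine (congrArg (· ≫ _) (Abelian.image.fac _)).trans ?_
    have hfac : v k ≫ Subobject.ofLE _ _ (Z.monotone hkm) =
        kernel.lift _ (v k ≫ Subobject.ofLE _ _ (Z.monotone hkm)) ((Category.assoc _ _ _).trans (hzero k m hkm)) ≫
          Abelian.image.ι (v m) := (kernel.lift_ι _ _ _).symm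
    have h2 : Abelian.image.ι (v m) ≫ (Z m).arrow ≫ cokernel.π (a m) = 0 := by
      rw [← cancel_epi (Abelian.factorThruImage (v m)), ← Category.assoc, Abelian.image.fac,
        ← Category.assoc, comp_zero]
      exact cokernel.condition (a m)
    rw [show a k = v k ≫ Subobject.ofLE _ _ (Z.monotone hkm) ≫ (Z m).arrow by rw [Subobject.ofLE_arrow],
      ← Category.assoc (v k), hfac, Category.assoc, Category.assoc, h2, comp_zero]
  obtain ⟨k₀, hk₀⟩ := strict_chain hI ⟨hF, fun n => isNoetherianObject_of_isConstructible (hFc n)⟩ W ι hW inc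
  refine ⟨k₀, fun k hk' => ?_⟩
  let c := Subobject.ofLE _ _ (Z.monotone (Nat.le_succ k))
  have hπ : v (k + 1) ≫ cokernel.π c = 0 := by
    apply NatTrans.ext
    funext n
    obtain ⟨n⟩ := n
    have h1 : (imageSubobject ((ι k₀).app (op n))).Factors ((a (k + 1)).app (op n)) := by
      rw [← hk₀ (k + 1) (hk'.trans (Nat.le_succ k)) n, ← Abelian.image.fac (a (k + 1)), NatTrans.comp_app]
      exact mem_image_self _ _
    obtain ⟨T, e, he, y, hy⟩ := (mem_image _ _).1 h1
    have := epi_app (Abelian.factorThruImage (a k₀)) n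
    obtain ⟨T', e', he', z, hz⟩ := surjective_up_to_refinements_of_epi ((Abelian.factorThruImage (a k₀)).app (op n)) y
    have := mono_app (Z (k + 1)).arrow n
    have key : (e' ≫ e) ≫ (v (k + 1)).app (op n) =
        z ≫ (v k₀).app (op n) ≫ (Subobject.ofLE _ _ (Z.monotone hk')).app (op n) ≫ c.app (op n) := by
      rw [← cancel_mono ((Z (k + 1)).arrow.app (op n))]
      simp only [Category.assoc, ← NatTrans.comp_app, c, Subobject.ofLE_arrow]
      refine (congrArg (e' ≫ ·) hy).trans ((Category.assoc _ _ _).symm.trans ((congrArg (· ≫ _) hz).trans ?_))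
      rw [Category.assoc]
      exact congrArg (z ≫ ·) (NatTrans.congr_app (Abelian.image.fac (a k₀)) (op n))
    rw [← cancel_epi (e' ≫ e), NatTrans.comp_app, ← Category.assoc, key]
    simp only [Category.assoc, ← NatTrans.comp_app, cokernel.condition, comp_zero, c]
    simp
  obtain ⟨r, hr⟩ := (isARNull_iff _).1 (hv (k + 1)).2
  refine ⟨⟨0, fun n => ?_⟩, ?_⟩
  · exact ((isZero_kernel_of_mono c).obj _).eq_of_tgt _ _
  · let p : cokernel (v (k + 1)) ⟶ cokernel c := cokernel.desc _ (cokernel.π c) hπ
    have : Epi p := epi_of_epi_fac (cokernel.π_desc _ _ hπ)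
    have : ∀ n : ℕ, Epi (p.app (op n)) := fun n => epi_app p n
    exact isARNull_of_epi p (hv (k + 1)).2

end Groth.Agent.S13619
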