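import Groth.Prelude.Def_EtMod2
import Groth.Prelude.Def_ARSys
import Mathlib.CategoryTheory.Linear.FunctorCategory
import Mathlib.AlgebraicGeometry.Noetherian
import Mathlib.FieldTheory.IsSepClosed
import Groth.Agent.EtModWLib.ConsSys
import Mathlib.CategoryTheory.Functor.OfSequence

set_option autoImplicit false
open CategoryTheory CategoryTheory.Limits AlgebraicGeometry Opposite
universe u
open EtModW

namespace Groth.Agent.S13620

open Groth.Agent Groth.Agent.EtModWLib Groth.Agent.ARLib ARSys

/-- For a Noetherian scheme X, a Noetherian coefficient ring Λ and an ideal I of Λ, let F = (F_n) be an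
inverse system of sheaves of Λ-modules on the small etale site of X which is AR I-adic (I^(n+1) F_n
= 0 for all n, and F receives a morphism with kernel and cokernel null up to translation from an
I-adic system of constructible sheaves). Then F is null up to translation if and only if for every
geometric point x of X the limit of the stalk system, lim_n F_n,x, is the zero module. (The
published lemma assumes Λ I-adically complete, which only its first assertion uses; this row states
the second assertion without it.) -/
theorem result
    (Λ : Type (u + 1)) [CommRing Λ] [IsNoetherianRing Λ] (I : Ideal Λ)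
    {X : Scheme.{u}} [IsNoetherian X]
    (F : ARSys.PS (EtModW.Mod Λ X))
    (hF : (ARSys.TermKilled I F ∧ ∃ (Y : ARSys.PS (EtModW.Mod Λ X)) (v : Y ⟶ F), ARSys.IsAdic I Y ∧ (∀ n : ℕ, EtModW.IsConstructible Λ (Y.obj (op n))) ∧ ARSys.IsARIso v)) :
    ARSys.IsARNull F ↔
      ∀ (Ω : Type u) [Field Ω] [IsSepClosed Ω] (x : Spec (CommRingCat.of Ω) ⟶ X),
        IsZero (limit (F ⋙ EtModW.stalk Λ x)) := by
  obtain ⟨-, Y, v, hY, -, hv⟩ := hF
  refine ⟨fun hnull Ω _ _ x => ?_, fun h => ?_⟩
  · obtain ⟨r, hr⟩ := (isARNull_iff _).1 hnull
    rw [IsZero.iff_id_eq_zero]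
    refine limit.hom_ext fun j => ?_
    obtain ⟨n⟩ := j
    rw [Category.id_comp, zero_comp, ← limit.w (F ⋙ EtModW.stalk Λ x) (homOfLE (Nat.le_add_right n r)).op]
    have : (F ⋙ EtModW.stalk Λ x).map (homOfLE (Nat.le_add_right n r)).op = 0 :=
      (congrArg (EtModW.stalk Λ x).map (hr n)).trans (Functor.map_zero _ _ _)
    rw [this, comp_zero]
  · have hY0 : ∀ n : ℕ, IsZero (Y.obj (op n)) := fun n => by
      rw [isZero_iff_stalk]
      intro Ω _ _ x
      let L := EtModW.stalk Λ x
      haveI : Subsingleton ↑(L.obj (Y.obj (op n))) := subsingleton_of_forall_eq 0 fun p => by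
        have hstep : ∀ m (q : ↑(L.obj (Y.obj (op m)))),
            ∃ q' : ↑(L.obj (Y.obj (op (m + 1)))), L.map (tr Y (Nat.le_succ m)) q' = q := fun m q =>
          haveI := adic_strict hY m (m + 1) (Nat.le_succ m)
          stalk_surjective_of_epi x (tr Y (Nat.le_succ m)) q
        choose lift hlift using hstep
        let y' : ∀ k, ↑(L.obj (Y.obj (op (n + k)))) := fun k => Nat.rec p (fun k q => lift (n + k) q) k
        have hy' : ∀ k, L.map (tr Y (Nat.le_succ (n + k))) (y' (k + 1)) = y' k := fun k => hlift (n + k) (y' k)
        let c : ∀ m, ↑(L.obj (Y.obj (op m))) := fun m => L.map (tr Y (Nat.le_add_left m n)) (y' m)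
        have hc : ∀ m, L.map (tr Y (Nat.le_succ m)) (c (m + 1)) = c m := fun m => by
          show L.map _ (L.map _ (y' (m + 1))) = L.map _ (y' m)
          rw [← hy', ← ConcreteCategory.comp_apply, ← ConcreteCategory.comp_apply, ← L.map_comp,
            ← L.map_comp, tr_comp, tr_comp]
        have hcn : c n = p := by
          have : ∀ k, L.map (tr Y (Nat.le_add_right n k)) (y' k) = p := fun k => by
            induction k with
            | zero =>
              rw [tr_refl]
              exact congrArg (fun k => k (y' 0)) (L.map_id _)
            | succ k ih =>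
              rw [← tr_comp Y (Nat.le_add_right n k) (Nat.le_succ (n + k)), Functor.map_comp,
                ConcreteCategory.comp_apply, hy', ih]
          exact this n
        let P := ModuleCat.of Λ (ULift.{u + 1} Λ)
        let γ : ∀ m, P ⟶ L.obj (Y.obj (op m)) := fun m =>
          ModuleCat.ofHom ((LinearMap.toSpanSingleton Λ _ (c m)) ∘ₗ ULift.moduleEquiv.toLinearMap)
        have hγ : ∀ m, γ (m + 1) ≫ L.map (tr Y (Nat.le_succ m)) = γ m := fun m => by
          ext z
          show L.map (tr Y (Nat.le_succ m)) (z.down • c (m + 1)) = z.down • c m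
          rw [map_smul, hc]
        have hγv : ∀ m, γ m ≫ L.map (v.app (op m)) = 0 := by
          let cone : Cone (F ⋙ L) :=
            { pt := P
              π := NatTrans.ofOpSequence (fun m => γ m ≫ L.map (v.app (op m))) fun m => by
                show 𝟙 P ≫ γ m ≫ L.map (v.app (op m)) =
                  (γ (m + 1) ≫ L.map (v.app (op (m + 1)))) ≫ L.map (tr F (Nat.le_succ m))
                rw [Category.id_comp, ← hγ m, Category.assoc, Category.assoc, ← Functor.map_comp,
                  ← Functor.map_comp, tr_nat] }
          intro m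
          show cone.π.app (op m) = 0
          rw [← limit.lift_π cone (op m), (h Ω x).eq_of_tgt (limit.lift (F ⋙ L) cone) 0, zero_comp]
        obtain ⟨r, hr, -⟩ := exists_bounds (isARIso_map L hv)
        have hz := hr n (γ (n + r)) (hγv (n + r))
        rw [← hcn]
        have hrow : ∀ r, γ (n + r) ≫ L.map (tr Y (Nat.le_add_right n r)) = γ n := fun r => by
          induction r with
          | zero =>
            rw [tr_refl]
            exact (congrArg (γ (n + 0) ≫ ·) (L.map_id _)).trans (Category.comp_id _)
          | succ r ih =>
            rw [← tr_comp Y (Nat.le_add_right n r) (Nat.le_succ (n + r)), Functor.map_comp, ← Category.assoc]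
            exact (congrArg (· ≫ _) (hγ (n + r))).trans ih
        have h0 : γ n = 0 := (hrow r).symm.trans hz
        have := congrArg (fun k => k (ULift.up 1)) h0
        exact (one_smul Λ (c n)).symm.trans this
      exact ModuleCat.isZero_of_subsingleton _
    obtain ⟨r, -, hr⟩ := exists_bounds hv
    refine ⟨r, fun n => ?_⟩
    have hv0 : v.app (op n) = 0 := (hY0 n).eq_of_src _ _
    have := hr n (𝟙 _) (by rw [Category.comp_id, hv0])
    exact (Category.comp_id _).symm.trans this

end Groth.Agent.S13620
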