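import Mathlib.CategoryTheory.Limits.HasLimits
import Groth.Prelude.Def_ARSys
import Groth.Agent.ARLib.Adic

set_option autoImplicit false
open CategoryTheory CategoryTheory.Limits Opposite
universe v u
open ARSys

namespace Groth.Agent.S13621

/-- The inverse limit is a well-defined functor on projective systems up to translation. Concretely: in
an abelian category with limits of shape ℕᵒᵖ, a morphism u : X ⟶ Y of projective systems indexed by
the natural numbers whose kernel and cokernel are null up to translation induces an isomorphism lim
X ⟶ lim Y. (The published statement is the functoriality of lim on the category of systems up to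
translation; combined with the description of isomorphisms there as the morphisms with null kernel
and cokernel, this is the form stated.) -/
theorem result {C : Type u} [Category.{v} C] [Abelian C] [HasLimitsOfShape ℕᵒᵖ C]
    {X Y : ARSys.PS C} (u : X ⟶ Y) (hu : ARSys.IsARIso u) : IsIso (limMap u) := by
  open Groth.Agent.ARLib in
  obtain ⟨t, ⟨q⟩⟩ := exists_qinv hu
  let c : Cone X := { pt := limit Y
                      π := { app := fun n => limit.π Y (op (n.unop + t)) ≫ q.v n.unop
                             naturality := ?_ } }
  · refine ⟨limit.lift X c, ?_, ?_⟩
    · refine limit.hom_ext fun n => ?_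
      rw [Category.assoc, limit.lift_π, Category.id_comp]
      show limMap u ≫ limit.π Y (op (n.unop + t)) ≫ q.v n.unop = _
      rw [limMap_π_assoc]
      exact (congrArg _ (q.uv n.unop)).trans (limit.w X _)
    · refine limit.hom_ext fun n => ?_
      rw [Category.assoc, limMap_π, limit.lift_π_assoc, Category.id_comp]
      show (limit.π Y (op (n.unop + t)) ≫ q.v n.unop) ≫ u.app (op n.unop) = _
      rw [Category.assoc, q.vu]
      exact limit.w Y _
  · rintro ⟨a⟩ ⟨b⟩ f
    show 𝟙 _ ≫ limit.π Y (op (b + t)) ≫ q.v b = (limit.π Y (op (a + t)) ≫ q.v a) ≫ tr X (leOfHom f.unop)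
    rw [Category.id_comp, Category.assoc, ← q.v_tr, ← Category.assoc]
    exact congrArg (· ≫ q.v b) (limit.w Y (homOfLE (Nat.add_le_add_right (leOfHom f.unop) t)).op).symm

end Groth.Agent.S13621
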