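import Groth.Statements.S13622
import Groth.Agent.DispLib.Summand
import Groth.Agent.Adic.LimitSys
import Mathlib
-- import your own Groth.Agent.* helpers here

set_option autoImplicit false
universe u v
open CAlg

namespace Groth.Agent.S13622

/-- Let A be a commutative ring, I a finitely generated ideal and (M_n) an inverse system of finitely
generated A-modules whose transition maps f_n : M_(n+1) → M_n are surjective with kernel I^(n+1)
M_(n+1), and with I^(n+1) M_n = 0 for all n. If L is an inverse limit of the system (projections π_n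
compatible with the f_n, jointly injective, every compatible family lifting to L), endowed with a
module structure over the I-adic completion A^ of A that is compatible with its A-module structure,
then L is finitely generated as an A^-module. No completeness of A is assumed. -/
theorem result
    (A : Type u) [CommRing A] (I : Ideal A) (hI : I.FG)
    (M : ℕ → Type v) [∀ n, AddCommGroup (M n)] [∀ n, Module A (M n)] [∀ n, Module.Finite A (M n)]
    (f : ∀ n, M (n + 1) →ₗ[A] M n) (hf : ∀ n, Function.Surjective (f n))
    (hker : ∀ n, LinearMap.ker (f n) = I ^ (n + 1) • (⊤ : Submodule A (M (n + 1))))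
    (hkill : ∀ n, I ^ (n + 1) • (⊤ : Submodule A (M n)) = ⊥)
    (L : Type v) [AddCommGroup L] [Module A L] (π : ∀ n, L →ₗ[A] M n)
    (hπ : ∀ n, f n ∘ₗ π (n + 1) = π n)
    (hinj : ∀ x : L, (∀ n, π n x = 0) → x = 0)
    (hlift : ∀ y : (∀ n, M n), (∀ n, f n (y (n + 1)) = y n) → ∃ x : L, ∀ n, π n x = y n)
    [Module (AdicCompletion I A) L] [IsScalarTower A (AdicCompletion I A) L] :
    Module.Finite (AdicCompletion I A) L := by
  have h : Groth.Agent.Adic.LimSys A I M f L π := ⟨hf, hker, hπ, hinj, hlift⟩
  let C := AdicCompletion I A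
  have : IsAdicComplete I C := AdicCompletion.isAdicComplete hI
  obtain ⟨r, g, hg⟩ := Module.Finite.exists_fin' A (M 0)
  obtain ⟨φ, hφ⟩ := Module.projective_lifting_property (π 0) g (h.surjective_proj 0)
  let Φ : (Fin r → C) →ₗ[C] L := Fintype.linearCombination C fun i => φ (Pi.single i 1)
  let ΦA : (Fin r → C) →ₗ[A] L := Φ.restrictScalars A
  have hincl : ∀ v : Fin r → A, Φ (fun i => algebraMap A C (v i)) = φ v := by
    intro v
    conv_rhs => rw [Groth.Agent.DispLib.pi_apply_eq_sum φ]
    simp [Φ, Fintype.linearCombination_apply]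
  have h0 : Function.Surjective (π 0 ∘ₗ ΦA) := fun y => by
    obtain ⟨v, rfl⟩ := hg y
    exact ⟨fun i => algebraMap A C (v i), by
      simp only [LinearMap.comp_apply, ΦA, LinearMap.restrictScalars_apply, hincl]
      exact LinearMap.congr_fun hφ v⟩
  have hall := h.surjective_comp_of_surjective_zero ΦA h0
  refine Module.Finite.of_surjective Φ fun x => ?_
  obtain ⟨p, hp⟩ := hall 0 (π 0 x)
  obtain ⟨a, -, ha⟩ := h.exists_eq_of_ker ΦA hall (n := 0) (x := x - ΦA p)
    (by rw [map_sub]; simp only [LinearMap.comp_apply] at hp; rw [hp, sub_self])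
  exact ⟨a + p, by
    show ΦA (a + p) = x
    rw [map_add, ha, sub_add_cancel]⟩

end Groth.Agent.S13622
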