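import Groth.Statements.S13623
import Mathlib
-- import your own Groth.Agent.* helpers here

set_option autoImplicit false
universe u
open TensorProduct
open CAlg

namespace Groth.Agent.S13623


private theorem lTensor_reflects (K L : Type u) [Field K] [Field L] [Algebra K L] (V : Type u)
    [AddCommGroup V] [Module K V] [Subsingleton (L ⊗[K] V)] : Subsingleton V :=
  Module.FaithfullyFlat.lTensor_reflects_triviality K L V

/-- Let A be a commutative ring and B a commutative A-algebra, graded by A-submodules B_m (m ≥ 0)
forming a graded-algebra structure, such that every B_m is a finitely generated A-module. If for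
every algebraically closed field k and every A-algebra structure on k the k-algebra k ⊗_A B is
generated by the image of B_1 under b ↦ 1 ⊗ b, then its degree-one part B_1 generates the A-algebra
B. (Algebraically closed fields are taken in the universe of A.) -/
theorem result
    (A : Type u) [CommRing A] (B : Type u) [CommRing B] [Algebra A B]
    (𝒜 : ℕ → Submodule A B) [GradedAlgebra 𝒜]
    (hfin : ∀ m : ℕ, Module.Finite A (𝒜 m))
    (hgen : ∀ (k : Type u) [Field k] [IsAlgClosed k] [Algebra A k],
      Algebra.adjoin k ((Algebra.TensorProduct.includeRight : B →ₐ[A] k ⊗[A] B) '' (𝒜 1 : Set B)) = ⊤) :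
    Algebra.adjoin A (𝒜 1 : Set B) = ⊤ := by
  classical
  set S := Algebra.adjoin A (𝒜 1 : Set B)
  have hclos : ∀ x ∈ Submonoid.closure (𝒜 1 : Set B), ∃ i, x ∈ 𝒜 i := by
    intro x hx
    induction hx using Submonoid.closure_induction with
    | mem x hx => exact ⟨1, hx⟩
    | one => exact ⟨0, SetLike.one_mem_graded 𝒜⟩
    | mul a b _ _ ha hb =>
      obtain ⟨i, hi⟩ := ha
      obtain ⟨j, hj⟩ := hb
      exact ⟨i + j, SetLike.mul_mem_graded hi hj⟩
  have hproj : ∀ (m : ℕ) (x : B), x ∈ S → GradedAlgebra.proj 𝒜 m x ∈ S := by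
    intro m x hx
    have hspan : x ∈ Submodule.span A (Submonoid.closure (𝒜 1 : Set B) : Set B) := by
      rw [← Algebra.adjoin_eq_span]; exact hx
    induction hspan using Submodule.span_induction with
    | mem y hy =>
      obtain ⟨i, hi⟩ := hclos y hy
      rw [GradedAlgebra.proj_apply]
      by_cases him : i = m
      · subst him
        rw [DirectSum.decompose_of_mem_same 𝒜 hi]
        have : y ∈ Submodule.span A (Submonoid.closure (𝒜 1 : Set B) : Set B) := Submodule.subset_span hy
        rw [← Algebra.adjoin_eq_span] at this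
        exact this
      · rw [DirectSum.decompose_of_mem_ne 𝒜 hi him]
        exact S.zero_mem
    | zero => rw [map_zero]; exact S.zero_mem
    | add a b ha hb iha ihb =>
      rw [← Algebra.adjoin_eq_span] at ha hb
      rw [map_add]; exact S.add_mem (iha ha) (ihb hb)
    | smul r a ha iha =>
      rw [← Algebra.adjoin_eq_span] at ha
      rw [map_smul]; exact S.smul_mem (iha ha) r
  have hm : ∀ m, 𝒜 m ≤ Subalgebra.toSubmodule S := by
    intro m
    let N : Submodule A (𝒜 m) := (Subalgebra.toSubmodule S).comap (𝒜 m).subtype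
    haveI := hfin m
    suffices hQ : Subsingleton (𝒜 m ⧸ N) by
      intro x hx
      have : (⟨x, hx⟩ : 𝒜 m) ∈ N := (Submodule.Quotient.mk_eq_zero N).mp (Subsingleton.elim _ _)
      exact this
    rw [← Module.support_eq_empty_iff (R := A), Set.eq_empty_iff_forall_notMem]
    intro p
    rw [Module.mem_support_iff_nontrivial_residueField_tensorProduct, not_nontrivial_iff_subsingleton]
    let k := AlgebraicClosure p.asIdeal.ResidueField
    suffices hk : Subsingleton (k ⊗[A] (𝒜 m ⧸ N)) by
      haveI : Subsingleton (k ⊗[p.asIdeal.ResidueField] (p.asIdeal.ResidueField ⊗[A] (𝒜 m ⧸ N))) :=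
        (TensorProduct.AlgebraTensorModule.cancelBaseChange A p.asIdeal.ResidueField k k (𝒜 m ⧸ N)).toEquiv.subsingleton
      exact lTensor_reflects p.asIdeal.ResidueField k _
    let π : B →ₗ[A] (𝒜 m ⧸ N) := N.mkQ ∘ₗ LinearMap.codRestrict (𝒜 m) (GradedAlgebra.proj 𝒜 m) (fun x => by
      rw [GradedAlgebra.proj_apply]; exact SetLike.coe_mem _)
    have hπ : Function.Surjective π := by
      intro q
      obtain ⟨y, rfl⟩ := Submodule.Quotient.mk_surjective N q
      refine ⟨y, ?_⟩
      show Submodule.Quotient.mk _ = _
      congr 1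
      apply Subtype.ext
      rw [LinearMap.codRestrict_apply, GradedAlgebra.proj_apply, DirectSum.decompose_of_mem_same 𝒜 y.2]
    have hπS : ∀ x ∈ S, π x = 0 := by
      intro x hx
      exact (Submodule.Quotient.mk_eq_zero N).mpr (hproj m x hx)
    let T : Subalgebra k (k ⊗[A] B) :=
      (Algebra.TensorProduct.map (AlgHom.id k k) S.val).range
    have hT : T = ⊤ := by
      rw [eq_top_iff, ← hgen k, Algebra.adjoin_le_iff]
      rintro _ ⟨b, hb, rfl⟩
      exact ⟨1 ⊗ₜ ⟨b, Algebra.subset_adjoin hb⟩, by simp⟩
    refine subsingleton_of_forall_eq 0 (fun z => ?_)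
    obtain ⟨w, rfl⟩ := LinearMap.lTensor_surjective k hπ z
    obtain ⟨v, rfl⟩ : w ∈ T := by rw [hT]; trivial
    induction v with
    | zero => simp
    | tmul a b => simp [hπS _ b.2]
    | add a b ha hb => simp only [map_add] at ha hb ⊢; rw [ha, hb, add_zero]
  rw [eq_top_iff]
  intro x _
  rw [← DirectSum.sum_support_decompose 𝒜 x]
  exact S.sum_mem (fun i _ => hm i (SetLike.coe_mem _))

end Groth.Agent.S13623
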