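import Groth.Statements.S13624
import Groth.Agent.CohOps.GorOpen
import Groth.Agent.AlgSp.GorFibre

set_option autoImplicit false
universe u
open CategoryTheory CategoryTheory.Limits AlgebraicGeometry Opposite
open Goren

namespace Groth.Agent.S13624

/-- Let f : X → Y be a proper, flat morphism of schemes which is locally of finite presentation. Then
the set of points y of Y whose scheme-theoretic fibre X_y = X ×_Y Spec κ(y) is a Gorenstein scheme
(every local ring of X_y is a Gorenstein local ring) is open in Y. -/
theorem result (X Y : Scheme.{u}) (f : X ⟶ Y)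
    [IsProper f] [Flat f] [LocallyOfFinitePresentation f] :
    IsOpen {y : Y | ∀ x : ↥(f.fiber y), LocCoh.IsGorensteinLocalRing ((f.fiber y).presheaf.stalk x)} := by
  have hopen := Groth.Agent.CohOps.GorOpen.isOpen f
  have key : {y : Y | ∀ x : ↥(f.fiber y), LocCoh.IsGorensteinLocalRing ((f.fiber y).presheaf.stalk x)} =
      (f '' {x : X | Dual3.IsGorensteinAt f x}ᶜ)ᶜ := by
    ext y
    constructor
    · rintro h ⟨x, hx, rfl⟩
      exact hx ⟨AlgebraicGeometry.Flat.stalkMap f x, h (f.asFiber x)⟩
    · intro h x
      rw [Groth.Agent.AlgSp.GorFibre.gorenstein_fibre_stalk_iff]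
      by_contra hx
      exact h ⟨f.fiberι y x, fun hg => hx ((Groth.Agent.AlgSp.GorCore.isGorensteinAt_iff _ _).1 hg).2,
        show f.fiberι y x ∈ f ⁻¹' {y} from f.range_fiberι y ▸ ⟨x, rfl⟩⟩
  rw [key, isOpen_compl_iff]
  exact f.isClosedMap _ hopen.isClosed_compl

end Groth.Agent.S13624
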