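import Groth.Statements.S13625
import Groth.Agent.GorSurf47.Geom
import Groth.Agent.S13624
import Groth.Agent.LimTop.Basic
import Groth.Agent.Wt.GenFibCons
-- import your own Groth.Agent.* helpers here

set_option autoImplicit false
universe u
open CategoryTheory CategoryTheory.Limits AlgebraicGeometry Opposite
open Lim

namespace Groth.Agent.S13625

open Topology in
theorem isIndConstructible_of_isConstructible {X : Type u} [TopologicalSpace X] {E : Set X}
    (hE : IsConstructible E) : ProCons.IsIndConstructible E := fun x =>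
  ⟨Set.univ, isOpen_univ, trivial, {Subtype.val ⁻¹' E}, fun T hT => by
    obtain rfl := hT
    exact hE.isLocallyConstructible.preimage_of_isOpenEmbedding isOpen_univ.isOpenEmbedding_subtypeVal,
    (Set.sUnion_singleton _).symm⟩

open CategoryTheory CategoryTheory.Limits AlgebraicGeometry Topology TopologicalSpace in
theorem isConstructible_good {X S : Scheme.{u}} [IsNoetherian S] (f : X ⟶ S) [IsProper f] [Flat f]
    [LocallyOfFinitePresentation f] : IsConstructible {y : S | GorSurf47.Good f y} := by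
  have h1 : IsConstructible {y : S | ProperConn.GPI f y} :=
    ConstrLib.isConstructible_of_isOpen (ProperConn.isOpen_gpi f)
  have h2 : IsConstructible {y : S | MoreMor.nGeomConnComp f y = 1} :=
    (Wt.GenFib.isLocallyConstructible_nGeomConnComp f 1).isConstructible
  have h3 := ConstrLib.isConstructible_of_isOpen (FibCodepth.isOpen_base_geomNormal f)
  have h4 : IsConstructible {y : S | topologicalKrullDim ↑(f.fiber y) = 2} :=
    (Wt.GenFib.isLocallyConstructible_topDim f 2).isConstructible
  have h5 := ConstrLib.isConstructible_of_isOpen (S13624.result X S f)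
  exact h1.inter (h2.inter (h3.inter (h4.inter h5)))


/-- Let R be a commutative ring and f : X → Spec R a proper, flat morphism of schemes, locally of finite
presentation, whose geometric fibres (fibres over Spec k → Spec R, k an algebraically closed field)
are integral, normal schemes of Krull dimension 2 with Gorenstein local rings. Then f is the base
change, along Spec R → Spec R₀ for some ring map R₀ → R with R₀ Noetherian, of a proper, flat
morphism f₀ : X₀ → Spec R₀ locally of finite presentation whose geometric fibres are again integral,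
normal, of Krull dimension 2 and with Gorenstein local rings. (Algebraically closed fields are taken
in the universe of R.) -/
theorem result
    (R : Type u) [CommRing R] (X : Scheme.{u}) (f : X ⟶ Spec (CommRingCat.of R))
    [IsProper f] [Flat f] [LocallyOfFinitePresentation f]
    (hfib : (∀ (k : Type u) [Field k] [IsAlgClosed k] (σ : Spec (CommRingCat.of k) ⟶ Spec (CommRingCat.of R)),
      IsIntegral (pullback f σ) ∧ Pi1.IsNormalScheme (pullback f σ) ∧
        topologicalKrullDim ↥(pullback f σ) = 2 ∧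
        ∀ x : ↥(pullback f σ), LocCoh.IsGorensteinLocalRing ((pullback f σ).presheaf.stalk x))) :
    ∃ (R₀ : CommRingCat.{u}) (φ : R₀ ⟶ CommRingCat.of R) (X₀ : Scheme.{u}) (f₀ : X₀ ⟶ Spec R₀) (g : X ⟶ X₀),
      IsNoetherianRing ↥R₀ ∧ IsPullback g f f₀ (Spec.map φ) ∧
      IsProper f₀ ∧ Flat f₀ ∧ LocallyOfFinitePresentation f₀ ∧
      (∀ (k : Type u) [Field k] [IsAlgClosed k] (σ : Spec (CommRingCat.of k) ⟶ Spec R₀),
      IsIntegral (pullback f₀ σ) ∧ Pi1.IsNormalScheme (pullback f₀ σ) ∧
        topologicalKrullDim ↥(pullback f₀ σ) = 2 ∧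
        ∀ x : ↥(pullback f₀ σ), LocCoh.IsGorensteinLocalRing ((pullback f₀ σ).presheaf.stalk x)) := by
  obtain ⟨I, _, _, D, c, e, ⟨hc⟩, _, _⟩ := ConsPairLib.exists_noetherian_limit (CommRingCat.of R)
  haveI : IsAffine c.pt := .of_isIso e.hom
  haveI hDaff : ∀ (i j : I) (a : i ⟶ j), IsAffineHom (D.map a) := fun i j a => inferInstance
  let f' := f ≫ e.inv
  haveI : IsProper f' := inferInstanceAs (IsProper (f ≫ e.inv))
  haveI : Flat f' := inferInstanceAs (Flat (f ≫ e.inv))
  haveI : LocallyOfFinitePresentation f' := inferInstanceAs (LocallyOfFinitePresentation (f ≫ e.inv))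
  haveI := QuasiCompact.compactSpace_of_compactSpace f'
  haveI := quasiSeparatedSpace_of_quasiSeparated f'
  obtain ⟨i₀, X₀, u₀, g₀, a₀, b₀, c₀, s₀⟩ := LimLib.hasModel hc f'
  haveI := a₀
  haveI := b₀
  haveI := c₀
  obtain ⟨i₁, φ₁, hfl⟩ := FlatDescends.descends_flat D c hc (fun i j a => inferInstance)
    (fun i => inferInstance) (fun i => inferInstance) i₀ X₀ u₀ inferInstance inferInstance a₀ _ g₀ f' s₀
    (show Flat f' from inferInstance)
  obtain ⟨i₂, φ₂, hpr⟩ := LimLib.descends_isProper D c hc (fun i j a => inferInstance)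
    (fun i => inferInstance) (fun i => inferInstance) i₀ X₀ u₀ inferInstance inferInstance
    (show LocallyOfFiniteType u₀ from inferInstance) _ g₀ f' s₀ (show IsProper f' from inferInstance)
  obtain ⟨m, a, b, hab⟩ := IsCofiltered.cospan φ₁ φ₂
  let u₁ := pullback.snd u₀ (D.map (a ≫ φ₁))
  let g₁ : X ⟶ pullback u₀ (D.map (a ≫ φ₁)) :=
    pullback.lift g₀ (f' ≫ c.π.app m) (by rw [s₀.w]; simp [f', c.w])
  haveI : IsProper u₁ := LimLib.property_of_factor (P := @IsProper) (IsPullback.of_hasPullback _ _)
      (IsPullback.of_hasPullback _ _) (D.map b) (by rw [← D.map_comp, hab]) hpr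
  haveI : Flat u₁ := LimLib.property_of_factor (P := @Flat) (IsPullback.of_hasPullback _ _)
      (IsPullback.of_hasPullback _ _) (D.map a) (D.map_comp a φ₁).symm hfl
  haveI : LocallyOfFinitePresentation u₁ :=
    MorphismProperty.pullback_snd (P := @LocallyOfFinitePresentation) _ _ a₀
  have hsq : IsPullback g₁ f' u₁ (c.π.app m) :=
    IsPullback.of_right (by simpa only [g₁, pullback.lift_fst, c.w] using s₀) (pullback.lift_snd _ _ _)
      (IsPullback.of_hasPullback u₀ (D.map (a ≫ φ₁)))
  have hE : Topology.IsConstructible {y : D.obj m | GorSurf47.Good u₁ y} := isConstructible_good u₁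
  -- every point of the limit lands in the good locus
  have hlim : ∀ z : c.pt, c.π.app m z ∈ {y : D.obj m | GorSurf47.Good u₁ y} := by
    intro z
    let k := AlgebraicClosure (c.pt.residueField z)
    let pt : Spec (CommRingCat.of k) ⟶ c.pt :=
      Spec.map (CommRingCat.ofHom (algebraMap (c.pt.residueField z) k)) ≫ c.pt.fromSpecResidueField z
    have hpt : pt (IsLocalRing.closedPoint k) = z := by
      rw [Scheme.Hom.comp_apply, Scheme.fromSpecResidueField_apply]
    have h1 : GorSurf47.Nice (pullback f' pt) := by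
      have h0 : IsPullback (pullback.fst f' pt) (pullback.snd f' pt) f (pt ≫ e.hom) :=
        (IsPullback.of_hasPullback f' pt).paste_horiz
          (IsPullback.of_horiz_isIso ⟨by simp [f']⟩ : IsPullback (𝟙 X) f' f e.hom) |>.of_iso
            (Iso.refl _) (Iso.refl _) (Iso.refl _) (Iso.refl _) (by simp) (by simp) (by simp) (by simp)
      exact GorSurf47.nice_of_iso h0.isoPullback.symm (hfib k (pt ≫ e.hom))
    have h2 : GorSurf47.Nice (pullback u₁ (pt ≫ c.π.app m)) :=
      GorSurf47.nice_of_iso ((IsPullback.of_hasPullback f' pt).paste_horiz hsq).isoPullback h1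
    have h3 := GorSurf47.good_of_nice u₁ k _ h2
    rw [Scheme.Hom.comp_apply, hpt] at h3
    exact h3
  obtain ⟨j, φ, hj⟩ := LimTop.exists_subset hc (i₀ := m) (fun _ _ => Set.univ)
    (fun j φ => D.map φ ⁻¹' {y | GorSurf47.Good u₁ y})
    (fun j φ => LimTop.isProConstructible_of_isClosed isClosed_univ)
    (fun j φ => isIndConstructible_of_isConstructible ((D.map φ).isConstructible_preimage hE))
    (fun _ _ _ _ => fun _ _ => trivial)
    (fun j k ψ φ x hx => by
      show D.map (ψ ≫ φ) x ∈ {y | GorSurf47.Good u₁ y}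
      rw [show D.map (ψ ≫ φ) x = D.map φ (D.map ψ x) from by
        simp [D.map_comp]]
      exact hx)
    (fun s _ => ⟨m, 𝟙 m, by
      show D.map (𝟙 m) (c.π.app m s) ∈ {y | GorSurf47.Good u₁ y}
      rw [D.map_id]
      exact hlim s⟩)
  let S₀ := D.obj j
  let u₂ := pullback.snd u₁ (D.map φ)
  let g₂ : X ⟶ pullback u₁ (D.map φ) :=
    pullback.lift g₁ (f' ≫ c.π.app j) (by rw [hsq.w]; simp [f', c.w])
  have hsq₂ : IsPullback g₂ f' u₂ (c.π.app j) :=
    IsPullback.of_right (by simpa only [g₂, pullback.lift_fst, c.w] using hsq) (pullback.lift_snd _ _ _)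
      (IsPullback.of_hasPullback u₁ (D.map φ))
  let ι := S₀.isoSpec
  obtain ⟨ψ, hψ⟩ := Spec.map_surjective (e.inv ≫ c.π.app j ≫ ι.hom)
  refine ⟨Γ(S₀, ⊤), ψ, pullback u₁ (D.map φ), u₂ ≫ ι.hom, g₂, ?_, ?_, inferInstance, inferInstance,
    inferInstance, fun k _ _ σ => ?_⟩
  · exact IsLocallyNoetherian.component_noetherian ⟨⊤, isAffineOpen_top (D.obj j)⟩
  · rw [hψ]
    exact (hsq₂.paste_vert (IsPullback.of_vert_isIso_mono ⟨by simp⟩ :
      IsPullback (c.π.app j) e.hom ι.hom (e.inv ≫ c.π.app j ≫ ι.hom))).of_iso (Iso.refl _) (Iso.refl _)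
        (Iso.refl _) (Iso.refl _) (by simp) (by simp [f']) (by simp) (by simp)
  · have h0 : IsPullback (pullback.fst (u₂ ≫ ι.hom) σ) (pullback.snd (u₂ ≫ ι.hom) σ) u₂ (σ ≫ ι.inv) :=
      (IsPullback.of_hasPullback (u₂ ≫ ι.hom) σ).paste_horiz
        (IsPullback.of_horiz_isIso ⟨by simp⟩ : IsPullback (𝟙 _) (u₂ ≫ ι.hom) u₂ ι.inv) |>.of_iso
          (Iso.refl _) (Iso.refl _) (Iso.refl _) (Iso.refl _) (by simp) (by simp) (by simp) (by simp)
    have h1 : IsPullback (pullback.fst (u₂ ≫ ι.hom) σ ≫ pullback.fst u₁ (D.map φ))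
        (pullback.snd (u₂ ≫ ι.hom) σ) u₁ ((σ ≫ ι.inv) ≫ D.map φ) :=
      h0.paste_horiz (IsPullback.of_hasPullback u₁ (D.map φ))
    refine GorSurf47.nice_of_iso h1.isoPullback.symm (GorSurf47.nice_of_good u₁ k _ ?_)
    rw [Scheme.Hom.comp_apply]
    exact hj trivial

end Groth.Agent.S13625
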