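import Groth.Statements.S13627
-- import your own Groth.Agent.* helpers here

set_option autoImplicit false
universe u
open CategoryTheory CategoryTheory.Limits AlgebraicGeometry Opposite
open FBase

namespace Groth.Agent.S13627

open CategoryTheory.Limits

lemma transport (P : ∀ (k : Type u) [Field k] (Z : Scheme.{u}), (Z ⟶ Spec (CommRingCat.of k)) → Prop)
    (hiso : ∀ (k : Type u) [Field k] (Z Z' : Scheme.{u}) (e : Z ≅ Z')
      (g : Z' ⟶ Spec (CommRingCat.of k)), P k Z' g → P k Z (e.hom ≫ g))
    {X T : Scheme.{u}} (f : X ⟶ T) {k : Type u} [Field k] {K : Type u} [Field K] (i : k →+* K)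
    (σ : Spec (CommRingCat.of k) ⟶ T) (τ : Spec (CommRingCat.of K) ⟶ T)
    (hτ : Spec.map (CommRingCat.ofHom i) ≫ σ = τ) :
    P K (pullback (pullback.snd f σ) (Spec.map (CommRingCat.ofHom i)))
        (pullback.snd (pullback.snd f σ) (Spec.map (CommRingCat.ofHom i))) ↔
      P K (pullback f τ) (pullback.snd f τ) := by
  subst hτ
  let e := pullbackLeftPullbackSndIso f σ (Spec.map (CommRingCat.ofHom i))
  have he : e.hom ≫ pullback.snd f (Spec.map (CommRingCat.ofHom i) ≫ σ) =
      pullback.snd (pullback.snd f σ) (Spec.map (CommRingCat.ofHom i)) :=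
    pullbackLeftPullbackSndIso_hom_snd f σ (Spec.map (CommRingCat.ofHom i))
  constructor
  · intro hp
    have := hiso K _ _ e.symm _ hp
    rwa [← he, Iso.symm_hom, Iso.inv_hom_id_assoc] at this
  · intro hp
    have := hiso K _ _ e _ hp
    rwa [he] at this


/-- Let P be a property of schemes over fields, invariant under isomorphisms of schemes over the base
field and ascending along every field extension k → K (if Z over k has P then Z ×_k Spec K over K
has P). For a morphism of schemes f : X → T, these conditions are equivalent: (1) for every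
algebraically closed field k and every morphism Spec k → T the fibre X ×_T Spec k has P over k; (2)
for every point t of T the fibre of f over Spec of an algebraic closure of the residue field κ(t)
has P. (Fields are taken in the universe of the schemes. The published statement also treats a
morphism from an algebraic space X to a scheme T; this row treats morphisms of schemes.) -/
theorem result
    (P : ∀ (k : Type u) [Field k] (Z : Scheme.{u}), (Z ⟶ Spec (CommRingCat.of k)) → Prop)
    (hiso : ∀ (k : Type u) [Field k] (Z Z' : Scheme.{u}) (e : Z ≅ Z') (g : Z' ⟶ Spec (CommRingCat.of k)),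
      P k Z' g → P k Z (e.hom ≫ g))
    (hext : ∀ (k K : Type u) [Field k] [Field K] (i : k →+* K) (Z : Scheme.{u}) (g : Z ⟶ Spec (CommRingCat.of k)),
      P k Z g → P K (pullback g (Spec.map (CommRingCat.ofHom i))) (pullback.snd g (Spec.map (CommRingCat.ofHom i))))
    {X T : Scheme.{u}} (f : X ⟶ T) :
    (∀ (k : Type u) [Field k] [IsAlgClosed k] (σ : Spec (CommRingCat.of k) ⟶ T),
        P k (pullback f σ) (pullback.snd f σ)) ↔
      ∀ t : T, P (AlgebraicClosure ↥(T.residueField t))
        (pullback f (Spec.map (CommRingCat.ofHom (algebraMap ↥(T.residueField t) (AlgebraicClosure ↥(T.residueField t)))) ≫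
          T.fromSpecResidueField t))
        (pullback.snd f (Spec.map (CommRingCat.ofHom (algebraMap ↥(T.residueField t) (AlgebraicClosure ↥(T.residueField t)))) ≫
          T.fromSpecResidueField t)) := by
  refine ⟨fun h t ↦ h _ _, fun h k _ _ σ ↦ ?_⟩
  obtain ⟨⟨t, φ⟩, rfl⟩ := (Scheme.SpecToEquivOfField k T).symm.surjective σ
  algebraize [φ.hom]
  let j : AlgebraicClosure ↥(T.residueField t) →ₐ[↥(T.residueField t)] k := IsAlgClosed.lift
  refine (transport P hiso f j.toRingHom _ _ ?_).mp (hext _ k j.toRingHom _ _ (h t))
  have e : CommRingCat.ofHom (algebraMap ↥(T.residueField t) (AlgebraicClosure ↥(T.residueField t))) ≫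
      CommRingCat.ofHom j.toRingHom = φ := by
    ext x
    exact j.commutes x
  rw [← Category.assoc, ← Spec.map_comp, e]
  rfl

end Groth.Agent.S13627
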