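import Groth.Statements.S13628
import Groth.Agent.FBase.BC2
-- import your own Groth.Agent.* helpers here

set_option autoImplicit false
universe u
open CategoryTheory CategoryTheory.Limits AlgebraicGeometry Opposite
open FBase

namespace Groth.Agent.S13628

open CategoryTheory.Limits

lemma transport (P : ∀ (k : Type u) [Field k] (Z : Scheme.{u}), (Z ⟶ Spec (CommRingCat.of k)) → Prop)
    (hiso : ∀ (k : Type u) [Field k] (Z Z' : Scheme.{u}) (e : Z ≅ Z')
      (g : Z' ⟶ Spec (CommRingCat.of k)), P k Z' g → P k Z (e.hom ≫ g))
    {X T : Scheme.{u}} (f : X ⟶ T) {k : Type u} [Field k] {K : Type u} [Field K] (i : k →+* K)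
    (σ : Spec (CommRingCat.of k) ⟶ T) (τ : Spec (CommRingCat.of K) ⟶ T)
    (hτ : Spec.map (CommRingCat.ofHom i) ≫ σ = τ) :
    P K (pullback (pullback.snd f σ) (Spec.map (CommRingCat.ofHom i)))
        (pullback.snd (pullback.snd f σ) (Spec.map (CommRingCat.ofHom i))) ↔
      P K (pullback f τ) (pullback.snd f τ) := by
  subst hτ
  let e := pullbackLeftPullbackSndIso f σ (Spec.map (CommRingCat.ofHom i))
  have he : e.hom ≫ pullback.snd f (Spec.map (CommRingCat.ofHom i) ≫ σ) =
      pullback.snd (pullback.snd f σ) (Spec.map (CommRingCat.ofHom i)) :=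
    pullbackLeftPullbackSndIso_hom_snd f σ (Spec.map (CommRingCat.ofHom i))
  constructor
  · intro hp
    have := hiso K _ _ e.symm _ hp
    rwa [← he, Iso.symm_hom, Iso.inv_hom_id_assoc] at this
  · intro hp
    have := hiso K _ _ e _ hp
    rwa [he] at this


/-- Let P be a property of schemes over fields, invariant under isomorphisms of schemes over the base
field and invariant in both directions under every field extension k → K (Z over k has P if and only
if Z ×_k Spec K over K has P). Let f : X → T be a morphism of schemes, h : T' → T a surjective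
morphism of schemes and f' : X' → T' a base change of f along h. If for every algebraically closed
field k and every Spec k → T' the fibre X' ×_{T'} Spec k has P, then for every algebraically closed
field k and every Spec k → T the fibre X ×_T Spec k has P. (Fields are taken in the universe of the
schemes. The published statement is that families of del Pezzo surfaces form a stack for the étale
topology; this row is the step of its proof that descends the condition on geometric fibres along a
surjective base change, stated for any fibre property with the invariance above.) -/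
theorem result
    (P : ∀ (k : Type u) [Field k] (Z : Scheme.{u}), (Z ⟶ Spec (CommRingCat.of k)) → Prop)
    (hiso : ∀ (k : Type u) [Field k] (Z Z' : Scheme.{u}) (e : Z ≅ Z') (g : Z' ⟶ Spec (CommRingCat.of k)),
      P k Z' g → P k Z (e.hom ≫ g))
    (hext : ∀ (k K : Type u) [Field k] [Field K] (i : k →+* K) (Z : Scheme.{u}) (g : Z ⟶ Spec (CommRingCat.of k)),
      P k Z g ↔ P K (pullback g (Spec.map (CommRingCat.ofHom i))) (pullback.snd g (Spec.map (CommRingCat.ofHom i))))
    {X T X' T' : Scheme.{u}} (f : X ⟶ T) (h : T' ⟶ T) [Surjective h] (f' : X' ⟶ T') (h' : X' ⟶ X)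
    (sq : IsPullback h' f' f h)
    (H : ∀ (k : Type u) [Field k] [IsAlgClosed k] (σ' : Spec (CommRingCat.of k) ⟶ T'),
        P k (pullback f' σ') (pullback.snd f' σ'))
    (k : Type u) [Field k] [IsAlgClosed k] (σ : Spec (CommRingCat.of k) ⟶ T) :
    P k (pullback f σ) (pullback.snd f σ) := by
  obtain ⟨M, _, ψ, σ', hσ'⟩ := Groth.Agent.FBase.BC2.exists_lift_field h σ
  let j := algebraMap M (AlgebraicClosure M)
  let i := j.comp ψ
  let τ := Spec.map (CommRingCat.ofHom j) ≫ σ'
  refine (hext k (AlgebraicClosure M) i _ _).mpr ?_
  refine (transport P hiso f i σ (τ ≫ h) ?_).mpr ?_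
  · simp only [i, τ, Category.assoc, hσ']
    rw [CommRingCat.ofHom_comp, Spec.map_comp, Category.assoc]
  let e : pullback f' τ ≅ pullback f (τ ≫ h) :=
    (((IsPullback.of_hasPullback f' τ).paste_horiz sq).isoPullback)
  have he : e.hom ≫ pullback.snd f (τ ≫ h) = pullback.snd f' τ :=
    ((IsPullback.of_hasPullback f' τ).paste_horiz sq).isoPullback_hom_snd
  have := hiso _ _ _ e.symm _ (H (AlgebraicClosure M) τ)
  rwa [← he, Iso.symm_hom, Iso.inv_hom_id_assoc] at this

end Groth.Agent.S13628
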