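import Groth.Statements.S13629
import Groth.Agent.IntProd70.Family
import Groth.Agent.PicLaw.Swap

open Groth.Agent

set_option autoImplicit false
universe u
open CategoryTheory CategoryTheory.Limits AlgebraicGeometry Opposite
open FGA

namespace Groth.Agent.S13629

/-- Let f : X → Y be a proper, flat morphism of schemes, locally of finite presentation, whose
scheme-theoretic fibres X_y all have Krull dimension at most 2, and let L be an invertible
O_X-module with a tensor inverse M (M ⊗ L ≅ O_X). Then the self-intersection number (L_y · L_y) of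
the restriction of L to the fibre X_y over κ(y), namely the alternating sum χ(O_{X_y}) − 2χ(M_y) +
χ(M_y ⊗ M_y) of Euler characteristics in degrees ≤ 2, is a locally constant function of y: every
point y₀ of Y has an open neighbourhood on which it equals its value at y₀. (The published statement
is the case where the fibres are integral normal Gorenstein surfaces and L is the relative dualizing
sheaf, so that the number is the self-intersection K² of the canonical class of the fibre; the fibre
X_y is regarded as a scheme over Spec κ(y) through the second projection.) -/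
theorem result
    {X Y : Scheme.{u}} (f : X ⟶ Y) [IsProper f] [Flat f] [LocallyOfFinitePresentation f]
    (hdim : ∀ y : Y, topologicalKrullDim ↥(f.fiber y) ≤ 2)
    (L M : X.Modules) (hL : PicF.IsInvertible L) (hM : ClSub.IsInverseOf M L) (y₀ : Y) :
    ∃ U : Y.Opens, y₀ ∈ U ∧ ∀ y : Y, y ∈ U →
      @FGA.intNum ↥(Y.residueField y) _ (f.fiber y) ⟨f.fiberToSpecResidueField y⟩ 2 2
            ![(Scheme.Modules.pullback (f.fiberι y)).obj M, (Scheme.Modules.pullback (f.fiberι y)).obj M]
            (Coh.structureModule (f.fiber y)) =
        @FGA.intNum ↥(Y.residueField y₀) _ (f.fiber y₀) ⟨f.fiberToSpecResidueField y₀⟩ 2 2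
            ![(Scheme.Modules.pullback (f.fiberι y₀)).obj M, (Scheme.Modules.pullback (f.fiberι y₀)).obj M]
            (Coh.structureModule (f.fiber y₀)) := by
  classical
  have hMi : PicF.IsInvertible M := PicLaw.isInvertible_of_tensor_right hL
    (PicCl.isInvertible_of_iso hM.some.symm (LFFrame.isInvertible_structureModule X))
  haveI := ProjTwist.isQuasicoherent_structureModule X
  let N : Finset (Fin 2) → X.Modules := fun I => FGA.tensorList ((I.sort (· ≤ ·)).map fun _ => M)
  have hN : ∀ I, PicF.IsInvertible (N I) := fun I => Snapper.isInvertible_tensorList fun A hA => by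
    obtain ⟨i, -, rfl⟩ := List.mem_map.1 hA
    exact hMi
  let φ : Finset (Fin 2) → Y → ℤ := fun I y => @Curv2.euler (Y.residueField y) _ (f.fiber y)
    ⟨f.fiberToSpecResidueField y⟩ ((Scheme.Modules.pullback (f.fiberι y)).obj
      (CohB1.tensorMod (Coh.structureModule X) (N I)))
  have hlc : ∀ I, IsLocallyConstant (φ I) := fun I => by
    haveI := (IntProd70.isFP_tensor (IntProd70.isFP_unit X) (hN I)).1
    exact IntProd70.isLocallyConstant_euler (IntProd70.isFP_tensor (IntProd70.isFP_unit X) (hN I)).2
      (TwistFlat.isFlatOver_tensor f _ (hN I) (IntProd70.isFlatOver_unit f))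
  have key : ∀ y : Y, @FGA.intNum ↥(Y.residueField y) _ (f.fiber y) ⟨f.fiberToSpecResidueField y⟩ 2 2
      ![(Scheme.Modules.pullback (f.fiberι y)).obj M, (Scheme.Modules.pullback (f.fiberι y)).obj M]
      (Coh.structureModule (f.fiber y)) = ∑ I : Finset (Fin 2), (-1 : ℤ) ^ I.card * φ I y := by
    intro y
    letI : (f.fiber y).Over (Spec (CommRingCat.of (Y.residueField y))) := ⟨f.fiberToSpecResidueField y⟩
    haveI : IsProper ((f.fiber y) ↘ Spec (CommRingCat.of (Y.residueField y))) :=
      MorphismProperty.of_isPullback (IsPullback.of_hasPullback f (Y.fromSpecResidueField y)) ‹IsProper f›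
    rw [Snapper.intNum_eq _ (hdim y)]
    refine Finset.sum_congr rfl fun I _ => congrArg _ (EulerChar.euler_iso _ ?_)
    have hl : (I.sort (· ≤ ·)).map ![(Scheme.Modules.pullback (f.fiberι y)).obj M,
        (Scheme.Modules.pullback (f.fiberι y)).obj M] =
        ((I.sort (· ≤ ·)).map fun _ => M).map (Scheme.Modules.pullback (f.fiberι y)).obj := by
      rw [List.map_map]
      exact List.map_congr_left fun i _ => by fin_cases i <;> rfl
    rw [hl]
    exact ProjTwist.tensComm _ _ ≪≫ ProjTwist.tensCongr (QCoh.pullbackUnitIso (f.fiberι y)).symm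
      (Snapper.pullback_tensorList (f.fiberι y) _).some.symm ≪≫
      (KFlat.PullTensor.pullTensorIso (f.fiberι y) _ _).symm
  have hsum : IsLocallyConstant fun y => ∑ I : Finset (Fin 2), (-1 : ℤ) ^ I.card * φ I y := by
    refine (IsLocallyConstant.iff_exists_open _).2 fun y => ?_
    refine ⟨⋂ I, {a | φ I a = φ I y}, isOpen_iInter_of_finite fun I => (hlc I).isOpen_fiber _,
      Set.mem_iInter.2 fun I => rfl, fun a ha => Finset.sum_congr rfl fun I _ => ?_⟩
    rw [show φ I a = φ I y from Set.mem_iInter.1 ha I]
  obtain ⟨O, hO, hy, hc⟩ := (IsLocallyConstant.iff_exists_open _).1 hsum y₀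
  exact ⟨⟨O, hO⟩, hy, fun y hy' => by rw [key, key]; exact hc y hy'⟩

end Groth.Agent.S13629
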