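import Groth.Statements.S13631
import Mathlib
-- import your own Groth.Agent.* helpers here

set_option autoImplicit false
universe u v w
open CAlg

namespace Groth.Agent.S13631

/-- Let k be a field, R an integral domain which is a k-algebra of infinite dimension over k, M a finite
free R-module, σ a ring automorphism of R mapping the image of k onto itself, and φ : M → M a
σ-semilinear map. If the cokernel of φ is finite-dimensional over k, in the sense that some finitely
generated k-subspace N of M satisfies M = N + φ(M), then φ is injective. -/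
theorem result
    {k : Type u} {R : Type v} {M : Type w} [Field k] [CommRing R] [IsDomain R] [Algebra k R]
    (hR : ¬ Module.Finite k R)
    [AddCommGroup M] [Module R M] [Module k M] [IsScalarTower k R M]
    [Module.Finite R M] [Module.Free R M]
    (σ : R ≃+* R)
    (hσ : ∀ x : k, ∃ y : k, σ (algebraMap k R x) = algebraMap k R y)
    (hσ' : ∀ y : k, ∃ x : k, σ (algebraMap k R x) = algebraMap k R y)
    (φ : M →ₛₗ[(σ : R →+* R)] M)
    (hcoker : ∃ N : Submodule k M, N.FG ∧ ∀ m : M, ∃ n ∈ N, ∃ m' : M, m = n + φ m') :
    Function.Injective φ := by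
  haveI : RingHomSurjective (σ : R →+* R) := ⟨σ.surjective⟩
  obtain ⟨N, hN, hcov⟩ := hcoker
  haveI : Module.Finite k N := Module.Finite.iff_fg.mpr hN
  haveI hQfin : Module.Finite k (M ⧸ LinearMap.range φ) := by
    refine Module.Finite.of_surjective (((LinearMap.range φ).mkQ.restrictScalars k).comp N.subtype) ?_
    intro q
    obtain ⟨m, rfl⟩ := Submodule.Quotient.mk_surjective _ q
    obtain ⟨n, hn, m', rfl⟩ := hcov m
    refine ⟨⟨n, hn⟩, ?_⟩
    simp only [LinearMap.comp_apply, LinearMap.restrictScalars_apply, Submodule.subtype_apply, Submodule.mkQ_apply]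
    rw [Submodule.Quotient.eq]
    simp
  have htors : ∀ m : M, ∃ r : R, r ≠ 0 ∧ r • m ∈ LinearMap.range φ := by
    intro m
    by_contra hne
    push_neg at hne
    apply hR
    refine Module.Finite.of_injective
      ((LinearMap.toSpanSingleton R (M ⧸ LinearMap.range φ) (Submodule.Quotient.mk m)).restrictScalars k) ?_
    refine (injective_iff_map_eq_zero _).mpr (fun r hr => ?_)
    by_contra hr0
    apply hne r hr0
    rw [← Submodule.Quotient.mk_eq_zero, Submodule.Quotient.mk_smul]
    exact hr
  let b := Module.Free.chooseBasis R M
  let g : M →ₗ[R] M := b.constr R (fun i => φ (b i))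
  have hg : ∀ m, φ m ∈ LinearMap.range g := by
    intro m
    have hm : m ∈ Submodule.comap φ (LinearMap.range g) := by
      have htop : Submodule.span R (Set.range b) ≤ Submodule.comap φ (LinearMap.range g) := by
        rw [Submodule.span_le]
        rintro _ ⟨i, rfl⟩
        exact ⟨b i, b.constr_basis R _ i⟩
      exact htop (b.mem_span m)
    exact hm
  have hgφ : ∀ m, φ m = g (∑ i, σ (b.repr m i) • b i) := by
    intro m
    conv_lhs => rw [← b.sum_repr m]
    simp only [map_sum, map_smul, LinearMap.map_smulₛₗ, g, Module.Basis.constr_basis]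
    rfl
  have hdet : LinearMap.det g ≠ 0 := by
    intro h0
    choose r hr0 hr using fun i => htors (b i)
    choose y hy using fun i => (show r i • b i ∈ LinearMap.range g by
      obtain ⟨m, hm⟩ := hr i
      rw [← hm]
      exact hg m)
    let h : M →ₗ[R] M := b.constr R y
    let d : M →ₗ[R] M := b.constr R (fun i => r i • b i)
    have hgh : g.comp h = d := b.ext (fun i => by simp [h, d, hy i])
    have hd0 : LinearMap.det d = 0 := by rw [← hgh, LinearMap.det_comp, h0, zero_mul]
    rw [LinearMap.det_eq_zero_iff_ker_ne_bot] at hd0
    apply hd0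
    rw [LinearMap.ker_eq_bot']
    intro m hm
    rw [← b.sum_repr m] at hm
    simp only [map_sum, map_smul, d, Module.Basis.constr_basis] at hm
    apply b.ext_elem
    intro i
    have h2 := congrArg (fun x => b.repr x i) hm
    simp [Finsupp.single_apply] at h2
    rcases h2 with h2 | h2
    · simpa using h2
    · exact absurd h2 (hr0 i)
  have hginj : Function.Injective g := LinearMap.ker_eq_bot.mp (by
    by_contra hk
    exact hdet (LinearMap.det_eq_zero_iff_ker_ne_bot.mpr hk))
  refine (injective_iff_map_eq_zero φ).mpr (fun m hm => ?_)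
  rw [hgφ m] at hm
  have h2 := hginj (hm.trans (map_zero g).symm)
  apply b.ext_elem
  intro i
  have h3 := congrArg (fun x => b.repr x i) h2
  simp [Finsupp.single_apply] at h3
  simpa using h3

end Groth.Agent.S13631
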