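import Groth.Statements.S13632
import Mathlib
-- import your own Groth.Agent.* helpers here

set_option autoImplicit false
universe u
open TensorProduct
open CAlg

namespace Groth.Agent.S13632


open TensorProduct in
private theorem injective_local {S A B : Type u} [CommRing S] [IsLocalRing S] [CommRing A] [CommRing B]
    [Algebra S A] [Algebra S B] [Module.Finite S A] [Module.Flat S A] [Algebra.FiniteType S B]
    (f : B →ₐ[S] A) (hf : Function.Surjective f)
    (hK : ∀ (K : Type u) [Field K] [Algebra S K], Function.Injective (f.toLinearMap.lTensor K)) :
    Function.Injective f := by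
  haveI : Module.Free S A := Module.free_of_flat_of_isLocalRing
  haveI : Module.FinitePresentation S A := Module.finitePresentation_of_projective S A
  haveI : Algebra.FinitePresentation S A := Algebra.FinitePresentation.of_finitePresentation S A
  obtain ⟨n, π, hπ⟩ := Algebra.FiniteType.iff_quotient_mvPolynomial''.mp (inferInstance : Algebra.FiniteType S B)
  have hfg : (RingHom.ker f.toRingHom).FG := by
    have h1 := Algebra.FinitePresentation.ker_fG_of_surjective (f.comp π) (hf.comp hπ)
    have h2 : RingHom.ker f.toRingHom = (RingHom.ker (f.comp π)).map π := by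
      show _ = ((RingHom.ker f.toRingHom).comap π).map π
      exact (Ideal.map_comap_of_surjective π hπ _).symm
    rw [h2]
    exact h1.map _
  obtain ⟨s, hs⟩ := Module.projective_lifting_property f.toLinearMap LinearMap.id hf
  let I := RingHom.ker f.toRingHom
  haveI : Module.Finite B I := Module.Finite.iff_fg.mpr hfg
  let r : B →ₗ[S] I.restrictScalars S := LinearMap.codRestrict _ (LinearMap.id - s ∘ₗ f.toLinearMap) (fun b => by
    show f (b - s (f b)) = 0
    have := LinearMap.congr_fun hs (f b)
    simp only [LinearMap.comp_apply, LinearMap.id_apply, AlgHom.toLinearMap_apply] at this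
    rw [map_sub, this, sub_self])
  have hr : r ∘ₗ (I.restrictScalars S).subtype = LinearMap.id := by
    refine LinearMap.ext fun x => Subtype.ext ?_
    show (x : B) - s (f (x : B)) = (x : B)
    rw [show f (x : B) = 0 from x.2, map_zero, sub_zero]
  have hzero : ∀ (K : Type u) [Field K] [Algebra S K], Subsingleton (K ⊗[S] (I.restrictScalars S)) := by
    intro K _ _
    refine subsingleton_of_forall_eq 0 (fun z => ?_)
    have h0 : (I.restrictScalars S).subtype.lTensor K z = 0 := by
      refine hK K ((?_ : f.toLinearMap.lTensor K ((I.restrictScalars S).subtype.lTensor K z) = 0).trans (map_zero _).symm)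
      rw [← LinearMap.comp_apply, ← LinearMap.lTensor_comp,
        show f.toLinearMap ∘ₗ (I.restrictScalars S).subtype = 0 from LinearMap.ext fun x => x.2]
      simp
    have h1 := congrArg (r.lTensor K) h0
    rw [← LinearMap.comp_apply, ← LinearMap.lTensor_comp, hr, map_zero] at h1
    simpa using h1
  have hI : Subsingleton I := by
    rw [← Module.support_eq_empty_iff (R := B), Set.eq_empty_iff_forall_notMem]
    intro P
    rw [Module.mem_support_iff_nontrivial_residueField_tensorProduct, not_nontrivial_iff_subsingleton]
    have := hzero P.asIdeal.ResidueField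
    haveI : Subsingleton (P.asIdeal.ResidueField ⊗[S] I) := this
    exact (TensorProduct.mapOfCompatibleSMul_surjective B S S P.asIdeal.ResidueField I).subsingleton
  refine (injective_iff_map_eq_zero _).mpr (fun b hb => ?_)
  exact congrArg Subtype.val (Subsingleton.elim (⟨b, hb⟩ : I) 0)

open TensorProduct in
private theorem bijective_field {R A B : Type u} [CommRing R] [CommRing A] [CommRing B] [Algebra R A] [Algebra R B]
    (f : B →ₐ[R] A)
    (h : ∀ p : PrimeSpectrum R, Function.Bijective (f.toLinearMap.lTensor p.asIdeal.ResidueField))
    (K : Type u) [Field K] [Algebra R K] : Function.Bijective (f.toLinearMap.lTensor K) := by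
  let p : PrimeSpectrum R := ⟨RingHom.ker (algebraMap R K), RingHom.ker_isPrime _⟩
  haveI : p.asIdeal.IsPrime := p.isPrime
  let κ := p.asIdeal.ResidueField
  let φ : κ →ₐ[R] K := Ideal.ResidueField.liftₐ p.asIdeal (Algebra.ofId R K) le_rfl (fun x hx => by
    show IsUnit (algebraMap R K x)
    exact isUnit_iff_ne_zero.mpr hx)
  letI : Algebra κ K := φ.toRingHom.toAlgebra
  haveI : IsScalarTower R κ K := IsScalarTower.of_algebraMap_eq (fun x => (φ.commutes x).symm)
  let e := LinearEquiv.ofBijective (f.toLinearMap.baseChange κ) (h p)
  have hcomm : f.toLinearMap.lTensor K =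
      (AlgebraTensorModule.cancelBaseChange R κ κ K A).toLinearMap.restrictScalars R ∘ₗ
        ((f.toLinearMap.baseChange κ).baseChange K).restrictScalars R ∘ₗ
        (AlgebraTensorModule.cancelBaseChange R κ κ K B).symm.toLinearMap.restrictScalars R := by
    ext x b
    simp
  rw [hcomm]
  exact (AlgebraTensorModule.cancelBaseChange R κ κ K A).bijective.comp
    ((show Function.Bijective ((f.toLinearMap.baseChange κ).baseChange K) from (e.baseChange κ K _ _).bijective).comp (AlgebraTensorModule.cancelBaseChange R κ κ K B).symm.bijective)

/-- Let S = Spec R, X = Spec A finite and flat over S, Y = Spec B of finite type over S, and φ : X → Y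
an S-morphism given by f : B → A. If for every point s of S the fibres X_s and Y_s have the same
order (the κ(s)-dimension of their rings of global sections κ(s) ⊗ A and κ(s) ⊗ B; equivalently at
every geometric point) and φ is an isomorphism over every closed point of S (κ(m) ⊗ f bijective for
every maximal ideal m), then φ is an isomorphism, i.e. f is bijective. (The published statement
allows an arbitrary base scheme S and Y separated of finite type over S; this row is the case of an
affine base with X and Y affine, the case its proof treats directly. Over a base with no closed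
points the general statement fails: the hypothesis at closed points is then empty.) -/
theorem result
    {R A B : Type u} [CommRing R] [CommRing A] [CommRing B] [Algebra R A] [Algebra R B]
    [Module.Finite R A] [Module.Flat R A] [Algebra.FiniteType R B]
    (f : B →ₐ[R] A)
    (hrank : ∀ p : PrimeSpectrum R,
      Module.rank p.asIdeal.ResidueField (p.asIdeal.ResidueField ⊗[R] B) =
        Module.rank p.asIdeal.ResidueField (p.asIdeal.ResidueField ⊗[R] A))
    (hmax : ∀ (m : Ideal R) [m.IsMaximal],
      Function.Bijective (LinearMap.lTensor m.ResidueField f.toLinearMap)) :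
    Function.Bijective f := by
  have hsurj : Function.Surjective f := by
    let C := A ⧸ LinearMap.range f.toLinearMap
    haveI : Module.Finite R C := inferInstance
    have hC : Subsingleton C := by
      rw [← Module.support_eq_empty_iff (R := R), Set.eq_empty_iff_forall_notMem]
      intro p hp
      obtain ⟨m, hm, hpm⟩ := Ideal.exists_le_maximal p.asIdeal p.isPrime.ne_top
      haveI := hm
      have hq : (⟨m, hm.isPrime⟩ : PrimeSpectrum R) ∈ Module.support R C := Module.mem_support_mono hpm hp
      rw [Module.mem_support_iff_nontrivial_residueField_tensorProduct] at hq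
      refine not_subsingleton_iff_nontrivial.mpr hq (subsingleton_of_forall_eq 0 (fun z => ?_))
      obtain ⟨w, rfl⟩ := LinearMap.lTensor_surjective m.ResidueField (LinearMap.range f.toLinearMap).mkQ_surjective z
      obtain ⟨v, rfl⟩ := (hmax m).2 w
      rw [← LinearMap.comp_apply, ← LinearMap.lTensor_comp,
        show (LinearMap.range f.toLinearMap).mkQ ∘ₗ f.toLinearMap = 0 from
          LinearMap.ext fun b => (Submodule.Quotient.mk_eq_zero _).mpr ⟨b, rfl⟩]
      simp
    intro a
    exact (Submodule.Quotient.mk_eq_zero (LinearMap.range f.toLinearMap)).mp (Subsingleton.elim (α := C) _ _)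
  refine ⟨?_, hsurj⟩
  have hbij : ∀ p : PrimeSpectrum R, Function.Bijective (f.toLinearMap.lTensor p.asIdeal.ResidueField) := by
    intro p
    have hs := LinearMap.lTensor_surjective p.asIdeal.ResidueField (g := f.toLinearMap) hsurj
    haveI : Module.Finite p.asIdeal.ResidueField (p.asIdeal.ResidueField ⊗[R] B) := by
      rw [← Module.rank_lt_aleph0_iff, hrank p]
      exact Module.rank_lt_aleph0 _ _
    have hfr : Module.finrank p.asIdeal.ResidueField (p.asIdeal.ResidueField ⊗[R] B) =
        Module.finrank p.asIdeal.ResidueField (p.asIdeal.ResidueField ⊗[R] A) :=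
      congrArg Cardinal.toNat (hrank p)
    exact ⟨(LinearMap.injective_iff_surjective_of_finrank_eq_finrank hfr
      (f := f.toLinearMap.baseChange p.asIdeal.ResidueField)).mpr hs, hs⟩
  refine (injective_iff_map_eq_zero _).mpr (fun b hb => ?_)
  refine Module.eq_zero_of_localization_maximal (fun P _ => TensorProduct R (Localization.AtPrime P) B)
    (fun P _ => TensorProduct.mk R (Localization.AtPrime P) B 1) b (fun P _ => ?_)
  let S := Localization.AtPrime P
  let f' : S ⊗[R] B →ₐ[S] S ⊗[R] A := Algebra.TensorProduct.map (AlgHom.id S S) f
  have hf' : Function.Surjective f' := LinearMap.lTensor_surjective S (g := f.toLinearMap) hsurj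
  have hinj := injective_local f' hf' (fun K _ _ => by
    letI : Algebra R K := ((algebraMap S K).comp (algebraMap R S)).toAlgebra
    haveI : IsScalarTower R S K := IsScalarTower.of_algebraMap_eq (fun _ => rfl)
    have hb' := bijective_field f hbij K
    have hcomm : f'.toLinearMap.lTensor K =
        ((TensorProduct.AlgebraTensorModule.cancelBaseChange R S S K A).symm.toLinearMap) ∘ₗ
          (f.toLinearMap.baseChange K).restrictScalars S ∘ₗ
          (TensorProduct.AlgebraTensorModule.cancelBaseChange R S S K B).toLinearMap := by
      ext x b
      simp [f']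
    rw [hcomm]
    exact (TensorProduct.AlgebraTensorModule.cancelBaseChange R S S K A).symm.injective.comp
      (hb'.1.comp (TensorProduct.AlgebraTensorModule.cancelBaseChange R S S K B).injective))
  apply hinj
  rw [map_zero]
  show (1 : S) ⊗ₜ[R] f b = 0
  rw [hb, TensorProduct.tmul_zero]

end Groth.Agent.S13632
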