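import Groth.Statements.S13633
import Groth.Agent.GrpScheme.Cartier
import Groth.Agent.GrpScheme.HomFlat
import Groth.Agent.GrpScheme.SubgroupObj
import Groth.Agent.GrpScheme.AffineHom
import Groth.Agent.GrpArtin.Descend
import Mathlib.RingTheory.Jacobson.Ring
import Groth.Agent.GrpScheme.Rosenlicht.Scheme
-- import your own Groth.Agent.* helpers here

set_option autoImplicit false
universe u
open CategoryTheory CategoryTheory.Limits MonoidalCategory CartesianMonoidalCategory MonObj AlgebraicGeometry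
open GrpSch

namespace Groth.Agent.S13633

open CategoryTheory.MonoidalCategory CategoryTheory.CartesianMonoidalCategory MonObj GrpObj
open GrpScheme.Rosenlicht (pb pb_comp pb_cst cst)

variable {k : Type u} [Field k]

/-- Algebraic points exist. -/
lemma exists_pt (X : Over (Spec (CommRingCat.of k))) [LocallyOfFiniteType X.hom]
    [Nonempty ↥X.left] (Ω : Type u) [Field Ω] [Algebra k Ω] [IsAlgClosed Ω] :
    Nonempty (Over.mk (Spec.map (CommRingCat.ofHom (algebraMap k Ω))) ⟶ X) := by
  obtain ⟨x⟩ := ‹Nonempty ↥X.left›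
  obtain ⟨U, hU, hxU, -⟩ := AlgebraicGeometry.exists_isAffineOpen_mem_and_subset
    (x := x) (U := ⊤) trivial
  let ρ : CommRingCat.of k ⟶ Γ(X.left, U) := Spec.preimage (hU.fromSpec ≫ X.hom)
  have hρ : Spec.map ρ = hU.fromSpec ≫ X.hom := Spec.map_preimage _
  algebraize [ρ.hom]
  have : Algebra.FiniteType k Γ(X.left, U) := by
    have : LocallyOfFiniteType (Spec.map ρ) := hρ ▸ inferInstance
    exact (HasRingHomProperty.Spec_iff (P := @LocallyOfFiniteType)).mp this
  have : Nonempty U := ⟨⟨x, hxU⟩⟩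
  obtain ⟨m, hm⟩ := Ideal.exists_maximal Γ(X.left, U)
  let _ := Ideal.Quotient.field m
  have : Module.Finite k (Γ(X.left, U) ⧸ m) := finite_of_finite_type_of_isJacobsonRing k _
  let c : Γ(X.left, U) →ₐ[k] Ω :=
    (IsAlgClosed.lift : (Γ(X.left, U) ⧸ m) →ₐ[k] Ω).comp (Ideal.Quotient.mkₐ k m)
  refine ⟨Over.homMk (Spec.map (CommRingCat.ofHom c.toRingHom) ≫ hU.fromSpec) ?_⟩
  rw [Category.assoc, ← hρ, ← Spec.map_comp]
  show Spec.map _ = Spec.map (CommRingCat.ofHom (algebraMap k Ω))
  congr 1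
  exact CommRingCat.hom_ext (RingHom.ext fun r => c.commutes r)

lemma isoInv_appTop (X : Scheme.{u}) [IsAffine X] :
    X.isoSpec.inv.appTop = (Scheme.ΓSpecIso Γ(X, ⊤)).inv := by
  have h := congrArg Scheme.Hom.appTop X.isoSpec_inv_toSpecΓ
  rw [Scheme.Hom.comp_appTop, Scheme.toSpecΓ_appTop, Scheme.Hom.id_appTop] at h
  exact (Iso.inv_ext h).symm.trans rfl |>.trans rfl

lemma subsingleton_spec {A : Type u} [CommRing A] (M J : Ideal A) [M.IsMaximal] (q : ℕ)
    (h : ∀ a ∈ M, a ^ q ∈ J) : Subsingleton (PrimeSpectrum (A ⧸ J)) := by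
  have hle : ∀ P : PrimeSpectrum (A ⧸ J), P.asIdeal.comap (Ideal.Quotient.mk J) = M := fun P =>
    ((inferInstance : M.IsMaximal).eq_of_le (Ideal.IsPrime.ne_top inferInstance) fun a ha => by
      refine Ideal.IsPrime.mem_of_pow_mem inferInstance q ?_
      rw [Ideal.mem_comap, Ideal.Quotient.eq_zero_iff_mem.2 (h a ha)]
      exact zero_mem _).symm
  exact ⟨fun P Q => PrimeSpectrum.ext (Ideal.comap_injective_of_surjective _
    Ideal.Quotient.mk_surjective ((hle P).trans (hle Q).symm))⟩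

lemma augI_isMaximal (H : Over (Spec (CommRingCat.of k))) [GrpObj H] : (RingHom.ker (pb η[H])).IsMaximal := by
  let e := (Scheme.ΓSpecIso (CommRingCat.of k))
  have : (RingHom.ker (e.hom.hom.comp (pb η[H]))).IsMaximal :=
    RingHom.ker_isMaximal_of_surjective _ fun c => ⟨cst H c, by
      rw [RingHom.comp_apply, pb_cst]
      change e.hom ((e.inv ≫ (𝟙 _ : Spec (CommRingCat.of k) ⟶ _).appTop) c) = c
      simp [e]⟩
  rwa [RingHom.ker_comp_of_injective _ (ConcreteCategory.bijective_of_isIso e.hom).1] at this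

/-- A closed set containing the images of all algebraic points is everything. -/
lemma univ_of_forall_point (K : Type u) [Field K] [Algebra k K] [IsAlgClosed K]
    (X : Over (Spec (CommRingCat.of k))) [LocallyOfFiniteType X.hom] (C : Set X.left) (hC : IsClosed C)
    (h : ∀ (x : Over.mk (Spec.map (CommRingCat.ofHom (algebraMap k K))) ⟶ X) t, x.left t ∈ C) :
    C = Set.univ := by
  by_contra hne
  let U : X.left.Opens := ⟨Cᶜ, hC.isOpen_compl⟩
  obtain ⟨a, ha⟩ := Set.ne_univ_iff_exists_notMem C |>.1 hne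
  let XU : Over (Spec (CommRingCat.of k)) := Over.mk (U.ι ≫ X.hom)
  have : LocallyOfFiniteType XU.hom := inferInstanceAs (LocallyOfFiniteType (U.ι ≫ X.hom))
  have : Nonempty XU.left := ⟨(⟨a, ha⟩ : U)⟩
  obtain ⟨x⟩ := exists_pt (k := k) XU K
  let x' : Over.mk (Spec.map (CommRingCat.ofHom (algebraMap k K))) ⟶ X :=
    x ≫ (Over.homMk U.ι rfl : XU ⟶ X)
  exact (x.left (IsLocalRing.closedPoint K)).2 (h x' (IsLocalRing.closedPoint K))

/-- Finiteness of a one point scheme of finite type over a field. -/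
lemma isFinite_of_subsingleton (X : Over (Spec (CommRingCat.of k))) [LocallyOfFiniteType X.hom]
    [Subsingleton X.left] : IsFinite X.hom := by
  have : LocallyQuasiFinite X.hom := locallyQuasiFinite_iff_isDiscrete_preimage_singleton.2 fun x =>
    (Set.subsingleton_of_subsingleton).isDiscrete
  have : CompactSpace X.left := Finite.compactSpace
  have : QuasiCompact X.hom := (quasiCompact_iff_compactSpace X.hom).2 ‹_›
  exact IsFinite.of_locallyQuasiFinite X.hom

section Frobenius

variable (H : Over (Spec (CommRingCat.of k))) [GrpObj H]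

/-- The augmentation ideal. -/
noncomputable def augI : Ideal Γ(H.left, ⊤) := RingHom.ker (pb η[H])

/-- The ideal of `q`-th powers of the augmentation ideal. -/
noncomputable def frobI (q : ℕ) : Ideal Γ(H.left, ⊤) := Ideal.span ((fun x => x ^ q) '' (augI H : Set Γ(H.left, ⊤)))

lemma pb_one (T : Over (Spec (CommRingCat.of k))) {x : Γ(H.left, ⊤)} (hx : x ∈ augI H) :
    pb (1 : T ⟶ H) x = 0 := by
  rw [Hom.one_def, pb_comp, show pb η[H] x = 0 from hx, map_zero]

lemma exists_sub_cst (x : Γ(H.left, ⊤)) : ∃ c, x - cst H c ∈ augI H := by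
  refine ⟨(Scheme.ΓSpecIso (CommRingCat.of k)).hom (pb η[H] x), ?_⟩
  rw [augI, RingHom.mem_ker, map_sub, pb_cst, sub_eq_zero]
  change _ = ((Scheme.ΓSpecIso (CommRingCat.of k)).inv ≫ (𝟙 _ : Spec (CommRingCat.of k) ⟶ _).appTop) _
  simp

lemma eq_one_of_kills [IsAffine H.left] {T : Over (Spec (CommRingCat.of k))} (d : T ⟶ H)
    (hd : ∀ x ∈ augI H, pb d x = 0) : d = 1 := by
  refine Over.OverMorphism.ext (ext_of_isAffine (CommRingCat.hom_ext (RingHom.ext fun x => ?_)))
  change pb d x = pb (1 : T ⟶ H) x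
  obtain ⟨c, hc⟩ := exists_sub_cst H x
  conv_lhs => rw [← sub_add_cancel x (cst H c), map_add, hd _ hc, pb_cst]
  conv_rhs => rw [← sub_add_cancel x (cst H c), map_add, pb_one H T hc, pb_cst]

lemma kills_mul [IsAffine H.left] {T : Over (Spec (CommRingCat.of k))} [IsAffine T.left] (g h : T ⟶ H)
    (x : Γ(H.left, ⊤)) (hx : x ∈ augI H) :
    pb (g * h) x ∈ Ideal.span (pb g '' (augI H) ∪ pb h '' (augI H)) ∧
      pb g⁻¹ x ∈ Ideal.span (pb g '' (augI H) ∪ pb h '' (augI H)) := by
  let J := Ideal.span (pb g '' (augI H) ∪ pb h '' (augI H) : Set Γ(T.left, ⊤))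
  let π : Γ(T.left, ⊤) ⟶ CommRingCat.of (Γ(T.left, ⊤) ⧸ J) := CommRingCat.ofHom (Ideal.Quotient.mk J)
  let dl := Spec.map π ≫ T.left.isoSpec.inv
  let T' : Over (Spec (CommRingCat.of k)) := Over.mk (dl ≫ T.hom)
  let d : T' ⟶ T := Over.homMk dl rfl
  have hd : ∀ a, pb d a = (Scheme.ΓSpecIso _).inv (π a) := by
    intro a
    change (Spec.map π ≫ T.left.isoSpec.inv).appTop a = _
    rw [Scheme.Hom.comp_appTop, isoInv_appTop, ← Scheme.ΓSpecIso_inv_naturality π]
    rfl
  have hz : ∀ a ∈ J, pb d a = 0 := fun a ha => by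
    rw [hd, show π a = 0 from Ideal.Quotient.eq_zero_iff_mem.2 ha, map_zero]
  have hJ : ∀ a, pb d a = 0 → a ∈ J := fun a ha => by
    rw [hd] at ha
    exact Ideal.Quotient.eq_zero_iff_mem.1
      ((ConcreteCategory.bijective_of_isIso (Scheme.ΓSpecIso (CommRingCat.of (Γ(T.left, ⊤) ⧸ J))).inv).1
        (ha.trans (map_zero _).symm))
  have h1 : d ≫ g = 1 := eq_one_of_kills H _ fun a ha => by
    rw [pb_comp]; exact hz _ (Ideal.subset_span (Or.inl ⟨a, ha, rfl⟩))
  have h2 : d ≫ h = 1 := eq_one_of_kills H _ fun a ha => by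
    rw [pb_comp]; exact hz _ (Ideal.subset_span (Or.inr ⟨a, ha, rfl⟩))
  constructor
  · refine hJ _ ?_
    rw [← pb_comp, MonObj.comp_mul, h1, h2, _root_.one_mul, pb_one H T' hx]
  · refine hJ _ ?_
    rw [← pb_comp, GrpObj.comp_inv, h1, inv_one, pb_one H T' hx]

variable (p : ℕ) [hp : Fact p.Prime] [CharP k p] (n : ℕ)

lemma pow_eq_zero_of_mem {T : Over (Spec (CommRingCat.of k))} {S : Set Γ(T.left, ⊤)}
    (hS : ∀ a ∈ S, a ^ p ^ n = 0) {b : Γ(T.left, ⊤)} (hb : b ∈ Ideal.span S) : b ^ p ^ n = 0 := by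
  have hpz : (p : Γ(T.left, ⊤)) = 0 := by
    rw [← map_natCast (cst T) p, CharP.cast_eq_zero, map_zero]
  have hadd : ∀ a c : Γ(T.left, ⊤), (a + c) ^ p ^ n = a ^ p ^ n + c ^ p ^ n := by
    intro a c
    rcases subsingleton_or_nontrivial Γ(T.left, ⊤) with h | h
    · exact Subsingleton.elim _ _
    · have : CharP Γ(T.left, ⊤) p := (CharP.charP_iff_prime_eq_zero hp.out).2 hpz
      exact add_pow_char_pow a c p n
  induction hb using Submodule.span_induction with
  | mem a ha => exact hS a ha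
  | zero => exact zero_pow (pow_ne_zero _ hp.out.ne_zero)
  | add a c _ _ ha hc => rw [hadd, ha, hc, add_zero]
  | smul r a _ ha => rw [smul_eq_mul, mul_pow, ha, mul_zero]

set_option maxHeartbeats 800000 in
/-- The kernels of the powers of Frobenius of an affine commutative group. -/
theorem exists_frobKernel [IsAffine H.left] [IsCommMonObj H] [LocallyOfFiniteType H.hom] :
    ∃ (Z : Over (Spec (CommRingCat.of k))) (_ : GrpObj Z) (i : Z ⟶ H), IsMonHom i ∧ IsCommMonObj Z ∧
      IsFinite Z.hom ∧ ∀ a, pb i a = 0 → a ∈ augI H ^ p ^ n := by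
  let q := p ^ n
  have hq : q ≠ 0 := pow_ne_zero _ hp.out.ne_zero
  let J := frobI H q
  have hJle : J ≤ augI H ^ q := Ideal.span_le.2 (by
    rintro _ ⟨a, ha, rfl⟩; exact Ideal.pow_mem_pow ha q)
  let π : Γ(H.left, ⊤) ⟶ CommRingCat.of (Γ(H.left, ⊤) ⧸ J) := CommRingCat.ofHom (Ideal.Quotient.mk J)
  have hπ : IsClosedImmersion (Spec.map π) := IsClosedImmersion.spec_of_surjective _ Ideal.Quotient.mk_surjective
  let il := Spec.map π ≫ H.left.isoSpec.inv
  let Z : Over (Spec (CommRingCat.of k)) := Over.mk (il ≫ H.hom)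
  let i : Z ⟶ H := Over.homMk il rfl
  have hi : IsClosedImmersion i.left := inferInstanceAs (IsClosedImmersion (Spec.map π ≫ H.left.isoSpec.inv))
  have : Mono i.left := inferInstance
  have : Mono i := Over.mono_of_mono_left i
  have hpbi : ∀ a, pb i a = (Scheme.ΓSpecIso _).inv (π a) := by
    intro a
    change (Spec.map π ≫ H.left.isoSpec.inv).appTop a = _
    rw [Scheme.Hom.comp_appTop, isoInv_appTop, ← Scheme.ΓSpecIso_inv_naturality π]
    rfl
  have hker : ∀ a, pb i a = 0 ↔ a ∈ J := fun a => by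
    rw [hpbi]
    refine ⟨fun ha => Ideal.Quotient.eq_zero_iff_mem.1
      ((ConcreteCategory.bijective_of_isIso (Scheme.ΓSpecIso (CommRingCat.of (Γ(H.left, ⊤) ⧸ J))).inv).1
        (ha.trans (map_zero _).symm)), fun ha => ?_⟩
    rw [show π a = 0 from Ideal.Quotient.eq_zero_iff_mem.2 ha, map_zero]
  have : IsAffine Z.left := inferInstanceAs (IsAffine (Spec _))
  have factor : ∀ {T : Over (Spec (CommRingCat.of k))} (f : T ⟶ H),
      (∀ a ∈ augI H, pb f a ^ q = 0) → ∃ m : T ⟶ Z, m ≫ i = f := by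
    intro T f hf
    have hle : ∀ a ∈ J, f.left.appTop.hom a = 0 := by
      intro a ha
      refine (Ideal.span_le (I := RingHom.ker (pb f))).2 ?_ ha
      rintro _ ⟨b, hb, rfl⟩
      change pb f (b ^ q) = 0
      rw [map_pow, hf b hb]
    let φ : CommRingCat.of (Γ(H.left, ⊤) ⧸ J) ⟶ Γ(T.left, ⊤) :=
      CommRingCat.ofHom (Ideal.Quotient.lift J f.left.appTop.hom hle)
    have e : (T.left.toSpecΓ ≫ Spec.map φ) ≫ il = f.left := by
      have h1 : π ≫ φ = f.left.appTop := rfl
      simp only [il, Category.assoc]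
      rw [← Spec.map_comp_assoc, h1, ← Scheme.toSpecΓ_naturality_assoc]
      have h2 : H.left.toSpecΓ ≫ H.left.isoSpec.inv = 𝟙 _ := H.left.isoSpec.hom_inv_id
      rw [h2, Category.comp_id]
    exact ⟨Over.homMk (T.left.toSpecΓ ≫ Spec.map φ) (by
      change _ ≫ il ≫ H.hom = _
      rw [← Category.assoc, e, Over.w f]), Over.OverMorphism.ext e⟩
  have hq0 : ∀ a ∈ augI H, pb i a ^ q = 0 := fun a ha => by
    rw [← map_pow, hker]; exact Ideal.subset_span ⟨a, ha, rfl⟩
  have hmu : ((i ⊗ₘ i) ≫ μ[H]) = (fst Z Z ≫ i) * (snd Z Z ≫ i) := by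
    rw [Hom.mul_def]
    congr 1

  have : IsAffine (Z ⊗ Z).left := inferInstanceAs (IsAffine (pullback Z.hom Z.hom))
  obtain ⟨gZ, hgi⟩ := GrpScheme.SubgroupObj.exists_grpObj i
    (factor _ fun a ha => by
      rw [hmu]
      refine pow_eq_zero_of_mem p n ?_ (kills_mul H (fst Z Z ≫ i) (snd Z Z ≫ i) a ha).1
      rintro _ (⟨b, hb, rfl⟩ | ⟨b, hb, rfl⟩) <;> rw [pb_comp, ← map_pow, hq0 b hb, map_zero])
    (factor _ fun a ha => by rw [show pb η[H] a = 0 from ha, zero_pow hq])
    (factor _ fun a ha => by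
      rw [← Hom.inv_def]
      refine pow_eq_zero_of_mem p n ?_ (kills_mul H i i a ha).2
      rintro _ (⟨b, hb, rfl⟩ | ⟨b, hb, rfl⟩) <;> exact hq0 b hb)
  have : LocallyOfFiniteType Z.hom := inferInstanceAs (LocallyOfFiniteType (il ≫ H.hom))
  have hsub : Subsingleton Z.left :=
    @subsingleton_spec Γ(H.left, ⊤) _ (augI H) J (augI_isMaximal H) q
      fun a ha => Ideal.subset_span ⟨a, ha, rfl⟩
  refine ⟨Z, gZ, i, hgi, ⟨?_⟩, isFinite_of_subsingleton Z, fun a ha => hJle ((hker a).1 ha)⟩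
  rw [← cancel_mono i, Category.assoc, IsMonHom.mul_hom, ← BraidedCategory.braiding_naturality_assoc,
    IsCommMonObj.mul_comm]

end Frobenius

variable {G H : Over (Spec (CommRingCat.of k))} [GrpObj G] [GrpObj H] [IsAffine H.left] [IsAffine G.left]
  [LocallyOfFiniteType H.hom]

/-- A closed subgroup containing all infinitesimal neighbourhoods of the unit is flat. -/
theorem flat_of_le (ψ : G ⟶ H) [IsMonHom ψ] [LocallyOfFiniteType G.hom] [IsClosedImmersion ψ.left]
    (hle : ∀ a, pb ψ a = 0 → ∀ m : ℕ, a ∈ augI H ^ m) : Flat ψ.left := by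
  let e0 : (𝟙_ (Over (Spec (CommRingCat.of k)))).left := IsLocalRing.closedPoint k
  let z := η[G].left e0
  have hz : ψ.left z = η[H].left e0 := by
    rw [← Scheme.Hom.comp_apply, ← Over.comp_left, IsMonHom.one_hom]
  refine GrpScheme.HomFlat.flat_of_flat_stalkMap ψ (z := z) (RingHom.Flat.of_bijective ⟨?_, ψ.left.stalkMap_surjective z⟩)
  rw [injective_iff_map_eq_zero]
  intro v hv
  have hA : IsAffineOpen (⊤ : H.left.Opens) := isAffineOpen_top _
  have hB : IsAffineOpen (⊤ : G.left.Opens) := isAffineOpen_top _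
  have : IsLocallyNoetherian H.left := LocallyOfFiniteType.isLocallyNoetherian H.hom
  let w : (⊤ : H.left.Opens) := ⟨ψ.left z, trivial⟩
  letI := H.left.presheaf.algebra_section_stalk w
  have : IsLocalization.AtPrime (H.left.presheaf.stalk w.1) (hA.primeIdealOf w).asIdeal := hA.isLocalization_stalk w
  obtain ⟨⟨a, u⟩, hau⟩ := IsLocalization.surj (hA.primeIdealOf w).asIdeal.primeCompl v
  have hu : IsUnit (H.left.presheaf.germ ⊤ (ψ.left z) trivial u.1) :=
    IsLocalization.map_units (H.left.presheaf.stalk w.1) u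
  replace hau : v * H.left.presheaf.germ ⊤ (ψ.left z) trivial u.1 = H.left.presheaf.germ ⊤ (ψ.left z) trivial a := hau
  suffices h0 : H.left.presheaf.germ ⊤ (ψ.left z) trivial a = 0 by
    exact hu.mul_left_eq_zero.1 (hau.trans h0)
  have hga : G.left.presheaf.germ ⊤ z trivial (pb ψ a) = 0 := by
    have := Scheme.Hom.germ_stalkMap_apply ψ.left ⊤ z trivial a
    rw [← hau, map_mul] at this
    exact this.symm.trans (by rw [hv, zero_mul])
  let w' : (⊤ : G.left.Opens) := ⟨z, trivial⟩
  letI := G.left.presheaf.algebra_section_stalk w'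
  have : IsLocalization.AtPrime (G.left.presheaf.stalk w'.1) (hB.primeIdealOf w').asIdeal := hB.isLocalization_stalk w'
  obtain ⟨t, ht⟩ := (IsLocalization.map_eq_zero_iff (hB.primeIdealOf w').asIdeal.primeCompl
    (G.left.presheaf.stalk w'.1) (pb ψ a)).1 hga
  obtain ⟨t', ht'⟩ := (IsClosedImmersion.isAffine_surjective_of_isAffine ψ.left).2 t.1
  have hut : IsUnit (H.left.presheaf.germ ⊤ (ψ.left z) trivial t') := by
    refine (isUnit_map_iff (ψ.left.stalkMap z).hom _).1 ?_
    rw [show (ψ.left.stalkMap z).hom (H.left.presheaf.germ ⊤ (ψ.left z) trivial t') = G.left.presheaf.germ ⊤ z trivial (ψ.left.appTop t') from Scheme.Hom.germ_stalkMap_apply ψ.left ⊤ z trivial t']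
    change IsUnit (G.left.presheaf.germ ⊤ z trivial (ψ.left.appTop t'))
    rw [ht']
    exact IsLocalization.map_units (G.left.presheaf.stalk w'.1) t
  refine hut.mul_right_eq_zero.1 ?_
  rw [← map_mul]
  have hmem := hle (t' * a) (by rw [map_mul, show pb ψ t' = t.1 from ht', ht])
  have hmax : Ideal.map (H.left.presheaf.germ ⊤ (ψ.left z) trivial).hom (augI H) ≤
      IsLocalRing.maximalIdeal _ := by
    rw [Ideal.map_le_iff_le_comap]
    intro b hb hunit
    have h1 : ψ.left z ∈ H.left.basicOpen b := (H.left.mem_basicOpen b _ trivial).2 hunit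
    rw [hz] at h1
    have h2 : e0 ∈ η[H].left ⁻¹ᵁ H.left.basicOpen b := h1
    rw [Scheme.preimage_basicOpen_top, show η[H].left.appTop b = 0 from hb, Scheme.basicOpen_zero] at h2
    exact h2
  have := Ideal.iInf_pow_eq_bot_of_isLocalRing (IsLocalRing.maximalIdeal (H.left.presheaf.stalk (ψ.left z)))
    (IsLocalRing.maximalIdeal.isMaximal _).ne_top
  rw [← Ideal.mem_bot, ← this, Ideal.mem_iInf]
  intro m
  refine Ideal.pow_right_mono hmax m ?_
  rw [← Ideal.map_pow]
  exact Ideal.mem_map_of_mem _ (hmem m)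

/-- Let k be a field, K an algebraic closure of k, and ψ : G → H a homomorphism of commutative affine
group schemes of finite type over k. Assume that for every finite commutative group scheme I over k
the map Hom(I, G) → Hom(I, H), f ↦ f ≫ ψ, on group-scheme homomorphisms is bijective, and that ψ
induces a bijection G(K) → H(K) on K-valued points. Then ψ is an isomorphism. (All group schemes are
commutative by the standing convention.) -/
theorem result
    {k : Type u} [Field k] (K : Type u) [Field K] [Algebra k K] [IsAlgClosure k K]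
    (G H : Over (Spec (CommRingCat.of k)))
    [GrpObj G] [IsCommMonObj G] [GrpObj H] [IsCommMonObj H]
    [IsAffine G.left] [IsAffine H.left] [LocallyOfFiniteType G.hom] [LocallyOfFiniteType H.hom]
    (ψ : G ⟶ H) [IsMonHom ψ]
    (hinj : ∀ (I : Over (Spec (CommRingCat.of k))) [GrpObj I] [IsCommMonObj I] [IsFinite I.hom]
      (f g : I ⟶ G) [IsMonHom f] [IsMonHom g], f ≫ ψ = g ≫ ψ → f = g)
    (hsurj : ∀ (I : Over (Spec (CommRingCat.of k))) [GrpObj I] [IsCommMonObj I] [IsFinite I.hom]
      (h : I ⟶ H) [IsMonHom h], ∃ f : I ⟶ G, IsMonHom f ∧ f ≫ ψ = h)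
    (hpts : Function.Bijective fun x : Over.mk (Spec.map (CommRingCat.ofHom (algebraMap k K))) ⟶ G => x ≫ ψ) :
    IsIso ψ := by
  have : IsAlgClosed K := IsAlgClosure.isAlgClosed k
  -- the kernel is trivial
  obtain ⟨N, gN, i, hi, hker⟩ := GrpScheme.AffineHom.exists_kernel ψ
  have hkl := GrpdLib.GrpOver.isPullback_left hker
  have : IsClosedImmersion η[H].left := GrpArtin.Descend.isClosedImmersion_unit H
  have hci : IsClosedImmersion i.left := MorphismProperty.of_isPullback hkl.flip ‹IsClosedImmersion η[H].left›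
  have : Mono i.left := inferInstance
  have : Mono i := Over.mono_of_mono_left i
  have hcomm : IsCommMonObj N := ⟨by
    rw [← cancel_mono i, Category.assoc, IsMonHom.mul_hom, ← BraidedCategory.braiding_naturality_assoc,
      IsCommMonObj.mul_comm]⟩
  have : LocallyOfFiniteType N.hom := by rw [← Over.w i]; infer_instance
  have hiψ : i ≫ ψ = 1 := by rw [hker.w, Hom.one_def]
  have hN : ({η[N].left (IsLocalRing.closedPoint k)} : Set N.left) = Set.univ := by
    refine univ_of_forall_point K N _ ?_ fun x t => ?_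
    · have := (GrpArtin.Descend.isClosedImmersion_unit N).base_closed.isClosed_range
      convert this
      ext y
      exact ⟨fun h => ⟨_, h.symm⟩, fun ⟨t, ht⟩ => ht ▸ congrArg η[N].left
        (Subsingleton.elim (α := PrimeSpectrum k) _ _)⟩
    · have hx : x ≫ i = 1 := hpts.1 (by
        change (x ≫ i) ≫ ψ = (1 : _ ⟶ G) ≫ ψ
        rw [Category.assoc, hiψ, MonObj.comp_one, MonObj.one_comp])
      have hx1 : x = 1 := (cancel_mono i).1 (by rw [hx, MonObj.one_comp])
      subst hx1
      change (toUnit _ ≫ η[N]).left t = η[N].left _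
      rw [Over.comp_left, Scheme.Hom.comp_apply]
      exact congrArg η[N].left (Subsingleton.elim (α := PrimeSpectrum k) _ _)
  have : Subsingleton N.left := Set.subsingleton_of_univ_subsingleton (hN ▸ Set.subsingleton_singleton)
  have : IsFinite N.hom := isFinite_of_subsingleton N
  have : IsMonHom (1 : N ⟶ G) := ⟨by rw [MonObj.comp_one]; rfl, by
    rw [MonObj.comp_one, Hom.one_def (X := N), show (toUnit N ≫ η[G] ⊗ₘ toUnit N ≫ η[G]) = lift (1 : N ⊗ N ⟶ G) 1 from CartesianMonoidalCategory.hom_ext _ _ (by simp [Hom.one_def, comp_toUnit_assoc]) (by simp [Hom.one_def, comp_toUnit_assoc]), ← Hom.mul_def, _root_.one_mul]⟩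
  have hi1 : i = 1 := hinj N i 1 (by rw [hiψ, MonObj.one_comp])
  have hmono : Mono ψ := ⟨fun {T} f g hfg => by
    have h1 : (f * g⁻¹) ≫ ψ = 1 := by
      rw [MonObj.mul_comp f g⁻¹ ψ, GrpObj.inv_comp, hfg, mul_inv_cancel]
    obtain ⟨l, hl⟩ := GrpdLib.GrpOver.kernel_factor hker (f * g⁻¹) h1
    have h3 : f * g⁻¹ = 1 := by rw [← hl, hi1, MonObj.comp_one]
    exact mul_inv_eq_one.1 h3⟩
  have : QuasiCompact G.hom := inferInstance
  have : QuasiCompact H.hom := inferInstance
  have hcl : IsClosedImmersion ψ.left := GrpArtin.Descend.isClosedImmersion_of_mono ψ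
  have hsur : Surjective ψ.left := by
    refine ⟨Set.range_eq_univ.1 (univ_of_forall_point K H _ hcl.base_closed.isClosed_range fun y t => ?_)⟩
    obtain ⟨x, hx⟩ := hpts.2 y
    refine ⟨x.left t, ?_⟩
    rw [← hx, Over.comp_left, Scheme.Hom.comp_apply]
  suffices IsIso ψ.left from @isIso_of_reflects_iso _ _ _ _ _ _ ψ (Over.forget _) this _
  obtain ⟨p, hp⟩ := CharP.exists k
  rcases CharP.char_is_prime_or_zero k p with hprime | h0
  · have : Fact p.Prime := ⟨hprime⟩
    have hflat : Flat ψ.left := by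
      refine flat_of_le ψ fun a ha m => ?_
      obtain ⟨Z, gZ, j, hj, hcZ, hfZ, hjI⟩ := exists_frobKernel H p m
      obtain ⟨f, hf, hfj⟩ := hsurj Z j
      refine Ideal.pow_le_pow_right (m.lt_pow_self hprime.one_lt).le (hjI a ?_)
      rw [← hfj, pb_comp, ha, map_zero]
    exact Flat.isIso_of_surjective_of_mono ψ.left
  · subst h0
    have : CharZero k := CharP.charP_to_charZero k
    have := GrpScheme.Cartier.smooth_of_charZero H
    have : IsReduced H.left := GrpScheme.HomFlat.isReduced_of_smooth H.hom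
    exact isIso_of_isClosedImmersion_of_surjective ψ.left

end Groth.Agent.S13633
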