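import Groth.Statements.S13635
import Groth.Agent.MultLocal.Basic
import Groth.Agent.MultLocal.Tuple

set_option autoImplicit false
universe u w
open CategoryTheory CategoryTheory.Limits MonoidalCategory CartesianMonoidalCategory MonObj AlgebraicGeometry
open MultSch

namespace Groth.Agent.S13635

/-- Let M₁ → M₂ → M₃ → 0 be a sequence of R-module schemes over a scheme S, with R-linear homomorphisms
j : M₁ → M₂ and π : M₂ → M₃, exact as a sequence of fppf sheaves. For n ≥ 1 and an R-module scheme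
N, the sequence 0 → Alt(M₃^n, N) → Alt(M₂^n, N) → Alt(M₁ × M₂^(n-1), N) of R-multilinear alternating
morphisms is exact: an R-multilinear alternating φ : M₂^n → N which is trivial on all points with
first coordinate in the image of j is of the form φ' ∘ π^n for a unique morphism φ' : M₃^n → N
(unique among all morphisms), and this φ' is R-multilinear and alternating. -/
theorem result
    {S : Scheme.{u}} {R : Type w} [CommRing R] {M₁ M₂ M₃ N : Over S}
    [GrpObj M₁] [IsCommMonObj M₁] [GrpObj M₂] [IsCommMonObj M₂] [GrpObj M₃] [IsCommMonObj M₃]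
    [GrpObj N] [IsCommMonObj N]
    (ρ₁ : MultSch.RMod R M₁) (ρ₂ : MultSch.RMod R M₂) (ρ₃ : MultSch.RMod R M₃) (ρN : MultSch.RMod R N)
    (j : M₁ ⟶ M₂) (π : M₂ ⟶ M₃) [IsMonHom j] [IsMonHom π]
    (hj : ∀ a : R, j ≫ ρ₂.act a = ρ₁.act a ≫ j) (hπ : ∀ a : R, π ≫ ρ₃.act a = ρ₂.act a ≫ π)
    (w : j ≫ π = 1) (hex : (CGrpSh.seq Scheme.fppfPrecoverage j π w).Exact)
    (hepi : Epi (CGrpSh.ptsMap Scheme.fppfPrecoverage π))
    {n : ℕ} (hn : 1 ≤ n) (φ : MultSch.pow M₂ n ⟶ N)
    (hmult : MultSch.IsMultilinear φ) (hlin : MultSch.IsRLinear ρ₂ ρN φ) (halt : MultSch.IsAlternating φ)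
    (hvan : ∀ (T : Over S) (y : T ⟶ M₁) (x : Fin n → (T ⟶ M₂)), x ⟨0, hn⟩ = y ≫ j →
      MultSch.tuple x ≫ φ = 1) :
    ∃ φ' : MultSch.pow M₃ n ⟶ N,
      (∀ (T : Over S) (x : Fin n → (T ⟶ M₂)), MultSch.tuple x ≫ φ = MultSch.tuple (fun l => x l ≫ π) ≫ φ') ∧
      MultSch.IsMultilinear φ' ∧ MultSch.IsRLinear ρ₃ ρN φ' ∧ MultSch.IsAlternating φ' ∧
      ∀ φ'' : MultSch.pow M₃ n ⟶ N,
        (∀ (T : Over S) (x : Fin n → (T ⟶ M₂)), MultSch.tuple x ≫ φ = MultSch.tuple (fun l => x l ≫ π) ≫ φ'') →
          φ'' = φ' := by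
  classical
  have hS := Groth.Agent.MultLocal.locSurj_of_epi _ π hepi
  let z : Fin n := ⟨0, hn⟩
  have hker : ∀ (T : Over S) (x : Fin n → (T ⟶ M₂)) (i : Fin n), x i ≫ π = 1 → MultSch.tuple x ≫ φ = 1 := by
    intro T x i hi
    obtain ⟨R, hR, hl⟩ := Groth.Agent.MultLocal.exists_lift_of_exact _ j π w hex (x i) hi
    refine Groth.Agent.MultLocal.hom_ext _ R hR fun T' f hf => ?_
    obtain ⟨y, hy⟩ := hl f hf
    rw [← Category.assoc, Groth.Agent.MultLocal.comp_tuple, MonObj.comp_one]
    by_cases hiz : i = z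
    · exact hvan T' y _ (by rw [hy]; subst hiz; rfl)
    · have hsw := Groth.Agent.MultLocal.alt_swap hmult halt (fun k => f ≫ x k) i z hiz (f ≫ x i) (f ≫ x z)
      simp only [Function.update_eq_self] at hsw
      have hv := hvan T' y (Function.update (Function.update (fun k => f ≫ x k) i (f ≫ x z)) z (f ≫ x i))
        (by rw [hy]; exact Function.update_self _ _ _)
      rw [hv, _root_.mul_one] at hsw
      exact hsw
  have hind : ∀ (T : Over S) (x x' : Fin n → (T ⟶ M₂)), (∀ i, x i ≫ π = x' i ≫ π) →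
      MultSch.tuple x ≫ φ = MultSch.tuple x' ≫ φ := by
    intro T x x' h
    suffices H : ∀ s : Finset (Fin n), MultSch.tuple x ≫ φ = MultSch.tuple (s.piecewise x' x) ≫ φ by
      simpa using H Finset.univ
    intro s
    induction s using Finset.induction with
    | empty => simp
    | insert i s hi ih =>
      rw [ih, Finset.piecewise_insert]
      have hx : s.piecewise x' x i = (x i * (x' i)⁻¹) * x' i := by
        rw [Finset.piecewise_eq_of_notMem _ _ _ hi, inv_mul_cancel_right]
      have h' : (x i * (x' i)⁻¹) ≫ π = 1 := by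
        rw [MonObj.mul_comp, h i, ← MonObj.mul_comp, mul_inv_cancel, MonObj.one_comp]
      conv_lhs => rw [← Function.update_eq_self i (s.piecewise x' x), hx, hmult,
        hker T _ i (by rw [Function.update_self]; exact h'), _root_.one_mul]
  let πn : MultSch.pow M₂ n ⟶ MultSch.pow M₃ n :=
    MultSch.tuple (fun l => Groth.Agent.MultLocal.proj M₂ n l ≫ π)
  have hπn : ∀ {T : Over S} (x : Fin n → (T ⟶ M₂)), MultSch.tuple x ≫ πn = MultSch.tuple (fun l => x l ≫ π) := by
    intro T x
    rw [Groth.Agent.MultLocal.comp_tuple]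
    simp only [← Category.assoc, Groth.Agent.MultLocal.tuple_proj]
  have hsurj : Groth.Agent.MultLocal.LocSurj Scheme.fppfPrecoverage πn := by
    intro T b
    obtain ⟨R, hR, hl⟩ := hS.family _ (fun l => b ≫ Groth.Agent.MultLocal.proj M₃ n l)
    refine ⟨R, hR, fun T' f hf => ?_⟩
    obtain ⟨e, he⟩ := hl f hf
    refine ⟨MultSch.tuple e, ?_⟩
    simp only [hπn, he, ← Category.assoc f b]
    exact Groth.Agent.MultLocal.tuple_comp_proj _
  obtain ⟨φ', h1, h2⟩ := hsurj.descend _ φ fun T e e' h => by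
    rw [← Groth.Agent.MultLocal.tuple_comp_proj e, ← Groth.Agent.MultLocal.tuple_comp_proj e', hπn, hπn] at h
    rw [← Groth.Agent.MultLocal.tuple_comp_proj e, ← Groth.Agent.MultLocal.tuple_comp_proj e']
    refine hind _ _ _ fun i => ?_
    have := congrArg (· ≫ Groth.Agent.MultLocal.proj M₃ n i) h
    simpa only [Groth.Agent.MultLocal.tuple_proj] using this
  have hval : ∀ {T : Over S} (x : Fin n → (T ⟶ M₂)),
      MultSch.tuple x ≫ φ = MultSch.tuple (fun l => x l ≫ π) ≫ φ' := fun x => by
    rw [← hπn, Category.assoc, h1]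
  have hupd : ∀ {T : Over S} (e : Fin n → (T ⟶ M₂)) (i : Fin n) (a : T ⟶ M₂),
      (fun l => Function.update e i a l ≫ π) = Function.update (fun l => e l ≫ π) i (a ≫ π) := fun e i a =>
    funext fun l => Function.apply_update (fun _ z => z ≫ π) e i a l
  refine ⟨φ', fun T x => hval x, fun T x i y v => ?_, fun T x i a => ?_, fun T x i k hik hx => ?_, fun φ'' h'' => h2 φ'' ?_⟩
  · obtain ⟨R, hR, hl⟩ := hS.family _ (fun o : Option (Option (Fin n)) => o.elim y (fun o' => o'.elim v x))
    refine Groth.Agent.MultLocal.hom_ext _ R hR fun T' f hf => ?_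
    obtain ⟨e, he⟩ := hl f hf
    simp only [MonObj.comp_mul, ← Category.assoc, Groth.Agent.MultLocal.comp_tuple, Groth.Agent.MultLocal.comp_update]
    have hx : (fun l => f ≫ x l) = fun l => e (some (some l)) ≫ π := funext fun l => (he (some (some l))).symm
    have hy : e none ≫ π = f ≫ y := he none
    have hv : e (some none) ≫ π = f ≫ v := he (some none)
    rw [hx, ← hy, ← hv,
      ← MonObj.mul_comp, ← hupd, ← hupd, ← hupd, ← hval, ← hval, ← hval, hmult]
  · obtain ⟨R, hR, hl⟩ := hS.family _ x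
    refine Groth.Agent.MultLocal.hom_ext _ R hR fun T' f hf => ?_
    obtain ⟨e, he⟩ := hl f hf
    simp only [← Category.assoc, Groth.Agent.MultLocal.comp_tuple, Groth.Agent.MultLocal.comp_update]
    have hx : (fun l => f ≫ x l) = fun l => e l ≫ π := funext fun l => (he l).symm
    rw [hx, ← (he i), Category.assoc, hπ, ← Category.assoc, ← hupd, ← hval, ← hval, hlin]
  · obtain ⟨R, hR, hl⟩ := hS.family _ x
    refine Groth.Agent.MultLocal.hom_ext _ R hR fun T' f hf => ?_
    obtain ⟨e, he⟩ := hl f hf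
    have := halt T' (Function.update e k (e i)) i k hik (by simp [Function.update_of_ne hik])
    rw [← Category.assoc, Groth.Agent.MultLocal.comp_tuple, MonObj.comp_one, ← this, hval, hupd]
    have hh : (fun l => f ≫ x l) = Function.update (fun l => e l ≫ π) k (e i ≫ π) := funext fun l => by
      by_cases hl' : l = k
      · subst hl'; rw [Function.update_self, he, hx]
      · rw [Function.update_of_ne hl', he]
    rw [hh]
  · have := h'' _ (fun l => Groth.Agent.MultLocal.proj M₂ n l)
    rw [show MultSch.tuple (fun l => Groth.Agent.MultLocal.proj M₂ n l) = 𝟙 _ by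
      simpa using Groth.Agent.MultLocal.tuple_comp_proj (𝟙 (MultSch.pow M₂ n)), Category.id_comp] at this
    exact this.symm

end Groth.Agent.S13635
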