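import Groth.Statements.S13636
import Groth.Agent.MultLocal.Basic

set_option autoImplicit false
universe u w
open CategoryTheory CategoryTheory.Limits MonoidalCategory CartesianMonoidalCategory MonObj AlgebraicGeometry
open MultSch

namespace Groth.Agent.S13636

/-- Let M' → M → M'' → 0 be a sequence of R-module schemes over a scheme S, with R-linear homomorphisms
j and π, exact as fppf sheaves, and let ψ : P × M × Q → N be a morphism to an R-module scheme N
which is additive and R-linear in the coordinate M (on T-valued points) and trivial on all points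
whose M-coordinate lies in the image of j. Then ψ = ψ' ∘ (id × π × id) for a unique morphism ψ' : P
× M'' × Q → N, and ψ' is additive and R-linear in the coordinate M''. (The published statement has a
product M₁ × ⋯ × M_r of R-module schemes with the exact sequence in the i-th factor and ψ
R-multilinear; here the factors before and after the i-th are collected into single S-schemes P and
Q, and only linearity in the i-th coordinate, the one the statement is about, is carried; linearity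
in the other coordinates passes between ψ and ψ' formally.) -/
theorem result
    {S : Scheme.{u}} {R : Type w} [CommRing R] {P Q M' M M'' N : Over S}
    [GrpObj M'] [IsCommMonObj M'] [GrpObj M] [IsCommMonObj M] [GrpObj M''] [IsCommMonObj M'']
    [GrpObj N] [IsCommMonObj N]
    (ρ' : MultSch.RMod R M') (ρ : MultSch.RMod R M) (ρ'' : MultSch.RMod R M'') (ρN : MultSch.RMod R N)
    (j : M' ⟶ M) (π : M ⟶ M'') [IsMonHom j] [IsMonHom π]
    (hj : ∀ a : R, j ≫ ρ.act a = ρ'.act a ≫ j) (hπ : ∀ a : R, π ≫ ρ''.act a = ρ.act a ≫ π)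
    (w : j ≫ π = 1) (hex : (CGrpSh.seq Scheme.fppfPrecoverage j π w).Exact)
    (hepi : Epi (CGrpSh.ptsMap Scheme.fppfPrecoverage π))
    (ψ : P ⊗ (M ⊗ Q) ⟶ N)
    (hadd : ∀ (T : Over S) (p : T ⟶ P) (q : T ⟶ Q) (y z : T ⟶ M),
      lift p (lift (y * z) q) ≫ ψ = (lift p (lift y q) ≫ ψ) * (lift p (lift z q) ≫ ψ))
    (hlin : ∀ (T : Over S) (p : T ⟶ P) (q : T ⟶ Q) (y : T ⟶ M) (a : R),
      lift p (lift (y ≫ ρ.act a) q) ≫ ψ = (lift p (lift y q) ≫ ψ) ≫ ρN.act a)
    (hvan : ∀ (T : Over S) (p : T ⟶ P) (q : T ⟶ Q) (y' : T ⟶ M'), lift p (lift (y' ≫ j) q) ≫ ψ = 1) :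
    ∃ ψ' : P ⊗ (M'' ⊗ Q) ⟶ N,
      (P ◁ (π ▷ Q)) ≫ ψ' = ψ ∧
      (∀ (T : Over S) (p : T ⟶ P) (q : T ⟶ Q) (y z : T ⟶ M''),
        lift p (lift (y * z) q) ≫ ψ' = (lift p (lift y q) ≫ ψ') * (lift p (lift z q) ≫ ψ')) ∧
      (∀ (T : Over S) (p : T ⟶ P) (q : T ⟶ Q) (y : T ⟶ M'') (a : R),
        lift p (lift (y ≫ ρ''.act a) q) ≫ ψ' = (lift p (lift y q) ≫ ψ') ≫ ρN.act a) ∧
      ∀ ψ'' : P ⊗ (M'' ⊗ Q) ⟶ N, (P ◁ (π ▷ Q)) ≫ ψ'' = ψ → ψ'' = ψ' := by
  have hS := Groth.Agent.MultLocal.locSurj_of_epi _ π hepi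
  have hπid : ∀ {T : Over S} (p : T ⟶ P) (y : T ⟶ M) (q : T ⟶ Q),
      lift p (lift y q) ≫ (P ◁ (π ▷ Q)) = lift p (lift (y ≫ π) q) := fun p y q => by simp
  have hker : ∀ (T : Over S) (p : T ⟶ P) (q : T ⟶ Q) (y : T ⟶ M), y ≫ π = 1 → lift p (lift y q) ≫ ψ = 1 := by
    intro T p q y hy
    obtain ⟨R, hR, hl⟩ := Groth.Agent.MultLocal.exists_lift_of_exact _ j π w hex y hy
    refine Groth.Agent.MultLocal.hom_ext _ R hR fun T' f hf => ?_
    obtain ⟨z, hz⟩ := hl f hf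
    rw [← Category.assoc, comp_lift, comp_lift, ← hz, hvan, MonObj.comp_one]
  have hind : ∀ (T : Over S) (p : T ⟶ P) (q : T ⟶ Q) (y z : T ⟶ M), y ≫ π = z ≫ π →
      lift p (lift y q) ≫ ψ = lift p (lift z q) ≫ ψ := by
    intro T p q y z h
    have h' : (y * z⁻¹) ≫ π = 1 := by
      rw [MonObj.mul_comp, h, ← MonObj.mul_comp, mul_inv_cancel, MonObj.one_comp]
    conv_lhs => rw [← inv_mul_cancel_right y z, hadd, hker T p q _ h', _root_.one_mul]
  have hsurj : Groth.Agent.MultLocal.LocSurj Scheme.fppfPrecoverage (P ◁ (π ▷ Q)) := by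
    intro T b
    obtain ⟨R, hR, hl⟩ := hS T (b ≫ snd P (M'' ⊗ Q) ≫ fst M'' Q)
    refine ⟨R, hR, fun T' f hf => ?_⟩
    obtain ⟨e, he⟩ := hl f hf
    refine ⟨lift (f ≫ b ≫ fst P (M'' ⊗ Q)) (lift e (f ≫ b ≫ snd P (M'' ⊗ Q) ≫ snd M'' Q)), ?_⟩
    rw [hπid, he]
    ext <;> simp
  obtain ⟨ψ', h1, h2⟩ := hsurj.descend _ ψ fun T e e' h => by
    have hd : ∀ e : T ⟶ P ⊗ (M ⊗ Q), e = lift (e ≫ fst P (M ⊗ Q)) (lift (e ≫ snd P (M ⊗ Q) ≫ fst M Q) (e ≫ snd P (M ⊗ Q) ≫ snd M Q)) :=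
      fun e => by ext <;> simp
    rw [hd e, hd e', hπid, hπid] at h
    rw [hd e, hd e']
    have hp := congrArg (· ≫ fst P (M'' ⊗ Q)) h
    have hy := congrArg (· ≫ snd P (M'' ⊗ Q) ≫ fst M'' Q) h
    have hq := congrArg (· ≫ snd P (M'' ⊗ Q) ≫ snd M'' Q) h
    simp at hp hy hq
    simp only [hp, hq]
    exact hind _ _ _ _ _ (by simpa using hy)
  have hval : ∀ {T : Over S} (p : T ⟶ P) (y : T ⟶ M) (q : T ⟶ Q),
      lift p (lift (y ≫ π) q) ≫ ψ' = lift p (lift y q) ≫ ψ := fun p y q => by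
    rw [← hπid, Category.assoc, h1]
  refine ⟨ψ', h1, fun T p q y z => ?_, fun T p q y a => ?_, h2⟩
  · obtain ⟨R, hR, hl⟩ := hS.family _ ![y, z]
    refine Groth.Agent.MultLocal.hom_ext _ R hR fun T' f hf => ?_
    obtain ⟨e, he⟩ := hl f hf
    have hy := he 0
    have hz := he 1
    simp only [Matrix.cons_val_zero, Matrix.cons_val_one, Matrix.cons_val_fin_one] at hy hz
    simp only [MonObj.comp_mul, ← Category.assoc, comp_lift]
    rw [← hy, ← hz, ← MonObj.mul_comp, hval, hval, hval, hadd]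
  · obtain ⟨R, hR, hl⟩ := hS T y
    refine Groth.Agent.MultLocal.hom_ext _ R hR fun T' f hf => ?_
    obtain ⟨e, he⟩ := hl f hf
    simp only [← Category.assoc, comp_lift]
    rw [← he, Category.assoc, hπ, ← Category.assoc, hval, hlin, ← hval]

end Groth.Agent.S13636
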