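import Groth.Statements.S13642
import Groth.Agent.Adic.RestrictOpen

set_option autoImplicit false
open CategoryTheory
universe u
open FSch

namespace Groth.Agent.S13642

/-- Let f : 𝔛 ⟶ 𝔜 be a finite morphism of locally Noetherian formal schemes (adic, with finite morphism
of smallest levels). Then for every open U of 𝔜 the restriction f⁻¹(U) ⟶ U of f to the induced
formal schemes on U and on its inverse image is a finite morphism. -/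
theorem result (𝔛 𝔜 : FSch.Sys.{u}) (h𝔛 : 𝔛.IsLocNoethFormal) (h𝔜 : 𝔜.IsLocNoethFormal)
    (f : 𝔛 ⟶ 𝔜) (hf : FSch.IsFiniteHom f) (U : (𝔜.X 0).Opens) :
    FSch.IsFiniteHom (FSch.Hom.restrictOpen f h𝔛.1 h𝔜.1 U) := by

  open AlgebraicGeometry in
    refine ⟨fun n => ?_, ?_⟩
    · have hX := Groth.Agent.Adic.RestrictOpen.isPullback_resLE (𝔛.ι n)
        (𝔛.lvU h𝔛.1 (n + 1) ((f : FSch.Hom 𝔛 𝔜).app 0 ⁻¹ᵁ U)) (𝔛.lvU h𝔛.1 n ((f : FSch.Hom 𝔛 𝔜).app 0 ⁻¹ᵁ U))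
        (𝔛.lvU_succ h𝔛.1 n _)
      have hY := Groth.Agent.Adic.RestrictOpen.isPullback_resLE (𝔜.ι n) (𝔜.lvU h𝔜.1 (n + 1) U) (𝔜.lvU h𝔜.1 n U)
        (𝔜.lvU_succ h𝔜.1 n U)
      have hs := hX.paste_vert (hf.1 n)
      rw [← Scheme.Hom.resLE_comp_ι ((f : FSch.Hom 𝔛 𝔜).app n) (FSch.Hom.lvU_preimage f h𝔛.1 h𝔜.1 n U).ge,
        ← Scheme.Hom.resLE_comp_ι ((f : FSch.Hom 𝔛 𝔜).app (n + 1))
          (FSch.Hom.lvU_preimage f h𝔛.1 h𝔜.1 (n + 1) U).ge] at hs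
      exact IsPullback.of_bot hs ((FSch.Hom.restrictOpen f h𝔛.1 h𝔜.1 U : FSch.Hom _ _).comm n).symm hY
    · haveI := hf.2
      exact MorphismProperty.of_isPullback (P := @IsFinite)
        (Groth.Agent.Adic.RestrictOpen.isPullback_resLE ((f : FSch.Hom 𝔛 𝔜).app 0) (𝔜.lvU h𝔜.1 0 U)
          (𝔛.lvU h𝔛.1 0 ((f : FSch.Hom 𝔛 𝔜).app 0 ⁻¹ᵁ U)) (FSch.Hom.lvU_preimage f h𝔛.1 h𝔜.1 0 U)).flip hf.2

end Groth.Agent.S13642
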