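import Groth.Statements.S13663
import Groth.Agent.GrLC.Basic
import Mathlib.Algebra.Algebra.Operations
import Mathlib.Algebra.BigOperators.Pi
import Mathlib.Tactic.Linarith
import Mathlib.Tactic.Ring

set_option autoImplicit false
universe u
open GrRing

namespace Groth.Agent.S13663

open Groth.Agent.GrLC in
/-- Monomials with exponents below the threshold times high degree lie in `A_d · A_{N-d}`. -/
theorem mem_mul_of_exps {R A : Type u} [CommRing R] [CommRing A] [Algebra R A]
    (𝒜 : ℤ → Submodule R A) [GradedAlgebra 𝒜]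
    {p : ℕ} (f : Fin p → A) (deg : Fin p → ℤ) (hdeg : ∀ i, 0 < deg i) (hf : ∀ i, f i ∈ 𝒜 (deg i))
    (hgen : Ideal.span {a : A | ∃ n : ℤ, 0 < n ∧ a ∈ 𝒜 n} = Ideal.span (Set.range f))
    (d N : ℤ) (hN : d * p - ∑ i, deg i < N) (hdvd : ∀ i, deg i ∣ d) :
    ∀ (t : ℕ) (e : Fin p → ℕ) (c : A), ∑ i, (d - deg i - e i * deg i) ≤ (t : ℤ) →
      (∀ i, (e i : ℤ) * deg i ≤ d - deg i) → c ∈ 𝒜 (N - ∑ i, (e i : ℤ) * deg i) →
      c * ∏ i, f i ^ e i ∈ 𝒜 d * 𝒜 (N - d) := by
  intro t
  induction t using Nat.strong_induction_on with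
  | _ t ih =>
    intro e c ht he hc
    have hpos : 0 < N - ∑ i, (e i : ℤ) * deg i := by
      have h1 : ∑ i, (e i : ℤ) * deg i ≤ ∑ i, (d - deg i) := Finset.sum_le_sum fun i _ => he i
      rw [Finset.sum_sub_distrib, Finset.sum_const, Finset.card_univ, Fintype.card_fin,
        nsmul_eq_mul, mul_comm] at h1
      linarith
    obtain ⟨v, hv⟩ := (Ideal.mem_span_range_iff_exists_fun).1
      (hgen.le (Ideal.subset_span ⟨_, hpos, hc⟩))
    rw [← cpt_of_mem 𝒜 hc, ← hv, map_sum, Finset.sum_mul]
    refine sum_mem fun j _ => ?_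
    rw [show v j * f j = v j • f j from rfl, cpt_smul_right' (𝒜 := 𝒜) 𝒜 (hf j),
      show ∀ x : A, x • f j = x * f j from fun x => rfl]
    set cj := cpt 𝒜 (N - ∑ i, (e i : ℤ) * deg i - deg j) (v j) with hcj
    let e' : Fin p → ℕ := e + Pi.single j 1
    have hprod : ∏ i, f i ^ e' i = f j * ∏ i, f i ^ e i := by
      simp only [e', Pi.add_apply, pow_add, Finset.prod_mul_distrib]
      rw [Finset.prod_eq_single j (fun b _ hb => by simp [Pi.single_eq_of_ne hb]) (by simp)
        (f := fun i => f i ^ (Pi.single j 1 : Fin p → ℕ) i)]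
      simp [mul_comm]
    have hsum : ∑ i, (e' i : ℤ) * deg i = ∑ i, (e i : ℤ) * deg i + deg j := by
      simp only [e', Pi.add_apply, Nat.cast_add, add_mul, Finset.sum_add_distrib]
      rw [Finset.sum_eq_single j (fun b _ hb => by simp [Pi.single_eq_of_ne hb]) (by simp)
        (f := fun i => (((Pi.single j 1 : Fin p → ℕ) i : ℕ) : ℤ) * deg i)]
      simp
    rw [mul_assoc, ← hprod]
    have hcj' : cj ∈ 𝒜 (N - ∑ i, (e' i : ℤ) * deg i) := by
      rw [hsum, ← sub_sub]; exact cpt_mem 𝒜 _ _
    by_cases hfull : (e' j : ℤ) * deg j ≤ d - deg j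
    · have he' : ∀ i, (e' i : ℤ) * deg i ≤ d - deg i := fun i => by
        by_cases hij : i = j
        · subst hij; exact hfull
        · simpa [e', Pi.single_eq_of_ne hij] using he i
      have hlt : ∑ i, (d - deg i - e' i * deg i) ≤ (t : ℤ) - deg j := by
        rw [Finset.sum_sub_distrib, hsum]
        rw [Finset.sum_sub_distrib] at ht
        linarith
      have hnn : 0 ≤ ∑ i, (d - deg i - e' i * deg i) :=
        Finset.sum_nonneg fun i _ => by linarith [he' i]
      have := hdeg j
      exact ih ((t : ℤ) - deg j).toNat (by omega) e' cj (by omega) he' hcj'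
    · have hj : (e' j : ℤ) * deg j = d := by
        obtain ⟨q, hq⟩ := hdvd j
        have h1 := he j
        have hej : e' j = e j + 1 := by simp [e']
        rw [hej] at hfull ⊢
        push_cast at hfull ⊢
        have hlo : q - 1 ≤ (e j : ℤ) := by
          by_contra hh
          push Not at hh
          have : ((e j : ℤ) + 2) * deg j ≤ q * deg j :=
            mul_le_mul_of_nonneg_right (by omega) (hdeg j).le
          rw [hq] at hfull
          linarith
        have hhi : (e j : ℤ) ≤ q - 1 := by
          by_contra hh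
          push Not at hh
          have : (q : ℤ) * deg j ≤ (e j : ℤ) * deg j :=
            mul_le_mul_of_nonneg_right (by omega) (hdeg j).le
          rw [hq] at h1
          have := hdeg j
          linarith
        rw [hq, show (e j : ℤ) = q - 1 by omega]
        ring
      rw [← Finset.mul_prod_erase Finset.univ _ (Finset.mem_univ j), mul_left_comm]
      have hsplit : ∑ i, (e' i : ℤ) * deg i =
          (e' j : ℤ) * deg j + ∑ i ∈ Finset.univ.erase j, (e' i : ℤ) * deg i :=
        (Finset.add_sum_erase Finset.univ _ (Finset.mem_univ j)).symm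
      refine Submodule.mul_mem_mul ?_ ?_
      · have := SetLike.pow_mem_graded (e' j) (hf j)
        rwa [nsmul_eq_mul, hj] at this
      · have h2 : ∏ i ∈ Finset.univ.erase j, f i ^ e' i ∈
            𝒜 (∑ i ∈ Finset.univ.erase j, (e' i : ℤ) * deg i) := by
          refine SetLike.prod_mem_graded 𝒜 (fun i => (e' i : ℤ) * deg i) _ fun i _ => ?_
          have := SetLike.pow_mem_graded (e' i) (hf i)
          rwa [nsmul_eq_mul] at this
        have := SetLike.mul_mem_graded hcj' h2
        rwa [show N - ∑ i, (e' i : ℤ) * deg i + ∑ i ∈ Finset.univ.erase j, (e' i : ℤ) * deg i = N - d by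
          rw [hsplit, hj]; ring] at this

/-- Let A be a commutative ring graded by the integers whose ideal generated by the homogeneous elements
of positive degree has homogeneous generators f_1, …, f_p, of positive degrees d_1, …, d_p, and let
d be a positive integer divisible by each d_i. Then A_N = A_d · A_{N-d} for every integer N > dp -
(d_1 + ⋯ + d_p). -/
theorem result {R A : Type u} [CommRing R] [CommRing A] [Algebra R A]
    (𝒜 : ℤ → Submodule R A) [GradedAlgebra 𝒜]
    {p : ℕ} (f : Fin p → A) (deg : Fin p → ℤ) (hdeg : ∀ i, 0 < deg i) (hf : ∀ i, f i ∈ 𝒜 (deg i))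
    (hgen : Ideal.span {a : A | ∃ n : ℤ, 0 < n ∧ a ∈ 𝒜 n} = Ideal.span (Set.range f))
    (d : ℤ) (hd : 0 < d) (hdvd : ∀ i, deg i ∣ d) (N : ℤ) (hN : d * p - ∑ i, deg i < N) :
    𝒜 N = 𝒜 d * 𝒜 (N - d) := by
  refine le_antisymm ?_ (Submodule.mul_le.2 fun a ha b hb => by
    have := SetLike.mul_mem_graded ha hb
    rwa [add_sub_cancel] at this)
  intro a ha
  have h := mem_mul_of_exps 𝒜 f deg hdeg hf hgen d N hN hdvd
    (∑ i, (d - deg i)).toNat 0 a (by simp) (fun i => ?_) (by simpa using ha)
  · simpa using h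
  · have := Int.le_of_dvd hd (hdvd i)
    simpa using this

end Groth.Agent.S13663
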