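import Groth.Statements.S13664
import Mathlib.RingTheory.Finiteness.Ideal
import Mathlib.LinearAlgebra.Finsupp.LinearCombination

set_option autoImplicit false
universe u
open GrRing

namespace Groth.Agent.S13664

/-- Let A be a commutative ring graded by the integers whose ideal I generated by the homogeneous
elements of positive degree has homogeneous generators f_1, …, f_p, of positive degrees d_1, …, d_p,
let d be a positive integer divisible by each d_i, and let x be an element of an A-module M. The
following are equivalent: x is annihilated by some power of I; x is annihilated by (A_d)^n for all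
sufficiently large n; there is an integer s such that A_n x = 0 for all n ≥ s. (The published
statement is for a homogeneous element of a graded module; this row drops both the grading of M and
the homogeneity of x, which play no role.) -/
theorem result {R A : Type u} [CommRing R] [CommRing A] [Algebra R A]
    (𝒜 : ℤ → Submodule R A) [GradedAlgebra 𝒜]
    {p : ℕ} (f : Fin p → A) (deg : Fin p → ℤ) (hdeg : ∀ i, 0 < deg i) (hf : ∀ i, f i ∈ 𝒜 (deg i))
    (hgen : Ideal.span {a : A | ∃ n : ℤ, 0 < n ∧ a ∈ 𝒜 n} = Ideal.span (Set.range f))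
    (d : ℤ) (hd : 0 < d) (hdvd : ∀ i, deg i ∣ d)
    {M : Type u} [AddCommGroup M] [Module A M] (x : M) :
    [x ∈ GrLC.gam (Ideal.span (Set.range f)) M,
     ∃ n₀ : ℕ, ∀ n : ℕ, n₀ ≤ n → ∀ r ∈ (𝒜 d) ^ n, r • x = 0,
     ∃ s : ℤ, ∀ n : ℤ, s ≤ n → ∀ r ∈ 𝒜 n, r • x = 0].TFAE := by
  classical
  set I : Ideal A := Ideal.span (Set.range f) with hI
  let D : ℤ := ∑ i, deg i
  have hD : ∀ i, deg i ≤ D := fun i => Finset.single_le_sum (fun j _ => (hdeg j).le) (Finset.mem_univ i)
  have hpow : ∀ (N : ℕ) (n : ℤ) (a : A), a ∈ 𝒜 n → (N : ℤ) * (D + 1) < n → a ∈ I ^ N := by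
    intro N
    induction N with
    | zero => intros; simp
    | succ N ih =>
      intro n a ha hn
      have hD0 : 0 ≤ D := Finset.sum_nonneg fun i _ => (hdeg i).le
      have hN : 0 ≤ (N : ℤ) * (D + 1) := by positivity
      push_cast at hn
      have hn0 : 0 < n := by linarith
      have haI : a ∈ I := by
        rw [← hgen]
        exact Ideal.subset_span ⟨n, hn0, ha⟩
      obtain ⟨c, hc⟩ := Ideal.mem_span_range_iff_exists_fun.1 haI
      have hproj : a = ∑ i, ((DirectSum.decompose 𝒜 (c i) (n - deg i) : A)) * f i := by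
        conv_lhs => rw [← DirectSum.decompose_of_mem_same 𝒜 ha, ← hc]
        rw [DirectSum.decompose_sum, DFinsupp.finset_sum_apply, AddSubmonoidClass.coe_finsetSum]
        refine Finset.sum_congr rfl fun i _ => ?_
        conv_lhs => rw [show n = (n - deg i) + deg i by ring]
        exact DirectSum.coe_decompose_mul_add_of_right_mem 𝒜 (hf i)
      rw [hproj, pow_succ]
      refine Ideal.sum_mem _ fun i _ => Ideal.mul_mem_mul ?_ (Ideal.subset_span ⟨i, rfl⟩)
      refine ih _ _ (DirectSum.decompose 𝒜 (c i) (n - deg i)).2 ?_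
      have := hD i
      linarith
  tfae_have 1 → 3 := by
    rintro ⟨N, hN⟩
    exact ⟨(N : ℤ) * (D + 1) + 1, fun n hn r hr => hN r (hpow N n r hr (by linarith))⟩
  tfae_have 3 → 2 := by
    rintro ⟨s, hs⟩
    have hle : ∀ n : ℕ, (𝒜 d) ^ n ≤ 𝒜 ((n : ℤ) * d) := by
      intro n
      induction n with
      | zero =>
        rw [pow_zero, Nat.cast_zero, zero_mul]
        exact Submodule.one_le.2 (SetLike.one_mem_graded 𝒜)
      | succ n ih =>
        rw [pow_succ, Submodule.mul_le]
        intro a ha b hb
        have := SetLike.mul_mem_graded (ih ha) hb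
        convert this using 2
        push_cast
        ring
    refine ⟨s.natAbs, fun n hn r hr => hs _ ?_ r (hle n hr)⟩
    have h1 : s ≤ (n : ℤ) := by lia
    nlinarith
  tfae_have 2 → 1 := by
    rintro ⟨n₀, hn₀⟩
    let J : Ideal A := LinearMap.ker (LinearMap.toSpanSingleton A M x)
    have hJ : I ≤ J.radical := by
      rw [hI, Ideal.span_le]
      rintro _ ⟨i, rfl⟩
      obtain ⟨e, he⟩ := hdvd i
      have he0 : 0 < e := by
        rcases lt_trichotomy e 0 with h | h | h
        · exact absurd hd (not_lt.2 (by rw [he]; exact (mul_neg_of_pos_of_neg (hdeg i) h).le))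
        · rw [h, mul_zero] at he; lia
        · exact h
      obtain ⟨e, rfl⟩ : ∃ m : ℕ, e = m := ⟨e.natAbs, by lia⟩
      refine ⟨e * n₀, ?_⟩
      have hfe : f i ^ e ∈ 𝒜 d := by
        have := SetLike.pow_mem_graded e (hf i)
        rwa [he, mul_comm, ← nsmul_eq_mul]
      rw [LinearMap.mem_ker, LinearMap.toSpanSingleton_apply, pow_mul]
      exact hn₀ n₀ le_rfl _ (Submodule.pow_mem_pow _ hfe n₀)
    obtain ⟨N, hN⟩ := Ideal.exists_pow_le_of_le_radical_of_fg hJ
      (hI ▸ Submodule.fg_span (Set.finite_range f))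
    exact ⟨N, fun r hr => (LinearMap.toSpanSingleton_apply A M x r).symm.trans (LinearMap.mem_ker.1 (hN hr))⟩
  tfae_finish

end Groth.Agent.S13664
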