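import Groth.Statements.S13665
-- import your own Groth.Agent.* helpers here

set_option autoImplicit false
universe u
open GrRing

namespace Groth.Agent.S13665

variable {R A : Type u} [CommRing R] [CommRing A] [Algebra R A]
  (𝒜 : ℤ → Submodule R A) [GradedAlgebra 𝒜]

theorem proj_mul_of_mem {i : ℤ} {t : A} (ht : t ∈ 𝒜 i) (a : A) (n : ℤ) :
    GradedAlgebra.proj 𝒜 n (t * a) = t * GradedAlgebra.proj 𝒜 (n - i) a := by
  have h := DirectSum.coe_decompose_mul_add_of_left_mem 𝒜 (j := n - i) (b := a) ht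
  rw [add_sub_cancel] at h
  simpa [GradedAlgebra.proj_apply] using h

/-- A homogeneous element of degree `n` in the ideal spanned by homogeneous elements. -/
theorem mem_of_mem_span (T : Finset A) (d : A → ℤ) (hd : ∀ t ∈ T, t ∈ 𝒜 (d t)) (n : ℤ)
    (M : AddSubmonoid A) (hM : ∀ t ∈ T, ∀ c ∈ 𝒜 (n - d t), t * c ∈ M) {x : A} (hx : x ∈ 𝒜 n)
    (hxT : x ∈ Ideal.span (T : Set A)) : x ∈ M := by
  classical
  obtain ⟨f, -, hf⟩ := Submodule.mem_span_finset.1 hxT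
  have h1 : GradedAlgebra.proj 𝒜 n x = x := by
    rw [GradedAlgebra.proj_apply]; exact DirectSum.decompose_of_mem_same 𝒜 hx
  rw [← h1, ← hf, map_sum]
  refine AddSubmonoid.sum_mem M fun t ht => ?_
  rw [smul_eq_mul, mul_comm, proj_mul_of_mem 𝒜 (hd t ht)]
  refine hM t ht _ ?_
  rw [GradedAlgebra.proj_apply]
  exact SetLike.coe_mem _

theorem exists_finset_of_fg {S : Set A} (h : (Ideal.span S).FG) :
    ∃ T : Finset A, (↑T : Set A) ⊆ S ∧ Ideal.span S = Ideal.span (T : Set A) := by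
  classical
  obtain ⟨G, hG⟩ := h
  have h1 : ∀ g ∈ G, ∃ T : Finset A, (↑T : Set A) ⊆ S ∧ g ∈ Ideal.span (T : Set A) :=
    fun g hg => by
      have h2 : g ∈ Submodule.span A S := by
        show g ∈ Ideal.span S
        rw [← hG]; exact Submodule.subset_span hg
      exact Submodule.mem_span_finite_of_mem_span h2
  choose F hF hF' using h1
  refine ⟨G.attach.biUnion fun g => F g.1 g.2, ?_, ?_⟩
  · intro a ha
    simp only [Finset.coe_biUnion, Set.mem_iUnion] at ha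
    obtain ⟨g, -, hg⟩ := ha
    exact hF g.1 g.2 hg
  · refine le_antisymm ?_ (Ideal.span_mono ?_)
    · rw [← hG]
      refine Submodule.span_le.2 fun g hg => ?_
      refine Ideal.span_mono ?_ (hF' g hg)
      intro a ha
      simp only [Finset.coe_biUnion, Set.mem_iUnion]
      exact ⟨⟨g, hg⟩, Finset.mem_attach _ _, ha⟩
    · intro a ha
      simp only [Finset.coe_biUnion, Set.mem_iUnion] at ha
      obtain ⟨g, -, hg⟩ := ha
      exact hF g.1 g.2 hg

variable (H : ∀ I : Ideal A, I.IsHomogeneous 𝒜 → I.FG)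

include H in
theorem isNoetherianRing_zero : IsNoetherianRing (𝒜 0) := by
  classical
  refine (isNoetherianRing_iff_ideal_fg _).2 fun J => ?_
  set S : Set A := algebraMap (𝒜 0) A '' (J : Set (𝒜 0)) with hS
  have hhom : (Ideal.span S).IsHomogeneous 𝒜 := by
    refine Ideal.homogeneous_span 𝒜 S ?_
    rintro _ ⟨x, -, rfl⟩
    exact ⟨0, x.2⟩
  obtain ⟨T, hTS, hT⟩ := exists_finset_of_fg (H _ hhom)
  obtain ⟨s, hs, rfl⟩ := Finset.subset_set_image_iff.1 hTS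
  refine ⟨s, le_antisymm (Submodule.span_le.2 hs) fun x hx => ?_⟩
  have hmem : algebraMap (𝒜 0) A x ∈
      (Submodule.span (𝒜 0) (s : Set (𝒜 0))).toAddSubmonoid.map
        (algebraMap (𝒜 0) A).toAddMonoidHom := by
    refine mem_of_mem_span 𝒜 (Finset.image (algebraMap (𝒜 0) A) s) (fun _ => 0) ?_ 0 _ ?_ x.2 ?_
    · intro t ht
      obtain ⟨y, -, rfl⟩ := Finset.mem_image.1 ht
      exact y.2
    · intro t ht c hc
      obtain ⟨y, hy, rfl⟩ := Finset.mem_image.1 ht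
      rw [sub_self] at hc
      refine ⟨(⟨c, hc⟩ : 𝒜 0) • y, Submodule.smul_mem _ _ (Submodule.subset_span hy), ?_⟩
      show algebraMap (𝒜 0) A ((⟨c, hc⟩ : 𝒜 0) • y) = _
      rw [smul_eq_mul, map_mul, mul_comm]
      rfl
    · rw [← hT]; exact Ideal.subset_span ⟨x, hx, rfl⟩
  obtain ⟨y, hy, hxy⟩ := hmem
  have : y = x := Subtype.ext hxy
  exact this ▸ hy

include H in
theorem exists_gens (n : ℤ) : ∃ G : Finset A, (↑G : Set A) ⊆ 𝒜 n ∧
    ∀ x ∈ 𝒜 n, x ∈ Submodule.span (𝒜 0) (G : Set A) := by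
  have hhom : (Ideal.span (𝒜 n : Set A)).IsHomogeneous 𝒜 :=
    Ideal.homogeneous_span 𝒜 _ fun x hx => ⟨n, hx⟩
  obtain ⟨T, hTS, hT⟩ := exists_finset_of_fg (H _ hhom)
  refine ⟨T, hTS, fun x hx => ?_⟩
  refine mem_of_mem_span 𝒜 T (fun _ => n) hTS n
    (Submodule.span (𝒜 0) (T : Set A)).toAddSubmonoid ?_ hx (hT ▸ Ideal.subset_span hx)
  intro t ht c hc
  rw [sub_self] at hc
  have : t * c = (⟨c, hc⟩ : 𝒜 0) • t := by rw [Algebra.smul_def, mul_comm]; rfl
  rw [this]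
  exact Submodule.smul_mem _ _ (Submodule.subset_span ht)

include H in
theorem adjoin_fg (e : ℤ) (he : e * e = 1) :
    (Algebra.adjoin (𝒜 0) {a : A | ∃ n : ℤ, 0 ≤ e * n ∧ a ∈ 𝒜 n}).FG := by
  classical
  set P : Set A := {a : A | ∃ n : ℤ, 0 < e * n ∧ a ∈ 𝒜 n} with hP
  have hhom : (Ideal.span P).IsHomogeneous 𝒜 :=
    Ideal.homogeneous_span 𝒜 _ fun x hx => ⟨hx.choose, hx.choose_spec.2⟩
  obtain ⟨T, hTS, hT⟩ := exists_finset_of_fg (H _ hhom)
  have hdeg : ∀ t : A, ∃ n : ℤ, t ∈ T → 0 < e * n ∧ t ∈ 𝒜 n := by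
    intro t
    by_cases ht : t ∈ T
    · obtain ⟨n, hn⟩ := hTS ht; exact ⟨n, fun _ => hn⟩
    · exact ⟨0, fun h => absurd h ht⟩
  choose d hd using hdeg
  choose G hG hG' using exists_gens 𝒜 H
  set D : ℕ := T.sup fun t => (e * d t).toNat with hD
  set Gall : Finset A := (Finset.Icc 1 D).biUnion fun k : ℕ => G (e * k) with hGall
  have hsmall : ∀ k : ℕ, 1 ≤ k → k ≤ D → ∀ x ∈ 𝒜 (e * k),
      x ∈ Algebra.adjoin (𝒜 0) (Gall : Set A) := by
    intro k h1 h2 x hx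
    refine (Submodule.span_le.2 ?_ : Submodule.span (𝒜 0) (G (e * k) : Set A) ≤
      Subalgebra.toSubmodule (Algebra.adjoin (𝒜 0) (Gall : Set A))) (hG' _ x hx)
    intro g hg
    exact Algebra.subset_adjoin
      (Finset.mem_biUnion.2 ⟨k, Finset.mem_Icc.2 ⟨h1, h2⟩, hg⟩)
  have key : ∀ k : ℕ, ∀ x ∈ 𝒜 (e * k), x ∈ Algebra.adjoin (𝒜 0) (Gall : Set A) := by
    intro k
    induction k using Nat.strong_induction_on with
    | _ k ih =>
      intro x hx
      rcases Nat.eq_zero_or_pos k with rfl | hk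
      · rw [Nat.cast_zero, mul_zero] at hx
        exact Subalgebra.algebraMap_mem _ (⟨x, hx⟩ : 𝒜 0)
      by_cases hkD : k ≤ D
      · exact hsmall k hk hkD x hx
      have hpos : 0 < e * (e * (k : ℤ)) := by rw [← mul_assoc, he, one_mul]; exact_mod_cast hk
      refine mem_of_mem_span 𝒜 T d (fun t ht => (hd t ht).2) (e * k)
        (Subalgebra.toSubmodule (Algebra.adjoin (𝒜 0) (Gall : Set A))).toAddSubmonoid ?_ hx
        (hT ▸ Ideal.subset_span ⟨e * k, hpos, hx⟩)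
      intro t ht c hc
      obtain ⟨hpos', htd⟩ := hd t ht
      set j : ℕ := (e * d t).toNat with hj
      have hjD : j ≤ D := Finset.le_sup (f := fun t => (e * d t).toNat) ht
      have hjz : (j : ℤ) = e * d t := Int.toNat_of_nonneg hpos'.le
      have hdj : d t = e * (j : ℤ) := by rw [hjz, ← mul_assoc, he, one_mul]
      have hck : e * (k : ℤ) - d t = e * ((k - j : ℕ) : ℤ) := by
        rw [hdj, Nat.cast_sub (by omega), mul_sub]
      exact (mul_mem (hsmall j (by omega) hjD t (hdj ▸ htd)) (ih (k - j) (by omega) c (hck ▸ hc)) :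
        t * c ∈ Algebra.adjoin (𝒜 0) (Gall : Set A))
  refine ⟨Gall, le_antisymm (Algebra.adjoin_mono ?_) (Algebra.adjoin_le ?_)⟩
  · intro g hg
    obtain ⟨k, -, hg'⟩ := Finset.mem_biUnion.1 hg
    exact ⟨e * k, by rw [← mul_assoc, he, one_mul]; exact Int.natCast_nonneg k, hG _ hg'⟩
  · rintro x ⟨n, hn, hx⟩
    refine key (e * n).toNat x ?_
    rwa [Int.toNat_of_nonneg hn, ← mul_assoc, he, one_mul]

theorem finiteType_of_fg
    (h1 : (Algebra.adjoin (𝒜 0) {a : A | ∃ n : ℤ, 0 ≤ n ∧ a ∈ 𝒜 n}).FG)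
    (h2 : (Algebra.adjoin (𝒜 0) {a : A | ∃ n : ℤ, n ≤ 0 ∧ a ∈ 𝒜 n}).FG) :
    Algebra.FiniteType (𝒜 0) A := by
  refine ⟨?_⟩
  have htop : (Algebra.adjoin (𝒜 0) {a : A | ∃ n : ℤ, 0 ≤ n ∧ a ∈ 𝒜 n}) ⊔
      (Algebra.adjoin (𝒜 0) {a : A | ∃ n : ℤ, n ≤ 0 ∧ a ∈ 𝒜 n}) = ⊤ := by
    refine Algebra.eq_top_iff.2 fun x => ?_
    induction x using DirectSum.Decomposition.inductionOn 𝒜 with
    | zero => exact zero_mem _
    | homogeneous y =>
      rename_i i
      rcases le_total 0 i with hi | hi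
      · exact le_sup_left (α := Subalgebra (𝒜 0) A) (Algebra.subset_adjoin ⟨i, hi, y.2⟩)
      · exact le_sup_right (α := Subalgebra (𝒜 0) A) (Algebra.subset_adjoin ⟨i, hi, y.2⟩)
    | add a b ha hb => exact add_mem ha hb
  rw [← htop]
  exact h1.sup h2


/-- For a commutative ring A graded by the integers, with degree-zero subring A_0, the following are
equivalent: A is Noetherian; each homogeneous ideal of A has a finite generating set; A_0 is
Noetherian and the subalgebras A_{≥0}, A_{≤0} are each of finite type over A_0; A_0 is Noetherian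
and A is an A_0-algebra of finite type. -/
theorem result {R A : Type u} [CommRing R] [CommRing A] [Algebra R A]
    (𝒜 : ℤ → Submodule R A) [GradedAlgebra 𝒜] :
    [IsNoetherianRing A,
     ∀ I : Ideal A, I.IsHomogeneous 𝒜 → I.FG,
     IsNoetherianRing (𝒜 0) ∧ (Algebra.adjoin (𝒜 0) {a : A | ∃ n : ℤ, 0 ≤ n ∧ a ∈ 𝒜 n}).FG ∧
       (Algebra.adjoin (𝒜 0) {a : A | ∃ n : ℤ, n ≤ 0 ∧ a ∈ 𝒜 n}).FG,
     IsNoetherianRing (𝒜 0) ∧ Algebra.FiniteType (𝒜 0) A].TFAE := by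
  have hneg : {a : A | ∃ n : ℤ, n ≤ 0 ∧ a ∈ 𝒜 n} =
      {a : A | ∃ n : ℤ, 0 ≤ (-1 : ℤ) * n ∧ a ∈ 𝒜 n} := by ext; simp
  have hpos : {a : A | ∃ n : ℤ, 0 ≤ n ∧ a ∈ 𝒜 n} =
      {a : A | ∃ n : ℤ, 0 ≤ (1 : ℤ) * n ∧ a ∈ 𝒜 n} := by ext; simp
  tfae_have 1 → 2 := fun _ I _ => IsNoetherian.noetherian I
  tfae_have 2 → 3 := fun H => ⟨isNoetherianRing_zero 𝒜 H,
    hpos ▸ adjoin_fg 𝒜 H 1 (by norm_num), hneg ▸ adjoin_fg 𝒜 H (-1) (by norm_num)⟩
  tfae_have 3 → 4 := fun h => ⟨h.1, finiteType_of_fg 𝒜 h.2.1 h.2.2⟩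
  tfae_have 4 → 1 := fun h => by
    haveI := h.1; haveI := h.2
    exact Algebra.FiniteType.isNoetherianRing (𝒜 0) A
  tfae_finish

end Groth.Agent.S13665
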