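import Groth.Statements.S1367
import Groth.Agent.FlatMor.CechH1.Main

set_option autoImplicit false
universe u
open FlatMor

namespace Groth.Agent.S1367

open AlgebraicGeometry CategoryTheory Limits in
/-- Let f : X → Y be proper and y a point whose fibre has dimension at most 1 and satisfies H^1(X_y, O)
= 0. Then there is an open neighbourhood V of y such that R^1 f_* O_X vanishes on V, in the concrete
sense that H^1 of the structure sheaf vanishes on the preimage of every affine open of V, and the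
same holds for the base change of f along any morphism to V. -/
theorem result {X Y : Scheme.{u}} (f : X ⟶ Y) [IsProper f] (y : Y)
    (hdim : topologicalKrullDim ↑(f.fiber y) ≤ 1) (hH1 : Subsingleton (Coh.HH (f.fiber y) (Coh.structureModule (f.fiber y)) 1)) :
    ∃ V : Y.Opens, y ∈ V ∧ ∀ (Y' : Scheme.{u}) (g : Y' ⟶ (V : Scheme.{u})) (U : Y'.Opens), IsAffineOpen U →
      Subsingleton (Coh.HHon (pullback f (g ≫ V.ι)) (Coh.structureModule (pullback f (g ≫ V.ι))) (pullback.snd f (g ≫ V.ι) ⁻¹ᵁ U) 1) := by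
  obtain ⟨W, Z, j, k, q, hG⟩ := Groth.Agent.FlatMor.CechH1.exists_goodChart f y hdim hH1
  haveI := hG.openImm
  refine ⟨j.opensRange, hG.mem, fun Y' g U hU => ?_⟩
  haveI : IsAffine U.toScheme := hU
  let P := pullback f (g ≫ j.opensRange.ι)
  let O' := pullback.snd f (g ≫ j.opensRange.ι) ⁻¹ᵁ U
  have hO : IsPullback (O'.ι ≫ pullback.fst f (g ≫ j.opensRange.ι))
      (pullback.snd f (g ≫ j.opensRange.ι) ∣_ U) f (U.ι ≫ g ≫ j.opensRange.ι) :=
    (isPullback_morphismRestrict _ U).flip.paste_horiz (IsPullback.of_hasPullback f _)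
  have hr : Set.range (U.ι ≫ g ≫ j.opensRange.ι) ⊆ Set.range j := by
    rintro _ ⟨u, rfl⟩
    exact (g (U.ι u)).2
  let b := IsOpenImmersion.lift j _ hr
  have hb : b ≫ j = U.ι ≫ g ≫ j.opensRange.ι := IsOpenImmersion.lift_fac _ _ _
  let a := hG.sq.lift (O'.ι ≫ pullback.fst f (g ≫ j.opensRange.ι))
    ((pullback.snd f (g ≫ j.opensRange.ι) ∣_ U) ≫ b) (by rw [Category.assoc, Category.assoc, hb]; exact (Category.assoc _ _ _).symm.trans hO.w)
  have hsq : IsPullback a (pullback.snd f (g ≫ j.opensRange.ι) ∣_ U) q b :=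
    IsPullback.of_right (by rw [hG.sq.lift_fst, hb]; exact hO) (hG.sq.lift_snd _ _ _) hG.sq
  haveI := hG.subsingleton b a _ hsq
  exact (Groth.Agent.CohLin.hIso (X := O'.toScheme)
    (Scheme.Modules.restrictUnitIso O'.ι) 1).toEquiv.subsingleton

end Groth.Agent.S1367
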