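import Groth.Statements.S13682
import Mathlib
-- import your own Groth.Agent.* helpers here

set_option autoImplicit false
universe u v w
open scoped BigOperators
open BTGrp

namespace Groth.Agent.S13682

section
variable {A : Type u} [CommRing A] {N : Type w} [AddCommGroup N] [Module A N]

/-- the mixed sum -/
def T {r : ℕ} {M : Fin r → Type v} [∀ i, AddCommGroup (M i)] [∀ i, Module A (M i)]
    (φ : MultilinearMap A M N) (a b B : ∀ i, M i) : N :=
  ∑ i : Fin r, φ (fun k => if k < i then b k else if k = i then B k else a k)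

lemma T_succ {r : ℕ} {M : Fin (r + 1) → Type v} [∀ i, AddCommGroup (M i)] [∀ i, Module A (M i)]
    (φ : MultilinearMap A M N) (a b B : ∀ i, M i) :
    T φ a b B = φ.curryLeft (B 0) (Fin.tail a) +
      T (φ.curryLeft (b 0)) (Fin.tail a) (Fin.tail b) (Fin.tail B) := by
  unfold T
  rw [Fin.sum_univ_succ]
  congr 1
  · refine congrArg φ (funext (Fin.cases ?_ (fun k => ?_)))
    · simp
    · simp [Fin.tail, Fin.succ_ne_zero]
  · refine Finset.sum_congr rfl (fun i _ => congrArg φ (funext (Fin.cases ?_ (fun k => ?_))))
    · simp [Fin.succ_pos]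
    · simp [Fin.tail, Fin.succ_lt_succ_iff, Fin.succ_inj]

lemma T_tele {r : ℕ} : ∀ {M : Fin r → Type v} [∀ i, AddCommGroup (M i)] [∀ i, Module A (M i)]
    (φ : MultilinearMap A M N) (α : A) (a b B : ∀ i, M i), (∀ i, b i = a i + α • B i) →
    φ b = φ a + α • T φ a b B := by
  induction r with
  | zero =>
    intro M _ _ φ α a b B _
    simp [T, Subsingleton.elim a b]
  | succ r ih =>
    intro M _ _ φ α a b B h
    have e : ∀ x : ∀ i, M i, φ.curryLeft (x 0) (Fin.tail x) = φ x := fun x => by simp
    rw [T_succ, ← e b, ih (φ.curryLeft (b 0)) α (Fin.tail a) (Fin.tail b) (Fin.tail B) (fun i => h i.succ)]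
    conv_lhs => arg 1; rw [h 0, map_add, map_smul, MultilinearMap.add_apply,
      MultilinearMap.smul_apply, e a]
    rw [smul_add, ← add_assoc]

lemma T_lin {r : ℕ} {M : Fin r → Type v} [∀ i, AddCommGroup (M i)] [∀ i, Module A (M i)]
    (φ ψ : MultilinearMap A M N) (α : A) (a b B : ∀ i, M i) :
    T (φ + α • ψ) a b B = T φ a b B + α • T ψ a b B := by
  simp [T, Finset.sum_add_distrib, Finset.smul_sum]

lemma T_add {r : ℕ} : ∀ {M : Fin r → Type v} [∀ i, AddCommGroup (M i)] [∀ i, Module A (M i)]
    (φ : MultilinearMap A M N) (α : A) (a b c B y : ∀ i, M i), (∀ i, b i = a i + α • B i) →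
    (∀ i, c i = b i + α • y i) →
    T φ a c (fun i => B i + y i) = T φ a b B + T φ b c y := by
  induction r with
  | zero => intros; simp [T]
  | succ r ih =>
    intro M _ _ φ α a b c B y h h'
    rw [T_succ, T_succ, T_succ]
    simp only [map_add, MultilinearMap.add_apply]
    rw [show Fin.tail (fun i => B i + y i) = fun i => Fin.tail B i + Fin.tail y i from rfl,
      ih _ α (Fin.tail a) (Fin.tail b) (Fin.tail c) (Fin.tail B) (Fin.tail y) (fun i => h i.succ) (fun i => h' i.succ)]
    have hc : φ.curryLeft (c 0) = φ.curryLeft (b 0) + α • φ.curryLeft (y 0) := by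
      rw [h' 0, map_add, map_smul]
    have hT := T_lin (φ.curryLeft (b 0)) (φ.curryLeft (y 0)) α (Fin.tail a) (Fin.tail b) (Fin.tail B)
    rw [← hc] at hT
    rw [hT, T_tele (φ.curryLeft (y 0)) α (Fin.tail a) (Fin.tail b) (Fin.tail B) (fun i => h i.succ)]
    abel

end


/-- Let A be a commutative ring, α ∈ A a non-zero-divisor, M_1, …, M_r and N modules over A and φ : M_1
× ⋯ × M_r → N an A-multilinear map. Let n be a natural number and let y_{i,j} (j < n) and w_{i,j} (j
≤ n) be elements of M_i with w_{i,j+1} = w_{i,j} + α y_{i,j} for all i and all j < n. Then Σ_i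
Σ_{j<n} φ(w_{1,j+1}, …, w_{i-1,j+1}, y_{i,j}, w_{i+1,j}, …, w_{r,j}) = Σ_i Σ_{j<n} φ(w_{1,n}, …,
w_{i-1,n}, y_{i,j}, w_{i+1,0}, …, w_{r,0}). (The published statement takes n ≥ 1; for n = 0 both
sides are empty sums. The families y, w are indexed by all natural numbers here and only the indices
named above enter.) -/
theorem result {A : Type u} [CommRing A] (α : A) (hα : α ∈ nonZeroDivisors A)
    {r : ℕ} (M : Fin r → Type v) (N : Type w) [∀ i, AddCommGroup (M i)] [∀ i, Module A (M i)]
    [AddCommGroup N] [Module A N] (φ : MultilinearMap A M N) (n : ℕ)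
    (y w : ∀ i, ℕ → M i) (hw : ∀ i, ∀ j < n, w i (j + 1) = w i j + α • y i j) :
    (∑ i : Fin r, ∑ j ∈ Finset.range n,
        φ (fun k => if k < i then w k (j + 1) else if k = i then y k j else w k j)) =
      ∑ i : Fin r, ∑ j ∈ Finset.range n,
        φ (fun k => if k < i then w k n else if k = i then y k j else w k 0) := by
  have key : ∀ j, j ≤ n → T φ (fun k => w k 0) (fun k => w k j) (fun k => ∑ l ∈ Finset.range j, y k l) =
      ∑ l ∈ Finset.range j, T φ (fun k => w k l) (fun k => w k (l + 1)) (fun k => y k l) := by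
    intro j hj
    induction j with
    | zero =>
      rw [Finset.sum_range_zero]
      exact Finset.sum_eq_zero (fun i _ => φ.map_coord_zero i (by simp))
    | succ j ih =>
      have hB : ∀ k, w k j = w k 0 + α • ∑ l ∈ Finset.range j, y k l := by
        intro k
        clear ih
        induction j with
        | zero => simp
        | succ j ih => rw [Finset.sum_range_succ, smul_add, ← add_assoc, ← ih (by omega), hw k j (by omega)]
      rw [Finset.sum_range_succ, ← ih (by omega),
        ← T_add φ α _ _ _ _ _ hB (fun k => hw k j (by omega))]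
      congr 1
      funext k
      exact Finset.sum_range_succ _ _
  rw [Finset.sum_comm]
  refine (key n le_rfl).symm.trans ?_
  unfold T
  refine Finset.sum_congr rfl (fun i _ => ?_)
  have hu : ∀ z : M i, (fun k => if k < i then w k n else if k = i then Function.update (fun k => w k 0) i z k else w k 0) =
      Function.update (fun k => if k < i then w k n else w k 0) i z := by
    intro z
    funext k
    by_cases h : k = i
    · subst h; simp
    · simp [h]
  have hl : (fun k => if k < i then w k n else if k = i then ∑ l ∈ Finset.range n, y k l else w k 0) =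
      Function.update (fun k => if k < i then w k n else w k 0) i (∑ l ∈ Finset.range n, y i l) := by
    funext k
    by_cases h : k = i
    · subst h; simp
    · simp [h]
  rw [hl, φ.map_update_sum]
  refine Finset.sum_congr rfl (fun l _ => congrArg φ ?_)
  funext k
  by_cases h : k = i
  · subst h; simp
  · simp [h]

end Groth.Agent.S13682
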