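import Groth.Statements.S13685
import Groth.Agent.DispLib.ExtPow
-- import your own Groth.Agent.* helpers here

set_option autoImplicit false
universe u v w
open Disp

namespace Groth.Agent.S13685

/-- Let p be a prime, R a commutative ring, W its ring of p-typical Witt vectors, D = (P, Q, F, V⁻¹) a
3n-display over R with a normal decomposition P = L ⊕ T, Q = L + I_R T in which T is free of rank
one over W, and E the 3n-display structure on ⋀^r P whose distinguished submodule is spanned by the
wedges of elements of Q and whose V⁻¹ sends q_1 ∧ ⋯ ∧ q_r to V⁻¹q_1 ∧ ⋯ ∧ V⁻¹q_r. Then the wedge map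
λ : P^r → ⋀^r P is an alternating multilinear morphism of 3n-displays from D to E, and for every
3n-display D' = (P', Q', F', V'⁻¹) and every alternating multilinear morphism of 3n-displays φ : P^r
→ P' (W-multilinear alternating, φ(Q^r) ⊆ Q', V'⁻¹(φ(q)) = φ(V⁻¹q_1, …, V⁻¹q_r), F'(φ(q_1, …, x_i,
…, q_r)) = φ(V⁻¹q_1, …, F x_i, …, V⁻¹q_r)) there is a unique W-linear ψ : ⋀^r P → P' that is a
morphism of 3n-displays from E to D' (ψ maps E's submodule into Q' and commutes with F and V⁻¹) with
ψ ∘ λ = φ. (The published statement has T projective of rank one; this row takes T free of rank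
one.) -/
theorem result (p : ℕ) [Fact p.Prime] (R : Type u) [CommRing R]
    (P : Type v) [AddCommGroup P] [Module (WittVector p R) P] (D : W4c1extbt610.Display3n p R P)
    (hT : ∃ L T : Submodule (WittVector p R) P, IsCompl L T ∧ D.Q = L ⊔ W4c1extbt610.IV p R • T ∧
      Nonempty (T ≃ₗ[WittVector p R] WittVector p R))
    (r : ℕ) (E : W4c1extbt610.Display3n p R (⋀[WittVector p R]^r P)) (hE : W4c1extbt610.IsExtPow D r E) :
    W4c1extbt610.IsAltMult D E (exteriorPower.ιMulti (WittVector p R) r) ∧
      ∀ (P' : Type w) [AddCommGroup P'] [Module (WittVector p R) P'] (D' : W4c1extbt610.Display3n p R P')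
        (φ : P [⋀^Fin r]→ₗ[WittVector p R] P'), W4c1extbt610.IsAltMult D D' φ →
        ∃! ψ : ⋀[WittVector p R]^r P →ₗ[WittVector p R] P',
          W4c1extbt610.IsHom E D' ψ ∧ ψ.compAlternatingMap (exteriorPower.ιMulti (WittVector p R) r) = φ := by
  classical
  have hmem : ∀ q : Fin r → D.Q, exteriorPower.ιMulti (WittVector p R) r (fun i => (q i : P)) ∈ E.Q := fun q => by
    rw [hE.1]; exact Submodule.subset_span ⟨q, rfl⟩
  refine ⟨⟨hmem, fun q => hE.2 q _, fun i x q => ?_⟩, fun P' _ _ D' φ hφ => ?_⟩
  · have hx : WittVector.verschiebung (1 : WittVector p R) • x ∈ D.Q :=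
      D.IV_smul_le (Submodule.smul_mem_smul (W4c1extbt610.verschiebung_mem_IV p R 1) Submodule.mem_top)
    let q' := Function.update q i ⟨_, hx⟩
    rw [← one_smul (WittVector p R) (E.F _), ← E.Vinv_verschiebung_smul]
    have e : WittVector.verschiebung (1 : WittVector p R) • exteriorPower.ιMulti (WittVector p R) r (Function.update (fun j => (q j : P)) i x) =
        exteriorPower.ιMulti (WittVector p R) r (fun j => (q' j : P)) := by
      rw [← AlternatingMap.map_update_smul]
      congr 1
      funext j
      rcases eq_or_ne j i with rfl | h <;> simp [q', *]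
    simp only [e]
    refine (hE.2 q' (hmem q')).trans ?_
    congr 1
    funext j
    rcases eq_or_ne j i with rfl | h
    · simp only [q', Function.update_self]
      exact Groth.Agent.DispLib.Vinv_one_smul D x hx
    · simp [q', h]
  · let ψ := exteriorPower.alternatingMapLinearEquiv φ
    have hψ : ∀ v, ψ (exteriorPower.ιMulti (WittVector p R) r v) = φ v :=
      exteriorPower.alternatingMapLinearEquiv_apply_ιMulti φ
    have key : ∀ x, x ∈ E.Q → ∀ hx : x ∈ E.Q, ∃ h' : ψ x ∈ D'.Q, ψ (E.Vinv ⟨x, hx⟩) = D'.Vinv ⟨ψ x, h'⟩ := by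
      intro x hx'
      rw [hE.1] at hx'
      induction hx' using Submodule.span_induction with
      | mem y hy =>
        obtain ⟨q, rfl⟩ := hy
        intro hy'
        refine ⟨by rw [hψ]; exact hφ.mapsTo q, ?_⟩
        rw [hE.2 q hy', hψ, ← hφ.vCond q]
        exact congrArg D'.Vinv (Subtype.ext (hψ _).symm)
      | zero =>
        intro _
        refine ⟨by rw [map_zero]; exact zero_mem _, ?_⟩
        exact ((congrArg ψ (map_zero E.Vinv)).trans (map_zero ψ)).trans
          ((map_zero D'.Vinv).symm.trans (congrArg D'.Vinv (Subtype.ext (map_zero ψ).symm)))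
      | add a b ha hb iha ihb =>
        intro _
        have ha1 : a ∈ E.Q := by rw [hE.1]; exact ha
        have hb1 : b ∈ E.Q := by rw [hE.1]; exact hb
        obtain ⟨ha2, ea⟩ := iha ha1
        obtain ⟨hb2, eb⟩ := ihb hb1
        refine ⟨by rw [map_add]; exact add_mem ha2 hb2, ?_⟩
        refine ((congrArg ψ (map_add E.Vinv ⟨a, ha1⟩ ⟨b, hb1⟩)).trans (map_add ψ _ _)).trans ?_
        rw [ea, eb, ← map_add]
        exact congrArg D'.Vinv (Subtype.ext (map_add ψ a b).symm)
      | smul c a ha iha =>
        intro _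
        have ha1 : a ∈ E.Q := by rw [hE.1]; exact ha
        obtain ⟨ha2, ea⟩ := iha ha1
        refine ⟨by rw [map_smul]; exact Submodule.smul_mem _ _ ha2, ?_⟩
        refine ((congrArg ψ (map_smulₛₗ E.Vinv c ⟨a, ha1⟩)).trans (map_smul ψ _ _)).trans ?_
        rw [ea, ← map_smulₛₗ]
        exact congrArg D'.Vinv (Subtype.ext (map_smul ψ c a).symm)
    refine ⟨ψ, ⟨⟨fun x hx => (key x hx hx).1, fun x => ?_, fun x => (key x x.2 x.2).2⟩, ?_⟩, fun ψ' hψ' => ?_⟩
    · rw [← one_smul (WittVector p R) (E.F x), ← E.Vinv_verschiebung_smul, ← one_smul (WittVector p R) (D'.F _),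
        ← D'.Vinv_verschiebung_smul]
      exact (key _ (E.IV_smul_le (Submodule.smul_mem_smul (W4c1extbt610.verschiebung_mem_IV p R 1) Submodule.mem_top)) _).2.trans
        (congrArg D'.Vinv (Subtype.ext (map_smul ψ _ x)))
    · exact exteriorPower.alternatingMapLinearEquiv_comp_ιMulti φ
    · exact exteriorPower.linearMap_ext (hψ'.2.trans (exteriorPower.alternatingMapLinearEquiv_comp_ιMulti φ).symm)

end Groth.Agent.S13685
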