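import Groth.Statements.S13686
import Groth.Agent.DispLib.ExtPow
-- import your own Groth.Agent.* helpers here

set_option autoImplicit false
universe u v
open Disp

namespace Groth.Agent.S13686

/-- Let p be a prime, R a nontrivial commutative ring, W its ring of p-typical Witt vectors and D = (P,
Q, F, V⁻¹) a 3n-display over R with a normal decomposition P = L ⊕ T, Q = L + I_R T in which L is
free of rank m and T is free of rank one over W (so P is free of rank m + 1, the height). For r ≥ 1
let E be the 3n-display structure on ⋀^r P whose distinguished submodule is spanned by the wedges of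
elements of Q and whose V⁻¹ acts factorwise on them. Then E admits a normal decomposition ⋀^r P = L'
⊕ T', with distinguished submodule L' + I_R T', in which T' is free of rank (m choose r−1) over W:
with h = m + 1 the height, the tangent module of the exterior power has rank (h−1 choose r−1). (The
published statement has T projective of rank one and P of height h; this row takes L and T free, R
nontrivial and r ≥ 1.) -/
theorem result (p : ℕ) [Fact p.Prime] (R : Type u) [CommRing R] [Nontrivial R]
    (P : Type v) [AddCommGroup P] [Module (WittVector p R) P] (D : W4c1extbt610.Display3n p R P) (m : ℕ)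
    (L T : Submodule (WittVector p R) P) (hLT : IsCompl L T) (hQ : D.Q = L ⊔ W4c1extbt610.IV p R • T)
    (hL : Module.Free (WittVector p R) L) (hLr : Module.finrank (WittVector p R) L = m)
    (hT : Nonempty (T ≃ₗ[WittVector p R] WittVector p R))
    (r : ℕ) (hr : 1 ≤ r) (E : W4c1extbt610.Display3n p R (⋀[WittVector p R]^r P)) (hE : W4c1extbt610.IsExtPow D r E) :
    ∃ L' T' : Submodule (WittVector p R) (⋀[WittVector p R]^r P), IsCompl L' T' ∧
      E.Q = L' ⊔ W4c1extbt610.IV p R • T' ∧ Module.Free (WittVector p R) T' ∧
      Module.finrank (WittVector p R) T' = m.choose (r - 1) := by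
  classical
  obtain ⟨e⟩ := hT
  have h := Groth.Agent.DispLib.isTangent_of_equiv D hLT hQ e
  set t : P := ((e.symm 1 : T) : P) with ht
  set π := e.toLinearMap.comp (T.projectionOnto L hLT.symm) with hπ
  have := D.finite
  have : Module.Finite (WittVector p R) L :=
    Module.Finite.of_surjective (L.projectionOnto T hLT) (Submodule.projectionOnto_surjective hLT)
  refine ⟨_, _, Groth.Agent.DispLib.isCompl_range_ker r h,
    hE.1.trans (Groth.Agent.DispLib.extQ_eq r h), ?_⟩
  let bL := (Module.finBasisOfFinrankEq (WittVector p R) L hLr)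
  let bT := (Module.Basis.singleton (Fin 1) (WittVector p R)).map e.symm
  let b : Module.Basis (Fin (m + 1)) (WittVector p R) P :=
    ((bL.prod bT).map (Submodule.prodEquivOfIsCompl L T hLT)).reindex finSumFinEquiv
  have hb1 : ∀ i : Fin m, Groth.Agent.DispLib.pL t π (b i.castSucc) = b i.castSucc := fun i => by
    refine Groth.Agent.DispLib.pL_eq_self ?_
    have : b i.castSucc = (bL i : P) := by
      simp only [b, Module.Basis.reindex_apply, Module.Basis.map_apply]
      rw [show finSumFinEquiv.symm i.castSucc = Sum.inl i from finSumFinEquiv_symm_apply_castAdd i]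
      simp
    rw [this, hπ, LinearMap.comp_apply, Submodule.projectionOnto_apply_of_mem_right hLT.symm (bL i).2, map_zero]
  have hb2 : Groth.Agent.DispLib.pL t π (b (Fin.last m)) = 0 := by
    have : b (Fin.last m) = t := by
      simp only [b, Module.Basis.reindex_apply, Module.Basis.map_apply]
      rw [show finSumFinEquiv.symm (Fin.last m) = Sum.inr 0 from finSumFinEquiv_symm_apply_natAdd 0]
      simp [bT, ht]
    rw [this, Groth.Agent.DispLib.pL_t h]
  let B := b.exteriorPower r
  let f := exteriorPower.map r (Groth.Agent.DispLib.pL t π)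
  have hf1 : ∀ s, Fin.last m ∈ s.1 → f (B s) = 0 := fun s hs => by
    rw [exteriorPower.basis_apply, exteriorPower.map_apply_ιMulti_family]
    obtain ⟨k, hk⟩ := (Set.powersetCard.mem_range_ofFinEmbEquiv_symm_iff_mem s _).2 hs
    exact AlternatingMap.map_coord_zero (exteriorPower.ιMulti (WittVector p R) r) k (by simp [hk, hb2])
  have hf2 : ∀ s, Fin.last m ∉ s.1 → f (B s) = B s := fun s hs => by
    rw [exteriorPower.basis_apply, exteriorPower.map_apply_ιMulti_family]
    simp only [exteriorPower.ιMulti_family]
    congr 1
    funext k
    have hk : Set.powersetCard.ofFinEmbEquiv.symm s k ≠ Fin.last m := fun hk =>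
      hs ((Set.powersetCard.mem_range_ofFinEmbEquiv_symm_iff_mem s _).1 ⟨k, hk⟩)
    obtain ⟨i, hi⟩ := Fin.exists_castSucc_eq.2 hk
    simp [← hi, hb1]
  let S : Set (Set.powersetCard (Fin (m + 1)) r) := {s | Fin.last m ∈ s.1}
  have hker : LinearMap.ker f = Submodule.span (WittVector p R) (B '' S) := by
    refine le_antisymm (fun x hx => ?_) (Submodule.span_le.2 ?_)
    · rw [B.mem_span_image]
      intro s hs
      rw [Finset.mem_coe, Finsupp.mem_support_iff] at hs
      by_contra hs'
      refine hs ?_
      have e1 : ∀ y, B.repr (f y) s = B.repr y s := fun y => by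
        have : (Finsupp.lapply s ∘ₗ B.repr.toLinearMap).comp f = Finsupp.lapply s ∘ₗ B.repr.toLinearMap :=
          B.ext fun u => by
            by_cases hu : Fin.last m ∈ u.1
            · have : u ≠ s := fun h => hs' (h ▸ hu)
              simp [hf1 u hu, Finsupp.single_eq_of_ne this.symm]
            · simp [hf2 u hu]
        exact LinearMap.congr_fun this y
      rw [← e1, LinearMap.mem_ker.1 hx, map_zero, Finsupp.zero_apply]
    · rintro _ ⟨s, hs, rfl⟩
      exact hf1 s hs
  let bK : Module.Basis S (WittVector p R) ↥(LinearMap.ker f) :=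
    (Module.Basis.span (B.linearIndependent.comp ((↑) : S → _) Subtype.val_injective)).map
      (LinearEquiv.ofEq _ _ (by rw [hker, Set.range_comp, Subtype.range_coe]))
  refine ⟨Module.Free.of_basis bK, ?_⟩
  rw [Module.finrank_eq_card_basis bK, ← Nat.card_eq_fintype_card]
  have h1 : Nat.card S = ((Finset.univ.powersetCard r).filter fun s : Finset (Fin (m + 1)) => Fin.last m ∈ s).card := by
    rw [← Nat.card_eq_finsetCard]
    exact Nat.card_congr
      { toFun := fun s => ⟨s.1.1, Finset.mem_filter.2 ⟨Finset.mem_powersetCard.2 ⟨Finset.subset_univ _, s.1.2⟩, s.2⟩⟩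
        invFun := fun s => ⟨⟨s.1, (Finset.mem_powersetCard.1 (Finset.mem_filter.1 s.2).1).2⟩, (Finset.mem_filter.1 s.2).2⟩
        left_inv := fun _ => rfl
        right_inv := fun _ => rfl }
  have h2 : ((Finset.univ.powersetCard r).filter fun s : Finset (Fin (m + 1)) => Fin.last m ∉ s) =
      (Finset.univ.erase (Fin.last m)).powersetCard r := by
    ext s
    simp [Finset.mem_powersetCard, Finset.subset_erase, and_comm]
  have h3 := Finset.card_filter_add_card_filter_not (s := (Finset.univ.powersetCard r)) fun s : Finset (Fin (m + 1)) => Fin.last m ∈ s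
  rw [h2, Finset.card_powersetCard, Finset.card_powersetCard, Finset.card_erase_of_mem (Finset.mem_univ _),
    Finset.card_univ, Fintype.card_fin, Nat.add_sub_cancel] at h3
  obtain ⟨k, rfl⟩ : ∃ k, r = k + 1 := ⟨r - 1, by omega⟩
  rw [Nat.choose_succ_succ'] at h3
  simp only [Nat.add_sub_cancel]
  omega

end Groth.Agent.S13686
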