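import Groth.Statements.S13689
import Groth.Agent.KSMod.Isotypic

set_option autoImplicit false
universe u
open CategoryTheory CategoryTheory.Limits AlgebraicGeometry
open ASBun

namespace Groth.Agent.S13689

open W4c1astiltbs12
open Groth.Agent

open W4c1astiltbs12 in
/-- Let X be proper over a field k, K an algebraic closure of k with projection π : X_K → X, and E a
nonzero finite locally free O_X-module which is absolutely rank-one-isotypical: π^*E ≅ L^{⊕r} for
some r and some invertible O_{X_K}-module L that is indecomposable (nonzero, and in any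
decomposition as a direct sum one summand is zero; for an invertible module this says X_K is
connected). Then E ≅ G^{⊕n} for some n and some indecomposable finite locally free O_X-module G, and
G is unique: any indecomposable G and G' with E ≅ G^{⊕n} and E ≅ G'^{⊕m} are isomorphic. (The
published statement assumes k infinite and X projective, and its extension in the text X proper and
geometrically integral; the argument uses only properness of X and indecomposability of the type L,
without which the structure sheaf of two points is a counterexample.) -/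
theorem result (k : Type u) [Field k] {X : Scheme.{u}}
    (p : X ⟶ Spec (CommRingCat.of k)) [IsProper p] (K : Type u) [Field K] [Algebra k K]
    [IsAlgClosure k K] (E : X.Modules) (hE : FlatMod.IsFinLocFree E) (hE0 : ¬ IsZero E)
    (L : (W4bk4gw11416.baseChange p K).Modules) (hL : PicF.IsInvertible L)
    (hLi : (¬ IsZero L ∧ ∀ A B : (W4bk4gw11416.baseChange p K).Modules, Nonempty (L ≅ A ⊞ B) → IsZero A ∨ IsZero B))
    (r : ℕ) (e : Nonempty (bcMod p K E ≅ pow L r)) :
    (∃ (G : X.Modules) (n : ℕ), FlatMod.IsFinLocFree G ∧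
      (¬ IsZero G ∧ ∀ A B : X.Modules, Nonempty (G ≅ A ⊞ B) → IsZero A ∨ IsZero B) ∧
      Nonempty (E ≅ pow G n)) ∧
    (∀ (G G' : X.Modules) (n m : ℕ),
      (¬ IsZero G ∧ ∀ A B : X.Modules, Nonempty (G ≅ A ⊞ B) → IsZero A ∨ IsZero B) →
      (¬ IsZero G' ∧ ∀ A B : X.Modules, Nonempty (G' ≅ A ⊞ B) → IsZero A ∨ IsZero B) →
      Nonempty (E ≅ pow G n) → Nonempty (E ≅ pow G' m) → Nonempty (G ≅ G')) := by
  haveI : Algebra.IsAlgebraic k K := IsAlgClosure.isAlgebraic
  haveI := KSMod.isLocallyNoetherian p
  have hEc := VBLib.isCoh_of_isFinLocFree hE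
  obtain ⟨e⟩ := e
  refine ⟨?_, fun G G' n m hG hG' ⟨eG⟩ ⟨eG'⟩ => ?_⟩
  · haveI := KSMod.isArtinian p E hEc
    obtain ⟨n, Gs, hGs, ⟨d⟩⟩ := KSMod.exists_dec E
    have hn := KSMod.pos_of_dec d hE0
    let G := Gs ⟨0, hn⟩
    have φ := fun i => KSMod.summands_iso p K hEc hLi (KSMod.powDec e) (hGs i) _ _ (d.inj_proj i)
      (hGs ⟨0, hn⟩) _ _ (d.inj_proj ⟨0, hn⟩)
    let d' : KSMod.Dec E (fun _ : Fin n => G) :=
      { inj := fun i => (φ i).some.inv ≫ d.inj i
        proj := fun i => d.proj i ≫ (φ i).some.hom
        inj_proj := fun i => by simp [reassoc_of% (d.inj_proj i)]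
        inj_proj_ne := fun i j h => by simp [reassoc_of% (d.inj_proj_ne i j h)]
        total := by simpa [G] using d.total }
    haveI : HasFiniteBiproducts X.Modules := Abelian.hasFiniteBiproducts
    exact ⟨G, n, KSMod.isFinLocFree_of_retract _ _ (d.inj_proj ⟨0, hn⟩) hE, hGs _,
      ⟨d'.iso ≪≫ biproduct.isoCoproduct _⟩⟩
  · have hn := KSMod.pos_of_dec (KSMod.powDec eG) hE0
    have hm := KSMod.pos_of_dec (KSMod.powDec eG') hE0
    exact KSMod.summands_iso p K hEc hLi (KSMod.powDec e) hG _ _ ((KSMod.powDec eG).inj_proj ⟨0, hn⟩)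
      hG' _ _ ((KSMod.powDec eG').inj_proj ⟨0, hm⟩)

end Groth.Agent.S13689
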