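import Groth.Statements.S1369
import Groth.Agent.Wt.RelAssGeneric

set_option autoImplicit false
universe u
open FlatMor

namespace Groth.Agent.S1369

open AlgebraicGeometry CategoryTheory Limits in
/-- Let f be of finite type with irreducible target, F a quasi-coherent module of finite type on the
source and U an open of the source. If some associated point of F restricted to the generic fibre is
not in U, then over some nonempty open of the target every fibre carries an associated point of F
(restricted to that fibre) outside U. -/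
theorem result {X Y : Scheme.{u}} (f : X ⟶ Y) [IrreducibleSpace ↑Y] [LocallyOfFiniteType f] [QuasiCompact f]
    (F : X.Modules) (hF : Coh.IsCoh F) (U : X.Opens)
    (h : ∃ x ∈ MoreMor.relAss f F, f x = genericPoint ↑Y ∧ x ∉ U) :
    ∃ V : Y.Opens, (V : Set ↑Y).Nonempty ∧ ∀ y ∈ V, ∃ x ∈ MoreMor.relAss f F, f x = y ∧ x ∉ U := by
  obtain ⟨x, hx, hfx, hxU⟩ := h
  obtain ⟨_, ⟨W, hW, rfl⟩, hη, -⟩ := Y.isBasis_affineOpens.exists_subset_of_mem_open
    (Set.mem_univ (genericPoint ↑Y)) isOpen_univ
  have := hF.1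
  obtain ⟨_, ⟨V, hV, rfl⟩, hxV, hVW⟩ := X.isBasis_affineOpens.exists_subset_of_mem_open
    (show x ∈ (f ⁻¹ᵁ W : X.Opens) from (congrArg (· ∈ W) hfx).mpr hη) (f ⁻¹ᵁ W).2
  obtain ⟨a, ha, hsp⟩ := Groth.Agent.Wt.RelAssRing.exists_forall_exists_relAss f F hW
    hV hF U hη x hxV hfx hxU hx hVW
  exact ⟨Y.basicOpen a, ⟨_, ha⟩, hsp⟩

end Groth.Agent.S1369
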