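import Groth.Statements.S13698
import Groth.Agent.PLaw.KerFinite

set_option autoImplicit false
universe u
open scoped TensorProduct
open ZeroCyc

namespace Groth.Agent.S13698

/-- Let F : B → A be a multiplicative polynomial law homogeneous of degree d over the commutative ring
A, on a commutative A-algebra B which is finite as an A-module, and let A' be a localization of A at
a submonoid M. Then the kernel of the base change of F to A' is the ideal of A' ⊗_A B generated by
the kernel of F: the kernel (hence the image of a family of zero-cycles) commutes with localization.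
(The published statement has no finiteness hypothesis on B and is false without one: for a suitable
algebra B that is not finitely generated the conditions cutting out the kernel at an element are
infinitely many elements of A annihilated by elements of M but by no single one, and the kernel of
the localised law is then strictly larger than the localised kernel; the published proof's reduction
to finite B does not go through. This row assumes B finite over A, the case that proof establishes.) -/
theorem result {A : Type u} [CommRing A] {B : Type u} [CommRing B] [Algebra A B]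
    [Module.Finite A B] {d : ℕ} (F : PolLaw.MulLaw A B A d) (M : Submonoid A) (A' : Type u) [CommRing A'] [Algebra A A']
    [IsLocalization M A'] :
    (PolLaw.ker F.law).map (Algebra.TensorProduct.includeRight : B →ₐ[A] A' ⊗[A] B) =
      PolLaw.kerBC F.law A' := by
  classical
  obtain ⟨m, g', hg'⟩ := Module.Finite.exists_fin (R := A) (M := B)
  let g : ULift.{u} (Fin m) → B := g' ∘ ULift.down
  have hg : Submodule.span A (Set.range g) = ⊤ := by
    rw [← hg', Set.range_comp, Function.Surjective.range_eq ULift.down_surjective, Set.image_univ]
  refine le_antisymm (PLaw.map_ker_le_kerBC F A') fun z hz => ?_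
  obtain ⟨t, b, hb⟩ : ∃ (t : M) (b : B), algebraMap A A' t • z = (1 : A') ⊗ₜ[A] b := by
    clear hz
    induction z using TensorProduct.induction_on with
    | zero => exact ⟨1, 0, by simp⟩
    | tmul a b =>
      obtain ⟨⟨c, t⟩, hc⟩ := IsLocalization.surj M a
      refine ⟨t, c • b, ?_⟩
      simp only [TensorProduct.smul_tmul', smul_eq_mul]
      rw [mul_comm, hc, Algebra.algebraMap_eq_smul_one, TensorProduct.smul_tmul]
    | add x y hx hy =>
      obtain ⟨t, b, hb⟩ := hx
      obtain ⟨t', b', hb'⟩ := hy
      refine ⟨t * t', (t' : A) • b + (t : A) • b', ?_⟩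
      rw [Submonoid.coe_mul, map_mul, smul_add, mul_smul (algebraMap A A' t) (algebraMap A A' t') y,
        hb', mul_comm, mul_smul, hb, algebraMap_smul, algebraMap_smul, TensorProduct.tmul_add,
        TensorProduct.tmul_smul, TensorProduct.tmul_smul]
  have hu : IsUnit (algebraMap A A' t) := IsLocalization.map_units A' t
  have h1 : (1 : A') ⊗ₜ[A] b ∈ PolLaw.kerBC F.law A' := by
    rw [← hb, Algebra.smul_def]
    exact Ideal.mul_mem_left _ _ hz
  -- the coefficients of the kernel polynomial of `b` die in `A'`
  have hP := PLaw.kerPoly_map F (g := g) A (Algebra.ofId A A') ((1 : A) ⊗ₜ[A] b)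
  rw [Algebra.TensorProduct.map_tmul, map_one, AlgHom.id_apply, PLaw.kerPoly_of_mem_kerBC F _ h1] at hP
  let P := PLaw.kerPoly F g A ((1 : A) ⊗ₜ[A] b)
  have hc : ∀ α, α ≠ 0 → ∃ s : M, (s : A) * P.coeff α = 0 := by
    intro α hα
    rw [← IsLocalization.map_eq_zero_iff M A']
    have := congrArg (fun q => MvPolynomial.coeff α q) hP
    simp only [MvPolynomial.coeff_map, MvPolynomial.coeff_one, if_neg (Ne.symm hα)] at this
    exact this.symm
  choose! s hs using hc
  let s' : M := ∏ α ∈ P.support, s α
  have hker : (s' : A) • b ∈ PolLaw.ker F.law := by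
    refine PLaw.mem_ker_of_mem_kerBC_self F (PLaw.mem_kerBC_of_kerPoly F A hg fun α hα => ?_)
    have h3 : PLaw.kerPoly F g A ((1 : A) ⊗ₜ[A] ((s' : A) • b)) =
        MvPolynomial.aeval (fun k => MvPolynomial.C (s' : A) * MvPolynomial.X k) P := by
      rw [PLaw.aeval_kerPoly, PLaw.kerPoly]
      congr 3
      simp only [Finset.sum_mul]
      refine Finset.sum_congr rfl fun k _ => ?_
      simp [← MvPolynomial.smul_eq_C_mul, TensorProduct.smul_tmul, TensorProduct.tmul_smul, mul_smul_comm]
    have h4 : MvPolynomial.aeval (fun k => MvPolynomial.C (s' : A) * MvPolynomial.X k) P =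
        ∑ β ∈ P.support, MvPolynomial.monomial β ((s' : A) ^ (β.sum fun _ e => e) * P.coeff β) := by
      conv_lhs => rw [P.as_sum, map_sum]
      refine Finset.sum_congr rfl fun β _ => ?_
      rw [MvPolynomial.aeval_monomial, MvPolynomial.algebraMap_eq, MvPolynomial.monomial_eq]
      simp only [mul_pow, ← map_pow]
      rw [Finsupp.prod, Finset.prod_mul_distrib, ← map_prod, Finset.prod_pow_eq_pow_sum,
        ← mul_assoc, ← map_mul, mul_comm (P.coeff β)]
      rfl
    rw [h3, h4, MvPolynomial.coeff_sum]
    refine Finset.sum_eq_zero fun β hβ => ?_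
    rw [MvPolynomial.coeff_monomial]
    split_ifs with hαβ
    · subst hαβ
      obtain ⟨r, hr⟩ : ∃ r, (s' : A) = r * s β := by
        refine ⟨((∏ γ ∈ P.support.erase β, s γ : M) : A), ?_⟩
        rw [← Submonoid.coe_mul, Finset.prod_erase_mul _ _ hβ]
      obtain ⟨e, he⟩ : ∃ e, (β.sum fun _ e => e) = e + 1 := Nat.exists_eq_succ_of_ne_zero fun h => hα <| by
        ext k
        by_contra hk
        exact hk (Finset.sum_eq_zero_iff.mp h k (Finsupp.mem_support_iff.mpr hk))
      have := hs β hα
      rw [he, pow_succ, hr]
      linear_combination ((r * (s β : A)) ^ e * r) * this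
    · rfl
  have hu' : IsUnit (algebraMap A A' s' * algebraMap A A' t) := (IsLocalization.map_units A' s').mul hu
  have : (algebraMap A A' s' * algebraMap A A' t) • z ∈
      (PolLaw.ker F.law).map (Algebra.TensorProduct.includeRight : B →ₐ[A] A' ⊗[A] B) := by
    rw [mul_smul, hb, algebraMap_smul, ← TensorProduct.tmul_smul]
    exact Ideal.mem_map_of_mem _ hker
  rw [Algebra.smul_def] at this
  exact ((Ideal.unit_mul_mem_iff_mem _ (hu'.map _)).mp this)

end Groth.Agent.S13698
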