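import Groth.Statements.S13700
import Groth.Agent.PLaw.KerCrit
import Groth.Agent.SplitAlg.Basic
import Mathlib.LinearAlgebra.Vandermonde
import Mathlib.RingTheory.Flat.FaithfullyFlat.Algebra
import Mathlib.LinearAlgebra.Matrix.NonsingularInverse
import Mathlib.Algebra.Polynomial.Derivative

set_option autoImplicit false
universe u
open scoped TensorProduct
open ZeroCyc

namespace Groth.Agent.S13700

/-- Descent of kernel membership along a faithfully flat algebra. -/
theorem mem_ker_of_mem_kerBC {A : Type u} [CommRing A] {B : Type u} [CommRing B] [Algebra A B]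
    {d : ℕ} (F : PolLaw.MulLaw A B A d) (D : Type u) [CommRing D] [Algebra A D] [Module.FaithfullyFlat A D]
    {b : B} (hb : (1 : D) ⊗ₜ[A] b ∈ PolLaw.kerBC F.law D) : b ∈ PolLaw.ker F.law := by
  intro S _ _ x w
  let φ : S →ₐ[A] D ⊗[A] S := Algebra.TensorProduct.includeRight
  have hinj : Function.Injective φ :=
    @Module.FaithfullyFlat.tensorProduct_mk_injective A D _ _ _ _ S (PLaw.toCommRing A S).toAddCommGroup _
  have h := hb (D ⊗[A] S) (φ.toLinearMap.rTensor B x) (φ.toLinearMap.rTensor B w)
  have e : φ.toLinearMap.rTensor B (x + w * (1 ⊗ₜ[A] b)) = φ.toLinearMap.rTensor B x +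
      φ.toLinearMap.rTensor B w * Algebra.TensorProduct.map (IsScalarTower.toAlgHom A D (D ⊗[A] S))
        (AlgHom.id A B) ((1 : D) ⊗ₜ[A] b) := by
    simp only [map_add, PolLaw.rTensor_algHom_apply, map_mul, Algebra.TensorProduct.map_tmul, map_one]
  rw [← e, ← PLaw.compat, ← PLaw.compat] at h
  apply (TensorProduct.rid A S).injective
  apply hinj
  have hn : ∀ y : S ⊗[A] A,
      φ (TensorProduct.rid A S y) = TensorProduct.rid A (D ⊗[A] S) (φ.toLinearMap.rTensor A y) := by
    intro y
    induction y using TensorProduct.induction_on with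
    | zero => simp
    | tmul a b => simp
    | add a b ha hb => simp only [map_add, ha, hb]
  rw [hn, hn, h]

/-- Let F : B → A be a multiplicative polynomial law homogeneous of degree d over the commutative ring
A, and let g ∈ A[X] be a monic polynomial which is separable (g and its derivative generate the unit
ideal), so that A' = A[X]/(g) is étale over A. Then the kernel of the base change of F to A' is the
ideal of A' ⊗_A B generated by the kernel of F. -/
theorem result {A : Type u} [CommRing A] {B : Type u} [CommRing B] [Algebra A B]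
    {d : ℕ} (F : PolLaw.MulLaw A B A d) (g : Polynomial A) (hg : g.Monic) (hsep : g.Separable) :
    (PolLaw.ker F.law).map (Algebra.TensorProduct.includeRight : B →ₐ[A] AdjoinRoot g ⊗[A] B) =
      PolLaw.kerBC F.law (AdjoinRoot g) := by
  classical
  refine le_antisymm ?_ ?_
  · rw [Ideal.map_le_iff_le_comap]
    intro b hb R _ _ _ _ x w
    rw [Algebra.TensorProduct.includeRight_apply, Algebra.TensorProduct.map_tmul, map_one, AlgHom.id_apply]
    exact hb R x w
  rcases subsingleton_or_nontrivial A with hA | hA
  · intro β _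
    haveI : Subsingleton (AdjoinRoot g ⊗[A] B) := Module.subsingleton A _
    rw [Subsingleton.elim β 0]
    exact Ideal.zero_mem _
  intro β hβ
  let n := g.natDegree
  let D := SplitAlg.Alg g n
  obtain ⟨bD⟩ := SplitAlg.nonempty_basis n g hg rfl
  haveI : Nonempty (Fin n.factorial) := ⟨⟨0, Nat.factorial_pos n⟩⟩
  haveI : Module.Free A D := .of_basis bD
  haveI : Nontrivial D := bD.repr.toEquiv.nontrivial
  let r : Fin n → D := SplitAlg.root g
  have hr : ∏ i, (Polynomial.X - Polynomial.C (r i)) = g.map (algebraMap A D) := SplitAlg.prod_root g n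
  have hroot : ∀ k, Polynomial.eval₂ (algebraMap A D) (r k) g = 0 := fun k => by
    rw [Polynomial.eval₂_eq_eval_map, ← hr, Polynomial.eval_prod]
    exact Finset.prod_eq_zero (Finset.mem_univ k) (by simp)
  -- the differences of the roots are units
  have hunit : ∀ k l, k ≠ l → IsUnit (r k - r l) := by
    intro k l hkl
    obtain ⟨a, b, hab⟩ := hsep
    have h1 := congrArg (Polynomial.eval₂ (algebraMap A D) (r k)) hab
    rw [Polynomial.eval₂_add, Polynomial.eval₂_mul, Polynomial.eval₂_mul, hroot, mul_zero, zero_add,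
      Polynomial.eval₂_one] at h1
    have hder : Polynomial.eval₂ (algebraMap A D) (r k) g.derivative =
        ∏ m ∈ Finset.univ.erase k, (r k - r m) := by
      rw [Polynomial.eval₂_eq_eval_map, ← Polynomial.derivative_map, ← hr,
        Polynomial.derivative_prod_finset, Polynomial.eval_finsetSum,
        Finset.sum_eq_single k]
      · rw [Polynomial.derivative_X_sub_C, mul_one, Polynomial.eval_prod]
        simp
      · intro m _ hm
        rw [Polynomial.eval_mul, Polynomial.eval_prod, Finset.prod_eq_zero
          (Finset.mem_erase.mpr ⟨hm.symm, Finset.mem_univ k⟩) (by simp), zero_mul]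
      · intro h
        exact absurd (Finset.mem_univ k) h
    rw [hder] at h1
    exact isUnit_of_dvd_unit (Finset.dvd_prod_of_mem (fun m => r k - r m) (Finset.mem_erase.mpr ⟨hkl.symm, Finset.mem_univ l⟩))
      (IsUnit.of_mul_eq_one_right _ h1)
  have hdet : IsUnit (Matrix.vandermonde r).det := by
    rw [Matrix.det_vandermonde]
    refine IsUnit.prod_iff.mpr fun i _ => IsUnit.prod_iff.mpr fun j hj => hunit j i ?_
    exact (Finset.mem_Ioi.mp hj).ne'
  -- expand `β` in the power basis
  let pb : Module.Basis (Fin n) A (AdjoinRoot g) := (AdjoinRoot.powerBasis' hg).basis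
  have hpb : ∀ j : Fin n, pb j = AdjoinRoot.root g ^ (j : ℕ) := fun j =>
    (AdjoinRoot.powerBasis' hg).basis_eq_pow j
  let c : Fin n → B := fun j => TensorProduct.lid A B ((pb.coord j).rTensor B β)
  have hβc : β = ∑ j : Fin n, (AdjoinRoot.root g ^ (j : ℕ)) ⊗ₜ[A] c j := by
    simp only [c, ← hpb]
    clear hβ c
    induction β using TensorProduct.induction_on with
    | zero => simp
    | tmul y b =>
      simp only [LinearMap.rTensor_tmul, TensorProduct.lid_tmul, TensorProduct.tmul_smul,
        TensorProduct.smul_tmul', ← TensorProduct.sum_tmul]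
      rw [show (∑ j, pb.coord j y • pb j) = y from pb.sum_repr y]
    | add y z hy hz =>
      simp only [map_add, TensorProduct.tmul_add, Finset.sum_add_distrib, ← hy, ← hz]
  -- push to the splitting algebra
  have hpush : ∀ k, (∑ j : Fin n, (r k ^ (j : ℕ)) ⊗ₜ[A] c j) ∈ PolLaw.kerBC F.law D := by
    intro k R _ _ _ _ x w
    let σ : AdjoinRoot g →ₐ[A] D := AdjoinRoot.liftAlgHom g (Algebra.ofId A D) (r k) (hroot k)
    letI : Algebra (AdjoinRoot g) R := ((IsScalarTower.toAlgHom A D R).comp σ).toRingHom.toAlgebra
    haveI : IsScalarTower A (AdjoinRoot g) R :=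
      IsScalarTower.of_algebraMap_eq' ((IsScalarTower.toAlgHom A D R).comp σ).comp_algebraMap.symm
    have h := hβ R x w
    rw [hβc, map_sum] at h
    rw [map_sum]
    simp only [Algebra.TensorProduct.map_tmul, AlgHom.id_apply] at h ⊢
    have hσ : ∀ j : Fin n, IsScalarTower.toAlgHom A (AdjoinRoot g) R (AdjoinRoot.root g ^ (j : ℕ)) =
        IsScalarTower.toAlgHom A D R (r k ^ (j : ℕ)) := by
      intro j
      change (IsScalarTower.toAlgHom A D R) (σ (AdjoinRoot.root g ^ (j : ℕ))) = _
      rw [map_pow, show σ (AdjoinRoot.root g) = r k from AdjoinRoot.lift_root (hroot k)]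
    simp only [hσ] at h
    exact h
  have hsingle : ∀ j, (1 : D) ⊗ₜ[A] c j ∈ PolLaw.kerBC F.law D := by
    intro j
    have e : (1 : D) ⊗ₜ[A] c j = ∑ k, ((Matrix.vandermonde r)⁻¹ j k) •
        ∑ l : Fin n, (r k ^ (l : ℕ)) ⊗ₜ[A] c l := by
      simp only [Finset.smul_sum, TensorProduct.smul_tmul', smul_eq_mul]
      rw [Finset.sum_comm]
      simp only [← TensorProduct.sum_tmul]
      have hinv : ∀ l : Fin n, ∑ k, (Matrix.vandermonde r)⁻¹ j k * r k ^ (l : ℕ) = if j = l then 1 else 0 := by
        intro l
        have := congrFun (congrFun (Matrix.nonsing_inv_mul _ hdet) j) l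
        simpa [Matrix.mul_apply, Matrix.one_apply] using this
      simp only [hinv]
      rw [Finset.sum_eq_single j (fun l _ hl => by rw [if_neg hl.symm, TensorProduct.zero_tmul])
        (fun h => absurd (Finset.mem_univ j) h), if_pos rfl]
    rw [e]
    refine Ideal.sum_mem _ fun k _ => ?_
    exact Submodule.smul_of_tower_mem _ _ (hpush k)
  rw [hβc]
  refine Ideal.sum_mem _ fun j _ => ?_
  have hker : c j ∈ PolLaw.ker F.law := mem_ker_of_mem_kerBC F D (hsingle j)
  have := Ideal.mul_mem_left _ ((AdjoinRoot.root g ^ (j : ℕ)) ⊗ₜ[A] (1 : B))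
    (Ideal.mem_map_of_mem (Algebra.TensorProduct.includeRight : B →ₐ[A] AdjoinRoot g ⊗[A] B) hker)
  simpa using this

end Groth.Agent.S13700
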