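import Groth.Statements.S13702
import Mathlib.RingTheory.AdjoinRoot
import Mathlib.LinearAlgebra.Vandermonde
import Mathlib.FieldTheory.Separable
import Mathlib.FieldTheory.IsAlgClosed.AlgebraicClosure
import Mathlib.LinearAlgebra.Determinant
import Mathlib.FieldTheory.Perfect
import Mathlib.RingTheory.LocalRing.ResidueField.Basic

set_option autoImplicit false
universe u
open ZeroCyc

namespace Groth.Agent.S13702

/-- Let A be a local ring with residue field of characteristic p > 0, let g ∈ A[X] be monic and
separable of degree n, so that A' = A[X]/(g) is an étale A-algebra, and let q = p^s with s ≥ 0. Then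
the powers 1, t^q, t^{2q}, …, t^{(n-1)q} of the class t of X form a basis of A' as an A-module. -/
theorem result {A : Type u} [CommRing A] [IsLocalRing A] (p : ℕ) [Fact p.Prime]
    [CharP (IsLocalRing.ResidueField A) p] (g : Polynomial A) (hg : g.Monic) (hsep : g.Separable) (s : ℕ) :
    ∃ b : Module.Basis (Fin g.natDegree) A (AdjoinRoot g),
      ∀ i : Fin g.natDegree, b i = AdjoinRoot.root g ^ (p ^ s * (i : ℕ)) := by
  classical
  let n := g.natDegree
  let pb : Module.Basis (Fin n) A (AdjoinRoot g) := (AdjoinRoot.powerBasis' hg).basis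
  have hpb : ∀ j : Fin n, pb j = AdjoinRoot.root g ^ (j : ℕ) := fun j =>
    (AdjoinRoot.powerBasis' hg).basis_eq_pow j
  let v : Fin n → AdjoinRoot g := fun i => AdjoinRoot.root g ^ (p ^ s * (i : ℕ))
  suffices h : IsUnit (pb.det v) by
    obtain ⟨hli, hsp⟩ := pb.is_basis_iff_det.mpr h
    exact ⟨Module.Basis.mk hli hsp.ge, fun i => Module.Basis.mk_apply hli hsp.ge i⟩
  let K := AlgebraicClosure (IsLocalRing.ResidueField A)
  let ψ : A →+* K := (algebraMap (IsLocalRing.ResidueField A) K).comp (IsLocalRing.residue A)
  have hmon : (g.map ψ).Monic := hg.map ψ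
  have hnd : (g.map ψ).roots.Nodup := Polynomial.nodup_roots hsep.map
  have hcard : (g.map ψ).roots.card = n := by
    rw [← (IsAlgClosed.splits (g.map ψ)).natDegree_eq_card_roots, hg.natDegree_map]
  let R := (g.map ψ).roots.toFinset
  have hR : R.card = n := by rw [Multiset.toFinset_card_of_nodup hnd, hcard]
  let α : Fin n → K := fun k => (R.equivFinOfCardEq hR).symm k
  have hinj : Function.Injective α := Subtype.val_injective.comp (Equiv.injective _)
  have hroot : ∀ k, g.eval₂ ψ (α k) = 0 := fun k => by
    have := ((R.equivFinOfCardEq hR).symm k).2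
    rw [Multiset.mem_toFinset, Polynomial.mem_roots hmon.ne_zero, Polynomial.IsRoot,
      Polynomial.eval_map] at this
    exact this
  let N : Matrix (Fin n) (Fin n) K := (pb.toMatrix v).map ψ
  have hW : Matrix.vandermonde (fun k => α k ^ p ^ s) = Matrix.vandermonde α * N := by
    ext k i
    let ev := AdjoinRoot.lift ψ (α k) (hroot k)
    have h1 : ev (v i) = (α k ^ p ^ s) ^ (i : ℕ) := by
      simp [ev, v, pow_mul]
    have h2 : ev (v i) = ∑ j : Fin n, α k ^ (j : ℕ) * ψ (pb.toMatrix v j i) := by
      conv_lhs => rw [← pb.sum_repr (v i)]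
      rw [map_sum]
      refine Finset.sum_congr rfl fun j _ => ?_
      rw [Algebra.smul_def, map_mul, hpb, map_pow ev, AdjoinRoot.algebraMap_eq, AdjoinRoot.lift_of,
        AdjoinRoot.lift_root, mul_comm]
      rfl
    rw [Matrix.vandermonde_apply, Matrix.mul_apply, ← h1, h2]
    rfl
  have hdet : N.det ≠ 0 := by
    haveI : CharP K p := charP_of_injective_algebraMap
      (algebraMap (IsLocalRing.ResidueField A) K).injective p
    have hne : (Matrix.vandermonde (fun k => α k ^ p ^ s)).det ≠ 0 :=
      Matrix.det_vandermonde_ne_zero_iff.mpr fun a b h => hinj (iterateFrobenius_inj K p s h)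
    rw [hW, Matrix.det_mul] at hne
    exact right_ne_zero_of_mul hne
  rw [← not_not (a := IsUnit (pb.det v))]
  intro hnu
  refine hdet ?_
  have h0 : ψ (pb.det v) = 0 := by
    change algebraMap _ K (IsLocalRing.residue A (pb.det v)) = 0
    rw [(IsLocalRing.residue_eq_zero_iff _).mpr hnu, map_zero]
  rw [Module.Basis.det_apply, RingHom.map_det] at h0
  exact h0

end Groth.Agent.S13702
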