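import Groth.Statements.S13703
import Groth.Agent.PLaw.KerImage

set_option autoImplicit false
universe u
open scoped TensorProduct
open ZeroCyc

namespace Groth.Agent.S13703

/-- Let A be an integral domain, B a commutative A-algebra and F : B → A a multiplicative polynomial law
homogeneous of degree d. For every prime ideal P of B minimal among those containing the kernel of
F, the contraction of P to A is zero and every prime of A is the contraction of a prime of B
containing P. Geometrically: every irreducible component of the support of the family of zero-cycles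
on Spec B defined by F maps onto Spec A. (The published statement is over an arbitrary algebraic
space S, every irreducible component of the support mapping onto an irreducible component of S, and
its proof reduces to an integral affine base; this row is that case.) -/
theorem result {A : Type u} [CommRing A] [IsDomain A] {B : Type u} [CommRing B] [Algebra A B]
    {d : ℕ} (F : PolLaw.MulLaw A B A d) {P : Ideal B} (hP : P ∈ (PolLaw.ker F.law).minimalPrimes) :
    P.comap (algebraMap A B) = ⊥ ∧
      ∀ q : Ideal A, q.IsPrime → ∃ Q : Ideal B, Q.IsPrime ∧ P ≤ Q ∧ Q.comap (algebraMap A B) = q := by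
  let e := (Algebra.TensorProduct.lid A (PolLaw.image F.law)).toRingEquiv
  have hgen : GeneralizingMap (PrimeSpectrum.comap (algebraMap A (PolLaw.image F.law))) := by
    have h := (PLaw.generalizingMap_baseChange_image F (A' := A))
    have he : PrimeSpectrum.comap (algebraMap A (PolLaw.image F.law)) =
        PrimeSpectrum.comap (algebraMap A (A ⊗[A] PolLaw.image F.law)) ∘
          PrimeSpectrum.comap e.toRingHom := by
      funext q
      change _ = PrimeSpectrum.comap (algebraMap A _) (PrimeSpectrum.comap e.toRingHom q)
      rw [← PrimeSpectrum.comap_comp_apply]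
      congr 1
      exact ((Algebra.TensorProduct.lid A (PolLaw.image F.law)).toAlgHom.comp_algebraMap).symm
    rw [he]
    exact (PrimeSpectrum.homeomorphOfRingEquiv e.symm).isOpenEmbedding.generalizingMap.comp h
  have := PLaw.isIntegral_image F
  let K := PolLaw.ker F.law
  have hP' : P.IsPrime := hP.1.1
  have hKP : K ≤ P := hP.1.2
  have hPq : (P.map (Ideal.Quotient.mk K)).IsPrime :=
    Ideal.map_isPrime_of_surjective Ideal.Quotient.mk_surjective (by rwa [Ideal.mk_ker])
  have hcm : (P.map (Ideal.Quotient.mk K)).comap (Ideal.Quotient.mk K) = P := by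
    rw [Ideal.comap_map_of_surjective' _ Ideal.Quotient.mk_surjective, Ideal.mk_ker, sup_eq_left.mpr hKP]
  have hbot : P.comap (algebraMap A B) = ⊥ := by
    obtain ⟨q', hq', hq0⟩ := @hgen ⟨_, hPq⟩ ⟨(⊥ : Ideal A), Ideal.isPrime_bot⟩
      ((PrimeSpectrum.le_iff_specializes _ _).mp bot_le)
    have hle : q'.asIdeal ≤ P.map (Ideal.Quotient.mk K) :=
      (PrimeSpectrum.le_iff_specializes _ _).mpr hq'
    have h1 : q'.asIdeal.comap (Ideal.Quotient.mk K) = P := by
      refine le_antisymm ((Ideal.comap_mono hle).trans_eq hcm) (hP.2 ⟨?_, ?_⟩ ?_)
      · exact Ideal.IsPrime.comap _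
      · exact fun x hx => by
          rw [Ideal.mem_comap, Ideal.Quotient.eq_zero_iff_mem.mpr hx]
          exact zero_mem _
      · exact (Ideal.comap_mono hle).trans_eq hcm
    rw [← h1, Ideal.comap_comap]
    exact congrArg PrimeSpectrum.asIdeal hq0
  refine ⟨hbot, fun q hq => ?_⟩
  obtain ⟨Q, hQle, hQ, hQq⟩ := Ideal.exists_ideal_over_prime_of_isIntegral q (P.map (Ideal.Quotient.mk K))
    (by
      rw [show algebraMap A (PolLaw.image F.law) = (Ideal.Quotient.mk K).comp (algebraMap A B) from rfl,
        ← Ideal.comap_comap, hcm, hbot]
      exact bot_le)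
  refine ⟨Q.comap (Ideal.Quotient.mk K), Ideal.IsPrime.comap _, ?_, ?_⟩
  · rw [← hcm]; exact Ideal.comap_mono hQle
  · rw [Ideal.comap_comap]; exact hQq

end Groth.Agent.S13703
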