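import Groth.Statements.S13706
import Groth.Agent.PLaw.KerFinite
import Mathlib.RingTheory.TensorProduct.MvPolynomial

set_option autoImplicit false
universe u
open scoped TensorProduct
open ZeroCyc

namespace Groth.Agent.S13706

open Groth.Agent in
/-- The characteristic polynomial is natural in the test ring. -/
theorem chiOf_map {A : Type u} [CommRing A] {B : Type u} [CommRing B] [Algebra A B] {d : ℕ}
    (F : PolLaw.MulLaw A B A d) {R R' : Type u} [CommRing R] [Algebra A R] [CommRing R'] [Algebra A R']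
    (θ : R →ₐ[A] R') (z : R ⊗[A] B) :
    (PLaw.chiOf F R z).map θ.toRingHom =
      PLaw.chiOf F R' (Algebra.TensorProduct.map θ (AlgHom.id A B) z) := by
  let Θ : Polynomial R →ₐ[A] Polynomial R' := Polynomial.mapAlgHom θ
  change Θ _ = _
  rw [PLaw.chiOf, PLaw.chiOf, ← PLaw.rid_natural, PLaw.compatMap]
  congr 2
  rw [map_sub]
  congr 1
  · simp [Θ]
  · rw [← AlgHom.comp_apply, ← Algebra.TensorProduct.map_comp, ← AlgHom.comp_apply,
      ← Algebra.TensorProduct.map_comp]
    exact congrArg (fun f => Algebra.TensorProduct.map f (AlgHom.id A B) z)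
      (AlgHom.ext fun r => by simp [Θ])


/-- Let A be a commutative ring, B an A-algebra of finite type and F : B → A a multiplicative polynomial
law homogeneous of degree d. Then there is a finitely generated ideal J of B, contained in the
kernel of F and with the same radical; thus the support of the family of zero-cycles defined by F is
carried by a bijective closed immersion into Spec(B/J), a scheme of finite presentation over A. -/
theorem result {A : Type u} [CommRing A] {B : Type u} [CommRing B] [Algebra A B]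
    [Algebra.FiniteType A B] {d : ℕ} (F : PolLaw.MulLaw A B A d) :
    ∃ J : Ideal B, J.FG ∧ J ≤ PolLaw.ker F.law ∧ J.radical = (PolLaw.ker F.law).radical := by
  classical
  obtain ⟨s, hs⟩ := (inferInstance : Algebra.FiniteType A B).out
  let J0 : Ideal B := Ideal.span ((fun b => Polynomial.aeval b (PLaw.chi F b)) '' (s : Set B))
  have hJ0 : J0 ≤ PolLaw.ker F.law := Ideal.span_le.mpr (by
    rintro _ ⟨b, -, rfl⟩; exact PLaw.aeval_chi_mem_ker F b)
  have hfin : Module.Finite A (B ⧸ J0) := by
    refine ⟨?_⟩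
    rw [← Algebra.top_toSubmodule, ← (AlgHom.range_eq_top (Ideal.Quotient.mkₐ A J0)).mpr
      Ideal.Quotient.mk_surjective, ← Algebra.map_top, ← hs, AlgHom.map_adjoin]
    refine fg_adjoin_of_finite (s.finite_toSet.image _) ?_
    rintro _ ⟨b, hb, rfl⟩
    refine ⟨PLaw.chi F b, PLaw.monic_chi F b, ?_⟩
    rw [← Polynomial.aeval_def, Polynomial.aeval_algHom_apply]
    exact Ideal.Quotient.eq_zero_iff_mem.mpr (Ideal.subset_span ⟨b, hb, rfl⟩)
  obtain ⟨m, g', hg'⟩ := Module.Finite.exists_fin (R := A) (M := B ⧸ J0)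
  choose g0 hg0 using fun k => Ideal.Quotient.mk_surjective (g' k)
  let g : Fin m → B := g0
  let R := MvPolynomial (Fin m) A
  let z : R ⊗[A] B := ∑ k, (MvPolynomial.X k : R) ⊗ₜ[A] g k
  let E : R ⊗[A] B ≃ₐ[A] MvPolynomial (Fin m) B :=
    (Algebra.TensorProduct.comm A R B).trans ((MvPolynomial.algebraTensorAlgEquiv A B).restrictScalars A)
  let W := E (Polynomial.aeval z (PLaw.chiOf F R z))
  have hrad : ∀ α, W.coeff α ∈ (PolLaw.ker F.law).radical := by
    intro α
    rw [Ideal.radical_eq_sInf, Submodule.mem_sInf]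
    rintro q ⟨hq, hqp⟩
    have := hqp
    let Ψ : R ⊗[A] B →+* MvPolynomial (Fin m) (B ⧸ q) :=
      (MvPolynomial.map (Ideal.Quotient.mk q)).comp E.toAlgHom.toRingHom
    have hle : (PolLaw.ker F.law).map (Algebra.TensorProduct.includeRight : B →ₐ[A] R ⊗[A] B) ≤
        RingHom.ker Ψ := by
      rw [Ideal.map_le_iff_le_comap]
      intro b hb
      have : E ((1 : R) ⊗ₜ[A] b) = MvPolynomial.C b := by
        simp [E]
        erw [MvPolynomial.algebraTensorAlgEquiv_tmul]
        simp [MvPolynomial.smul_eq_C_mul]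
      simp [Ψ, RingHom.mem_ker, this, Ideal.Quotient.eq_zero_iff_mem.mpr (hq hb)]
    have : (RingHom.ker Ψ).IsPrime := RingHom.ker_isPrime Ψ
    have h0 : MvPolynomial.map (Ideal.Quotient.mk q) W = 0 :=
      PLaw.kerBC_le_of_isPrime F hle (PLaw.aeval_chiOf_mem_kerBC F R z)
    rw [← Ideal.Quotient.eq_zero_iff_mem, ← MvPolynomial.coeff_map, h0, MvPolynomial.coeff_zero]
  choose N hN using fun α => Ideal.mem_radical_iff.mp (hrad α)
  let J : Ideal B := J0 ⊔ Ideal.span ((fun α => W.coeff α ^ N α) '' (W.support : Set (Fin m →₀ ℕ)))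
  have hJle : J ≤ PolLaw.ker F.law := sup_le hJ0 (Ideal.span_le.mpr (by
    rintro _ ⟨α, -, rfl⟩; exact hN α))
  refine ⟨J, Submodule.FG.sup (Submodule.fg_span (s.finite_toSet.image _))
    (Submodule.fg_span (W.support.finite_toSet.image _)), hJle,
    le_antisymm (Ideal.radical_mono hJle) ?_⟩
  rw [Ideal.radical_le_radical_iff]
  intro b hb
  obtain ⟨a, ha⟩ := (Submodule.mem_span_range_iff_exists_fun A).mp
    (hg' ▸ Submodule.mem_top : Ideal.Quotient.mk J0 b ∈ Submodule.span A (Set.range g'))
  let b' := ∑ k, a k • g k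
  have hbb' : b - b' ∈ J0 := by
    rw [← Ideal.Quotient.eq, ← ha, ← Ideal.Quotient.mkₐ_eq_mk A]
    simp [b', g, map_sum, hg0]
  have hb' : b' ∈ PolLaw.ker F.law := by simpa using sub_mem hb (hJ0 hbb')
  let θ : R →ₐ[A] A := MvPolynomial.aeval a
  let Θ : R ⊗[A] B →ₐ[A] B := PLaw.pointOn ((Algebra.ofId A B).comp θ) (AlgHom.id A B)
  have hθX : ∀ k, θ (MvPolynomial.X k) = a k := fun k => MvPolynomial.aeval_X _ _
  have hz : Θ z = b' := by simp [Θ, hθX, z, b', Algebra.smul_def, Algebra.ofId_apply]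
  have h1 : Θ (Polynomial.aeval z (PLaw.chiOf F R z)) = b' ^ d := by
    have hmap : Algebra.TensorProduct.map θ (AlgHom.id A B) z = (1 : A) ⊗ₜ[A] b' := by
      simp [z, hθX, b', TensorProduct.tmul_sum, TensorProduct.tmul_smul, TensorProduct.smul_tmul']
    have h2 : (PLaw.chiOf F R z).map θ.toRingHom = Polynomial.X ^ d := by
      rw [chiOf_map F θ z, hmap, ← PLaw.chi_eq_chiOf, PLaw.chi_of_mem_ker F hb']
    rw [Polynomial.aeval_def, ← AlgHom.coe_toRingHom, Polynomial.hom_eval₂,
      show (Θ : R ⊗[A] B →+* B).comp (algebraMap R (R ⊗[A] B)) = (algebraMap A B).comp θ.toRingHom from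
        RingHom.ext fun r => by simp [Θ, Algebra.ofId_apply],
      ← Polynomial.eval₂_map, h2, Polynomial.eval₂_X_pow]
    exact congrArg (· ^ d) hz
  have hΘ : ∀ w, Θ w = MvPolynomial.eval (fun k => algebraMap A B (a k)) (E w) := fun w => by
    induction w using TensorProduct.induction_on with
    | zero => simp
    | tmul p c =>
      simp [E]
      erw [MvPolynomial.algebraTensorAlgEquiv_tmul]
      simp [Θ, θ, MvPolynomial.smul_eq_C_mul, MvPolynomial.eval_map, MvPolynomial.aeval_def,
        Algebra.ofId_apply, mul_comm]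
      exact congrArg (c * ·) (MvPolynomial.eval₂_comp_left (algebraMap A B) (RingHom.id A) a p)
    | add u v hu hv => simp only [map_add, hu, hv]
  have hmem : b' ^ d ∈ J.radical := by
    rw [← h1, hΘ]
    change MvPolynomial.eval _ W ∈ _
    rw [MvPolynomial.eval_eq]
    exact Ideal.sum_mem _ fun α hα => Ideal.mul_mem_right _ _ (Ideal.mem_radical_iff.mpr
      ⟨N α, Ideal.mem_sup_right (Ideal.subset_span ⟨α, hα, rfl⟩)⟩)
  have : b' ∈ J.radical := (Ideal.radical_isRadical J) ⟨d, hmem⟩
  simpa using add_mem (Ideal.le_radical (Ideal.mem_sup_left hbb' : b - b' ∈ J)) this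

end Groth.Agent.S13706
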