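import Groth.Statements.S13707
import Groth.Agent.PLaw.KerImage

set_option autoImplicit false
universe u
open scoped TensorProduct
open ZeroCyc

namespace Groth.Agent.S13707

/-- Let k be a field, B a commutative k-algebra and F : B → k a multiplicative polynomial law
homogeneous of degree d. Then the spectrum of B/ker F (the image of the family of zero-cycles of
degree d on Spec B defined by F) is a finite set of at most d closed points, and the residue field
at each of them has finite separable degree over k. -/
theorem result {k : Type u} [Field k] {B : Type u} [CommRing B] [Algebra k B]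
    {d : ℕ} (F : PolLaw.MulLaw k B k d) :
    Finite (PrimeSpectrum (PolLaw.image F.law)) ∧ Nat.card (PrimeSpectrum (PolLaw.image F.law)) ≤ d ∧
      ∀ P : PrimeSpectrum (PolLaw.image F.law), P.asIdeal.IsMaximal ∧
        Finite (Field.Emb k P.asIdeal.ResidueField) := by
  let e := (Algebra.TensorProduct.lid k (PolLaw.image F.law)).toRingEquiv
  obtain ⟨s, hs⟩ := PLaw.exists_fibre_points F (A' := k) ⊥
  let t : Fin d → PrimeSpectrum (PolLaw.image F.law) := fun i => PrimeSpectrum.comap e.symm.toRingHom (s i)
  have hsurj : Function.Surjective t := fun q => by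
    obtain ⟨i, hi⟩ := hs (PrimeSpectrum.comap e.toRingHom q) (Subsingleton.elim _ _)
    refine ⟨i, ?_⟩
    simp only [t, hi, ← PrimeSpectrum.comap_comp_apply]
    simp
  refine ⟨Finite.of_surjective _ hsurj,
    (Nat.card_le_card_of_surjective _ hsurj).trans_eq (Nat.card_fin d), fun P => ?_⟩
  have := PLaw.isIntegral_image F
  have hmax : P.asIdeal.IsMaximal :=
    Ideal.isMaximal_of_isIntegral_of_isMaximal_comap (R := k) P.asIdeal (by
      rw [show P.asIdeal.comap (algebraMap k (PolLaw.image F.law)) = ⊥ from
        (Ideal.eq_bot_or_top _).resolve_right (Ideal.IsPrime.comap _).ne_top]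
      exact Ideal.bot_isMaximal)
  refine ⟨hmax, ?_⟩
  let L := P.asIdeal.ResidueField
  obtain ⟨x, hx⟩ := PLaw.exists_isPoints F (AlgebraicClosure L)
  let q : B →ₐ[k] L := (IsScalarTower.toAlgHom k (PolLaw.image F.law) L).comp (Ideal.Quotient.mkₐ k _)
  have : ∀ σ : Field.Emb k L, ∃ i, x i = AlgHom.comp σ q := fun σ =>
    hx.exists_eq F _ fun b hb => by simp [q, Ideal.Quotient.eq_zero_iff_mem.mpr hb]
  choose idx hidx using this
  refine Finite.of_injective idx fun σ τ h => ?_
  have h' : AlgHom.comp σ q = AlgHom.comp τ q := by rw [← hidx σ, ← hidx τ, h]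
  refine AlgHom.coe_ringHom_injective (Ideal.ResidueField.ringHom_ext (RingHom.ext fun z => ?_))
  obtain ⟨b, rfl⟩ := Ideal.Quotient.mk_surjective z
  exact AlgHom.congr_fun h' b

end Groth.Agent.S13707
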