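import Groth.Statements.S13708
import Mathlib

set_option autoImplicit false
universe u
open CategoryTheory CategoryTheory.Limits AlgebraicGeometry
open ZeroCyc

namespace Groth.Agent.S13708

/-- Let X be a scheme over S such that every finite set of points of X over a common point of S lies in
some affine open subscheme of X (the condition (AF)). Then X is separated over S. (The published
condition (AF) asks for an open U with U → S quasi-affine rather than U affine; with U affine, as
here, the same argument applies verbatim, and the two conditions agree over a quasi-separated base.) -/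
theorem result {X S : Scheme.{u}} (f : X ⟶ S) (hX : SymProd.IsAF f) :
    IsSeparated f := by
  refine ⟨IsClosedImmersion.of_isPreimmersion _ ?_⟩
  refine isClosed_of_closure_subset fun z hz => ?_
  classical
  obtain ⟨U, hU, hmem⟩ := hX (f (pullback.fst f f z)) {pullback.fst f f z, pullback.snd f f z} (by
    intro x hx
    rcases Finset.mem_insert.mp hx with rfl | hx
    · rfl
    · rw [Finset.mem_singleton.mp hx, ← Scheme.Hom.comp_apply, ← pullback.condition]
      rfl)
  have h1 := hmem _ (Finset.mem_insert_self _ _)
  have h2 := hmem _ (Finset.mem_insert_of_mem (Finset.mem_singleton_self _))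
  haveI : IsAffine U.toScheme := hU
  let j := pullback.map (U.ι ≫ f) (U.ι ≫ f) f f U.ι U.ι (𝟙 S) (by simp) (by simp)
  have hrange : Set.range j = pullback.fst f f ⁻¹' (U : Set X) ∩ pullback.snd f f ⁻¹' (U : Set X) := by
    rw [Scheme.Pullback.range_map]
    simp
  obtain ⟨w, rfl⟩ : z ∈ Set.range j := by rw [hrange]; exact ⟨h1, h2⟩
  haveI : IsSeparated (U.ι ≫ f) := inferInstance
  have hd : pullback.diagonal (U.ι ≫ f) ≫ j = U.ι ≫ pullback.diagonal f := by
    refine pullback.hom_ext ?_ ?_ <;>
      simp only [j, pullback.map, Category.assoc, pullback.lift_fst, pullback.lift_snd, pullback.diagonal_fst, pullback.diagonal_snd, pullback.diagonal_fst_assoc, pullback.diagonal_snd_assoc, Category.comp_id]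
  have hpre : j ⁻¹' Set.range (pullback.diagonal f) ⊆ Set.range (pullback.diagonal (U.ι ≫ f)) := by
    rintro v ⟨x, hx⟩
    have hxU : x ∈ U := by
      have := congrArg (pullback.fst f f) hx
      rw [← Scheme.Hom.comp_apply, pullback.diagonal_fst, ← Scheme.Hom.comp_apply, pullback.lift_fst] at this
      simp only [Scheme.Hom.id_base, TopCat.id_app] at this
      rw [this]
      exact (pullback.fst (U.ι ≫ f) (U.ι ≫ f) v).2
    refine ⟨⟨x, hxU⟩, j.isOpenEmbedding.injective ?_⟩
    rw [← Scheme.Hom.comp_apply, hd, Scheme.Hom.comp_apply, ← hx]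
    rfl
  have hw : w ∈ closure (j ⁻¹' Set.range (pullback.diagonal f)) := by
    rw [← j.isOpenEmbedding.isOpenMap.preimage_closure_eq_closure_preimage j.continuous]
    exact hz
  have hcl : IsClosed (Set.range (pullback.diagonal (U.ι ≫ f))) :=
    (pullback.diagonal (U.ι ≫ f)).isClosedEmbedding.isClosed_range
  obtain ⟨v, rfl⟩ := (hcl.closure_subset_iff.mpr hpre) hw
  exact ⟨U.ι v, by rw [← Scheme.Hom.comp_apply, ← hd]; rfl⟩

end Groth.Agent.S13708
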