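import Groth.Statements.S1371
import Groth.Agent.Wt.HochsterRoberts

set_option autoImplicit false
universe u
open FlatMor

namespace Groth.Agent.S1371

/-- Let R be a Noetherian domain, R → A → B ring maps of finite type, M a finite A-module, N a finite
B-module and u : M → N an A-linear map. Then there is a nonzero f in R such that the cokernel of u,
localized at f, is a flat module over R[1/f]. -/
theorem result {R A B : Type u} [CommRing R] [IsDomain R] [IsNoetherianRing R] [CommRing A] [CommRing B]
    [Algebra R A] [Algebra A B] [Algebra R B] [IsScalarTower R A B] [Algebra.FiniteType R A] [Algebra.FiniteType A B]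
    {M N : Type u} [AddCommGroup M] [Module A M] [Module R M] [IsScalarTower R A M] [Module.Finite A M]
    [AddCommGroup N] [Module B N] [Module A N] [Module R N] [IsScalarTower A B N] [IsScalarTower R A N] [Module.Finite B N]
    (u : M →ₗ[A] N) :
    ∃ f : R, f ≠ 0 ∧ Module.Flat (Localization.Away f)
      (LocalizedModule (Submonoid.powers f) (N ⧸ (LinearMap.range u).restrictScalars R)) := by
  obtain ⟨n, π, hπ⟩ :=
    Algebra.FiniteType.iff_quotient_mvPolynomial''.mp ‹Algebra.FiniteType A B›
  let : Algebra (MvPolynomial (Fin n) A) B := π.toRingHom.toAlgebra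
  let : Module (MvPolynomial (Fin n) A) N := Module.compHom N π.toRingHom
  have : IsScalarTower (MvPolynomial (Fin n) A) B N :=
    IsScalarTower.of_algebraMap_smul fun _ _ => rfl
  have : IsScalarTower A (MvPolynomial (Fin n) A) N :=
    IsScalarTower.of_algebraMap_smul fun c m => by
      show π (algebraMap A (MvPolynomial (Fin n) A) c) • m = c • m
      rw [π.commutes, algebraMap_smul]
  have : Module.Finite (MvPolynomial (Fin n) A) B :=
    Module.Finite.of_surjective (Algebra.linearMap (MvPolynomial (Fin n) A) B) hπ
  have : Module.Finite (MvPolynomial (Fin n) A) N := Module.Finite.trans B N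
  classical
  obtain ⟨G, hG⟩ : (LinearMap.range u).FG := by
    rw [LinearMap.range_eq_map]
    exact Module.Finite.fg_top.map u
  obtain ⟨f, -, hf, h⟩ := Groth.Agent.Wt.HochsterRoberts.exists_freeAt (R := R) A n N G (1 : R) one_ne_zero
  rw [hG] at h
  refine ⟨f, hf, ?_⟩
  have := h.free_of_isLocalizedModule (R' := Localization.Away f)
    (LocalizedModule.mkLinearMap (Submonoid.powers f) _)
  infer_instance

end Groth.Agent.S1371
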