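import Groth.Statements.S13712
import Groth.Agent.ChevImg70.Basic

set_option autoImplicit false
universe u
open CategoryTheory CategoryTheory.Limits AlgebraicGeometry
open ZeroCyc

namespace Groth.Agent.S13712

/-- Let f : X → Y and g : Y → S be morphisms of schemes with g separated, such that the composite X → S
is integral with topologically finite fibres (every fibre is a finite set). Then the
scheme-theoretic image Y' of f, with its closed immersion Y' → Y, is integral over S, and Y' → S
again has topologically finite fibres. (The published statement is for algebraic spaces; this row is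
the case of schemes.) -/
theorem result {X Y S : Scheme.{u}} (f : X ⟶ Y) (g : Y ⟶ S)
    [IsSeparated g] [IsIntegralHom (f ≫ g)] (hfin : ∀ s : S, Set.Finite ((f ≫ g).base ⁻¹' {s})) :
    IsIntegralHom (f.imageι ≫ g) ∧ ∀ s : S, Set.Finite ((f.imageι ≫ g).base ⁻¹' {s}) := by
  haveI : IsIntegralHom f := IsIntegralHom.of_comp f g
  let p := f.toImage
  let q := f.imageι ≫ g
  have hpq : p ≫ q = f ≫ g := by rw [← Category.assoc, Scheme.Hom.toImage_imageι]
  haveI : IsIntegralHom (p ≫ q) := by rw [hpq]; infer_instance
  haveI : UniversallyClosed p := by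
    haveI : UniversallyClosed (f.toImage ≫ f.imageι) := by
      rw [Scheme.Hom.toImage_imageι]; infer_instance
    exact UniversallyClosed.of_comp_of_isSeparated f.toImage f.imageι
  haveI : Surjective p := inferInstance
  haveI : UniversallyClosed q := UniversallyClosed.of_comp_surjective p q
  refine ⟨?_, fun s => ?_⟩
  · haveI : IsAffineHom q := by
      refine ⟨fun V hV => ?_⟩
      haveI : IsAffine V.toScheme := hV
      let pV := p ∣_ (q ⁻¹ᵁ V)
      let qV := q ∣_ V
      have hc : pV ≫ qV = (p ≫ q) ∣_ V := (morphismRestrict_comp p q V).symm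
      haveI : IsIntegralHom (pV ≫ qV) := by
        rw [hc]; exact IsZariskiLocalAtTarget.restrict ‹IsIntegralHom (p ≫ q)› V
      haveI : Surjective pV := IsZariskiLocalAtTarget.restrict ‹Surjective p› _
      haveI : IsSeparated qV := IsZariskiLocalAtTarget.restrict (inferInstance : IsSeparated q) V
      haveI : QuasiSeparatedSpace (q ⁻¹ᵁ V).toScheme := quasiSeparatedSpace_of_quasiSeparated qV
      let π := Spec.map qV.appTop ≫ V.toScheme.isoSpec.inv
      have hπ : (q ⁻¹ᵁ V).toScheme.toSpecΓ ≫ π = qV := by
        rw [← Category.assoc, ← Scheme.toSpecΓ_naturality, Category.assoc, ← Scheme.isoSpec_hom,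
          Iso.hom_inv_id, Category.comp_id]
      haveI : IsSeparated (q ⁻¹ᵁ V).toScheme.toSpecΓ := by
        haveI : IsSeparated ((q ⁻¹ᵁ V).toScheme.toSpecΓ ≫ π) := by rw [hπ]; infer_instance
        exact IsSeparated.of_comp _ π
      haveI : IsIntegralHom (pV ≫ (q ⁻¹ᵁ V).toScheme.toSpecΓ) := by
        haveI : IsIntegralHom ((pV ≫ (q ⁻¹ᵁ V).toScheme.toSpecΓ) ≫ π) := by
          rw [Category.assoc, hπ]; infer_instance
        exact IsIntegralHom.of_comp _ π
      refine ChevImg70.isAffine_of_surjective_integral_finite_fibres pV fun c => ?_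
      refine Set.Finite.of_finite_image ((hfin (V.ι (π c))).subset ?_)
        ((p ≫ q) ⁻¹ᵁ V).ι.isOpenEmbedding.injective.injOn
      rintro _ ⟨w, hw, rfl⟩
      change (f ≫ g) _ = _
      rw [← hpq, ← Scheme.Hom.comp_apply, ← morphismRestrict_ι, ← hc, ← hπ]
      simp only [Scheme.Hom.comp_apply] at hw ⊢
      exact congrArg (fun t => V.ι (π t)) hw
    exact IsIntegralHom.iff_universallyClosed_and_isAffineHom.mpr
      ⟨‹UniversallyClosed q›, ‹IsAffineHom q›⟩
  · refine ((hfin s).image p).subset fun y hy => ?_
    obtain ⟨x, rfl⟩ := p.surjective y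
    refine ⟨x, ?_, rfl⟩
    change (f ≫ g) x = s
    rw [← hpq, Scheme.Hom.comp_apply]
    exact hy

end Groth.Agent.S13712
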