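import Groth.Statements.S13715
import Groth.Agent.PLaw.Span

set_option autoImplicit false
universe u
open scoped TensorProduct
open ZeroCyc

namespace Groth.Agent.S13715

/-- Let (C, γ) be the algebra of divided powers Γ^d_A(B) of a commutative A-algebra B with its universal
multiplicative law γ : B → C homogeneous of degree d (every multiplicative law B → C' homogeneous of
degree d factors uniquely through γ by an algebra map C → C'). If B is finite (as a module) over A
then so is C = Γ^d_A(B). -/
theorem result {A : Type u} [CommRing A] {B : Type u} [CommRing B] [Algebra A B] {C : Type u} [CommRing C] [Algebra A C]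
    {d : ℕ} (γ : PolLaw.MulLaw A B C d) (hγ : PolLaw.IsGammaD γ) [Module.Finite A B] :
    Module.Finite A C := by
  classical
  obtain ⟨m, g', hg'⟩ := Module.Finite.exists_fin (R := A) (M := B)
  let g : ULift.{u} (Fin m) → B := g' ∘ ULift.down
  have hg : Submodule.span A (Set.range g) = ⊤ := by
    rw [← hg', Set.range_comp, Function.Surjective.range_eq ULift.down_surjective, Set.image_univ]
  obtain ⟨T, -, hT⟩ := PLaw.exists_value_eq γ.law g Finset.univ
  let N : Submodule A C := Submodule.span A
    (↑(T.image fun α => PLaw.cf α (γ.law.toFun' _ (PLaw.gen A g Finset.univ))) : Set C)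
  refine ⟨T.image fun α => PLaw.cf α (γ.law.toFun' _ (PLaw.gen A g Finset.univ)), ?_⟩
  change N = ⊤
  suffices h : N.mkQ = 0 by rw [← N.ker_mkQ, h, LinearMap.ker_zero]
  refine PLaw.linearMap_ext_gamma hγ (PolynomialLaw.ext ?_)
  funext S i1 i2 x
  obtain ⟨σ, rfl⟩ : ∃ σ : ULift.{u} (Fin m) → S, x = ∑ k, σ k ⊗ₜ[A] g k := by
    induction x using TensorProduct.induction_on with
    | zero => exact ⟨0, by simp⟩
    | tmul s b =>
      obtain ⟨c, rfl⟩ := (Submodule.mem_span_range_iff_exists_fun A).mp
        (hg ▸ Submodule.mem_top : b ∈ Submodule.span A (Set.range g))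
      exact ⟨fun k => c k • s, by simp [TensorProduct.tmul_sum, TensorProduct.smul_tmul]⟩
    | add x y hx hy =>
      obtain ⟨σ, rfl⟩ := hx
      obtain ⟨τ, rfl⟩ := hy
      exact ⟨σ + τ, by simp [TensorProduct.add_tmul, Finset.sum_add_distrib]⟩
  rw [PLaw.postcomp_apply, PLaw.postcomp_apply, hT, map_sum, map_sum]
  refine Finset.sum_congr rfl fun α hα => ?_
  rw [LinearMap.lTensor_tmul, LinearMap.lTensor_tmul, LinearMap.zero_apply, TensorProduct.tmul_zero,
    Submodule.mkQ_apply]
  have hmem : PLaw.cf α (γ.law.toFun' _ (PLaw.gen A g Finset.univ)) ∈ N :=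
    Submodule.subset_span (Finset.mem_coe.mpr (Finset.mem_image_of_mem _ hα))
  rw [(Submodule.Quotient.mk_eq_zero N).mpr hmem, TensorProduct.tmul_zero]

end Groth.Agent.S13715
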