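import Groth.Statements.S13716
import Groth.Agent.PLaw.Span
import Groth.Agent.S13715
import Mathlib.RingTheory.IntegralClosure.IsIntegralClosure.Basic

set_option autoImplicit false
universe u
open scoped TensorProduct
open ZeroCyc

namespace Groth.Agent.S13716

/-- Let (C, γ) be the algebra of divided powers Γ^d_A(B) of a commutative A-algebra B with its universal
multiplicative law γ : B → C homogeneous of degree d (every multiplicative law B → C' homogeneous of
degree d factors uniquely through γ by an algebra map C → C'). If B is integral over A then so is C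
= Γ^d_A(B). -/
theorem result {A : Type u} [CommRing A] {B : Type u} [CommRing B] [Algebra A B] {C : Type u} [CommRing C] [Algebra A C]
    {d : ℕ} (γ : PolLaw.MulLaw A B C d) (hγ : PolLaw.IsGammaD γ) [Algebra.IsIntegral A B] :
    Algebra.IsIntegral A C := by
  have htop : (⊤ : Submodule A C) ≤ Subalgebra.toSubmodule (integralClosure A C) := by
    rw [← PLaw.span_cf_gamma_eq_top hγ Submodule.span_univ, Submodule.span_le]
    rintro _ ⟨n, b, α, -, rfl⟩
    let B₀ := Algebra.adjoin A (Set.range b)
    have : Module.Finite A B₀ := Module.Finite.of_fg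
      (fg_adjoin_of_finite (Set.finite_range b) fun x _ => Algebra.IsIntegral.isIntegral x)
    obtain ⟨C₀, _, _, γ₀, hγ₀⟩ := PLaw.exists_isGammaD (A := A) (B := B₀) d
    have := S13715.result γ₀ hγ₀
    obtain ⟨ψ, hψ, -⟩ := hγ₀ C (γ.precomp B₀.val)
    let b₀ : Fin n → B₀ := fun i => ⟨b i, Algebra.subset_adjoin (Set.mem_range_self i)⟩
    have h : PLaw.cf α (γ.law.toFun' _ (PLaw.gen A b Finset.univ)) =
        ψ (PLaw.cf α (γ₀.law.toFun' _ (PLaw.gen A b₀ Finset.univ))) := by
      change _ = ψ.toLinearMap _
      rw [← PLaw.cf_lTensor, ← PLaw.postcomp_apply, PLaw.law_congr hψ]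
      change _ = PLaw.cf α (γ.law.toFun' _ _)
      congr 2
      exact ((map_sum (B₀.val.toLinearMap.lTensor (MvPolynomial (Fin n) A)) _ _).trans
        (Finset.sum_congr rfl fun i _ => by simp [b₀])).symm
    rw [h]
    exact (Algebra.IsIntegral.isIntegral _).map ψ
  exact ⟨fun c => htop (Submodule.mem_top : c ∈ ⊤)⟩

end Groth.Agent.S13716
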