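import Groth.Statements.S13717
import Groth.Agent.PLaw.Span

set_option autoImplicit false
universe u
open scoped TensorProduct
open ZeroCyc

namespace Groth.Agent.S13717

/-- Let π : B → B' be a surjective map of commutative A-algebras and let (C, γ) and (C', γ') be the
degree-d divided power algebras Γ^d_A(B) and Γ^d_A(B') with their universal multiplicative laws
homogeneous of degree d. If φ : C → C' is the A-algebra map with φ ∘ γ = γ' ∘ π, then φ is
surjective; geometrically, for a closed subscheme X of an affine Y over an affine S, Γ^d(X/S) →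
Γ^d(Y/S) is a closed immersion. (The published statement is for Y affine over an algebraic space S;
this row is the case of an affine base.) -/
theorem result {A : Type u} [CommRing A] {B : Type u} [CommRing B] [Algebra A B]
    {B' : Type u} [CommRing B'] [Algebra A B'] {C : Type u} [CommRing C] [Algebra A C] {C' : Type u} [CommRing C'] [Algebra A C']
    {d : ℕ} (γ : PolLaw.MulLaw A B C d) (hγ : PolLaw.IsGammaD γ) (γ' : PolLaw.MulLaw A B' C' d) (hγ' : PolLaw.IsGammaD γ')
    (π : B →ₐ[A] B') (hπ : Function.Surjective π) (φ : C →ₐ[A] C')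
    (hφ : PolLaw.postcomp φ.toLinearMap γ.law = (γ'.precomp π).law) :
    Function.Surjective φ := by
  have htop : (⊤ : Submodule A C') ≤ LinearMap.range φ.toLinearMap := by
    rw [← PLaw.span_cf_gamma_eq_top hγ' Submodule.span_univ, Submodule.span_le]
    rintro _ ⟨n, b', α, -, rfl⟩
    choose b hb using fun i => hπ (b' i)
    refine ⟨PLaw.cf α (γ.law.toFun' _ (PLaw.gen A b Finset.univ)), ?_⟩
    rw [← PLaw.cf_lTensor, ← PLaw.postcomp_apply, PLaw.law_congr hφ]
    change PLaw.cf α (γ'.law.toFun' _ _) = _
    congr 2
    exact (map_sum (π.toLinearMap.lTensor (MvPolynomial (Fin n) A)) _ _).trans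
      (Finset.sum_congr rfl fun i _ => by simp [hb])
  exact fun c => htop (Submodule.mem_top : c ∈ ⊤)

end Groth.Agent.S13717
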