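import Groth.Statements.S13719
import Groth.Agent.PLaw.Points

set_option autoImplicit false
universe u
open scoped TensorProduct
open ZeroCyc

namespace Groth.Agent.S13719

open Polynomial in
/-- Two complementary idempotents: the degree of the first piece. -/
theorem exists_pow_eq {A : Type u} [CommRing A] [ConnectedSpace (PrimeSpectrum A)] {B : Type u}
    [CommRing B] [Algebra A B] {d : ℕ} (F : PolLaw.MulLaw A B A d) (e f : B)
    (he : e * e = e) (hf : f * f = f) (hef : e * f = 0) (h1 : e + f = 1) :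
    ∃ k : ℕ, ∀ {S : Type u} [CommSemiring S] [Algebra A S] {s : S},
      F.law.toFun' S (s ⊗ₜ[A] e + 1 ⊗ₜ[A] f) = (s ^ k) ⊗ₜ[A] (1 : A) := by
  classical
  have : Nontrivial A := PrimeSpectrum.nonempty_iff_nontrivial.mp inferInstance
  let p : A[X] := TensorProduct.rid A A[X] (F.law.toFun' A[X] (X ⊗ₜ[A] e + 1 ⊗ₜ[A] f))
  have hp : ∀ (S : Type u) [CommSemiring S] [Algebra A S] (s : S),
      TensorProduct.rid A S (F.law.toFun' S (s ⊗ₜ[A] e + 1 ⊗ₜ[A] f)) = aeval s p := by
    intro S _ _ s
    have h := Groth.Agent.PLaw.compatMap F.law (aeval s : A[X] →ₐ[A] S) (X ⊗ₜ[A] e + 1 ⊗ₜ[A] f)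
    rw [map_add, Algebra.TensorProduct.map_tmul, Algebra.TensorProduct.map_tmul, map_one, aeval_X] at h
    simp only [AlgHom.id_apply] at h
    rw [← h]
    generalize hw : F.law.toFun' A[X] (X ⊗ₜ[A] e + 1 ⊗ₜ[A] f) = w at h
    simp only [p, hw]
    clear h hw
    induction w using TensorProduct.induction_on with
    | zero => simp
    | tmul q a => simp
    | add u v hu hv => simp only [map_add, hu, hv]
  have hmul : ∀ (S : Type u) [CommRing S] [Algebra A S] (s t : S),
      aeval (s * t) p = aeval s p * aeval t p := by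
    intro S _ _ s t
    rw [← hp, ← hp, ← hp]
    have : (s * t) ⊗ₜ[A] e + (1 : S) ⊗ₜ[A] f = (s ⊗ₜ[A] e + 1 ⊗ₜ[A] f) * (t ⊗ₜ[A] e + 1 ⊗ₜ[A] f) := by
      simp [add_mul, mul_add, he, hf, hef, mul_comm f e]
    rw [this, (F.mult S).2]
    generalize F.law.toFun' S (s ⊗ₜ[A] e + 1 ⊗ₜ[A] f) = u
    generalize F.law.toFun' S (t ⊗ₜ[A] e + 1 ⊗ₜ[A] f) = v
    exact map_mul (Algebra.TensorProduct.rid A A S) u v
  have hone : aeval (1 : A) p = 1 := by
    rw [← hp, ← TensorProduct.tmul_add, h1, ← Algebra.TensorProduct.one_def, (F.mult A).1,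
      Algebra.TensorProduct.one_def, TensorProduct.rid_tmul, one_smul]
  -- coefficients are orthogonal idempotents
  have hXY := hmul A[X][X] (C X) X
  have hcoef : ∀ k l, p.coeff k * p.coeff l = if k = l then p.coeff k else 0 := by
    intro k l
    have e1 : aeval (C X * X : A[X][X]) p =
        p.sum fun i a => C (C a * X ^ i) * X ^ i := by
      rw [aeval_def, eval₂_eq_sum]
      refine Finset.sum_congr rfl fun i _ => ?_
      simp [mul_pow, IsScalarTower.algebraMap_apply A A[X] A[X][X]]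
      ring
    have e2 : aeval (C X : A[X][X]) p = C p := by
      rw [show (C X : A[X][X]) = (CAlgHom : A[X] →ₐ[A] A[X][X]) X from rfl, aeval_algHom_apply,
        aeval_X_left_apply]
      rfl
    have e3 : aeval (X : A[X][X]) p = p.map (C : A →+* A[X]) := by
      rw [aeval_def, eval₂_eq_sum, Polynomial.map, eval₂_eq_sum]
      refine Finset.sum_congr rfl fun i _ => ?_
      simp [IsScalarTower.algebraMap_apply A A[X] A[X][X]]
    rw [e1, e2, e3] at hXY
    have := congrArg (fun q : A[X][X] => (q.coeff l).coeff k) hXY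
    simp only [coeff_C_mul, coeff_map, Polynomial.sum, finset_sum_coeff, coeff_X_pow, mul_ite, mul_one,
      mul_zero, coeff_mul_C] at this
    rw [← this]
    rw [Finset.sum_eq_single l]
    · rw [if_pos rfl, coeff_C_mul, coeff_X_pow]
      split_ifs with h <;> simp [*]
    · intro i _ hi
      simp [Ne.symm hi]
    · intro hl
      simp [notMem_support_iff.mp hl]
  have hidem : ∀ k, p.coeff k = 0 ∨ p.coeff k = 1 := fun k => by
    have hk : IsIdempotentElem (p.coeff k) := by simpa [IsIdempotentElem] using hcoef k k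
    rcases isClopen_iff.mp (PrimeSpectrum.isClopen_iff.mpr ⟨p.coeff k, hk, rfl⟩ :
        IsClopen (PrimeSpectrum.basicOpen (p.coeff k) : Set (PrimeSpectrum A))) with h | h
    · left
      have : PrimeSpectrum.basicOpen (p.coeff k) = ⊥ := SetLike.coe_injective h
      obtain ⟨n, hn⟩ := (PrimeSpectrum.basicOpen_eq_bot_iff _).mp this
      rcases n with _ | n
      · simp at hn
      · rwa [hk.pow_succ_eq] at hn
    · right
      have : PrimeSpectrum.basicOpen (p.coeff k) = ⊤ := SetLike.coe_injective h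
      exact PrimeSpectrum.basicOpen_injOn_isIdempotentElem hk IsIdempotentElem.one
        (this.trans PrimeSpectrum.basicOpen_one.symm)
  obtain ⟨k, hk⟩ : ∃ k, p.coeff k = 1 := by
    by_contra! h
    have : p = 0 := Polynomial.ext fun k => (hidem k).resolve_right (h k)
    exact one_ne_zero (by rw [← hone, this, map_zero] : (1 : A) = 0)
  have hpX : p = X ^ k := Polynomial.ext fun l => by
    rw [coeff_X_pow]
    split_ifs with h
    · rw [h, hk]
    · simpa [hk, Ne.symm h] using hcoef k l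
  refine ⟨k, fun {S} _ _ {s} => (TensorProduct.rid A S).injective ?_⟩
  rw [hp, hpX, map_pow, aeval_X, TensorProduct.rid_tmul, one_smul]

variable {A : Type u} [CommRing A] {B₁ : Type u} [CommRing B₁] [Algebra A B₁]
  {B₂ : Type u} [CommRing B₂] [Algebra A B₂] {d : ℕ} (F : PolLaw.MulLaw A (B₁ × B₂) A d)

theorem exists_factor_fst (e : B₁ × B₂) (he : e = (0, 1)) (k : ℕ)
    (hk : ∀ {S : Type u} [CommSemiring S] [Algebra A S] {s : S},
      F.law.toFun' S (s ⊗ₜ[A] ((1, 0) : B₁ × B₂) + 1 ⊗ₜ[A] e) = (s ^ k) ⊗ₜ[A] (1 : A)) :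
    ∃ G : PolLaw.MulLaw A B₁ A k, ∀ (S : Type u) [CommSemiring S] [Algebra A S] (x : S ⊗[A] B₁),
      G.law.toFun' S x = F.law.toFun' S ((LinearMap.inl A B₁ B₂).lTensor S x + 1 ⊗ₜ[A] e) := by
  subst he
  let L : ∀ (S : Type u) [CommSemiring S] [Algebra A S], S ⊗[A] B₁ → S ⊗[A] (B₁ × B₂) :=
    fun S _ _ x => (LinearMap.inl A B₁ B₂).lTensor S x + 1 ⊗ₜ[A] ((0, 1) : B₁ × B₂)
  have hmul : ∀ (S : Type u) [CommSemiring S] [Algebra A S] (x y : S ⊗[A] B₁),
      L S (x * y) = L S x * L S y := fun S _ _ x y => by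
    have h1 : ∀ x y : S ⊗[A] B₁, (LinearMap.inl A B₁ B₂).lTensor S (x * y) =
        (LinearMap.inl A B₁ B₂).lTensor S x * (LinearMap.inl A B₁ B₂).lTensor S y := fun x y => by
      induction x using TensorProduct.induction_on with
      | zero => simp
      | tmul s c =>
        induction y using TensorProduct.induction_on with
        | zero => simp
        | tmul t c' => simp [Prod.mk_zero_zero]
        | add u v hu hv => simp only [map_add, mul_add, hu, hv]
      | add u v hu hv => simp only [map_add, add_mul, hu, hv]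
    have h2 : ∀ x : S ⊗[A] B₁, (LinearMap.inl A B₁ B₂).lTensor S x * ((1 : S) ⊗ₜ[A] ((0, 1) : B₁ × B₂)) = 0 := fun x => by
      induction x using TensorProduct.induction_on with
      | zero => simp
      | tmul s c => simp [Prod.mk_zero_zero]
      | add u v hu hv => simp only [map_add, add_mul, hu, hv, add_zero]
    simp only [L, add_mul, mul_add, ← h1, h2, mul_comm ((1 : S) ⊗ₜ[A] ((0, 1) : B₁ × B₂)) _, add_zero, zero_add]
    simp
  refine ⟨⟨{ toFun' := fun S _ _ x => F.law.toFun' S (L S x), isCompat' := ?_ }, ?_, ?_⟩, fun S _ _ x => rfl⟩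
  · intro S _ _ S' _ _ φ
    funext x
    simp only [Function.comp_apply, L]
    rw [Groth.Agent.PLaw.compat, map_add, LinearMap.rTensor_tmul, AlgHom.toLinearMap_apply, map_one]
    congr 2
    rw [← LinearMap.comp_apply, LinearMap.rTensor_comp_lTensor, ← LinearMap.lTensor_comp_rTensor,
      LinearMap.comp_apply]
  · intro S _ _ s x
    change F.law.toFun' S (L S (s • x)) = s ^ k • F.law.toFun' S (L S x)
    have : L S (s • x) = L S (s ⊗ₜ[A] (1 : B₁)) * L S x := by
      rw [← hmul]
      congr 1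
      induction x using TensorProduct.induction_on with
      | zero => simp
      | tmul t c => simp [TensorProduct.smul_tmul']
      | add u v hu hv => simp only [smul_add, mul_add, hu, hv]
    rw [this, (F.mult S).2]
    simp only [L, LinearMap.lTensor_tmul, LinearMap.inl_apply]
    rw [hk]
    generalize F.law.toFun' S ((LinearMap.inl A B₁ B₂).lTensor S x + 1 ⊗ₜ[A] ((0, 1) : B₁ × B₂)) = w
    induction w using TensorProduct.induction_on with
    | zero => simp
    | tmul t c => simp [TensorProduct.smul_tmul']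
    | add u v hu hv => simp only [smul_add, mul_add, hu, hv]
  · intro S _ _
    refine ⟨?_, fun x y => ?_⟩
    · change F.law.toFun' S (L S 1) = 1
      rw [show L S 1 = 1 by simp [L, Algebra.TensorProduct.one_def, ← TensorProduct.tmul_add, Prod.mk_one_one], (F.mult S).1]
    · change F.law.toFun' S (L S (x * y)) = _
      rw [hmul, (F.mult S).2]

theorem exists_factor_snd (e : B₁ × B₂) (he : e = (1, 0)) (k : ℕ)
    (hk : ∀ {S : Type u} [CommSemiring S] [Algebra A S] {s : S},
      F.law.toFun' S (s ⊗ₜ[A] ((0, 1) : B₁ × B₂) + 1 ⊗ₜ[A] e) = (s ^ k) ⊗ₜ[A] (1 : A)) :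
    ∃ G : PolLaw.MulLaw A B₂ A k, ∀ (S : Type u) [CommSemiring S] [Algebra A S] (x : S ⊗[A] B₂),
      G.law.toFun' S x = F.law.toFun' S (1 ⊗ₜ[A] e + (LinearMap.inr A B₁ B₂).lTensor S x) := by
  subst he
  let sw : (B₂ × B₁) →ₐ[A] (B₁ × B₂) := (AlgHom.snd A B₂ B₁).prod (AlgHom.fst A B₂ B₁)
  have hsw : ∀ (S : Type u) [CommSemiring S] [Algebra A S] (z : S ⊗[A] (B₂ × B₁)),
      (F.precomp sw).law.toFun' S z = F.law.toFun' S (sw.toLinearMap.lTensor S z) := fun S _ _ z => rfl
  obtain ⟨G, hG⟩ := exists_factor_fst (F.precomp sw) ((0, 1) : B₂ × B₁) rfl k (by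
    intro S _ _ s
    rw [hsw, map_add]
    simpa [sw] using hk (S := S) (s := s))
  refine ⟨G, fun S _ _ x => ?_⟩
  rw [hG, hsw, map_add, add_comm ((1 : S) ⊗ₜ[A] ((1, 0) : B₁ × B₂))]
  congr 1
  congr 1
  · rw [← LinearMap.comp_apply, ← LinearMap.lTensor_comp]
    congr 2


/-- Let A be a commutative ring whose prime spectrum is connected, B₁, B₂ commutative A-algebras and F :
B₁ × B₂ → A a multiplicative polynomial law homogeneous of degree d (a family of zero-cycles of
degree d on the disjoint union Spec B₁ ⊔ Spec B₂ over Spec A). Then there are natural numbers d₁ +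
d₂ = d, the multiplicities of the family on the two pieces, and multiplicative laws F₁ : B₁ → A, F₂
: B₂ → A homogeneous of degrees d₁, d₂ with F(x) = F₁(x₁) F₂(x₂) for every test algebra S and x ∈ S
⊗ (B₁ × B₂) with components x₁, x₂; and the degrees d₁, d₂ of any such factorisation are uniquely
determined. (The published statement is for finitely many algebraic spaces affine over a connected
algebraic space S; this row is the case of two pieces over an affine base.) -/
theorem result {A : Type u} [CommRing A] [ConnectedSpace (PrimeSpectrum A)]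
    {B₁ : Type u} [CommRing B₁] [Algebra A B₁] {B₂ : Type u} [CommRing B₂] [Algebra A B₂]
    {d : ℕ} (F : PolLaw.MulLaw A (B₁ × B₂) A d) :
    ∃ d₁ d₂ : ℕ, d₁ + d₂ = d ∧
      (∃ (F₁ : PolLaw.MulLaw A B₁ A d₁) (F₂ : PolLaw.MulLaw A B₂ A d₂),
        ∀ (S : Type u) [CommSemiring S] [Algebra A S] (x : S ⊗[A] (B₁ × B₂)),
          F.law.toFun' S x = F₁.law.toFun' S (LinearMap.lTensor S (LinearMap.fst A B₁ B₂) x) *
            F₂.law.toFun' S (LinearMap.lTensor S (LinearMap.snd A B₁ B₂) x)) ∧
      ∀ (e₁ e₂ : ℕ) (G₁ : PolLaw.MulLaw A B₁ A e₁) (G₂ : PolLaw.MulLaw A B₂ A e₂),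
        (∀ (S : Type u) [CommSemiring S] [Algebra A S] (x : S ⊗[A] (B₁ × B₂)),
          F.law.toFun' S x = G₁.law.toFun' S (LinearMap.lTensor S (LinearMap.fst A B₁ B₂) x) *
            G₂.law.toFun' S (LinearMap.lTensor S (LinearMap.snd A B₁ B₂) x)) → e₁ = d₁ ∧ e₂ = d₂ := by
  classical
  have : Nontrivial A := PrimeSpectrum.nonempty_iff_nontrivial.mp inferInstance
  let e₁ : B₁ × B₂ := (1, 0)
  let e₂ : B₁ × B₂ := (0, 1)
  obtain ⟨d₁, h₁⟩ := exists_pow_eq F e₁ e₂ (Prod.ext (by simp [e₁]) (by simp [e₁]))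
    (Prod.ext (by simp [e₂]) (by simp [e₂])) (Prod.ext (by simp [e₁, e₂]) (by simp [e₁, e₂]))
    (Prod.ext (by simp [e₁, e₂]) (by simp [e₁, e₂]))
  obtain ⟨d₂, h₂⟩ := exists_pow_eq F e₂ e₁ (Prod.ext (by simp [e₂]) (by simp [e₂]))
    (Prod.ext (by simp [e₁]) (by simp [e₁])) (Prod.ext (by simp [e₁, e₂]) (by simp [e₁, e₂]))
    (Prod.ext (by simp [e₁, e₂]) (by simp [e₁, e₂]))
  have h12 : e₁ + e₂ = 1 := Prod.ext (by simp [e₁, e₂]) (by simp [e₁, e₂])
  have hsum : d₁ + d₂ = d := by
    let X : Polynomial A := Polynomial.X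
    have hx : (X ⊗ₜ[A] e₁ + 1 ⊗ₜ[A] e₂) * (X ⊗ₜ[A] e₂ + 1 ⊗ₜ[A] e₁) =
        X • (1 : Polynomial A ⊗[A] (B₁ × B₂)) := by
      rw [Algebra.TensorProduct.one_def, TensorProduct.smul_tmul', smul_eq_mul, mul_one]
      have h11 : e₁ * e₁ = e₁ := Prod.ext (by simp [e₁]) (by simp [e₁])
      have h22 : e₂ * e₂ = e₂ := Prod.ext (by simp [e₂]) (by simp [e₂])
      have h0 : e₁ * e₂ = 0 := Prod.ext (by simp [e₁, e₂]) (by simp [e₁, e₂])
      have h0' : e₂ * e₁ = 0 := Prod.ext (by simp [e₁, e₂]) (by simp [e₁, e₂])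
      simp only [add_mul, mul_add, Algebra.TensorProduct.tmul_mul_tmul, h11, h22, h0, h0',
        TensorProduct.tmul_zero, mul_one, one_mul, zero_add, add_zero, ← TensorProduct.tmul_add, h12, add_comm e₂ e₁]
    have h := congrArg (F.law.toFun' (Polynomial A)) hx
    rw [(F.mult _).2, h₁, h₂, F.homog, (F.mult _).1, Algebra.TensorProduct.tmul_mul_tmul,
      Algebra.TensorProduct.one_def, TensorProduct.smul_tmul'] at h
    have h' := congrArg (fun w => (TensorProduct.rid A (Polynomial A) w).natDegree) h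
    simpa [X, ← pow_add] using h'
  obtain ⟨F₁, hF₁⟩ := exists_factor_fst F e₂ rfl d₁ h₁
  obtain ⟨F₂, hF₂⟩ := exists_factor_snd F e₁ rfl d₂ h₂
  refine ⟨d₁, d₂, hsum, ⟨F₁, F₂, fun S _ _ x => ?_⟩, fun e₁' e₂' G₁ G₂ hG => ?_⟩
  · rw [hF₁, hF₂, ← (F.mult S).2]
    congr 1
    have hz : ∀ (a : S ⊗[A] B₁) (b : S ⊗[A] B₂),
        (LinearMap.inl A B₁ B₂).lTensor S a * (LinearMap.inr A B₁ B₂).lTensor S b = 0 := fun a b => by
      induction a using TensorProduct.induction_on with
      | zero => simp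
      | tmul s c =>
        induction b using TensorProduct.induction_on with
        | zero => simp
        | tmul t c' => simp [Prod.mk_zero_zero]
        | add u v hu hv => simp only [map_add, mul_add, hu, hv, add_zero]
      | add u v hu hv => simp only [map_add, add_mul, hu, hv, add_zero]
    have hl : ∀ a : S ⊗[A] B₁, (LinearMap.inl A B₁ B₂).lTensor S a * ((1 : S) ⊗ₜ[A] e₁) =
        (LinearMap.inl A B₁ B₂).lTensor S a := fun a => by
      induction a using TensorProduct.induction_on with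
      | zero => simp
      | tmul s c => simp [e₁]
      | add u v hu hv => simp only [map_add, add_mul, hu, hv]
    have hr : ∀ a : S ⊗[A] B₂, ((1 : S) ⊗ₜ[A] e₂) * (LinearMap.inr A B₁ B₂).lTensor S a =
        (LinearMap.inr A B₁ B₂).lTensor S a := fun a => by
      induction a using TensorProduct.induction_on with
      | zero => simp
      | tmul s c => simp [e₂]
      | add u v hu hv => simp only [map_add, mul_add, hu, hv]
    have h0 : ((1 : S) ⊗ₜ[A] e₂) * ((1 : S) ⊗ₜ[A] e₁) = 0 := by simp [e₁, e₂, Prod.mk_zero_zero]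
    simp only [mul_add, add_mul, hz, hl, hr, h0, add_zero, zero_add]
    induction x using TensorProduct.induction_on with
    | zero => simp
    | tmul s c => simp [← TensorProduct.tmul_add]
    | add u v hu hv => simp only [map_add]; rw [add_add_add_comm, ← hu, ← hv]
  · let X : Polynomial A := Polynomial.X
    have h := hG (Polynomial A) (X ⊗ₜ[A] e₁ + 1 ⊗ₜ[A] e₂)
    rw [h₁] at h
    have hf : (LinearMap.fst A B₁ B₂).lTensor (Polynomial A) (X ⊗ₜ[A] e₁ + 1 ⊗ₜ[A] e₂) =
        X • (1 : Polynomial A ⊗[A] B₁) := by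
      simp [e₁, e₂, Algebra.TensorProduct.one_def, TensorProduct.smul_tmul']
    have hs : (LinearMap.snd A B₁ B₂).lTensor (Polynomial A) (X ⊗ₜ[A] e₁ + 1 ⊗ₜ[A] e₂) =
        (1 : Polynomial A ⊗[A] B₂) := by
      simp [e₁, e₂, Algebra.TensorProduct.one_def]
    rw [hf, hs, G₁.homog, (G₁.mult _).1, (G₂.mult _).1, mul_one, Algebra.TensorProduct.one_def,
      TensorProduct.smul_tmul'] at h
    have h' := congrArg (fun w => (TensorProduct.rid A (Polynomial A) w).natDegree) h
    have he : e₁' = d₁ := by simpa [X, eq_comm] using h'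
    refine ⟨he, ?_⟩
    have hd' : e₁' + e₂' = d := by
      have h := hG (Polynomial A) (X • 1)
      have hlin : ∀ {P : Type u} [CommRing P] [Algebra A P] (g : (B₁ × B₂) →ₐ[A] P),
          g.toLinearMap.lTensor (Polynomial A) (X • (1 : Polynomial A ⊗[A] (B₁ × B₂))) =
            X • (1 : Polynomial A ⊗[A] P) := fun g => by
        rw [PolLaw.lTensor_algHom_apply, map_smul, map_one]
      rw [show LinearMap.fst A B₁ B₂ = (AlgHom.fst A B₁ B₂).toLinearMap from rfl,
        show LinearMap.snd A B₁ B₂ = (AlgHom.snd A B₁ B₂).toLinearMap from rfl, hlin, hlin, F.homog,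
        G₁.homog, G₂.homog, (F.mult _).1, (G₁.mult _).1, (G₂.mult _).1, smul_mul_smul_comm, mul_one,
        Algebra.TensorProduct.one_def, TensorProduct.smul_tmul', TensorProduct.smul_tmul'] at h
      have h' := congrArg (fun w => (TensorProduct.rid A (Polynomial A) w).natDegree) h
      simpa [X, ← pow_add, eq_comm] using h'
    omega

end Groth.Agent.S13719
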