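import Groth.Statements.S13720
import Groth.Agent.PLaw.Basic

set_option autoImplicit false
universe u
open scoped TensorProduct
open ZeroCyc

namespace Groth.Agent.S13720

/-- Let B be the filtered direct limit of a directed system (B_i, t_ij : B_i → B_j) of commutative
algebras over the commutative ring A, with structure maps φ_i : B_i → B (jointly surjective, and an
element of B_i vanishing in B already vanishes in some B_j), and let F : B → C be a multiplicative
polynomial law homogeneous of degree d, with restrictions F_i = F ∘ φ_i. Then an element b of B lies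
in the kernel of F if and only if it is the image of some x ∈ B_i whose images in B_j lie in the
kernel of F_j for every j ≥ i; that is, the kernel of F is the direct limit of the kernels of the
F_i. -/
theorem result {A : Type u} [CommRing A] {B : Type u} [CommRing B] [Algebra A B]
    {C : Type u} [CommRing C] [Algebra A C] {ι : Type u} [Preorder ι] [IsDirected ι (fun i j => i ≤ j)] [Nonempty ι]
    (Bi : ι → Type u) [∀ i, CommRing (Bi i)] [∀ i, Algebra A (Bi i)]
    (t : ∀ i j : ι, i ≤ j → (Bi i →ₐ[A] Bi j)) (φ : ∀ i : ι, Bi i →ₐ[A] B)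
    (hcomp : ∀ (i j : ι) (h : i ≤ j), (φ j).comp (t i j h) = φ i)
    (hsurj : ∀ b : B, ∃ (i : ι) (x : Bi i), φ i x = b)
    (hzero : ∀ (i : ι) (x : Bi i), φ i x = 0 → ∃ (j : ι) (h : i ≤ j), t i j h x = 0)
    {d : ℕ} (F : PolLaw.MulLaw A B C d) (b : B) :
    b ∈ PolLaw.ker F.law ↔ ∃ (i : ι) (x : Bi i), φ i x = b ∧
      ∀ (j : ι) (h : i ≤ j), t i j h x ∈ PolLaw.ker (F.precomp (φ j)).law := by
  constructor
  · intro hb
    obtain ⟨i, x, rfl⟩ := hsurj b
    refine ⟨i, x, rfl, fun j h S _ _ y w => ?_⟩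
    change F.law.toFun' S ((φ j).toLinearMap.lTensor S _) = F.law.toFun' S ((φ j).toLinearMap.lTensor S y)
    rw [PolLaw.lTensor_algHom_apply, PolLaw.lTensor_algHom_apply, map_add, map_mul]
    rw [show Algebra.TensorProduct.map (AlgHom.id S S) (φ j) ((1 : S) ⊗ₜ[A] t i j h x) = 1 ⊗ₜ[A] φ i x by
      simp [← hcomp i j h]]
    exact hb S _ _
  · rintro ⟨i, x, rfl, hx⟩ S _ _ y w
    have hlift : ∀ z : S ⊗[A] B, ∃ (j : ι) (_ : i ≤ j), ∀ k, j ≤ k → ∃ z', (φ k).toLinearMap.lTensor S z' = z := by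
      intro z
      induction z using TensorProduct.induction_on with
      | zero => exact ⟨i, le_rfl, fun k _ => ⟨0, map_zero _⟩⟩
      | tmul s b =>
        obtain ⟨j, b', rfl⟩ := hsurj b
        obtain ⟨l, hil, hjl⟩ := directed_of (· ≤ ·) i j
        exact ⟨l, hil, fun k hk => ⟨s ⊗ₜ t j k (hjl.trans hk) b', by simp [← hcomp j k (hjl.trans hk)]⟩⟩
      | add a b ha hb =>
        obtain ⟨j, hj, ha⟩ := ha
        obtain ⟨j', hj', hb⟩ := hb
        obtain ⟨l, hjl, hj'l⟩ := directed_of (· ≤ ·) j j'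
        refine ⟨l, hj.trans hjl, fun k hk => ?_⟩
        obtain ⟨a', rfl⟩ := ha k (hjl.trans hk)
        obtain ⟨b', rfl⟩ := hb k (hj'l.trans hk)
        exact ⟨a' + b', map_add _ _ _⟩
    obtain ⟨j, hj, hy⟩ := hlift y
    obtain ⟨j', hj', hw⟩ := hlift w
    obtain ⟨k, hjk, hj'k⟩ := directed_of (· ≤ ·) j j'
    obtain ⟨y', rfl⟩ := hy k hjk
    obtain ⟨w', rfl⟩ := hw k hj'k
    refine Eq.trans (congrArg _ ?_) (hx k (hj.trans hjk) S y' w')
    change _ = (φ k).toLinearMap.lTensor S _
    rw [PolLaw.lTensor_algHom_apply, PolLaw.lTensor_algHom_apply, PolLaw.lTensor_algHom_apply, map_add, map_mul]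
    simp [← hcomp i k (hj.trans hjk)]

end Groth.Agent.S13720
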