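import Groth.Statements.S13721
import Groth.Agent.PLaw.KerFinite

set_option autoImplicit false
universe u
open scoped TensorProduct
open ZeroCyc

namespace Groth.Agent.S13721

/-- Let F : B → A be a multiplicative polynomial law homogeneous of degree d over the commutative ring
A, on a commutative A-algebra B which is finite as an A-module, and let A' be the filtered direct
limit of a directed system (A'_i, t_ij) of commutative A-algebras (t_ii the identity, t_jk ∘ t_ij =
t_ik) with structure maps φ_i : A'_i → A' (compatible with the t_ij, jointly surjective, and an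
element of A'_i vanishing in A' already vanishes in some A'_j). Then the kernel of the base change
of F to A', an ideal of A' ⊗_A B, is the supremum over i of the extensions along φ_i ⊗ B of the
kernels of the base changes of F to the A'_i: the kernel of the base-changed law is the direct limit
of the kernels. (The published statement has no finiteness hypothesis on B and is false without one:
for a suitable algebra B that is not finitely generated and a suitable directed system of quotients
of A, an element of A' ⊗_A B lies in the kernel over the limit although it comes from the kernel at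
no finite stage, because the conditions cutting out the kernel at an element are infinitely many and
die one at a time along the system; the published proof's reduction to finite B does not go through.
This row assumes B finite over A, the case that proof establishes.) -/
theorem result {A : Type u} [CommRing A] {B : Type u} [CommRing B] [Algebra A B]
    [Module.Finite A B] {A' : Type u} [CommRing A'] [Algebra A A'] {ι : Type u} [Preorder ι] [IsDirected ι (fun i j => i ≤ j)] [Nonempty ι]
    (Ai : ι → Type u) [∀ i, CommRing (Ai i)] [∀ i, Algebra A (Ai i)]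
    (t : ∀ i j : ι, i ≤ j → (Ai i →ₐ[A] Ai j)) (φ : ∀ i : ι, Ai i →ₐ[A] A')
    (hcomp : ∀ (i j : ι) (h : i ≤ j), (φ j).comp (t i j h) = φ i)
    (hsurj : ∀ a : A', ∃ (i : ι) (x : Ai i), φ i x = a)
    (hzero : ∀ (i : ι) (x : Ai i), φ i x = 0 → ∃ (j : ι) (h : i ≤ j), t i j h x = 0)
    (hid : ∀ (i : ι) (h : i ≤ i), t i i h = AlgHom.id A (Ai i))
    (htrans : ∀ (i j k : ι) (hij : i ≤ j) (hjk : j ≤ k), (t j k hjk).comp (t i j hij) = t i k (hij.trans hjk))
    {d : ℕ} (F : PolLaw.MulLaw A B A d) :
    PolLaw.kerBC F.law A' =
      ⨆ i : ι, (PolLaw.kerBC F.law (Ai i)).map (Algebra.TensorProduct.map (φ i) (AlgHom.id A B)) := by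
  classical
  obtain ⟨m, g', hg'⟩ := Module.Finite.exists_fin (R := A) (M := B)
  let g : ULift.{u} (Fin m) → B := g' ∘ ULift.down
  have hg : Submodule.span A (Set.range g) = ⊤ := by
    rw [← hg', Set.range_comp, Function.Surjective.range_eq ULift.down_surjective, Set.image_univ]
  refine le_antisymm (fun z hz => ?_) (iSup_le fun i => ?_)
  · obtain ⟨i, w, rfl⟩ : ∃ (i : ι) (w : Ai i ⊗[A] B), Algebra.TensorProduct.map (φ i) (AlgHom.id A B) w = z := by
      clear hz
      induction z using TensorProduct.induction_on with
      | zero => exact ⟨Classical.arbitrary ι, 0, map_zero _⟩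
      | tmul a b =>
        obtain ⟨i, x, rfl⟩ := hsurj a
        exact ⟨i, x ⊗ₜ b, by simp⟩
      | add x y hx hy =>
        obtain ⟨i, v, rfl⟩ := hx
        obtain ⟨j, w, rfl⟩ := hy
        obtain ⟨l, hil, hjl⟩ := directed_of (· ≤ ·) i j
        refine ⟨l, Algebra.TensorProduct.map (t i l hil) (AlgHom.id A B) v +
          Algebra.TensorProduct.map (t j l hjl) (AlgHom.id A B) w, ?_⟩
        rw [map_add, ← AlgHom.comp_apply, ← AlgHom.comp_apply, ← Algebra.TensorProduct.map_comp,
          ← Algebra.TensorProduct.map_comp, hcomp, hcomp, AlgHom.comp_id]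
    let P := PLaw.kerPoly F g (Ai i) w
    have hP := PLaw.kerPoly_map F (g := g) (Ai i) (φ i) w
    rw [PLaw.kerPoly_of_mem_kerBC F _ hz] at hP
    have hkill : ∀ s : Finset (ULift.{u} (Fin m) →₀ ℕ), ∃ (l : ι) (h : i ≤ l), ∀ α ∈ s, α ≠ 0 →
        t i l h (P.coeff α) = 0 := by
      intro s
      induction s using Finset.induction_on with
      | empty => exact ⟨i, le_rfl, fun α h => absurd h (Finset.notMem_empty α)⟩
      | insert β s _ ih =>
        obtain ⟨l, hl, hls⟩ := ih
        by_cases hβ : β = 0
        · refine ⟨l, hl, fun α hα h0 => ?_⟩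
          rcases Finset.mem_insert.mp hα with rfl | hα
          · exact absurd hβ h0
          · exact hls α hα h0
        have h0 : φ i (P.coeff β) = 0 := by
          have := congrArg (fun q => MvPolynomial.coeff β q) hP
          simp only [MvPolynomial.coeff_map, MvPolynomial.coeff_one, if_neg (Ne.symm hβ)] at this
          exact this.symm
        obtain ⟨l', hl', hl'0⟩ := hzero i _ h0
        obtain ⟨n, hln, hl'n⟩ := directed_of (· ≤ ·) l l'
        refine ⟨n, hl.trans hln, fun α hα hα0 => ?_⟩
        rcases Finset.mem_insert.mp hα with rfl | hα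
        · rw [← htrans i l' n hl' hl'n, AlgHom.comp_apply, hl'0, map_zero]
        · rw [← htrans i l n hl hln, AlgHom.comp_apply, hls α hα hα0, map_zero]
    obtain ⟨l, hl, hls⟩ := hkill P.support
    refine Submodule.mem_iSup_of_mem l ?_
    rw [show Algebra.TensorProduct.map (φ i) (AlgHom.id A B) w =
        Algebra.TensorProduct.map (φ l) (AlgHom.id A B) (Algebra.TensorProduct.map (t i l hl) (AlgHom.id A B) w) by
      rw [← AlgHom.comp_apply, ← Algebra.TensorProduct.map_comp, hcomp, AlgHom.comp_id]]
    refine Ideal.mem_map_of_mem _ (PLaw.mem_kerBC_of_kerPoly F _ hg fun α hα => ?_)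
    rw [PLaw.kerPoly_map F, MvPolynomial.coeff_map]
    by_cases hs : α ∈ P.support
    · exact hls α hs hα
    · rw [MvPolynomial.notMem_support_iff.mp hs, map_zero]
  · rw [Ideal.map_le_iff_le_comap]
    intro w hw R _ _ _ _ x v
    letI : Algebra (Ai i) R := ((IsScalarTower.toAlgHom A A' R).comp (φ i)).toRingHom.toAlgebra
    haveI : IsScalarTower A (Ai i) R :=
      IsScalarTower.of_algebraMap_eq fun a => (((IsScalarTower.toAlgHom A A' R).comp (φ i)).commutes a).symm
    rw [← AlgHom.comp_apply, ← Algebra.TensorProduct.map_comp]
    exact hw R x v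

end Groth.Agent.S13721
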