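import Groth.Statements.S13722
import Groth.Agent.PLaw.KerCrit
import Mathlib.Algebra.MvPolynomial.Nilpotent
import Mathlib.RingTheory.TensorProduct.MonoidAlgebra
import Mathlib.RingTheory.TensorProduct.MvPolynomial

set_option autoImplicit false
universe u
open scoped TensorProduct
open ZeroCyc

namespace Groth.Agent.S13722

/-- Let B and C be commutative algebras over the commutative ring A and F : B → C a multiplicative
polynomial law homogeneous of degree d. If C is reduced, then the quotient of B by the kernel of F
is reduced. In particular the image of a family of zero-cycles parametrised by a reduced base is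
reduced. -/
theorem result {A : Type u} [CommRing A] {B : Type u} [CommRing B] [Algebra A B]
    {C : Type u} [CommRing C] [Algebra A C] [IsReduced C] {d : ℕ} (F : PolLaw.MulLaw A B C d) :
    IsReduced (PolLaw.image F.law) := by
  rw [isReduced_iff_pow_one_lt 2 one_lt_two]
  intro z hz
  obtain ⟨b, rfl⟩ := Ideal.Quotient.mk_surjective z
  rw [← map_pow, Ideal.Quotient.eq_zero_iff_mem] at hz
  refine Ideal.Quotient.eq_zero_iff_mem.mpr (PLaw.mem_ker_of_generic F Submodule.span_univ fun n c _ => ?_)
  let S := MvPolynomial (Fin n) A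
  let v : S ⊗[A] B := PLaw.gen A c Finset.univ
  let u := v * ((1 : S) ⊗ₜ[A] b)
  change F.law.toFun' S (1 + u) = 1
  have hunit : IsUnit (F.law.toFun' S (1 + u)) := by
    refine IsUnit.of_mul_eq_one (F.law.toFun' S (1 - u)) ?_
    rw [← (F.mult S).2]
    have h2 : (1 + u) * (1 - u) = 1 + (-(v * v)) * ((1 : S) ⊗ₜ[A] (b ^ 2)) := by
      have : u * u = (v * v) * ((1 : S) ⊗ₜ[A] (b ^ 2)) := by
        simp only [u, pow_two]
        rw [mul_mul_mul_comm, Algebra.TensorProduct.tmul_mul_tmul, mul_one]
      linear_combination (-1 : S ⊗[A] B) * this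
    rw [h2]
    exact PLaw.eq_one_of_mem_ker F hz S _
  let E : S ⊗[A] C ≃ₐ[A] MvPolynomial (Fin n) C :=
    (Algebra.TensorProduct.comm A S C).trans ((MvPolynomial.algebraTensorAlgEquiv A C).restrictScalars A)
  have hc : ∀ w, (E w).coeff 0 = Algebra.TensorProduct.lid A C
      (Algebra.TensorProduct.map (MvPolynomial.aeval fun _ : Fin n => (0 : A)) (AlgHom.id A C) w) := by
    intro w
    induction w using TensorProduct.induction_on with
    | zero => simp
    | tmul p a =>
      simp [E, ← MvPolynomial.constantCoeff_eq, Algebra.smul_def]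
      erw [MvPolynomial.algebraTensorAlgEquiv_tmul]
      simp [MvPolynomial.constantCoeff_map, MvPolynomial.smul_eq_C_mul, mul_comm]
    | add a b ha hb => simp only [map_add, MvPolynomial.coeff_add, ha, hb]
  apply E.injective
  rw [map_one]
  have h := (MvPolynomial.isUnit_iff_eq_C_of_isReduced.mp (hunit.map E))
  have h0 : (E (F.law.toFun' S (1 + u))).coeff 0 = 1 := by
    rw [hc, PLaw.compatMap]
    have : Algebra.TensorProduct.map (MvPolynomial.aeval fun _ : Fin n => (0 : A)) (AlgHom.id A B) (1 + u) = 1 := by
      simp [u, v, PLaw.gen, Finset.sum_mul]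
    rw [this, (F.mult A).1, map_one]
  obtain ⟨r, -, hr⟩ := h
  rw [hr, MvPolynomial.coeff_C, if_pos rfl] at h0
  rw [hr, h0, MvPolynomial.C_1]

end Groth.Agent.S13722
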