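import Groth.Statements.S13724
import Groth.Agent.PLaw.KerImage

set_option autoImplicit false
universe u
open scoped TensorProduct
open ZeroCyc

namespace Groth.Agent.S13724

/-- Let A be a commutative ring with finitely many maximal ideals, B a commutative A-algebra and F : B →
A a multiplicative polynomial law homogeneous of degree d. Then B/ker F, the coordinate ring of the
image of the family of zero-cycles defined by F, has finitely many maximal ideals. -/
theorem result {A : Type u} [CommRing A] [Finite (MaximalSpectrum A)] {B : Type u} [CommRing B] [Algebra A B]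
    {d : ℕ} (F : PolLaw.MulLaw A B A d) :
    Finite (MaximalSpectrum (PolLaw.image F.law)) := by
  let e := (Algebra.TensorProduct.lid A (PolLaw.image F.law)).toRingEquiv
  have := PLaw.isIntegral_image F
  choose s hs using fun m : MaximalSpectrum A => PLaw.exists_fibre_points F (A' := A) m.toPrimeSpectrum
  let t : MaximalSpectrum A × Fin d → PrimeSpectrum (PolLaw.image F.law) := fun x =>
    PrimeSpectrum.comap e.symm.toRingHom (s x.1 x.2)
  suffices hsub : Set.range (MaximalSpectrum.toPrimeSpectrum (R := PolLaw.image F.law)) ⊆ Set.range t by
    have := ((Set.finite_range t).subset hsub).to_subtype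
    exact Finite.of_injective_finite_range MaximalSpectrum.toPrimeSpectrum_injective
  rintro _ ⟨M, rfl⟩
  have := M.isMaximal
  let m : MaximalSpectrum A := ⟨M.asIdeal.comap (algebraMap A _), inferInstance⟩
  obtain ⟨i, hi⟩ := hs m (PrimeSpectrum.comap e.toRingHom M.toPrimeSpectrum) (by
    rw [← PrimeSpectrum.comap_comp_apply]
    refine PrimeSpectrum.ext ?_
    change Ideal.comap _ M.asIdeal = M.asIdeal.comap _
    congr 1
    exact (Algebra.TensorProduct.lid A (PolLaw.image F.law)).toAlgHom.comp_algebraMap)
  refine ⟨(m, i), ?_⟩
  simp only [t, hi, ← PrimeSpectrum.comap_comp_apply]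
  simp

end Groth.Agent.S13724
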