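import Groth.Statements.S13725
import Groth.Agent.PLaw.KerCrit
import Mathlib.Algebra.CharP.Lemmas

set_option autoImplicit false
universe u
open scoped TensorProduct
open ZeroCyc

namespace Groth.Agent.S13725

/-- Let k be a field of characteristic p > 0 and let F : k → k be the law x ↦ x^p, multiplicative and
homogeneous of degree p over k. The kernel of F is the zero ideal, but after the flat base change k
→ A' = k[X]/(X^p) the kernel of the base-changed law on A' ⊗_k k is not zero (the class of X lies in
it). So in characteristic p, forming the kernel of a multiplicative law is not compatible with flat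
base change. -/
theorem result {k : Type u} [Field k] (p : ℕ) [Fact p.Prime] [CharP k p] :
    PolLaw.ker (PolLaw.MulLaw.pow k k p).law = ⊥ ∧
      PolLaw.kerBC (PolLaw.MulLaw.pow k k p).law (AdjoinRoot ((Polynomial.X : Polynomial k) ^ p)) ≠ ⊥ := by
  have hp : 2 ≤ p := (Fact.out : p.Prime).two_le
  refine ⟨?_, ?_⟩
  · rw [eq_bot_iff]
    intro b hb
    have h := hb k (0 : k ⊗[k] k) 1
    change (0 + 1 * (1 ⊗ₜ[k] b)) ^ p = (0 : k ⊗[k] k) ^ p at h
    rw [zero_add, one_mul, Algebra.TensorProduct.tmul_pow, one_pow, zero_pow (by omega)] at h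
    have h' := congrArg (TensorProduct.lid k k) h
    rw [TensorProduct.lid_tmul, one_smul, map_zero] at h'
    exact pow_eq_zero_iff (by omega) |>.mp h'
  · intro hbot
    let R₀ := AdjoinRoot ((Polynomial.X : Polynomial k) ^ p)
    have hroot : (AdjoinRoot.root ((Polynomial.X : Polynomial k) ^ p)) ^ p = 0 := by
      have := AdjoinRoot.mk_self (f := (Polynomial.X : Polynomial k) ^ p)
      rwa [map_pow, AdjoinRoot.mk_X] at this
    have hne : (AdjoinRoot.root ((Polynomial.X : Polynomial k) ^ p)) ≠ 0 := by
      intro h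
      rw [← AdjoinRoot.mk_X, AdjoinRoot.mk_eq_zero] at h
      have := Polynomial.natDegree_le_of_dvd h Polynomial.X_ne_zero
      rw [Polynomial.natDegree_X_pow, Polynomial.natDegree_X] at this
      omega
    have hmem : (AdjoinRoot.root ((Polynomial.X : Polynomial k) ^ p)) ⊗ₜ[k] (1 : k) ∈
        PolLaw.kerBC (PolLaw.MulLaw.pow k k p).law R₀ := by
      intro R _ _ _ _ x w
      change (x + w * Algebra.TensorProduct.map (IsScalarTower.toAlgHom k R₀ R) (AlgHom.id k k) _) ^ p = x ^ p
      obtain ⟨r, hr⟩ := exists_add_pow_prime_eq (Fact.out : p.Prime) x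
        (w * Algebra.TensorProduct.map (IsScalarTower.toAlgHom k R₀ R) (AlgHom.id k k)
          ((AdjoinRoot.root ((Polynomial.X : Polynomial k) ^ p)) ⊗ₜ[k] (1 : k)))
      rw [hr, mul_pow, ← map_pow, Algebra.TensorProduct.tmul_pow, hroot]
      have h0 : (p : R ⊗[k] k) = 0 := by
        rw [← map_natCast (algebraMap k (R ⊗[k] k)), CharP.cast_eq_zero, map_zero]
      simp [h0]
    rw [hbot, Ideal.mem_bot] at hmem
    have := congrArg (TensorProduct.rid k R₀) hmem
    rw [TensorProduct.rid_tmul, one_smul, map_zero] at this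
    exact hne this

end Groth.Agent.S13725
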