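import Groth.Statements.S13726
import Groth.Agent.PLaw.KerCrit
import Mathlib.Algebra.CharP.Lemmas
import Mathlib.RingTheory.MvPolynomial.Ideal

set_option autoImplicit false
universe u
open scoped TensorProduct
open ZeroCyc

namespace Groth.Agent.S13726

/-- Let k be a field of characteristic p > 0 and A = k[t_i : i ∈ ℕ]/(t_i^p : i ∈ ℕ). The law x ↦ x^p
from A to A is multiplicative and homogeneous of degree p over A; its kernel is the ideal generated
by the classes of the variables t_i, and this ideal is not finitely generated. Hence the image of a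
family of zero-cycles need not be of finite presentation over the base even when X → S is. -/
theorem result {k : Type u} [Field k] (p : ℕ) [Fact p.Prime] [CharP k p] :
    PolLaw.ker (PolLaw.MulLaw.pow
        (MvPolynomial ℕ k ⧸ Ideal.span (Set.range fun i : ℕ => (MvPolynomial.X i : MvPolynomial ℕ k) ^ p))
        (MvPolynomial ℕ k ⧸ Ideal.span (Set.range fun i : ℕ => (MvPolynomial.X i : MvPolynomial ℕ k) ^ p)) p).law =
      (Ideal.span (Set.range fun i : ℕ => (MvPolynomial.X i : MvPolynomial ℕ k))).map
        (Ideal.Quotient.mk (Ideal.span (Set.range fun i : ℕ => (MvPolynomial.X i : MvPolynomial ℕ k) ^ p))) ∧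
    ¬ (PolLaw.ker (PolLaw.MulLaw.pow
        (MvPolynomial ℕ k ⧸ Ideal.span (Set.range fun i : ℕ => (MvPolynomial.X i : MvPolynomial ℕ k) ^ p))
        (MvPolynomial ℕ k ⧸ Ideal.span (Set.range fun i : ℕ => (MvPolynomial.X i : MvPolynomial ℕ k) ^ p)) p).law).FG := by
  have hp : 2 ≤ p := (Fact.out : p.Prime).two_le
  let I : Ideal (MvPolynomial ℕ k) :=
    Ideal.span (Set.range fun i : ℕ => (MvPolynomial.X i : MvPolynomial ℕ k) ^ p)
  let A := MvPolynomial ℕ k ⧸ I
  let J : Ideal (MvPolynomial ℕ k) := Ideal.span (Set.range fun i : ℕ => (MvPolynomial.X i : MvPolynomial ℕ k))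
  have hnat : (p : A) = 0 := by
    rw [← map_natCast (Ideal.Quotient.mk I), ← map_natCast (MvPolynomial.C), CharP.cast_eq_zero, map_zero, map_zero]
  have hfrob : ∀ {S : Type u} [CommSemiring S], (p : S) = 0 → ∀ x y : S, (x + y) ^ p = x ^ p + y ^ p := by
    intro S _ h0 x y
    obtain ⟨r, hr⟩ := exists_add_pow_prime_eq (Fact.out : p.Prime) x y
    simp [hr, h0]
  have hnil : ∀ f ∈ J, (Ideal.Quotient.mk I f) ^ p = 0 := by
    intro f hf
    induction hf using Submodule.span_induction with
    | mem x hx =>
      obtain ⟨i, rfl⟩ := hx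
      rw [← map_pow]
      exact Ideal.Quotient.eq_zero_iff_mem.mpr (Ideal.subset_span ⟨i, rfl⟩)
    | zero => rw [map_zero, zero_pow (by omega)]
    | add x y _ _ hx hy => rw [map_add, hfrob hnat, hx, hy, add_zero]
    | smul c x _ hx => rw [smul_eq_mul, map_mul, mul_pow, hx, mul_zero]
  have hker : PolLaw.ker (PolLaw.MulLaw.pow A A p).law = J.map (Ideal.Quotient.mk I) := by
    apply le_antisymm
    · intro b hb
      obtain ⟨f, rfl⟩ := Ideal.Quotient.mk_surjective b
      have h := hb A (0 : A ⊗[A] A) 1
      change (0 + 1 * (1 ⊗ₜ[A] _)) ^ p = (0 : A ⊗[A] A) ^ p at h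
      have h' := congrArg (Algebra.TensorProduct.lid A A) h
      simp only [zero_add, one_mul, map_pow, map_zero, Algebra.TensorProduct.lid_tmul, one_smul,
        zero_pow (show p ≠ 0 by omega)] at h'
      let cc : A →+* k := Ideal.Quotient.lift I MvPolynomial.constantCoeff (by
        intro g hg
        induction hg using Submodule.span_induction with
        | mem x hx => obtain ⟨i, rfl⟩ := hx; simp [zero_pow (show p ≠ 0 by omega)]
        | zero => simp
        | add x y _ _ hx hy => simp [hx, hy]
        | smul c x _ hx => simp [hx])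
      have h2 := congrArg cc h'
      rw [map_pow, map_zero, pow_eq_zero_iff (by omega)] at h2
      refine Ideal.mem_map_of_mem _ ?_
      change f ∈ Ideal.span (Set.range MvPolynomial.X)
      rw [← Set.image_univ, MvPolynomial.mem_ideal_span_X_image]
      intro m hm
      by_contra! hc
      have hm0 : m = 0 := Finsupp.ext fun i => hc i (Set.mem_univ i)
      subst hm0
      exact (MvPolynomial.mem_support_iff.mp hm) h2
    · rw [Ideal.map_le_iff_le_comap]
      intro f hf S _ _ x w
      change (x + w * (1 ⊗ₜ[A] _)) ^ p = x ^ p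
      have h0 : (p : S ⊗[A] A) = 0 := by
        have hS := congrArg (algebraMap A S) hnat
        rw [map_natCast, map_zero] at hS
        rw [Algebra.TensorProduct.natCast_def, hS, TensorProduct.zero_tmul]
      rw [hfrob h0, mul_pow, Algebra.TensorProduct.tmul_pow, hnil f hf, TensorProduct.tmul_zero, mul_zero, add_zero]
  refine ⟨hker, fun hfg => ?_⟩
  rw [hker, Ideal.map_span] at hfg
  obtain ⟨t, hts, hspan⟩ := Submodule.fg_span_iff_fg_span_finset_subset _ |>.mp hfg
  classical
  let χ : ℕ → A →+* AdjoinRoot ((Polynomial.X : Polynomial k) ^ p) := fun n =>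
    Ideal.Quotient.lift I (MvPolynomial.aeval (R := k)
      (fun i => if i = n then AdjoinRoot.root ((Polynomial.X : Polynomial k) ^ p) else 0)).toRingHom (by
      intro g hg
      induction hg using Submodule.span_induction with
      | mem x hx =>
        obtain ⟨i, rfl⟩ := hx
        have := AdjoinRoot.mk_self (f := (Polynomial.X : Polynomial k) ^ p)
        rw [map_pow, AdjoinRoot.mk_X] at this
        by_cases hi : i = n <;> simp [hi, this, zero_pow (show p ≠ 0 by omega)]
      | zero => simp
      | add x y _ _ hx hy => simp_all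
      | smul c x _ hx => simp_all)
  have hne : (AdjoinRoot.root ((Polynomial.X : Polynomial k) ^ p)) ≠ 0 := by
    intro h
    rw [← AdjoinRoot.mk_X, AdjoinRoot.mk_eq_zero] at h
    have := Polynomial.natDegree_le_of_dvd h Polynomial.X_ne_zero
    rw [Polynomial.natDegree_X_pow, Polynomial.natDegree_X] at this
    omega
  let x : ℕ → A := fun i => Ideal.Quotient.mk I (MvPolynomial.X i)
  have hχ : ∀ n i, χ n (x i) = if i = n then AdjoinRoot.root ((Polynomial.X : Polynomial k) ^ p) else 0 := by
    intro n i
    simp [χ, x, A, Ideal.Quotient.lift_mk]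
  have hinj : Function.Injective x := by
    intro i j hij
    by_contra hne'
    have := congrArg (χ j) hij
    rw [hχ, hχ, if_neg hne', if_pos rfl] at this
    exact hne this.symm
  obtain ⟨n, hn⟩ := (Set.infinite_range_of_injective hinj).exists_notMem_finset t |> fun ⟨y, ⟨n, hy⟩, h⟩ =>
    (⟨n, hy ▸ h⟩ : ∃ n, x n ∉ t)
  have hle : Ideal.span (t : Set A) ≤ RingHom.ker (χ n) := by
    rw [Ideal.span_le]
    intro y hy
    obtain ⟨f, ⟨i, rfl⟩, rfl⟩ := hts hy
    refine RingHom.mem_ker.mpr ((hχ n i).trans (if_neg ?_))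
    rintro rfl
    exact hn hy
  have hmem : x n ∈ Ideal.span (t : Set A) := by
    have : x n ∈ Submodule.span A (Ideal.Quotient.mk I '' Set.range fun i : ℕ => (MvPolynomial.X i : MvPolynomial ℕ k)) :=
      Submodule.subset_span ⟨_, ⟨n, rfl⟩, rfl⟩
    rwa [hspan] at this
  have := hle hmem
  rw [RingHom.mem_ker, hχ, if_pos rfl] at this
  exact hne this

end Groth.Agent.S13726
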