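import Groth.Statements.S13727
import Groth.Agent.PLaw.KerFinite
import Groth.Agent.CAlgA.Idempotents

set_option autoImplicit false
universe u
open scoped TensorProduct
open ZeroCyc

namespace Groth.Agent.S13727

/-- Let A be a commutative ring whose prime spectrum is connected, B a commutative A-algebra and F : B →
A a multiplicative polynomial law homogeneous of degree d. Then Spec(B/ker F), the support of the
family of zero-cycles of degree d defined by F, has at most d connected components (in particular
finitely many). -/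
theorem result {A : Type u} [CommRing A] [ConnectedSpace (PrimeSpectrum A)]
    {B : Type u} [CommRing B] [Algebra A B] {d : ℕ} (F : PolLaw.MulLaw A B A d) :
    Finite (ConnectedComponents (PrimeSpectrum (PolLaw.image F.law))) ∧
      Nat.card (ConnectedComponents (PrimeSpectrum (PolLaw.image F.law))) ≤ d := by
  classical
  obtain ⟨p₀⟩ := (inferInstance : Nonempty (PrimeSpectrum A))
  obtain ⟨s, hs⟩ := PLaw.exists_fibre_points_image F p₀
  have hsurj : Function.Surjective fun i => ConnectedComponents.mk (s i) := by
    intro c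
    obtain ⟨q, rfl⟩ := ConnectedComponents.surjective_coe c
    by_contra! hne
    have hsel : ∀ i, ∃ e, IsIdempotentElem e ∧ e ∈ q.asIdeal ∧ e ∉ (s i).asIdeal := fun i => by
      by_contra! h
      refine hne i (ConnectedComponents.coe_eq_coe'.mpr ?_)
      rw [CAlgA.Idempotents.connectedComponent_eq]
      exact fun e he => h e he.1 he.2
    choose e he heq hes using hsel
    let f := 1 - ∏ i, (1 - e i)
    have hf : IsIdempotentElem f :=
      IsIdempotentElem.one_sub (Finset.prod_induction _ IsIdempotentElem
        (fun a b ha hb => by rw [IsIdempotentElem, mul_mul_mul_comm, ha.eq, hb.eq]) IsIdempotentElem.one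
        fun i _ => (he i).one_sub)
    have hmk : ∀ (r : PrimeSpectrum (PolLaw.image F.law)) (i : Fin d), e i ∉ r.asIdeal → f ∉ r.asIdeal := by
      intro r i hi hfr
      have h1 : 1 - e i ∈ r.asIdeal :=
        (r.isPrime.mem_or_mem (by rw [mul_sub, mul_one, (he i).eq, sub_self]; exact zero_mem _)).resolve_left hi
      have h2 := Ideal.mem_of_dvd _ (Finset.dvd_prod_of_mem (fun i => 1 - e i) (Finset.mem_univ i)) h1
      exact r.isPrime.ne_top ((Ideal.eq_top_iff_one _).mpr (by simpa [f] using add_mem hfr h2))
    have hfq : f ∈ q.asIdeal := by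
      have h0 : ∀ i, Ideal.Quotient.mk q.asIdeal (e i) = 0 := fun i => Ideal.Quotient.eq_zero_iff_mem.mpr (heq i)
      rw [← Ideal.Quotient.eq_zero_iff_mem]
      simp [f, map_prod, h0]
    have hclop : IsClopen (PrimeSpectrum.zeroLocus ({f} : Set (PolLaw.image F.law))) :=
      PrimeSpectrum.isClopen_iff_zeroLocus.2 ⟨f, hf, rfl⟩
    have himg : IsClopen (PrimeSpectrum.comap (algebraMap A (PolLaw.image F.law)) ''
        PrimeSpectrum.zeroLocus ({f} : Set (PolLaw.image F.law))) :=
      ⟨PLaw.isClosedMap_image F _ hclop.1, PLaw.isOpenMap_image F _ hclop.2⟩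
    obtain ⟨r, hr, hrp⟩ : p₀ ∈ PrimeSpectrum.comap (algebraMap A (PolLaw.image F.law)) ''
        PrimeSpectrum.zeroLocus ({f} : Set (PolLaw.image F.law)) := by
      rw [himg.eq_univ ⟨_, q, by simpa [PrimeSpectrum.mem_zeroLocus] using hfq, rfl⟩]
      trivial
    obtain ⟨i, rfl⟩ := hs r hrp
    exact hmk (s i) i (hes i) (by simpa [PrimeSpectrum.mem_zeroLocus] using hr)
  exact ⟨Finite.of_surjective _ hsurj, (Nat.card_le_card_of_surjective _ hsurj).trans_eq (Nat.card_fin d)⟩

end Groth.Agent.S13727
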