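import Groth.Statements.S13728
import Groth.Agent.PLaw.TSAlg
import Mathlib.Algebra.Colimit.Module

set_option autoImplicit false
universe u
open scoped TensorProduct
open ZeroCyc

namespace Groth.Agent.S13728

section

variable {A : Type u} [CommRing A] {B : Type u} [CommRing B] [Algebra A B]
    {ι : Type u} [Preorder ι] [IsDirected ι (fun i j => i ≤ j)] [Nonempty ι]
    (Bi : ι → Type u) [∀ i, CommRing (Bi i)] [∀ i, Algebra A (Bi i)]
    (t : ∀ i j : ι, i ≤ j → (Bi i →ₐ[A] Bi j)) (φ : ∀ i : ι, Bi i →ₐ[A] B)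
    (hcomp : ∀ (i j : ι) (h : i ≤ j), (φ j).comp (t i j h) = φ i)
    (hsurj : ∀ b : B, ∃ (i : ι) (x : Bi i), φ i x = b)
    (hzero : ∀ (i : ι) (x : Bi i), φ i x = 0 → ∃ (j : ι) (h : i ≤ j), t i j h x = 0)
    (hid : ∀ (i : ι) (h : i ≤ i), t i i h = AlgHom.id A (Bi i))
    (htrans : ∀ (i j k : ι) (hij : i ≤ j) (hjk : j ≤ k), (t j k hjk).comp (t i j hij) = t i k (hij.trans hjk)) (d : ℕ)

omit [IsDirected ι (fun i j => i ≤ j)] [Nonempty ι] in
theorem tmap_tmap {B' B'' B''' : Type u} [CommRing B'] [Algebra A B'] [CommRing B''] [Algebra A B'']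
    [CommRing B'''] [Algebra A B'''] {d : ℕ} (f : B' →ₐ[A] B'') (g : B'' →ₐ[A] B''')
    (x : ⨂[A] _ : Fin d, B') :
    SymTen.tmap A d g (SymTen.tmap A d f x) = SymTen.tmap A d (g.comp f) x := by
  induction x using PiTensorProduct.induction_on with
  | smul_tprod r g' => simp [AlgHom.comp_apply]
  | add a b ha hb => simp [ha, hb]

include hcomp hsurj in
theorem exists_lift_tuple {n : ℕ} (f : Fin n → B) : ∃ (i : ι) (x : Fin n → Bi i), ∀ k, φ i (x k) = f k := by
  choose i x hx using fun k => hsurj (f k)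
  obtain ⟨j, hj⟩ := Finite.exists_le i
  exact ⟨j, fun k => t (i k) j (hj k) (x k), fun k => by rw [← AlgHom.comp_apply, hcomp, hx]⟩

include hcomp hsurj hzero htrans hid in
theorem tensor_inj (i : ι) (y : ⨂[A] _ : Fin d, Bi i) (hy : SymTen.tmap A d (φ i) y = 0) :
    ∃ (j : ι) (h : i ≤ j), SymTen.tmap A d (t i j h) y = 0 := by
  classical
  let G : ι → Type u := fun i => ⨂[A] _ : Fin d, Bi i
  let f : ∀ i j, i ≤ j → G i →ₗ[A] G j := fun i j h => (SymTen.tmap A d (t i j h)).toLinearMap
  haveI : DirectedSystem G (f · · ·) :=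
    { map_self := fun i x => by
        suffices f i i le_rfl = LinearMap.id from LinearMap.congr_fun this x
        refine PiTensorProduct.ext (MultilinearMap.ext fun g => ?_)
        simp [f, hid i le_rfl]
      map_map := fun k j i hij hjk x => by
        change SymTen.tmap A d (t j k hjk) (SymTen.tmap A d (t i j hij) x) = SymTen.tmap A d (t i k _) x
        rw [tmap_tmap, htrans] }
  let o := fun (i : ι) (x : Fin d → Bi i) =>
    Module.DirectLimit.of A ι G f i (PiTensorProduct.tprod A x)
  have ho : ∀ (i j : ι) (h : i ≤ j) (x : Fin d → Bi i), o i x = o j (fun k => t i j h (x k)) := by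
    intro i j h x
    simp only [o]
    rw [← Module.DirectLimit.of_f (hij := h)]
    exact congrArg _ (SymTen.tmap_tprod A d (t i j h) x)
  have hwd : ∀ (i j : ι) (x : Fin d → Bi i) (y : Fin d → Bi j),
      (∀ k, φ i (x k) = φ j (y k)) → o i x = o j y := by
    intro i j x y hxy
    obtain ⟨m, him, hjm⟩ := exists_ge_ge i j
    have h0 : ∀ k, φ m (t i m him (x k) - t j m hjm (y k)) = 0 := fun k => by
      rw [map_sub, ← AlgHom.comp_apply, ← AlgHom.comp_apply, hcomp, hcomp, hxy, sub_self]
    choose j' hj' hj0 using fun k => hzero m _ (h0 k)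
    obtain ⟨q, hq⟩ := Finite.exists_le j'
    obtain ⟨n, hqn, hmn⟩ := exists_ge_ge q m
    rw [ho i n (him.trans hmn) x, ho j n (hjm.trans hmn) y]
    congr 1
    funext k
    have := congrArg (t (j' k) n ((hq k).trans hqn)) (hj0 k)
    rw [map_zero, ← AlgHom.comp_apply, htrans, map_sub, sub_eq_zero] at this
    rw [← AlgHom.comp_apply, ← AlgHom.comp_apply, htrans, htrans] at this
    exact this
  choose ci cx hcx using exists_lift_tuple Bi t φ hcomp hsurj (n := d)
  let L : MultilinearMap A (fun _ : Fin d => B) (Module.DirectLimit G f) :=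
    { toFun := fun g => o (ci g) (cx g)
      map_update_add' := by
        intro _ g k a b
        obtain ⟨i, x, hx⟩ := exists_lift_tuple Bi t φ hcomp hsurj (Fin.cons a (Fin.cons b g) : Fin (d + 2) → B)
        have hxa : φ i (x 0) = a := hx 0
        have hxb : φ i (x (Fin.succ 0)) = b := hx _
        have hxg : ∀ l : Fin d, φ i (x l.succ.succ) = g l := fun l => by simpa using hx l.succ.succ
        have key : ∀ (c : B) (z : Bi i), φ i z = c → o (ci (Function.update g k c)) (cx (Function.update g k c)) =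
            o i (Function.update (fun l => x l.succ.succ) k z) := by
          intro c z hz
          refine hwd _ _ _ _ fun l => ?_
          rw [hcx]
          by_cases hl : l = k
          · subst hl; simp [hz]
          · simp [hl, hxg]
        rw [key (a + b) (x 0 + x (Fin.succ 0)) (by rw [map_add, hxa, hxb]), key a _ hxa, key b _ hxb]
        simp only [o, MultilinearMap.map_update_add, map_add]
      map_update_smul' := by
        intro _ g k r a
        obtain ⟨i, x, hx⟩ := exists_lift_tuple Bi t φ hcomp hsurj (Fin.cons a g : Fin (d + 1) → B)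
        have hxa : φ i (x 0) = a := hx 0
        have hxg : ∀ l : Fin d, φ i (x l.succ) = g l := fun l => by simpa using hx l.succ
        have key : ∀ (c : B) (z : Bi i), φ i z = c → o (ci (Function.update g k c)) (cx (Function.update g k c)) =
            o i (Function.update (fun l => x l.succ) k z) := by
          intro c z hz
          refine hwd _ _ _ _ fun l => ?_
          rw [hcx]
          by_cases hl : l = k
          · subst hl; simp [hz]
          · simp [hl, hxg]
        rw [key (r • a) (r • x 0) (by rw [map_smul, hxa]), key a _ hxa]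
        simp only [o, MultilinearMap.map_update_smul, map_smul] }
  have hL : (PiTensorProduct.lift L).comp (SymTen.tmap A d (φ i)).toLinearMap =
      Module.DirectLimit.of A ι G f i := by
    refine PiTensorProduct.ext (MultilinearMap.ext fun x => ?_)
    simp only [LinearMap.compMultilinearMap_apply, LinearMap.comp_apply, AlgHom.toLinearMap_apply,
      SymTen.tmap_tprod, PiTensorProduct.lift.tprod]
    exact hwd _ _ _ _ fun k => hcx _ k
  have := LinearMap.congr_fun hL y
  rw [LinearMap.comp_apply, AlgHom.toLinearMap_apply, hy, map_zero] at this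
  exact Module.DirectLimit.of.zero_exact this.symm

include hcomp hsurj hzero htrans hid in
theorem inj (i : ι) (y : SymTen.TS A (Bi i) d) (hy : SymTen.TSmap A d (φ i) y = 0) :
    ∃ (j : ι) (h : i ≤ j), SymTen.TSmap A d (t i j h) y = 0 := by
  obtain ⟨j, h, hj⟩ := tensor_inj Bi t φ hcomp hsurj hzero hid htrans d i y.1 (congrArg Subtype.val hy)
  exact ⟨j, h, Subtype.ext hj⟩

include hcomp hsurj in
theorem tensor_surj (z : ⨂[A] _ : Fin d, B) :
    ∃ (i : ι) (y : ⨂[A] _ : Fin d, Bi i), SymTen.tmap A d (φ i) y = z := by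
  induction z using PiTensorProduct.induction_on with
  | smul_tprod r g =>
    obtain ⟨i, x, hx⟩ := exists_lift_tuple Bi t φ hcomp hsurj g
    exact ⟨i, r • PiTensorProduct.tprod A x, by simp [hx]⟩
  | add a b ha hb =>
    obtain ⟨i, x, rfl⟩ := ha
    obtain ⟨j, y, rfl⟩ := hb
    obtain ⟨m, him, hjm⟩ := exists_ge_ge i j
    have hc : ∀ (i : ι) (h : i ≤ m) (x : ⨂[A] _ : Fin d, Bi i),
        SymTen.tmap A d (φ m) (SymTen.tmap A d (t i m h) x) = SymTen.tmap A d (φ i) x :=
      fun i h x => by rw [tmap_tmap, hcomp]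
    exact ⟨m, SymTen.tmap A d (t i m him) x + SymTen.tmap A d (t j m hjm) y, by rw [map_add, hc, hc]⟩

include hcomp hsurj hzero htrans hid in
theorem surj (z : SymTen.TS A B d) :
    ∃ (i : ι) (y : SymTen.TS A (Bi i) d), SymTen.TSmap A d (φ i) y = z := by
  obtain ⟨i, y, hy⟩ := tensor_surj Bi t φ hcomp hsurj d z.1
  have h0 : ∀ σ : Equiv.Perm (Fin d), SymTen.tmap A d (φ i)
      (PiTensorProduct.reindex A (fun _ : Fin d => Bi i) σ y - y) = 0 := fun σ => by
    rw [map_sub, SymTen.tmap_reindex, hy, z.2 σ, sub_self]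
  choose j hj hj0 using fun σ => tensor_inj Bi t φ hcomp hsurj hzero hid htrans d i _ (h0 σ)
  obtain ⟨m, hm⟩ := Finite.exists_le j
  obtain ⟨n, hmn, hin⟩ := exists_ge_ge m i
  have hc : ∀ (j : ι) (hij : i ≤ j) (hjn : j ≤ n) (x : ⨂[A] _ : Fin d, Bi i),
      SymTen.tmap A d (t j n hjn) (SymTen.tmap A d (t i j hij) x) = SymTen.tmap A d (t i n hin) x :=
    fun j hij hjn x => by rw [tmap_tmap, htrans]
  refine ⟨n, ⟨SymTen.tmap A d (t i n hin) y, fun σ => ?_⟩, Subtype.ext ?_⟩
  · rw [← SymTen.tmap_reindex, ← sub_eq_zero, ← map_sub,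
      ← hc (j σ) (hj σ) ((hm σ).trans hmn), hj0, map_zero]
  · refine Eq.trans ?_ hy
    change SymTen.tmap A d (φ n) (SymTen.tmap A d (t i n hin) y) = _
    rw [tmap_tmap, hcomp]

end


/-- The functor B ↦ TS^d_A(B) (symmetric tensors of degree d, the invariants of the symmetric group in
the d-fold tensor power) commutes with filtered direct limits. Concretely, let B be the direct limit
of a directed system (B_i, t_ij : B_i → B_j) of commutative algebras over the commutative ring A
(t_ii the identity, t_jk ∘ t_ij = t_ik) with structure maps φ_i : B_i → B (compatible with the t_ij,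
jointly surjective, and an element of B_i vanishing in B vanishes in some B_j). Then every element
of TS^d_A(B) is the image of an element of some TS^d_A(B_i), and an element of TS^d_A(B_i) whose
image in TS^d_A(B) is zero has image zero in TS^d_A(B_j) for some j ≥ i. -/
theorem result {A : Type u} [CommRing A] {B : Type u} [CommRing B] [Algebra A B]
    {ι : Type u} [Preorder ι] [IsDirected ι (fun i j => i ≤ j)] [Nonempty ι]
    (Bi : ι → Type u) [∀ i, CommRing (Bi i)] [∀ i, Algebra A (Bi i)]
    (t : ∀ i j : ι, i ≤ j → (Bi i →ₐ[A] Bi j)) (φ : ∀ i : ι, Bi i →ₐ[A] B)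
    (hcomp : ∀ (i j : ι) (h : i ≤ j), (φ j).comp (t i j h) = φ i)
    (hsurj : ∀ b : B, ∃ (i : ι) (x : Bi i), φ i x = b)
    (hzero : ∀ (i : ι) (x : Bi i), φ i x = 0 → ∃ (j : ι) (h : i ≤ j), t i j h x = 0)
    (hid : ∀ (i : ι) (h : i ≤ i), t i i h = AlgHom.id A (Bi i))
    (htrans : ∀ (i j k : ι) (hij : i ≤ j) (hjk : j ≤ k), (t j k hjk).comp (t i j hij) = t i k (hij.trans hjk)) (d : ℕ) :
    (∀ z : SymTen.TS A B d, ∃ (i : ι) (y : SymTen.TS A (Bi i) d), SymTen.TSmap A d (φ i) y = z) ∧
      ∀ (i : ι) (y : SymTen.TS A (Bi i) d), SymTen.TSmap A d (φ i) y = 0 →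
        ∃ (j : ι) (h : i ≤ j), SymTen.TSmap A d (t i j h) y = 0 := by
  classical
  exact ⟨fun z => surj Bi t φ hcomp hsurj hzero hid htrans d z,
    fun i y hy => inj Bi t φ hcomp hsurj hzero hid htrans d i y hy⟩

end Groth.Agent.S13728
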