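import Groth.Statements.S13732
import Groth.Agent.HTopUltra.QfhGlobal
import Groth.Agent.SubtrLib.Submersive

set_option autoImplicit false
universe u
open HTop

namespace Groth.Agent.S13732

open CategoryTheory CategoryTheory.Limits AlgebraicGeometry in
/-- Let Y be a separated Noetherian scheme and {p_j : Y_j → Y} a finite family of separated quasi-finite
morphisms of finite type whose induced morphism from the disjoint union of the Y_j to Y is
universally submersive (a qfh-covering). Then there are a finite surjective morphism p : Y' → Y and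
finitely many open subschemes V_1, …, V_n covering Y' such that every composite V_i → Y' → Y factors
through some member of the family. -/
theorem result {Y : Scheme.{u}} [IsNoetherian Y] [Y.IsSeparated] (E : PreZeroHypercover.{u} Y) [Finite E.I₀] [∀ j, LocallyOfFiniteType (E.f j)] [∀ j, QuasiCompact (E.f j)] [∀ j, LocallyQuasiFinite (E.f j)] [∀ j, IsSeparated (E.f j)] (hE : SGA1.UnivSubmersive (Sigma.desc E.f)) : ∃ (Y' : Scheme.{u}) (p : Y' ⟶ Y) (n : ℕ) (V : Fin n → Y'.Opens), IsFinite p ∧ Surjective p ∧ ⨆ i, V i = ⊤ ∧ ∀ i, ∃ (j : E.I₀) (h : (↑(V i) : Scheme.{u}) ⟶ E.X j), h ≫ E.f j = (V i).ι ≫ p := by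
  classical
  let f : (∐ E.X) ⟶ Y := Limits.Sigma.desc E.f
  haveI : LocallyOfFiniteType f := IsZariskiLocalAtSource.sigmaDesc (P := @LocallyOfFiniteType) fun k => inferInstance
  haveI : LocallyQuasiFinite f := IsZariskiLocalAtSource.sigmaDesc (P := @LocallyQuasiFinite) fun k => inferInstance
  haveI : LocallyOfFinitePresentation f := inferInstance
  haveI : ∀ j, CompactSpace (E.X j) := fun j => QuasiCompact.compactSpace_of_compactSpace (E.f j)
  haveI : Finite (sigmaOpenCover E.X).I₀ := ‹Finite E.I₀›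
  haveI : ∀ i, CompactSpace ((sigmaOpenCover E.X).X i) := fun i =>
    inferInstanceAs (CompactSpace (E.X i))
  haveI : CompactSpace (∐ E.X : Scheme.{u}) := Scheme.OpenCover.compactSpace (sigmaOpenCover E.X)
  haveI : QuasiCompact f := quasiCompact_of_compactSpace f
  obtain ⟨Q, q, n, V, hq, hqs, -, -, hcov, hl⟩ := Groth.Agent.HTopUltra.exists_openCover_then_finite
    (Or.inr ‹IsNoetherian Y›) (PreZeroHypercover.singleton.{0} f)
    (fun _ => inferInstanceAs (LocallyOfFinitePresentation f)) (fun _ => inferInstanceAs (LocallyQuasiFinite f))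
    (Groth.Agent.HTopLib.isVCover_singleton_of_univSSubtrusive f
      (Groth.Agent.SubtrLib.univSSubtrusive_of_univSubmersive f hE))
  choose i g hg using hl
  let g' : ∀ j, (V j : Scheme.{u}) ⟶ ∐ E.X := fun j => g j
  have hg' : ∀ j, g' j ≫ f = (V j).ι ≫ q := hg
  let W : (Σ j : Fin n, E.I₀) → Q.Opens := fun p => (V p.1).ι ''ᵁ (g' p.1 ⁻¹ᵁ (Limits.Sigma.ι E.X p.2).opensRange)
  obtain ⟨m, ⟨e⟩⟩ := Finite.exists_equiv_fin (Σ j : Fin n, E.I₀)
  refine ⟨Q, q, m, fun k => W (e.symm k), hq, hqs, eq_top_iff.2 fun y _ => ?_, fun k => ?_⟩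
  · obtain ⟨j, hj⟩ := TopologicalSpace.Opens.mem_iSup.1 (hcov.ge (TopologicalSpace.Opens.mem_top y))
    obtain ⟨c, z, hz⟩ := (sigmaOpenCover E.X).exists_eq (g' j ⟨y, hj⟩)
    exact TopologicalSpace.Opens.mem_iSup.2 ⟨e ⟨j, c⟩, by
      show y ∈ W (e.symm (e _))
      erw [Equiv.symm_apply_apply]; exact ⟨⟨y, hj⟩, ⟨z, hz⟩, rfl⟩⟩
  · show ∃ (c : E.I₀) (h : (W (e.symm k) : Scheme.{u}) ⟶ E.X c), h ≫ E.f c = (W (e.symm k)).ι ≫ q
    generalize e.symm k = p
    obtain ⟨j, c⟩ := p
    let O := g' j ⁻¹ᵁ (Limits.Sigma.ι E.X c).opensRange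
    have hr : Set.range (O.ι ≫ g' j) ⊆ Set.range (Limits.Sigma.ι E.X c) := by
      rintro _ ⟨x, rfl⟩
      exact x.2
    refine ⟨c, ((V j).ι.isoImage O).inv ≫ IsOpenImmersion.lift _ _ hr, ?_⟩
    have e : IsOpenImmersion.lift (Limits.Sigma.ι E.X c) (O.ι ≫ g' j) hr ≫ E.f c = O.ι ≫ (V j).ι ≫ q := by
      rw [← hg' j, ← Limits.Sigma.ι_desc E.f c, IsOpenImmersion.lift_fac_assoc, Category.assoc]
    rw [Category.assoc, e, ← Category.assoc O.ι, ← Scheme.Hom.isoImage_hom_ι, Category.assoc,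
      Iso.inv_hom_id_assoc]

end Groth.Agent.S13732
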