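import Groth.Statements.S14790
import Groth.Agent.FlatOpen.Scheme
import Groth.Agent.LimTop.Closure
import Groth.Agent.FDesc.ProConsImage
-- import your own Groth.Agent.* helpers here

set_option autoImplicit false
set_option linter.style.haveILetI false
universe u
open CategoryTheory CategoryTheory.Limits AlgebraicGeometry
open Subtr

namespace Groth.Agent.S14790

/-- Take a scheme Y that is reduced, quasi-compact and quasi-separated, whose set of maximal points
(points with no proper generization) is quasi-compact, and f : X ⟶ Y a morphism of finite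
presentation. Then there is a dense quasi-compact open subset U ⊆ Y over which f is flat. -/
theorem result {X Y : Scheme.{u}} [IsReduced Y]
    [CompactSpace Y] [QuasiSeparatedSpace Y]
    (hgen : IsCompact {y : Y | ∀ y' : Y, y' ⤳ y → y' = y})
    (f : X ⟶ Y) [LocallyOfFinitePresentation f] [QuasiCompact f] [QuasiSeparated f] :
    ∃ U : Y.Opens, Dense (U : Set Y) ∧ IsCompact (U : Set Y) ∧ Flat (f ∣_ U) := by
  let N : Set X := {x : X | (f.stalkMap x).hom.Flat}ᶜ
  have hN : IsClosed N := (Groth.Agent.FlatOpen.Scheme.isOpen_stalkMap_flat f).isClosed_compl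
  let M := {y : Y | ∀ y' : Y, y' ⤳ y → y' = y}
  have hfield : ∀ y ∈ M, IsField (Y.presheaf.stalk y) := fun y hy => by
    refine isField_stalk_of_closure_mem_irreducibleComponents Y y ?_
    have hZ : IsIrreducible (irreducibleComponent y) := isIrreducible_irreducibleComponent
    have hη := hZ.isGenericPoint_genericPoint isClosed_irreducibleComponent
    have he : hZ.genericPoint = y := hy _ (hη.specializes mem_irreducibleComponent)
    rw [← he, hη.def]
    exact irreducibleComponent_mem_irreducibleComponents y
  have hdisj : ∀ y ∈ M, y ∉ closure (f.base '' N) := fun y hy hc => by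
    obtain ⟨z, ⟨x, hx, rfl⟩, hzy⟩ := Groth.Agent.LimTop.exists_specializes_of_mem_closure
      (Groth.Agent.FDesc.ProConsImage.isProConstructible_image f
        (Groth.Agent.LimTop.isProConstructible_of_isClosed hN)) hc
    have hfx : f x ∈ M := by rw [show f x = y from hy _ hzy]; exact hy
    apply hx
    letI := (f.stalkMap x).hom.toAlgebra
    letI := (hfield _ hfx).toField
    exact RingHom.flat_algebraMap_iff.2 (inferInstance : Module.Flat (Y.presheaf.stalk (f x)) (X.presheaf.stalk x))
  have hcov : ∀ y ∈ M, ∃ W : Y.Opens, y ∈ W ∧ IsAffineOpen W ∧ (W : Set Y) ⊆ (closure (f.base '' N))ᶜ :=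
    fun y hy => by
      obtain ⟨W, hW, hyW, hle⟩ := exists_isAffineOpen_mem_and_subset
        (show y ∈ (⟨(closure (f.base '' N))ᶜ, isClosed_closure.isOpen_compl⟩ : Y.Opens) from hdisj y hy)
      exact ⟨W, hyW, hW, hle⟩
  choose! W hyW hW hWN using hcov
  obtain ⟨t, hcovt⟩ := hgen.elim_nhds_subcover' (fun y _ => (W y : Set Y))
    (fun y hy => (W y).2.mem_nhds (hyW y hy))
  let U : Y.Opens := ⨆ y ∈ t, W y.1
  have hU : (U : Set Y) = ⋃ y ∈ t, (W y.1 : Set Y) := by simp [U]
  have hMU : M ⊆ (U : Set Y) := hU ▸ hcovt
  refine ⟨U, ?_, ?_, ?_⟩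
  · intro y
    have hZ : IsIrreducible (irreducibleComponent y) := isIrreducible_irreducibleComponent
    have hη := hZ.isGenericPoint_genericPoint isClosed_irreducibleComponent
    have hmax : hZ.genericPoint ∈ M := fun y' hy' => by
      have hle : irreducibleComponent y ⊆ closure {y'} := by
        rw [← hη.def]
        exact closure_minimal (Set.singleton_subset_iff.2 hy'.mem_closure) isClosed_closure
      have heq := eq_irreducibleComponent isIrreducible_singleton.closure.2 hle
      exact (hη.eq (show IsGenericPoint y' _ from heq)).symm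
    exact closure_mono (Set.singleton_subset_iff.2 (hMU hmax))
      ((hη.def).symm ▸ mem_irreducibleComponent)
  · rw [hU]
    exact t.finite_toSet.isCompact_biUnion fun y _ => (hW y.1 y.2).isCompact
  · refine Flat.of_stalkMap _ fun z => ?_
    have hz : (f.stalkMap z.1).hom.Flat := by
      by_contra hzn
      have hzU : f z.1 ∈ (U : Set Y) := z.2
      rw [hU] at hzU
      obtain ⟨y, -, hy⟩ := Set.mem_iUnion₂.1 hzU
      exact hWN y.1 y.2 hy (subset_closure ⟨z.1, hzn, rfl⟩)
    exact (RingHom.Flat.respectsIso.arrow_mk_iso_iff (morphismRestrictStalkMap f U z)).2 hz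

end Groth.Agent.S14790
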