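import Groth.Statements.S14771
import Groth.Agent.SubtrLib.Submersive
-- import your own Groth.Agent.* helpers here

set_option autoImplicit false
universe u
open CategoryTheory CategoryTheory.Limits AlgebraicGeometry
open Subtr

namespace Groth.Agent.S14771

/-- Let Y be locally Noetherian and f : X ⟶ Y quasi-compact and locally of finite type. The following
are equivalent: (i) f is universally submersive; (ii) every base change of f has the lifting
property for ordered pairs of points; (iii) for every discrete valuation ring D and morphism g :
Spec D ⟶ Y there are a discrete valuation ring D', a morphism a : Spec D' ⟶ X and a surjective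
morphism b : Spec D' ⟶ Spec D with a ≫ f = b ≫ g. (The published statement assumes f only locally of
finite type. Quasi-compactness cannot be dropped: over the local ring of a regular surface at a
closed point s, the disjoint union of the punctured surface, a regular curve C through s and, for
every n ≥ 1, the n-fold blow-up along successive points of the strict transform of C with the n-th
such point removed, satisfies (iii) with D' = D, while (ii) fails at a valuation ring of rank two
whose centres are exactly the removed points; the limit argument behind the published proof uses
quasi-compactness of the fibres.) -/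
theorem result {X Y : Scheme.{u}} [IsLocallyNoetherian Y]
    (f : X ⟶ Y) [LocallyOfFiniteType f] [QuasiCompact f] :
    List.TFAE [
      SGA1.UnivSubmersive f,
      Subtr.UnivSSubtrusive f,
      ∀ (D : Type u) [CommRing D] [IsDomain D] [IsDiscreteValuationRing D] (g : Spec (CommRingCat.of D) ⟶ Y),
        ∃ (D' : Type u) (_ : CommRing D') (_ : IsDomain D') (_ : IsDiscreteValuationRing D')
          (a : Spec (CommRingCat.of D') ⟶ X) (b : Spec (CommRingCat.of D') ⟶ Spec (CommRingCat.of D)),
          Surjective b ∧ a ≫ f = b ≫ g] := by
  open Groth.Agent.SubtrLib in
  tfae_have 1 → 2 := univSSubtrusive_of_univSubmersive f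
  tfae_have 2 → 1 := univSubmersive_of_univSSubtrusive f
  tfae_have 2 → 3 := by
    intro h D _ _ _ g
    have hp := h _ _ _ (IsPullback.of_hasPullback f g).flip
    obtain ⟨z, z', hzz, hz, hz'⟩ := hp (gen_specializes (IsLocalRing.closedPoint D))
    haveI : LocallyOfFiniteType (pullback.snd f g) := inferInstance
    haveI : IsLocallyNoetherian (Spec (CommRingCat.of D)) :=
      isLocallyNoetherian_Spec (R := CommRingCat.of D) |>.2 inferInstance
    haveI : IsLocallyNoetherian (pullback f g) := LocallyOfFiniteType.isLocallyNoetherian (pullback.snd f g)
    have hne : z' ≠ z := fun e => by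
      rw [e, hz] at hz'
      exact IsDiscreteValuationRing.not_a_field D (congrArg PrimeSpectrum.asIdeal hz')
    obtain ⟨D', _, _, _, u, hu, hu'⟩ := Groth.Agent.RatMapExt.exists_dvr_of_specializes hzz hne
    have hgen : u (gen D') = z' := by
      have := hu' (IsLocalRing.closedPoint (FractionRing D'))
      erw [Scheme.Hom.comp_apply, range_fracMap] at this
      exact this
    refine ⟨D', inferInstance, inferInstance, inferInstance, u ≫ pullback.fst f g,
      u ≫ pullback.snd f g, surjective_of_closedPoint_gen _ ?_ ?_, ?_⟩
    · exact (congrArg (pullback.snd f g) hu).trans hz
    · exact (congrArg (pullback.snd f g) hgen).trans hz'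
    · rw [Category.assoc, Category.assoc, pullback.condition]
  tfae_have 3 → 2 := by
    intro h
    refine univSSubtrusive_of_forall_dvr f ?_
    intro D _ _ _ g
    obtain ⟨D', _, _, _, a, b, hb, hab⟩ := h D g
    refine ((Groth.Agent.SubtrLib.tfae D (pullback.snd f g)).out 1 4 rfl rfl).2
      ⟨D', inferInstance, inferInstance, inferInstance, pullback.lift a b hab, ?_⟩
    rw [pullback.lift_snd]
    exact hb
  tfae_finish

end Groth.Agent.S14771
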