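import Groth.Statements.S13734
import Groth.Agent.S14771
-- import your own Groth.Agent.* helpers here

set_option autoImplicit false
universe u
open HTop

namespace Groth.Agent.S13734

open CategoryTheory CategoryTheory.Limits AlgebraicGeometry in
/-- Let S be a separated Noetherian scheme and f : X → S a separated morphism of finite type. Then f is
universally submersive (an h-covering) if and only if, for every discrete valuation ring R and every
morphism g : Spec R → S, there are a discrete valuation ring R', a morphism φ : Spec R' → Spec R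
surjective on points and a morphism h : Spec R' → X with h ≫ f = φ ≫ g. -/
theorem result {X S : Scheme.{u}} [IsNoetherian S] [S.IsSeparated] (f : X ⟶ S) [LocallyOfFiniteType f] [QuasiCompact f] [IsSeparated f] : SGA1.UnivSubmersive f ↔ ∀ (R : Type u) [CommRing R] [IsDomain R] [IsDiscreteValuationRing R] (g : Spec (CommRingCat.of R) ⟶ S), ∃ (R' : Type u) (_ : CommRing R') (_ : IsDomain R') (_ : IsDiscreteValuationRing R') (φ : Spec (CommRingCat.of R') ⟶ Spec (CommRingCat.of R)) (h : Spec (CommRingCat.of R') ⟶ X), Surjective φ ∧ h ≫ f = φ ≫ g := by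
  refine ((Groth.Agent.S14771.result f).out 0 2 rfl rfl).trans ⟨fun h R _ _ _ g => ?_, fun h R _ _ _ g => ?_⟩
  · obtain ⟨R', i₁, i₂, i₃, a, b, hb, hab⟩ := h R g
    exact ⟨R', i₁, i₂, i₃, b, a, hb, hab⟩
  · obtain ⟨R', i₁, i₂, i₃, b, a, hb, hab⟩ := h R g
    exact ⟨R', i₁, i₂, i₃, a, b, hb, hab⟩

end Groth.Agent.S13734
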