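import Groth.Statements.S13735
import Groth.Agent.S2562
import Groth.Agent.AlgSpCov.SchemeDescent
import Groth.Agent.SubtrLib.Submersive

set_option autoImplicit false
universe u
open HTop

namespace Groth.Agent.S13735

open CategoryTheory CategoryTheory.Limits AlgebraicGeometry in
/-- Let S be a separated reduced Noetherian scheme, f : X → S a separated morphism locally of finite
type and g : S' → S a separated morphism of finite type which is universally submersive (an
h-covering). If the base change of f along g is flat, then f is flat. -/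
theorem result {X S S' : Scheme.{u}} [IsNoetherian S] [IsReduced S] [S.IsSeparated] (f : X ⟶ S) [LocallyOfFiniteType f] [IsSeparated f] (g : S' ⟶ S) [LocallyOfFiniteType g] [QuasiCompact g] [IsSeparated g] (hg : SGA1.UnivSubmersive g) (hflat : Flat (pullback.snd f g)) : Flat f := by
  refine Flat.iff_flat_stalkMap f |>.2 fun x => ?_
  refine (Groth.Agent.S2562.result f x).2 fun A' _ _ _ φ _ x' _ _ => ?_
  let h : Spec (CommRingCat.of A') ⟶ S := Spec.map (CommRingCat.ofHom φ) ≫ S.fromSpecStalk (f.base x)
  haveI hF : Flat (pullback.snd f h) := by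
    obtain ⟨W, _, _, _, a, b, hb, hab⟩ := (Groth.Agent.SubtrLib.univSSubtrusive_iff_exists_lift g).1
      (Groth.Agent.SubtrLib.univSSubtrusive_of_univSubmersive g hg) A' h
    have hbf : Flat b := by
      haveI := hb
      refine Groth.Agent.SubtrLib.flat_of_generic b fun U hU => ?_
      obtain ⟨z, hz⟩ : ∃ z, z ∈ U := by
        by_contra hne
        exact hU (bot_unique fun z hz => hne ⟨z, hz⟩)
      exact ⟨Groth.Agent.SubtrLib.gen W, (Groth.Agent.SubtrLib.gen_specializes z).mem_open U.2 hz,
        (Groth.Agent.SubtrLib.closedPoint_and_gen b hb.surj).2⟩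
    haveI := hbf
    -- the base change of `f` to `W` is flat
    let m : pullback f (b ≫ h) ⟶ pullback f g :=
      pullback.lift (pullback.fst _ _) (pullback.snd _ _ ≫ a) (by
        rw [Category.assoc, hab]; exact pullback.condition)
    have hm : IsPullback (pullback.snd f (b ≫ h)) m a (pullback.snd f g) :=
      (IsPullback.of_right (h₁₂ := pullback.fst f g) (h₁₁ := m) (v₁₁ := pullback.snd f (b ≫ h)) (h₂₁ := a)
        (by rw [hab, pullback.lift_fst]; exact IsPullback.of_hasPullback _ _)
        (pullback.lift_snd _ _ _) (IsPullback.of_hasPullback f g)).flip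
    haveI : Flat (pullback.snd f (b ≫ h)) := MorphismProperty.of_isPullback hm.flip hflat
    let n : pullback f (b ≫ h) ⟶ pullback f h :=
      pullback.lift (pullback.fst _ _) (pullback.snd _ _ ≫ b) (by
        rw [Category.assoc]; exact pullback.condition)
    have hn : IsPullback (pullback.snd f (b ≫ h)) n b (pullback.snd f h) :=
      (IsPullback.of_right (h₁₂ := pullback.fst f h) (h₁₁ := n) (v₁₁ := pullback.snd f (b ≫ h)) (h₂₁ := b)
        (by rw [pullback.lift_fst]; exact IsPullback.of_hasPullback _ _)
        (pullback.lift_snd _ _ _) (IsPullback.of_hasPullback f h)).flip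
    exact MorphismProperty.of_isPullback_of_descendsAlong (P := @Flat)
      (Q := @Surjective ⊓ @Flat ⊓ @QuasiCompact) hn ⟨⟨hb, hbf⟩, inferInstance⟩ ‹Flat (pullback.snd f (b ≫ h))›
  exact (Flat.iff_flat_stalkMap _).1 hF x'

end Groth.Agent.S13735
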