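import Groth.Statements.S1454
import Groth.Agent.GUGoingDown.Equiv
import Groth.Agent.Wt.UnivOpenAn
import Mathlib.Topology.Sober
import Mathlib.AlgebraicGeometry.Morphisms.QuasiFinite
-- import your own Groth.Agent.* helpers here

set_option autoImplicit false
universe u
open FlatMor

namespace Groth.Agent.S1454

open AlgebraicGeometry CategoryTheory Limits

/-- Points with no proper generalisation map to points with no proper generalisation. -/
def MaxToMax {X Y : Scheme.{u}} (f : X ⟶ Y) : Prop :=
  ∀ x : X, (∀ x' : X, x' ⤳ x → x' = x) → ∀ y : Y, y ⤳ f x → y = f x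

theorem generalizingMap_spec {A B : CommRingCat.{u}} (φ : A ⟶ B) [LocallyQuasiFinite (Spec.map φ)]
    [LocallyOfFiniteType (Spec.map φ)]
    (hgu : ∀ y : Spec A, CAlg2.IsGeomUnibranch ((Spec A).presheaf.stalk y)) (hmax : MaxToMax (Spec.map φ))
    (σ : Type u) : GeneralizingMap ⇑(AffineSpace.map σ (Spec.map φ)) := by
  algebraize [φ.hom]
  have : Algebra.FiniteType A B := (HasRingHomProperty.Spec_iff (P := @LocallyOfFiniteType)).mp ‹_›
  have : Algebra.QuasiFinite A B := (HasRingHomProperty.Spec_iff (P := @LocallyQuasiFinite)).mp ‹_›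
  have hloc : ∀ (y : Ideal A) [y.IsPrime], CAlg2.IsGeomUnibranch (Localization.AtPrime y) := fun y _ ↦ by
    let st := (Spec A).presheaf.stalk (⟨y, ‹_›⟩ : PrimeSpectrum A)
    let _ : Algebra A st := StructureSheaf.stalkAlgebra A ⟨y, ‹_›⟩
    have : IsLocalization.AtPrime st y := StructureSheaf.IsLocalization.to_stalk A ⟨y, ‹_›⟩
    exact GUGoingDown.isGeomUnibranch_congr
      (IsLocalization.algEquiv y.primeCompl st (Localization.AtPrime y)).toRingEquiv (hgu _)
  have hmin : ∀ q ∈ minimalPrimes B, q.comap (algebraMap A B) ∈ minimalPrimes A := by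
    intro q hq
    have hqp : q.IsPrime := hq.1.1
    obtain ⟨N, hN, hNle⟩ := Ideal.exists_minimalPrimes_le (bot_le : ⊥ ≤ q.comap (algebraMap A B))
    have hNp : N.IsPrime := hN.1.1
    have h1 := hmax (⟨q, hqp⟩ : PrimeSpectrum B) (fun x' hx' ↦ by
      have h := (PrimeSpectrum.le_iff_specializes x' (⟨q, hqp⟩ : PrimeSpectrum B)).mpr hx'
      exact PrimeSpectrum.ext (le_antisymm h (hq.2 ⟨x'.isPrime, bot_le⟩ h)))
      (⟨N, hNp⟩ : PrimeSpectrum A)
      ((PrimeSpectrum.le_iff_specializes _ (PrimeSpectrum.comap φ.hom ⟨q, hqp⟩)).mp hNle)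
    have h2 : N = q.comap (algebraMap A B) := congrArg PrimeSpectrum.asIdeal h1
    exact h2 ▸ hN
  have hgen : GeneralizingMap (PrimeSpectrum.comap (MvPolynomial.map (σ := σ) φ.hom)) := by
    intro Q p hp
    have hle := (PrimeSpectrum.le_iff_specializes p _).mpr hp
    obtain ⟨Q₁, hQ₁, hQ₁Q, hQ₁p⟩ := GUGoingDown.exists_prime_le hloc hmin σ Q.asIdeal p.asIdeal hle
    exact ⟨⟨Q₁, hQ₁⟩, (PrimeSpectrum.le_iff_specializes _ Q).mp hQ₁Q, PrimeSpectrum.ext hQ₁p⟩
  have hrw := AffineSpace.map_SpecMap (n := σ) φ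
  intro z y hy
  rw [hrw, Scheme.Hom.comp_apply, Scheme.Hom.comp_apply] at hy
  have hy' := hy.map (AffineSpace.SpecIso σ A).hom.continuous
  rw [← Scheme.Hom.comp_apply _ (AffineSpace.SpecIso σ A).hom, Iso.inv_hom_id] at hy'
  obtain ⟨w, hw, hwe⟩ := hgen hy'
  refine ⟨(AffineSpace.SpecIso σ B).inv w, ?_, ?_⟩
  · have := hw.map (AffineSpace.SpecIso σ B).inv.continuous
    rwa [← Scheme.Hom.comp_apply, Iso.hom_inv_id] at this
  · have e1 : ∀ v, (AffineSpace.SpecIso σ A).inv ((AffineSpace.SpecIso σ A).hom v) = v := fun v ↦ by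
      rw [← Scheme.Hom.comp_apply, Iso.hom_inv_id]; rfl
    have e2 : (AffineSpace.SpecIso σ B).hom ((AffineSpace.SpecIso σ B).inv w) = w := by
      rw [← Scheme.Hom.comp_apply, Iso.inv_hom_id]; rfl
    rw [hrw, Scheme.Hom.comp_apply, Scheme.Hom.comp_apply, e2, ← e1 y]
    exact congrArg _ hwe

theorem universallyOpen_spec {A B : CommRingCat.{u}} [IsNoetherianRing A] (φ : A ⟶ B)
    [LocallyQuasiFinite (Spec.map φ)] [LocallyOfFiniteType (Spec.map φ)]
    (hgu : ∀ y : Spec A, CAlg2.IsGeomUnibranch ((Spec A).presheaf.stalk y)) (hmax : MaxToMax (Spec.map φ)) :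
    UniversallyOpen (Spec.map φ) := by
  have : LocallyOfFinitePresentation (Spec.map φ) :=
    LocallyOfFinitePresentation.iff_locallyOfFiniteType.mpr inferInstance
  refine Wt.UnivOpenAn.universallyOpen_of_affineSpace _ fun σ ↦ ?_
  have : LocallyOfFinitePresentation (AffineSpace.map σ (Spec.map φ)) :=
    MorphismProperty.of_isPullback (AffineSpace.isPullback_map (n := σ) (Spec.map φ)).flip inferInstance
  exact isOpenMap_of_generalizingMap _ (generalizingMap_spec φ hgu hmax σ)

theorem maxToMax_of_comm {X Y X' Y' : Scheme.{u}} {f : X ⟶ Y} {g : X' ⟶ Y'} (i : X' ⟶ X) (j : Y' ⟶ Y)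
    [IsOpenImmersion i] [IsOpenImmersion j] (h : i ≫ f = g ≫ j) (hf : MaxToMax f) : MaxToMax g := by
  intro x hx y hy
  have hfx : f (i x) = j (g x) := by rw [← Scheme.Hom.comp_apply, h, Scheme.Hom.comp_apply]
  have hix : ∀ x' : X, x' ⤳ i x → x' = i x := by
    intro x' hx'
    obtain ⟨z, rfl⟩ := hx'.mem_open i.opensRange.2 ⟨x, rfl⟩
    rw [hx z (i.isOpenEmbedding.isInducing.specializes_iff.mp hx')]
  have h' := hf (i x) hix (j y) (by rw [hfx]; exact hy.map j.continuous)
  rw [hfx] at h'
  exact j.isOpenEmbedding.injective h'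

open AlgebraicGeometry CategoryTheory Limits in
/-- Consider a locally quasi-finite f : X → Y whose target is locally Noetherian with geometrically
unibranch local rings, and assume every irreducible component of X dominates an irreducible
component of Y (its generic point maps to a generic point of an irreducible component of Y). Then f
is universally open. -/
theorem result {X Y : Scheme.{u}} (f : X ⟶ Y) [LocallyQuasiFinite f] [LocallyOfFiniteType f] [IsLocallyNoetherian Y]
    (hY : ∀ y : Y, CAlg2.IsGeomUnibranch (Y.presheaf.stalk y))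
    (hdom : ∀ Z ∈ irreducibleComponents ↑X, ∀ x : X, IsGenericPoint x Z → ∃ W ∈ irreducibleComponents ↑Y, IsGenericPoint (f x) W) :
    UniversallyOpen f := by
  have hmax : MaxToMax f := by
    intro x hx y hy
    obtain ⟨W, hW, hWfx⟩ := hdom (closure {x}) ⟨isIrreducible_singleton.closure, fun Z hZ hle ↦ by
      have hgen := hZ.closure.isGenericPoint_genericPoint isClosed_closure
      have : hZ.closure.genericPoint ⤳ x :=
        hgen.specializes (subset_closure (hle (subset_closure rfl)))
      rw [hx _ this] at hgen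
      exact (subset_closure.trans hgen.def.ge)⟩ x rfl
    have h1 : W ⊆ closure {y} := by
      rw [← hWfx.def]
      exact closure_minimal (Set.singleton_subset_iff.mpr hy.mem_closure) isClosed_closure
    have h2 := hW.2 isIrreducible_singleton.closure h1
    exact (show IsGenericPoint y W from le_antisymm h2 h1).eq hWfx
  rw [IsZariskiLocalAtTarget.iff_of_openCover (P := @UniversallyOpen) Y.affineCover]
  intro j
  change UniversallyOpen (pullback.snd f (Y.affineCover.f j))
  rw [IsZariskiLocalAtSource.iff_of_openCover (P := @UniversallyOpen) (pullback f (Y.affineCover.f j)).affineCover]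
  intro i
  let 𝒰 := (pullback f (Y.affineCover.f j)).affineCover
  let g : 𝒰.X i ⟶ Y.affineCover.X j := 𝒰.f i ≫ pullback.snd f (Y.affineCover.f j)
  change UniversallyOpen g
  have : IsOpenImmersion (𝒰.f i) := 𝒰.map_prop i
  have : LocallyQuasiFinite g := MorphismProperty.comp_mem @LocallyQuasiFinite (𝒰.f i) (pullback.snd f (Y.affineCover.f j)) inferInstance
    (MorphismProperty.pullback_snd _ _ inferInstance)
  have : LocallyOfFiniteType g := MorphismProperty.comp_mem @LocallyOfFiniteType (𝒰.f i) (pullback.snd f (Y.affineCover.f j)) inferInstance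
    (MorphismProperty.pullback_snd _ _ inferInstance)
  have hg : MaxToMax g := maxToMax_of_comm (𝒰.f i ≫ pullback.fst f (Y.affineCover.f j)) (Y.affineCover.f j)
    (by rw [Category.assoc, pullback.condition, Category.assoc]) hmax
  have hgu : ∀ y, CAlg2.IsGeomUnibranch ((Y.affineCover.X j).presheaf.stalk y) := fun y ↦
    GUGoingDown.isGeomUnibranch_congr
      (asIso ((Y.affineCover.f j).stalkMap y)).commRingCatIsoToRingEquiv (hY _)
  have hNoeth : IsLocallyNoetherian (Y.affineCover.X j) := isLocallyNoetherian_of_isOpenImmersion (Y.affineCover.f j)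
  obtain ⟨φ, hφ⟩ := Spec.map_surjective g
  have : IsNoetherianRing _ := isLocallyNoetherian_Spec.mp hNoeth
  rw [← hφ] at hg ⊢
  have : LocallyQuasiFinite (Spec.map φ) := by rw [hφ]; assumption
  have : LocallyOfFiniteType (Spec.map φ) := by rw [hφ]; assumption
  exact universallyOpen_spec φ hgu hg

end Groth.Agent.S1454
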