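import Groth.Statements.S13736
import Mathlib
import Groth.Agent.S1454
import Groth.Agent.RatMapExt.Valuative
import Groth.Agent.SGA1Desc.OpenEff
-- import your own Groth.Agent.* helpers here

set_option autoImplicit false
universe u
open HTop

namespace Groth.Agent.S13736

section
open CategoryTheory CategoryTheory.Limits AlgebraicGeometry

/-- If a composite is universally submersive then so is the second map. -/
theorem univSubmersive_of_comp {X Y Z : Scheme.{u}} (c : X ⟶ Y) (p : Y ⟶ Z) (h : SGA1.UnivSubmersive (c ≫ p)) :
    SGA1.UnivSubmersive p := by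
  intro Y' Z' fY fZ p' hP
  let c' := pullback.snd c fY
  have hq : Topology.IsQuotientMap (c' ≫ p') :=
    h (pullback.fst c fY) fZ (c' ≫ p') ((IsPullback.of_hasPullback c fY).flip.paste_horiz hP)
  exact Topology.IsQuotientMap.of_comp c'.continuous p'.continuous hq

end

open CategoryTheory CategoryTheory.Limits AlgebraicGeometry in
/-- Let X be a separated irreducible Noetherian scheme whose local rings are all geometrically
unibranch, and {p_i : U_i → X} a finite family of separated quasi-finite morphisms of finite type
with every U_i irreducible. Then the induced morphism from the disjoint union of the U_i to X is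
universally submersive (a qfh-covering) if and only if the dominant members p_i are jointly
surjective onto X; in that case the induced morphism from the disjoint union of the dominant members
alone is already universally submersive. (The published statement does not require the U_i
irreducible; for the affine line X over a field and the single member U = (X minus a closed point) ⊔
(that point) → X, which is dominant and surjective, the quotient property fails, and the published
proof uses that every irreducible component of a dominant member dominates X, so the members are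
taken irreducible here.) -/
theorem result {X : Scheme.{u}} [IsNoetherian X] [X.IsSeparated] [IrreducibleSpace ↥X] (hX : ∀ x : X, CAlg2.IsGeomUnibranch (X.presheaf.stalk x)) (E : PreZeroHypercover.{u} X) [Finite E.I₀] [∀ i, LocallyOfFiniteType (E.f i)] [∀ i, QuasiCompact (E.f i)] [∀ i, LocallyQuasiFinite (E.f i)] [∀ i, IsSeparated (E.f i)] [∀ i, IrreducibleSpace ↥(E.X i)] : (SGA1.UnivSubmersive (Sigma.desc E.f) ↔ ∀ x : X, ∃ (i : E.I₀) (u : E.X i), IsDominant (E.f i) ∧ E.f i u = x) ∧ ((∀ x : X, ∃ (i : E.I₀) (u : E.X i), IsDominant (E.f i) ∧ E.f i u = x) → SGA1.UnivSubmersive (Sigma.desc fun j : {i : E.I₀ // IsDominant (E.f i)} => E.f j.1)) := by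
  classical
  have hopen : ∀ j : E.I₀, IsDominant (E.f j) → UniversallyOpen (E.f j) := fun j hj => by
    refine S1454.result (E.f j) hX fun Z hZ x hx => ?_
    rw [irreducibleComponents_eq_singleton] at hZ ⊢
    have hZ' : Z = Set.univ := hZ
    have hx' : x = genericPoint (E.X j) :=
      (show closure {x} = Set.univ from hZ' ▸ hx.def) |> fun h =>
        IsGenericPoint.eq (S := Set.univ) h (genericPoint_spec _)
    refine ⟨Set.univ, rfl, ?_⟩
    rw [hx']
    have := (genericPoint_spec (E.X j)).image (E.f j).continuous
    rw [Set.image_univ, (E.f j).denseRange.closure_eq] at this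
    exact this
  have hback : (∀ x : X, ∃ (i : E.I₀) (u : E.X i), IsDominant (E.f i) ∧ E.f i u = x) →
      SGA1.UnivSubmersive (Sigma.desc fun j : {i : E.I₀ // IsDominant (E.f i)} => E.f j.1) := by
    intro h
    haveI : UniversallyOpen (Sigma.desc fun j : {i : E.I₀ // IsDominant (E.f i)} => E.f j.1) :=
      IsZariskiLocalAtSource.sigmaDesc fun j => hopen j.1 j.2
    haveI : Surjective (Sigma.desc fun j : {i : E.I₀ // IsDominant (E.f i)} => E.f j.1) := ⟨fun x => by
      obtain ⟨i, u, hi, hu⟩ := h x
      refine ⟨Sigma.ι (fun j : {i : E.I₀ // IsDominant (E.f i)} => E.X j.1) ⟨i, hi⟩ u, ?_⟩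
      rw [← Scheme.Hom.comp_apply, Sigma.ι_desc]
      exact hu⟩
    exact SGA1Desc.univSubmersive_of_open _
  refine ⟨⟨fun hsub x => ?_, fun h => ?_⟩, hback⟩
  · have hdomη : ∀ (j : E.I₀) (p : E.X j), E.f j p = genericPoint X → IsDominant (E.f j) := fun j p hp =>
      ⟨fun y => closure_mono (show ({genericPoint X} : Set X) ⊆ Set.range (E.f j) from
        Set.singleton_subset_iff.2 ⟨p, hp⟩) (by rw [genericPoint_closure]; trivial)⟩
    have hι : ∀ z : (∐ E.X : Scheme.{u}), ∃ j p, Sigma.ι E.X j p = z := fun z => by
      obtain ⟨⟨j, p⟩, h⟩ := (sigmaMk E.X).surjective z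
      exact ⟨j, p, h ▸ (sigmaMk_mk E.X j p).symm⟩
    by_cases hx : x = genericPoint X
    · obtain ⟨z, hz⟩ := (hsub (𝟙 _) (𝟙 _) (Sigma.desc E.f) (IsPullback.of_vert_isIso ⟨by simp⟩)).surjective x
      obtain ⟨j, p, rfl⟩ := hι z
      rw [← Scheme.Hom.comp_apply, Sigma.ι_desc] at hz
      exact ⟨j, p, hdomη j p (hz.trans hx), hz⟩
    obtain ⟨R, _, _, _, v, hv0, hv1⟩ := RatMapExt.exists_dvr_of_specializes (genericPoint_specializes x) (Ne.symm hx)
    set π := Sigma.desc E.f
    have hq : Topology.IsQuotientMap (pullback.snd π v) :=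
      hsub (pullback.fst π v) v (pullback.snd π v) (IsPullback.of_hasPullback π v).flip
    let η : Spec (CommRingCat.of R) := (⟨⊥, Ideal.isPrime_bot⟩ : PrimeSpectrum R)
    let G : Set ↥(pullback π v) := pullback.snd π v ⁻¹' {η}
    have hvη : v η = genericPoint X := by
      let ξ : Spec (CommRingCat.of (FractionRing R)) := (⟨⊥, Ideal.isPrime_bot⟩ : PrimeSpectrum (FractionRing R))
      rw [← hv1 ξ, Scheme.Hom.comp_apply]
      refine congrArg v (PrimeSpectrum.ext ?_)
      exact (Ideal.comap_bot_of_injective _ (IsFractionRing.injective R (FractionRing R))).symm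
    have hnc : ¬ IsClosed G := fun h => by
      have h1 : IsClosed ({η} : Set (PrimeSpectrum R)) := hq.isClosed_preimage.1 h
      exact IsDiscreteValuationRing.not_a_field R
        (IsLocalRing.eq_maximalIdeal ((PrimeSpectrum.isClosed_singleton_iff_isMaximal _).1 h1)).symm
    obtain ⟨q, hqc, hqG⟩ := Set.not_subset.1 (mt closure_subset_iff_isClosed.1 hnc)
    let C : Set (∐ E.X : Scheme.{u}) := (⋃ (j : E.I₀) (_ : ¬ IsDominant (E.f j)), Set.range (Sigma.ι E.X j))ᶜ
    have hC : IsClosed C := (isOpen_iUnion fun j => isOpen_iUnion fun _ =>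
      (Sigma.ι E.X j).isOpenEmbedding.isOpen_range).isClosed_compl
    have hGC : G ⊆ pullback.fst π v ⁻¹' C := by
      intro g hg hg'
      simp only [Set.mem_iUnion] at hg'
      obtain ⟨j, hj, p, hp⟩ := hg'
      refine hj (hdomη j p ?_)
      have h1 : π (pullback.fst π v g) = v (pullback.snd π v g) := by
        rw [← Scheme.Hom.comp_apply, pullback.condition, Scheme.Hom.comp_apply]
      rw [← hp, ← Scheme.Hom.comp_apply, Sigma.ι_desc, show pullback.snd π v g = η from hg] at h1
      exact h1.trans hvη
    have hqC := closure_minimal hGC (hC.preimage (pullback.fst π v).continuous) hqc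
    obtain ⟨j, p, hp⟩ := hι (pullback.fst π v q)
    refine ⟨j, p, ?_, ?_⟩
    · by_contra hj
      exact hqC (Set.mem_iUnion₂.2 ⟨j, hj, p, hp⟩)
    · have h1 : π (pullback.fst π v q) = v (pullback.snd π v q) := by
        rw [← Scheme.Hom.comp_apply, pullback.condition, Scheme.Hom.comp_apply]
      rw [← hp, ← Scheme.Hom.comp_apply, Sigma.ι_desc] at h1
      rw [h1, ← hv0]
      refine congrArg v (PrimeSpectrum.ext ?_)
      by_contra hne
      rcases eq_or_ne (pullback.snd π v q).asIdeal ⊥ with h0 | h0
      · exact hqG (PrimeSpectrum.ext h0)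
      · exact hne (IsLocalRing.eq_maximalIdeal ((pullback.snd π v q).2.isMaximal h0))
  · have h' := hback h
    -- the whole family: through the dominant members
    let c : (∐ fun j : {i : E.I₀ // IsDominant (E.f i)} => E.X j.1) ⟶ ∐ E.X := Sigma.desc fun j => Sigma.ι E.X j.1
    have hc : c ≫ Sigma.desc E.f = Sigma.desc fun j : {i : E.I₀ // IsDominant (E.f i)} => E.f j.1 :=
      Sigma.hom_ext _ _ fun j => by simp [c]
    rw [← hc] at h'
    exact univSubmersive_of_comp c (Sigma.desc E.f) h' 

end Groth.Agent.S13736
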