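import Groth.Statements.S13737
import Groth.Agent.BlowUp.Basic
import Groth.Agent.SubtrLib.Val
import Groth.Agent.SubtrLib.Submersive
-- import your own Groth.Agent.* helpers here

set_option autoImplicit false
set_option linter.style.haveILetI false
universe u
open HTop

namespace Groth.Agent.S13737

open CategoryTheory CategoryTheory.Limits AlgebraicGeometry in
/-- Let X be a separated integral Noetherian scheme, b : X' → X a blow-up of X in a quasi-coherent sheaf
of ideals (characterised by the universal property of blowing up), with X' separated and b of finite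
type, and let U be an open subscheme of X' whose composite U → X' → X is universally submersive (an
h-covering). Then U = X'. (The published statement takes X only integral; its proof applies the
surjectivity of dominating components for Noetherian schemes, so this row takes X Noetherian.) -/
theorem result {X X' : Scheme.{u}} [IsNoetherian X] [X.IsSeparated] [IsIntegral X] [X'.IsSeparated] (𝓘 : X.IdealSheafData) (b : X' ⟶ X) [LocallyOfFiniteType b] [QuasiCompact b] (hb : BlowUp.IsBlowUp b 𝓘) (U : X'.Opens) (hU : SGA1.UnivSubmersive (U.ι ≫ b)) : U = ⊤ := by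
  haveI : IsLocallyNoetherian X' := LocallyOfFiniteType.isLocallyNoetherian b
  haveI : CompactSpace X' := QuasiCompact.compactSpace_of_compactSpace b
  haveI : IsNoetherian X' := {}
  haveI : QuasiCompact (U.ι ≫ b) := inferInstance
  have hS := Groth.Agent.SubtrLib.univSSubtrusive_of_univSubmersive (U.ι ≫ b) hU
  refine top_unique fun x _ => ?_
  -- a maximal generalization of `x`, outside the exceptional divisor
  obtain ⟨η, hηx, hη⟩ : ∃ η : X', η ⤳ x ∧ ∀ y : X', y ⤳ η → y = η := by
    have hgen := (isIrreducible_irreducibleComponent (x := x)).isGenericPoint_genericPoint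
      isClosed_irreducibleComponent
    refine ⟨_, hgen.specializes mem_irreducibleComponent, fun y hy => ?_⟩
    have : closure ({y} : Set X') = irreducibleComponent x := by
      refine ((irreducibleComponent_property x).2.2 (closure ({y} : Set X'))
        isIrreducible_singleton.closure.isPreirreducible ?_).le.antisymm ?_
      · rw [← hgen.def]
        exact closure_minimal (Set.singleton_subset_iff.2 (specializes_iff_mem_closure.1 hy)) isClosed_closure
      · rw [← hgen.def]
        exact closure_minimal (Set.singleton_subset_iff.2 (specializes_iff_mem_closure.1 hy)) isClosed_closure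
    exact IsGenericPoint.eq (this : IsGenericPoint y (irreducibleComponent x)) hgen
  let C : X.Opens := 𝓘.support.compl
  haveI := Groth.Agent.BlowUp.Basic.isIso_restrict hb C disjoint_compl_left
  have hηC : b η ∈ C := fun h => by
    refine Groth.Agent.IdealSh.Regular.not_mem_support_of_maximal hb.1 η hη ?_
    show η ∈ ((𝓘.comap b).support : Set X')
    rw [Scheme.IdealSheafData.support_comap]
    exact h
  obtain ⟨V, _, _, _, g, hg, hg'⟩ := Groth.Agent.SubtrLib.exists_valuationRing_of_specializes hηx
  obtain ⟨W, _, _, _, a, c, hc, hac⟩ :=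
    (Groth.Agent.SubtrLib.univSSubtrusive_iff_exists_lift (U.ι ≫ b)).1 hS V (g ≫ b)
  obtain ⟨hc₁, hc₂⟩ := Groth.Agent.SubtrLib.closedPoint_and_gen c hc.surj
  let q : Spec (CommRingCat.of (FractionRing W)) ⟶ Spec (CommRingCat.of W) :=
    Spec.map (CommRingCat.ofHom (algebraMap W (FractionRing W)))
  haveI : IsDominant q := by
    refine ⟨fun z => ?_⟩
    have h0 : Groth.Agent.SubtrLib.gen W ∈ Set.range q :=
      ⟨IsLocalRing.closedPoint (FractionRing W), Groth.Agent.SubtrLib.range_fracMap _⟩
    exact closure_mono (Set.singleton_subset_iff.2 h0)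
      (specializes_iff_mem_closure.1 (Groth.Agent.SubtrLib.gen_specializes z))
  -- the two maps to the blow-up agree on the generic point
  have heq : a ≫ U.ι = c ≫ g := by
    refine ext_of_isDominant q ?_
    have hrng : ∀ (l : Spec (CommRingCat.of W) ⟶ X'), l ≫ b = c ≫ g ≫ b →
        Set.range (q ≫ l) ⊆ Set.range (b ⁻¹ᵁ C).ι := by
      rintro l hl _ ⟨z, rfl⟩
      rw [Scheme.Opens.range_ι]
      show b ((q ≫ l) z) ∈ C
      rw [← Scheme.Hom.comp_apply, Category.assoc, hl, Scheme.Hom.comp_apply, Scheme.Hom.comp_apply,
        Scheme.Hom.comp_apply, Groth.Agent.SubtrLib.range_fracMap, hc₂, hg']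
      exact hηC
    have h₁ : (a ≫ U.ι) ≫ b = c ≫ g ≫ b := (Category.assoc _ _ _).trans hac
    have h₂ : (c ≫ g) ≫ b = c ≫ g ≫ b := Category.assoc _ _ _
    rw [← IsOpenImmersion.lift_fac _ _ (hrng _ h₁), ← IsOpenImmersion.lift_fac _ _ (hrng _ h₂)]
    congr 1
    rw [← cancel_mono ((b ∣_ C) ≫ C.ι), morphismRestrict_ι, IsOpenImmersion.lift_fac_assoc,
      IsOpenImmersion.lift_fac_assoc]
    simp only [Category.assoc] at h₁ h₂ ⊢
    rw [h₁]
  have hx : (a ≫ U.ι) (IsLocalRing.closedPoint W) = x := by
    rw [heq, Scheme.Hom.comp_apply, hc₁, hg]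
  rw [← hx]
  exact (a (IsLocalRing.closedPoint W)).2

end Groth.Agent.S13737
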