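import Groth.Statements.S1374
import Groth.Agent.Wt.ClosedPts
import Mathlib.AlgebraicGeometry.Fiber
import Mathlib.AlgebraicGeometry.Morphisms.FiniteType
-- import your own Groth.Agent.* helpers here

set_option autoImplicit false
universe u
open FlatMor

namespace Groth.Agent.S1374

section
open Polynomial

/-- A prime which is maximal in its fibre has algebraic residues. -/
theorem exists_poly_of_maximal {A B : Type u} [CommRing A] [CommRing B] [Algebra A B]
    [Algebra.FiniteType A B] (m : Ideal B) [m.IsPrime]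
    (hmax : ∀ q : Ideal B, q.IsPrime → m ≤ q →
      q.comap (algebraMap A B) ≤ m.comap (algebraMap A B) → q = m) (b : B) :
    ∃ P : A[X], (∃ i, algebraMap A B (P.coeff i) ∉ m) ∧ aeval b P ∈ m := by
  let p := m.comap (algebraMap A B)
  have : m.LiesOver p := ⟨rfl⟩
  have : p.IsPrime := Ideal.IsPrime.comap _
  let A' := A ⧸ p
  let D := B ⧸ m
  have : IsDomain A' := Ideal.Quotient.isDomain p
  have : IsDomain D := Ideal.Quotient.isDomain m
  have : Algebra.FiniteType A' D := Algebra.FiniteType.of_restrictScalars_finiteType A _ _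
  have hqf : Algebra.QuasiFiniteAt A' (⊥ : Ideal D) := by
    refine Algebra.QuasiFiniteAt.of_isOpen_singleton_fiber (R := A') ⟨⊥, Ideal.isPrime_bot⟩ ?_
    convert isOpen_univ
    refine Set.eq_univ_iff_forall.mpr fun ⟨⟨q, hq⟩, hqc⟩ => Subtype.ext (PrimeSpectrum.ext ?_)
    have hqc' : q.comap (algebraMap A' D) = (⊥ : Ideal D).comap (algebraMap A' D) :=
      congrArg PrimeSpectrum.asIdeal hqc
    show q = ⊥
    refine eq_bot_iff.mpr fun z hz => ?_
    obtain ⟨z, rfl⟩ := Ideal.Quotient.mk_surjective z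
    have hle : m ≤ q.comap (Ideal.Quotient.mk m) := fun y hy => by
      rw [Ideal.mem_comap, Ideal.Quotient.eq_zero_iff_mem.mpr hy]; exact q.zero_mem
    have h := hmax _ (hq.comap _) hle fun a ha => by
      have : Ideal.Quotient.mk p a ∈ q.comap (algebraMap A' D) := ha
      rw [hqc'] at this
      exact (Ideal.Quotient.eq_zero_iff_mem (I := m)).mp
        (show Ideal.Quotient.mk m (algebraMap A B a) = 0 from Ideal.mem_bot.mp this)
    exact Ideal.mem_bot.mpr (Ideal.Quotient.eq_zero_iff_mem.mpr (h.le hz))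
  obtain ⟨S', hS', r, hr, hbij⟩ :=
    Algebra.QuasiFiniteAt.exists_fg_and_exists_notMem_and_awayMap_bijective (R := A') (⊥ : Ideal D)
  have : Module.Finite A' S' := Module.Finite.iff_fg.mpr hS'
  have hr0 : r.1 ≠ 0 := fun h => hr (Ideal.mem_bot.mpr h)
  obtain ⟨z, hz⟩ := hbij.2 (algebraMap D _ (Ideal.Quotient.mk m b))
  obtain ⟨⟨s, _, k, rfl⟩, hs⟩ := IsLocalization.surj (Submonoid.powers r) z
  have h1 := congrArg (Localization.awayMap S'.val.toRingHom r) hs
  erw [map_mul, hz, IsLocalization.map_eq, IsLocalization.map_eq] at h1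
  rw [← map_mul] at h1
  have h2 : Ideal.Quotient.mk m b * (r ^ k : S').1 = s.1 :=
    IsLocalization.injective (Localization.Away (S'.val.toRingHom r))
      (M := Submonoid.powers (S'.val.toRingHom r)) (powers_le_nonZeroDivisors_of_noZeroDivisors hr0) h1
  have halg : ∀ w : S', IsAlgebraic A' w.1 := fun w =>
    ((Algebra.IsIntegral.isIntegral (R := A') w).map S'.val).isAlgebraic
  have hb : IsAlgebraic A' (Ideal.Quotient.mk m b) :=
    IsAlgebraic.of_mul (mem_nonZeroDivisors_of_ne_zero (by simpa using pow_ne_zero k hr0)) (halg (r ^ k))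
      (by rw [mul_comm, h2]; exact halg s)
  obtain ⟨P, hP, hPb⟩ := hb
  obtain ⟨P, rfl⟩ := Polynomial.map_surjective (Ideal.Quotient.mk p) Ideal.Quotient.mk_surjective P
  obtain ⟨i, hi⟩ := not_forall.mp fun h => hP (Polynomial.ext h)
  refine ⟨P, ⟨i, fun h => hi ?_⟩, Ideal.Quotient.eq_zero_iff_mem.mp ?_⟩
  · rw [coeff_map, coeff_zero]
    exact Ideal.Quotient.eq_zero_iff_mem.mpr h
  · rw [← hPb, aeval_def, aeval_def, eval₂_map, hom_eval₂]
    rfl

/-- The algebraic core. -/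
theorem exists_between {A B : Type u} [CommRing A] [CommRing B] [Algebra A B]
    [Algebra.FiniteType A B] (P P' : Ideal B) [P.IsPrime] [P'.IsPrime] (hle : P ≤ P')
    (hne : P.comap (algebraMap A B) ≠ P'.comap (algebraMap A B))
    (hmax : ∀ q : Ideal B, q.IsPrime → P' ≤ q →
      q.comap (algebraMap A B) ≤ P'.comap (algebraMap A B) → q = P') (g : B) (hg : g ∉ P) :
    ∃ Q : Ideal B, Q.IsPrime ∧ P ≤ Q ∧ Q ≤ P' ∧ g ∉ Q ∧
      Q.comap (algebraMap A B) = P.comap (algebraMap A B) ∧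
      ∀ q : Ideal B, q.IsPrime → Q ≤ q →
        q.comap (algebraMap A B) ≤ P.comap (algebraMap A B) → q = Q := by
  let p := P.comap (algebraMap A B)
  have : P.LiesOver p := ⟨rfl⟩
  have : p.IsPrime := Ideal.IsPrime.comap _
  let A' := A ⧸ p
  let D := B ⧸ P
  have : IsDomain A' := Ideal.Quotient.isDomain p
  have : IsDomain D := Ideal.Quotient.isDomain P
  have : Algebra.FiniteType A' D := Algebra.FiniteType.of_restrictScalars_finiteType A _ _
  have : FaithfulSMul A' D := (faithfulSMul_iff_algebraMap_injective _ _).mpr <|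
    (injective_iff_map_eq_zero _).mpr fun a ha => by
      obtain ⟨a, rfl⟩ := Ideal.Quotient.mk_surjective a
      exact Ideal.Quotient.eq_zero_iff_mem.mpr
        (show algebraMap A B a ∈ P from Ideal.Quotient.eq_zero_iff_mem.mp ha)
  let m : Ideal D := P'.map (Ideal.Quotient.mk P)
  have hm : ∀ b, Ideal.Quotient.mk P b ∈ m ↔ b ∈ P' := fun b => Ideal.mem_quotient_iff_mem hle
  have : m.IsPrime := Ideal.map_isPrime_of_surjective Ideal.Quotient.mk_surjective (by rwa [Ideal.mk_ker])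
  obtain ⟨a, ha', ha⟩ := SetLike.not_le_iff_exists.mp
    fun h : P'.comap (algebraMap A B) ≤ p => hne (le_antisymm (Ideal.comap_mono hle) h)
  obtain ⟨n, hn⟩ := Cardinal.lt_aleph0.mp (trdeg_lt_aleph0_of_finiteType (R := A') (S := D))
  obtain ⟨Q, hQ, hQm, hQA, hgQ, halg⟩ := Groth.Agent.Wt.ClosedPts.exists_prime_aux n A' D hn m
    (Ideal.Quotient.mk P g) (fun h => hg (Ideal.Quotient.eq_zero_iff_mem.mp h))
    ((Submodule.ne_bot_iff _).mpr ⟨Ideal.Quotient.mk p a, (hm _).mpr ha',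
      fun h => ha (Ideal.Quotient.eq_zero_iff_mem.mp h)⟩)
    fun b => by
      obtain ⟨b, rfl⟩ := Ideal.Quotient.mk_surjective b
      obtain ⟨R, ⟨i, hi⟩, hR⟩ := exists_poly_of_maximal P' hmax b
      refine ⟨R.map (Ideal.Quotient.mk p), ⟨i, fun h => hi ?_⟩, ?_⟩
      · rw [coeff_map] at h
        exact (hm _).mp h
      · rw [aeval_def, eval₂_map]
        show eval₂ ((Ideal.Quotient.mk P).comp (algebraMap A B)) (Ideal.Quotient.mk P b) R ∈ m
        rw [← hom_eval₂, ← aeval_def]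
        exact (hm _).mpr hR
  have hQA' : ∀ a, algebraMap A B a ∈ Q.comap (Ideal.Quotient.mk P) ↔ a ∈ p := fun a => by
    show algebraMap A' D (Ideal.Quotient.mk p a) ∈ Q ↔ _
    rw [← Ideal.mem_comap, hQA, Ideal.mem_bot, Ideal.Quotient.eq_zero_iff_mem]
  refine ⟨Q.comap (Ideal.Quotient.mk P), hQ.comap _, fun b hb => ?_, fun b hb => (hm b).mp (hQm hb),
    hgQ, Ideal.ext hQA', fun q hq hQq hqA => le_antisymm (fun b hb => ?_) hQq⟩
  · rw [Ideal.mem_comap, Ideal.Quotient.eq_zero_iff_mem.mpr hb]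
    exact Q.zero_mem
  · by_contra hbQ
    obtain ⟨R, hR, hRb⟩ := halg (Ideal.Quotient.mk P b)
    let ψ : D →ₐ[A'] D ⧸ Q := Ideal.Quotient.mkₐ A' Q
    have hinj : IsAlgebraic A' (ψ (Ideal.Quotient.mk P b)) :=
      ⟨R, hR, (aeval_algHom_apply ψ _ R).trans (Ideal.Quotient.eq_zero_iff_mem.mpr hRb)⟩
    have : IsDomain (D ⧸ Q) := Ideal.Quotient.isDomain Q
    obtain ⟨R', hc, hR'⟩ := hinj.exists_nonzero_coeff_and_aeval_eq_zero
      (mem_nonZeroDivisors_of_ne_zero fun h => hbQ (show Ideal.Quotient.mk P b ∈ Q from Ideal.Quotient.eq_zero_iff_mem.mp h))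
    obtain ⟨R', rfl⟩ := Polynomial.map_surjective (Ideal.Quotient.mk p) Ideal.Quotient.mk_surjective R'
    rw [coeff_map] at hc
    refine hc (Ideal.Quotient.eq_zero_iff_mem.mpr (hqA ?_))
    have hev : aeval b R' ∈ Q.comap (Ideal.Quotient.mk P) := by
      rw [aeval_algHom_apply, aeval_def, eval₂_map] at hR'
      have h := Ideal.Quotient.eq_zero_iff_mem.mp hR'
      rw [Ideal.mem_comap, aeval_def, hom_eval₂]
      exact h
    have h1 := hQq hev
    rw [← Polynomial.divX_mul_X_add R', map_add, map_mul, aeval_X, aeval_C] at h1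
    exact (q.add_mem_iff_right (q.mul_mem_left _ hb)).mp h1

end

open AlgebraicGeometry CategoryTheory Limits in
/-- Let f : X ⟶ S be locally of finite type and x ⤳ x' a specialization of points of X, with x' a closed
point of its fibre f⁻¹(f(x')) and f(x) ≠ f(x'). Then the points x₁ with f(x₁) = f(x) which are
closed in the fibre f⁻¹(f(x)) and satisfy x ⤳ x₁ ⤳ x' are dense in the closure of {x} intersected
with the fibre f⁻¹(f(x)) (fibres taken as subspaces of X). (The published statement omits the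
condition f(x) ≠ f(x'), but the claim fails without it; it is stated here with that condition.) -/
theorem result {X S : Scheme.{u}} (f : X ⟶ S) [LocallyOfFiniteType f] (x x' : X) (hsp : x ⤳ x') (hne : f x ≠ f x')
    (hcl : IsClosed (Subtype.val ⁻¹' {x'} : Set ↑(f ⁻¹' {f x'}))) :
    Dense (Subtype.val ⁻¹' {x₁ : ↑X | f x₁ = f x ∧ IsClosed (Subtype.val ⁻¹' {x₁} : Set ↑(f ⁻¹' {f x})) ∧ x ⤳ x₁ ∧ x₁ ⤳ x'} :
      Set ↑(closure {x} ∩ f ⁻¹' {f x})) := by
  obtain ⟨_, ⟨(V : S.Opens), (hV : IsAffineOpen V), rfl⟩, hx'V, -⟩ :=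
    S.isBasis_affineOpens.exists_subset_of_mem_open (Set.mem_univ (f x')) isOpen_univ
  obtain ⟨_, ⟨(U : X.Opens), (hU : IsAffineOpen U), rfl⟩, hx'U, hUV⟩ :=
    X.isBasis_affineOpens.exists_subset_of_mem_open (show x' ∈ f ⁻¹ᵁ V from hx'V) (f ⁻¹ᵁ V).2
  have e : U ≤ f ⁻¹ᵁ V := hUV
  letI : Algebra Γ(S, V) Γ(X, U) := (f.appLE V U e).hom.toAlgebra
  haveI : Algebra.FiniteType Γ(S, V) Γ(X, U) :=
    HasRingHomProperty.appLE (P := @LocallyOfFiniteType) f inferInstance ⟨V, hV⟩ ⟨U, hU⟩ e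
  let φ : PrimeSpectrum Γ(X, U) → X := fun q => hU.fromSpec q
  have hφemb : Topology.IsEmbedding φ := hU.fromSpec.isOpenEmbedding.isEmbedding
  have hφle : ∀ a b : PrimeSpectrum Γ(X, U), a.asIdeal ≤ b.asIdeal ↔ φ a ⤳ φ b := fun a b =>
    (PrimeSpectrum.le_iff_specializes a b).trans hφemb.isInducing.specializes_iff.symm
  have hφf : ∀ q, f (φ q) = hV.fromSpec (PrimeSpectrum.comap (algebraMap Γ(S, V) Γ(X, U)) q) := by
    intro q
    exact (congr($(hV.SpecMap_appLE_fromSpec f hU e) q)).symm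
  have hφU : ∀ y ∈ U, ∃ q, φ q = y := fun y hy => ⟨_, hU.fromSpec_primeIdealOf ⟨y, hy⟩⟩
  have hfeq : ∀ a b, f (φ a) = f (φ b) ↔
      a.asIdeal.comap (algebraMap Γ(S, V) Γ(X, U)) = b.asIdeal.comap (algebraMap Γ(S, V) Γ(X, U)) := by
    intro a b
    rw [hφf, hφf]
    exact hV.fromSpec.isOpenEmbedding.injective.eq_iff.trans PrimeSpectrum.ext_iff
  obtain ⟨P', hP'⟩ := hφU x' hx'U
  obtain ⟨P, hP⟩ := hφU x (hsp.mem_open U.2 hx'U)
  have hPP' : P.asIdeal ≤ P'.asIdeal := (hφle P P').mpr (by rw [hP, hP']; exact hsp)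
  have hclosed : ∀ y, x' ⤳ y → f y = f x' → y = x' := by
    intro y hy hfy
    have h1 : (⟨x', rfl⟩ : ↑(f ⁻¹' {f x'})) ⤳ ⟨y, hfy⟩ :=
      Topology.IsEmbedding.subtypeVal.isInducing.specializes_iff.mp hy
    exact h1.mem_closed hcl rfl
  have hmax : ∀ q : Ideal Γ(X, U), q.IsPrime → P'.asIdeal ≤ q →
      q.comap (algebraMap Γ(S, V) Γ(X, U)) ≤ P'.asIdeal.comap (algebraMap Γ(S, V) Γ(X, U)) →
      q = P'.asIdeal := by
    intro q hq hle hle'
    have h1 : f (φ ⟨q, hq⟩) = f (φ P') :=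
      (hfeq _ _).mpr (le_antisymm hle' (Ideal.comap_mono hle))
    have h2 := hclosed (φ ⟨q, hq⟩) (hP' ▸ (hφle P' ⟨q, hq⟩).mp hle) (h1.trans (congrArg f hP'))
    exact congrArg PrimeSpectrum.asIdeal (hφemb.injective (h2.trans hP'.symm))
  rw [dense_iff_inter_open]
  rintro W' hW' ⟨⟨w, hwx, hwf⟩, hwW⟩
  obtain ⟨W, hW, rfl⟩ := isOpen_induced_iff.mp hW'
  have hxW : x ∈ W := (specializes_iff_mem_closure.mpr hwx).mem_open hW hwW
  have hWo : IsOpen (φ ⁻¹' W) := hW.preimage hU.fromSpec.continuous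
  obtain ⟨_, ⟨g, rfl⟩, hPg, hgW⟩ := PrimeSpectrum.isTopologicalBasis_basic_opens.exists_subset_of_mem_open
    (show P ∈ φ ⁻¹' W from show φ P ∈ W from hP.symm ▸ hxW) hWo
  obtain ⟨Q, hQ, hPQ, hQP', hgQ, hQA, hQmax⟩ := exists_between P.asIdeal P'.asIdeal hPP'
    (fun h => hne (by rw [← hP, ← hP']; exact (hfeq P P').mpr h)) hmax g hPg
  let q₁ : PrimeSpectrum Γ(X, U) := ⟨Q, hQ⟩
  let x₁ := φ q₁
  have hfx₁ : f x₁ = f x := hP ▸ (hfeq q₁ P).mpr hQA
  have hsp₁ : x ⤳ x₁ := hP ▸ (hφle P q₁).mp hPQ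
  have hx₁U : x₁ ∈ U := hU.range_fromSpec.le ⟨q₁, rfl⟩
  refine ⟨⟨x₁, specializes_iff_mem_closure.mp hsp₁, hfx₁⟩, hgW (show q₁ ∈ PrimeSpectrum.basicOpen g from hgQ),
    hfx₁, ?_, hsp₁, hP' ▸ (hφle q₁ P').mp hQP'⟩
  -- closed in the fibre
  haveI : JacobsonSpace ↑(f ⁻¹' {f x}) :=
    JacobsonSpace.of_isOpenEmbedding (f.fiberHomeo (f x)).symm.isOpenEmbedding
  have hset : (Subtype.val ⁻¹' {x₁} : Set ↑(f ⁻¹' {f x})) = {⟨x₁, hfx₁⟩} := by
    ext z; simp [Subtype.ext_iff]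
  rw [hset]
  refine isClosed_singleton_of_isLocallyClosed_singleton
    ⟨Subtype.val ⁻¹' (U : Set X), closure {⟨x₁, hfx₁⟩}, U.2.preimage continuous_subtype_val,
      isClosed_closure, subset_antisymm (Set.singleton_subset_iff.mpr ⟨hx₁U, subset_closure rfl⟩) ?_⟩
  rintro ⟨y, hyf⟩ ⟨hyU, hy⟩
  have hs : x₁ ⤳ y := (specializes_iff_mem_closure.mpr hy).map continuous_subtype_val
  obtain ⟨q, rfl⟩ := hφU y hyU
  have hle : Q ≤ q.asIdeal := (hφle q₁ q).mpr hs
  have h1 : q.asIdeal.comap (algebraMap Γ(S, V) Γ(X, U)) = P.asIdeal.comap (algebraMap Γ(S, V) Γ(X, U)) :=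
    (hfeq q P).mp (hP.symm ▸ hyf)
  exact Subtype.ext (congrArg φ (PrimeSpectrum.ext (hQmax q.asIdeal q.2 hle h1.le)))

end Groth.Agent.S1374
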