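import Groth.Statements.S13742
import Mathlib.AlgebraicGeometry.Morphisms.Flat
import Mathlib.AlgebraicGeometry.Fiber
import Mathlib

set_option autoImplicit false
universe u
open Cyc

namespace Groth.Agent.S13742

section
set_option backward.isDefEq.respectTransparency false
open CategoryTheory CategoryTheory.Limits AlgebraicGeometry

namespace Groth.Agent.GenFibre88

theorem flat_fromSpecStalk {S : Scheme.{u}} (s : S) : Flat (S.fromSpecStalk s) := by
  obtain ⟨_, ⟨U, hU, rfl⟩, hs, -⟩ := S.isBasis_affineOpens.exists_subset_of_mem_open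
    (Set.mem_univ s) isOpen_univ
  rw [← hU.fromSpecStalk_eq_fromSpecStalk hs]
  delta IsAffineOpen.fromSpecStalk
  haveI := hU.isOpenImmersion_fromSpec
  letI := (S.presheaf.germ U s hs).hom.toAlgebra
  haveI : IsLocalization.AtPrime (S.presheaf.stalk s) (hU.primeIdealOf ⟨s, hs⟩).asIdeal :=
    hU.isLocalization_stalk ⟨s, hs⟩
  haveI : Flat (Spec.map (S.presheaf.germ U s hs)) :=
    (HasRingHomProperty.Spec_iff (P := @Flat)).mpr
      (show Module.Flat Γ(S, U) (S.presheaf.stalk s) from
        IsLocalization.flat _ (hU.primeIdealOf ⟨s, hs⟩).asIdeal.primeCompl)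
  infer_instance

theorem bijective_stalkMap {P Z : Scheme.{u}} (a : P ⟶ Z) [IsPreimmersion a] [Flat a] (p : P) :
    Function.Bijective (a.stalkMap p) := by
  refine ⟨?_, a.stalkMap_surjective p⟩
  letI := (a.stalkMap p).hom.toAlgebra
  haveI : Module.Flat (Z.presheaf.stalk (a p)) (P.presheaf.stalk p) := Flat.stalkMap a p
  haveI : IsLocalHom (algebraMap (Z.presheaf.stalk (a p)) (P.presheaf.stalk p)) := a.toLRSHom.prop p
  haveI : Module.FaithfullyFlat (Z.presheaf.stalk (a p)) (P.presheaf.stalk p) :=
    Module.FaithfullyFlat.of_flat_of_isLocalHom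
  exact FaithfulSMul.algebraMap_injective (Z.presheaf.stalk (a p)) (P.presheaf.stalk p)

theorem isReduced_genericFibre {Z S : Scheme.{u}} [IsReduced Z] (g : Z ⟶ S) (s : S)
    (hs : ∀ y, y ⤳ s → y = s) : IsReduced (pullback g (S.fromSpecResidueField s)) := by
  haveI := flat_fromSpecStalk s
  haveI : IsPreimmersion (pullback.fst g (S.fromSpecStalk s)) :=
    MorphismProperty.pullback_fst _ _ inferInstance
  haveI : Flat (pullback.fst g (S.fromSpecStalk s)) :=
    MorphismProperty.pullback_fst _ _ inferInstance
  haveI hred : IsReduced (pullback g (S.fromSpecStalk s)) := by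
    haveI : ∀ p, _root_.IsReduced ((pullback g (S.fromSpecStalk s)).presheaf.stalk p) := fun p =>
      isReduced_of_injective
        (RingEquiv.ofBijective _ (bijective_stalkMap (pullback.fst g (S.fromSpecStalk s)) p)).symm
        (RingEquiv.injective _)
    exact isReduced_of_isReduced_stalk _
  let m := pullback.map g (S.fromSpecResidueField s) g (S.fromSpecStalk s) (𝟙 Z)
    (Spec.map (S.residue s)) (𝟙 S) (by simp) (by simp [Scheme.fromSpecResidueField])
  haveI : IsClosedImmersion (Spec.map (S.residue s)) :=
    IsClosedImmersion.spec_of_surjective _ (S.residue_surjective s)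
  haveI : IsClosedImmersion m := by
    refine MorphismProperty.pullbackMap (P := @IsClosedImmersion) ?_ ?_ (by simp) (by simp [Scheme.fromSpecResidueField]) <;>
      infer_instance
  haveI : Surjective m := by
    refine ⟨fun p => ?_⟩
    have hfs : g (pullback.fst g (S.fromSpecStalk s) p) = s := by
      apply hs
      have : g (pullback.fst g (S.fromSpecStalk s) p) ∈ Set.range (S.fromSpecStalk s) :=
        ⟨pullback.snd g (S.fromSpecStalk s) p, by
          rw [← Scheme.Hom.comp_apply, ← pullback.condition, Scheme.Hom.comp_apply]⟩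
      rwa [Scheme.range_fromSpecStalk] at this
    obtain ⟨q, hq⟩ : pullback.fst g (S.fromSpecStalk s) p ∈
        Set.range (pullback.fst g (S.fromSpecResidueField s)) := by
      rw [Scheme.Pullback.range_fst, Scheme.range_fromSpecResidueField]
      exact hfs
    refine ⟨q, (pullback.fst g (S.fromSpecStalk s)).isEmbedding.injective ?_⟩
    rw [← Scheme.Hom.comp_apply]
    simp only [m, pullback.lift_fst, Category.comp_id]
    exact hq
  haveI := isIso_of_isClosedImmersion_of_surjective m
  exact isReduced_of_isOpenImmersion m

end Groth.Agent.GenFibre88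

end

set_option backward.isDefEq.respectTransparency false

open CategoryTheory CategoryTheory.Limits AlgebraicGeometry in
/-- Let S be a separated Noetherian scheme, f : X → S separated of finite type, z a point of X mapping
to a generic point of an irreducible component of S, and ι : Z → X a closed immersion from a reduced
scheme with image the closure of z (the closure of z with its reduced structure). Then Z ×_S Spec
k(f z) is an integral scheme, and its image in the fibre X ×_S Spec k(f z) is the closure of the
unique point w of that fibre lying over z: Z ×_S Spec k(f z) is the closure of z in its fibre, with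
reduced structure. -/
theorem result {X S Z : Scheme.{u}} [IsNoetherian S] [S.IsSeparated] [X.IsSeparated] (f : X ⟶ S) [LocallyOfFiniteType f] [QuasiCompact f] (z : X) (hz : closure {f z} ∈ irreducibleComponents ↥S) (ι : Z ⟶ X) [IsClosedImmersion ι] [IsReduced Z] (hZ : Set.range ι = closure {z}) : IsIntegral (pullback (ι ≫ f) (S.fromSpecResidueField (f z))) ∧ ∃ w : ↥(pullback f (S.fromSpecResidueField (f z))), pullback.fst f (S.fromSpecResidueField (f z)) w = z ∧ Set.range (pullback.map (ι ≫ f) (S.fromSpecResidueField (f z)) f (S.fromSpecResidueField (f z)) ι (𝟙 _) (𝟙 S) (Category.comp_id _) ((Category.comp_id _).trans (Category.id_comp _).symm)) = closure {w} := by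
  classical
  have hmax : ∀ y, y ⤳ f z → y = f z := by
    intro y hy
    have hsub : closure {f z} ⊆ closure {y} := specializes_iff_closure_subset.1 hy
    exact ((specializes_iff_closure_subset.2
      (hz.2 (isIrreducible_singleton.closure) hsub)).antisymm hy).eq.symm
  haveI hred := Groth.Agent.GenFibre88.isReduced_genericFibre (ι ≫ f) (f z) hmax
  have hzr : z ∈ Set.range ι := hZ.symm ▸ subset_closure rfl
  obtain ⟨η, hη⟩ := hzr
  have hgen : ∀ y : Z, η ⤳ y := fun y => by
    rw [← ι.isEmbedding.isInducing.specializes_iff, hη, specializes_iff_mem_closure, ← hZ]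
    exact ⟨y, rfl⟩
  set P := pullback (ι ≫ f) (S.fromSpecResidueField (f z))
  obtain ⟨w₀, hw₀⟩ : η ∈ Set.range (pullback.fst (ι ≫ f) (S.fromSpecResidueField (f z))) := by
    rw [Scheme.Pullback.range_fst, Scheme.range_fromSpecResidueField]
    show (ι ≫ f) η = f z
    rw [Scheme.Hom.comp_apply, hη]
  haveI : IsPreimmersion (pullback.fst (ι ≫ f) (S.fromSpecResidueField (f z))) :=
    MorphismProperty.pullback_fst _ _ inferInstance
  have hall : ∀ p : ↥P, w₀ ⤳ p := fun p => by
    rw [← (pullback.fst (ι ≫ f) (S.fromSpecResidueField (f z))).isEmbedding.isInducing.specializes_iff,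
      hw₀]
    exact hgen _
  haveI : IrreducibleSpace ↥P := by
    have hu : closure ({w₀} : Set ↥P) = Set.univ :=
      Set.eq_univ_of_forall fun p => specializes_iff_mem_closure.1 (hall p)
    haveI : Nonempty ↥P := ⟨w₀⟩
    haveI : PreirreducibleSpace ↥P := ⟨hu ▸ isIrreducible_singleton.closure.2⟩
    exact ⟨inferInstance⟩
  refine ⟨isIntegral_of_irreducibleSpace_of_isReduced _, ?_⟩
  set m := pullback.map (ι ≫ f) (S.fromSpecResidueField (f z)) f (S.fromSpecResidueField (f z)) ι (𝟙 _)
    (𝟙 S) (Category.comp_id _) ((Category.comp_id _).trans (Category.id_comp _).symm) with hm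
  haveI : IsClosedImmersion m := by
    refine MorphismProperty.pullbackMap (P := @IsClosedImmersion) ?_ ?_ (by simp) (by simp) <;>
      infer_instance
  refine ⟨m w₀, ?_, ?_⟩
  · rw [← Scheme.Hom.comp_apply, hm, pullback.lift_fst, Scheme.Hom.comp_apply, hw₀, hη]
  · refine Set.Subset.antisymm ?_ (closure_minimal (Set.singleton_subset_iff.2 ⟨w₀, rfl⟩)
      m.isClosedEmbedding.isClosed_range)
    rintro _ ⟨p, rfl⟩
    exact specializes_iff_mem_closure.1 ((hall p).map m.continuous)

end Groth.Agent.S13742
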