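import Groth.Statements.S13744
import Groth.Agent.FlatClosEq96.Closure
import Groth.Agent.FlatClosEq96.Length

set_option autoImplicit false
universe u
open Cyc

namespace Groth.Agent.S13744

open CategoryTheory CategoryTheory.Limits AlgebraicGeometry in
/-- Let S be a separated Noetherian scheme, p : X → S separated of finite type, ι : Z → X a closed
immersion with Z integral, R a discrete valuation ring with fraction field K and x : Spec R → S. Let
φ be the scheme-theoretic image in Z ×_S Spec R of Z ×_S Spec K (the flat closure of the generic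
fibre), regarded as a closed subscheme of X ×_S Spec R. Then the cycle of φ (coefficient at t =
length of the local ring of φ above t, an infinite length read as 0) equals the cycle of Z ×_S Spec
K pushed forward along the inclusion X ×_S Spec K → X ×_S Spec R. -/
theorem result {X S Z : Scheme.{u}} [IsNoetherian S] [S.IsSeparated] [X.IsSeparated] (p : X ⟶ S) [LocallyOfFiniteType p] [QuasiCompact p] (ι : Z ⟶ X) [IsClosedImmersion ι] [IsIntegral Z] (R : Type u) [CommRing R] [IsDomain R] [IsDiscreteValuationRing R] (x : Spec (CommRingCat.of R) ⟶ S) (t : ↥(pullback p x)) : Cyc.subschemeFun (fun _ => (0 : ℤ)) 0 ((pullback.map (ι ≫ p) (Spec.map (CommRingCat.ofHom (algebraMap R (FractionRing R))) ≫ x) (ι ≫ p) x (𝟙 Z) (Spec.map (CommRingCat.ofHom (algebraMap R (FractionRing R)))) (𝟙 S) ((Category.comp_id _).trans (Category.id_comp _).symm) (Category.comp_id _)).ker.subschemeι ≫ pullback.map (ι ≫ p) x p x ι (𝟙 _) (𝟙 S) (Category.comp_id _) ((Category.comp_id _).trans (Category.id_comp _).symm)) t = ∑ᶠ t' ∈ {t' : ↥(pullback p (Spec.map (CommRingCat.ofHom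 (algebraMap R (FractionRing R))) ≫ x)) | (pullback.map p (Spec.map (CommRingCat.ofHom (algebraMap R (FractionRing R))) ≫ x) p x (𝟙 X) (Spec.map (CommRingCat.ofHom (algebraMap R (FractionRing R)))) (𝟙 S) ((Category.comp_id _).trans (Category.id_comp _).symm) (Category.comp_id _)) t' = t}, Cyc.subschemeFun (fun _ => (0 : ℤ)) 0 (pullback.map (ι ≫ p) (Spec.map (CommRingCat.ofHom (algebraMap R (FractionRing R))) ≫ x) p (Spec.map (CommRingCat.ofHom (algebraMap R (FractionRing R))) ≫ x) ι (𝟙 _) (𝟙 S) (Category.comp_id _) ((Category.comp_id _).trans (Category.id_comp _).symm)) t' := by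
  let F := ι ≫ p
  let k : Spec (CommRingCat.of (FractionRing R)) ⟶ Spec (CommRingCat.of R) :=
    Spec.map (CommRingCat.ofHom (algebraMap R (FractionRing R)))
  let j : pullback F (k ≫ x) ⟶ pullback F x :=
    pullback.map F (k ≫ x) F x (𝟙 Z) k (𝟙 S) ((Category.comp_id _).trans (Category.id_comp _).symm) (Category.comp_id _)
  let c : pullback F x ⟶ pullback p x :=
    pullback.map F x p x ι (𝟙 _) (𝟙 S) (Category.comp_id _) ((Category.comp_id _).trans (Category.id_comp _).symm)
  let c' : pullback F (k ≫ x) ⟶ pullback p (k ≫ x) :=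
    pullback.map F (k ≫ x) p (k ≫ x) ι (𝟙 _) (𝟙 S) (Category.comp_id _) ((Category.comp_id _).trans (Category.id_comp _).symm)
  let mX : pullback p (k ≫ x) ⟶ pullback p x :=
    pullback.map p (k ≫ x) p x (𝟙 X) k (𝟙 S) ((Category.comp_id _).trans (Category.id_comp _).symm) (Category.comp_id _)
  haveI : IsOpenImmersion k := PurCurve.isOpenImmersion_gen R (FractionRing R)
  have hfst : j ≫ pullback.fst F x = pullback.fst F (k ≫ x) :=
    (pullback.lift_fst _ _ _).trans (Category.comp_id _)
  have hsnd : j ≫ pullback.snd F x = pullback.snd F (k ≫ x) ≫ k := pullback.lift_snd _ _ _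
  have H : IsPullback j (pullback.snd F (k ≫ x)) (pullback.snd F x) k := by
    refine IsPullback.of_right ?_ hsnd (IsPullback.of_hasPullback F x)
    rw [hfst]
    exact IsPullback.of_hasPullback F (k ≫ x)
  have HX : IsPullback mX (pullback.snd p (k ≫ x)) (pullback.snd p x) k := by
    refine IsPullback.of_right ?_ (pullback.lift_snd _ _ _) (IsPullback.of_hasPullback p x)
    rw [show mX ≫ pullback.fst p x = pullback.fst p (k ≫ x) from
      (pullback.lift_fst _ _ _).trans (Category.comp_id _)]
    exact IsPullback.of_hasPullback p (k ≫ x)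
  haveI : IsOpenImmersion mX := MorphismProperty.of_isPullback HX.flip (inferInstance : IsOpenImmersion k)
  haveI : QuasiCompact j := MorphismProperty.of_isPullback H.flip (inferInstance : QuasiCompact k)
  have H' := FlatClosEq96.isPullback_toImage (pullback.snd F x) j (pullback.snd F (k ≫ x)) H
  haveI : IsOpenImmersion j.toImage := MorphismProperty.of_isPullback H'.flip (inferInstance : IsOpenImmersion k)
  haveI : Flat (j.imageι ≫ pullback.snd F x) :=
    FlatClosEq96.flat_image (pullback.snd F x) j (pullback.snd F (k ≫ x)) hsnd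
  haveI : IsClosedImmersion c := by
    refine MorphismProperty.of_isPullback (P := @IsClosedImmersion) (g := ι) (f := pullback.fst p x) (f' := pullback.fst F x)
      (g' := c) ?_ inferInstance
    refine (IsPullback.of_bot ?_ (pullback.lift_fst _ _ _).symm (IsPullback.of_hasPullback p x))
    have : c ≫ pullback.snd p x = pullback.snd F x := (pullback.lift_snd _ _ _).trans (Category.comp_id _)
    rw [this]
    exact IsPullback.of_hasPullback F x
  have hcomm : j.toImage ≫ j.imageι ≫ c = c' ≫ mX := by
    rw [Scheme.Hom.toImage_imageι_assoc]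
    have e1 : c ≫ pullback.fst p x = pullback.fst F x ≫ ι := pullback.lift_fst _ _ _
    have e2 : c ≫ pullback.snd p x = pullback.snd F x := (pullback.lift_snd _ _ _).trans (Category.comp_id _)
    have e3 : c' ≫ pullback.fst p (k ≫ x) = pullback.fst F (k ≫ x) ≫ ι := pullback.lift_fst _ _ _
    have e4 : c' ≫ pullback.snd p (k ≫ x) = pullback.snd F (k ≫ x) :=
      (pullback.lift_snd _ _ _).trans (Category.comp_id _)
    have e5 : mX ≫ pullback.fst p x = pullback.fst p (k ≫ x) :=
      (pullback.lift_fst _ _ _).trans (Category.comp_id _)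
    have e6 : mX ≫ pullback.snd p x = pullback.snd p (k ≫ x) ≫ k := pullback.lift_snd _ _ _
    apply pullback.hom_ext
    · rw [Category.assoc, Category.assoc, e1, reassoc_of% hfst, e5, e3]
    · rw [Category.assoc, Category.assoc, e2, hsnd, e6, reassoc_of% e4]
  show Cyc.subschemeFun (fun _ => (0 : ℤ)) 0 (j.imageι ≫ c) t =
    ∑ᶠ t' ∈ {t' | mX t' = t}, Cyc.subschemeFun (fun _ => (0 : ℤ)) 0 c' t'
  exact FlatClosEq96.subschemeFun_eq (pullback.snd F x) j (pullback.snd F (k ≫ x)) H' (j.imageι ≫ c) c' mX hcomm t

end Groth.Agent.S13744
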