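import Groth.Statements.S13746
import Mathlib.AlgebraicGeometry.Fiber
import Mathlib.RingTheory.Flat.TorsionFree

set_option autoImplicit false
universe u
open CategoryTheory AlgebraicGeometry
open SemiFact

namespace Groth.Agent.S13746

open Opposite TopologicalSpace CategoryTheory.Limits

variable {R : Type u} [CommRing R] {Z Z' : Scheme.{u}}

/-- The structure map `R → Γ(Z, U)`. -/
noncomputable def str (f : Z ⟶ Spec (CommRingCat.of R)) (U : Z.Opens) : R →+* Γ(Z, U) :=
  ((Scheme.ΓSpecIso (CommRingCat.of R)).inv ≫ f.appLE ⊤ U le_top).hom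

lemma res_str (f : Z ⟶ Spec (CommRingCat.of R)) {U V : Z.Opens} (i : V ⟶ U) (r : R) :
    Z.presheaf.map i.op (str f U r) = str f V r := by
  simp only [str, CommRingCat.hom_comp, RingHom.coe_comp, Function.comp_apply]
  rw [← ConcreteCategory.comp_apply, Scheme.Hom.appLE_map]

lemma app_str (π : Z' ⟶ Z) (f : Z ⟶ Spec (CommRingCat.of R)) (U : Z.Opens) (r : R) :
    π.app U (str f U r) = str (π ≫ f) (π ⁻¹ᵁ U) r := by
  simp only [str, CommRingCat.hom_comp, RingHom.coe_comp, Function.comp_apply]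
  rw [← ConcreteCategory.comp_apply, ← Scheme.Hom.appLE_eq_app, Scheme.Hom.appLE_comp_appLE]

/-- The open subset where `r` is invertible. -/
noncomputable def dOpen (f : Z ⟶ Spec (CommRingCat.of R)) (r : R) : Z.Opens :=
  Z.basicOpen (str f ⊤ r)

lemma basicOpen_str (f : Z ⟶ Spec (CommRingCat.of R)) (U : Z.Opens) (r : R) :
    Z.basicOpen (str f U r) = U ⊓ dOpen f r := by
  rw [dOpen, ← res_str f (homOfLE (le_top : U ≤ ⊤)) r, Scheme.basicOpen_res]

lemma preimage_dOpen (π : Z' ⟶ Z) (f : Z ⟶ Spec (CommRingCat.of R)) (r : R) :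
    π ⁻¹ᵁ dOpen f r = dOpen (π ≫ f) r := by
  rw [dOpen, Scheme.preimage_basicOpen, app_str]
  rfl

lemma dOpen_eq_preimage (f : Z ⟶ Spec (CommRingCat.of R)) (r : R) :
    (dOpen f r : Set Z) = f.base ⁻¹' (PrimeSpectrum.basicOpen r : Set (PrimeSpectrum R)) := by
  have h1 : dOpen f r = f ⁻¹ᵁ (Spec (CommRingCat.of R)).basicOpen
      ((Scheme.ΓSpecIso (CommRingCat.of R)).inv r) := by
    rw [dOpen, Scheme.preimage_basicOpen]
    have h2 : f.appLE ⊤ ⊤ le_top = f.app ⊤ := f.appLE_eq_app
    simp only [str, CommRingCat.hom_comp, RingHom.coe_comp, Function.comp_apply, h2]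
    rfl
  rw [h1, basicOpen_eq_of_affine]
  rfl

variable [IsDomain R]

lemma isRegular_str (f : Z ⟶ Spec (CommRingCat.of R)) [Flat f] {W : Z.Opens} (hW : IsAffineOpen W)
    {r : R} (hr : r ≠ 0) (a : Γ(Z, W)) (ha : str f W r * a = 0) : a = 0 := by
  have hflat : (str f W).Flat :=
    RingHom.Flat.comp (RingHom.Flat.of_bijective
      ((Scheme.ΓSpecIso (CommRingCat.of R)).symm.commRingCatIsoToRingEquiv.bijective))
      (Flat.flat_appLE f (isAffineOpen_top _) hW le_top)
  let _ : Algebra R Γ(Z, W) := (str f W).toAlgebra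
  have : Module.Flat R Γ(Z, W) := hflat
  refine IsSMulRegular.right_eq_zero_of_smul (IsSMulRegular.of_flat (S := Γ(Z, W))
    (fun x y h => mul_left_cancel₀ hr h) : IsSMulRegular Γ(Z, W) (algebraMap R Γ(Z, W) r)) ?_
  exact ha

/-- Restriction to the locus where a nonzero `r` is invertible is injective for flat schemes. -/
lemma eq_zero_of_res (f : Z ⟶ Spec (CommRingCat.of R)) [Flat f] {r : R} (hr : r ≠ 0)
    (U : Z.Opens) (s : Γ(Z, U)) {V : Z.Opens} (hVU : V ≤ U) (hV : U ⊓ dOpen f r ≤ V)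
    (h : Z.presheaf.map (homOfLE hVU).op s = 0) : s = 0 := by
  obtain ⟨B, hB, hBU⟩ := Opens.isBasis_iff_cover.mp Z.isBasis_affineOpens U
  refine Z.sheaf.eq_of_locally_eq' (fun W : B => W.1) U
    (fun W => homOfLE (hBU ▸ le_sSup W.2)) (hBU.le.trans (sSup_le fun W hW =>
      le_iSup (fun W : B => W.1) ⟨W, hW⟩)) s 0 fun W => ?_
  have hWU : W.1 ≤ U := hBU ▸ le_sSup W.2
  have hW : IsAffineOpen W.1 := hB W.2
  rw [map_zero]
  change Z.presheaf.map (homOfLE hWU).op s = 0
  set a := Z.presheaf.map (homOfLE hWU).op s with hadef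
  have hle : Z.basicOpen (str f W.1 r) ≤ V :=
    (basicOpen_str f W.1 r).le.trans ((inf_le_inf_right _ hWU).trans hV)
  have ha : Z.presheaf.map (homOfLE (Z.basicOpen_le (str f W.1 r))).op a = 0 := by
    have h1 := congrArg (Z.presheaf.map (homOfLE hle).op) h
    rw [map_zero] at h1
    rw [hadef, ← h1, ← ConcreteCategory.comp_apply, ← ConcreteCategory.comp_apply,
      ← Functor.map_comp, ← Functor.map_comp]
    rfl
  have := hW.isLocalization_basicOpen (str f W.1 r)
  obtain ⟨⟨_, n, rfl⟩, hn⟩ :=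
    (IsLocalization.map_eq_zero_iff (Submonoid.powers (str f W.1 r))
      Γ(Z, Z.basicOpen (str f W.1 r)) a).mp ha
  have hkill : ∀ (m : ℕ) (b : Γ(Z, W.1)), str f W.1 r ^ m * b = 0 → b = 0 := by
    intro m
    induction m with
    | zero => intro b hb; simpa using hb
    | succ m ih =>
      intro b hb
      refine ih b (isRegular_str f hW hr _ ?_)
      rw [← mul_assoc, ← pow_succ']
      exact hb
  exact hkill n a hn

lemma isLocalization_away (ϖ : R) [IsDiscreteValuationRing R] (hϖ : Irreducible ϖ) :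
    IsLocalization.Away ϖ (FractionRing R) := by
  refine (IsLocalization.iff_of_le_of_exists_dvd (Submonoid.powers ϖ) (S := FractionRing R)
    (nonZeroDivisors R) ?_ ?_).mpr inferInstance
  · exact Submonoid.powers_le.mpr (mem_nonZeroDivisors_of_ne_zero hϖ.ne_zero)
  · intro n hn
    obtain ⟨m, u, rfl⟩ := IsDiscreteValuationRing.eq_unit_mul_pow_irreducible
      (nonZeroDivisors.ne_zero hn) hϖ
    exact ⟨ϖ ^ m, ⟨m, rfl⟩, u.isUnit.mul_left_dvd.mpr dvd_rfl⟩

section main

variable [IsDiscreteValuationRing R] {ϖ : R} {X Y : Over (Spec (CommRingCat.of R))} (π : Y ⟶ X)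

include π in
lemma isIso_restrict (hϖ : Irreducible ϖ) (hgen : IsIso ((Neron.genericFibre R).map π)) :
    IsIso (π.left ∣_ dOpen X.hom ϖ) := by
  have := isLocalization_away ϖ hϖ
  have : IsOpenImmersion (Neron.genPt R) := IsOpenImmersion.of_isLocalization ϖ
  set pX := pullback.fst X.hom (Neron.genPt R) with hpX
  have hrange : pX.opensRange = dOpen X.hom ϖ := by
    apply Opens.ext
    rw [Scheme.Hom.coe_opensRange, dOpen_eq_preimage, hpX, Scheme.Pullback.range_fst]
    congr 1
    exact PrimeSpectrum.localization_away_comap_range (FractionRing R) ϖ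
  let m : pullback Y.hom (Neron.genPt R) ⟶ pullback X.hom (Neron.genPt R) :=
    ((Neron.genericFibre R).map π).left
  have hm : IsIso m := inferInstanceAs
    (IsIso ((Over.forget _).map ((Neron.genericFibre R).map π)))
  have hm1 : m ≫ pX = pullback.fst Y.hom (Neron.genPt R) ≫ π.left := by
    exact pullback.lift_fst _ _ _
  have hm2 : m ≫ pullback.snd X.hom (Neron.genPt R) = pullback.snd Y.hom (Neron.genPt R) := by
    exact pullback.lift_snd _ _ _
  have hpb : IsPullback (pullback.fst Y.hom (Neron.genPt R)) m π.left pX := by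
    refine IsPullback.of_bot ?_ hm1.symm (IsPullback.of_hasPullback X.hom (Neron.genPt R))
    rw [Over.w, hm2]
    exact IsPullback.of_hasPullback Y.hom (Neron.genPt R)
  have : IsIso (pullback.snd π.left pX) := by
    rw [← hpb.isoPullback_inv_snd]
    infer_instance
  have : IsIso (π.left ∣_ pX.opensRange) :=
    ((MorphismProperty.isomorphisms Scheme.{u}).arrow_mk_iso_iff
      (morphismRestrictOpensRange π.left pX)).mpr this
  rwa [hrange] at this

lemma isIso_app_of_le {Z Z' : Scheme.{u}} (π : Z' ⟶ Z) {U V : Z.Opens} [IsIso (π ∣_ U)]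
    (h : V ≤ U) : IsIso (π.app V) := by
  have h1 : IsIso ((π ∣_ U).app (U.ι ⁻¹ᵁ V)) := inferInstance
  rw [morphismRestrict_app] at h1
  have h2 : IsIso (π.app (U.ι ''ᵁ U.ι ⁻¹ᵁ V)) := @IsIso.of_isIso_comp_right _ _ _ _ _ _
    (Z'.presheaf.map (eqToHom (image_morphismRestrict_preimage π U (U.ι ⁻¹ᵁ V))).op) inferInstance h1
  rwa [Scheme.Hom.image_preimage_eq_opensRange_inf, Scheme.Opens.opensRange_ι,
    inf_eq_right.mpr h] at h2

lemma app_injective (hϖ : Irreducible ϖ) [Flat X.hom] [IsIso (π.left ∣_ dOpen X.hom ϖ)]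
    (V : X.left.Opens) : Function.Injective (π.left.app V) := by
  rw [injective_iff_map_eq_zero]
  intro a ha
  refine eq_zero_of_res X.hom hϖ.ne_zero V a (V := V ⊓ dOpen X.hom ϖ) inf_le_left le_rfl ?_
  have := isIso_app_of_le π.left (inf_le_right : V ⊓ dOpen X.hom ϖ ≤ dOpen X.hom ϖ)
  refine ((ConcreteCategory.bijective_of_isIso (π.left.app (V ⊓ dOpen X.hom ϖ))).1 ?_)
  rw [map_zero, ← ConcreteCategory.comp_apply, π.left.naturality, ConcreteCategory.comp_apply, ha,
    map_zero]

lemma exists_le_basicOpen_dvd (hϖ : Irreducible ϖ)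
    [IsReduced (X.hom.fiber (IsLocalRing.closedPoint R))] {W : X.left.Opens} (hW : IsAffineOpen W)
    (a : Γ(X.left, W)) (h : X.left.basicOpen a ≤ dOpen X.hom ϖ) : str X.hom W ϖ ∣ a := by
  -- a power of `a` is divisible by `ϖ`
  have hpow : ∃ n, str X.hom W ϖ ∣ a ^ n := by
    have h1 : X.left.basicOpen a ≤ X.left.basicOpen (str X.hom W ϖ) :=
      (basicOpen_str X.hom W ϖ).ge.trans' (le_inf (X.left.basicOpen_le a) h)
    have h2 : hW.fromSpec ⁻¹ᵁ X.left.basicOpen a ≤
        hW.fromSpec ⁻¹ᵁ X.left.basicOpen (str X.hom W ϖ) := fun x hx => h1 hx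
    rw [hW.fromSpec_preimage_basicOpen, hW.fromSpec_preimage_basicOpen] at h2
    obtain ⟨n, hn⟩ := (PrimeSpectrum.basicOpen_le_basicOpen_iff _ _).mp h2
    exact ⟨n, Ideal.mem_span_singleton.mp hn⟩
  obtain ⟨n, hn⟩ := hpow
  set q := Ideal.Quotient.mk (Ideal.span {str X.hom W ϖ}) with hq
  rw [← Ideal.mem_span_singleton]
  refine Ideal.Quotient.eq_zero_iff_mem.mp ?_
  change q a = 0
  -- `Spec (Γ(W)/ϖ)` maps to the closed fibre
  set P := IsLocalRing.closedPoint R with hP
  have hker : ∀ r ∈ IsLocalRing.maximalIdeal R, (q.comp (str X.hom W)) r = 0 := by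
    intro r hr
    rw [hϖ.maximalIdeal_eq, Ideal.mem_span_singleton] at hr
    obtain ⟨c, rfl⟩ := hr
    rw [map_mul]
    simp [q, Ideal.Quotient.mk_singleton_self]
  have : P.asIdeal.IsMaximal := IsLocalRing.maximalIdeal.isMaximal R
  have hbij := Ideal.bijective_algebraMap_quotient_residueField P.asIdeal
  let χ : P.asIdeal.ResidueField →+* Γ(X.left, W) ⧸ Ideal.span {str X.hom W ϖ} :=
    (Ideal.Quotient.lift (IsLocalRing.maximalIdeal R) (q.comp (str X.hom W)) hker).comp
      (RingEquiv.ofBijective _ hbij).symm.toRingHom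
  have hχ : χ.comp (algebraMap R P.asIdeal.ResidueField) = q.comp (str X.hom W) := by
    ext r
    have h1 : (RingEquiv.ofBijective _ hbij).symm (algebraMap R P.asIdeal.ResidueField r) =
        Ideal.Quotient.mk _ r := by
      rw [RingEquiv.symm_apply_eq]
      rfl
    change Ideal.Quotient.lift _ _ hker ((RingEquiv.ofBijective _ hbij).symm _) = _
    rw [h1]
    rfl
  have hsq : (Spec.map (CommRingCat.ofHom q) ≫ hW.fromSpec) ≫ X.hom =
      Spec.map ((Scheme.Spec.residueFieldIso (CommRingCat.of R) P).hom ≫ CommRingCat.ofHom χ) ≫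
        (Spec (CommRingCat.of R)).fromSpecResidueField P := by
    rw [← Scheme.Spec.map_residueFieldIso_inv_eq_fromSpecResidueField, ← Spec.map_comp, ← Spec.map_comp,
      Category.assoc]
    have h1 : hW.fromSpec ≫ X.hom = Spec.map (CommRingCat.ofHom (str X.hom W)) := by
      have h2 := IsAffineOpen.SpecMap_appLE_fromSpec X.hom (isAffineOpen_top _) hW (i := le_top)
      rw [IsAffineOpen.fromSpec_top] at h2
      rw [← h2, str, CommRingCat.ofHom_hom, Spec.map_comp]
      congr 1
      simp [Scheme.isoSpec_Spec_inv]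
    rw [h1, ← Spec.map_comp, ← CommRingCat.ofHom_comp, ← hχ, Category.assoc,
      Iso.inv_hom_id_assoc, CommRingCat.ofHom_comp]
  let l : Spec (CommRingCat.of (Γ(X.left, W) ⧸ Ideal.span {str X.hom W ϖ})) ⟶ X.hom.fiber P :=
    pullback.lift _ _ hsq
  have hl : l ≫ X.hom.fiberι P = Spec.map (CommRingCat.ofHom q) ≫ hW.fromSpec :=
    pullback.lift_fst _ _ hsq
  -- `a` vanishes on the closed fibre
  have hnil : IsNilpotent ((X.hom.fiberι P).app W a) := by
    refine ⟨n, ?_⟩
    obtain ⟨c, hc⟩ := hn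
    rw [← map_pow, hc, map_mul, app_str]
    have : str (X.hom.fiberι P ≫ X.hom) (X.hom.fiberι P ⁻¹ᵁ W) ϖ = 0 := by
      rw [← res_str _ (homOfLE (le_top : X.hom.fiberι P ⁻¹ᵁ W ≤ ⊤))]
      suffices str (X.hom.fiberι P ≫ X.hom) ⊤ ϖ = 0 by rw [this, map_zero]
      have h0 : IsReduced (X.hom.fiber P) := inferInstance
      rw [← basicOpen_eq_bot_iff]
      rw [← dOpen]
      apply Opens.ext
      rw [dOpen_eq_preimage, Opens.coe_bot, Set.eq_empty_iff_forall_notMem]
      intro x hx
      have h3 : (X.hom.fiberι P ≫ X.hom) x = P := by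
        rw [Scheme.Hom.comp_apply]
        have hx' : X.hom.fiberι P x ∈ Set.range (X.hom.fiberι P) := ⟨x, rfl⟩
        rw [Scheme.Hom.range_fiberι] at hx'
        exact hx'
      have h4 : P ∈ PrimeSpectrum.basicOpen ϖ := h3 ▸ hx
      exact h4 (hϖ.maximalIdeal_eq.ge (Ideal.mem_span_singleton_self ϖ))
    rw [this, zero_mul]
  have hzero := hnil.eq_zero
  have hle : (⊤ : (Spec (CommRingCat.of (Γ(X.left, W) ⧸ Ideal.span {str X.hom W ϖ}))).Opens) ≤
      (Spec.map (CommRingCat.ofHom q) ≫ hW.fromSpec) ⁻¹ᵁ W := by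
    rw [Scheme.Hom.comp_preimage, hW.fromSpec_preimage_self]
    exact le_rfl
  have h5 : (Spec.map (CommRingCat.ofHom q) ≫ hW.fromSpec).appLE W ⊤ hle a = 0 := by
    have key : ∀ (g : Spec (CommRingCat.of (Γ(X.left, W) ⧸ Ideal.span {str X.hom W ϖ})) ⟶ X.left)
        (hg : ⊤ ≤ g ⁻¹ᵁ W), g = l ≫ X.hom.fiberι P → g.appLE W ⊤ hg a = 0 := by
      rintro g hg rfl
      rw [Scheme.Hom.appLE, Scheme.Hom.comp_app]
      refine (congrArg (fun z => (ConcreteCategory.hom
        ((Spec (CommRingCat.of (Γ(X.left, W) ⧸ Ideal.span {str X.hom W ϖ}))).presheaf.map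
          (homOfLE hg).op))
        ((ConcreteCategory.hom (l.app (X.hom.fiberι P ⁻¹ᵁ W))) z)) hzero).trans ?_
      rw [map_zero]
      exact map_zero _
    exact key _ hle hl.symm
  have h6 : (Spec.map (CommRingCat.ofHom q) ≫ hW.fromSpec).appLE W ⊤ hle =
      CommRingCat.ofHom q ≫ (Scheme.ΓSpecIso _).inv := by
    have h8 : hW.fromSpec.appLE W ⊤ hW.fromSpec_preimage_self.ge =
        (Scheme.ΓSpecIso Γ(X.left, W)).inv := by
      rw [Scheme.Hom.appLE, hW.fromSpec_app_self, Category.assoc, ← Functor.map_comp]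
      convert Category.comp_id _
      exact CategoryTheory.Functor.map_id _ _
    have h9 := Scheme.Hom.appLE_comp_appLE (Spec.map (CommRingCat.ofHom q)) hW.fromSpec W ⊤ ⊤
      hW.fromSpec_preimage_self.ge le_top
    rw [← h9, h8, Scheme.ΓSpecIso_inv_naturality]
    congr 1
  rw [h6] at h5
  have h7 := congrArg (Scheme.ΓSpecIso _).hom h5
  rw [map_zero, ← ConcreteCategory.comp_apply] at h7
  simpa using h7

lemma surjective_base (hϖ : Irreducible ϖ) [Flat X.hom] [IsProper π.left]
    [IsIso (π.left ∣_ dOpen X.hom ϖ)] (x : X.left) : ∃ y : Y.left, π.left y = x := by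
  have hsub : (dOpen X.hom ϖ : Set X.left) ⊆ Set.range π.left := by
    intro x hx
    obtain ⟨y, hy⟩ := (π.left ∣_ dOpen X.hom ϖ).homeomorph.surjective ⟨x, hx⟩
    refine ⟨y.1, ?_⟩
    have := congrArg Subtype.val hy
    rwa [Scheme.Hom.homeomorph_apply, morphismRestrict_base_coe] at this
  have hdense : Dense (dOpen X.hom ϖ : Set X.left) := by
    rw [dense_iff_inter_open]
    intro U hU hne
    by_contra hemp
    rw [Set.not_nonempty_iff_eq_empty] at hemp
    have hbot : (⟨U, hU⟩ : X.left.Opens) ⊓ dOpen X.hom ϖ ≤ ⊥ := hemp.le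
    have h1 := eq_zero_of_res X.hom hϖ.ne_zero ⟨U, hU⟩ 1 (V := ⊥) bot_le hbot
      (Subsingleton.elim _ _)
    obtain ⟨z, hz⟩ := hne
    have h2 := congrArg (X.left.presheaf.germ ⟨U, hU⟩ z hz) h1
    simp at h2
  exact (π.left.isClosedMap.isClosed_range.closure_subset_iff.mpr hsub) (hdense x)

lemma app_bijective (hϖ : Irreducible ϖ) [Flat X.hom] [Flat Y.hom] [IsProper π.left]
    [IsIso (π.left ∣_ dOpen X.hom ϖ)] [IsReduced (X.hom.fiber (IsLocalRing.closedPoint R))]
    {W : X.left.Opens} (hW : IsAffineOpen W) : Function.Bijective (π.left.app W) := by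
  refine ⟨app_injective π hϖ W, fun b => ?_⟩
  have hiso := isIso_app_of_le π.left
    (inf_le_right : W ⊓ dOpen X.hom ϖ ≤ dOpen X.hom ϖ)
  rw [← basicOpen_str] at hiso
  set w := str X.hom W ϖ with hw
  have hπw : π.left.app W w = str Y.hom (π.left ⁻¹ᵁ W) ϖ := by rw [hw, app_str, Over.w]
  obtain ⟨a', ha'⟩ := (ConcreteCategory.bijective_of_isIso (π.left.app (X.left.basicOpen w))).2
    (Y.left.presheaf.map
      (homOfLE (Scheme.Hom.preimage_mono π.left (X.left.basicOpen_le w))).op b)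
  have := hW.isLocalization_basicOpen w
  obtain ⟨⟨a, _, n, rfl⟩, hn⟩ := IsLocalization.surj (Submonoid.powers w) a'
  have hna : π.left.app W a = (str Y.hom (π.left ⁻¹ᵁ W) ϖ) ^ n * b := by
    refine sub_eq_zero.mp (eq_zero_of_res Y.hom hϖ.ne_zero _ _ (V := π.left ⁻¹ᵁ X.left.basicOpen w)
      (Scheme.Hom.preimage_mono π.left (X.left.basicOpen_le w)) ?_ ?_)
    · rw [hw, basicOpen_str, Scheme.Hom.preimage_inf, preimage_dOpen, Over.w]
    · rw [map_sub, map_mul, sub_eq_zero, ← hπw, ← map_pow, ← ConcreteCategory.comp_apply,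
        ← ConcreteCategory.comp_apply]
      erw [← π.left.naturality (homOfLE (X.left.basicOpen_le w)).op]
      rw [ConcreteCategory.comp_apply, ConcreteCategory.comp_apply, ← ha', ← map_mul]
      congr 1
      rw [mul_comm]
      exact hn.symm
  clear hn ha' a'
  induction n generalizing a with
  | zero => exact ⟨a, by simpa using hna⟩
  | succ n ih =>
    have hle : X.left.basicOpen a ≤ dOpen X.hom ϖ := by
      intro x hx
      obtain ⟨y, rfl⟩ := surjective_base π hϖ x
      have h1 : y ∈ π.left ⁻¹ᵁ X.left.basicOpen a := hx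
      rw [Scheme.preimage_basicOpen, hna, pow_succ', mul_assoc, Scheme.basicOpen_mul,
        basicOpen_str, ← Over.w π, ← preimage_dOpen] at h1
      exact h1.1.2
    obtain ⟨c, hc⟩ := exists_le_basicOpen_dvd hϖ hW a hle
    refine ih c ?_
    refine sub_eq_zero.mp (eq_zero_of_res Y.hom hϖ.ne_zero _ _ (V := π.left ⁻¹ᵁ W ⊓ dOpen Y.hom ϖ)
      inf_le_left le_rfl ?_)
    have hu : IsUnit (Y.left.presheaf.map
        (homOfLE (inf_le_left : π.left ⁻¹ᵁ W ⊓ dOpen Y.hom ϖ ≤ _)).op
        (str Y.hom (π.left ⁻¹ᵁ W) ϖ)) := by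
      rw [res_str, ← res_str Y.hom (homOfLE (le_top : π.left ⁻¹ᵁ W ⊓ dOpen Y.hom ϖ ≤ ⊤))]
      have h1 := Y.left.toRingedSpace.isUnit_res_basicOpen (str Y.hom ⊤ ϖ)
      have h2 := h1.map (Y.left.presheaf.map
        (homOfLE (inf_le_right : π.left ⁻¹ᵁ W ⊓ dOpen Y.hom ϖ ≤ Y.left.basicOpen _)).op).hom
      erw [← ConcreteCategory.comp_apply, ← Functor.map_comp] at h2
      exact h2
    refine hu.mul_right_eq_zero.mp ?_
    rw [← map_mul, mul_sub, ← hπw, ← map_mul, ← hc, hna, hπw, pow_succ', mul_assoc, sub_self,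
      map_zero]

end main

/-- Let R be a discrete valuation ring with fraction field K, let X and Y be schemes flat over Spec R
and let π : Y → X be a proper morphism over Spec R whose base change along Spec K → Spec R is an
isomorphism. If the fibre of X over the closed point of Spec R is reduced, then the canonical map
O_X → π_* O_Y is an isomorphism: for every open V ⊆ X the ring map O_X(V) → O_Y(π⁻¹ V) is bijective. -/
theorem result
    (R : Type u) [CommRing R] [IsDomain R] [IsDiscreteValuationRing R]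
    (X Y : Over (Spec (CommRingCat.of R))) [Flat X.hom] [Flat Y.hom]
    (π : Y ⟶ X) [IsProper π.left]
    (hgen : IsIso ((Neron.genericFibre R).map π))
    [IsReduced (X.hom.fiber (IsLocalRing.closedPoint R))] :
    ∀ V : X.left.Opens, IsIso (π.left.app V) := by
  obtain ⟨ϖ, hϖ⟩ := IsDiscreteValuationRing.exists_irreducible R
  have := isIso_restrict π hϖ hgen
  intro V
  refine (ConcreteCategory.isIso_iff_bijective _).mpr ⟨app_injective π hϖ V, fun b => ?_⟩
  obtain ⟨B, hB, hBV⟩ := Opens.isBasis_iff_cover.mp X.left.isBasis_affineOpens V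
  have hle : ∀ W : B, W.1 ≤ V := fun W => hBV ▸ le_sSup W.2
  choose a ha using fun W : B => (app_bijective π hϖ (hB W.2)).2
    (Y.left.presheaf.map (homOfLE (Scheme.Hom.preimage_mono π.left (hle W))).op b)
  have hcompat : TopCat.Presheaf.IsCompatible X.left.presheaf (fun W : B => W.1) a := by
    intro W W'
    refine app_injective π hϖ _ ?_
    rw [← ConcreteCategory.comp_apply, ← ConcreteCategory.comp_apply, π.left.naturality,
      π.left.naturality, ConcreteCategory.comp_apply, ConcreteCategory.comp_apply, ha, ha,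
      ← ConcreteCategory.comp_apply, ← ConcreteCategory.comp_apply, ← Functor.map_comp,
      ← Functor.map_comp]
    rfl
  have hcover : V ≤ ⨆ W : B, W.1 :=
    hBV.le.trans (sSup_le fun W hW => le_iSup (fun W : B => W.1) ⟨W, hW⟩)
  obtain ⟨s, hs, -⟩ := X.left.sheaf.existsUnique_gluing' (fun W : B => W.1) V
    (fun W => homOfLE (hle W)) hcover a hcompat
  refine ⟨s, Y.left.sheaf.eq_of_locally_eq' (fun W : B => π.left ⁻¹ᵁ W.1) _
    (fun W => homOfLE (Scheme.Hom.preimage_mono π.left (hle W))) ?_ _ _ fun W => ?_⟩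
  · intro y hy
    obtain ⟨W, hW⟩ := Opens.mem_iSup.mp (hcover hy)
    exact Opens.mem_iSup.mpr ⟨W, hW⟩
  · refine Eq.trans ?_ (ha W)
    rw [← hs W]
    exact (congrArg (fun m => (ConcreteCategory.hom m) s)
      (π.left.naturality (homOfLE (hle W)).op)).symm

end Groth.Agent.S13746
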