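import Groth.Statements.S13749
import Groth.Agent.PurIso.Fibre
import Groth.Agent.SchDense.Basic
import Groth.Agent.Thick.FlatCancel
import Groth.Agent.FlatMor.SchDom
import Groth.Agent.NeronLib.Dense
import Groth.Agent.NeronLib.MapBij

set_option autoImplicit false
universe u
open CategoryTheory AlgebraicGeometry
open Neron

namespace Groth.Agent.S13749

/-- Let S be a locally Noetherian scheme, U ⊆ S a schematically dense open subscheme, N → S a smooth
separated morphism of finite type and g : S' → S a flat surjective morphism, and put U' = g⁻¹(U).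
Suppose the base change N ×_S S' → S' has the Néron mapping property with respect to U': for every
smooth S'-scheme Y', sending an S'-morphism Y' → N ×_S S' to its restriction over U' is a bijection
onto the U'-morphisms Y' ×_{S'} U' → (N ×_S S') ×_{S'} U'. Then N → S has the Néron mapping property
with respect to U: for every smooth S-scheme Y, restriction to U is a bijection from S-morphisms Y →
N onto U-morphisms Y ×_S U → N ×_S U. (The published statement is for an arbitrary base S and open
U, with N an algebraic space which is a model of an abelian scheme over U, tested against smooth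
schemes; this row takes N a scheme, drops the abelian-scheme hypothesis, and assumes S locally
Noetherian with U schematically dense, the setting in which schematic closures of U-sections commute
with flat base change and fill S'.) -/
theorem result
    {S S' : Scheme.{u}} [IsLocallyNoetherian S] (g : S' ⟶ S) [Flat g] [Surjective g]
    (U : S.Opens) (hU : CInt.IsSchematicallyDense U)
    (N : Over S) [Smooth N.hom] [IsSeparated N.hom] [QuasiCompact N.hom]
    (hN' : ∀ Y' : Over S', Smooth Y'.hom →
      Function.Bijective (fun f : Y' ⟶ (Over.pullback g).obj N => (Over.pullback (g ⁻¹ᵁ U).ι).map f))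
    (Y : Over S) [Smooth Y.hom] :
    Function.Bijective (fun f : Y ⟶ N => (Over.pullback U.ι).map f) := by
  open CategoryTheory CategoryTheory.Limits AlgebraicGeometry in
  haveI : IsLocallyNoetherian Y.left := LocallyOfFiniteType.isLocallyNoetherian Y.hom
  haveI : QuasiCompact U.ι := inferInstance
  haveI : IsSchemeTheoreticallyDominant U.ι := by
    haveI := SchDense.isIso_of_schDense U.ι.imageι U hU U.ι.toImage U.ι.toImage_imageι
    rw [isSchemeTheoreticallyDominant_iff]
    exact (Scheme.IdealSheafData.ker_subschemeι U.ι.ker).symm.trans U.ι.imageι.ker_eq_bot_of_isIso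
  let jY := pullback.fst Y.hom U.ι
  haveI : IsSchemeTheoreticallyDominant jY := inferInstance
  haveI : QuasiCompact jY := inferInstance
  let pY := pullback.fst Y.hom g
  haveI : Flat pY := inferInstance
  haveI : Surjective pY := inferInstance
  let Y' : Over S' := Over.mk (pullback.snd Y.hom g)
  haveI hY' : Smooth Y'.hom := inferInstanceAs (Smooth (pullback.snd Y.hom g))
  let jY' := pullback.fst Y'.hom (g ⁻¹ᵁ U).ι
  have hsqU : IsPullback (g ∣_ U) (g ⁻¹ᵁ U).ι U.ι g := (isPullback_morphismRestrict g U)
  let k : pullback Y'.hom (g ⁻¹ᵁ U).ι ⟶ pullback Y.hom U.ι :=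
    pullback.lift (jY' ≫ pY) (pullback.snd Y'.hom (g ⁻¹ᵁ U).ι ≫ g ∣_ U) (by
      rw [Category.assoc, Category.assoc, hsqU.w, pullback.condition, ← Category.assoc]
      show (jY' ≫ Y'.hom) ≫ g = _
      rw [pullback.condition, Category.assoc])
  have hk : k ≫ jY = jY' ≫ pY := pullback.lift_fst _ _ _
  have hsqk : IsPullback k jY' jY pY := by
    refine (IsPullback.of_bot ?_ (pullback.lift_fst _ _ _).symm
      (IsPullback.of_hasPullback Y.hom U.ι)).flip
    rw [pullback.lift_snd, pullback.condition]
    exact (IsPullback.of_hasPullback Y'.hom (g ⁻¹ᵁ U).ι).paste_vert hsqU.flip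
  have hinj' := (NeronLib.MapBij.bijective_iff (g ⁻¹ᵁ U).ι _ _
    (IsPullback.of_hasPullback Y'.hom (g ⁻¹ᵁ U).ι)).1 (hN' Y' hY')
  let lift' : ∀ (f₀ : Y'.left ⟶ N.left), f₀ ≫ N.hom = pY ≫ Y.hom → (Y' ⟶ (Over.pullback g).obj N) :=
    fun f₀ w => Over.homMk (pullback.lift f₀ (pullback.snd Y.hom g) (w.trans pullback.condition))
      (pullback.lift_snd _ _ _)
  refine (NeronLib.MapBij.bijective_iff U.ι _ _ (IsPullback.of_hasPullback Y.hom U.ι)).2 fun h hh => ?_
  have hh' : (k ≫ h) ≫ N.hom = (jY' ≫ Y'.hom) ≫ g := by
    rw [Category.assoc, hh, reassoc_of% hk, pullback.condition, Category.assoc]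
    rfl
  let h' : pullback Y'.hom (g ⁻¹ᵁ U).ι ⟶ pullback N.hom g := pullback.lift (k ≫ h) (jY' ≫ Y'.hom) hh'
  obtain ⟨f', hf', hf'u⟩ := hinj' h' (pullback.lift_snd _ _ _)
  refine existsUnique_of_exists_of_unique ?_ ?_
  swap
  · intro f₁ f₂ h₁ h₂
    have e : ∀ f : Y ⟶ N, jY ≫ f.left = h → lift' (pY ≫ f.left) (by rw [Category.assoc, Over.w f]) = f' := by
      intro f hf
      refine hf'u _ ?_
      apply pullback.hom_ext
      · refine (Category.assoc _ _ _).trans ?_
        erw [pullback.lift_fst, pullback.lift_fst]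
        rw [← reassoc_of% hk, hf]
      · refine (Category.assoc _ _ _).trans ?_
        erw [pullback.lift_snd, pullback.lift_snd]
        rfl
    have h12 := congrArg (fun q => q.left ≫ pullback.fst N.hom g) ((e f₁ h₁).trans (e f₂ h₂).symm)
    simp only [lift', Over.homMk_left] at h12
    erw [pullback.lift_fst, pullback.lift_fst] at h12
    haveI := Flat.epi_of_flat_of_surjective pY
    ext1
    exact (cancel_epi pY).1 h12
  -- existence
  let f₀ : Y'.left ⟶ N.left := f'.left ≫ pullback.fst N.hom g
  have hf₀ : jY' ≫ f₀ = k ≫ h := by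
    rw [← Category.assoc]
    exact (congrArg (· ≫ pullback.fst N.hom g) hf').trans (pullback.lift_fst _ _ _)
  have hf₀' : f₀ ≫ N.hom = pY ≫ Y.hom := by
    have hw : f'.left ≫ pullback.snd N.hom g = pullback.snd Y.hom g := Over.w f'
    rw [Category.assoc, pullback.condition, reassoc_of% hw, pullback.condition]
  let q₁ := pullback.fst Y.hom N.hom
  let γ : pullback Y.hom U.ι ⟶ pullback Y.hom N.hom := pullback.lift jY h hh.symm
  have hγ : γ ≫ q₁ = jY := pullback.lift_fst _ _ _
  haveI : QuasiCompact γ := by
    haveI : QuasiCompact (γ ≫ q₁) := by rw [hγ]; infer_instance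
    exact QuasiCompact.of_comp γ q₁
  haveI : IsSchemeTheoreticallyDominant γ.toImage := FlatMor.SchDom.toImage_dominant γ (Or.inl inferInstance)
  let π : γ.image ⟶ Y.left := γ.imageι ≫ q₁
  haveI : LocallyOfFiniteType π := inferInstance
  have hπ : γ.toImage ≫ π = jY := by rw [γ.toImage_imageι_assoc, hγ]
  -- after base change
  let π' := pullback.snd π pY
  let r₂ := pullback.snd q₁ pY
  let ι₁ : pullback π pY ⟶ pullback q₁ pY :=
    pullback.lift (pullback.fst π pY ≫ γ.imageι) (pullback.snd π pY)
      (by rw [Category.assoc]; exact pullback.condition)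
  haveI : IsClosedImmersion ι₁ := by
    have hp : IsPullback (pullback.fst π pY) ι₁ γ.imageι (pullback.fst q₁ pY) := by
      refine IsPullback.of_bot ?_ (pullback.lift_fst _ _ _).symm (IsPullback.of_hasPullback q₁ pY)
      rw [pullback.lift_snd]
      exact IsPullback.of_hasPullback π pY
    exact MorphismProperty.of_isPullback hp inferInstance
  let G₁ : Y'.left ⟶ pullback q₁ pY :=
    pullback.lift (pullback.lift pY f₀ hf₀'.symm) (𝟙 _)
      (by rw [pullback.lift_fst]; exact (Category.id_comp _).symm)
  have hG₁ : G₁ ≫ r₂ = 𝟙 _ := pullback.lift_snd _ _ _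
  haveI : IsClosedImmersion G₁ := by
    haveI : IsClosedImmersion (G₁ ≫ r₂) := by rw [hG₁]; infer_instance
    exact IsClosedImmersion.of_comp G₁ r₂
  let γ₁ : pullback Y'.hom (g ⁻¹ᵁ U).ι ⟶ pullback π pY :=
    pullback.lift (k ≫ γ.toImage) jY' (by rw [Category.assoc, hπ, hk])
  haveI : IsSchemeTheoreticallyDominant γ₁ := by
    have hp : IsPullback k γ₁ γ.toImage (pullback.fst π pY) := by
      refine IsPullback.of_bot ?_ (pullback.lift_fst _ _ _).symm (IsPullback.of_hasPullback π pY)
      rw [hπ, pullback.lift_snd]
      exact hsqk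
    exact IsSchemeTheoreticallyDominant.of_isPullback hp
  haveI : IsSchemeTheoreticallyDominant jY' := IsSchemeTheoreticallyDominant.of_isPullback hsqk
  have hc : γ₁ ≫ ι₁ = jY' ≫ G₁ := by
    apply pullback.hom_ext
    · rw [Category.assoc, Category.assoc, pullback.lift_fst, pullback.lift_fst,
        pullback.lift_fst_assoc, Category.assoc, γ.toImage_imageι]
      apply pullback.hom_ext
      · simp only [Category.assoc, γ, pullback.lift_fst]
        exact hk
      · simp only [Category.assoc, γ, pullback.lift_snd]
        exact hf₀.symm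
    · rw [Category.assoc, Category.assoc, pullback.lift_snd, pullback.lift_snd, pullback.lift_snd,
        Category.comp_id]
  haveI := NeronLib.Dense.isIso_of_factors (pullback.fst ι₁ G₁) γ₁ (pullback.lift γ₁ jY' hc)
    (pullback.lift_fst _ _ _)
  haveI := NeronLib.Dense.isIso_of_factors (pullback.snd ι₁ G₁) jY' (pullback.lift γ₁ jY' hc)
    (pullback.lift_snd _ _ _)
  haveI hπ' : IsIso π' := by
    have e : pullback.fst ι₁ G₁ ≫ π' = pullback.snd ι₁ G₁ := by
      have h1 : ι₁ ≫ r₂ = π' := pullback.lift_snd _ _ _
      rw [← h1, pullback.condition_assoc, hG₁, Category.comp_id]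
    rw [← IsIso.eq_inv_comp] at e
    rw [e]
    infer_instance
  -- descend
  haveI : Flat (π ≫ Y.hom) := by
    haveI : Flat (pullback.fst π pY ≫ π ≫ Y.hom) := by
      rw [pullback.condition_assoc]
      haveI : Flat π' := inferInstance
      infer_instance
    exact Thick.FlatCancel.flat_of_comp (pullback.fst π pY) (π ≫ Y.hom)
  haveI : LocallyOfFinitePresentation (π ≫ Y.hom) :=
    LocallyOfFinitePresentation.iff_locallyOfFiniteType.mpr inferInstance
  haveI hπiso : IsIso π := PurIso.isIso_of_forall_fmap π Y.hom fun s => by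
    obtain ⟨s', rfl⟩ := g.surjective s
    exact PurIso.isIso_fmap_of_baseChange (IsPullback.of_hasPullback Y.hom g)
      (IsPullback.of_hasPullback π pY) s'
      (MorphismProperty.of_isPullback (P := MorphismProperty.isomorphisms Scheme.{u})
        (ConsPropLib.isPullback_fiberMap π' (pullback.snd Y.hom g) s') hπ')
  have hw : π ≫ Y.hom = (γ.imageι ≫ pullback.snd Y.hom N.hom) ≫ N.hom := by
    rw [Category.assoc, pullback.condition, Category.assoc]
  refine ⟨Over.homMk (inv π ≫ γ.imageι ≫ pullback.snd Y.hom N.hom) (by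
    rw [Category.assoc, ← hw, IsIso.inv_hom_id_assoc]), ?_⟩
  show jY ≫ inv π ≫ _ = h
  rw [← hπ, Category.assoc, IsIso.hom_inv_id_assoc, γ.toImage_imageι_assoc]
  exact pullback.lift_snd _ _ _

end Groth.Agent.S13749
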