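import Groth.Statements.S13750
import Groth.Agent.NeronLoc67.Basic

set_option autoImplicit false
set_option maxHeartbeats 1000000
set_option backward.isDefEq.respectTransparency false
universe u
open CategoryTheory AlgebraicGeometry
open Neron

namespace Groth.Agent.S13750

open CategoryTheory.Limits NeronLoc67

theorem forward {T : Scheme.{u}} (V : T.Opens) (N Y : Over T)
    (h : Function.Bijective (fun f : Y ⟶ N => (Over.pullback V.ι).map f)) :
    Inj V N.hom Y.hom ∧ Surj V N.hom Y.hom := by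
  let e' : pullback Y.hom V.ι ⟶ (Y.hom ⁻¹ᵁ V : Y.left.Opens).toScheme :=
    IsOpenImmersion.lift (Y.hom ⁻¹ᵁ V).ι (pullback.fst Y.hom V.ι) (by
      rintro _ ⟨w, rfl⟩
      rw [Scheme.Opens.range_ι]
      show Y.hom (pullback.fst Y.hom V.ι w) ∈ V
      rw [show Y.hom (pullback.fst Y.hom V.ι w) = V.ι (pullback.snd Y.hom V.ι w) by
        simp only [← Scheme.Hom.comp_apply, pullback.condition]]
      exact (pullback.snd Y.hom V.ι w).2)
  let e : (Y.hom ⁻¹ᵁ V : Y.left.Opens).toScheme ⟶ pullback Y.hom V.ι :=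
    pullback.lift (Y.hom ⁻¹ᵁ V).ι (Y.hom ∣_ V) (morphismRestrict_ι Y.hom V).symm
  have he' : e' ≫ (Y.hom ⁻¹ᵁ V).ι = pullback.fst Y.hom V.ι := IsOpenImmersion.lift_fac _ _ _
  have he : e ≫ e' = 𝟙 _ := by
    rw [← cancel_mono (Y.hom ⁻¹ᵁ V).ι, Category.assoc, he', Category.id_comp, pullback.lift_fst]
  refine ⟨fun f₁ f₂ h₁ h₂ hU => ?_, fun g hg => ?_⟩
  · refine congrArg CommaMorphism.left (h.1 (a₁ := Over.homMk f₁ h₁) (a₂ := Over.homMk f₂ h₂) ?_)
    ext1
    apply pullback.hom_ext
    · refine (pullback.lift_fst _ _ _).trans (Eq.trans ?_ (pullback.lift_fst _ _ _).symm)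
      show pullback.fst Y.hom V.ι ≫ f₁ = pullback.fst Y.hom V.ι ≫ f₂
      rw [← he', Category.assoc, hU, ← Category.assoc]
    · exact (pullback.lift_snd _ _ _).trans (pullback.lift_snd _ _ _).symm
  · obtain ⟨f, hf⟩ := h.2 (Over.homMk (pullback.lift (e' ≫ g) (pullback.snd Y.hom V.ι) (by
      rw [Category.assoc, hg, reassoc_of% he', pullback.condition])) (pullback.lift_snd _ _ _))
    refine ⟨f.left, Over.w f, ?_⟩
    have this : pullback.fst Y.hom V.ι ≫ f.left = e' ≫ g := (pullback.lift_fst _ _ _).symm.trans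
      ((congrArg (fun z => z.left ≫ pullback.fst N.hom V.ι) hf).trans (pullback.lift_fst _ _ _))
    rw [← pullback.lift_fst (Y.hom ⁻¹ᵁ V).ι (Y.hom ∣_ V) (morphismRestrict_ι Y.hom V).symm, Category.assoc]
    exact (congrArg (e ≫ ·) this).trans (by rw [reassoc_of% he])

theorem backward {T : Scheme.{u}} (V : T.Opens) (N Y : Over T)
    (h : Inj V N.hom Y.hom ∧ Surj V N.hom Y.hom) :
    Function.Bijective (fun f : Y ⟶ N => (Over.pullback V.ι).map f) := by
  let e : (Y.hom ⁻¹ᵁ V : Y.left.Opens).toScheme ⟶ pullback Y.hom V.ι :=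
    pullback.lift (Y.hom ⁻¹ᵁ V).ι (Y.hom ∣_ V) (morphismRestrict_ι Y.hom V).symm
  let e' : pullback Y.hom V.ι ⟶ (Y.hom ⁻¹ᵁ V : Y.left.Opens).toScheme :=
    IsOpenImmersion.lift (Y.hom ⁻¹ᵁ V).ι (pullback.fst Y.hom V.ι) (by
      rintro _ ⟨w, rfl⟩
      rw [Scheme.Opens.range_ι]
      show Y.hom (pullback.fst Y.hom V.ι w) ∈ V
      rw [show Y.hom (pullback.fst Y.hom V.ι w) = V.ι (pullback.snd Y.hom V.ι w) by
        simp only [← Scheme.Hom.comp_apply, pullback.condition]]
      exact (pullback.snd Y.hom V.ι w).2)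
  have he' : e' ≫ (Y.hom ⁻¹ᵁ V).ι = pullback.fst Y.hom V.ι := IsOpenImmersion.lift_fac _ _ _
  have hee : e' ≫ e = 𝟙 _ := by
    apply pullback.hom_ext
    · rw [Category.assoc, pullback.lift_fst, he', Category.id_comp]
    · rw [← cancel_mono V.ι]
      simp only [Category.assoc, Category.id_comp]
      rw [pullback.lift_snd_assoc, morphismRestrict_ι, reassoc_of% he', pullback.condition]
  refine ⟨fun f₁ f₂ hf => ?_, fun g => ?_⟩
  · ext1
    refine h.1 _ _ (Over.w f₁) (Over.w f₂) ?_
    have this : pullback.fst Y.hom V.ι ≫ f₁.left = pullback.fst Y.hom V.ι ≫ f₂.left := (pullback.lift_fst _ _ _).symm.trans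
      ((congrArg (fun z => z.left ≫ pullback.fst N.hom V.ι) hf).trans (pullback.lift_fst _ _ _))
    rw [← pullback.lift_fst (Y.hom ⁻¹ᵁ V).ι (Y.hom ∣_ V) (morphismRestrict_ι Y.hom V).symm, Category.assoc,
      Category.assoc]
    exact congrArg (e ≫ ·) this
  · have hgw : g.left ≫ pullback.snd N.hom V.ι = pullback.snd Y.hom V.ι := Over.w g
    obtain ⟨f, hf, hf'⟩ := h.2 (e ≫ g.left ≫ pullback.fst N.hom V.ι) (by
      simp only [Category.assoc, pullback.condition]
      rw [reassoc_of% hgw, ← pullback.condition, pullback.lift_fst_assoc])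
    refine ⟨Over.homMk f hf, ?_⟩
    ext1
    apply pullback.hom_ext
    · refine (pullback.lift_fst _ _ _).trans ?_
      show pullback.fst Y.hom V.ι ≫ f = g.left ≫ pullback.fst N.hom V.ι
      rw [← he', Category.assoc, hf', reassoc_of% hee]
    · exact (pullback.lift_snd _ _ _).trans hgw.symm

/-- Let S be a locally Noetherian scheme, U ⊆ S an open subscheme and N → S a smooth separated morphism
of finite type having the Néron mapping property with respect to U: for every smooth S-scheme Y,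
restriction to U is a bijection from S-morphisms Y → N onto U-morphisms Y ×_S U → N ×_S U. Let s be
a point of S and S̃ = Spec O_{S,s} → S the canonical morphism. Then N ×_S S̃ → S̃ has the Néron
mapping property with respect to the preimage Ũ of U: for every smooth S̃-scheme Ỹ, restriction to Ũ
is a bijection from S̃-morphisms Ỹ → N ×_S S̃ onto Ũ-morphisms. (The published statement is for N an
algebraic space which is a Néron model of an abelian scheme over U and also covers the strict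
henselisation at a geometric point; this row is the localisation case for a scheme N, with no
abelian-scheme hypothesis.) -/
theorem result
    {S : Scheme.{u}} [IsLocallyNoetherian S] (U : S.Opens)
    (N : Over S) [Smooth N.hom] [IsSeparated N.hom] [QuasiCompact N.hom]
    (hN : ∀ Y : Over S, Smooth Y.hom →
      Function.Bijective (fun f : Y ⟶ N => (Over.pullback U.ι).map f))
    (s : S) (Y' : Over (Spec (S.presheaf.stalk s))) [Smooth Y'.hom] :
    Function.Bijective (fun f : Y' ⟶ (Over.pullback (S.fromSpecStalk s)).obj N =>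
      (Over.pullback ((S.fromSpecStalk s) ⁻¹ᵁ U).ι).map f) := by
  have key := NeronLoc67.main (U := U) (p := N.hom)
    (fun {Z} a ha => forward U N (Over.mk a) (hN (Over.mk a) ha)) s Y'.hom
  let fS := S.fromSpecStalk s
  refine backward (fS ⁻¹ᵁ U) ((Over.pullback fS).obj N) Y' ⟨?_, ?_⟩
  · intro (f₁ : Y'.left ⟶ pullback N.hom fS) (f₂ : Y'.left ⟶ pullback N.hom fS)
      (h₁ : f₁ ≫ pullback.snd N.hom fS = Y'.hom) (h₂ : f₂ ≫ pullback.snd N.hom fS = Y'.hom)
      (hU : (Y'.hom ⁻¹ᵁ fS ⁻¹ᵁ U).ι ≫ f₁ = (Y'.hom ⁻¹ᵁ fS ⁻¹ᵁ U).ι ≫ f₂)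
    refine pullback.hom_ext (key.1 (f₁ ≫ pullback.fst N.hom fS) (f₂ ≫ pullback.fst N.hom fS) ?_ ?_ ?_) (h₁.trans h₂.symm)
    · rw [Category.assoc, pullback.condition, reassoc_of% h₁]
    · rw [Category.assoc, pullback.condition, reassoc_of% h₂]
    · exact (Category.assoc _ _ _).symm.trans ((congrArg (· ≫ pullback.fst N.hom fS) hU).trans (Category.assoc _ _ _))
  · intro (g : (Y'.hom ⁻¹ᵁ fS ⁻¹ᵁ U : Y'.left.Opens).toScheme ⟶ pullback N.hom fS)
      (hg : g ≫ pullback.snd N.hom fS = (Y'.hom ⁻¹ᵁ fS ⁻¹ᵁ U).ι ≫ Y'.hom)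
    obtain ⟨f, hf, hf'⟩ := key.2 (g ≫ pullback.fst N.hom fS) (by
      rw [Category.assoc, pullback.condition, reassoc_of% hg]
      rfl)
    refine ⟨pullback.lift f Y'.hom hf, pullback.lift_snd _ _ _, pullback.hom_ext ?_ ?_⟩
    · rw [Category.assoc, pullback.lift_fst]
      exact hf'
    · rw [Category.assoc, pullback.lift_snd]
      exact hg.symm

end Groth.Agent.S13750
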