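import Groth.Statements.S13751
import Groth.Agent.AbExt.Main

set_option autoImplicit false
universe u
open CategoryTheory CategoryTheory.Limits AlgebraicGeometry MonObj
open Neron

namespace Groth.Agent.S13751

/-- Let S be a locally Noetherian scheme all of whose local rings are regular, let U ⊆ S be a dense open
subscheme and let A → S be an abelian scheme: a proper smooth group scheme over S whose geometric
fibres are connected. Then A is a Néron model of its restriction A ×_S U over S, in the sense that
for every smooth S-scheme Y the restriction map from S-morphisms Y → A to U-morphisms Y ×_S U → A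
×_S U is a bijection. (The published statement is for an abelian algebraic space over a regular base
and does not ask U to be dense; for U empty and A of positive relative dimension the identity and
the zero map of A both restrict to the empty morphism, so uniqueness fails, and the published
uniqueness argument uses density — this row takes A a scheme and U dense.) -/
theorem result
    {S : Scheme.{u}} [IsLocallyNoetherian S] (hreg : ∀ s : S, IsRegularLocalRing (S.presheaf.stalk s))
    (U : S.Opens) (hU : Dense (U : Set S))
    (A : Over S) [GrpObj A] [IsProper A.hom] [Smooth A.hom]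
    (hconn : ∀ (L : Type u) [Field L] (t : Spec (CommRingCat.of L) ⟶ S), ConnectedSpace ↑(pullback A.hom t))
    (Y : Over S) [Smooth Y.hom] :
    Function.Bijective (fun f : Y ⟶ A => (Over.pullback U.ι).map f) := by
  have : GeometricallyConnected A.hom := ⟨fun K _ y Z fst snd h =>
    haveI := hconn K y
    h.isoPullback.symm.hom.homeomorph.surjective.connectedSpace h.isoPullback.symm.hom.continuous⟩
  have : IsLocallyNoetherian Y.left := LocallyOfFiniteType.isLocallyNoetherian Y.hom
  have hY : ∀ y : Y.left, IsRegularLocalRing (Y.left.presheaf.stalk y) := fun y =>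
    (S4991.result Y.hom y ⟨⊤, trivial, inferInstance⟩).mpr (hreg _)
  have hUY : Dense ((Y.hom ⁻¹ᵁ U : Y.left.Opens) : Set Y.left) := hU.preimage Y.hom.isOpenMap
  let i := pullbackRestrictIsoRestrict Y.hom U
  refine ⟨fun f f' hff => ?_, fun φ => ?_⟩
  · have h1 : ((Over.pullback U.ι).map f).left ≫ pullback.fst A.hom U.ι
        = ((Over.pullback U.ι).map f').left ≫ pullback.fst A.hom U.ι :=
      congrArg (fun k => Over.Hom.left k ≫ pullback.fst A.hom U.ι) hff
    have h2 : pullback.fst Y.hom U.ι ≫ f.left = pullback.fst Y.hom U.ι ≫ f'.left :=
      (pullback.lift_fst _ _ _).symm.trans (h1.trans (pullback.lift_fst _ _ _))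
    refine Over.OverMorphism.ext ?_
    have := AbExt.isReduced_of_regular hY
    have := Opens.isDominant_ι hUY
    refine ext_of_isDominant_of_isSeparated A.hom ((Over.w f).trans (Over.w f').symm) (Y.hom ⁻¹ᵁ U).ι ?_
    rw [← pullbackRestrictIsoRestrict_inv_fst, Category.assoc, Category.assoc, h2]
  · have hw : φ.left ≫ pullback.snd A.hom U.ι = pullback.snd Y.hom U.ι := Over.w φ
    obtain ⟨g', ⟨hg1, hg2⟩, -⟩ := AbExt.existsUnique_extension A Y.hom hY (Y.hom ⁻¹ᵁ U) hUY
      (i.inv ≫ φ.left ≫ pullback.fst A.hom U.ι) (by
        rw [← pullbackRestrictIsoRestrict_inv_fst, Category.assoc, Category.assoc, Category.assoc,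
          pullback.condition, ← Category.assoc φ.left, hw, ← pullback.condition])
    refine ⟨Over.homMk g' hg1, Over.OverMorphism.ext (pullback.hom_ext ?_ ?_)⟩
    · have h3 : pullback.fst Y.hom U.ι ≫ g' = φ.left ≫ pullback.fst A.hom U.ι := by
        rw [← pullbackRestrictIsoRestrict_hom_ι, Category.assoc, hg2, Iso.hom_inv_id_assoc]
      exact (pullback.lift_fst _ _ _).trans h3
    · exact (Over.w ((Over.pullback U.ι).map (Over.homMk g' hg1))).trans hw.symm

end Groth.Agent.S13751
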