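import Groth.Statements.S13757
import Groth.Agent.LabG84.Cycles
-- import your own Groth.Agent.* helpers here

set_option autoImplicit false
universe u
open LabGraph

namespace Groth.Agent.S13757

/-- Let G be a finite connected multigraph (loops and multiple edges allowed) with vertex set V, edge
set E, endpoint map E → V × V and a labelling of the edges by positive integers l. A vertex
labelling φ : V → ℤ is Cartier when l(e) divides the difference of the values of φ at the two
endpoints of every edge e; its multidegree is the vertex labelling whose value at v is the sum, over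
the edge-ends at v, of (value of φ at the other endpoint − φ(v)) / l(e). Then the Cartier vertex
labellings of multidegree zero are exactly the constant ones: the kernel of the multidegree operator
on Cartier labellings is ℤ, embedded as the constants. -/
theorem result
    {V E : Type u} [Fintype V] [Fintype E] [DecidableEq V] [DecidableEq E]
    (ends : E → V × V) (l : E → ℕ) (hl : ∀ e, 0 < l e) (hconn : LabGraph.Connected ends)
    (φ : V → ℤ) (hφ : LabGraph.IsCartier ends l φ) :
    (∀ v : V, LabGraph.mdeg ends l φ v = 0) ↔ ∀ v w : V, φ v = φ w := by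
  classical
  constructor
  · intro h
    have h0 : ∑ v, φ v * LabGraph.mdeg ends l φ v = 0 := Finset.sum_eq_zero fun v _ => by rw [h v, mul_zero]
    have key : ∑ e, ((φ (ends e).2 - φ (ends e).1) / (l e : ℤ)) ^ 2 * (l e : ℤ) = 0 := by
      rw [← neg_eq_zero, ← h0]
      simp only [Groth.Agent.LabG84.Cycles.mdeg_eq ends l φ hφ, Finset.mul_sum, ← Finset.sum_neg_distrib]
      rw [Finset.sum_comm]
      refine Finset.sum_congr rfl fun e _ => ?_
      simp only [mul_ite, mul_sub, mul_one, mul_zero, Finset.sum_sub_distrib, Finset.sum_ite_eq, Finset.mem_univ, if_true]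
      obtain ⟨c, hc⟩ : (l e : ℤ) ∣ φ (ends e).2 - φ (ends e).1 := by rw [← neg_sub]; exact (hφ e).neg_right
      have : (φ (ends e).2 - φ (ends e).1) / (l e : ℤ) = c := by
        rw [hc, Int.mul_ediv_cancel_left c (by exact_mod_cast (hl e).ne')]
      rw [this]
      linear_combination c * hc
    intro v w
    refine Groth.Agent.LabG84.Cycles.eq_of_adj_invariant hconn φ (fun e => ?_) v w
    have he := (Finset.sum_eq_zero_iff_of_nonneg (fun e _ => by positivity)).1 key e (Finset.mem_univ e)
    have hl0 : (l e : ℤ) ≠ 0 := by exact_mod_cast (hl e).ne'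
    have hq : (φ (ends e).2 - φ (ends e).1) / (l e : ℤ) = 0 := pow_eq_zero_iff two_ne_zero |>.1 ((mul_eq_zero.1 he).resolve_right hl0)
    have hd : (l e : ℤ) ∣ φ (ends e).2 - φ (ends e).1 := by rw [← neg_sub]; exact (hφ e).neg_right
    have := Int.ediv_mul_cancel hd
    rw [hq, zero_mul] at this
    linarith
  · intro h v
    rw [Groth.Agent.LabG84.Cycles.mdeg_eq ends l φ hφ]
    exact Finset.sum_eq_zero fun e _ => by rw [h (ends e).2 (ends e).1]; simp

end Groth.Agent.S13757
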