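import Groth.Statements.S13758
import Groth.Agent.LabG84.Cycles
-- import your own Groth.Agent.* helpers here

set_option autoImplicit false
universe u
open LabGraph

namespace Groth.Agent.S13758

/-- Let G be a finite connected multigraph with vertex set V, edge set E, endpoint map E → V × V (whose
component order fixes an orientation) and positive integer edge labels l. Then the labels along
every circuit of G have greatest common divisor 1 (G is circuit-coprime) if and only if, for every
integer edge vector x, there is an integer edge vector y such that x − l·y is orthogonal to every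
integer cycle: Σ_e γ(e) (x(e) − l(e) y(e)) = 0 for all γ : E → ℤ with zero boundary. (The published
statement says that the r nonzero diagonal entries of the Smith normal form of the labelled circuit
matrix, r the first Betti number, are all equal to 1; since the fundamental circuits of a spanning
tree form a basis of the lattice of integer cycles, this is the surjectivity of x ↦ (γ ↦ Σ_e γ(e)
l(e) x(e)) from ℤ^E onto the dual of the cycle lattice, which is the condition stated here.) -/
theorem result
    {V E : Type u} [Fintype V] [Fintype E] [DecidableEq V] [DecidableEq E]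
    (ends : E → V × V) (l : E → ℕ) (hl : ∀ e, 0 < l e) (hconn : LabGraph.Connected ends) :
    LabGraph.IsCircuitCoprime ends l ↔
      ∀ x : E → ℤ, ∃ y : E → ℤ, ∀ γ : E → ℤ, (∀ v : V, LabGraph.boundary ends γ v = 0) →
        ∑ e : E, γ e * (x e - (l e : ℤ) * y e) = 0 := by
  classical
  constructor
  · intro hcop
    let P : (E → ℤ) → Prop := fun x => ∃ y : E → ℤ, ∀ γ : E → ℤ, (∀ v : V, LabGraph.boundary ends γ v = 0) →
        ∑ e : E, γ e * (x e - (l e : ℤ) * y e) = 0
    let D : AddSubgroup (E → ℤ) :=
      { carrier := {x | P x}
        zero_mem' := ⟨0, fun γ _ => by simp⟩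
        add_mem' := by
          rintro a b ⟨y, hy⟩ ⟨z, hz⟩
          refine ⟨y + z, fun γ hγ => ?_⟩
          have : ∀ e, γ e * ((a + b) e - (l e : ℤ) * (y + z) e) =
              γ e * (a e - (l e : ℤ) * y e) + γ e * (b e - (l e : ℤ) * z e) := fun e => by
            simp only [Pi.add_apply]; ring
          rw [Finset.sum_congr rfl fun e _ => this e, Finset.sum_add_distrib, hy γ hγ, hz γ hγ, add_zero]
        neg_mem' := by
          rintro a ⟨y, hy⟩
          refine ⟨-y, fun γ hγ => ?_⟩
          rw [← neg_zero, ← hy γ hγ, ← Finset.sum_neg_distrib]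
          refine Finset.sum_congr rfl fun e _ => ?_
          simp only [Pi.neg_apply]; ring }
    have hmul : ∀ e, Pi.single e (l e : ℤ) ∈ D := fun e => ⟨Pi.single e 1, fun γ _ =>
      Finset.sum_eq_zero fun x _ => by
        by_cases hx : x = e
        · subst hx; simp
        · simp [hx]⟩
    have hcob : ∀ φ : V → ℤ, (fun e => φ (ends e).2 - φ (ends e).1) ∈ D := fun φ => ⟨0, fun γ hγ => by
      have := Groth.Agent.LabG84.Cycles.pair_boundary ends γ φ
      simpa [hγ] using this⟩
    have hprime : ∀ p : ℕ, p.Prime → ∀ x : E → ℤ, ∃ d ∈ D, ∃ z : E → ℤ, x = d + (p : ℤ) • z := by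
      intro p hp
      let Dp : AddSubgroup (E → ℤ) := D ⊔ (DistribSMul.toAddMonoidHom (E → ℤ) (p : ℤ)).range
      suffices hall : ∀ x, x ∈ Dp by
        intro x
        obtain ⟨d, hd, w, ⟨z, rfl⟩, h⟩ := AddSubgroup.mem_sup.1 (hall x)
        exact ⟨d, hd, z, h.symm⟩
      let F : Finset E := Finset.univ.filter fun e => p ∣ l e
      have hF : Groth.Agent.LabG84.Cycles.Acyclic ends F := by
        intro C hC hc
        have h1 : p ∣ C.gcd l := Finset.dvd_gcd fun e he => (Finset.mem_filter.1 (hC he)).2
        rw [hcop C hc] at h1
        exact hp.not_dvd_one h1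
      have hout : ∀ e ∉ F, ∀ c : ℤ, Pi.single e c ∈ Dp := by
        intro e he c
        have hco : IsCoprime (l e : ℤ) (p : ℤ) := by
          rw [Int.isCoprime_iff_gcd_eq_one, Int.gcd_natCast_natCast]
          exact ((Nat.Prime.coprime_iff_not_dvd hp).2 (by simpa [F] using he)).symm
        obtain ⟨a, b, hab⟩ := hco
        have : Pi.single e c = (c * a) • Pi.single e (l e : ℤ) + (p : ℤ) • (Pi.single e (c * b) : E → ℤ) := by
          funext x
          by_cases hx : x = e
          · subst hx; simp; linear_combination -c * hab
          · simp [hx]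
        rw [this]
        exact AddSubgroup.add_mem _ (AddSubgroup.mem_sup_left (D.zsmul_mem (hmul e) _))
          (AddSubgroup.mem_sup_right ⟨_, rfl⟩)
      have hin : ∀ e : E, Pi.single e 1 ∈ Dp := by
        intro e
        by_cases he : e ∈ F
        · let S : Finset V := Finset.univ.filter fun v =>
            Relation.ReflTransGen (Groth.Agent.LabG84.Cycles.AdjIn ends (F.erase e)) (ends e).1 v
          let φ : V → ℤ := fun v => if v ∈ S then 1 else 0
          have h1 : (ends e).1 ∈ S := by simpa [S] using Relation.ReflTransGen.refl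
          have h2 : (ends e).2 ∉ S := by
            simp only [S, Finset.mem_filter, Finset.mem_univ, true_and]
            intro hr
            obtain ⟨C, hCsub, hC, -⟩ := Groth.Agent.LabG84.Cycles.exists_circuit_insert
              (fun C hC => hF C (hC.trans (Finset.erase_subset _ _))) (Finset.notMem_erase e F) hr
            exact hF C (hCsub.trans (Finset.insert_erase he).subset) hC
          let ω : E → ℤ := fun x => φ (ends x).2 - φ (ends x).1
          have hω : Pi.single e 1 = -ω + ∑ x ∈ Finset.univ.filter (fun x => x ∉ F), Pi.single x (ω x) := by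
            funext y
            rw [Pi.add_apply, Finset.sum_apply, Finset.sum_pi_single]
            by_cases hy : y = e
            · subst hy; simp [he, ω, φ, h1, h2]
            · by_cases hyF : y ∈ F
              · have hiff : (ends y).1 ∈ S ↔ (ends y).2 ∈ S := by
                  simp only [S, Finset.mem_filter, Finset.mem_univ, true_and]
                  exact ⟨fun hh => hh.tail ⟨y, Finset.mem_erase.2 ⟨hy, hyF⟩, Or.inl rfl⟩,
                    fun hh => hh.tail ⟨y, Finset.mem_erase.2 ⟨hy, hyF⟩, Or.inr rfl⟩⟩
                simp [hy, hyF, ω, φ, hiff]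
              · simp [hy, hyF]
          rw [hω]
          exact AddSubgroup.add_mem _ (AddSubgroup.neg_mem _ (AddSubgroup.mem_sup_left (hcob φ)))
            (AddSubgroup.sum_mem _ fun x hx => hout x (Finset.mem_filter.1 hx).2 _)
        · exact hout e he 1
      intro x
      have : x = ∑ e, x e • Pi.single e 1 := by
        funext y; simp [Finset.sum_apply, Pi.single_apply]
      rw [this]
      exact AddSubgroup.sum_mem _ fun e _ => Dp.zsmul_mem (hin e) _
    have hdesc : ∀ N : ℕ, 0 < N → (∀ x : E → ℤ, (N : ℤ) • x ∈ D) → ∀ x, x ∈ D := by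
      intro N
      induction N using Nat.strong_induction_on with
      | _ N ih =>
        intro hN hND
        by_cases h1 : N = 1
        · intro x; simpa [h1] using hND x
        obtain ⟨p, hp, k, rfl⟩ := Nat.exists_prime_and_dvd h1
        have hk : 0 < k := Nat.pos_of_mul_pos_left hN
        refine ih k (lt_mul_left hk hp.one_lt) hk fun x => ?_
        obtain ⟨d, hd, z, rfl⟩ := hprime p hp x
        rw [smul_add, smul_smul, mul_comm (k : ℤ), ← Nat.cast_mul]
        exact D.add_mem (D.zsmul_mem hd _) (hND z)
    intro x
    refine hdesc (∏ e, l e) (Finset.prod_pos fun e _ => hl e) (fun z => ?_) x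
    refine ⟨fun e => ((∏ x ∈ Finset.univ.erase e, l x : ℕ) : ℤ) * z e, fun γ _ => Finset.sum_eq_zero fun e _ => ?_⟩
    rw [Pi.smul_apply, smul_eq_mul, ← Finset.mul_prod_erase Finset.univ l (Finset.mem_univ e)]
    push_cast; ring
  · intro h C hC
    obtain ⟨e, he⟩ := hC.1
    obtain ⟨z, hz1, hzs, hzb⟩ := Groth.Agent.LabG84.Cycles.exists_cycle_on_circuit hC he
    obtain ⟨y, hy⟩ := h (Pi.single e 1)
    have h0 := hy z hzb
    simp only [mul_sub, Finset.sum_sub_distrib] at h0
    rw [Finset.sum_eq_single e (fun x _ hx => by simp [hx]) (by simp), Pi.single_eq_same, hz1, one_mul,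
      sub_eq_zero] at h0
    have hd : ((C.gcd l : ℕ) : ℤ) ∣ 1 := by
      rw [h0]
      refine Finset.dvd_sum fun x _ => ?_
      by_cases hx : x ∈ C
      · exact Dvd.dvd.mul_left (Dvd.dvd.mul_right (Int.natCast_dvd_natCast.2 (Finset.gcd_dvd hx)) _) _
      · rw [hzs x hx, zero_mul]; exact dvd_zero _
    exact Nat.dvd_one.1 (by exact_mod_cast hd)

end Groth.Agent.S13758
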