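import Groth.Statements.S13760
import Groth.Agent.LabG84.Blowup
import Groth.Agent.S13758
-- import your own Groth.Agent.* helpers here

set_option autoImplicit false
universe u
open LabGraph

namespace Groth.Agent.S13760

/-- Let G be a finite connected multigraph with vertex set V, edge set E, endpoint map E → V × V and
positive integer edge labels l, let G̃ be its total blow-up graph (every edge e replaced by a path
of l(e) edges through l(e) − 1 new vertices, all labelled 1), and let ε : H → H̃ be the map from the
cokernel of the multidegree operator on Cartier vertex labellings of G to the cokernel of the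
multidegree operator on vertex labellings of G̃ induced by extension by zero. Then ε is surjective —
every vertex labelling β of G̃ can be corrected by the multidegree of a vertex labelling of G̃ so as
to vanish at all new vertices — if and only if G is circuit-coprime (the labels along every circuit
have greatest common divisor 1). (The published statement is 'ε is an isomorphism if and only if the
labelled graph is circuit-coprime'; injectivity of ε holds for every labelled graph, so the content
is the equivalence for surjectivity, stated here with the cokernels unpacked.) -/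
theorem result
    {V E : Type u} [Fintype V] [Fintype E] [DecidableEq V] [DecidableEq E]
    (ends : E → V × V) (l : E → ℕ) (hl : ∀ e, 0 < l e) (hconn : LabGraph.Connected ends) :
    (∀ β : LabGraph.BlVert V E l → ℤ, ∃ (ψ : LabGraph.BlVert V E l → ℤ) (α : V → ℤ),
        ∀ w : LabGraph.BlVert V E l,
          LabGraph.mdeg (LabGraph.blEnds ends l) (fun _ => 1) ψ w + β w = Sum.elim α (fun _ => (0 : ℤ)) w) ↔
      LabGraph.IsCircuitCoprime ends l := by
  classical
  rw [Groth.Agent.S13758.result ends l hl hconn]
  constructor
  · intro h x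
    let β : LabGraph.BlVert V E l → ℤ := fun w => match w with
      | Sum.inl _ => 0
      | Sum.inr ⟨e, i⟩ => if i.val = 0 then x e else 0
    obtain ⟨ψ, α, hw⟩ := h β
    have hstep : ∀ e, ∀ k < l e, Groth.Agent.LabG84.Blowup.step ends l ψ e k =
        Groth.Agent.LabG84.Blowup.step ends l ψ e 0 - if k = 0 then 0 else x e := by
      intro e k
      induction k with
      | zero => intro _; simp
      | succ k ih =>
        intro hk
        have h1 := hw (Sum.inr ⟨e, ⟨k, by omega⟩⟩)
        rw [Groth.Agent.LabG84.Blowup.mdeg_bl_inr, Sum.elim_inr, ih (by omega)] at h1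
        simp only [β] at h1
        rw [if_neg (Nat.succ_ne_zero k)]
        by_cases hk0 : k = 0
        · subst hk0; simp at h1 ⊢; linarith
        · rw [if_neg hk0, if_neg hk0] at h1; linarith
    refine ⟨fun e => x e - Groth.Agent.LabG84.Blowup.step ends l ψ e 0, fun γ hγ => ?_⟩
    have hp := Groth.Agent.LabG84.Cycles.pair_boundary ends γ (fun v => ψ (Sum.inl v))
    rw [Finset.sum_eq_zero (s := (Finset.univ : Finset V)) (fun v _ => by rw [hγ v, mul_zero])] at hp
    rw [← hp]
    refine Finset.sum_congr rfl fun e _ => ?_
    congr 1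
    rw [← Groth.Agent.LabG84.Blowup.sum_step ends l hl ψ e,
      Finset.sum_congr rfl (fun k hk => hstep e k (Finset.mem_range.1 hk))]
    obtain ⟨n, hn⟩ : ∃ n, l e = n + 1 := ⟨l e - 1, by have := hl e; omega⟩
    rw [hn, Finset.sum_range_succ']
    simp only [Nat.add_one_ne_zero, if_false, if_true, Finset.sum_const, Finset.card_range, nsmul_eq_mul]
    push_cast; ring
  · intro h β
    let b : E → ℕ → ℤ := fun e k => if hk : k < l e - 1 then β (Sum.inr ⟨e, ⟨k, hk⟩⟩) else 0
    let B : E → ℤ := fun e => ∑ k ∈ Finset.range (l e), ∑ i ∈ Finset.range k, b e i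
    obtain ⟨y, hy⟩ := h B
    obtain ⟨v₀⟩ := hconn.1
    obtain ⟨φ, -, hφ⟩ := Groth.Agent.LabG84.Cycles.exists_potential hconn (fun e => (l e : ℤ) * y e - B e)
      (fun γ hγ => by
        rw [← neg_eq_zero, ← hy γ hγ, ← Finset.sum_neg_distrib]
        exact Finset.sum_congr rfl fun e _ => by ring) v₀
    let ψ : LabGraph.BlVert V E l → ℤ := fun w => match w with
      | Sum.inl v => φ v
      | Sum.inr ⟨e, i⟩ => φ (ends e).1 + ∑ k ∈ Finset.range (i.val + 1), (y e - ∑ j ∈ Finset.range k, b e j)
    have hval : ∀ e, ∀ j ≤ l e, ψ (LabGraph.pathVert ends l e j) =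
        φ (ends e).1 + ∑ k ∈ Finset.range j, (y e - ∑ i ∈ Finset.range k, b e i) := by
      intro e j hj
      by_cases h0 : j = 0
      · subst h0
        rw [(Groth.Agent.LabG84.Blowup.pathVert_inl_iff ends l hl e 0 hj (ends e).1).2 (Or.inl ⟨rfl, rfl⟩)]
        simp [ψ]
      by_cases hlast : j = l e
      · subst hlast
        rw [(Groth.Agent.LabG84.Blowup.pathVert_inl_iff ends l hl e _ hj (ends e).2).2 (Or.inr ⟨rfl, rfl⟩)]
        simp only [ψ, Finset.sum_sub_distrib, Finset.sum_const, Finset.card_range, nsmul_eq_mul]
        have := hφ e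
        simp only [B] at this
        linarith
      · obtain ⟨i, rfl⟩ : ∃ i, j = i + 1 := ⟨j - 1, by omega⟩
        rw [(Groth.Agent.LabG84.Blowup.pathVert_inr_iff ends l e e ⟨i, by omega⟩ (i + 1)).2 ⟨rfl, rfl⟩]
    refine ⟨ψ, fun v => LabGraph.mdeg (LabGraph.blEnds ends l) (fun _ => 1) ψ (Sum.inl v) + β (Sum.inl v),
      fun w => ?_⟩
    rcases w with v | ⟨e, i⟩
    · rfl
    · have hi := i.isLt
      rw [Groth.Agent.LabG84.Blowup.mdeg_bl_inr, Sum.elim_inr]
      unfold Groth.Agent.LabG84.Blowup.step
      rw [hval e (i.val + 1 + 1) (by omega), hval e (i.val + 1) (by omega), hval e i.val (by omega)]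
      simp only [Finset.sum_range_succ, b, dif_pos hi]
      ring

end Groth.Agent.S13760
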