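import Groth.Statements.S1377
import Mathlib.AlgebraicGeometry.Normalization
import Mathlib.AlgebraicGeometry.ZariskisMainTheorem

set_option autoImplicit false
universe u
open FlatMor

namespace Groth.Agent.S1377

open AlgebraicGeometry CategoryTheory Limits in
/-- Let S be a scheme, U ⊆ S an open subscheme whose inclusion U → S is quasi-compact (U retrocompact in
S), and V → U a surjective integral morphism. Then there are a scheme V' and a surjective integral
morphism V' → S whose base change to U is V → U. (The published statement puts no condition on U,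
and in that generality it is false: e.g. S = Spec ∏_i ℤ/4^i with U = D(2) ∪ ⋃_i D(e_i), e_i the
idempotents, and V equal to U except that over D(2) it is cut out by x = (2^i)_i. Stated here with U
→ S quasi-compact, under which hypothesis the published argument applies.) -/
theorem result {S V : Scheme.{u}} (U : S.Opens) [QuasiCompact U.ι]
    (v : V ⟶ (U : Scheme.{u})) [IsIntegralHom v] [Surjective v] :
    ∃ (V' : Scheme.{u}) (π : V' ⟶ S) (i : V ⟶ V'), Surjective π ∧ IsIntegralHom π ∧ IsPullback i v π U.ι := by
  let f := v ≫ U.ι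
  let a := f.fromNormalization
  let P := pullback f U.ι
  have hP : IsPullback (𝟙 V) v f U.ι :=
    ⟨⟨by simp [f]⟩, ⟨PullbackCone.IsLimit.mk _ (fun s => s.fst) (fun s => by simp)
      (fun s => by rw [← cancel_mono U.ι, Category.assoc]; exact s.condition)
      (fun s m h1 _ => by simpa using h1)⟩⟩
  have hint : IsIntegralHom (pullback.snd f U.ι) := by
    rw [← hP.isoPullback_inv_snd]; infer_instance
  let φ : V ≅ pullback a U.ι := hP.isoPullback ≪≫ asIso (pullback.snd f U.ι).toNormalization ≪≫
    asIso (f.normalizationPullback U.ι)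
  have hφ₂ : φ.hom ≫ pullback.snd a U.ι = v := by simp [φ, a]
  have hφ₁ : φ.hom ≫ pullback.fst a U.ι = f.toNormalization := by simp [φ, a]
  have : IsOpenImmersion f.toNormalization := by rw [← hφ₁]; infer_instance
  let I := Scheme.IdealSheafData.vanishingIdeal (⟨(U : Set S)ᶜ, U.isOpen.isClosed_compl⟩ :
    TopologicalSpace.Closeds S)
  let i : V ⟶ f.normalization ⨿ I.subscheme := f.toNormalization ≫ coprod.inl
  let π : f.normalization ⨿ I.subscheme ⟶ S := coprod.desc a I.subschemeι
  have hI : Set.range I.subschemeι = (U : Set S)ᶜ := by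
    rw [Scheme.IdealSheafData.range_subschemeι, Scheme.IdealSheafData.coe_support_vanishingIdeal]
    rfl
  have hw : i ≫ π = v ≫ U.ι := by
    simp only [i, π, Category.assoc, coprod.inl_desc]
    exact f.toNormalization_fromNormalization
  refine ⟨_, π, i, ⟨fun s => ?_⟩, inferInstance, (IsOpenImmersion.isPullback v i U.ι π hw ?_).flip⟩
  · by_cases hs : s ∈ U
    · obtain ⟨x, hx⟩ := v.surjective ⟨s, hs⟩
      refine ⟨i x, ?_⟩
      rw [← Scheme.Hom.comp_apply, hw, Scheme.Hom.comp_apply, hx]
      rfl
    · obtain ⟨z, hz⟩ : s ∈ Set.range I.subschemeι := by rw [hI]; exact hs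
      refine ⟨(coprod.inr : I.subscheme ⟶ f.normalization ⨿ _) z, ?_⟩
      rw [← Scheme.Hom.comp_apply, coprod.inr_desc, hz]
  · ext w
    constructor
    · intro hw'
      simp only [TopologicalSpace.Opens.map_coe, Set.mem_preimage, SetLike.mem_coe,
        Scheme.Opens.opensRange_ι] at hw'
      obtain ⟨(z | z), rfl⟩ := (coprodMk f.normalization I.subscheme).surjective w
      · simp only [coprodMk_inl, ← Scheme.Hom.comp_apply, π, coprod.inl_desc] at hw' ⊢
        have hz : z ∈ Set.range (pullback.fst a U.ι) := by
          rw [IsOpenImmersion.range_pullbackFst]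
          simpa using hw'
        obtain ⟨z', rfl⟩ := hz
        refine ⟨φ.inv z', ?_⟩
        simp only [← Scheme.Hom.comp_apply, i, ← hφ₁, Category.assoc, Iso.inv_hom_id_assoc]
      · simp only [coprodMk_inr, ← Scheme.Hom.comp_apply, π, coprod.inr_desc] at hw'
        exact absurd hw' (hI ▸ Set.mem_range_self z : I.subschemeι z ∈ (U : Set S)ᶜ)
    · rintro ⟨x, rfl⟩
      simp only [TopologicalSpace.Opens.map_coe, Set.mem_preimage, SetLike.mem_coe,
        Scheme.Opens.opensRange_ι, ← Scheme.Hom.comp_apply, hw]
      exact (v x).2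

end Groth.Agent.S1377
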