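import Groth.Statements.S13771
import Groth.Agent.PLieLib.Exists

set_option autoImplicit false
universe u v w
open PLie

namespace Groth.Agent.S13771

/-- Let R be a commutative ring of prime characteristic p, L₁ and L₂ Lie algebras over R, φ a p-mapping
on L₁ and f : L₁ → L₂ a morphism of Lie algebras whose kernel is stable under φ (a p-ideal). Then
the image f(L₁), a Lie subalgebra of L₂, carries exactly one p-mapping ψ for which the corestriction
of f to its image is a morphism of p-Lie algebras, i.e. ψ (f x) = f (φ x) for all x. -/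
theorem result (R : Type u) [CommRing R] (p : ℕ) [Fact p.Prime] [CharP R p]
    (L₁ : Type v) [LieRing L₁] [LieAlgebra R L₁] (L₂ : Type w) [LieRing L₂] [LieAlgebra R L₂]
    (φ : PLie.PMap R p L₁) (f : L₁ →ₗ⁅R⁆ L₂) (hker : ∀ x : L₁, f x = 0 → f (φ x) = 0) :
    ∃! ψ : PLie.PMap R p f.range, PLie.IsPHom φ ψ f.rangeRestrict := by
  have wd : ∀ x y, f x = f y → f (φ x) = f (φ y) := fun x y h => by
    have hk : f (x - y) = 0 := by rw [map_sub, h, sub_self]
    have e : φ x = φ y + φ (x - y) - PLie.jacobson R p y (x - y) := by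
      rw [← PLieLib.pmap_add, add_sub_cancel]
    rw [e, map_sub, map_add, hker _ hk, add_zero, PLieLib.map_jacobson, hk,
      PLieLib.jacobson_zero_right, sub_zero]
  have hs : ∀ z : f.range, ∃ x, f.rangeRestrict x = z := fun z => f.surjective_rangeRestrict z
  choose g hg using hs
  have key : ∀ x, f.rangeRestrict (φ (g (f.rangeRestrict x))) = f.rangeRestrict (φ x) := fun x =>
    Subtype.ext (wd _ _ (congrArg Subtype.val (hg (f.rangeRestrict x))))
  refine ⟨⟨fun z => f.rangeRestrict (φ (g z)), fun c z => ?_, fun z => LinearMap.ext fun w => ?_,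
    fun a c => ?_⟩, fun x => (key x).symm, fun ψ hψ => PLieLib.pmap_ext fun z => ?_⟩
  · obtain ⟨x, rfl⟩ := f.surjective_rangeRestrict z
    rw [← map_smul f.rangeRestrict, key, key, PLieLib.pmap_smul, map_smul]
  · obtain ⟨x, rfl⟩ := f.surjective_rangeRestrict z
    obtain ⟨w, rfl⟩ := f.surjective_rangeRestrict w
    rw [LieAlgebra.ad_apply, key, ← LieHom.map_lie, PLieLib.pmap_ad,
      Groth.Agent.DHA.LieAdPow.map_ad_pow]
  · obtain ⟨x, rfl⟩ := f.surjective_rangeRestrict a
    obtain ⟨y, rfl⟩ := f.surjective_rangeRestrict c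
    rw [← map_add f.rangeRestrict, key, key, key, PLieLib.pmap_add, map_sub, map_add,
      PLieLib.map_jacobson]
  · obtain ⟨x, rfl⟩ := f.surjective_rangeRestrict z
    exact (hψ x).symm.trans (key x).symm

end Groth.Agent.S13771
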