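import Groth.Statements.S13772
import Groth.Agent.PLieLib.Exists

set_option autoImplicit false
universe u v
open PLie

namespace Groth.Agent.S13772

/-- Let R be a commutative ring of prime characteristic p and L a Lie algebra over R with a p-mapping γ.
For a map g : L → L, there is a p-mapping γ' on L with γ' x = γ x + g x for every x if and only if g
is additive, g (c • x) = c ^ p • g x for all scalars c, and every value g x lies in the centre of L.
(Both parts of the published statement at once: the difference of two p-mappings is a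
Frobenius-semilinear map into the centre, and adding such a map to a p-mapping gives a p-mapping.) -/
theorem result (R : Type u) [CommRing R] (p : ℕ) [Fact p.Prime] [CharP R p]
    (L : Type v) [LieRing L] [LieAlgebra R L] (γ : PLie.PMap R p L) (g : L → L) :
    (∃ γ' : PLie.PMap R p L, ∀ x : L, γ' x = γ x + g x) ↔
      ((∀ x y : L, g (x + y) = g x + g y) ∧ (∀ (c : R) (x : L), g (c • x) = c ^ p • g x) ∧
        ∀ x : L, g x ∈ LieAlgebra.center R L) := by
  constructor
  · rintro ⟨γ', h⟩
    have hg : ∀ x, g x = γ' x - γ x := fun x => by rw [h, add_sub_cancel_left]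
    refine ⟨fun x y => ?_, fun c x => ?_, fun x => ?_⟩
    · rw [hg, hg, hg, PLieLib.pmap_add, PLieLib.pmap_add]; abel
    · rw [hg, hg, PLieLib.pmap_smul, PLieLib.pmap_smul, smul_sub]
    · rw [LieModule.mem_maxTrivSubmodule]
      intro z
      rw [← lie_skew, hg, sub_lie, PLieLib.pmap_ad, PLieLib.pmap_ad, sub_self, neg_zero]
  · rintro ⟨hadd, hsmul, hc⟩
    refine ⟨⟨fun x => γ x + g x, fun c x => ?_, fun x => ?_, fun x y => ?_⟩, fun _ => rfl⟩
    · rw [PLieLib.pmap_smul, hsmul, smul_add]
    · refine LinearMap.ext fun z => ?_
      have h0 : ⁅g x, z⁆ = 0 := by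
        rw [← lie_skew, (LieModule.mem_maxTrivSubmodule R L L (g x)).1 (hc x) z, neg_zero]
      rw [LieAlgebra.ad_apply, add_lie, h0, add_zero, PLieLib.pmap_ad]
    · rw [PLieLib.pmap_add, hadd]; abel

end Groth.Agent.S13772
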