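import Groth.Statements.S13775
import Groth.Agent.PLieLib.Table

set_option autoImplicit false
universe u v
open PLie

namespace Groth.Agent.S13775

/-- Let R be a commutative ring of prime characteristic p and L a Lie algebra over R, free as a module
with basis x = bs 0, y = bs 1, z = bs 2 and brackets [x,y] = y, [x,z] = y + z, [y,z] = 0. Then L
carries no p-mapping. (The published statement is the corresponding entry of the classification
table of three-dimensional Lie algebras over an algebraically closed field of characteristic p; this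
row states it over every commutative ring of characteristic p.) -/
theorem result (R : Type u) [CommRing R] (p : ℕ) [Fact p.Prime] [CharP R p]
    (L : Type v) [LieRing L] [LieAlgebra R L] (bs : Module.Basis (Fin 3) R L)
    (hxy : ⁅bs 0, bs 1⁆ = bs 1) (hxz : ⁅bs 0, bs 2⁆ = bs 1 + bs 2) (hyz : ⁅bs 1, bs 2⁆ = 0) :
    IsEmpty (PLie.PMap R p L) := by
  haveI : Nontrivial R := CharP.nontrivial_of_char_ne_one (Fact.out : p.Prime).ne_one
  refine ⟨fun φ => ?_⟩
  have key : ∀ n : ℕ, (LieAlgebra.ad R L (bs 0) ^ n) (bs 1) = bs 1 ∧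
      (LieAlgebra.ad R L (bs 0) ^ n) (bs 2) = (n : R) • bs 1 + bs 2 := by
    intro n
    induction n with
    | zero => simp
    | succ n ih =>
      simp only [pow_succ', Module.End.mul_apply, ih, map_add, map_smul, LieAlgebra.ad_apply, hxy,
        hxz, Nat.cast_succ, true_and]
      module
  obtain ⟨-, e1, e2⟩ := PLieLib.lie_comb (bs := bs) (A := bs.repr (φ (bs 0)) 0)
    (B := bs.repr (φ (bs 0)) 1) (C := bs.repr (φ (bs 0)) 2)
    (p₀ := 0) (p₁ := 1) (p₂ := 0) (q₀ := 0) (q₁ := 1) (q₂ := 1) (r₀ := 0) (r₁ := 0) (r₂ := 0)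
    (by simp [hxy]) (by simp [hxz]) (by simp [hyz])
  rw [← PLieLib.expand, PLieLib.pmap_ad, (key p).1] at e1
  rw [← PLieLib.expand, PLieLib.pmap_ad, (key p).2, CharP.cast_eq_zero R p] at e2
  have h1 := congrArg (fun v => bs.repr v 1) e1
  have h2 := congrArg (fun v => bs.repr v 1) e2
  simp [Finsupp.single_apply] at h1 h2
  simp [← h1] at h2

end Groth.Agent.S13775
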