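import Groth.Statements.S13776
import Groth.Agent.PLieLib.Table

set_option autoImplicit false
universe u v
open PLie

namespace Groth.Agent.S13776

/-- Let R be a commutative ring of prime characteristic p, t ∈ R, and L a Lie algebra over R, free as a
module with basis x = bs 0, y = bs 1, z = bs 2 and brackets [x,y] = y, [x,z] = t • z, [y,z] = 0.
Then L carries a p-mapping if and only if t ^ p = t. (The published statement is the corresponding
entry of the classification table over an algebraically closed field of characteristic p, where the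
condition reads: t lies in the prime field; this row states it over every commutative ring of
characteristic p.) -/
theorem result (R : Type u) [CommRing R] (p : ℕ) [Fact p.Prime] [CharP R p] (t : R)
    (L : Type v) [LieRing L] [LieAlgebra R L] (bs : Module.Basis (Fin 3) R L)
    (hxy : ⁅bs 0, bs 1⁆ = bs 1) (hxz : ⁅bs 0, bs 2⁆ = t • bs 2) (hyz : ⁅bs 1, bs 2⁆ = 0) :
    Nonempty (PLie.PMap R p L) ↔ t ^ p = t := by
  haveI : Nontrivial R := CharP.nontrivial_of_char_ne_one (Fact.out : p.Prime).ne_one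
  have hp2 := (Fact.out : p.Prime).two_le
  have hzx : ⁅bs 2, bs 0⁆ = -(t • bs 2) := by rw [← hxz, lie_skew]
  have hyx : ⁅bs 1, bs 0⁆ = -bs 1 := by rw [← hxy, lie_skew]; simp [hxy]
  have hzy : ⁅bs 2, bs 1⁆ = 0 := by rw [← lie_skew, hyz, neg_zero]
  have key : ∀ n : ℕ, (LieAlgebra.ad R L (bs 0) ^ n) (bs 1) = bs 1 ∧
      (LieAlgebra.ad R L (bs 0) ^ n) (bs 2) = t ^ n • bs 2 := by
    intro n
    induction n with
    | zero => simp
    | succ n ih =>
      simp [pow_succ', Module.End.mul_apply, ih, map_smul, LieAlgebra.ad_apply, hxy, hxz,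
        smul_smul, mul_comm]
  constructor
  · rintro ⟨φ⟩
    obtain ⟨-, e1, e2⟩ := PLieLib.lie_comb (bs := bs) (A := bs.repr (φ (bs 0)) 0)
      (B := bs.repr (φ (bs 0)) 1) (C := bs.repr (φ (bs 0)) 2)
      (p₀ := 0) (p₁ := 1) (p₂ := 0) (q₀ := 0) (q₁ := 0) (q₂ := t) (r₀ := 0) (r₁ := 0) (r₂ := 0)
      (by simp [hxy]) (by simp [hxz]) (by simp [hyz])
    rw [← PLieLib.expand, PLieLib.pmap_ad, (key p).1] at e1
    rw [← PLieLib.expand, PLieLib.pmap_ad, (key p).2] at e2
    have h1 := congrArg (fun v => bs.repr v 1) e1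
    have h2 := congrArg (fun v => bs.repr v 2) e2
    simp [Finsupp.single_apply] at h1 h2
    simp [h2, ← h1]
  · intro ht
    rw [PLieLib.nonempty_pmap_iff bs]
    intro i
    fin_cases i
    · refine ⟨bs 0, PLieLib.end_ext bs ?_ ?_ ?_⟩
      · rw [show (⟨0, by decide⟩ : Fin 3) = 0 from rfl, PLieLib.ad_pow_self _ (by omega)]; simp
      · simp [(key p).1, hxy]
      · simp [(key p).2, hxz, ht]
    · refine ⟨0, PLieLib.end_ext bs ?_ ?_ ?_⟩ <;>
        (rw [map_zero (LieAlgebra.ad R L), LinearMap.zero_apply]; apply PLieLib.ad_pow_eq_zero _ hp2) <;>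
        simp [pow_succ, pow_zero, hyz, hyx]
    · refine ⟨0, PLieLib.end_ext bs ?_ ?_ ?_⟩ <;>
        (rw [map_zero (LieAlgebra.ad R L), LinearMap.zero_apply]; apply PLieLib.ad_pow_eq_zero _ hp2) <;>
        simp [pow_succ, pow_zero, hzy, hzx]

end Groth.Agent.S13776
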