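import Groth.Statements.S13777
import Groth.Agent.PLieLib.Table

set_option autoImplicit false
universe u v
open PLie

namespace Groth.Agent.S13777

/-- Let R be a commutative ring of characteristic 2 and L a Lie algebra over R, free as a module with
basis x = bs 0, y = bs 1, z = bs 2 and brackets [x,y] = z, [x,z] = −x, [y,z] = y. Then L carries no
2-mapping. (The published statement is the corresponding entry of the classification table over an
algebraically closed field of characteristic 2; this row states it over every commutative ring of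
characteristic 2.) -/
theorem result (R : Type u) [CommRing R] [CharP R 2]
    (L : Type v) [LieRing L] [LieAlgebra R L] (bs : Module.Basis (Fin 3) R L)
    (hxy : ⁅bs 0, bs 1⁆ = bs 2) (hxz : ⁅bs 0, bs 2⁆ = -bs 0) (hyz : ⁅bs 1, bs 2⁆ = bs 1) :
    IsEmpty (PLie.PMap R 2 L) := by
  haveI : Fact (Nat.Prime 2) := ⟨Nat.prime_two⟩
  haveI : Nontrivial R := CharP.nontrivial_of_char_ne_one (v := 2) (by norm_num)
  refine ⟨fun φ => ?_⟩
  obtain ⟨-, e1, -⟩ := PLieLib.lie_comb (bs := bs) (A := bs.repr (φ (bs 0)) 0)
    (B := bs.repr (φ (bs 0)) 1) (C := bs.repr (φ (bs 0)) 2)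
    (p₀ := 0) (p₁ := 0) (p₂ := 1) (q₀ := -1) (q₁ := 0) (q₂ := 0) (r₀ := 0) (r₁ := 1) (r₂ := 0)
    (by simp [hxy]) (by simp [hxz]) (by simp [hyz])
  rw [← PLieLib.expand, PLieLib.pmap_ad, pow_two, Module.End.mul_apply, LieAlgebra.ad_apply,
    LieAlgebra.ad_apply, hxy, hxz] at e1
  have h := congrArg (fun v => bs.repr v 0) e1
  simp [Finsupp.single_apply] at h

end Groth.Agent.S13777
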