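import Groth.Statements.S13779
import Groth.Agent.PLieLib.Table

set_option autoImplicit false
universe u v
open PLie

namespace Groth.Agent.S13779

/-- Let p be an odd prime, R a commutative ring of characteristic p, t ∈ R, and L a Lie algebra over R,
free as a module with basis x = bs 0, y = bs 1, z = bs 2 and brackets [x,y] = z, [x,z] = t • y,
[y,z] = 0. Then L carries a p-mapping φ with φ x = t ^ ((p - 1) / 2) • x, φ y = 0 and φ z = 0. (The
published statement concerns the Lie algebra with these brackets over a field of Laurent series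
k((t)), k algebraically closed of odd characteristic, t the variable; this row states its
restrictability over every commutative ring of odd prime characteristic and every t.) -/
theorem result (R : Type u) [CommRing R] (p : ℕ) [Fact p.Prime] [CharP R p] (hp : p ≠ 2)
    (t : R) (L : Type v) [LieRing L] [LieAlgebra R L] (bs : Module.Basis (Fin 3) R L)
    (hxy : ⁅bs 0, bs 1⁆ = bs 2) (hxz : ⁅bs 0, bs 2⁆ = t • bs 1) (hyz : ⁅bs 1, bs 2⁆ = 0) :
    ∃ φ : PLie.PMap R p L, φ (bs 0) = t ^ ((p - 1) / 2) • bs 0 ∧ φ (bs 1) = 0 ∧ φ (bs 2) = 0 := by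
  have hpr : p.Prime := Fact.out
  obtain ⟨m, hm⟩ := hpr.odd_of_ne_two hp
  have hm1 : 1 ≤ m := by have := hpr.two_le; omega
  have hm2 : (p - 1) / 2 = m := by omega
  have hzx : ⁅bs 2, bs 0⁆ = -(t • bs 1) := by rw [← hxz, lie_skew]
  have hyx : ⁅bs 1, bs 0⁆ = -bs 2 := by rw [← hxy, lie_skew]
  have hzy : ⁅bs 2, bs 1⁆ = 0 := by rw [← lie_skew, hyz, neg_zero]
  have key : ∀ n : ℕ, (LieAlgebra.ad R L (bs 0) ^ (2 * n + 1)) (bs 1) = t ^ n • bs 2 ∧
      (LieAlgebra.ad R L (bs 0) ^ (2 * n + 1)) (bs 2) = t ^ (n + 1) • bs 1 := by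
    intro n
    induction n with
    | zero => simp [hxy, hxz]
    | succ n ih =>
      rw [show 2 * (n + 1) + 1 = 2 * n + 1 + 1 + 1 by omega, pow_succ', pow_succ' _ (2 * n + 1)]
      simp only [Module.End.mul_apply, ih, map_smul, LieAlgebra.ad_apply, hxy, hxz, smul_smul,
        ← pow_succ, and_self]
  obtain ⟨φ, hφ⟩ := PLieLib.exists_pmap_basis bs ![t ^ m • bs 0, 0, 0] (p := p) (fun i => by
    fin_cases i
    · refine PLieLib.end_ext bs ?_ ?_ ?_
      · simp [PLieLib.ad_pow_self _ hpr.pos]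
      · rw [hm]; simp [(key m).1, hxy]
      · rw [hm]; change (LieAlgebra.ad R L (bs 0) ^ (2 * m + 1)) (bs 2) = LieAlgebra.ad R L (t ^ m • bs 0) (bs 2)
        rw [(key m).2]; simp [hxz, smul_smul, ← pow_succ]
    · refine PLieLib.end_ext bs ?_ ?_ ?_ <;> simp <;>
        apply PLieLib.ad_pow_eq_zero _ hpr.two_le <;>
        simp [pow_succ, pow_zero, hyz, hyx]
    · refine PLieLib.end_ext bs ?_ ?_ ?_ <;> simp <;>
        apply PLieLib.ad_pow_eq_zero _ hpr.two_le <;>
        simp [pow_succ, pow_zero, hzy, hzx])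
  refine ⟨φ, ?_, hφ 1, hφ 2⟩
  rw [hm2]; exact hφ 0

end Groth.Agent.S13779
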