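import Groth.Statements.S13780
import Groth.Agent.DHA.LieAdPow

set_option autoImplicit false
universe u v w
open PLie

namespace Groth.Agent.S13780

/-- Let R be a commutative ring of prime characteristic p, L and L' Lie algebras over R with p-mappings
γ and γ', the centre of L' being zero, and φ : L ≃ L' an isomorphism of Lie algebras over R. Then φ
(γ x) = γ' (φ x) for every x: φ is an isomorphism of p-Lie algebras. (The published statement is the
case L' = L of a centreless restrictable Lie algebra over a field with its unique p-mapping and a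
Lie algebra automorphism; this row allows two algebras and any commutative base ring of
characteristic p.) -/
theorem result (R : Type u) [CommRing R] (p : ℕ) [Fact p.Prime] [CharP R p]
    (L : Type v) [LieRing L] [LieAlgebra R L] (L' : Type w) [LieRing L'] [LieAlgebra R L']
    (γ : PLie.PMap R p L) (γ' : PLie.PMap R p L') (hZ : LieAlgebra.center R L' = ⊥) (φ : L ≃ₗ⁅R⁆ L') :
    PLie.IsPHom γ γ' φ.toLieHom := by
  intro x
  have hmem : φ.toLieHom (γ x) - γ' (φ.toLieHom x) ∈ LieAlgebra.center R L' := by
    rw [LieModule.mem_maxTrivSubmodule]
    intro z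
    obtain ⟨y, rfl⟩ : ∃ y, φ.toLieHom y = z := φ.surjective z
    rw [← lie_skew, sub_lie, neg_eq_zero, sub_eq_zero, ← LieHom.map_lie,
      ← LieAlgebra.ad_apply R L, γ.ad_map, DHA.LieAdPow.map_ad_pow,
      ← LieAlgebra.ad_apply R L', γ'.ad_map]
  rw [hZ, LieSubmodule.mem_bot, sub_eq_zero] at hmem
  exact hmem

end Groth.Agent.S13780
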