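import Groth.Statements.S13781
import Groth.Agent.EGA4Lib.SmoothRegular
import Groth.Agent.CAlg76.RootPow
import Mathlib
-- import your own Groth.Agent.* helpers here

set_option autoImplicit false
universe u
open CAlg

namespace Groth.Agent.S13781

/-- Let A be a regular local ring, s a non-zero element of A such that A/(s) is regular, and e a
positive integer invertible in A. Then A[t]/(t^e - s) is regular. (Regularity of a ring is taken
throughout as: Noetherian, with every localization at a prime ideal a regular local ring; the
hypotheses on A and on A/(s) and the conclusion on A[t]/(t^e - s) are all read this way, which for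
the local rings A and A/(s) is the usual notion once localizations of regular local rings are known
to be regular.) -/
theorem result (A : Type u) [CommRing A] [IsLocalRing A]
    [IsRegularRing A] (s : A) (hs : s ≠ 0) (hreg : IsRegularRing (A ⧸ Ideal.span {s}))
    (e : ℕ) (he : 0 < e) (heu : IsUnit (e : A)) :
    IsRegularRing (AdjoinRoot (Polynomial.X ^ e - Polynomial.C s)) := by
  classical
  set f := (Polynomial.X ^ e - Polynomial.C s : Polynomial A) with hf
  let B := AdjoinRoot f
  haveI : IsRegularLocalRing A := IsRegularLocalRing.of_isRegularRing_of_isLocalRing A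
  haveI : IsDomain A := RegLoc.isDomain A
  haveI : Module.Finite A B := Polynomial.Monic.finite_adjoinRoot (Polynomial.monic_X_pow_sub_C s he.ne')
  haveI : IsNoetherianRing B := Algebra.FiniteType.isNoetherianRing A B
  let t : B := AdjoinRoot.root f
  refine (isRegularRing_iff (R := B)).2 fun Q hQ ↦ ?_
  by_cases ht : t ∈ Q
  · haveI hq : IsRegularRing (B ⧸ Ideal.span {t}) := by
      haveI := hreg
      exact IsRegularRing.of_ringEquiv (CAlg76.RootPow.quotRootEquiv s e he).symm.toRingEquiv
    let q : Ideal (B ⧸ Ideal.span {t}) := Q.map (Ideal.Quotient.mk (Ideal.span {t}))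
    have hle : Ideal.span {t} ≤ Q := (Ideal.span_singleton_le_iff_mem _).2 ht
    have hker : RingHom.ker (Ideal.Quotient.mk (Ideal.span {t})) ≤ Q := by rw [Ideal.mk_ker]; exact hle
    haveI : q.IsPrime := Ideal.map_isPrime_of_surjective Ideal.Quotient.mk_surjective hker
    have hcq : q.comap (Ideal.Quotient.mk (Ideal.span {t})) = Q := by
      rw [Ideal.comap_map_of_surjective _ Ideal.Quotient.mk_surjective,
        ← RingHom.ker_eq_comap_bot, sup_eq_left]
      exact hker
    haveI := CAlg76.RootPow.isLocalization_quotient_atPrime (Ideal.span {t}) q Q hcq (Localization.AtPrime Q)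
    haveI : IsRegularLocalRing ((Localization.AtPrime Q) ⧸
        (Ideal.span {t}).map (algebraMap B (Localization.AtPrime Q))) :=
      IsRegularLocalRing.of_ringEquiv (R := Localization.AtPrime q)
        (IsLocalization.algEquiv q.primeCompl _ _).toRingEquiv
    let t' := algebraMap B (Localization.AtPrime Q) t
    have hmap : (Ideal.span {t}).map (algebraMap B (Localization.AtPrime Q)) = Ideal.span {t'} := by
      rw [Ideal.map_span, Set.image_singleton]
    haveI : IsRegularLocalRing ((Localization.AtPrime Q) ⧸ Ideal.span {t'}) :=
      IsRegularLocalRing.of_ringEquiv (Ideal.quotEquivOfEq hmap)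
    refine RegLoc.isRegularLocalRing_of_quotient_span_singleton (x := t') ?_ ?_
    · exact (IsLocalization.AtPrime.to_map_mem_maximal_iff _ Q t).2 ht
    · exact IsLocalization.map_nonZeroDivisors_le Q.primeCompl _ ⟨t, CAlg76.RootPow.root_mem_nonZeroDivisors s e he (mem_nonZeroDivisors_of_ne_zero hs), rfl⟩
  · let Bt := Localization.Away t
    haveI : Algebra.Etale A Bt := CAlg76.RootPow.etale_away s e he heu
    haveI : IsNoetherianRing Bt := IsLocalization.isNoetherianRing (Submonoid.powers t) Bt inferInstance
    have hdisj : Disjoint (Submonoid.powers t : Set B) (Q : Set B) := by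
      refine Set.disjoint_left.2 ?_
      rintro _ ⟨m, rfl⟩ hm
      exact ht (hQ.mem_of_pow_mem m hm)
    let P : PrimeSpectrum Bt := ⟨Q.map (algebraMap B Bt),
      IsLocalization.isPrime_of_isPrime_disjoint (Submonoid.powers t) _ _ hQ hdisj⟩
    have hP : PrimeSpectrum.comap (algebraMap B Bt) P = ⟨Q, hQ⟩ :=
      PrimeSpectrum.ext (IsLocalization.under_map_of_isPrime_disjoint (Submonoid.powers t) _ hQ hdisj)
    have hPreg : P ∈ EGA4.regLocus Bt := by
      refine EGA4Lib.mem_regLocus_of_etale (R := A) P ?_
      show IsRegularLocalRing (Localization.AtPrime _)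
      infer_instance
    haveI : P.asIdeal.IsPrime := P.isPrime
    haveI : IsRegularLocalRing (Localization.AtPrime P.asIdeal) := hPreg
    exact (EGA4Lib.isRegularLocalRing_congr hP).1 (IsRegularLocalRing.of_ringEquiv
      (IsLocalization.localizationLocalizationAtPrimeIsoLocalization (Submonoid.powers t) P.asIdeal).symm.toRingEquiv)

end Groth.Agent.S13781
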