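import Groth.Statements.S13782
import Groth.Agent.EGA4Lib.SmoothRegular
import Mathlib
-- import your own Groth.Agent.* helpers here

set_option autoImplicit false
universe u
open CAlg

namespace Groth.Agent.S13782

section
open TensorProduct
variable {R P : Type u} [CommRing R] [CommRing P] [Algebra R P]

/-- Jacobian criterion for the quotient of a formally smooth algebra by one nonzerodivisor. -/
theorem formallySmooth_quotient_iff [Algebra.FormallySmooth R P] (f : P) (hf : f ∈ nonZeroDivisors P) :
    Algebra.FormallySmooth R (P ⧸ Ideal.span {f}) ↔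
      ∃ δ : Derivation R P P, δ f - 1 ∈ Ideal.span {f} := by
  let S := P ⧸ Ideal.span {f}
  have hsurj : Function.Surjective (algebraMap P S) := Ideal.Quotient.mk_surjective
  rw [Algebra.FormallySmooth.iff_split_injection hsurj]
  set J := RingHom.ker (algebraMap P S) with hJ
  have hJf : J = Ideal.span {f} := Ideal.mk_ker
  let fb : J.Cotangent := J.toCotangent ⟨f, hJf ▸ Ideal.mem_span_singleton_self f⟩
  have hfb : Ideal.span {f} ≤ LinearMap.ker (LinearMap.toSpanSingleton P J.Cotangent fb) := by
    intro x hx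
    obtain ⟨y, rfl⟩ := Ideal.mem_span_singleton'.1 hx
    rw [LinearMap.mem_ker, LinearMap.toSpanSingleton_apply, show fb = J.toCotangent _ from rfl, ← map_smul,
      Ideal.toCotangent_eq_zero]
    show (y * f) * f ∈ J ^ 2
    rw [mul_assoc, pow_two, hJf]
    exact Ideal.mul_mem_left _ _ (Ideal.mul_mem_mul (Ideal.mem_span_singleton_self f) (Ideal.mem_span_singleton_self f))
  let lam : S →ₗ[P] J.Cotangent :=
    Submodule.liftQ (Ideal.span {f} : Submodule P P) (LinearMap.toSpanSingleton P J.Cotangent fb) hfb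
  have hlam : ∀ p : P, lam (Ideal.Quotient.mk _ p) = p • fb := fun p ↦ rfl
  have hbij : Function.Bijective lam := by
    refine ⟨?_, ?_⟩
    · rw [← LinearMap.ker_eq_bot, LinearMap.ker_eq_bot']
      intro z hz
      obtain ⟨p, rfl⟩ := Ideal.Quotient.mk_surjective z
      rw [hlam, show fb = J.toCotangent _ from rfl, ← map_smul, Ideal.toCotangent_eq_zero] at hz
      change p * f ∈ J ^ 2 at hz
      rw [hJf, Ideal.span_singleton_pow, Ideal.mem_span_singleton'] at hz
      obtain ⟨c, hc⟩ := hz
      refine Ideal.Quotient.eq_zero_iff_mem.2 (Ideal.mem_span_singleton'.2 ⟨c, ?_⟩)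
      have : (c * f - p) * f = 0 := by linear_combination hc
      exact sub_eq_zero.1 ((mem_nonZeroDivisors_iff_right.1 hf) _ this)
    · intro z
      obtain ⟨⟨x, hx⟩, rfl⟩ := J.toCotangent_surjective z
      obtain ⟨y, rfl⟩ := Ideal.mem_span_singleton'.1 (hJf ▸ hx)
      exact ⟨Ideal.Quotient.mk _ y, by rw [hlam, show fb = J.toCotangent _ from rfl, ← map_smul]; rfl⟩
  constructor
  · rintro ⟨l, hl⟩
    let e := LinearEquiv.ofBijective lam hbij
    let ψ : Ω[P⁄R] →ₗ[P] S := e.symm.toLinearMap ∘ₗ (l.restrictScalars P) ∘ₗ (TensorProduct.mk P S Ω[P⁄R] 1)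
    obtain ⟨φ, hφ⟩ := Module.projective_lifting_property (Algebra.linearMap P S) ψ hsurj
    refine ⟨φ.compDer (KaehlerDifferential.D R P), ?_⟩
    rw [← Ideal.Quotient.eq_zero_iff_mem, map_sub, map_one, sub_eq_zero]
    have h1 := LinearMap.congr_fun hφ (KaehlerDifferential.D R P f)
    refine h1.trans (e.injective ?_)
    show e (e.symm (l (1 ⊗ₜ[P] KaehlerDifferential.D R P f))) = lam (Ideal.Quotient.mk (Ideal.span {f}) 1)
    rw [LinearEquiv.apply_symm_apply, hlam, one_smul]
    exact LinearMap.congr_fun hl fb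
  · rintro ⟨δ, hδ⟩
    let φ : Ω[P⁄R] →ₗ[P] P := δ.liftKaehlerDifferential
    let l : S ⊗[P] Ω[P⁄R] →ₗ[P] J.Cotangent :=
      lam ∘ₗ (TensorProduct.rid P S).toLinearMap ∘ₗ φ.lTensor S
    refine ⟨l, ?_⟩
    refine LinearMap.ext fun z ↦ ?_
    obtain ⟨⟨x, hx⟩, rfl⟩ := J.toCotangent_surjective z
    obtain ⟨y, rfl⟩ := Ideal.mem_span_singleton'.1 (hJf ▸ hx)
    show lam ((TensorProduct.rid P S) (φ.lTensor S ((1 : S) ⊗ₜ[P] KaehlerDifferential.D R P (y * f)))) = _
    rw [LinearMap.lTensor_tmul, TensorProduct.rid_tmul, Derivation.liftKaehlerDifferential_comp_D]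
    have h2 : δ (y * f) • (1 : S) = Ideal.Quotient.mk (Ideal.span {f}) y := by
      rw [Algebra.smul_def, mul_one, Ideal.Quotient.algebraMap_eq, Ideal.Quotient.eq, Derivation.leibniz,
        smul_eq_mul, smul_eq_mul, show y * δ f + f * δ y - y = y * (δ f - 1) + f * δ y by ring]
      exact Ideal.add_mem _ (Ideal.mul_mem_left _ _ hδ) (Ideal.mul_mem_right _ _ (Ideal.mem_span_singleton_self f))
    rw [h2, hlam, show fb = J.toCotangent _ from rfl, ← map_smul]
    rfl

end

open Polynomial in
theorem nzd_of_irreducible (k A : Type u) [Field k] [CommRing A] [Algebra k A] [Algebra.Smooth k A]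
    (s : A) (hs : Irreducible s) : s ∈ nonZeroDivisors A := by
  have : IsNoetherianRing A := Algebra.FiniteType.isNoetherianRing k A
  rw [mem_nonZeroDivisors_iff_right]
  intro x hx
  let I : Ideal A := Submodule.annihilator (Ideal.span {s})
  let J : Ideal A := Submodule.annihilator I
  have hI : ∀ i : A, i ∈ I ↔ i * s = 0 := fun i ↦ by
    show i ∈ Submodule.annihilator (Submodule.span A {s}) ↔ _
    rw [Submodule.mem_annihilator_span_singleton]; rfl
  have htop : I ⊔ J = ⊤ := by
    by_contra hne
    obtain ⟨m, hm, hle⟩ := Ideal.exists_le_maximal _ hne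
    have hreg : IsRegularLocalRing (Localization.AtPrime m) :=
      EGA4Lib.mem_regLocus_of_smooth (R := k) (⟨m, hm.isPrime⟩ : PrimeSpectrum A) (by
        show IsRegularLocalRing (Localization.AtPrime _)
        infer_instance)
    have hdom : IsDomain (Localization.AtPrime m) := RegLoc.isDomain _
    let ι := algebraMap A (Localization.AtPrime m)
    rcases eq_or_ne (ι s) 0 with h0 | h0
    · obtain ⟨⟨u, hu⟩, hu0⟩ := (IsLocalization.map_eq_zero_iff m.primeCompl _ s).1 h0
      exact hu (hle (Ideal.mem_sup_left ((hI u).2 hu0)))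
    · obtain ⟨T, hT⟩ := I.fg_of_isNoetherianRing
      have hu : ∀ i ∈ T, ∃ u : m.primeCompl, (u : A) * i = 0 := fun i hi ↦ by
        have : i ∈ I := hT ▸ Ideal.subset_span hi
        have h1 : ι i * ι s = 0 := by rw [← map_mul, (hI i).1 this, map_zero]
        exact (IsLocalization.map_eq_zero_iff m.primeCompl _ i).1 ((mul_eq_zero.1 h1).resolve_right h0)
      choose u hu using hu
      have hU : (↑(∏ i ∈ T.attach, u i.1 i.2) : A) ∈ J := by
        show _ ∈ Submodule.annihilator I
        rw [← hT, Submodule.mem_annihilator_span]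
        rintro ⟨i, hi⟩
        obtain ⟨c, hc⟩ := Finset.dvd_prod_of_mem (fun i : T ↦ u i.1 i.2) (Finset.mem_attach T ⟨i, hi⟩)
        rw [smul_eq_mul, hc, Submonoid.coe_mul, mul_right_comm, hu, zero_mul]
      exact (∏ i ∈ T.attach, u i.1 i.2).2 (hle (Ideal.mem_sup_right hU))
  obtain ⟨i, hi, j, hj, hij⟩ := Submodule.mem_sup.1 ((Ideal.eq_top_iff_one _).1 htop)
  have hxI : x ∈ I := (hI x).2 hx
  have hij0 : j * i = 0 := (Submodule.mem_annihilator.1 hj) i hi
  have his : i * s = 0 := (hI i).1 hi
  have hsj : s = (s + i) * j := by linear_combination (-s) * hij - hij0 + his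
  have hjj : j = j * j := by linear_combination (-j) * hij + hij0
  have hjx : j * x = 0 := (Submodule.mem_annihilator.1 hj) x hxI
  suffices IsUnit j from (IsUnit.mul_right_eq_zero this).1 hjx
  rcases hs.isUnit_or_isUnit hsj with h | h
  · have hja : Irreducible j := by
      refine (Associated.irreducible ?_ hs)
      exact ⟨h.unit⁻¹, (Units.mul_inv_eq_iff_eq_mul _).2 (by rw [IsUnit.unit_spec, mul_comm]; exact hsj)⟩
    exact (hja.isUnit_or_isUnit hjj).elim id id
  · exact h

/-- Let k be a field, A a smooth k-algebra, s an irreducible element of A and e an integer, at least 2,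
that is invertible in k. Then the k-algebra A[t]/(t^e - s) is smooth exactly when the quotient ring
A/(s) is a smooth k-algebra. (Smooth over k means formally smooth and of finite presentation over
k.) -/
theorem result (k A : Type u) [Field k] [CommRing A] [Algebra k A]
    [Algebra.Smooth k A] (s : A) (hs : Irreducible s) (e : ℕ) (he : 2 ≤ e) (hek : (e : k) ≠ 0) :
    Algebra.Smooth k (AdjoinRoot (Polynomial.X ^ e - Polynomial.C s)) ↔
      Algebra.Smooth k (A ⧸ Ideal.span {s}) := by
  have hnz := nzd_of_irreducible k A s hs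
  set f := (Polynomial.X ^ e - Polynomial.C s : Polynomial A) with hfdef
  have hfm : f.Monic := Polynomial.monic_X_pow_sub_C s (by omega)
  have hfn : f ∈ nonZeroDivisors (Polynomial A) := hfm.mem_nonZeroDivisors
  have hfp : Algebra.FinitePresentation k (Polynomial A) := Algebra.FinitePresentation.trans k A (Polynomial A)
  have hfs : Algebra.FormallySmooth k (Polynomial A) := Algebra.FormallySmooth.comp k A (Polynomial A)
  have h1 : Algebra.Smooth k (AdjoinRoot f) ↔
      ∃ Δ : Derivation k (Polynomial A) (Polynomial A), Δ f - 1 ∈ Ideal.span {f} := by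
    rw [← formallySmooth_quotient_iff f hfn]
    exact ⟨fun h ↦ h.formallySmooth, fun h ↦ ⟨h, Algebra.FinitePresentation.quotient ⟨{f}, by simp⟩⟩⟩
  have h2 : Algebra.Smooth k (A ⧸ Ideal.span {s}) ↔
      ∃ δ : Derivation k A A, δ s - 1 ∈ Ideal.span {s} := by
    rw [← formallySmooth_quotient_iff s hnz]
    exact ⟨fun h ↦ h.formallySmooth, fun h ↦ ⟨h, Algebra.FinitePresentation.quotient ⟨{s}, by simp⟩⟩⟩
  rw [h1, h2]
  constructor
  · rintro ⟨Δ, hΔ⟩
    let δ : Derivation k A A :=
      Derivation.mk' ((Polynomial.aeval (0 : A)).toLinearMap.restrictScalars k ∘ₗ Δ.toLinearMap ∘ₗ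
        (IsScalarTower.toAlgHom k A (Polynomial A)).toLinearMap) (fun a b ↦ by
          simp [Derivation.leibniz, Polynomial.coe_aeval_eq_eval])
    refine ⟨-δ, ?_⟩
    obtain ⟨c, hc⟩ := Ideal.mem_span_singleton'.1 hΔ
    refine Ideal.mem_span_singleton'.2 ⟨-(c.eval 0), ?_⟩
    have h := congrArg (Polynomial.eval 0) hc
    have hδ : δ s = (Δ (Polynomial.C s)).eval 0 := by
      show (Polynomial.aeval (0 : A)) (Δ (Polynomial.C s)) = _
      rw [Polynomial.coe_aeval_eq_eval]
    rw [Derivation.neg_apply, hδ]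
    rw [hfdef, map_sub, Derivation.leibniz_pow] at h
    simp [zero_pow (show e - 1 ≠ 0 by omega), zero_pow (show e ≠ 0 by omega)] at h
    linear_combination h
  · rintro ⟨δ, hδ⟩
    obtain ⟨c, hc⟩ := Ideal.mem_span_singleton'.1 hδ
    let ie : A := algebraMap k A (e : k)⁻¹
    have hie : ie * (e : A) = 1 := by
      simp only [ie]; rw [← map_natCast (algebraMap k A) e, ← map_mul, inv_mul_cancel₀ hek, map_one]
    let Δ : Derivation k (Polynomial A) (Polynomial A) :=
      -((PolynomialModule.equivPolynomialSelf.toLinearMap).compDer δ.mapCoeffs) +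
        (Polynomial.mkDerivation A (-(Polynomial.C (c * ie) * Polynomial.X))).restrictScalars k
    refine ⟨Δ, Ideal.mem_span_singleton'.2 ⟨-(Polynomial.C c), ?_⟩⟩
    have hX : Δ (Polynomial.X ^ e) = -(Polynomial.C c * Polynomial.X ^ e) := by
      rw [Derivation.leibniz_pow]
      have hdX : Δ Polynomial.X = -(Polynomial.C (c * ie) * Polynomial.X) := by simp [Δ]
      rw [hdX, smul_eq_mul, nsmul_eq_mul, map_mul]
      have he1 : (Polynomial.X : Polynomial A) ^ (e - 1) * Polynomial.X = Polynomial.X ^ e := by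
        rw [← pow_succ, Nat.sub_add_cancel (by omega)]
      have hie' : Polynomial.C ie * (e : Polynomial A) = 1 := by
        rw [← Polynomial.C_eq_natCast, ← map_mul, hie, map_one]
      linear_combination (-(Polynomial.C c)) * (Polynomial.C ie * (e : Polynomial A)) * he1 - Polynomial.C c * Polynomial.X ^ e * hie'
    have hCs : Δ (Polynomial.C s) = -(Polynomial.C (δ s)) := by
      have : Polynomial.mkDerivation A (-(Polynomial.C (c * ie) * Polynomial.X)) (Polynomial.C s) = 0 := by
        rw [Polynomial.mkDerivation_apply, Polynomial.derivative_C, zero_smul]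
      simp [Δ, this]
    rw [hfdef, map_sub, hX, hCs]
    have hc' : Polynomial.C c * Polynomial.C s = Polynomial.C (δ s) - 1 := by
      rw [← map_mul, hc, map_sub, map_one]
    linear_combination hc'

end Groth.Agent.S13782
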