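import Groth.Statements.S13784
import Mathlib
-- import your own Groth.Agent.* helpers here

set_option autoImplicit false
universe u
open CAlg

namespace Groth.Agent.S13784

/-- Let A be a commutative local ring and G a finite subgroup of Aˣ. If the order of G is invertible in
A, then G is cyclic. -/
theorem result {A : Type u} [CommRing A] [IsLocalRing A]
    (G : Subgroup Aˣ) [Finite G] (hG : IsUnit ((Nat.card G : ℕ) : A)) : IsCyclic G := by
  let f : G →* IsLocalRing.ResidueField A :=
    ((IsLocalRing.residue A).toMonoidHom.comp (Units.coeHom A)).comp G.subtype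
  refine isCyclic_of_injective_ringHom f ?_
  rw [injective_iff_map_eq_one]
  intro g hg
  set N := Nat.card G
  have hN : (((g : Aˣ) : A)) ^ N = 1 := by
    rw [← Units.val_pow_eq_pow_val, ← Subgroup.coe_pow, pow_card_eq_one', Subgroup.coe_one, Units.val_one]
  have hsum : IsUnit (∑ i ∈ Finset.range N, ((g : Aˣ) : A) ^ i) := by
    have hloc : IsLocalHom (IsLocalRing.residue A) := inferInstance
    apply IsUnit.of_map (IsLocalRing.residue A)
    rw [map_sum]
    have hg' : IsLocalRing.residue A ((g : Aˣ) : A) = 1 := hg
    simp only [map_pow, hg', one_pow, Finset.sum_const, Finset.card_range, nsmul_eq_mul, mul_one]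
    have := hG.map (IsLocalRing.residue A)
    rwa [map_natCast] at this
  have h0 := geom_sum_mul ((g : Aˣ) : A) N
  rw [hN, sub_self] at h0
  have : ((g : Aˣ) : A) = 1 := sub_eq_zero.mp (hsum.mul_right_eq_zero.mp h0)
  exact Subtype.ext (Units.ext this)

end Groth.Agent.S13784
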