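import Groth.Statements.S13785
import Mathlib
-- import your own Groth.Agent.* helpers here

set_option autoImplicit false
universe u
open CAlg

namespace Groth.Agent.S13785

/-- For any commutative ring A, the determinant of the generic n × n matrix is a nonzerodivisor of the
polynomial ring over A in the n² matrix entries. -/
theorem result (A : Type u) [CommRing A] (n : ℕ) :
    (Matrix.mvPolynomialX (Fin n) (Fin n) A).det ∈ nonZeroDivisors (MvPolynomial (Fin n × Fin n) A) := by
  rw [mem_nonZeroDivisors_iff_right]
  intro g hg
  let S := MvPolynomial (Fin n × Fin n) A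
  let M : Matrix (Fin n) (Fin n) S := Matrix.mvPolynomialX (Fin n) (Fin n) A
  let φ : S →ₐ[A] Polynomial S := MvPolynomial.aeval fun ij => (Matrix.charmatrix (-M)) ij.1 ij.2
  let ev : Polynomial S →ₐ[A] S := (Polynomial.aeval (R := S) (0 : S)).restrictScalars A
  have hev : ev.comp φ = AlgHom.id A S := by
    apply MvPolynomial.algHom_ext
    rintro ⟨i, j⟩
    rcases eq_or_ne i j with rfl | h
    · simp [φ, ev, M, S, Matrix.charmatrix_apply_eq, Matrix.mvPolynomialX]
    · simp [φ, ev, M, S, Matrix.charmatrix_apply_ne _ _ _ h, Matrix.mvPolynomialX]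
  have hdet : φ M.det = (-M).charpoly := by
    rw [AlgHom.map_det, Matrix.charpoly]
    congr 1
    refine Matrix.ext fun i j => ?_
    exact MvPolynomial.aeval_X _ (i, j)
  have h : φ g = 0 := by
    have h1 : φ g * (-M).charpoly = 0 := by
      rw [← hdet, ← map_mul, show g * M.det = 0 from hg, map_zero]
    exact ((Matrix.charpoly_monic _).mem_nonZeroDivisors).2 _ h1
  have := congrArg ev h
  rw [← AlgHom.comp_apply, hev, map_zero] at this
  exact this

end Groth.Agent.S13785
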