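import Groth.Statements.S13786
import Mathlib
-- import your own Groth.Agent.* helpers here

set_option autoImplicit false
universe u
open CAlg

namespace Groth.Agent.S13786

/-- For a commutative ring A and n ≥ 1, with det the determinant of the generic n × n matrix in the
polynomial ring A[X] in n² indeterminates, the A-algebra A[X]/(det) is faithfully flat over A. (For
n = 0 the determinant is 1 and the quotient is the zero ring, so n ≥ 1 is required.) -/
theorem result (A : Type u) [CommRing A] (n : ℕ) (hn : 0 < n) :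
    Module.FaithfullyFlat A
      (MvPolynomial (Fin n × Fin n) A ⧸ Ideal.span {(Matrix.mvPolynomialX (Fin n) (Fin n) A).det}) := by
  classical
  let z : Fin n × Fin n := (⟨0, hn⟩, ⟨0, hn⟩)
  let σ' := {ij : Fin n × Fin n // ij ≠ z}
  let X' : Matrix (Fin n) (Fin n) (MvPolynomial σ' A) :=
    Matrix.of fun i j => if h : (i, j) = z then 0 else MvPolynomial.X ⟨(i, j), h⟩
  have hX0 : X' ⟨0, hn⟩ ⟨0, hn⟩ = 0 := by simp [X', z]
  have hX : ∀ i j (h : (i, j) ≠ z), X' i j = MvPolynomial.X ⟨(i, j), h⟩ := fun i j h => dif_neg h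
  let p : Polynomial (MvPolynomial σ' A) := (-X').charpoly
  let φ : (MvPolynomial (Fin n × Fin n) A) →ₐ[A] Polynomial (MvPolynomial σ' A) := MvPolynomial.aeval fun ij => (-X').charmatrix ij.1 ij.2
  let t : (MvPolynomial (Fin n × Fin n) A) := MvPolynomial.X z
  let ψ₀ : (MvPolynomial σ' A) →ₐ[A] (MvPolynomial (Fin n × Fin n) A) := MvPolynomial.aeval fun ij : σ' =>
    MvPolynomial.X ij.1 - if ij.1.1 = ij.1.2 then t else 0
  let ψ : Polynomial (MvPolynomial σ' A) →ₐ[A] (MvPolynomial (Fin n × Fin n) A) := Polynomial.aevalTower ψ₀ t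
  have hφz : φ t = Polynomial.X := by
    simp [φ, t, Matrix.charmatrix_apply_eq, hX0, z]
  have h1 : ψ.comp φ = AlgHom.id A (MvPolynomial (Fin n × Fin n) A) := by
    refine MvPolynomial.algHom_ext ?_
    rintro ⟨i, j⟩
    by_cases hz : (i, j) = z
    · rw [hz, AlgHom.comp_apply, hφz]
      simp [ψ, t]
    · rcases eq_or_ne i j with rfl | h
      · simp [φ, ψ, ψ₀, t, Matrix.charmatrix_apply_eq, hX _ _ hz]
      · simp [φ, ψ, ψ₀, t, Matrix.charmatrix_apply_ne _ _ _ h, hX _ _ hz, h]
  have h2 : φ.comp ψ = AlgHom.id A (Polynomial (MvPolynomial σ' A)) := by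
    refine Polynomial.algHom_ext' ?_ ?_
    · refine MvPolynomial.algHom_ext ?_
      rintro ⟨⟨i, j⟩, hz⟩
      have ht : φ (MvPolynomial.X z) = Polynomial.X := hφz
      rcases eq_or_ne i j with rfl | h
      · simp [ψ, ψ₀, t, ht]
        simp [φ, Matrix.charmatrix_apply_eq, hX _ _ hz]
      · simp [ψ, ψ₀, t, h]
        simp [φ, Matrix.charmatrix_apply_ne _ _ _ h, hX _ _ hz]
    · rw [AlgHom.comp_apply]
      simp only [ψ, Polynomial.aevalTower_X]
      exact hφz
  let e : (MvPolynomial (Fin n × Fin n) A) ≃ₐ[A] Polynomial (MvPolynomial σ' A) := AlgEquiv.ofAlgHom φ ψ h2 h1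
  have he : e (Matrix.mvPolynomialX (Fin n) (Fin n) A).det = p := by
    show φ _ = _
    rw [AlgHom.map_det]
    show (φ.mapMatrix _).det = ((-X').charmatrix).det
    congr 1
    exact Matrix.ext fun i j => MvPolynomial.aeval_X _ (i, j)
  have hmon : p.Monic := Matrix.charpoly_monic _
  have hspan : (Ideal.span {p} : Ideal (Polynomial (MvPolynomial σ' A))) =
      (Ideal.span {(Matrix.mvPolynomialX (Fin n) (Fin n) A).det}).map (e : (MvPolynomial (Fin n × Fin n) A) →+* Polynomial (MvPolynomial σ' A)) := by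
    rw [Ideal.map_span, Set.image_singleton]
    exact congrArg (fun x => Ideal.span {x}) he.symm
  have := hmon.free_adjoinRoot
  have : Module.Free A (AdjoinRoot p) :=
    Module.Free.of_basis ((Module.Free.chooseBasis A (MvPolynomial σ' A)).smulTower (Module.Free.chooseBasis (MvPolynomial σ' A) (AdjoinRoot p)))
  let eL := (Ideal.quotientEquivAlg _ _ e hspan).toLinearEquiv
  rcases subsingleton_or_nontrivial A with hA | hA
  · have := Module.Free.of_equiv eL.symm
    exact ⟨fun m hm => absurd (Subsingleton.elim m ⊤) (Ideal.IsMaximal.ne_top hm)⟩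
  have : Nontrivial (AdjoinRoot p) := by
    refine Ideal.Quotient.nontrivial_iff.mpr ?_
    rw [Ne, Ideal.span_singleton_eq_top]
    intro hu
    have hd := hmon.eq_one_of_isUnit hu
    have := congrArg Polynomial.natDegree hd
    rw [Matrix.charpoly_natDegree_eq_dim, Polynomial.natDegree_one, Fintype.card_fin] at this
    omega
  exact Module.FaithfullyFlat.of_linearEquiv A (AdjoinRoot p) eL

end Groth.Agent.S13786
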