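import Groth.Statements.S13787
import Groth.Agent.CAlg76.DetPoly
import Mathlib
-- import your own Groth.Agent.* helpers here

set_option autoImplicit false
universe u
open CAlg

namespace Groth.Agent.S13787

/-- Let A be a nonzero commutative ring and n ≥ 1, let det be the determinant of the generic n × n
matrix in the polynomial ring A[X] in its n² entries, and let A[X, 1/det] be the localization at det
(the coordinate ring of GL_n over A). The homomorphism Aˣ × ℤ → (A[X, 1/det])ˣ sending (a, e) to a ·
det^e is injective. (The published statement takes the exponent in the group of locally constant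
ℤ-valued functions on Spec A, which also covers A = 0; with integer exponents as here, A must be
nonzero and n ≥ 1.) -/
theorem result (A : Type u) [CommRing A] [Nontrivial A] (n : ℕ) (hn : 0 < n) :
    Function.Injective (fun p : Aˣ × ℤ =>
        Units.map (algebraMap A (Localization.Away (Matrix.mvPolynomialX (Fin n) (Fin n) A).det)).toMonoidHom p.1 *
          (IsLocalization.Away.algebraMap_isUnit (S := Localization.Away (Matrix.mvPolynomialX (Fin n) (Fin n) A).det)
            (Matrix.mvPolynomialX (Fin n) (Fin n) A).det).unit ^ p.2) := by
  rintro ⟨a, e⟩ ⟨b, f⟩ h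
  have h' := congrArg (fun x : (Localization.Away _)ˣ =>
    CAlg76.DetPoly.glToLaurent A hn (x : Localization.Away _)) h
  simp only [Units.val_mul, Units.coe_map, map_mul] at h'
  have hE := CAlg76.DetPoly.glToLaurent_det_zpow A hn _
    (IsLocalization.Away.algebraMap_isUnit (S := Localization.Away (Matrix.mvPolynomialX (Fin n) (Fin n) A).det)
      (Matrix.mvPolynomialX (Fin n) (Fin n) A).det).unit_spec
  simp only [RingHom.toMonoidHom_eq_coe, MonoidHom.coe_coe] at h'
  rw [hE, hE, CAlg76.DetPoly.glToLaurent_C, CAlg76.DetPoly.glToLaurent_C,
    ← LaurentPolynomial.single_eq_C_mul_T, ← LaurentPolynomial.single_eq_C_mul_T] at h'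
  have hne : (a : A) ≠ 0 := a.ne_zero
  rcases (Finsupp.single_eq_single_iff _ _ _ _).mp (congrArg AddMonoidAlgebra.coeff h') with ⟨h1, h2⟩ | ⟨h1, _⟩
  · exact Prod.ext (Units.ext h2) h1
  · exact absurd h1 hne

end Groth.Agent.S13787
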