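import Groth.Statements.S13788
import Groth.Agent.S13787
import Groth.Agent.S13785
import Mathlib
-- import your own Groth.Agent.* helpers here

set_option autoImplicit false
universe u
open CAlg

namespace Groth.Agent.S13788

/-- Units of GL_n: let A be a nonzero commutative ring whose only idempotents are 0 and 1, let n ≥ 1,
let det be the determinant of the generic n × n matrix in the polynomial ring A[X] in its n²
entries, and let A[X, 1/det] be the coordinate ring of GL_n over A. The homomorphism Aˣ × ℤ → (A[X,
1/det])ˣ, (a, e) ↦ a · det^e, is bijective if and only if A is reduced. (The published statement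
allows Spec A disconnected, with exponents locally constant ℤ-valued functions on Spec A; this row
is the connected case, to which the published proof reduces.) -/
theorem result (A : Type u) [CommRing A] [Nontrivial A]
    (hconn : ∀ e : A, IsIdempotentElem e → e = 0 ∨ e = 1) (n : ℕ) (hn : 0 < n) :
    Function.Bijective (fun p : Aˣ × ℤ =>
        Units.map (algebraMap A (Localization.Away (Matrix.mvPolynomialX (Fin n) (Fin n) A).det)).toMonoidHom p.1 *
          (IsLocalization.Away.algebraMap_isUnit (S := Localization.Away (Matrix.mvPolynomialX (Fin n) (Fin n) A).det)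
            (Matrix.mvPolynomialX (Fin n) (Fin n) A).det).unit ^ p.2) ↔ IsReduced A := by
  let d := CAlg76.DetPoly.gdet A n
  let L := Localization.Away d
  let ud : Lˣ := (IsLocalization.Away.algebraMap_isUnit (S := L) d).unit
  let Φ : Aˣ × ℤ → Lˣ := fun p => Units.map (algebraMap A L).toMonoidHom p.1 * ud ^ p.2
  show Function.Bijective Φ ↔ _
  have hψ : ∀ (a : Aˣ) (e : ℤ), CAlg76.DetPoly.glToLaurent A hn (Φ (a, e) : L) =
      AddMonoidAlgebra.single e (a : A) := by
    intro a e
    show CAlg76.DetPoly.glToLaurent A hn (algebraMap A L (a : A) * ((ud ^ e : Lˣ) : L)) = _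
    rw [map_mul, CAlg76.DetPoly.glToLaurent_C,
      CAlg76.DetPoly.glToLaurent_det_zpow A hn ud (IsUnit.unit_spec _) e,
      ← LaurentPolynomial.single_eq_C_mul_T]
  constructor
  · rintro ⟨-, hsurj⟩
    refine isReduced_iff_pow_one_lt 2 one_lt_two |>.mpr fun a ha => ?_
    let x : MvPolynomial (Fin n × Fin n) A := MvPolynomial.C a * MvPolynomial.X (⟨0, hn⟩, ⟨0, hn⟩)
    have hx : IsNilpotent (algebraMap _ L x) :=
      IsNilpotent.map ⟨2, by rw [mul_pow, ← map_pow, ha, map_zero, zero_mul]⟩ _
    obtain ⟨⟨b, e⟩, hb⟩ := hsurj hx.isUnit_one_add.unit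
    have h := hψ b e
    rw [hb, IsUnit.unit_spec, map_add, map_one, CAlg76.DetPoly.glToLaurent_algebraMap] at h
    have hxv : CAlg76.DetPoly.diagPt A hn x = AddMonoidAlgebra.single 1 a := by
      rw [LaurentPolynomial.single_eq_C_mul_T]
      rw [map_mul, CAlg76.DetPoly.diagPt, MvPolynomial.aeval_C, MvPolynomial.aeval_X, Matrix.diagonal_apply_eq, if_pos rfl]
      rfl
    rw [hxv] at h
    have h0 := congrArg (fun q => AddMonoidAlgebra.coeff q 0) h
    have h1 := congrArg (fun q => AddMonoidAlgebra.coeff q 1) h
    simp only [AddMonoidAlgebra.one_def, AddMonoidAlgebra.coeff_add, Finsupp.add_apply, AddMonoidAlgebra.coeff_single, Finsupp.single_apply] at h0 h1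
    by_cases he : e = 1
    · simp [he] at h0
    · simpa [he] using h1
  · intro hred
    refine ⟨Groth.Agent.S13787.result A n hn, fun u => ?_⟩
    have hd : d ∈ nonZeroDivisors (MvPolynomial (Fin n × Fin n) A) := Groth.Agent.S13785.result A n
    obtain ⟨k, g, hg⟩ := IsLocalization.Away.surj d (u : L)
    obtain ⟨l, h, hh⟩ := IsLocalization.Away.surj d ((u⁻¹ : Lˣ) : L)
    have hgh : g * h = d ^ (k + l) := by
      apply IsLocalization.injective L (M := Submonoid.powers d)
        ((Submonoid.powers_le).mpr hd)
      calc algebraMap _ L (g * h) = ((u : L) * algebraMap _ L d ^ k) *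
            (((u⁻¹ : Lˣ) : L) * algebraMap _ L d ^ l) := by rw [map_mul, hg, hh]
        _ = ((u : L) * ((u⁻¹ : Lˣ) : L)) * (algebraMap _ L d ^ k * algebraMap _ L d ^ l) := by ring
        _ = algebraMap _ L (d ^ (k + l)) := by rw [Units.mul_inv, one_mul, ← pow_add, map_pow]
    let ε := CAlg76.DetPoly.atOne A n
    have hε : ε g * ε h = 1 := by
      rw [← map_mul, hgh, map_pow, show ε d = 1 from CAlg76.DetPoly.atOne_det A n, one_pow]
    let a : Aˣ := ⟨ε g, ε h, hε, by rw [mul_comm, hε]⟩
    suffices hj : ∃ j : ℕ, g = MvPolynomial.C (a : A) * d ^ j by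
      obtain ⟨j, hj⟩ := hj
      refine ⟨(a, (j : ℤ) - k), ?_⟩
      apply Units.ext
      have hud : (ud : L) = algebraMap _ L d := IsUnit.unit_spec _
      show algebraMap A L (a : A) * ((ud ^ ((j : ℤ) - k) : Lˣ) : L) = u
      rw [← ((IsLocalization.Away.algebraMap_isUnit (S := L) d).pow k).mul_left_inj, hg, hj, map_mul,
        IsScalarTower.algebraMap_apply A (MvPolynomial (Fin n × Fin n) A) L, map_pow, ← hud, mul_assoc,
        ← Units.val_pow_eq_pow_val, ← Units.val_pow_eq_pow_val, ← Units.val_mul, ← zpow_natCast,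
        ← zpow_add, sub_add_cancel, zpow_natCast]
      rfl
    let c := MvPolynomial.C ((a⁻¹ : Aˣ) : A) * g
    have hmod : ∀ P : Ideal A, P.IsPrime → ∃ j ≤ k + l,
        MvPolynomial.map (Ideal.Quotient.mk P) c = CAlg76.DetPoly.gdet (A ⧸ P) n ^ j := by
      intro P hP
      obtain ⟨j, hj, hgj⟩ := CAlg76.DetPoly.eq_C_mul_pow_of_mul_eq_pow (A ⧸ P) hn
        (g := MvPolynomial.map (Ideal.Quotient.mk P) g) (h := MvPolynomial.map (Ideal.Quotient.mk P) h)
        (N := k + l) (by rw [← map_mul, hgh, map_pow, CAlg76.DetPoly.map_det])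
      refine ⟨j, hj, ?_⟩
      have he : CAlg76.DetPoly.atOne (A ⧸ P) n (MvPolynomial.map (Ideal.Quotient.mk P) g) =
          Ideal.Quotient.mk P (ε g) := by
        have hc : (CAlg76.DetPoly.atOne (A ⧸ P) n).toRingHom.comp (MvPolynomial.map (Ideal.Quotient.mk P))
            = (Ideal.Quotient.mk P).comp ε.toRingHom := by
          refine MvPolynomial.ringHom_ext (fun r => ?_) fun ij => ?_
          · simp [ε, CAlg76.DetPoly.atOne]
          · obtain ⟨i, j⟩ := ij
            by_cases hij : i = j <;> simp [ε, CAlg76.DetPoly.atOne, hij]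
        exact RingHom.congr_fun hc g
      rw [he] at hgj
      rw [map_mul, hgj, MvPolynomial.map_C, ← mul_assoc, ← map_mul, ← map_mul]
      rw [show ((a⁻¹ : Aˣ) : A) * ε g = 1 from a.inv_mul, map_one, map_one, one_mul]
    let q := CAlg76.DetPoly.diagPt A hn c
    have hq : ∀ P : Ideal A, P.IsPrime → ∃ j ≤ k + l,
        MvPolynomial.map (Ideal.Quotient.mk P) c = CAlg76.DetPoly.gdet (A ⧸ P) n ^ j ∧
        ∀ m : ℤ, Ideal.Quotient.mk P (q.coeff m) = if (j : ℤ) = m then 1 else 0 := by
      intro P hP
      obtain ⟨j, hj, hcj⟩ := hmod P hP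
      refine ⟨j, hj, hcj, fun m => ?_⟩
      let F : LaurentPolynomial A →+* LaurentPolynomial (A ⧸ P) :=
        AddMonoidAlgebra.mapRingHom ℤ (Ideal.Quotient.mk P)
      have hF : F.comp (CAlg76.DetPoly.diagPt A hn).toRingHom =
          (CAlg76.DetPoly.diagPt (A ⧸ P) hn).toRingHom.comp (MvPolynomial.map (Ideal.Quotient.mk P)) := by
        refine MvPolynomial.ringHom_ext (fun r => ?_) fun ij => ?_
        · show F (CAlg76.DetPoly.diagPt A hn (MvPolynomial.C r)) = CAlg76.DetPoly.diagPt (A ⧸ P) hn (MvPolynomial.map _ (MvPolynomial.C r))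
          rw [MvPolynomial.map_C, CAlg76.DetPoly.diagPt, CAlg76.DetPoly.diagPt, MvPolynomial.aeval_C, MvPolynomial.aeval_C]
          simp only [F, LaurentPolynomial.algebraMap_apply]
          simp [LaurentPolynomial.C, -LaurentPolynomial.single_eq_C_mul_T]
        · obtain ⟨i, i'⟩ := ij
          have hT : F (LaurentPolynomial.T 1) = LaurentPolynomial.T 1 := by
            simp only [F, LaurentPolynomial.T, AddMonoidAlgebra.mapRingHom_single, map_one]
          show F (CAlg76.DetPoly.diagPt A hn (MvPolynomial.X (i, i'))) =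
            CAlg76.DetPoly.diagPt (A ⧸ P) hn (MvPolynomial.map _ (MvPolynomial.X (i, i')))
          rw [MvPolynomial.map_X, CAlg76.DetPoly.diagPt, CAlg76.DetPoly.diagPt, MvPolynomial.aeval_X,
            MvPolynomial.aeval_X]
          dsimp only
          rcases eq_or_ne i i' with h1 | h1
          · subst h1
            rw [Matrix.diagonal_apply_eq, Matrix.diagonal_apply_eq]
            split_ifs
            · exact hT
            · exact map_one F
          · rw [Matrix.diagonal_apply_ne _ h1, Matrix.diagonal_apply_ne _ h1, map_zero]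
      have h1 : F q = LaurentPolynomial.T (j : ℤ) := by
        have := RingHom.congr_fun hF c
        simp only [RingHom.comp_apply, AlgHom.toRingHom_eq_coe, RingHom.coe_coe] at this
        rw [this, hcj, map_pow, CAlg76.DetPoly.diagPt_det, LaurentPolynomial.T_pow, mul_one]
      have := congrArg (fun z => AddMonoidAlgebra.coeff z m) h1
      simpa [F] using this
    have h01 : ∀ m : ℤ, q.coeff m = 0 ∨ q.coeff m = 1 := by
      intro m
      refine hconn _ ?_
      have : q.coeff m * q.coeff m - q.coeff m ∈ nilradical A := by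
        rw [nilradical_eq_sInf, Ideal.mem_sInf]
        intro P hP
        obtain ⟨j, -, -, hm⟩ := hq P hP
        rw [← Ideal.Quotient.eq_zero_iff_mem, map_sub, map_mul, hm]
        split <;> simp
      rw [nilradical_eq_zero] at this
      exact sub_eq_zero.mp this
    obtain ⟨P0, hP0⟩ := Ideal.exists_maximal A
    obtain ⟨j, -, -, hj0⟩ := hq P0 hP0.isPrime
    refine ⟨j, ?_⟩
    have hcd : c = d ^ j := by
      rw [← sub_eq_zero]
      ext m
      rw [MvPolynomial.coeff_zero]
      have : (c - d ^ j).coeff m ∈ nilradical A := by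
        rw [nilradical_eq_sInf, Ideal.mem_sInf]
        intro P hP
        obtain ⟨i, -, hci, hi⟩ := hq P hP
        have hij : i = j := by
          have h1 := hj0 (j : ℤ)
          rw [if_pos rfl] at h1
          have h2 := hi (j : ℤ)
          rcases h01 (j : ℤ) with h | h
          · rw [h, map_zero] at h1
            have := hP0.isPrime
            have := Ideal.Quotient.nontrivial_iff.mpr hP0.ne_top
            exact absurd h1 zero_ne_one
          · rw [h, map_one] at h2
            by_contra hne
            rw [if_neg (by exact_mod_cast hne)] at h2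
            have := hP
            have := Ideal.Quotient.nontrivial_iff.mpr hP.ne_top
            exact one_ne_zero h2
        subst hij
        rw [← Ideal.Quotient.eq_zero_iff_mem, ← MvPolynomial.coeff_map, map_sub, map_pow, hci,
          CAlg76.DetPoly.map_det, sub_self, MvPolynomial.coeff_zero]
      rwa [nilradical_eq_zero] at this
    calc g = MvPolynomial.C (a : A) * c := by
          rw [← mul_assoc, ← map_mul, Units.mul_inv, map_one, one_mul]
      _ = _ := by rw [hcd]

end Groth.Agent.S13788
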