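import Groth.Statements.S13789
import Mathlib
-- import your own Groth.Agent.* helpers here

set_option autoImplicit false
universe u
open CAlg

namespace Groth.Agent.S13789

/-- Let A be a commutative ring with total ring of fractions Q and let B be a ring with A ⊆ B ⊆ Q. Then
the inclusion A ⊆ B carries nonzerodivisors of A to nonzerodivisors of B, and every nonzerodivisor
of B has the form r/u with r and u nonzerodivisors of A. -/
theorem result {A Q : Type u} [CommRing A] [CommRing Q] [Algebra A Q] [IsFractionRing A Q] (B : Subalgebra A Q) :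
    (∀ a : A, a ∈ nonZeroDivisors A → algebraMap A B a ∈ nonZeroDivisors B) ∧
    (∀ b : B, b ∈ nonZeroDivisors B → ∃ r u : A, r ∈ nonZeroDivisors A ∧ u ∈ nonZeroDivisors A ∧
      (b : Q) * algebraMap A Q u = algebraMap A Q r) := by
  have hinj : Function.Injective (algebraMap A Q) := IsFractionRing.injective A Q
  refine ⟨fun a ha => ?_, fun b hb => ?_⟩
  · rw [mem_nonZeroDivisors_iff_right]
    intro x hx
    have hu : IsUnit (algebraMap A Q a) := IsLocalization.map_units Q ⟨a, ha⟩
    apply Subtype.ext
    have := congrArg Subtype.val hx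
    simpa [hu.mul_left_eq_zero] using this
  · obtain ⟨⟨r, u⟩, h⟩ := IsLocalization.surj (M := nonZeroDivisors A) (b : Q)
    refine ⟨r, u, ?_, u.2, h⟩
    rw [mem_nonZeroDivisors_iff_right]
    intro a ha
    have h1 : (algebraMap A B ((u : A) * a)) * b = 0 := by
      apply Subtype.ext
      calc algebraMap A Q ((u:A) * a) * (b : Q)
          = algebraMap A Q a * ((b : Q) * algebraMap A Q u) := by rw [map_mul]; ring
        _ = algebraMap A Q (a * r) := by rw [h, map_mul]
        _ = 0 := by rw [ha, map_zero]
    have h2 := congrArg Subtype.val ((mem_nonZeroDivisors_iff_right.mp hb) _ h1)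
    have h3 : (u : A) * a = 0 := hinj (by simpa using h2)
    rw [mul_comm] at h3
    exact (mem_nonZeroDivisors_iff_right.mp u.2) _ h3

end Groth.Agent.S13789
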