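import Groth.Statements.S13790
import Groth.Agent.S13789
import Mathlib
-- import your own Groth.Agent.* helpers here

set_option autoImplicit false
universe u
open CAlg

namespace Groth.Agent.S13790

/-- Let A be a commutative ring with total ring of fractions Q and let B be a ring with A ⊆ B ⊆ Q. Then
Q, with the inclusion B ⊆ Q, is the total ring of fractions of B. -/
theorem result {A Q : Type u} [CommRing A] [CommRing Q] [Algebra A Q] [IsFractionRing A Q] (B : Subalgebra A Q) :
    IsFractionRing B Q := by
  obtain ⟨hA, hB⟩ := Groth.Agent.S13789.result B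
  refine (isLocalization_iff (nonZeroDivisors B) Q).mpr ⟨fun y => ?_, fun z => ?_, fun {x y} h => ?_⟩
  · obtain ⟨r, u, hr, hu, h⟩ := hB y.1 y.2
    have h1 : IsUnit ((y.1 : Q) * algebraMap A Q u) := by
      rw [h]; exact IsLocalization.map_units Q ⟨r, hr⟩
    exact isUnit_of_mul_isUnit_left h1
  · obtain ⟨⟨a, s⟩, h⟩ := IsLocalization.surj (M := nonZeroDivisors A) z
    exact ⟨(algebraMap A B a, ⟨algebraMap A B s, hA _ s.2⟩), h⟩
  · exact ⟨1, by rw [Subtype.ext h]⟩

end Groth.Agent.S13790
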