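import Groth.Statements.S13791
import Groth.Agent.SiteCoh.GlobalSections
import Mathlib.CategoryTheory.Sites.SheafCohomology.Basic
import Mathlib.Algebra.Homology.DerivedCategory.Ext.ExactSequences

set_option autoImplicit false
universe u
open CategoryTheory
open CohSite

namespace Groth.Agent.S13791

/-- On a site, for a short exact sequence 0 → A → B → C → 0 of abelian groups the map H¹(A) → H¹(B) on
the first cohomology of the associated constant sheaves is injective. Stated for an injective
homomorphism f : A → B (C being its cokernel), with H¹ the Ext-based sheaf cohomology of the site. -/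
theorem result {C : Type u} [SmallCategory C] (J : GrothendieckTopology C)
    {A B : Type u} [AddCommGroup A] [AddCommGroup B] (f : A →+ B) (hf : Function.Injective f) :
    Function.Injective
      (Sheaf.H.map ((constantSheaf J AddCommGrpCat.{u}).map (AddCommGrpCat.ofHom f)) 1) := by
  open Limits in
  have : Mono (AddCommGrpCat.ofHom f) := (AddCommGrpCat.mono_iff_injective _).2 hf
  have : PreservesFiniteLimits (constantSheaf J AddCommGrpCat.{u}) := comp_preservesFiniteLimits _ _
  have : (constantSheaf J AddCommGrpCat.{u}).Additive :=
    Functor.additive_of_preserves_binary_products _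
  have : PreservesFiniteColimits (constantSheaf J AddCommGrpCat.{u}) := comp_preservesFiniteColimits _ _
  let S := ShortComplex.mk (AddCommGrpCat.ofHom f) (cokernel.π (AddCommGrpCat.ofHom f))
    (cokernel.condition _)
  have hS : S.ShortExact :=
    { exact := ShortComplex.exact_of_g_is_cokernel _ (cokernelIsCokernel _) }
  have hS' := hS.map_of_exact (constantSheaf J AddCommGrpCat.{u})
  refine (injective_iff_map_eq_zero _).2 fun x hx => ?_
  obtain ⟨x₃, rfl⟩ := Abelian.Ext.covariant_sequence_exact₁ _ hS' x hx (zero_add 1)
  obtain ⟨y, rfl⟩ := (Abelian.Ext.mk₀_bijective _ _).2 x₃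
  obtain ⟨τ, hτ⟩ := Groth.Agent.SiteCoh.ConstSections.exists_section J S.g
    ((AddCommGrpCat.epi_iff_surjective _).1 inferInstance)
  obtain ⟨w, rfl⟩ := Groth.Agent.SiteCoh.GlobalSections.exists_lift (S.map (constantSheaf J AddCommGrpCat.{u})).g τ hτ y
  exact Groth.Agent.SiteCoh.GlobalSections.mk₀_comp_g_comp_extClass hS' w

end Groth.Agent.S13791
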