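import Groth.Statements.S13792
import Mathlib.AlgebraicGeometry.Morphisms.QuasiFinite
import Mathlib.AlgebraicGeometry.Morphisms.ClosedImmersion
import Mathlib.AlgebraicGeometry.Noetherian
import Mathlib.Order.KrullDimension

set_option autoImplicit false
universe u
open CategoryTheory AlgebraicGeometry
open Curves

namespace Groth.Agent.S13792

lemma two_le_dim {E : Scheme.{u}} [IsIntegral E] {a b : E} (h : a ⤳ b) (hne : b ≠ a)
    (ha : a ≠ genericPoint ↥E) : topologicalKrullDim ↥E ≠ 1 := by
  let c : E → TopologicalSpace.IrreducibleCloseds ↥E :=
    fun x => ⟨closure {x}, isIrreducible_singleton.closure, isClosed_closure⟩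
  have hinj : ∀ x y : E, closure ({x} : Set E) = closure {y} → x = y := fun x y e =>
    Inseparable.eq (inseparable_iff_closure_eq.2 e)
  have h1 : c b < c a := lt_of_le_of_ne (h.closure_subset) fun e => hne (hinj _ _ (congrArg SetLike.coe e))
  have h2 : c a < c (genericPoint ↥E) := lt_of_le_of_ne ((genericPoint_specializes a).closure_subset)
    fun e => ha (hinj _ _ (congrArg SetLike.coe e))
  have := Order.LTSeries.length_le_krullDim (((RelSeries.singleton _ (c b)).snoc (c a) (by simpa using h1)).snoc
    (c (genericPoint ↥E)) (by simpa using h2))
  intro hdim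
  change (2 : WithBot ℕ∞) ≤ topologicalKrullDim ↥E at this
  rw [hdim] at this
  exact absurd this (by decide)

/-- Let k be a field and E an integral k-scheme of finite type whose underlying space has dimension 1,
and let ι : G → E be a closed immersion. Then either ι is an isomorphism or G is finite over k. (The
published statement is about a closed subgroup scheme of an elliptic curve and its proof states this
fact for E geometrically integral; this row assumes only that E is integral.) -/
theorem result {k : Type u} [Field k]
    {E G : Scheme.{u}} (f : E ⟶ Spec (CommRingCat.of k)) [LocallyOfFiniteType f] [QuasiCompact f]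
    [IsIntegral E] (hdim : topologicalKrullDim ↥E = 1) (ι : G ⟶ E) [IsClosedImmersion ι] :
    IsIso ι ∨ IsFinite (ι ≫ f) := by
  by_cases hs : Function.Surjective ι.base
  · left
    haveI : Surjective ι := ⟨hs⟩
    exact isIso_of_isClosedImmersion_of_surjective ι
  right
  have hZ : IsClosed (Set.range ι.base) := ι.isClosedEmbedding.isClosed_range
  have hη : genericPoint ↥E ∉ Set.range ι.base := by
    intro h
    refine hs (Set.range_eq_univ.1 (Set.univ_subset_iff.1 ?_))
    rw [← genericPoint_closure ↥E]
    exact hZ.closure_subset_iff.2 (Set.singleton_subset_iff.2 h)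
  haveI : T1Space G := by
    refine ⟨fun x => ?_⟩
    rw [← closure_subset_iff_isClosed]
    intro y hy
    by_contra hne
    rw [← specializes_iff_mem_closure] at hy
    have h1 : ι.base x ⤳ ι.base y := hy.map ι.continuous
    have h2 : ι.base y ≠ ι.base x := fun h => hne (ι.isClosedEmbedding.injective h)
    exact absurd hdim (two_le_dim h1 h2 (fun h => hη ⟨x, h⟩))
  haveI : CompactSpace G := QuasiCompact.compactSpace_of_compactSpace (ι ≫ f)
  haveI : IsLocallyNoetherian G := LocallyOfFiniteType.isLocallyNoetherian (ι ≫ f)
  haveI : IsNoetherian G := ⟨⟩
  haveI : Finite (irreducibleComponents G) :=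
    TopologicalSpace.NoetherianSpace.finite_irreducibleComponents.to_subtype
  haveI : Finite G := by
    refine Finite.of_injective (fun x => (⟨closure {x}, ?_⟩ : irreducibleComponents G)) ?_
    · refine ⟨isIrreducible_singleton.closure, fun t ht hle z hz => ?_⟩
      obtain ⟨w, hw⟩ := QuasiSober.sober ht.closure isClosed_closure
      have hw' : closure {w} = closure t := hw.def
      rw [closure_singleton] at hw'
      have hx : x ∈ closure t := subset_closure (hle (subset_closure rfl))
      rw [← hw', Set.mem_singleton_iff] at hx
      have hz' : z ∈ closure t := subset_closure hz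
      rw [← hw', ← hx] at hz'
      exact subset_closure hz'
    · intro a b h
      have := congrArg Subtype.val h
      simpa [closure_singleton] using this
  haveI : LocallyQuasiFinite (ι ≫ f) :=
    LocallyQuasiFinite.of_finite_preimage_singleton _ (fun y => Set.toFinite _)
  exact IsFinite.of_locallyQuasiFinite (ι ≫ f)

end Groth.Agent.S13792
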