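import Groth.Statements.S13793
import Mathlib
-- import your own Groth.Agent.* helpers here

set_option autoImplicit false
universe u
open CAlg

namespace Groth.Agent.S13793

section
open AddMonoidAlgebra
open scoped Matrix

variable {A : Type u} [CommRing A]

/-- The ring map induced by an integer matrix. -/
noncomputable def δ {p q : ℕ} (M : Matrix (Fin q) (Fin p) ℤ) :
    AddMonoidAlgebra A (Fin p → ℤ) →+* AddMonoidAlgebra A (Fin q → ℤ) :=
  mapDomainRingHom A (Matrix.mulVecLin M).toAddMonoidHom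

lemma δ_single {p q : ℕ} (M : Matrix (Fin q) (Fin p) ℤ) (v : Fin p → ℤ) (r : A) :
    δ M (single v r) = single (M *ᵥ v) r := mapDomain_single ..

lemma δ_δ {p q s : ℕ} (M : Matrix (Fin q) (Fin p) ℤ) (N : Matrix (Fin s) (Fin q) ℤ)
    (x : AddMonoidAlgebra A (Fin p → ℤ)) : δ N (δ M x) = δ (N * M) x := by
  induction x using AddMonoidAlgebra.induction_linear with
  | zero => simp
  | add f g hf hg => simp [hf, hg]
  | single v r => simp [δ_single]

lemma δ_mem {p q : ℕ} (M : Matrix (Fin q) (Fin p) ℤ) (J : Ideal A) {x : AddMonoidAlgebra A (Fin p → ℤ)}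
    (hx : x ∈ RingHom.ker (mapRingHom (Fin p → ℤ) (Ideal.Quotient.mk J))) :
    δ M x ∈ RingHom.ker (mapRingHom (Fin q → ℤ) (Ideal.Quotient.mk J)) := by
  have h : (mapRingHom (Fin q → ℤ) (Ideal.Quotient.mk J)).comp (δ M) =
      (δ M).comp (mapRingHom (Fin p → ℤ) (Ideal.Quotient.mk J)) :=
    mapRingHom_comp_mapDomainRingHom _ _
  rw [RingHom.mem_ker] at hx ⊢
  rw [← RingHom.comp_apply, h, RingHom.comp_apply, hx, map_zero]

lemma mem_ker_iff_coeff {p : ℕ} (J : Ideal A) (x : AddMonoidAlgebra A (Fin p → ℤ)) :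
    x ∈ RingHom.ker (mapRingHom (Fin p → ℤ) (Ideal.Quotient.mk J)) ↔ ∀ v, x.coeff v ∈ J := by
  rw [RingHom.mem_ker]
  refine ⟨fun h v => ?_, fun h => ?_⟩
  · have := congrArg (fun z => AddMonoidAlgebra.coeff z v) h
    simpa [Ideal.Quotient.eq_zero_iff_mem] using this
  · ext v
    simpa [Ideal.Quotient.eq_zero_iff_mem] using h v

lemma mul_mem_ker_sq {p : ℕ} (J : Ideal A) {x y : AddMonoidAlgebra A (Fin p → ℤ)}
    (hx : x ∈ RingHom.ker (mapRingHom (Fin p → ℤ) (Ideal.Quotient.mk J)))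
    (hy : y ∈ RingHom.ker (mapRingHom (Fin p → ℤ) (Ideal.Quotient.mk J))) :
    x * y ∈ RingHom.ker (mapRingHom (Fin p → ℤ) (Ideal.Quotient.mk (J * J))) := by
  classical
  rw [mem_ker_iff_coeff] at *
  intro v
  rw [AddMonoidAlgebra.coeff_mul]
  simp only [Finsupp.sum_apply, Finsupp.sum]
  refine Ideal.sum_mem _ fun a _ => Ideal.sum_mem _ fun b _ => ?_
  split_ifs with hab
  · exact Ideal.mul_mem_mul (hx a) (hy b)
  · exact zero_mem _

lemma isNilpotent_of_mem_ker {p : ℕ} (J : Ideal A) (hJ : ∀ a ∈ J, IsNilpotent a)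
    {x : AddMonoidAlgebra A (Fin p → ℤ)}
    (hx : x ∈ RingHom.ker (mapRingHom (Fin p → ℤ) (Ideal.Quotient.mk J))) : IsNilpotent x := by
  rw [mem_ker_iff_coeff] at hx
  induction x using AddMonoidAlgebra.induction with
  | zero => exact IsNilpotent.zero
  | single_add v r f hv hr ih =>
    have h1 : r ∈ J := by
      have := hx v
      rwa [coeff_add, Finsupp.add_apply, coeff_single, Finsupp.single_eq_same,
        Finsupp.notMem_support_iff.mp hv, add_zero] at this
    refine Commute.isNilpotent_add (Commute.all _ _) ?_ (ih fun w => ?_)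
    · obtain ⟨n, hn⟩ := hJ r h1
      exact ⟨n, by rw [single_pow, hn, single_zero]⟩
    · by_cases hw : w = v
      · rw [hw, Finsupp.notMem_support_iff.mp hv]; exact zero_mem _
      · have := hx w
        rwa [coeff_add, Finsupp.add_apply, coeff_single, Finsupp.single_eq_of_ne hw, zero_add] at this

/-- A unit of a group algebra over a domain is a monomial. -/
lemma exists_eq_single {B : Type u} [CommRing B] [IsDomain B] {u w : AddMonoidAlgebra B (Fin 2 → ℤ)}
    (h : u * w = 1) : ∃ v c, c ≠ 0 ∧ u = single v c := by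
  classical
  have hu : u ≠ 0 := left_ne_zero_of_mul_eq_one h
  have hw : w ≠ 0 := right_ne_zero_of_mul_eq_one h
  have key : u.coeff.support.card * w.coeff.support.card ≤ 1 := by
    by_contra hc
    obtain ⟨p1, hp1, p2, hp2, hne, h1, h2⟩ := TwoUniqueSums.uniqueAdd_of_one_lt_card (not_le.mp hc)
    rw [Finset.mem_product, Finsupp.mem_support_iff, Finsupp.mem_support_iff] at hp1 hp2
    have e1 := coeff_mul_add_of_uniqueAdd h1
    have e2 := coeff_mul_add_of_uniqueAdd h2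
    rw [h, one_def, coeff_single] at e1 e2
    have n1 := mul_ne_zero hp1.1 hp1.2
    have n2 := mul_ne_zero hp2.1 hp2.2
    rw [← e1, Finsupp.single_apply_ne_zero] at n1
    rw [← e2, Finsupp.single_apply_ne_zero] at n2
    obtain ⟨a, b⟩ := h1 (a := p2.1) (b := p2.2) (Finsupp.mem_support_iff.mpr hp2.1)
      (Finsupp.mem_support_iff.mpr hp2.2) (n2.1.trans n1.1.symm)
    exact hne (Prod.ext a.symm b.symm)
  have hu1 : 0 < u.coeff.support.card := Finset.card_pos.mpr
    (Finsupp.support_nonempty_iff.mpr (by simpa using hu))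
  have hw1 : 0 < w.coeff.support.card := Finset.card_pos.mpr
    (Finsupp.support_nonempty_iff.mpr (by simpa using hw))
  have hu2 : u.coeff.support.card = 1 := by nlinarith
  obtain ⟨v, c, hc, hvc⟩ := Finsupp.card_support_eq_one'.mp hu2
  exact ⟨v, c, hc, AddMonoidAlgebra.ext (by rw [hvc, coeff_single])⟩

abbrev M0 : Matrix (Fin 3) (Fin 2) ℤ := !![0, 0; 1, 0; 0, 1]
abbrev M1 : Matrix (Fin 3) (Fin 2) ℤ := !![1, 0; 1, 0; 0, 1]
abbrev M2 : Matrix (Fin 3) (Fin 2) ℤ := !![1, 0; 0, 1; 0, 1]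
abbrev M3 : Matrix (Fin 3) (Fin 2) ℤ := !![1, 0; 0, 1; 0, 0]
abbrev E0 : Matrix (Fin 2) (Fin 1) ℤ := !![0; 1]
abbrev E1 : Matrix (Fin 2) (Fin 1) ℤ := !![1; 1]
abbrev E2 : Matrix (Fin 2) (Fin 1) ℤ := !![1; 0]

lemma six {G : Type u} [CommGroup G] (a b c d f g : G) :
    a * b⁻¹ * c * (a * d⁻¹ * f)⁻¹ * (b * d⁻¹ * g) * (c * f⁻¹ * g)⁻¹ = 1 := by
  apply Additive.ofMul.injective
  simp only [ofMul_mul, ofMul_inv, ofMul_one]
  abel

/-- The coboundary of a unit. -/
noncomputable def dη (η : (AddMonoidAlgebra A (Fin 1 → ℤ))ˣ) : (AddMonoidAlgebra A (Fin 2 → ℤ))ˣ :=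
  Units.map (δ E0).toMonoidHom η * (Units.map (δ E1).toMonoidHom η)⁻¹ * Units.map (δ E2).toMonoidHom η

/-- The cocycle expression. -/
noncomputable def dξ (ξ : (AddMonoidAlgebra A (Fin 2 → ℤ))ˣ) : (AddMonoidAlgebra A (Fin 3 → ℤ))ˣ :=
  Units.map (δ M0).toMonoidHom ξ * (Units.map (δ M1).toMonoidHom ξ)⁻¹ *
    Units.map (δ M2).toMonoidHom ξ * (Units.map (δ M3).toMonoidHom ξ)⁻¹

lemma dη_mul (a b : (AddMonoidAlgebra A (Fin 1 → ℤ))ˣ) : dη (a * b) = dη a * dη b := by
  simp only [dη, map_mul, mul_inv]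
  ac_rfl

lemma dξ_mul (a b : (AddMonoidAlgebra A (Fin 2 → ℤ))ˣ) : dξ (a * b) = dξ a * dξ b := by
  simp only [dξ, map_mul, mul_inv]
  ac_rfl

lemma dξ_inv (a : (AddMonoidAlgebra A (Fin 2 → ℤ))ˣ) : dξ a⁻¹ = (dξ a)⁻¹ := by
  simp only [dξ, map_inv, mul_inv, inv_inv]

lemma δ_δ_units {p q s : ℕ} (M : Matrix (Fin q) (Fin p) ℤ) (N : Matrix (Fin s) (Fin q) ℤ)
    (x : (AddMonoidAlgebra A (Fin p → ℤ))ˣ) :
    Units.map (δ (A := A) N).toMonoidHom (Units.map (δ (A := A) M).toMonoidHom x) =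
      Units.map (δ (A := A) (N * M)).toMonoidHom x :=
  Units.ext (δ_δ M N (x : AddMonoidAlgebra A (Fin p → ℤ)))

lemma dξ_dη (η : (AddMonoidAlgebra A (Fin 1 → ℤ))ˣ) : dξ (dη η) = 1 := by
  simp only [dξ, dη, map_mul, map_inv, δ_δ_units]
  rw [show M0 * E0 = M1 * E0 by decide, show M0 * E1 = M2 * E0 by decide,
    show M0 * E2 = M3 * E0 by decide, show M1 * E1 = M2 * E1 by decide,
    show M1 * E2 = M3 * E1 by decide, show M2 * E2 = M3 * E2 by decide]
  exact six _ _ _ _ _ _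

/-- Coefficient of `t₂^0`. -/
noncomputable def π : AddMonoidAlgebra A (Fin 2 → ℤ) →+ AddMonoidAlgebra A (Fin 1 → ℤ) :=
  comapDomainAddMonoidHom (fun w => ![w 0, 0]) fun a b h => by
    funext i; fin_cases i; simpa using congrFun h 0

/-- Coefficient of `t₃^0`. -/
noncomputable def L : AddMonoidAlgebra A (Fin 3 → ℤ) →+ AddMonoidAlgebra A (Fin 2 → ℤ) :=
  comapDomainAddMonoidHom (fun w => ![w 0, w 1, 0]) fun a b h => by
    funext i; fin_cases i
    · simpa using congrFun h 0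
    · simpa using congrFun h 1

lemma L_single (a b c : ℤ) (r : A) :
    L (single ![a, b, c] r) = if c = 0 then single ![a, b] r else 0 := by
  split_ifs with h
  · subst h
    exact AddMonoidAlgebra.comapDomain_single_map (fun w : Fin 2 → ℤ => ![w 0, w 1, 0]) (fun u v h => by funext i; fin_cases i; exacts [by simpa using congrFun h 0, by simpa using congrFun h 1]) ![a, b] r
  · ext w
    show (single ![a, b, c] r).coeff ![w 0, w 1, 0] = 0
    rw [coeff_single, Finsupp.single_eq_of_ne]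
    intro hw
    exact h (by simpa using (congrFun hw 2).symm)

lemma π_single (a b : ℤ) (r : A) :
    π (single ![a, b] r) = if b = 0 then single ![a] r else 0 := by
  split_ifs with h
  · subst h
    exact AddMonoidAlgebra.comapDomain_single_map (fun w : Fin 1 → ℤ => ![w 0, 0]) (fun u v h => by funext i; fin_cases i; simpa using congrFun h 0) ![a] r
  · ext w
    show (single ![a, b] r).coeff ![w 0, 0] = 0
    rw [coeff_single, Finsupp.single_eq_of_ne]
    intro hw
    exact h (by simpa using (congrFun hw 1).symm)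

lemma homotopy (f : AddMonoidAlgebra A (Fin 2 → ℤ)) :
    L (δ M0 f - δ M1 f + δ M2 f - δ M3 f) = δ E0 (π f) - δ E1 (π f) + δ E2 (π f) - f := by
  induction f using AddMonoidAlgebra.induction_linear with
  | zero => simp
  | add f g hf hg =>
    simp only [map_add, map_sub] at hf hg ⊢
    linear_combination hf + hg
  | single v r =>
    obtain ⟨a, b, rfl⟩ : ∃ a b, v = ![a, b] := ⟨v 0, v 1, by funext i; fin_cases i <;> rfl⟩
    have h0 : M0 *ᵥ ![a, b] = ![0, a, b] := by funext i; fin_cases i <;> simp [Matrix.mulVec, dotProduct]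
    have h1 : M1 *ᵥ ![a, b] = ![a, a, b] := by funext i; fin_cases i <;> simp [Matrix.mulVec, dotProduct]
    have h2 : M2 *ᵥ ![a, b] = ![a, b, b] := by funext i; fin_cases i <;> simp [Matrix.mulVec, dotProduct]
    have h3 : M3 *ᵥ ![a, b] = ![a, b, 0] := by funext i; fin_cases i <;> simp [Matrix.mulVec, dotProduct]
    simp only [δ_single, h0, h1, h2, h3, map_sub, map_add, L_single, π_single, if_true]
    split_ifs with hb
    · subst hb
      have e0 : E0 *ᵥ ![a] = ![0, a] := by funext i; fin_cases i <;> simp [Matrix.mulVec, dotProduct]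
      have e1 : E1 *ᵥ ![a] = ![a, a] := by funext i; fin_cases i <;> simp [Matrix.mulVec, dotProduct]
      have e2 : E2 *ᵥ ![a] = ![a, 0] := by funext i; fin_cases i <;> simp [Matrix.mulVec, dotProduct]
      simp only [δ_single, e0, e1, e2]
    · simp

lemma nilpotent_case (k : ℕ) : ∀ (J : Ideal A), J ^ (2 ^ k) = ⊥ → (∀ a ∈ J, IsNilpotent a) →
    ∀ ξ : (AddMonoidAlgebra A (Fin 2 → ℤ))ˣ, dξ ξ = 1 →
    (ξ : AddMonoidAlgebra A (Fin 2 → ℤ)) - 1 ∈ RingHom.ker (mapRingHom (Fin 2 → ℤ) (Ideal.Quotient.mk J)) →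
    ∃ η, ξ = dη η := by
  induction k with
  | zero =>
    intro J hJ _ ξ _ hξ
    rw [pow_zero, pow_one] at hJ
    subst hJ
    refine ⟨1, Units.ext ?_⟩
    have : (ξ : AddMonoidAlgebra A (Fin 2 → ℤ)) - 1 = 0 := by
      ext v
      exact (mem_ker_iff_coeff _ _).mp hξ v
    rw [sub_eq_zero] at this
    simp [dη, this]
  | succ k ih =>
    intro J hJ hnil ξ hc hξ
    set f := (ξ : AddMonoidAlgebra A (Fin 2 → ℤ)) - 1 with hf
    set K := fun p : ℕ => RingHom.ker (mapRingHom (Fin p → ℤ) (Ideal.Quotient.mk J))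
    set K' := fun p : ℕ => RingHom.ker (mapRingHom (Fin p → ℤ) (Ideal.Quotient.mk (J * J)))
    have hπ : π f ∈ K 1 := by
      rw [mem_ker_iff_coeff]
      intro v
      have := (mem_ker_iff_coeff _ _).mp hξ ![v 0, 0]
      exact this
    let η : (AddMonoidAlgebra A (Fin 1 → ℤ))ˣ := (isNilpotent_of_mem_ker J hnil hπ).isUnit_one_add.unit
    have hη : (η : AddMonoidAlgebra A (Fin 1 → ℤ)) = 1 + π f := IsUnit.unit_spec _
    have hdd : δ M0 f - δ M1 f + δ M2 f - δ M3 f ∈ K' 3 := by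
      have h1 : Units.map (δ M0).toMonoidHom ξ * Units.map (δ M2).toMonoidHom ξ =
          Units.map (δ M1).toMonoidHom ξ * Units.map (δ M3).toMonoidHom ξ := by
        rw [← mul_inv_eq_one, mul_inv, ← hc, dξ]
        ac_rfl
      have h2 := congrArg Units.val h1
      simp only [Units.val_mul, Units.coe_map, RingHom.toMonoidHom_eq_coe, MonoidHom.coe_coe] at h2
      rw [show (ξ : AddMonoidAlgebra A (Fin 2 → ℤ)) = 1 + f by rw [hf]; ring] at h2
      simp only [map_add, map_one] at h2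
      rw [show δ M0 f - δ M1 f + δ M2 f - δ M3 f = δ M1 f * δ M3 f - δ M0 f * δ M2 f by
        linear_combination h2]
      exact sub_mem (mul_mem_ker_sq J (δ_mem _ J hξ) (δ_mem _ J hξ))
        (mul_mem_ker_sq J (δ_mem _ J hξ) (δ_mem _ J hξ))
    have hL : δ E0 (π f) - δ E1 (π f) + δ E2 (π f) - f ∈ K' 2 := by
      rw [← homotopy, mem_ker_iff_coeff]
      intro v
      have := (mem_ker_iff_coeff _ _).mp hdd ![v 0, v 1, 0]
      exact this
    have hnum : (ξ : AddMonoidAlgebra A (Fin 2 → ℤ)) * δ E1 η - δ E0 η * δ E2 η ∈ K' 2 := by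
      rw [show (ξ : AddMonoidAlgebra A (Fin 2 → ℤ)) = 1 + f by rw [hf]; ring, hη]
      simp only [map_add, map_one]
      rw [show (1 + f) * (1 + δ E1 (π f)) - (1 + δ E0 (π f)) * (1 + δ E2 (π f)) =
        f * δ E1 (π f) - δ E0 (π f) * δ E2 (π f) -
          (δ E0 (π f) - δ E1 (π f) + δ E2 (π f) - f) by ring]
      exact sub_mem (sub_mem (mul_mem_ker_sq J hξ (δ_mem _ J hπ))
        (mul_mem_ker_sq J (δ_mem _ J hπ) (δ_mem _ J hπ))) hL
    have hξ' : ((ξ * (dη η)⁻¹ : (AddMonoidAlgebra A (Fin 2 → ℤ))ˣ) : AddMonoidAlgebra A (Fin 2 → ℤ)) - 1 ∈ K' 2 := by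
      set u := (Units.map (δ E0).toMonoidHom η * Units.map (δ E2).toMonoidHom η) with hu
      have : ξ * (dη η)⁻¹ = ξ * Units.map (δ E1).toMonoidHom η * u⁻¹ := by
        simp only [dη, hu, mul_inv, inv_inv]
        ac_rfl
      have hu' : (u : AddMonoidAlgebra A (Fin 2 → ℤ)) = δ E0 η * δ E2 η := rfl
      rw [this]
      have h3 : ((ξ * Units.map (δ E1).toMonoidHom η * u⁻¹ : (AddMonoidAlgebra A (Fin 2 → ℤ))ˣ) :
          AddMonoidAlgebra A (Fin 2 → ℤ)) - 1 =
          ((ξ : AddMonoidAlgebra A (Fin 2 → ℤ)) * δ E1 η - δ E0 η * δ E2 η) *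
            ((u⁻¹ : (AddMonoidAlgebra A (Fin 2 → ℤ))ˣ) : AddMonoidAlgebra A (Fin 2 → ℤ)) := by
        rw [← hu', sub_mul, Units.mul_inv]
        simp [mul_assoc]
      rw [h3]
      exact Ideal.mul_mem_right _ _ hnum
    obtain ⟨η', hη'⟩ := ih (J * J) (by rw [← pow_two, ← pow_mul, ← pow_succ']; exact hJ)
      (fun a ha => hnil a (Ideal.mul_le_left ha)) (ξ * (dη η)⁻¹)
      (by rw [dξ_mul, dξ_inv, hc, dξ_dη, inv_one, one_mul]) hξ'
    exact ⟨η' * η, by rw [dη_mul, ← hη', inv_mul_cancel_right]⟩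

end


/-- For any commutative ring A, the second cohomology of the complex of unit groups A[t₁^±]ˣ → A[t₁^±,
t₂^±]ˣ → A[t₁^±, t₂^±, t₃^±]ˣ → ⋯ attached to the cosimplicial ring of Laurent polynomial rings
(coface maps (t₁, t₂) ↦ (t₂, t₃), (t₁t₂, t₃), (t₁, t₂t₃), (t₁, t₂) and t₁ ↦ t₂, t₁t₂, t₁) vanishes:
every unit ξ of A[t₁^±, t₂^±] with ξ(t₂,t₃) ξ(t₁t₂,t₃)⁻¹ ξ(t₁,t₂t₃) ξ(t₁,t₂)⁻¹ = 1 is of the form
η(t₂) η(t₁t₂)⁻¹ η(t₁) for a unit η of A[t^±]. Laurent polynomial rings are written as group algebras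
of ℤ^p and the coface maps as the maps induced by the corresponding additive maps ℤ^p → ℤ^(p+1). -/
theorem result (A : Type u) [CommRing A] (ξ : (AddMonoidAlgebra A (Fin 2 → ℤ))ˣ)
    (hξ : Units.map (AddMonoidAlgebra.mapDomainRingHom A
          (Matrix.mulVecLin (!![0, 0; 1, 0; 0, 1] : Matrix (Fin 3) (Fin 2) ℤ)).toAddMonoidHom).toMonoidHom ξ *
        (Units.map (AddMonoidAlgebra.mapDomainRingHom A
          (Matrix.mulVecLin (!![1, 0; 1, 0; 0, 1] : Matrix (Fin 3) (Fin 2) ℤ)).toAddMonoidHom).toMonoidHom ξ)⁻¹ *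
        Units.map (AddMonoidAlgebra.mapDomainRingHom A
          (Matrix.mulVecLin (!![1, 0; 0, 1; 0, 1] : Matrix (Fin 3) (Fin 2) ℤ)).toAddMonoidHom).toMonoidHom ξ *
        (Units.map (AddMonoidAlgebra.mapDomainRingHom A
          (Matrix.mulVecLin (!![1, 0; 0, 1; 0, 0] : Matrix (Fin 3) (Fin 2) ℤ)).toAddMonoidHom).toMonoidHom ξ)⁻¹ = 1) :
    ∃ η : (AddMonoidAlgebra A (Fin 1 → ℤ))ˣ,
      ξ = Units.map (AddMonoidAlgebra.mapDomainRingHom A
          (Matrix.mulVecLin (!![0; 1] : Matrix (Fin 2) (Fin 1) ℤ)).toAddMonoidHom).toMonoidHom η *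
        (Units.map (AddMonoidAlgebra.mapDomainRingHom A
          (Matrix.mulVecLin (!![1; 1] : Matrix (Fin 2) (Fin 1) ℤ)).toAddMonoidHom).toMonoidHom η)⁻¹ *
        Units.map (AddMonoidAlgebra.mapDomainRingHom A
          (Matrix.mulVecLin (!![1; 0] : Matrix (Fin 2) (Fin 1) ℤ)).toAddMonoidHom).toMonoidHom η := by
  classical

  have hc : dξ ξ = 1 := hξ
  have h2 : Units.map (δ M0).toMonoidHom ξ * Units.map (δ M2).toMonoidHom ξ =
      Units.map (δ M1).toMonoidHom ξ * Units.map (δ M3).toMonoidHom ξ := by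
    rw [← mul_inv_eq_one, mul_inv, ← hc, dξ]
    ac_rfl
  let z : Fin 2 → ℤ := 0
  let x : AddMonoidAlgebra A (Fin 2 → ℤ) := ξ
  have hP : ∀ P : Ideal A, P.IsPrime →
      x.coeff z ∉ P ∧ ∀ v, v ≠ z → x.coeff v ∈ P := by
    intro P hP
    let q := AddMonoidAlgebra.mapRingHom (Fin 2 → ℤ) (Ideal.Quotient.mk P)
    have hinv : q x * q ((ξ⁻¹ : (AddMonoidAlgebra A (Fin 2 → ℤ))ˣ) : AddMonoidAlgebra A (Fin 2 → ℤ)) = 1 := by
      rw [← map_mul, Units.mul_inv, map_one]
    obtain ⟨v, c, hc0, hqx⟩ := exists_eq_single hinv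
    have h3 : ∀ (M : Matrix (Fin 3) (Fin 2) ℤ),
        AddMonoidAlgebra.mapRingHom (Fin 3 → ℤ) (Ideal.Quotient.mk P) (δ M x) =
          AddMonoidAlgebra.single (M.mulVec v) c := by
      intro M
      rw [← RingHom.comp_apply, show (AddMonoidAlgebra.mapRingHom (Fin 3 → ℤ) (Ideal.Quotient.mk P)).comp (δ M)
        = (δ M).comp q from AddMonoidAlgebra.mapRingHom_comp_mapDomainRingHom _ _, RingHom.comp_apply, hqx,
        δ_single]
    have h4 := congrArg (AddMonoidAlgebra.mapRingHom (Fin 3 → ℤ) (Ideal.Quotient.mk P)) (congrArg Units.val h2)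
    simp only [Units.val_mul, Units.coe_map, RingHom.toMonoidHom_eq_coe, MonoidHom.coe_coe, map_mul] at h4
    rw [h3, h3, h3, h3, AddMonoidAlgebra.single_mul_single, AddMonoidAlgebra.single_mul_single] at h4
    have hv : v = z := by
      rcases (Finsupp.single_eq_single_iff _ _ _ _).mp (congrArg AddMonoidAlgebra.coeff h4) with ⟨h5, -⟩ | ⟨h5, -⟩
      · have e0 := congrFun h5 0
        have e2 := congrFun h5 2
        simp [Matrix.mulVec, dotProduct] at e0 e2
        funext i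
        fin_cases i
        · show v 0 = 0
          omega
        · show v 1 = 0
          omega
      · exact absurd h5 (mul_ne_zero hc0 hc0)
    have hcoef : ∀ w, Ideal.Quotient.mk P (x.coeff w) = (AddMonoidAlgebra.single v c).coeff w := by
      intro w
      rw [← hqx]
      simp [q]
    refine ⟨fun hm => hc0 ?_, fun w hw => ?_⟩
    · have := hcoef z
      rw [Ideal.Quotient.eq_zero_iff_mem.mpr hm, hv, AddMonoidAlgebra.coeff_single, Finsupp.single_eq_same] at this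
      exact this.symm
    · rw [← Ideal.Quotient.eq_zero_iff_mem, hcoef, hv, AddMonoidAlgebra.coeff_single,
        Finsupp.single_eq_of_ne hw]
  have ha : IsUnit (x.coeff z) := by
    by_contra hn
    obtain ⟨m, hm, hmem⟩ := exists_max_ideal_of_mem_nonunits hn
    exact (hP m hm.isPrime).1 hmem
  have hnil : ∀ v, v ≠ z → IsNilpotent (x.coeff v) := by
    intro v hv
    rw [← mem_nilradical, nilradical_eq_sInf, Ideal.mem_sInf]
    exact fun P hPr => (hP P hPr).2 v hv
  let ζ : (AddMonoidAlgebra A (Fin 1 → ℤ))ˣ :=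
    Units.map AddMonoidAlgebra.singleZeroRingHom.toMonoidHom ha.unit
  have hζ : (dη ζ : AddMonoidAlgebra A (Fin 2 → ℤ)) = AddMonoidAlgebra.single z (x.coeff z) := by
    have h : ∀ E : Matrix (Fin 2) (Fin 1) ℤ, Units.map (δ E).toMonoidHom ζ =
        Units.map (AddMonoidAlgebra.singleZeroRingHom (R := A) (M := Fin 2 → ℤ)).toMonoidHom ha.unit := by
      intro E
      apply Units.ext
      show δ E (AddMonoidAlgebra.single 0 (ha.unit : A)) = AddMonoidAlgebra.single 0 (ha.unit : A)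
      rw [δ_single, Matrix.mulVec_zero]
    rw [dη, h, h, h, mul_inv_cancel, one_mul]
    rfl
  let ξ' := ξ * (dη ζ)⁻¹
  have hξ' : (ξ' : AddMonoidAlgebra A (Fin 2 → ℤ)) - 1 =
      (x - AddMonoidAlgebra.single z (x.coeff z)) *
        (((dη ζ)⁻¹ : (AddMonoidAlgebra A (Fin 2 → ℤ))ˣ) : AddMonoidAlgebra A (Fin 2 → ℤ)) := by
    rw [← hζ, sub_mul, Units.mul_inv]
    rfl
  let J : Ideal A := Ideal.span ((x.coeff.support.erase z).image x.coeff : Finset A)
  have hJfg : J.FG := ⟨_, rfl⟩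
  have hJle : J ≤ nilradical A := by
    refine Ideal.span_le.mpr fun a ha => ?_
    simp only [Finset.coe_image, Set.mem_image, Finset.mem_coe, Finset.mem_erase] at ha
    obtain ⟨v, ⟨hv, -⟩, rfl⟩ := ha
    exact hnil v hv
  obtain ⟨k, hk⟩ := hJfg.isNilpotent_iff_le_nilradical.mpr hJle
  have hmem : x - AddMonoidAlgebra.single z (x.coeff z) ∈
      RingHom.ker (AddMonoidAlgebra.mapRingHom (Fin 2 → ℤ) (Ideal.Quotient.mk J)) := by
    rw [mem_ker_iff_coeff]
    intro v
    by_cases hv : v = z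
    · subst hv; simp
    · by_cases hs : x.coeff v = 0
      · simp [hs, Finsupp.single_eq_of_ne hv]
      · rw [AddMonoidAlgebra.coeff_sub, Finsupp.sub_apply, AddMonoidAlgebra.coeff_single, Finsupp.single_eq_of_ne hv, sub_zero]
        exact Ideal.subset_span (Finset.mem_coe.mpr
          (Finset.mem_image_of_mem x.coeff (Finset.mem_erase.mpr ⟨hv, Finsupp.mem_support_iff.mpr hs⟩)))
  obtain ⟨η, hη⟩ := nilpotent_case k J
    (le_bot_iff.mp (le_trans (Ideal.pow_le_pow_right Nat.lt_two_pow_self.le) hk.le)) hJle ξ'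
    (by rw [dξ_mul, dξ_inv, hc, dξ_dη, inv_one, one_mul]) (hξ' ▸ Ideal.mul_mem_right _ _ hmem)
  refine ⟨η * ζ, ?_⟩
  show ξ = dη (η * ζ)
  rw [dη_mul, ← hη, inv_mul_cancel_right]

end Groth.Agent.S13793
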