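import Groth.Statements.S13794
import Mathlib.Tactic.Ring
import Mathlib.Tactic.FieldSimp
import Mathlib.Algebra.Polynomial.Degree.Lemmas
import Mathlib.Tactic.LinearCombination

set_option autoImplicit false
universe u
open Polynomial
open Curves

namespace Groth.Agent.S13794

lemma cubic_coeff_eq {k : Type u} [Field k] (a b c d a' b' c' d' : k)
    (h : C a * X ^ 3 + C b * X ^ 2 + C c * X + C d = C a' * X ^ 3 + C b' * X ^ 2 + C c' * X + C d') :
    a = a' ∧ b = b' ∧ c = c' ∧ d = d' := by
  refine ⟨?_, ?_, ?_, ?_⟩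
  · simpa [coeff_X, coeff_C] using congrArg (fun f => f.coeff 3) h
  · simpa [coeff_X, coeff_C] using congrArg (fun f => f.coeff 2) h
  · simpa [coeff_X, coeff_C] using congrArg (fun f => f.coeff 1) h
  · simpa [coeff_X, coeff_C] using congrArg (fun f => f.coeff 0) h

/-- Let k be a field of characteristic not 3 and β ∈ k. If a line ax + by + c = 0 with a³ ≠ b³ is the
tangent line at a flex point of the affine cubic x³ + y³ + β = 3xy, then β is a cube in k. Here the
line is normalised to b ≠ 0 (the roles of x and y are symmetric) and the flex-tangency is expressed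
by the restriction of the cubic to the line being λ (x − x₀)³. -/
theorem result {k : Type u} [Field k] (h3 : (3 : k) ≠ 0)
    (β a b c : k) (hb : b ≠ 0) (hab : a ^ 3 ≠ b ^ 3) (lam x₀ : k)
    (hflex : (X : k[X]) ^ 3 + (C (-a / b) * X + C (-c / b)) ^ 3 + C β - 3 * X * (C (-a / b) * X + C (-c / b)) =
      C lam * (X - C x₀) ^ 3) :
    ∃ γ : k, β = γ ^ 3 := by
  set p := -a / b with hp
  set q := -c / b with hq
  have hp3 : p ^ 3 + 1 ≠ 0 := by
    intro h
    apply hab
    rw [hp, div_pow] at h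
    field_simp at h
    linear_combination -h
  have hL : (X : k[X]) ^ 3 + (C p * X + C q) ^ 3 + C β - 3 * X * (C p * X + C q) =
      C (1 + p ^ 3) * X ^ 3 + C (3 * p ^ 2 * q - 3 * p) * X ^ 2 + C (3 * p * q ^ 2 - 3 * q) * X + C (q ^ 3 + β) := by
    simp only [map_add, map_sub, map_mul, map_pow, map_ofNat, map_one]
    ring
  have hR : C lam * (X - C x₀) ^ 3 =
      C lam * X ^ 3 + C (-3 * lam * x₀) * X ^ 2 + C (3 * lam * x₀ ^ 2) * X + C (-lam * x₀ ^ 3) := by
    simp only [map_add, map_sub, map_mul, map_pow, map_neg, map_ofNat]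
    ring
  rw [hL, hR] at hflex
  obtain ⟨e3, e2, e1, e0⟩ := cubic_coeff_eq _ _ _ _ _ _ _ _ hflex
  subst e3
  have e2' : p ^ 2 * q - p = -(1 + p ^ 3) * x₀ := mul_left_cancel₀ h3 (by linear_combination e2)
  have e1' : p * q ^ 2 - q = (1 + p ^ 3) * x₀ ^ 2 := mul_left_cancel₀ h3 (by linear_combination e1)
  have hlam : 1 + p ^ 3 ≠ 0 := by rwa [add_comm]
  have key : (p * q - 1) * (q + p ^ 2) = 0 := by
    linear_combination (1 + p ^ 3) * e1' - (p ^ 2 * q - p - (1 + p ^ 3) * x₀) * e2'
  rcases mul_eq_zero.1 key with h | h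
  · have hx : x₀ = 0 :=
      (mul_eq_zero.1 (show (1 + p ^ 3) * x₀ = 0 by linear_combination e2' - p * h)).resolve_left hlam
    refine ⟨-q, ?_⟩
    rw [hx] at e0
    linear_combination e0
  · have hx : x₀ = p :=
      mul_left_cancel₀ hlam (show (1 + p ^ 3) * x₀ = (1 + p ^ 3) * p by linear_combination e2' - p ^ 2 * h)
    refine ⟨-p, ?_⟩
    rw [hx] at e0
    linear_combination e0 - (q ^ 2 - q * p ^ 2 + p ^ 4) * h

end Groth.Agent.S13794
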