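import Groth.Statements.S1380
import Groth.Agent.FlatMor.SplitFinite
import Mathlib.RingTheory.Flat.Basic
import Mathlib.RingTheory.Etale.Basic
import Mathlib.RingTheory.Ideal.GoingUp
import Mathlib.RingTheory.IntegralClosure.IntegralRestrict

set_option autoImplicit false
set_option linter.style.haveILetI false
universe u
open AlgebraicGeometry CategoryTheory CategoryTheory.Limits
open scoped TensorProduct
open FlatMor

namespace Groth.Agent.S1380

/-- Residue extensions of integral maps are algebraic. -/
theorem isAlgebraic_residue {A B : Type u} [CommRing A] [CommRing B] [Algebra A B] [Algebra.IsIntegral A B]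
    (p : Ideal A) [p.IsPrime] (q : PrimeSpectrum B) (hq : q.asIdeal.comap (algebraMap A B) = p) :
    letI := (Ideal.ResidueField.map p q.asIdeal (algebraMap A B) hq.symm).toAlgebra
    Algebra.IsAlgebraic p.ResidueField q.asIdeal.ResidueField := by
  letI := (Ideal.ResidueField.map p q.asIdeal (algebraMap A B) hq.symm).toAlgebra
  refine ⟨fun x => ?_⟩
  have hint : ∀ s : B, IsIntegral p.ResidueField (algebraMap B q.asIdeal.ResidueField s) := by
    intro s
    obtain ⟨P, hP, hPs⟩ := Algebra.IsIntegral.isIntegral (R := A) s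
    refine ⟨P.map (algebraMap A p.ResidueField), hP.map _, ?_⟩
    rw [Polynomial.eval₂_map]
    have h : (algebraMap p.ResidueField q.asIdeal.ResidueField).comp (algebraMap A p.ResidueField) =
        (algebraMap B q.asIdeal.ResidueField).comp (algebraMap A B) := by
      ext r
      simp [RingHom.algebraMap_toAlgebra]
    rw [h, ← Polynomial.hom_eval₂, hPs, map_zero]
  obtain ⟨n, d, -, rfl⟩ := IsFractionRing.div_surjective (A := B ⧸ q.asIdeal) x
  obtain ⟨n, rfl⟩ := Ideal.Quotient.mk_surjective n
  obtain ⟨d, rfl⟩ := Ideal.Quotient.mk_surjective d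
  rw [div_eq_mul_inv]
  exact ((hint n).isAlgebraic).mul ((hint d).isAlgebraic.inv)

/-- A finite subalgebra which separates the primes over `p` and pins down field-valued points over `p`. -/
theorem exists_finite_core {R S : Type u} [CommRing R] [CommRing S] [Algebra R S] [Algebra.IsIntegral R S]
    (p : Ideal R) [p.IsPrime] (hfin : {q : PrimeSpectrum S | q.asIdeal.comap (algebraMap R S) = p}.Finite)
    (hsep : ∀ (q : PrimeSpectrum S) (hq : q.asIdeal.comap (algebraMap R S) = p),
      letI := (Ideal.ResidueField.map p q.asIdeal (algebraMap R S) hq.symm).toAlgebra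
      Module.Finite p.ResidueField (separableClosure p.ResidueField q.asIdeal.ResidueField)) :
    ∃ S0 : Subalgebra R S, Module.Finite R S0 ∧ ∀ (K : Type u) [Field K] (a b : S →+* K),
      (∀ x ∈ S0, a x = b x) → (RingHom.ker a).comap (algebraMap R S) = p → a = b := by
  classical
  let F := {q : PrimeSpectrum S | q.asIdeal.comap (algebraMap R S) = p}
  haveI : Finite F := hfin.to_subtype
  -- separating elements
  have hsepel : ∀ x : {x : F × F // x.1 ≠ x.2}, ∃ s : S, s ∈ x.1.1.1.asIdeal ∧ s ∉ x.1.2.1.asIdeal := by
    rintro ⟨⟨q, q'⟩, hne⟩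
    by_contra h
    push Not at h
    have hlt : q.1.asIdeal < q'.1.asIdeal :=
      lt_of_le_of_ne h fun he => hne (Subtype.ext (PrimeSpectrum.ext he))
    exact (Ideal.IsIntegral.comap_lt_comap (R := R) hlt).ne (q.2.trans q'.2.symm)
  choose sepEl hsep₁ hsep₂ using hsepel
  -- generators of the separable closures
  have hgen : ∀ q : F, ∃ G : Set S, G.Finite ∧ ∀ (K : Type u) [Field K]
      (a b : q.1.asIdeal.ResidueField →+* K),
      a.comp (Ideal.ResidueField.map p q.1.asIdeal (algebraMap R S) q.2.symm) =
        b.comp (Ideal.ResidueField.map p q.1.asIdeal (algebraMap R S) q.2.symm) →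
      (∀ x ∈ G, a (algebraMap S _ x) = b (algebraMap S _ x)) → a = b := by
    intro q
    letI := (Ideal.ResidueField.map p q.1.asIdeal (algebraMap R S) q.2.symm).toAlgebra
    haveI := hsep q.1 q.2
    let Ks := separableClosure p.ResidueField q.1.asIdeal.ResidueField
    obtain ⟨B, hB⟩ := Module.Finite.fg_top (R := p.ResidueField) (M := Ks)
    have hfrac : ∀ x : q.1.asIdeal.ResidueField, ∃ n d : S,
        algebraMap S _ n / algebraMap S _ d = x := by
      intro x
      obtain ⟨n, d, -, h⟩ := IsFractionRing.div_surjective (A := S ⧸ q.1.asIdeal) x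
      obtain ⟨n, rfl⟩ := Ideal.Quotient.mk_surjective n
      obtain ⟨d, rfl⟩ := Ideal.Quotient.mk_surjective d
      exact ⟨n, d, h⟩
    choose num den hnd using hfrac
    refine ⟨(fun x : Ks => num x.1) '' B ∪ (fun x : Ks => den x.1) '' B,
      (B.finite_toSet.image _).union (B.finite_toSet.image _), ?_⟩
    intro K _ a b hp hG
    haveI := isAlgebraic_residue p q.1 q.2
    refine IsPurelyInseparable.injective_comp_algebraMap Ks q.1.asIdeal.ResidueField K ?_
    refine RingHom.ext fun y => ?_
    have hy : y ∈ Submodule.span p.ResidueField (B : Set Ks) := hB ▸ Submodule.mem_top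
    show a y.1 = b y.1
    induction hy using Submodule.span_induction with
    | mem x hx =>
      rw [← hnd x.1, map_div₀, map_div₀, hG _ (Or.inl ⟨x, hx, rfl⟩), hG _ (Or.inr ⟨x, hx, rfl⟩)]
    | zero => simp
    | add x z _ _ hx hz => simp only [AddMemClass.coe_add, map_add, hx, hz]
    | smul c x _ hx =>
      rw [IntermediateField.coe_smul, Algebra.smul_def, map_mul, map_mul, hx]
      exact congrArg (fun t => t * b x.1) (congrArg (fun h => h c) hp)
  choose G hG hGab using hgen
  let S0 := Algebra.adjoin R (Set.range sepEl ∪ ⋃ q : F, G q)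
  refine ⟨S0, ?_, ?_⟩
  · refine Module.Finite.iff_fg.mpr (fg_adjoin_of_finite ?_ fun x _ => Algebra.IsIntegral.isIntegral x)
    exact (Set.finite_range _).union (Set.finite_iUnion hG)
  · intro K _ a b hab ha
    have hR : a.comp (algebraMap R S) = b.comp (algebraMap R S) :=
      RingHom.ext fun r => hab _ (S0.algebraMap_mem r)
    have hb : (RingHom.ker b).comap (algebraMap R S) = p := by
      rw [RingHom.comap_ker, ← hR, ← RingHom.comap_ker, ha]
    let qa : F := ⟨⟨RingHom.ker a, RingHom.ker_isPrime a⟩, ha⟩
    let qb : F := ⟨⟨RingHom.ker b, RingHom.ker_isPrime b⟩, hb⟩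
    have hq : qa = qb := by
      by_contra hne
      have h1 : a (sepEl ⟨(qa, qb), hne⟩) = 0 := hsep₁ ⟨(qa, qb), hne⟩
      rw [hab _ (Algebra.subset_adjoin (Or.inl ⟨_, rfl⟩))] at h1
      exact hsep₂ ⟨(qa, qb), hne⟩ h1
    have hker : RingHom.ker a = RingHom.ker b := congrArg (fun t : F => t.1.asIdeal) hq
    haveI : (RingHom.ker a).IsPrime := RingHom.ker_isPrime a
    have hu : ∀ c : S →+* K, RingHom.ker a = RingHom.ker c →
        (RingHom.ker a).primeCompl ≤ (IsUnit.submonoid K).comap c := fun c hc x hx =>
      isUnit_iff_ne_zero.mpr fun h0 => hx (hc.symm ▸ h0)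
    let a' := Ideal.ResidueField.lift (RingHom.ker a) a le_rfl (hu a rfl)
    let b' := Ideal.ResidueField.lift (RingHom.ker a) b hker.le (hu b hker)
    have h : a' = b' := by
      refine hGab qa K a' b' (Ideal.ResidueField.ringHom_ext (RingHom.ext fun r => ?_)) fun x hx => ?_
      · simp only [RingHom.comp_apply, Ideal.ResidueField.map_algebraMap]
        exact (Ideal.ResidueField.lift_algebraMap _ a le_rfl (hu a rfl) _).trans
          ((congrArg (fun h => h r) hR).trans (Ideal.ResidueField.lift_algebraMap _ b hker.le (hu b hker) _).symm)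
      · exact (Ideal.ResidueField.lift_algebraMap _ a le_rfl (hu a rfl) _).trans
          ((hab x (Algebra.subset_adjoin (Or.inr (Set.mem_iUnion.mpr ⟨qa, hx⟩)))).trans
            (Ideal.ResidueField.lift_algebraMap _ b hker.le (hu b hker) _).symm)
    refine RingHom.ext fun s => ?_
    have := congrArg (fun t => t (algebraMap S _ s)) h
    simpa [a', b', Ideal.ResidueField.lift_algebraMap] using this

set_option maxHeartbeats 400000 in
/-- Let R → S be integral and p a prime of R with only finitely many primes of S above it, such that for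
each of them the separable closure of κ(p) in its residue field is finite over κ(p). Then there are
an étale R-algebra R' and a prime p' of R' over p such that R' ⊗ S is a finite product of
R'-algebras, each integral over R' with exactly one prime over p', whose residue field is purely
inseparable over κ(p'). -/
theorem result {R S : Type u} [CommRing R] [CommRing S] [Algebra R S] [Algebra.IsIntegral R S]
    (p : Ideal R) [p.IsPrime] (hfin : {q : PrimeSpectrum S | q.asIdeal.comap (algebraMap R S) = p}.Finite)
    (hsep : ∀ (q : PrimeSpectrum S) (hq : q.asIdeal.comap (algebraMap R S) = p),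
      letI := (Ideal.ResidueField.map p q.asIdeal (algebraMap R S) hq.symm).toAlgebra
      Module.Finite p.ResidueField (separableClosure p.ResidueField q.asIdeal.ResidueField)) :
    ∃ (R' : Type u) (_ : CommRing R') (_ : Algebra R R') (p' : PrimeSpectrum R'), Algebra.Etale R R' ∧ p'.asIdeal.comap (algebraMap R R') = p ∧
      ∃ (m : ℕ) (A : Fin m → Type u) (_ : ∀ j, CommRing (A j)) (_ : ∀ j, Algebra R' (A j)) (e : R' ⊗[R] S ≃ₐ[R'] (Π j, A j)),
        ∀ j, Algebra.IsIntegral R' (A j) ∧ ∃ (r : PrimeSpectrum (A j)) (hr : r.asIdeal.comap (algebraMap R' (A j)) = p'.asIdeal),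
          (∀ r' : PrimeSpectrum (A j), r'.asIdeal.comap (algebraMap R' (A j)) = p'.asIdeal → r' = r) ∧
          letI := (Ideal.ResidueField.map p'.asIdeal r.asIdeal (algebraMap R' (A j)) hr.symm).toAlgebra
          IsPurelyInseparable p'.asIdeal.ResidueField r.asIdeal.ResidueField := by
  classical
  obtain ⟨S0, _, hS0⟩ := exists_finite_core p hfin hsep
  obtain ⟨R', _, _, hEt, p', hp', m, e, he, hex, hone⟩ :=
    FlatMor.SplitFinite.exists_split_finite R S0 ⟨p, ‹_›⟩
  haveI : Module.Flat R R' := inferInstance
  let T := R' ⊗[R] S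
  let ι : R' ⊗[R] S0 →ₐ[R'] T := Algebra.TensorProduct.map (AlgHom.id R' R') S0.val
  have hι : Function.Injective ι := by
    have h := Module.Flat.lTensor_preserves_injective_linearMap (M := R') S0.val.toLinearMap
      Subtype.val_injective
    exact h
  let e' : Fin m → T := fun j => ι (e j)
  have he' : CompleteOrthogonalIdempotents e' := he.map ι.toRingHom
  -- field valued points of `T` over `p'` in one piece are determined by `R'`
  have key : ∀ (j : Fin m) (K : Type u) [Field K] (a b : T →+* K),
      a.comp (algebraMap R' T) = b.comp (algebraMap R' T) →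
      (RingHom.ker a).comap (algebraMap R' T) = p'.asIdeal → a (e' j) = 1 → b (e' j) = 1 → a = b := by
    intro j K _ a b hab hka hae hbe
    have hR' : ∀ c : T →+* K, (c.comp ι.toRingHom).comp (algebraMap R' (R' ⊗[R] S0)) = c.comp (algebraMap R' T) :=
      fun c => RingHom.ext fun r => congrArg c (ι.commutes r)
    have h0 := hone j K (a.comp ι.toRingHom) (b.comp ι.toRingHom) (by rw [hR', hR', hab])
      (by rw [RingHom.comap_ker, hR', ← RingHom.comap_ker, hka]) hae hbe
    let incl : S →ₐ[R] T := Algebra.TensorProduct.includeRight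
    have hS : a.comp incl.toRingHom = b.comp incl.toRingHom := by
      refine hS0 K _ _ (fun x hx => ?_) ?_
      · have := congrArg (fun h => h (1 ⊗ₜ[R] (⟨x, hx⟩ : S0))) h0
        exact (congrArg a (Algebra.TensorProduct.map_tmul (AlgHom.id R' R') S0.val 1 ⟨x, hx⟩)).symm.trans
          (this.trans (congrArg b (Algebra.TensorProduct.map_tmul (AlgHom.id R' R') S0.val 1 ⟨x, hx⟩)))
      · rw [RingHom.comap_ker, show (a.comp incl.toRingHom).comp (algebraMap R S) =
          (a.comp (algebraMap R' T)).comp (algebraMap R R') from RingHom.ext fun r =>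
            congrArg a ((incl.commutes r).trans (IsScalarTower.algebraMap_apply R R' T r)),
          ← RingHom.comap_ker, ← RingHom.comap_ker, hka, hp']
    refine Algebra.TensorProduct.ringHom_ext ?_ hS
    exact hab
  let A : Fin m → Type u := fun j => T ⧸ Ideal.span {1 - e' j}
  haveI hTint : Algebra.IsIntegral R' T := inferInstance
  have hE : Function.Bijective (AlgHom.pi (R := R') fun j => Ideal.Quotient.mkₐ R' (Ideal.span {1 - e' j})) :=
    he'.bijective_pi
  refine ⟨R', inferInstance, inferInstance, p', hEt, hp', m, A, fun j => inferInstance, fun j => inferInstance,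
    AlgEquiv.ofBijective _ hE, fun j => ?_⟩
  let π : T →ₐ[R'] A j := Ideal.Quotient.mkₐ R' (Ideal.span {1 - e' j})
  haveI hAint : Algebra.IsIntegral R' (A j) := Algebra.IsIntegral.of_surjective π Ideal.Quotient.mk_surjective
  have hπc : π.toRingHom.comp (algebraMap R' T) = algebraMap R' (A j) := π.comp_algebraMap
  have hπe : π (e' j) = 1 := by
    have h : π (1 - e' j) = 0 := Ideal.Quotient.eq_zero_iff_mem.mpr (Ideal.mem_span_singleton_self _)
    rw [map_sub, map_one, sub_eq_zero] at h
    exact h.symm
  -- lying over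
  obtain ⟨r0, hr0, hr0'⟩ := hex j
  have hιint : ι.toRingHom.IsIntegral := by
    refine RingHom.IsIntegral.tower_top (f := algebraMap R' (R' ⊗[R] S0)) _ ?_
    rw [show ι.toRingHom.comp (algebraMap R' (R' ⊗[R] S0)) = algebraMap R' T from ι.comp_algebraMap]
    exact algebraMap_isIntegral_iff.mpr hTint
  obtain ⟨r1, hr1⟩ := hιint.comap_surjective hι r0
  have he1 : e' j ∉ r1.asIdeal := fun h => hr0 (by rw [← hr1]; exact h)
  have hle : RingHom.ker π.toRingHom ≤ r1.asIdeal := by
    show RingHom.ker (Ideal.Quotient.mk _) ≤ _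
    rw [Ideal.mk_ker, Ideal.span_singleton_le_iff_mem]
    refine (r1.2.mem_or_mem (x := e' j) ?_).resolve_left he1
    rw [mul_sub, mul_one, (he'.idem j).eq, sub_self]
    exact zero_mem _
  let r : PrimeSpectrum (A j) := ⟨r1.asIdeal.map π.toRingHom,
    Ideal.map_isPrime_of_surjective Ideal.Quotient.mk_surjective hle⟩
  have hr : r.asIdeal.comap (algebraMap R' (A j)) = p'.asIdeal := by
    have h1 : r.asIdeal.comap π.toRingHom = r1.asIdeal := by
      show (r1.asIdeal.map π.toRingHom).comap π.toRingHom = _
      rw [Ideal.comap_map_of_surjective π.toRingHom Ideal.Quotient.mk_surjective, ← RingHom.ker_eq_comap_bot]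
      exact sup_eq_left.mpr hle
    rw [← hπc, ← Ideal.comap_comap, h1,
      show algebraMap R' T = ι.toRingHom.comp (algebraMap R' (R' ⊗[R] S0)) from ι.comp_algebraMap.symm,
      ← Ideal.comap_comap,
      show r1.asIdeal.comap ι.toRingHom = r0.asIdeal from congrArg PrimeSpectrum.asIdeal hr1]
    exact hr0'
  -- two field valued points of `A j` over `p'` which agree on `R'` are equal
  have key' : ∀ (K : Type u) [Field K] (a b : A j →+* K),
      a.comp (algebraMap R' (A j)) = b.comp (algebraMap R' (A j)) →
      (RingHom.ker a).comap (algebraMap R' (A j)) = p'.asIdeal → a = b := by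
    intro K _ a b hab hka
    have h := key j K (a.comp π.toRingHom) (b.comp π.toRingHom)
      (by rw [RingHom.comp_assoc, RingHom.comp_assoc, hπc]; exact hab)
      (by rw [RingHom.comap_ker, RingHom.comp_assoc, hπc, ← RingHom.comap_ker]; exact hka)
      ((congrArg a hπe).trans (map_one a)) ((congrArg b hπe).trans (map_one b))
    refine RingHom.ext fun x => ?_
    obtain ⟨x, rfl⟩ := Ideal.Quotient.mk_surjective x
    exact congrArg (fun h => h x) h
  haveI : r.asIdeal.IsPrime := r.2
  refine ⟨hAint, r, hr, fun r' hr' => ?_, ?_⟩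
  · letI a1 := (Ideal.ResidueField.map p'.asIdeal r.asIdeal (algebraMap R' (A j)) hr.symm).toAlgebra
    letI a2 := (Ideal.ResidueField.map p'.asIdeal r'.asIdeal (algebraMap R' (A j)) hr'.symm).toAlgebra
    haveI := isAlgebraic_residue p'.asIdeal r hr
    haveI := isAlgebraic_residue p'.asIdeal r' hr'
    let K := AlgebraicClosure p'.asIdeal.ResidueField
    let φ : r.asIdeal.ResidueField →ₐ[p'.asIdeal.ResidueField] K := IsAlgClosed.lift
    let φ' : r'.asIdeal.ResidueField →ₐ[p'.asIdeal.ResidueField] K := IsAlgClosed.lift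
    let a := φ.toRingHom.comp (algebraMap (A j) r.asIdeal.ResidueField)
    let b := φ'.toRingHom.comp (algebraMap (A j) r'.asIdeal.ResidueField)
    have hR : ∀ x, a (algebraMap R' (A j) x) = algebraMap p'.asIdeal.ResidueField K (algebraMap R' _ x) := by
      intro x
      show φ (algebraMap (A j) r.asIdeal.ResidueField (algebraMap R' (A j) x)) = _
      rw [← φ.commutes, RingHom.algebraMap_toAlgebra, Ideal.ResidueField.map_algebraMap]
    have hR' : ∀ x, b (algebraMap R' (A j) x) = algebraMap p'.asIdeal.ResidueField K (algebraMap R' _ x) := by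
      intro x
      show φ' (algebraMap (A j) r'.asIdeal.ResidueField (algebraMap R' (A j) x)) = _
      rw [← φ'.commutes, RingHom.algebraMap_toAlgebra, Ideal.ResidueField.map_algebraMap]
    have hka : RingHom.ker a = r.asIdeal := by
      rw [← RingHom.comap_ker, RingHom.ker_eq_bot_iff_eq_zero _ |>.mpr fun x hx =>
        (map_eq_zero_iff _ φ.toRingHom.injective).mp hx, ← RingHom.ker_eq_comap_bot,
        Ideal.ker_algebraMap_residueField]
    have hkb : RingHom.ker b = r'.asIdeal := by
      rw [← RingHom.comap_ker, RingHom.ker_eq_bot_iff_eq_zero _ |>.mpr fun x hx =>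
        (map_eq_zero_iff _ φ'.toRingHom.injective).mp hx, ← RingHom.ker_eq_comap_bot,
        Ideal.ker_algebraMap_residueField]
    have h := key' K a b (RingHom.ext fun x => (hR x).trans (hR' x).symm) (by rw [hka]; exact hr)
    exact PrimeSpectrum.ext (by rw [← hka, ← hkb, h])
  · letI := (Ideal.ResidueField.map p'.asIdeal r.asIdeal (algebraMap R' (A j)) hr.symm).toAlgebra
    haveI := isAlgebraic_residue p'.asIdeal r hr
    rw [isPurelyInseparable_iff_finSepDegree_eq_one, Field.finSepDegree]
    haveI : Subsingleton (Field.Emb p'.asIdeal.ResidueField r.asIdeal.ResidueField) := ⟨fun φ ψ => by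
      refine AlgHom.coe_ringHom_injective (Ideal.ResidueField.ringHom_ext (key' _ _ _ (RingHom.ext fun x => ?_) ?_))
      · have hx : algebraMap (A j) r.asIdeal.ResidueField (algebraMap R' (A j) x) =
            algebraMap p'.asIdeal.ResidueField r.asIdeal.ResidueField (algebraMap R' _ x) :=
          (Ideal.ResidueField.map_algebraMap p'.asIdeal r.asIdeal (algebraMap R' (A j)) hr.symm x).symm
        show φ (algebraMap (A j) _ (algebraMap R' (A j) x)) = ψ (algebraMap (A j) _ (algebraMap R' (A j) x))
        rw [hx, φ.commutes, ψ.commutes]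
      · refine (congrArg (Ideal.comap (algebraMap R' (A j))) (Ideal.ext fun y => ?_)).trans hr
        rw [RingHom.mem_ker]
        refine (map_eq_zero_iff _ φ.toRingHom.injective).trans ?_
        exact Ideal.algebraMap_residueField_eq_zero⟩
    exact Nat.card_of_subsingleton (IsScalarTower.toAlgHom p'.asIdeal.ResidueField r.asIdeal.ResidueField
      (AlgebraicClosure r.asIdeal.ResidueField))

end Groth.Agent.S1380
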