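import Groth.Statements.S13801
import Mathlib.Data.Nat.Choose.Basic
import Mathlib.Data.Nat.Factorial.BigOperators
import Mathlib.NumberTheory.Padics.PadicVal.Basic

set_option autoImplicit false
open ChowMon

namespace Groth.Agent.S13801

/-- For a prime p and positive natural numbers a_1, ..., a_k with sum n one has v_p(a_1!) + ... +
v_p(a_k!) ≤ v_p(n!), and the inequality is strict whenever some a_i is not divisible by p^(v_p(n)). -/
theorem result {k : ℕ} (p : ℕ) [Fact p.Prime]
    (a : Fin k → ℕ) (ha : ∀ i, 0 < a i) :
    (∑ i, padicValNat p (a i).factorial ≤ padicValNat p (∑ i, a i).factorial) ∧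
      ((∃ i, ¬ p ^ padicValNat p (∑ j, a j) ∣ a i) →
        ∑ i, padicValNat p (a i).factorial < padicValNat p (∑ i, a i).factorial) := by
  classical
  have hp : p.Prime := Fact.out
  have hval : ∀ b : Fin k → ℕ, ∀ s : Finset (Fin k),
      padicValNat p (∏ i ∈ s, (b i).factorial) = ∑ i ∈ s, padicValNat p (b i).factorial := by
    intro b s
    induction s using Finset.induction with
    | empty => simp
    | insert i s hi ih =>
      rw [Finset.prod_insert hi, Finset.sum_insert hi, padicValNat.mul (Nat.factorial_ne_zero _)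
        (Finset.prod_ne_zero_iff.mpr fun j _ => Nat.factorial_ne_zero _), ih]
  have hmono : ∀ s : Finset (Fin k), ∑ i ∈ s, padicValNat p (a i).factorial ≤
      padicValNat p (∑ i ∈ s, a i).factorial := fun s => by
    rw [← hval]
    obtain ⟨q, hq⟩ := Nat.prod_factorial_dvd_factorial_sum s a
    have hq0 : q ≠ 0 := by rintro rfl; rw [mul_zero] at hq; exact Nat.factorial_ne_zero _ hq
    rw [hq, padicValNat.mul (Finset.prod_ne_zero_iff.mpr fun j _ => Nat.factorial_ne_zero _) hq0]
    exact Nat.le_add_right _ _
  refine ⟨hmono _, fun ⟨i, hi⟩ => ?_⟩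
  set n := ∑ j, a j with hn
  have hsum : n = a i + ∑ j ∈ Finset.univ.erase i, a j :=
    (Finset.add_sum_erase _ _ (Finset.mem_univ i)).symm
  set r := ∑ j ∈ Finset.univ.erase i, a j with hr
  have hC : (a i + r).choose (a i) ≠ 0 := (Nat.choose_pos (Nat.le_add_right _ _)).ne'
  have hfac : padicValNat p n.factorial = padicValNat p ((a i + r).choose (a i)) +
      padicValNat p (a i).factorial + padicValNat p r.factorial := by
    rw [hsum, ← Nat.choose_mul_factorial_mul_factorial (Nat.le_add_right (a i) r), Nat.add_sub_cancel_left, padicValNat.mul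
      (mul_ne_zero hC (Nat.factorial_ne_zero _)) (Nat.factorial_ne_zero _),
      padicValNat.mul hC (Nat.factorial_ne_zero _)]
  have hpos : 0 < padicValNat p ((a i + r).choose (a i)) := by
    obtain ⟨m, hm⟩ := Nat.exists_eq_add_of_lt (ha i)
    rw [Nat.zero_add] at hm
    obtain ⟨N, hN⟩ : ∃ N, a i + r = N + 1 := ⟨m + r, by omega⟩
    have key := Nat.add_one_mul_choose_eq N m
    rw [← hm, ← hN] at key
    have h1 := congrArg (padicValNat p) key
    rw [padicValNat.mul (by omega) (Nat.choose_pos (by omega : m ≤ N)).ne',
      padicValNat.mul hC (by omega), ← hsum] at h1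
    have h2 : padicValNat p (a i) < padicValNat p n := by
      by_contra hle
      push Not at hle
      exact hi ((Nat.pow_dvd_pow p hle).trans pow_padicValNat_dvd)
    rw [← hsum]
    omega
  rw [← Finset.add_sum_erase _ _ (Finset.mem_univ i), hfac]
  have := hmono (Finset.univ.erase i)
  rw [← hr] at this
  omega

end Groth.Agent.S13801
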