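import Groth.Statements.S13807
import Groth.Agent.EtaPtLib.Rel
-- import your own Groth.Agent.* helpers here

set_option autoImplicit false
universe u
open EtaPt

namespace Groth.Agent.S13807

open Groth.Agent.EtaPtLib

/-- For a field K the pointwise ring M_η(K) is all of N_η(K) = F(k((0))). Here η is a natural
transformation from the identity of the category of fields to an endofunctor F with F(η_K) bijective
and η_K purely inseparable for every field K, N_η(A) is the product of the F(k(p)) over the primes p
of A with diagonal map t_A, and M_η(A) ⊆ N_η(A) is the subring of elements sent into the range of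
t_R by every ring map from A to a valuation ring R at whose fraction field η is bijective; q_A : A →
M_η(A) is the corestriction of t_A. -/
theorem result (η : EtaPt.FieldEndo.{u}) (K : Type u) [Field K] : η.M K = ⊤ := by
  rw [eq_top_iff]
  intro x _
  refine mem_M_of η fun R _ _ _ hR g => ?_
  let L := FractionRing R
  let g₀ : K →+* L := (algebraMap R L).comp g
  let e := RingEquiv.ofBijective _ hR
  let y : L := e.symm (ev η g₀ x)
  have hy : η.eta L y = ev η g₀ x := e.apply_symm_apply _
  let p : PrimeSpectrum K := kerPt g₀
  haveI := expChar_of_injective_ringHom (algebraMap K p.asIdeal.ResidueField).injective (ringExpChar K)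
  obtain ⟨n, c, hc⟩ := η.exists_pow_mem_range_eta p.asIdeal.ResidueField (x p)
  obtain ⟨a, rfl⟩ := p.asIdeal.algEquivResidueFieldOfField.surjective c
  have hc' : x p ^ ringExpChar p.asIdeal.ResidueField ^ n = η.t K a p := hc.symm
  rw [ringExpChar.eq p.asIdeal.ResidueField (ringExpChar K)] at hc'
  have hN : x ^ ringExpChar K ^ n = η.t K a := by
    funext p'
    obtain rfl : p' = p := Subsingleton.elim _ _
    exact hc'
  haveI := expChar_of_injective_ringHom g₀.injective (ringExpChar K)
  have hy' : y ^ ringExpChar K ^ n = g₀ a := by
    apply hR.1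
    rw [map_pow, hy, ← map_pow, hN, ev_t]
  obtain ⟨r, hr⟩ := exists_algebraMap_eq_of_isIntegralElem L g y
    ⟨Polynomial.X ^ (ringExpChar K ^ n) - Polynomial.C a,
      Polynomial.monic_X_pow_sub_C a (pow_ne_zero _ (expChar_pos K (ringExpChar K)).ne'),
      by simp only [Polynomial.eval₂_sub, Polynomial.eval₂_X_pow, Polynomial.eval₂_C, hy', g₀, sub_self]⟩
  have hra : r ^ ringExpChar K ^ n = g a := IsFractionRing.injective R L (by
    rw [map_pow, hr, hy']; rfl)
  refine ⟨r, fun P => ?_⟩
  haveI := expChar_of_injective_ringHom ((η.eta _).comp ((algebraMap R P.asIdeal.ResidueField).comp g)).injective (ringExpChar K)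
  apply iterateFrobenius_inj (η.obj P.asIdeal.ResidueField) (ringExpChar K) n
  simp only [iterateFrobenius_def]
  rw [← map_pow, hN, ev_t, ← map_pow, ← map_pow, hra]
  rfl

end Groth.Agent.S13807
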