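import Groth.Statements.S13809
import Groth.Agent.EtaPtLib.Rel
-- import your own Groth.Agent.* helpers here

set_option autoImplicit false
universe u
open EtaPt

namespace Groth.Agent.S13809

open Groth.Agent.EtaPtLib

/-- For an integrally closed domain A such that η is bijective at the fraction field of A, the map q_A :
A → M_η(A) is bijective. Here η is a natural transformation from the identity of the category of
fields to an endofunctor F with F(η_K) bijective and η_K purely inseparable for every field K,
N_η(A) is the product of the F(k(p)) over the primes p of A with diagonal map t_A, and M_η(A) ⊆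
N_η(A) is the subring of elements sent into the range of t_R by every ring map from A to a valuation
ring R at whose fraction field η is bijective; q_A : A → M_η(A) is the corestriction of t_A. -/
theorem result (η : EtaPt.FieldEndo.{u}) (A : Type u) [CommRing A] [IsDomain A] [IsIntegrallyClosed A]
    (hA : η.InV A) : Function.Bijective (η.q A) := by
  refine ⟨fun a a' h => ?_, fun x => ?_⟩
  · exact t_injective η (congrArg Subtype.val h)
  · let p : PrimeSpectrum A := ⟨⊥, Ideal.isPrime_bot⟩
    have hb : Function.Bijective (η.eta p.asIdeal.ResidueField) := (inV_iff η A _).1 hA
    obtain ⟨y, hy⟩ := hb.2 ((x : η.N A) p)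
    have hint : (algebraMap A p.asIdeal.ResidueField).IsIntegralElem y :=
      isIntegralElem_of_ev η x.2 hb _ y (by rw [hy, ev_algebraMap])
    obtain ⟨a, rfl⟩ := IsIntegrallyClosed.algebraMap_eq_of_integral hint
    refine ⟨a, Subtype.ext (eq_of_minimalPrimes η (η.t_mem_M A a) x.2 fun p' hp' => ?_)⟩
    obtain rfl : p' = p := PrimeSpectrum.ext
      (by rw [IsDomain.minimalPrimes_eq_singleton_bot] at hp'; exact hp')
    exact hy

end Groth.Agent.S13809
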