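import Groth.Statements.S13810
import Groth.Agent.EtaPtLib.Rel
-- import your own Groth.Agent.* helpers here

set_option autoImplicit false
universe u
open EtaPt

namespace Groth.Agent.S13810

open Groth.Agent.EtaPtLib

/-- For commutative rings A and B, the pair of maps N_η of the two projections restricts to a bijection
from M_η(A × B) onto M_η(A) × M_η(B). Here η is a natural transformation from the identity of the
category of fields to an endofunctor F with F(η_K) bijective and η_K purely inseparable for every
field K, N_η(A) is the product of the F(k(p)) over the primes p of A with diagonal map t_A, and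
M_η(A) ⊆ N_η(A) is the subring of elements sent into the range of t_R by every ring map from A to a
valuation ring R at whose fraction field η is bijective; q_A : A → M_η(A) is the corestriction of
t_A. -/
theorem result (η : EtaPt.FieldEndo.{u}) (A B : Type u) [CommRing A] [CommRing B] :
    Set.BijOn (fun x : η.N (A × B) => (η.Nmap (RingHom.fst A B) x, η.Nmap (RingHom.snd A B) x))
      (η.M (A × B)) ((η.M A : Set (η.N A)) ×ˢ (η.M B : Set (η.N B))) := by
  classical
  have hsurj : ∀ p : PrimeSpectrum (A × B), (∃ q, PrimeSpectrum.comap (RingHom.fst A B) q = p) ∨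
      ∃ q, PrimeSpectrum.comap (RingHom.snd A B) q = p := by
    intro p
    rcases (Ideal.ideal_prod_prime p.asIdeal).1 p.isPrime with ⟨q, hq, h⟩ | ⟨q, hq, h⟩
    · exact Or.inl ⟨⟨q, hq⟩, PrimeSpectrum.ext (by rw [h]; ext z; simp [Ideal.mem_prod])⟩
    · exact Or.inr ⟨⟨q, hq⟩, PrimeSpectrum.ext (by rw [h]; ext z; simp [Ideal.mem_prod])⟩
  refine ⟨fun x hx => ⟨Nmap_mem_M η _ hx, Nmap_mem_M η _ hx⟩, fun x _ y _ h => ?_, ?_⟩
  · funext p
    simp only [Prod.mk.injEq] at h
    rcases hsurj p with ⟨q, rfl⟩ | ⟨q, rfl⟩
    · exact (η.map _).injective (congrFun h.1 q)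
    · exact (η.map _).injective (congrFun h.2 q)
  · rintro ⟨a, b⟩ ⟨ha, hb⟩
    have hne : ∀ q q', PrimeSpectrum.comap (RingHom.fst A B) q ≠
        PrimeSpectrum.comap (RingHom.snd A B) q' := by
      intro q q' h
      have h0 : ((1 : A), (0 : B)) ∈ (PrimeSpectrum.comap (RingHom.snd A B) q').asIdeal := by
        simp
      rw [← h] at h0
      exact q.isPrime.ne_top ((Ideal.eq_top_iff_one _).2 h0)
    have hinj1 : Function.Injective (PrimeSpectrum.comap (RingHom.fst A B)) :=
      PrimeSpectrum.comap_injective_of_surjective _ Prod.fst_surjective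
    have hinj2 : Function.Injective (PrimeSpectrum.comap (RingHom.snd A B)) :=
      PrimeSpectrum.comap_injective_of_surjective _ Prod.snd_surjective
    have : ∀ p : PrimeSpectrum (A × B), ∃ v : η.obj p.asIdeal.ResidueField,
        (∀ q, PrimeSpectrum.comap (RingHom.fst A B) q = p →
          η.Nmap (RingHom.fst A B) (Pi.single p v) q = a q) ∧
        (∀ q, PrimeSpectrum.comap (RingHom.snd A B) q = p →
          η.Nmap (RingHom.snd A B) (Pi.single p v) q = b q) := by
      intro p
      rcases hsurj p with ⟨q, rfl⟩ | ⟨q, rfl⟩
      · obtain ⟨v, hv⟩ := (map_bijective_of_bijective η (resMap (RingHom.fst A B) q)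
          ((RingHom.surjectiveOnStalks_of_surjective Prod.fst_surjective).residueFieldMap_bijective
            _ _ rfl)).2 (a q)
        refine ⟨v, fun q' hq' => ?_, fun q' hq' => absurd hq'.symm (hne q q')⟩
        obtain rfl := hinj1 hq'
        rw [Nmap_apply, Pi.single_eq_same]; exact hv
      · obtain ⟨v, hv⟩ := (map_bijective_of_bijective η (resMap (RingHom.snd A B) q)
          ((RingHom.surjectiveOnStalks_of_surjective Prod.snd_surjective).residueFieldMap_bijective
            _ _ rfl)).2 (b q)
        refine ⟨v, fun q' hq' => absurd hq' (hne q' q), fun q' hq' => ?_⟩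
        obtain rfl := hinj2 hq'
        rw [Nmap_apply, Pi.single_eq_same]; exact hv
    choose v hv using this
    have e1 : η.Nmap (RingHom.fst A B) v = a := funext fun q => by
      rw [← (hv _).1 q rfl, Nmap_apply, Nmap_apply, Pi.single_eq_same]
    have e2 : η.Nmap (RingHom.snd A B) v = b := funext fun q => by
      rw [← (hv _).2 q rfl, Nmap_apply, Nmap_apply, Pi.single_eq_same]
    refine ⟨v, ?_, Prod.ext e1 e2⟩
    intro R _ _ _ hR g
    have hid : IsIdempotentElem (g (1, 0)) := by
      change g (1, 0) * g (1, 0) = g (1, 0)
      rw [← map_mul]; simp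
    rcases IsIdempotentElem.iff_eq_zero_or_one.1 hid with h0 | h1
    · have hg1 : g (0, 1) = 1 := by
        have : g (1, 0) + g (0, 1) = 1 := by rw [← map_add]; simp [← Prod.one_eq_mk]
        rwa [h0, zero_add] at this
      let g₁ : B →+* R :=
        { toFun := fun a => g (0, a)
          map_one' := hg1
          map_zero' := by simp [← Prod.zero_eq_mk]
          map_add' := fun a a' => by rw [← map_add]; simp
          map_mul' := fun a a' => by rw [← map_mul]; simp }
      have : g = g₁.comp (RingHom.snd A B) := RingHom.ext fun z => by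
        change g z = g (0, z.2)
        calc g z = g (z.1, 0) + g (0, z.2) := by rw [← map_add]; simp
          _ = g (1, 0) * g (z.1, 0) + g (0, z.2) := by rw [← map_mul]; simp
          _ = g (0, z.2) := by rw [h0, zero_mul, zero_add]
      rw [this, ← Nmap_comp_apply, e2]
      exact hb R hR g₁
    · let g₁ : A →+* R :=
        { toFun := fun a => g (a, 0)
          map_one' := h1
          map_zero' := by simp [← Prod.zero_eq_mk]
          map_add' := fun a a' => by rw [← map_add]; simp
          map_mul' := fun a a' => by rw [← map_mul]; simp }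
      have : g = g₁.comp (RingHom.fst A B) := RingHom.ext fun z => by
        change g z = g (z.1, 0)
        calc g z = g (1, 0) * g z := by rw [h1, one_mul]
          _ = g (z.1, 0) := by rw [← map_mul]; congr 1; exact Prod.ext (one_mul _) (zero_mul _)
      rw [this, ← Nmap_comp_apply, e1]
      exact ha R hR g₁

end Groth.Agent.S13810
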