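import Groth.Statements.S13813
import Groth.Agent.EtaPtLib.Rel
import Mathlib.FieldTheory.Perfect
-- import your own Groth.Agent.* helpers here

set_option autoImplicit false
universe u
open EtaPt

namespace Groth.Agent.S13813

open Groth.Agent.EtaPtLib

/-- Let R be a valuation ring with fraction field K such that η is bijective at K, or such that every
field of the same characteristic as R at which η is bijective is perfect. Then evaluation at the
generic point maps M_η(R) injectively into F(K), with image exactly the elements of F(K) integral
over R (through η_K composed with R → K); here K is realised as the residue field of R at (0). (The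
published statement assumes nothing about η beyond the standing conditions, and then fails: for the
endofunctor equal to the perfect closure on the fields of characteristic 2 and transcendence degree
at least 2 over the prime field and to the identity on every other field, and R = F_2(s)[t]
localised at (t), the element s^(1/2) of F(K) is integral over R but is the generic component of no
element of M_η(R). This row assumes that η is bijective at Frac R, or that every field of the same
characteristic as R at which η is bijective is perfect; both the identity and the perfect closure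
satisfy this.) Here η is a natural transformation from the identity of the category of fields to an
endofunctor F with F(η_K) bijective and η_K purely inseparable for every field K, N_η(A) is the
product of the F(k(p)) over the primes p of A with diagonal map t_A, and M_η(A) ⊆ N_η(A) is the
subring of elements sent into the range of t_R by every ring map from A to a valuation ring R at
whose fraction field η is bijective; q_A : A → M_η(A) is the corestriction of t_A. -/
theorem result (η : EtaPt.FieldEndo.{u}) (R : Type u) [CommRing R] [IsDomain R] [ValuationRing R]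
    (hη : η.InV R ∨ ∀ (k : Type u) [Field k], ringChar k = ringChar R →
      Function.Bijective (η.eta k) → PerfectField k) :
    Set.InjOn (fun x : η.N R => x ⟨⊥, Ideal.isPrime_bot⟩) (η.M R) ∧
      (fun x : η.N R => x ⟨⊥, Ideal.isPrime_bot⟩) '' (η.M R : Set (η.N R)) =
        {y | ((η.eta (⊥ : Ideal R).ResidueField).comp (algebraMap R (⊥ : Ideal R).ResidueField)).IsIntegralElem y} := by
  let p₀ : PrimeSpectrum R := ⟨⊥, Ideal.isPrime_bot⟩
  refine ⟨fun x hx y hy h => eq_of_minimalPrimes η hx hy fun p hp => ?_,
    Set.Subset.antisymm ?_ fun y hy => ?_⟩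
  · obtain rfl : p = p₀ := PrimeSpectrum.ext
      (by rw [IsDomain.minimalPrimes_eq_singleton_bot] at hp; exact hp)
    exact h
  · rintro _ ⟨x, hx, rfl⟩
    exact isIntegralElem_apply η hx p₀
  have hK : Function.Injective (algebraMap R p₀.asIdeal.ResidueField) := IsFractionRing.injective R _
  obtain ⟨n, c, hc⟩ := η.exists_pow_mem_range_eta p₀.asIdeal.ResidueField y
  set e := ringExpChar p₀.asIdeal.ResidueField with he
  obtain ⟨P, hP, hPy⟩ := hy
  have hc' : IsIntegral R c := by
    have h1 : (toObj η p₀).IsIntegralElem (y ^ e ^ n) := by
      letI := (toObj η p₀).toAlgebra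
      exact IsIntegral.pow (R := R) ⟨P, hP, hPy⟩ _
    rw [← hc] at h1
    obtain ⟨Q, hQ, hQc⟩ := h1
    refine ⟨Q, hQ, (η.eta p₀.asIdeal.ResidueField).injective ?_⟩
    rw [Polynomial.hom_eval₂, map_zero]; exact hQc
  obtain ⟨r, rfl⟩ := IsIntegrallyClosed.algebraMap_eq_of_integral hc'
  have habs : ∀ z : η.obj p₀.asIdeal.ResidueField, z ^ e ^ n = y ^ e ^ n → z = y := by
    intro z hz
    haveI := expChar_of_injective_ringHom (η.eta p₀.asIdeal.ResidueField).injective e
    exact iterateFrobenius_inj (η.obj p₀.asIdeal.ResidueField) e n (by simpa [iterateFrobenius_def] using hz)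
  rcases hη with hR | hperf
  · obtain ⟨c, hcy⟩ := ((inV_iff η R p₀.asIdeal.ResidueField).1 hR).2 y
    have hc2 : IsIntegral R c := by
      refine ⟨P, hP, (η.eta p₀.asIdeal.ResidueField).injective ?_⟩
      rw [Polynomial.hom_eval₂, hcy, map_zero]; exact hPy
    obtain ⟨a, rfl⟩ := IsIntegrallyClosed.algebraMap_eq_of_integral hc2
    exact ⟨η.t R a, η.t_mem_M R a, hcy⟩
  by_cases he1 : e = 1
  · refine ⟨η.t R r, η.t_mem_M R r, ?_⟩
    have : η.eta p₀.asIdeal.ResidueField (algebraMap R p₀.asIdeal.ResidueField r) = y := by
      rw [hc, he1, one_pow, pow_one]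
    exact this
  -- positive characteristic
  haveI hE : ExpChar p₀.asIdeal.ResidueField e := ringExpChar.expChar _
  have heP : e.Prime := by
    rcases expChar_is_prime_or_one p₀.asIdeal.ResidueField e with h | h
    · exact h
    · exact absurd h he1
  haveI := Fact.mk heP
  haveI : CharP p₀.asIdeal.ResidueField e := by
    obtain ⟨q, hq⟩ := CharP.exists p₀.asIdeal.ResidueField
    rcases CharP.char_is_prime_or_zero p₀.asIdeal.ResidueField q with h | rfl
    · exact (char_eq_expChar_iff p₀.asIdeal.ResidueField q e).2 h ▸ hq
    · exact absurd (expChar_one_of_char_zero p₀.asIdeal.ResidueField e) he1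
  haveI : CharP R e := (RingHom.charP_iff _ hK e).2 inferInstance
  have hperfP : ∀ (E : Type u) [Field E] (h : R →+* E), Function.Bijective (η.eta E) →
      Function.Surjective (fun z : E => z ^ e ^ n) := by
    intro E _ h hb
    haveI : CharP E e := by
      obtain ⟨q, hq⟩ := CharP.exists E
      have he0 : (e : E) = 0 := by rw [← map_natCast h, CharP.cast_eq_zero, map_zero]
      have := (CharP.cast_eq_zero_iff E q e).1 he0
      rcases (Nat.dvd_prime heP).1 this with h1 | h1
      · exact absurd h1 (CharP.char_ne_one E q)
      · exact h1 ▸ hq
    haveI : ExpChar E e := ExpChar.prime heP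
    haveI : PerfectField E := hperf E (by rw [ringChar.eq E e, ringChar.eq R e]) hb
    haveI : PerfectRing E e := PerfectField.toPerfectRing e
    intro z
    obtain ⟨w, hw⟩ := (bijective_iterateFrobenius E e (n := n)).2 z
    exact ⟨w, by simpa [iterateFrobenius_def] using hw⟩
  have hroot : ∀ P : PrimeSpectrum R, ∃ z : η.obj P.asIdeal.ResidueField, z ^ e ^ n = η.t R r P :=
    fun P => hperfP _ (toObj η P) (eta_obj_bijective η _) (η.t R r P)
  choose x hx using hroot
  refine ⟨x, ?_, habs _ ((hx p₀).trans hc)⟩
  refine mem_M_of η fun R' _ _ _ hR' g => ?_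
  obtain ⟨w, hw⟩ := hperfP (FractionRing R') ((algebraMap R' _).comp g) hR' (algebraMap R' _ (g r))
  obtain ⟨r', hr'⟩ := exists_algebraMap_eq_of_isIntegralElem (FractionRing R') g w
    ⟨Polynomial.X ^ (e ^ n) - Polynomial.C r, Polynomial.monic_X_pow_sub_C r (pow_ne_zero _ heP.ne_zero),
      by simp only [Polynomial.eval₂_sub, Polynomial.eval₂_X_pow, Polynomial.eval₂_C]
         exact sub_eq_zero.2 hw⟩
  have hr2 : r' ^ e ^ n = g r := IsFractionRing.injective R' (FractionRing R') (by
    rw [map_pow, hr']; exact hw)
  refine ⟨r', fun Q => ?_⟩
  set k := η.obj Q.asIdeal.ResidueField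
  haveI : CharP k e := by
    obtain ⟨q, hq⟩ := CharP.exists k
    have he0 : (e : k) = 0 := by
      rw [← map_natCast ((toObj η Q).comp g), CharP.cast_eq_zero, map_zero]
    rcases (Nat.dvd_prime heP).1 ((CharP.cast_eq_zero_iff k q e).1 he0) with h1 | h1
    · exact absurd h1 (CharP.char_ne_one k q)
    · exact h1 ▸ hq
  haveI : ExpChar k e := ExpChar.prime heP
  apply iterateFrobenius_inj k e n
  simp only [iterateFrobenius_def]
  rw [← map_pow, show x ^ e ^ n = η.t R r from funext hx, ev_t, ← map_pow, ← map_pow, hr2]
  rfl

end Groth.Agent.S13813
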