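import Groth.Statements.S13814
import Groth.Agent.EtaPtLib.Rel
import Groth.Agent.S13813
-- import your own Groth.Agent.* helpers here

set_option autoImplicit false
universe u
open EtaPt

namespace Groth.Agent.S13814

open Groth.Agent.EtaPtLib

/-- Let R be a valuation ring with fraction field K = k((0)) such that η is bijective at K, or such that
every field of the same characteristic as R at which η is bijective is perfect. Then the ring M_η(R)
is again a valuation ring, every element of F(K) is a quotient of generic components of elements of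
M_η(R), and an element of F(K) that is both the generic component of an element of M_η(R) and in the
image of K comes from R. (The published statement assumes nothing about η beyond the standing
conditions, and then fails: for the endofunctor equal to the perfect closure on the fields of
characteristic 2 and transcendence degree at least 2 over the prime field and to the identity on
every other field, and R = F_2(s)[t] localised at (t), neither of the elements (s^(1/2) t, 0) and
(t, 0) of M_η(R) ⊆ F(K) × F_2(s) divides the other, so M_η(R) is not a valuation ring. This row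
assumes that η is bijective at Frac R, or that every field of the same characteristic as R at which
η is bijective is perfect; both the identity and the perfect closure satisfy this.) Here η is a
natural transformation from the identity of the category of fields to an endofunctor F with F(η_K)
bijective and η_K purely inseparable for every field K, N_η(A) is the product of the F(k(p)) over
the primes p of A with diagonal map t_A, and M_η(A) ⊆ N_η(A) is the subring of elements sent into
the range of t_R by every ring map from A to a valuation ring R at whose fraction field η is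
bijective; q_A : A → M_η(A) is the corestriction of t_A. -/
theorem result (η : EtaPt.FieldEndo.{u}) (R : Type u) [CommRing R] [IsDomain R] [ValuationRing R]
    (hη : η.InV R ∨ ∀ (k : Type u) [Field k], ringChar k = ringChar R →
      Function.Bijective (η.eta k) → PerfectField k) :
    IsDomain (η.M R) ∧ PreValuationRing (η.M R) ∧
      (∀ y : η.obj (⊥ : Ideal R).ResidueField, ∃ a b : η.M R,
        (b : η.N R) ⟨⊥, Ideal.isPrime_bot⟩ ≠ 0 ∧
          y * (b : η.N R) ⟨⊥, Ideal.isPrime_bot⟩ = (a : η.N R) ⟨⊥, Ideal.isPrime_bot⟩) ∧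
      (fun x : η.N R => x ⟨⊥, Ideal.isPrime_bot⟩) '' (η.M R : Set (η.N R)) ∩
          Set.range (η.eta (⊥ : Ideal R).ResidueField) =
        Set.range ((η.eta (⊥ : Ideal R).ResidueField).comp (algebraMap R (⊥ : Ideal R).ResidueField)) := by
  obtain ⟨hinj, himg⟩ := Groth.Agent.S13813.result η R hη
  let p₀ : PrimeSpectrum R := ⟨⊥, Ideal.isPrime_bot⟩
  let G : η.M R →+* η.obj p₀.asIdeal.ResidueField := evp η p₀
  have hG : Function.Injective G := fun x y h => Subtype.ext (hinj x.2 y.2 h)
  have hK : Function.Injective (algebraMap R p₀.asIdeal.ResidueField) := IsFractionRing.injective R _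
  have hroot : ∀ (y : η.obj p₀.asIdeal.ResidueField) (r : R) (m : ℕ), m ≠ 0 →
      y ^ m = η.eta _ (algebraMap R p₀.asIdeal.ResidueField r) → ∃ a : η.M R, G a = y := by
    intro y r m hm hy
    have : y ∈ (fun x : η.N R => x p₀) '' (η.M R : Set (η.N R)) := by
      rw [himg]
      exact ⟨Polynomial.X ^ m - Polynomial.C r, Polynomial.monic_X_pow_sub_C r hm, by
        simp only [Polynomial.eval₂_sub, Polynomial.eval₂_X_pow, Polynomial.eval₂_C]
        exact sub_eq_zero.2 hy⟩
    obtain ⟨x, hx, hxy⟩ := this
    exact ⟨⟨x, hx⟩, hxy⟩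
  haveI : Nontrivial (η.M R) := ⟨⟨0, 1, fun h => zero_ne_one (α := η.obj p₀.asIdeal.ResidueField)
    (by rw [← map_zero G, ← map_one G, h])⟩⟩
  refine ⟨hG.isDomain G, ⟨fun a b => ?_⟩, fun y => ?_, Set.Subset.antisymm ?_ ?_⟩
  · by_cases hb : G b = 0
    · exact ⟨0, Or.inl (hG (by rw [map_mul, map_zero, mul_zero, hb]))⟩
    by_cases ha : G a = 0
    · exact ⟨0, Or.inr (hG (by rw [map_mul, map_zero, mul_zero, ha]))⟩
    obtain ⟨n, c, hc⟩ := η.exists_pow_mem_range_eta p₀.asIdeal.ResidueField (G a / G b)
    have hm : ringExpChar p₀.asIdeal.ResidueField ^ n ≠ 0 :=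
      pow_ne_zero _ (expChar_pos p₀.asIdeal.ResidueField _).ne'
    rcases ValuationRing.isInteger_or_isInteger R c with ⟨r, hr⟩ | ⟨r, hr⟩
    · obtain ⟨z, hz⟩ := hroot (G a / G b) r _ hm (by rw [hr]; exact hc.symm)
      exact ⟨z, Or.inr (hG (by rw [map_mul, hz, mul_div_cancel₀ _ hb]))⟩
    · obtain ⟨z, hz⟩ := hroot (G b / G a) r _ hm (by
        rw [hr, map_inv₀, hc, ← inv_pow, inv_div])
      exact ⟨z, Or.inl (hG (by rw [map_mul, hz, mul_div_cancel₀ _ ha]))⟩
  · obtain ⟨n, c, hc⟩ := η.exists_pow_mem_range_eta p₀.asIdeal.ResidueField y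
    obtain ⟨⟨r, s⟩, hrs⟩ := IsLocalization.surj (nonZeroDivisors R) c
    obtain ⟨m, hm⟩ : ∃ m, ringExpChar p₀.asIdeal.ResidueField ^ n = m + 1 :=
      ⟨_, (Nat.succ_pred_eq_of_ne_zero
        (pow_ne_zero _ (expChar_pos p₀.asIdeal.ResidueField _).ne')).symm⟩
    rw [hm] at hc
    let σ := η.eta p₀.asIdeal.ResidueField (algebraMap R p₀.asIdeal.ResidueField s)
    obtain ⟨a, ha⟩ := hroot (y * σ) (r * (s : R) ^ m) (m + 1) m.succ_ne_zero (by
      rw [mul_pow, ← hc, map_mul (algebraMap R _), ← hrs, map_pow, ← map_pow, ← map_mul, mul_assoc,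
        ← pow_succ'])
    refine ⟨a, η.q R s, ?_, ?_⟩
    · change σ ≠ 0
      rw [map_ne_zero]
      exact (map_ne_zero_iff _ hK).2 (nonZeroDivisors.ne_zero s.2)
    · exact ha.symm
  · rintro _ ⟨hy, c, rfl⟩
    rw [himg] at hy
    obtain ⟨P, hP, hPc⟩ := hy
    obtain ⟨r, rfl⟩ := IsIntegrallyClosed.algebraMap_eq_of_integral (R := R) (x := c)
      ⟨P, hP, (η.eta p₀.asIdeal.ResidueField).injective (by
        rw [Polynomial.hom_eval₂, map_zero]; exact hPc)⟩
    exact ⟨r, rfl⟩
  · rintro _ ⟨r, rfl⟩
    exact ⟨⟨η.t R r, η.t_mem_M R r, rfl⟩, ⟨_, rfl⟩⟩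

end Groth.Agent.S13814
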