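import Groth.Statements.S13816
import Groth.Agent.EtaPtLib.Rel
import Mathlib.RingTheory.TensorProduct.Basic
import Mathlib.RingTheory.Flat.Basic
import Mathlib.LinearAlgebra.TensorProduct.Basis
-- import your own Groth.Agent.* helpers here

set_option autoImplicit false
universe u
open EtaPt

namespace Groth.Agent.S13816

open Groth.Agent.EtaPtLib
open scoped TensorProduct

/-- If f : A → B is an integral ring map with Spec(f) surjective, then an element of N_η(A) lies in
M_η(A) if and only if its image under N_η(f) lies in M_η(B). Here η is a natural transformation from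
the identity of the category of fields to an endofunctor F with F(η_K) bijective and η_K purely
inseparable for every field K, N_η(A) is the product of the F(k(p)) over the primes p of A with
diagonal map t_A, and M_η(A) ⊆ N_η(A) is the subring of elements sent into the range of t_R by every
ring map from A to a valuation ring R at whose fraction field η is bijective; q_A : A → M_η(A) is
the corestriction of t_A. -/
theorem result (η : EtaPt.FieldEndo.{u}) {A B : Type u} [CommRing A] [CommRing B] (f : A →+* B)
    (hf : f.IsIntegral) (hs : Function.Surjective (PrimeSpectrum.comap f)) (x : η.N A) :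
    x ∈ η.M A ↔ η.Nmap f x ∈ η.M B := by
  refine ⟨fun hx => Nmap_mem_M η f hx, fun hx => mem_M_of η fun R _ _ _ hR g => ?_⟩
  let L := FractionRing R
  let g₀ : A →+* L := (algebraMap R L).comp g
  obtain ⟨q, hq⟩ := hs (kerPt g₀)
  have hk : RingHom.ker g₀ = (PrimeSpectrum.comap f q).asIdeal := by rw [hq]; rfl
  letI : Algebra (PrimeSpectrum.comap f q).asIdeal.ResidueField q.asIdeal.ResidueField :=
    (resMap f q).toAlgebra
  letI : Algebra (PrimeSpectrum.comap f q).asIdeal.ResidueField L :=
    (liftField (PrimeSpectrum.comap f q) g₀ hk).toAlgebra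
  let T := q.asIdeal.ResidueField ⊗[(PrimeSpectrum.comap f q).asIdeal.ResidueField] L
  haveI : Nontrivial T :=
    Algebra.TensorProduct.nontrivial_of_algebraMap_injective_of_flat_left (PrimeSpectrum.comap f q).asIdeal.ResidueField q.asIdeal.ResidueField L (algebraMap (PrimeSpectrum.comap f q).asIdeal.ResidueField L).injective
  obtain ⟨m, hm⟩ := Ideal.exists_maximal T
  letI : Field (T ⧸ m) := Ideal.Quotient.field m
  let L' := η.obj (T ⧸ m)
  let i : L →+* L' := (η.eta (T ⧸ m)).comp ((Ideal.Quotient.mk m).comp
    (Algebra.TensorProduct.includeRight (R := (PrimeSpectrum.comap f q).asIdeal.ResidueField)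
      (A := q.asIdeal.ResidueField) (B := L)).toRingHom)
  let g' : B →+* L' := ((η.eta (T ⧸ m)).comp ((Ideal.Quotient.mk m).comp
    (Algebra.TensorProduct.includeLeftRingHom :
      q.asIdeal.ResidueField →+* T))).comp (algebraMap B q.asIdeal.ResidueField)
  have hcomm : g'.comp f = i.comp g₀ := RingHom.ext fun a => by
    change η.eta _ (Ideal.Quotient.mk m ((algebraMap B q.asIdeal.ResidueField (f a)) ⊗ₜ (1 : L))) =
      η.eta _ (Ideal.Quotient.mk m ((1 : q.asIdeal.ResidueField) ⊗ₜ g₀ a))
    rw [← resMap_algebraMap, ← liftField_algebraMap (PrimeSpectrum.comap f q) g₀ hk]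
    congr 2
    exact congrArg (fun k : (PrimeSpectrum.comap f q).asIdeal.ResidueField →+* T => k (algebraMap A _ a))
      (Algebra.TensorProduct.includeLeftRingHom_comp_algebraMap
        (R := (PrimeSpectrum.comap f q).asIdeal.ResidueField) (A := q.asIdeal.ResidueField) (B := L))
  obtain ⟨V, hV, hloc⟩ := IsLocalRing.exists_factor_valuationRing (i.comp (algebraMap R L))
  let j : R →+* V := (i.comp (algebraMap R L)).codRestrict V.toSubring hV
  have hg' : ∀ b, ∃ v : V, (v : L') = g' b := fun b => by
    obtain ⟨P, hP, hb⟩ := hf b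
    refine exists_algebraMap_eq_of_isIntegralElem L' (j.comp g) _ ⟨P, hP, ?_⟩
    change Polynomial.eval₂ (i.comp g₀) (g' b) P = 0
    rw [← hcomm, ← Polynomial.hom_eval₂, hb, map_zero]
  let gV : B →+* V := g'.codRestrict V.toSubring fun b => by
    obtain ⟨v, hv⟩ := hg' b; rw [← hv]; exact v.2
  have hgV : gV.comp f = j.comp g := RingHom.ext fun a =>
    Subtype.ext (congrArg (fun k : A →+* L' => k a) hcomm)
  obtain ⟨v, hv⟩ := M_spec η hx V (inV_valuationSubring η (eta_obj_bijective η _) V) gV
  have hv' : ∀ (E : Type u) [Field E] (h : V →+* E), ev η (h.comp (j.comp g)) x = η.eta E (h v) :=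
    fun E _ h => by rw [← hgV, ← RingHom.comp_assoc, ← ev_Nmap, hv]
  obtain ⟨y, hy⟩ := hR.2 (ev η g₀ x)
  have hyv : i y = (v : L') := by
    apply (eta_obj_bijective η _).1
    rw [← eta_natural_apply, hy, ← ev_comp]
    exact hv' L' V.subtype
  have hjinj : Function.Injective j := fun a b h =>
    IsFractionRing.injective R L (i.injective (congrArg Subtype.val h))
  -- descent of membership from `V` to `R`
  have hdesc : ∀ (z : L) (w : V), i z = w → ∃ r : R, algebraMap R L r = z := by
    intro z w hzw
    rcases ValuationRing.isInteger_or_isInteger R z with hz | ⟨r, hr⟩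
    · exact hz
    by_cases hz0 : z = 0
    · exact ⟨0, by rw [map_zero, hz0]⟩
    have hru : IsUnit (j r) := by
      refine IsUnit.of_mul_eq_one w (Subtype.ext ?_)
      change i (algebraMap R L r) * (w : L') = 1
      rw [← hzw, ← map_mul, hr, inv_mul_cancel₀ hz0, map_one]
    haveI : IsLocalHom j := hloc
    obtain ⟨u, rfl⟩ := (isUnit_map_iff j r).1 hru
    refine ⟨↑u⁻¹, ?_⟩
    rw [map_units_inv (algebraMap R L), hr, inv_inv]
  obtain ⟨r, hr⟩ := hdesc y v hyv
  have hjr : j r = v := Subtype.ext (by rw [← hyv, ← hr]; rfl)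
  refine ⟨r, fun P => ?_⟩
  obtain ⟨P', hP'⟩ : P ∈ Set.range (PrimeSpectrum.comap j) := by
    rw [PrimeSpectrum.mem_range_comap_iff]
    refine le_antisymm (fun a ha => ?_) Ideal.le_comap_map
    have key : ∀ z ∈ Ideal.map j P.asIdeal, ∃ p ∈ P.asIdeal, ∃ w, z = j p * w := by
      intro z hz
      induction hz using Submodule.span_induction with
      | mem z hz => obtain ⟨p, hp, rfl⟩ := hz; exact ⟨p, hp, 1, (mul_one _).symm⟩
      | zero => exact ⟨0, zero_mem _, 0, by rw [map_zero, zero_mul]⟩
      | smul c z _ h =>
        obtain ⟨p, hp, w, rfl⟩ := h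
        exact ⟨p, hp, c * w, by rw [smul_eq_mul, mul_left_comm]⟩
      | add z z' _ _ h h' =>
        obtain ⟨p, hp, w, rfl⟩ := h
        obtain ⟨p', hp', w', rfl⟩ := h'
        rcases ValuationRing.dvd_total p p' with ⟨c, rfl⟩ | ⟨c, rfl⟩
        · exact ⟨p, hp, w + j c * w', by rw [map_mul]; ring⟩
        · exact ⟨p', hp', j c * w + w', by rw [map_mul]; ring⟩
    obtain ⟨p, hp, w, hw⟩ := key _ ha
    by_cases hp0 : p = 0
    · rw [hp0, map_zero, zero_mul, ← map_zero j] at hw
      rw [hjinj hw]; exact zero_mem _
    obtain ⟨c, hc⟩ := hdesc (algebraMap R L a / algebraMap R L p) w (by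
      have h1 : i (algebraMap R L a) = i (algebraMap R L p) * (w : L') := congrArg Subtype.val hw
      rw [map_div₀, h1, mul_div_cancel_left₀]
      rw [map_ne_zero, ne_eq, map_eq_zero_iff _ (IsFractionRing.injective R L)]
      exact hp0)
    have : a = c * p := IsFractionRing.injective R L (by
      rw [map_mul, hc, div_mul_cancel₀]
      rw [ne_eq, map_eq_zero_iff _ (IsFractionRing.injective R L)]
      exact hp0)
    rw [this]; exact P.asIdeal.mul_mem_left c hp
  subst hP'
  apply (η.map (resMap j P')).injective
  rw [← ev_comp, eta_natural_apply, ← RingHom.comp_assoc,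
    show (resMap j P').comp (algebraMap R _) = (algebraMap V P'.asIdeal.ResidueField).comp j from
      RingHom.ext fun a => resMap_algebraMap j P' a, RingHom.comp_assoc, hv', resMap_algebraMap, hjr]

end Groth.Agent.S13816
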