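import Groth.Statements.S13821
import Groth.Agent.EtaPtLib.Rel
-- import your own Groth.Agent.* helpers here

set_option autoImplicit false
universe u
open EtaPt

namespace Groth.Agent.S13821

open Groth.Agent.EtaPtLib

/-- Let A and B have finitely many minimal prime ideals and let f : A → B, g : B → C be ring maps with
Spec(f) and Spec(g) surjective. If q_{B/A} and q_{C/B} are bijective then so is q_{C/A}; and if g is
injective and q_{C/A} is bijective then q_{B/A} is bijective. Here η is a natural transformation
from the identity of the category of fields to an endofunctor F with F(η_K) bijective and η_K purely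
inseparable for every field K, N_η(A) is the product of the F(k(p)) over the primes p of A with
diagonal map t_A, and M_η(A) ⊆ N_η(A) is the subring of elements sent into the range of t_R by every
ring map from A to a valuation ring R at whose fraction field η is bijective; q_A : A → M_η(A) is
the corestriction of t_A. For a ring map f : A → B, (B/A)_η ⊆ B denotes the subring of elements b
with t_B(b) in N_η(f)(M_η(A)) (the image in B of the fibre product of M_η(A) and B over M_η(B)), and
q_{B/A} : A → (B/A)_η the corestriction of f. (The published statement assumes finitely many minimal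
primes only for A; this row also assumes it for B, under which the relative ring of g is
introduced.) -/
theorem result (η : EtaPt.FieldEndo.{u}) {A B C : Type u} [CommRing A] [CommRing B] [CommRing C]
    (hA : (minimalPrimes A).Finite) (hB : (minimalPrimes B).Finite) (f : A →+* B) (g : B →+* C)
    (hf : Function.Surjective (PrimeSpectrum.comap f)) (hg : Function.Surjective (PrimeSpectrum.comap g)) :
    (Function.Bijective (η.qRel f) → Function.Bijective (η.qRel g) → Function.Bijective (η.qRel (g.comp f))) ∧
      (Function.Injective g → Function.Bijective (η.qRel (g.comp f)) → Function.Bijective (η.qRel f)) := by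
  have hgf : Function.Surjective (PrimeSpectrum.comap (g.comp f)) := by
    rw [PrimeSpectrum.comap_comp]; exact hf.comp hg
  simp only [qRel_bijective_iff]
  constructor
  · rintro ⟨fi, fr⟩ ⟨gi, gr⟩
    refine ⟨gi.comp fi, fun c hc => ?_⟩
    obtain ⟨x, hx, hxc⟩ := (mem_rel_iff η _ c).1 hc
    rw [← Nmap_comp_apply] at hxc
    obtain ⟨b, rfl⟩ := gr c ⟨η.Nmap f x, Nmap_mem_M η f hx, hxc⟩
    obtain ⟨a, rfl⟩ := fr b ⟨x, hx, Nmap_injective η hg (hxc.trans (η.Nmap_t_apply g b).symm)⟩
    exact ⟨a, rfl⟩
  · rintro gi ⟨hi, hr⟩
    refine ⟨fun a a' e => hi (congrArg g e), fun b hb => ?_⟩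
    obtain ⟨a, ha⟩ := hr (g b) (map_rel_mem η f (g.comp f) (RingHom.id A) g rfl hb)
    exact ⟨a, gi ha⟩

end Groth.Agent.S13821
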