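import Groth.Statements.S13822
import Groth.Agent.EtaPtLib.Rel
import Mathlib.RingTheory.Flat.FaithfullyFlat.Basic
import Mathlib.LinearAlgebra.TensorProduct.RightExactness
-- import your own Groth.Agent.* helpers here

set_option autoImplicit false
universe u
open scoped TensorProduct
open EtaPt

namespace Groth.Agent.S13822

open Groth.Agent.EtaPtLib

/-- Let A → A' be faithfully flat with A and A' having finitely many minimal prime ideals, and B an
A-algebra with Spec B → Spec A surjective; if q_{(A' ⊗ B)/A'} is bijective then q_{B/A} is
bijective. Here η is a natural transformation from the identity of the category of fields to an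
endofunctor F with F(η_K) bijective and η_K purely inseparable for every field K, N_η(A) is the
product of the F(k(p)) over the primes p of A with diagonal map t_A, and M_η(A) ⊆ N_η(A) is the
subring of elements sent into the range of t_R by every ring map from A to a valuation ring R at
whose fraction field η is bijective; q_A : A → M_η(A) is the corestriction of t_A. For a ring map f
: A → B, (B/A)_η ⊆ B denotes the subring of elements b with t_B(b) in N_η(f)(M_η(A)) (the image in B
of the fibre product of M_η(A) and B over M_η(B)), and q_{B/A} : A → (B/A)_η the corestriction of f. -/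
theorem result (η : EtaPt.FieldEndo.{u}) (A A' B : Type u) [CommRing A] [CommRing A'] [CommRing B]
    [Algebra A A'] [Algebra A B] [Module.FaithfullyFlat A A']
    (hA : (minimalPrimes A).Finite) (hA' : (minimalPrimes A').Finite)
    (hs : Function.Surjective (PrimeSpectrum.comap (algebraMap A B)))
    (h : Function.Bijective (η.qRel (Algebra.TensorProduct.includeLeftRingHom : A' →+* A' ⊗[A] B))) :
    Function.Bijective (η.qRel (algebraMap A B)) := by
  rw [qRel_bijective_iff] at h ⊢
  obtain ⟨hinj, hrange⟩ := h
  let il : A' →+* A' ⊗[A] B := Algebra.TensorProduct.includeLeftRingHom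
  let ir : B →+* A' ⊗[A] B :=
    (Algebra.TensorProduct.includeRight (R := A) (A := A') (B := B)).toRingHom
  have hcomm : il.comp (algebraMap A A') = ir.comp (algebraMap A B) :=
    ((Algebra.TensorProduct.includeRight (R := A) (A := A') (B := B)).comp_algebraMap).symm
  constructor
  · intro a a' e
    have h1 : il (algebraMap A A' a) = il (algebraMap A A' a') :=
      ((congrArg (fun k : A →+* A' ⊗[A] B => k a) hcomm).trans (congrArg ir e)).trans
        (congrArg (fun k : A →+* A' ⊗[A] B => k a') hcomm).symm
    have h2 : algebraMap A A' a = algebraMap A A' a' := hinj h1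
    have h3 : (1 : A') ⊗ₜ[A] (a - a') = 0 := by
      apply (TensorProduct.rid A A').injective
      rw [map_zero, TensorProduct.rid_tmul, ← Algebra.algebraMap_eq_smul_one, map_sub, h2, sub_self]
    exact sub_eq_zero.1 ((Module.FaithfullyFlat.one_tmul_eq_zero_iff (R := A) (M := A) (A := A') (m := a - a')).1 h3)
  · intro b hb
    have hb' : ir b ∈ η.rel il := map_rel_mem η (algebraMap A B) il (algebraMap A A') ir hcomm hb
    obtain ⟨a', ha'⟩ := hrange (ir b) hb'
    let p : B →ₗ[A] B ⧸ LinearMap.range (Algebra.linearMap A B) := Submodule.mkQ _
    have h2 : p 1 = 0 := (Submodule.Quotient.mk_eq_zero _).2 ⟨1, map_one (algebraMap A B)⟩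
    have h3 : LinearMap.lTensor A' p (a' ⊗ₜ[A] (1 : B)) = LinearMap.lTensor A' p ((1 : A') ⊗ₜ[A] b) :=
      congrArg (LinearMap.lTensor A' p) ha'
    rw [LinearMap.lTensor_tmul, LinearMap.lTensor_tmul, h2, TensorProduct.tmul_zero] at h3
    obtain ⟨a, ha⟩ := (Submodule.Quotient.mk_eq_zero _).1
      ((Module.FaithfullyFlat.one_tmul_eq_zero_iff (R := A) (M := B ⧸ LinearMap.range (Algebra.linearMap A B)) (A := A') (m := p b)).1 h3.symm)
    exact ⟨a, ha⟩

end Groth.Agent.S13822
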