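import Groth.Statements.S13823
import Groth.Agent.EtaPtLib.Rel
import Mathlib.RingTheory.Flat.FaithfullyFlat.Algebra
import Mathlib.RingTheory.Flat.TorsionFree
-- import your own Groth.Agent.* helpers here

set_option autoImplicit false
universe u
open EtaPt

namespace Groth.Agent.S13823

open Groth.Agent.EtaPtLib

/-- Let A → A' be faithfully flat with A and A' having finitely many minimal prime ideals, and let Ā, Ā'
be the integral closures of A, A' in their total rings of fractions; if q_{Ā'/A'} is bijective then
q_{Ā/A} is bijective. Here η is a natural transformation from the identity of the category of fields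
to an endofunctor F with F(η_K) bijective and η_K purely inseparable for every field K, N_η(A) is
the product of the F(k(p)) over the primes p of A with diagonal map t_A, and M_η(A) ⊆ N_η(A) is the
subring of elements sent into the range of t_R by every ring map from A to a valuation ring R at
whose fraction field η is bijective; q_A : A → M_η(A) is the corestriction of t_A. For a ring map f
: A → B, (B/A)_η ⊆ B denotes the subring of elements b with t_B(b) in N_η(f)(M_η(A)) (the image in B
of the fibre product of M_η(A) and B over M_η(B)), and q_{B/A} : A → (B/A)_η the corestriction of f. -/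
theorem result (η : EtaPt.FieldEndo.{u}) (A A' : Type u) [CommRing A] [CommRing A'] [Algebra A A'] [Module.FaithfullyFlat A A']
    (hA : (minimalPrimes A).Finite) (hA' : (minimalPrimes A').Finite)
    (h : Function.Bijective (η.qRel (algebraMap A' (integralClosure A' (FractionRing A'))))) :
    Function.Bijective (η.qRel (algebraMap A (integralClosure A (FractionRing A)))) := by
  rw [qRel_bijective_iff] at h ⊢
  obtain ⟨-, hrange⟩ := h
  have hreg : nonZeroDivisors A ≤ (nonZeroDivisors A').comap (algebraMap A A') := fun s hs => by
    refine Submonoid.mem_comap.2 (mem_nonZeroDivisors_iff_right.2 fun z hz => ?_)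
    exact (Module.Flat.isSMulRegular_of_nonZeroDivisors (M := A') hs)
      (by change s • z = s • (0 : A'); rw [Algebra.smul_def, mul_comm, hz, smul_zero])
  let ι : FractionRing A →+* FractionRing A' := IsLocalization.map _ (algebraMap A A') hreg
  have hι : ι.comp (algebraMap A (FractionRing A)) =
      (algebraMap A' (FractionRing A')).comp (algebraMap A A') := IsLocalization.map_comp _
  have hinj : Function.Injective (algebraMap A (integralClosure A (FractionRing A))) :=
    fun a a' e => IsFractionRing.injective A (FractionRing A) (congrArg Subtype.val e)
  refine ⟨hinj, fun b hb => ?_⟩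
  have hint : ∀ c : integralClosure A (FractionRing A),
      ι c.1 ∈ integralClosure A' (FractionRing A') := fun c => by
    obtain ⟨P, hP, hc⟩ := c.2
    refine ⟨P.map (algebraMap A A'), hP.map _, ?_⟩
    rw [Polynomial.eval₂_map, ← hι, ← Polynomial.hom_eval₂, hc, map_zero]
  let g : integralClosure A (FractionRing A) →+* integralClosure A' (FractionRing A') :=
    (ι.comp (integralClosure A (FractionRing A)).val.toRingHom).codRestrict
      (integralClosure A' (FractionRing A')).toSubring hint
  obtain ⟨a', ha'⟩ := hrange _ (map_rel_mem η (algebraMap A (integralClosure A (FractionRing A)))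
    (algebraMap A' (integralClosure A' (FractionRing A'))) (algebraMap A A') g
    (RingHom.ext fun a => Subtype.ext (congrArg (fun k : A →+* FractionRing A' => k a) hι).symm) hb)
  obtain ⟨⟨c, s⟩, hcs⟩ := IsLocalization.surj (nonZeroDivisors A) (b : FractionRing A)
  have h1 : algebraMap A' (FractionRing A') (algebraMap A A' c) =
      algebraMap A' (FractionRing A') (algebraMap A A' s * a') := by
    have e1 := congrArg (fun k : A →+* FractionRing A' => k c) hι
    have e2 := congrArg (fun k : A →+* FractionRing A' => k s) hι
    have e3 : algebraMap A' (FractionRing A') a' = ι b.1 := congrArg Subtype.val ha'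
    rw [map_mul, e3]
    simp only [RingHom.comp_apply] at e1 e2
    rw [← e1, ← e2, ← map_mul, mul_comm, hcs]
  have h2 : c ∈ Ideal.comap (algebraMap A A') (Ideal.map (algebraMap A A') (Ideal.span {(s : A)})) := by
    rw [Ideal.mem_comap, IsFractionRing.injective A' (FractionRing A') h1]
    exact Ideal.mul_mem_right _ _ (Ideal.mem_map_of_mem _ (Ideal.mem_span_singleton_self _))
  rw [Ideal.comap_map_eq_self_of_faithfullyFlat, Ideal.mem_span_singleton'] at h2
  obtain ⟨d, rfl⟩ := h2
  refine ⟨d, Subtype.ext ?_⟩
  refine ((IsLocalization.map_units (FractionRing A) s).mul_left_injective ?_)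
  change algebraMap A (FractionRing A) d * algebraMap A _ s = (b : FractionRing A) * algebraMap A _ s
  rw [← map_mul]
  exact hcs.symm

end Groth.Agent.S13823
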