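import Groth.Statements.S13827
import Groth.Agent.EtaPtLib.Away
import Mathlib.RingTheory.LocalProperties.Reduced
-- import your own Groth.Agent.* helpers here

set_option autoImplicit false
universe u
open EtaPt

namespace Groth.Agent.S13827

open Groth.Agent.EtaPtLib

/-- For a normal ring A (every localization at a prime is an integrally closed domain) with finitely
many minimal prime ideals such that η is bijective at the residue field of every minimal prime, q_A
: A → M_η(A) is bijective. Here η is a natural transformation from the identity of the category of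
fields to an endofunctor F with F(η_K) bijective and η_K purely inseparable for every field K,
N_η(A) is the product of the F(k(p)) over the primes p of A with diagonal map t_A, and M_η(A) ⊆
N_η(A) is the subring of elements sent into the range of t_R by every ring map from A to a valuation
ring R at whose fraction field η is bijective; q_A : A → M_η(A) is the corestriction of t_A. -/
theorem result (η : EtaPt.FieldEndo.{u}) (A : Type u) [CommRing A] (hn : EGA4.IsNormalRing A)
    (hA : (minimalPrimes A).Finite)
    (hη : ∀ p : PrimeSpectrum A, p.asIdeal ∈ minimalPrimes A → Function.Bijective (η.eta p.asIdeal.ResidueField)) :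
    Function.Bijective (η.q A) := by
  refine ⟨fun a a' e => ?_, fun x => ?_⟩
  · haveI : IsReduced A := isReduced_ofLocalizationMaximal A fun m _ => by
      haveI := (hn m).1; infer_instance
    exact t_injective η (congrArg Subtype.val e)
  have key : ∀ p : PrimeSpectrum A, p.asIdeal ∈ minimalPrimes A →
      ∃ a : A, η.t A a p = (x : η.N A) p := by
    intro p hp
    obtain ⟨y, hy⟩ := (hη p hp).2 ((x : η.N A) p)
    have hint : (algebraMap A p.asIdeal.ResidueField).IsIntegralElem y :=
      isIntegralElem_of_ev η x.2 (hη p hp) _ y (by rw [hy, ev_algebraMap])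
    let J : Ideal A :=
      { carrier := {c | algebraMap A p.asIdeal.ResidueField c * y ∈
          (algebraMap A p.asIdeal.ResidueField).range}
        add_mem' := fun {c d} hc hd => by
          change algebraMap A p.asIdeal.ResidueField (c + d) * y ∈ (algebraMap A p.asIdeal.ResidueField).range; rw [map_add, add_mul]; exact add_mem hc hd
        zero_mem' := by change algebraMap A p.asIdeal.ResidueField 0 * y ∈ (algebraMap A p.asIdeal.ResidueField).range; rw [map_zero, zero_mul]; exact zero_mem _
        smul_mem' := fun e c hc => by
          change algebraMap A p.asIdeal.ResidueField (e * c) * y ∈ (algebraMap A p.asIdeal.ResidueField).range; rw [map_mul, mul_assoc]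
          exact mul_mem ⟨e, rfl⟩ hc }
    have hJ : J = ⊤ := by
      by_contra hne
      obtain ⟨m, hm, hJm⟩ := Ideal.exists_le_maximal J hne
      by_cases hpm : p.asIdeal ≤ m
      swap
      · obtain ⟨s, hsp, hsm⟩ := Set.not_subset.1 hpm
        refine hsm (hJm ?_)
        change algebraMap A p.asIdeal.ResidueField s * y ∈ (algebraMap A p.asIdeal.ResidueField).range
        rw [Ideal.algebraMap_residueField_eq_zero.2 hsp, zero_mul]; exact zero_mem _
      haveI := (hn m).1
      haveI := (hn m).2
      let ι : Localization.AtPrime m →+* p.asIdeal.ResidueField :=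
        IsLocalization.lift (M := m.primeCompl) (g := algebraMap A p.asIdeal.ResidueField) fun s =>
          isUnit_iff_ne_zero.2 fun h => s.2 (hpm (Ideal.algebraMap_residueField_eq_zero.1 h))
      have hι : Function.Injective ι := by
        rw [injective_iff_map_eq_zero]
        intro z hz
        obtain ⟨⟨a, s⟩, rfl⟩ := IsLocalization.mk'_surjective m.primeCompl z
        rw [IsLocalization.lift_mk'_spec, mul_zero] at hz
        have ha : a ∈ p.asIdeal := Ideal.algebraMap_residueField_eq_zero.1 hz
        let P₀ : Ideal A := Ideal.comap (algebraMap A (Localization.AtPrime m)) ⊥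
        have hP₀ : P₀.IsPrime := Ideal.IsPrime.comap _
        have hle : P₀ ≤ p.asIdeal := fun c hc => Ideal.algebraMap_residueField_eq_zero.1 (by
          rw [← IsLocalization.lift_eq (M := m.primeCompl) (S := Localization.AtPrime m) _ c]
          rw [show algebraMap A (Localization.AtPrime m) c = 0 from hc]
          exact map_zero ι)
        have ha0 : algebraMap A (Localization.AtPrime m) a = 0 := hp.2 ⟨hP₀, bot_le⟩ hle ha
        exact IsLocalization.mk'_eq_zero_iff _ _ |>.2
          ((IsLocalization.map_eq_zero_iff m.primeCompl _ _).1 ha0)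
      let F := FractionRing (Localization.AtPrime m)
      let ιF : F →+* p.asIdeal.ResidueField := IsFractionRing.lift hι
      have hιF : ιF.comp ((algebraMap (Localization.AtPrime m) F).comp (algebraMap A (Localization.AtPrime m))) =
          algebraMap A p.asIdeal.ResidueField := RingHom.ext fun c => by
        change ιF (algebraMap (Localization.AtPrime m) F (algebraMap A (Localization.AtPrime m) c)) = _
        rw [IsFractionRing.lift_algebraMap]
        exact IsLocalization.lift_eq _ c
      obtain ⟨⟨n, ⟨d, hd⟩⟩, hnd⟩ := IsLocalization.surj (nonZeroDivisors (A ⧸ p.asIdeal)) y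
      obtain ⟨n, rfl⟩ := Ideal.Quotient.mk_surjective n
      obtain ⟨d, rfl⟩ := Ideal.Quotient.mk_surjective d
      simp only [Ideal.algebraMap_quotient_residueField_mk] at hnd
      have hd0 : algebraMap A p.asIdeal.ResidueField d ≠ 0 := fun h => by
        refine (mem_nonZeroDivisors_iff_ne_zero.1 hd) ?_
        exact Ideal.Quotient.eq_zero_iff_mem.2 (Ideal.algebraMap_residueField_eq_zero.1 h)
      let g := (algebraMap (Localization.AtPrime m) F).comp (algebraMap A (Localization.AtPrime m))
      let w : F := g n / g d
      have hw : ιF w = y := by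
        rw [map_div₀, ← RingHom.comp_apply ιF g, ← RingHom.comp_apply ιF g, hιF, ← hnd,
          mul_div_cancel_right₀ _ hd0]
      obtain ⟨P, hP, hPy⟩ := hint
      obtain ⟨c, hc⟩ := IsIntegrallyClosed.algebraMap_eq_of_integral
        (R := Localization.AtPrime m) (x := w) ⟨P.map (algebraMap A _), hP.map _, ιF.injective (by
          rw [Polynomial.eval₂_map, Polynomial.hom_eval₂, hιF, hw, hPy, map_zero])⟩
      obtain ⟨⟨a, s⟩, hs⟩ := IsLocalization.surj m.primeCompl c
      refine s.2 (hJm ⟨a, ?_⟩)
      have h := congrArg ι hs
      rw [map_mul, IsLocalization.lift_eq, IsLocalization.lift_eq] at h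
      rw [← h, mul_comm, ← hw, ← hc, IsFractionRing.lift_algebraMap]
    have h1 : (1 : A) ∈ J := hJ ▸ Submodule.mem_top
    obtain ⟨a, ha⟩ := h1
    rw [map_one, one_mul] at ha
    exact ⟨a, (congrArg (η.eta _) ha).trans hy⟩
  choose a ha using key
  haveI : Finite {p : PrimeSpectrum A // p.asIdeal ∈ minimalPrimes A} :=
    (hA.preimage fun _ _ _ _ h => PrimeSpectrum.ext h).to_subtype
  have hco : Pairwise (Function.onFun IsCoprime fun p : {p : PrimeSpectrum A // p.asIdeal ∈ minimalPrimes A} =>
      p.1.asIdeal) := by
    intro p q hpq
    rw [Function.onFun, Ideal.isCoprime_iff_sup_eq]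
    by_contra hne
    obtain ⟨m, hm, hle⟩ := Ideal.exists_le_maximal _ hne
    haveI := (hn m).1
    let P₀ : Ideal A := Ideal.comap (algebraMap A (Localization.AtPrime m)) ⊥
    have hP₀ : P₀.IsPrime := Ideal.IsPrime.comap _
    have key2 : ∀ r : {p : PrimeSpectrum A // p.asIdeal ∈ minimalPrimes A}, r.1.asIdeal ≤ m →
        r.1.asIdeal = P₀ := fun r hr => by
      have hle' : P₀ ≤ r.1.asIdeal := fun c hc => by
        obtain ⟨s, hs⟩ := (IsLocalization.map_eq_zero_iff m.primeCompl _ c).1 hc
        exact (r.1.isPrime.mem_or_mem (hs.symm ▸ zero_mem _)).resolve_left fun h => s.2 (hr h)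
      exact le_antisymm (r.2.2 ⟨hP₀, bot_le⟩ hle') hle'
    exact hpq (Subtype.ext (PrimeSpectrum.ext
      ((key2 p (le_sup_left.trans hle)).trans (key2 q (le_sup_right.trans hle)).symm)))
  obtain ⟨b, hb⟩ := Ideal.pi_quotient_surjective hco fun p => Ideal.Quotient.mk _ (a p.1 p.2)
  refine ⟨b, Subtype.ext (eq_of_minimalPrimes η (η.t_mem_M A b) x.2 fun p hp => ?_)⟩
  rw [← ha p hp]
  change η.eta _ (algebraMap A _ b) = η.eta _ (algebraMap A _ (a p hp))
  rw [← sub_eq_zero, ← map_sub, ← map_sub,
    Ideal.algebraMap_residueField_eq_zero.2 (Ideal.Quotient.eq.1 (hb ⟨p, hp⟩)), map_zero]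

end Groth.Agent.S13827
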