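import Groth.Statements.S13830
import Groth.Agent.EtaPtLib.Ident
-- import your own Groth.Agent.* helpers here

set_option autoImplicit false
universe u
open AlgebraicGeometry
open EtaPt

namespace Groth.Agent.S13830

open Groth.Agent.EtaPtLib

/-- For the identity endofunctor, a commutative ring A with finitely many minimal prime ideals and an
A-algebra B with Spec B → Spec A surjective, the subring (B/A) ⊆ B (elements b whose residue classes
(b mod q)_q come from a family in M(A) ⊆ ∏_p k(p), M(A) being the families that come from an element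
of R after any base change to a valuation ring R) is the seminormalization of A in B: Spec (B/A) →
Spec A is a universal homeomorphism with trivial residue field extensions, and every A-subalgebra C
of B with these two properties is contained in (B/A). -/
theorem result (A B : Type u) [CommRing A] [CommRing B] [Algebra A B] (hA : (minimalPrimes A).Finite)
    (hs : Function.Surjective (PrimeSpectrum.comap (algebraMap A B))) :
    (FlatMor.IsUnivHomeo (Spec.map (CommRingCat.ofHom (EtaPt.FieldEndo.ident.{u}.qRel (algebraMap A B)))) ∧
      HTop.ResidueFieldsIso (Spec.map (CommRingCat.ofHom (EtaPt.FieldEndo.ident.{u}.qRel (algebraMap A B))))) ∧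
    ∀ C : Subalgebra A B,
      FlatMor.IsUnivHomeo (Spec.map (CommRingCat.ofHom (algebraMap A C))) →
      HTop.ResidueFieldsIso (Spec.map (CommRingCat.ofHom (algebraMap A C))) →
      C.toSubring ≤ EtaPt.FieldEndo.ident.{u}.rel (algebraMap A B) := by
  let η := EtaPt.FieldEndo.ident.{u}
  refine ⟨univHomeo_resIso_of_hasFactor _ (qRel_isIntegral η hA _ hs)
    (between_comap_bijective η _ _ (relToM_comp η _ hs) (relToM_ker η _ hs) hA)
    (between_hasFactor η _ _ (relToM_comp η _ hs) (relToM_ker η _ hs) hA), fun C h₁ h₂ b hb => ?_⟩
  obtain ⟨hint, hN⟩ := integral_Nmap_bijective_of_univHomeo (algebraMap A C) h₁ h₂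
  obtain ⟨x, hx, hxc⟩ := (bijOn_Nmap_M η _ hint hN).2.2 (η.t_mem_M C ⟨b, hb⟩)
  refine (mem_rel_iff η _ b).2 ⟨x, hx, ?_⟩
  rw [show algebraMap A B = C.val.toRingHom.comp (algebraMap A C) from rfl, ← Nmap_comp_apply, hxc,
    η.Nmap_t_apply]
  rfl

end Groth.Agent.S13830
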