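import Groth.Statements.S13831
import Mathlib.AlgebraicGeometry.Morphisms.Finite
import Mathlib.AlgebraicGeometry.Morphisms.UniversallyInjective
import Mathlib.FieldTheory.PurelyInseparable.Basic
import Mathlib.RingTheory.RingHom.PurelyInseparable
import Mathlib.RingTheory.Algebraic.Basic

set_option autoImplicit false
universe u
open AlgebraicGeometry
open ChowMon

namespace Groth.Agent.S13831
open CategoryTheory AlgebraicGeometry in
lemma residue_finrank_le {T' T : Scheme.{u}} (p : T' ⟶ T) [IsFinite p] {U : T.Opens}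
    (hU : IsAffineOpen U) : ∃ n : ℕ, ∀ t : T', p t ∈ U →
      @Module.Finite (T.residueField (p t)) (T'.residueField t) _ _
          (p.residueFieldMap t).hom.toAlgebra.toModule ∧
        @Module.finrank (T.residueField (p t)) (T'.residueField t) _ _
          (p.residueFieldMap t).hom.toAlgebra.toModule ≤ n := by
  classical
  let := (p.app U).hom.toAlgebra
  have : Module.Finite Γ(T, U) Γ(T', p ⁻¹ᵁ U) := p.finite_app U hU
  obtain ⟨G, hG⟩ := Module.finite_def.1 this
  refine ⟨G.card, fun t ht => ?_⟩
  have hV : IsAffineOpen (p ⁻¹ᵁ U) := hU.preimage p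
  let := (p.residueFieldMap t).hom.toAlgebra
  let k := T.residueField (p t)
  let κ := T'.residueField t
  let ρ : Γ(T, U) →+* k := (T.residue (p t)).hom.comp (T.presheaf.germ U (p t) ht).hom
  let ψ : Γ(T', p ⁻¹ᵁ U) →+* κ := (T'.residue t).hom.comp (T'.presheaf.germ (p ⁻¹ᵁ U) t ht).hom
  have hcomp : ∀ r, ψ (p.app U r) = algebraMap k κ (ρ r) := fun r => by
    show T'.residue t _ = p.residueFieldMap t (T.residue (p t) _)
    rw [← Scheme.Hom.germ_stalkMap_apply]
    exact congr($(Scheme.residue_residueFieldMap p t) _).symm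
  let L : Submodule k κ := Submodule.span k ((G.image ψ : Finset κ) : Set κ)
  have hψL : ∀ s, ψ s ∈ L := fun s => by
    have hs : s ∈ Submodule.span Γ(T, U) (G : Set Γ(T', p ⁻¹ᵁ U)) := hG ▸ Submodule.mem_top
    induction hs using Submodule.span_induction with
    | mem x hx => exact Submodule.subset_span (Finset.mem_image_of_mem ψ hx)
    | zero => rw [map_zero]; exact L.zero_mem
    | add x y _ _ hx hy => rw [map_add]; exact L.add_mem hx hy
    | smul r x _ hx =>
      rw [Algebra.smul_def, map_mul]
      have : ψ (algebraMap Γ(T, U) Γ(T', p ⁻¹ᵁ U) r) = algebraMap k κ (ρ r) := hcomp r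
      rw [this, ← Algebra.smul_def]
      exact L.smul_mem _ hx
  let A : Subalgebra k κ := Algebra.adjoin k (Set.range ψ)
  have hA : Subalgebra.toSubmodule A ≤ L := by
    rw [Algebra.adjoin_eq_span, Submodule.span_le]
    intro x hx
    have : x ∈ (MonoidHom.mrange (ψ : Γ(T', p ⁻¹ᵁ U) →* κ)) := by
      refine (Submonoid.closure_le.2 ?_) hx
      rintro _ ⟨s, rfl⟩
      exact ⟨s, rfl⟩
    obtain ⟨s, rfl⟩ := this
    exact hψL s
  have : Module.Finite k L := Module.Finite.span_of_finite k (Finset.finite_toSet _)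
  have : FiniteDimensional k A :=
    Submodule.finiteDimensional_of_le (S₁ := Subalgebra.toSubmodule A) hA
  have htop : L = ⊤ := by
    refine top_unique fun x _ => hA ?_
    obtain ⟨a, rfl⟩ := T'.residue_surjective t x
    let := T'.presheaf.algebra_section_stalk (⟨t, ht⟩ : ↥(p ⁻¹ᵁ U))
    have hloc : IsLocalization.AtPrime (T'.presheaf.stalk t)
        (hV.primeIdealOf ⟨t, ht⟩).asIdeal := hV.isLocalization_stalk ⟨t, ht⟩
    obtain ⟨⟨s, d⟩, hsd⟩ :=
      IsLocalization.surj (hV.primeIdealOf ⟨t, ht⟩).asIdeal.primeCompl a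
    have hd : ψ d ≠ 0 := by
      intro h
      exact (IsLocalRing.notMem_maximalIdeal.2
        (IsLocalization.map_units (T'.presheaf.stalk t) d))
        ((IsLocalRing.residue_eq_zero_iff _).1 h)
    have he : T'.residue t a * ψ d = ψ s := by
      have := congrArg (T'.residue t).hom hsd
      rwa [map_mul] at this
    have : T'.residue t a = ψ s * (ψ d)⁻¹ := by rw [eq_mul_inv_iff_mul_eq₀ hd]; exact he
    rw [this]
    refine A.mul_mem (Algebra.subset_adjoin ⟨s, rfl⟩) ?_
    exact A.inv_mem_of_algebraic (x := ⟨ψ d, Algebra.subset_adjoin ⟨_, rfl⟩⟩)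
      (((IsAlgebraic.of_finite k (⟨ψ d, Algebra.subset_adjoin ⟨_, rfl⟩⟩ : A))).algHom A.val)
  have : Module.Finite k κ := Module.Finite.equiv (LinearEquiv.ofTop L htop)
  refine ⟨this, ?_⟩
  rw [← finrank_top, ← htop]
  exact le_trans (finrank_span_finset_le_card _) Finset.card_image_le

/-- For a finite universal homeomorphism p : T' → T of Noetherian schemes there is an integer d ≥ 1 such
that for every point t' of T' over t the residue field degree [k(t') : k(t)] is a power of the
exponential characteristic of k(t) dividing d. -/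
theorem result {T' T : Scheme.{u}} (p : T' ⟶ T) [IsFinite p] (hp : FlatMor.IsUnivHomeo p)
    [IsNoetherian T] [IsNoetherian T'] [T.IsSeparated] [T'.IsSeparated] :
    ∃ d : ℕ, 0 < d ∧ ∀ t' : T', ∃ e : ℕ,
      @Module.finrank (T.residueField (p t')) (T'.residueField t') _ _
          (p.residueFieldMap t').hom.toAlgebra.toModule =
        ringExpChar (T.residueField (p t')) ^ e ∧
      ringExpChar (T.residueField (p t')) ^ e ∣ d := by
  classical
  have hinj : UniversallyInjective p := by
    rw [universallyInjective_eq] at *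
    refine ((CategoryTheory.MorphismProperty.universally_mono ?_) _ hp)
    intro X Y f hf
    exact (show IsHomeomorph f from hf).injective
  have hiff := (tfae_universallyInjective p).out 0 2
  obtain ⟨-, hpi⟩ := hiff.1 hinj
  obtain ⟨s, hfin, hcov⟩ : ∃ s : Finset T.affineOpens, True ∧ ∀ y : T, ∃ U ∈ s, y ∈ U.1 := by
    obtain ⟨s, hs⟩ := isCompact_univ.elim_finite_subcover (fun U : T.affineOpens => (U.1 : Set T))
      (fun U => U.1.isOpen) (fun y _ => by
        obtain ⟨_, ⟨U, hU, rfl⟩, hy, -⟩ := T.isBasis_affineOpens.exists_subset_of_mem_open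
          (Set.mem_univ y) isOpen_univ
        exact Set.mem_iUnion.2 ⟨⟨U, hU⟩, hy⟩)
    refine ⟨s, trivial, fun y => ?_⟩
    obtain ⟨U, hU, hy⟩ := Set.mem_iUnion₂.1 (hs (Set.mem_univ y))
    exact ⟨U, hU, hy⟩
  choose n hn using fun U : T.affineOpens => residue_finrank_le p U.2
  refine ⟨(s.sup n).factorial, Nat.factorial_pos _, fun t => ?_⟩
  obtain ⟨U, hU, hy⟩ := hcov (p t)
  obtain ⟨hfd, hle⟩ := hn U t hy
  let := (p.residueFieldMap t).hom.toAlgebra
  have : FiniteDimensional (T.residueField (p t)) (T'.residueField t) := hfd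
  have : IsPurelyInseparable (T.residueField (p t)) (T'.residueField t) := hpi t
  obtain ⟨e, he⟩ := IsPurelyInseparable.finrank_eq_pow (T.residueField (p t)) (T'.residueField t)
    (ringExpChar (T.residueField (p t)))
  refine ⟨e, he, Nat.dvd_factorial ?_ (le_trans ?_ (Finset.le_sup hU))⟩
  · rw [← he]; exact Module.finrank_pos
  · rw [← he]; exact hle

end Groth.Agent.S13831
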