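import Groth.Statements.S13835
import Mathlib.AlgebraicGeometry.Morphisms.Separated
import Mathlib.AlgebraicGeometry.Morphisms.Basic

set_option autoImplicit false
universe u
open AlgebraicGeometry CategoryTheory
open ChowMon

namespace Groth.Agent.S13835

/-- Let p : T' → T be a universal homeomorphism of separated schemes with T reduced and f' : T' → Y a
morphism (Y separated); if T has an open cover by affine opens U_i such that each restriction of f'
to p⁻¹(U_i) factors through p⁻¹(U_i) → U_i, then f' factors through p. -/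
theorem result {T' T Y : Scheme.{u}} (p : T' ⟶ T) (hp : FlatMor.IsUnivHomeo p) [IsReduced T]
    [T.IsSeparated] [T'.IsSeparated] [Y.IsSeparated] (f' : T' ⟶ Y)
    {ι : Type u} (U : ι → T.affineOpens) (hU : ⨆ i, (U i : T.Opens) = ⊤)
    (hloc : ∀ i, ∃ fi : ((U i : T.Opens) : Scheme.{u}) ⟶ Y, (p ⁻¹ᵁ (U i : T.Opens)).ι ≫ f' = (p ∣_ (U i : T.Opens)) ≫ fi) :
    ∃ f : T ⟶ Y, p ≫ f = f' := by
  haveI hsurj : Surjective p := by
    have h : AlgebraicGeometry.topologically (fun f => IsHomeomorph f) p :=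
      MorphismProperty.universally_le _ _ hp
    exact ⟨h.surjective⟩
  choose fi hfi using hloc
  let 𝒰 := T.openCoverOfIsOpenCover (fun i => (U i : T.Opens)) hU
  have key : ∀ (i : ι) {P : Scheme.{u}} (q : P ⟶ ((U i : T.Opens) : Scheme.{u})),
      Limits.pullback.snd p (q ≫ (U i : T.Opens).ι) ≫ q ≫ fi i =
        Limits.pullback.fst p (q ≫ (U i : T.Opens).ι) ≫ f' := by
    intro i P q
    have sq := (isPullback_morphismRestrict p (U i : T.Opens)).flip
    obtain ⟨a, ha1, ha2⟩ := sq.exists_lift (Limits.pullback.fst p (q ≫ (U i : T.Opens).ι))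
      (Limits.pullback.snd p (q ≫ (U i : T.Opens).ι) ≫ q)
      (by rw [Limits.pullback.condition, Category.assoc])
    rw [← Category.assoc, ← ha2, Category.assoc, ← hfi i, ← Category.assoc, ha1]
  have hglue : ∀ i j : ι,
      Limits.pullback.fst (U i : T.Opens).ι (U j : T.Opens).ι ≫ fi i =
        Limits.pullback.snd _ _ ≫ fi j := by
    intro i j
    have hred : IsReduced (Limits.pullback (U i : T.Opens).ι (U j : T.Opens).ι) :=
      isReduced_of_isOpenImmersion
        (Limits.pullback.fst (U i : T.Opens).ι (U j : T.Opens).ι ≫ (U i : T.Opens).ι)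
    haveI : Surjective (Limits.pullback.snd p
        (Limits.pullback.fst (U i : T.Opens).ι (U j : T.Opens).ι ≫ (U i : T.Opens).ι)) :=
      inferInstance
    refine ext_of_isDominant (Limits.pullback.snd p
      (Limits.pullback.fst (U i : T.Opens).ι (U j : T.Opens).ι ≫ (U i : T.Opens).ι)) ?_
    rw [key i]
    have e : Limits.pullback.fst (U i : T.Opens).ι (U j : T.Opens).ι ≫ (U i : T.Opens).ι =
        Limits.pullback.snd (U i : T.Opens).ι (U j : T.Opens).ι ≫ (U j : T.Opens).ι :=
      Limits.pullback.condition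
    revert e
    generalize Limits.pullback.fst (U i : T.Opens).ι (U j : T.Opens).ι ≫ (U i : T.Opens).ι = w
    rintro rfl
    exact (key j _).symm
  refine ⟨𝒰.glueMorphisms fi hglue, ?_⟩
  have hcov : (⨆ i, p ⁻¹ᵁ (U i : T.Opens)) = ⊤ := by
    rw [← Scheme.Hom.preimage_iSup, hU, Scheme.Hom.preimage_top]
  refine Scheme.Cover.hom_ext (T'.openCoverOfIsOpenCover (fun i => p ⁻¹ᵁ (U i : T.Opens)) hcov) _ _
    fun i => ?_
  change (p ⁻¹ᵁ (U i : T.Opens)).ι ≫ p ≫ _ = (p ⁻¹ᵁ (U i : T.Opens)).ι ≫ f'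
  rw [hfi i, ← morphismRestrict_ι_assoc]
  exact congrArg (_ ≫ ·) (Scheme.Cover.ι_glueMorphisms 𝒰 fi hglue i)

end Groth.Agent.S13835
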