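import Groth.Statements.S13836
import Groth.Agent.UH.Unibranch
import Groth.Agent.WN.Scheme
import Mathlib.AlgebraicGeometry.Normalization
import Mathlib.AlgebraicGeometry.FunctionField
import Mathlib.FieldTheory.PurelyInseparable.Basic
-- import your own Groth.Agent.* helpers here

set_option autoImplicit false
set_option linter.style.haveILetI false
universe u
open AlgebraicGeometry CategoryTheory
open HTop

namespace Groth.Agent.S13836

open CategoryTheory CategoryTheory.Limits AlgebraicGeometry
set_option backward.isDefEq.respectTransparency.types false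

/-- `q`-th powers are injective in a field receiving a ring of exponential characteristic `q`. -/
lemma pow_expChar_inj {R F : Type*} [CommRing R] [Field F] (g : R →+* F) (q : ℕ) [hq : ExpChar R q]
    (n : ℕ) (x y : F) (hxy : x ^ q ^ n = y ^ q ^ n) : x = y := by
  cases hq with
  | zero => simpa using hxy
  | prime hq =>
    haveI : CharP F q := (CharP.charP_iff_prime_eq_zero hq).2
      (by rw [← map_natCast g q, CharP.cast_eq_zero, map_zero])
    haveI : ExpChar F q := .prime hq
    exact iterateFrobenius_inj F q n (by simpa [iterateFrobenius_def] using hxy)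

/-- Maps out of the integral closure in a purely inseparable extension are determined on the integral
closure in the field. -/
lemma eq_of_comp_closure_eq {A K L F : Type*} [CommRing A] [Field K] [Field L] [Field F]
    [Algebra A K] [FaithfulSMul A K] [Algebra K L] [Algebra A L] [IsScalarTower A K L]
    [IsPurelyInseparable K L] (κ : integralClosure A K →+* integralClosure A L)
    (hκ : ∀ c, (κ c : L) = algebraMap K L c) (g₁ g₂ : integralClosure A L →+* F)
    (h : g₁.comp κ = g₂.comp κ) : g₁ = g₂ := by
  obtain ⟨q, hq⟩ : ∃ q, ExpChar K q := ExpChar.exists _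
  haveI : ExpChar A q :=
    (RingHom.expChar_iff (algebraMap A K) (FaithfulSMul.algebraMap_injective A K) q).2 hq
  refine RingHom.ext fun b => ?_
  obtain ⟨n, c, hc⟩ := IsPurelyInseparable.pow_mem K q (b : L)
  have hb2 : IsIntegral A (algebraMap K L c) := by rw [hc]; exact b.2.pow _
  have hci : IsIntegral A c := (isIntegral_algebraMap_iff (algebraMap K L).injective).1 hb2
  have hb : b ^ q ^ n = κ ⟨c, hci⟩ := Subtype.ext (by rw [hκ, SubmonoidClass.coe_pow, ← hc])
  apply pow_expChar_inj (g₁.comp (algebraMap A (integralClosure A L))) q n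
  rw [← map_pow, ← map_pow, hb]
  exact RingHom.congr_fun h ⟨c, hci⟩

/-- The morphism from `Spec L` to `Y`. -/
noncomputable abbrev gen (Y : Scheme.{u}) [IsIntegral Y] (L : Type u) [Field L] [Algebra Y.functionField L] :
    Spec (CommRingCat.of L) ⟶ Y :=
  Spec.map (CommRingCat.ofHom (algebraMap Y.functionField L)) ≫ Y.fromSpecStalk (genericPoint ↥Y)

set_option maxHeartbeats 400000 in
/-- Field valued points of the normalization of a geometrically unibranch scheme are determined by
their images. -/
lemma eq_of_comp_eq (X : Scheme.{u}) [IsIntegral X]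
    (L : Type u) [Field L] [Algebra X.functionField L] [IsPurelyInseparable X.functionField L]
    [QuasiCompact (gen X L)] [QuasiSeparated (gen X L)]
    (hX : ∀ x : X, CAlg2.IsGeomUnibranch (X.presheaf.stalk x)) (F : Type u) [Field F]
    (t₁ t₂ : Spec (CommRingCat.of F) ⟶ (gen X L).normalization)
    (h : t₁ ≫ (gen X L).fromNormalization = t₂ ≫ (gen X L).fromNormalization) : t₁ = t₂ := by
  let f := gen X L
  obtain ⟨z⟩ : Nonempty ↥(Spec (CommRingCat.of F)) := inferInstance
  obtain ⟨U, hU, hxU, -⟩ := exists_isAffineOpen_mem_and_subset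
    (x := (t₁ ≫ f.fromNormalization) z) (U := ⊤) trivial
  haveI : Nonempty U := ⟨⟨_, hxU⟩⟩
  have hW : IsAffineOpen (f.fromNormalization ⁻¹ᵁ U) := hU.preimage _
  have hfac : ∀ t : Spec (CommRingCat.of F) ⟶ f.normalization, (t ≫ f.fromNormalization) z ∈ U →
      ∃ φ, Spec.map φ ≫ hW.fromSpec = t := by
    intro t ht
    have hsub : Set.range t ⊆ Set.range hW.fromSpec := by
      rw [hW.range_fromSpec]
      rintro _ ⟨w, rfl⟩
      rw [Subsingleton.elim w z]
      exact ht
    obtain ⟨φ, hφ⟩ := Spec.map_surjective (IsOpenImmersion.lift hW.fromSpec t hsub)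
    exact ⟨φ, by rw [hφ, IsOpenImmersion.lift_fac]⟩
  obtain ⟨φ₁, hφ₁⟩ := hfac t₁ hxU
  obtain ⟨φ₂, hφ₂⟩ := hfac t₂ (by rw [← h]; exact hxU)
  have hagree : f.fromNormalization.app U ≫ φ₁ = f.fromNormalization.app U ≫ φ₂ := by
    apply Spec.map_injective
    rw [← cancel_mono hU.fromSpec]
    simp only [Spec.map_comp, Category.assoc, Scheme.Hom.app_eq_appLE,
      IsAffineOpen.SpecMap_appLE_fromSpec _ hU hW]
    rw [← Category.assoc, ← Category.assoc, hφ₁, hφ₂]
    exact h
  -- sections over `U` form the integral closure in the function field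
  letI := (f.app U).hom.toAlgebra
  have hgen : genericPoint ↥X ∈ U := (genericPoint_specializes _).mem_open U.2 hxU
  have htop : f ⁻¹ᵁ U = ⊤ := by
    refine top_le_iff.mp fun w _ => ?_
    have hw : f w ⤳ genericPoint ↥X := X.range_fromSpecStalk.le
      ⟨Spec.map (CommRingCat.ofHom (algebraMap X.functionField L)) w, rfl⟩
    exact hw.mem_open U.2 hgen
  let j : CommRingCat.of X.functionField ⟶ CommRingCat.of L := CommRingCat.ofHom (algebraMap X.functionField L)
  let a : Spec X.functionField ⟶ X := X.fromSpecStalk (genericPoint ↥X)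
  have htop' : a ⁻¹ᵁ U = ⊤ := top_le_iff.mp fun w _ =>
    (show a w ⤳ genericPoint ↥X from X.range_fromSpecStalk.le ⟨w, rfl⟩).mem_open U.2 hgen
  have hW' : (⊤ : (Spec (CommRingCat.of L)).Opens) ≤ f ⁻¹ᵁ U := htop.ge
  let ei : Γ(Spec (CommRingCat.of L), f ⁻¹ᵁ U) ≅ CommRingCat.of L :=
    (Spec (CommRingCat.of L)).presheaf.mapIso (eqToIso htop.symm).op ≪≫ Scheme.ΓSpecIso (CommRingCat.of L)
  have hei : f.app U ≫ ei.hom = X.presheaf.germ U (genericPoint ↥X) hgen ≫ j := by
    have ha : a.appLE U ⊤ htop'.ge ≫ (Scheme.ΓSpecIso (CommRingCat.of X.functionField)).hom =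
        X.presheaf.germ U (genericPoint ↥X) hgen := by
      show a.appLE U ⊤ htop'.ge ≫ (Scheme.ΓSpecIso (X.presheaf.stalk (genericPoint ↥X))).hom = _
      rw [Scheme.Hom.appLE, Scheme.fromSpecStalk_app hgen]
      simp only [Category.assoc]
      erw [← Functor.map_comp_assoc]
      refine (congrArg (X.presheaf.germ U _ hgen ≫ ·) ?_).trans (Category.comp_id _)
      rw [← op_comp, Subsingleton.elim (homOfLE _ ≫ homOfLE _) (𝟙 _), op_id,
        CategoryTheory.Functor.map_id]
      erw [Category.id_comp]
      exact Iso.inv_hom_id _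
    calc f.app U ≫ ei.hom = f.appLE U ⊤ hW' ≫ (Scheme.ΓSpecIso (CommRingCat.of L)).hom := by
          simp only [ei, Iso.trans_hom, Functor.mapIso_hom, Scheme.Hom.appLE]
          rw [← Category.assoc]
          rfl
      _ = (a.appLE U ⊤ htop'.ge ≫ (Spec.map j).appTop) ≫ (Scheme.ΓSpecIso (CommRingCat.of L)).hom := by
          congr 1
      _ = _ := by rw [Category.assoc, Scheme.ΓSpecIso_naturality, ← Category.assoc]; exact congrArg (· ≫ j) ha
  letI : Algebra Γ(X, U) L := ((algebraMap X.functionField L).comp
    (algebraMap Γ(X, U) X.functionField)).toAlgebra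
  haveI : IsScalarTower Γ(X, U) X.functionField L := IsScalarTower.of_algebraMap_eq fun _ => rfl
  let e : Γ(Spec (CommRingCat.of L), f ⁻¹ᵁ U) ≃ₐ[Γ(X, U)] L :=
    AlgEquiv.ofRingEquiv (f := ei.commRingCatIsoToRingEquiv) fun r => congr($(hei).hom r)
  have := functionField_isFractionRing_of_isAffineOpen X U hU
  let i := (f.normalizationObjIso hU).commRingCatIsoToRingEquiv.trans
    e.mapIntegralClosure.toRingEquiv
  let g₁ : integralClosure Γ(X, U) L →+* F := φ₁.hom.comp i.symm.toRingHom
  let g₂ : integralClosure Γ(X, U) L →+* F := φ₂.hom.comp i.symm.toRingHom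
  have happ : ∀ r, i (f.fromNormalization.app U r) =
      algebraMap Γ(X, U) (integralClosure Γ(X, U) L) r := fun r => by
    have h1 : (f.normalizationObjIso hU).commRingCatIsoToRingEquiv (f.fromNormalization.app U r) =
        algebraMap _ _ r :=
      (congrArg _ congr($(f.fromNormalization_app hU).hom r)).trans
        ((f.normalizationObjIso hU).commRingCatIsoToRingEquiv.apply_symm_apply _)
    refine (congrArg e.mapIntegralClosure h1).trans ?_
    exact e.mapIntegralClosure.commutes r
  let aK := algebraMap Γ(X, U) (integralClosure Γ(X, U) L)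
  have hg : g₁.comp aK = g₂.comp aK := RingHom.ext fun r => by
    show φ₁.hom (i.symm (aK r)) = φ₂.hom (i.symm (aK r))
    rw [← happ, i.symm_apply_apply]
    exact congr($(hagree).hom r)
  let κ : integralClosure Γ(X, U) X.functionField →+* integralClosure Γ(X, U) L :=
    { toFun := fun c => ⟨algebraMap X.functionField L c.1, c.2.algebraMap⟩
      map_one' := Subtype.ext (map_one _)
      map_mul' := fun _ _ => Subtype.ext (map_mul _ _ _)
      map_zero' := Subtype.ext (map_zero _)
      map_add' := fun _ _ => Subtype.ext (map_add _ _ _) }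
  let aK' := algebraMap Γ(X, U) (integralClosure Γ(X, U) X.functionField)
  have hg' : (g₁.comp κ).comp aK' = (g₂.comp κ).comp aK' := RingHom.ext fun r => by
    show g₁ (κ (aK' r)) = g₂ (κ (aK' r))
    rw [show κ (aK' r) = aK r from Subtype.ext rfl]
    exact DFunLike.congr_fun hg r
  let p : PrimeSpectrum Γ(X, U) :=
    ⟨RingHom.ker ((g₁.comp κ).comp aK'), RingHom.ker_isPrime _⟩
  haveI : p.asIdeal.IsPrime := RingHom.ker_isPrime _
  have hp : hU.fromSpec p ∈ U := by
    have : hU.fromSpec p ∈ Set.range hU.fromSpec := ⟨p, rfl⟩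
    rwa [hU.range_fromSpec] at this
  letI := TopCat.Presheaf.algebra_section_stalk X.presheaf ⟨hU.fromSpec p, hp⟩
  have : IsLocalization.AtPrime (X.presheaf.stalk (hU.fromSpec p)) p.asIdeal :=
    hU.isLocalization_stalk' p hp
  have hgg := Groth.Agent.UH.eq_of_isGeomUnibranch X.functionField p.asIdeal
    (hX (hU.fromSpec p)) (g₁.comp κ) (g₂.comp κ) hg' rfl
  have hpow : g₁ = g₂ := eq_of_comp_closure_eq κ (fun _ => rfl) g₁ g₂ hgg
  have : φ₁ = φ₂ := CommRingCat.hom_ext (RingHom.ext fun x => by
    have := DFunLike.congr_fun hpow (i x)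
    simpa [g₁, g₂] using this)
  rw [← hφ₁, ← hφ₂, this]

/-- Let Y be a separated Noetherian integral scheme whose local rings are geometrically unibranch and
whose affine coordinate rings are Nagata, K its function field and L a finite purely inseparable
extension of K; then the normalization of Y in L, i.e. the normalization of Y relative to Spec L →
Spec K → Y, maps to Y by a universal homeomorphism. (The instance binders on Spec L → Y always hold;
they are only needed to form the normalization.) -/
theorem result (Y : Scheme.{u}) [IsIntegral Y] [IsNoetherian Y] [Y.IsSeparated]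
    (hY : ∀ y : Y, CAlg2.IsGeomUnibranch (Y.presheaf.stalk y))
    (hN : ∀ U : Y.affineOpens, CAlg.IsNagata Γ(Y, U))
    (L : Type u) [Field L] [Algebra Y.functionField L] [FiniteDimensional Y.functionField L]
    [IsPurelyInseparable Y.functionField L]
    [QuasiCompact (Spec.map (CommRingCat.ofHom (algebraMap Y.functionField L)) ≫ Y.fromSpecStalk (genericPoint Y))]
    [QuasiSeparated (Spec.map (CommRingCat.ofHom (algebraMap Y.functionField L)) ≫ Y.fromSpecStalk (genericPoint Y))] :
    FlatMor.IsUnivHomeo
      (Spec.map (CommRingCat.ofHom (algebraMap Y.functionField L)) ≫ Y.fromSpecStalk (genericPoint Y)).fromNormalization := by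
  rw [Groth.Agent.WN.isUnivHomeo_iff]
  refine ⟨inferInstance, ?_, ⟨fun y => ?_⟩⟩
  · exact ((tfae_universallyInjective (gen Y L).fromNormalization).out 0 1 rfl rfl).mpr
      fun K _ t₁ t₂ h => eq_of_comp_eq Y L hY K t₁ t₂ h
  · let f := gen Y L
    have hη : genericPoint ↥Y ∈ Set.range f.fromNormalization := by
      refine ⟨f.toNormalization (IsLocalRing.closedPoint _), ?_⟩
      rw [← Scheme.Hom.comp_apply, f.toNormalization_fromNormalization]
      rw [Scheme.Hom.comp_apply]
      haveI : Subsingleton (Spec (Y.presheaf.stalk (genericPoint ↥Y))) :=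
        inferInstanceAs (Subsingleton (Spec (CommRingCat.of Y.functionField)))
      exact (congrArg (Y.fromSpecStalk _) (Subsingleton.elim _ _)).trans Scheme.fromSpecStalk_closedPoint
    exact (genericPoint_specializes y).mem_closed f.fromNormalization.isClosedMap.isClosed_range hη

end Groth.Agent.S13836
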