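import Groth.Statements.S13838
import Groth.Agent.WN.Equalizer
import Groth.Agent.WN.Residue

set_option autoImplicit false
universe u
open AlgebraicGeometry
open HTop

namespace Groth.Agent.S13838

/-- Let A ⊆ B be an integral ring extension where A and B have finitely many minimal prime ideals, such
that every prime p of A has a prime q of B above it for which k(p) is closed under extracting
p-power roots inside k(q) (the purely inseparable closure of k(p) in k(q) is k(p)); then the semi-
and weak normalizations of A in B coincide: every A-subalgebra C of B with Spec C → Spec A a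
universal homeomorphism already induces isomorphisms on residue fields. -/
theorem result (A B : Type u) [CommRing A] [CommRing B] [Algebra A B] (hinj : Function.Injective (algebraMap A B))
    [Algebra.IsIntegral A B] (hA : (minimalPrimes A).Finite) (hB : (minimalPrimes B).Finite)
    (hpi : ∀ p : PrimeSpectrum A, ∃ q : PrimeSpectrum B, ∃ hq : p.asIdeal = Ideal.comap (algebraMap A B) q.asIdeal,
      ∀ x : q.asIdeal.ResidueField,
        (∃ n : ℕ, x ^ ringExpChar p.asIdeal.ResidueField ^ n ∈
            Set.range (Ideal.ResidueField.map p.asIdeal q.asIdeal (algebraMap A B) hq)) →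
        x ∈ Set.range (Ideal.ResidueField.map p.asIdeal q.asIdeal (algebraMap A B) hq)) :
    ∀ C : Subalgebra A B, FlatMor.IsUnivHomeo (Spec.map (CommRingCat.ofHom (algebraMap A C))) →
      HTop.ResidueFieldsIso (Spec.map (CommRingCat.ofHom (algebraMap A C))) := by
  intro C hC
  have hC' := (WN.isUnivHomeo_specMap_iff _).mp hC
  rw [WN.residueFieldsIso_specMap_iff]
  intro r hr c
  obtain ⟨q, hq, H⟩ := hpi ⟨r.comap (algebraMap A C), Ideal.IsPrime.comap _⟩
  replace hq : r.comap (algebraMap A C) = q.asIdeal.comap (algebraMap A B) := hq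
  have hqr : q.asIdeal.comap C.val.toRingHom = r := by
    have := hC'.injective_comap (a₁ := ⟨q.asIdeal.comap C.val.toRingHom, Ideal.IsPrime.comap _⟩)
      (a₂ := ⟨r, hr⟩) (PrimeSpectrum.ext (by
        change (q.asIdeal.comap C.val.toRingHom).comap (algebraMap A C) = r.comap (algebraMap A C)
        rw [hq, Ideal.comap_comap]; rfl))
    exact congrArg PrimeSpectrum.asIdeal this
  obtain ⟨n, hn⟩ := hC'.radicial.residueField_pow_mem hC'.isIntegral r (algebraMap C _ c)
  let j := Ideal.ResidueField.map r q.asIdeal C.val.toRingHom hqr.symm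
  let ι := Ideal.ResidueField.map (r.comap (algebraMap A C)) q.asIdeal (algebraMap A B) hq
  have hj : ∀ y, j (Ideal.ResidueField.map (r.comap (algebraMap A C)) r (algebraMap A C) rfl y) = ι y := by
    intro y
    refine DFunLike.congr_fun (Ideal.ResidueField.ringHom_ext (f := j.comp
      (Ideal.ResidueField.map (r.comap (algebraMap A C)) r (algebraMap A C) rfl)) (g := ι) ?_) y
    ext a
    simp only [RingHom.comp_apply, ι, j, Ideal.ResidueField.map_algebraMap]
    rfl
  obtain ⟨z, hz⟩ := hn
  obtain ⟨y, hy⟩ := H (algebraMap B _ (c : B)) ⟨n, z, by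
    have hjc : j (algebraMap C _ c) = algebraMap B _ (c : B) := Ideal.ResidueField.map_algebraMap _ _ _ _ _
    exact (hj z).symm.trans ((congrArg j hz).trans (by rw [map_pow, hjc]))⟩
  obtain ⟨a, s, hs, hy'⟩ := WN.exists_frac _ y
  refine ⟨a, s, hs, ?_⟩
  rw [← Ideal.algebraMap_residueField_eq_zero]
  apply (injective_iff_map_eq_zero j).mp j.injective
  rw [Ideal.ResidueField.map_algebraMap, map_sub, map_mul]
  have e1 : ι (algebraMap A _ s) = algebraMap B _ ((algebraMap A C s : C) : B) :=
    Ideal.ResidueField.map_algebraMap _ _ _ _ _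
  have e2 : ι (algebraMap A _ a) = algebraMap B _ ((algebraMap A C a : C) : B) :=
    Ideal.ResidueField.map_algebraMap _ _ _ _ _
  have := congrArg ι hy'
  rw [map_mul, e1, e2] at this
  rw [map_sub, map_mul, sub_eq_zero, mul_comm]
  exact (congrArg (· * _) hy.symm).trans this

end Groth.Agent.S13838
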