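import Groth.Statements.S13839
import Groth.Agent.PLaw.Span
import Groth.Agent.PLaw.GammaFlat
import Groth.Agent.WN.Closed
import Mathlib.FieldTheory.PurelyInseparable.Exponent

set_option autoImplicit false
universe u
open AlgebraicGeometry
open scoped TensorProduct
open ChowMon

namespace Groth.Agent.S13839

/-- In a purely inseparable extension of degree dividing `d`, the `d`-th power of a linear form is
defined over the base. -/
lemma coeff_pow_mem_range {k K : Type u} [Field k] [Field K] [Algebra k K] [IsPurelyInseparable k K]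
    {n d : ℕ} (hd : 0 < d) (hdeg : Module.finrank k K ∣ d) (u : Fin n → K) (α : Fin n →₀ ℕ) :
    ((∑ j, MvPolynomial.X j * MvPolynomial.C (u j)) ^ d).coeff α ∈ (algebraMap k K).range := by
  have : FiniteDimensional k K := Module.finite_of_finrank_pos
    (Nat.pos_of_dvd_of_pos hdeg hd)
  let q := ringExpChar k
  have : ExpChar K q := expChar_of_injective_algebraMap (algebraMap k K).injective q
  obtain ⟨e, he⟩ := IsPurelyInseparable.finrank_eq_pow (F := k) K q
  have hu : ∀ j, ∃ v, algebraMap k K v = u j ^ q ^ e := by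
    intro j
    have h1 : q ^ IsPurelyInseparable.elemExponent k (u j) ∣ q ^ e := by
      rw [← he, ← IsPurelyInseparable.minpoly_natDegree_eq' k q]
      exact minpoly.degree_dvd (Algebra.IsIntegral.isIntegral _)
    obtain ⟨r, hr⟩ := h1
    exact ⟨IsPurelyInseparable.elemReduct k (u j) ^ r, by
      rw [map_pow, IsPurelyInseparable.algebraMap_elemReduct_eq' k q, ← pow_mul, ← hr]⟩
  choose v hv using hu
  obtain ⟨r, rfl⟩ := he ▸ hdeg
  refine ⟨((∑ j, MvPolynomial.X j ^ q ^ e * MvPolynomial.C (v j)) ^ r).coeff α, ?_⟩
  rw [pow_mul, sum_pow_char_pow, ← MvPolynomial.coeff_map]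
  simp [mul_pow, hv]

/-- The elements of `C'` whose residue at every prime comes from `C`. -/
noncomputable def good {C C' : Type u} [CommRing C] [CommRing C'] (f : C →+* C') : Subring C' :=
  ⨅ Q : PrimeSpectrum C', (Ideal.ResidueField.map (Q.asIdeal.comap f) Q.asIdeal f rfl).range.comap
    (algebraMap C' Q.asIdeal.ResidueField)

lemma mem_good_range {C C' : Type u} [CommRing C] [CommRing C'] (f : C →+* C') (c : C) :
    f c ∈ good f :=
  Subring.mem_iInf.mpr fun _ => ⟨algebraMap C _ c, Ideal.ResidueField.map_algebraMap _ _ _ _ c⟩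

/-- Let C be a Noetherian seminormal A-algebra, g : C → C' an A-algebra map with C' reduced such that
Spec C' → Spec C is a finite universal homeomorphism, and d ≥ 1 an integer divisible by every
residue degree [k(q) : k(g⁻¹q)]; let B be a flat A-algebra and φ : B → C' an A-algebra map. Then for
every symmetric tensor x ∈ TS^d_A(B) the element φ(m_d(x)) of C', m_d : B^{⊗d} → B the
multiplication, lies in the image of C. (The published statement does not assume C' reduced and is
false without it: take A = C = k a field, C' = k[ε]/(ε²), d = 1, B = k[t] and φ(t) = ε; then ε is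
not in k.) -/
theorem result (A C C' B : Type u) [CommRing A] [CommRing C] [CommRing C'] [CommRing B]
    [Algebra A C] [Algebra A C'] [Algebra A B] [IsNoetherianRing C] (hC : HTop.IsSeminormalRing C)
    (g : C →ₐ[A] C') [IsReduced C'] (hfin : g.toRingHom.Finite)
    (hg : FlatMor.IsUnivHomeo (Spec.map (CommRingCat.ofHom g.toRingHom)))
    (d : ℕ) (hd : 0 < d)
    (hdeg : ∀ q : PrimeSpectrum C',
      @Module.finrank (PrimeSpectrum.comap g.toRingHom q).asIdeal.ResidueField q.asIdeal.ResidueField _ _
          (Ideal.ResidueField.map (PrimeSpectrum.comap g.toRingHom q).asIdeal q.asIdeal g.toRingHom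
            rfl).toAlgebra.toModule ∣ d)
    [Module.Flat A B] (φ : B →ₐ[A] C') (x : ⨂[A] _ : Fin d, B) (hx : x ∈ SymTen.TS A B d) :
    φ (PiTensorProduct.lift (MultilinearMap.mkPiAlgebra A (Fin d) B) x) ∈ g.range := by
  have hR := (WN.isUnivHomeo_specMap_iff _).mp hg
  -- the value lies in the subring of elements with trivial residue extensions
  let L : (⨂[A] _ : Fin d, B) →ₗ[A] C' :=
    φ.toLinearMap.comp (PiTensorProduct.lift (MultilinearMap.mkPiAlgebra A (Fin d) B))
  let Good : Submodule A C' :=
    { (good g.toRingHom).toAddSubgroup.toAddSubmonoid with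
      smul_mem' := fun a c hc => by
        rw [Algebra.smul_def, ← g.commutes]
        exact mul_mem (mem_good_range _ _) hc }
  have hy : L x ∈ Good := by
    obtain ⟨τ, hτ, hγ⟩ := PLaw.exists_isGammaD_TS (A := A) (B := B) (d := d) (Or.inl inferInstance)
    have htop : (⊤ : Submodule A (SymTen.TS A B d)) ≤
        Good.comap (L.comp (SymTen.TS A B d).val.toLinearMap) := by
      rw [← PLaw.span_cf_gamma_eq_top hγ Submodule.span_univ, Submodule.span_le]
      rintro _ ⟨n, b, α, -, rfl⟩
      rw [SetLike.mem_coe, Submodule.mem_comap, LinearMap.comp_apply, ← PLaw.cf_lTensor, hτ,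
        ← PLaw.cf_lTensor, PLaw.gen, PLaw.tpowLaw_sum]
      refine Subring.mem_iInf.mpr fun Q => ?_
      let := (Ideal.ResidueField.map (PrimeSpectrum.comap g.toRingHom Q).asIdeal Q.asIdeal
        g.toRingHom rfl).toAlgebra
      have : IsPurelyInseparable (PrimeSpectrum.comap g.toRingHom Q).asIdeal.ResidueField
          Q.asIdeal.ResidueField :=
        (isPurelyInseparable_iff_pow_mem _
          (ringExpChar (PrimeSpectrum.comap g.toRingHom Q).asIdeal.ResidueField)).mpr fun z =>
          hR.radicial.residueField_pow_mem hR.isIntegral Q.asIdeal z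
      let ψ : C' →+* Q.asIdeal.ResidueField := algebraMap C' _
      obtain ⟨w, hw⟩ := coeff_pow_mem_range (k := (PrimeSpectrum.comap g.toRingHom Q).asIdeal.ResidueField)
        hd (hdeg Q) (fun j => ψ (φ (b j))) α
      refine ⟨w, hw.trans ?_⟩
      rw [Fintype.sum_pow, MvPolynomial.coeff_sum, map_sum, map_sum, map_sum, Fintype.piFinset_univ]
      refine Finset.sum_congr rfl fun c _ => ?_
      rw [LinearMap.lTensor_tmul, PLaw.cf_tmul, Algebra.smul_def, map_mul, Finset.prod_mul_distrib,
        ← map_prod MvPolynomial.C, mul_comm, MvPolynomial.coeff_C_mul, mul_comm]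
      congr 1
      · rw [← MvPolynomial.coeff_map, ← MvPolynomial.coeff_map, map_prod, map_prod]
        simp
      · simp [L, ψ, map_prod]
    exact htop (Submodule.mem_top : (⟨x, hx⟩ : SymTen.TS A B d) ∈ _)
  change L x ∈ g.range
  generalize L x = y at hy
  let := g.toRingHom.toAlgebra
  let D := Algebra.adjoin C {y}
  have hD : ∀ z ∈ D, z ∈ good g.toRingHom := by
    intro z hz
    induction hz using Algebra.adjoin_induction with
    | mem z hz => rw [Set.mem_singleton_iff.mp hz]; exact hy
    | algebraMap c => exact mem_good_range _ c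
    | add a b _ _ ha hb => exact add_mem ha hb
    | mul a b _ _ ha hb => exact mul_mem ha hb
  obtain ⟨hrad, -⟩ := WN.IsRadHomeo.restrict (C := C') hR D
  have hint : D.val.toRingHom.IsIntegral :=
    RingHom.IsIntegral.tower_top (algebraMap C D) _ hR.isIntegral
  have hsurj := WN.surj_of_isIntegral_of_ker_le hint (by
    rw [(RingHom.injective_iff_ker_eq_bot _).mp Subtype.coe_injective]; exact bot_le)
  have htriv : WN.HasTrivRes (algebraMap C D) := by
    intro q _ z
    obtain ⟨Q, hQ⟩ := hsurj ⟨q, ‹_›⟩
    replace hQ : Q.asIdeal.comap D.val.toRingHom = q := congrArg PrimeSpectrum.asIdeal hQ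
    obtain ⟨r, hr⟩ := Subring.mem_iInf.mp (hD z z.2) Q
    obtain ⟨a, t, ht, e⟩ := WN.exists_frac _ r
    refine ⟨a, t, fun h => ht ?_, ?_⟩
    · exact (hQ ▸ h :)
    · rw [← hQ, Ideal.mem_comap, map_sub, map_mul, ← Ideal.algebraMap_residueField_eq_zero]
      have e' := congrArg (Ideal.ResidueField.map (Q.asIdeal.comap g.toRingHom) Q.asIdeal g.toRingHom rfl) e
      rw [map_mul, hr, Ideal.ResidueField.map_algebraMap, Ideal.ResidueField.map_algebraMap,
        mul_comm] at e'
      rw [map_sub, map_mul]
      exact sub_eq_zero.mpr e'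
  have : IsReduced D := isReduced_of_injective D.val Subtype.coe_injective
  obtain ⟨c, hc⟩ := (WN.bijective_of_isSeminormalRing hrad htriv hC).2
    ⟨y, Algebra.self_mem_adjoin_singleton C y⟩
  exact ⟨c, congrArg Subtype.val hc⟩

end Groth.Agent.S13839
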