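import Groth.Statements.S13841
import Groth.Agent.CSA.Period


set_option autoImplicit false
universe u v
open scoped TensorProduct
open Brauer

namespace Groth.Agent.S13841

open Groth.Agent.CSA

/-- Let k be a field and A a finite-dimensional central simple k-algebra of period n. Then A has index n
if and only if there is a finite field extension k' of k of degree coprime to n such that the index
of the k'-algebra k' ⊗_k A divides n. (The published statement is for a class of period n in H²(X,
G_m) on a scheme X over k; this row is the case where X is the spectrum of k.) -/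
theorem result (k : Type u) [Field k] (A : Type v) [Ring A] [Algebra k A]
    [Algebra.IsCentral k A] [IsSimpleRing A] [FiniteDimensional k A] (n : ℕ) (hper : CSAGal.IsPeriod k A n) :
    CSAGal.IsIndex k A n ↔
      ∃ (k' : Type u) (_ : Field k') (_ : Algebra k k') (_ : FiniteDimensional k k'),
        Nat.Coprime n (Module.finrank k k') ∧ ∃ d' : ℕ, CSAGal.IsIndex k' (k' ⊗[k] A) d' ∧ d' ∣ n := by
  have hA : IsCSA k A := IsCSA.of k A
  constructor
  · intro h
    refine ⟨k, inferInstance, Algebra.id k, inferInstance, ?_, _, (isIndex_iff (hA.baseChange k) _).2 rfl, ?_⟩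
    · rw [Module.finrank_self]; exact Nat.coprime_one_right n
    · rw [ind_baseChange_self hA, ← (isIndex_iff hA n).1 h]
  · rintro ⟨k', _, _, _, hcop, d', hd', hdn⟩
    rw [(isIndex_iff (hA.baseChange k') d').1 hd'] at hdn
    refine (isIndex_iff hA n).2 (Nat.dvd_antisymm (period_dvd_ind hA hper) ?_)
    exact (ind_coprime hA ((splits_self_iff_brEq (hA.tpow n)).1 hper.2.1) hcop).dvd_of_dvd_mul_left
      ((ind_dvd_finrank_mul hA k').trans (Nat.mul_dvd_mul_left _ hdn))

end Groth.Agent.S13841
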