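import Groth.Statements.S13844
import Groth.Agent.S9442
import Groth.Agent.CurveDVR.Stalk
import Groth.Agent.FieldSep.MacLane
-- import your own Groth.Agent.* helpers here

set_option autoImplicit false
universe u
open CategoryTheory CategoryTheory.Limits AlgebraicGeometry
attribute [local instance] Curv2.resAlgebra
open Curves

namespace Groth.Agent.S13844

/-- A Noetherian local normal domain of dimension one is regular. -/
theorem isRegularLocalRing_of_normal (R : Type u) [CommRing R] [IsDomain R] [IsLocalRing R]
    [IsNoetherianRing R] [IsIntegrallyClosed R] (h : ringKrullDim R = 1) : IsRegularLocalRing R := by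
  have : Ring.DimensionLEOne R := by
    have h1 : Ring.KrullDimLE 1 R := Ring.krullDimLE_iff.mpr (by exact_mod_cast le_of_eq h)
    exact ⟨fun {p} hp hpp => Ring.krullDimLE_one_iff_of_noZeroDivisors.mp h1 p hp hpp⟩
  have : IsDedekindDomain R := { }
  have : IsPrincipalIdealRing R :=
    ((tfae_of_isNoetherianRing_of_isLocalRing_of_isDomain R).out 0 2).mpr this
  infer_instance

/-- Let K be a field and C a normal curve over K, namely an integral normal separated K-scheme of finite
type of dimension one, and let S be a set of closed points of C whose residue fields are separable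
over K. If the structure morphism of C is smooth at every point outside S, then it is smooth. (The
published statement takes S to be a closed subscheme finite étale over K, that is finitely many such
points; this row allows any set of closed points with separable residue fields.) -/
theorem result (K : Type u) [Field K] (C : Scheme.{u}) [C.Over (Spec (CommRingCat.of K))]
    [IsIntegral C] [IsSeparated (C ↘ (Spec (CommRingCat.of K)))] [LocallyOfFinitePresentation (C ↘ (Spec (CommRingCat.of K)))]
    [QuasiCompact (C ↘ (Spec (CommRingCat.of K)))] (hN : ∀ x : C, IsIntegrallyClosed (C.presheaf.stalk x))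
    (hdim : topologicalKrullDim C = 1) (S : Set C)
    (hS : ∀ x ∈ S, IsClosed ({x} : Set C) ∧ Algebra.IsSeparable K (C.residueField x))
    (hsm : ∀ x : C, x ∉ S → x ∈ (C ↘ (Spec (CommRingCat.of K))).smoothLocus) :
    AlgebraicGeometry.Smooth (C ↘ (Spec (CommRingCat.of K))) := by
  have hft : LocallyOfFiniteType (C ↘ (Spec (CommRingCat.of K))) := inferInstance
  haveI : IsLocallyNoetherian C := LocallyOfFiniteType.isLocallyNoetherian (C ↘ (Spec (CommRingCat.of K)))
  rw [← Scheme.Hom.smoothLocus_eq_top_iff, eq_top_iff]
  intro x _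
  by_cases hxS : x ∈ S
  swap
  · exact hsm x hxS
  obtain ⟨hx, hsep⟩ := hS x hxS
  haveI := hN x
  have hreg : IsRegularLocalRing (C.presheaf.stalk x) := isRegularLocalRing_of_normal _ (by
    rw [ringKrullDim_stalk_eq_coheight,
      CurveDVR.coheight_eq_one (C ↘ (Spec (CommRingCat.of K))) hdim hx]
    rfl)
  obtain ⟨U, hU, hxU, -⟩ := exists_isAffineOpen_mem_and_subset (x := x) (U := ⊤) trivial
  letI := ((C ↘ (Spec (CommRingCat.of K))).appLE ⊤ U le_top).hom.toAlgebra
  letI algK : Algebra K Γ(C, U) := (((C ↘ (Spec (CommRingCat.of K))).appLE ⊤ U le_top).hom.comp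
    (Scheme.ΓSpecIso (CommRingCat.of K)).inv.hom).toAlgebra
  letI algS : Algebra K Γ(Spec (CommRingCat.of K), ⊤) :=
    (Scheme.ΓSpecIso (CommRingCat.of K)).inv.hom.toAlgebra
  haveI : IsScalarTower K Γ(Spec (CommRingCat.of K), ⊤) Γ(C, U) := IsScalarTower.of_algebraMap_eq' rfl
  have hbij : Function.Bijective (algebraMap K Γ(Spec (CommRingCat.of K), ⊤)) :=
    (Scheme.ΓSpecIso (CommRingCat.of K)).symm.commRingCatIsoToRingEquiv.bijective
  haveI : Algebra.FiniteType K Γ(Spec (CommRingCat.of K), ⊤) :=
    Algebra.FiniteType.of_surjective (Algebra.ofId K _) hbij.2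
  haveI : Algebra.FiniteType Γ(Spec (CommRingCat.of K), ⊤) Γ(C, U) :=
    (C ↘ (Spec (CommRingCat.of K))).finiteType_appLE (isAffineOpen_top _) hU le_top
  haveI : Algebra.FiniteType K Γ(C, U) :=
    Algebra.FiniteType.trans (A := Γ(C, U)) ‹Algebra.FiniteType K Γ(Spec (CommRingCat.of K), ⊤)›
      ‹Algebra.FiniteType Γ(Spec (CommRingCat.of K), ⊤) Γ(C, U)›
  let q := (hU.primeIdealOf ⟨x, hxU⟩).asIdeal
  letI := TopCat.Presheaf.algebra_section_stalk C.presheaf ⟨x, hxU⟩
  haveI hloc := hU.isLocalization_stalk ⟨x, hxU⟩
  have hreg' : IsRegularLocalRing (Localization.AtPrime q) :=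
    haveI := hreg
    IsRegularLocalRing.of_ringEquiv
      (IsLocalization.algEquiv q.primeCompl (C.presheaf.stalk x) (Localization.AtPrime q)).toRingEquiv
  -- the residue field of `q` embeds into the residue field of `x`
  let φ : Γ(C, U) →ₐ[K] C.residueField x :=
    { ((C.residue x).hom.comp (C.presheaf.germ U x hxU).hom) with
      commutes' := fun a => by
        show (C.residue x).hom ((C.presheaf.germ U x hxU).hom _) =
          (C.residue x).hom (Curv2.stalkMap K C x a)
        congr 1
        show (C.presheaf.germ U x hxU).hom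
          (((C ↘ (Spec (CommRingCat.of K))).appLE ⊤ U le_top).hom
            ((Scheme.ΓSpecIso (CommRingCat.of K)).inv.hom a)) = (C.presheaf.germ ⊤ x trivial).hom _
        show (C.presheaf.germ U x hxU).hom ((C.presheaf.map (homOfLE le_top).op).hom
          ((C ↘ (Spec (CommRingCat.of K))).app ⊤ _)) = _
        exact TopCat.Presheaf.germ_res_apply _ _ _ _ _ }
  have hker : q ≤ RingHom.ker φ.toRingHom := fun a ha => by
    show (C.residue x).hom ((C.presheaf.germ U x hxU).hom a) = 0
    apply (IsLocalRing.residue_eq_zero_iff _).mpr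
    have := IsLocalization.AtPrime.to_map_mem_maximal_iff (C.presheaf.stalk x) q a
    exact this.mpr ha
  have hunit : q.primeCompl ≤ (IsUnit.submonoid (C.residueField x)).comap φ := fun a ha => by
    exact ((IsLocalization.map_units (C.presheaf.stalk x) (⟨a, ha⟩ : q.primeCompl)).map
      (C.residue x).hom)
  let ψ := Ideal.ResidueField.liftₐ q φ hker hunit
  haveI hgr : Algebra.IsGeometricallyReduced K (C.residueField x) := by
    haveI := hsep
    haveI : Algebra.FormallyEtale K (C.residueField x) := Algebra.FormallyEtale.of_isSeparable K _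
    exact (Groth.Agent.FieldSep.MacLane.formallySmooth_iff K _).mp inferInstance
  haveI : Algebra.IsGeometricallyReduced K q.ResidueField :=
    .of_injective ψ ψ.toRingHom.injective
  have hs : Algebra.IsSmoothAt K q := (Groth.Agent.S9442.result K Γ(C, U) q).mpr hreg'
  rw [Scheme.Hom.mem_smoothLocus,
    formallySmooth_stalkMap_iff ⊤ (isAffineOpen_top _) U hU le_top hxU]
  show Algebra.FormallySmooth Γ(Spec (CommRingCat.of K), ⊤) (Localization.AtPrime q)
  haveI : Algebra.FormallySmooth K (Localization.AtPrime q) := hs
  haveI : Algebra.FormallyUnramified K Γ(Spec (CommRingCat.of K), ⊤) :=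
    Algebra.FormallyUnramified.of_surjective (Algebra.ofId K _) hbij.2
  exact Algebra.FormallySmooth.of_restrictScalars K _ _

end Groth.Agent.S13844
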