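import Groth.Statements.S13846
import Mathlib.LinearAlgebra.GeneralLinearGroup.AlgEquiv
import Mathlib.Algebra.DirectSum.Decomposition
import Mathlib.LinearAlgebra.Dual.Lemmas

set_option autoImplicit false
set_option backward.isDefEq.respectTransparency false
set_option backward.isDefEq.respectTransparency.types false
universe u v
open TwSh

namespace Groth.Agent.S13846

/-- Let k be a field and V, W finite-dimensional ℤ-graded k-vector spaces, V = ⊕ V_i with V ≠ 0 and W =
⊕ W_i. Let φ : End_k(V) ≃ End_k(W) be a k-algebra isomorphism which sends every endomorphism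
homogeneous of degree d (one mapping V_i into V_{i+d} for all i) to an endomorphism homogeneous of
degree d. Then there are an integer n and a k-linear isomorphism g : V ≅ W with g(V_i) = W_{i+n} for
every i such that φ(f) = g ∘ f ∘ g⁻¹ for all f; moreover n is unique and g is unique up to a nonzero
scalar: if g' : V ≅ W satisfies g'(V_i) = W_{i+n'} for all i and φ(f) = g' ∘ f ∘ g'⁻¹ for all f,
then n' = n and g' = c·g for some c ∈ kˣ. (The published statement is about non-zero perfect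
complexes over k: an isomorphism of their derived endomorphism algebras, as algebra objects of the
derived category, is induced by an isomorphism from the first complex to a shift of the second, for
a unique shift and up to a unit; this row is its form for finite-dimensional ℤ-graded vector spaces,
to which the bounded derived category of a field is equivalent by taking cohomology.) -/
theorem result (k : Type u) [Field k] (V W : Type v) [AddCommGroup V] [Module k V] [FiniteDimensional k V] [Nontrivial V] [AddCommGroup W] [Module k W] [FiniteDimensional k W] (𝒱 : ℤ → Submodule k V) (h𝒱 : DirectSum.IsInternal 𝒱) (𝒲 : ℤ → Submodule k W) (h𝒲 : DirectSum.IsInternal 𝒲) (φ : Module.End k V ≃ₐ[k] Module.End k W) (hφ : ∀ (d : ℤ) (f : Module.End k V), (∀ (i : ℤ) (x : V), x ∈ 𝒱 i → f x ∈ 𝒱 (i + d)) → ∀ (i : ℤ) (y : W), y ∈ 𝒲 i → φ f y ∈ 𝒲 (i + d)) : ∃ (n : ℤ) (g : V ≃ₗ[k] W), (∀ i : ℤ, Submodule.map (g : V →ₗ[k] W) (𝒱 i) = 𝒲 (i + n)) ∧ (∀ f : Module.End k V, φ f = (g : V →ₗ[k]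 W) ∘ₗ f ∘ₗ (g.symm : W →ₗ[k] V)) ∧ ∀ (n' : ℤ) (g' : V ≃ₗ[k] W), (∀ i : ℤ, Submodule.map (g' : V →ₗ[k] W) (𝒱 i) = 𝒲 (i + n')) → (∀ f : Module.End k V, φ f = (g' : V →ₗ[k] W) ∘ₗ f ∘ₗ (g'.symm : W →ₗ[k] V)) → n' = n ∧ ∃ c : kˣ, ∀ x : V, g' x = c • g x := by
  classical
  obtain ⟨g, hg⟩ := φ.eq_linearEquivConjAlgEquiv
  have hconj : ∀ f, φ f = (g : V →ₗ[k] W) ∘ₗ f ∘ₗ (g.symm : W →ₗ[k] V) := fun f => by
    rw [hg]; rfl
  have hφ' : ∀ (f : Module.End k V) (x : V), φ f (g x) = g (f x) := fun f x => by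
    rw [hconj]; simp
  let dV : DirectSum.Decomposition 𝒱 := h𝒱.chooseDecomposition
  let dW : DirectSum.Decomposition 𝒲 := h𝒲.chooseDecomposition
  let π : ℤ → V →ₗ[k] V := fun i =>
    (𝒱 i).subtype ∘ₗ DirectSum.component k ℤ (fun i => 𝒱 i) i ∘ₗ (DirectSum.decomposeLinearEquiv 𝒱).toLinearMap
  have hπ : ∀ i j, ∀ x ∈ 𝒱 j, π i x = if i = j then x else 0 := fun i j x hx => by
    show ((DirectSum.decompose 𝒱 x) i : V) = _
    split_ifs with h
    · subst h; exact DirectSum.decompose_of_mem_same 𝒱 hx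
    · exact DirectSum.decompose_of_mem_ne 𝒱 hx (fun e => h e.symm)
  obtain ⟨i₀, hi₀⟩ : ∃ i, 𝒱 i ≠ ⊥ := by
    by_contra h
    push Not at h
    have := h𝒱.submodule_iSup_eq_top
    rw [iSup_eq_bot.2 h] at this
    exact bot_ne_top this
  obtain ⟨x₀, hx₀, hx₀n⟩ := Submodule.exists_mem_ne_zero_of_ne_bot hi₀
  obtain ⟨ψ₀, hψ₀⟩ := Module.Projective.exists_dual_eq_one k hx₀n
  let ψ : V →ₗ[k] k := ψ₀ ∘ₗ π i₀
  have hψ : ψ x₀ = 1 := by simp [ψ, hπ i₀ i₀ x₀ hx₀, hψ₀]
  have hψd : ∀ j, j ≠ i₀ → ∀ x ∈ 𝒱 j, ψ x = 0 := fun j hj x hx => by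
    simp [ψ, hπ i₀ j x hx, Ne.symm hj]
  have hdeg : ∀ i, ∀ x ∈ 𝒱 i, ∀ (l : ℤ) (y : V), y ∈ 𝒱 l → ψ.smulRight x y ∈ 𝒱 (l + (i - i₀)) := by
    intro i x hx l y hy
    by_cases hl : l = i₀
    · subst hl
      rw [add_sub_cancel]
      exact (𝒱 i).smul_mem _ hx
    · simp [hψd l hl y hy]
  have hrank : ∀ x w, φ (ψ.smulRight x) w = ψ (g.symm w) • g x := fun x w => by
    rw [hconj]; simp
  obtain ⟨j, hj⟩ : ∃ j, g x₀ ∈ 𝒲 j := by
    obtain ⟨j, w, hw, hw'⟩ : ∃ j, ∃ w ∈ 𝒲 j, ψ (g.symm w) ≠ 0 := by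
      by_contra h
      push Not at h
      have : ψ ∘ₗ (g.symm : W →ₗ[k] V) = 0 := by
        apply LinearMap.ext
        intro w
        have hw : w ∈ ⨆ j, 𝒲 j := by rw [h𝒲.submodule_iSup_eq_top]; trivial
        induction hw using Submodule.iSup_induction' with
        | mem j w hw => exact h j w hw
        | zero => simp
        | add a b _ _ ha hb => simp at ha hb; simp [ha, hb]
      have := LinearMap.congr_fun this (g x₀)
      simp [hψ] at this
    refine ⟨j, ?_⟩
    have := hφ 0 (ψ.smulRight x₀) (fun i y hy => by simpa using hdeg i₀ x₀ hx₀ i y hy) j w hw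
    rw [hrank, add_zero] at this
    exact (Submodule.smul_mem_iff _ hw').1 this
  let n := j - i₀
  have hsub : ∀ i, ∀ x ∈ 𝒱 i, g x ∈ 𝒲 (i + n) := fun i x hx => by
    have := hφ (i - i₀) (ψ.smulRight x) (hdeg i x hx) j (g x₀) hj
    rw [hrank, g.symm_apply_apply, hψ, one_smul] at this
    convert this using 2
    simp only [n]; ring
  have hmap : ∀ i : ℤ, Submodule.map (g : V →ₗ[k] W) (𝒱 i) = 𝒲 (i + n) := fun i => by
    refine le_antisymm (Submodule.map_le_iff_le_comap.2 fun x hx => hsub i x hx) fun w hw => ?_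
    refine ⟨π i (g.symm w), ?_, ?_⟩
    · exact (DirectSum.decompose 𝒱 (g.symm w) i).2
    · have key : ∀ v : V, ((DirectSum.decompose 𝒲 (g v)) (i + n) : W) = g (π i v) := fun v => by
        have hv : v ∈ ⨆ l, 𝒱 l := by rw [h𝒱.submodule_iSup_eq_top]; trivial
        induction hv using Submodule.iSup_induction' with
        | mem l v hv =>
          by_cases hl : i = l
          · subst hl
            rw [hπ i i v hv, if_pos rfl]
            exact DirectSum.decompose_of_mem_same 𝒲 (hsub i v hv)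
          · rw [hπ i l v hv, if_neg hl, map_zero]
            exact DirectSum.decompose_of_mem_ne 𝒲 (hsub l v hv) (fun e => hl (add_right_cancel e).symm)
        | zero => simp
        | add a b _ _ ha hb => simp [ha, hb, DirectSum.decompose_add]
      have := key (g.symm w)
      rw [g.apply_symm_apply, DirectSum.decompose_of_mem_same 𝒲 hw] at this
      exact this.symm
  refine ⟨n, g, hmap, hconj, fun n' g' hn' hg' => ?_⟩
  let h : V ≃ₗ[k] V := g'.trans g.symm
  have hcomm : ∀ (f : Module.End k V) (x : V), h (f x) = f (h x) := fun f x => by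
    have e1 := LinearMap.congr_fun (hconj f) (g' x)
    have e2 := LinearMap.congr_fun (hg' f) (g' x)
    simp at e1 e2
    rw [e2] at e1
    simp [h, e1]
  have hscal : ∀ x, h x = ψ (h x₀) • x := fun x => by
    have := hcomm (ψ.smulRight x) x₀
    simpa [hψ] using this
  have hc : ψ (h x₀) ≠ 0 := fun e => hx₀n (h.injective (by rw [hscal x₀, e]; simp))
  refine ⟨?_, Units.mk0 _ hc, fun x => ?_⟩
  · have h1 : g' x₀ ∈ 𝒲 (i₀ + n') := by rw [← hn']; exact Submodule.mem_map_of_mem hx₀
    have e : g' x₀ = ψ (h x₀) • g x₀ := by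
      have := congrArg g (hscal x₀)
      simpa [h] using this
    rw [e] at h1
    have h2 : g x₀ ∈ 𝒲 (i₀ + n') := (Submodule.smul_mem_iff _ hc).1 h1
    by_contra hne
    have h3 := DirectSum.decompose_of_mem_same 𝒲 h2
    rw [DirectSum.decompose_of_mem_ne 𝒲 (hsub i₀ x₀ hx₀) (fun e => hne (add_left_cancel e).symm)] at h3
    exact hx₀n (g.injective (by rw [← h3, map_zero]))
  · have := congrArg g (hscal x)
    simpa [h, Units.smul_def] using this

end Groth.Agent.S13846
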