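import Groth.Statements.S13847
import Mathlib.RingTheory.Jacobson.Radical
import Mathlib.RingTheory.Ideal.Quotient.Operations
import Mathlib.Algebra.Module.Projective
import Mathlib.RingTheory.SimpleModule.WedderburnArtin
import Mathlib.RingTheory.SimpleModule.Isotypic
import Mathlib.Algebra.Module.Torsion.Basic
import Mathlib.RingTheory.Length

set_option autoImplicit false
set_option backward.isDefEq.respectTransparency false
set_option backward.isDefEq.respectTransparency.types false
universe u v
open TwSh

namespace Groth.Agent.S13847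

variable (A : Type u) [Ring A]

abbrev J : Ideal A := Ring.jacobson A

abbrev Top (M : Type v) [AddCommGroup M] [Module A M] : Type v :=
  M ⧸ (J A • (⊤ : Submodule A M))

variable (M : Type v) [AddCommGroup M] [Module A M]

theorem finiteTop [Module.Finite A M] : Module.Finite (A ⧸ J A) (Top A M) := by
  classical
  obtain ⟨s, hs⟩ := (Module.Finite.fg_top : (⊤ : Submodule A M).FG)
  refine ⟨⟨s.image (Submodule.mkQ _), top_unique fun x _ => ?_⟩⟩
  obtain ⟨x, rfl⟩ := Submodule.mkQ_surjective _ x
  have hx : x ∈ Submodule.span A (s : Set M) := hs ▸ trivial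
  induction hx using Submodule.span_induction with
  | mem y hy => exact Submodule.subset_span (Finset.mem_image_of_mem _ hy)
  | zero => simp
  | add a b _ _ ha hb => rw [map_add]; exact Submodule.add_mem _ (ha trivial) (hb trivial)
  | smul c a _ ha =>
    rw [map_smul]
    have := Submodule.smul_mem _ (Ideal.Quotient.mk (J A) c) (ha trivial)
    exact this

theorem nakayama [Module.Finite A M] (N : Submodule A M) (h : N ⊔ J A • ⊤ = ⊤) : N = ⊤ := by
  by_contra hN
  have : Nontrivial (M ⧸ N) := Submodule.Quotient.nontrivial_iff.mpr hN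
  have hlt := Submodule.jacobson_smul_lt_top (R := A) (⊤ : Submodule A (M ⧸ N))
  apply hlt.ne
  have := congrArg (Submodule.map N.mkQ) h
  rw [Submodule.map_sup, Submodule.map_smul'', Submodule.map_top, Submodule.range_mkQ,
    Submodule.mkQ_map_self, bot_sup_eq] at this
  exact this

theorem map_J_le {N : Type v} [AddCommGroup N] [Module A N] (f : M →ₗ[A] N) :
    J A • (⊤ : Submodule A M) ≤ (J A • (⊤ : Submodule A N)).comap f := by
  rw [← Submodule.map_le_iff_le_comap, Submodule.map_smul'']
  exact Submodule.smul_mono le_rfl le_top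

theorem isUnit_one_sub [Module.Finite A M] [Module.Projective A M] (f : Module.End A M)
    (hf : ∀ x, f x ∈ J A • (⊤ : Submodule A M)) : IsUnit (1 - f) := by
  have hsurj : Function.Surjective (1 - f : Module.End A M) := by
    rw [← LinearMap.range_eq_top]
    refine nakayama A M _ (top_unique fun x _ => ?_)
    have : x = (1 - f) x + f x := by simp
    rw [this]
    exact Submodule.add_mem_sup (LinearMap.mem_range_self _ x) (hf x)
  obtain ⟨s, hs⟩ := Module.projective_lifting_property (1 - f) LinearMap.id hsurj
  let c : Module.End A M := LinearMap.id - s ∘ₗ (1 - f)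
  have hker : ∀ x, (1 - f) x = 0 → c x = x := fun x hx => by simp only [c, LinearMap.sub_apply,
    LinearMap.comp_apply, hx, map_zero, sub_zero, LinearMap.id_apply]
  have hc : ∀ x, (1 - f) (c x) = 0 := fun x => by
    have := LinearMap.congr_fun hs ((1 - f) x)
    simp only [LinearMap.comp_apply, LinearMap.id_apply] at this
    show (1 - f) (x - s ((1 - f) x)) = 0
    rw [map_sub, sub_eq_zero]
    exact this.symm
  have hfg : (LinearMap.range c).FG := by
    rw [LinearMap.range_eq_map]; exact Module.Finite.fg_top.map _
  have h0 : LinearMap.range c = ⊥ := by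
    refine hfg.eq_bot_of_le_jacobson_smul fun y hy => ?_
    obtain ⟨x, rfl⟩ := hy
    have h1 : c x = f (c x) := by
      have := hc x
      simpa [sub_eq_zero] using this
    rw [← hker _ (hc x), h1, LinearMap.range_eq_map, ← Submodule.map_smul'']
    exact Submodule.mem_map_of_mem (hf _)
  rw [Module.End.isUnit_iff]
  refine ⟨fun a b hab => ?_, hsurj⟩
  have h3 : (1 - f) (a - b) = 0 := by rw [map_sub, hab, sub_self]
  have : c (a - b) ∈ LinearMap.range c := LinearMap.mem_range_self _ _
  rw [h0, Submodule.mem_bot, hker _ h3, sub_eq_zero] at this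
  exact this

noncomputable def topMap (f : Module.End A M) : Top A M →ₗ[A ⧸ J A] Top A M where
  toFun := Submodule.mapQ _ _ f (map_J_le A M f)
  map_add' := map_add _
  map_smul' b x :=
    Quotient.inductionOn' b fun a => (Submodule.mapQ _ _ f (map_J_le A M f)).map_smul a x

theorem topMap_mk (f : Module.End A M) (x : M) :
    topMap A M f (Submodule.Quotient.mk x) = Submodule.Quotient.mk (f x) := rfl

theorem top_ext {f g : Top A M →ₗ[A ⧸ J A] Top A M}
    (h : ∀ x : M, f (Submodule.Quotient.mk x) = g (Submodule.Quotient.mk x)) : f = g :=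
  LinearMap.ext fun y => Submodule.Quotient.induction_on _ y h

noncomputable def topEnd : Module.End A M →+* Module.End (A ⧸ J A) (Top A M) where
  toFun f := topMap A M f
  map_one' := top_ext A M fun x => topMap_mk A M 1 x
  map_mul' f g := top_ext A M fun x => topMap_mk A M (f * g) x
  map_zero' := top_ext A M fun x => topMap_mk A M 0 x
  map_add' f g := top_ext A M fun x => topMap_mk A M (f + g) x

theorem topEnd_eq_zero {f : Module.End A M} (h : topEnd A M f = 0) (x : M) :
    f x ∈ J A • (⊤ : Submodule A M) :=
  (Submodule.Quotient.mk_eq_zero _).1 (LinearMap.congr_fun h (Submodule.Quotient.mk x))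

theorem topEnd_surjective [Module.Projective A M] : Function.Surjective (topEnd A M) := by
  intro g
  let g' : M →ₗ[A] Top A M :=
    { toFun := fun x => g (Submodule.Quotient.mk x)
      map_add' := fun x y => by rw [Submodule.Quotient.mk_add, map_add]
      map_smul' := fun a x => g.map_smul (Ideal.Quotient.mk (J A) a) (Submodule.Quotient.mk x) }
  obtain ⟨f, hf⟩ := Module.projective_lifting_property (J A • (⊤ : Submodule A M)).mkQ g'
    (Submodule.mkQ_surjective _)
  refine ⟨f, LinearMap.ext fun x => ?_⟩
  obtain ⟨x, rfl⟩ := Submodule.mkQ_surjective _ x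
  exact LinearMap.congr_fun hf x

theorem regular {R : Type*} [Ring R] {X : Type*} [AddCommGroup X] [Module R X]
    [IsSemisimpleModule R X] (t : Module.End R X) : ∃ s : Module.End R X, t * s * t = t := by
  obtain ⟨h, hh⟩ := IsSemisimpleModule.lifting_property t.rangeRestrict
    t.surjective_rangeRestrict LinearMap.id
  obtain ⟨s, hs⟩ := IsSemisimpleModule.extension_property (LinearMap.range t).subtype
    (Submodule.subtype_injective _) h
  refine ⟨s, LinearMap.ext fun x => ?_⟩
  show t (s (t x)) = t x
  have h1 : s (t x) = h (t.rangeRestrict x) := LinearMap.congr_fun hs (t.rangeRestrict x)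
  have h2 : t.rangeRestrict (h (t.rangeRestrict x)) = t.rangeRestrict x :=
    LinearMap.congr_fun hh (t.rangeRestrict x)
  rw [h1]
  exact congrArg Subtype.val h2

theorem le_length {R : Type*} [Ring R] {X : Type*} [AddCommGroup X] [Module R X] {k : ℕ}
    (E : Fin k → Module.End R X) (horth : ∀ i j, E i * E j = if i = j then E i else 0)
    (hne : ∀ i, E i ≠ 0) : (k : ℕ∞) ≤ Module.length R X := by
  classical
  let Φ : (Π i, LinearMap.range (E i)) →ₗ[R] X :=
    ∑ i, (LinearMap.range (E i)).subtype ∘ₗ LinearMap.proj i
  have hΦ : Function.Injective Φ := by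
    rw [injective_iff_map_eq_zero]
    intro x hx
    funext j
    apply Subtype.ext
    have hval : ∀ i, E j (x i : X) = if j = i then (x i : X) else 0 := fun i => by
      obtain ⟨y, hy⟩ := (x i).2
      rw [← hy, ← Module.End.mul_apply, horth]
      split_ifs with h
      · subst h; rfl
      · simp
    have := congrArg (E j) hx
    simpa [Φ, map_sum, hval] using this
  refine le_trans ?_ (Module.length_le_of_injective Φ hΦ)
  rw [Module.length_pi_of_fintype]
  calc (k : ℕ∞) = ∑ _i : Fin k, (1 : ℕ∞) := by simp
    _ ≤ _ := Finset.sum_le_sum fun i _ => by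
      have : Nontrivial (LinearMap.range (E i)) := by
        rw [Submodule.nontrivial_iff_ne_bot, ne_eq, LinearMap.range_eq_bot]; exact hne i
      exact ENat.one_le_iff_ne_zero.2 Module.length_pos.ne'

theorem lift_iso [IsSimpleRing (A ⧸ J A)] (P Q : Type v) [AddCommGroup P] [Module A P]
    [Module.Finite A P] [Module.Projective A P] [AddCommGroup Q] [Module A Q] [Module.Finite A Q]
    [Module.Projective A Q] (ε : Top A P ≃ₗ[A ⧸ J A] Top A Q) : Nonempty (P ≃ₗ[A] Q) := by
  let εA : Top A P →ₗ[A] Top A Q :=
    { toFun := ε, map_add' := map_add ε, map_smul' := fun a x => ε.map_smul (Ideal.Quotient.mk (J A) a) x }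
  let εA' : Top A Q →ₗ[A] Top A P :=
    { toFun := ε.symm, map_add' := map_add ε.symm,
      map_smul' := fun a x => ε.symm.map_smul (Ideal.Quotient.mk (J A) a) x }
  obtain ⟨h, hh⟩ := Module.projective_lifting_property (J A • (⊤ : Submodule A Q)).mkQ
    (εA ∘ₗ (J A • (⊤ : Submodule A P)).mkQ) (Submodule.mkQ_surjective _)
  obtain ⟨h', hh'⟩ := Module.projective_lifting_property (J A • (⊤ : Submodule A P)).mkQ
    (εA' ∘ₗ (J A • (⊤ : Submodule A Q)).mkQ) (Submodule.mkQ_surjective _)
  have e : ∀ x, Submodule.Quotient.mk (h x) = ε (Submodule.Quotient.mk x) := LinearMap.congr_fun hh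
  have e' : ∀ x, Submodule.Quotient.mk (h' x) = ε.symm (Submodule.Quotient.mk x) := LinearMap.congr_fun hh'
  have u1 := (Module.End.isUnit_iff _).1 (isUnit_one_sub A P (1 - h' ∘ₗ h) fun x => by
    rw [← Submodule.Quotient.mk_eq_zero]
    simp [Submodule.Quotient.mk_sub, e, e'])
  have u2 := (Module.End.isUnit_iff _).1 (isUnit_one_sub A Q (1 - h ∘ₗ h') fun x => by
    rw [← Submodule.Quotient.mk_eq_zero]
    simp [Submodule.Quotient.mk_sub, e, e'])
  rw [sub_sub_cancel] at u1 u2
  refine ⟨LinearEquiv.ofBijective h ⟨fun a b hab => u1.1 ?_, fun y => ?_⟩⟩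
  · show h' (h a) = h' (h b)
    rw [hab]
  · obtain ⟨x, hx⟩ := u2.2 y
    exact ⟨h' x, hx⟩

theorem kills [IsSimpleRing (A ⧸ J A)] [IsArtinianRing (A ⧸ J A)] (P Q : Type v) [AddCommGroup P]
    [Module A P] [Module.Finite A P] [Module.Projective A P] [AddCommGroup Q] [Module A Q]
    [Module.Projective A Q] (e : Module.End A P ≃+* Module.End A Q) (f : Module.End A P)
    (hf : topEnd A P f = 0) : topEnd A Q (e f) = 0 := by
  obtain ⟨s, hs⟩ := regular (topEnd A Q (e f))
  obtain ⟨g, rfl⟩ := topEnd_surjective A Q s
  have hu : IsUnit (1 - e.symm g * f) :=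
    isUnit_one_sub A P _ fun x => map_J_le A P (e.symm g) (topEnd_eq_zero A P hf x)
  have hu' := (hu.map e.toRingHom).map (topEnd A Q)
  simp only [RingEquiv.toRingHom_eq_coe, RingHom.coe_coe, map_sub, map_one, map_mul,
    RingEquiv.apply_symm_apply] at hu'
  refine hu'.mul_left_eq_zero.1 ?_
  rw [mul_sub, mul_one, ← mul_assoc, hs, sub_self]

set_option maxHeartbeats 800000 in
theorem count [IsSimpleRing (A ⧸ J A)] [IsArtinianRing (A ⧸ J A)] (P Q : Type v) [AddCommGroup P]
    [Module A P] [Module.Finite A P] [Module.Projective A P] [AddCommGroup Q] [Module A Q]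
    [Module.Finite A Q] [Module.Projective A Q] (e : Module.End A P ≃+* Module.End A Q)
    (I : Submodule (A ⧸ J A) (A ⧸ J A)) [IsSimpleModule (A ⧸ J A) I] (n m : ℕ)
    (εP : Top A P ≃ₗ[A ⧸ J A] (Fin n → I)) (εQ : Top A Q ≃ₗ[A ⧸ J A] (Fin m → I)) : n ≤ m := by
  classical
  let E : Fin n → Module.End (A ⧸ J A) (Top A P) := fun i =>
    εP.symm.toLinearMap ∘ₗ (LinearMap.single _ (fun _ => I) i ∘ₗ LinearMap.proj i) ∘ₗ εP.toLinearMap
  have horth : ∀ i j, E i * E j = if i = j then E i else 0 := fun i j => by
    refine LinearMap.ext fun x => εP.injective ?_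
    rw [Module.End.mul_apply]
    split_ifs with h
    · subst h; simp [E]
    · simp [E, Pi.single_eq_of_ne h]
  have hne : ∀ i, E i ≠ 0 := fun i h => by
    have : Nontrivial I := IsSimpleModule.nontrivial (A ⧸ J A) I
    obtain ⟨a, ha⟩ := exists_ne (0 : I)
    apply ha
    have := congrArg (fun t => εP (t (εP.symm (Pi.single i a))) i) h
    simpa [E] using this
  choose f hf using fun i => topEnd_surjective A P (E i)
  let G : Fin n → Module.End (A ⧸ J A) (Top A Q) := fun i => topEnd A Q (e (f i))
  have hGorth : ∀ i j, G i * G j = if i = j then G i else 0 := fun i j => by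
    have h0 : topEnd A P (f i * f j - if i = j then f i else 0) = 0 := by
      rw [map_sub, map_mul, hf, hf, horth]
      split_ifs <;> simp [hf]
    have := kills A P Q e _ h0
    rw [map_sub, map_sub, map_mul, map_mul, sub_eq_zero] at this
    rw [this]
    split_ifs <;> simp [G]
  have hGne : ∀ i, G i ≠ 0 := fun i h => hne i <| by
    have := kills A Q P e.symm (e (f i)) h
    rwa [e.symm_apply_apply, hf] at this
  have := le_length G hGorth hGne
  rw [εQ.length_eq, Module.length_pi_of_fintype] at this
  simp only [Module.length_eq_one, Finset.sum_const, Finset.card_univ, Fintype.card_fin,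
    nsmul_eq_mul, mul_one] at this
  exact_mod_cast this

/-- Let A be a ring which is strongly local, that is, the quotient of A by its Jacobson radical J is a
simple left-Artinian ring, and let P and Q be finitely generated projective left A-modules. If
End_A(P) and End_A(Q) are isomorphic as rings, then P ≅ Q as A-modules. (The published assertion
says more, that every ring isomorphism End_A(P) ≅ End_A(Q) is induced by an isomorphism P ≅ Q; that
is not correct for isomorphisms which are not linear over the centre — complex conjugation is a ring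
automorphism of End_ℂ(ℂ) = ℂ induced by no ℂ-linear map — and this row keeps the existence of an
isomorphism P ≅ Q, which is what the first part of the printed proof establishes.) -/
theorem result (A : Type u) [Ring A] [IsSimpleRing (A ⧸ Ring.jacobson A)] [IsArtinianRing (A ⧸ Ring.jacobson A)] (P Q : Type v) [AddCommGroup P] [Module A P] [Module.Finite A P] [Module.Projective A P] [AddCommGroup Q] [Module A Q] [Module.Finite A Q] [Module.Projective A Q] (e : Module.End A P ≃+* Module.End A Q) : Nonempty (P ≃ₗ[A] Q) := by
  classical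
  let B := A ⧸ Ring.jacobson A
  have hsimple := (isSimpleRing_isArtinianRing_iff.mp ⟨‹IsSimpleRing B›, ‹IsArtinianRing B›⟩)
  have : Nontrivial B := hsimple.2.2
  obtain ⟨I, hI⟩ := IsAtomic.exists_atom (Submodule B B)
  rw [← isSimpleModule_iff_isAtom] at hI
  have typ : ∀ (X : Type v) [AddCommGroup X] [Module B X], IsIsotypicOfType B X I := fun X _ _ m _ => by
    obtain ⟨I', ⟨ε⟩⟩ := IsSemisimpleRing.exists_linearEquiv_ideal_of_isSimpleModule B m
    have := IsSimpleModule.congr ε.symm
    exact ⟨ε.trans (hsimple.2.1 I I').some⟩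
  have := finiteTop A P
  have := finiteTop A Q
  obtain ⟨n, ⟨εP⟩⟩ := (typ (Top A P)).linearEquiv_fun
  obtain ⟨m, ⟨εQ⟩⟩ := (typ (Top A Q)).linearEquiv_fun
  have h1 := count A P Q e I n m εP εQ
  have h2 := count A Q P e.symm I m n εQ εP
  obtain rfl : n = m := le_antisymm h1 h2
  exact lift_iso A P Q (εP.trans εQ.symm)

end Groth.Agent.S13847
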