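import Groth.Statements.S13848
import Mathlib.RingTheory.Jacobson.Radical
import Mathlib.RingTheory.Ideal.Quotient.Operations
import Mathlib.Algebra.Module.Projective
import Mathlib.RingTheory.SimpleModule.WedderburnArtin
import Mathlib.RingTheory.SimpleModule.Isotypic

set_option autoImplicit false
set_option backward.isDefEq.respectTransparency false
set_option backward.isDefEq.respectTransparency.types false
universe u v
open TwSh

namespace Groth.Agent.S13848

/-- Let A be a ring with A/J a simple left-Artinian ring, J the Jacobson radical, and let P be a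
non-zero finitely generated projective left A-module. An A-linear automorphism u of P which commutes
with every A-linear endomorphism of P (equivalently, induces the identity on End_A(P) by
conjugation) is scalar multiplication by a unique central element a of A: u(x) = a·x for all x ∈ P,
and a is determined by u. (So the automorphisms of P acting trivially on End_A(P) are exactly the
central units of A acting by scalars; the published assertion does not exclude P = 0, where
uniqueness fails.) -/
theorem result (A : Type u) [Ring A] [IsSimpleRing (A ⧸ Ring.jacobson A)] [IsArtinianRing (A ⧸ Ring.jacobson A)] (P : Type v) [AddCommGroup P] [Module A P] [Module.Finite A P] [Module.Projective A P] [Nontrivial P] (u : P ≃ₗ[A] P) (hu : ∀ f : Module.End A P, (u : P →ₗ[A] P) ∘ₗ f = f ∘ₗ (u : P →ₗ[A] P)) : ∃! a : A, (∀ b : A, a * b = b * a) ∧ ∀ x : P, u x = a • x := by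
  classical
  -- the trace ideal as a left ideal
  let L : Ideal A := Submodule.span A {a | ∃ (φ : P →ₗ[A] A) (x : P), φ x = a}
  have hR : ∀ a ∈ L, ∀ b : A, a * b ∈ L := by
    intro a ha b
    induction ha using Submodule.span_induction with
    | mem a ha =>
      obtain ⟨φ, x, rfl⟩ := ha
      exact Submodule.subset_span ⟨(LinearMap.toSpanSingleton A A b).comp φ, x, rfl⟩
    | zero => simp
    | add a a' _ _ h h' => rw [add_mul]; exact L.add_mem h h'
    | smul c a _ h => rw [smul_mul_assoc]; exact L.smul_mem c h
  have : L.IsTwoSided := ⟨fun b ha => hR _ ha b⟩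
  have hP : ∀ x : P, x ∈ L • (⊤ : Submodule A P) := by
    obtain ⟨s, hs⟩ := Module.projective_def.1 (inferInstance : Module.Projective A P)
    intro x
    have := hs x
    rw [← this, Finsupp.linearCombination_apply]
    refine Submodule.sum_mem _ fun i hi => ?_
    exact Submodule.smul_mem_smul (Submodule.subset_span ⟨(Finsupp.lapply i).comp s, x, rfl⟩) trivial
  let J := Ring.jacobson A
  have hL : L = ⊤ := by
    let I : Ideal (A ⧸ J) := L.map (Ideal.Quotient.mk J)
    have hIsurj : Function.Surjective (Ideal.Quotient.mk J) := Ideal.Quotient.mk_surjective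
    have hI2 : I.IsTwoSided := ⟨fun {a} b ha => by
      obtain ⟨a', ha', rfl⟩ := (Ideal.mem_map_iff_of_surjective _ hIsurj).1 ha
      obtain ⟨b', rfl⟩ := hIsurj b
      rw [← map_mul]
      exact Ideal.mem_map_of_mem _ (hR a' ha' b')⟩
    rcases isSimpleRing_iff_isTwoSided_imp.1 ‹IsSimpleRing (A ⧸ J)› with ⟨-, h⟩
    rcases h I hI2 with h | h
    · exfalso
      have hle : L ≤ J := fun a ha => by
        rw [← Ideal.Quotient.eq_zero_iff_mem]
        have : Ideal.Quotient.mk J a ∈ I := Ideal.mem_map_of_mem _ ha
        rwa [h] at this
      have : J • (⊤ : Submodule A P) < ⊤ :=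
        Submodule.FG.jacobson_smul_lt top_ne_bot (Module.Finite.fg_top)
      exact this.ne (top_unique fun x _ => Submodule.smul_mono hle le_rfl (hP x))
    · have h1 : (1 : A ⧸ J) ∈ I := by rw [h]; trivial
      obtain ⟨a, ha, e⟩ := (Ideal.mem_map_iff_of_surjective _ hIsurj).1 h1
      by_contra hne
      obtain ⟨M, hM, hLM⟩ := Ideal.exists_le_maximal L hne
      have hJM : J ≤ M := sInf_le hM.out
      refine hM.ne_top ((Ideal.eq_top_iff_one M).2 ?_)
      have : 1 - a ∈ J := by
        rw [← Ideal.Quotient.eq_zero_iff_mem, map_sub, map_one, e, sub_self]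
      simpa using M.add_mem (hJM this) (hLM ha)
  have faith : ∀ c : A, (∀ x : P, c • x = 0) → c = 0 := fun c hc => by
    have : ∀ a ∈ L, c * a = 0 := fun a ha => by
      have hb : ∀ b : A, ∀ y ∈ L, c * (b * y) = 0 := fun b y hy => by
        induction hy using Submodule.span_induction generalizing b with
        | mem y hy =>
          obtain ⟨φ, x, rfl⟩ := hy
          rw [← smul_eq_mul b, ← map_smul, ← smul_eq_mul, ← map_smul, hc, map_zero]
        | zero => simp
        | add y y' _ _ h h' => rw [mul_add, mul_add, h, h', add_zero]
        | smul d y _ h => rw [smul_eq_mul, ← mul_assoc b]; exact h _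
      simpa using hb 1 a ha
    simpa using this 1 (by rw [hL]; trivial)
  have hone : ∀ a ∈ L, ∀ x : P, ∃ a' : A, u (a • x) = a' • x ∧ ∀ y : P, u (a • y) = a' • y := by
    intro a ha
    induction ha using Submodule.span_induction with
    | mem a ha =>
      obtain ⟨φ, z, rfl⟩ := ha
      have key : ∀ y : P, u (φ z • y) = φ (u z) • y := fun y => by
        have := LinearMap.congr_fun (hu ((LinearMap.toSpanSingleton A P y).comp φ)) z
        exact this
      exact fun x => ⟨φ (u z), key x, key⟩
    | zero => exact fun x => ⟨0, by simp, fun y => by simp⟩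
    | add a b _ _ h h' =>
      intro x
      obtain ⟨a', -, ha'⟩ := h x
      obtain ⟨b', -, hb'⟩ := h' x
      exact ⟨a' + b', by rw [add_smul, map_add, ha', hb', add_smul],
        fun y => by rw [add_smul, map_add, ha', hb', add_smul]⟩
    | smul d a _ h =>
      intro x
      obtain ⟨a', -, ha'⟩ := h x
      have : ∀ y : P, u ((d • a) • y) = (d * a') • y := fun y => by
        rw [smul_assoc, map_smul, ha', smul_smul]
      exact ⟨d * a', this x, this⟩
  obtain ⟨a, -, ha⟩ := hone 1 (by rw [hL]; trivial) 0
  have hu' : ∀ x, u x = a • x := fun x => by simpa using ha x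
  refine ⟨a, ⟨fun b => sub_eq_zero.1 (faith _ fun x => ?_), hu'⟩, fun a' ha' => sub_eq_zero.1 (faith _ fun x => ?_)⟩
  · rw [sub_smul, mul_smul, mul_smul, ← hu', ← hu', map_smul, sub_self]
  · rw [sub_smul, ← ha'.2 x, hu', sub_self]

end Groth.Agent.S13848
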