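import Groth.Statements.S13858
import Groth.Agent.CohDev.TensorCoh
import Groth.Agent.ModFlat.Assoc
import Groth.Agent.KFlat.TensorLocFree
import Groth.Agent.KFlat.StalkTensor
import Groth.Agent.DefoShLib.Conn
import Groth.Agent.AmpleLib.Twist
import Groth.Agent.Props.GenTensor
import Groth.Agent.CohLin.Basic
import Groth.Agent.ProperFin.Descend
import Groth.Agent.Omega.Stalks
import Groth.Agent.CycLib.PushStalk

set_option linter.style.haveILetI false
set_option backward.isDefEq.respectTransparency false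
set_option backward.isDefEq.respectTransparency.types false

set_option autoImplicit false
open CategoryTheory CategoryTheory.Limits AlgebraicGeometry
open AdjLin

namespace Groth.Agent.S13858

noncomputable section

universe u

open Opposite Groth.Agent.QCoh Groth.Agent.Props.GenLocus Groth.Agent.Props.GenTensor
open Groth.Agent.PullStalk.Sky Groth.Agent.PullStalk.Exact MonoidalCategory
open scoped TensorProduct

variable {X : Scheme.{u}}

abbrev mapR (G : X.Modules) {N N' : X.Modules} (φ : N ⟶ N') :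
    CohB1.tensorMod G N ⟶ CohB1.tensorMod G N' := ((DCoh.tensorBi (X := X)).obj G).map φ

theorem map_tmul (G : X.Modules) {N N' : X.Modules} (φ : N ⟶ N') {U : X.Opens} (g : Γ(G, U))
    (a : Γ(N, U)) : (mapR G φ).app U (tmul g a) = tmul g (φ.app U a) := by
  have h := (PresheafOfModules.sheafificationAdjunction (𝟙 X.ringCatSheaf.obj)).unit.naturality
    (CohB1.toPMod G ◁ (show CohB1.toPMod N ⟶ CohB1.toPMod N' from φ.val))
  exact congr((PresheafOfModules.Hom.app $h (op U)).hom (g ⊗ₜ[Γ(X, U)] a)).symm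

abbrev tF (N : X.Modules) : X.Modules ⥤ X.Modules := (DCoh.tensorBi (X := X)).flip.obj N

theorem tF_map_tmul (N : X.Modules) {G G' : X.Modules} (φ : G ⟶ G') {U : X.Opens} (g : Γ(G, U))
    (a : Γ(N, U)) : ((tF N).map φ).app U (tmul g a) = tmul (φ.app U g) a := by
  have h := (PresheafOfModules.sheafificationAdjunction (𝟙 X.ringCatSheaf.obj)).unit.naturality
    ((show CohB1.toPMod G ⟶ CohB1.toPMod G' from φ.val) ▷ CohB1.toPMod N)
  exact congr((PresheafOfModules.Hom.app $h (op U)).hom (g ⊗ₜ[Γ(X, U)] a)).symm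

theorem hom_ext_tmul {G N H : X.Modules} (φ ψ : CohB1.tensorMod G N ⟶ H)
    (h : ∀ (U : X.Opens) (g : Γ(G, U)) (a : Γ(N, U)), φ.app U (tmul g a) = ψ.app U (tmul g a)) :
    φ = ψ := by
  refine ((PresheafOfModules.sheafificationAdjunction (𝟙 X.ringCatSheaf.obj)).homEquiv
    (pre G N) H).injective ?_
  rw [Adjunction.homEquiv_unit, Adjunction.homEquiv_unit]
  refine PresheafOfModules.hom_ext fun U => ?_
  refine ModuleCat.hom_ext (LinearMap.ext fun z => ?_)
  induction z using TensorProduct.induction_on with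
  | zero => exact (map_zero _).trans (map_zero _).symm
  | tmul g a => exact h U.unop g a
  | add a b ha hb => exact (map_add _ a b).trans ((congrArg₂ (· + ·) ha hb).trans (map_add _ a b).symm)

abbrev tensAssoc (L M N : X.Modules) :
    CohB1.tensorMod (CohB1.tensorMod L M) N ≅ CohB1.tensorMod L (CohB1.tensorMod M N) :=
  ModFlat.assocApp (O := X.sheaf) L M N

abbrev tensComm (L M : X.Modules) : CohB1.tensorMod L M ≅ CohB1.tensorMod M L :=
  ((KFlat.tensorBiFlipIso (O := X.sheaf)).app M).app L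

theorem tensComm_tmul (A B : X.Modules) (U : X.Opens) (a : Γ(A, U)) (b : Γ(B, U)) :
    (tensComm A B).hom.app U (tmul a b) = tmul b a := by
  have h := (PresheafOfModules.sheafificationAdjunction (𝟙 X.ringCatSheaf.obj)).unit.naturality
    (β_ (CohB1.toPMod A) (CohB1.toPMod B)).hom
  exact congr((PresheafOfModules.Hom.app $h (Opposite.op U)).hom (a ⊗ₜ[Γ(X, U)] b)).symm

theorem assocApp_tmul (L M N : X.Modules) (U : X.Opens) (a : Γ(L, U)) (b : Γ(M, U)) (c : Γ(N, U)) :
    (tensAssoc L M N).hom.app U (tmul (tmul a b) c) = tmul a (tmul b c) := by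
  let adj := PresheafOfModules.sheafificationAdjunction (𝟙 X.ringCatSheaf.obj)
  let sh : CohB1.PMod X ⥤ X.Modules := CohB1.sheafifyMod X
  let ab : ↥((CohB1.tensorPre L M).obj (op U)) := show ↥((CohB1.tensorPre L M).obj (op U)) from
    (a ⊗ₜ[Γ(X, U)] b : TensorProduct Γ(X, U) Γ(L, U) Γ(M, U))
  let z : ↥((CohB1.tensorPre L M ⊗ CohB1.toPMod N).obj (op U)) :=
    show ↥((CohB1.tensorPre L M ⊗ CohB1.toPMod N).obj (op U)) from (ab ⊗ₜ[Γ(X, U)] c)
  let u₁ : CohB1.tensorPre L M ⊗ CohB1.toPMod N ⟶ CohB1.tensorPre (CohB1.tensorMod L M) N :=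
    (show CohB1.tensorPre L M ⟶ CohB1.toPMod (CohB1.tensorMod L M) from adj.unit.app (pre L M)) ▷
      CohB1.toPMod N
  let u₂ : CohB1.toPMod L ⊗ CohB1.tensorPre M N ⟶ CohB1.tensorPre L (CohB1.tensorMod M N) :=
    CohB1.toPMod L ◁
      (show CohB1.tensorPre M N ⟶ CohB1.toPMod (CohB1.tensorMod M N) from adj.unit.app (pre M N))
  have h₁ := congr((PresheafOfModules.Hom.app $(adj.unit.naturality u₁) (op U)).hom z)
  have hα := congr((PresheafOfModules.Hom.app $(adj.unit.naturality
    (α_ (CohB1.toPMod L) (CohB1.toPMod M) (CohB1.toPMod N)).hom) (op U)).hom z)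
  have h₂ := congr((PresheafOfModules.Hom.app $(adj.unit.naturality u₂) (op U)).hom
    (((α_ (CohB1.toPMod L) (CohB1.toPMod M) (CohB1.toPMod N)).hom.app (op U)).hom z))
  let i₁ := tensAssoc L M N
  haveI : IsIso (sh.map u₁) := inferInstanceAs (IsIso ((ModSite.shPre X.sheaf).map
    ((Groth.Agent.KFlat.preAdj X.sheaf).unit.app ((ModSite.toPre X.sheaf).obj L ⊗
      (ModSite.toPre X.sheaf).obj M) ▷ (ModSite.toPre X.sheaf).obj N)))
  have hfac : sh.map u₁ ≫ i₁.hom = sh.map (α_ _ _ _).hom ≫ sh.map u₂ :=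
    IsIso.hom_inv_id_assoc (sh.map u₁) _
  have h₃ := congr(($hfac).app U ((adj.unit.app _).app (op U) z))
  refine Eq.trans (congrArg (i₁.hom.app U) h₁) ?_
  refine h₃.trans ?_
  refine (congrArg ((sh.map u₂).app U) hα.symm).trans ?_
  exact h₂.symm

theorem tmul_zero_left {M N : X.Modules} {V : X.Opens} (n : Γ(N, V)) :
    tmul (0 : Γ(M, V)) n = 0 := by
  rw [← zero_smul Γ(X, V) (0 : Γ(M, V)), tmul_smul_left, zero_smul]

section smul
open Groth.Agent.DefoShLib Groth.Agent.KoszTwLib

theorem sec_tmul_smul_right {M N : X.Modules} (U : X.Opens) (r : Γ(X, U)) (m : Γ(M, U)) (n : Γ(N, U)) :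
    (SecTwist.tmul M N U m (r • n) : Γ(CohB1.tensorMod M N, U)) =
      r • (SecTwist.tmul M N U m n : Γ(CohB1.tensorMod M N, U)) :=
  (congrArg (fun z => toT M N U (ofTV M N U z)) (TensorProduct.tmul_smul r m n)).trans
    (((SecTwist.toTensor M N).app (op U)).hom.map_smul r (ofTV M N U (m ⊗ₜ[Γ(X, U)] n)))

/-- A function killing the second factor kills the tensor product. -/
theorem smul_eq_zero_of {M N : X.Modules} (U : X.Opens) (r : Γ(X, U))
    (h : ∀ (W : X.Opens) (hW : W ≤ U) (n : Γ(N, W)), X.presheaf.map (homOfLE hW).op r • n = 0)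
    (y : Γ(CohB1.tensorMod M N, U)) : r • y = 0 := by
  refine KoszTwLib.eq_zero_of_locally _ U _ fun x hx => ?_
  obtain ⟨W, hW, z, hxW, e⟩ := toT'_locally_surjective U y x hx
  refine ⟨W, hW, hxW, ?_⟩
  rw [Scheme.Modules.map_smul, ← e]
  clear e
  induction z using TensorProduct.induction_on with
  | zero => rw [toT'_zero, smul_zero]
  | tmul m n =>
    rw [toT'_tmul, ← sec_tmul_smul_right, h W hW n]
    exact (congrArg (toT' M N W) (TensorProduct.tmul_zero _ m)).trans (toT'_zero W)
  | add a b ha hb => rw [toT'_add, smul_add, ha, hb, add_zero]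

end smul

theorem smul_quotMod (I : X.IdealSheafData) (U : X.Opens) (a : Γ(X, U))
    (h : (ClSub.toSubscheme I).app U a = 0) (n : Γ(ClSub.quotMod I, U)) : a • n = 0 := by
  let n' : Γ(I.subscheme, I.subschemeι ⁻¹ᵁ U) := n
  show (I.subschemeι.app U a) * n' = (0 : Γ(I.subscheme, I.subschemeι ⁻¹ᵁ U))
  rw [show I.subschemeι.app U a = 0 from h]
  exact zero_mul _

theorem epi_toSubscheme (D : X.IdealSheafData) : Epi (ClSub.toSubscheme D) := by
  refine Omega.Stalks.epi_of_stalk fun x => ?_
  by_cases hx : x ∈ Set.range D.subschemeι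
  · obtain ⟨z, rfl⟩ := hx
    intro t
    obtain ⟨c, rfl⟩ := CycLib.toPushStalk_surjective D.subschemeι z t
    obtain ⟨W, hW, r, rfl⟩ := X.presheaf.exists_germ_eq (x := D.subschemeι z) c
    refine ⟨germM (Coh.structureModule X) W (D.subschemeι z) hW r, ?_⟩
    exact (stalkLin_germ (ClSub.toSubscheme D) W _ hW r).trans
      (CycLib.toPushStalk_germ D.subschemeι z hW r).symm
  · haveI := CycLib.subsingleton_stalk_push_of_not_mem D.subschemeι hx
    exact fun t => ⟨0, @Subsingleton.elim _ this _ _⟩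

theorem shortExact_ideal (D : X.IdealSheafData) :
    (ShortComplex.mk (ClSub.idealModι D) (ClSub.toSubscheme D) (kernel.condition _)).ShortExact :=
  { exact := ShortComplex.exact_of_f_is_kernel _ (kernelIsKernel _)
    mono_f := inferInstanceAs (Mono (kernel.ι (ClSub.toSubscheme D)))
    epi_g := epi_toSubscheme D }

theorem free_stalk {V : X.Modules} (hV : FlatMod.IsFinLocFree V) (x : X) :
    Module.Free (X.presheaf.stalk x) (V.presheaf.stalk x) := by
  classical
  obtain ⟨U, r, hx, ⟨φ⟩⟩ := hV x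
  let p : Fin r → (FlatMod.freeMod (U : Scheme.{u}) r ⟶ Coh.structureModule (U : Scheme.{u})) :=
    fun j => Sigma.desc fun i => if i = j then 𝟙 _ else 0
  obtain ⟨e, he⟩ := LFFrame.exists_isFrame_of_split (M := V)
    (fun i => Sigma.ι (fun _ : Fin r => Coh.structureModule (U : Scheme.{u})) i ≫ φ.inv)
    (fun j => φ.hom ≫ p j) (fun i j => by simp [p]) (by
      rw [← cancel_epi φ.inv, ← cancel_mono φ.hom]
      apply Sigma.hom_ext
      intro j
      simp [p, Preadditive.comp_sum, Preadditive.sum_comp, ite_comp])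
  exact .of_basis (Module.Basis.ofEquivFun (LinearEquiv.ofBijective (LFFrame.stalkComb V e x hx)
    (he.stalkComb_bijective x hx)).symm)

theorem tens_shortExact_flf {V : X.Modules} (hV : FlatMod.IsFinLocFree V)
    {S : ShortComplex X.Modules} (hS : S.ShortExact) :
    (S.map ((DCoh.tensorBi (X := X)).obj V)).ShortExact := by
  let F := (DCoh.tensorBi (X := X)).obj V
  haveI : PreservesColimitsOfSize.{0, 0} F := KFlat.TensorLocFree.preservesColimits_tensorBi_obj V
  haveI := hS.mono_f
  haveI := hS.epi_g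
  haveI : PreservesFiniteColimits F := PreservesColimitsOfSize.preservesFiniteColimits F
  haveI : Mono (F.map S.f) := by
    refine KFlat.StalkTensor.mono_of_stalk_injective _ fun y => ?_
    haveI : Module.Flat (X.presheaf.stalk y) ((DerSch.stalkFunctor X y).obj V) := by
      haveI : Module.Free (X.presheaf.stalk y) ((DerSch.stalkFunctor X y).obj V) := free_stalk hV y
      exact Module.Flat.of_free
    have h := KFlat.StalkCx.stIso_right y V S.f
    have hinj : Function.Injective
        (((DerSch.stalkFunctor X y).obj V ◁ (DerSch.stalkFunctor X y).map S.f :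
          _ ⟶ (DerSch.stalkFunctor X y).obj V ⊗ (DerSch.stalkFunctor X y).obj S.X₂)).hom :=
      Module.Flat.lTensor_preserves_injective_linearMap (M := ((DerSch.stalkFunctor X y).obj V)) _
        (KFlat.StalkTensor.stalk_map_injective y S.f)
    intro a b hab
    have ha := LinearMap.congr_fun (congrArg ModuleCat.Hom.hom h) a
    have hb := LinearMap.congr_fun (congrArg ModuleCat.Hom.hom h) b
    refine (KFlat.StalkCx.stIso y V S.X₁).toLinearEquiv.injective (hinj ?_)
    exact ha.symm.trans ((congrArg (KFlat.StalkCx.stIso y V S.X₂).hom.hom hab).trans hb)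
  exact
    { exact := ShortComplex.exact_of_g_is_cokernel _
        (CokernelCofork.mapIsColimit (CokernelCofork.ofπ S.g S.zero) hS.gIsCokernel F)
      mono_f := inferInstanceAs (Mono (F.map S.f))
      epi_g := inferInstanceAs (Epi (F.map S.g)) }

theorem injective_app {M N : X.Modules} (φ : M ⟶ N) [Mono φ] (U : X.Opens) :
    Function.Injective (φ.app U) := by
  haveI : Mono ((Scheme.Modules.toPresheaf X).map φ) := inferInstance
  exact (AddCommGrpCat.mono_iff_injective (((Scheme.Modules.toPresheaf X).map φ).app (op U))).1 inferInstance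

/-- `g ↦ g ⊗ c`. -/
def tR {N : X.Modules} (c : Γ(N, ⊤)) (G : X.Modules) : G ⟶ CohB1.tensorMod G N :=
  ⟨PresheafOfModules.homMk
    { app := fun U => AddCommGrpCat.ofHom (show Γ(G, U.unop) →+ Γ(CohB1.tensorMod G N, U.unop) from
        AddMonoidHom.mk' (fun g => tmul g (res N le_top c)) fun a b => by
          show tmul (a + b) _ = _
          rw [tmul, TensorProduct.add_tmul]
          exact map_add ((η G N).app (op U.unop)).hom _ _)
      naturality := fun {U V} i => AddCommGrpCat.hom_ext <| AddMonoidHom.ext fun g => by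
        let g' : Γ(G, U.unop) := g
        show tmul (res G i.unop.le g') (res N le_top c) =
          res (CohB1.tensorMod G N) i.unop.le (tmul g' (res N le_top c))
        rw [res_tmul, res_res] }
    fun U a g => tmul_smul_left (V := U.unop) a g (res N le_top c)⟩

theorem tR_app {N : X.Modules} (c : Γ(N, ⊤)) (G : X.Modules) (U : X.Opens) (g : Γ(G, U)) :
    (tR c G).app U g = tmul g (res N le_top c) := rfl

abbrev O1 : Γ(Coh.structureModule X, ⊤) := one' ⊤

theorem bijective_tR1 (G : X.Modules) (U : X.Opens) :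
    Function.Bijective ((tR (O1 (X := X)) G).app U) := by
  convert AmpleLib.tmul_gen_bijective (isGen_one (X := X) ⊤) G (le_top : U ≤ ⊤) using 1
  funext g
  exact tR_app _ G U g

abbrev q (I : X.IdealSheafData) := ClSub.toSubscheme I

abbrev q1 (I : X.IdealSheafData) : Γ(ClSub.quotMod I, ⊤) := (q I).app ⊤ (one' ⊤)

theorem tR1_map (I : X.IdealSheafData) (G : X.Modules) :
    tR (O1 (X := X)) G ≫ mapR G (q I) = tR (q1 I) G := by
  ext U g
  refine (congrArg ((mapR G (q I)).app U) (tR_app _ G U g)).trans ?_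
  refine (map_tmul G (q I) g _).trans (Eq.trans ?_ (tR_app _ G U g).symm)
  exact congrArg (tmul g) (app_res (q I) le_top (one' ⊤))

theorem smul_tens_quot (I : X.IdealSheafData) (L : X.Modules) (U : X.Opens) (a : Γ(X, U))
    (ha : (q I).app U a = 0) (n : Γ(CohB1.tensorMod L (ClSub.quotMod I), U)) : a • n = 0 := by
  refine smul_eq_zero_of U a (fun W hW m => smul_quotMod I W _ ?_ m) n
  refine (app_res (q I) hW a).trans ?_
  exact (congrArg (res (ClSub.quotMod I) hW) ha).trans (map_zero _)

theorem mapR_ι_eq_zero (I : X.IdealSheafData) (L : X.Modules) :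
    mapR (CohB1.tensorMod L (ClSub.quotMod I)) (ClSub.idealModι I) = 0 := by
  refine hom_ext_tmul _ _ fun U n b => ?_
  refine (map_tmul _ _ n b).trans ?_
  let a : Γ(X, U) := (ClSub.idealModι I).app U b
  have ha : (q I).app U a = 0 :=
    congr(Scheme.Modules.Hom.app $(kernel.condition (ClSub.toSubscheme I)) U b)
  have h1 : (ClSub.idealModι I).app U b = a • (one' U : Γ(Coh.structureModule X, U)) :=
    (mul_one a).symm
  rw [h1, tmul_smul_right, ← tmul_smul_left, smul_tens_quot I L U a ha n]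
  exact tmul_zero_left _

theorem mono_tR_q1 (I : X.IdealSheafData) (L : X.Modules) :
    Mono (tR (q1 I) (CohB1.tensorMod L (ClSub.quotMod I))) := by
  let N := CohB1.tensorMod L (ClSub.quotMod I)
  let F := (DCoh.tensorBi (X := X)).obj N
  haveI : PreservesColimitsOfSize.{0, 0} F := KFlat.TensorLocFree.preservesColimits_tensorBi_obj N
  haveI : PreservesFiniteColimits F := PreservesColimitsOfSize.preservesFiniteColimits F
  haveI : F.Additive := Functor.additive_of_preserves_binary_products F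
  have hS := shortExact_ideal I
  haveI := hS.epi_g
  haveI : Mono (mapR N (q I)) :=
    (ShortComplex.exact_of_g_is_cokernel ((ShortComplex.mk _ _ (kernel.condition (ClSub.toSubscheme I))).map F)
      (CokernelCofork.mapIsColimit _ hS.gIsCokernel F)).mono_g (mapR_ι_eq_zero I L)
  haveI : Mono (tR (O1 (X := X)) N) := by
    refine ⟨fun {P} a b hab => ?_⟩
    ext U x
    exact (bijective_tR1 N U).1 congr(Scheme.Modules.Hom.app $hab U x)
  have h := tR1_map I N
  rw [← h]
  exact mono_comp _ _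

theorem mono_left (I : X.IdealSheafData) (E L : X.Modules) (hE : FlatMod.IsFinLocFree E) :
    Mono ((tF (CohB1.tensorMod L (ClSub.quotMod I))).map (tR (q1 I) E)) := by
  let N := CohB1.tensorMod L (ClSub.quotMod I)
  haveI := mono_tR_q1 I L
  let j : N ⟶ CohB1.tensorMod (ClSub.quotMod I) N := tR (q1 I) N ≫ (tensComm N (ClSub.quotMod I)).hom
  haveI : Mono j := mono_comp _ _
  have hS : (ShortComplex.mk j (cokernel.π j) (cokernel.condition j)).ShortExact :=
    ShortComplex.ShortExact.mk' (ShortComplex.exact_of_g_is_cokernel _ (cokernelIsCokernel j))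
      inferInstance inferInstance
  haveI : Mono (mapR E j) := (tens_shortExact_flf hE hS).mono_f
  haveI : Mono ((tF N).map (tR (q1 I) E) ≫ (tensAssoc E (ClSub.quotMod I) N).hom) := by
    have h : (tF N).map (tR (q1 I) E) ≫ (tensAssoc E (ClSub.quotMod I) N).hom =
        mapR E j := by
      refine hom_ext_tmul _ _ fun U e n => ?_
      refine (congrArg ((tensAssoc E (ClSub.quotMod I) N).hom.app U)
        ((tF_map_tmul N (tR (q1 I) E) e n).trans (congrArg (fun z => tmul z n) (tR_app _ E U e)))).trans ?_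
      refine (assocApp_tmul E (ClSub.quotMod I) N U e _ n).trans (Eq.trans ?_ (map_tmul E j e n).symm)
      refine congrArg (tmul e) ?_
      exact ((congrArg ((tensComm N (ClSub.quotMod I)).hom.app U) (tR_app _ N U n)).trans
        (tensComm_tmul N (ClSub.quotMod I) U n _)).symm
    rw [h]; infer_instance
  exact mono_of_mono _ (tensAssoc E (ClSub.quotMod I) N).hom

theorem surjective_tR_q1 (I : X.IdealSheafData) {E : X.Modules} (hE : FlatMod.IsFinLocFree E)
    (h1 : Subsingleton (Coh.HH X (CohB1.tensorMod E (ClSub.idealMod I)) 1)) :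
    Function.Surjective ((tR (q1 I) E).app ⊤) := by
  intro y
  have hS := tens_shortExact_flf hE (shortExact_ideal I)
  obtain ⟨z, hz⟩ := CohLin.exists_hMap_g_eq hS ((ProperFin.h0Sec _).symm y) (h1.elim _ _)
  obtain ⟨e, he⟩ := (bijective_tR1 E ⊤).2 (ProperFin.h0Sec _ z)
  refine ⟨e, ?_⟩
  rw [← tR1_map I E]
  refine (congrArg ((mapR E (q I)).app ⊤) he).trans ?_
  refine (ProperFin.h0Sec_hMap _ z).symm.trans ?_
  exact (congrArg (ProperFin.h0Sec _) hz).trans ((ProperFin.h0Sec _).apply_symm_apply y)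

/-- `a ⊗ b` in the global tensor product. -/
abbrev ηt (M N : X.Modules) (z : Γ(M, ⊤) ⊗[Γ(X, ⊤)] Γ(N, ⊤)) : Γ(CohB1.tensorMod M N, ⊤) :=
  (η M N).app (op ⊤) (show (pre M N).obj (op ⊤) from z)

theorem isIso_tR1 (G : X.Modules) : IsIso (tR (O1 (X := X)) G) := by
  haveI : IsIso ((Scheme.Modules.toPresheaf X).map (tR (O1 (X := X)) G)) := by
    haveI : ∀ U, IsIso (((Scheme.Modules.toPresheaf X).map (tR (O1 (X := X)) G)).app U) := fun U =>
      (ConcreteCategory.isIso_iff_bijective _).2 (bijective_tR1 G U.unop)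
    exact NatIso.isIso_of_isIso_app _
  exact isIso_of_reflects_iso _ (Scheme.Modules.toPresheaf X)

theorem isFinLocFree_of_invertible {L : X.Modules} (hL : PicF.IsInvertible L) :
    FlatMod.IsFinLocFree L := fun x => by
  obtain ⟨U, hx, ⟨φ⟩⟩ := hL x
  exact ⟨U, 1, hx, ⟨φ ≪≫
    (coproductUniqueIso fun _ : Fin 1 => Coh.structureModule (U : Scheme.{u})).symm⟩⟩

/-- `E ⊗ L → (E ⊗ O_D) ⊗ (L ⊗ O_D)`. -/
abbrev restr (I : X.IdealSheafData) (E L : X.Modules) :=
  mapR E (tR (q1 I) L) ≫ (tF (CohB1.tensorMod L (ClSub.quotMod I))).map (tR (q1 I) E)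

theorem restr_tmul (I : X.IdealSheafData) (E L : X.Modules) (a : Γ(E, ⊤)) (b : Γ(L, ⊤)) :
    (restr I E L).app ⊤ (tmul a b) = tmul ((tR (q1 I) E).app ⊤ a) ((tR (q1 I) L).app ⊤ b) :=
  (congrArg (((tF (CohB1.tensorMod L (ClSub.quotMod I))).map (tR (q1 I) E)).app ⊤)
    (map_tmul E (tR (q1 I) L) a b)).trans (tF_map_tmul _ (tR (q1 I) E) a _)

theorem exists_lift (I : X.IdealSheafData) (E L : X.Modules)
    (hE : Function.Surjective ((tR (q1 I) E).app ⊤)) (hL : Function.Surjective ((tR (q1 I) L).app ⊤))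
    (z : Γ(CohB1.tensorMod E (ClSub.quotMod I), ⊤) ⊗[Γ(X, ⊤)] Γ(CohB1.tensorMod L (ClSub.quotMod I), ⊤)) :
    ∃ z', (restr I E L).app ⊤ (ηt E L z') =
      ηt (CohB1.tensorMod E (ClSub.quotMod I)) (CohB1.tensorMod L (ClSub.quotMod I)) z := by
  induction z using TensorProduct.induction_on with
  | zero => exact ⟨0, (congrArg ((restr I E L).app ⊤) (map_zero ((η E L).app (op ⊤)).hom)).trans
      ((map_zero ((restr I E L).app ⊤).hom).trans
        (map_zero ((η (CohB1.tensorMod E (ClSub.quotMod I))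
          (CohB1.tensorMod L (ClSub.quotMod I))).app (op ⊤)).hom).symm)⟩
  | tmul a b =>
    obtain ⟨a', rfl⟩ := hE a
    obtain ⟨b', rfl⟩ := hL b
    exact ⟨a' ⊗ₜ[Γ(X, ⊤)] b', restr_tmul I E L a' b'⟩
  | add x y hx hy =>
    obtain ⟨x', hx'⟩ := hx
    obtain ⟨y', hy'⟩ := hy
    exact ⟨x' + y', (congrArg ((restr I E L).app ⊤) (map_add ((η E L).app (op ⊤)).hom _ _)).trans
      ((map_add ((restr I E L).app ⊤).hom _ _).trans ((congrArg₂ (· + ·) hx' hy').trans
        (map_add ((η (CohB1.tensorMod E (ClSub.quotMod I))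
          (CohB1.tensorMod L (ClSub.quotMod I))).app (op ⊤)).hom _ _).symm))⟩

theorem exists_tmul_of_ker (I : X.IdealSheafData) (E L : X.Modules) (hE : FlatMod.IsFinLocFree E)
    (hL : FlatMod.IsFinLocFree L) (e0 : CohB1.tensorMod L (ClSub.idealMod I) ≅ Coh.structureModule X)
    (t : Γ(CohB1.tensorMod E L, ⊤)) (ht : (mapR E (tR (q1 I) L)).app ⊤ t = 0) :
    ∃ e s, t = tmul e s := by
  haveI := isIso_tR1 L
  haveI : IsIso (mapR E (tR (O1 (X := X)) L)) := Functor.map_isIso _ _
  have hSE := tens_shortExact_flf hE (tens_shortExact_flf hL (shortExact_ideal I))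
  have hu : (mapR E (mapR L (q I))).app ⊤ ((mapR E (tR (O1 (X := X)) L)).app ⊤ t) = 0 := by
    refine Eq.trans ?_ ht
    have h : mapR E (tR (O1 (X := X)) L) ≫ mapR E (mapR L (q I)) = mapR E (tR (q1 I) L) :=
      (((DCoh.tensorBi (X := X)).obj E).map_comp (tR (O1 (X := X)) L) (mapR L (q I))).symm.trans
        (congrArg ((DCoh.tensorBi (X := X)).obj E).map (tR1_map I L))
    exact congr(Scheme.Modules.Hom.app $h ⊤ t)
  generalize hu' : (mapR E (tR (O1 (X := X)) L)).app ⊤ t = u at hu
  obtain ⟨w₀, hw₀⟩ := CohLin.exists_hMap_f_eq hSE ((ProperFin.h0Sec _).symm u) (by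
    refine (ProperFin.h0Sec _).injective (((ProperFin.h0Sec_hMap _ _).trans ?_).trans
      (map_zero (ProperFin.h0Sec _)).symm)
    exact (congrArg ((mapR E (mapR L (q I))).app ⊤) ((ProperFin.h0Sec _).apply_symm_apply u)).trans hu)
  have hw : (mapR E (mapR L (ClSub.idealModι I))).app ⊤ (ProperFin.h0Sec _ w₀) = u :=
    (ProperFin.h0Sec_hMap _ w₀).symm.trans
      ((congrArg (ProperFin.h0Sec _) hw₀).trans ((ProperFin.h0Sec _).apply_symm_apply u))
  generalize hw' : (ProperFin.h0Sec _ w₀ : Γ(CohB1.tensorMod E (CohB1.tensorMod L (ClSub.idealMod I)), ⊤)) = w at hw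
  obtain ⟨e, he⟩ := (bijective_tR1 E ⊤).2 ((mapR E e0.hom).app ⊤ w)
  have hwe : w = tmul e (e0.inv.app ⊤ (O1 (X := X))) := by
    have h : mapR E e0.hom ≫ mapR E e0.inv = 𝟙 _ :=
      (((DCoh.tensorBi (X := X)).obj E).mapIso e0).hom_inv_id
    refine (congr(Scheme.Modules.Hom.app $h ⊤ w)).symm.trans ?_
    refine (congrArg ((mapR E e0.inv).app ⊤) (he.symm.trans (tR_app _ E ⊤ e))).trans ?_
    refine (map_tmul E e0.inv e _).trans ?_
    exact congrArg (fun o => tmul e (e0.inv.app ⊤ o)) (res_self _ _ _)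
  obtain ⟨s, hs⟩ := (bijective_tR1 L ⊤).2
    ((mapR L (ClSub.idealModι I)).app ⊤ (e0.inv.app ⊤ (O1 (X := X))))
  refine ⟨e, s, injective_app (mapR E (tR (O1 (X := X)) L)) ⊤ ?_⟩
  refine Eq.trans ?_ (map_tmul E (tR (O1 (X := X)) L) e s).symm
  rw [hs, hu', ← hw, hwe]
  exact map_tmul E _ e _

theorem surj_of_restrict (I : X.IdealSheafData) (E L : X.Modules) (hE : FlatMod.IsFinLocFree E)
    (hL : PicF.IsInvertible L) (e0 : CohB1.tensorMod L (ClSub.idealMod I) ≅ Coh.structureModule X)
    (hreg : Subsingleton (Coh.HH X (Coh.structureModule X) 1))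
    (h1 : Subsingleton (Coh.HH X (CohB1.tensorMod E (ClSub.idealMod I)) 1))
    (hD : ∀ y, ∃ z, ηt (CohB1.tensorMod E (ClSub.quotMod I)) (CohB1.tensorMod L (ClSub.quotMod I)) z = y)
    (t : Γ(CohB1.tensorMod E L, ⊤)) : ∃ z, ηt E L z = t := by
  have hLf := isFinLocFree_of_invertible hL
  have hLI : Subsingleton (Coh.HH X (CohB1.tensorMod L (ClSub.idealMod I)) 1) :=
    (CohLin.hIso e0 1).injective.subsingleton
  obtain ⟨z, hz⟩ := hD ((restr I E L).app ⊤ t)
  obtain ⟨z', hz'⟩ := exists_lift I E L (surjective_tR_q1 I hE h1) (surjective_tR_q1 I hLf hLI) z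
  have hker : (restr I E L).app ⊤ (t - ηt E L z') = 0 := by
    rw [map_sub, hz', hz, sub_self]
  haveI := mono_left I E L hE
  obtain ⟨e, s, hes⟩ := exists_tmul_of_ker I E L hE hLf e0 (t - ηt E L z')
    (injective_app ((tF (CohB1.tensorMod L (ClSub.quotMod I))).map (tR (q1 I) E)) ⊤
      (hker.trans (map_zero _).symm))
  refine ⟨z' + e ⊗ₜ[Γ(X, ⊤)] s, (map_add ((η E L).app (op ⊤)).hom _ _).trans ?_⟩
  show ηt E L z' + tmul e s = t
  rw [← hes]
  exact add_sub_cancel _ t

/-- Let X be a regular projective variety over the complex numbers (an integral scheme, proper over ℂ,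
with H^1(X, O_X) = 0), E a finite locally free O_X-module, I a quasi-coherent ideal of O_X with
closed subscheme D and O_D its structure sheaf viewed on X, and L an invertible module generated by
its global sections with L ⊗ I ≅ O_X (so that L = O_X(D)) and H^1(E ⊗ I) = 0 (that is, H^1(E ⊗
L^{-1}) = 0). If the multiplication map H^0(E ⊗ O_D) ⊗ H^0(L ⊗ O_D) → H^0(E ⊗ O_D ⊗ L ⊗ O_D) on the
restrictions to D is surjective, then the multiplication map H^0(E) ⊗ H^0(L) → H^0(E ⊗ L) is
surjective (such a multiplication map is written as the map from the global sections of the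
sectionwise tensor product presheaf to the global sections of its sheafification). -/
theorem result
    (X : Scheme.{0}) [X.Over (Spec (CommRingCat.of ℂ))] [IsIntegral X] [IsProper (X ↘ Spec (CommRingCat.of ℂ))]
    (hreg : Subsingleton (Coh.HH X (Coh.structureModule X) 1))
    (E : X.Modules) (hE : FlatMod.IsFinLocFree E)
    (I : X.IdealSheafData) (L : X.Modules) (hLi : PicF.IsInvertible L) (hLg : Curv2.IsGloballyGenerated L)
    (hLI : ClSub.IsInverseOf L (ClSub.idealMod I))
    (h1 : Subsingleton (Coh.HH X (CohB1.tensorMod E (ClSub.idealMod I)) 1))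
    (hD : Function.Surjective
      ((toSheafify (Opens.grothendieckTopology X) (CohB1.tensorPre (CohB1.tensorMod E (ClSub.quotMod I)) (CohB1.tensorMod L (ClSub.quotMod I))).presheaf).app (Opposite.op ⊤))) :
    Function.Surjective
      ((toSheafify (Opens.grothendieckTopology X) (CohB1.tensorPre E L).presheaf).app (Opposite.op ⊤)) := by
  have key : ∀ (M N : X.Modules) (z : Γ(M, ⊤) ⊗[Γ(X, ⊤)] Γ(N, ⊤)),
      (toSheafify (Opens.grothendieckTopology X) (CohB1.tensorPre M N).presheaf).app (op ⊤) z = ηt M N z := fun M N z =>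
    (ConcreteCategory.congr_hom (congrArg (fun φ => NatTrans.app φ (op ⊤)) (η_eq M N)) _).symm
  obtain ⟨e0⟩ := hLI
  intro t
  obtain ⟨z, hz⟩ := surj_of_restrict I E L hE hLi e0 hreg h1 (fun y => by
    obtain ⟨z, hz⟩ := hD y
    exact ⟨z, ((key (CohB1.tensorMod E (ClSub.quotMod I)) (CohB1.tensorMod L (ClSub.quotMod I)) z).symm).trans hz⟩) t
  exact ⟨z, (key E L z).trans hz⟩

end

end Groth.Agent.S13858
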