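import Groth.Statements.S13860
import Mathlib.GroupTheory.GroupAction.Quotient
import Mathlib.Tactic.Group
import Mathlib.Algebra.CharP.Basic
-- import your own Groth.Agent.* helpers here

set_option autoImplicit false
universe u v w
open ModRep

namespace Groth.Agent.S13860

/-- For k a field of characteristic p > 0, G a finite group and P a Sylow p-subgroup of G, a short exact
sequence of k[G]-modules has a k[G]-linear splitting exactly when it has a k[P]-linear one. Stated
here for the surjection of the sequence: a G-equivariant k-linear map g : B → C between k-linear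
representations of G admits a G-equivariant k-linear section if and only if it admits a
P-equivariant k-linear section. -/
theorem result {k : Type u} [Field k] (p : ℕ) [Fact p.Prime]
    [CharP k p] {G : Type v} [Group G] [Finite G] (P : Sylow p G)
    {B C : Type w} [AddCommGroup B] [Module k B] [AddCommGroup C] [Module k C]
    (ρB : Representation k G B) (ρC : Representation k G C)
    (g : B →ₗ[k] C) (hg : ∀ x : G, g ∘ₗ ρB x = ρC x ∘ₗ g) :
    (∃ s : C →ₗ[k] B, g ∘ₗ s = LinearMap.id ∧ ∀ x : G, s ∘ₗ ρC x = ρB x ∘ₗ s) ↔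
      (∃ s : C →ₗ[k] B, g ∘ₗ s = LinearMap.id ∧ ∀ x : G, x ∈ P → s ∘ₗ ρC x = ρB x ∘ₗ s) := by
  classical
  constructor
  · rintro ⟨s, hs, hs'⟩
    exact ⟨s, hs, fun x _ => hs' x⟩
  rintro ⟨s, hs, hsP⟩
  set F : G → (C →ₗ[k] B) := fun x => ρB x ∘ₗ s ∘ₗ ρC x⁻¹ with hF
  have hwd : ∀ a b : G, QuotientGroup.leftRel (P : Subgroup G) a b → F a = F b := by
    intro a b hab
    rw [QuotientGroup.leftRel_apply] at hab
    obtain ⟨h, hh, rfl⟩ : ∃ h ∈ (P : Subgroup G), b = a * h := ⟨a⁻¹ * b, hab, by group⟩
    ext c
    have := DFunLike.congr_fun (hsP h hh) ((ρC (a * h)⁻¹) c)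
    simp only [LinearMap.comp_apply] at this
    simp only [hF, LinearMap.comp_apply, map_mul, Module.End.mul_apply]
    rw [← this]
    congr 2
    rw [← Module.End.mul_apply, ← map_mul]
    congr 2
    group
  let F' : G ⧸ (P : Subgroup G) → (C →ₗ[k] B) := Quotient.lift F hwd
  haveI : Fintype (G ⧸ (P : Subgroup G)) := Fintype.ofFinite _
  have hne : (Fintype.card (G ⧸ (P : Subgroup G)) : k) ≠ 0 := by
    rw [← Nat.card_eq_fintype_card, ← Subgroup.index, Ne, CharP.cast_eq_zero_iff k p]
    exact P.not_dvd_index
  refine ⟨(Fintype.card (G ⧸ (P : Subgroup G)) : k)⁻¹ • ∑ q, F' q, ?_, fun y => ?_⟩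
  · ext c
    have : ∀ q, g (F' q c) = c := by
      intro q
      induction q using Quotient.inductionOn' with
      | h x =>
        show g (ρB x (s (ρC x⁻¹ c))) = c
        rw [← LinearMap.comp_apply g (ρB x), hg x, LinearMap.comp_apply, ← LinearMap.comp_apply g s, hs,
          LinearMap.id_apply, ← Module.End.mul_apply, ← map_mul, mul_inv_cancel, map_one]
        rfl
    simp only [LinearMap.comp_apply, LinearMap.smul_apply, LinearMap.sum_apply, map_smul, map_sum,
      this, Finset.sum_const, Finset.card_univ, LinearMap.id_apply]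
    rw [← Nat.cast_smul_eq_nsmul k, smul_smul, inv_mul_cancel₀ hne, one_smul]
  · have h1 : ∀ q, F' (y • q) ∘ₗ ρC y = ρB y ∘ₗ F' q := by
      intro q
      induction q using Quotient.inductionOn' with
      | h x =>
        show F (y * x) ∘ₗ ρC y = ρB y ∘ₗ F x
        ext c
        simp only [hF, LinearMap.comp_apply]
        rw [map_mul, Module.End.mul_apply, ← Module.End.mul_apply (ρC (y * x)⁻¹) (ρC y), ← map_mul]
        congr 4
        group
    rw [LinearMap.smul_comp, LinearMap.comp_smul]
    congr 1
    ext c
    simp only [LinearMap.comp_apply, LinearMap.sum_apply, map_sum]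
    conv_lhs => rw [← Equiv.sum_comp (MulAction.toPerm y)]
    exact Finset.sum_congr rfl fun q _ => DFunLike.congr_fun (h1 q) c

end Groth.Agent.S13860
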