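import Groth.Statements.S13862
import Groth.Agent.GalCohAux.ASCoh
import Mathlib.RepresentationTheory.Homological.GroupCohomology.Functoriality

set_option autoImplicit false
universe u
open ASCover

namespace Groth.Agent.S13862

/-- For k an algebraically closed field of characteristic p > 0, n ≥ 1 an integer prime to p, u ∈ k[[t]]
the power series with constant term 1 and u^n · (1 + t^n) = 1, and G a group of order p generated by
g, consider two k-linear actions of G on B = k[[t]]: ρ₀(g) h = h(t·u), i.e. B with its order-p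
automorphism σ(t) = t·u, and ρ₁(g) h = u^(n+1) · h(t·u), which is the σ-module B·dt identified with
B through h·dt ↦ h (because d(σ t) = u^(n+1) dt). The derivative d/dt : (B, ρ₀) → (B, ρ₁) is
G-equivariant, and the image of the map it induces on first group cohomology, H^1(G, (B, ρ₀)) →
H^1(G, (B, ρ₁)), is finite-dimensional over k of dimension ⌊(n+1)(p−1)/p⌋ − 1 − ⌊(n−1)/p⌋. This is
the dimension of the image of H^1(G, O) → H^1(G, Ω) at a ramified point with break n of a ℤ/p-cover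
of smooth curves, computed in the completed local ring; the published statement is phrased for the
stalks, at a point of the quotient curve, of the direct images of the structure sheaf and of the
sheaf of differentials, and its proof passes to this completed form. -/
theorem result {k : Type u} [Field k] [IsAlgClosed k] (p : ℕ)
    [Fact p.Prime] [CharP k p] (n : ℕ) (hn : 0 < n) (hpn : ¬ p ∣ n)
    (u : PowerSeries k) (hu1 : PowerSeries.constantCoeff u = 1)
    (hun : u ^ n * (1 + PowerSeries.X ^ n) = 1)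
    {G : Type u} [Group G] [Finite G] (g : G) (hG : Nat.card G = p)
    (hg : ∀ x : G, x ∈ Subgroup.zpowers g)
    (ρ₀ ρ₁ : Representation k G (PowerSeries k))
    (hρ₀ : ∀ h : PowerSeries k, ρ₀ g h = PowerSeries.subst (PowerSeries.X * u) h)
    (hρ₁ : ∀ h : PowerSeries k, ρ₁ g h = u ^ (n + 1) * PowerSeries.subst (PowerSeries.X * u) h)
    (φ : Rep.of ρ₀ ⟶ Rep.of ρ₁) (hφ : ∀ h : PowerSeries k, φ.hom h = PowerSeries.derivative k h) :
    Module.Finite k (LinearMap.range ((groupCohomology.functor k G 1).map φ).hom) ∧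
      (Module.finrank k (LinearMap.range ((groupCohomology.functor k G 1).map φ).hom) : ℤ) =
        ((n + 1) * (p - 1) : ℤ) / p - 1 - (n - 1 : ℤ) / p := by
  classical
  have hu : IsUnit u := PowerSeries.isUnit_iff_constantCoeff.2 (by rw [hu1]; exact isUnit_one)
  have hS := Groth.Agent.GalCohAux.ASTwist.setup_of (p := p) hn hpn hu1 hun hu
  have hpp : p.Prime := Fact.out
  obtain ⟨f₀, e₀, hf₀, he₀⟩ := Groth.Agent.GalCohAux.ASCoh.exists_equiv p hS g hG hg ρ₀ 0 fun h => by
    rw [hρ₀, Groth.Agent.GalCohAux.ASTwist.tw_apply, Groth.Agent.GalCohAux.ASTwist.sub_apply, zpow_zero, Units.val_one, one_mul]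
    rfl
  obtain ⟨f₁, e₁, hf₁, he₁⟩ := Groth.Agent.GalCohAux.ASCoh.exists_equiv p hS g hG hg ρ₁ ((n : ℤ) + 1)
    fun h => by
      rw [hρ₁, Groth.Agent.GalCohAux.ASTwist.tw_apply, Groth.Agent.GalCohAux.ASTwist.sub_apply, ← Nat.cast_add_one, zpow_natCast,
        Units.val_pow_eq_pow_val]
      rfl
  let Φ : groupCohomology.H1 (Rep.of ρ₀) →ₗ[k] groupCohomology.H1 (Rep.of ρ₁) :=
    (groupCohomology.map (MonoidHom.id G) φ 1).hom
  change Module.Finite k (LinearMap.range Φ) ∧ (Module.finrank k (LinearMap.range Φ) : ℤ) = _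
  let v₀ : ℕ → groupCohomology.H1 (Rep.of ρ₀) := fun m => groupCohomology.H1π _ (f₀ m)
  let v₁ : ℕ → groupCohomology.H1 (Rep.of ρ₁) := fun m => groupCohomology.H1π _ (f₁ m)
  have hmem : ∀ (a : ℤ) (m : ℕ), m ∈ Groth.Agent.GalCohAux.ASTwist.idx p n a ↔ (1 ≤ m ∧ m ≤ n) ∧ ¬ (p : ℤ) ∣ a - m := fun a m => by
    simp [Groth.Agent.GalCohAux.ASTwist.idx]
  let T := (Groth.Agent.GalCohAux.ASTwist.idx p n 0).filter fun m => m + 1 ∈ Groth.Agent.GalCohAux.ASTwist.idx p n ((n : ℤ) + 1)
  have himg : ∀ m, m ≤ n → Φ (v₀ m) =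
      if m + 1 ∈ Groth.Agent.GalCohAux.ASTwist.idx p n ((n : ℤ) + 1) then (-(m : k)) • v₁ (m + 1) else 0 := by
    intro m hm
    have hev : ((groupCohomology.mapCocycles₁ (MonoidHom.id G) φ (f₀ m)) : G → PowerSeries k) g =
        PowerSeries.derivative k (Groth.Agent.GalCohAux.ASTwist.cS hu.unit n 0 m) :=
      (hφ _).trans (congrArg (PowerSeries.derivative k) (hf₀ m hm))
    have hmap : Φ (v₀ m) =
        groupCohomology.H1π _ (groupCohomology.mapCocycles₁ (MonoidHom.id G) φ (f₀ m)) := by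
      have := groupCohomology.H1π_comp_map_apply (MonoidHom.id G) φ (f₀ m)
      exact this
    rw [hmap]
    rcases hm.lt_or_eq with hlt | rfl
    · split_ifs with h1
      · rw [← map_smul]
        refine congrArg _ (Groth.Agent.GalCohAux.ASCoh.cocycle_ext ρ₁ g hg _ _ ?_)
        rw [hev, Groth.Agent.GalCohAux.ASTwist.derivative_cS_eq hS hlt]
        change _ = (-(m : k)) • (f₁ (m + 1) : G → PowerSeries k) g
        rw [hf₁ (m + 1) hlt]
      · refine (Groth.Agent.GalCohAux.ASCoh.H1π_eq_zero_iff' ρ₁ g hg _).2 ?_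
        rw [hmem] at h1
        obtain ⟨x, hx⟩ := Groth.Agent.GalCohAux.ASTwist.coboundary_of_dvd hS p ((n : ℤ) + 1) (m + 1) hlt
          (by_contra fun h => h1 ⟨⟨by omega, hlt⟩, h⟩) _ (Groth.Agent.GalCohAux.ASTwist.cS_spec hS _ hlt).1
        refine ⟨(-(m : k)) • x, ?_⟩
        rw [map_smul, ← smul_sub, hρ₁, hev, Groth.Agent.GalCohAux.ASTwist.derivative_cS_eq hS hlt, ← hx, Groth.Agent.GalCohAux.ASTwist.tw_apply,
          Groth.Agent.GalCohAux.ASTwist.sub_apply, ← Nat.cast_add_one, zpow_natCast, Units.val_pow_eq_pow_val]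
        rfl
    · rw [if_neg (by rw [hmem]; omega)]
      refine (Groth.Agent.GalCohAux.ASCoh.H1π_eq_zero_iff' ρ₁ g hg _).2 ?_
      exact ⟨0, by rw [map_zero, sub_zero, hev, Groth.Agent.GalCohAux.ASTwist.derivative_cS_self hS]⟩
  have hne : ∀ m ∈ T, (-(m : k)) ≠ 0 := fun m hm h => by
    have h0 := ((hmem 0 m).1 (Finset.mem_filter.1 hm).1).2
    apply h0
    have h' : (((0 : ℤ) - m : ℤ) : k) = 0 := by push_cast; rw [zero_sub]; exact h
    exact (CharP.intCast_eq_zero_iff k p _).1 h'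
  have hspan : LinearMap.range Φ = Submodule.span k (Set.range fun m : T => v₁ (m.1 + 1)) := by
    refine le_antisymm ?_ (Submodule.span_le.2 ?_)
    · rintro _ ⟨x, rfl⟩
      obtain ⟨coef, rfl⟩ := e₀.surjective x
      rw [he₀, map_sum]
      refine Submodule.sum_mem _ fun m _ => ?_
      rw [map_smul, himg m.1 ((hmem 0 m.1).1 m.2).1.2]
      split_ifs with h1
      · exact Submodule.smul_mem _ _ (Submodule.smul_mem _ _
          (Submodule.subset_span ⟨⟨m.1, Finset.mem_filter.2 ⟨m.2, h1⟩⟩, rfl⟩))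
      · rw [smul_zero]; exact zero_mem _
    · rintro _ ⟨m, rfl⟩
      obtain ⟨h0, h1⟩ := Finset.mem_filter.1 m.2
      refine ⟨(-(m.1 : k))⁻¹ • v₀ m.1, ?_⟩
      rw [map_smul, himg m.1 ((hmem 0 m.1).1 h0).1.2, if_pos h1, smul_smul,
        inv_mul_cancel₀ (hne m.1 m.2), one_smul]
  have hli : LinearIndependent k fun m : T => v₁ (m.1 + 1) := by
    let ι : T → Groth.Agent.GalCohAux.ASTwist.idx p n ((n : ℤ) + 1) := fun m => ⟨m.1 + 1, (Finset.mem_filter.1 m.2).2⟩
    have hall : LinearIndependent k fun m : Groth.Agent.GalCohAux.ASTwist.idx p n ((n : ℤ) + 1) => v₁ m.1 := by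
      rw [Fintype.linearIndependent_iff]
      intro c hc
      have : e₁ c = 0 := (he₁ c).trans hc
      exact congrFun (e₁.map_eq_zero_iff.1 this)
    exact hall.comp ι fun m m' h => Subtype.ext (by simpa [ι] using h)
  rw [hspan]
  refine ⟨Module.Finite.span_of_finite k (Set.finite_range _), ?_⟩
  rw [finrank_span_eq_card hli, Fintype.card_coe]
  have hT : T = (Finset.Icc 1 n).filter
      (fun m : ℕ => ¬ ((p : ℤ) ∣ (0 : ℤ) - m ∨ (p : ℤ) ∣ (n : ℤ) - m)) := by
    ext m
    simp only [T, Finset.mem_filter, hmem, Finset.mem_Icc]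
    constructor
    · rintro ⟨⟨hm, h0⟩, -, h1⟩
      refine ⟨hm, not_or.2 ⟨h0, fun h => h1 ?_⟩⟩
      push_cast
      rw [add_sub_add_right_eq_sub]
      exact h
    · rintro ⟨hm, h⟩
      obtain ⟨h0, h1⟩ := not_or.1 h
      have hmn : m ≠ n := fun h => h1 (by rw [h, sub_self]; exact dvd_zero _)
      refine ⟨⟨hm, h0⟩, ⟨by omega, by omega⟩, ?_⟩
      push_cast
      rw [add_sub_add_right_eq_sub]
      exact h1
  have hpn' : ¬ (p : ℤ) ∣ (n : ℤ) := fun h => hpn (Int.natCast_dvd_natCast.1 h)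
  have hdisj : Disjoint ((Finset.Icc 1 n).filter fun m : ℕ => (p : ℤ) ∣ (0 : ℤ) - m)
      ((Finset.Icc 1 n).filter fun m : ℕ => (p : ℤ) ∣ (n : ℤ) - m) := by
    rw [Finset.disjoint_filter]
    intro m _ h0 h1
    apply hpn'
    have h := dvd_sub h1 h0
    rwa [show ((n : ℤ) - m) - ((0 : ℤ) - m) = n by ring] at h
  have h1 := Finset.card_filter_add_card_filter_not (s := Finset.Icc 1 n)
    (fun m : ℕ => (p : ℤ) ∣ (0 : ℤ) - m ∨ (p : ℤ) ∣ (n : ℤ) - m)
  rw [Finset.filter_or, Finset.card_union_of_disjoint hdisj, Nat.card_Icc, Nat.add_sub_cancel] at h1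
  have hA := Groth.Agent.GalCohAux.ASCoh.card_dvd p hpp.pos 0 n
  have hB := Groth.Agent.GalCohAux.ASCoh.card_dvd p hpp.pos (n : ℤ) n
  rw [hT]
  have hpz : (0 : ℤ) < p := by exact_mod_cast hpp.pos
  have e1 : ((0 : ℤ) - 1) / (p : ℤ) = -1 := by
    rw [show (0 : ℤ) - 1 = ((p : ℤ) - 1) + (p : ℤ) * (-1) by ring, Int.add_mul_ediv_left _ _ hpz.ne',
      Int.ediv_eq_zero_of_lt (by omega) (by omega)]
    rfl
  have e2 : ((n : ℤ) - 1 - n) / (p : ℤ) = -1 := by
    rw [show (n : ℤ) - 1 - n = 0 - 1 by ring, e1]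
  rw [e1] at hA
  rw [e2] at hB
  have e3 : ((n + 1) * (p - 1) : ℤ) / p = (n : ℤ) + 1 + ((0 : ℤ) - 1 - n) / (p : ℤ) := by
    rw [show ((n + 1) * (p - 1) : ℤ) = ((0 : ℤ) - 1 - n) + (p : ℤ) * ((n : ℤ) + 1) by ring,
      Int.add_mul_ediv_left _ _ hpz.ne']
    ring
  rw [e3]
  omega

end Groth.Agent.S13862
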