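import Groth.Statements.S1404
import Groth.Agent.Wt.HorizontalElt
import Groth.Agent.Wt.HorizontalParams

set_option autoImplicit false
universe u
open FlatMor

namespace Groth.Agent.S1404

open MvPolynomial in
set_option maxHeartbeats 1000000 in
theorem exists_params {A B : Type u} [CommRing A] [CommRing B] [IsDomain A] [IsDomain B] [IsLocalRing A] [IsLocalRing B]
    [Algebra A B] [IsLocalHom (algebraMap A B)] [FaithfulSMul A B] [Algebra.EssFiniteType A B]
    (g : B) (hg : g ∈ IsLocalRing.maximalIdeal B)
    (hmin : ∀ q ∈ (Ideal.map (algebraMap A B) (IsLocalRing.maximalIdeal A)).minimalPrimes, g ∉ q)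
    (d e : ℕ) (hd : ringKrullDim (B ⧸ Ideal.map (algebraMap A B) (IsLocalRing.maximalIdeal A)) = d)
    (he : Algebra.trdeg (IsLocalRing.ResidueField A) (IsLocalRing.ResidueField B) = e) (hsum : Algebra.trdeg A B = (d + e : ℕ)) :
    ∃ (N : ℕ) (z : Fin (N + 1) → B), z 0 = g ∧ AlgebraicIndependent A z ∧
      (letI := (aeval (R := A) z).toRingHom.toAlgebra
       ∀ b : B, ∃ u : B, IsUnit u ∧ IsIntegral (MvPolynomial (Fin (N + 1)) A) u ∧
        IsIntegral (MvPolynomial (Fin (N + 1)) A) (u * b)) := by
  classical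
  obtain ⟨n, x, hn, hxm, hx⟩ := Wt.HorizontalElt.exists_fibre_params g hg hmin d hd
  obtain ⟨y, hy⟩ := Wt.HorizontalElt.exists_residue_params (A := A) (B := B) e he
  let z : Fin (n + e + 1) → B := Fin.cons g (Fin.append x y)
  have hz0 : z 0 = g := Fin.cons_zero _ _
  have hzx : ∀ i : Fin n, z (Fin.castAdd e i).succ = x i := fun i => by
    rw [show z (Fin.castAdd e i).succ = Fin.append x y (Fin.castAdd e i) from Fin.cons_succ _ _ _, Fin.append_left]
  have hzy : ∀ i : Fin e, z (Fin.natAdd n i).succ = y i := fun i => by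
    rw [show z (Fin.natAdd n i).succ = Fin.append x y (Fin.natAdd n i) from Fin.cons_succ _ _ _, Fin.append_right]
  -- a model of finite type containing the parameters
  let σ : Finset B := Algebra.EssFiniteType.finset A B ∪ Finset.univ.image z
  let R := Algebra.adjoin A (σ : Set B)
  haveI : Algebra.FiniteType A R := ⟨(Subalgebra.fg_top _).mpr ⟨σ, rfl⟩⟩
  haveI hlocR : IsLocalization ((IsUnit.submonoid B).comap (algebraMap R B)) B := by
    refine (Algebra.essFiniteType_cond_iff (R := A) (S := B) σ).mpr fun s => ?_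
    obtain ⟨t, ht, htu, hst⟩ := (Algebra.essFiniteType_cond_iff (R := A) (S := B) _).mp
      (Algebra.EssFiniteType.isLocalization (R := A) (S := B)) s
    have hle : Algebra.adjoin A (Algebra.EssFiniteType.finset A B : Set B) ≤ R :=
      Algebra.adjoin_mono (by simp [σ])
    exact ⟨t, hle ht, htu, hle hst⟩
  let 𝔮 : Ideal R := (IsLocalRing.maximalIdeal B).comap (algebraMap R B)
  haveI : 𝔮.IsPrime := Ideal.comap_isPrime _ _
  haveI hloc : IsLocalization.AtPrime B 𝔮 := by
    have h : 𝔮.primeCompl = (IsUnit.submonoid B).comap (algebraMap R B) := by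
      ext w
      show w ∉ 𝔮 ↔ IsUnit (algebraMap R B w)
      rw [Ideal.mem_comap, IsLocalRing.notMem_maximalIdeal]
    show IsLocalization 𝔮.primeCompl B
    rw [h]; exact hlocR
  let zR : Fin (n + e + 1) → R := fun i => ⟨z i, Algebra.subset_adjoin (by simp [σ])⟩
  let P := MvPolynomial (Fin (n + e + 1)) A
  letI algPR : Algebra P R := (aeval (R := A) zR).toRingHom.toAlgebra
  letI algPB : Algebra P B := (aeval (R := A) z).toRingHom.toAlgebra
  have hcompat : ∀ p : P, algebraMap R B (algebraMap P R p) = aeval z p := fun p =>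
    congrFun (congrArg DFunLike.coe (MvPolynomial.comp_aeval zR (IsScalarTower.toAlgHom A R B))) p
  haveI : IsScalarTower A P R := IsScalarTower.of_algebraMap_eq fun c => (aeval_C zR c).symm
  haveI : IsScalarTower P R B := IsScalarTower.of_algebraMap_eq fun p => (hcompat p).symm
  haveI : Algebra.FiniteType P R := .of_restrictScalars_finiteType A P R
  haveI : Algebra.QuasiFiniteAt P 𝔮 := by
    let P'' : PrimeSpectrum R := ⟨𝔮, inferInstance⟩
    refine Algebra.QuasiFiniteAt.of_isOpen_singleton_fiber (R := P) P'' ?_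
    let p' := P''.comap (algebraMap P R)
    haveI := p'.isPrime
    let H := PrimeSpectrum.preimageHomeomorphFiber P R p'
    haveI : IsNoetherianRing (p'.asIdeal.Fiber R) := Algebra.FiniteType.isNoetherianRing p'.asIdeal.ResidueField _
    haveI : IsJacobsonRing (p'.asIdeal.Fiber R) := isJacobsonRing_of_finiteType (A := p'.asIdeal.ResidueField)
    rw [← H.isOpen_image, Set.image_singleton,
      (PrimeSpectrum.isOpen_singleton_tfae_of_isNoetherian_of_isJacobsonRing _).out 0 2 rfl rfl]
    have huniq : ∀ w : PrimeSpectrum.comap (algebraMap P R) ⁻¹' {p'}, w.1 ≤ P'' ∨ P'' ≤ w.1 → w.1 = P'' := by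
      intro w hw
      have hw2 : ∀ p : P, algebraMap P R p ∈ w.1.asIdeal ↔ algebraMap P R p ∈ 𝔮 := fun p =>
        SetLike.ext_iff.mp (congrArg PrimeSpectrum.asIdeal w.2 : w.1.asIdeal.comap (algebraMap P R) = 𝔮.comap (algebraMap P R)) p
      refine PrimeSpectrum.ext ?_
      rcases hw with h | h
      · -- a generization of the point
        haveI := w.1.isPrime
        have hdisj : Disjoint (𝔮.primeCompl : Set R) (w.1.asIdeal : Set R) :=
          Set.disjoint_left.mpr fun v hv hv' => hv (h hv')
        have hwB : (w.1.asIdeal.map (algebraMap R B)).IsPrime :=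
          IsLocalization.isPrime_of_isPrime_disjoint 𝔮.primeCompl B _ inferInstance hdisj
        have hmem : ∀ v : R, algebraMap R B v ∈ w.1.asIdeal.map (algebraMap R B) ↔ v ∈ w.1.asIdeal := fun v =>
          SetLike.ext_iff.mp (IsLocalization.under_map_of_isPrime_disjoint 𝔮.primeCompl B inferInstance hdisj) v
        have hin : ∀ i, z i ∈ IsLocalRing.maximalIdeal B → z i ∈ w.1.asIdeal.map (algebraMap R B) := fun i hi => by
          refine (hmem (zR i)).mpr ?_
          have := (hw2 (X i)).mpr (by
            show algebraMap R B (algebraMap P R (X i)) ∈ IsLocalRing.maximalIdeal B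
            rw [hcompat, aeval_X]; exact hi)
          rwa [show algebraMap P R (X i) = zR i from aeval_X zR i] at this
        have hQ := hx (w.1.asIdeal.map (algebraMap R B)) hwB (Ideal.map_le_iff_le_comap.mpr fun a ha => by
            show algebraMap A B a ∈ w.1.asIdeal.map (algebraMap R B)
            rw [IsScalarTower.algebraMap_apply A R B, hmem, IsScalarTower.algebraMap_apply A P R]
            refine (hw2 _).mpr ?_
            show algebraMap R B (algebraMap P R (algebraMap A P a)) ∈ IsLocalRing.maximalIdeal B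
            rw [← IsScalarTower.algebraMap_apply A P R, ← IsScalarTower.algebraMap_apply A R B]
            exact fun hu => ha (IsUnit.of_map _ a hu))
          (hz0 ▸ hin 0 (hz0 ▸ hg)) (fun i => hzx i ▸ hin _ (by rw [hzx i]; exact hxm i))
        ext v
        rw [← hmem, hQ]
        rfl
      · -- a specialization of the point
        by_contra hne
        obtain ⟨v, hv, hvq⟩ := SetLike.not_le_iff_exists.mp fun hle : w.1.asIdeal ≤ 𝔮 => hne (le_antisymm hle h)
        obtain ⟨f, hf, hf0⟩ := hy (IsLocalRing.residue B (algebraMap R B v))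
          (fun h0 => hvq ((IsLocalRing.residue_eq_zero_iff _).mp h0))
        let ι' : MvPolynomial (Fin e) A →ₐ[A] P := MvPolynomial.rename fun i => (Fin.natAdd n i).succ
        have hι' : ∀ p, algebraMap R B (algebraMap P R (ι' p)) = aeval y p := fun p => by
          rw [hcompat]
          show aeval z (rename _ p) = _
          rw [aeval_rename, show (z ∘ fun i => (Fin.natAdd n i).succ) = y from funext hzy]
        let F : Polynomial R := f.map ((algebraMap P R).comp ι'.toRingHom)
        have hFv : F.eval v ∈ 𝔮 := by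
          show algebraMap R B (F.eval v) ∈ IsLocalRing.maximalIdeal B
          rw [← IsLocalRing.residue_eq_zero_iff]
          refine Eq.trans ?_ hf
          rw [Polynomial.eval_map, Polynomial.hom_eval₂, Polynomial.hom_eval₂]
          congr 1
          exact RingHom.ext fun p => congrArg (IsLocalRing.residue B) (hι' p)
        have hc : F.coeff 0 ∈ w.1.asIdeal := by
          rw [Polynomial.coeff_zero_eq_eval_zero]
          have h1 := Polynomial.sub_dvd_eval_sub v 0 F
          rw [sub_zero] at h1
          obtain ⟨c, hc⟩ := h1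
          rw [show F.eval 0 = F.eval v - v * c by rw [← hc]; ring]
          exact Ideal.sub_mem _ (h hFv) (Ideal.mul_mem_right _ _ hv)
        rw [Polynomial.coeff_map] at hc
        refine hf0 ((IsLocalRing.residue_eq_zero_iff _).mpr ?_)
        rw [← hι']
        exact (hw2 _).mp hc
    let E := PrimeSpectrum.preimageOrderIsoFiber P R p'
    have hHE : ∀ w, H w = E w := fun _ => rfl
    refine ⟨?_, ?_⟩
    · rw [PrimeSpectrum.isClosed_singleton_iff_isMaximal, ← PrimeSpectrum.isMax_iff]
      intro w hw
      obtain ⟨w, rfl⟩ := E.surjective w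
      rw [hHE] at hw ⊢
      exact E.le_iff_le.mpr (huniq w (Or.inr (E.le_iff_le.mp hw))).le
    · intro v v' hvv hv
      rw [Set.mem_singleton_iff] at hv ⊢
      subst hv
      obtain ⟨w, rfl⟩ := E.surjective v'
      rw [hHE]
      refine congrArg E (Subtype.ext (huniq w (Or.inl ?_)))
      exact E.le_iff_le.mp ((PrimeSpectrum.le_iff_specializes _ _).mpr hvv)
  obtain ⟨r, hrq, hr⟩ := (Algebra.zariskisMainProperty_iff' (R := P)).mp
    (Algebra.ZariskisMainProperty.of_finiteType (R := P) 𝔮)
  have hrint : IsIntegral P r := by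
    obtain ⟨m, hm⟩ := hr r
    rw [← pow_succ] at hm
    exact (IsIntegral.pow_iff m.succ_pos).mp hm
  have hint : ∀ b : B, ∃ u : B, IsUnit u ∧ IsIntegral P u ∧ IsIntegral P (u * b) := by
    intro b
    obtain ⟨⟨c, t⟩, hct⟩ := IsLocalization.surj 𝔮.primeCompl b
    obtain ⟨m₁, hm₁⟩ := hr c
    obtain ⟨m₂, hm₂⟩ := hr t
    refine ⟨algebraMap R B (r ^ (m₁ + m₂) * t), IsLocalization.map_units B (⟨_, fun h => ?_⟩ : 𝔮.primeCompl), ?_, ?_⟩
    · rcases (inferInstance : 𝔮.IsPrime).mem_or_mem h with h | h
      · exact hrq (Ideal.IsPrime.mem_of_pow_mem ‹_› _ h)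
      · exact t.2 h
    · refine IsIntegral.map (IsScalarTower.toAlgHom P R B) (?_ : IsIntegral P (r ^ (m₁ + m₂) * (t : R)))
      rw [pow_add, mul_assoc]
      exact (hrint.pow m₁).mul hm₂
    · rw [map_mul, mul_assoc, mul_comm (algebraMap R B t) b, hct, ← map_mul]
      refine IsIntegral.map (IsScalarTower.toAlgHom P R B) (?_ : IsIntegral P (r ^ (m₁ + m₂) * c))
      rw [pow_add, mul_comm (r ^ m₁), mul_assoc]
      exact (hrint.pow m₂).mul hm₁
  refine ⟨n + e, z, hz0, ?_, hint⟩
  let φ : P →+* Algebra.adjoin A (Set.range z) :=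
    (aeval (R := A) z).toRingHom.codRestrict _ fun s => by
      rw [Algebra.adjoin_range_eq_range_aeval]
      exact ⟨s, rfl⟩
  have tr : ∀ w : B, IsIntegral P w → IsIntegral (Algebra.adjoin A (Set.range z)) w := by
    rintro w ⟨f, hf, hfw⟩
    refine ⟨f.map φ, hf.map _, ?_⟩
    rw [Polynomial.eval₂_map]
    exact hfw
  haveI : Algebra.IsAlgebraic (Algebra.adjoin A (Set.range z)) B := ⟨fun b => by
    obtain ⟨u, hu, hui, hubi⟩ := hint b
    exact IsAlgebraic.of_mul (mem_nonZeroDivisors_of_ne_zero hu.ne_zero) (tr _ hui).isAlgebraic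
      (mul_comm b u ▸ (tr _ hubi).isAlgebraic)⟩
  refine (Algebra.IsAlgebraic.isTranscendenceBasis_of_lift_le_trdeg_of_finite A z ?_).1
  rw [hsum]
  simp only [Cardinal.mk_fin, Cardinal.lift_natCast, Nat.cast_le]
  omega


/-- Let A → B be an injective local homomorphism of local domains with B essentially of finite type over
A, and g an element of the maximal ideal of B lying in no minimal prime over m_A B. Assume dim(B /
m_A B) + trdeg_{κ(A)} κ(B) = trdeg_A B (with all three finite). Then A → B/gB is injective. -/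
theorem result {A B : Type u} [CommRing A] [CommRing B] [IsDomain A] [IsDomain B] [IsLocalRing A] [IsLocalRing B]
    [Algebra A B] [IsLocalHom (algebraMap A B)] [FaithfulSMul A B] [Algebra.EssFiniteType A B]
    (g : B) (hg : g ∈ IsLocalRing.maximalIdeal B)
    (hmin : ∀ q ∈ (Ideal.map (algebraMap A B) (IsLocalRing.maximalIdeal A)).minimalPrimes, g ∉ q)
    (d e : ℕ) (hd : ringKrullDim (B ⧸ Ideal.map (algebraMap A B) (IsLocalRing.maximalIdeal A)) = d)
    (he : Algebra.trdeg (IsLocalRing.ResidueField A) (IsLocalRing.ResidueField B) = e) (hsum : Algebra.trdeg A B = (d + e : ℕ)) :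
    Function.Injective (algebraMap A (B ⧸ Ideal.span {g})) := by
  obtain ⟨N, z, hz0, hz, hint⟩ := exists_params g hg hmin d e hd he hsum
  rw [injective_iff_map_eq_zero]
  intro a ha
  have ha' : Ideal.Quotient.mk (Ideal.span {g}) (algebraMap A B a) = 0 := ha
  rw [Ideal.Quotient.eq_zero_iff_mem, Ideal.mem_span_singleton, ← hz0] at ha'
  exact Wt.HorizontalElt.eq_zero_of_dvd z hz (by rw [hz0]; exact hg) hint a ha'

end Groth.Agent.S1404
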