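import Groth.Statements.S1387
import Groth.Agent.Wt.VerticalPrime
import Groth.Agent.EquidimPt.DimSum
import Groth.Agent.FlatMisc.FibreDimScheme

set_option autoImplicit false
universe u
open FlatMor

namespace Groth.Agent.S1387

open AlgebraicGeometry CategoryTheory Limits in
/-- Let f : X → S be dominant and locally of finite type with X and S irreducible, let η be the generic
point of S and s a point with dim X_s ≤ dim X_η, and let Z be a locally principal closed subscheme
of X (its ideal sheaf is generated by one section on an affine neighbourhood of each point) whose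
generic fibre is empty. Then, set-theoretically, the fibre of Z over s is a union of irreducible
components of the fibre of X over s. -/
theorem result {X S : Scheme.{u}} (f : X ⟶ S) [IrreducibleSpace ↑S] [IrreducibleSpace ↑X] [IsDominant f] [LocallyOfFiniteType f]
    (s : S) (hdim : topologicalKrullDim ↑(f.fiber s) ≤ topologicalKrullDim ↑(f.fiber (genericPoint ↑S)))
    (Z : X.IdealSheafData) (hZ : ∀ x : X, ∃ (U : X.Opens) (hU : IsAffineOpen U) (g : Γ(X, U)), x ∈ U ∧ Z.ideal ⟨U, hU⟩ = Ideal.span {g})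
    (hη : ∀ x ∈ (Z.support : Set ↑X), f x ≠ genericPoint ↑S) :
    ∀ x : ↑(f ⁻¹' {s}), (x : ↑X) ∈ (Z.support : Set ↑X) →
      ∃ C ∈ irreducibleComponents ↑(f ⁻¹' {s}), x ∈ C ∧ Subtype.val '' C ⊆ (Z.support : Set ↑X) := by
  classical
  intro x₀ hxZ
  obtain ⟨x, hxs⟩ := x₀
  obtain ⟨U₀, hU₀, g₀, hxU₀, hg₀⟩ := hZ x
  obtain ⟨_, ⟨V, hV, rfl⟩, hxV, -⟩ :=
    S.isBasis_affineOpens.exists_subset_of_mem_open (Set.mem_univ (f x)) isOpen_univ
  replace hV : IsAffineOpen V := hV
  obtain ⟨h₀, hh₀, hxh₀⟩ := hU₀.exists_basicOpen_le ⟨x, (show x ∈ f ⁻¹ᵁ V from hxV)⟩ hxU₀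
  let U := X.basicOpen h₀
  have hU : IsAffineOpen U := hU₀.basicOpen h₀
  have e : U ≤ f ⁻¹ᵁ V := hh₀
  let g : Γ(X, U) := X.presheaf.map (homOfLE (X.basicOpen_le h₀)).op g₀
  have hgU : Z.ideal ⟨U, hU⟩ = Ideal.span {g} := by
    have h := Z.map_ideal_basicOpen ⟨U₀, hU₀⟩ h₀
    rw [hg₀, Ideal.map_span, Set.image_singleton] at h
    exact h.symm
  letI := (f.appLE V U e).hom.toAlgebra
  haveI : Algebra.FiniteType Γ(S, V) Γ(X, U) := f.finiteType_appLE hV hU e
  have hcomm : ∀ P : PrimeSpectrum Γ(X, U), f (hU.fromSpec P) =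
      hV.fromSpec (PrimeSpectrum.comap (algebraMap Γ(S, V) Γ(X, U)) P) := fun P =>
    (congrArg (fun k : Spec Γ(X, U) ⟶ S => k P) (IsAffineOpen.SpecMap_appLE_fromSpec f hV hU e)).symm
  -- the generic point
  have hηU : genericPoint X ∈ U := (genericPoint_specializes x).mem_open U.2 hxh₀
  let N := hU.primeIdealOf ⟨_, hηU⟩
  have hN : ∀ P : PrimeSpectrum Γ(X, U), N.asIdeal ≤ P.asIdeal := fun P => by
    refine (PrimeSpectrum.le_iff_specializes N P).mpr (hU.fromSpec.isOpenEmbedding.isInducing.specializes_iff.mp ?_)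
    rw [hU.fromSpec_primeIdealOf]
    exact genericPoint_specializes _
  have hfη : f (genericPoint X) = hV.fromSpec (PrimeSpectrum.comap (algebraMap Γ(S, V) Γ(X, U)) N) :=
    (congrArg f (hU.fromSpec_primeIdealOf ⟨_, hηU⟩)).symm.trans (hcomm N)
  let N₀ := N.asIdeal.comap (algebraMap Γ(S, V) Γ(X, U))
  haveI : N.asIdeal.IsPrime := N.isPrime
  haveI : IsDomain (Γ(X, U) ⧸ N.asIdeal) := Ideal.Quotient.isDomain _
  haveI : IsDomain (Γ(S, V) ⧸ N₀) := Ideal.Quotient.isDomain _
  let A := Γ(S, V) ⧸ N₀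
  let R := Γ(X, U) ⧸ N.asIdeal
  letI algAR : Algebra A R := (Ideal.quotientMap N.asIdeal (algebraMap Γ(S, V) Γ(X, U)) le_rfl).toAlgebra
  haveI : FaithfulSMul A R := (faithfulSMul_iff_algebraMap_injective _ _).mpr Ideal.quotientMap_injective
  haveI : IsScalarTower Γ(S, V) A R := IsScalarTower.of_algebraMap_eq fun _ => rfl
  haveI : Algebra.FiniteType Γ(S, V) R :=
    .of_surjective (Ideal.Quotient.mkₐ _ N.asIdeal) Ideal.Quotient.mk_surjective
  haveI : Algebra.FiniteType A R := .of_restrictScalars_finiteType Γ(S, V) A R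
  let π : PrimeSpectrum R → X := fun w => hU.fromSpec (PrimeSpectrum.comap (Ideal.Quotient.mk N.asIdeal) w)
  let πA : PrimeSpectrum A → S := fun w => hV.fromSpec (PrimeSpectrum.comap (Ideal.Quotient.mk N₀) w)
  have hπf : ∀ w, f (π w) = πA (w.comap (algebraMap A R)) := fun w => hcomm _
  have hle : ∀ a b : PrimeSpectrum R, a ≤ b ↔ π a ⤳ π b := fun a b => by
    refine Iff.trans ?_ ((PrimeSpectrum.le_iff_specializes (PrimeSpectrum.comap (Ideal.Quotient.mk N.asIdeal) a)
      (PrimeSpectrum.comap (Ideal.Quotient.mk N.asIdeal) b)).trans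
      hU.fromSpec.isOpenEmbedding.isInducing.specializes_iff.symm)
    refine ⟨fun h => Ideal.comap_mono h, fun h v hv => ?_⟩
    obtain ⟨v, rfl⟩ := Ideal.Quotient.mk_surjective v
    exact h hv
  have hπinj : Function.Injective π := fun a b hab =>
    le_antisymm ((hle a b).mpr (specializes_of_eq hab)) ((hle b a).mpr (specializes_of_eq hab.symm))
  have hπsurj : ∀ z ∈ U, ∃ w, π w = z := fun z hz => by
    refine ⟨⟨(hU.primeIdealOf ⟨z, hz⟩).asIdeal.map (Ideal.Quotient.mk N.asIdeal), ?_⟩, ?_⟩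
    · exact Ideal.map_isPrime_of_surjective Ideal.Quotient.mk_surjective (by rw [Ideal.mk_ker]; exact hN _)
    · show hU.fromSpec _ = z
      rw [show PrimeSpectrum.comap (Ideal.Quotient.mk N.asIdeal) _ = hU.primeIdealOf ⟨z, hz⟩ from PrimeSpectrum.ext (by
        show Ideal.comap _ (Ideal.map _ _) = _
        rw [Ideal.comap_map_of_surjective' _ Ideal.Quotient.mk_surjective, Ideal.mk_ker, sup_eq_left.2 (hN _)]),
        hU.fromSpec_primeIdealOf]
  have hπAinj : Function.Injective πA := fun a b hab =>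
    PrimeSpectrum.comap_injective_of_surjective _ Ideal.Quotient.mk_surjective
      (hV.fromSpec.isOpenEmbedding.injective hab)
  have hsupp : ∀ w : PrimeSpectrum R, π w ∈ (Z.support : Set X) ↔ Ideal.Quotient.mk N.asIdeal g ∈ w.asIdeal := fun w => by
    have hwU : π w ∈ U := hU.range_fromSpec.le ⟨_, rfl⟩
    have h1 : π w ∈ (Z.support : Set X) ↔ π w ∈ hU.fromSpec '' PrimeSpectrum.zeroLocus ((Z.ideal ⟨U, hU⟩ : Ideal Γ(X, U)) : Set Γ(X, U)) := by
      rw [hU.fromSpec_image_zeroLocus, Set.mem_inter_iff]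
      exact ⟨fun h => ⟨(Scheme.IdealSheafData.mem_support_iff_of_mem (U := ⟨U, hU⟩) hwU).mp h, hwU⟩,
        fun h => (Scheme.IdealSheafData.mem_support_iff_of_mem (U := ⟨U, hU⟩) hwU).mpr h.1⟩
    rw [h1, hU.fromSpec.isOpenEmbedding.injective.mem_set_image, hgU]
    exact (show ((Ideal.span {g} : Ideal Γ(X, U)) : Set Γ(X, U)) ⊆ (PrimeSpectrum.comap (Ideal.Quotient.mk N.asIdeal) w).asIdeal ↔ _ from
      SetLike.coe_subset_coe.trans (Ideal.span_singleton_le_iff_mem _))
  obtain ⟨q, hq⟩ := hπsurj x hxh₀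
  let p := q.comap (algebraMap A R)
  have hps : πA p = s := by rw [← hπf, hq]; exact hxs
  haveI : (⊥ : Ideal A).IsPrime := Ideal.isPrime_bot
  have hηS : ∀ w : PrimeSpectrum R, w.asIdeal.comap (algebraMap A R) = ⊥ → f (π w) = genericPoint S := fun w hw => by
    rw [← EquidimPt.apply_genericPoint f f.denseRange, hπf, hfη]
    refine congrArg hV.fromSpec (PrimeSpectrum.ext ?_)
    show (w.asIdeal.comap (algebraMap A R)).comap (Ideal.Quotient.mk N₀) = N₀
    rw [hw, ← RingHom.ker_eq_comap_bot, Ideal.mk_ker]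
  have hdimA : ∀ l : LTSeries (PrimeSpectrum R), (∀ i, (l i).comap (algebraMap A R) = p) →
      (l.length : Cardinal.{u}) ≤ Algebra.trdeg A R := by
    intro l hl
    by_contra hlt
    push Not at hlt
    obtain ⟨n, hn⟩ := Cardinal.lt_aleph0.mp (hlt.trans (Cardinal.natCast_lt_aleph0 (n := l.length)))
    rw [hn, Nat.cast_lt] at hlt
    -- the generic fibre
    have h1 : topologicalKrullDim ↥(f.fiber (genericPoint S)) ≤ n := by
      obtain ⟨t, -, ht, hdimη⟩ := EquidimPt.fibreDimAt_genericPoint_facts f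
      rw [← EquidimPt.apply_genericPoint f f.denseRange, hdimη, ← ht, FlatMisc.FibreDimScheme.fibreDimAt_eq]
      refine iInf_le_of_le ⟨⟨Subtype.val ⁻¹' (U : Set X), U.2.preimage continuous_subtype_val⟩, hηU⟩ ?_
      have hmem : ∀ w : (Subtype.val ⁻¹' (U : Set X) : Set ↥(f ⁻¹' {f (genericPoint X)})), ∃ v, π v = w.1.1 :=
        fun w => hπsurj _ w.2
      let back : (Subtype.val ⁻¹' (U : Set X) : Set ↥(f ⁻¹' {f (genericPoint X)})) →
          {Q : PrimeSpectrum R | PrimeSpectrum.comap (algebraMap A R) Q = ⟨⊥, inferInstance⟩ ∧ (1 : R) ∉ Q.asIdeal} := fun w =>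
        ⟨(hmem w).choose, hπAinj (by
          rw [← hπf, (hmem w).choose_spec, show f w.1.1 = f (genericPoint X) from w.1.2, hfη]
          refine congrArg hV.fromSpec (PrimeSpectrum.ext ?_)
          show N₀ = (⊥ : Ideal A).comap (Ideal.Quotient.mk N₀)
          rw [← RingHom.ker_eq_comap_bot, Ideal.mk_ker]),
          fun h1 => (hmem w).choose.isPrime.ne_top ((Ideal.eq_top_iff_one _).mpr h1)⟩
      refine le_trans (Topology.IsInducing.topologicalKrullDim_le (f := back) ?_)
        (FlatMisc.FibreDimScheme.topDim_piece_le (A := A) (1 : R) ⟨⊥, inferInstance⟩ n fun L hL _ => ?_)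
      · have hind : Topology.IsInducing (fun Q : {Q : PrimeSpectrum R |
            PrimeSpectrum.comap (algebraMap A R) Q = ⟨⊥, inferInstance⟩ ∧ (1 : R) ∉ Q.asIdeal} => π Q.1) :=
          (hU.fromSpec.isOpenEmbedding.isInducing.comp
            (PrimeSpectrum.isClosedEmbedding_comap_of_surjective _ _ Ideal.Quotient.mk_surjective).isInducing).comp
            Topology.IsInducing.subtypeVal
        refine (hind.of_comp_iff (f := back)).mp ?_
        have : (fun Q => π Q.1) ∘ back = Subtype.val ∘ Subtype.val := funext fun w => (hmem w).choose_spec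
        rw [this]
        exact Topology.IsInducing.subtypeVal.comp Topology.IsInducing.subtypeVal
      · obtain ⟨a, ha⟩ := DimSpec.exists_indep_of_chain (⊥ : Ideal A) L hL
        have hai : AlgebraicIndependent A a := by
          refine algebraicIndependent_iff.mpr fun G hG => ?_
          by_contra hne
          obtain ⟨i, hi⟩ := MvPolynomial.ne_zero_iff.mp hne
          exact ha G ⟨i, fun h => hi h⟩ (by rw [hG]; exact zero_mem _)
        have := hai.lift_cardinalMk_le_trdeg
        rw [hn] at this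
        simpa using this
    have h2 : (l.length : WithBot ℕ∞) ≤ topologicalKrullDim ↥(f.fiber s) := by
      rw [(f.fiberHomeo s).isHomeomorph.topologicalKrullDim_eq]
      haveI : T0Space ↥(f ⁻¹' {s}) := Subtype.t0Space
      exact FlatMisc.FibreDimScheme.length_le_topDim
        (fun i => (⟨π (l i.rev), by show f _ = s; rw [hπf, hl]; exact hps⟩ : ↥(f ⁻¹' {s}))) fun i j hij => by
          have h1 := l.strictMono (Fin.rev_lt_rev.mpr hij)
          exact ⟨(subtype_specializes_iff _ _).mpr ((hle _ _).mp h1.le),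
            fun he => h1.ne (hπinj (congrArg Subtype.val he).symm)⟩
    have h3 := h2.trans (hdim.trans h1)
    have h4 : l.length ≤ n := by exact_mod_cast h3
    omega
  obtain ⟨w, hwq, hwp, hgw, hwmin⟩ := Wt.VerticalPrime.exists_minimal_over p q rfl (Ideal.Quotient.mk N.asIdeal g)
    ((hsupp q).mp (by rw [hq]; exact hxZ))
    (fun w hw hgw => hη (π w) ((hsupp w).mpr hgw) (hηS w hw)) hdimA
  let ξ : ↥(f ⁻¹' {s}) := ⟨π w, by show f _ = s; rw [hπf, hwp]; exact hps⟩
  haveI : QuasiSober ↥(f ⁻¹' {s}) := (f.fiberHomeo s).symm.isClosedEmbedding.quasiSober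
  refine ⟨closure {ξ}, ⟨isIrreducible_singleton.closure, fun T hT hξT => ?_⟩, ?_, ?_⟩
  · obtain ⟨z, hz⟩ := QuasiSober.sober hT.closure isClosed_closure
    have hzξ : z ⤳ ξ := hz.specializes (subset_closure (hξT (subset_closure rfl)))
    have hzξ' : (z : X) ⤳ π w := (subtype_specializes_iff _ _).mp hzξ
    obtain ⟨w', hw'⟩ := hπsurj z (hzξ'.mem_open U.2 (hU.range_fromSpec.le ⟨_, rfl⟩))
    have h1 : w' = w := hwmin w' ((hle _ _).mpr (hw' ▸ hzξ')) (hπAinj (by
      rw [← hπf, hw', hps]; exact z.2))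
    have h2 : z = ξ := Subtype.ext (by rw [← hw', h1])
    intro t ht
    rw [← h2, hz.def]
    exact subset_closure ht
  · refine specializes_iff_mem_closure.mp ((subtype_specializes_iff _ _).mpr ?_)
    show π w ⤳ x
    rw [← hq]; exact (hle _ _).mp hwq
  · refine (image_closure_subset_closure_image continuous_subtype_val).trans ?_
    refine Z.support.2.closure_subset_iff.mpr ?_
    rw [Set.image_singleton, Set.singleton_subset_iff]
    exact (hsupp w).mpr hgw

end Groth.Agent.S1387
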