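import Groth.Statements.S13878
import Mathlib.RingTheory.PowerSeries.Inverse
import Mathlib.LinearAlgebra.Quotient.Basic
-- import your own Groth.Agent.* helpers here

set_option autoImplicit false
universe u
open Crimp

namespace Groth.Agent.S13878

open PowerSeries

variable {k : Type u} [Field k]

local notation "R" => PowerSeries k

lemma mk_eq_mk {n : ℕ} {a b : R} :
    Ideal.Quotient.mk (Ideal.span {(X : R) ^ n}) a = Ideal.Quotient.mk (Ideal.span {(X : R) ^ n}) b ↔ (X : R) ^ n ∣ a - b := by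
  rw [Ideal.Quotient.eq, Ideal.mem_span_singleton]

lemma unit_of_dvd {m : ℕ} (hm : 0 < m) {a b c : R} (h : (X : R) ^ m ∣ a * b - c) (hc : IsUnit c) : IsUnit a := by
  rw [PowerSeries.isUnit_iff_constantCoeff] at hc ⊢
  obtain ⟨d, hd⟩ := (dvd_pow_self (X : R) hm.ne').trans h
  have := congrArg constantCoeff hd
  rw [map_sub, map_mul, map_mul, constantCoeff_X, zero_mul, sub_eq_zero] at this
  rw [← this] at hc
  exact isUnit_of_mul_isUnit_left hc

/-- An invertible lift of a surjection `R² → R/t^m × R/t^n`. -/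
lemma exists_lift (m n : ℕ) (hmn : m ≤ n)
    (g : (Fin 2 → R) →ₗ[R] (R ⧸ Ideal.span {(X : R) ^ m}) × (R ⧸ Ideal.span {(X : R) ^ n}))
    (hg : Function.Surjective g) :
    ∃ α β γ δ : R, IsUnit (α * δ - β * γ) ∧ ∀ x : Fin 2 → R,
      g x = (Ideal.Quotient.mk _ (α * x 0 + β * x 1), Ideal.Quotient.mk _ (γ * x 0 + δ * x 1)) := by
  obtain ⟨α₀, hα⟩ := Ideal.Quotient.mk_surjective (g (Pi.single 0 1)).1
  obtain ⟨γ, hγ⟩ := Ideal.Quotient.mk_surjective (g (Pi.single 0 1)).2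
  obtain ⟨β₀, hβ⟩ := Ideal.Quotient.mk_surjective (g (Pi.single 1 1)).1
  obtain ⟨δ, hδ⟩ := Ideal.Quotient.mk_surjective (g (Pi.single 1 1)).2
  have hgx : ∀ x : Fin 2 → R,
      g x = (Ideal.Quotient.mk _ (α₀ * x 0 + β₀ * x 1), Ideal.Quotient.mk _ (γ * x 0 + δ * x 1)) := fun x => by
    have : x = x 0 • Pi.single 0 1 + x 1 • Pi.single 1 1 := by
      funext i; fin_cases i <;> simp
    conv_lhs => rw [this, map_add, map_smul, map_smul]
    simp only [map_add, map_mul, Prod.ext_iff, Prod.fst_add, Prod.snd_add, Prod.smul_fst, Prod.smul_snd,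
      ← hα, ← hγ, ← hβ, ← hδ]
    have hs : ∀ (I : Ideal R) (r a : R), r • Ideal.Quotient.mk I a = Ideal.Quotient.mk I r * Ideal.Quotient.mk I a :=
      fun I r a => rfl
    rw [hs, hs, hs, hs]
    exact ⟨by ring, by ring⟩
  obtain ⟨h, hh⟩ := hg (0, 1)
  rw [hgx, Prod.ext_iff, ← map_one (Ideal.Quotient.mk (Ideal.span {(X : R) ^ n})), mk_eq_mk] at hh
  by_cases hn : n = 0
  · refine ⟨1, 0, 0, 1, by simp, fun x => ?_⟩
    rw [hgx, Prod.ext_iff, mk_eq_mk, mk_eq_mk, hn, show m = 0 by omega, pow_zero]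
    exact ⟨one_dvd _, one_dvd _⟩
  by_cases hm : m = 0
  · refine ⟨- h 1, h 0, γ, δ, ?_, fun x => ?_⟩
    · rw [show -h 1 * δ - h 0 * γ = -(γ * h 0 + δ * h 1) by ring, IsUnit.neg_iff]
      exact unit_of_dvd (b := 1) (by omega : 0 < n) (by rw [mul_one]; exact hh.2) isUnit_one
    · rw [hgx, Prod.ext_iff, mk_eq_mk, hm, pow_zero]
      exact ⟨one_dvd _, rfl⟩
  refine ⟨α₀, β₀, γ, δ, ?_, hgx⟩
  obtain ⟨f, hf⟩ := hg (1, 0)
  rw [hgx, Prod.ext_iff, ← map_one (Ideal.Quotient.mk (Ideal.span {(X : R) ^ m})), mk_eq_mk,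
    Ideal.Quotient.eq_zero_iff_mem, Ideal.mem_span_singleton] at hf
  have hd : (X : R) ^ m ∣ (α₀ * δ - β₀ * γ) * (f 0 * h 1 - f 1 * h 0) - 1 := by
    rw [show (α₀ * δ - β₀ * γ) * (f 0 * h 1 - f 1 * h 0) - 1 =
      (α₀ * f 0 + β₀ * f 1 - 1) * (γ * h 0 + δ * h 1) + (γ * h 0 + δ * h 1 - 1) -
        (α₀ * h 0 + β₀ * h 1) * (γ * f 0 + δ * f 1) by ring]
    refine dvd_sub (dvd_add (hf.1.mul_right _) ((pow_dvd_pow _ hmn).trans hh.2)) (((pow_dvd_pow _ hmn).trans hf.2).mul_left _)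
  exact unit_of_dvd (by omega) hd isUnit_one


/-- Over R = k⟦t⟧ with k an algebraically closed field of characteristic zero, let S' = R × R × R (the
unramified triple cover of the formal disk) and let S be an R-submodule of S' containing 1 such that
S' / S is isomorphic to R / (t ^ m) ⊕ R / (t ^ n) with m ≤ n. Then t ^ n S' is contained in S, and
there is f in S', not lying in R·1 + t S', such that S = R·1 + R·(t ^ m f) + t ^ n S'. -/
theorem result {k : Type u} [Field k] [IsAlgClosed k] [CharZero k] (m n : ℕ) (hmn : m ≤ n)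
    (S : Submodule (PowerSeries k) (Fin 3 → PowerSeries k))
    (h1 : (1 : (Fin 3 → PowerSeries k)) ∈ S)
    (e : ((Fin 3 → PowerSeries k) ⧸ S) ≃ₗ[PowerSeries k]
      ((PowerSeries k ⧸ Ideal.span {(PowerSeries.X : PowerSeries k) ^ m}) × (PowerSeries k ⧸ Ideal.span {(PowerSeries.X : PowerSeries k) ^ n}))) :
    Ideal.span {(PowerSeries.X : PowerSeries k) ^ n} • (⊤ : Submodule (PowerSeries k) (Fin 3 → PowerSeries k)) ≤ S ∧
    ∃ f : (Fin 3 → PowerSeries k),
      f ∉ Submodule.span (PowerSeries k) {(1 : (Fin 3 → PowerSeries k))} ⊔ Ideal.span {(PowerSeries.X : PowerSeries k)} • (⊤ : Submodule (PowerSeries k) (Fin 3 → PowerSeries k)) ∧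
      S = Submodule.span (PowerSeries k) {(1 : (Fin 3 → PowerSeries k)), ((PowerSeries.X : PowerSeries k) ^ m) • f} ⊔
        Ideal.span {(PowerSeries.X : PowerSeries k) ^ n} • (⊤ : Submodule (PowerSeries k) (Fin 3 → PowerSeries k)) := by
  classical
  let ι : (Fin 2 → PowerSeries k) →ₗ[PowerSeries k] (Fin 3 → PowerSeries k) :=
    LinearMap.pi ![LinearMap.proj 0, LinearMap.proj 1, 0]
  have hι : ∀ x : Fin 2 → PowerSeries k, ι x 0 = x 0 ∧ ι x 1 = x 1 ∧ ι x 2 = 0 := fun x => ⟨rfl, rfl, rfl⟩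
  have hdec : ∀ v : Fin 3 → PowerSeries k, v = ι ![v 0 - v 2, v 1 - v 2] + v 2 • 1 := fun v => by
    funext i; fin_cases i <;> simp [ι]
  let g := (e.toLinearMap ∘ₗ S.mkQ) ∘ₗ ι
  have hker : ∀ v, v ∈ S ↔ e (S.mkQ v) = 0 := fun v => by
    rw [LinearEquiv.map_eq_zero_iff, Submodule.mkQ_apply, Submodule.Quotient.mk_eq_zero]
  have heq : ∀ v, e (S.mkQ v) = g ![v 0 - v 2, v 1 - v 2] := fun v => by
    conv_lhs => rw [hdec v]
    rw [map_add, map_add, (hker _).1 (S.smul_mem (v 2) h1), add_zero]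
    rfl
  have hg : Function.Surjective g := fun q => by
    obtain ⟨w, hw⟩ := S.mkQ_surjective (e.symm q)
    exact ⟨_, (heq w).symm.trans (by rw [hw, e.apply_symm_apply])⟩
  obtain ⟨α, β, γ, δ, ⟨D, hD⟩, hgx⟩ := exists_lift m n hmn g hg
  have hmem : ∀ v, v ∈ S ↔ (PowerSeries.X : PowerSeries k) ^ m ∣ α * (v 0 - v 2) + β * (v 1 - v 2) ∧
      (PowerSeries.X : PowerSeries k) ^ n ∣ γ * (v 0 - v 2) + δ * (v 1 - v 2) := fun v => by
    rw [hker, heq, hgx, Prod.ext_iff]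
    simp only [Prod.fst_zero, Prod.snd_zero, Ideal.Quotient.eq_zero_iff_mem, Ideal.mem_span_singleton]
    rfl
  have hn_le : Ideal.span {(PowerSeries.X : PowerSeries k) ^ n} • (⊤ : Submodule (PowerSeries k) (Fin 3 → PowerSeries k)) ≤ S := by
    refine Submodule.smul_le.2 fun r hr v _ => ?_
    obtain ⟨c, rfl⟩ := Ideal.mem_span_singleton.1 hr
    rw [hmem]
    simp only [Pi.smul_apply, smul_eq_mul]
    constructor
    · exact (pow_dvd_pow _ hmn).trans ⟨c * (α * (v 0 - v 2) + β * (v 1 - v 2)), by ring⟩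
    · exact ⟨c * (γ * (v 0 - v 2) + δ * (v 1 - v 2)), by ring⟩
  refine ⟨hn_le, ![δ, -γ, 0], fun hf => ?_, le_antisymm (fun v hv => ?_) (sup_le ?_ hn_le)⟩
  · obtain ⟨a, ha, b, hb, hab⟩ := Submodule.mem_sup.1 hf
    obtain ⟨c, rfl⟩ := Submodule.mem_span_singleton.1 ha
    rw [Submodule.ideal_span_singleton_smul] at hb
    obtain ⟨w, -, rfl⟩ := hb
    have e0 := congrFun hab 0
    have e1 := congrFun hab 1
    have e2 := congrFun hab 2
    simp at e0 e1 e2
    have hu : IsUnit (PowerSeries.X : PowerSeries k) := isUnit_of_dvd_unit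
      (show PowerSeries.X ∣ α * δ - β * γ from ⟨α * (w 0 - w 2) + β * (w 1 - w 2), by
        linear_combination α * (-e0 + e2) + β * (-e1 + e2)⟩) ⟨D, hD⟩
    simp [PowerSeries.isUnit_iff_constantCoeff] at hu
  · obtain ⟨⟨p, hp⟩, q, hq⟩ := (hmem v).1 hv
    let Di : PowerSeries k := ↑D⁻¹
    have hDi : Di * (α * δ - β * γ) = 1 := by rw [← hD]; exact D.inv_mul
    refine Submodule.mem_sup.2 ⟨v 2 • 1 + (Di * p) • ((PowerSeries.X : PowerSeries k) ^ m • ![δ, -γ, 0]),
      add_mem (Submodule.smul_mem _ _ (Submodule.subset_span (by simp))) (Submodule.smul_mem _ _ (Submodule.subset_span (by simp))),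
      (PowerSeries.X : PowerSeries k) ^ n • ((Di * q) • ![-β, α, 0]),
      Submodule.smul_mem_smul (Ideal.mem_span_singleton_self _) trivial, ?_⟩
    funext i
    fin_cases i <;> simp [Matrix.vecHead, Matrix.vecTail]
    · linear_combination (v 0 - v 2) * hDi - Di * δ * hp + Di * β * hq
    · linear_combination (v 1 - v 2) * hDi + Di * γ * hp - Di * α * hq
  · rw [Submodule.span_le]
    rintro x (rfl | rfl)
    · exact h1
    · rw [SetLike.mem_coe, hmem]
      simp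
      exact ⟨⟨α * δ - β * γ, by ring⟩, ⟨0, by ring⟩⟩

end Groth.Agent.S13878
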