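import Groth.Statements.S13880
import Mathlib
import Groth.Agent.Crimp71.Double
-- import your own Groth.Agent.* helpers here

set_option autoImplicit false
universe u
open Crimp

namespace Groth.Agent.S13880

/-- Over R = k⟦t⟧ with k an algebraically closed field of characteristic zero, let S' = R × R, the
trivial double cover of the formal disk (branch divisor (t ^ 0)). An R-subalgebra S of S' admits an
R-basis of size 2 whose discriminant generates (t ^ b), that is, S is a crimp with branch divisor (t
^ b), if and only if b = 2n for some n and S = R·1 + t ^ n S'. So there is exactly one such crimp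
when b is even and none when b is odd; moreover the subalgebra R·1 + t ^ n S' is isomorphic as an
R-algebra to R[y] / (y ^ 2 - t ^ (2n)) (existence of an isomorphism; y ↦ (t ^ n, -t ^ n)). (The
published statement also gives the space of crimps its reduced one-point scheme structure; this row
classifies its k-points.) -/
theorem result {k : Type u} [Field k] [IsAlgClosed k] [CharZero k] (b : ℕ) (S : Subalgebra (PowerSeries k) (Fin 2 → PowerSeries k)) :
    ((∃ bS : Module.Basis (Fin 2) (PowerSeries k) S,
      Ideal.span {Algebra.discr (PowerSeries k) ⇑bS} = Ideal.span {(PowerSeries.X : PowerSeries k) ^ b}) ↔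
    ∃ n : ℕ, b = 2 * n ∧
      Subalgebra.toSubmodule S = Submodule.span (PowerSeries k) {(1 : (Fin 2 → PowerSeries k))} ⊔
        Ideal.span {(PowerSeries.X : PowerSeries k) ^ n} • (⊤ : Submodule (PowerSeries k) (Fin 2 → PowerSeries k))) ∧
    (∀ n : ℕ, Subalgebra.toSubmodule S = Submodule.span (PowerSeries k) {(1 : (Fin 2 → PowerSeries k))} ⊔
        Ideal.span {(PowerSeries.X : PowerSeries k) ^ n} • (⊤ : Submodule (PowerSeries k) (Fin 2 → PowerSeries k)) →
      Nonempty (S ≃ₐ[PowerSeries k] AdjoinRoot (Polynomial.X ^ 2 - Polynomial.C ((PowerSeries.X : PowerSeries k) ^ (2 * n))))) := by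
  have h2 : IsUnit (2 : PowerSeries k) := by
    rw [PowerSeries.isUnit_iff_constantCoeff, map_ofNat]
    exact isUnit_iff_ne_zero.2 (by norm_num)
  obtain ⟨u, hu⟩ := h2
  let v : Fin 2 → (Fin 2 → PowerSeries k) := ![1, ![1, -1]]
  have hli : LinearIndependent (PowerSeries k) v := by
    rw [Fintype.linearIndependent_iff]
    intro g hg
    have e0 := congrFun hg 0
    have e1 := congrFun hg 1
    simp [v, Fin.sum_univ_two] at e0 e1
    have hd : (2 : PowerSeries k) * g 0 = 0 := by linear_combination e0 + e1
    have h0 : g 0 = 0 := by
      rw [← hu] at hd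
      exact (Units.mul_right_eq_zero u).1 hd
    intro i
    fin_cases i
    · exact h0
    · simpa [h0] using e0
  have hspan : ⊤ ≤ Submodule.span (PowerSeries k) (Set.range v) := by
    intro x _
    have e : x = (↑u⁻¹ * (x 0 + x 1)) • v 0 + (↑u⁻¹ * (x 0 - x 1)) • v 1 := by
      funext i
      have hh : (↑u⁻¹ : PowerSeries k) * 2 = 1 := by rw [← hu]; exact u.inv_mul
      fin_cases i <;> simp [v]
      · linear_combination -(x 0) * hh
      · linear_combination -(x 1) * hh
    rw [e]
    exact add_mem (Submodule.smul_mem _ _ (Submodule.subset_span ⟨0, rfl⟩))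
      (Submodule.smul_mem _ _ (Submodule.subset_span ⟨1, rfl⟩))
  have h := Groth.Agent.Crimp71.double_crimps 0 (Module.Basis.mk hli hspan) (by simp [v])
    (by funext i; fin_cases i <;> simp [v]) b S
  simpa using h


end Groth.Agent.S13880
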