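import Groth.Statements.S13882
import Mathlib
-- import your own Groth.Agent.* helpers here

set_option autoImplicit false
universe u
open FinCov

namespace Groth.Agent.S13882

section

variable (K : Type u) [Field K] (d : ℕ)

/-- The variables: structure constants and unit coordinates. -/
abbrev Var : Type := (Fin d × Fin d × Fin d) ⊕ Fin d

noncomputable def cc (i j k : Fin d) : MvPolynomial (Var d) K := MvPolynomial.X (Sum.inl (i, j, k))
noncomputable def uu (i : Fin d) : MvPolynomial (Var d) K := MvPolynomial.X (Sum.inr i)

/-- The defining relations. -/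
noncomputable def rels : Set (MvPolynomial (Var d) K) :=
  (Set.range fun p : Fin d × Fin d × Fin d => cc K d p.1 p.2.1 p.2.2 - cc K d p.2.1 p.1 p.2.2) ∪
  (Set.range fun p : Fin d × Fin d × Fin d × Fin d =>
    (∑ k, cc K d p.1 p.2.1 k * cc K d k p.2.2.1 p.2.2.2) -
      ∑ k, cc K d p.2.1 p.2.2.1 k * cc K d p.1 k p.2.2.2) ∪
  (Set.range fun p : Fin d × Fin d =>
    (∑ i, uu K d i * cc K d i p.1 p.2) - if p.1 = p.2 then 1 else 0)

abbrev B : Type u := MvPolynomial (Var d) K ⧸ Ideal.span (rels K d)

noncomputable def q : MvPolynomial (Var d) K →ₐ[K] B K d := Ideal.Quotient.mkₐ K _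

theorem q_eq {a b : MvPolynomial (Var d) K} (h : a - b ∈ rels K d) : q K d a = q K d b :=
  (Ideal.Quotient.eq).2 (Ideal.subset_span h)

/-- The universal based algebra. -/
noncomputable def univAlg : W4c1hurwitzcpt.BasedAlg d (B K d) where
  c i j k := q K d (cc K d i j k)
  u i := q K d (uu K d i)
  comm i j k := q_eq K d (Or.inl (Or.inl ⟨(i, j, k), rfl⟩))
  assoc i j l m := by
    simp only [← map_mul, ← map_sum]
    exact q_eq K d (Or.inl (Or.inr ⟨(i, j, l, m), rfl⟩))
  unit j m := by
    simp only [← map_mul, ← map_sum]
    refine (q_eq K d (Or.inr ⟨(j, m), rfl⟩)).trans ?_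
    split <;> simp

noncomputable def classify (A : Type u) [CommRing A] [Algebra K A] (s : W4c1hurwitzcpt.BasedAlg d A) :
    B K d →ₐ[K] A :=
  Ideal.Quotient.liftₐ _ (MvPolynomial.aeval (Sum.elim (fun p => s.c p.1 p.2.1 p.2.2) s.u)) (by
    have h : Ideal.span (rels K d) ≤
        RingHom.ker (MvPolynomial.aeval (Sum.elim (fun p => s.c p.1 p.2.1 p.2.2) s.u)).toRingHom := by
      rw [Ideal.span_le]
      rintro x ((⟨⟨i, j, k⟩, rfl⟩ | ⟨⟨i, j, l, m⟩, rfl⟩) | ⟨⟨j, m⟩, rfl⟩) <;>
        simp [cc, uu, SetLike.mem_coe, RingHom.mem_ker]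
      · exact sub_eq_zero.2 (s.comm i j k)
      · exact sub_eq_zero.2 (s.assoc i j l m)
      · rw [s.unit]
        split <;> simp
    exact fun a ha => h ha)

noncomputable def repr (A : Type u) [CommRing A] [Algebra K A] :
    (B K d →ₐ[K] A) ≃ W4c1hurwitzcpt.BasedAlg d A where
  toFun g := (univAlg K d).map g.toRingHom
  invFun s := classify K d A s
  left_inv g := by
    refine Ideal.Quotient.algHom_ext K (MvPolynomial.algHom_ext fun v => ?_)
    rcases v with ⟨i, j, k⟩ | i <;>
      simp [classify, univAlg, W4c1hurwitzcpt.BasedAlg.map, cc, uu, q]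
  right_inv s := by
    ext i <;> simp [classify, univAlg, W4c1hurwitzcpt.BasedAlg.map, cc, uu, q]

end



/-- Over a field K of characteristic zero, the functor that sends a K-scheme S to the set of isomorphism
classes of pairs (A, τ) of an O_S-algebra A and an O_S-module isomorphism τ from A to the free
module of rank d, equivalently to the set of commutative unital algebra structures on the rank-d
free module with its standard basis, is represented by an affine K-scheme of finite type. Stated on
affine K-schemes in one universe: there is a finitely generated commutative K-algebra B with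
bijections between K-algebra maps B → A and based algebra structures of rank d over A, natural in
the commutative K-algebra A. -/
theorem result (K : Type u) [Field K] [CharZero K] (d : ℕ) :
    ∃ (B : Type u) (_ : CommRing B) (_ : Algebra K B) (_ : Algebra.FiniteType K B)
      (η : ∀ (A : Type u) [CommRing A] [Algebra K A], (B →ₐ[K] A) ≃ W4c1hurwitzcpt.BasedAlg d A),
      ∀ (A A' : Type u) [CommRing A] [Algebra K A] [CommRing A'] [Algebra K A']
        (f : A →ₐ[K] A') (g : B →ₐ[K] A),
        η A' (f.comp g) = (η A g).map f.toRingHom := by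
  exact ⟨B K d, inferInstance, inferInstance, inferInstance, fun A _ _ => repr K d A,
    fun A A' _ _ _ _ f g => rfl⟩


end Groth.Agent.S13882
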