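import Groth.Statements.S13884
import Mathlib
import Groth.Agent.Crimp71.RootDisk
-- import your own Groth.Agent.* helpers here

set_option autoImplicit false
universe u
open Crimp

namespace Groth.Agent.S13884

/-- Over R = k⟦t⟧ with k an algebraically closed field of characteristic zero, let S' = k⟦x⟧ regarded as
an R-algebra through t ↦ x ^ 3, that is S' = R[x] / (x ^ 3 - t), the smooth totally ramified triple
cover of the formal disk. If M is an R-submodule of S' which is free of rank 3, then M has an
R-basis consisting of three power series whose x-adic valuations are pairwise distinct modulo 3.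
(Items (2) and (3) of the published proposition, on the base change of M to R[s] / (s ^ 3 - t), are
not restated.) -/
theorem result {k : Type u} [Field k] [IsAlgClosed k] [CharZero k]
    (M : Submodule (PowerSeries k) (W4c1hurwitzcpt.RootDisk 3 k))
    (bM : Module.Basis (Fin 3) (PowerSeries k) M) :
    ∃ g : Module.Basis (Fin 3) (PowerSeries k) M, ∀ i j : Fin 3, i ≠ j →
      ¬ Nat.ModEq 3 (PowerSeries.order (W4c1hurwitzcpt.RootDisk.val (((g i : M) : (W4c1hurwitzcpt.RootDisk 3 k)) : W4c1hurwitzcpt.RootDisk 3 k))).toNat
        (PowerSeries.order (W4c1hurwitzcpt.RootDisk.val (((g j : M) : (W4c1hurwitzcpt.RootDisk 3 k)) : W4c1hurwitzcpt.RootDisk 3 k))).toNat := by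
  classical
  obtain ⟨t, g, -, hg, hle⟩ := Groth.Agent.Crimp71.exists_adapted Finset.univ M (by simp)
  have heq : M = Submodule.span (PowerSeries k) (g '' t) := le_antisymm hle
    (Submodule.span_le.2 (by rintro _ ⟨i, hi, rfl⟩; exact (hg i hi).1))
  have h3 : (3 : ℕ) ≤ t.card := by
    have h := finrank_span_finset_le_card (R := PowerSeries k) (t.image g)
    rw [Set.finrank, Finset.coe_image, ← heq, Module.finrank_eq_card_basis bM, Fintype.card_fin] at h
    exact h.trans Finset.card_image_le
  have ht : t = Finset.univ := Finset.eq_univ_of_card t (by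
    have := t.card_le_univ
    simp at this ⊢
    omega)
  subst ht
  haveI : Module.Finite (PowerSeries k) M := Module.Finite.of_basis bM
  let v : Fin 3 → M := fun i => ⟨g i, (hg i (Finset.mem_univ i)).1⟩
  let L : M →ₗ[PowerSeries k] M := bM.constr ℕ v
  have hsurj : Function.Surjective L := by
    rw [← LinearMap.range_eq_top, Module.Basis.constr_range]
    apply Submodule.map_injective_of_injective M.injective_subtype
    rw [Submodule.map_span, Submodule.map_top, Submodule.range_subtype, ← Set.range_comp]
    conv_rhs => rw [heq]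
    simp [Function.comp_def, v]
  let e : M ≃ₗ[PowerSeries k] M :=
    LinearEquiv.ofBijective L ⟨OrzechProperty.injective_of_surjective_endomorphism L hsurj, hsurj⟩
  refine ⟨bM.map e, fun i j hij h => hij ?_⟩
  obtain ⟨vi, hvi, hvi'⟩ := (hg i (Finset.mem_univ i)).2
  obtain ⟨vj, hvj, hvj'⟩ := (hg j (Finset.mem_univ j)).2
  have hb : ∀ l, ((bM.map e) l : W4c1hurwitzcpt.RootDisk 3 k) = g l := fun l => by
    show ((L (bM l) : M) : W4c1hurwitzcpt.RootDisk 3 k) = g l
    simp [L, v]
  rw [hb, hb, hvi, hvj, ENat.toNat_coe, ENat.toNat_coe] at h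
  exact Fin.ext (hvi'.symm.trans ((Nat.ModEq.eq_1 3 vi vj ▸ h : vi % 3 = vj % 3).trans hvj'))


end Groth.Agent.S13884
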