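import Groth.Statements.S13885
import Mathlib
import Groth.Agent.Crimp71.RootDisk
-- import your own Groth.Agent.* helpers here

set_option autoImplicit false
universe u
open Crimp

namespace Groth.Agent.S13885

/-- Over R = k⟦t⟧ with k an algebraically closed field of characteristic zero, let S' = k⟦x⟧ × R, where
k⟦x⟧ is regarded as an R-algebra through t ↦ x ^ 2, that is S' = R[x] / (x ^ 2 - t) ⊕ R, the smooth
simply ramified triple cover of the formal disk, with R embedded diagonally. If M is an R-submodule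
of S' containing 1 which is free of rank 3, then M is spanned by 1, (f₁, 0) and (f₂, 0) for some
power series f₁, f₂ whose x-adic valuations are distinct modulo 2. (Items (2) and (3) of the
published proposition, on the base change of M to R[s] / (s ^ 2 - t), are not restated.) -/
theorem result {k : Type u} [Field k] [IsAlgClosed k] [CharZero k]
    (M : Submodule (PowerSeries k) (W4c1hurwitzcpt.RootDisk 2 k × PowerSeries k))
    (h1 : (1 : (W4c1hurwitzcpt.RootDisk 2 k × PowerSeries k)) ∈ M)
    (bM : Module.Basis (Fin 3) (PowerSeries k) M) :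
    ∃ f₁ f₂ : W4c1hurwitzcpt.RootDisk 2 k,
      ¬ Nat.ModEq 2 (PowerSeries.order (W4c1hurwitzcpt.RootDisk.val (f₁ : W4c1hurwitzcpt.RootDisk 2 k))).toNat (PowerSeries.order (W4c1hurwitzcpt.RootDisk.val (f₂ : W4c1hurwitzcpt.RootDisk 2 k))).toNat ∧
      M = Submodule.span (PowerSeries k) {(1 : (W4c1hurwitzcpt.RootDisk 2 k × PowerSeries k)), (f₁, 0), (f₂, 0)} := by
  classical
  let ι := LinearMap.inl (PowerSeries k) (W4c1hurwitzcpt.RootDisk 2 k) (PowerSeries k)
  obtain ⟨t, g, -, hg, hle⟩ := Groth.Agent.Crimp71.exists_adapted Finset.univ (M.comap ι) (by simp)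
  have heq : M = Submodule.span (PowerSeries k)
      (insert 1 (ι '' (g '' t)) : Set (W4c1hurwitzcpt.RootDisk 2 k × PowerSeries k)) := by
    refine le_antisymm (fun m hm => ?_) (Submodule.span_le.2 ?_)
    · have hdec : m = m.2 • 1 + ι (m.1 - m.2 • 1) := by
        refine Prod.ext ?_ ?_ <;> simp [ι]
      rw [hdec, Submodule.span_insert, ← Submodule.map_span]
      refine Submodule.add_mem_sup (Submodule.smul_mem _ _ (Submodule.mem_span_singleton_self _))
        (Submodule.mem_map_of_mem (hle ?_))
      show ι (m.1 - m.2 • 1) ∈ M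
      rw [show ι (m.1 - m.2 • 1) = m - m.2 • 1 from eq_sub_iff_add_eq'.2 hdec.symm]
      exact sub_mem hm (M.smul_mem _ h1)
    · rintro _ (rfl | ⟨_, ⟨i, hi, rfl⟩, rfl⟩)
      exacts [h1, (hg i hi).1]
  have h3 : (3 : ℕ) ≤ t.card + 1 := by
    have h := finrank_span_finset_le_card (R := PowerSeries k) (insert 1 ((t.image g).image ι))
    rw [Set.finrank, Finset.coe_insert, Finset.coe_image, Finset.coe_image, ← heq,
      Module.finrank_eq_card_basis bM, Fintype.card_fin] at h
    refine h.trans ((Finset.card_insert_le _ _).trans (Nat.add_le_add_right ?_ 1))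
    exact Finset.card_image_le.trans Finset.card_image_le
  have ht : t = Finset.univ := Finset.eq_univ_of_card t (by
    have := t.card_le_univ
    simp at this ⊢
    omega)
  subst ht
  obtain ⟨v0, hv0, hv0'⟩ := (hg 0 (Finset.mem_univ 0)).2
  obtain ⟨v1, hv1, hv1'⟩ := (hg 1 (Finset.mem_univ 1)).2
  refine ⟨g 0, g 1, ?_, ?_⟩
  · rw [hv0, hv1, ENat.toNat_coe, ENat.toNat_coe, Nat.ModEq]
    simp at hv0' hv1'
    omega
  · conv_lhs => rw [heq]
    congr 1
    ext x
    simp [Fin.exists_fin_two, ι, eq_comm]


end Groth.Agent.S13885
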