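import Groth.Statements.S13886
import Mathlib
import Groth.Agent.Crimp71.Basic
-- import your own Groth.Agent.* helpers here

set_option autoImplicit false
universe u
open Crimp

namespace Groth.Agent.S13886

/-- Over R = k⟦t⟧ with k an algebraically closed field of characteristic zero, let S' = R × R × R be the
unramified triple cover of the formal disk and let m ≤ n ≤ 2m be natural numbers. For every f in S'
not lying in R·1 + t S', the R-submodule S = R·1 + R·(t ^ m f) + t ^ n S' is closed under
multiplication, hence an R-subalgebra (a crimp), and S' / S is isomorphic to R / (t ^ m) ⊕ R / (t ^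
n) (so the crimp has μ-invariant n - m and branch divisor (t ^ (2(m+n)))). Together with the
structure result for submodules with this quotient, this identifies the k-points of the space of
crimps of splitting type (m, n), 2m ≥ n, with the submodules of this shape. (The published statement
moreover asserts that this stratum is an irreducible variety of dimension n - m; that part is not
restated.) -/
theorem result {k : Type u} [Field k] [IsAlgClosed k] [CharZero k]
    (m n : ℕ) (hmn : m ≤ n) (hn : n ≤ 2 * m)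
    (f : (Fin 3 → PowerSeries k)) (hf : f ∉ Submodule.span (PowerSeries k) {(1 : (Fin 3 → PowerSeries k))} ⊔ Ideal.span {(PowerSeries.X : PowerSeries k)} • (⊤ : Submodule (PowerSeries k) (Fin 3 → PowerSeries k)))
    (S : Submodule (PowerSeries k) (Fin 3 → PowerSeries k))
    (hS : S = Submodule.span (PowerSeries k) {(1 : (Fin 3 → PowerSeries k)), ((PowerSeries.X : PowerSeries k) ^ m) • f} ⊔
        Ideal.span {(PowerSeries.X : PowerSeries k) ^ n} • (⊤ : Submodule (PowerSeries k) (Fin 3 → PowerSeries k))) :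
    (∀ x ∈ S, ∀ y ∈ S, x * y ∈ S) ∧
    Nonempty (((Fin 3 → PowerSeries k) ⧸ S) ≃ₗ[PowerSeries k]
      ((PowerSeries k ⧸ Ideal.span {(PowerSeries.X : PowerSeries k) ^ m}) × (PowerSeries k ⧸ Ideal.span {(PowerSeries.X : PowerSeries k) ^ n}))) := by
  refine ⟨?_, ?_⟩
  · refine (Groth.Agent.Crimp71.mul_closed_iff _ _ S (fun a x hx => ?_) hS).2 ?_
    · rw [Submodule.ideal_span_singleton_smul] at hx ⊢
      obtain ⟨w, -, rfl⟩ := hx
      exact ⟨a * w, trivial, (mul_smul_comm _ a w).symm⟩
    · rw [hS, smul_mul_smul_comm, ← pow_add, ← Nat.add_sub_cancel' (show n ≤ m + m by omega), pow_add,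
        mul_smul]
      exact Submodule.mem_sup_right (Submodule.smul_mem_smul (Ideal.mem_span_singleton_self _) trivial)
  set d0 := f 0 - f 2 with hd0
  set d1 := f 1 - f 2 with hd1
  obtain ⟨α, β, hαβ⟩ : ∃ α β : PowerSeries k, α * d0 + β * d1 = 1 := by
    by_cases h0 : IsUnit d0
    · exact ⟨(h0.unit⁻¹ : (PowerSeries k)ˣ), 0, by simp⟩
    by_cases h1 : IsUnit d1
    · exact ⟨0, (h1.unit⁻¹ : (PowerSeries k)ˣ), by simp⟩
    exfalso
    apply hf
    rw [PowerSeries.isUnit_iff_constantCoeff, isUnit_iff_ne_zero, not_not, ← PowerSeries.X_dvd_iff] at h0 h1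
    obtain ⟨a, ha⟩ := h0
    obtain ⟨c, hc⟩ := h1
    refine Submodule.mem_sup.2 ⟨f 2 • 1, Submodule.smul_mem _ _ (Submodule.mem_span_singleton_self _),
      (PowerSeries.X : PowerSeries k) • ![a, c, 0],
      Submodule.smul_mem_smul (Ideal.mem_span_singleton_self _) trivial, ?_⟩
    funext i
    fin_cases i <;> simp
    · linear_combination -ha + hd0
    · linear_combination -hc + hd1
  let π : Fin 3 → ((Fin 3 → PowerSeries k) →ₗ[PowerSeries k] PowerSeries k) := LinearMap.proj
  let Φ : (Fin 3 → PowerSeries k) →ₗ[PowerSeries k]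
      (PowerSeries k ⧸ Ideal.span {(PowerSeries.X : PowerSeries k) ^ m}) ×
        (PowerSeries k ⧸ Ideal.span {(PowerSeries.X : PowerSeries k) ^ n}) :=
    ((Submodule.mkQ _) ∘ₗ (α • (π 0 - π 2) + β • (π 1 - π 2))).prod
      ((Submodule.mkQ _) ∘ₗ (d0 • (π 1 - π 2) - d1 • (π 0 - π 2)))
  have hΦv : ∀ v, Φ v = (Ideal.Quotient.mk _ (α * (v 0 - v 2) + β * (v 1 - v 2)),
      Ideal.Quotient.mk _ (d0 * (v 1 - v 2) - d1 * (v 0 - v 2))) := fun v => rfl
  have hmem : ∀ v, v ∈ LinearMap.ker Φ ↔
      (PowerSeries.X : PowerSeries k) ^ m ∣ α * (v 0 - v 2) + β * (v 1 - v 2) ∧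
        (PowerSeries.X : PowerSeries k) ^ n ∣ d0 * (v 1 - v 2) - d1 * (v 0 - v 2) := fun v => by
    rw [LinearMap.mem_ker, hΦv, Prod.ext_iff]
    simp only [Prod.fst_zero, Prod.snd_zero, Ideal.Quotient.eq_zero_iff_mem, Ideal.mem_span_singleton]
  have hΦ : Function.Surjective Φ := by
    rintro ⟨P, Q⟩
    obtain ⟨p, rfl⟩ := Ideal.Quotient.mk_surjective P
    obtain ⟨q, rfl⟩ := Ideal.Quotient.mk_surjective Q
    refine ⟨![p * d0 - q * β, p * d1 + q * α, 0], (hΦv _).trans (Prod.ext (congrArg (Ideal.Quotient.mk _) ?_) (congrArg (Ideal.Quotient.mk _) ?_))⟩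
    · simp; linear_combination p * hαβ
    · simp; linear_combination q * hαβ
  have hker : LinearMap.ker Φ = S := by
    apply le_antisymm
    · intro v hv
      obtain ⟨⟨p, hp⟩, ⟨q, hq⟩⟩ := (hmem v).1 hv
      rw [hS]
      refine Submodule.mem_sup.2 ⟨(v 2 - p * (PowerSeries.X : PowerSeries k) ^ m * f 2) • 1 +
          p • ((PowerSeries.X : PowerSeries k) ^ m • f),
        add_mem (Submodule.smul_mem _ _ (Submodule.subset_span (by simp)))
          (Submodule.smul_mem _ _ (Submodule.subset_span (by simp))),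
        (PowerSeries.X : PowerSeries k) ^ n • (q • ![-β, α, 0]),
        Submodule.smul_mem_smul (Ideal.mem_span_singleton_self _) trivial, ?_⟩
      funext i
      fin_cases i <;> simp [Matrix.vecHead, Matrix.vecTail]
      · linear_combination -d0 * hp + β * hq + (v 0 - v 2) * hαβ - p * (PowerSeries.X : PowerSeries k) ^ m * hd0
      · linear_combination -d1 * hp - α * hq + (v 1 - v 2) * hαβ - p * (PowerSeries.X : PowerSeries k) ^ m * hd1
      · ring
    · rw [hS]
      refine sup_le (Submodule.span_le.2 ?_) (Submodule.smul_le.2 fun r hr x _ => ?_)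
      · rintro x (rfl | rfl)
        · rw [SetLike.mem_coe, hmem]
          simp
        · rw [SetLike.mem_coe, hmem]
          simp only [Pi.smul_apply, smul_eq_mul]
          exact ⟨⟨α * d0 + β * d1, by simp [hd0, hd1]; ring⟩, ⟨0, by simp [hd0, hd1]; ring⟩⟩
      · obtain ⟨c, rfl⟩ := Ideal.mem_span_singleton.1 hr
        rw [hmem]
        simp only [Pi.smul_apply, smul_eq_mul]
        exact ⟨(pow_dvd_pow _ hmn).trans ⟨c * (α * (x 0 - x 2) + β * (x 1 - x 2)), by ring⟩,
          ⟨c * (d0 * (x 1 - x 2) - d1 * (x 0 - x 2)), by ring⟩⟩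
  exact ⟨(Submodule.quotEquivOfEq _ _ hker.symm).trans (Φ.quotKerEquivOfSurjective hΦ)⟩


end Groth.Agent.S13886
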