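import Groth.Statements.S13888


set_option autoImplicit false
universe u
open CategoryTheory CategoryTheory.Limits MonoidalCategory
attribute [local instance] HasDerivedCategory.standard
open DTen

namespace Groth.Agent.S13888

lemma assoc_natural {A : Type u} [CommRing A] [DTen.HasLTen A] [DTen.HasLTen₃ A]
    [DTen.IsSymMonoidal A] {X Y : Dual.D A} (g : X ⟶ Y) (K L : Dual.D A) :
    (DTen.LTen₂ A).map (Prod.mkHom ((DTen.LTen₂ A).map (Prod.mkHom g (𝟙 K))) (𝟙 L)) ≫
      (DTen.associator Y K L).hom =
    (DTen.associator X K L).hom ≫
      (DTen.LTen₂ A).map (Prod.mkHom g (𝟙 ((DTen.LTen₂ A).obj (K, L)))) := by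
  have := (asIso (DTen.assocL A) ≪≫ (asIso (DTen.assocR A)).symm).hom.naturality
    (Prod.mkHom g (Prod.mkHom (𝟙 K) (𝟙 L)))
  dsimp [DTen.associator] at this ⊢
  simp only [Category.assoc] at this ⊢
  rw [show ((DTen.LTen₂ A).map (Prod.mkHom (𝟙 K) (𝟙 L))) = 𝟙 _ from
    (DTen.LTen₂ A).map_id (K, L)] at this
  first | exact this | exact this.trans (Category.assoc _ _ _).symm


/-- For a commutative ring `A` (assuming the derived tensor product on `D(A)` with its triple version
exists, that its symmetry, unit and associativity maps are isomorphisms, and that every `- ⊗^L L`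
has a right adjoint `RHom(L, -)`) and objects `K`, `L`, `M` of `D(A)`, the canonical morphism
`RHom(K ⊗^L L, M) ⟶ RHom(K, RHom(L, M))`, namely the double adjunct of the associativity isomorphism
followed by evaluation at `K ⊗^L L`, is an isomorphism. (Functoriality in the three objects is built
into the construction; the identification on `H^0` with the hom bijection of the adjunction is not
part of this row.) -/
theorem result (A : Type u) [CommRing A] [DTen.HasLTen A] [DTen.HasLTen₃ A]
    [DTen.IsSymMonoidal A] [DTen.HasRHom A] (K L M : Dual.D A) :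
    IsIso (DTen.curryHom K L M) := by
  haveI hb : ∀ X, Function.Bijective (fun g : X ⟶ _ => g ≫ DTen.curryHom K L M) := by
    intro X
    let e1 := DTen.rhomHomEquiv X ((DTen.LTen₂ A).obj (K, L)) M
    let e2 := DTen.rhomHomEquiv ((DTen.LTen₂ A).obj (X, K)) L M
    let e3 := DTen.rhomHomEquiv X K ((DTen.RHomR A L).obj M)
    have heq : (fun g : X ⟶ _ => g ≫ DTen.curryHom K L M) =
        fun g => e3 (e2 ((DTen.associator X K L).hom ≫ e1.symm g)) := by
      funext g
      dsimp only [e1, e2, e3, DTen.curryHom, DTen.rhomHomEquiv]
      rw [← Adjunction.homEquiv_naturality_left]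
      congr 1
      erw [← Adjunction.homEquiv_naturality_left]
      congr 1
      rw [Adjunction.homEquiv_counit]
      dsimp only [DTen.curryHomAux]
      exact ((reassoc_of% (assoc_natural g K L)) _)
    rw [heq]
    exact e3.bijective.comp (e2.bijective.comp
      (((DTen.associator X K L).symm.homCongr (Iso.refl M)).bijective.comp e1.symm.bijective |>
        fun h => by
          convert h using 1
          funext g
          simp [Iso.homCongr]))
  obtain ⟨i, hi⟩ := (hb _).2 (𝟙 _)
  dsimp only at hi
  exact ⟨i, (hb _).1 (by dsimp only; rw [Category.assoc, hi, Category.comp_id, Category.id_comp]), hi⟩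

end Groth.Agent.S13888
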