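import Groth.Statements.S1389
import Mathlib.AlgebraicGeometry.Morphisms.Etale
-- import your own Groth.Agent.* helpers here

set_option autoImplicit false
universe u
open FlatMor

namespace Groth.Agent.S1389

open AlgebraicGeometry CategoryTheory Limits in
/-- Let (U, u) and (U', u') be étale neighbourhoods of a point s of S and h₁, h₂ two S-morphisms U → U'
sending u to u' which induce the same map of residue fields κ(u') → κ(u). Then there is an étale
neighbourhood (U'', u'') of s with an S-morphism h : U'' → U sending u'' to u and with h followed by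
h₁ equal to h followed by h₂. -/
theorem result {S U U' : Scheme.{u}} (s : S) (g : U ⟶ S) (g' : U' ⟶ S) [Etale g] [Etale g'] (u : U) (u' : U')
    (hu : g u = s) (hu' : g' u' = s) (h₁ h₂ : U ⟶ U') (w₁ : h₁ ≫ g' = g) (w₂ : h₂ ≫ g' = g) (e₁ : h₁ u = u') (e₂ : h₂ u = u')
    (hres : (U'.residueFieldCongr e₁).inv ≫ h₁.residueFieldMap u = (U'.residueFieldCongr e₂).inv ≫ h₂.residueFieldMap u) :
    ∃ (U'' : Scheme.{u}) (g'' : U'' ⟶ S) (u'' : U'') (h : U'' ⟶ U), Etale g'' ∧ g'' u'' = s ∧ h ≫ g = g'' ∧ h u'' = u ∧ h ≫ h₁ = h ≫ h₂ := by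
  let d := pullback.diagonal g'
  let l : U ⟶ pullback g' g' := pullback.lift h₁ h₂ (w₁.trans w₂.symm)
  let U₀ : U.Opens := l ⁻¹ᵁ d.opensRange
  have key : ∀ (h : U ⟶ U') (e : h u = u'), U.fromSpecResidueField u ≫ h =
      Spec.map ((U'.residueFieldCongr e).inv ≫ h.residueFieldMap u) ≫ U'.fromSpecResidueField u' := by
    intro h e
    subst e
    simp [Scheme.Hom.SpecMap_residueFieldMap_fromSpecResidueField]
  have heq : U.fromSpecResidueField u ≫ l = (U.fromSpecResidueField u ≫ h₁) ≫ d := by
    apply pullback.hom_ext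
    · simp only [l, d, Category.assoc, pullback.lift_fst, pullback.diagonal_fst, Category.comp_id]
    · simp only [l, d, Category.assoc, pullback.lift_snd, pullback.diagonal_snd, Category.comp_id]
      rw [key h₁ e₁, key h₂ e₂, hres]
  have hu₀ : u ∈ U₀ := by
    have hpt := congrArg (fun k => k (IsLocalRing.closedPoint (U.residueField u))) heq
    have hl : (U.fromSpecResidueField u ≫ l) (IsLocalRing.closedPoint (U.residueField u)) = l u :=
      congrArg l (Scheme.fromSpecResidueField_apply u _)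
    exact ⟨_, (hl.symm.trans hpt).symm⟩
  have hrange : Set.range (U₀.ι ≫ l) ⊆ Set.range d := by
    rintro _ ⟨x, rfl⟩
    exact x.2
  refine ⟨U₀, U₀.ι ≫ g, ⟨u, hu₀⟩, U₀.ι, inferInstance, hu, rfl, rfl, ?_⟩
  have h1 : U₀.ι ≫ h₁ = IsOpenImmersion.lift d (U₀.ι ≫ l) hrange := by
    rw [← Category.comp_id (IsOpenImmersion.lift d (U₀.ι ≫ l) hrange), ← pullback.diagonal_fst g',
      IsOpenImmersion.lift_fac_assoc, Category.assoc, pullback.lift_fst]
  rw [h1, ← Category.comp_id (IsOpenImmersion.lift d (U₀.ι ≫ l) hrange), ← pullback.diagonal_snd g',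
    IsOpenImmersion.lift_fac_assoc, Category.assoc, pullback.lift_snd]

end Groth.Agent.S1389
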