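import Groth.Statements.S13903
import Mathlib

set_option autoImplicit false
universe u
open EtAlg

namespace Groth.Agent.S13903

/-- a finite separable reduced algebra has at least as many geometric points as its dimension -/
lemma finrank_le_card (K L : Type u) [Field K] [CommRing L] [Algebra K L] [Module.Finite K L] [IsReduced L]
    [Algebra.IsSeparable K L] :
    Module.finrank K L ≤ Nat.card (L →ₐ[K] AlgebraicClosure K) := by
  classical
  haveI : IsArtinianRing L := IsArtinianRing.of_finite K L
  letI : Fintype (MaximalSpectrum L) := Fintype.ofFinite _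
  letI : ∀ m : MaximalSpectrum L, Field (L ⧸ m.asIdeal) := fun m ↦ Ideal.Quotient.field _
  haveI : ∀ m : MaximalSpectrum L, Algebra.IsSeparable K (L ⧸ m.asIdeal) := fun m ↦ ⟨fun x ↦ by
    obtain ⟨y, rfl⟩ := Ideal.Quotient.mk_surjective x
    refine Polynomial.Separable.of_dvd (Algebra.IsSeparable.isSeparable K y) (minpoly.dvd K _ ?_)
    rw [← Ideal.Quotient.mkₐ_eq_mk K, Polynomial.aeval_algHom_apply, minpoly.aeval, map_zero]⟩
  have h1 : ∀ m : MaximalSpectrum L, Nat.card ((L ⧸ m.asIdeal) →ₐ[K] AlgebraicClosure K) =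
      Module.finrank K (L ⧸ m.asIdeal) := fun m ↦ by
    rw [Nat.card_eq_fintype_card, AlgHom.card]
  let e : L ≃ₗ[K] ∀ m : MaximalSpectrum L, L ⧸ m.asIdeal :=
    ((IsArtinianRing.equivPi L).restrictScalars K).toLinearEquiv
  rw [e.finrank_eq, Module.finrank_pi_fintype]
  let F : (Σ m : MaximalSpectrum L, ((L ⧸ m.asIdeal) →ₐ[K] AlgebraicClosure K)) →
      (L →ₐ[K] AlgebraicClosure K) := fun p ↦ p.2.comp (Ideal.Quotient.mkₐ K p.1.asIdeal)
  have hker : ∀ p, RingHom.ker (F p) = p.1.asIdeal := fun p ↦ Ideal.ext fun x ↦ by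
    rw [RingHom.mem_ker]
    exact (map_eq_zero p.2).trans Ideal.Quotient.eq_zero_iff_mem
  have hF : Function.Injective F := by
    rintro ⟨m, φ⟩ ⟨m', φ'⟩ h
    obtain rfl : m = m' := MaximalSpectrum.ext (by rw [← hker ⟨m, φ⟩, ← hker ⟨m', φ'⟩, h])
    refine Sigma.ext rfl (heq_of_eq (AlgHom.ext fun x ↦ ?_))
    obtain ⟨y, rfl⟩ := Ideal.Quotient.mk_surjective x
    exact AlgHom.congr_fun h y
  calc ∑ m : MaximalSpectrum L, Module.finrank K (L ⧸ m.asIdeal)
      = Nat.card (Σ m : MaximalSpectrum L, ((L ⧸ m.asIdeal) →ₐ[K] AlgebraicClosure K)) := by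
        rw [Nat.card_sigma]; exact Finset.sum_congr rfl fun m _ ↦ (h1 m).symm
    _ ≤ _ := Nat.card_le_card_of_injective F hF

/-- Let K be a field and L a finite-dimensional reduced commutative K-algebra of dimension d all of
whose elements are separable over K, generated as a K-algebra by z and t. In any finite set of at
least d^(4d) elements of K there is an element c such that c • z + t generates L as a K-algebra.
(The published statement does not require separability; for K of characteristic p and L obtained by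
adjoining p-th roots of two independent indeterminates, L is a reduced finite K-algebra generated by
two elements with no single generator, so separability over K is assumed here, as the counting in
the published proof requires.) -/
theorem result (K L : Type u) [Field K] [CommRing L]
    [Algebra K L] [Module.Finite K L] [IsReduced L] [Algebra.IsSeparable K L] (z t : L)
    (hgen : Algebra.adjoin K ({z, t} : Set L) = ⊤) (S : Finset K)
    (hS : Module.finrank K L ^ (4 * Module.finrank K L) ≤ S.card) :
    ∃ c ∈ S, Algebra.adjoin K ({c • z + t} : Set L) = ⊤ := by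
  classical
  let E := AlgebraicClosure K
  haveI : Finite (L →ₐ[K] E) := inferInstance
  letI : Fintype (L →ₐ[K] E) := Fintype.ofFinite _
  set n := Module.finrank K L with hn
  have hcard : Fintype.card (L →ₐ[K] E) ≤ n := by
    rw [← Nat.card_eq_fintype_card]; exact card_algHom_le_finrank K L E
  -- bad scalars
  let bad : Finset K := S.filter fun c ↦ ∃ σ τ : L →ₐ[K] E, σ ≠ τ ∧ σ (c • z + t) = τ (c • z + t)
  have hlt : bad.card < S.card := by
    rcases Nat.eq_zero_or_pos n with h0 | hpos
    · have hb : bad = ∅ := Finset.filter_eq_empty_iff.2 fun c _ ↦ by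
        rintro ⟨σ, τ, hne, -⟩
        rw [h0, Nat.le_zero, Fintype.card_eq_zero_iff] at hcard
        exact hcard.false σ
      rw [hb, Finset.card_empty]
      rw [h0] at hS
      simpa using hS
    refine lt_of_lt_of_le ?_ hS
    have hsub : bad ⊆ ((Finset.univ : Finset ((L →ₐ[K] E) × (L →ₐ[K] E))).filter fun p ↦ p.1 ≠ p.2).biUnion
        (fun p ↦ S.filter fun c ↦ p.1 (c • z + t) = p.2 (c • z + t)) := by
      intro c hc
      obtain ⟨hcS, σ, τ, hne, heq⟩ := Finset.mem_filter.1 hc
      exact Finset.mem_biUnion.2 ⟨(σ, τ), Finset.mem_filter.2 ⟨Finset.mem_univ _, hne⟩, Finset.mem_filter.2 ⟨hcS, heq⟩⟩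
    refine (Finset.card_le_card hsub).trans_lt ?_
    refine (Finset.card_biUnion_le_card_mul _ _ 1 fun p hp ↦ Finset.card_le_one.2 fun c hc c' hc' ↦ ?_).trans_lt ?_
    · have h1 := (Finset.mem_filter.1 hc).2
      have h2 := (Finset.mem_filter.1 hc').2
      rw [map_add, map_add, map_smul, map_smul, Algebra.smul_def, Algebra.smul_def] at h1 h2
      by_contra hne'
      have hz : p.1 z = p.2 z := by
        have h3 : (algebraMap K E c - algebraMap K E c') * (p.1 z - p.2 z) = 0 := by linear_combination h1 - h2
        exact sub_eq_zero.1 ((mul_eq_zero.1 h3).resolve_left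
          (sub_ne_zero.2 fun h ↦ hne' ((algebraMap K E).injective h)))
      have ht : p.1 t = p.2 t := by linear_combination h1 - algebraMap K E c * hz
      exact (Finset.mem_filter.1 hp).2 (AlgHom.ext_of_adjoin_eq_top hgen (by
        rintro x (rfl | rfl)
        · exact hz
        · exact ht))
    rw [mul_one]
    rcases isEmpty_or_nonempty (L →ₐ[K] E) with hE | ⟨⟨σ⟩⟩
    · rw [Finset.univ_eq_empty, Finset.filter_empty, Finset.card_empty]
      exact pow_pos hpos _
    calc _ < Fintype.card (L →ₐ[K] E) * Fintype.card (L →ₐ[K] E) := by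
          rw [← Fintype.card_prod, ← Finset.card_univ]
          refine Finset.card_lt_card ((Finset.ssubset_univ_iff).2 fun h ↦ ?_)
          have h' := Finset.mem_univ ((σ, σ) : (L →ₐ[K] E) × (L →ₐ[K] E))
          rw [← h] at h'
          exact (Finset.mem_filter.1 h').2 rfl
      _ ≤ n ^ 2 := by rw [pow_two]; exact Nat.mul_le_mul hcard hcard
      _ ≤ n ^ (4 * n) := Nat.pow_le_pow_right hpos (by omega)
  obtain ⟨c, hcS, hc⟩ := Finset.exists_mem_notMem_of_card_lt_card hlt
  refine ⟨c, hcS, ?_⟩
  set B := Algebra.adjoin K ({c • z + t} : Set L) with hB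
  have hinj : Function.Injective (fun σ : L →ₐ[K] E ↦ σ.comp B.val) := by
    intro σ τ h
    by_contra hne
    exact hc (Finset.mem_filter.2 ⟨hcS, σ, τ, hne, AlgHom.congr_fun h ⟨_, Algebra.self_mem_adjoin_singleton K _⟩⟩)
  haveI : Module.Finite K B := inferInstanceAs (Module.Finite K B.toSubmodule)
  haveI : Finite (B →ₐ[K] E) := inferInstance
  refine Algebra.toSubmodule_eq_top.1 (Submodule.eq_top_of_finrank_eq (le_antisymm (Submodule.finrank_le _) ?_))
  calc Module.finrank K L ≤ Nat.card (L →ₐ[K] E) := finrank_le_card K L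
    _ ≤ Nat.card (B →ₐ[K] E) := Nat.card_le_card_of_injective _ hinj
    _ ≤ Module.finrank K B := card_algHom_le_finrank K B E

end Groth.Agent.S13903
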