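import Groth.Statements.S13904
import Mathlib
-- import your own Groth.Agent.* helpers here

set_option autoImplicit false
universe u
open CAlg

namespace Groth.Agent.S13904

/-- Let k be a field, A a commutative k-algebra and φ : k[x_1, …, x_r] → A a finite k-algebra map such
that A/p has Krull dimension r for every minimal prime p of A (an equidimensional affine scheme of
dimension r, finite over affine r-space). Then for every minimal prime p of A and every prime q of
k[x_1, …, x_r] there is a prime P ⊇ p of A with φ⁻¹(P) = q: the finite map restricted to each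
irreducible component of Spec A is surjective onto affine r-space. (The published statement is over
an algebraically closed field with φ a Noether normalisation; this row allows any field and any
finite k-algebra map φ.) -/
theorem result (k : Type u) [Field k] (r : ℕ)
    (A : Type u) [CommRing A] [Algebra k A] (φ : MvPolynomial (Fin r) k →ₐ[k] A)
    (hφ : φ.toRingHom.Finite)
    (hdim : ∀ p ∈ minimalPrimes A, ringKrullDim (A ⧸ p) = r)
    (p : Ideal A) (hp : p ∈ minimalPrimes A)
    (q : Ideal (MvPolynomial (Fin r) k)) [q.IsPrime] :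
    ∃ P : Ideal A, P.IsPrime ∧ p ≤ P ∧ P.comap φ.toRingHom = q := by
  haveI : p.IsPrime := hp.1.1
  let ψ : MvPolynomial (Fin r) k →+* A ⧸ p := (Ideal.Quotient.mk p).comp φ.toRingHom
  have hψ : ψ.Finite := (RingHom.Finite.of_surjective _ Ideal.Quotient.mk_surjective).comp hφ
  have hI : RingHom.ker ψ = ⊥ := by
    by_contra hne
    obtain ⟨x, hx, hx0⟩ := (Submodule.ne_bot_iff _).mp hne
    let ψ' : MvPolynomial (Fin r) k ⧸ RingHom.ker ψ →+* A ⧸ p := RingHom.kerLift ψ
    have hint : ψ'.IsIntegral := by
      intro y
      refine RingHom.IsIntegralElem.of_comp (f := Ideal.Quotient.mk (RingHom.ker ψ)) ?_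
      have he : ψ'.comp (Ideal.Quotient.mk (RingHom.ker ψ)) = ψ := RingHom.ext fun _ => rfl
      rw [he]
      exact hψ.to_isIntegral y
    letI := ψ'.toAlgebra
    haveI : Algebra.IsIntegral (MvPolynomial (Fin r) k ⧸ RingHom.ker ψ) (A ⧸ p) := ⟨hint⟩
    have h1 : ringKrullDim (A ⧸ p) ≤ ringKrullDim (MvPolynomial (Fin r) k ⧸ RingHom.ker ψ) :=
      Order.krullDim_le_of_strictMono (fun P : PrimeSpectrum (A ⧸ p) => PrimeSpectrum.comap ψ' P)
        (fun P Q h => Ideal.IsIntegral.comap_lt_comap h)
    have h2 : ringKrullDim (MvPolynomial (Fin r) k ⧸ RingHom.ker ψ) + 1 ≤ ringKrullDim (MvPolynomial (Fin r) k) := by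
      refine le_trans ?_ (ringKrullDim_quotient_succ_le_of_nonZeroDivisor (r := x) ?_)
      · gcongr
        exact ringKrullDim_le_of_surjective (Ideal.Quotient.factor
          (show Ideal.span {x} ≤ RingHom.ker ψ by simpa [Ideal.span_le] using hx))
          (Ideal.Quotient.factor_surjective _)
      · exact mem_nonZeroDivisors_of_ne_zero hx0
    rw [MvPolynomial.ringKrullDim_of_isNoetherianRing, ringKrullDim_eq_zero_of_field] at h2
    rw [hdim p hp] at h1
    have h3 : ((r : ℕ) : WithBot ℕ∞) + 1 ≤ 0 + (r : ℕ) := by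
      refine le_trans ?_ (le_trans h2 (by simp))
      gcongr
    rw [zero_add] at h3
    norm_cast at h3
    omega
  letI := φ.toRingHom.toAlgebra
  haveI : Algebra.IsIntegral (MvPolynomial (Fin r) k) A := ⟨hφ.to_isIntegral⟩
  obtain ⟨Q, hQ, hQp, hQc⟩ := Ideal.exists_ideal_over_prime_of_isIntegral_of_isPrime q p (by
    intro y hy
    have : y ∈ RingHom.ker ψ := by
      rw [RingHom.mem_ker]; exact Ideal.Quotient.eq_zero_iff_mem.mpr hy
    rw [hI, Ideal.mem_bot] at this
    simp [this])
  exact ⟨Q, hQp, hQ, hQc⟩

end Groth.Agent.S13904
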