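import Groth.Statements.S13905
import Mathlib
-- import your own Groth.Agent.* helpers here

set_option autoImplicit false
universe u
open ProjGeom

namespace Groth.Agent.S13905

open W4c1etcurveeff3b in
/-- Hyperplanes of projective n-space in general position, in linear-algebra form (V of dimension n + 1
over a field k, hyperplanes as n-dimensional subspaces, points as nonzero vectors): if S is a finite
set of hyperplanes in general position with at least n members and H is a hyperplane containing none
of the lines cut out by n members of S, then S with H added is again in general position. (The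
published statement is for hyperplanes of P^n_k and closed points; a closed point lying on n + 1
members is automatically one of the rational points cut out by n of them, so the condition on
nonzero vectors of V is the same condition.) -/
theorem result (k V : Type u) [Field k]
    [AddCommGroup V] [Module k V] [DecidableEq (Submodule k V)] (n : ℕ) (S : Finset (Submodule k V))
    (hS : InGeneralPosition k V n S) (hn : n ≤ S.card) (H : Submodule k V)
    (hH : Module.finrank k H = n)
    (havoid : ∀ T ⊆ S, T.card = n → ¬ (T.inf id ≤ H)) :
    InGeneralPosition k V n (insert H S) := by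
  classical
  obtain ⟨hV, hSr, hST, hSv⟩ := hS
  have : Module.Finite k V := Module.finite_of_finrank_pos (by omega)
  refine ⟨hV, fun K hK => ?_, fun T hT hTc => ?_, fun v hv T hT hvT => ?_⟩
  · rcases Finset.mem_insert.1 hK with rfl | hK
    exacts [hH, hSr K hK]
  · by_cases hHT : H ∈ T
    · have hT' : T.erase H ⊆ S := Finset.subset_insert_iff.1 hT
      have hc : (T.erase H).card + 1 = T.card := Finset.card_erase_add_one hHT
      obtain ⟨T₂, h1, h2, h3⟩ :=
        Finset.exists_subsuperset_card_eq hT' (show (T.erase H).card ≤ n by omega) hn
      have hnot : ¬ (T.erase H).inf id ≤ H := fun hle =>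
        havoid T₂ h2 h3 ((Finset.inf_mono h1).trans hle)
      have hW := hST (T.erase H) hT' (by omega)
      have hins : T.inf id = H ⊓ (T.erase H).inf id := by
        conv_lhs => rw [← Finset.insert_erase hHT, Finset.inf_insert, id_eq]
      rw [hins]
      have hsup := Submodule.finrank_sup_add_finrank_inf_eq H ((T.erase H).inf id)
      have hlt : Module.finrank k H < Module.finrank k ↥(H ⊔ (T.erase H).inf id) :=
        Submodule.finrank_lt_finrank_of_lt (lt_of_le_of_ne le_sup_left fun h => hnot (le_sup_right.trans h.ge))
      have hle : Module.finrank k ↥(H ⊔ (T.erase H).inf id) ≤ n + 1 :=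
        (Submodule.finrank_le _).trans hV.le
      omega
    · exact hST T (fun x hx => (Finset.mem_insert.1 (hT hx)).resolve_left (fun h => hHT (h ▸ hx))) hTc
  · by_cases hHT : H ∈ T
    · have hT' : T.erase H ⊆ S := Finset.subset_insert_iff.1 hT
      have hc : (T.erase H).card + 1 = T.card := Finset.card_erase_add_one hHT
      by_contra hlt
      push Not at hlt
      obtain ⟨T₂, h2, h3⟩ := Finset.exists_subset_card_eq (s := T.erase H) (n := n) (by omega)
      refine havoid T₂ (h2.trans hT') h3 ?_
      have hvW : v ∈ T₂.inf id := (Submodule.mem_finsetInf (p := id)).2 fun K hK =>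
        hvT K (Finset.mem_of_mem_erase (h2 hK))
      have hW := hST T₂ (h2.trans hT') h3.le
      rw [h3, Nat.add_sub_cancel_left] at hW
      intro w hw
      obtain ⟨c, hc⟩ := (finrank_eq_one_iff_of_nonzero' (⟨v, hvW⟩ : ↥(T₂.inf id))
        (fun h => hv (congrArg Subtype.val h))).1 hW ⟨w, hw⟩
      rw [show w = c • v from (congrArg Subtype.val hc).symm]
      exact H.smul_mem c (hvT H hHT)
    · exact hSv v hv T
        (fun x hx => (Finset.mem_insert.1 (hT hx)).resolve_left (fun h => hHT (h ▸ hx))) hvT

end Groth.Agent.S13905
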