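import Groth.Statements.S13907
import Mathlib
import Groth.Agent.ProjCut84
-- import your own Groth.Agent.* helpers here

set_option autoImplicit false
universe u
open ProjGeom

namespace Groth.Agent.S13907

/-- Over an algebraically closed field k, let C be a nonempty irreducible closed subset of the
underlying space of projective n-space with homogeneous coordinates x_0, …, x_n, and for i ≤ n let
L_i be the linear subspace where x_1, …, x_i vanish. Then there is an index i ≤ n with C ∩ L_i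
nonempty and of topological Krull dimension zero. -/
theorem result (k : Type u) [Field k]
    [IsAlgClosed k] (n : ℕ) (C : Set (ProjectiveSpectrum (CohB1.polyGrading n k)))
    (hC : IsClosed C) (hirr : IsIrreducible C) :
    ∃ i : ℕ, i ≤ n ∧
      (C ∩ ProjectiveSpectrum.zeroLocus (CohB1.polyGrading n k)
          ((fun j : Fin (n + 1) => (MvPolynomial.X j : MvPolynomial (Fin (n + 1)) k)) ''
            {j : Fin (n + 1) | 1 ≤ j.val ∧ j.val ≤ i})).Nonempty ∧
      topologicalKrullDim ↥(C ∩ ProjectiveSpectrum.zeroLocus (CohB1.polyGrading n k)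
          ((fun j : Fin (n + 1) => (MvPolynomial.X j : MvPolynomial (Fin (n + 1)) k)) ''
            {j : Fin (n + 1) | 1 ≤ j.val ∧ j.val ≤ i})) = 0 := by
  classical
  let L : ℕ → Set (ProjectiveSpectrum (CohB1.polyGrading n k)) := fun i =>
    C ∩ ProjectiveSpectrum.zeroLocus (CohB1.polyGrading n k)
      ((fun j : Fin (n + 1) => (MvPolynomial.X j : MvPolynomial (Fin (n + 1)) k)) ''
        {j : Fin (n + 1) | 1 ≤ j.val ∧ j.val ≤ i})
  obtain ⟨c, hc⟩ := hirr.nonempty
  have h0 : ∃ i, i ≤ n ∧ (L i).Nonempty := ⟨0, Nat.zero_le _, c, hc, by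
    rw [ProjectiveSpectrum.mem_zeroLocus]
    rintro _ ⟨j, ⟨h1, h2⟩, rfl⟩
    omega⟩
  obtain ⟨i₁, hi₁, hi₁'⟩ := h0
  let P : ℕ → Prop := fun i => (L i).Nonempty
  obtain ⟨i, hin, hne, hmax⟩ : ∃ i, i ≤ n ∧ P i ∧ ∀ i', i < i' → i' ≤ n → ¬ P i' :=
    ⟨Nat.findGreatest P n, Nat.findGreatest_le n, Nat.findGreatest_spec hi₁ hi₁',
      fun i' h h' => Nat.findGreatest_is_greatest h h'⟩
  refine ⟨i, hin, hne, ?_⟩
  have hLc : IsClosed (L i) := hC.inter (ProjectiveSpectrum.isClosed_zeroLocus _ _)
  -- the hyperplane missing `L i`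
  obtain ⟨j, hj⟩ : ∃ j : Fin (n + 1), ∀ x ∈ L i,
      (MvPolynomial.X j : MvPolynomial (Fin (n + 1)) k) ∉ x.asHomogeneousIdeal := by
    rcases Nat.lt_or_ge i n with hlt | hge
    · refine ⟨⟨i + 1, by omega⟩, fun x hx hxj => hmax (i + 1) (by omega) (by omega) ⟨x, hx.1, ?_⟩⟩
      rw [ProjectiveSpectrum.mem_zeroLocus]
      rintro _ ⟨l, ⟨hl1, hl2⟩, rfl⟩
      rcases Nat.lt_or_ge l.val (i + 1) with h | h
      · exact hx.2 ⟨l, ⟨hl1, by omega⟩, rfl⟩
      · rw [show l = ⟨i + 1, by omega⟩ from Fin.ext (by simp; omega)]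
        exact hxj
    · refine ⟨0, fun x hx hx0 => x.not_irrelevant_le ?_⟩
      obtain rfl : i = n := by omega
      intro f hf
      have hall : ∀ l, (MvPolynomial.X l : MvPolynomial (Fin (i + 1)) k) ∈ x.asHomogeneousIdeal := by
        intro l
        rcases Fin.eq_zero_or_eq_succ l with rfl | ⟨l', rfl⟩
        · exact hx0
        · exact hx.2 ⟨l'.succ, ⟨by simp, by simp⟩, rfl⟩
      change f ∈ x.asHomogeneousIdeal.toIdeal
      refine (Ideal.span_le.2 (by rintro _ ⟨l, rfl⟩; exact hall l) :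
        Ideal.span (Set.range MvPolynomial.X) ≤ x.asHomogeneousIdeal.toIdeal) ?_
      rw [← Set.image_univ, MvPolynomial.mem_ideal_span_X_image]
      intro m hm
      by_contra hcon
      push Not at hcon
      obtain rfl : m = 0 := Finsupp.ext fun l => by simpa using hcon l (Set.mem_univ l)
      apply MvPolynomial.mem_support_iff.1 hm
      have h2 := (HomogeneousIdeal.mem_irrelevant_iff _ _).1 hf
      rw [GradedRing.proj_apply] at h2
      change ((MvPolynomial.decomposition.decompose' f 0 : _) : MvPolynomial (Fin (i + 1)) k) = 0 at h2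
      rw [MvPolynomial.decomposition.decompose'_apply] at h2
      have h3 := congrArg (MvPolynomial.coeff 0) h2
      rwa [MvPolynomial.coeff_homogeneousComponent, map_zero, if_pos rfl, MvPolynomial.coeff_zero] at h3
  have key : ∀ x y, x ∈ L i → x ≤ y → y = x := by
    intro x y hx hxy
    have hmem : ∀ z, x ≤ z → z ∈ L i := fun z hz => hLc.closure_subset_iff.2
      (Set.singleton_subset_iff.2 hx) ((ProjectiveSpectrum.le_iff_mem_closure _ x z).1 hz)
    exact Groth.Agent.ProjCut84.eq_of_le_of_hyperplane x y hxy j (hj y (hmem y hxy))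
      fun z hz hzj => hj z (hmem z hz) hzj
  have hsing : ∀ s : TopologicalSpace.IrreducibleCloseds ↥(L i), ∃ a, (s : Set ↥(L i)) = {a} := by
    intro s
    have : QuasiSober (ProjectiveSpectrum (CohB1.polyGrading n k)) :=
      inferInstanceAs (QuasiSober (AlgebraicGeometry.Proj (CohB1.polyGrading n k)))
    have hT := s.isIrreducible.image Subtype.val continuous_subtype_val.continuousOn
    have hTc : IsClosed (Subtype.val '' (s : Set ↥(L i))) :=
      hLc.isClosedEmbedding_subtypeVal.isClosedMap _ s.isClosed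
    obtain ⟨η, hη⟩ := QuasiSober.sober hT hTc
    obtain ⟨a, ha, rfl⟩ : η ∈ Subtype.val '' (s : Set ↥(L i)) := hη.mem
    refine ⟨a, Set.eq_singleton_iff_unique_mem.2 ⟨ha, fun b hb => Subtype.ext ?_⟩⟩
    exact key a.1 b.1 a.2 ((ProjectiveSpectrum.le_iff_mem_closure _ _ _).2 (by
      rw [hη.def]; exact ⟨b, hb, rfl⟩))
  refine le_antisymm ?_ ?_
  · refine Order.krullDim_nonpos_iff_forall_isMax.2 fun s t hst => ?_
    obtain ⟨a, ha⟩ := hsing s
    obtain ⟨b, hb⟩ := hsing t
    have h1 : (s : Set ↥(L i)) ⊆ t := hst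
    rw [ha, hb, Set.singleton_subset_singleton] at h1
    show (t : Set ↥(L i)) ⊆ s
    rw [ha, hb, h1]
  · obtain ⟨x, hx⟩ := hne
    have : Nonempty (TopologicalSpace.IrreducibleCloseds ↥(L i)) :=
      ⟨⟨closure {(⟨x, hx⟩ : ↥(L i))}, isIrreducible_singleton.closure, isClosed_closure⟩⟩
    exact Order.krullDim_nonneg

end Groth.Agent.S13907
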