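import Groth.Statements.S13912
import Mathlib

set_option autoImplicit false
universe u
open PlaneConic

namespace Groth.Agent.S13912

open MvPolynomial Matrix

theorem eval_homog_one {k : Type u} [CommRing k] {p : MvPolynomial (Fin 3) k}
    (hp : p.IsHomogeneous 1) : ∃ L : (Fin 3 → k) →ₗ[k] k, ∀ x, eval x p = L x := by
  classical
  refine ⟨∑ i, p.coeff (Finsupp.single i 1) • LinearMap.proj i, fun x => ?_⟩
  have h : p = ∑ i, C (p.coeff (Finsupp.single i 1)) * X i := by
    ext e
    simp only [coeff_sum, coeff_C_mul, coeff_X', mul_ite, mul_one, mul_zero]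
    by_cases he : p.coeff e = 0
    · rw [he]
      symm
      refine Finset.sum_eq_zero fun i _ => ?_
      split_ifs with hi
      · rw [hi, he]
      · rfl
    · have hd : e.degree = 1 := by rw [Finsupp.degree_eq_weight_one]; exact hp he
      obtain ⟨i, hi⟩ : ∃ i, e = Finsupp.single i 1 := by
        obtain ⟨i, hi⟩ : ∃ i, e i ≠ 0 := by
          by_contra hc
          push_neg at hc
          rw [show e = 0 from Finsupp.ext hc] at hd
          simp at hd
        refine ⟨i, ?_⟩
        have hle : Finsupp.single i 1 ≤ e := Finsupp.single_le_iff.2 (Nat.pos_of_ne_zero hi)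
        obtain ⟨r, rfl⟩ : ∃ r, e = Finsupp.single i 1 + r :=
          ⟨e - Finsupp.single i 1, (add_tsub_cancel_of_le hle).symm⟩
        rw [map_add, Finsupp.degree_single] at hd
        rw [(Finsupp.degree_eq_zero_iff r).1 (by omega), add_zero]
      subst hi
      rw [Finset.sum_eq_single i]
      · simp
      · intro b _ hb
        rw [if_neg]
        exact fun h => hb (Finsupp.single_left_injective one_ne_zero h)
      · simp
  conv_lhs => rw [h]
  simp

theorem no_plane {k : Type u} [Field k] (L₁ L₂ : (Fin 3 → k) →ₗ[k] k)
    (h : ∀ y : Fin 3 → k, y 0 ^ 2 + y 1 * y 2 = L₁ y * L₂ y) : False := by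
  classical
  set p := L₁ (Pi.single 0 1) with hp
  set q := L₁ (Pi.single 1 1) with hq
  set r := L₁ (Pi.single 2 1) with hr
  have hL : ∀ a b c, L₁ ![a, b, c] = a * p + b * q + c * r := by
    intro a b c
    have : (![a, b, c] : Fin 3 → k) = a • Pi.single 0 1 + b • Pi.single 1 1 + c • Pi.single 2 1 := by
      funext i; fin_cases i <;> simp
    rw [this, map_add, map_add, map_smul, map_smul, map_smul]
    rfl
  have hr0 : r = 0 := by
    have := h ![r, 0, -p]
    rw [hL] at this
    simpa [mul_comm r p] using this
  have hq0 : q = 0 := by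
    have := h ![q, -p, 0]
    rw [hL] at this
    simpa [mul_comm q p] using this
  have := h ![0, 1, 1]
  rw [hL, hq0, hr0] at this
  simp at this

theorem exists_rank_one {k : Type u} [Field k] {B : Matrix (Fin 2) (Fin 2) k} (hB : B.det = 0)
    (hB0 : B ≠ 0) : ∃ v w : Fin 2 → k, v ≠ 0 ∧ w ≠ 0 ∧ ∀ a b, B a b = v a * w b := by
  rw [det_fin_two] at hB
  have hne : ∃ i j, B i j ≠ 0 := by
    by_contra h
    push_neg at h
    exact hB0 (Matrix.ext fun i j => h i j)
  obtain ⟨i, j, hij⟩ := hne
  refine ⟨fun a => B a j, fun b => B i b / B i j, fun h => hij (congrFun h i), fun h => ?_,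
    fun a b => ?_⟩
  · have := congrFun h j
    simp [hij] at this
  · have key : B a b * B i j = B a j * B i b := by
      fin_cases a <;> fin_cases b <;> fin_cases i <;> fin_cases j <;>
        simp at * <;> first | linear_combination hB | linear_combination -hB | ring
    field_simp
    linear_combination key

theorem exists_gl {k : Type u} [Field k] {v : Fin 2 → k} (hv : v ≠ 0) :
    ∃ g : GL (Fin 2) k, g.val 0 = v := by
  by_cases h : v 0 = 0
  · have h1 : v 1 ≠ 0 := fun h1 => hv (by funext i; fin_cases i <;> assumption)
    have hd : (!![v 0, v 1; 1, 0] : Matrix (Fin 2) (Fin 2) k).det ≠ 0 := by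
      simpa [det_fin_two] using h1
    refine ⟨GeneralLinearGroup.mkOfDetNeZero _ hd, ?_⟩
    funext i; fin_cases i <;> rfl
  · have hd : (!![v 0, v 1; 0, 1] : Matrix (Fin 2) (Fin 2) k).det ≠ 0 := by
      simpa [det_fin_two] using h
    refine ⟨GeneralLinearGroup.mkOfDetNeZero _ hd, ?_⟩
    funext i; fin_cases i <;> rfl


/-- Over an algebraically closed field k of characteristic zero, for a 2 × 2 matrix M of linear forms in
k[X_0, X_1, X_2] (entries homogeneous of degree 1, zero allowed), det M is a product of two linear
forms if and only if M can be brought by invertible scalar row and column operations g M h, with g,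
h in GL_2(k), to a matrix with zero upper-right entry. (The published statement concerns matrices
with nonzero determinant; this row also allows determinant zero, where both sides hold.) -/
theorem result (k : Type u) [Field k] [IsAlgClosed k] [CharZero k]
    (M : Matrix (Fin 2) (Fin 2) (MvPolynomial (Fin 3) k)) (hM : ∀ a b : Fin 2, (M a b).IsHomogeneous 1) :
    (∃ l₁ l₂ : MvPolynomial (Fin 3) k, l₁.IsHomogeneous 1 ∧ l₂.IsHomogeneous 1 ∧ M.det = l₁ * l₂) ↔
    ∃ g h : GL (Fin 2) k,
      ((MvPolynomial.C : k →+* MvPolynomial (Fin 3) k).mapMatrix g.val * M *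
        (MvPolynomial.C : k →+* MvPolynomial (Fin 3) k).mapMatrix h.val) 0 1 = 0 := by
  classical
  constructor
  · rintro ⟨l₁, l₂, hl₁, hl₂, hdet⟩
    let P : Matrix (Fin 2) (Fin 2) k →ₗ[k] MvPolynomial (Fin 3) k :=
      ∑ a : Fin 2, ∑ b : Fin 2,
        (Matrix.entryLinearMap k k a b).smulRight (M a b)
    have hP : ∀ B, P B = ∑ a : Fin 2, ∑ b : Fin 2, C (B a b) * M a b := fun B => by
      simp [P, MvPolynomial.smul_eq_C_mul]
    by_cases hex : ∃ B, B ≠ 0 ∧ B.det = 0 ∧ P B = 0
    · obtain ⟨B, hB0, hBd, hPB⟩ := hex
      obtain ⟨v, w, hv, hw, hvw⟩ := exists_rank_one hBd hB0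
      obtain ⟨g, hg⟩ := exists_gl hv
      obtain ⟨h', hh'⟩ := exists_gl hw
      have hu : IsUnit (h'.valᵀ * !![0, 1; 1, 0] : Matrix (Fin 2) (Fin 2) k) := by
        rw [Matrix.isUnit_iff_isUnit_det, det_mul, det_transpose]
        refine ((Matrix.isUnit_iff_isUnit_det _).1 h'.isUnit).mul ?_
        simp [det_fin_two]
      refine ⟨g, hu.unit, ?_⟩
      have hcol : ∀ b, (hu.unit : GL (Fin 2) k).val b 1 = w b := fun b => by
        rw [IsUnit.unit_spec, ← hh']
        simp [Matrix.mul_apply, Fin.sum_univ_two]
      rw [hP] at hPB
      simp only [hvw, Fin.sum_univ_two, map_mul] at hPB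
      simp only [Matrix.mul_apply, Fin.sum_univ_two, RingHom.mapMatrix_apply, Matrix.map_apply,
        hcol, hg]
      linear_combination hPB
    · exfalso
      push_neg at hex
      -- the space of linear forms
      let H := homogeneousSubmodule (Fin 3) k 1
      haveI : Module.Finite k (Submodule.span k (Set.range (X : Fin 3 → MvPolynomial (Fin 3) k))) :=
        Module.Finite.span_of_finite k (Set.finite_range _)
      have hH : Module.finrank k H ≤ 3 := by
        have hle : H ≤ Submodule.span k (Set.range (X : Fin 3 → MvPolynomial (Fin 3) k)) := by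
          rw [← homogeneousSubmodule_one_eq_span_X]
        refine le_trans (Submodule.finrank_mono hle) ?_
        exact (finrank_range_le_card _).trans (by simp)
      have hrange : LinearMap.range P ≤ H := by
        rintro _ ⟨B, rfl⟩
        rw [hP]
        refine Submodule.sum_mem _ fun a _ => Submodule.sum_mem _ fun b _ => ?_
        exact (hM a b).C_mul _
      haveI : FiniteDimensional k H := by
        have : H ≤ Submodule.span k (Set.range (X : Fin 3 → MvPolynomial (Fin 3) k)) := by
          rw [← homogeneousSubmodule_one_eq_span_X]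
        exact Submodule.finiteDimensional_of_le this
      have hrn := P.finrank_range_add_finrank_ker
      have h4 : Module.finrank k (Matrix (Fin 2) (Fin 2) k) = 4 := by
        rw [Module.finrank_matrix]; simp
      have hker : 1 ≤ Module.finrank k (LinearMap.ker P) := by
        have := Submodule.finrank_mono hrange
        omega
      obtain ⟨B, hBk, hB0⟩ := (Submodule.ne_bot_iff (LinearMap.ker P)).1 (fun h => by
        rw [h, finrank_bot] at hker; omega)
      rw [LinearMap.mem_ker] at hBk
      have hBd : B.det ≠ 0 := fun hd => hex B hB0 hd hBk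
      -- every kernel element is a multiple of B
      have hone : ∀ B', P B' = 0 → ∃ c : k, B' = c • B := by
        intro B' hB'
        let pol : Polynomial k := (B'.map Polynomial.C - (Polynomial.X : Polynomial k) •
          B.map Polynomial.C).det
        have hev : ∀ c, pol.eval c = (B' - c • B).det := fun c => by
          simp [pol, det_fin_two]
          ring
        have hdeg : pol.degree ≠ 0 := by
          intro h0
          have hc : pol.coeff 2 = B.det := by
            have hp : pol = Polynomial.C B'.det + Polynomial.C (B' 0 1 * B 1 0 + B 0 1 * B' 1 0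
                - B' 0 0 * B 1 1 - B 0 0 * B' 1 1) * Polynomial.X +
                Polynomial.C B.det * Polynomial.X ^ 2 := by
              simp only [pol, det_fin_two, Matrix.sub_apply, Matrix.map_apply, Matrix.smul_apply,
                smul_eq_mul, map_sub, map_add, map_mul]
              ring
            rw [hp]
            simp [Polynomial.coeff_C, Polynomial.coeff_X]
          rw [Polynomial.eq_C_of_degree_eq_zero h0, Polynomial.coeff_C] at hc
          simp at hc
          exact hBd hc.symm
        obtain ⟨c, hc⟩ := IsAlgClosed.exists_root pol hdeg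
        rw [Polynomial.IsRoot, hev] at hc
        refine ⟨c, sub_eq_zero.1 ?_⟩
        by_contra hne
        exact hex _ hne hc (by rw [map_sub, map_smul, hB', hBk, smul_zero, sub_zero])
      have hker1 : Module.finrank k (LinearMap.ker P) ≤ 1 := by
        refine finrank_le_one (⟨B, hBk⟩ : LinearMap.ker P) fun w => ?_
        obtain ⟨c, hc⟩ := hone w.1 w.2
        exact ⟨c, Subtype.ext hc.symm⟩
      have hrangeH : LinearMap.range P = H := by
        refine Submodule.eq_of_le_of_finrank_le hrange ?_
        omega
      -- trace zero matrix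
      set N : Matrix (Fin 2) (Fin 2) (MvPolynomial (Fin 3) k) := Bᵀ.map C * M with hN
      have htr : N 0 0 + N 1 1 = 0 := by
        rw [hP] at hBk
        simp only [Fin.sum_univ_two] at hBk
        simp only [hN, Matrix.mul_apply, Matrix.map_apply, Matrix.transpose_apply, Fin.sum_univ_two]
        linear_combination hBk
      have hNd : N.det = C B.det * M.det := by
        rw [hN, det_mul, ← RingHom.mapMatrix_apply, ← RingHom.map_det, det_transpose]
      have hN1 : ∀ a b, (N a b).IsHomogeneous 1 := fun a b => by
        simp only [hN, Matrix.mul_apply, Matrix.map_apply]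
        exact IsHomogeneous.sum _ _ _ fun c _ => (hM c b).C_mul _
      choose Λ hΛ using fun ab : Fin 2 × Fin 2 => eval_homog_one (hN1 ab.1 ab.2)
      let T : (Fin 3 → k) →ₗ[k] (Fin 3 → k) :=
        LinearMap.pi ![Λ (0, 0), Λ (0, 1), Λ (1, 0)]
      have hTinj : Function.Injective T := by
        rw [← LinearMap.ker_eq_bot, eq_bot_iff]
        intro x hx
        have h00 : eval x (N 0 0) = 0 := by rw [hΛ (0, 0)]; exact congrFun hx 0
        have h01 : eval x (N 0 1) = 0 := by rw [hΛ (0, 1)]; exact congrFun hx 1
        have h10 : eval x (N 1 0) = 0 := by rw [hΛ (1, 0)]; exact congrFun hx 2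
        have h11 : eval x (N 1 1) = 0 := by
          have := congrArg (eval x) htr
          rwa [map_add, h00, zero_add, map_zero] at this
        have hMx : ∀ a b, eval x (M a b) = 0 := by
          have hNx : N.map (eval x) = 0 := by
            ext a b
            fin_cases a <;> fin_cases b <;> simp [h00, h01, h10, h11]
          have h2 : Bᵀ * M.map (eval x) = 0 := by
            rw [← hNx, hN, Matrix.map_mul, Matrix.map_map]
            congr 1
            ext a b; simp
          have hu : IsUnit Bᵀ := by
            rw [Matrix.isUnit_iff_isUnit_det, det_transpose]; exact hBd.isUnit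
          have h3 : M.map (eval x) = 0 := by
            obtain ⟨U, hU⟩ := hu
            rw [← hU] at h2
            simpa using congrArg (fun A => (↑U⁻¹ : Matrix (Fin 2) (Fin 2) k) * A) h2
          exact fun a b => congrFun (congrFun h3 a) b
        rw [Submodule.mem_bot]
        funext i
        have hXi : (X i : MvPolynomial (Fin 3) k) ∈ LinearMap.range P := by
          rw [hrangeH]; exact isHomogeneous_X k i
        obtain ⟨D, hD⟩ := hXi
        have := congrArg (eval x) hD
        rw [hP] at this
        simpa [hMx] using this.symm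
      let Te := LinearEquiv.ofBijective T ⟨hTinj, LinearMap.injective_iff_surjective.1 hTinj⟩
      obtain ⟨L1, hL1⟩ := eval_homog_one hl₁
      obtain ⟨L2, hL2⟩ := eval_homog_one hl₂
      refine no_plane ((-B.det) • (L1 ∘ₗ Te.symm.toLinearMap)) (L2 ∘ₗ Te.symm.toLinearMap) fun y => ?_
      have e := congrArg (eval (Te.symm y)) hNd
      rw [det_fin_two, eq_neg_of_add_eq_zero_right htr, hdet] at e
      simp only [map_sub, map_mul, map_neg, eval_C, hL1, hL2, hΛ (0, 0), hΛ (0, 1), hΛ (1, 0)] at e
      have hy : T (Te.symm y) = y := Te.apply_symm_apply y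
      have y0 : Λ (0, 0) (Te.symm y) = y 0 := congrFun hy 0
      have y1 : Λ (0, 1) (Te.symm y) = y 1 := congrFun hy 1
      have y2 : Λ (1, 0) (Te.symm y) = y 2 := congrFun hy 2
      rw [y0, y1, y2] at e
      simp only [LinearMap.smul_apply, LinearMap.comp_apply, LinearEquiv.coe_coe, smul_eq_mul]
      linear_combination -e
  · rintro ⟨g, h, h01⟩
    set A := (C : k →+* MvPolynomial (Fin 3) k).mapMatrix g.val * M *
        (C : k →+* MvPolynomial (Fin 3) k).mapMatrix h.val with hA
    have hAd : A.det = C (g.val.det * h.val.det) * M.det := by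
      rw [hA, det_mul, det_mul, ← RingHom.map_det, ← RingHom.map_det, map_mul]; ring
    have hgh : g.val.det * h.val.det ≠ 0 :=
      mul_ne_zero ((Matrix.isUnit_iff_isUnit_det _).1 g.isUnit).ne_zero
        ((Matrix.isUnit_iff_isUnit_det _).1 h.isUnit).ne_zero
    have hA1 : ∀ a b, (A a b).IsHomogeneous 1 := fun a b => by
      simp only [hA, Matrix.mul_apply, RingHom.mapMatrix_apply, Matrix.map_apply]
      refine IsHomogeneous.sum _ _ _ fun c _ => ?_
      rw [mul_comm]
      refine IsHomogeneous.C_mul (IsHomogeneous.sum _ _ _ fun d _ => (hM d c).C_mul _) _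
    refine ⟨C (g.val.det * h.val.det)⁻¹ * A 0 0, A 1 1, (hA1 0 0).C_mul _, hA1 1 1, ?_⟩
    rw [det_fin_two A, h01, zero_mul, sub_zero] at hAd
    rw [mul_assoc, hAd, ← mul_assoc, ← map_mul, inv_mul_cancel₀ hgh, map_one, one_mul]

end Groth.Agent.S13912
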