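import Groth.Statements.S13913
import Mathlib.RingTheory.MvPolynomial.EulerIdentity
import Mathlib.Tactic


set_option autoImplicit false
universe u
open PlaneCubic

namespace Groth.Agent.S13913

open MvPolynomial


/-- Over an algebraically closed field of characteristic zero, for linearly independent linear forms z₁,
z₂ and quadratic forms q₁, q₂ in three variables and a nonzero common zero p of z₁ and z₂, the point
p is a singular point of the plane cubic z₁q₂ − z₂q₁ = 0 (all three partial derivatives vanish at p)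
if and only if q₁ and q₂ both vanish at p. -/
theorem result (k : Type u) [Field k] [IsAlgClosed k] [CharZero k]
    (z₁ z₂ q₁ q₂ : MvPolynomial (Fin 3) k) (hz₁ : z₁.IsHomogeneous 1) (hz₂ : z₂.IsHomogeneous 1)
    (hq₁ : q₁.IsHomogeneous 2) (hq₂ : q₂.IsHomogeneous 2) (hind : LinearIndependent k ![z₁, z₂])
    (p : Fin 3 → k) (hp : p ≠ 0) (hp₁ : MvPolynomial.eval p z₁ = 0) (hp₂ : MvPolynomial.eval p z₂ = 0) :
    (∀ i : Fin 3, MvPolynomial.eval p (MvPolynomial.pderiv i (z₁ * q₂ - z₂ * q₁)) = 0) ↔
      (MvPolynomial.eval p q₁ = 0 ∧ MvPolynomial.eval p q₂ = 0) := by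
  constructor
  · intro h
    have key : ∀ i : Fin 3, eval p (pderiv i z₁) * eval p q₂ - eval p (pderiv i z₂) * eval p q₁ = 0 :=
      fun i => by
        have := h i
        simp [pderiv_mul, hp₁, hp₂] at this
        linear_combination this
    have rep : ∀ z : MvPolynomial (Fin 3) k, z.IsHomogeneous 1 →
        z = ∑ i, C (eval p (pderiv i z)) * X i := fun z hz => by
      conv_lhs => rw [← show ∑ i, X i * pderiv i z = z by simpa using hz.sum_X_mul_pderiv]
      refine Finset.sum_congr rfl fun i _ => ?_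
      have hd : (pderiv i z).IsHomogeneous 0 := hz.pderiv
      obtain ⟨c, hc⟩ : ∃ c, pderiv i z = C c :=
        ⟨_, totalDegree_eq_zero_iff_eq_C.mp (Nat.le_zero.mp hd.totalDegree_le)⟩
      rw [hc, eval_C, mul_comm]
    have hz : eval p q₂ • z₁ + (-eval p q₁) • z₂ = 0 := by
      rw [rep z₁ hz₁, rep z₂ hz₂, Finset.smul_sum, Finset.smul_sum, ← Finset.sum_add_distrib]
      refine Finset.sum_eq_zero fun i _ => ?_
      rw [smul_eq_C_mul, smul_eq_C_mul, ← mul_assoc, ← mul_assoc, ← C_mul, ← C_mul, ← add_mul, ← C_add,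
        show eval p q₂ * eval p (pderiv i z₁) + -eval p q₁ * eval p (pderiv i z₂) = 0 by
          linear_combination key i]
      simp
    obtain ⟨a, b⟩ := LinearIndependent.pair_iff.mp hind _ _ hz
    exact ⟨by simpa using b, a⟩
  · rintro ⟨h1, h2⟩ i
    simp [pderiv_mul, hp₁, hp₂, h1, h2]

end Groth.Agent.S13913
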