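import Groth.Statements.S13914


set_option autoImplicit false
universe u
open PlaneConic

namespace Groth.Agent.S13914

/-- Over an algebraically closed field of characteristic zero, an invertible 3 × 3 matrix g, acting on
row vectors and so on the projective plane, fixes every point of the line u_0 = 0 if and only if g
is a nonzero scalar multiple of a matrix with rows (α, β, γ), (0, 1, 0), (0, 0, 1). -/
theorem result (k : Type u) [Field k] [IsAlgClosed k] [CharZero k]
    (g : Matrix (Fin 3) (Fin 3) k) (hg : IsUnit g.det) :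
    (∀ v : Fin 3 → k, v 0 = 0 → ∃ c : k, Matrix.vecMul v g = c • v) ↔
      ∃ c α β γ : k, c ≠ 0 ∧ g = c • !![α, β, γ; 0, 1, 0; 0, 0, 1] := by
  constructor
  · intro h
    obtain ⟨c1, e1⟩ := h ![0, 1, 0] (by simp)
    obtain ⟨c2, e2⟩ := h ![0, 0, 1] (by simp)
    obtain ⟨c3, e3⟩ := h ![0, 1, 1] (by simp)
    have a0 := congrFun e1 0
    have a1 := congrFun e1 1
    have a2 := congrFun e1 2
    have b0 := congrFun e2 0
    have b1 := congrFun e2 1
    have b2 := congrFun e2 2
    have d1 := congrFun e3 1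
    have d2 := congrFun e3 2
    simp [Matrix.vecMul, dotProduct, Fin.sum_univ_three] at a0 a1 a2 b0 b1 b2 d1 d2
    have h12 : c1 = c2 := by
      rw [a1, b1, add_zero] at d1
      rw [a2, b2, zero_add] at d2
      rw [d1, d2]
    have hc : c1 ≠ 0 := fun hc => by
      apply hg.ne_zero
      refine Matrix.det_eq_zero_of_row_eq_zero 1 fun j => ?_
      fin_cases j <;> simp [a0, a1, a2, hc]
    refine ⟨c1, g 0 0 / c1, g 0 1 / c1, g 0 2 / c1, hc, ?_⟩
    ext i j
    fin_cases i <;> fin_cases j <;>
      simp [mul_div_cancel₀ _ hc, a0, a1, a2, b0, b1, b2, ← h12]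
  · rintro ⟨c, α, β, γ, -, rfl⟩ v hv
    refine ⟨c, ?_⟩
    ext j
    fin_cases j <;> simp [Matrix.vecMul, dotProduct, Fin.sum_univ_three, hv] <;> ring

end Groth.Agent.S13914
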