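import Groth.Statements.S13916
import Mathlib.Algebra.MvPolynomial.Funext
import Mathlib.Tactic


set_option autoImplicit false
universe u
open PlaneConic

namespace Groth.Agent.S13916

open MvPolynomial


/-- Over an algebraically closed field k of characteristic zero, with u_0, u_1, u_2 the coordinate
linear forms of k[X_0, X_1, X_2] and 2 × 2 matrices of linear forms compared up to M ↦ g M h with g,
h invertible scalar matrices: (1) the matrices with rows (u_1, 0), (u_0, u_2) and (u_2, 0), (u_0,
u_1) are not equivalent; (2) for α ≠ 0 the matrix with rows (u_1, 0), (αu_0 + βu_1 + γu_2, u_2) is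
equivalent to the one with rows (u_1, 0), (u_0, u_2). -/
theorem result (k : Type u) [Field k] [IsAlgClosed k] [CharZero k] :
    (¬ ∃ g h : GL (Fin 2) k,
      (MvPolynomial.C : k →+* MvPolynomial (Fin 3) k).mapMatrix g.val *
          !![MvPolynomial.X 1, 0; MvPolynomial.X 0, MvPolynomial.X 2] *
        (MvPolynomial.C : k →+* MvPolynomial (Fin 3) k).mapMatrix h.val =
      !![MvPolynomial.X 2, 0; MvPolynomial.X 0, MvPolynomial.X 1]) ∧
    (∀ α β γ : k, α ≠ 0 → ∃ g h : GL (Fin 2) k,
      (MvPolynomial.C : k →+* MvPolynomial (Fin 3) k).mapMatrix g.val *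
          !![MvPolynomial.X 1, 0;
             MvPolynomial.C α * MvPolynomial.X 0 + MvPolynomial.C β * MvPolynomial.X 1 + MvPolynomial.C γ * MvPolynomial.X 2,
             MvPolynomial.X 2] *
        (MvPolynomial.C : k →+* MvPolynomial (Fin 3) k).mapMatrix h.val =
      !![MvPolynomial.X 1, 0; MvPolynomial.X 0, MvPolynomial.X 2]) := by
  constructor
  · rintro ⟨g, h, e⟩
    have ev : ∀ (v : Fin 3 → k) (i j : Fin 2),
        g.val i 0 * (v 1 * h.val 0 j) + g.val i 1 * (v 0 * h.val 0 j + v 2 * h.val 1 j) =
          !![v 2, 0; v 0, v 1] i j := by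
      intro v i j
      have := congrArg (fun M : Matrix (Fin 2) (Fin 2) (MvPolynomial (Fin 3) k) => eval v (M i j)) e
      fin_cases i <;> fin_cases j <;>
        simp [Matrix.mul_apply, Fin.sum_univ_two] at this ⊢ <;> linear_combination this
    have hg := g.isUnit.map Matrix.detMonoidHom
    have hh := h.isUnit.map Matrix.detMonoidHom
    simp [Matrix.det_fin_two] at hg hh
    -- coefficient of the second variable in the second row and of the first in the first row
    have a00 := ev ![1, 0, 0] 0 0
    have a01 := ev ![1, 0, 0] 0 1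
    have b00 := ev ![0, 1, 0] 0 0
    have b11 := ev ![0, 1, 0] 1 1
    have c00 := ev ![0, 0, 1] 0 0
    have c01 := ev ![0, 0, 1] 0 1
    simp at a00 a01 b00 b11 c00 c01
    grind
  · intro α β γ hα
    refine ⟨⟨!![α, 0; -β, 1], !![α⁻¹, 0; β / α, 1], ?_, ?_⟩,
      ⟨!![α⁻¹, 0; -γ / α, 1], !![α, 0; γ, 1], ?_, ?_⟩, ?_⟩
    · ext i j; fin_cases i <;> fin_cases j <;> simp [Matrix.mul_apply, Fin.sum_univ_two] <;> field_simp <;> ring
    · ext i j; fin_cases i <;> fin_cases j <;> simp [Matrix.mul_apply, Fin.sum_univ_two] <;> field_simp <;> ring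
    · ext i j; fin_cases i <;> fin_cases j <;> simp [Matrix.mul_apply, Fin.sum_univ_two] <;> field_simp <;> ring
    · ext i j; fin_cases i <;> fin_cases j <;> simp [Matrix.mul_apply, Fin.sum_univ_two] <;> field_simp <;> ring
    refine Matrix.ext fun i j => MvPolynomial.funext (R := k) fun v => ?_
    fin_cases i <;> fin_cases j <;> simp [Matrix.mul_apply, Fin.sum_univ_two] <;> field_simp <;> ring

end Groth.Agent.S13916
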