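import Groth.Statements.S13918
import Groth.Agent.RamP1Lib.ThreePoints

set_option autoImplicit false
universe u
open W4c1limliniiii

namespace Groth.Agent.S13918

open Polynomial in
/-- Over an algebraically closed field of characteristic p (zero allowed), fix three distinct points of
the affine line, an integer d and ramification indices e_i with 2 ≤ e_i ≤ d, each e_i prime to p,
and ∑ (e_i − 1) = 2d − 2. Then there is at most one separable self-map of the projective line of
degree d, taken up to automorphisms of the target, with ramification index exactly e_i at the i-th
point — such maps being encoded as base-point-free separable pencils of polynomials of degree at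
most d — and there is none precisely when some two-dimensional space of polynomials of degree at
most d with identically vanishing Wronskian contains, for each i, a non-zero member vanishing to
order at least e_i at the i-th point (an inseparable pencil, base points allowed, with at least the
required ramification). (The three points are taken on the affine line, which is no restriction up
to a change of coordinate; the assertion that the solution, when it exists, is a reduced point of
the parameter scheme is not restated.) -/
theorem result (k : Type u) [Field k] [IsAlgClosed k]
    (p : ℕ) [CharP k p] (d : ℕ) (P : Fin 3 → k) (hP : Function.Injective P)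
    (e : Fin 3 → ℕ) (he : W4c1limliniiii.Admissible p d e) :
    (W4c1limliniiii.ramMaps d P e).Subsingleton ∧
      (W4c1limliniiii.ramMaps d P e = ∅ ↔
        ∃ V : Submodule k k[X], V ≤ Polynomial.degreeLE k d ∧ Module.finrank k V = 2 ∧
          ¬ W4c1limliniiii.IsSeparable V ∧
          ∀ i, ∃ s ∈ V, s ≠ 0 ∧ e i ≤ Polynomial.rootMultiplicity (P i) s) := by
  constructor
  · intro V hV W hW
    exact (Groth.Agent.RamP1.eq_of_mem_ramMaps hP he hV hW.1.1 hW.1.2.1
      fun i => (hW.2.2 i).1).symm
  constructor
  · intro hempty
    obtain ⟨v, hv, hv0⟩ := Groth.Agent.RamP1.exists_ne_zero (P := P) he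
    obtain ⟨hle, h2, hex⟩ := Groth.Agent.RamP1.span_props hP he hv hv0
    refine ⟨_, hle, h2, fun hsep => ?_, hex⟩
    have := Groth.Agent.RamP1.mem_ramMaps_of_triple hP he hv hv0
      ((Groth.Agent.RamP1.isSeparable_span_iff _ _).1 hsep)
    rw [hempty] at this
    exact this
  · rintro ⟨V, hle, h2, hins, hex⟩
    by_contra hne
    obtain ⟨W, hW⟩ := Set.nonempty_iff_ne_empty.2 hne
    exact hins (Groth.Agent.RamP1.eq_of_mem_ramMaps hP he hW hle h2 hex ▸ hW.2.1)

end Groth.Agent.S13918
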