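import Groth.Statements.S13919
import Groth.Agent.RamP1Lib.ThreePoints

set_option autoImplicit false
universe u
open W4c1limliniiii

namespace Groth.Agent.S13919
open Groth.Agent.RamP1 in
open Polynomial in
lemma exists_inseparable {k : Type u} [Field k] (p : ℕ) [CharP k p] (hp : p ≠ 0) (d : ℕ)
    (P : Fin 3 → k) (e : Fin 3 → ℕ) (he : W4c1limliniiii.Admissible p d e)
    (h0 : e 0 < p) (h1 : e 1 < p) (hd : p ≤ d) :
    ∃ V : Submodule k k[X], V ≤ Polynomial.degreeLE k d ∧ Module.finrank k V = 2 ∧
      ¬ W4c1limliniiii.IsSeparable V ∧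
      ∀ i, ∃ s ∈ V, s ≠ 0 ∧ e i ≤ Polynomial.rootMultiplicity (P i) s := by
  haveI : Fact p.Prime := ⟨(CharP.char_is_prime_or_zero k p).resolve_right hp⟩
  set j := e 2 - p with hj
  set h : k[X] := (X - C (P 2)) ^ j with hh
  have h0' : h ≠ 0 := pow_ne_zero _ (X_sub_C_ne_zero _)
  have hjd : j + p ≤ d := by have := (he.1 2).2.1; omega
  have hW : wronskian (h * X ^ p) h = 0 := by
    rw [show wronskian (h * X ^ p) h = wronskian (h * X ^ p) (h * 1) by rw [mul_one],
      wronskian_mul_left]
    simp [wronskian, derivative_X_pow, CharP.cast_eq_zero]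
  have hind : LinearIndependent k ![h, h * X ^ p] := by
    rw [LinearIndependent.pair_iff' h0']
    intro c hc
    rw [smul_eq_C_mul, mul_comm] at hc
    have := congrArg natDegree (mul_left_cancel₀ h0' hc)
    simp at this
    exact hp this.symm
  refine ⟨Submodule.span k {h, h * X ^ p}, span_pair_le ?_ ?_, finrank_span_pair hind, ?_,
    fun i => ⟨h * (X - C (P i)) ^ p, ?_, mul_ne_zero h0' (pow_ne_zero _ (X_sub_C_ne_zero _)), ?_⟩⟩
  · rw [mem_degreeLE_iff, hh, natDegree_pow, natDegree_X_sub_C]; omega
  · rw [mem_degreeLE_iff, natDegree_mul h0' (pow_ne_zero _ X_ne_zero), hh, natDegree_pow,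
      natDegree_X_sub_C, natDegree_X_pow]
    omega
  · rw [isSeparable_span_iff, not_not, ← wronskian_neg_eq, hW, neg_zero]
  · rw [Submodule.mem_span_pair]
    refine ⟨-(P i ^ p), 1, ?_⟩
    rw [sub_pow_char, ← C_pow, one_smul, smul_eq_C_mul, map_neg]
    ring
  · rw [le_rootMultiplicity_iff (mul_ne_zero h0' (pow_ne_zero _ (X_sub_C_ne_zero _)))]
    fin_cases i
    · exact dvd_mul_of_dvd_right (pow_dvd_pow _ h0.le) _
    · exact dvd_mul_of_dvd_right (pow_dvd_pow _ h1.le) _
    · rw [hh]
      change (X - C (P 2)) ^ e 2 ∣ (X - C (P 2)) ^ j * (X - C (P 2)) ^ p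
      rw [← pow_add]
      exact pow_dvd_pow _ (by omega)

open Polynomial in
/-- Over an algebraically closed field of characteristic p (zero allowed), fix three distinct points of
the affine line and indices 2 ≤ e_i ≤ d prime to p with ∑ (e_i − 1) = 2d − 2, and encode self-maps
of the projective line up to automorphisms of the target as base-point-free separable pencils of
polynomials of degree at most d. If p is positive, the first two indices are less than p and p ≤ d,
then there is no separable degree-d self-map of the projective line with ramification index exactly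
e_i at the i-th point; if p = 0 or d < p there is exactly one up to automorphisms of the target.
(The first clause includes the case d = p; with it, when all e_i are less than p, the three-point
count is one map if p = 0 or p > d and none otherwise.) -/
theorem result (k : Type u) [Field k] [IsAlgClosed k]
    (p : ℕ) [CharP k p] (d : ℕ) (P : Fin 3 → k) (hP : Function.Injective P)
    (e : Fin 3 → ℕ) (he : W4c1limliniiii.Admissible p d e) :
    (p ≠ 0 → e 0 < p → e 1 < p → p ≤ d → W4c1limliniiii.ramMaps d P e = ∅) ∧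
      (p = 0 ∨ d < p → ∃ V : Submodule k k[X], W4c1limliniiii.ramMaps d P e = {V}) := by
  refine ⟨fun hp h0 h1 hd => ?_, fun hp => ?_⟩
  · obtain ⟨V, hle, h2, hins, hex⟩ := exists_inseparable p hp d P e he h0 h1 hd
    by_contra hne
    obtain ⟨W, hW⟩ := Set.nonempty_iff_ne_empty.2 hne
    exact hins (Groth.Agent.RamP1.eq_of_mem_ramMaps hP he hW hle h2 hex ▸ hW.2.1)
  · obtain ⟨v, hv, hv0⟩ := Groth.Agent.RamP1.exists_ne_zero (P := P) he
    obtain ⟨hle, h2, hex⟩ := Groth.Agent.RamP1.span_props hP he hv hv0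
    obtain ⟨h1, h2', -⟩ := Groth.Agent.RamP1.mem_triples.1 hv
    obtain ⟨n1, n2, -⟩ := Groth.Agent.RamP1.components_ne_zero hP he hv hv0
    have hW := Groth.Agent.RamP1.wronskian_ne_zero_of_indep hp (Groth.Agent.RamP1.mem_vanish.1 h1).1
      (Groth.Agent.RamP1.mem_vanish.1 h2').1
      (Groth.Agent.RamP1.indep_of_mem_two hP he (show (0 : Fin 3) ≠ 1 by decide) h1 h2' n1 n2)
    have hmem := Groth.Agent.RamP1.mem_ramMaps_of_triple hP he hv hv0 hW
    exact ⟨_, Set.eq_singleton_iff_unique_mem.2 ⟨hmem, fun V hV =>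
      Groth.Agent.RamP1.eq_of_mem_ramMaps hP he hmem hV.1.1 hV.1.2.1 fun i => (hV.2.2 i).1⟩⟩

end Groth.Agent.S13919
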