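import Groth.Statements.S13920
import Groth.Agent.RamP1Lib.Basic

set_option autoImplicit false
universe u
open W4c1limliniiii

namespace Groth.Agent.S13920
open Groth.Agent.RamP1 W4c1limliniiii in
open Polynomial in
lemma exists_pencil_basis {k : Type u} [Field k] {d E : ℕ} {V : Submodule k k[X]}
    (hV : IsPencil d V) (hE : HasRamIdxInf d V E) (hE0 : 0 < E) (hd : E ≤ d) :
    ∃ F G : k[X], V = Submodule.span k {F, G} ∧ F.natDegree = d ∧ G.natDegree + E = d ∧
      F ≠ 0 ∧ G ≠ 0 := by
  obtain ⟨-, h2, ⟨F, hF, hFd⟩, -⟩ := hV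
  obtain ⟨⟨G, hG, hG0, hGd⟩, hmin⟩ := hE
  have hF0 : F ≠ 0 := fun h => by subst h; simp at hFd; omega
  have hGE : G.natDegree + E = d := le_antisymm hGd (hmin G hG hG0)
  refine ⟨F, G, eq_span_pair h2 hF hG ((LinearIndependent.pair_iff' hF0).2 fun c hc => ?_),
    hFd, hGE, hF0, hG0⟩
  have hc0 : c ≠ 0 := fun h => hG0 (by rw [← hc, h, zero_smul])
  rw [← hc, smul_eq_C_mul, natDegree_C_mul hc0] at hGE
  omega

open Groth.Agent.RamP1 W4c1limliniiii in
open Polynomial in
lemma deform_mem {k : Type u} [Field k] [IsAlgClosed k] (p : ℕ) [Fact p.Prime] [CharP k p]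
    (d n : ℕ) (P : Fin n → k) (e : Fin n → ℕ) (E : ℕ)
    (he : Admissible p d (Fin.cons E e : Fin (n + 1) → ℕ)) (hlt : ∀ i, e i < p) (hE : p < E)
    (F G : k[X]) (hFd : F.natDegree = d) (hGd : G.natDegree + E = d) (hF0 : F ≠ 0) (hG0 : G ≠ 0)
    (hV : Submodule.span k {F, G} ∈ ramMaps d P e) (t : k) :
    Submodule.span k {F + C t * X ^ p * G, G} ∈ ramMaps d P e ∧
      HasRamIdxInf d (Submodule.span k {F + C t * X ^ p * G, G}) E ∧
      (F + C t * X ^ p * G).natDegree = d := by
  obtain ⟨hpen, hsep, hram⟩ := hV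
  set F' := F + C t * X ^ p * G with hF'
  have hlow : (C t * X ^ p * G).natDegree < d := by
    have h1 := natDegree_mul_le (p := C t * X ^ p) (q := G)
    have h2 := natDegree_mul_le (p := C t) (q := (X : k[X]) ^ p)
    rw [natDegree_C, natDegree_X_pow] at h2
    omega
  have hF'd : F'.natDegree = d := by
    rw [hF', natDegree_add_eq_left_of_natDegree_lt (by omega), hFd]
  have hW : wronskian F' G = wronskian F G := by
    rw [hF', wronskian_add_left]
    simp [wronskian, derivative_mul, derivative_X_pow, CharP.cast_eq_zero]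
    ring
  have hW0 : wronskian F G ≠ 0 := (isSeparable_span_iff F G).1 hsep
  have hbp : ∀ a, ∃ s ∈ Submodule.span k {F', G}, s.eval a ≠ 0 := fun a => by
    by_contra hall
    push Not at hall
    have h1 := hall F' (Submodule.subset_span (by simp))
    have h2 := hall G (Submodule.subset_span (by simp))
    obtain ⟨s, hs, hsa⟩ := hpen.2.2.2 a
    obtain ⟨x, y, rfl⟩ := Submodule.mem_span_pair.1 hs
    simp [hF', h2] at h1
    simp [h1, h2] at hsa
  have hind := indep_of_wronskian_ne_zero (F := F') (G := G) (by rw [hW]; exact hW0)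
  have h2 := finrank_span_pair hind
  refine ⟨⟨⟨span_pair_le (mem_degreeLE_iff.2 hF'd.le) (mem_degreeLE_iff.2 (by omega)), h2,
    ⟨F', Submodule.subset_span (by simp), hF'd⟩, hbp⟩,
    (isSeparable_span_iff _ _).2 (by rw [hW]; exact hW0), fun i => ?_⟩, ⟨?_, ?_⟩, hF'd⟩
  · have hei : e i ≠ 0 := by have := (he.1 i.succ).1; simp at this; omega
    have hek : ((e i : ℕ) : k) ≠ 0 := by
      rw [Ne, CharP.cast_eq_zero_iff k p]
      exact fun h => absurd (Nat.le_of_dvd (by omega) h) (not_le.2 (hlt i))
    obtain ⟨⟨s, hs, hs0, hsm⟩, hmax⟩ := hram i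
    obtain ⟨u, hu, hua⟩ := hpen.2.2.2 (P i)
    have hnd := not_dvd_wronskian_of_mem hs hs0 hu hua (le_antisymm (hmax s hs hs0) hsm) hek
    have hd := dvd_wronskian_of_mem hs hs0 hu hua ((le_rootMultiplicity_iff hs0).1 hsm)
    rw [← hW] at hnd hd
    refine hasRamIdx_of_not_dvd (hbp _) ?_ hnd
    obtain ⟨r, hr, hr0, hra⟩ := exists_mem_eval_eq_zero h2 (P i)
    refine ⟨r, hr, hr0, ?_⟩
    set m := rootMultiplicity (P i) r with hm
    have hm1 : 0 < m := (rootMultiplicity_pos hr0).2 hra
    obtain ⟨v, hv, hva⟩ := hbp (P i)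
    have hle : m ≤ e i := by
      by_contra hlt'
      push Not at hlt'
      exact hnd ((pow_dvd_pow _ (by omega)).trans
        (dvd_wronskian_of_mem hr hr0 hv hva (pow_rootMultiplicity_dvd r (P i))))
    have hmk : ((m : ℕ) : k) ≠ 0 := by
      rw [Ne, CharP.cast_eq_zero_iff k p]
      exact fun h => absurd (Nat.le_of_dvd hm1 h) (not_le.2 (lt_of_le_of_lt hle (hlt i)))
    have hnr := not_dvd_wronskian_of_mem hr hr0 hv hva hm.symm hmk
    by_contra hlt'
    exact hnr ((pow_dvd_pow _ (by omega)).trans hd)
  · exact ⟨G, Submodule.subset_span (by simp), hG0, hGd.le⟩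
  · intro s hs hs0
    obtain ⟨a, b, rfl⟩ := Submodule.mem_span_pair.1 hs
    by_cases ha : a = 0
    · subst ha
      rw [zero_smul, zero_add] at hs0 ⊢
      rw [smul_eq_C_mul, natDegree_C_mul (fun h => hs0 (by rw [h, zero_smul]))]
      omega
    · rw [natDegree_add_eq_left_of_natDegree_lt] <;>
        rw [smul_eq_C_mul a, natDegree_C_mul ha, hF'd]
      · omega
      · exact lt_of_le_of_lt (natDegree_smul_le b G) (by omega)

open Polynomial in
/-- Over an algebraically closed field of prime characteristic p, fix n points of the affine line with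
ramification indices e_i < p, and at infinity an index E with p < E and E prime to p, the datum (E,
e_1, …, e_n) being admissible for degree d (each index between 2 and d, ∑ (index − 1) = 2d − 2). If
one separable degree-d self-map of the projective line (up to automorphisms of the target, encoded
as a base-point-free separable pencil of polynomials of degree at most d) has ramification index
exactly e_i at the i-th point and exactly E at infinity, then infinitely many do: the set of such
pencils is empty or infinite. (The consequence for general points, that no such map exists, is not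
restated.) -/
theorem result
    (k : Type u) [Field k] [IsAlgClosed k] (p : ℕ) [Fact p.Prime] [CharP k p]
    (d n : ℕ) (P : Fin n → k) (e : Fin n → ℕ) (E : ℕ)
    (he : W4c1limliniiii.Admissible p d (Fin.cons E e : Fin (n + 1) → ℕ))
    (hlt : ∀ i, e i < p) (hE : p < E) :
    {V : Submodule k k[X] | V ∈ W4c1limliniiii.ramMaps d P e ∧ W4c1limliniiii.HasRamIdxInf d V E} = ∅ ∨
      {V : Submodule k k[X] | V ∈ W4c1limliniiii.ramMaps d P e ∧
        W4c1limliniiii.HasRamIdxInf d V E}.Infinite := by
  rcases Set.eq_empty_or_nonempty {V : Submodule k k[X] |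
      V ∈ W4c1limliniiii.ramMaps d P e ∧ W4c1limliniiii.HasRamIdxInf d V E} with h | ⟨V, hV, hVinf⟩
  · exact Or.inl h
  right
  have hd : E ≤ d := by have := (he.1 0).2.1; simpa using this
  obtain ⟨F, G, rfl, hFd, hGd, hF0, hG0⟩ := exists_pencil_basis hV.1 hVinf (by omega) hd
  have hp2 := (Fact.out : p.Prime).two_le
  refine Set.infinite_of_injective_forall_mem
    (f := fun t : k => Submodule.span k {F + C t * X ^ p * G, G}) (fun t t' htt => ?_)
    fun t => ⟨(deform_mem p d n P e E he hlt hE F G hFd hGd hF0 hG0 hV t).1,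
      (deform_mem p d n P e E he hlt hE F G hFd hGd hF0 hG0 hV t).2.1⟩
  have hFt := (deform_mem p d n P e E he hlt hE F G hFd hGd hF0 hG0 hV t').2.2
  have hmem : F + C t * X ^ p * G ∈ Submodule.span k {F + C t' * X ^ p * G, G} :=
    (congrArg (fun S : Submodule k k[X] => F + C t * X ^ p * G ∈ S) htt).mp
      (Submodule.subset_span (by simp))
  obtain ⟨a, b, hab⟩ := Submodule.mem_span_pair.1 hmem
  have e1 : C (a - 1) * (F + C t' * X ^ p * G) = (C (t - t') * X ^ p - C b) * G := by
    simp only [smul_eq_C_mul] at hab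
    simp only [map_sub, map_one]
    linear_combination hab
  have ha : a = 1 := by
    by_contra ha
    have h := congrArg natDegree e1
    rw [natDegree_C_mul (sub_ne_zero.2 ha), hFt] at h
    have h' := natDegree_mul_le (p := C (t - t') * (X : k[X]) ^ p - C b) (q := G)
    have h'' := natDegree_sub_le (C (t - t') * (X : k[X]) ^ p) (C b)
    have h3 := natDegree_C_mul_X_pow_le (t - t') p
    rw [natDegree_C] at h''
    omega
  rw [ha, sub_self, map_zero, zero_mul, eq_comm, mul_eq_zero, or_iff_left hG0] at e1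
  have := congrArg (fun q : k[X] => q.coeff p) e1
  rw [coeff_sub, coeff_C_mul_X_pow, if_pos rfl, coeff_C, if_neg (Fact.out : p.Prime).ne_zero,
    sub_zero, coeff_zero] at this
  exact sub_eq_zero.1 this

end Groth.Agent.S13920
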