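import Groth.Statements.S13922
import Groth.Agent.RamP1Lib.GenericCount
-- import your own Groth.Agent.* helpers here

set_option autoImplicit false
universe u
open W4c1limliniiii

namespace Groth.Agent.S13922

section Flip

open Polynomial Groth.Agent.RamP1

variable {k : Type u} [Field k] [IsAlgClosed k] {p : ℕ} [Fact p.Prime] [CharP k p] {d d' n : ℕ}
  {e e' : Fin n → ℕ} {i j : Fin n} {P : Fin n → k}

omit [IsAlgClosed k] in
lemma derivative_pow_char (q : k[X]) : derivative (q ^ p) = 0 := by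
  rw [derivative_pow, CharP.cast_eq_zero k p, map_zero, zero_mul, zero_mul]

omit [IsAlgClosed k] in
lemma pow_dvd_pow_sub_C (a x : k) : (X - C a) ^ p ∣ (X - C x) ^ p - C ((a - x) ^ p) := by
  rw [map_pow, map_sub, ← sub_pow_char, sub_sub_sub_cancel_right]

/-- the pencils of a datum that separate the two chosen points -/
def SepMaps (d : ℕ) (P : Fin n → k) (e : Fin n → ℕ) (i j : Fin n) : Set (Submodule k k[X]) :=
  {V | V ∈ ramMaps d P e ∧ ∀ s ∈ V, s.IsRoot (P i) → s.IsRoot (P j) → s = 0}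

/-- a representation of a pencil by its members vanishing at the two points -/
noncomputable def mk (P : Fin n → k) (e : Fin n → ℕ) (i j : Fin n) (q : k[X] × k[X]) :
    Submodule k k[X] :=
  Submodule.span k {(X - C (P i)) ^ e i * q.1, (X - C (P j)) ^ e j * q.2}

omit [IsAlgClosed k] [Fact p.Prime] [CharP k p] in
lemma exists_rep (hei : 1 ≤ e i) (hej : 1 ≤ e j) {V : Submodule k k[X]} (hV : V ∈ SepMaps d P e i j) :
    ∃ q, V = mk P e i j q := by
  obtain ⟨⟨⟨-, h2, -, -⟩, -, hram⟩, hsep⟩ := hV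
  obtain ⟨F, hF, hF0, hFm⟩ := (hram i).1
  obtain ⟨G, hG, hG0, hGm⟩ := (hram j).1
  obtain ⟨F₁, rfl⟩ := (le_rootMultiplicity_iff hF0).1 hFm
  obtain ⟨G₁, rfl⟩ := (le_rootMultiplicity_iff hG0).1 hGm
  refine ⟨(F₁, G₁), eq_span_pair h2 hF hG (indep_of_eval (P j) (fun h => hF0 (hsep _ hF ?_ h)) hG0 ?_)⟩
  · simp [show e i ≠ 0 by omega]
  · simp [show e j ≠ 0 by omega]

omit [Fact p.Prime] [CharP k p] in
/-- properties of a representation -/
lemma rep_props (hei : 1 ≤ e i) (hej : 1 ≤ e j) {q : k[X] × k[X]}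
    (hV : mk P e i j q ∈ SepMaps d P e i j) :
    let F := (X - C (P i)) ^ e i * q.1
    let G := (X - C (P j)) ^ e j * q.2
    F ≠ 0 ∧ G ≠ 0 ∧ wronskian F G ≠ 0 ∧ IsCoprime F G ∧
      F.natDegree ≤ d ∧ G.natDegree ≤ d ∧ (F.natDegree = d ∨ G.natDegree = d) ∧
      q.1.eval (P i) ≠ 0 ∧ q.1.eval (P j) ≠ 0 ∧ q.2.eval (P i) ≠ 0 ∧ q.2.eval (P j) ≠ 0 := by
  intro F G
  obtain ⟨⟨⟨hle, h2, ⟨s, hs, hsd⟩, hbp⟩, hsep', hram⟩, hsep⟩ := hV
  have hW : wronskian F G ≠ 0 := (isSeparable_span_iff F G).1 hsep'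
  have hF : F ∈ mk P e i j q := Submodule.subset_span (by simp [F])
  have hG : G ∈ mk P e i j q := Submodule.subset_span (by simp [G])
  have hF0 : F ≠ 0 := fun h => hW (by rw [h, wronskian_zero_left])
  have hG0 : G ≠ 0 := fun h => hW (by rw [h, wronskian_zero_right])
  have hFi : F.IsRoot (P i) := by simp [F, show e i ≠ 0 by omega]
  have hGj : G.IsRoot (P j) := by simp [G, show e j ≠ 0 by omega]
  have hFd := mem_degreeLE_iff.1 (hle hF)
  have hGd := mem_degreeLE_iff.1 (hle hG)
  have hmul : ∀ (a : k) (m : ℕ) (r : k[X]), (X - C a) ^ m * r ≠ 0 →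
      rootMultiplicity a ((X - C a) ^ m * r) ≤ m → r.eval a ≠ 0 := by
    intro a m r h0 hm hr
    rw [rootMultiplicity_mul h0, rootMultiplicity_X_sub_C_pow] at hm
    have := (rootMultiplicity_pos (right_ne_zero_of_mul h0)).2 hr
    omega
  refine ⟨hF0, hG0, hW, isCoprime_of_pencil hbp, hFd, hGd, ?_,
    hmul _ _ _ hF0 ((hram i).2 F hF hF0), fun h => hF0 (hsep F hF hFi ?_),
    fun h => hG0 (hsep G hG ?_ hGj), hmul _ _ _ hG0 ((hram j).2 G hG hG0)⟩
  · by_contra h
    push Not at h
    obtain ⟨α, β, hαβ⟩ := Submodule.mem_span_pair.1 hs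
    have h1 : (α • F + β • G).natDegree ≤ max F.natDegree G.natDegree :=
      (natDegree_add_le _ _).trans (max_le_max (natDegree_smul_le _ _) (natDegree_smul_le _ _))
    rw [show α • F + β • G = s from hαβ, hsd] at h1
    omega
  · simp [F, h]
  · simp [G, h]

omit [Fact p.Prime] [CharP k p] in
lemma mk_eq_of_mk_eq (hei : 1 ≤ e i) (hej : 1 ≤ e j) {q r : k[X] × k[X]}
    (hV : mk P e i j q ∈ SepMaps d P e i j) (h : mk P e i j r = mk P e i j q) :
    mk P e' i j (r.2, r.1) = mk P e' i j (q.2, q.1) := by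
  obtain ⟨hF0, hG0, hW, hcop, -, -, -, h1, h2, h3, h4⟩ := rep_props hei hej hV
  obtain ⟨hr1, hr2, -, -, -, -, -, -, -, -, -⟩ := rep_props (d := d) hei hej (h ▸ hV : mk P e i j r ∈ _)
  have key : ∀ z : k[X], z ∈ mk P e i j q → z.IsRoot (P i) →
      ∃ t : k, z = t • ((X - C (P i)) ^ e i * q.1) := by
    intro z hz hzi
    obtain ⟨α, β, rfl⟩ := Submodule.mem_span_pair.1 hz
    refine ⟨α, ?_⟩
    have : β = 0 := by
      by_cases hij : P i = P j
      · exact absurd hW (fun hW => hG0 (hV.2 _ (Submodule.subset_span (by simp)) (by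
          simp [hij, show e j ≠ 0 by omega]) (by simp [show e j ≠ 0 by omega])))
      simp [show e i ≠ 0 by omega, h3, sub_eq_zero, hij] at hzi
      exact hzi
    simp [this]
  have key' : ∀ z : k[X], z ∈ mk P e i j q → z.IsRoot (P j) →
      ∃ t : k, z = t • ((X - C (P j)) ^ e j * q.2) := by
    intro z hz hzi
    obtain ⟨α, β, rfl⟩ := Submodule.mem_span_pair.1 hz
    refine ⟨β, ?_⟩
    have : α = 0 := by
      by_cases hij : P j = P i
      · exact absurd hW (fun hW => hF0 (hV.2 _ (Submodule.subset_span (by simp)) (by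
          simp [show e i ≠ 0 by omega]) (by simp [hij, show e i ≠ 0 by omega])))
      simp [show e j ≠ 0 by omega, h2, sub_eq_zero, hij] at hzi
      exact hzi
    simp [this]
  obtain ⟨t, ht⟩ := key ((X - C (P i)) ^ e i * r.1) (by rw [← h]; exact Submodule.subset_span (by simp))
    (by simp [show e i ≠ 0 by omega])
  obtain ⟨t', ht'⟩ := key' ((X - C (P j)) ^ e j * r.2) (by rw [← h]; exact Submodule.subset_span (by simp))
    (by simp [show e j ≠ 0 by omega])
  have ht0 : t ≠ 0 := fun h0 => hr1 (by rw [ht, h0, zero_smul])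
  have ht0' : t' ≠ 0 := fun h0 => hr2 (by rw [ht', h0, zero_smul])
  have e1 : r.1 = t • q.1 := mul_left_cancel₀ (pow_ne_zero _ (X_sub_C_ne_zero _))
    (by rw [ht, mul_smul_comm])
  have e2 : r.2 = t' • q.2 := mul_left_cancel₀ (pow_ne_zero _ (X_sub_C_ne_zero _))
    (by rw [ht', mul_smul_comm])
  simp only [mk, e1, e2, mul_smul_comm, Submodule.span_insert,
    Submodule.span_singleton_smul_eq ht0.isUnit, Submodule.span_singleton_smul_eq ht0'.isUnit]

/-- transfer of vanishing orders at a third point -/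
lemma transfer {a x y : k} (hx : a ≠ x) (hy : a ≠ y) {m : ℕ} (hm : m ≤ p) {F G F' G' : k[X]}
    {M : k[X]} (hMa : M.eval a ≠ 0) (hF : M * F' = (X - C x) ^ p * F) (hG : M * G' = (X - C y) ^ p * G)
    (α β : k) :
    (X - C a) ^ m ∣ C (α * ((a - x) ^ p)⁻¹) * F' + C (β * ((a - y) ^ p)⁻¹) * G' ↔
      (X - C a) ^ m ∣ C α * F + C β * G := by
  have hcop : IsCoprime ((X - C a) ^ m) M :=
    ((irreducible_X_sub_C a).coprime_iff_not_dvd.2 fun h => hMa (dvd_iff_isRoot.1 h)).pow_left
  have hx' : (C ((a - x) ^ p) : k[X]) * C ((a - x) ^ p)⁻¹ = 1 := by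
    rw [← map_mul, mul_inv_cancel₀ (pow_ne_zero _ (sub_ne_zero.2 hx)), map_one]
  have hy' : (C ((a - y) ^ p) : k[X]) * C ((a - y) ^ p)⁻¹ = 1 := by
    rw [← map_mul, mul_inv_cancel₀ (pow_ne_zero _ (sub_ne_zero.2 hy)), map_one]
  have hd : (X - C a) ^ m ∣
      M * (C (α * ((a - x) ^ p)⁻¹) * F' + C (β * ((a - y) ^ p)⁻¹) * G') - (C α * F + C β * G) := by
    have e1 : M * (C (α * ((a - x) ^ p)⁻¹) * F' + C (β * ((a - y) ^ p)⁻¹) * G') - (C α * F + C β * G)
        = ((X - C x) ^ p - C ((a - x) ^ p)) * (C α * C ((a - x) ^ p)⁻¹ * F) +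
          ((X - C y) ^ p - C ((a - y) ^ p)) * (C β * C ((a - y) ^ p)⁻¹ * G) := by
      rw [map_mul, map_mul]
      linear_combination (C α * C ((a - x) ^ p)⁻¹) * hF + (C β * C ((a - y) ^ p)⁻¹) * hG +
        (C α * F) * hx' + (C β * G) * hy'
    rw [e1]
    exact (pow_dvd_pow _ hm).trans (dvd_add (dvd_mul_of_dvd_left (pow_dvd_pow_sub_C a x) _)
      (dvd_mul_of_dvd_left (pow_dvd_pow_sub_C a y) _))
  rw [← dvd_iff_dvd_of_dvd_sub hd]
  exact ⟨fun h => dvd_mul_of_dvd_right h _, fun h => hcop.dvd_of_dvd_mul_left h⟩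

/-- the hypotheses of a flip -/
structure Hyp (p d d' : ℕ) (e e' : Fin n → ℕ) (i j : Fin n) : Prop where
  hij : i ≠ j
  hi : e i + e' i = p
  hj : e j + e' j = p
  ho : ∀ l, l ≠ i → l ≠ j → e' l = e l
  hd : d' + e i + e j = d + p
  one : ∀ l, 1 ≤ e l ∧ e l < p
  one' : ∀ l, 1 ≤ e' l ∧ e' l < p

lemma flip_mem (h : Hyp p d d' e e' i j) (hP : Function.Injective P) {q : k[X] × k[X]}
    (hV : mk P e i j q ∈ SepMaps d P e i j) : mk P e' i j (q.2, q.1) ∈ SepMaps d' P e' i j := by
  obtain ⟨hF0, hG0, hW, hcop, hFd, hGd, hdeg, h1, h2, h3, h4⟩ :=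
    rep_props (h.one i).1 (h.one j).1 hV
  obtain ⟨⟨⟨-, -, -, -⟩, -, hram⟩, -⟩ := hV
  obtain ⟨q₁, q₂⟩ := q
  simp only at hF0 hG0 hW hcop hFd hGd hdeg h1 h2 h3 h4 ⊢
  set A := (X - C (P i)) with hA
  set B := (X - C (P j)) with hB
  set F := A ^ e i * q₁ with hF
  set G := B ^ e j * q₂ with hG
  set F' := B ^ e' j * q₁ with hF'
  set G' := A ^ e' i * q₂ with hG'
  set M := A ^ e i * B ^ e j with hM
  have hPij : P i ≠ P j := hP.ne h.hij
  have hMF : M * F' = B ^ p * F := by rw [hM, hF', hF, ← h.hj, pow_add]; ring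
  have hMG : M * G' = A ^ p * G := by rw [hM, hG', hG, ← h.hi, pow_add]; ring
  have hq1 : q₁ ≠ 0 := right_ne_zero_of_mul hF0
  have hq2 : q₂ ≠ 0 := right_ne_zero_of_mul hG0
  have hF'0 : F' ≠ 0 := mul_ne_zero (pow_ne_zero _ (X_sub_C_ne_zero _)) hq1
  have hG'0 : G' ≠ 0 := mul_ne_zero (pow_ne_zero _ (X_sub_C_ne_zero _)) hq2
  have hFi : F'.eval (P i) ≠ 0 := by
    simp [hF', hB, h1, sub_ne_zero.2 hPij]
  have hGi : G.eval (P i) ≠ 0 := by
    simp [hG, hB, h3, sub_ne_zero.2 hPij]
  have hGj : G'.eval (P j) ≠ 0 := by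
    simp [hG', hA, h4, sub_ne_zero.2 hPij.symm]
  have hW' : wronskian F' G' ≠ 0 := by
    intro h0
    have e1 := wronskian_mul_left M F' G'
    rw [h0, mul_zero, hMF, hMG] at e1
    have e2 : wronskian (B ^ p * F) (A ^ p * G) = B ^ p * A ^ p * wronskian F G := by
      simp only [wronskian, derivative_mul, derivative_pow_char]; ring
    rw [e2] at e1
    exact mul_ne_zero (mul_ne_zero (pow_ne_zero _ (X_sub_C_ne_zero _))
      (pow_ne_zero _ (X_sub_C_ne_zero _))) hW e1
  have cop : ∀ (a : k) (r : k[X]), r.eval a ≠ 0 → IsCoprime (X - C a) r := fun a r hr =>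
    (irreducible_X_sub_C a).coprime_iff_not_dvd.2 fun hd => hr (dvd_iff_isRoot.1 hd)
  have hcop' : IsCoprime F' G' := by
    refine IsCoprime.mul_left (IsCoprime.pow_left ?_) (IsCoprime.mul_right
      (IsCoprime.pow_right (cop _ _ h1).symm) ?_)
    · exact cop _ _ hGj
    · exact (hcop.of_mul_left_right).of_mul_right_right
  have hdF : F.natDegree = e i + q₁.natDegree := by
    rw [hF, natDegree_mul (pow_ne_zero _ (X_sub_C_ne_zero _)) hq1, natDegree_pow, natDegree_X_sub_C, mul_one]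
  have hdG : G.natDegree = e j + q₂.natDegree := by
    rw [hG, natDegree_mul (pow_ne_zero _ (X_sub_C_ne_zero _)) hq2, natDegree_pow, natDegree_X_sub_C, mul_one]
  have hdF' : F'.natDegree = e' j + q₁.natDegree := by
    rw [hF', natDegree_mul (pow_ne_zero _ (X_sub_C_ne_zero _)) hq1, natDegree_pow, natDegree_X_sub_C, mul_one]
  have hdG' : G'.natDegree = e' i + q₂.natDegree := by
    rw [hG', natDegree_mul (pow_ne_zero _ (X_sub_C_ne_zero _)) hq2, natDegree_pow, natDegree_X_sub_C, mul_one]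
  have hei := h.hi
  have hej := h.hj
  have hdd := h.hd
  have hV' : mk P e' i j (q₂, q₁) = Submodule.span k {F', G'} := by
    rw [mk, Set.pair_comm]
  rw [hV']
  have hindep := indep_of_wronskian_ne_zero hW'
  have mF : F' ∈ Submodule.span k {F', G'} := Submodule.subset_span (by simp)
  have mG : G' ∈ Submodule.span k {F', G'} := Submodule.subset_span (by simp)
  refine ⟨⟨⟨span_pair_le (mem_degreeLE_iff.2 (by omega)) (mem_degreeLE_iff.2 (by omega)),
    finrank_span_pair hindep, ?_, fun a => ?_⟩, (isSeparable_span_iff _ _).2 hW', fun l => ?_⟩, ?_⟩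
  · rcases hdeg with hd0 | hd0
    · exact ⟨F', mF, by omega⟩
    · exact ⟨G', mG, by omega⟩
  · rcases eval_ne_zero_of_isCoprime hcop' a with ha | ha
    · exact ⟨F', mF, ha⟩
    · exact ⟨G', mG, ha⟩
  · -- ramification
    have hsimple : ∀ (a : k) (m : ℕ) (U W r : k[X]), 0 < m → U.eval a ≠ 0 → W = (X - C a) ^ m * r →
        r.eval a ≠ 0 → Submodule.span k {U, W} = Submodule.span k {F', G'} →
        HasRamIdx (Submodule.span k {F', G'}) a m := by
      intro a m U W r hm hU hWr hr hspan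
      have hr0 : r ≠ 0 := fun h => hr (by simp [h])
      have hW0 : W ≠ 0 := hWr ▸ mul_ne_zero (pow_ne_zero _ (X_sub_C_ne_zero a)) hr0
      have hWm : rootMultiplicity a W = m := by
        rw [hWr, rootMultiplicity_mul (hWr ▸ hW0), rootMultiplicity_X_sub_C_pow,
          rootMultiplicity_eq_zero (fun hh => hr hh), add_zero]
      rw [← hspan]
      refine ⟨⟨W, Submodule.subset_span (by simp), hW0, hWm.ge⟩, fun s hs hs0 => ?_⟩
      obtain ⟨α, β, rfl⟩ := Submodule.mem_span_pair.1 hs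
      rcases Nat.eq_zero_or_pos (rootMultiplicity a (α • U + β • W)) with h0 | h0
      · omega
      have hroot := (rootMultiplicity_pos hs0).1 h0
      have hWa : W.eval a = 0 := by simp [hWr, hm.ne']
      have hα : α = 0 := by
        have := hroot
        simp only [IsRoot.def, eval_add, eval_smul, hWa, smul_eq_mul, mul_zero, add_zero,
          mul_eq_zero, hU, or_false] at this
        exact this
      subst hα
      rw [zero_smul, zero_add] at hs0 ⊢
      rw [smul_eq_C_mul, rootMultiplicity_mul (by rwa [smul_eq_C_mul] at hs0), rootMultiplicity_C,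
        zero_add, hWm]
    rcases eq_or_ne l i with rfl | hli
    · exact hsimple _ _ F' G' q₂ (h.one' _).1 hFi hG' h3 rfl
    rcases eq_or_ne l j with rfl | hlj
    · exact hsimple _ _ G' F' q₁ (h.one' _).1 hGj hF' h2 (by rw [Set.pair_comm])
    rw [h.ho l hli hlj]
    have hlp := (h.one l).2
    have hx : P l ≠ P j := hP.ne hlj
    have hy : P l ≠ P i := hP.ne hli
    have hMl : M.eval (P l) ≠ 0 := by
      simp [hM, hA, hB, sub_ne_zero.2 hx, sub_ne_zero.2 hy]
    constructor
    · obtain ⟨s, hs, hs0, hm⟩ := (hram l).1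
      obtain ⟨α, β, rfl⟩ := Submodule.mem_span_pair.1 hs
      have hdv := (le_rootMultiplicity_iff hs0).1 hm
      simp only [smul_eq_C_mul] at hdv
      have := (transfer (p := p) hx hy hlp.le hMl hMF hMG α β).2 hdv
      refine ⟨_, Submodule.mem_span_pair.2 ⟨α * ((P l - P j) ^ p)⁻¹, β * ((P l - P i) ^ p)⁻¹, rfl⟩,
        ?_, ?_⟩
      · intro h0
        obtain ⟨ha, hb⟩ := LinearIndependent.pair_iff.1 hindep _ _ h0
        simp only [mul_eq_zero, inv_eq_zero, pow_eq_zero_iff', sub_eq_zero, hx, hy, false_and,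
          or_false] at ha hb
        exact hs0 (by simp [ha, hb])
      · rw [le_rootMultiplicity_iff, smul_eq_C_mul, smul_eq_C_mul]
        · exact this
        · intro h0
          obtain ⟨ha, hb⟩ := LinearIndependent.pair_iff.1 hindep _ _ h0
          simp only [mul_eq_zero, inv_eq_zero, pow_eq_zero_iff', sub_eq_zero, hx, hy, false_and,
            or_false] at ha hb
          exact hs0 (by simp [ha, hb])
    · intro s hs hs0
      by_contra hlt
      push Not at hlt
      obtain ⟨α, β, rfl⟩ := Submodule.mem_span_pair.1 hs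
      have hdv := (le_rootMultiplicity_iff hs0).1 (Nat.succ_le_of_lt hlt)
      set α₀ := α * (P l - P j) ^ p with hα₀
      set β₀ := β * (P l - P i) ^ p with hβ₀
      have ea : α = α₀ * ((P l - P j) ^ p)⁻¹ := by
        rw [hα₀, mul_assoc, mul_inv_cancel₀ (pow_ne_zero _ (sub_ne_zero.2 hx)), mul_one]
      have eb : β = β₀ * ((P l - P i) ^ p)⁻¹ := by
        rw [hβ₀, mul_assoc, mul_inv_cancel₀ (pow_ne_zero _ (sub_ne_zero.2 hy)), mul_one]
      rw [smul_eq_C_mul, smul_eq_C_mul, ea, eb] at hdv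
      have := (transfer (p := p) hx hy (Nat.succ_le_of_lt hlp) hMl hMF hMG α₀ β₀).1 hdv
      have hne : α₀ • F + β₀ • G ≠ 0 := fun h0 => by
        obtain ⟨ha, hb⟩ := LinearIndependent.pair_iff.1 (indep_of_wronskian_ne_zero hW) _ _ h0
        exact hs0 (by rw [ea, eb, ha, hb]; simp)
      have h2' := (hram l).2 (α₀ • F + β₀ • G) (Submodule.mem_span_pair.2 ⟨α₀, β₀, rfl⟩) hne
      have h3' := (le_rootMultiplicity_iff hne).2 (by rwa [smul_eq_C_mul, smul_eq_C_mul])
      omega
  · intro s hs hsi hsj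
    obtain ⟨α, β, rfl⟩ := Submodule.mem_span_pair.1 hs
    have hi0 : e' i ≠ 0 := by have := (h.one' i).1; omega
    have hj0 : e' j ≠ 0 := by have := (h.one' j).1; omega
    simp only [IsRoot.def, eval_add, eval_smul, smul_eq_mul] at hsi hsj
    have hG'i : G'.eval (P i) = 0 := by simp [hG', hA, hi0]
    have hF'j : F'.eval (P j) = 0 := by simp [hF', hB, hj0]
    rw [hG'i, mul_zero, add_zero, mul_eq_zero, or_iff_left hFi] at hsi
    rw [hF'j, mul_zero, zero_add, mul_eq_zero, or_iff_left hGj] at hsj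
    simp [hsi, hsj]

lemma Hyp.symm' (h : Hyp p d d' e e' i j) : Hyp p d' d e' e i j where
  hij := h.hij
  hi := by have := h.hi; omega
  hj := by have := h.hj; omega
  ho l hl hl' := (h.ho l hl hl').symm
  hd := by have := h.hd; have := h.hi; have := h.hj; omega
  one := h.one'
  one' := h.one

lemma card_sepMaps_eq (h : Hyp p d d' e e' i j) (hP : Function.Injective P) :
    Nonempty (SepMaps d P e i j ≃ SepMaps d' P e' i j) := by
  classical
  have h' := h.symm'
  choose r hr using fun V : SepMaps d P e i j => exists_rep (h.one i).1 (h.one j).1 V.2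
  choose r' hr' using fun V : SepMaps d' P e' i j => exists_rep (h'.one i).1 (h'.one j).1 V.2
  have m : ∀ V : SepMaps d P e i j, mk P e i j (r V) ∈ SepMaps d P e i j := fun V => hr V ▸ V.2
  have m' : ∀ V : SepMaps d' P e' i j, mk P e' i j (r' V) ∈ SepMaps d' P e' i j :=
    fun V => hr' V ▸ V.2
  refine ⟨⟨fun V => ⟨mk P e' i j ((r V).2, (r V).1), flip_mem h hP (m V)⟩,
    fun V => ⟨mk P e i j ((r' V).2, (r' V).1), flip_mem h' hP (m' V)⟩, fun V => ?_, fun V => ?_⟩⟩
  · refine Subtype.ext ?_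
    refine (mk_eq_of_mk_eq (e' := e) (h'.one i).1 (h'.one j).1 (flip_mem h hP (m V))
      (hr' ⟨_, flip_mem h hP (m V)⟩).symm).trans ?_
    exact (hr V).symm
  · refine Subtype.ext ?_
    refine (mk_eq_of_mk_eq (e' := e') (h.one i).1 (h.one j).1 (flip_mem h' hP (m' V))
      (hr ⟨_, flip_mem h' hP (m' V)⟩).symm).trans ?_
    exact (hr' V).symm

lemma hasGenericCount_of_hyp (h : Hyp p d d' e e' i j) (he : WAdm p d e) (he' : WAdm p d' e')
    (m : ℕ) (hm : HasGenericCount (k := k) d e m) : HasGenericCount (k := k) d' e' m := by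
  obtain ⟨Φ, hΦ, hcount⟩ := hm
  obtain ⟨Φ₁, hΦ₁, h₁⟩ := exists_generic_all (k := k) he
  obtain ⟨Φ₂, hΦ₂, h₂⟩ := exists_generic_all (k := k) he'
  refine ⟨Φ * Φ₁ * Φ₂, mul_ne_zero (mul_ne_zero hΦ hΦ₁) hΦ₂, fun P hP => ?_⟩
  rw [map_mul, map_mul, mul_ne_zero_iff, mul_ne_zero_iff] at hP
  obtain ⟨hinj, -, hs₁⟩ := h₁ P hP.1.2
  obtain ⟨-, hfin, hs₂⟩ := h₂ P hP.2
  have e₁ : SepMaps d P e i j = ramMaps d P e :=
    Set.ext fun V => ⟨fun hV => hV.1, fun hV => ⟨hV, fun s hs a b => hs₁ V hV i j h.hij s hs ⟨a, b⟩⟩⟩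
  have e₂ : SepMaps d' P e' i j = ramMaps d' P e' :=
    Set.ext fun V => ⟨fun hV => hV.1, fun hV => ⟨hV, fun s hs a b => hs₂ V hV i j h.hij s hs ⟨a, b⟩⟩⟩
  obtain ⟨E⟩ := card_sepMaps_eq h hinj
  refine ⟨hfin, ?_⟩
  rw [← (hcount P hP.1.1).2, ← e₁, ← e₂]
  exact Nat.card_congr E.symm

end Flip

open Polynomial in
/-- Over an algebraically closed field of prime characteristic p, let (d; e_1, …, e_n) be admissible
ramification data (2 ≤ e_i ≤ d, ∑ (e_i − 1) = 2d − 2) with every e_i < p, and for two distinct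
indices i ≠ j replace e_i, e_j by p − e_i, p − e_j and d by d + p − e_i − e_j. Then the number of
separable self-maps of the projective line with the prescribed ramification at general points, up to
automorphisms of the target (counted as base-point-free separable pencils of polynomials, for
configurations of points of the affine line off the zero set of a non-zero polynomial), is the same
for the two data: a number is the general count for one if and only if it is the general count for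
the other. -/
theorem result (k : Type u) [Field k] [IsAlgClosed k]
    (p : ℕ) [Fact p.Prime] [CharP k p] (d n : ℕ) (e : Fin n → ℕ)
    (he : W4c1limliniiii.Admissible p d e) (hlt : ∀ l, e l < p) (i j : Fin n) (hij : i ≠ j)
    (m : ℕ) :
    W4c1limliniiii.HasGenericCount (k := k) d e m ↔
      W4c1limliniiii.HasGenericCount (k := k) (d + p - e i - e j)
        (Function.update (Function.update e i (p - e i)) j (p - e j)) m := by
  classical
  set e' := Function.update (Function.update e i (p - e i)) j (p - e j) with he'def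
  have hi : e' i = p - e i := by simp [e', hij]
  have hj : e' j = p - e j := by simp [e']
  have ho : ∀ l, l ≠ i → l ≠ j → e' l = e l := fun l h1 h2 => by simp [e', h1, h2]
  have hi1 := he.1 i
  have hj1 := he.1 j
  have hlti := hlt i
  have hltj := hlt j
  have one : ∀ l, 1 ≤ e l ∧ e l < p := fun l => ⟨by have := (he.1 l).1; omega, hlt l⟩
  have one' : ∀ l, 1 ≤ e' l ∧ e' l < p := fun l => by
    rcases eq_or_ne l i with rfl | h1
    · omega
    rcases eq_or_ne l j with rfl | h2
    · omega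
    rw [ho l h1 h2]; exact one l
  have h : Hyp p d (d + p - e i - e j) e e' i j :=
    ⟨hij, by omega, by omega, ho, by omega, one, one'⟩
  have hw' : Groth.Agent.RamP1.WAdm p (d + p - e i - e j) e' := by
    refine ⟨fun l => ⟨(one' l).1, fun hd => ?_⟩, ?_⟩
    · have := Nat.le_of_dvd (one' l).1 hd
      have := (one' l).2
      omega
    · have hsum := he.2
      rw [← Finset.add_sum_erase _ e (Finset.mem_univ i),
        ← Finset.add_sum_erase _ e (Finset.mem_erase.2 ⟨hij.symm, Finset.mem_univ j⟩)] at hsum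
      have hEq : (∑ l ∈ (Finset.univ.erase i).erase j, e' l) = ∑ l ∈ (Finset.univ.erase i).erase j, e l :=
        Finset.sum_congr rfl fun l hl => ho l (Finset.mem_erase.1 (Finset.mem_erase.1 hl).2).1
          (Finset.mem_erase.1 hl).1
      rw [← Finset.add_sum_erase _ e' (Finset.mem_univ i),
        ← Finset.add_sum_erase _ e' (Finset.mem_erase.2 ⟨hij.symm, Finset.mem_univ j⟩), hi, hj, hEq]
      omega
  exact ⟨hasGenericCount_of_hyp h (Groth.Agent.RamP1.weak_of_admissible he) hw' m,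
    hasGenericCount_of_hyp h.symm' hw' (Groth.Agent.RamP1.weak_of_admissible he) m⟩

end Groth.Agent.S13922
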