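import Groth.Statements.S13923
import Groth.Agent.RamP1Lib.FourPoints
import Groth.Agent.S13922
-- import your own Groth.Agent.* helpers here

set_option autoImplicit false
universe u
open W4c1limliniiii

namespace Groth.Agent.S13923

section Aux

open Polynomial Groth.Agent.RamP1

variable {k : Type u} [Field k] {p : ℕ} {d : ℕ}

lemma hasGenericCount_of_perm {n : ℕ} {e : Fin n → ℕ} (σ : Equiv.Perm (Fin n)) {m : ℕ}
    (h : HasGenericCount (k := k) d (e ∘ σ) m) : HasGenericCount (k := k) d e m := by
  obtain ⟨Φ, hΦ, hP⟩ := h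
  refine ⟨MvPolynomial.rename σ Φ, fun h0 => hΦ (MvPolynomial.rename_injective σ σ.injective
    (by rw [h0, map_zero])), fun P hne => ?_⟩
  rw [MvPolynomial.eval_rename] at hne
  have hset : ramMaps d P e = ramMaps d (P ∘ σ) (e ∘ σ) := by
    ext V
    exact ⟨fun hV => ⟨hV.1, hV.2.1, fun i => hV.2.2 (σ i)⟩, fun hV => ⟨hV.1, hV.2.1, fun i => by
      have := hV.2.2 (σ.symm i)
      simp only [Function.comp_apply, Equiv.apply_symm_apply] at this
      exact this⟩⟩
  rw [hset]
  exact hP _ hne

/-- decreasing order -/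
lemma exists_sort (e : Fin 4 → ℕ) : ∃ σ : Equiv.Perm (Fin 4),
    e (σ 1) ≤ e (σ 0) ∧ e (σ 2) ≤ e (σ 1) ∧ e (σ 3) ≤ e (σ 2) := by
  refine ⟨Fin.revPerm.trans (Tuple.sort e), ?_, ?_, ?_⟩ <;>
  · refine Tuple.monotone_sort e ?_
    decide

lemma inf'_eq_of_sorted (d : ℕ) (f : Fin 4 → ℕ) (h01 : f 1 ≤ f 0) (h12 : f 2 ≤ f 1)
    (h23 : f 3 ≤ f 2) :
    Finset.univ.inf' Finset.univ_nonempty (fun i => min (f i) (d + 1 - f i)) =
      min (f 3) (d + 1 - f 0) := by
  refine le_antisymm (le_min ?_ ?_) (Finset.le_inf' _ _ fun i _ => ?_)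
  · exact (Finset.inf'_le _ (Finset.mem_univ 3)).trans (min_le_left _ _)
  · exact (Finset.inf'_le _ (Finset.mem_univ 0)).trans (min_le_right _ _)
  · fin_cases i <;> simp <;> omega

lemma inf'_perm (d : ℕ) (e : Fin 4 → ℕ) (σ : Equiv.Perm (Fin 4)) :
    Finset.univ.inf' Finset.univ_nonempty (fun i => min (e i) (d + 1 - e i)) =
      Finset.univ.inf' Finset.univ_nonempty (fun i => min ((e ∘ σ) i) (d + 1 - (e ∘ σ) i)) := by
  refine le_antisymm (Finset.le_inf' _ _ fun i _ => ?_) (Finset.le_inf' _ _ fun i _ => ?_)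
  · exact Finset.inf'_le (fun i => min (e i) (d + 1 - e i)) (Finset.mem_univ (σ i))
  · exact (Finset.inf'_le (fun i => min ((e ∘ σ) i) (d + 1 - (e ∘ σ) i))
      (Finset.mem_univ (σ.symm i))).trans_eq
      (by simp only [Function.comp_apply, Equiv.apply_symm_apply])

variable [IsAlgClosed k] [CharP k p]

lemma count_small (hp : p = 0 ∨ d < p) {e : Fin 4 → ℕ} (he : WAdm p d e) :
    HasGenericCount (k := k) d e
      (Finset.univ.inf' Finset.univ_nonempty (fun i => min (e i) (d + 1 - e i))) := by
  obtain ⟨σ, h01, h12, h23⟩ := exists_sort e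
  refine hasGenericCount_of_perm σ ?_
  rw [inf'_perm d e σ, inf'_eq_of_sorted d (e ∘ σ) h01 h12 h23]
  have hsum : e (σ 0) + e (σ 1) + e (σ 2) + e (σ 3) = 2 * d + 2 := by
    have h1 := he.2
    rw [← Equiv.sum_comp σ e, Fin.sum_univ_four] at h1
    omega
  have h3 := (he.1 (σ 3)).1
  simp only [Function.comp_apply]
  by_cases h0 : e (σ 0) ≤ d
  · have hw : WAdm p d (e ∘ σ) := ⟨fun i => he.1 (σ i), by
      have h1 := he.2
      rw [← Equiv.sum_comp σ e] at h1
      exact h1⟩
    have := count_four (k := k) hp hw ⟨h01, h12, h23, h3, h0, hsum⟩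
    simp only [Function.comp_apply] at this
    rwa [show min (e (σ 3)) (d + 1 - e (σ 0)) = e (σ 3) - (d + 1 - e (σ 1) - e (σ 2)) by omega]
  · rw [show min (e (σ 3)) (d + 1 - e (σ 0)) = 0 by omega]
    refine ⟨1, one_ne_zero, fun P _ => ?_⟩
    have hemp : ramMaps d P (e ∘ σ) = ∅ := by
      refine Set.eq_empty_iff_forall_notMem.2 fun V hV => h0 ?_
      obtain ⟨s, hs, hs0, hm⟩ := (hV.2.2 0).1
      have hle := natDegree_le_of_dvd ((le_rootMultiplicity_iff hs0).1 hm) hs0
      rw [natDegree_pow, natDegree_X_sub_C, mul_one] at hle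
      exact hle.trans (mem_degreeLE_iff.1 (hV.1.1 hs))
    rw [hemp]
    exact ⟨Set.finite_empty, by simp⟩

end Aux

open Polynomial in
/-- Over an algebraically closed field of characteristic p (zero allowed), let (d; e_1, …, e_4) be
admissible (2 ≤ e_i ≤ d, e_i prime to p, ∑ (e_i − 1) = 2d − 2) with every e_i < p when p is
positive. Then the number of separable self-maps of the projective line of degree d ramified to
order exactly e_i at four general points (configurations of the affine line off the zero set of a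
non-zero polynomial), counted up to automorphisms of the target as base-point-free separable pencils
of polynomials, equals min over i of min (e_i, d + 1 − e_i), less max (0, d + 1 − p) when p is
positive. (Subtraction here is that of the natural numbers, truncated at zero: read over the
integers the closed form is negative for some admissible data, for instance indices 6, 6, 6, 2 in
characteristic 7, where the count is 0; the assertion that the maps have no non-trivial deformations
is not restated.) -/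
theorem result (k : Type u) [Field k] [IsAlgClosed k]
    (p : ℕ) [CharP k p] (d : ℕ) (e : Fin 4 → ℕ) (he : W4c1limliniiii.Admissible p d e)
    (hlt : ∀ i, p = 0 ∨ e i < p) :
    (p ≠ 0 → W4c1limliniiii.HasGenericCount (k := k) d e
      (Finset.univ.inf' Finset.univ_nonempty (fun i => min (e i) (d + 1 - e i)) - (d + 1 - p))) ∧
    (p = 0 → W4c1limliniiii.HasGenericCount (k := k) d e
      (Finset.univ.inf' Finset.univ_nonempty (fun i => min (e i) (d + 1 - e i)))) := by
  classical
  have hw := Groth.Agent.RamP1.weak_of_admissible he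
  refine ⟨fun hp0 => ?_, fun hp0 => count_small (Or.inl hp0) hw⟩
  by_cases hdp : d < p
  · have := count_small (k := k) (Or.inr hdp) hw
    rwa [show d + 1 - p = 0 by omega, Nat.sub_zero]
  push Not at hdp
  haveI : Fact p.Prime := ⟨(CharP.char_is_prime_or_zero k p).resolve_right hp0⟩
  obtain ⟨σ, h01, h12, h23⟩ := exists_sort e
  refine hasGenericCount_of_perm σ ?_
  rw [inf'_perm d e σ, inf'_eq_of_sorted d (e ∘ σ) h01 h12 h23]
  set f := e ∘ σ with hf
  have hfa : W4c1limliniiii.Admissible p d f := ⟨fun i => he.1 (σ i), by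
    have h1 := he.2
    rw [← Equiv.sum_comp σ e] at h1
    exact h1⟩
  have hsum : f 0 + f 1 + f 2 + f 3 = 2 * d + 2 := by
    have h1 := hfa.2
    rw [Fin.sum_univ_four] at h1
    omega
  have hflt : ∀ i, f i < p := fun i => (hlt (σ i)).resolve_left hp0
  have hlt0 := hflt 0
  have hlt1 := hflt 1
  have hlt2 := hflt 2
  have hd0 : f 0 ≤ d := (hfa.1 0).2.1
  refine (Groth.Agent.S13922.result k p d 4 f hfa hflt 0 1 (by decide) _).2 ?_
  set g := Function.update (Function.update f 0 (p - f 0)) 1 (p - f 1) with hg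
  have g0 : g 0 = p - f 0 := by simp [g]
  have g1 : g 1 = p - f 1 := by simp [g]
  have g2 : g 2 = f 2 := by simp [g]
  have g3 : g 3 = f 3 := by simp [g]
  have h01' : f 1 ≤ f 0 := h01
  have h12' : f 2 ≤ f 1 := h12
  have h23' : f 3 ≤ f 2 := h23
  have hgw : Groth.Agent.RamP1.WAdm p (d + p - f 0 - f 1) g := by
    refine ⟨fun i => ?_, ?_⟩
    · have hb : 1 ≤ g i ∧ g i < p := by
        fin_cases i
        · exact ⟨by simp [g0]; omega, by simp [g0]; have := (hfa.1 0).1; omega⟩
        · exact ⟨by simp [g1]; omega, by simp [g1]; have := (hfa.1 1).1; omega⟩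
        · exact ⟨by simp [g2]; have := (hfa.1 2).1; omega, by simp [g2]; omega⟩
        · exact ⟨by simp [g3]; have := (hfa.1 3).1; omega, by simp [g3]; omega⟩
      exact ⟨hb.1, fun hd => by have := Nat.le_of_dvd hb.1 hd; omega⟩
    · rw [Fin.sum_univ_four, g0, g1, g2, g3]
      omega
  have hsmall : d + p - f 0 - f 1 < p := by omega
  have key := count_small (k := k) (Or.inr hsmall) hgw
  rwa [show Finset.univ.inf' Finset.univ_nonempty
      (fun i => min (g i) (d + p - f 0 - f 1 + 1 - g i)) = min (f 3) (d + 1 - f 0) - (d + 1 - p) from ?_] at key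
  refine le_antisymm ?_ (Finset.le_inf' _ _ fun i _ => ?_)
  · have e0 := Finset.inf'_le (fun i => min (g i) (d + p - f 0 - f 1 + 1 - g i)) (Finset.mem_univ (0 : Fin 4))
    have e2 := Finset.inf'_le (fun i => min (g i) (d + p - f 0 - f 1 + 1 - g i)) (Finset.mem_univ (2 : Fin 4))
    simp only [g0, g2] at e0 e2
    omega
  · fin_cases i <;> simp [g0, g1, g2, g3] <;> omega

end Groth.Agent.S13923
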