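import Groth.Statements.S13925


set_option autoImplicit false
universe u v w x
open W4c1limliniiii

namespace Groth.Agent.S13925

/-- Let k be a field and U, E, W vector spaces over k with linear maps f : U → E, g' : E → U, f₂ : E → W
and g : W → E such that g' ∘ f = 0, the kernel of f₂ is contained in the image of g, and the image
of g meets the kernel of g' only in 0 — the conditions holding at a point of a linked Grassmannian
at which the linking scalar vanishes. Let V₁ ≤ U and V₂ ≤ E be subspaces and let C' ≤ V₂ be a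
subspace contained in the kernel of g' and meeting f(V₁) only in 0. Then the subspaces f(V₁), ker f₂
∩ V₂ and C' of E are independent: their sum is direct. (The published statement is for two
consecutive members V_{i-1}, V_i of a point of a linked Grassmannian at which the linking scalar
vanishes and adds the decomposition V_i = f(V_{i-1}) ⊕ (ker f_i ∩ V_i) ⊕ C with C ⊇ C'; this row
states the independence, with only the three conditions the argument uses.) -/
theorem result (k : Type u) [Field k]
    (U : Type v) (E : Type w) (W : Type x) [AddCommGroup U] [Module k U] [AddCommGroup E]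
    [Module k E] [AddCommGroup W] [Module k W]
    (f : U →ₗ[k] E) (g' : E →ₗ[k] U) (f₂ : E →ₗ[k] W) (g : W →ₗ[k] E)
    (hgf : g'.comp f = 0) (hII : LinearMap.ker f₂ ≤ LinearMap.range g)
    (hIII : LinearMap.range g ⊓ LinearMap.ker g' = ⊥)
    (V₁ : Submodule k U) (V₂ : Submodule k E) (C' : Submodule k E) (hC : C' ≤ V₂)
    (hCg : C' ≤ LinearMap.ker g') (hCf : Submodule.map f V₁ ⊓ C' = ⊥) :
    iSupIndep ![Submodule.map f V₁, LinearMap.ker f₂ ⊓ V₂, C'] := by
  rw [iSupIndep_def]
  have hA : Submodule.map f V₁ ≤ LinearMap.ker g' := by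
    rintro _ ⟨x, _, rfl⟩
    exact LinearMap.congr_fun hgf x
  have hB : LinearMap.ker f₂ ⊓ V₂ ≤ LinearMap.range g := inf_le_left.trans hII
  have hBK : Disjoint (LinearMap.ker f₂ ⊓ V₂) (LinearMap.ker g') :=
    (disjoint_iff.2 hIII).mono_left hB
  have hAC : Disjoint (Submodule.map f V₁) C' := disjoint_iff.2 hCf
  intro i
  have h3 : ∀ j : Fin 3, j = 0 ∨ j = 1 ∨ j = 2 := by decide
  rw [disjoint_iff, Submodule.eq_bot_iff]
  rintro x ⟨hx, hx'⟩
  rcases h3 i with rfl | rfl | rfl
  · have hle : (⨆ (j : Fin 3) (_ : j ≠ 0),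
        ![Submodule.map f V₁, LinearMap.ker f₂ ⊓ V₂, C'] j) ≤ (LinearMap.ker f₂ ⊓ V₂) ⊔ C' := by
      refine iSup₂_le fun j hj => ?_
      rcases h3 j with rfl | rfl | rfl
      · exact absurd rfl hj
      · exact le_sup_left
      · exact le_sup_right
    obtain ⟨b, hb, c, hc, rfl⟩ := Submodule.mem_sup.1 (hle hx')
    have hA' : b + c ∈ LinearMap.ker g' := hA hx
    have hb0 : b = 0 := Submodule.disjoint_def.1 hBK b hb (by
      simpa using sub_mem hA' (hCg hc))
    subst hb0
    rw [zero_add] at hx ⊢
    exact Submodule.disjoint_def.1 hAC c hx hc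
  · have hle : (⨆ (j : Fin 3) (_ : j ≠ 1),
        ![Submodule.map f V₁, LinearMap.ker f₂ ⊓ V₂, C'] j) ≤ LinearMap.ker g' := by
      refine iSup₂_le fun j hj => ?_
      rcases h3 j with rfl | rfl | rfl
      · exact hA
      · exact absurd rfl hj
      · exact hCg
    exact Submodule.disjoint_def.1 hBK x hx (hle hx')
  · have hle : (⨆ (j : Fin 3) (_ : j ≠ 2),
        ![Submodule.map f V₁, LinearMap.ker f₂ ⊓ V₂, C'] j) ≤
          Submodule.map f V₁ ⊔ (LinearMap.ker f₂ ⊓ V₂) := by
      refine iSup₂_le fun j hj => ?_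
      rcases h3 j with rfl | rfl | rfl
      · exact le_sup_left
      · exact le_sup_right
      · exact absurd rfl hj
    obtain ⟨a, ha, b, hb, rfl⟩ := Submodule.mem_sup.1 (hle hx')
    have hb0 : b = 0 := Submodule.disjoint_def.1 hBK b hb (by
      have h := sub_mem (hCg hx) (hA ha)
      simpa using h)
    subst hb0
    rw [add_zero] at hx ⊢
    exact Submodule.disjoint_def.1 hAC a ha hx

end Groth.Agent.S13925
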