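import Groth.Statements.S13926
import Mathlib.LinearAlgebra.FiniteDimensional.Lemmas
import Mathlib.LinearAlgebra.Dimension.RankNullity


set_option autoImplicit false
universe u v w
open W4c1limliniiii

namespace Groth.Agent.S13926
lemma exists_between {k : Type u} [Field k] {E : Type v} [AddCommGroup E] [Module k E]
    [FiniteDimensional k E] (r : ℕ) : ∀ (A B : Submodule k E), A ≤ B → Module.finrank k A ≤ r →
    r ≤ Module.finrank k B → ∃ C, A ≤ C ∧ C ≤ B ∧ Module.finrank k C = r := by
  intro A B hAB hA hB
  induction h : r - Module.finrank k A generalizing A with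
  | zero => exact ⟨A, le_rfl, hAB, by omega⟩
  | succ m ih =>
    obtain ⟨x, hxB, hxA⟩ := SetLike.exists_of_lt (lt_of_le_of_ne hAB (fun e => by subst e; omega))
    have h1 : Module.finrank k ↥(A ⊔ k ∙ x) ≤ Module.finrank k A + 1 := by
      refine (Submodule.finrank_add_le_finrank_add_finrank A (k ∙ x)).trans ?_
      have : x ≠ 0 := fun e => hxA (e ▸ zero_mem A)
      rw [finrank_span_singleton this]
    have h2 : Module.finrank k A < Module.finrank k ↥(A ⊔ k ∙ x) := by
      apply Submodule.finrank_lt_finrank_of_lt
      exact left_lt_sup.2 (fun hh => hxA (hh (Submodule.mem_span_singleton_self x)))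
    obtain ⟨C, hC⟩ := ih (A ⊔ k ∙ x) (sup_le hAB (by simpa using hxB)) (by omega) (by omega)
    exact ⟨C, le_sup_left.trans hC.1, hC.2⟩

/-- Let k be a field, E₁ and E₂ finite-dimensional vector spaces over k of the same dimension, f : E₁ →
E₂ and g : E₂ → E₁ linear maps whose composite g ∘ f is multiplication by a scalar s, and V₁ a
subspace of E₁. Then there is a subspace V₂ of E₂ of the same dimension as V₁ with f(V₁) ≤ V₂ and
g(V₂) ≤ V₁. (The published statement is the surjectivity of the truncation morphisms of a linked
Grassmannian, with a further assertion on lifting families; this row is the lifting step over a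
field — over a point the chain of linked subspaces V_1, …, V_{n'} extends one index at a time — and
assumes only g ∘ f = s.) -/
theorem result (k : Type u) [Field k]
    (E₁ : Type v) (E₂ : Type w) [AddCommGroup E₁] [Module k E₁] [FiniteDimensional k E₁]
    [AddCommGroup E₂] [Module k E₂] [FiniteDimensional k E₂]
    (hdim : Module.finrank k E₁ = Module.finrank k E₂)
    (f : E₁ →ₗ[k] E₂) (g : E₂ →ₗ[k] E₁) (s : k) (hgf : g.comp f = s • LinearMap.id)
    (V₁ : Submodule k E₁) :
    ∃ V₂ : Submodule k E₂, Module.finrank k V₂ = Module.finrank k V₁ ∧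
      Submodule.map f V₁ ≤ V₂ ∧ Submodule.map g V₂ ≤ V₁ := by
  have hfg : Submodule.map f V₁ ≤ Submodule.comap g V₁ := by
    rintro _ ⟨x, hx, rfl⟩
    have h : g (f x) = s • x := LinearMap.congr_fun hgf x
    show g (f x) ∈ V₁
    rw [h]
    exact V₁.smul_mem s hx
  have h2 : Module.finrank k V₁ ≤ Module.finrank k ↥(Submodule.comap g V₁) := by
    have e1 := LinearMap.finrank_range_add_finrank_ker (g.domRestrict (Submodule.comap g V₁))
    have e2 := LinearMap.finrank_range_add_finrank_ker g
    have e3 := Submodule.finrank_sup_add_finrank_inf_eq V₁ (LinearMap.range g)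
    have e4 := Submodule.finrank_le (V₁ ⊔ LinearMap.range g)
    have r1 : LinearMap.range (g.domRestrict (Submodule.comap g V₁)) = V₁ ⊓ LinearMap.range g := by
      rw [LinearMap.range_domRestrict, Submodule.map_comap_eq, inf_comm]
    have r2 : Module.finrank k (LinearMap.ker (g.domRestrict (Submodule.comap g V₁))) =
        Module.finrank k (LinearMap.ker g) := by
      rw [LinearMap.ker_domRestrict]
      exact (Submodule.comapSubtypeEquivOfLe (fun x (hx : g x = 0) => by
        show g x ∈ V₁
        rw [hx]; exact zero_mem _)).finrank_eq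
    rw [r1, r2] at e1
    omega
  obtain ⟨V₂, h3, h4, h5⟩ := exists_between _ _ _ hfg (Submodule.finrank_map_le f V₁) h2
  exact ⟨V₂, h5, h3, Submodule.map_le_iff_le_comap.2 h4⟩

end Groth.Agent.S13926
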