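import Groth.Statements.S1393
import Groth.Agent.Props.QProj
import Groth.Agent.FlatMor.FreeFibre
import Groth.Agent.FlatOpen.FibreCrit

set_option autoImplicit false
set_option linter.style.haveILetI false
universe u
open FlatMor

namespace Groth.Agent.S1393

open scoped TensorProduct in
open AlgebraicGeometry CategoryTheory Limits in
/-- Let f : X → S be of finite presentation, F a finitely presented quasi-coherent O_X-module and x a
point with image s. If F is flat over S at x and the stalk at x of the restriction of F to the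
fibre, namely F_x / m_s F_x, is flat over the local ring of the fibre at x, namely O_{X,x} / m_s
O_{X,x}, then F is free of finite rank on some open neighbourhood of x. -/
theorem result {X S : Scheme.{u}} (f : X ⟶ S) [LocallyOfFinitePresentation f] [QuasiCompact f] [QuasiSeparated f]
    (F : X.Modules) (hFq : Coh.IsQCoh F) (hFp : CohB1.IsFP F) (x : X) (h1 : FlatMod.IsFlatOverAt f F x)
    (h2 : Module.Flat (↑(X.presheaf.stalk x) ⧸ Ideal.map (f.stalkMap x).hom (IsLocalRing.maximalIdeal ↑(S.presheaf.stalk (f x))))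
      (↑(F.presheaf.stalk x) ⧸ (Ideal.map (f.stalkMap x).hom (IsLocalRing.maximalIdeal ↑(S.presheaf.stalk (f x))) • (⊤ : Submodule ↑(X.presheaf.stalk x) ↑(F.presheaf.stalk x))))) :
    ∃ (U : X.Opens) (n : ℕ), x ∈ U ∧ Nonempty (F.restrict U.ι ≅ FlatMod.freeMod (↑U) n) := by
  haveI : F.IsQuasicoherent := hFq
  obtain ⟨_, ⟨W, hW, rfl⟩, hx, -⟩ := X.isBasis_affineOpens.exists_subset_of_mem_open
    (Set.mem_univ x) isOpen_univ
  replace hW : IsAffineOpen W := hW
  have hfp : Module.FinitePresentation Γ(X, W) Γ(F, W) := (Groth.Agent.Props.QFP.isFP_iff F).1 hFp W hW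
  let A := S.presheaf.stalk (f x)
  let B := X.presheaf.stalk x
  let M := F.presheaf.stalk x
  haveI : Module.FinitePresentation B M := by
    let _ := Groth.Agent.Props.QStalk.moduleSections F hx
    let _ := X.presheaf.algebra_section_stalk ⟨x, hx⟩
    haveI : IsScalarTower Γ(X, W) B M := IsScalarTower.of_algebraMap_smul fun _ _ => rfl
    haveI := Groth.Agent.Props.QStalk.isLocalizedModule_germLin F hx hW
    haveI : IsLocalization.AtPrime B (hW.primeIdealOf ⟨x, hx⟩).asIdeal :=
      hW.isLocalization_stalk ⟨x, hx⟩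
    exact FinitePresentation.of_isBaseChange (Groth.Agent.Props.QStalk.germLin F hx)
      (IsLocalizedModule.isBaseChange (hW.primeIdealOf ⟨x, hx⟩).asIdeal.primeCompl B _)
  letI : Algebra A B := (f.stalkMap x).hom.toAlgebra
  haveI : IsLocalHom (algebraMap A B) := (inferInstance : IsLocalHom (f.stalkMap x).hom)
  letI : Module A M := FlatMod.moduleStalkOver f F x
  haveI : IsScalarTower A B M := IsScalarTower.of_algebraMap_smul fun _ _ => rfl
  haveI : Module.Flat A M := h1
  let J : Ideal B := (IsLocalRing.maximalIdeal A).map (algebraMap A B)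
  haveI : Module.Flat (B ⧸ J) (M ⧸ J • (⊤ : Submodule B M)) := h2
  haveI : IsLocalRing (B ⧸ J) :=
    haveI : Nontrivial (B ⧸ J) := Ideal.Quotient.nontrivial_iff.2 (ne_top_of_le_ne_top
      (IsLocalRing.maximalIdeal.isMaximal B).ne_top
      (((IsLocalRing.local_hom_TFAE (algebraMap A B)).out 0 2).mp ‹IsLocalHom (algebraMap A B)›))
    IsLocalRing.of_surjective' (Ideal.Quotient.mk J) Ideal.Quotient.mk_surjective
  haveI : Module.Flat (B ⧸ J) ((B ⧸ J) ⊗[B] M) :=
    Groth.Agent.FlatOpen.flat_of_linearEquiv_of_surjective Ideal.Quotient.mk_surjective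
      (TensorProduct.quotTensorEquivQuotSMul M J).symm
  have hfree : Module.Free B M := Groth.Agent.FlatMor.FreeFibre.free_of_free_fibre A B M
    (Module.free_of_flat_of_isLocalRing : Module.Free (B ⧸ J) ((B ⧸ J) ⊗[B] M))
  exact Groth.Agent.Props.QProj.exists_free_nhd F hW hx hfp hfree

end Groth.Agent.S1393
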