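import Groth.Statements.S13932
import Groth.Agent.LG86.Components

set_option autoImplicit false
universe u
open W4c1limliniiii

namespace Groth.Agent.S13932

open AlgebraicGeometry CategoryTheory in
/-- Let k be a field, 0 < r < d, and f_i, g_i (i < n) linear maps forward and backward between the i-th
and (i+1)-st of n + 1 copies of k^d forming a linked Grassmannian over Spec k (one scalar s with
every f_i ∘ g_i and g_i ∘ f_i equal to multiplication by s; rank f_i + rank g_i ≥ d; for consecutive
indices im f_i ∩ ker f_{i+1} = 0 and im g_{i+1} ∩ ker g_i = 0), and let the k-scheme X represent the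
linked Grassmannian functor of rank-r sub-bundles (natural bijections between k-morphisms Spec A → X
and linked tuples of submodules of A^d with locally free quotients of rank d − r). Call a k-rational
point exact when its tuple (V_i) satisfies ker g_i ∩ V_{i+1} ⊆ f_i(V_i) and ker f_i ∩ V_i ⊆
g_i(V_{i+1}) for all i. Assume k algebraically closed. Then a k-rational point of X is not exact if
and only if its image point lies on two distinct irreducible components of the underlying space of
X: the non-exact points of the linked Grassmannian over a field are exactly the intersections of its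
irreducible components. (Stated through rational points over an algebraically closed field; the
published statement is about every fibre of a linked Grassmannian over an integral Cohen–Macaulay
base.) -/
theorem result (k : Type u) [Field k] [IsAlgClosed k]
    (d r n : ℕ) (hr : 0 < r) (hrd : r < d) (f g : Fin n → ((Fin d → k) →ₗ[k] (Fin d → k)))
    (s : k) (hI : ∀ i, (f i).comp (g i) = s • LinearMap.id ∧ (g i).comp (f i) = s • LinearMap.id)
    (hII : ∀ i, d ≤ Module.finrank k (LinearMap.range (f i)) + Module.finrank k (LinearMap.range (g i)))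
    (hIII : ∀ i j : Fin n, i.val + 1 = j.val →
      LinearMap.range (f i) ⊓ LinearMap.ker (f j) = ⊥ ∧
        LinearMap.range (g j) ⊓ LinearMap.ker (g i) = ⊥)
    (X : Over (Spec (CommRingCat.of k)))
    (e : ∀ A : CommAlgCat.{u} k,
      (Over.mk (Spec.map (CommRingCat.ofHom (algebraMap k A))) ⟶ X) ≃
        W4c1limliniiii.LGPoints k d r n f g A)
    (he : ∀ (A B : CommAlgCat.{u} k) (φ : A ⟶ B)
      (x : Over.mk (Spec.map (CommRingCat.ofHom (algebraMap k A))) ⟶ X)
      (x' : Over.mk (Spec.map (CommRingCat.ofHom (algebraMap k B))) ⟶ X),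
      x'.left = Spec.map (CommRingCat.ofHom φ.hom.toRingHom) ≫ x.left →
        ∀ i, (e B x').1 i = Module.Grassmannian.map φ.hom ((e A x).1 i))
    (x : Over.mk (Spec.map (CommRingCat.ofHom (algebraMap k (CommAlgCat.of k k)))) ⟶ X) :
    ¬ W4c1limliniiii.IsExact k d r n f g (CommAlgCat.of k k) (e (CommAlgCat.of k k) x).1 ↔
      ∃ Z₁ ∈ irreducibleComponents ↥X.left, ∃ Z₂ ∈ irreducibleComponents ↥X.left,
        Z₁ ≠ Z₂ ∧ Set.range x.left.base ⊆ Z₁ ∩ Z₂ := by
  let E : Groth.Agent.LG86.Rep (r := r) f g X := ⟨e, he⟩
  let H : Groth.Agent.LG86.Hyp f g s := Groth.Agent.LG86.Hyp.of_field hI hII hIII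
  let xl : Spec (CommRingCat.of k) ⟶ X.left := x.left
  haveI : Subsingleton ↥(Spec (CommRingCat.of k)) := inferInstanceAs (Subsingleton (PrimeSpectrum k))
  have hr : Set.range xl.base = {x.left (IsLocalRing.closedPoint k)} := by
    ext p
    constructor
    · rintro ⟨q, rfl⟩
      rw [Subsingleton.elim q (IsLocalRing.closedPoint k)]
      rfl
    · rintro rfl
      exact ⟨IsLocalRing.closedPoint k, rfl⟩
  constructor
  · intro hx
    obtain ⟨Z₁, hZ₁, Z₂, hZ₂, hne, h₁, h₂⟩ := Groth.Agent.LG86.exists_two_components E x hx H hrd.le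
    refine ⟨Z₁, hZ₁, Z₂, hZ₂, hne, ?_⟩
    change Set.range xl.base ⊆ _
    rw [hr, Set.singleton_subset_iff]
    exact ⟨h₁, h₂⟩
  · rintro ⟨Z₁, hZ₁, Z₂, hZ₂, hne, hsub⟩ hx
    have hmem := hsub ⟨IsLocalRing.closedPoint k, rfl⟩
    exact hne (Groth.Agent.LG86.component_unique E x hx H hrd.le hZ₁ hZ₂ hmem.1 hmem.2)

end Groth.Agent.S13932
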