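import Groth.Statements.S13933
import Groth.Agent.LG86.Relative

set_option autoImplicit false
universe u
open W4c1limliniiii

namespace Groth.Agent.S13933

open AlgebraicGeometry CategoryTheory TensorProduct in
/-- Let R be a Cohen–Macaulay integral domain, 0 < r < d, and for i < n let f_i, g_i be R-linear maps
forward and backward between the i-th and (i+1)-st of n + 1 copies of R^d forming a linked
Grassmannian: there is one s ∈ R with every f_i ∘ g_i and g_i ∘ f_i equal to multiplication by s,
and at every prime P of R, after base change to the residue field κ(P), rank f_i + rank g_i ≥ d for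
each i and, for consecutive indices, the image of f_i meets the kernel of f_{i+1} only in 0 and the
image of g_{i+1} meets the kernel of g_i only in 0. Suppose the scheme X over Spec R represents the
linked Grassmannian functor of rank-r sub-bundles (bijections, compatible with base change on each
Grassmannian component, between Spec R-morphisms Spec A → X and tuples of submodules of A^d with
locally free quotients of rank d − r carried into one another by the f_i and g_i). Then every
irreducible component of the underlying space of X maps onto Spec R, and if s ≠ 0 then X is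
irreducible. (The published statement is over an integral Cohen–Macaulay base scheme with vector
bundles and also gives the codimension (n − 1) r (d − r) of every component inside the product of
Grassmannians; this row takes the base affine and the bundles trivial and does not restate the
codimension.) -/
theorem result (R : Type u)
    [CommRing R] [IsDomain R] [LocCoh.IsCohenMacaulayRing R]
    (d r n : ℕ) (hr : 0 < r) (hrd : r < d) (f g : Fin n → ((Fin d → R) →ₗ[R] (Fin d → R)))
    (s : R) (hI : ∀ i, (f i).comp (g i) = s • LinearMap.id ∧ (g i).comp (f i) = s • LinearMap.id)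
    (hII : ∀ (P : Ideal R) [P.IsPrime], ∀ i,
      d ≤ Module.finrank P.ResidueField (LinearMap.range ((f i).baseChange P.ResidueField)) +
        Module.finrank P.ResidueField (LinearMap.range ((g i).baseChange P.ResidueField)))
    (hIII : ∀ (P : Ideal R) [P.IsPrime], ∀ i j : Fin n, i.val + 1 = j.val →
      LinearMap.range ((f i).baseChange P.ResidueField) ⊓
          LinearMap.ker ((f j).baseChange P.ResidueField) = ⊥ ∧
        LinearMap.range ((g j).baseChange P.ResidueField) ⊓
          LinearMap.ker ((g i).baseChange P.ResidueField) = ⊥)
    (X : Over (Spec (CommRingCat.of R)))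
    (e : ∀ A : CommAlgCat.{u} R,
      (Over.mk (Spec.map (CommRingCat.ofHom (algebraMap R A))) ⟶ X) ≃
        W4c1limliniiii.LGPoints R d r n f g A)
    (he : ∀ (A B : CommAlgCat.{u} R) (φ : A ⟶ B)
      (x : Over.mk (Spec.map (CommRingCat.ofHom (algebraMap R A))) ⟶ X)
      (x' : Over.mk (Spec.map (CommRingCat.ofHom (algebraMap R B))) ⟶ X),
      x'.left = Spec.map (CommRingCat.ofHom φ.hom.toRingHom) ≫ x.left →
        ∀ i, (e B x').1 i = Module.Grassmannian.map φ.hom ((e A x).1 i)) :
    (∀ Z ∈ irreducibleComponents ↥X.left, X.hom.base '' Z = Set.univ) ∧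
      (s ≠ 0 → IrreducibleSpace ↥X.left) := by
  classical
  let E : Groth.Agent.LG86.Rep (r := r) f g X := ⟨e, he⟩
  have H : Groth.Agent.LG86.Hyp f g s := by
    refine Groth.Agent.LG86.Hyp.of_cover hI fun K _ _ => ?_
    let P : Ideal R := RingHom.ker (algebraMap R K)
    haveI : P.IsPrime := RingHom.ker_isPrime _
    let ψ : (R ⧸ P) →ₐ[R] K := Ideal.Quotient.liftₐ P (Algebra.ofId R K) fun a ha => ha
    have hψ : Function.Injective ψ := by
      rw [injective_iff_map_eq_zero]
      intro a ha
      obtain ⟨a, rfl⟩ := Ideal.Quotient.mk_surjective a
      exact Ideal.Quotient.eq_zero_iff_mem.mpr ha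
    exact ⟨P.ResidueField, inferInstance, inferInstance,
      IsFractionRing.liftAlgHom (g := ψ) hψ, hII P, hIII P⟩
  refine ⟨fun Z hZ => Groth.Agent.LG86.component_surjective E H hrd.le hZ, fun hs => ?_⟩
  refine Groth.Agent.LG86.irreducible_of_ne_zero E H hrd.le hs ?_
  let K : Type u := FractionRing R
  have hsK : algebraMap R K s ≠ 0 := (map_ne_zero_iff _ (IsFractionRing.injective R K)).mpr hs
  let emb : Fin r → Fin d := Fin.castLE hrd.le
  let v : Fin r → Groth.Agent.LG86.M (k := R) K d := fun a => Groth.Agent.LG86.stdB K d (emb a)
  have hv : LinearIndependent K v :=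
    (Groth.Agent.LG86.stdB (k := R) K d).linearIndependent.comp emb (Fin.castLE_injective _)
  have hinj : ∀ i ≤ n, Function.Injective (Groth.Agent.LG86.path f g K 0 i) := by
    intro i
    induction i with
    | zero => intro _; rw [Groth.Agent.LG86.path_self]; exact fun _ _ h => h
    | succ i ih =>
      intro hi
      rw [Groth.Agent.LG86.path_succ f g K (Nat.zero_le _), Module.End.coe_mul]
      refine Function.Injective.comp (fun x y h => ?_) (ih (by omega))
      have hx := congrArg (Groth.Agent.LG86.ext0 K g i) h
      rw [H.gf (by omega), H.gf (by omega)] at hx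
      exact smul_right_injective _ hsK hx
  have hind : ∀ i : Fin (n + 1), LinearIndependent K fun a => Groth.Agent.LG86.path f g K 0 i.val (v a) :=
    fun i => hv.map' _ (LinearMap.ker_eq_bot.mpr (hinj i.val (Nat.lt_succ_iff.mp i.isLt)))
  choose κ hκ using fun i => Groth.Agent.LG86.exists_compl_std hrd.le _ (hind i)
  let W := fun i => Groth.Agent.LG86.grass (isUnit_iff_ne_zero.mpr (hκ i))
  have hW : W ∈ W4c1limliniiii.LGPoints R d r n f g K := fun i =>
    Groth.Agent.LG86.map_span_le f g K s H.hI (fun _ : Fin r => 0) v i
  let y := (e (CommAlgCat.of R K)).symm ⟨W, hW⟩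
  let yl : Spec (CommRingCat.of K) ⟶ X.left := y.left
  exact ⟨yl (IsLocalRing.closedPoint K)⟩

end Groth.Agent.S13933
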