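import Groth.Statements.S13934
import Groth.Agent.VBLib.Line
import Groth.Agent.VBLib.Slope

set_option autoImplicit false
set_option backward.isDefEq.respectTransparency false
set_option backward.isDefEq.respectTransparency.types false
universe u
open CategoryTheory CategoryTheory.Limits AlgebraicGeometry
open W4c1limliniiii

namespace Groth.Agent.S13934

/-- On a smooth proper integral curve over an algebraically closed field (any characteristic), let 0 → L
→ E → M → 0 be a short exact sequence of O_X-modules with E finite locally free of rank 2 and degree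
0, L and M invertible and deg L > 0 (so M is det E ⊗ L⁻¹). Then: every invertible sheaf N admitting
a non-zero map N → E has deg N ≤ deg L, so L is the line bundle of maximal degree in E; every
invertible subsheaf N of E of positive degree with invertible quotient E/N coincides with L (some
isomorphism N ≅ L commutes with the inclusions); and E is not an extension of two invertible sheaves
of degree 0. Degrees are χ(−) minus rank times χ(O_X). (The published lemma is stated on a curve of
genus 2 in characteristic p; its argument uses neither, and this row assumes neither.) -/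
theorem result (k : Type u) [Field k] [IsAlgClosed k] (X : Scheme.{u}) [X.Over (Spec (CommRingCat.of k))]
    [IsIntegral X] [IsProper (X ↘ Spec (CommRingCat.of k))] [Smooth (X ↘ Spec (CommRingCat.of k))]
    (hdim : topologicalKrullDim X = 1)
    (S : ShortComplex X.Modules) (hS : S.ShortExact)
    (hE : FlatMod.IsFinLocFreeOfRank 2 S.X₂) (hE0 : Curv2.deg k X S.X₂ 2 = 0)
    (hL : PicF.IsInvertible S.X₁) (hM : PicF.IsInvertible S.X₃) (hpos : 0 < Curv2.deg k X S.X₁ 1) :
    (∀ (N : X.Modules), PicF.IsInvertible N → ∀ j : N ⟶ S.X₂, j ≠ 0 →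
        Curv2.deg k X N 1 ≤ Curv2.deg k X S.X₁ 1) ∧
    (∀ (N : X.Modules), PicF.IsInvertible N → ∀ (j : N ⟶ S.X₂), Mono j →
        PicF.IsInvertible (cokernel j) → 0 < Curv2.deg k X N 1 → ∃ φ : N ≅ S.X₁, φ.hom ≫ S.f = j) ∧
    (∀ (N N' : X.Modules), PicF.IsInvertible N → PicF.IsInvertible N' →
        Curv2.deg k X N 1 = 0 → Curv2.deg k X N' 1 = 0 →
        ∀ (a : N ⟶ S.X₂) (b : S.X₂ ⟶ N') (w : a ≫ b = 0), ¬ (ShortComplex.mk a b w).ShortExact) := by
  have hX : VBLib.GoodCurve k X := VBLib.goodCurve_of_smooth hdim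
  have hLf := VBLib.isFinLocFree_of_ofRank (VBLib.ofRank_one_of_invertible hL)
  have hMf := VBLib.isFinLocFree_of_ofRank (VBLib.ofRank_one_of_invertible hM)
  have hEf := VBLib.isFinLocFree_of_ofRank hE
  have hL1 := VBLib.rk_eq (VBLib.ofRank_one_of_invertible hL)
  have hM1 := VBLib.rk_eq (VBLib.ofRank_one_of_invertible hM)
  rw [VBLib.dg_eq hE] at hE0
  rw [VBLib.dg_eq (VBLib.ofRank_one_of_invertible hL)] at hpos ⊢
  have hadd := hX.dg_add hS (VBLib.isCoh_of_isFinLocFree hLf) (VBLib.isCoh_of_isFinLocFree hEf)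
    (VBLib.isCoh_of_isFinLocFree hMf)
  haveI := hS.mono_f
  -- a map from a line bundle of degree above that of the quotient factors through the subbundle
  have key : ∀ (N : X.Modules), PicF.IsInvertible N → ∀ j : N ⟶ S.X₂,
      VBLib.dg k S.X₃ < VBLib.dg k N → ∃ t : N ⟶ S.X₁, t ≫ S.f = j := by
    intro N hN j h
    have h0 : j ≫ S.g = 0 := hX.line_hom_eq_zero
      (VBLib.isFinLocFree_of_ofRank (VBLib.ofRank_one_of_invertible hN)) hMf
      (VBLib.rk_eq (VBLib.ofRank_one_of_invertible hN)) hM1 h _
    exact ⟨hS.exact.lift j h0, hS.exact.lift_f j h0⟩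
  refine ⟨?_, ?_, ?_⟩
  · intro N hN j hj
    rw [VBLib.dg_eq (VBLib.ofRank_one_of_invertible hN)]
    by_contra hlt
    obtain ⟨t, ht⟩ := key N hN j (by omega)
    have ht0 := hX.line_hom_eq_zero
      (VBLib.isFinLocFree_of_ofRank (VBLib.ofRank_one_of_invertible hN)) hLf
      (VBLib.rk_eq (VBLib.ofRank_one_of_invertible hN)) hL1 (by omega) t
    exact hj (by rw [← ht, ht0, Limits.zero_comp])
  · intro N hN j hj hq hd
    rw [VBLib.dg_eq (VBLib.ofRank_one_of_invertible hN)] at hd
    obtain ⟨t, ht⟩ := key N hN j (by omega)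
    haveI := hj
    exact hX.sub_eq hLf (VBLib.isFinLocFree_of_ofRank (VBLib.ofRank_one_of_invertible hN))
      (by rw [VBLib.rk_eq (VBLib.ofRank_one_of_invertible hN), hL1]) S.f j
      (VBLib.isFinLocFree_of_ofRank (VBLib.ofRank_one_of_invertible hq))
      (by rw [← ht, Category.assoc, cokernel.condition, Limits.comp_zero])
  · intro N N' hN hN' hdN hdN' a b w hex
    rw [VBLib.dg_eq (VBLib.ofRank_one_of_invertible hN)] at hdN
    rw [VBLib.dg_eq (VBLib.ofRank_one_of_invertible hN')] at hdN'
    have hNf := VBLib.isFinLocFree_of_ofRank (VBLib.ofRank_one_of_invertible hN)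
    have h0 : S.f ≫ b = 0 := hX.line_hom_eq_zero hLf
      (VBLib.isFinLocFree_of_ofRank (VBLib.ofRank_one_of_invertible hN')) hL1
      (VBLib.rk_eq (VBLib.ofRank_one_of_invertible hN')) (by omega) _
    haveI : Mono (ShortComplex.mk a b w).f := hex.mono_f
    obtain ⟨t, ht⟩ : ∃ t : S.X₁ ⟶ N, t ≫ a = S.f :=
      ⟨hex.exact.lift S.f h0, hex.exact.lift_f S.f h0⟩
    have ht0 := hX.line_hom_eq_zero hLf hNf hL1 (VBLib.rk_eq (VBLib.ofRank_one_of_invertible hN))
      (by omega) t
    have hf0 : S.f = 0 := by rw [← ht, ht0, Limits.zero_comp]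
    have hz : IsZero S.X₁ := by
      rw [IsZero.iff_id_eq_zero, ← cancel_mono S.f, hf0, Limits.comp_zero, Limits.comp_zero]
    have := hX.dg_eq_zero_of_isZero (VBLib.isCoh_of_isFinLocFree hLf) hz
    omega

end Groth.Agent.S13934
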