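import Groth.Statements.S13935
import Mathlib

set_option autoImplicit false
universe u
open W4c1limliniiii

namespace Groth.Agent.S13935

open Polynomial

section basic

variable {R : Type*} [CommRing R] (p : ℕ)

/-- `a(X ^ p) * F + b(X ^ p) * G`. -/
noncomputable def comb (a b F G : R[X]) : R[X] := expand R p a * F + expand R p b * G

/-- Some combination of `F` and `G` vanishes to order `e` at `P`. -/
def Loc (P : R) (e : ℕ) (F G : R[X]) : Prop :=
  ∃ a b : R, (a ≠ 0 ∨ b ≠ 0) ∧ (X - C P) ^ e ∣ C a * F + C b * G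

/-- `Z` lies in the `R[X ^ p]`-span of `F` and `G`. -/
def InSpan (F G Z : R[X]) : Prop := ∃ a b, Z = comb p a b F G

lemma InSpan.trans {F G F₁ G₁ Z α β γ δ : R[X]} (h : InSpan p F G Z)
    (hF : F = comb p α β F₁ G₁) (hG : G = comb p γ δ F₁ G₁) : InSpan p F₁ G₁ Z := by
  obtain ⟨a, b, rfl⟩ := h
  refine ⟨a * α + b * γ, a * β + b * δ, ?_⟩
  subst hF hG
  simp only [comb, map_add, map_mul]
  ring

variable [Fact p.Prime] [CharP R p]

lemma derivative_expand_zero (a : R[X]) : derivative (expand R p a) = 0 := by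
  rw [derivative_expand, CharP.cast_eq_zero R[X] p, zero_mul, mul_zero]

lemma derivative_comb (a b F G : R[X]) :
    derivative (comb p a b F G) = comb p a b (derivative F) (derivative G) := by
  simp [comb, derivative_mul, derivative_expand_zero]

lemma wronskian_comb (α β γ δ F G : R[X]) :
    wronskian (comb p α β F G) (comb p γ δ F G) =
      expand R p (α * δ - β * γ) * wronskian F G := by
  rw [wronskian, derivative_comb, derivative_comb]
  simp only [comb, wronskian, map_sub, map_mul]
  ring

lemma expand_sub_dvd (a : R[X]) (P : R) :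
    (X - C P) ^ p ∣ expand R p a - C (a.eval (P ^ p)) := by
  have h := sub_dvd_eval_sub (X ^ p : R[X]) (C (P ^ p)) (a.map C)
  have h1 : (a.map C).eval (X ^ p : R[X]) = expand R p a := by
    rw [eval_map, ← coe_expand]
  have h2 : (a.map C).eval (C (P ^ p)) = C (a.eval (P ^ p)) := by
    rw [eval_map, eval₂_at_apply]
  rw [h1, h2, map_pow, ← sub_pow_char] at h
  exact h

lemma Loc.comb [IsDomain R] {F G F₁ G₁ α β γ δ : R[X]} {P : R} {e : ℕ} (he : e ≤ p)
    (hdet : (α * δ - β * γ).eval (P ^ p) ≠ 0)
    (hF : F = comb p α β F₁ G₁) (hG : G = comb p γ δ F₁ G₁) (h : Loc P e F G) :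
    Loc P e F₁ G₁ := by
  obtain ⟨a, b, hab, hdvd⟩ := h
  set Q := P ^ p
  refine ⟨a * α.eval Q + b * γ.eval Q, a * β.eval Q + b * δ.eval Q, ?_, ?_⟩
  · by_contra hcon
    push_neg at hcon
    obtain ⟨h1, h2⟩ := hcon
    rw [eval_sub, eval_mul, eval_mul] at hdet
    have ha : a * (α.eval Q * δ.eval Q - β.eval Q * γ.eval Q) = 0 := by
      linear_combination δ.eval Q * h1 - γ.eval Q * h2
    have hb : b * (α.eval Q * δ.eval Q - β.eval Q * γ.eval Q) = 0 := by
      linear_combination α.eval Q * h2 - β.eval Q * h1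
    exact hab.elim (fun hn => hn ((mul_eq_zero.mp ha).resolve_right hdet))
      (fun hn => hn ((mul_eq_zero.mp hb).resolve_right hdet))
  · have hd : ∀ f : R[X], (X - C P) ^ e ∣ expand R p f - C (f.eval Q) := fun f =>
      (pow_dvd_pow _ he).trans (expand_sub_dvd p f P)
    have key : C (a * α.eval Q + b * γ.eval Q) * F₁ + C (a * β.eval Q + b * δ.eval Q) * G₁ =
        (C a * F + C b * G)
          - ((C a * F₁) * (expand R p α - C (α.eval Q)) + (C b * F₁) * (expand R p γ - C (γ.eval Q))
          + (C a * G₁) * (expand R p β - C (β.eval Q)) + (C b * G₁) * (expand R p δ - C (δ.eval Q))) := by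
      subst hF hG
      simp only [S13935.comb, map_add, map_mul]
      ring
    rw [key]
    exact dvd_sub hdvd (dvd_add (dvd_add (dvd_add (Dvd.dvd.mul_left (hd α) _)
      (Dvd.dvd.mul_left (hd γ) _)) (Dvd.dvd.mul_left (hd β) _)) (Dvd.dvd.mul_left (hd δ) _))

variable {n : ℕ}

/-- The data preserved by the descent. -/
structure Data (N : ℕ) (q0 : R) (Rp : R[X]) (P : Fin n → R) (e : Fin n → ℕ) (Z₁ Z₂ : R[X])
    (c : R) (F G : R[X]) : Prop where
  hW : wronskian F G = C c * Rp
  hq : (wronskian (derivative F) (derivative G)).coeff N = c * q0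
  hloc : ∀ i, Loc (P i) (e i) F G
  h₁ : InSpan p F G Z₁
  h₂ : InSpan p F G Z₂

lemma Data.move [IsDomain R] {N : ℕ} {q0 c t : R} {Rp Z₁ Z₂ F G F₁ G₁ α β γ δ : R[X]}
    {P : Fin n → R} {e : Fin n → ℕ} (he : ∀ i, e i ≤ p)
    (h : Data p N q0 Rp P e Z₁ Z₂ (t * c) F G) (ht : t ≠ 0) (hdet : α * δ - β * γ = C t)
    (hF : F = comb p α β F₁ G₁) (hG : G = comb p γ δ F₁ G₁) :
    Data p N q0 Rp P e Z₁ Z₂ c F₁ G₁ where
  hW := by
    have := h.hW
    rw [hF, hG, wronskian_comb, hdet, expand_C, map_mul, mul_assoc] at this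
    exact mul_left_cancel₀ (C_ne_zero.mpr ht) this
  hq := by
    have := h.hq
    rw [hF, hG, derivative_comb, derivative_comb, wronskian_comb, hdet, expand_C, coeff_C_mul,
      mul_assoc] at this
    exact mul_left_cancel₀ ht this
  hloc i := (h.hloc i).comb p (he i) (by rw [hdet, eval_C]; exact ht) hF hG
  h₁ := h.h₁.trans p hF hG
  h₂ := h.h₂.trans p hF hG

omit [Fact p.Prime] [CharP R p] in
lemma wronskian_map {S : Type*} [CommRing S] (φ : R →+* S) (F G : R[X]) :
    (wronskian F G).map φ = wronskian (F.map φ) (G.map φ) := by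
  simp [wronskian, derivative_map]

end basic

section field

variable {k : Type*} [Field k]

lemma exists_SL2_lift {A : Type*} [CommRing A] (π : A →+* k) (hπ : Function.Surjective π)
    (γ δ : k[X]) : IsCoprime γ δ → ∃ α β γ' δ' : A[X], α * δ' - β * γ' = 1 ∧
      ∃ s : k, γ'.map π = C s * γ ∧ δ'.map π = C s * δ := by
  classical
  refine EuclideanDomain.GCD.induction (P := fun γ δ => IsCoprime γ δ →
    ∃ α β γ' δ' : A[X], α * δ' - β * γ' = 1 ∧ ∃ s : k, γ'.map π = C s * γ ∧ δ'.map π = C s * δ)
    γ δ ?_ ?_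
  · intro x hx
    obtain ⟨s, hs, rfl⟩ := Polynomial.isUnit_iff.mp (isCoprime_zero_left.mp hx)
    exact ⟨1, 0, 0, 1, by ring, s⁻¹, by simp, by
      rw [Polynomial.map_one, ← map_mul, inv_mul_cancel₀ hs.ne_zero, map_one]⟩
  · intro a b ha ih hab
    have hmod : b % a = b + a * (-(b / a)) := by
      rw [mul_neg, ← sub_eq_add_neg, EuclideanDomain.mod_eq_sub_mul_div]
    have hc : IsCoprime (b % a) a := by
      rw [hmod]; exact (hab.add_mul_left_right _).symm
    obtain ⟨α, β, r, δ₁, hdet, s, hr, hδ₁⟩ := ih hc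
    obtain ⟨q, hq⟩ := Polynomial.map_surjective π hπ (b / a)
    refine ⟨-β, -(α + q * β), δ₁, r + q * δ₁, by linear_combination hdet, s, hδ₁, ?_⟩
    rw [Polynomial.map_add, Polynomial.map_mul, hr, hδ₁, hq, hmod]
    ring

variable (p : ℕ) [Fact p.Prime] [CharP k p]

lemma exists_coprime_relation (U V : k[X]) (hW : wronskian U V = 0) :
    ∃ γ δ : k[X], IsCoprime γ δ ∧ comb p γ δ U V = 0 := by
  by_cases hV : V = 0
  · exact ⟨0, 1, isCoprime_one_right, by simp [comb, hV]⟩
  obtain ⟨q, rfl⟩ : ∃ q, p = q + 2 :=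
    ⟨p - 2, by have := (Fact.out : p.Prime).two_le; omega⟩
  have hq : ((q + 1 : ℕ) : k[X]) = -1 := by
    have h := CharP.cast_eq_zero k[X] (q + 2)
    push_cast at h ⊢
    linear_combination h
  have hd1 : derivative (V ^ (q + 2)) = 0 := by
    rw [derivative_pow, CharP.cast_eq_zero k (q + 2), map_zero, zero_mul, zero_mul]
  have hd2 : derivative (U * V ^ (q + 1)) = 0 := by
    rw [derivative_mul, derivative_pow, Polynomial.C_eq_natCast, hq,
      show q + 1 - 1 = q from rfl]
    rw [wronskian] at hW
    linear_combination -(V ^ q) * hW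
  have hb : expand k (q + 2) (contract (q + 2) (V ^ (q + 2))) = V ^ (q + 2) :=
    expand_contract (q + 2) hd1 (by omega)
  have ha : expand k (q + 2) (contract (q + 2) (U * V ^ (q + 1))) = U * V ^ (q + 1) :=
    expand_contract (q + 2) hd2 (by omega)
  have hb0 : contract (q + 2) (V ^ (q + 2)) ≠ 0 := by
    intro h
    rw [h, map_zero] at hb
    exact pow_ne_zero _ hV hb.symm
  obtain ⟨b', a', g, hrel, hbg, hag⟩ := UniqueFactorizationMonoid.exists_reduced_factors
    (contract (q + 2) (V ^ (q + 2))) hb0 (-contract (q + 2) (U * V ^ (q + 1)))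
  refine ⟨b', a', isRelPrime_iff_isCoprime.mp hrel, ?_⟩
  have hg : expand k (q + 2) g ≠ 0 := by
    intro h
    rw [← hbg, map_mul, h, zero_mul] at hb
    exact pow_ne_zero _ hV hb.symm
  refine (mul_eq_zero.mp ?_).resolve_left hg
  rw [comb, mul_add, ← mul_assoc, ← mul_assoc, ← map_mul, ← map_mul, hbg, hag, map_neg, hb, ha]
  ring

end field

section descent

variable {A : Type*} [CommRing A] [IsDomain A] [IsDiscreteValuationRing A] (p : ℕ) [Fact p.Prime]
  [CharP A p] {n : ℕ}

lemma map_residue_eq_zero {i : A} (hi : Irreducible i) (Z : A[X])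
    (h : Z.map (IsLocalRing.residue A) = 0) : C i ∣ Z := by
  rw [C_dvd_iff_dvd_coeff]
  intro j
  have hj := congrArg (fun f => f.coeff j) h
  simp only [coeff_map, coeff_zero, IsLocalRing.residue_eq_zero_iff, hi.maximalIdeal_eq,
    Ideal.mem_span_singleton] at hj
  exact hj

lemma descend [CharP (IsLocalRing.ResidueField A) p] {N : ℕ} {q0 : A} {Rp Z₁ Z₂ : A[X]}
    {P : Fin n → A} {e : Fin n → ℕ} (he : ∀ i, e i ≤ p) (c : A) : c ≠ 0 →
    ∀ F G, Data p N q0 Rp P e Z₁ Z₂ c F G →
      ∃ c' F' G', IsUnit c' ∧ Data p N q0 Rp P e Z₁ Z₂ c' F' G' := by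
  induction c using WfDvdMonoid.induction_on_irreducible with
  | zero => exact fun h => absurd rfl h
  | unit u hu => exact fun _ F G h => ⟨u, F, G, hu, h⟩
  | mul c i hc0 hi ih =>
    intro _ F G h
    let π := IsLocalRing.residue A
    have hWb : wronskian (F.map π) (G.map π) = 0 := by
      rw [← wronskian_map, h.hW, Polynomial.map_mul, map_C]
      have : π i = 0 := by
        rw [IsLocalRing.residue_eq_zero_iff, hi.maximalIdeal_eq]
        exact Ideal.mem_span_singleton_self i
      rw [map_mul, this, zero_mul, map_zero, zero_mul]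
    obtain ⟨γ₀, δ₀, hcop, hrel⟩ := exists_coprime_relation p (F.map π) (G.map π) hWb
    obtain ⟨α, β, γ, δ, hdet, s, hγ, hδ⟩ :=
      exists_SL2_lift π IsLocalRing.residue_surjective γ₀ δ₀ hcop
    obtain ⟨G₁, hG₁⟩ := map_residue_eq_zero hi (comb p γ δ F G) (by
      rw [comb, Polynomial.map_add, Polynomial.map_mul, Polynomial.map_mul, map_expand, map_expand,
        hγ, hδ, map_mul, map_mul, expand_C, mul_assoc, mul_assoc, ← mul_add]
      rw [comb] at hrel
      rw [hrel, mul_zero])
    have hd' : expand A p α * expand A p δ - expand A p β * expand A p γ = 1 := by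
      rw [← map_mul, ← map_mul, ← map_sub, hdet, map_one]
    refine ih hc0 (comb p α β F G) G₁ (Data.move p he h hi.ne_zero (α := δ) (β := -(C i * β))
      (γ := -γ) (δ := C i * α) ?_ ?_ ?_)
    · linear_combination C i * hdet
    · simp only [comb, map_neg, map_mul, expand_C] at hG₁ ⊢
      linear_combination -expand A p β * hG₁ - F * hd'
    · simp only [comb, map_neg, map_mul, expand_C] at hG₁ ⊢
      linear_combination expand A p α * hG₁ - G * hd'

end descent

section degree

variable {R : Type*} [CommRing R]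

lemma coeff_mul_deriv {a b : R[X]} {i j N : ℕ} (ha : a.natDegree ≤ i) (hb : b.natDegree ≤ j)
    (hN : N + 1 = i + j) : (a * derivative b).coeff N = a.coeff i * b.coeff j * (j : R) := by
  cases j with
  | zero =>
    rw [derivative_of_natDegree_zero (by omega), mul_zero, coeff_zero, Nat.cast_zero, mul_zero]
  | succ j =>
    obtain rfl : N = i + j := by omega
    rw [coeff_mul_add_eq_of_natDegree_le ha
      ((natDegree_derivative_le b).trans (by omega)), coeff_derivative]
    push_cast
    ring

lemma coeff_wronskian {a b : R[X]} {i j N : ℕ} (ha : a.natDegree ≤ i) (hb : b.natDegree ≤ j)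
    (hN : N + 1 = i + j) :
    (wronskian a b).coeff N = a.coeff i * b.coeff j * ((j : R) - i) := by
  rw [wronskian, coeff_sub, coeff_mul_deriv ha hb hN, mul_comm (derivative a) b,
    coeff_mul_deriv hb ha (by omega)]
  ring

lemma coeff_wronskian_derivative {a b : R[X]} {i j N : ℕ} (ha : a.natDegree ≤ i)
    (hb : b.natDegree ≤ j) (hN : N + 3 = i + j) :
    (wronskian (derivative a) (derivative b)).coeff N =
      a.coeff i * b.coeff j * (i : R) * (j : R) * ((j : R) - i) := by
  cases i with
  | zero => rw [derivative_of_natDegree_zero (p := a) (by omega)]; simp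
  | succ i =>
    cases j with
    | zero => rw [derivative_of_natDegree_zero (p := b) (by omega)]; simp
    | succ j =>
      rw [coeff_wronskian (i := i) (j := j) ((natDegree_derivative_le a).trans (by omega))
        ((natDegree_derivative_le b).trans (by omega)) (by omega), coeff_derivative, coeff_derivative]
      push_cast
      ring

lemma natDegree_wronskian_le {a b : R[X]} {i j : ℕ} (ha : a.natDegree ≤ i) (hb : b.natDegree ≤ j) :
    (wronskian a b).natDegree ≤ i + j - 1 := by
  by_cases h : wronskian a b = 0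
  · simp [h]
  · have := natDegree_wronskian_lt_add h
    omega

lemma natDegree_le_pred_of_coeff {a : R[X]} {d : ℕ} (ha : a.natDegree ≤ d) (h : a.coeff d = 0) :
    a.natDegree ≤ d - 1 := by
  rw [natDegree_le_iff_coeff_eq_zero]
  intro m hm
  by_cases hmd : m = d
  · rw [hmd, h]
  · exact coeff_eq_zero_of_natDegree_lt (by omega)

lemma wronskian_C_mul_sub (x y : R) (F G : R[X]) :
    wronskian (C x * F - C y * G) G = C x * wronskian F G := by
  simp [wronskian]; ring

lemma natDegree_C_mul_sub_le {F G : R[X]} {d : ℕ} (hF : F.natDegree ≤ d) (hG : G.natDegree ≤ d) :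
    (C (G.coeff d) * F - C (F.coeff d) * G).natDegree ≤ d - 1 := by
  refine natDegree_le_pred_of_coeff ((natDegree_sub_le _ _).trans
    (max_le ((natDegree_C_mul_le _ _).trans hF) ((natDegree_C_mul_le _ _).trans hG))) ?_
  simp [mul_comm]

lemma natDegree_wronskian_le_two_mul [IsDomain R] {F G : R[X]} {d : ℕ} (hF : F.natDegree ≤ d)
    (hG : G.natDegree ≤ d) : (wronskian F G).natDegree ≤ 2 * d - 2 := by
  by_cases hg : G.coeff d = 0
  · have := natDegree_wronskian_le hF (natDegree_le_pred_of_coeff hG hg)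
    omega
  · have h := natDegree_wronskian_le (natDegree_C_mul_sub_le hF hG) hG
    rw [wronskian_C_mul_sub, natDegree_C_mul hg] at h
    omega

lemma coeff_top_relation [IsDomain R] {F G : R[X]} {d : ℕ} (hd : 1 ≤ d) (hF : F.natDegree ≤ d)
    (hG : G.natDegree ≤ d) :
    (wronskian (derivative F) (derivative G)).coeff (2 * d - 4) =
      (d : R) * ((d : R) - 1) * (wronskian F G).coeff (2 * d - 2) := by
  obtain ⟨d, rfl⟩ : ∃ d', d = d' + 1 := ⟨d - 1, by omega⟩
  cases d with
  | zero =>
    have h1 : ∀ Z : R[X], Z.natDegree ≤ 1 → derivative (derivative Z) = 0 := fun Z hZ =>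
      derivative_of_natDegree_zero (by have := natDegree_derivative_le Z; omega)
    simp [wronskian, h1 F hF, h1 G hG]
  | succ d =>
    by_cases hg : G.coeff (d + 1 + 1) = 0
    · have hG' := natDegree_le_pred_of_coeff hG hg
      rw [coeff_wronskian_derivative hF hG' (by omega), coeff_wronskian hF hG' (by omega),
        show d + 1 + 1 - 1 = d + 1 from rfl]
      push_cast
      ring
    · have hF' := natDegree_C_mul_sub_le hF hG
      have h1 := coeff_wronskian_derivative hF' hG (N := 2 * (d + 1 + 1) - 4) (by omega)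
      have h2 := coeff_wronskian hF' hG (N := 2 * (d + 1 + 1) - 2) (by omega)
      rw [derivative_sub, derivative_C_mul, derivative_C_mul, wronskian_C_mul_sub, coeff_C_mul] at h1
      rw [wronskian_C_mul_sub, coeff_C_mul] at h2
      refine mul_left_cancel₀ hg ?_
      rw [show d + 1 + 1 - 1 = d + 1 from rfl] at h1 h2
      push_cast at h1 h2 ⊢
      linear_combination h1 - ((d : R) + 1 + 1) * ((d : R) + 1 + 1 - 1) * h2

end degree

section reduce

variable {k : Type*} [Field k] (p : ℕ) [Fact p.Prime] [CharP k p] {n : ℕ}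

lemma reduce {N : ℕ} {q0 l : k} {Rp Z₁ Z₂ : k[X]} {P : Fin n → k} {e : Fin n → ℕ}
    (he : ∀ i, e i ≤ p) (hl : C l * Rp ≠ 0) : ∀ (S : ℕ) (U V : k[X]),
    U.natDegree + V.natDegree = S → Data p N q0 Rp P e Z₁ Z₂ l U V →
    ∃ U' V', Data p N q0 Rp P e Z₁ Z₂ l U' V' ∧ U'.natDegree < V'.natDegree ∧
      U'.natDegree % p ≠ V'.natDegree % p := by
  intro S
  induction S using Nat.strong_induction_on with
  | _ S ih =>
    intro U V hS h
    have key : ∀ U V : k[X], Data p N q0 Rp P e Z₁ Z₂ l U V →
        U.natDegree + V.natDegree = S → U.natDegree ≤ V.natDegree →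
        ∃ U' V', Data p N q0 Rp P e Z₁ Z₂ l U' V' ∧ U'.natDegree < V'.natDegree ∧
          U'.natDegree % p ≠ V'.natDegree % p := by
      intro U V h hS huv
      by_cases hmod : U.natDegree % p = V.natDegree % p
      swap
      · exact ⟨U, V, h, lt_of_le_of_ne huv (fun he' => hmod (by rw [he'])), hmod⟩
      have hW0 : wronskian U V ≠ 0 := h.hW ▸ hl
      have hlt := natDegree_wronskian_lt_add hW0
      have hU : U ≠ 0 := fun h0 => hW0 (by rw [h0, wronskian_zero_left])
      obtain ⟨j, hj⟩ := (Nat.modEq_iff_dvd' huv).mp hmod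
      let r := V.leadingCoeff / U.leadingCoeff
      let V₁ := V - C r * X ^ (p * j) * U
      have hr : r ≠ 0 ∨ V.natDegree = 0 := by
        by_cases hV : V = 0
        · right; simp [hV]
        · left; exact div_ne_zero (leadingCoeff_ne_zero.mpr hV) (leadingCoeff_ne_zero.mpr hU)
      have hle : V₁.natDegree ≤ V.natDegree := by
        refine (natDegree_sub_le _ _).trans (max_le le_rfl (natDegree_mul_le.trans ?_))
        have := natDegree_C_mul_X_pow_le r (p * j)
        omega
      have hcoeff : V₁.coeff V.natDegree = 0 := by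
        have h1 : (C r * X ^ (p * j) * U).coeff V.natDegree = r * U.leadingCoeff := by
          rw [mul_assoc, coeff_C_mul, show V.natDegree = U.natDegree + p * j by omega,
            coeff_X_pow_mul]
          rfl
        rw [coeff_sub, h1, div_mul_cancel₀ _ (leadingCoeff_ne_zero.mpr hU)]
        exact sub_self _
      have hlt' : V₁.natDegree < V.natDegree := by
        refine lt_of_le_of_ne hle fun heq => ?_
        have h0 : V₁ = 0 := leadingCoeff_eq_zero.mp (by rw [leadingCoeff, heq, hcoeff])
        rw [h0, natDegree_zero] at heq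
        omega
      have hV₁ : Data p N q0 Rp P e Z₁ Z₂ l U V₁ := by
        refine Data.move p he (t := 1) ((one_mul l).symm ▸ h) one_ne_zero (α := 1) (β := 0)
          (γ := C r * X ^ j) (δ := 1) ?_ ?_ ?_
        · rw [map_one]; ring
        · simp [comb]
        · simp only [comb, map_mul, map_pow, expand_C, expand_X, map_one, one_mul, V₁, ← pow_mul]
          ring
      exact ih _ (by omega) U V₁ rfl hV₁
    rcases le_total U.natDegree V.natDegree with huv | huv
    · exact key U V h hS huv
    · refine key V (-U) ?_ (by rw [natDegree_neg]; omega) (by rwa [natDegree_neg])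
      refine Data.move p he (t := 1) ((one_mul l).symm ▸ h) one_ne_zero (α := 0) (β := -1)
        (γ := 1) (δ := 0) ?_ ?_ ?_
      · rw [map_one]; ring
      · simp [comb]
      · simp [comb]

lemma Loc.pow_dvd_wronskian {P : k} {e : ℕ} {F G : k[X]} (h : Loc P e F G) :
    (X - C P) ^ (e - 1) ∣ wronskian F G := by
  obtain ⟨a, b, hab, hs⟩ := h
  have hs' : (X - C P) ^ (e - 1) ∣ C a * derivative F + C b * derivative G := by
    have := pow_sub_one_dvd_derivative_of_pow_dvd hs
    rwa [derivative_add, derivative_C_mul, derivative_C_mul] at this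
  have hs1 := (pow_dvd_pow _ (Nat.sub_le e 1)).trans hs
  rcases hab with ha | hb
  · refine ((isUnit_C.mpr ha.isUnit).dvd_mul_left).mp ?_
    rw [show C a * wronskian F G = (C a * F + C b * G) * derivative G -
        (C a * derivative F + C b * derivative G) * G by rw [wronskian]; ring]
    exact dvd_sub (hs1.mul_right _) (hs'.mul_right _)
  · refine ((isUnit_C.mpr hb.isUnit).dvd_mul_left).mp ?_
    rw [show C b * wronskian F G = F * (C a * derivative F + C b * derivative G) -
        derivative F * (C a * F + C b * G) by rw [wronskian]; ring]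
    exact dvd_sub (hs'.mul_left _) (hs1.mul_left _)

lemma pow_dvd_wronskian_of_root {P : k} {e : ℕ} {F G : k[X]} (he : 1 ≤ e) (h : Loc P e F G)
    (hF : F.eval P = 0) (hG : G.eval P = 0) : (X - C P) ^ e ∣ wronskian F G := by
  obtain ⟨a, b, hab, hs⟩ := h
  have hs' : (X - C P) ^ (e - 1) ∣ C a * derivative F + C b * derivative G := by
    have := pow_sub_one_dvd_derivative_of_pow_dvd hs
    rwa [derivative_add, derivative_C_mul, derivative_C_mul] at this
  have hpow : (X - C P) ^ e = (X - C P) * (X - C P) ^ (e - 1) := by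
    rw [← pow_succ', Nat.sub_add_cancel he]
  rcases hab with ha | hb
  · refine ((isUnit_C.mpr ha.isUnit).dvd_mul_left).mp ?_
    rw [show C a * wronskian F G = (C a * F + C b * G) * derivative G -
        G * (C a * derivative F + C b * derivative G) by rw [wronskian]; ring]
    exact dvd_sub (hs.mul_right _) (hpow ▸ mul_dvd_mul (dvd_iff_isRoot.mpr hG) hs')
  · refine ((isUnit_C.mpr hb.isUnit).dvd_mul_left).mp ?_
    rw [show C b * wronskian F G = F * (C a * derivative F + C b * derivative G) -
        derivative F * (C a * F + C b * G) by rw [wronskian]; ring]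
    exact dvd_sub (hpow ▸ mul_dvd_mul (dvd_iff_isRoot.mpr hF) hs') (hs.mul_left _)

lemma eq_C_of_natDegree_le {d : ℕ} {U V Z a b : k[X]} (hU0 : U ≠ 0) (hV0 : V ≠ 0)
    (hu : U.natDegree + 1 = d) (hv : V.natDegree = d)
    (hmod : U.natDegree % p ≠ V.natDegree % p) (hZ : Z.natDegree ≤ d)
    (h : Z = comb p a b U V) : Z = C (a.coeff 0) * U + C (b.coeff 0) * V := by
  have hp := (Fact.out : p.Prime).two_le
  have hpp : 0 < p := by omega
  have deg : ∀ (f W : k[X]), f ≠ 0 → W ≠ 0 →
      (expand k p f * W).natDegree = f.natDegree * p + W.natDegree := fun f W hf hW => by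
    rw [natDegree_mul ((expand_ne_zero hpp).mpr hf) hW, natDegree_expand]
  have hbound : (a = 0 ∨ a.natDegree * p + U.natDegree ≤ d) ∧
      (b = 0 ∨ b.natDegree * p + V.natDegree ≤ d) := by
    by_cases ha : a = 0
    · refine ⟨Or.inl ha, ?_⟩
      by_cases hb : b = 0
      · exact Or.inl hb
      · right
        rw [h, comb, ha, map_zero, zero_mul, zero_add, deg b V hb hV0] at hZ
        exact hZ
    · by_cases hb : b = 0
      · refine ⟨Or.inr ?_, Or.inl hb⟩
        rw [h, comb, hb, map_zero, zero_mul, add_zero, deg a U ha hU0] at hZ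
        exact hZ
      · have hne : a.natDegree * p + U.natDegree ≠ b.natDegree * p + V.natDegree := by
          intro he'
          have h' := congrArg (· % p) he'
          simp only [Nat.mul_add_mod_self_right] at h'
          exact hmod h'
        rw [h, comb] at hZ
        rcases lt_or_gt_of_ne hne with hlt | hlt
        · rw [natDegree_add_eq_right_of_natDegree_lt (by rw [deg a U ha hU0, deg b V hb hV0]; exact hlt),
            deg b V hb hV0] at hZ
          exact ⟨Or.inr (by omega), Or.inr hZ⟩
        · rw [natDegree_add_eq_left_of_natDegree_lt (by rw [deg a U ha hU0, deg b V hb hV0]; exact hlt),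
            deg a U ha hU0] at hZ
          exact ⟨Or.inr hZ, Or.inr (by omega)⟩
  have ha0 : a.natDegree = 0 := by
    rcases hbound.1 with rfl | h'
    · simp
    · by_contra hne
      have := Nat.le_mul_of_pos_left p (Nat.pos_of_ne_zero hne)
      omega
  have hb0 : b.natDegree = 0 := by
    rcases hbound.2 with rfl | h'
    · simp
    · by_contra hne
      have := Nat.le_mul_of_pos_left p (Nat.pos_of_ne_zero hne)
      omega
  rw [h, comb, eq_C_of_natDegree_eq_zero ha0, eq_C_of_natDegree_eq_zero hb0]
  simp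

end reduce

section final

variable {k : Type*} [Field k] (p : ℕ) [Fact p.Prime] [CharP k p] {n : ℕ}

lemma exists_pencil {d : ℕ} {l : k} {Z₁ Z₂ U V : k[X]} {P : Fin n → k} {e : Fin n → ℕ}
    (hl : l ≠ 0) (hd : 1 ≤ d) (he : ∀ i, 2 ≤ e i ∧ e i ≤ p)
    (hsum : ∑ i, (e i - 1) = 2 * d - 2) (hP : Function.Injective P)
    (hZ₁ : Z₁.natDegree ≤ d) (hZ₂ : Z₂.natDegree ≤ d)
    (hind : LinearIndependent k ![Z₁, Z₂]) (hinsep : wronskian Z₁ Z₂ = 0)
    (h : Data p (2 * d - 4) ((d : k) * ((d : k) - 1)) (∏ i, (X - C (P i)) ^ (e i - 1)) P e Z₁ Z₂ l U V) :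
    ∃ m ε : ℕ, 1 ≤ m ∧ m * p ≤ d ∧ ε ≤ 1 ∧
      ∃ W ∈ ramMaps (d + m * p - 1 + ε) P e,
        HasRamIdxInf (d + m * p - 1 + ε) W (2 * m * p - 1 + 2 * ε) := by
  classical
  set Rp : k[X] := ∏ i, (X - C (P i)) ^ (e i - 1) with hRp
  have hmon : Rp.Monic := monic_prod_of_monic _ _ fun i _ => (monic_X_sub_C _).pow _
  have hdegR : Rp.natDegree = 2 * d - 2 := by
    rw [hRp, natDegree_prod_of_monic _ _ fun i _ => (monic_X_sub_C _).pow _, ← hsum]
    simp
  have hlR : C l * Rp ≠ 0 := mul_ne_zero (C_ne_zero.mpr hl) hmon.ne_zero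
  obtain ⟨U, V, h, huv, hmod⟩ := reduce p (fun i => (he i).2) hlR _ U V rfl h
  have hW0 : wronskian U V ≠ 0 := h.hW ▸ hlR
  have hU0 : U ≠ 0 := fun h0 => hW0 (by rw [h0, wronskian_zero_left])
  have hV0 : V ≠ 0 := fun h0 => hW0 (by rw [h0, wronskian_zero_right])
  have hne : ((V.natDegree : k) - U.natDegree) ≠ 0 := by
    intro h0
    exact hmod ((CharP.natCast_eq_natCast k p).mp (sub_eq_zero.mp h0)).symm
  have hcW := coeff_wronskian (le_refl U.natDegree) (le_refl V.natDegree)
    (N := U.natDegree + V.natDegree - 1) (by omega)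
  rw [h.hW, coeff_C_mul] at hcW
  have hdeg : U.natDegree + V.natDegree - 1 = 2 * d - 2 := by
    have h1 : U.natDegree + V.natDegree - 1 ≤ 2 * d - 2 := by
      rw [← hdegR]
      refine le_natDegree_of_ne_zero fun h0 => ?_
      rw [h0, mul_zero] at hcW
      exact mul_ne_zero (mul_ne_zero (leadingCoeff_ne_zero.mpr hU0)
        (leadingCoeff_ne_zero.mpr hV0)) hne hcW.symm
    have h2 := natDegree_wronskian_le (le_refl U.natDegree) (le_refl V.natDegree)
    rw [h.hW, natDegree_C_mul hl, hdegR] at h2
    omega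
  rw [hdeg, ← hdegR, hmon.coeff_natDegree, mul_one] at hcW
  have hexcl : U.natDegree + 1 ≠ d := by
    intro hu
    obtain ⟨a, b, hab⟩ := h.h₁
    obtain ⟨a', b', hab'⟩ := h.h₂
    have e₁ := eq_C_of_natDegree_le p hU0 hV0 hu (by omega) hmod hZ₁ hab
    have e₂ := eq_C_of_natDegree_le p hU0 hV0 hu (by omega) hmod hZ₂ hab'
    set x := a.coeff 0
    set y := b.coeff 0
    set z := a'.coeff 0
    set w := b'.coeff 0
    have hdet0 : C (x * w - y * z) * wronskian U V = 0 := by
      rw [← hinsep, e₁, e₂]
      simp [wronskian]; ring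
    have hdet : x * w - y * z = 0 := C_eq_zero.mp ((mul_eq_zero.mp hdet0).resolve_right hW0)
    have hpair := LinearIndependent.pair_iff.mp hind
    have c1 : w • Z₁ + (-y) • Z₂ = 0 := by
      rw [e₁, e₂, smul_eq_C_mul, smul_eq_C_mul, map_neg]
      linear_combination U * (congrArg C hdet).trans (map_zero C) - U * map_sub C (x * w) (y * z) +
        U * (map_mul C y z - map_mul C x w)
    obtain ⟨hw, hy⟩ := hpair _ _ c1
    have c2 : z • Z₁ + (-x) • Z₂ = 0 := by
      rw [e₁, e₂, smul_eq_C_mul, smul_eq_C_mul, map_neg]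
      rw [neg_eq_zero] at hy
      rw [hw, hy, map_zero]
      ring
    obtain ⟨hz, hx⟩ := hpair _ _ c2
    rw [neg_eq_zero] at hx hy
    have : Z₁ = 0 := by rw [e₁, hx, hy, map_zero, zero_mul, zero_mul, add_zero]
    exact hind.ne_zero 0 (by simpa using this)
  have hd2 : 2 ≤ d := by omega
  have hcq := coeff_wronskian_derivative (le_refl U.natDegree) (le_refl V.natDegree)
    (N := 2 * d - 4) (by omega)
  rw [h.hq] at hcq
  set u := U.natDegree with hu
  set v := V.natDegree with hv
  have hsumk : (u : k) + v = 2 * (d : k) - 1 := by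
    have : u + v + 1 = 2 * d := by omega
    have h' := congrArg (fun x : ℕ => (x : k)) this
    push_cast at h'
    linear_combination h'
  have hprod : ((d - u : ℕ) : k) * ((d - 1 - u : ℕ) : k) = 0 := by
    rw [Nat.cast_sub (by omega), Nat.cast_sub (by omega), Nat.cast_sub (by omega), Nat.cast_one]
    have huv' : (u : k) * v = (d : k) * ((d : k) - 1) := by
      refine mul_left_cancel₀ hl ?_
      rw [hcq]
      linear_combination ((u : k) * v) * hcW
    linear_combination -huv' + (u : k) * hsumk
  obtain ⟨m, ε, hε, hm, hu_eq⟩ : ∃ m ε : ℕ, ε ≤ 1 ∧ 1 ≤ m ∧ u + (m * p + ε) = d := by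
    rcases mul_eq_zero.mp hprod with h0 | h0
    · obtain ⟨m, hm⟩ := (CharP.cast_eq_zero_iff k p _).mp h0
      refine ⟨m, 0, by omega, ?_, by rw [mul_comm]; omega⟩
      rcases Nat.eq_zero_or_pos m with rfl | hm'
      · rw [mul_zero] at hm; omega
      · exact hm'
    · obtain ⟨m, hm⟩ := (CharP.cast_eq_zero_iff k p _).mp h0
      refine ⟨m, 1, le_rfl, ?_, by rw [mul_comm]; omega⟩
      rcases Nat.eq_zero_or_pos m with rfl | hm'
      · rw [mul_zero] at hm; omega
      · exact hm'
  refine ⟨m, ε, hm, by omega, hε, Submodule.span k {U, V}, ?_, ?_⟩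
  · have hD : d + m * p - 1 + ε = v := by omega
    rw [hD]
    have hlin : LinearIndependent k ![U, V] := by
      rw [LinearIndependent.pair_iff]
      intro s t hst
      rw [smul_eq_C_mul, smul_eq_C_mul] at hst
      have hd' : C s * derivative U + C t * derivative V = 0 := by
        have := congrArg derivative hst
        rwa [derivative_add, derivative_C_mul, derivative_C_mul, derivative_zero] at this
      have hs : C s * wronskian U V = 0 := by
        rw [show C s * wronskian U V = (C s * U + C t * V) * derivative V -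
          (C s * derivative U + C t * derivative V) * V by rw [wronskian]; ring, hst, hd']
        ring
      have ht : C t * wronskian U V = 0 := by
        rw [show C t * wronskian U V = U * (C s * derivative U + C t * derivative V) -
          derivative U * (C s * U + C t * V) by rw [wronskian]; ring, hst, hd']
        ring
      exact ⟨C_eq_zero.mp ((mul_eq_zero.mp hs).resolve_right hW0),
        C_eq_zero.mp ((mul_eq_zero.mp ht).resolve_right hW0)⟩
    have hUmem : U ∈ Submodule.span k {U, V} := Submodule.subset_span (by simp)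
    have hVmem : V ∈ Submodule.span k {U, V} := Submodule.subset_span (by simp)
    have hRnot : ∀ i, ¬ (X - C (P i)) ^ (e i) ∣ wronskian U V := by
      intro i hdvd
      rw [h.hW, (isUnit_C.mpr hl.isUnit).dvd_mul_left, hRp,
        ← Finset.mul_prod_erase _ _ (Finset.mem_univ i)] at hdvd
      have hsplit : (X - C (P i)) ^ (e i) = (X - C (P i)) ^ (e i - 1) * (X - C (P i)) := by
        rw [← pow_succ, Nat.sub_add_cancel (by have := (he i).1; omega)]
      rw [hsplit, mul_dvd_mul_iff_left (pow_ne_zero _ (X_sub_C_ne_zero _)),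
        dvd_iff_isRoot, IsRoot, eval_prod, Finset.prod_eq_zero_iff] at hdvd
      obtain ⟨j, hj, hj0⟩ := hdvd
      rw [eval_pow, eval_sub, eval_X, eval_C] at hj0
      exact (Finset.mem_erase.mp hj).1 (hP (sub_eq_zero.mp (eq_zero_of_pow_eq_zero hj0))).symm
    refine ⟨⟨?_, ?_, ⟨V, hVmem, rfl⟩, ?_⟩, ⟨U, hUmem, V, hVmem, hW0⟩, fun i => ⟨?_, ?_⟩⟩
    · rw [Submodule.span_le]
      rintro s (rfl | rfl)
      · exact mem_degreeLE.mpr (degree_le_natDegree.trans (by exact_mod_cast huv.le))
      · exact mem_degreeLE.mpr degree_le_natDegree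
    · have := finrank_span_eq_card hlin
      rwa [Matrix.range_cons_cons_empty, Fintype.card_fin] at this
    · intro x
      by_contra hcon
      push_neg at hcon
      have hUx := hcon U hUmem
      have hVx := hcon V hVmem
      by_cases hx : ∃ i, P i = x
      · obtain ⟨i, rfl⟩ := hx
        exact hRnot i (pow_dvd_wronskian_of_root (by have := (he i).1; omega) (h.hloc i) hUx hVx)
      · have h0 : (wronskian U V).eval x = 0 := by simp [wronskian, hUx, hVx]
        rw [h.hW, eval_mul, eval_C, mul_eq_zero, hRp, eval_prod, Finset.prod_eq_zero_iff] at h0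
        rcases h0 with h0 | ⟨j, -, hj0⟩
        · exact hl h0
        · rw [eval_pow, eval_sub, eval_X, eval_C] at hj0
          exact hx ⟨j, (sub_eq_zero.mp (eq_zero_of_pow_eq_zero hj0)).symm⟩
    · obtain ⟨a, b, hab, hdvd⟩ := h.hloc i
      refine ⟨C a * U + C b * V, Submodule.mem_span_pair.mpr ⟨a, b, by
        rw [smul_eq_C_mul, smul_eq_C_mul]⟩, fun h0 => ?_, ?_⟩
      · rw [← smul_eq_C_mul, ← smul_eq_C_mul] at h0
        obtain ⟨ha, hb⟩ := LinearIndependent.pair_iff.mp hlin a b h0
        exact hab.elim (fun h' => h' ha) (fun h' => h' hb)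
      · refine (le_rootMultiplicity_iff (fun h0 => ?_)).mpr hdvd
        rw [← smul_eq_C_mul, ← smul_eq_C_mul] at h0
        obtain ⟨ha, hb⟩ := LinearIndependent.pair_iff.mp hlin a b h0
        exact hab.elim (fun h' => h' ha) (fun h' => h' hb)
    · intro s hs hs0
      obtain ⟨a, b, rfl⟩ := Submodule.mem_span_pair.mp hs
      by_contra hcon
      push_neg at hcon
      have hdvd := (le_rootMultiplicity_iff hs0).mp (Nat.succ_le_of_lt hcon)
      rw [smul_eq_C_mul, smul_eq_C_mul] at hdvd hs0
      have hab : a ≠ 0 ∨ b ≠ 0 := by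
        by_contra h'
        push_neg at h'
        exact hs0 (by rw [h'.1, h'.2]; simp)
      have := Loc.pow_dvd_wronskian (e := e i + 1) ⟨a, b, hab, hdvd⟩
      exact hRnot i this
  · have hD : d + m * p - 1 + ε = v := by omega
    have hE : 2 * m * p - 1 + 2 * ε = v - u := by
      rw [show 2 * m * p = 2 * (m * p) by ring]; omega
    rw [hD, hE]
    refine ⟨⟨U, Submodule.subset_span (by simp), hU0, by rw [← hu]; omega⟩, ?_⟩
    intro s hs hs0
    obtain ⟨a, b, rfl⟩ := Submodule.mem_span_pair.mp hs
    by_cases hb : b = 0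
    · subst hb
      have ha : a ≠ 0 := by rintro rfl; simp at hs0
      rw [zero_smul, add_zero, natDegree_smul _ ha, ← hu]
      omega
    · have hlt : (a • U).natDegree < (b • V).natDegree :=
        ((natDegree_smul_le a U).trans_lt huv).trans_eq (natDegree_smul _ hb).symm
      rw [natDegree_add_eq_right_of_natDegree_lt hlt, natDegree_smul _ hb]
      omega

end final

section generic

variable {A : Type*} [CommRing A] [IsDomain A] [IsDiscreteValuationRing A]

lemma Loc.map_residue {P : A} {e : ℕ} {F G : A[X]} (h : Loc P e F G) :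
    Loc (IsLocalRing.residue A P) e (F.map (IsLocalRing.residue A))
      (G.map (IsLocalRing.residue A)) := by
  obtain ⟨a, b, hab, hdvd⟩ := h
  have key : ∀ (a b : A) (F G : A[X]), a ≠ 0 → a ∣ b → (X - C P) ^ e ∣ C a * F + C b * G →
      ∃ q : A, (X - C P) ^ e ∣ F + C q * G := by
    rintro a _ F G ha ⟨q, rfl⟩ hd
    refine ⟨q, ?_⟩
    rw [← modByMonic_eq_zero_iff_dvd ((monic_X_sub_C P).pow e)] at hd ⊢
    rw [map_mul, mul_assoc, ← mul_add, ← smul_eq_C_mul, smul_modByMonic] at hd
    exact (smul_eq_zero.mp hd).resolve_left ha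
  rcases ValuationRing.dvd_total a b with hdiv | hdiv
  · have ha : a ≠ 0 := by
      rintro rfl
      exact hab.elim (fun h' => h' rfl) (fun h' => h' (zero_dvd_iff.mp hdiv))
    obtain ⟨q, hq⟩ := key a b F G ha hdiv hdvd
    refine ⟨1, IsLocalRing.residue A q, Or.inl one_ne_zero, ?_⟩
    have := Polynomial.map_dvd (IsLocalRing.residue A) hq
    simpa using this
  · have hb : b ≠ 0 := by
      rintro rfl
      exact hab.elim (fun h' => h' (zero_dvd_iff.mp hdiv)) (fun h' => h' rfl)
    obtain ⟨q, hq⟩ := key b a G F hb hdiv (by rwa [add_comm])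
    refine ⟨IsLocalRing.residue A q, 1, Or.inr one_ne_zero, ?_⟩
    have := Polynomial.map_dvd (IsLocalRing.residue A) hq
    simpa [add_comm] using this

end generic


open Polynomial in
/-- Let A be a discrete valuation ring of prime characteristic p containing a coefficient field — a
subfield k₀ ⊆ A mapping isomorphically onto the residue field k, which is algebraically closed —
with fraction field K. Let F, G ∈ A[x] have degree at most d and k-linearly independent reductions,
so that ⟨F, G⟩ is a family of pencils over Spec A; suppose F and G are coprime over K and the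
generic member ⟨F, G⟩ ⊗ K is a base-point-free separable pencil of degree d with ramification index
exactly e_i at points P_1, …, P_n ∈ A of the affine line (admissible data: 2 ≤ e_i ≤ d, ∑ (e_i − 1)
= 2d − 2, and every e_i < p), while its special member ⟨F̄, Ḡ⟩ over k is inseparable. If the
reductions P̄_i ∈ k are pairwise distinct, then they are in special position in the following sense:
for some integer m ≥ 1 with mp ≤ d and some ε ∈ {0, 1} there is a base-point-free separable pencil
over k of degree d + mp − 1 + ε with ramification index exactly e_i at P̄_i for each i and exactly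
2mp − 1 + 2ε at infinity. (The companion case in which two of the sections meet in the special fibre
is not restated.) -/
theorem result
    (p : ℕ) [Fact p.Prime] (k₀ : Type u) [Field k₀]
    (A : Type u) [CommRing A] [IsDomain A] [IsDiscreteValuationRing A] [CharP A p] [Algebra k₀ A]
    (hcoef : Function.Bijective (algebraMap k₀ (IsLocalRing.ResidueField A)))
    [IsAlgClosed (IsLocalRing.ResidueField A)]
    (K : Type u) [Field K] [Algebra A K] [IsFractionRing A K]
    (d n : ℕ) (e : Fin n → ℕ) (he : W4c1limliniiii.Admissible p d e) (hlt : ∀ i, e i < p)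
    (P : Fin n → A) (F G : A[X]) (hF : F.natDegree ≤ d) (hG : G.natDegree ≤ d)
    (hind : LinearIndependent (IsLocalRing.ResidueField A)
      ![F.map (IsLocalRing.residue A), G.map (IsLocalRing.residue A)])
    (hcop : IsCoprime (F.map (algebraMap A K)) (G.map (algebraMap A K)))
    (hgen : Submodule.span K {F.map (algebraMap A K), G.map (algebraMap A K)} ∈
      W4c1limliniiii.ramMaps d (fun i => algebraMap A K (P i)) e)
    (hinsep : ¬ W4c1limliniiii.IsSeparable
      (Submodule.span (IsLocalRing.ResidueField A)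
        {F.map (IsLocalRing.residue A), G.map (IsLocalRing.residue A)}))
    (hdist : Function.Injective (fun i => IsLocalRing.residue A (P i))) :
    ∃ m ε : ℕ, 1 ≤ m ∧ m * p ≤ d ∧ ε ≤ 1 ∧
      ∃ V ∈ W4c1limliniiii.ramMaps (d + m * p - 1 + ε) (fun i => IsLocalRing.residue A (P i)) e,
        W4c1limliniiii.HasRamIdxInf (d + m * p - 1 + ε) V (2 * m * p - 1 + 2 * ε) := by
  classical
  have hprime : p.Prime := Fact.out
  haveI hk₀ : CharP (IsLocalRing.ResidueField A) p :=
    (CharP.charP_iff_prime_eq_zero hprime).mpr (by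
      rw [← map_natCast (IsLocalRing.residue A) p, CharP.cast_eq_zero A p, map_zero])
  obtain ⟨hadm, hsum0⟩ := he
  have hsum : ∑ i, (e i - 1) = 2 * d - 2 := by
    have h1 : ∑ i, (e i - 1) + n = ∑ i, e i := by
      have : ∑ i, e i = ∑ i, ((e i - 1) + 1) :=
        Finset.sum_congr rfl fun i _ => by have := (hadm i).1; omega
      rw [this, Finset.sum_add_distrib]
      simp
    omega
  have hd : 1 ≤ d := by
    by_contra h0
    rcases Nat.eq_zero_or_pos n with rfl | hn
    · simp at hsum0; omega
    · have := hadm ⟨0, hn⟩; omega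
  let φ := algebraMap A K
  have hφ : Function.Injective φ := IsFractionRing.injective A K
  obtain ⟨-, ⟨F₁, hF₁, G₁, hG₁, hW₁⟩, hram⟩ := hgen
  obtain ⟨a₁, b₁, rfl⟩ := Submodule.mem_span_pair.mp hF₁
  obtain ⟨a₂, b₂, rfl⟩ := Submodule.mem_span_pair.mp hG₁
  have hW0 : wronskian F G ≠ 0 := by
    intro h0
    apply hW₁
    have h0' : wronskian (F.map φ) (G.map φ) = 0 := by rw [← wronskian_map, h0, Polynomial.map_zero]
    rw [show wronskian (a₁ • F.map φ + b₁ • G.map φ) (a₂ • F.map φ + b₂ • G.map φ) =
      C (a₁ * b₂ - b₁ * a₂) * wronskian (F.map φ) (G.map φ) by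
        simp [wronskian, smul_eq_C_mul]; ring, h0', mul_zero]
  have hloc : ∀ i, Loc (P i) (e i) F G := by
    intro i
    obtain ⟨s, hs, hs0, hse⟩ := (hram i).1
    obtain ⟨a, b, rfl⟩ := Submodule.mem_span_pair.mp hs
    obtain ⟨x₁, y₁, hy₁, rfl⟩ := IsFractionRing.div_surjective (A := A) a
    obtain ⟨x₂, y₂, hy₂, rfl⟩ := IsFractionRing.div_surjective (A := A) b
    have hy₁0 : φ y₁ ≠ 0 := fun h => nonZeroDivisors.ne_zero hy₁ (hφ (h.trans (map_zero φ).symm))
    have hy₂0 : φ y₂ ≠ 0 := fun h => nonZeroDivisors.ne_zero hy₂ (hφ (h.trans (map_zero φ).symm))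
    refine ⟨x₁ * y₂, x₂ * y₁, ?_, ?_⟩
    · by_contra h'
      push_neg at h'
      apply hs0
      have h1 := (mul_eq_zero.mp h'.1).resolve_right (nonZeroDivisors.ne_zero hy₂)
      have h2 := (mul_eq_zero.mp h'.2).resolve_right (nonZeroDivisors.ne_zero hy₁)
      simp [h1, h2]
    · refine (Polynomial.map_dvd_map φ hφ ((monic_X_sub_C (P i)).pow (e i))).mp ?_
      have hdvd := ((le_rootMultiplicity_iff hs0).mp hse).mul_left (C (φ y₁ * φ y₂))
      have e₁ : φ y₁ * φ y₂ * (φ x₁ / φ y₁) = φ (x₁ * y₂) := by rw [map_mul]; field_simp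
      have e₂ : φ y₁ * φ y₂ * (φ x₂ / φ y₂) = φ (x₂ * y₁) := by rw [map_mul]; field_simp
      rw [Polynomial.map_add, Polynomial.map_mul, Polynomial.map_mul, map_C, map_C, ← e₁, ← e₂,
        map_mul C _ (φ x₁ / φ y₁), map_mul C _ (φ x₂ / φ y₂), mul_assoc, mul_assoc, ← mul_add,
        Polynomial.map_pow, Polynomial.map_sub, map_X, map_C]
      simp only [smul_eq_C_mul] at hdvd
      exact hdvd
  let Rp : A[X] := ∏ i, (X - C (P i)) ^ (e i - 1)
  have hmon : Rp.Monic := monic_prod_of_monic _ _ fun i _ => (monic_X_sub_C _).pow _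
  have hdegR : Rp.natDegree = 2 * d - 2 := by
    rw [natDegree_prod_of_monic _ _ fun i _ => (monic_X_sub_C _).pow _, ← hsum]
    simp
  have hPinj : Function.Injective fun i => φ (P i) := fun i j hij =>
    hdist (congrArg (IsLocalRing.residue A) (hφ hij))
  have hdvdW : Rp ∣ wronskian F G := by
    refine (Polynomial.map_dvd_map φ hφ hmon).mp ?_
    rw [Polynomial.map_prod, wronskian_map]
    simp only [Polynomial.map_pow, Polynomial.map_sub, map_X, map_C]
    refine Finset.prod_dvd_of_coprime (fun i _ j _ hij =>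
      ((pairwise_coprime_X_sub_C hPinj hij).pow)) fun i _ => ?_
    obtain ⟨a, b, hab, hd⟩ := hloc i
    refine Loc.pow_dvd_wronskian ⟨φ a, φ b, hab.imp (fun h h' => h (hφ (h'.trans (map_zero φ).symm)))
      (fun h h' => h (hφ (h'.trans (map_zero φ).symm))), ?_⟩
    have := Polynomial.map_dvd φ hd
    simpa using this
  obtain ⟨q, hq⟩ := hdvdW
  have hq0 : q.natDegree = 0 := by
    have hqne : q ≠ 0 := by rintro rfl; exact hW0 (by rw [hq, mul_zero])
    have h1 := natDegree_wronskian_le_two_mul hF hG
    rw [hq, natDegree_mul hmon.ne_zero hqne, hdegR] at h1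
    omega
  have hWc : wronskian F G = C (q.coeff 0) * Rp := by
    rw [hq, ← eq_C_of_natDegree_eq_zero hq0, mul_comm]
  have hc0 : q.coeff 0 ≠ 0 := fun h => hW0 (by rw [hWc, h, map_zero, zero_mul])
  have hdata : Data p (2 * d - 4) ((d : A) * ((d : A) - 1)) Rp P e F G (q.coeff 0) F G :=
    { hW := hWc
      hq := by
        rw [coeff_top_relation hd hF hG, hWc, coeff_C_mul, ← hdegR, hmon.coeff_natDegree]
        ring
      hloc := hloc
      h₁ := ⟨1, 0, by simp [comb]⟩
      h₂ := ⟨0, 1, by simp [comb]⟩ }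
  obtain ⟨c, F', G', hc, hD⟩ := descend p (fun i => (hlt i).le) _ hc0 F G hdata
  let π := IsLocalRing.residue A
  have hD' : Data p (2 * d - 4) ((d : IsLocalRing.ResidueField A) * ((d : IsLocalRing.ResidueField A) - 1))
      (∏ i, (X - C (π (P i))) ^ (e i - 1)) (fun i => π (P i)) e (F.map π) (G.map π) (π c)
      (F'.map π) (G'.map π) :=
    { hW := by
        rw [← wronskian_map, hD.hW, Polynomial.map_mul, map_C, Polynomial.map_prod]
        simp [π]
      hq := by
        rw [derivative_map, derivative_map, ← wronskian_map, coeff_map, hD.hq]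
        simp [π]
      hloc := fun i => (hD.hloc i).map_residue
      h₁ := by
        obtain ⟨a, b, hab⟩ := hD.h₁
        exact ⟨a.map π, b.map π, by rw [hab]; simp [comb, Polynomial.map_expand]⟩
      h₂ := by
        obtain ⟨a, b, hab⟩ := hD.h₂
        exact ⟨a.map π, b.map π, by rw [hab]; simp [comb, Polynomial.map_expand]⟩ }
  refine exists_pencil p (hc.map π).ne_zero hd (fun i => ⟨(hadm i).1, (hlt i).le⟩) hsum hdist
    ((natDegree_map_le).trans hF) ((natDegree_map_le).trans hG) hind ?_ hD'
  by_contra hne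
  exact hinsep ⟨_, Submodule.subset_span (by simp [π]), _, Submodule.subset_span (by simp [π]), hne⟩

end Groth.Agent.S13935
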