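import Groth.Statements.S13936
import Mathlib.RingTheory.Ideal.Operations
import Mathlib.RingTheory.Ideal.Maps

set_option autoImplicit false
universe u
open W4c1limliniiii

namespace Groth.Agent.S13936
section Aux
open TensorProduct

lemma sup_pow_le {P : Type u} [CommRing P] (M J : Ideal P) (N : ℕ) (h : J ^ N = ⊥) :
    (M ⊔ J) ^ N ≤ M := by
  have e : ((M ⊔ J) ^ N).map (Ideal.Quotient.mk M) = ⊥ := by
    rw [Ideal.map_pow, Ideal.map_sup, Ideal.map_quotient_self, bot_sup_eq, ← Ideal.map_pow, h,
      Ideal.map_bot]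
  intro x hx
  rw [← Ideal.Quotient.eq_zero_iff_mem]
  have := Ideal.mem_map_of_mem (Ideal.Quotient.mk M) hx
  rwa [e, Submodule.mem_bot] at this

variable (R SX : Type u) [CommRing R] [CommRing SX] [Algebra R SX] (n : ℕ)

/-- `1 ⊗ x - x ⊗ 1` in `P^n` -/
noncomputable def delta (x : SX) : PP16.P n R SX :=
  Ideal.Quotient.mk _ ((1 : SX) ⊗ₜ[R] x - x ⊗ₜ[R] (1 : SX))

lemma delta_mem (x : SX) : delta R SX n x ∈ PP16.augIdeal n R SX :=
  Ideal.mem_map_of_mem _ (KaehlerDifferential.one_smul_sub_smul_one_mem_ideal R x)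

lemma mk_tmul (a b : SX) : (Ideal.Quotient.mk _ (a ⊗ₜ[R] b) : PP16.P n R SX) =
    algebraMap SX (PP16.P n R SX) a * (algebraMap SX (PP16.P n R SX) b + delta R SX n b) := by
  change _ = Ideal.Quotient.mk _ (a ⊗ₜ[R] (1 : SX)) *
    (Ideal.Quotient.mk _ (b ⊗ₜ[R] (1 : SX)) + delta R SX n b)
  rw [delta, ← map_add, add_sub_cancel, ← map_mul, Algebra.TensorProduct.tmul_mul_tmul, mul_one,
    one_mul]

/-- the augmentation `P^n → SX` -/
noncomputable def aug : PP16.P n R SX →+* SX :=
  Ideal.Quotient.lift _ (Algebra.TensorProduct.lmul' R (S := SX)).toRingHom fun x hx => by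
    have h : x ∈ KaehlerDifferential.ideal R SX := Ideal.pow_le_self (Nat.succ_ne_zero n) hx
    exact h

lemma aug_algebraMap (x : SX) : aug R SX n (algebraMap SX (PP16.P n R SX) x) = x := by
  change Algebra.TensorProduct.lmul' R (x ⊗ₜ[R] (1 : SX)) = x
  simp

lemma aug_eq_zero {z : PP16.P n R SX} (hz : z ∈ PP16.augIdeal n R SX) : aug R SX n z = 0 := by
  obtain ⟨x, hx, rfl⟩ := (Ideal.mem_map_iff_of_surjective _ Ideal.Quotient.mk_surjective).1 hz
  exact hx

variable (σ : SX →ₐ[R] R)

/-- evaluation of principal parts along the section -/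
noncomputable def psi : SX ⊗[R] SX →ₐ[R] SX :=
  Algebra.TensorProduct.lift ((Algebra.ofId R SX).comp σ) (AlgHom.id R SX) fun _ _ => Commute.all _ _

lemma psi_mem {x : SX ⊗[R] SX} (hx : x ∈ KaehlerDifferential.ideal R SX) :
    psi R SX σ x ∈ RingHom.ker σ.toRingHom := by
  have : ∀ z : SX ⊗[R] SX, σ (psi R SX σ z) = σ (Algebra.TensorProduct.lmul' R z) := fun z => by
    have h : σ.comp (psi R SX σ) = σ.comp (Algebra.TensorProduct.lmul' R) := by
      apply Algebra.TensorProduct.ext' (R := R)
      intro a b
      simp [psi, map_mul]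
    exact DFunLike.congr_fun h z
  change σ (psi R SX σ x) = 0
  rw [this, show Algebra.TensorProduct.lmul' R x = 0 from hx, map_zero]

/-- evaluation, modulo the power of the ideal of the section -/
noncomputable def psiBar : PP16.P n R SX →+* SX ⧸ RingHom.ker σ.toRingHom ^ (n + 1) :=
  Ideal.Quotient.lift _ ((Ideal.Quotient.mk _).comp (psi R SX σ).toRingHom) fun x hx => by
    rw [RingHom.comp_apply, Ideal.Quotient.eq_zero_iff_mem]
    have h1 : (KaehlerDifferential.ideal R SX).map (psi R SX σ).toRingHom ≤
        RingHom.ker σ.toRingHom := Ideal.map_le_iff_le_comap.2 fun y hy => psi_mem R SX σ hy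
    have h2 := Ideal.mem_map_of_mem (psi R SX σ).toRingHom hx
    rw [Ideal.map_pow] at h2
    exact Ideal.pow_right_mono h1 _ h2

lemma psiBar_algebraMap {c : SX} (hc : σ c = 0) :
    psiBar R SX n σ (algebraMap SX (PP16.P n R SX) c) = 0 := by
  change Ideal.Quotient.mk _ (psi R SX σ (c ⊗ₜ[R] (1 : SX))) = 0
  simp only [psi, Algebra.TensorProduct.lift_tmul, AlgHom.comp_apply, hc, map_zero, zero_mul]

/-- the ideal `m · I` -/
noncomputable def mI : Ideal (PP16.P n R SX) :=
  (RingHom.ker σ.toRingHom).map (algebraMap SX _) * PP16.augIdeal n R SX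

lemma mI_le_ker : mI R SX n σ ≤ RingHom.ker (psiBar R SX n σ) := by
  intro x hx
  have hx' : x ∈ (RingHom.ker σ.toRingHom).map (algebraMap SX (PP16.P n R SX)) :=
    Ideal.mul_le_left hx
  have hle : (RingHom.ker σ.toRingHom).map (algebraMap SX (PP16.P n R SX)) ≤
      RingHom.ker (psiBar R SX n σ) :=
    Ideal.map_le_iff_le_comap.2 fun c hc => psiBar_algebraMap R SX n σ hc
  exact hle hx'

lemma mem_smul_iff (z : PP16.P n R SX) :
    z ∈ RingHom.ker σ.toRingHom • (PP16.augIdeal n R SX).restrictScalars SX ↔ z ∈ mI R SX n σ := by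
  constructor
  · intro h
    refine Submodule.smul_induction_on h (fun r hr x hx => ?_) fun x y hx hy => add_mem hx hy
    rw [Algebra.smul_def]
    exact Ideal.mul_mem_mul (Ideal.mem_map_of_mem _ hr) hx
  · intro h
    refine Submodule.mul_induction_on h (fun a ha w hw => ?_) fun x y hx hy => add_mem hx hy
    revert w
    refine Submodule.span_induction (fun a ha w hw => ?_) (fun w hw => ?_)
      (fun a b _ _ h₁ h₂ w hw => ?_) (fun c a _ h₁ w hw => ?_) ha
    · obtain ⟨r, hr, rfl⟩ := ha
      rw [← Algebra.smul_def]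
      exact Submodule.smul_mem_smul hr hw
    · rw [zero_mul]; exact zero_mem _
    · rw [add_mul]; exact add_mem (h₁ w hw) (h₂ w hw)
    · rw [smul_eq_mul, mul_comm c, mul_assoc]
      exact h₁ _ (Ideal.mul_mem_left _ c hw)

lemma sub_aug_mem {z : PP16.P n R SX}
    (hz : z ∈ (RingHom.ker σ.toRingHom).map (algebraMap SX (PP16.P n R SX))) :
    z - algebraMap SX _ (aug R SX n z) ∈ mI R SX n σ := by
  have hker : ∀ p : PP16.P n R SX, p - algebraMap SX _ (aug R SX n p) ∈ PP16.augIdeal n R SX := by
    intro p
    obtain ⟨x, rfl⟩ := Ideal.Quotient.mk_surjective p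
    induction x using TensorProduct.induction_on with
    | zero => simp
    | tmul a b =>
      rw [mk_tmul, map_mul, map_add, aug_algebraMap, aug_algebraMap,
        aug_eq_zero R SX n (delta_mem R SX n b), add_zero, map_mul, ← mul_sub,
        add_sub_cancel_left]
      exact Ideal.mul_mem_left _ _ (delta_mem R SX n b)
    | add x y hx hy => simp only [map_add]; rw [add_sub_add_comm]; exact add_mem hx hy
  refine Submodule.span_induction (fun a ha => ?_) ?_ (fun a b _ _ ha hb => ?_)
    (fun c a hamem ha => ?_) hz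
  · obtain ⟨r, -, rfl⟩ := ha
    simp [aug_algebraMap]
  · simp
  · rw [map_add, map_add, add_sub_add_comm]; exact add_mem ha hb
  · rw [smul_eq_mul, map_mul, map_mul,
      show c * a - algebraMap SX _ (aug R SX n c) * algebraMap SX _ (aug R SX n a) =
        (c - algebraMap SX _ (aug R SX n c)) * a +
          algebraMap SX _ (aug R SX n c) * (a - algebraMap SX _ (aug R SX n a)) by ring]
    refine add_mem ?_ (Ideal.mul_mem_left _ _ ha)
    rw [mul_comm]
    exact Ideal.mul_mem_mul hamem (hker c)

lemma delta_mem_mI {a : SX} (ha : a ∈ RingHom.ker σ.toRingHom ^ (n + 1)) :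
    delta R SX n a ∈ mI R SX n σ := by
  set M := (RingHom.ker σ.toRingHom).map (algebraMap SX (PP16.P n R SX)) with hM
  let r : SX →+* PP16.P n R SX := (PP16.dn n R SX).toRingHom
  have hr : ∀ x, r x = algebraMap SX _ x + delta R SX n x := fun x => by
    have := mk_tmul R SX n 1 x
    rw [map_one, one_mul] at this
    exact this
  have h1 : (RingHom.ker σ.toRingHom).map r ≤ M ⊔ PP16.augIdeal n R SX :=
    Ideal.map_le_iff_le_comap.2 fun x hx => by
      rw [Ideal.mem_comap, hr]
      exact Submodule.add_mem_sup (Ideal.mem_map_of_mem _ hx) (delta_mem R SX n x)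
  have h2 : r a ∈ (M ⊔ PP16.augIdeal n R SX) ^ (n + 1) := by
    have := Ideal.mem_map_of_mem r ha
    rw [Ideal.map_pow] at this
    exact Ideal.pow_right_mono h1 _ this
  have h3 : (M ⊔ PP16.augIdeal n R SX) ^ (n + 1) ≤ M := by
    have h0 : PP16.augIdeal n R SX ^ (n + 1) = ⊥ := by
      rw [PP16.augIdeal, ← Ideal.map_pow, Ideal.map_quotient_self]
    exact sup_pow_le M _ (n + 1) h0
  have h4 : delta R SX n a ∈ M := by
    have := Ideal.sub_mem _ (h3 h2) (Ideal.mem_map_of_mem (algebraMap SX (PP16.P n R SX))
      (Ideal.pow_le_self (Nat.succ_ne_zero n) ha))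
    rwa [hr, add_sub_cancel_left] at this
  have := sub_aug_mem R SX n σ h4
  rwa [aug_eq_zero R SX n (delta_mem R SX n a), map_zero, sub_zero] at this

end Aux

/-- Let R be a commutative ring, S_Y → S_X a homomorphism of R-algebras (an affine piece of a morphism f
: X → Y of schemes over Spec R) and σ : S_X → R an R-algebra retraction (a section of X over the
base) with kernel I. For e ≥ 1 write T^{e−1} for the augmentation ideal of the ring of principal
parts of order e − 1 (the kernel of P^{e−1} → the algebra; for e = 2 this is the module of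
differentials). Then the natural map T^{e−1}(S_Y/R) → T^{e−1}(S_X/R) takes values in I ·
T^{e−1}(S_X/R) — that is, the induced map f^*T^{e−1}_Y → T^{e−1}_X vanishes at the section σ — if
and only if every element of S_Y whose image in S_X lies in I has image in I^e, which says that the
fibre of f through σ contains the e-th order thickening of σ. (The published statement is for a
morphism of separated schemes over a base and sections over an arbitrary base change; this row is
the affine computation it reduces to.) -/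
theorem result (R SY SX : Type u)
    [CommRing R] [CommRing SY] [CommRing SX] [Algebra R SY] [Algebra R SX] [Algebra SY SX]
    [IsScalarTower R SY SX] (σ : SX →ₐ[R] R) (e : ℕ) (he : 1 ≤ e) :
    (∀ y ∈ PP16.augIdeal (e - 1) R SY,
        PP16.map (e - 1) R SY R SX y ∈
          RingHom.ker σ.toRingHom • (PP16.augIdeal (e - 1) R SX).restrictScalars SX) ↔
      (∀ b : SY, algebraMap SY SX b ∈ RingHom.ker σ.toRingHom →
        algebraMap SY SX b ∈ RingHom.ker σ.toRingHom ^ e) := by
  obtain ⟨n, rfl⟩ : ∃ n, e = n + 1 := ⟨e - 1, by omega⟩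
  constructor
  · intro h b hb
    have h1 := (mem_smul_iff R SX n σ _).1 (h _ (delta_mem R SY n b))
    have h2 : psiBar R SX n σ (PP16.map n R SY R SX (delta R SY n b)) = 0 := by
      exact mI_le_ker R SX n σ h1
    rw [delta, PP16.map_mk] at h2
    change Ideal.Quotient.mk _ (psi R SX σ (PP16.tensorMap R SY R SX _)) = 0 at h2
    rw [map_sub, PP16.tensorMap_tmul, PP16.tensorMap_tmul, map_one, Ideal.Quotient.eq_zero_iff_mem] at h2
    have hb' : σ (algebraMap SY SX b) = 0 := hb
    simpa [psi, hb'] using h2
  · intro h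
    have hd : ∀ b : SY, PP16.map n R SY R SX (delta R SY n b) ∈ mI R SX n σ := fun b => by
      have e1 : PP16.map n R SY R SX (delta R SY n b) = delta R SX n (algebraMap SY SX b) := by
        rw [delta, PP16.map_mk, map_sub, PP16.tensorMap_tmul, PP16.tensorMap_tmul, map_one]
        rfl
      set r := σ (algebraMap SY SX b)
      have hb : algebraMap SY SX (b - algebraMap R SY r) ∈ RingHom.ker σ.toRingHom := by
        change σ (algebraMap SY SX (b - algebraMap R SY r)) = 0
        rw [map_sub, map_sub, ← IsScalarTower.algebraMap_apply, σ.commutes]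
        exact sub_self r
      have h' := delta_mem_mI R SX n σ (h _ hb)
      have e2 : delta R SX n (algebraMap SY SX (b - algebraMap R SY r)) =
          delta R SX n (algebraMap SY SX b) := by
        rw [map_sub, ← IsScalarTower.algebraMap_apply, delta, delta]
        congr 1
        rw [TensorProduct.tmul_sub, TensorProduct.sub_tmul, Algebra.algebraMap_eq_smul_one (R := R) (A := SX),
          TensorProduct.smul_tmul r (1 : SX) (1 : SX)]
        abel
      rw [e2] at h'
      rwa [e1]
    intro y hy
    refine (mem_smul_iff R SX n σ _).2 ?_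
    have hle : PP16.augIdeal n R SY ≤ (mI R SX n σ).comap (PP16.map n R SY R SX) := by
      refine Ideal.map_le_iff_le_comap.2 ?_
      refine (KaehlerDifferential.span_range_eq_ideal R SY).symm.trans_le ?_
      rw [Ideal.span_le]
      rintro _ ⟨b, rfl⟩
      exact hd b
    exact hle hy

end Groth.Agent.S13936
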