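import Groth.Statements.S13942
import Groth.Agent.GrpLikeExt87.Bridge

set_option autoImplicit false
universe u
open TateLoc

namespace Groth.Agent.S13942

open CategoryTheory AlgebraicGeometry MonObj in
/-- For a non-archimedean local field k of characteristic p > 0 and an affine commutative k-group scheme
G of finite type, the group of characters of G defined over k (morphisms of abelian sheaves on the
big fppf site of Spec k from the sheaf of points of G into the multiplicative group) is a finitely
generated abelian group. -/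
theorem result (p : ℕ) [Fact p.Prime] (k : Type u) [Field k] [CharP k p]
    [ValuativeRel k] [TopologicalSpace k] [IsNonarchimedeanLocalField k]
    (G : Over (Spec (CommRingCat.of k))) [GrpObj G] [IsCommMonObj G] [IsAffine G.left] [LocallyOfFiniteType G.hom] :
    AddGroup.FG ((CGrpSh.pts Scheme.fppfPrecoverage G) ⟶ (CGrpSh2.Gm Scheme.fppfPrecoverage (Spec (CommRingCat.of k)))) := by
  obtain ⟨A, B, _, _, eG, eH, π, hG, hH, hA, hπ, hsq⟩ := Groth.Agent.GrpdLib.MonoClosedField.exists_hopf G G (𝟙 G)
  haveI := hG
  let φ : (CGrpSh.pts Scheme.fppfPrecoverage G ⟶ CGrpSh2.Gm Scheme.fppfPrecoverage (Spec (CommRingCat.of k))) →+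
      Additive (GroupLike k A) :=
    AddMonoidHom.mk'
      (fun ξ => Additive.ofMul ⟨Groth.Agent.GrpLikeExt87.charA eG ξ, Groth.Agent.GrpLikeExt87.isGroupLike_charA eG ξ⟩)
      fun x y => congrArg Additive.ofMul (GroupLike.ext (Groth.Agent.GrpLikeExt87.charA_add eG x y))
  have hφ : Function.Bijective φ := ⟨fun x y h => Groth.Agent.GrpLikeExt87.charA_injective eG
      (congrArg (fun z => (Additive.toMul z).val) h),
    fun z => ⟨Groth.Agent.GrpLikeExt87.charOf eG (Additive.toMul z).isGroupLikeElem_val,
      congrArg Additive.ofMul (GroupLike.ext (Groth.Agent.GrpLikeExt87.charA_charOf eG _))⟩⟩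
  haveI : Coalgebra.IsCocomm k A := Groth.Agent.GrpLikeExt87.isCocomm eG
  haveI : Algebra.FiniteType k A := hA
  haveI := Groth.Agent.GrpLikeExt87.groupLike_fg k (B := A)
  exact AddGroup.fg_of_surjective (f := (AddEquiv.ofBijective φ hφ).symm.toAddMonoidHom) (AddEquiv.surjective _)

end Groth.Agent.S13942
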