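import Groth.Statements.S1395
import Groth.Agent.FlatMor.LineValuation
import Groth.Agent.FDesc.GenericClosure
import Groth.Agent.InvOfTensor
import Groth.Agent.LFDesc.BaseChange

set_option autoImplicit false
set_option linter.style.haveILetI false
universe u
open FlatMor

namespace Groth.Agent.S1395

open AlgebraicGeometry CategoryTheory CategoryTheory.Limits Opposite TopologicalSpace
open Groth.Agent.QCoh Groth.Agent.Props.GenLocus Groth.Agent.Props.GenTensor

/-- The generators of an invertible module with a trivial pullback at a morphism. -/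
theorem exists_isGen_top {Y : Scheme.{u}} {M : Y.Modules} (e : M ≅ Coh.structureModule Y) :
    ∃ σ : Γ(M, ⊤), IsGen M ⊤ σ :=
  ⟨e.inv.app ⊤ (one' ⊤), InvOfTensor.isGen_of_iso e.inv (isGen_one ⊤)⟩

/-- Functions on the spectrum of the residue field at the generic point are fractions. -/
theorem exists_fraction {A : Type u} [CommRing A] [IsDomain A]
    (η : Spec (CommRingCat.of A))
    (b : Γ(Spec ((Spec (CommRingCat.of A)).residueField η), ⊤)) :
    ∃ a s : Γ(Spec (CommRingCat.of A), ⊤),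
      IsUnit (((Spec (CommRingCat.of A)).fromSpecResidueField η).appLE ⊤ ⊤ le_top s) ∧
      ((Spec (CommRingCat.of A)).fromSpecResidueField η).appLE ⊤ ⊤ le_top s * b =
        ((Spec (CommRingCat.of A)).fromSpecResidueField η).appLE ⊤ ⊤ le_top a := by
  let R := CommRingCat.of A
  let e := (Scheme.Spec.residueFieldIso R η).inv
  let φ : R ⟶ (Spec R).residueField η :=
    CommRingCat.ofHom (algebraMap R (η : PrimeSpectrum R).asIdeal.ResidueField) ≫ e
  have hg : (Spec R).fromSpecResidueField η = Spec.map φ := by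
    rw [Spec.map_comp]; exact (Scheme.Spec.map_residueFieldIso_inv_eq_fromSpecResidueField R η).symm
  obtain ⟨a, s, hs, he⟩ := IsFractionRing.div_surjective (A := A ⧸ (η : PrimeSpectrum A).asIdeal)
    ((Scheme.Spec.residueFieldIso R η).hom ((Scheme.ΓSpecIso _).hom b))
  obtain ⟨a, rfl⟩ := Ideal.Quotient.mk_surjective a
  obtain ⟨s, rfl⟩ := Ideal.Quotient.mk_surjective s
  have hs0 : algebraMap A (η : PrimeSpectrum A).asIdeal.ResidueField s ≠ 0 := by
    rw [Ne, Ideal.algebraMap_residueField_eq_zero]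
    exact fun h => nonZeroDivisors.ne_zero hs (Ideal.Quotient.eq_zero_iff_mem.mpr h)
  have key : ∀ x : A, ((Spec R).fromSpecResidueField η).appLE ⊤ ⊤ le_top
      ((Scheme.ΓSpecIso R).inv x) = (Scheme.ΓSpecIso _).inv (φ x) := by
    intro x
    have hφ : ((Spec R).fromSpecResidueField η).appLE ⊤ ⊤ le_top = (Spec.map φ).appTop := by
      rw [Scheme.Hom.appTop, Scheme.Hom.app_eq_appLE]
      simp only [hg]
      rfl
    rw [hφ, ← CommRingCat.comp_apply, ← Scheme.ΓSpecIso_inv_naturality, CommRingCat.comp_apply]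
  refine ⟨(Scheme.ΓSpecIso R).inv a, (Scheme.ΓSpecIso R).inv s, ?_, ?_⟩
  · rw [key]
    exact ((isUnit_iff_ne_zero.mpr hs0).map e.hom).map
      (Scheme.ΓSpecIso ((Spec R).residueField η)).inv.hom
  · rw [key, key]
    apply (ConcreteCategory.bijective_of_isIso (Scheme.ΓSpecIso ((Spec R).residueField η)).hom).1
    rw [map_mul, Iso.inv_hom_id_apply, Iso.inv_hom_id_apply]
    apply (ConcreteCategory.bijective_of_isIso (Scheme.Spec.residueFieldIso R η).hom).1
    rw [map_mul, ← he]
    simp only [φ, e, CommRingCat.comp_apply, Iso.inv_hom_id_apply, CommRingCat.hom_ofHom]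
    exact mul_div_cancel₀ _ hs0

open FlatMor.LineValuation in
set_option maxHeartbeats 1600000 in
set_option backward.isDefEq.respectTransparency.types false in
set_option backward.isDefEq.respectTransparency false in
/-- Over a valuation ring A consider a proper, flat morphism of finite presentation f : X → Spec A and
an invertible O_X-module L. If L is trivial on the generic fibre, the closed fibre is integral, and
the global functions of the generic fibre are just the fraction field (the residue field of the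
generic point), then L is trivial. -/
theorem result {A : Type u} [CommRing A] [IsDomain A] [ValuationRing A] {X : Scheme.{u}}
    (f : X ⟶ Spec (CommRingCat.of A)) [IsProper f] [Flat f] [LocallyOfFinitePresentation f] (L : X.Modules) (hL : PicF.IsInvertible L)
    (htriv : Nonempty ((Scheme.Modules.pullback (f.fiberι (genericPoint ↑(Spec (CommRingCat.of A))))).obj L ≅
      Coh.structureModule (f.fiber (genericPoint ↑(Spec (CommRingCat.of A))))))
    (hint : IsIntegral (f.fiber (IsLocalRing.closedPoint A)))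
    (h0 : Function.Bijective ((f.fiberToSpecResidueField (genericPoint ↑(Spec (CommRingCat.of A)))).appTop)) :
    Nonempty (L ≅ Coh.structureModule X) := by
  obtain ⟨θ⟩ := htriv
  haveI : L.IsQuasicoherent := ProjTwist.isQCoh_of_isInvertible hL
  haveI hS : IsIntegral (Spec (CommRingCat.of A)) := inferInstance
  let S := Spec (CommRingCat.of A)
  let η : S := genericPoint S
  let gS := S.fromSpecResidueField η
  haveI : Flat gS := FDesc.GenericClosure.flat_fromSpecResidueField_genericPoint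
  let p := f.fiberι η
  haveI : Flat p := MorphismProperty.pullback_fst _ _ inferInstance
  haveI : IsReduced (f.fiber (IsLocalRing.closedPoint A)) := @isReduced_of_isIntegral _ hint
  haveI := hint
  let ξ : X := f.fiberι (IsLocalRing.closedPoint A) (genericPoint _)
  have hfξ : f ξ = IsLocalRing.closedPoint A := by
    have : ξ ∈ Set.range (f.fiberι (IsLocalRing.closedPoint A)) := ⟨_, rfl⟩
    rwa [Scheme.Hom.range_fiberι] at this
  have hξ : ∀ x, f x = IsLocalRing.closedPoint A → ξ ⤳ x := by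
    intro x hx
    obtain ⟨y, rfl⟩ : x ∈ Set.range (f.fiberι (IsLocalRing.closedPoint A)) := by
      rw [Scheme.Hom.range_fiberι]; exact hx
    exact (genericPoint_specializes y).map (f.fiberι _).continuous
  -- points of the generic fibre
  have hηbot : (η : PrimeSpectrum A).asIdeal = ⊥ :=
    congrArg PrimeSpectrum.asIdeal (genericPoint_eq_bot_of_affine (CommRingCat.of A))
  have hpt : ∀ {U : X.Opens} (hU : IsAffineOpen U) (P : Ideal Γ(X, U)) (hP : P.IsPrime),
      P.comap (cst f U) = ⊥ → hU.fromSpec ⟨P, hP⟩ ∈ Set.range p := by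
    intro U hU P hP hbot
    rw [Scheme.Hom.range_fiberι]
    show f _ = η
    rw [map_fromSpec f hU]
    exact PrimeSpectrum.ext (hbot.trans hηbot.symm)
  have hstalk : ∀ y, Function.Injective (p.stalkMap y) := by
    intro y
    haveI : IsLocalHom (p.stalkMap y).hom := p.toLRSHom.prop y
    have := Flat.stalkMap p y
    algebraize [(p.stalkMap y).hom]
    haveI := Module.FaithfullyFlat.of_flat_of_isLocalHom (A := X.presheaf.stalk (p y))
      (B := (f.fiber η).presheaf.stalk y)
    exact FaithfulSMul.algebraMap_injective (X.presheaf.stalk (p y)) ((f.fiber η).presheaf.stalk y)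
  -- constants
  have hconst : HasConst f := by
    intro G
    have hsurj : ∀ b : Γ(f.fiber η, ⊤), ∃ b', (f.fiberToSpecResidueField η).appTop b' = b := h0.2
    obtain ⟨b, hb⟩ := hsurj (p.appLE ⊤ ⊤ le_top G)
    obtain ⟨a, s, hs, hab⟩ := exists_fraction η b
    obtain ⟨a, rfl⟩ := (ConcreteCategory.bijective_of_isIso (Scheme.ΓSpecIso (CommRingCat.of A)).inv).2 a
    obtain ⟨s, rfl⟩ := (ConcreteCategory.bijective_of_isIso (Scheme.ΓSpecIso (CommRingCat.of A)).inv).2 s
    have hsne : s ≠ 0 := by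
      rintro rfl
      haveI : Nontrivial Γ(Spec (S.residueField η), ⊤) :=
        (Scheme.ΓSpecIso (S.residueField η)).commRingCatIsoToRingEquiv.toEquiv.nontrivial
      rw [map_zero, map_zero] at hs
      exact not_isUnit_zero hs
    have hc : ∀ x : A, p.appLE ⊤ ⊤ le_top (cst f ⊤ x) = (f.fiberToSpecResidueField η).appTop
        (gS.appLE ⊤ ⊤ le_top ((Scheme.ΓSpecIso (CommRingCat.of A)).inv x)) := by
      intro x
      show p.appLE ⊤ ⊤ le_top (f.appLE ⊤ ⊤ (by simp) ((Scheme.ΓSpecIso (CommRingCat.of A)).inv x)) =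
        (f.fiberToSpecResidueField η).app ⊤ (gS.appLE ⊤ ⊤ le_top ((Scheme.ΓSpecIso (CommRingCat.of A)).inv x))
      refine (ConcreteCategory.congr_hom (Scheme.Hom.appLE_comp_appLE p f ⊤ ⊤ ⊤ (by simp) le_top)
        ((Scheme.ΓSpecIso (CommRingCat.of A)).inv x)).trans ?_
      rw [Scheme.Hom.app_eq_appLE]
      refine Eq.trans ?_ (ConcreteCategory.congr_hom
        (Scheme.Hom.appLE_comp_appLE (f.fiberToSpecResidueField η) gS ⊤ ⊤
          ((f.fiberToSpecResidueField η) ⁻¹ᵁ ⊤) le_top le_rfl) _).symm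
      simp only [p, gS, f.fiber_fac η]
      rfl
    have hvan : p.appLE ⊤ ⊤ le_top (cst f ⊤ s * G - cst f ⊤ a) = 0 := by
      rw [map_sub, map_mul, hc, hc, ← hb, ← map_mul]
      erw [hab]
      exact sub_self _
    have hzero : cst f ⊤ s * G = cst f ⊤ a := by
      refine sub_eq_zero.mp ?_
      refine X.sheaf.eq_of_locally_eq' (fun U : X.affineOpens => U.1) ⊤ (fun U => homOfLE le_top)
        (fun x hx => ?_) _ _ fun U => ?_
      · obtain ⟨_, ⟨W, hW, rfl⟩, hxW, -⟩ := X.isBasis_affineOpens.exists_subset_of_mem_open hx isOpen_univ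
        exact Opens.mem_iSup.mpr ⟨⟨W, hW⟩, hxW⟩
      show rres le_top _ = rres le_top 0
      rw [map_zero]
      letI := (cst f U.1).toAlgebra
      haveI := flat_cst f U.2
      refine eq_zero_of_forall (A := A) _ fun P hP hbot => ?_
      let B := Γ(X, U.1)
      let x := U.2.fromSpec ⟨P, hP⟩
      obtain ⟨y, hy⟩ := hpt U.2 P hP hbot
      have hxU : p y ∈ (U.1 : X.Opens) := by rw [hy]; exact U.2.range_fromSpec.le ⟨_, rfl⟩
      have hg0 : X.presheaf.germ ⊤ (p y) trivial (cst f ⊤ s * G - cst f ⊤ a) = 0 := by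
        apply hstalk y
        rw [map_zero, Scheme.Hom.germ_stalkMap_apply, Scheme.Hom.app_eq_appLE]
        erw [hvan]
        exact map_zero _
      letI := TopCat.Presheaf.algebra_section_stalk X.presheaf
        (⟨x, U.2.range_fromSpec.le ⟨_, rfl⟩⟩ : U.1)
      haveI : IsLocalization.AtPrime (X.presheaf.stalk x) P := by
        have h := U.2.isLocalization_stalk' ⟨P, hP⟩ (U.2.range_fromSpec.le ⟨_, rfl⟩)
        exact h
      have hg1 : X.presheaf.germ U.1 x (U.2.range_fromSpec.le ⟨_, rfl⟩)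
          (rres le_top (cst f ⊤ s * G - cst f ⊤ a)) = 0 := by
        revert hxU hg0
        rw [show p y = x from hy]
        intro hxU hg0
        exact (TopCat.Presheaf.germ_res_apply X.presheaf _ x _ _).trans hg0
      obtain ⟨⟨t, ht⟩, htb⟩ := (IsLocalization.map_eq_zero_iff P.primeCompl
        (X.presheaf.stalk x) (rres le_top (cst f ⊤ s * G - cst f ⊤ a))).mp hg1
      exact ⟨t, ht, htb⟩
    rcases ValuationRing.dvd_total s a with ⟨c, rfl⟩ | ⟨r, rfl⟩
    · exact ⟨c, (cst_mul_cancel f hsne (by rw [hzero, map_mul])).symm⟩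
    · have hane : a ≠ 0 := left_ne_zero_of_mul hsne
      have h1 : cst f ⊤ r * G = 1 := by
        refine cst_mul_cancel f hane ?_
        rw [← mul_assoc, ← map_mul, hzero, mul_one]
      obtain ⟨v, rfl⟩ := isLocalHom_germ f (Opens.mem_top ξ) hfξ
        ((IsUnit.of_mul_eq_one _ h1).map (X.presheaf.germ ⊤ ξ (Opens.mem_top ξ)).hom)
      refine ⟨(↑v⁻¹ : A), ?_⟩
      calc cst f ⊤ (↑v⁻¹ : A) = cst f ⊤ (↑v⁻¹ : A) * (cst f ⊤ (v : A) * G) := by rw [h1, mul_one]
        _ = G := by rw [← mul_assoc, ← map_mul, Units.inv_mul, map_one, one_mul]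
  -- a global section generating on the generic fibre
  obtain ⟨σ', hσ'⟩ := exists_isGen_top θ
  have H : IsPullback p (f.fiberToSpecResidueField η) f gS := IsPullback.of_hasPullback _ _
  let O := LFDesc.over p (f.fiberToSpecResidueField η) (⊤ : (Spec (S.residueField η)).Opens) (f ⁻¹ᵁ (⊤ : S.Opens))
  have hO : O = ⊤ := eq_top_iff.mpr fun y _ => ⟨trivial, trivial⟩
  have hT : (⊤ : (Spec (S.residueField η)).Opens) ≤ gS ⁻¹ᵁ (⊤ : S.Opens) := le_top
  obtain ⟨z, hz⟩ := (LFDesc.Φ_bijective f gS p (f.fiberToSpecResidueField η) L hT H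
    (isAffineOpen_top S) (isAffineOpen_top _)).2 (res _ (le_top : O ≤ ⊤) σ')
  letI := (gS.appLE ⊤ ⊤ hT).hom.toAlgebra
  have hclear : ∀ z, ∃ (c : Γ(f.fiber η, O)) (m : Γ(L, f ⁻¹ᵁ ⊤)), IsUnit c ∧
      c • LFDesc.Φ f gS p (f.fiberToSpecResidueField η) L hT H.w (le_refl _) z =
        LimTop.unitSec p L (inf_le_left : O ≤ p ⁻¹ᵁ (f ⁻¹ᵁ ⊤)) m := by
    suffices h : ∀ z, ∃ (s : Γ(S, ⊤)) (m : Γ(L, f ⁻¹ᵁ ⊤)), IsUnit (gS.appLE ⊤ ⊤ hT s) ∧
        (f.fiberToSpecResidueField η).appLE ⊤ O inf_le_right (gS.appLE ⊤ ⊤ hT s) •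
          LFDesc.Φ f gS p (f.fiberToSpecResidueField η) L hT H.w (le_refl _) z =
          LimTop.unitSec p L (inf_le_left : O ≤ p ⁻¹ᵁ (f ⁻¹ᵁ ⊤)) m by
      intro z
      obtain ⟨s, m, hs, hm⟩ := h z
      exact ⟨_, m, hs.map ((f.fiberToSpecResidueField η).appLE ⊤ O inf_le_right).hom, hm⟩
    have hsq : ∀ a : Γ(S, ⊤), (f.fiberToSpecResidueField η).appLE ⊤ O inf_le_right (gS.appLE ⊤ ⊤ hT a) =
        p.appLE (f ⁻¹ᵁ ⊤) O inf_le_left (f.app ⊤ a) := by
      intro a
      rw [← CommRingCat.comp_apply, ← CommRingCat.comp_apply, Scheme.Hom.app_eq_appLE,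
        Scheme.Hom.appLE_comp_appLE, Scheme.Hom.appLE_comp_appLE]
      simp only [← H.w]
      try rfl
    intro z
    induction z using TensorProduct.induction_on with
    | zero =>
      refine ⟨1, 0, by rw [map_one]; exact isUnit_one, ?_⟩
      erw [map_zero, smul_zero]
      exact (map_zero _).symm
    | tmul b m =>
      obtain ⟨a, s, hs, hab⟩ := exists_fraction η b
      refine ⟨s, (f.app ⊤ a) • (show Γ(L, f ⁻¹ᵁ ⊤) from m), hs, ?_⟩
      rw [LFDesc.Φ_tmul, smul_smul, ← map_mul, LimTop.unitSec_smul, ← hsq]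
      erw [hab]

    | add z z' hz hz' =>
      obtain ⟨s, m, hs, hm⟩ := hz
      obtain ⟨s', m', hs', hm'⟩ := hz'
      refine ⟨s * s', f.app ⊤ s' • m + f.app ⊤ s • m', by rw [map_mul]; exact hs.mul hs', ?_⟩
      rw [map_add, map_add, LimTop.unitSec_smul, LimTop.unitSec_smul, ← hm, ← hm', ← hsq, ← hsq,
        smul_add, smul_smul, smul_smul, map_mul, map_mul]
      congr 2
      all_goals exact mul_comm _ _
  obtain ⟨c, m, hc, hm⟩ := hclear z
  rw [hz] at hm
  have hgenO : IsGen _ O (LimTop.unitSec p L (inf_le_left : O ≤ p ⁻¹ᵁ (f ⁻¹ᵁ ⊤)) m) := by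
    rw [← hm]
    exact (hσ'.restrict le_top).smul_unit hc
  let σ : Γ(L, ⊤) := res L (le_of_eq rfl : (⊤ : X.Opens) ≤ f ⁻¹ᵁ ⊤) m
  -- a finite affine cover by opens with generators
  have hch : ∀ x : X, ∃ (U : X.Opens) (e : Γ(L, U)), IsAffineOpen U ∧ x ∈ U ∧ IsGen L U e := by
    intro x
    obtain ⟨U₀, e, hx, he⟩ := exists_isGen hL x
    obtain ⟨U, hU, hxU, hle⟩ := exists_isAffineOpen_mem_and_subset (U := U₀) (x := x) hx
    exact ⟨U, res L hle e, hU, hxU, he.restrict hle⟩
  choose W e haff hxW he using hch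
  haveI : CompactSpace X := QuasiCompact.compactSpace_of_compactSpace f
  obtain ⟨t, ht⟩ := isCompact_univ.elim_finite_subcover (fun x => (W x : Set X)) (fun x => (W x).2)
    (fun x _ => Set.mem_iUnion.mpr ⟨x, hxW x⟩)
  let ι := {x : X // x ∈ t}
  have htr : ∀ i j : ι, ∃ u : Γ(X, W i ⊓ W j), res L inf_le_right (e j) = u • res L inf_le_left (e i) :=
    fun i j => ((he i).exists_eq inf_le_left _).exists
  choose u hu using htr
  let C : LineCoc.Cocycle X :=
    { ι := ι
      W := fun i => W i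
      a := u
      cover := fun x _ => by
        obtain ⟨y, hy, hxy⟩ := Set.mem_iUnion₂.mp (ht (Set.mem_univ x))
        exact Opens.mem_iSup.mpr ⟨⟨y, hy⟩, hxy⟩
      self := fun i => ((he i).injective (inf_le_left : W i ⊓ W i ≤ W i) (by rw [one_smul]; exact (hu i i).symm))
      coc := fun i j k V h₁ h₂ h₃ => by
        refine (he i).injective (h₁.trans inf_le_left) ?_
        have a1 := congrArg (res L h₁) (hu i j)
        have a2 := congrArg (res L h₂) (hu j k)
        have a3 := congrArg (res L h₃) (hu i k)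
        simp only [res_smul, res_res] at a1 a2 a3
        rw [← a3, a2, a1, smul_smul, mul_comm] }
  have hdiv : ∀ i : ι, ∃ g : Γ(X, W i), res L le_top σ = g • e i := by
    intro i
    obtain ⟨g, hg, -⟩ := (he i).exists_eq le_rfl (res L le_top σ)
    exact ⟨g, hg.trans (by rw [res_self])⟩
  choose g hg using hdiv
  have hfam : IsFam C g := by
    intro i j
    refine (he i).injective (inf_le_left : W i ⊓ W j ≤ W i) ?_
    have a1 := congrArg (res L (inf_le_left : W i ⊓ W j ≤ W i)) (hg i)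
    have a2 := congrArg (res L (inf_le_right : W i ⊓ W j ≤ W j)) (hg j)
    simp only [res_smul, res_res] at a1 a2
    rw [← a1, a2, hu i j, smul_smul]
    exact congrArg (· • _) (mul_comm _ _)
  have hgen : ∃ c : A, c ≠ 0 ∧ ∀ i : C.ι, g i ∣ cst f (C.W i) c := by
    have hi : ∀ i : ι, ∃ c : A, c ≠ 0 ∧ g i ∣ cst f (W i) c := by
      intro i
      letI := (cst f (W i)).toAlgebra
      refine exists_dvd_algebraMap (A := A) _ fun P hP hbot hgP => ?_
      obtain ⟨y, hy⟩ := hpt (haff i) P hP hbot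
      let V : (f.fiber η).Opens := O ⊓ p ⁻¹ᵁ W i
      have h2 : IsGen _ V (LimTop.unitSec p L (inf_le_right : V ≤ p ⁻¹ᵁ W i) (e i)) :=
        (Props.GenPull.isGen_pb p (he i)).restrict inf_le_right
      have h3 : LimTop.unitSec p L (inf_le_right : V ≤ p ⁻¹ᵁ W i) (res L le_top σ) =
          res _ (inf_le_left : V ≤ O) (LimTop.unitSec p L (inf_le_left : O ≤ p ⁻¹ᵁ (f ⁻¹ᵁ ⊤)) m) := by
        rw [LimTop.res_unitSec]
        simp only [σ, res_res]
        exact LimTop.unitSec_res p L _ _ m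
      rw [hg i, LimTop.unitSec_smul] at h3
      obtain ⟨w, hw, -⟩ := (hgenO.restrict (inf_le_left : V ≤ O)).exists_eq le_rfl
        (LimTop.unitSec p L (inf_le_right : V ≤ p ⁻¹ᵁ W i) (e i))
      rw [res_self, ← h3, smul_smul] at hw
      have hu1 : w * p.appLE (W i) V inf_le_right (g i) = 1 :=
        h2.injective le_rfl (by rw [res_self, one_smul]; exact hw.symm)
      have hyW : p y ∈ W i := by rw [hy]; exact (haff i).range_fromSpec.le ⟨_, rfl⟩
      have hyV : y ∈ V := ⟨by rw [hO]; trivial, hyW⟩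
      have hunit : IsUnit ((f.fiber η).presheaf.germ V y hyV (p.appLE (W i) V inf_le_right (g i))) :=
        ((IsUnit.of_mul_eq_one_right _ hu1)).map ((f.fiber η).presheaf.germ V y hyV).hom
      have hb : y ∈ p ⁻¹ᵁ X.basicOpen (g i) := by
        have := ((f.fiber η).mem_basicOpen _ y hyV).mpr hunit
        rw [Scheme.basicOpen_appLE] at this
        exact this.2
      have hb' : (haff i).fromSpec ⟨P, hP⟩ ∈ X.basicOpen (g i) := hy ▸ hb
      have hb'' : (⟨P, hP⟩ : Spec Γ(X, W i)) ∈ (haff i).fromSpec ⁻¹ᵁ X.basicOpen (g i) := hb'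
      rw [(haff i).fromSpec_preimage_basicOpen] at hb''
      exact hb'' hgP
    choose c hc hdvd using hi
    exact ⟨∏ i, c i, Finset.prod_ne_zero_iff.mpr fun i _ => hc i, fun i =>
      (hdvd i).trans (map_dvd _ (Finset.dvd_prod_of_mem c (Finset.mem_univ i)))⟩
  haveI : Finite C.ι := inferInstanceAs (Finite ι)
  obtain ⟨c₀, h, hc₀, hh, hgh, hunit⟩ :=
    exists_partner f hconst hfξ hξ C (fun i => haff i) g hfam hgen
  obtain ⟨c₁, g', hc₁, hg', hgh', hunit'⟩ :=
    exists_partner f hconst hfξ hξ (inv' C) (fun i => haff i) h hh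
      ⟨c₀, hc₀, fun i => ⟨g i, by rw [← hgh i, mul_comm]⟩⟩
  obtain ⟨j, hj⟩ := Opens.mem_iSup.mp (C.cover (trivial : ξ ∈ (⊤ : X.Opens)))
  have hc₁u : IsUnit c₁ := by
    refine isLocalHom_germ f hj hfξ ?_
    rw [← hgh' j, map_mul]
    exact (hunit j hj).mul (hunit' j hj)
  have hgu : ∀ i, IsUnit (g' i) := fun i =>
    isUnit_of_mul_isUnit_right ((hgh' i) ▸ hc₁u.map (cst f (C.W i)))
  have hfam' : IsFam C g' := by
    intro i k
    have := hg' i k
    simp only [inv', rres_rres, rres_self] at this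
    exact this
  obtain ⟨τ, hτ⟩ := exists_glue L (fun i : ι => (le_top : W i ≤ ⊤)) C.cover (fun i => g' i • e i)
    (fun i k => by
      rw [res_smul, res_smul, hfam' i k, hu i k, smul_smul]
      exact congrArg (· • _) (mul_comm _ _))
  have hτgen : IsGen L ⊤ τ := IsGen.of_local fun x _ => by
    obtain ⟨i, hi⟩ := Opens.mem_iSup.mp (C.cover (trivial : x ∈ (⊤ : X.Opens)))
    refine ⟨W i.1, le_top, hi, ?_⟩
    rw [hτ i]
    exact (he i).smul_unit (hgu i)
  exact PicLaw.nonempty_iso_of_transition (fun _ : PUnit.{1} => (⊤ : X.Opens)) (fun x => ⟨⟨⟩, trivial⟩)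
    (fun _ => τ) (fun _ => hτgen) (fun _ => one' ⊤) (fun _ => isGen_one ⊤)
    fun _ _ V hi hj => ⟨1, (one_smul _ _).symm, (one_smul _ _).symm⟩

end Groth.Agent.S1395
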