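import Groth.Statements.S13951
import Groth.Agent.AlgSpB.RedInduced
import Mathlib.Topology.Separation.Connected
-- import your own Groth.Agent.* helpers here

set_option autoImplicit false
universe u
open TateLoc

namespace Groth.Agent.S13951

open CategoryTheory CategoryTheory.Limits MonoidalCategory CartesianMonoidalCategory MonObj AlgebraicGeometry Opposite in
/-- A point of a finite scheme with connected fibres over a reduced test object is the identity. -/
theorem eq_one {S : Scheme.{u}} (I : Over S) [GrpObj I] [IsFinite I.hom]
    (hconn : ∀ s : S, ConnectedSpace ↥(I.hom.fiber s)) (T : Over S) [IsReduced T.left] (t : T ⟶ I) :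
    t = 1 := by
  have he : η[I].left ≫ I.hom = 𝟙 S := Over.w η[I]
  have : IsIso (η[I].left ≫ I.hom) := by rw [he]; exact IsIso.id S
  have : IsClosedImmersion (η[I].left ≫ I.hom) := inferInstance
  have : IsClosedImmersion η[I].left := IsClosedImmersion.of_comp η[I].left I.hom
  have hpt : ∀ y : I.left, y = η[I].left.base (I.hom.base y) := fun y => by
    have : ConnectedSpace ↥(I.hom.fiber (I.hom.base y)) := hconn _
    have : DiscreteTopology ↥(I.hom.fiber (I.hom.base y)) :=
      ((IsArtinianScheme.iff_isNoetherian_and_discreteTopology).1 inferInstance).2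
    have : Subsingleton ↥(I.hom.fiber (I.hom.base y)) := PreconnectedSpace.trivial_of_discrete
    obtain ⟨a, ha⟩ := (Scheme.Hom.range_fiberι I.hom (I.hom.base y)).ge (show y ∈ I.hom.base ⁻¹' {I.hom.base y} from rfl)
    obtain ⟨b, hb⟩ := (Scheme.Hom.range_fiberι I.hom (I.hom.base y)).ge
      (show η[I].left.base (I.hom.base y) ∈ I.hom.base ⁻¹' {I.hom.base y} by
        show I.hom.base _ = _
        rw [← Scheme.Hom.comp_apply, he]
        rfl)
    rw [← hb, ← Subsingleton.elim a b, ha]
  have : Surjective (pullback.fst t.left η[I].left) := ⟨fun x => by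
    obtain ⟨z, hz, -⟩ := Scheme.Pullback.exists_preimage_pullback (f := t.left) (g := η[I].left) x
      (I.hom.base (t.left.base x)) (hpt _)
    exact ⟨z, hz⟩⟩
  have := isIso_of_isClosedImmersion_of_surjective (pullback.fst t.left η[I].left)
  let l : T.left ⟶ S := inv (pullback.fst t.left η[I].left) ≫ pullback.snd t.left η[I].left
  have hl : l ≫ η[I].left = t.left := by
    simp only [l, Category.assoc, ← pullback.condition, IsIso.inv_hom_id_assoc]
  have hl' : l = T.hom := by
    have h2 := congrArg (· ≫ I.hom) hl
    simp only [Category.assoc, he] at h2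
    exact (Category.comp_id l).symm.trans (h2.trans (Over.w t))
  rw [Hom.one_def]
  refine Over.OverMorphism.ext ?_
  rw [← hl, hl', Over.comp_left]
  rfl


open CategoryTheory AlgebraicGeometry CategoryTheory.Limits in
/-- Let S be a reduced scheme and I a finite locally free commutative S-group scheme (finite, flat, of
finite presentation) whose fibres over all points of S are connected. Then the restriction of the
sheaf of points of I from the big fppf site of S to the small etale site of S is the zero sheaf. -/
theorem result (S : Scheme.{u}) [IsReduced S]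
    (I : Over S) [GrpObj I] [IsCommMonObj I] [IsFinite I.hom] [Flat I.hom] [LocallyOfFinitePresentation I.hom]
    (hconn : ∀ s : S, ConnectedSpace ↥(I.hom.fiber s)) :
    IsZero ((BigSite.resEt Scheme.fppfPrecoverage S).obj (CGrpSh.pts Scheme.fppfPrecoverage I)) := by
  refine (IsZero.iff_id_eq_zero _).2 ?_
  ext E x
  have : IsReduced (((EtFppf.a S).obj E.unop).left) :=
    @Groth.Agent.AlgSpB.isReduced_of_etale _ S E.unop.hom E.unop.prop (inferInstance : IsReduced S)
  obtain ⟨t⟩ := x
  open MonObj in
  exact (ULift.ext _ _ (congrArg Additive.ofMul (eq_one I hconn ((EtFppf.a S).obj E.unop) t.toMul)) :)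

end Groth.Agent.S13951
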