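import Groth.Statements.S13953
-- import your own Groth.Agent.* helpers here

set_option autoImplicit false
universe u
open TateLoc

namespace Groth.Agent.S13953

/-- Let (R_i) be a family of local commutative rings and R = ∏ R_i. Any open cover of Spec R can be
refined by one coming from a finite partition of the index set: there is a map c from the index set
to a finite set such that, for each value m, the basic open subset of Spec R defined by the
idempotent which is 1 at the indices with c i = m and 0 elsewhere (this open is the spectrum of the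
product of the R_i over that class) is contained in some member of the cover. -/
theorem result {ι : Type u} (R : ι → Type u)
    [∀ i, CommRing (R i)] [∀ i, IsLocalRing (R i)] {J : Type u}
    (U : J → TopologicalSpace.Opens (PrimeSpectrum (∀ i, R i))) (hU : ⨆ j, U j = ⊤) :
    ∃ (n : ℕ) (c : ι → Fin n), ∀ m : Fin n, ∃ j : J,
      PrimeSpectrum.basicOpen (fun i => if c i = m then (1 : R i) else 0) ≤ U j := by
  classical
  have hspan : Ideal.span {f : ∀ i, R i | ∃ j, PrimeSpectrum.basicOpen f ≤ U j} = ⊤ := by
    by_contra h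
    obtain ⟨m, hm, hle⟩ := Ideal.exists_le_maximal _ h
    obtain ⟨j, hj⟩ := TopologicalSpace.Opens.mem_iSup.1 (show (⟨m, hm.isPrime⟩ : PrimeSpectrum (∀ i, R i)) ∈ ⨆ j, U j by rw [hU]; trivial)
    obtain ⟨_, ⟨f, rfl⟩, hxf, hfU⟩ := PrimeSpectrum.isTopologicalBasis_basic_opens.exists_subset_of_mem_open hj (U j).isOpen
    exact hxf (hle (Ideal.subset_span ⟨j, hfU⟩))
  obtain ⟨T, hTs, hT⟩ := Submodule.mem_span_finite_of_mem_span (hspan ▸ Submodule.mem_top (x := (1 : ∀ i, R i)))
  obtain ⟨g, hg⟩ := Submodule.mem_span_finset.1 hT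
  have hc : ∀ i, ∃ m : Fin T.card, IsUnit ((T.equivFin.symm m : ∀ i, R i) i) := by
    intro i
    by_contra h
    push Not at h
    have h1 := congrFun hg.2 i
    rw [Finset.sum_apply, Pi.one_apply] at h1
    refine IsLocalRing.maximalIdeal.isMaximal (R i) |>.ne_top ((Ideal.eq_top_iff_one _).2 (h1 ▸ Submodule.sum_mem _ fun f hf => ?_))
    exact Ideal.mul_mem_left _ _ (by simpa using h (T.equivFin ⟨f, hf⟩))
  choose c hc using hc
  refine ⟨T.card, c, fun m => ?_⟩
  obtain ⟨j, hj⟩ := hTs (T.equivFin.symm m).2
  refine ⟨j, le_trans ?_ hj⟩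
  intro x hx hfx
  apply hx
  have e : (fun i => if c i = m then (1 : R i) else 0) =
      (fun i => if c i = m then Ring.inverse ((T.equivFin.symm m : ∀ i, R i) i) else 0) * (T.equivFin.symm m : ∀ i, R i) := by
    funext i
    by_cases h : c i = m
    · rw [Pi.mul_apply, if_pos h, if_pos h, ← h, Ring.inverse_mul_cancel _ (hc i)]
    · simp [h]
  rw [e]
  exact Ideal.mul_mem_left _ _ hfx

end Groth.Agent.S13953
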