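import Groth.Statements.S13958
import Mathlib.GroupTheory.FiniteAbelian.Basic

set_option autoImplicit false
universe u
open TateLoc

namespace Groth.Agent.S13958

lemma residuallyFinite (G : Type u) [CommGroup G] [Group.FG G] : Group.ResiduallyFinite G := by
  obtain ⟨ι, j, _, _, p, hp, e, ⟨φ⟩⟩ := CommGroup.equiv_free_prod_prod_multiplicative_zmod G
  have : ∀ i, NeZero (p i ^ e i) := fun i => ⟨pow_ne_zero _ (hp i).ne_zero⟩
  refine Group.residuallyFinite_of_forall_exists_finite_monoidHom.{_, 0} fun g hg => ?_
  by_cases h2 : (φ g).2 = 1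
  · obtain ⟨k, hk⟩ : ∃ k, (φ g).1 k ≠ 1 := Function.ne_iff.1 fun h =>
      hg (φ.injective (by rw [map_one]; exact Prod.ext h h2))
    let n : ℕ := (Multiplicative.toAdd ((φ g).1 k)).natAbs + 1
    refine ⟨Multiplicative (ZMod n), inferInstance, inferInstance,
      (AddMonoidHom.toMultiplicative (Int.castAddHom (ZMod n))).comp
        ((Pi.evalMonoidHom (fun _ : j => Multiplicative ℤ) k).comp ((MonoidHom.fst _ _).comp φ.toMonoidHom)), fun h => hk ?_⟩
    have h' : ((Multiplicative.toAdd ((φ g).1 k) : ℤ) : ZMod n) = 0 := h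
    rw [ZMod.intCast_zmod_eq_zero_iff_dvd, Int.natCast_dvd] at h'
    have h0 : (Multiplicative.toAdd ((φ g).1 k)).natAbs = 0 :=
      Nat.eq_zero_of_dvd_of_lt h' (Nat.lt_succ_self _)
    exact Multiplicative.toAdd.injective (Int.natAbs_eq_zero.1 h0)
  · exact ⟨(i : ι) → Multiplicative (ZMod (p i ^ e i)), inferInstance, inferInstance,
      (MonoidHom.snd _ _).comp φ.toMonoidHom, h2⟩

open CategoryTheory in
/-- Let A' be a finitely generated abelian group (written multiplicatively, discrete) and A a subgroup.
If the image of x ∈ A' in the profinite completion of A' lies in the image of the profinite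
completion of A under the map induced by the inclusion, then x ∈ A. (The published statement says
that the square formed by the two completion maps and the two inclusions is Cartesian; given the
injectivity of the induced map on completions, which holds here, that amounts to this membership
criterion.) -/
theorem result (A' : Type u) [CommGroup A'] [Group.FG A']
    (A : Subgroup A') (x : A')
    (hx : ProfiniteGrp.ProfiniteCompletion.etaFn (GrpCat.of A') x ∈
      Set.range ⇑(ProfiniteGrp.profiniteCompletion.map (GrpCat.ofHom A.subtype)).hom) :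
    x ∈ A := by
  by_contra hxA
  have := residuallyFinite (A' ⧸ A)
  obtain ⟨H, hH⟩ := Group.exists_finiteIndexNormalSubgroup_notMem (x : A' ⧸ A)
    (by rwa [Ne, QuotientGroup.eq_one_iff])
  let H' : FiniteIndexNormalSubgroup (GrpCat.of A') := H.comap (QuotientGroup.mk' A)
  let F := ProfiniteGrp.profiniteCompletion.map (GrpCat.ofHom A.subtype)
  obtain ⟨y, hy⟩ := hx
  let _ : TopologicalSpace (A' ⧸ H'.toSubgroup) := ⊥
  have : DiscreteTopology (A' ⧸ H'.toSubgroup) := ⟨rfl⟩
  have hF : ∀ y, (F.hom y).1 H' = (1 : A' ⧸ H'.toSubgroup) := by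
    refine congrFun ((ProfiniteGrp.ProfiniteCompletion.denseRange (GrpCat.of A)).equalizer
      (g := fun y => ((F.hom y).1 H' : A' ⧸ H'.toSubgroup)) (h := fun _ => (1 : A' ⧸ H'.toSubgroup)) ?_ continuous_const ?_)
    · exact (continuous_apply H').comp (continuous_subtype_val.comp F.hom.continuous_toFun)
    · funext a
      have e := ConcreteCategory.congr_hom (ProfiniteGrp.ProfiniteCompletion.lift_eta
        (GrpCat.ofHom A.subtype ≫ ProfiniteGrp.ProfiniteCompletion.eta (GrpCat.of A'))) a
      show (F.hom (ProfiniteGrp.ProfiniteCompletion.etaFn _ a)).1 H' = _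
      refine (congrArg (fun z => z.1 H') e).trans ?_
      refine (QuotientGroup.eq_one_iff _).2 ?_
      show ((a : A') : A' ⧸ A) ∈ H
      rw [(QuotientGroup.eq_one_iff _).2 a.2]
      exact one_mem _
  have h1 := hF y
  rw [show F.hom y = _ from hy] at h1
  exact hH ((QuotientGroup.eq_one_iff x).1 h1 : x ∈ H'.toSubgroup)

end Groth.Agent.S13958
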