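import Groth.Statements.S13963
import Mathlib

set_option autoImplicit false
universe u
open TateLoc

namespace Groth.Agent.S13963

open Topology

/-- Let A' → A → A'' be continuous homomorphisms of locally compact, second-countable, Hausdorff abelian
topological groups which form a short exact sequence of abstract groups (the first injective, the
second surjective, image equal to kernel). If A' and A'' are compact, then A is compact. -/
theorem result (A' A A'' : Type u)
    [AddCommGroup A'] [TopologicalSpace A'] [IsTopologicalAddGroup A'] [SecondCountableTopology A'] [T2Space A']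
    [CompactSpace A']
    [AddCommGroup A] [TopologicalSpace A] [IsTopologicalAddGroup A] [LocallyCompactSpace A]
    [SecondCountableTopology A] [T2Space A]
    [AddCommGroup A''] [TopologicalSpace A''] [IsTopologicalAddGroup A''] [SecondCountableTopology A''] [T2Space A'']
    [CompactSpace A'']
    (f : A' →+ A) (g : A →+ A'') (hf : Continuous f) (hg : Continuous g)
    (hinj : Function.Injective f) (hsurj : Function.Surjective g) (hex : g.ker = f.range) :
    CompactSpace A := by
  have hgo : IsOpenMap g := AddMonoidHom.isOpenMap_of_sigmaCompact g hsurj hg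
  choose C hCc hC using fun x : A => exists_compact_mem_nhds x
  have hcov : (Set.univ : Set A'') ⊆ ⋃ x, g '' interior (C x) := fun y _ => by
    obtain ⟨x, rfl⟩ := hsurj y
    exact Set.mem_iUnion.mpr ⟨x, x, mem_interior_iff_mem_nhds.mpr (hC x), rfl⟩
  obtain ⟨t, ht⟩ := isCompact_univ.elim_finite_subcover _ (fun x => hgo _ isOpen_interior) hcov
  have hK : IsCompact (⋃ x ∈ t, C x) := t.finite_toSet.isCompact_biUnion fun x _ => hCc x
  have hall := ((hK.prod (isCompact_range hf)).image (continuous_fst.add continuous_snd))
  refine ⟨?_⟩
  convert hall
  symm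
  rw [Set.eq_univ_iff_forall]
  intro a
  obtain ⟨x, hx, hga⟩ := Set.mem_iUnion₂.mp (ht (Set.mem_univ (g a)))
  obtain ⟨c, hc, hcg⟩ := hga
  have hker : a - c ∈ g.ker := by rw [AddMonoidHom.mem_ker, map_sub, hcg, sub_self]
  rw [hex] at hker
  exact ⟨(c, a - c), ⟨Set.mem_biUnion hx (interior_subset hc), hker⟩, add_sub_cancel c a⟩

end Groth.Agent.S13963
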