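import Groth.Statements.S13964
import Groth.Agent.GaExt87.Pic
import Groth.Agent.GaExt87.HomEdge
import Groth.Agent.BigBC.Rpush
import Groth.Agent.PicCl.Basic
import Groth.Agent.S0233

set_option autoImplicit false
set_option backward.isDefEq.respectTransparency false
set_option backward.isDefEq.respectTransparency.types false
universe u
open TateLoc

namespace Groth.Agent.S13964

open CategoryTheory CategoryTheory.Limits AlgebraicGeometry Opposite Abelian

noncomputable section

open Groth.Agent.GaExt87 in
theorem picTrivial_of_isIso {T : Scheme.{u}} (k' : Type u) [Field k'] (j' : T ⟶ Spec (CommRingCat.of k')) [IsIso j']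
    (M : T.Modules) (hM : PicF.IsInvertible M) : Nonempty (M ≅ Coh.structureModule T) := by
  let e := j'.isoOpensRange
  obtain ⟨i⟩ := Groth.Agent.S0233.result k' j'.opensRange
    ((Scheme.Modules.pullback e.inv).obj M) (PicCl.isInvertible_pullback e.inv hM)
  exact ⟨((Scheme.Modules.pullbackId _).app M).symm ≪≫
    (Scheme.Modules.pullbackCongr e.hom_inv_id.symm).app M ≪≫
    ((Scheme.Modules.pullbackComp e.hom e.inv).app M).symm ≪≫
    (Scheme.Modules.pullback e.hom).mapIso i ≪≫ PicLoc.pullbackStructureIso e.hom⟩

open TateLoc in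
/-- Take fields k and k' with k' finite and separable over k. The Weil restriction of the multiplicative
group from k' to k, as an abelian sheaf on the big fppf site of Spec k, is the direct image of the
multiplicative group along Spec k' → Spec k; its first cohomology H^1(k, R_{k'/k}(𝔾_m)) vanishes.
(The published statement is for the Weil restriction of any split k'-torus, a finite product of
copies of this case.) -/
theorem result (k k' : Type u) [Field k] [Field k'] [Algebra k k']
    [FiniteDimensional k k'] [Algebra.IsSeparable k k'] :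
    Subsingleton (BigSite.H Scheme.fppfPrecoverage (Spec (CommRingCat.of k)) ((BigSite.pushBig Scheme.fppfPrecoverage (Spec.map (CommRingCat.ofHom (algebraMap k k'))) AddCommGrpCat.{u+1}).obj (CGrpSh2.Gm Scheme.fppfPrecoverage (Spec (CommRingCat.of k')))) 1) := by
  let f := Spec.map (CommRingCat.ofHom (algebraMap k k'))
  let S₀ := Spec (CommRingCat.of k)
  let P := BigSite.pushBig Scheme.fppfPrecoverage f AddCommGrpCat.{u + 1}
  let adj := BigSite.bigAdj Scheme.fppfPrecoverage f AddCommGrpCat.{u + 1}
  haveI : PreservesFiniteLimits P := by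
    have : PreservesLimitsOfSize.{0, 0} P := adj.rightAdjoint_preservesLimits
    exact PreservesLimitsOfSize.preservesFiniteLimits _
  haveI : (BigSite.pullBig Scheme.fppfPrecoverage f AddCommGrpCat.{u + 1}).PreservesMonomorphisms :=
    inferInstance
  haveI : P.PreservesInjectiveObjects :=
    Functor.preservesInjectiveObjects_of_adjunction_of_preservesMonomorphisms adj
  let G := CGrpSh2.Gm Scheme.fppfPrecoverage (Spec (CommRingCat.of k'))
  let em : G ⟶ Injective.under G := Injective.ι G
  let π := cokernel.π em
  have hS : (ShortComplex.mk em π (cokernel.condition em)).ShortExact :=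
    { exact := ShortComplex.exact_cokernel _ }
  let π' := cokernel.π (P.map em)
  have hS' : (ShortComplex.mk (P.map em) π' (cokernel.condition (P.map em))).ShortExact :=
    { exact := ShortComplex.exact_cokernel _, mono_f := inferInstance }
  let c : cokernel (P.map em) ⟶ P.obj (cokernel em) :=
    cokernel.desc (P.map em) (P.map π) (by rw [← P.map_comp, cokernel.condition, P.map_zero])
  have hc : Mono c := by
    have hSe : ((ShortComplex.mk em π (cokernel.condition em)).map P).Exact :=
      hS.exact.map_of_mono_of_preservesKernel P inferInstance inferInstance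
    exact hSe.mono_cokernelDesc
  refine ⟨fun x y => ?_⟩
  suffices ∀ e : Ext.{u + 1} (GaExt87.HomEdge.Zc (QuotSh.J Scheme.fppfPrecoverage S₀)) (P.obj G) 1, e = 0 from
    (this x).trans (this y).symm
  intro e
  haveI : Injective (P.obj (Injective.under G)) := Functor.injective_obj_of_injective P (h := inferInstance)
  obtain ⟨σ₀, hσ₀⟩ := Ext.covariant_sequence_exact₁ _ hS' e (Ext.eq_zero_of_injective _) (rfl : 0 + 1 = 1)
  obtain ⟨σ, rfl⟩ := (Ext.mk₀_bijective _ _).2 σ₀
  let T₀ : Over S₀ := Over.mk (𝟙 S₀)
  let T : Over (Spec (CommRingCat.of k')) := (Over.pullback f).obj T₀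
  haveI : IsIso T.hom := by
    show IsIso (pullback.snd (𝟙 S₀) f)
    infer_instance
  obtain ⟨t, ht⟩ := GaExt87.exists_lift hS T (picTrivial_of_isIso k' T.hom)
    (GaExt87.HomEdge.secs (σ ≫ c) T₀)
  let t' : (P.obj (Injective.under G)).obj.obj (op T₀) := t
  have ht' : GaExt87.HomEdge.sm (P.map π) T₀ t' = GaExt87.HomEdge.secs (σ ≫ c) T₀ := ht
  let toT : ∀ U : Over S₀, U ⟶ T₀ := fun U => Over.homMk U.hom (Category.comp_id _)
  have huniq : ∀ {U : Over S₀} (a b : U ⟶ T₀), a = b := fun a b => Over.OverMorphism.ext
    ((Category.comp_id a.left).symm.trans ((Over.w a).trans ((Over.w b).symm.trans (Category.comp_id b.left))))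
  obtain ⟨τ, hτ⟩ := GaExt87.HomEdge.exists_secs (fun U => GaExt87.HomEdge.rs _ (toT U) t') fun U V h => by
    rw [GaExt87.HomEdge.rs_rs]
    exact congrArg (fun q => GaExt87.HomEdge.rs _ q t') (huniq _ _)
  have hlift : τ ≫ π' = σ := by
    apply (cancel_mono c).1
    refine GaExt87.HomEdge.secs_ext fun U => ?_
    rw [Category.assoc, show π' ≫ c = P.map π from cokernel.π_desc _ _ _, GaExt87.HomEdge.secs_comp, hτ,
      GaExt87.HomEdge.sm_rs, ht', GaExt87.HomEdge.rs_secs]
  have h0 : (Ext.mk₀ π').comp hS'.extClass (zero_add 1) = 0 := hS'.comp_extClass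
  rw [← hσ₀, ← hlift, ← Ext.mk₀_comp_mk₀, Ext.comp_assoc_of_second_deg_zero, h0, Ext.comp_zero]

end

end Groth.Agent.S13964
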