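import Groth.Statements.S13971
import Groth.Agent.ArtFunLib.T1Lift

set_option autoImplicit false
universe u v
open CategoryTheory
open ArtFun

namespace Groth.Agent.S13971

open Groth.Agent.ArtFunLib

/-- Let k be a field of characteristic zero and F a deformation functor on Artinian local k-algebras
with residue field k — F(k) is a point and the comparison map F(A₁ ×_A A₂) → F(A₁) ×_{F(A)} F(A₂) is
bijective whenever A₂ → A is surjective — whose tangent space F(k[ε]) is finite-dimensional. Suppose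
that for every object A and every surjective morphism q : A'' → A' between split square-zero
extensions of A (A' and A'' come with retractions onto A whose kernels have square zero and with
sections from A, and q commutes with the retractions and the sections), the map F(q) : F(A'') →
F(A') is surjective. Then F is unobstructed: F(B) → F(A) is surjective for every surjective B → A.
(The published statement is for deformation categories, with the hypothesis that, for every object
over A, the functor M ↦ {isomorphism classes of its liftings to A ⊕ M} on finite A-modules carries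
surjections to surjections; this row is the case of a category fibred in sets, for which a split
square-zero extension of A is A ⊕ M with M the kernel, a finite A-module, and that hypothesis is the
displayed surjectivity.) -/
theorem result {k : Type u} [Field k] [CharZero k]
    (F : ArtFun.Art k k ⥤ Type v) [ArtFun.TangentStr F]
    (h0 : ArtFun.H0 F)
    (hRS : (∀ ⦃B A A' A'' : ArtFun.Art k k⦄ (p' : B ⟶ A') (p'' : B ⟶ A'') (f' : A' ⟶ A) (f'' : A'' ⟶ A)
        (h : ArtFun.Art.IsFibreProd p' p'' f' f''), Function.Surjective f'' → Function.Bijective (ArtFun.cmp F h)))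
    (hfin : ArtFun.Hfin F)
    (hT1 : ∀ ⦃A A' A'' : ArtFun.Art k k⦄ (π' : A' ⟶ A) (i' : A ⟶ A') (π'' : A'' ⟶ A) (i'' : A ⟶ A'')
        (q : A'' ⟶ A'), i' ≫ π' = 𝟙 A → i'' ≫ π'' = 𝟙 A →
        RingHom.ker π'.toAlgHom * RingHom.ker π'.toAlgHom = ⊥ →
        RingHom.ker π''.toAlgHom * RingHom.ker π''.toAlgHom = ⊥ →
        q ≫ π' = π'' → i'' ≫ q = i' → Function.Surjective q → Function.Surjective (F.map q)) :
    ArtFun.IsSmoothFunctor F := by
  haveI := h0.2
  have hid : Function.Surjective (algebraMap k k) := fun c => ⟨c, rfl⟩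
  have hεs : Function.Surjective (ArtFun.Art.toBase (ArtFun.Art.dual k k)) := (ArtFun.Art.dual k k).res_surjective
  obtain ⟨P⟩ := isProrepresentable_of_conditions h0 (fun _ _ _ _ _ _ _ _ h hf => (hRS _ _ _ _ h hf.1).2)
    (fun _ _ _ _ h => hRS _ _ _ _ h hεs) hfin (fun _ _ _ _ _ _ h hf => hRS _ _ _ _ h hf.1)
    (seesDerivations_of_surjective hid)
  refine (isSmoothFunctor_iff_hR (isMiniversal_of_isUniversal _ P.universal).1).2
    (isSmoothFunctor_hR_of_derivations fun N φ => ?_)
  let A := P.ring.trunc N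
  haveI : IsLocalRing (DualNumber A) := IsLocalRing.of_isUnit_or_isUnit_one_sub_self fun a => by
    rw [TrivSqZeroExt.isUnit_iff_isUnit_fst, TrivSqZeroExt.isUnit_iff_isUnit_fst]
    exact IsLocalRing.isUnit_or_isUnit_one_sub_self _
  haveI : Module.Finite k A := module_finite A
  haveI : Module.Finite k (DualNumber A) := inferInstanceAs (Module.Finite k (A × A))
  haveI : IsArtinianRing (DualNumber A) := IsArtinianRing.of_finite k _
  let A'' : ArtFun.Art k k := ArtFun.Art.of (DualNumber A) (A.res.comp (TrivSqZeroExt.fstHom k A A))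
    (fun c => by obtain ⟨a, ha⟩ := A.res_surjective c; exact ⟨TrivSqZeroExt.inl a, ha⟩)
  let π'' : A'' ⟶ A := ⟨TrivSqZeroExt.fstHom k A A, rfl⟩
  let i'' : A ⟶ A'' := ⟨(TrivSqZeroExt.inlAlgHom A A A).restrictScalars k, AlgHom.ext fun a => rfl⟩
  let g₀ : DualNumber A →ₐ[k] DualNumber k :=
    AlgHom.ofLinearMap
      { toFun := fun z : DualNumber A => (TrivSqZeroExt.inl (A.res z.fst) + TrivSqZeroExt.inr (A.res z.snd) : DualNumber k)
        map_add' := fun a b => by ext <;> simp
        map_smul' := fun c a => by ext <;> simp }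
      (by ext <;> simp) (fun a b => by ext <;> simp <;> ring)
  have hg₀ : ∀ z, TrivSqZeroExt.fst (g₀ z) = A.res (TrivSqZeroExt.fst z) := fun z => by simp [g₀]
  let g'' : A'' ⟶ ArtFun.Art.dual k k := ⟨g₀, AlgHom.ext hg₀⟩
  obtain ⟨A', π', g', hA'⟩ := exists_isFibreProd (ArtFun.Art.toBase A) (ArtFun.Art.toBase (ArtFun.Art.dual k k)) hεs
  obtain ⟨i', hi₁, hi₂⟩ := exists_lift hA' (𝟙 A) (ArtFun.Art.toBase A ≫ ArtFun.Art.baseToDual)
    (by rw [ArtFun.Art.eq_toBase (𝟙 A ≫ _), ArtFun.Art.eq_toBase ((ArtFun.Art.toBase A ≫ ArtFun.Art.baseToDual) ≫ _)])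
  obtain ⟨q, hq₁, hq₂⟩ := exists_lift hA' π'' g''
    (by rw [ArtFun.Art.eq_toBase (π'' ≫ _), ArtFun.Art.eq_toBase (g'' ≫ _)])
  have hsq' : RingHom.ker π'.toAlgHom * RingHom.ker π'.toAlgHom = ⊥ := by
    rw [← le_bot_iff, Ideal.mul_le]
    intro z hz w hw
    have hz' : π' z = 0 := hz
    have hw' : π' w = 0 := hw
    have hfst : ∀ z : A', π' z = 0 → TrivSqZeroExt.fst (R := k) (M := k) (g' z) = 0 := fun z hz => by
      rw [show TrivSqZeroExt.fst (R := k) (M := k) (g' z) = (ArtFun.Art.dual k k).res (g' z) from rfl,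
        ArtFun.Art.res_app g', ← ArtFun.Art.res_app π', hz, map_zero]
    refine Ideal.mem_bot.2 (hA'.inj _ _ (by rw [map_mul, hz', zero_mul, map_zero]) ?_)
    rw [map_mul, map_zero]
    exact TrivSqZeroExt.ext
      ((TrivSqZeroExt.fst_mul (R := k) (M := k) _ _).trans (by rw [hfst z hz', zero_mul]; rfl))
      ((DualNumber.snd_mul (R := k) _ _).trans (by rw [hfst z hz', hfst w hw', zero_mul, mul_zero, add_zero]; rfl))
  have hsq'' : RingHom.ker π''.toAlgHom * RingHom.ker π''.toAlgHom = ⊥ := by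
    rw [← le_bot_iff, Ideal.mul_le]
    intro z hz w hw
    have hz' : TrivSqZeroExt.fst (R := A) (M := A) z = 0 := hz
    have hw' : TrivSqZeroExt.fst (R := A) (M := A) w = 0 := hw
    exact Ideal.mem_bot.2 (TrivSqZeroExt.ext
      ((TrivSqZeroExt.fst_mul (R := A) (M := A) _ _).trans (by rw [hz', zero_mul]; rfl))
      ((DualNumber.snd_mul (R := A) _ _).trans (by rw [hz', hw', zero_mul, mul_zero, add_zero]; rfl)))
  have hqi : i'' ≫ q = i' := hom_ext_of_isFibreProd hA'
    (by rw [Category.assoc, hq₁, hi₁]; rfl)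
    (by
      rw [Category.assoc, hq₂, hi₂]
      refine dual_ext fun a => ?_
      rw [snd_toBase_baseToDual]
      change TrivSqZeroExt.snd (TrivSqZeroExt.inl (A.res (TrivSqZeroExt.fst (TrivSqZeroExt.inl a : DualNumber A))) +
          TrivSqZeroExt.inr (A.res (TrivSqZeroExt.snd (TrivSqZeroExt.inl a : DualNumber A))) : DualNumber k) = 0
      simp)
  have hqs : Function.Surjective q := fun z => by
    obtain ⟨a, ha⟩ := A.res_surjective (TrivSqZeroExt.snd (R := k) (M := k) (g' z))
    refine ⟨(TrivSqZeroExt.inl (π' z) + TrivSqZeroExt.inr a : DualNumber A), hA'.inj _ _ ?_ ?_⟩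
    · rw [← ArtFun.Art.comp_apply, hq₁]
      change TrivSqZeroExt.fst (TrivSqZeroExt.inl (π' z) + TrivSqZeroExt.inr a : DualNumber A) = π' z
      simp
    · rw [← ArtFun.Art.comp_apply, hq₂]
      change (TrivSqZeroExt.inl (A.res (TrivSqZeroExt.fst (TrivSqZeroExt.inl (π' z) + TrivSqZeroExt.inr a : DualNumber A))) +
          TrivSqZeroExt.inr (A.res (TrivSqZeroExt.snd (TrivSqZeroExt.inl (π' z) + TrivSqZeroExt.inr a : DualNumber A))) : DualNumber k) = g' z
      refine TrivSqZeroExt.ext ?_ ?_
      · simp [ArtFun.Art.res_app π' z]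
        exact (ArtFun.Art.res_app g' z).symm
      · simp [ha]
  have hlift := hT1 π' i' π'' i'' q hi₁ rfl hsq' hsq'' hq₁ hqi hqs
  obtain ⟨χ, hχ₁, hχ₂⟩ := exists_homSet_lift hA' (P.ring.truncHom N) φ
    ((eq_basePoint _ _ _).trans (eq_basePoint _ _ _).symm)
  obtain ⟨y, hy⟩ := hlift (P.family.app A' χ)
  obtain ⟨ψ, rfl⟩ := (P.universal A'').2 y
  have hψ : ArtFun.HomSet.map q ψ = χ := (P.universal A').1 ((P.family.natural q ψ).trans hy)
  refine ⟨ψ.1, fun a => ?_, fun a => ?_⟩
  · have := congrArg (fun t : ArtFun.HomSet P.ring.carrier P.ring.res A' => π' (t.1 a)) hψ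
    have e : π' (q (ψ.1 a)) = π'' (ψ.1 a) := by rw [← ArtFun.Art.comp_apply, hq₁]
    exact (e.symm.trans this).trans (congrArg (fun t : ArtFun.HomSet P.ring.carrier P.ring.res A => t.1 a) hχ₁)
  · have := congrArg (fun t : ArtFun.HomSet P.ring.carrier P.ring.res A' =>
      TrivSqZeroExt.snd (R := k) (M := k) (g' (t.1 a))) hψ
    have e : g' (q (ψ.1 a)) = g'' (ψ.1 a) := by rw [← ArtFun.Art.comp_apply, hq₂]
    refine Eq.trans ?_ (this.trans (congrArg (fun t : ArtFun.HomSet P.ring.carrier P.ring.res (ArtFun.Art.dual k k) =>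
      TrivSqZeroExt.snd (R := k) (M := k) (t.1 a)) hχ₂))
    refine Eq.trans ?_ (congrArg (TrivSqZeroExt.snd (R := k) (M := k)) e.symm)
    change _ = TrivSqZeroExt.snd (TrivSqZeroExt.inl (A.res (TrivSqZeroExt.fst (ψ.1 a : DualNumber A))) +
          TrivSqZeroExt.inr (A.res (TrivSqZeroExt.snd (ψ.1 a : DualNumber A))) : DualNumber k)
    rw [TrivSqZeroExt.snd_add, TrivSqZeroExt.snd_inl, TrivSqZeroExt.snd_inr, zero_add]
    rfl

end Groth.Agent.S13971
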