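import Groth.Statements.S13972
import Mathlib
import Groth.Agent.SqZeroKoszul.Basic
import Groth.Agent.KReg44.Basic

set_option autoImplicit false
universe u
set_option linter.style.haveILetI false
set_option maxHeartbeats 800000
open LCI

namespace Groth.Agent.S13972

open scoped TensorProduct

/-- `A/I → (B/IB)/(rs)`. -/
noncomputable def str (A B : Type u) [CommRing A] [CommRing B] [Algebra A B] (I : Ideal A) (rs : List B) :
    A ⧸ I →+* (B ⧸ I.map (algebraMap A B)) ⧸ Ideal.ofList (rs.map (Ideal.Quotient.mk (I.map (algebraMap A B)))) :=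
  (Ideal.Quotient.mk _).comp (Ideal.quotientMap (I.map (algebraMap A B)) (algebraMap A B) Ideal.le_comap_map)

theorem base (A B : Type u) [CommRing A] [CommRing B] [Algebra A B] [Module.Flat A B] (J : Ideal A)
    (hJ : J * J = ⊥) (rs : List B)
    (hreg : LCI.IsKoszulRegularSeq (B ⧸ J.map (algebraMap A B))
      (rs.map (Ideal.Quotient.mk (J.map (algebraMap A B)))))
    (hflat : (str A B J rs).Flat) :
    LCI.IsKoszulRegularSeq B rs ∧ Module.Flat A (B ⧸ Ideal.ofList rs) := by
  refine Groth.Agent.SqZeroKoszul.isKoszulRegularSeq_and_flat J hJ rs hreg ?_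
  rw [← RingHom.flat_algebraMap_iff]
  refine (?_ : algebraMap (A ⧸ J) _ = str A B J rs) ▸ hflat
  exact Ideal.Quotient.ringHom_ext (RingHom.ext fun a => rfl)

theorem lift : ∀ (n : ℕ) (A B : Type u) [CommRing A] [CommRing B] [Algebra A B] [Module.Flat A B]
    (I : Ideal A), I ^ (n + 2) = ⊥ → ∀ (rs : List B),
    LCI.IsKoszulRegularSeq (B ⧸ I.map (algebraMap A B))
      (rs.map (Ideal.Quotient.mk (I.map (algebraMap A B)))) →
    (str A B I rs).Flat →
    LCI.IsKoszulRegularSeq B rs ∧ Module.Flat A (B ⧸ Ideal.ofList rs)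
  | 0, A, B, _, _, _, _, I, hI, rs, hreg, hflat => base A B I (by rw [← pow_two]; exact hI) rs hreg hflat
  | n + 1, A, B, _, _, _, _, I, hI, rs, hreg, hflat => by
    let J : Ideal A := I ^ (n + 2)
    have hJ : J * J = ⊥ := by
      rw [eq_bot_iff, ← hI, ← pow_add]
      exact Ideal.pow_le_pow_right (by omega)
    have hJI : J ≤ I := Ideal.pow_le_self (by omega)
    let JB := J.map (algebraMap A B)
    let I₁ : Ideal (A ⧸ J) := I.map (Ideal.Quotient.mk J)
    have hI₁ : I₁ ^ (n + 2) = ⊥ := by
      rw [← Ideal.map_pow, Ideal.map_quotient_self]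
    letI : Algebra (A ⧸ J) (B ⧸ JB) := (Ideal.quotientMap JB (algebraMap A B) Ideal.le_comap_map).toAlgebra
    haveI : IsScalarTower A (A ⧸ J) (B ⧸ JB) := IsScalarTower.of_algebraMap_eq fun a => rfl
    haveI : Module.Flat (A ⧸ J) (B ⧸ JB) := by
      let e : (A ⧸ J) ⊗[A] B ≃ₗ[A] B ⧸ JB :=
        (TensorProduct.quotTensorEquivQuotSMul B J).trans
          ((Submodule.quotEquivOfEq _ _ (Ideal.smul_top_eq_map J)).trans
            (Submodule.Quotient.restrictScalarsEquiv A JB))
      exact Module.Flat.of_linearEquiv (e.extendScalarsOfSurjective Ideal.Quotient.mk_surjective).symm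
    let IB := I.map (algebraMap A B)
    have hmap : I₁.map (algebraMap (A ⧸ J) (B ⧸ JB)) = IB.map (Ideal.Quotient.mk JB) := by
      rw [Ideal.map_map, Ideal.map_map]
      rfl
    let e : (B ⧸ JB) ⧸ I₁.map (algebraMap (A ⧸ J) (B ⧸ JB)) ≃+* B ⧸ IB :=
      (Ideal.quotEquivOfEq hmap).trans (DoubleQuot.quotQuotEquivQuotOfLE (Ideal.map_mono hJI))
    have he : ∀ b : B, e (Ideal.Quotient.mk _ (Ideal.Quotient.mk JB b)) = Ideal.Quotient.mk IB b :=
      fun b => rfl
    have hlist : ((rs.map (Ideal.Quotient.mk JB)).map (Ideal.Quotient.mk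
        (I₁.map (algebraMap (A ⧸ J) (B ⧸ JB))))).map e.toRingHom = rs.map (Ideal.Quotient.mk IB) := by
      simp only [List.map_map]
      exact List.map_congr_left fun b _ => he b
    have hreg₁ : LCI.IsKoszulRegularSeq ((B ⧸ JB) ⧸ I₁.map (algebraMap (A ⧸ J) (B ⧸ JB)))
        ((rs.map (Ideal.Quotient.mk JB)).map (Ideal.Quotient.mk _)) := by
      have h := Groth.Agent.KReg44.isKoszulRegularSeq_map e.symm.toRingHom
        (RingHom.Flat.of_bijective e.symm.bijective) hreg
      rw [← hlist, List.map_map] at h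
      convert h using 1
      symm
      refine (List.map_congr_left fun b _ => ?_).trans (List.map_id _)
      exact e.symm_apply_apply b
    have hflat₁ : (str (A ⧸ J) (B ⧸ JB) I₁ (rs.map (Ideal.Quotient.mk JB))).Flat := by
      let eA : (A ⧸ J) ⧸ I₁ ≃+* A ⧸ I := DoubleQuot.quotQuotEquivQuotOfLE hJI
      let eC : ((B ⧸ JB) ⧸ I₁.map (algebraMap (A ⧸ J) (B ⧸ JB))) ⧸
          Ideal.ofList ((rs.map (Ideal.Quotient.mk JB)).map (Ideal.Quotient.mk _)) ≃+*
          (B ⧸ IB) ⧸ Ideal.ofList (rs.map (Ideal.Quotient.mk IB)) :=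
        Ideal.quotientEquiv _ _ e (by
          rw [← hlist]
          exact (Ideal.map_ofList e.toRingHom _).symm)
      have hcomp : str (A ⧸ J) (B ⧸ JB) I₁ (rs.map (Ideal.Quotient.mk JB)) =
          eC.symm.toRingHom.comp ((str A B I rs).comp eA.toRingHom) := by
        refine Ideal.Quotient.ringHom_ext (Ideal.Quotient.ringHom_ext (RingHom.ext fun a => ?_))
        exact eC.injective (eC.apply_symm_apply _).symm
      rw [hcomp]
      exact ((RingHom.Flat.of_bijective eA.bijective).comp hflat).comp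
        (RingHom.Flat.of_bijective eC.symm.bijective)
    obtain ⟨h1, h2⟩ := lift n (A ⧸ J) (B ⧸ JB) I₁ hI₁ (rs.map (Ideal.Quotient.mk JB)) hreg₁ hflat₁
    refine base A B J hJ rs h1 ?_
    rw [show str A B J rs = algebraMap (A ⧸ J) ((B ⧸ JB) ⧸ Ideal.ofList (rs.map (Ideal.Quotient.mk JB))) from
      Ideal.Quotient.ringHom_ext (RingHom.ext fun a => rfl)]
    exact RingHom.flat_algebraMap_iff.2 h2

theorem inf_le_mul_of_flat {A B : Type u} [CommRing A] [CommRing B] [Algebra A B] (I : Ideal A)
    (J' : Ideal B) [Module.Flat A (B ⧸ J')] :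
    I.map (algebraMap A B) ⊓ J' ≤ I.map (algebraMap A B) * J' := by
  rintro x ⟨hx, hxJ⟩
  let μ : I ⊗[A] B →ₗ[A] B := (TensorProduct.lid A B).toLinearMap ∘ₗ (Submodule.subtype I).rTensor B
  obtain ⟨t, rfl⟩ : x ∈ LinearMap.range μ := by
    have : x ∈ I • (⊤ : Submodule A B) := by rw [Ideal.smul_top_eq_map]; exact hx
    refine Submodule.smul_induction_on this (fun r hr y _ => ⟨(⟨r, hr⟩ : I) ⊗ₜ[A] y, by simp [μ]⟩)
      fun a b => add_mem
  let π : B →ₗ[A] B ⧸ J' := (Ideal.Quotient.mkₐ A J').toLinearMap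
  have hinj : Function.Injective ((TensorProduct.lid A (B ⧸ J')).toLinearMap ∘ₗ
      (Submodule.subtype I).rTensor (B ⧸ J')) :=
    (TensorProduct.lid A _).injective.comp
      (Module.Flat.rTensor_preserves_injective_linearMap _ (Submodule.injective_subtype I))
  have hnat : ∀ t, ((TensorProduct.lid A (B ⧸ J')).toLinearMap ∘ₗ
      (Submodule.subtype I).rTensor (B ⧸ J')) (π.lTensor I t) = π (μ t) := by
    intro t
    induction t using TensorProduct.induction_on with
    | zero => simp
    | tmul a b => simp [μ, π, Algebra.smul_def]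
    | add a b ha hb => simp only [map_add, ha, hb]
  have h0 : π.lTensor I t = 0 := by
    apply hinj
    rw [hnat, map_zero]
    exact Ideal.Quotient.eq_zero_iff_mem.2 hxJ
  have hex : Function.Exact (J'.restrictScalars A).subtype π := fun b => by
    constructor
    · intro hb
      exact ⟨⟨b, Ideal.Quotient.eq_zero_iff_mem.1 hb⟩, rfl⟩
    · rintro ⟨⟨b, hb⟩, rfl⟩
      exact Ideal.Quotient.eq_zero_iff_mem.2 hb
  obtain ⟨s, rfl⟩ := (lTensor_exact I hex Ideal.Quotient.mk_surjective t).1 h0
  clear hx hxJ h0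
  induction s using TensorProduct.induction_on with
  | zero => simp
  | tmul a b =>
    simp only [μ, LinearMap.lTensor_tmul, LinearMap.comp_apply, LinearMap.rTensor_tmul,
      LinearEquiv.coe_coe, TensorProduct.lid_tmul, Submodule.subtype_apply, Algebra.smul_def]
    exact Ideal.mul_mem_mul (Ideal.mem_map_of_mem _ a.2) b.2
  | add a b ha hb => simp only [map_add]; exact add_mem ha hb

/-- Let A' be an Artinian local ring, I a proper ideal of A', A = A'/I, R' a Noetherian A'-algebra flat
over A' and R = R'/IR'. Let f₁, …, f_r ∈ R be a Koszul-regular sequence (its Koszul complex is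
acyclic in nonzero degrees) such that R/(f₁, …, f_r) is flat over A. Then: (1) for every choice of
lifts f'₁, …, f'_r ∈ R' of the f_i, the quotient R'/(f'₁, …, f'_r) is flat over A' and f'₁, …, f'_r
is a Koszul-regular sequence in R'; (2) if J' ⊆ R' is an ideal with R'/J' flat over A' whose image
in R is the ideal (f₁, …, f_r), then J' is generated by any lifts f'₁, …, f'_r ∈ J' of the f_i. (The
published statement takes R' = R₀ ⊗_Λ A' for a flat Λ-algebra R₀ and a surjection A' → A of Artinian
local Λ-algebras; this row assumes only that R' is Noetherian and flat over A' and that I is a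
proper ideal, which is what its proof uses. Regularity of a sequence is taken there in every
localization at a prime containing the ideal it generates, which over a Noetherian ring is the
Koszul-acyclicity used in the proof and stated here.) -/
theorem result
    {A' : Type u} [CommRing A'] [IsLocalRing A'] [IsArtinianRing A'] (I : Ideal A') (hI : I ≠ ⊤)
    {R' : Type u} [CommRing R'] [Algebra A' R'] [IsNoetherianRing R'] [Module.Flat A' R']
    (r : ℕ) (f : Fin r → R' ⧸ I.map (algebraMap A' R'))
    (hf : LCI.IsKoszulRegularSeq (R' ⧸ I.map (algebraMap A' R')) (List.ofFn f))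
    [Module.Flat (A' ⧸ I) ((R' ⧸ I.map (algebraMap A' R')) ⧸ Ideal.span (Set.range f))] :
    (∀ f' : Fin r → R', (∀ i, Ideal.Quotient.mk (I.map (algebraMap A' R')) (f' i) = f i) →
        Module.Flat A' (R' ⧸ Ideal.span (Set.range f')) ∧ LCI.IsKoszulRegularSeq R' (List.ofFn f')) ∧
    (∀ (J' : Ideal R'), Module.Flat A' (R' ⧸ J') →
        J'.map (Ideal.Quotient.mk (I.map (algebraMap A' R'))) = Ideal.span (Set.range f) →
        ∀ f' : Fin r → R', (∀ i, f' i ∈ J') →
          (∀ i, Ideal.Quotient.mk (I.map (algebraMap A' R')) (f' i) = f i) →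
          J' = Ideal.span (Set.range f')) := by
  obtain ⟨n, hn⟩ : ∃ n, I ^ (n + 2) = ⊥ := by
    obtain ⟨m, hm⟩ := IsArtinianRing.isNilpotent_jacobson_bot (R := A')
    refine ⟨m, le_bot_iff.1 ?_⟩
    calc I ^ (m + 2) ≤ I ^ m := Ideal.pow_le_pow_right (by omega)
      _ ≤ (⊥ : Ideal A').jacobson ^ m := Ideal.pow_right_mono
          ((IsLocalRing.le_maximalIdeal hI).trans (IsLocalRing.maximalIdeal_le_jacobson _)) _
      _ ≤ ⊥ := le_of_eq hm
  have hlist : ∀ g : Fin r → R', Ideal.ofList (List.ofFn g) = Ideal.span (Set.range g) := fun g => by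
    rw [Ideal.ofList]; congr 1; ext; simp [List.mem_ofFn]
  have main : ∀ f' : Fin r → R', (∀ i, Ideal.Quotient.mk (I.map (algebraMap A' R')) (f' i) = f i) →
      Module.Flat A' (R' ⧸ Ideal.span (Set.range f')) ∧ LCI.IsKoszulRegularSeq R' (List.ofFn f') := by
    intro f' hf'
    have hl : (List.ofFn f').map (Ideal.Quotient.mk (I.map (algebraMap A' R'))) = List.ofFn f := by
      rw [List.map_ofFn]; exact congrArg List.ofFn (funext hf')
    have hsp : Ideal.ofList ((List.ofFn f').map (Ideal.Quotient.mk (I.map (algebraMap A' R')))) =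
        Ideal.span (Set.range f) := by
      rw [hl, Ideal.ofList]; congr 1; ext; simp [List.mem_ofFn]
    have hflat : (str A' R' I (List.ofFn f')).Flat := by
      have hc : str A' R' I (List.ofFn f') = (Ideal.quotEquivOfEq hsp.symm).toRingHom.comp
          (algebraMap (A' ⧸ I) ((R' ⧸ I.map (algebraMap A' R')) ⧸ Ideal.span (Set.range f))) :=
        Ideal.Quotient.ringHom_ext (RingHom.ext fun a => rfl)
      rw [hc]
      exact (RingHom.flat_algebraMap_iff.2 ‹_›).comp (RingHom.Flat.of_bijective (RingEquiv.bijective _))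
    obtain ⟨h1, h2⟩ := lift n A' R' I hn (List.ofFn f') (by rw [hl]; exact hf) hflat
    exact ⟨hlist f' ▸ h2, h1⟩
  refine ⟨main, fun J' hJ' hmapJ f' hfJ hf' => ?_⟩
  let IB := I.map (algebraMap A' R')
  have hS : Ideal.span (Set.range f') ≤ J' := Ideal.span_le.2 (by rintro _ ⟨i, rfl⟩; exact hfJ i)
  have hstep : J' ≤ Ideal.span (Set.range f') ⊔ IB * J' := by
    intro x hx
    have h1 : Ideal.Quotient.mk IB x ∈ (Ideal.span (Set.range f')).map (Ideal.Quotient.mk IB) := by
      rw [Ideal.map_span, ← Set.range_comp,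
        show Ideal.Quotient.mk IB ∘ f' = f from funext hf', ← hmapJ]
      exact Ideal.mem_map_of_mem _ hx
    rw [← Ideal.mem_comap, Ideal.comap_map_of_surjective _ Ideal.Quotient.mk_surjective,
      ← RingHom.ker_eq_comap_bot, Ideal.mk_ker] at h1
    obtain ⟨s, hs, y, hy, rfl⟩ := Submodule.mem_sup.1 h1
    exact Submodule.add_mem_sup hs (inf_le_mul_of_flat I J'
      ⟨hy, by simpa using sub_mem hx (hS hs)⟩)
  have hiter : ∀ k, J' ≤ Ideal.span (Set.range f') ⊔ IB ^ k * J' := by
    intro k
    induction k with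
    | zero => simp
    | succ k ih =>
      have h1 : IB ^ k * J' ≤ IB ^ k * (Ideal.span (Set.range f') ⊔ IB * J') :=
        Ideal.mul_mono (le_refl (IB ^ k)) hstep
      have h2 : IB ^ k * (Ideal.span (Set.range f') ⊔ IB * J') ≤
          Ideal.span (Set.range f') ⊔ IB ^ (k + 1) * J' := by
        rw [Ideal.mul_sup, pow_succ, mul_assoc]
        exact sup_le_sup_right Ideal.mul_le_right _
      exact ih.trans (sup_le le_sup_left (h1.trans h2))
  refine le_antisymm ?_ hS
  have := hiter (n + 2)
  have h0 : IB ^ (n + 2) = ⊥ := by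
    rw [show IB = I.map (algebraMap A' R') from rfl, ← Ideal.map_pow (algebraMap A' R') I (n + 2), hn,
      Ideal.map_bot]
  exact this.trans (le_of_eq (by rw [h0, show (⊥ : Ideal R') * J' = ⊥ from Submodule.bot_mul J', sup_bot_eq]))

end Groth.Agent.S13972
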