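import Groth.Statements.S13975
import Groth.Agent.DefSchLib.Aut

set_option autoImplicit false
universe u
open CategoryTheory CategoryTheory.Limits AlgebraicGeometry
open Deform

namespace Groth.Agent.S13975

/-- Let k be a field and X₀ a locally Noetherian k-scheme, and let X_ε be the trivial first-order
deformation X₀ ×_k Spec k[ε], presented by a cartesian square with projections q : X_ε → X₀ and p :
X_ε → Spec k[ε], together with the closed immersion i : X₀ → X_ε over ε = 0 which is a section of q.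
Then the infinitesimal automorphisms of X₀ — automorphisms of X_ε over Spec k[ε] that restrict to
the identity of X₀ along i — form a group isomorphic to the additive group of derivations
Der_k(O_{X₀}, O_{X₀}) = Hom_{O_{X₀}}(Ω_{X₀/k}, O_{X₀}): there is a bijection taking composition to
addition. -/
theorem result (k : Type u) [Field k]
    (X₀ : Scheme.{u}) [IsLocallyNoetherian X₀] (x : X₀ ⟶ Spec (CommRingCat.of k))
    (Xε : Scheme.{u}) (q : Xε ⟶ X₀) (p : Xε ⟶ Spec (CommRingCat.of (DualNumber k)))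
    (hsq : IsPullback q p x (Spec.map (CommRingCat.ofHom (algebraMap k (DualNumber k)))))
    (i : X₀ ⟶ Xε) (hiq : i ≫ q = 𝟙 X₀)
    (hip : i ≫ p = x ≫ Spec.map (CommRingCat.ofHom (TrivSqZeroExt.fstHom k k k).toRingHom)) :
    ∃ e : {φ : Xε ≅ Xε // φ.hom ≫ p = p ∧ i ≫ φ.hom = i} ≃ (Omega.sheaf x ⟶ Coh.structureModule X₀),
      ∀ φ ψ χ : {φ : Xε ≅ Xε // φ.hom ≫ p = p ∧ i ≫ φ.hom = i},
        φ.1 ≪≫ ψ.1 = χ.1 → e χ = e φ + e ψ := by
  open Groth.Agent.DefSchLib Groth.Agent.AffDef in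
  classical
  haveI : QuasiSeparated x := inferInstance
  have hb := fun α : Omega.sheaf x ⟶ Coh.structureModule X₀ => i_autHom hsq hiq hip (SDer.ofHom α)
  let Φ : (Omega.sheaf x ⟶ Coh.structureModule X₀) → {φ : Xε ≅ Xε // φ.hom ≫ p = p ∧ i ≫ φ.hom = i} := fun α =>
    ⟨autIso hsq hiq hip (SDer.ofHom α), autHom_snd hsq _, hb α⟩
  have hΦ : Function.Bijective Φ := by
    refine ⟨fun α β h => SDer.ofHom_injective fun U s =>
      autHom_injective hsq hiq hip _ _ (congrArg (fun t => t.1.hom) h) U s, fun φ => ?_⟩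
    obtain ⟨D, hD⟩ := exists_autHom_eq hsq hiq hip φ.1.hom φ.2.1 φ.2.2
    obtain ⟨α, hα⟩ := D.exists_ofHom
    refine ⟨α, Subtype.ext (Iso.ext ?_)⟩
    rw [← hD]
    change autHom hsq (SDer.ofHom α) = autHom hsq D
    rw [← autHom_comp hsq hiq hip (SDer.ofHom α) (SDer.zero x) D (fun U s => by rw [hα]; simp [SDer.zero]),
      autHom_zero hsq (SDer.zero x) fun _ _ => rfl, Category.comp_id]
  refine ⟨(Equiv.ofBijective Φ hΦ).symm, fun φ ψ χ h => ?_⟩
  obtain ⟨a, rfl⟩ := hΦ.2 φ
  obtain ⟨b, rfl⟩ := hΦ.2 ψ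
  have hab : Φ (a + b) = χ := Subtype.ext (Iso.ext (by
    rw [← h]
    exact (autHom_comp hsq hiq hip (SDer.ofHom a) (SDer.ofHom b) (SDer.ofHom (a + b))
      (fun U s => SDer.ofHom_add a b U s)).symm))
  rw [← hab]
  simp

end Groth.Agent.S13975
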