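import Groth.Statements.S13977
import Groth.Agent.Helper63.QuotStalk
import Groth.Agent.CMReg.FieldBC

set_option autoImplicit false
universe u
open CategoryTheory CategoryTheory.Limits AlgebraicGeometry
open Deform

namespace Groth.Agent.S13977

open Groth.Agent Groth.Agent.Helper63.QuotStalk

section

variable {k : Type u} [Field k] {Z Z' : Scheme.{u}} [Z.Over (Spec (CommRingCat.of (DualNumber k)))]
  [Z'.Over (Spec (CommRingCat.of k))] {j : Z' ⟶ Z}

theorem exists_equiv
    (sq : IsPullback j (Z' ↘ Spec (CommRingCat.of k)) (Z ↘ Spec (CommRingCat.of (DualNumber k)))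
      (Spec.map (CommRingCat.ofHom (TrivSqZeroExt.fstHom k k k).toRingHom)))
    (M : Z.Modules) (hflat : FlatMod.IsFlatOver (Z ↘ Spec (CommRingCat.of (DualNumber k))) M) :
    ∃ e : {φ : M ≅ M // (Scheme.Modules.pullback j).map φ.hom = 𝟙 _} ≃
        ((Scheme.Modules.pullback j).obj M ⟶ (Scheme.Modules.pullback j).obj M),
      ∀ φ ψ χ : {φ : M ≅ M // (Scheme.Modules.pullback j).map φ.hom = 𝟙 _},
        φ.1 ≪≫ ψ.1 = χ.1 → e χ = e φ + e ψ := by
  classical
  let p : DualNumber k →+* k := (TrivSqZeroExt.fstHom k k k).toRingHom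
  have hp : Function.Surjective p := fun a => ⟨TrivSqZeroExt.inl a, TrivSqZeroExt.fst_inl k a⟩
  haveI := isClosedImmersion sq hp
  haveI : Module.Finite k (DualNumber k) :=
    (inferInstanceAs (Module.Finite k (k × k)) : _)
  haveI : IsArtinianRing (DualNumber k) := isArtinian_of_tower k inferInstance
  let adj := Scheme.Modules.pullbackPushforwardAdjunction j
  let L := Scheme.Modules.pullback j
  let R := Scheme.Modules.pushforward j
  haveI hff : R.Faithful := adj.fullyFaithfulROfIsIsoCounit.faithful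
  haveI hfl : R.Full := adj.fullyFaithfulROfIsIsoCounit.full
  haveI hlad : L.Additive := L.additive_of_preserves_binary_products
  let U : M ⟶ R.obj (L.obj M) := adj.unit.app M
  haveI : Epi U := Omega.Stalks.epi_of_stalk (CycLib.Dev.ClosedK0.unit_stalk_surjective j M)
  let ε : DualNumber k := DualNumber.eps
  let μ : M ⟶ M := mulB ε M
  have hker : ∀ a : DualNumber k, p a = 0 → ∃ c : DualNumber k, a = c * ε := fun a ha =>
    ⟨TrivSqZeroExt.inl (TrivSqZeroExt.snd a), by
      refine TrivSqZeroExt.ext ?_ ?_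
      · rw [TrivSqZeroExt.fst_mul, DualNumber.fst_eps, mul_zero]; exact ha
      · simp [ε]⟩
  have hεε : ε * ε = 0 := DualNumber.eps_mul_eps
  have hpε : p ε = 0 := TrivSqZeroExt.fst_inr k 1
  have hU : ∀ (z : Z) (t : M.presheaf.stalk z),
      lin (DualNumber k) U z t = 0 ↔ ∃ g, t = ε • g := fun z t => by
    obtain ⟨z', rfl⟩ := surjective_base sq z
    refine (lin_unit_eq_zero_iff sq hp M z' t).trans ⟨fun h => ?_, ?_⟩
    · refine Submodule.smul_induction_on h (fun a ha g _ => ?_) fun a b ha hb => ?_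
      · obtain ⟨c, rfl⟩ := hker a ha
        exact ⟨c • g, by rw [mul_comm, mul_smul]⟩
      · obtain ⟨g, rfl⟩ := ha
        obtain ⟨g', rfl⟩ := hb
        exact ⟨g + g', (smul_add _ _ _).symm⟩
    · rintro ⟨g, rfl⟩
      exact Submodule.smul_mem_smul (RingHom.mem_ker.2 hpε) Submodule.mem_top
  have hann : ∀ (z : Z) (t : M.presheaf.stalk z), ε • t = 0 → ∃ g, t = ε • g := fun z t ht => by
    haveI := (flat_stalk_iff M z).1 (hflat z)
    obtain ⟨κ, a, y, hy, ha⟩ := Module.Flat.isTrivialRelation_of_sum_smul_eq_zero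
      (f := fun _ : Fin 1 => ε) (x := fun _ => t) (by simpa using ht)
    have hcl : ∀ l, p (a 0 l) = 0 := fun l => by
      have h := congrArg TrivSqZeroExt.snd (ha l)
      simp [ε] at h
      exact h
    choose c hc using fun l => hker _ (hcl l)
    refine ⟨∑ l, c l • y l, ?_⟩
    refine (hy 0).trans ?_
    rw [Finset.smul_sum]
    exact Finset.sum_congr rfl fun l _ => by rw [hc l, mul_comm, mul_smul]
  have hμU : kernel.ι U ≫ μ = 0 := Omega.Stalks.hom_ext_stalk fun z => LinearMap.ext fun w => by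
    change lin (DualNumber k) (kernel.ι U ≫ μ) z w = lin (DualNumber k) 0 z w
    rw [lin_comp, lin_zero, lin_mulB]
    obtain ⟨g, hg⟩ := (hU z _).1 (show lin (DualNumber k) U z (lin (DualNumber k) (kernel.ι U) z w) = 0
      by rw [← lin_comp, kernel.condition, lin_zero])
    rw [hg, smul_smul, hεε, zero_smul]
  let m : R.obj (L.obj M) ⟶ M := Abelian.epiDesc U μ hμU
  have hUm : U ≫ m = μ := Abelian.comp_epiDesc _ _ _
  haveI : Mono m := Omega.Stalks.mono_of_stalk fun z => by
    refine (injective_iff_map_eq_zero (lin (DualNumber k) m z)).2 fun t ht => ?_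
    obtain ⟨g, rfl⟩ := lin_surjective (B := DualNumber k) U z t
    rw [← lin_comp, hUm, lin_mulB] at ht
    exact (hU z g).2 (hann z g ht)
  have hmU : m ≫ U = 0 := by
    rw [← cancel_epi U, reassoc_of% hUm, comp_zero]
    exact Omega.Stalks.hom_ext_stalk fun z => LinearMap.ext fun w => by
      change lin (DualNumber k) (μ ≫ U) z w = lin (DualNumber k) 0 z w
      rw [lin_comp, lin_zero, lin_mulB]
      exact (hU z _).2 ⟨w, rfl⟩
  -- the infinitesimal endomorphism of a map on the fibre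
  let χ : (L.obj M ⟶ L.obj M) → (M ⟶ M) := fun ψ => U ≫ R.map ψ ≫ m
  have hL0 : ∀ f : M ⟶ M, L.map f = 0 ↔ f ≫ U = 0 := fun f => by
    have hn : f ≫ U = U ≫ R.map (L.map f) := adj.unit.naturality f
    rw [hn]
    exact ⟨fun h => by rw [h, R.map_zero, comp_zero], fun h => R.map_injective
      ((cancel_epi U).1 (by rw [h, R.map_zero, comp_zero]))⟩
  have hχU : ∀ ψ, χ ψ ≫ U = 0 := fun ψ => by simp only [χ, Category.assoc, hmU, comp_zero]
  have hχχ : ∀ ψ ψ', χ ψ ≫ χ ψ' = 0 := fun ψ ψ' => by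
    show (U ≫ R.map ψ ≫ m) ≫ U ≫ R.map ψ' ≫ m = 0
    simp only [Category.assoc, reassoc_of% hmU, zero_comp, comp_zero]
  have hχinj : Function.Injective χ := fun ψ ψ' h =>
    R.map_injective ((cancel_mono m).1 ((cancel_epi U).1 h))
  have hχadd : ∀ ψ ψ', χ (ψ + ψ') = χ ψ + χ ψ' := fun ψ ψ' => by
    simp only [χ, R.map_add, Preadditive.add_comp, Preadditive.comp_add]
  have hsurj : ∀ f : M ⟶ M, L.map f = 0 → ∃ ψ, χ ψ = f := fun f hf => by
    have hfU := (hL0 f).1 hf
    have h1 : ∀ (z : Z) t, ∃ g, lin (DualNumber k) f z t = ε • g := fun z t =>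
      (hU z _).1 (by rw [← lin_comp, hfU, lin_zero])
    have h2 : kernel.ι U ≫ f = 0 := Omega.Stalks.hom_ext_stalk fun z => LinearMap.ext fun w => by
      change lin (DualNumber k) (kernel.ι U ≫ f) z w = lin (DualNumber k) 0 z w
      rw [lin_comp, lin_zero]
      obtain ⟨g, hg⟩ := (hU z _).1 (show lin (DualNumber k) U z (lin (DualNumber k) (kernel.ι U) z w) = 0
        by rw [← lin_comp, kernel.condition, lin_zero])
      obtain ⟨g', hg'⟩ := h1 z g
      rw [hg, map_smul, hg', smul_smul, hεε, zero_smul]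
    let c := Abelian.epiDesc U f h2
    have hc : U ≫ c = f := Abelian.comp_epiDesc _ _ _
    have hc0 : c ≫ cokernel.π m = 0 := by
      rw [← cancel_epi U, reassoc_of% hc, comp_zero]
      exact Omega.Stalks.hom_ext_stalk fun z => LinearMap.ext fun t => by
        change lin (DualNumber k) (f ≫ cokernel.π m) z t = lin (DualNumber k) 0 z t
        obtain ⟨g, hg⟩ := h1 z t
        rw [lin_comp, hg, lin_zero, ← lin_mulB ε M z g]
        rw [show mulB ε M = U ≫ m from hUm.symm, lin_comp, ← lin_comp m, cokernel.condition, lin_zero]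
    refine ⟨R.preimage (Abelian.monoLift m c hc0), ?_⟩
    simp only [χ, R.map_preimage, Abelian.monoLift_comp, hc]
  have hmk : ∀ ψ, L.map (𝟙 M + χ ψ) = 𝟙 _ := fun ψ => by
    rw [L.map_add, L.map_id, (hL0 _).2 (hχU ψ), add_zero]
  have hinv : ∀ ψ, (𝟙 M + χ ψ) ≫ (𝟙 M + χ (-ψ)) = 𝟙 M := fun ψ => by
    have h : χ ψ + χ (-ψ) = 0 := by
      rw [← hχadd, add_neg_cancel]
      simp only [χ, R.map_zero, zero_comp, comp_zero]
    rw [Preadditive.add_comp, Category.id_comp, Preadditive.comp_add, Category.comp_id, hχχ,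
      add_zero, add_assoc, add_comm (χ (-ψ)), h, add_zero]
  let mk : (L.obj M ⟶ L.obj M) → {φ : M ≅ M // L.map φ.hom = 𝟙 _} := fun ψ =>
    ⟨⟨𝟙 M + χ ψ, 𝟙 M + χ (-ψ), hinv ψ, by simpa using hinv (-ψ)⟩, hmk ψ⟩
  have hbij : Function.Bijective mk := by
    refine ⟨fun ψ ψ' h => hχinj (add_left_cancel
      (congrArg (fun φ : {φ : M ≅ M // L.map φ.hom = 𝟙 _} => φ.1.hom) h)), fun φ => ?_⟩
    obtain ⟨ψ, hψ⟩ := hsurj (φ.1.hom - 𝟙 M) (by rw [L.map_sub, φ.2, L.map_id, sub_self])
    refine ⟨ψ, Subtype.ext (Iso.ext ?_)⟩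
    show 𝟙 M + χ ψ = φ.1.hom
    rw [hψ, add_sub_cancel]
  let e := (Equiv.ofBijective mk hbij).symm
  refine ⟨e, fun φ ψ γ h => ?_⟩
  obtain ⟨a, rfl⟩ := hbij.2 φ
  obtain ⟨b, rfl⟩ := hbij.2 ψ
  have hγ : mk (a + b) = γ := Subtype.ext (Iso.ext (by
    rw [← h]
    show 𝟙 M + χ (a + b) = (𝟙 M + χ a) ≫ (𝟙 M + χ b)
    rw [Preadditive.add_comp, Category.id_comp, Preadditive.comp_add, Category.comp_id, hχχ,
      add_zero, hχadd, add_assoc, add_comm (χ b)]))
  have hs : ∀ v, e (mk v) = v := fun v => (Equiv.ofBijective mk hbij).symm_apply_apply v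
  rw [← hγ]
  exact (hs _).trans (congrArg₂ (· + ·) (hs a) (hs b)).symm

end

/-- Let k be a field, X₀ a locally Noetherian k-scheme and E₀ a quasi-coherent O_{X₀}-module. Let X_ε =
X₀ ×_k Spec k[ε] be the trivial first-order deformation, presented by a cartesian square with
projections q : X_ε → X₀ and p : X_ε → Spec k[ε], with the closed immersion i : X₀ → X_ε over ε = 0,
a section of q, and let E_ε = q^*E₀ be the trivial lifting of E₀. Then the infinitesimal
automorphisms of E₀ — the O_{X_ε}-linear automorphisms of E_ε whose pullback along i is the identity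
— form a group isomorphic to the additive group Hom_{O_{X₀}}(E₀, E₀): there is a bijection taking
composition to addition. -/
theorem result (k : Type u) [Field k]
    (X₀ : Scheme.{u}) [IsLocallyNoetherian X₀] (x : X₀ ⟶ Spec (CommRingCat.of k))
    (E₀ : X₀.Modules) (hE₀ : Coh.IsQCoh E₀)
    (Xε : Scheme.{u}) (q : Xε ⟶ X₀) (p : Xε ⟶ Spec (CommRingCat.of (DualNumber k)))
    (hsq : IsPullback q p x (Spec.map (CommRingCat.ofHom (algebraMap k (DualNumber k)))))
    (i : X₀ ⟶ Xε) (hiq : i ≫ q = 𝟙 X₀)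
    (hip : i ≫ p = x ≫ Spec.map (CommRingCat.ofHom (TrivSqZeroExt.fstHom k k k).toRingHom)) :
    ∃ e : {φ : (Scheme.Modules.pullback q).obj E₀ ≅ (Scheme.Modules.pullback q).obj E₀ //
            (Scheme.Modules.pullback i).map φ.hom = 𝟙 _} ≃ (E₀ ⟶ E₀),
      ∀ φ ψ χ : {φ : (Scheme.Modules.pullback q).obj E₀ ≅ (Scheme.Modules.pullback q).obj E₀ //
            (Scheme.Modules.pullback i).map φ.hom = 𝟙 _},
        φ.1 ≪≫ ψ.1 = χ.1 → e χ = e φ + e ψ := by
  letI : Xε.Over (Spec (CommRingCat.of (DualNumber k))) := ⟨p⟩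
  letI : X₀.Over (Spec (CommRingCat.of k)) := ⟨x⟩
  have hcomp : Spec.map (CommRingCat.ofHom (TrivSqZeroExt.fstHom k k k).toRingHom) ≫
      Spec.map (CommRingCat.ofHom (algebraMap k (DualNumber k))) = 𝟙 _ := by
    rw [← Spec.map_comp, ← Spec.map_id]
    congr 1
  have sq : IsPullback i x p
      (Spec.map (CommRingCat.ofHom (TrivSqZeroExt.fstHom k k k).toRingHom)) := by
    refine IsPullback.of_right ?_ hip hsq
    rw [hiq, hcomp]
    exact IsPullback.of_horiz_isIso ⟨by rw [Category.id_comp, Category.comp_id]⟩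
  have hflat : FlatMod.IsFlatOver p ((Scheme.Modules.pullback q).obj E₀) := fun z =>
    Groth.Agent.FDesc.BaseChangeStalk.flatOverAt_baseChange hsq z E₀
      (Groth.Agent.CMReg.isFlatOver_field x E₀ _)
  obtain ⟨e, he⟩ := exists_equiv (k := k) (Z := Xε) (Z' := X₀) (j := i) sq
    ((Scheme.Modules.pullback q).obj E₀) hflat
  let σ : (Scheme.Modules.pullback i).obj ((Scheme.Modules.pullback q).obj E₀) ≅ E₀ :=
    (Scheme.Modules.pullbackComp i q).app E₀ ≪≫ (Scheme.Modules.pullbackCongr hiq).app E₀ ≪≫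
      (Scheme.Modules.pullbackId X₀).app E₀
  refine ⟨e.trans (σ.homCongr σ), fun φ ψ χ h => ?_⟩
  simp only [Equiv.trans_apply, he φ ψ χ h, Iso.homCongr_apply, Preadditive.add_comp,
    Preadditive.comp_add]

end Groth.Agent.S13977
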