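import Groth.Statements.S13978
import Groth.Agent.ArtFunLib.Basic
import Mathlib.LinearAlgebra.TensorProduct.Basis
import Mathlib.LinearAlgebra.Basis.VectorSpace

set_option autoImplicit false
universe u v
open CategoryTheory
open scoped TensorProduct
open ArtFun ArtFun.ObsTheory

namespace Groth.Agent.S13978

open Groth.Agent.ArtFunLib

/-- For obstruction theories of functors in the vector-space form, let k be a field, F a functor on
Artinian local k-algebras with residue field k and (V, ω) an obstruction theory for F — for each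
surjection p : C' → C whose kernel J is killed by the maximal ideal and each u ∈ F(C) an obstruction
ω(p, u) ∈ V ⊗_k J, zero exactly when u lifts, and compatible with replacing C' → C by C'/K → C for
ideals K ≤ J. Let Ω ⊆ V be the subspace spanned by the obstructions along tiny extensions (those p
whose kernel is one-dimensional), transported into V by the isomorphisms V ⊗ J ≅ V coming from
linear isomorphisms J ≅ k. Then for every p and u the obstruction ω(p, u) lies in the image of Ω ⊗_k
J → V ⊗_k J. (The published statement is for deformation categories and obstruction theories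
functorial along all morphisms of extensions; this row assumes functoriality along quotients C'/K
only, which is all its proof uses, and no condition on F.) -/
theorem result {k : Type u} [Field k]
    {F : ArtFun.Art k k ⥤ Type v} {V : Type u} [AddCommGroup V] [Module k V]
    (T : ArtFun.ObsTheory F V) {C' C : ArtFun.Art k k} (p : C' ⟶ C) (hp : ArtFun.Art.IsSemismallExt p)
    (u : F.obj C) :
    T.obs p hp u ∈ LinearMap.range (LinearMap.rTensor (↥(RingHom.ker p.toAlgHom))
      (Submodule.span k {v : V | ∃ (B' B : ArtFun.Art k k) (t : B' ⟶ B) (ht : ArtFun.Art.IsSmallExt t)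
          (w : F.obj B) (φ : ↥(RingHom.ker t.toAlgHom) ≃ₗ[k] k),
          v = TensorProduct.rid k V (LinearMap.lTensor V φ.toLinearMap (T.obs t ht.isSemismallExt w))}).subtype) := by
  classical
  let J := RingHom.ker p.toAlgHom
  obtain ⟨ι, ⟨b⟩⟩ : ∃ ι : Type u, Nonempty (Module.Basis ι k ↥J) := ⟨_, ⟨Module.Basis.ofVectorSpace k _⟩⟩
  have key : ∀ φ : ↥J →ₗ[k] k, φ ≠ 0 →
      TensorProduct.rid k V (LinearMap.lTensor V φ (T.obs p hp u)) ∈ Submodule.span k
        {v : V | ∃ (B' B : ArtFun.Art k k) (t : B' ⟶ B) (ht : ArtFun.Art.IsSmallExt t)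
          (w : F.obj B) (φ : ↥(RingHom.ker t.toAlgHom) ≃ₗ[k] k),
          v = TensorProduct.rid k V (LinearMap.lTensor V φ.toLinearMap (T.obs t ht.isSemismallExt w))} := by
    intro φ hφ
    have hJm : ∀ a ∈ IsLocalRing.maximalIdeal C', ∀ j ∈ J, a * j = 0 := fun a ha j hj => by
      have := Ideal.mul_mem_mul ha hj
      rwa [hp.2] at this
    have hsmul : ∀ (a : C') (j : C'), j ∈ J → a * j = C'.res a • j := fun a j hj => by
      have h1 : a - algebraMap k C' (C'.res a) ∈ IsLocalRing.maximalIdeal C' := by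
        rw [ArtFun.Art.mem_maximalIdeal_iff, map_sub, AlgHom.commutes]; simp
      rw [Algebra.smul_def]
      linear_combination hJm _ h1 j hj
    let K : Ideal C' :=
      { carrier := {x | ∃ h : x ∈ J, φ ⟨x, h⟩ = 0}
        zero_mem' := ⟨J.zero_mem, map_zero φ⟩
        add_mem' := fun {x y} ⟨hx, ex⟩ ⟨hy, ey⟩ => ⟨J.add_mem hx hy, by
          have := map_add φ ⟨x, hx⟩ ⟨y, hy⟩
          rw [ex, ey, add_zero] at this
          exact this⟩
        smul_mem' := fun a x ⟨hx, ex⟩ => ⟨J.mul_mem_left a hx, by
          have : (⟨a • x, J.mul_mem_left a hx⟩ : ↥J) = C'.res a • (⟨x, hx⟩ : ↥J) := Subtype.ext (hsmul a x hx)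
          rw [this, map_smul, ex, smul_zero]⟩ }
    have hKJ : K ≤ J := fun x h => h.1
    have hK : K ≤ IsLocalRing.maximalIdeal C' := hKJ.trans (ker_le_maximalIdeal p)
    let q := ArtFun.Art.quotFactor hK p hKJ
    let η := (ArtFun.Art.kerToQuot hK p hKJ).restrictScalars k
    have ηsurj : Function.Surjective η := fun z => by
      obtain ⟨a, ha⟩ := Ideal.Quotient.mk_surjective z.1
      exact ⟨⟨a, by
        have h2 := z.2
        rw [← ha] at h2
        exact h2⟩, Subtype.ext ha⟩
    have ηker : ∀ j, η j = 0 ↔ φ j = 0 := fun j =>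
      ⟨fun h => (Ideal.Quotient.eq_zero_iff_mem.1 (congrArg Subtype.val h)).2,
        fun h => Subtype.ext (Ideal.Quotient.eq_zero_iff_mem.2 ⟨j.2, h⟩)⟩
    let e₁ := η.quotKerEquivOfSurjective ηsurj
    have hkk : LinearMap.ker η = LinearMap.ker φ := Submodule.ext ηker
    have φsurj : Function.Surjective φ := LinearMap.surjective_of_ne_zero hφ
    let ψ : ↥(RingHom.ker q.toAlgHom) ≃ₗ[k] k :=
      e₁.symm ≪≫ₗ Submodule.quotEquivOfEq _ _ hkk ≪≫ₗ φ.quotKerEquivOfSurjective φsurj
    have hψ : ψ.toLinearMap ∘ₗ η = φ := LinearMap.ext fun j => by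
      have : e₁.symm (η j) = Submodule.Quotient.mk j := e₁.injective (by simp [e₁])
      simp [ψ, this]
    obtain ⟨j₀, hj₀⟩ := φsurj 1
    have hne : (η j₀ : ArtFun.Art.quot C' K hK) ≠ 0 := fun h => by
      have := (ηker j₀).1 (Subtype.ext h)
      rw [hj₀] at this
      exact one_ne_zero this
    have hm : ∀ a ∈ IsLocalRing.maximalIdeal (ArtFun.Art.quot C' K hK), a * (η j₀ : ArtFun.Art.quot C' K hK) = 0 := by
      intro a ha
      obtain ⟨a, rfl⟩ := Ideal.Quotient.mk_surjective a
      change Ideal.Quotient.mk K a * Ideal.Quotient.mk K (j₀ : C') = 0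
      rw [← map_mul, hJm a ((apply_mem_maximalIdeal_iff (ArtFun.Art.quotMk C' K hK) a).1 ha) _ j₀.2, map_zero]
    have hgen : RingHom.ker q.toAlgHom = Ideal.span {(η j₀ : ArtFun.Art.quot C' K hK)} := by
      refine le_antisymm (fun z hz => ?_) ((Ideal.span_singleton_le_iff_mem _).2 (η j₀).2)
      obtain ⟨j, hj⟩ := ηsurj ⟨z, hz⟩
      have : η (j - φ j • j₀) = 0 := (ηker _).2 (by simp [hj₀])
      rw [map_sub, map_smul, sub_eq_zero, hj] at this
      refine Ideal.mem_span_singleton'.2 ⟨algebraMap k _ (φ j), ?_⟩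
      have h := congrArg Subtype.val this
      simp only [SetLike.val_smul_of_tower, Algebra.smul_def] at h
      exact h.symm
    have hqs : Function.Surjective q := fun c => by
      obtain ⟨a, rfl⟩ := hp.1 c
      exact ⟨Ideal.Quotient.mk K a, rfl⟩
    have hsmall := isSmallExt_of_ker_eq_span hqs hgen hne hm
    refine Submodule.subset_span ⟨_, _, q, hsmall, u, ψ, ?_⟩
    rw [T.obs_quot p hp K hK hKJ hsmall.isSemismallExt u, ← LinearMap.comp_apply, ← LinearMap.lTensor_comp, hψ]
  have hx := TensorProduct.eq_repr_basis_right b (T.obs p hp u)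
  obtain ⟨f, hf⟩ := hx
  have hcoord : ∀ i, TensorProduct.rid k V (LinearMap.lTensor V (b.coord i) (T.obs p hp u)) = f i := fun i => by
    rw [← hf, Finsupp.sum, map_sum, map_sum]
    simp [Finsupp.single_apply]
    exact fun h => h.symm
  rw [← hf, Finsupp.sum]
  refine Submodule.sum_mem _ fun i _ => ?_
  refine ⟨(⟨f i, ?_⟩ : Submodule.span k _) ⊗ₜ b i, LinearMap.rTensor_tmul _ _ _ _⟩
  rw [← hcoord i]
  exact key _ fun h => one_ne_zero (α := k) (by
    have := congrArg (fun g : ↥J →ₗ[k] k => g (b i)) h
    simpa using this)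

end Groth.Agent.S13978
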