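import Groth.Statements.S13980
import Groth.Agent.HilbLoc.ObsH1
import Groth.Agent.KReg44.Syzygy
import Groth.Agent.ModShf.GrothAb

set_option autoImplicit false
universe u
open CategoryTheory CategoryTheory.Limits AlgebraicGeometry
open ArtFun

namespace Groth.Agent.S13980

/-- Let k be a field, X a locally Noetherian separated k-scheme and Z₀ ⊆ X the closed subscheme defined
by a quasi-coherent ideal sheaf I₀ which is a local complete intersection in X: around every point
of Z₀ the ideal is generated by a Koszul-regular sequence. Let N₀ = Hom_{O_{Z₀}}(I₀/I₀², O_{Z₀}) be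
the normal sheaf (the sheaf Hom of the conormal sheaf, assumed to exist as the right adjoint of
tensoring with it). Then the local Hilbert functor of Z₀ — over a local Artinian k-algebra A with
residue field k, the closed subschemes of X ×_k Spec A flat over Spec A whose restriction to the
closed fibre is Z₀ — has an obstruction theory with values in H¹(Z₀, N₀): obstructions in H¹(Z₀, N₀)
⊗_k J for surjections with kernel J killed by the maximal ideal, vanishing exactly when the
subscheme lifts, compatible with quotients C'/K. (The published statement allows a base ring Λ with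
X flat over Λ and gives the finer functoriality along all morphisms of small extensions; this row
takes Λ = k. Regular sequences are taken there in the local sense, which over Noetherian rings is
the Koszul-regularity used in its proof.) -/
theorem result {k : Type u} [Field k]
    (X : Scheme.{u}) [IsLocallyNoetherian X] (x : X ⟶ Spec (CommRingCat.of k)) [IsSeparated x]
    (I₀ : X.IdealSheafData) (hlci : RegImm.IsRegularIdeal RegImm.Kind.koszul I₀)
    [DCoh.HasSheafHom (Omega.conormal I₀.subschemeι)] :
    @ArtFun.HasObsTheory k _ (ArtFun.localHilb X x I₀)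
      (Coh.HH I₀.subscheme ((DCoh.sheafHom (Omega.conormal I₀.subschemeι)).obj
        (Coh.structureModule I₀.subscheme)) 1) _
      (@Coh.moduleOver k _ I₀.subscheme ⟨I₀.subschemeι ≫ x⟩ _ 1) := by
  letI : I₀.subscheme.Over (Spec (CommRingCat.of k)) := ⟨I₀.subschemeι ≫ x⟩
  haveI : EnoughInjectives I₀.subscheme.Modules := Groth.Agent.ModShf.schemeModulesEnoughInjectives _
  haveI : HasExt.{u} I₀.subscheme.Modules := hasExt_of_enoughInjectives.{u} _
  have hloc : Groth.Agent.HilbLoc.LocH1 I₀.subschemeι := fun z => by
    obtain ⟨U, hz, rs, hrs, hI⟩ := hlci (I₀.subschemeι z) (I₀.range_subschemeι.le ⟨z, rfl⟩)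
    refine ⟨U, rs.length, rs.get, hz, Groth.Agent.KReg44.isH1Regular rs.get (by rw [List.ofFn_get]; exact hrs), ?_⟩
    rw [I₀.ker_subschemeι, hI, Set.range_list_get]
  have h := Groth.Agent.HilbLoc.hasObsTheory_H1 (x := x) I₀.subschemeι (rfl : I₀.subscheme ↘ Spec (CommRingCat.of k) = _) hloc
  rwa [I₀.ker_subschemeι] at h

end Groth.Agent.S13980
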