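import Groth.Statements.S13981
import Groth.Agent.ArtFunLib.Formal

set_option autoImplicit false
universe u v
open CategoryTheory
open ArtFun

namespace Groth.Agent.S13981

open Groth.Agent.ArtFunLib

/-- Let F be a functor on Artinian local Λ-algebras with residue field k (Λ Noetherian, Λ → k finite and
surjective) satisfying (RS) — the comparison map for A₁ ×_A A₂ is bijective whenever A₂ → A is
surjective — and let ξ be a versal family of F over a complete local Noetherian Λ-algebra R with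
residue field k. Then the lifting property defining versality also holds along surjections of
complete local Noetherian algebras: if g : A' → A is such a surjection, η' is a formal element of F
over A' (a compatible system over the truncations A'/m^(n+1)) and φ : R → A is a map under which the
formal element of ξ becomes the pushforward of η' along g, then φ lifts to ψ : R → A' with g ∘ ψ = φ
and with ξ inducing η' along ψ. (The published statement takes Λ complete local Noetherian with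
residue field k; its proof does not use completeness of Λ, and this row assumes only Λ Noetherian
with Λ → k surjective.) -/
theorem result {Λ : Type u} {k : Type u} [CommRing Λ] [Field k]
    [Algebra Λ k] [IsNoetherianRing Λ] [Module.Finite Λ k] (hΛ : Function.Surjective (algebraMap Λ k))
    {F : ArtFun.Art Λ k ⥤ Type v}
    (hRS : ∀ ⦃B A A₁ A₂ : ArtFun.Art Λ k⦄ (p₁ : B ⟶ A₁) (p₂ : B ⟶ A₂) (f₁ : A₁ ⟶ A) (f₂ : A₂ ⟶ A)
        (h : ArtFun.Art.IsFibreProd p₁ p₂ f₁ f₂), Function.Surjective f₂ → Function.Bijective (ArtFun.cmp F h))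
    (R : ArtFun.CRing Λ k) (ξ : ArtFun.Family R.carrier R.res F) (hξ : ArtFun.IsVersal ξ)
    (A' A : ArtFun.CRing Λ k) (g : A'.carrier →ₐ[Λ] A.carrier) (hg : A.res.comp g = A'.res)
    (hgs : Function.Surjective g) (η' : ArtFun.FormalElt F A')
    (φ : R.carrier →ₐ[Λ] A.carrier) (hφ : A.res.comp φ = R.res)
    (hsq : (ξ.along φ hφ).toFormalElt = η'.push g hg) :
    ∃ (ψ : R.carrier →ₐ[Λ] A'.carrier) (hψ : A'.res.comp ψ = R.res),
      g.comp ψ = φ ∧ (ξ.along ψ hψ).toFormalElt = η' := by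
  have step : ∀ (n : ℕ) (B : ArtFun.Art Λ k) (μ : A'.trunc n ⟶ B) (_ : Function.Surjective μ)
      (φ₀ : ArtFun.HomSet R.carrier R.res B), ξ.app B φ₀ = F.map μ (η'.elt n) →
      ∃ x, ArtFun.HomSet.map μ x = φ₀ ∧ ξ.app _ x = η'.elt n :=
    fun n B μ hμ φ₀ e => hξ μ hμ φ₀ _ e.symm
  let gn := fun n => ArtFun.CRing.truncMapOfHom g hg n
  have gns : ∀ n, Function.Surjective (gn n) := fun n y => by
    obtain ⟨a, rfl⟩ := Ideal.Quotient.mk_surjective y
    obtain ⟨b, rfl⟩ := hgs a
    exact ⟨Ideal.Quotient.mk _ b, rfl⟩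
  let φn : ∀ n, ArtFun.HomSet R.carrier R.res (A.trunc n) := fun n =>
    ⟨(A.truncHom n).1.comp φ, by rw [← AlgHom.comp_assoc, (A.truncHom n).2, hφ]⟩
  have hξφ : ∀ n, ξ.app _ (φn n) = F.map (gn n) (η'.elt n) := fun n => by
    have := congrArg (fun u => ArtFun.FormalElt.elt u n) hsq
    exact this
  have base : ∃ x, ArtFun.HomSet.map (gn 0) x = φn 0 ∧ ξ.app _ x = η'.elt 0 :=
    step 0 _ (gn 0) (gns 0) _ (hξφ 0)
  have hφn : ∀ n, ArtFun.HomSet.map (A.truncMap n) (φn (n + 1)) = φn n := fun n =>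
    Subtype.ext (AlgHom.ext fun _ => rfl)
  have succ : ∀ n (x : ArtFun.HomSet R.carrier R.res (A'.trunc n)),
      ArtFun.HomSet.map (gn n) x = φn n ∧ ξ.app _ x = η'.elt n →
      ∃ y, ArtFun.HomSet.map (A'.truncMap n) y = x ∧
        (ArtFun.HomSet.map (gn (n + 1)) y = φn (n + 1) ∧ ξ.app _ y = η'.elt (n + 1)) := by
    intro n x ⟨hx₁, hx₂⟩
    obtain ⟨P, p₁, p₂, hP⟩ := exists_isFibreProd_of_surjective_algebraMap hΛ (gn n) (A.truncMap n)
    obtain ⟨χ, hχ₁, hχ₂⟩ := exists_homSet_lift hP x (φn (n + 1)) (hx₁.trans (hφn n).symm)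
    obtain ⟨c, hc₁, hc₂⟩ := exists_lift hP (A'.truncMap n) (gn (n + 1))
      (ArtFun.CRing.truncMapOfHom_truncMap g hg n).symm
    have hcs : Function.Surjective c := fun z => by
      obtain ⟨a, ha⟩ := Ideal.Quotient.mk_surjective (p₁ z)
      obtain ⟨b, hb⟩ := Ideal.Quotient.mk_surjective (p₂ z)
      have h1 : g a - b ∈ IsLocalRing.maximalIdeal A.carrier ^ (n + 1) := by
        have := hP.w_apply z
        rw [← ha, ← hb] at this
        exact Ideal.Quotient.eq.1 this
      have hmap : IsLocalRing.maximalIdeal A.carrier ^ (n + 1) ≤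
          Ideal.map g (IsLocalRing.maximalIdeal A'.carrier ^ (n + 1)) := by
        rw [Ideal.map_pow]
        refine Ideal.pow_right_mono (fun y hy => ?_) _
        obtain ⟨w, rfl⟩ := hgs y
        refine Ideal.mem_map_of_mem _ ((ArtFun.CRing.mem_maximalIdeal_iff A' w).2 ?_)
        rw [← hg]
        exact (ArtFun.CRing.mem_maximalIdeal_iff A _).1 hy
      obtain ⟨w, hw, hw'⟩ := (Ideal.mem_map_iff_of_surjective g hgs).1 (hmap h1)
      refine ⟨Ideal.Quotient.mk _ (a - w), hP.inj _ _ ?_ ?_⟩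
      · rw [← ArtFun.Art.comp_apply, hc₁, ← ha]
        refine Ideal.Quotient.eq.2 ?_
        have h5 := Submodule.neg_mem _ hw
        simpa [ArtFun.CRing.mpow] using h5
      · rw [← ArtFun.Art.comp_apply, hc₂, ← hb]
        refine congrArg (Ideal.Quotient.mk _) ?_
        change g (a - w) = b
        rw [map_sub, hw']
        abel
    have e : ξ.app P χ = F.map c (η'.elt (n + 1)) :=
      (hRS _ _ _ _ hP (truncMap_surjective A n)).1 (ArtFun.FibProd.ext
        (by
          change F.map p₁ (ξ.app P χ) = F.map p₁ (F.map c _)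
          rw [← ξ.natural, hχ₁, hx₂, map_map, hc₁, η'.compat])
        (by
          change F.map p₂ (ξ.app P χ) = F.map p₂ (F.map c _)
          rw [← ξ.natural, hχ₂, hξφ, map_map, hc₂]))
    obtain ⟨y, hy₁, hy₂⟩ := step (n + 1) P c hcs χ e
    refine ⟨y, ?_, ?_, hy₂⟩
    · rw [← hχ₁, ← hy₁, ← hc₁]
      exact Subtype.ext (AlgHom.ext fun _ => rfl)
    · rw [← hχ₂, ← hy₁, ← hc₂]
      exact Subtype.ext (AlgHom.ext fun _ => rfl)
  obtain ⟨x₀, hx₀⟩ := base
  choose next hn₁ hn₂ using succ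
  let w : ∀ n, {x // ArtFun.HomSet.map (gn n) x = φn n ∧ ξ.app _ x = η'.elt n} := fun n =>
    Nat.rec ⟨x₀, hx₀⟩ (fun n x => ⟨next n x.1 x.2, hn₂ n x.1 x.2⟩) n
  obtain ⟨ψ, hψ, hψn⟩ := exists_hom_of_compat (fun n => (w n).1) (fun n => hn₁ n _ _)
  refine ⟨ψ, hψ, eq_of_trunc_eq fun n => ?_, ArtFun.FormalElt.ext' fun n => ?_⟩
  · refine Eq.trans ?_ (congrArg Subtype.val (w n).2.1)
    change _ = (gn n).toAlgHom.comp (w n).1.1
    rw [← hψn n]
    rfl
  · exact Eq.trans (congrArg (ξ.app _) (Subtype.ext (hψn n))) (w n).2.2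

end Groth.Agent.S13981
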