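import Groth.Statements.S13985


set_option autoImplicit false
universe u
open CategoryTheory
open CohGab

namespace Groth.Agent.S13985

/-- For a ring A, the canonical map from the centre of A to the centre of the category of finitely
generated left A-modules (the endomorphism ring of its identity functor), sending a to
multiplication by a, is bijective: every natural endomorphism of the identity functor acts on each
finitely generated module as multiplication by a unique element of A, and that element is central.
(The published statement calls this map an isomorphism of commutative rings; this row states its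
bijectivity.) -/
theorem result (A : Type u) [Ring A]
    (φ : 𝟭 (FGModuleCat.{u} A) ⟶ 𝟭 (FGModuleCat.{u} A)) :
    ∃! a : A, a ∈ Subring.center A ∧
      ∀ (M : FGModuleCat.{u} A) (x : M), (φ.app M).hom.hom x = a • x := by
  let A' : FGModuleCat.{u} A := FGModuleCat.of A A
  let a : A := (φ.app A').hom.hom (1 : A)
  have hev : ∀ (M : FGModuleCat.{u} A) (x : M), (φ.app M).hom.hom x = a • x := by
    intro M x
    let g : A' ⟶ M := FGModuleCat.ofHom (LinearMap.toSpanSingleton A M x)
    have h := congrArg (fun h => h.hom.hom (1 : A)) (φ.naturality g)
    have h1 : (g.hom.hom : A → M) (1 : A) = x := one_smul A x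
    change (φ.app M).hom.hom (g.hom.hom (1 : A)) = g.hom.hom a at h
    rw [h1] at h
    exact h.trans rfl
  have hc : a ∈ Subring.center A := Subring.mem_center_iff.2 fun b => by
    have h1 : (φ.app A').hom.hom b = a * b := hev A' b
    have h2 : (φ.app A').hom.hom (b • (1 : A)) = b • (φ.app A').hom.hom (1 : A) :=
      map_smul _ b (1 : A)
    rw [smul_eq_mul, mul_one] at h2
    exact h2.symm.trans h1
  refine ⟨a, ⟨hc, hev⟩, fun b hb => ?_⟩
  have h := hb.2 A' (1 : A)
  exact (h.trans (mul_one b)).symm

end Groth.Agent.S13985
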