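import Groth.Statements.S17649
import Groth.Agent.QCoh.Qcqs
import Groth.Agent.QCoh.Exact

set_option autoImplicit false
universe u
open CategoryTheory CategoryTheory.Limits AlgebraicGeometry
open QCohCat

namespace Groth.Agent.S17649

open CategoryTheory Limits AlgebraicGeometry in
lemma subsingleton_of_isZero_restrict {X : Scheme.{u}} {W : X.Opens} (F : X.Modules)
    (h : IsZero ((Scheme.Modules.restrictFunctor W.ι).obj F)) {W' : X.Opens} (hle : W' ≤ W) :
    Subsingleton Γ(F, W') := by
  have hz := (Groth.Agent.QCoh.sectionsFunctor (W : Scheme.{u}) (W.ι ⁻¹ᵁ W')).map_isZero h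
  have : Subsingleton Γ(F, W.ι ''ᵁ W.ι ⁻¹ᵁ W') := AddCommGrpCat.subsingleton_of_isZero hz
  rwa [W.ι.image_preimage_eq_opensRange_inf, Scheme.Opens.opensRange_ι, inf_eq_right.mpr hle] at this

open CategoryTheory Limits AlgebraicGeometry in
lemma isZero_restrict {X : Scheme.{u}} {W : X.Opens} (F : X.Modules)
    (h : ∀ W' : X.Opens, W' ≤ W → Subsingleton Γ(F, W')) :
    IsZero ((Scheme.Modules.restrictFunctor W.ι).obj F) := by
  rw [IsZero.iff_id_eq_zero]
  refine Scheme.Modules.hom_ext _ _ fun W' ↦ ?_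
  ext s
  haveI := h (W.ι ''ᵁ W') ((W.ι.image_mono le_top).trans (Scheme.Opens.ι_image_top W).le)
  exact @Subsingleton.elim Γ(F, W.ι ''ᵁ W') _ _ _

/-- Suppose the scheme X is quasi-compact and quasi-separated, and take two quasi-compact opens U, V ⊆
X. Given a quasi-compact open W, denote by S_W the class of quasi-coherent O_X-modules that restrict
to zero on W. Then S_{U ∩ V} is the smallest localizing subcategory of Qcoh(X) that contains both
S_U and S_V; concretely (this is the inclusion that is not formal): any quasi-coherent O_X-module F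
satisfying F|_{U ∩ V} = 0 arises as an extension of a quasi-coherent module that is zero on V by a
quasi-coherent submodule that is zero on U — one can find a monomorphism A ⟶ F where A is
quasi-coherent, A|_U = 0 and (F/A)|_V = 0. -/
theorem result {X : Scheme.{u}}
    [CompactSpace X] [QuasiSeparatedSpace X] (U V : X.Opens) [QuasiCompact U.ι] [QuasiCompact V.ι]
    (F : X.Modules) (hF : Coh.IsQCoh F) (h : IsZero ((Scheme.Modules.restrictFunctor (U ⊓ V).ι).obj F)) :
    ∃ (A : X.Modules) (i : A ⟶ F), Mono i ∧ Coh.IsQCoh A ∧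
      IsZero ((Scheme.Modules.restrictFunctor U.ι).obj A) ∧
      IsZero ((Scheme.Modules.restrictFunctor V.ι).obj (cokernel i)) := by
  haveI : F.IsQuasicoherent := hF
  let φ := (Scheme.Modules.restrictAdjunction U.ι).unit.app F
  haveI : ((Scheme.Modules.restrictFunctor U.ι).obj F).IsQuasicoherent :=
    @Scheme.Modules.isQuasicoherent_restrictFunctor (↑U : Scheme.{u}) X U.ι inferInstance F hF
  haveI hN : ((Scheme.Modules.restrictFunctor U.ι ⋙ Scheme.Modules.pushforward U.ι).obj F).IsQuasicoherent :=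
    Groth.Agent.QCoh.isQuasicoherent_pushforward U.ι ((Scheme.Modules.restrictFunctor U.ι).obj F)
  haveI : ((𝟭 X.Modules).obj F).IsQuasicoherent := hF
  haveI hA : (kernel φ).IsQuasicoherent := Groth.Agent.QCoh.isQuasicoherent_kernel φ
  let K := ShortComplex.mk (kernel.ι φ) φ (kernel.condition φ)
  refine ⟨kernel φ, kernel.ι φ, inferInstance, hA, isZero_restrict _ fun W hW ↦ ?_, ?_⟩
  · refine subsingleton_of_forall_eq 0 fun a ↦ ?_
    apply Groth.Agent.QCoh.app_injective_of_mono (kernel.ι φ) W
    rw [map_zero]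
    have h0 := Groth.Agent.QCoh.app_app_eq_zero K W a
    have e : U.ι ''ᵁ U.ι ⁻¹ᵁ W = W := by
      rw [U.ι.image_preimage_eq_opensRange_inf, Scheme.Opens.opensRange_ι, inf_eq_right.mpr hW]
    have hi : Function.Injective (F.presheaf.map (homOfLE (U.ι.image_preimage_le W)).op) := by
      have hid : IsIso (homOfLE (U.ι.image_preimage_le W)) := ⟨homOfLE e.ge, rfl, rfl⟩
      exact (ConcreteCategory.bijective_of_isIso _).1
    exact hi (h0.trans (map_zero (F.presheaf.map (homOfLE (U.ι.image_preimage_le W)).op).hom).symm)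
  · have hK : K.Exact := K.exact_of_f_is_kernel (kernelIsKernel _)
    haveI : Mono K.f := inferInstanceAs (Mono (kernel.ι φ))
    haveI : IsIso ((Scheme.Modules.restrictFunctor V.ι).map (kernel.ι φ)) := by
      rw [Scheme.Modules.Hom.isIso_iff_isIso_app]
      intro W
      refine (ConcreteCategory.isIso_iff_bijective _).mpr
        ⟨fun a b hab ↦ Groth.Agent.QCoh.app_injective_of_mono (kernel.ι φ) (V.ι ''ᵁ W) hab, fun m ↦ ?_⟩
      haveI : Subsingleton Γ(F, U.ι ''ᵁ U.ι ⁻¹ᵁ (V.ι ''ᵁ W)) := by
        refine subsingleton_of_isZero_restrict F h (le_inf ?_ ((U.ι.image_preimage_le _).trans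
          ((V.ι.image_mono le_top).trans (Scheme.Opens.ι_image_top V).le)))
        exact (U.ι.image_mono le_top).trans (Scheme.Opens.ι_image_top U).le
      exact Groth.Agent.QCoh.exists_app_eq_of_app_eq_zero K hK (V.ι ''ᵁ W) m
        (@Subsingleton.elim Γ(F, U.ι ''ᵁ U.ι ⁻¹ᵁ (V.ι ''ᵁ W)) _ _ _)
    exact (isZero_cokernel_of_epi _).of_iso (PreservesCokernel.iso _ _)

end Groth.Agent.S17649
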