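import Groth.Statements.S17647
import Groth.Agent.S17649
import Groth.Agent.QCohGen.Closed
import Groth.Agent.Props.SubExt
import Mathlib.CategoryTheory.Adjunction.Restrict
import Mathlib.CategoryTheory.Localization.Adjunction

set_option autoImplicit false
universe u
open CategoryTheory CategoryTheory.Limits AlgebraicGeometry
open QCohCat

namespace Groth.Agent.S17647

open CategoryTheory Limits AlgebraicGeometry Groth.Agent.PullStalk.Sky in
lemma support_subset_compl_iff {X : Scheme.{u}} (U : X.Opens) (K : X.Modules) :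
    CohB1.support K ⊆ (↑U : Set X)ᶜ ↔
      IsZero ((Scheme.Modules.restrictFunctor U.ι).obj K) := by
  constructor
  · intro h
    refine S17649.isZero_restrict K fun W hW ↦ subsingleton_of_forall_eq 0 fun s ↦ ?_
    refine TopCat.Presheaf.section_ext (⟨K.presheaf, K.isSheaf⟩ : TopCat.Sheaf AddCommGrpCat X)
      W _ _ fun y hy ↦ ?_
    have : Subsingleton (K.presheaf.stalk y) := by
      by_contra hn
      exact h hn (hW hy)
    exact Subsingleton.elim _ _
  · intro h x hx hxU
    refine hx (subsingleton_of_forall_eq 0 fun t ↦ ?_)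
    obtain ⟨W, hxW, m, rfl⟩ := exists_germM_eq K x t
    have hle : W ⊓ U ≤ W := inf_le_left
    have := S17649.subsingleton_of_isZero_restrict K h (inf_le_right : W ⊓ U ≤ U)
    refine (K.presheaf.germ_res_apply (homOfLE hle) x ⟨hxW, hxU⟩ m).symm.trans ?_
    exact (congrArg (K.presheaf.germ (W ⊓ U) x ⟨hxW, hxU⟩)
      (@Subsingleton.elim Γ(K, W ⊓ U) this _ 0)).trans (map_zero _)

/-- Let X be a scheme and U ⊆ X an open subset whose inclusion U ⟶ X is quasi-compact, Z = X ∖ U. Then
the restriction functor QCoh(X) ⥤ QCoh(U) between the categories of quasi-coherent modules is a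
localization functor for the class of morphisms of quasi-coherent O_X-modules whose kernel and
cokernel (computed in O_X-modules) have support contained in Z: the category QCoh(U) is the quotient
of QCoh(X) by the localizing subcategory of quasi-coherent modules supported in Z, the direct image
along U ⟶ X being the fully faithful right adjoint. No hypothesis is made on X beyond the
quasi-compactness of U ⟶ X. -/
theorem result (X : Scheme.{u})
    (U : X.Opens) [QuasiCompact U.ι] :
    (ObjectProperty.lift (QCohCat.isQCoh (↑U : Scheme.{u}))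
        (ObjectProperty.ι (QCohCat.isQCoh X) ⋙ Scheme.Modules.restrictFunctor U.ι)
        (fun M => @Scheme.Modules.isQuasicoherent_restrictFunctor (↑U : Scheme.{u}) X U.ι
          inferInstance M.obj M.property)).IsLocalization
      (fun (A B : QCohCat.QCoh X) (f : A ⟶ B) =>
        CohB1.support (kernel f.hom) ⊆ (↑U : Set X)ᶜ ∧
          CohB1.support (cokernel f.hom) ⊆ (↑U : Set X)ᶜ) := by
  let R : QCohCat.QCoh (↑U : Scheme.{u}) ⥤ QCohCat.QCoh X :=
    (QCohCat.isQCoh X).lift ((QCohCat.isQCoh (↑U : Scheme.{u})).ι ⋙ Scheme.Modules.pushforward U.ι)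
      fun M ↦ @Groth.Agent.QCoh.isQuasicoherent_pushforward _ _ U.ι inferInstance inferInstance M.obj M.property
  let L : QCohCat.QCoh X ⥤ QCohCat.QCoh (↑U : Scheme.{u}) :=
    ObjectProperty.lift (QCohCat.isQCoh (↑U : Scheme.{u}))
      (ObjectProperty.ι (QCohCat.isQCoh X) ⋙ Scheme.Modules.restrictFunctor U.ι)
      (fun M => @Scheme.Modules.isQuasicoherent_restrictFunctor (↑U : Scheme.{u}) X U.ι
        inferInstance M.obj M.property)
  let adj : L ⊣ R := (Scheme.Modules.restrictAdjunction U.ι).restrictFullyFaithful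
    (QCohCat.isQCoh X).fullyFaithfulι (QCohCat.isQCoh (↑U : Scheme.{u})).fullyFaithfulι
    (Iso.refl _) (Iso.refl _)
  have : (R ⋙ (QCohCat.isQCoh X).ι).Full :=
    inferInstanceAs ((QCohCat.isQCoh (↑U : Scheme.{u})).ι ⋙ Scheme.Modules.pushforward U.ι).Full
  have : (R ⋙ (QCohCat.isQCoh X).ι).Faithful :=
    inferInstanceAs ((QCohCat.isQCoh (↑U : Scheme.{u})).ι ⋙ Scheme.Modules.pushforward U.ι).Faithful
  have hRfull : R.Full := Functor.Full.of_comp_faithful R (QCohCat.isQCoh X).ι
  have hRfaith : R.Faithful := Functor.Faithful.of_comp R (QCohCat.isQCoh X).ι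
  have hloc := adj.isLocalization
  suffices hW : (fun (A B : QCohCat.QCoh X) (f : A ⟶ B) =>
      CohB1.support (kernel f.hom) ⊆ (↑U : Set X)ᶜ ∧
        CohB1.support (cokernel f.hom) ⊆ (↑U : Set X)ᶜ) =
      (MorphismProperty.isomorphisms (QCohCat.QCoh (↑U : Scheme.{u}))).inverseImage L by
    exact hW.symm ▸ hloc
  funext A B f
  refine propext ?_
  rw [support_subset_compl_iff, support_subset_compl_iff]
  change _ ↔ IsIso (L.map f)
  rw [← isIso_iff_of_reflects_iso (L.map f) (QCohCat.isQCoh (↑U : Scheme.{u})).ι]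
  change _ ↔ IsIso ((Scheme.Modules.restrictFunctor U.ι).map f.hom)
  let F := Scheme.Modules.restrictFunctor U.ι
  constructor
  · rintro ⟨h₁, h₂⟩
    have : Mono (F.map f.hom) :=
      Preadditive.mono_of_isZero_kernel _ (h₁.of_iso (PreservesKernel.iso F f.hom).symm)
    have : Epi (F.map f.hom) :=
      Preadditive.epi_of_isZero_cokernel _ (h₂.of_iso (PreservesCokernel.iso F f.hom).symm)
    exact isIso_of_mono_of_epi _
  · intro h
    exact ⟨(isZero_kernel_of_mono _).of_iso (PreservesKernel.iso F f.hom),
      (isZero_cokernel_of_epi _).of_iso (PreservesCokernel.iso F f.hom)⟩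

end Groth.Agent.S17647
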