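import Groth.Statements.S13987
import Groth.Agent.CohDev.LocCriterion
import Groth.Agent.CohDev.Loc
import Groth.Agent.S0816
import Groth.Agent.S17647

set_option autoImplicit false
set_option linter.style.haveILetI false
universe u
open CategoryTheory CategoryTheory.Limits AlgebraicGeometry
open CohGab

namespace Groth.Agent.S13987

/-- Let X be a Noetherian scheme, Z ⊆ X a closed subset and U = X ∖ Z. Then restriction to U induces an
equivalence between the quotient abelian category Coh(X)/Coh_Z(X) (coherent modules modulo those
supported in Z) and Coh(U): the restriction functor Coh(X) ⥤ Coh(U) is a localization functor for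
the class of morphisms of coherent O_X-modules whose kernel and cokernel (taken in O_X-modules) have
support contained in Z. The hypothesis that restriction to U preserves coherence always holds and is
carried only to form the functor between the full subcategories. (The published statement is about
coherent sheaves twisted by a class in the second etale cohomology group of the units of the
structure sheaf; this row is its case of the trivial class, ordinary coherent sheaves.) -/
theorem result (X : Scheme.{u}) [IsNoetherian X]
    (U : X.Opens)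
    (hres : ∀ M : X.Modules, Coh.IsCoh M → Coh.IsCoh ((Scheme.Modules.restrictFunctor U.ι).obj M)) :
    (ObjectProperty.lift (fun N : (↑U : Scheme.{u}).Modules => Coh.IsCoh N)
        (ObjectProperty.ι (fun M : X.Modules => Coh.IsCoh M) ⋙ Scheme.Modules.restrictFunctor U.ι)
        (fun M => hres M.obj M.property)).IsLocalization
      (fun (A B : ObjectProperty.FullSubcategory (fun M : X.Modules => Coh.IsCoh M)) (f : A ⟶ B) =>
        CohB1.support (kernel f.hom) ⊆ (↑U : Set X)ᶜ ∧
          CohB1.support (cokernel f.hom) ⊆ (↑U : Set X)ᶜ) := by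
  let R := Scheme.Modules.restrictFunctor U.ι
  let L := ObjectProperty.lift (fun N : (↑U : Scheme.{u}).Modules => Coh.IsCoh N)
    (ObjectProperty.ι (fun M : X.Modules => Coh.IsCoh M) ⋙ R) (fun M => hres M.obj M.property)
  haveI : PreservesBinaryBiproducts R := preservesBinaryBiproducts_of_preservesBiproducts _
  haveI : R.Additive := Functor.additive_of_preservesBinaryBiproducts R
  have hiso : ∀ {A B : ObjectProperty.FullSubcategory (fun M : X.Modules => Coh.IsCoh M)} (f : A ⟶ B),
      IsIso (L.map f) ↔ IsIso (R.map f.hom) := fun f =>
    (isIso_iff_of_reflects_iso (L.map f) (ObjectProperty.ι fun N : (↑U : Scheme.{u}).Modules => Coh.IsCoh N)).symm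
  haveI : L.EssSurj := ⟨fun N => by
    have hP : Coh.IsQCoh ((Scheme.Modules.pushforward U.ι).obj N.obj) :=
      @Groth.Agent.QCoh.isQuasicoherent_pushforward _ _ U.ι inferInstance inferInstance N.obj N.property.1
    let adj := Scheme.Modules.restrictAdjunction U.ι
    obtain ⟨H, -, e, hH, -⟩ := Groth.Agent.CohDev.exists_coh_extension U.ι _ hP N.obj N.property
      (inv (adj.counit.app N.obj))
    exact ⟨⟨H, hH⟩, ⟨(ObjectProperty.ι fun N : (↑U : Scheme.{u}).Modules => Coh.IsCoh N).preimageIso e⟩⟩⟩
  have hloc := Groth.Agent.CohDev.LocCriterion.isLocalization L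
    (fun A B φ => by
      obtain ⟨F', i, ψ, -, hF', hi, hψ⟩ := S0816.result X A.obj B.obj A.property B.property U φ.hom
      exact ⟨⟨F', hF'⟩, ObjectProperty.homMk i, ObjectProperty.homMk ψ, (hiso _).2 hi,
        ObjectProperty.hom_ext _ hψ⟩)
    (fun A B f g h => by
      have h' : R.map f.hom = R.map g.hom := congrArg (fun k => k.hom) h
      have hK : Coh.IsCoh (kernel (f.hom - g.hom)) :=
        Groth.Agent.CohDev.isCoh_kernel _ A.property B.property.1
      have h0 : R.map (f.hom - g.hom) = 0 := by rw [R.map_sub, h', sub_self]
      haveI : IsIso (kernel.ι (R.map (f.hom - g.hom))) := kernel.ι_of_zero h0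
      refine ⟨⟨_, hK⟩, ObjectProperty.homMk (kernel.ι (f.hom - g.hom)), (hiso _).2 ?_,
        ObjectProperty.hom_ext _ ?_⟩
      · show IsIso (R.map (kernel.ι _))
        rw [(Iso.inv_comp_eq _).1 (PreservesKernel.iso_inv_ι R (f.hom - g.hom))]
        infer_instance
      · show kernel.ι (f.hom - g.hom) ≫ f.hom = kernel.ι (f.hom - g.hom) ≫ g.hom
        rw [← sub_eq_zero, ← Preadditive.comp_sub, kernel.condition])
  suffices hW : (fun (A B : ObjectProperty.FullSubcategory (fun M : X.Modules => Coh.IsCoh M)) (f : A ⟶ B) =>
      CohB1.support (kernel f.hom) ⊆ (↑U : Set X)ᶜ ∧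
        CohB1.support (cokernel f.hom) ⊆ (↑U : Set X)ᶜ) =
      (MorphismProperty.isomorphisms _).inverseImage L by
    exact hW.symm ▸ hloc
  funext A B f
  refine propext ?_
  rw [S17647.support_subset_compl_iff, S17647.support_subset_compl_iff]
  change _ ↔ IsIso (L.map f)
  rw [hiso]
  constructor
  · rintro ⟨h₁, h₂⟩
    have : Mono (R.map f.hom) :=
      Preadditive.mono_of_isZero_kernel _ (h₁.of_iso (PreservesKernel.iso R f.hom).symm)
    have : Epi (R.map f.hom) :=
      Preadditive.epi_of_isZero_cokernel _ (h₂.of_iso (PreservesCokernel.iso R f.hom).symm)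
    exact isIso_of_mono_of_epi _
  · intro h
    exact ⟨(isZero_kernel_of_mono _).of_iso (PreservesKernel.iso R f.hom),
      (isZero_cokernel_of_epi _).of_iso (PreservesCokernel.iso R f.hom)⟩

end Groth.Agent.S13987
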