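import Groth.Statements.S13988
import Groth.Agent.S0816
import Groth.Agent.Props.GenLocus
import Groth.Agent.ProperFin.Supp

set_option autoImplicit false
universe u
open CategoryTheory AlgebraicGeometry
open CohGab

namespace Groth.Agent.S13988


open Groth.Agent.Props in
/-- A section over an open subset is the value at `1` of a map from the restricted structure module. -/
theorem exists_restrict_hom {X : Scheme.{u}} (U : X.Opens) (M : X.Modules) (t : Γ(M, U.ι ''ᵁ ⊤)) :
    ∃ φ : (Scheme.Modules.restrictFunctor U.ι).obj (Coh.structureModule X) ⟶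
        (Scheme.Modules.restrictFunctor U.ι).obj M,
      φ.app ⊤ (1 : Γ(X, U.ι ''ᵁ ⊤)) = t := by
  let RM := (Scheme.Modules.restrictFunctor U.ι).obj M
  let σ : Γ(RM, (⊤ : (U : Scheme.{u}).Opens)) := t
  refine ⟨(Scheme.Modules.restrictUnitIso U.ι).hom ≫ GenLocus.homOfSec σ, ?_⟩
  have h1 : GenLocus.sec (GenLocus.homOfSec σ) (⊤ : (U : Scheme.{u}).Opens) = σ := by
    rw [GenLocus.sec_homOfSec]
    exact (congrArg (fun k => RM.presheaf.map k σ) (Subsingleton.elim _ (𝟙 _))).trans
      (by rw [CategoryTheory.Functor.map_id]; rfl)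
  refine Eq.trans ?_ h1
  show (GenLocus.homOfSec σ).app ⊤ _ = (GenLocus.homOfSec σ).app ⊤ _
  congr 1
  exact map_one (U.ι.appIso ⊤).hom.hom

/-- A natural endomorphism on coherent modules is multiplication by its value at `1`. -/
theorem app_eq_smul {X : Scheme.{u}} [IsNoetherian X]
    (φ : 𝟭 (ObjectProperty.FullSubcategory (fun M : X.Modules => Coh.IsCoh M)) ⟶
      𝟭 (ObjectProperty.FullSubcategory (fun M : X.Modules => Coh.IsCoh M)))
    (hO : Coh.IsCoh (Coh.structureModule X))
    (M : ObjectProperty.FullSubcategory (fun M : X.Modules => Coh.IsCoh M))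
    (V : X.Opens) (t : Γ(M.obj, V)) :
    (φ.app M).hom.app V t =
      (X.presheaf.map (homOfLE (le_top (a := V))).op ((φ.app ⟨_, hO⟩).hom.app ⊤ (1 : Γ(X, ⊤))) : Γ(X, V)) • t := by
  suffices H : ∀ (U : X.Opens) (t : Γ(M.obj, U.ι ''ᵁ ⊤)), (φ.app M).hom.app _ t =
      (X.presheaf.map (homOfLE (le_top (a := U.ι ''ᵁ ⊤))).op ((φ.app ⟨_, hO⟩).hom.app ⊤ (1 : Γ(X, ⊤))) :
        Γ(X, U.ι ''ᵁ ⊤)) • t by
    have := H V
    rw [Scheme.Opens.ι_image_top] at this
    exact this t
  intro U t
  obtain ⟨a, ha⟩ := exists_restrict_hom U M.obj t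
  obtain ⟨F', i, ψ, hi, hF', hiU, hψ⟩ := S0816.result X (Coh.structureModule X) M.obj hO M.property U a
  let W := U.ι ''ᵁ ⊤
  let O' : ObjectProperty.FullSubcategory (fun M : X.Modules => Coh.IsCoh M) := ⟨_, hO⟩
  let P : ObjectProperty.FullSubcategory (fun M : X.Modules => Coh.IsCoh M) := ⟨F', hF'⟩
  have hb : Function.Bijective (i.app W) :=
    (ConcreteCategory.isIso_iff_bijective _).1
      (inferInstanceAs (IsIso (((Scheme.Modules.restrictFunctor U.ι).map i).app ⊤)))
  obtain ⟨e, he⟩ := hb.2 (1 : Γ(X, W))
  have hψe : ψ.app W e = t := by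
    have := congrArg (fun k => k.app ⊤ e) hψ
    refine (this : ψ.app W e = _).trans ?_
    rw [Scheme.Modules.Hom.comp_app]
    show a.app ⊤ (i.app W e) = t
    rw [he]
    exact ha
  have nM : (φ.app M).hom.app W (ψ.app W e) = ψ.app W ((φ.app P).hom.app W e) :=
    congrArg (fun k => k.hom.app W e) (φ.naturality (ObjectProperty.homMk ψ : P ⟶ M))
  have nO : (φ.app O').hom.app W (i.app W e) = i.app W ((φ.app P).hom.app W e) :=
    congrArg (fun k => k.hom.app W e) (φ.naturality (ObjectProperty.homMk i : P ⟶ O'))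
  have hr : (φ.app O').hom.app W (1 : Γ(X, W)) =
      (X.presheaf.map (homOfLE (le_top (a := W))).op ((φ.app O').hom.app ⊤ (1 : Γ(X, ⊤))) : Γ(X, W)) := by
    have h1 := ConcreteCategory.congr_hom
      ((φ.app O').hom.mapPresheaf.naturality (homOfLE (le_top (a := W))).op) (1 : Γ(X, ⊤))
    refine Eq.trans ?_ h1
    show _ = (φ.app O').hom.app W (X.presheaf.map (homOfLE (le_top (a := W))).op (1 : Γ(X, ⊤)))
    rw [map_one]
  rw [← hψe, nM]
  rw [show (φ.app P).hom.app W e = (X.presheaf.map (homOfLE (le_top (a := W))).op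
      ((φ.app O').hom.app ⊤ (1 : Γ(X, ⊤))) : Γ(X, W)) • e from hb.1 (by
    rw [← nO, he, hr, Scheme.Modules.Hom.app_smul, he]
    exact (mul_one (M := Γ(X, W)) _).symm)]
  exact Scheme.Modules.Hom.app_smul ψ _ e

/-- Let X be a Noetherian scheme. The canonical ring map from the global functions Γ(X, O_X) to the
centre of the category of coherent O_X-modules (the endomorphisms of its identity functor), sending
r to multiplication by r, is bijective: for every natural endomorphism φ of the identity functor of
Coh(X) there is a unique global function r such that, for every coherent module M, φ_M is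
multiplication by r (compared as maps of the underlying abelian sheaves). (The published result
builds a ringed space from Coh(X) — irreducible Serre subcategories of finite type, with the centres
of the categories Coh(U) as structure sheaf — and proves it isomorphic to X, for coherent sheaves
twisted by a class in the cohomological Brauer group and with X over a field, a hypothesis its proof
does not use; this row is the ring-theoretic content of that isomorphism on global sections, for the
trivial class; applied to the open subschemes of X it gives the statement on every open.) -/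
theorem result (X : Scheme.{u}) [IsNoetherian X]
    (φ : 𝟭 (ObjectProperty.FullSubcategory (fun M : X.Modules => Coh.IsCoh M)) ⟶ 𝟭 (ObjectProperty.FullSubcategory (fun M : X.Modules => Coh.IsCoh M))) :
    ∃! r : Coh.Γtop X, ∀ M : ObjectProperty.FullSubcategory (fun M : X.Modules => Coh.IsCoh M),
      (SheafOfModules.toSheaf X.ringCatSheaf).map (φ.app M).hom = Coh.smulAb M.obj r := by
  have hO : Coh.IsCoh (Coh.structureModule X) := Groth.Agent.ProperFin.isCoh_structureModule X
  refine ⟨((φ.app ⟨_, hO⟩).hom.app ⊤ (1 : Γ(X, ⊤)) : Γ(X, ⊤)), fun M => ?_, fun r hr => ?_⟩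
  · ext V t
    exact app_eq_smul φ hO M V.unop t
  · have h := congrArg (fun k => k.hom.app (Opposite.op ⊤) (1 : Γ(X, ⊤))) (hr ⟨_, hO⟩)
    refine Eq.trans ?_ h.symm
    let r' : Γ(X, ⊤) := r
    show r' = (X.presheaf.map (homOfLE (le_top (a := (⊤ : X.Opens)))).op r' : Γ(X, ⊤)) * (1 : Γ(X, ⊤))
    rw [mul_one (M := Γ(X, ⊤)), show (homOfLE (le_top (a := (⊤ : X.Opens)))).op = 𝟙 _ from rfl, CategoryTheory.Functor.map_id]
    rfl

end Groth.Agent.S13988
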