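import Groth.Statements.S13989
import Mathlib.CategoryTheory.Abelian.SerreClass.Localization

set_option autoImplicit false
universe v u v' u' v'' u''
open CategoryTheory CategoryTheory.Limits
open CohGab

namespace Groth.Agent.S13989

open CategoryTheory Limits

section
variable {A A' : Type u} [Category.{v} A] [Abelian A] [Category.{v} A'] [Abelian A']
    (i : A' ⥤ A) [PreservesFiniteLimits i] [PreservesFiniteColimits i] [i.PreservesZeroMorphisms]
    (J : ObjectProperty A) [J.IsSerreClass] [(J.inverseImage i).IsSerreClass]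

/-- the morphism `i.map` of an isomorphism modulo the preimage class is an isomorphism modulo `J` -/
theorem map_isoModSerre {X Y : A'} (f : X ⟶ Y) (hf : (J.inverseImage i).isoModSerre f) :
    J.isoModSerre (i.map f) := by
  rw [ObjectProperty.isoModSerre_iff] at hf ⊢
  exact ⟨J.prop_of_iso (PreservesKernel.iso i f) hf.1, J.prop_of_iso (PreservesCokernel.iso i f) hf.2⟩

/-- equality after localising reflects along `i` -/
theorem map_eq_of_map_eq {Q : Type u'} [Category.{v'} Q] (L : A ⥤ Q) [L.IsLocalization J.isoModSerre]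
    {Q' : Type u''} [Category.{v''} Q'] (L' : A' ⥤ Q') [L'.IsLocalization (J.inverseImage i).isoModSerre]
    {X Y : A'} (f g : X ⟶ Y) (h : L.map (i.map f) = L.map (i.map g)) : L'.map f = L'.map g := by
  haveI : i.Additive := Functor.additive_of_preserves_binary_products _
  rw [MorphismProperty.map_eq_iff_precomp L J.isoModSerre] at h
  obtain ⟨Z, s, hs, hsfg⟩ := h
  have h1 : J (Abelian.image (i.map (f - g))) :=
    (ObjectProperty.exists_isoModSerre_comp_eq_zero_iff J _).mp
      ⟨Z, s, hs, by rw [i.map_sub, Preadditive.comp_sub, hsfg, sub_self]⟩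
  have h2 : J (cokernel (kernel.ι (i.map (f - g)))) :=
    J.prop_of_iso (Abelian.coimageIsoImage _).symm h1
  let e : i.obj (cokernel (kernel.ι (f - g))) ≅ cokernel (kernel.ι (i.map (f - g))) :=
    PreservesCokernel.iso i _ ≪≫ cokernelIsoOfEq (by simp) ≪≫
      cokernelEpiComp (PreservesKernel.iso i (f - g)).hom (kernel.ι (i.map (f - g)))
  rw [MorphismProperty.map_eq_iff_precomp L' (J.inverseImage i).isoModSerre]
  refine ⟨_, kernel.ι (f - g), ?_, ?_⟩
  · rw [ObjectProperty.isoModSerre_iff_of_mono]
    exact J.prop_of_iso e.symm h2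
  · have := kernel.condition (f - g)
    rwa [Preadditive.comp_sub, sub_eq_zero] at this
end

/-- Let A be an abelian category, A' a full abelian subcategory (given as a fully faithful exact functor
i : A' ⥤ A) and J a Serre subcategory of A, with J' = J ∩ A' (the preimage of J under i, a Serre
subcategory of A'). Assume that every subobject and every quotient object, in A, of an object of A'
which belongs to J belongs to A' (lies in the essential image of i). Then the functor A'/J' ⥤ A/J
induced between the quotient categories is fully faithful: for L : A ⥤ Q and L' : A' ⥤ Q'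
localization functors at the morphisms whose kernel and cokernel lie in J, resp. J', every functor Φ
: Q' ⥤ Q with L' ⋙ Φ ≅ i ⋙ L is full and faithful. -/
theorem result
    {A A' : Type u} [Category.{v} A] [Abelian A] [Category.{v} A'] [Abelian A']
    (i : A' ⥤ A) [i.Full] [i.Faithful] [PreservesFiniteLimits i] [PreservesFiniteColimits i]
    (J : ObjectProperty A) [J.IsSerreClass] [(J.inverseImage i).IsSerreClass]
    (hsub : ∀ (M : A') (N : A) (f : N ⟶ i.obj M), Mono f → J N → i.essImage N)
    (hquot : ∀ (M : A') (N : A) (p : i.obj M ⟶ N), Epi p → J N → i.essImage N)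
    {Q : Type u'} [Category.{v'} Q] (L : A ⥤ Q) [L.IsLocalization J.isoModSerre]
    {Q' : Type u''} [Category.{v''} Q'] (L' : A' ⥤ Q') [L'.IsLocalization (J.inverseImage i).isoModSerre]
    (Φ : Q' ⥤ Q) (e : L' ⋙ Φ ≅ i ⋙ L) : Φ.Full ∧ Φ.Faithful := by
  haveI : i.Additive := Functor.additive_of_preserves_binary_products _
  set W' := (J.inverseImage i).isoModSerre
  haveI : L'.EssSurj := Localization.essSurj L' W'
  have hinv' := Localization.inverts L' W'
  have hnat : ∀ {X Y : A'} (f : X ⟶ Y), Φ.map (L'.map f) = e.hom.app X ≫ L.map (i.map f) ≫ e.inv.app Y :=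
    fun {X Y} f => by
      have := e.hom.naturality f
      simp only [Functor.comp_map] at this
      rw [← reassoc_of% this, Iso.hom_inv_id_app]
      exact (Category.comp_id _).symm
  have hfaith : ∀ (X Y : A') (a b : L'.obj X ⟶ L'.obj Y), Φ.map a = Φ.map b → a = b := by
    intro X Y a b hab
    obtain ⟨φ, hφ⟩ := Localization.exists_rightFraction L' W' a
    haveI := hinv' _ φ.hs
    obtain ⟨ψ, hψ⟩ := Localization.exists_rightFraction L' W' (L'.map φ.s ≫ b)
    haveI := hinv' _ ψ.hs
    have h1 : L'.map φ.s ≫ a = L'.map φ.f := by rw [hφ, MorphismProperty.RightFraction.map_s_comp_map]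
    have h2 : L'.map ψ.s ≫ L'.map φ.s ≫ b = L'.map ψ.f := by
      rw [hψ, MorphismProperty.RightFraction.map_s_comp_map]
    have h3 : L'.map (ψ.s ≫ φ.f) = L'.map ψ.f := by
      refine map_eq_of_map_eq i J L L' _ _ ?_
      have h4 := congrArg (fun t => Φ.map (L'.map ψ.s ≫ L'.map φ.s) ≫ t) hab
      simp only [← Φ.map_comp, Category.assoc, h1, h2] at h4
      rw [← L'.map_comp, hnat, hnat] at h4
      exact (cancel_mono _).mp ((cancel_epi _).mp h4)
    rw [← cancel_epi (L'.map φ.s), ← cancel_epi (L'.map ψ.s), h1, h2, ← L'.map_comp, h3]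
  have hfull : ∀ (X Y : A') (c : L.obj (i.obj X) ⟶ L.obj (i.obj Y)),
      ∃ a : L'.obj X ⟶ L'.obj Y, Φ.map a = e.hom.app X ≫ c ≫ e.inv.app Y := by
    intro X Y c
    obtain ⟨φ, hφ⟩ := Localization.exists_rightFraction L J.isoModSerre c
    have hs := φ.hs
    rw [ObjectProperty.isoModSerre_iff] at hs
    -- the image of `φ.s` comes from `A'`
    obtain ⟨C, ⟨eC⟩⟩ := hquot X _ (cokernel.π φ.s) inferInstance hs.2
    let π : X ⟶ C := i.preimage (cokernel.π φ.s ≫ eC.inv)
    have hπ : i.map π = cokernel.π φ.s ≫ eC.inv := i.map_preimage _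
    -- the image of the kernel of `φ.s` in `Y` comes from `A'`
    obtain ⟨N, ⟨eN⟩⟩ := hsub Y _ (Abelian.image.ι (kernel.ι φ.s ≫ φ.f)) inferInstance
      (J.prop_of_epi (Abelian.factorThruImage (kernel.ι φ.s ≫ φ.f)) hs.1)
    let n : N ⟶ Y := i.preimage (eN.hom ≫ Abelian.image.ι (kernel.ι φ.s ≫ φ.f))
    have hn : i.map n = eN.hom ≫ Abelian.image.ι (kernel.ι φ.s ≫ φ.f) := i.map_preimage _
    haveI : Mono n := i.mono_of_mono_map (by rw [hn]; infer_instance)
    let t : Y ⟶ cokernel n := cokernel.π n
    have ht : W' t := by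
      have hJN : J (i.obj N) := J.prop_of_iso eN.symm
        (J.prop_of_epi (Abelian.factorThruImage (kernel.ι φ.s ≫ φ.f)) hs.1)
      refine (ObjectProperty.isoModSerre_iff_of_epi (J.inverseImage i) t).mpr ?_
      exact J.prop_of_iso (i.mapIso (show N ≅ kernel (cokernel.π n) from
        asIso (Abelian.factorThruImage n))) hJN
    have h0 : kernel.ι φ.s ≫ φ.f ≫ i.map t = 0 := by
      have h := congrArg (fun z => eN.inv ≫ z) (i.map_comp n t)
      simp only [t, cokernel.condition, Functor.map_zero, comp_zero, hn, Category.assoc,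
        Iso.inv_hom_id_assoc] at h
      rw [← Category.assoc, ← Abelian.image.fac (kernel.ι φ.s ≫ φ.f), Category.assoc, ← h, comp_zero]
    let m : kernel π ⟶ X := kernel.ι π
    have hcoker : J (i.obj C) := J.prop_of_iso eC.symm hs.2
    have hm : W' m := by
      refine (ObjectProperty.isoModSerre_iff_of_mono (J.inverseImage i) m).mpr ?_
      exact (J.inverseImage i).prop_of_mono (cokernel.desc (kernel.ι π) π (kernel.condition π)) hcoker
    have hfac : φ.s ≫ i.map π = 0 := by rw [hπ, cokernel.condition_assoc, zero_comp]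
    let p : φ.X' ⟶ i.obj (kernel π) := kernel.lift _ φ.s hfac ≫ (PreservesKernel.iso i π).inv
    have hp : p ≫ i.map m = φ.s := by simp [p, m]
    haveI : Mono (i.map m) := inferInstance
    haveI : Epi p := by
      have hπ' : (kernel.lift (cokernel.π φ.s) φ.s (cokernel.condition _)) ≫
          kernel.lift (i.map π) (kernel.ι (cokernel.π φ.s)) (by rw [hπ, kernel.condition_assoc, zero_comp]) =
          kernel.lift _ φ.s hfac := by
        apply equalizer.hom_ext; simp
      haveI : IsIso (kernel.lift (i.map π) (kernel.ι (cokernel.π φ.s))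
          (by rw [hπ, kernel.condition_assoc, zero_comp])) := by
        refine ⟨kernel.lift _ (kernel.ι (i.map π)) ?_, ?_, ?_⟩
        · have := kernel.condition (i.map π)
          conv_lhs at this => arg 2; rw [hπ]
          rw [← Category.assoc] at this
          exact (cancel_mono eC.inv).mp (this.trans zero_comp.symm)
        · apply equalizer.hom_ext; simp
        · apply equalizer.hom_ext; simp
      haveI : Epi (kernel.lift (cokernel.π φ.s) φ.s (cokernel.condition _)) :=
        inferInstanceAs (Epi (Abelian.factorThruImage φ.s))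
      haveI : Epi (kernel.lift _ φ.s hfac) := by rw [← hπ']; exact epi_comp _ _
      exact epi_comp _ _
    have hpk : kernel.ι p ≫ φ.f ≫ i.map t = 0 := by
      have h1 : kernel.ι p ≫ φ.s = 0 :=
        (congrArg (kernel.ι p ≫ ·) hp.symm).trans ((kernel.condition_assoc p (i.map m)).trans zero_comp)
      rw [← kernel.lift_ι φ.s _ h1, Category.assoc, h0, comp_zero]
    let g₀ := Abelian.epiDesc p (φ.f ≫ i.map t) hpk
    have hg₀ : p ≫ g₀ = φ.f ≫ i.map t := Abelian.comp_epiDesc _ _ _
    let g : kernel π ⟶ cokernel n := i.preimage g₀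
    haveI := hinv' _ hm
    haveI := hinv' _ ht
    refine ⟨inv (L'.map m) ≫ L'.map g ≫ inv (L'.map t), ?_⟩
    haveI : IsIso (L.map φ.s) := Localization.inverts L J.isoModSerre _ φ.hs
    haveI : IsIso (L.map (i.map t)) := Localization.inverts L J.isoModSerre _ (map_isoModSerre i J t ht)
    haveI : IsIso (L.map (i.map m)) := Localization.inverts L J.isoModSerre _ (map_isoModSerre i J m hm)
    rw [← cancel_epi (Φ.map (L'.map m)), ← cancel_mono (Φ.map (L'.map t))]
    simp only [← Φ.map_comp, Category.assoc, IsIso.hom_inv_id_assoc, IsIso.inv_hom_id, Category.comp_id]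
    simp only [Φ.map_comp, hnat, Category.assoc, Iso.inv_hom_id_app_assoc, cancel_epi]
    have h5 : L.map (i.map g) = L.map (i.map m) ≫ c ≫ L.map (i.map t) := by
      haveI : IsIso (L.map p) := by
        have h6 : L.map p ≫ L.map (i.map m) = L.map φ.s := by rw [← L.map_comp, hp]
        exact IsIso.of_isIso_fac_right h6
      rw [← cancel_epi (L.map p), ← reassoc_of% (L.map_comp p (i.map m)), hp, ← L.map_comp,
        i.map_preimage, hg₀, L.map_comp, hφ, ← Category.assoc,
        MorphismProperty.RightFraction.map_s_comp_map]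
    rw [h5]
    simp
  refine ⟨⟨fun {X Y} c => ?_⟩, ⟨fun {X Y} a b hab => ?_⟩⟩
  · let eX := L'.objObjPreimageIso X
    let eY := L'.objObjPreimageIso Y
    obtain ⟨a, ha⟩ := hfull _ _ (e.inv.app (L'.objPreimage X) ≫ Φ.map eX.hom ≫ c ≫ Φ.map eY.inv ≫
      e.hom.app (L'.objPreimage Y))
    refine ⟨eX.inv ≫ a ≫ eY.hom, ?_⟩
    rw [Φ.map_comp, Φ.map_comp, ha]
    simp
  · let eX := L'.objObjPreimageIso X
    let eY := L'.objObjPreimageIso Y
    have := hfaith _ _ (eX.hom ≫ a ≫ eY.inv) (eX.hom ≫ b ≫ eY.inv) (by simp [hab])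
    simpa using this

end Groth.Agent.S13989
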