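import Groth.Statements.S13991
import Groth.Agent.CohDev.SerreGen
-- import your own Groth.Agent.* helpers here

set_option autoImplicit false
universe u
open CategoryTheory AlgebraicGeometry
open CohGab

namespace Groth.Agent.S13991

/-- Let X be a Noetherian scheme and Z ⊆ X a closed subset. Then Z is irreducible (or empty) if and only
if Coh_Z(X), the coherent O_X-modules supported in Z, is an irreducible Serre subcategory of Coh(X),
i.e. it is not generated as a Serre subcategory by two Serre subcategories properly contained in it: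
whenever J₁, J₂ are Serre classes on coherent modules (middle term of a short exact sequence of
coherent modules belongs iff both outer terms do), both contained in Coh_Z, such that every Serre
class on coherent modules containing J₁ and J₂ contains Coh_Z, then J₁ or J₂ contains Coh_Z.
Consequently the points of X correspond to the irreducible Serre subcategories of finite type other
than the zero subcategory. (The published statement says 'Z is irreducible iff Coh_Z is irreducible'
and deduces a bijection between the points of X and all irreducible Serre subcategories of finite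
type; the zero subcategory Coh_∅ is irreducible in this sense while ∅ is not an irreducible space,
so irreducibility of Z is read here as 'irreducible or empty'. The published statement is also about
coherent sheaves twisted by a class in the second etale cohomology group of the units of the
structure sheaf; this row is its case of the trivial class.) -/
theorem result (X : Scheme.{u}) [IsNoetherian X]
    (Z : TopologicalSpace.Closeds X) :
    IsPreirreducible (↑Z : Set X) ↔
    ∀ J₁ J₂ : ObjectProperty X.Modules, (∀ S : ShortComplex X.Modules, S.ShortExact → Coh.IsCoh S.X₁ → Coh.IsCoh S.X₂ →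
        Coh.IsCoh S.X₃ → (J₁ S.X₂ ↔ J₁ S.X₁ ∧ J₁ S.X₃)) → (∀ S : ShortComplex X.Modules, S.ShortExact → Coh.IsCoh S.X₁ → Coh.IsCoh S.X₂ →
        Coh.IsCoh S.X₃ → (J₂ S.X₂ ↔ J₂ S.X₁ ∧ J₂ S.X₃)) →
      (∀ M : X.Modules, Coh.IsCoh M → J₁ M → CohB1.support M ⊆ (↑Z : Set X)) →
      (∀ M : X.Modules, Coh.IsCoh M → J₂ M → CohB1.support M ⊆ (↑Z : Set X)) →
      (∀ Q : ObjectProperty X.Modules, (∀ S : ShortComplex X.Modules, S.ShortExact → Coh.IsCoh S.X₁ → Coh.IsCoh S.X₂ →
        Coh.IsCoh S.X₃ → (Q S.X₂ ↔ Q S.X₁ ∧ Q S.X₃)) →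
        (∀ M : X.Modules, Coh.IsCoh M → J₁ M → Q M) → (∀ M : X.Modules, Coh.IsCoh M → J₂ M → Q M) →
        ∀ M : X.Modules, Coh.IsCoh M → CohB1.support M ⊆ (↑Z : Set X) → Q M) →
      (∀ M : X.Modules, Coh.IsCoh M → CohB1.support M ⊆ (↑Z : Set X) → J₁ M) ∨
        (∀ M : X.Modules, Coh.IsCoh M → CohB1.support M ⊆ (↑Z : Set X) → J₂ M) := by
  
  constructor
  · intro hZ J₁ J₂ hJ₁ hJ₂ hs₁ hs₂ hgen
    obtain ⟨G, hG, hGs⟩ := CohDev.exists_isCoh_support_eq Z
    by_cases he : (↑Z : Set X) = ∅
    · by_cases h : ∃ M, Coh.IsCoh M ∧ (J₁ M ∨ J₂ M)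
      · obtain ⟨M, hM, h | h⟩ := h
        · exact Or.inl fun N hN hNs => CohDev.IsSerreCoh.of_isZero (P := J₁) hJ₁ hM h
            (CohDev.isZero_of_support_eq_empty (Set.subset_eq_empty hNs he))
        · exact Or.inr fun N hN hNs => CohDev.IsSerreCoh.of_isZero (P := J₂) hJ₂ hM h
            (CohDev.isZero_of_support_eq_empty (Set.subset_eq_empty hNs he))
      · exact absurd (hgen (fun _ => False) (fun S _ _ _ _ => by simp)
          (fun M hM hJ => h ⟨M, hM, Or.inl hJ⟩) (fun M hM hJ => h ⟨M, hM, Or.inr hJ⟩) G hG hGs.le) id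
    · have hirr : IsIrreducible (↑Z : Set X) := ⟨Set.nonempty_iff_ne_empty.2 he, hZ⟩
      obtain ⟨ξ, hξ⟩ := QuasiSober.sober hirr Z.isClosed
      by_contra hcon
      simp only [not_or, not_forall] at hcon
      have key : ∀ (J : ObjectProperty X.Modules), CohDev.IsSerreCoh (fun M => J M) →
          ∀ M, Coh.IsCoh M → J M → ξ ∈ CohB1.support M →
          ∀ N : X.Modules, Coh.IsCoh N → CohB1.support N ⊆ (↑Z : Set X) → J N := fun J hJ M hM hJM hx N hN hNs =>
        CohDev.IsSerreCoh.generate (P := fun M => J M) hJ hM hJM hN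
          (hNs.trans (hξ.mem_closed_set_iff (CohDev.isClosed_support hM) |>.1 hx))
      obtain ⟨⟨M₁, hM₁, hM₁s, hn₁⟩, ⟨M₂, hM₂, hM₂s, hn₂⟩⟩ := hcon
      have := hgen (fun M => ξ ∉ CohB1.support M) (fun S hS _ _ _ => by
          haveI := hS.mono_f
          haveI := hS.epi_g
          exact ⟨fun h => ⟨fun h' => h (CohDev.support_subset_of_mono S.f h'),
            fun h' => h (CohDev.support_subset_of_epi S.g h')⟩,
            fun h h' => (CohDev.support_subset_union hS h').elim h.1 h.2⟩)
        (fun M hM hJ hx => hn₁ (key J₁ hJ₁ M hM hJ hx M₁ hM₁ hM₁s))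
        (fun M hM hJ hx => hn₂ (key J₂ hJ₂ M hM hJ hx M₂ hM₂ hM₂s)) G hG hGs.le
      exact this (hGs.symm ▸ hξ.mem)
  · intro h
    rw [isPreirreducible_iff_isClosed_union_isClosed]
    intro A B hA hB hZ
    obtain ⟨G, hG, hGs⟩ := CohDev.exists_isCoh_support_eq Z
    obtain ⟨F₁, hF₁, hF₁s⟩ := CohDev.exists_isCoh_support_eq (⟨↑Z ∩ A, Z.isClosed.inter hA⟩ : TopologicalSpace.Closeds X)
    obtain ⟨F₂, hF₂, hF₂s⟩ := CohDev.exists_isCoh_support_eq (⟨↑Z ∩ B, Z.isClosed.inter hB⟩ : TopologicalSpace.Closeds X)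
    have hcov : (↑Z : Set X) ⊆ CohB1.support (F₁ ⊞ F₂) := fun z hz => (hZ hz).elim
      (fun ha => CohDev.support_subset_of_mono (CategoryTheory.Limits.biprod.inl : F₁ ⟶ F₁ ⊞ F₂) (hF₁s.ge ⟨hz, ha⟩))
      (fun hb => CohDev.support_subset_of_mono (CategoryTheory.Limits.biprod.inr : F₂ ⟶ F₁ ⊞ F₂) (hF₂s.ge ⟨hz, hb⟩))
    rcases h (fun M => CohB1.support M ⊆ ↑Z ∩ A) (fun M => CohB1.support M ⊆ ↑Z ∩ B)
      (CohDev.isSerreCoh_support_subset _) (CohDev.isSerreCoh_support_subset _)
      (fun M _ hs => hs.trans Set.inter_subset_left) (fun M _ hs => hs.trans Set.inter_subset_left)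
      (fun Q hQ h₁ h₂ M hM hMs => CohDev.IsSerreCoh.generate (P := Q) hQ (CohDev.isCoh_biprod hF₁ hF₂)
        (CohDev.IsSerreCoh.biprod (P := Q) hQ hF₁ hF₂ (h₁ _ hF₁ hF₁s.le) (h₂ _ hF₂ hF₂s.le)) hM
        (hMs.trans hcov)) with h' | h'
    · exact Or.inl ((hGs.ge.trans (h' G hG hGs.le)).trans Set.inter_subset_right)
    · exact Or.inr ((hGs.ge.trans (h' G hG hGs.le)).trans Set.inter_subset_right)

end Groth.Agent.S13991
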