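import Groth.Statements.S13992
import Groth.Agent.CAlg76.Planar
import Mathlib
-- import your own Groth.Agent.* helpers here

set_option autoImplicit false
universe u
open CategoryTheory
open CAlg

namespace Groth.Agent.S13992

/-- Let S be a regular local ring of Krull dimension two, f a non-zero element of S and R the quotient
of S by f, assumed reduced (the local ring of a reduced planar curve singularity). Let M and N be
finitely generated R-modules, each admitting a non-zero-divisor in the maximal ideal of R,
annihilated by ideals I and J respectively, where I + J contains a power of the maximal ideal. Then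
Ext²_R(M, N) = 0. (The published statement is global: Ext²(F, F') = 0 for torsion-free coherent
sheaves F and F' on a reduced projective curve over a characteristic-zero algebraically closed
field, supported on subcurves with no common irreducible component that meet only at points with
planar singularities; this row is the vanishing on stalks to which it reduces, stated over an
arbitrary two-dimensional regular local ring.) -/
theorem result (S : Type u) [CommRing S] [IsRegularLocalRing S] (hS : ringKrullDim S = 2) (f : S) (hf : f ≠ 0) (R : Type u) [CommRing R] [IsLocalRing R] [IsReduced R] (π : S →+* R) (hπ : Function.Surjective π) (hker : RingHom.ker π = Ideal.span {f}) (I J : Ideal R) (n : ℕ) (hIJ : IsLocalRing.maximalIdeal R ^ n ≤ I ⊔ J) (M N : Type u) [AddCommGroup M] [Module R M] [Module.Finite R M] [AddCommGroup N] [Module R N] [Module.Finite R N] (hI : I ≤ Module.annihilator R M) (hJ : J ≤ Module.annihilator R N) (x : R) (hx : x ∈ IsLocalRing.maximalIdeal R) (hxM : IsSMulRegular M x) (y : R) (hy : y ∈ IsLocalRing.maximalIdeal R) (hyN : IsSMulRegular N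 y) : Subsingleton (Abelian.Ext (ModuleCat.of R M) (ModuleCat.of R N) 2) := by
  classical
  obtain ⟨k, m, g, φ, hg, hex, hψ⟩ := CAlg76.Planar.exists_presentation hS π hπ M x hx hxM
  let K1 := LinearMap.ker g
  let K2 := LinearMap.ker φ
  let e : (Fin m → R) →ₗ[R] K1 := φ.codRestrict _ fun v ↦ (hex _).2 ⟨v, rfl⟩
  have he : Function.Surjective e := fun ⟨w, hw⟩ ↦ by
    obtain ⟨v, rfl⟩ := (hex w).1 hw
    exact ⟨v, rfl⟩
  have hzero : ∀ (h : K2 →ₗ[R] N), h = 0 := by
    intro h
    refine LinearMap.ext fun v ↦ (IsSMulRegular.pow n hyN).right_eq_zero_of_smul ?_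
    have hle : I ⊔ J ≤ (Submodule.span R {h v}).annihilator := by
      refine sup_le ?_ ?_
      · intro i hi
        rw [Submodule.mem_annihilator_span_singleton, ← map_smul]
        obtain ⟨ψ, hψ⟩ := hψ i (hI hi)
        have : i • v = 0 := Subtype.ext (by
          show i • v.1 = 0
          have h' := LinearMap.congr_fun hψ v.1
          rw [LinearMap.comp_apply, show φ v.1 = 0 from v.2, map_zero] at h'
          exact h'.symm)
        rw [this, map_zero]
      · intro j hj
        rw [Submodule.mem_annihilator_span_singleton]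
        exact Module.mem_annihilator.1 (hJ hj) _
    exact (Submodule.mem_annihilator_span_singleton _ _).1 (hle (hIJ (Ideal.pow_mem_pow hy n)))
  have h0 : Subsingleton (Abelian.Ext (ModuleCat.of R K2) (ModuleCat.of R N) 0) := by
    have : Subsingleton (ModuleCat.of R K2 ⟶ ModuleCat.of R N) :=
      ⟨fun a b ↦ ModuleCat.hom_ext ((hzero a.hom).trans (hzero b.hom).symm)⟩
    exact Abelian.Ext.homEquiv₀.subsingleton
  let S2 : ShortComplex (ModuleCat.{u} R) := ShortComplex.mk (ModuleCat.ofHom K2.subtype) (ModuleCat.ofHom e)
    (ModuleCat.hom_ext (LinearMap.ext fun v ↦ Subtype.ext v.2))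
  have hS2 : S2.ShortExact :=
    { exact := (ShortComplex.moduleCat_exact_iff _).2 fun v hv ↦ ⟨⟨v, congrArg Subtype.val hv⟩, rfl⟩
      mono_f := (ModuleCat.mono_iff_injective _).2 Subtype.val_injective
      epi_g := (ModuleCat.epi_iff_surjective _).2 he }
  let S1 : ShortComplex (ModuleCat.{u} R) := ShortComplex.mk (ModuleCat.ofHom K1.subtype) (ModuleCat.ofHom g)
    (ModuleCat.hom_ext (LinearMap.ext fun v ↦ v.2))
  have hS1 : S1.ShortExact :=
    { exact := (ShortComplex.moduleCat_exact_iff _).2 fun v hv ↦ ⟨⟨v, hv⟩, rfl⟩
      mono_f := (ModuleCat.mono_iff_injective _).2 Subtype.val_injective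
      epi_g := (ModuleCat.epi_iff_surjective _).2 hg }
  have hproj : ∀ (l i : ℕ), Subsingleton (Abelian.Ext (ModuleCat.of R (Fin l → R)) (ModuleCat.of R N) (i + 1)) := fun l i ↦
    ⟨fun a b ↦ (Abelian.Ext.eq_zero_of_projective a).trans (Abelian.Ext.eq_zero_of_projective b).symm⟩
  have h1 : Subsingleton (Abelian.Ext S2.X₃ (ModuleCat.of R N) 1) :=
    AddCommGrpCat.subsingleton_of_isZero <| ShortComplex.Exact.isZero_of_both_zeros
      (Abelian.Ext.contravariant_sequence_exact₃' hS2 (ModuleCat.of R N) 0 1 rfl)
      ((AddCommGrpCat.isZero_of_iff_subsingleton.mpr h0).eq_zero_of_src _)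
      ((AddCommGrpCat.isZero_of_iff_subsingleton.mpr (hproj m 0)).eq_zero_of_tgt _)
  exact AddCommGrpCat.subsingleton_of_isZero <| ShortComplex.Exact.isZero_of_both_zeros
      (Abelian.Ext.contravariant_sequence_exact₃' hS1 (ModuleCat.of R N) 1 2 rfl)
      ((AddCommGrpCat.isZero_of_iff_subsingleton.mpr h1).eq_zero_of_src _)
      ((AddCommGrpCat.isZero_of_iff_subsingleton.mpr (hproj k 1)).eq_zero_of_tgt _)

end Groth.Agent.S13992
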