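import Groth.Statements.S13993
import Mathlib
-- import your own Groth.Agent.* helpers here

set_option autoImplicit false
universe u
open CategoryTheory
open CAlg

namespace Groth.Agent.S13993

section
variable {k : Type u} [Field k]
open MvPowerSeries

theorem decomp (p : MvPowerSeries (Fin 2) k) :
    ∃ q r : MvPowerSeries (Fin 2) k, p = C (constantCoeff p) + X (0 : Fin 2) * q + X (1 : Fin 2) * r := by
  classical
  let p1 : MvPowerSeries (Fin 2) k := fun m ↦ if m 0 = 0 then 0 else coeff m p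
  have h1 : X (0 : Fin 2) ∣ p1 := by
    rw [X_dvd_iff]
    intro m hm
    show (if m 0 = 0 then 0 else coeff m p) = 0
    rw [if_pos hm]
  have h2 : X (1 : Fin 2) ∣ p - C (constantCoeff p) - p1 := by
    rw [X_dvd_iff]
    intro m hm
    rw [map_sub, map_sub, coeff_C]
    show coeff m p - _ - (if m 0 = 0 then 0 else coeff m p) = 0
    by_cases h0 : m 0 = 0
    · have : m = 0 := by ext i; fin_cases i <;> simp [h0, hm]
      subst this
      simp [coeff_zero_eq_constantCoeff]
    · have : m ≠ 0 := fun h ↦ h0 (by simp [h])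
      simp [h0, this]
  obtain ⟨q, hq⟩ := h1
  obtain ⟨r, hr⟩ := h2
  exact ⟨q, r, by rw [← hq, ← hr]; ring⟩

local notation "P₂" => MvPowerSeries (Fin 2) k
local notation "node" => Ideal.span {(MvPowerSeries.X (0 : Fin 2) : MvPowerSeries (Fin 2) k) * MvPowerSeries.X (1 : Fin 2)}

/-- The element `y` as a scalar multiple detects classes modulo `x`. -/
theorem eq_of_y_mul (a b : P₂ ⧸ node)
    (h : Ideal.Quotient.mk node (X (1 : Fin 2)) * a = Ideal.Quotient.mk node (X (1 : Fin 2)) * b) :
    a - b ∈ Ideal.span {Ideal.Quotient.mk node (X (0 : Fin 2))} := by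
  obtain ⟨a, rfl⟩ := Ideal.Quotient.mk_surjective a
  obtain ⟨b, rfl⟩ := Ideal.Quotient.mk_surjective b
  rw [← map_mul, ← map_mul, Ideal.Quotient.eq, Ideal.mem_span_singleton] at h
  obtain ⟨c, hc⟩ := h
  have : a - b = X (0 : Fin 2) * c := by
    have hy : (X (1 : Fin 2) : P₂) ≠ 0 := fun h0 ↦ by
      have := congrArg (coeff (Finsupp.single (1 : Fin 2) 1)) h0
      rw [coeff_X, if_pos rfl, map_zero] at this
      exact one_ne_zero this
    refine mul_left_cancel₀ hy ?_
    linear_combination hc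
  rw [Ideal.mem_span_singleton, ← map_sub, this, map_mul]
  exact dvd_mul_right _ _

theorem one_notMem (a : P₂ ⧸ node) :
    1 - Ideal.Quotient.mk node (X (1 : Fin 2)) * a ∉ Ideal.span {Ideal.Quotient.mk node (X (0 : Fin 2))} := by
  intro h
  obtain ⟨a, rfl⟩ := Ideal.Quotient.mk_surjective a
  obtain ⟨b, hb⟩ := Ideal.mem_span_singleton'.1 h
  obtain ⟨b, rfl⟩ := Ideal.Quotient.mk_surjective b
  rw [← map_one (Ideal.Quotient.mk node), ← map_mul, ← map_mul, ← map_sub, Ideal.Quotient.eq, Ideal.mem_span_singleton] at hb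
  obtain ⟨c, hc⟩ := hb
  have := congrArg constantCoeff hc
  simp at this

end

/-- Let k be a field and A = k[[x,y]]/(xy) the complete local ring of a node, with branch rings A/(y)
and A/(x) viewed as A-modules. Then the first Ext group Ext¹_A(A/(y), A/(x)) has dimension one over
k. (The published statement is for the local ring at a node of a reduced curve over an algebraically
closed field of characteristic zero, a node being a point whose complete local ring is A; this row
states the case of the complete local ring A itself, over an arbitrary field.) -/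
theorem result (k : Type u) [Field k] : Module.finrank k (Abelian.Ext (ModuleCat.of (MvPowerSeries (Fin 2) k ⧸ Ideal.span {(MvPowerSeries.X (0 : Fin 2) : MvPowerSeries (Fin 2) k) * MvPowerSeries.X (1 : Fin 2)}) ((MvPowerSeries (Fin 2) k ⧸ Ideal.span {(MvPowerSeries.X (0 : Fin 2) : MvPowerSeries (Fin 2) k) * MvPowerSeries.X (1 : Fin 2)}) ⧸ Ideal.span {Ideal.Quotient.mk (Ideal.span {(MvPowerSeries.X (0 : Fin 2) : MvPowerSeries (Fin 2) k) * MvPowerSeries.X (1 : Fin 2)}) (MvPowerSeries.X (1 : Fin 2))})) (ModuleCat.of (MvPowerSeries (Fin 2) k ⧸ Ideal.span {(MvPowerSeries.X (0 : Fin 2) : MvPowerSeries (Fin 2) k) * MvPowerSeries.X (1 : Fin 2)}) ((MvPowerSeries (Fin 2) k ⧸ Ideal.span {(MvPowerSeries.X (0 : Fin 2) : MvPowerSeries (Fin 2) k) * MvPowerSeries.X (1 : Fin 2)}) ⧸ Ideal.span {Ideal.Quotient.mk (Ideal.span {(MvPowerSeries.X (0 : Fin 2) : MvPowerSeries (Fin 2) k) * MvPowerSeries.X (1 : Fin 2)}) (MvPowerSeries.X (0 : Fin 2))})) 1) = 1 := by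
  classical
  set A := MvPowerSeries (Fin 2) k ⧸ Ideal.span {(MvPowerSeries.X (0 : Fin 2) : MvPowerSeries (Fin 2) k) * MvPowerSeries.X (1 : Fin 2)} with hA
  let mk : MvPowerSeries (Fin 2) k →+* A := Ideal.Quotient.mk _
  let x : A := mk (MvPowerSeries.X (0 : Fin 2))
  let y : A := mk (MvPowerSeries.X (1 : Fin 2))
  let Iy : Ideal A := Ideal.span {y}
  let Ix : Ideal A := Ideal.span {x}
  let M := ModuleCat.of A (A ⧸ Iy)
  let N := ModuleCat.of A (A ⧸ Ix)
  show Module.finrank k (Abelian.Ext M N 1) = 1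
  let S : ShortComplex (ModuleCat.{u} A) := ShortComplex.mk (ModuleCat.ofHom (Submodule.subtype Iy))
    (ModuleCat.ofHom (Iy : Submodule A A).mkQ)
    (ModuleCat.hom_ext (LinearMap.ext fun v ↦ (Submodule.Quotient.mk_eq_zero _).2 v.2))
  have hS : S.ShortExact :=
    { exact := (ShortComplex.moduleCat_exact_iff _).2 fun v hv ↦ ⟨⟨v, (Submodule.Quotient.mk_eq_zero _).1 hv⟩, rfl⟩
      mono_f := (ModuleCat.mono_iff_injective _).2 Subtype.val_injective
      epi_g := (ModuleCat.epi_iff_surjective _).2 (Submodule.mkQ_surjective _) }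
  have hy : ∀ z : Iy, ∃ a : A, z = a • (⟨y, Ideal.mem_span_singleton_self y⟩ : Iy) := fun z ↦ by
    obtain ⟨a, ha⟩ := Ideal.mem_span_singleton'.1 z.2
    exact ⟨a, Subtype.ext ha.symm⟩
  choose coef hcoef using hy
  have hwd : ∀ (z : Iy) (a : A), a * y = z.1 → (Submodule.Quotient.mk (coef z) : A ⧸ (Ix : Submodule A A)) = Submodule.Quotient.mk a := by
    intro z a ha
    refine (Submodule.Quotient.eq _).2 (eq_of_y_mul _ _ ?_)
    have h : z.1 = coef z * y := congrArg Subtype.val (hcoef z)
    show y * coef z = y * a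
    rw [mul_comm, ← h, mul_comm y a, ha]
  let h0 : Iy →ₗ[A] (A ⧸ (Ix : Submodule A A)) :=
    { toFun := fun z ↦ Submodule.Quotient.mk (coef z)
      map_add' := fun z w ↦ by
        rw [← Submodule.Quotient.mk_add]
        refine hwd _ _ ?_
        rw [add_mul]
        exact (congrArg₂ (· + ·) (congrArg Subtype.val (hcoef z)) (congrArg Subtype.val (hcoef w))).symm
      map_smul' := fun r z ↦ by
        rw [RingHom.id_apply, ← Submodule.Quotient.mk_smul]
        refine hwd _ _ ?_
        rw [smul_eq_mul, mul_assoc]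
        exact (congrArg (r * ·) (congrArg Subtype.val (hcoef z))).symm }
  have h0y : h0 ⟨y, Ideal.mem_span_singleton_self y⟩ = Submodule.Quotient.mk (1 : A) := hwd _ 1 (one_mul y)
  let δ : (S.X₁ ⟶ N) → Abelian.Ext M N 1 := fun h ↦ hS.extClass.comp (Abelian.Ext.mk₀ h) (add_zero 1)
  refine finrank_eq_one (δ (ModuleCat.ofHom h0)) ?_ ?_
  · intro h
    obtain ⟨g, hg⟩ := Abelian.Ext.contravariant_sequence_exact₁ hS N _ (add_zero 1) h
    obtain ⟨g, rfl⟩ := Abelian.Ext.homEquiv₀.symm.surjective g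
    rw [Abelian.Ext.homEquiv₀_symm_apply, Abelian.Ext.mk₀_comp_mk₀] at hg
    have hg' := LinearMap.congr_fun (congrArg ModuleCat.Hom.hom (Abelian.Ext.homEquiv₀.symm.injective hg))
      ⟨y, Ideal.mem_span_singleton_self y⟩
    obtain ⟨b, hb⟩ := Submodule.Quotient.mk_surjective _ (g.hom (1 : A))
    have h2 : g.hom y = Submodule.Quotient.mk (y * b) := by
      calc g.hom y = g.hom (y • (1 : A)) := by rw [smul_eq_mul, mul_one]
        _ = y • g.hom (1 : A) := map_smul _ _ _
        _ = _ := by rw [← hb, ← Submodule.Quotient.mk_smul]; rfl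
    have h3 : (Submodule.Quotient.mk (y * b) : A ⧸ (Ix : Submodule A A)) = Submodule.Quotient.mk (1 : A) :=
      h2.symm.trans (hg'.trans h0y)
    exact one_notMem _ ((Submodule.Quotient.eq _).1 h3.symm)
  · intro w
    obtain ⟨v, hv⟩ := Abelian.Ext.contravariant_sequence_exact₃ hS N w
      ((Abelian.Ext.eq_zero_of_projective (P := ModuleCat.of A A) _)) (show 1 + 0 = 1 from rfl)
    obtain ⟨h, rfl⟩ := Abelian.Ext.homEquiv₀.symm.surjective v
    obtain ⟨a, ha⟩ := Submodule.Quotient.mk_surjective _ (h.hom ⟨y, Ideal.mem_span_singleton_self y⟩)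
    obtain ⟨p, rfl⟩ := Ideal.Quotient.mk_surjective a
    obtain ⟨q, r, hp⟩ := decomp p
    refine ⟨MvPowerSeries.constantCoeff p, ?_⟩
    let g : S.X₂ ⟶ N := ModuleCat.ofHom (LinearMap.toSpanSingleton A (A ⧸ (Ix : Submodule A A)) (Submodule.Quotient.mk (mk r)))
    have hh : h = MvPowerSeries.constantCoeff p • ModuleCat.ofHom h0 + S.f ≫ g := by
      refine ModuleCat.hom_ext (LinearMap.ext fun z ↦ ?_)
      obtain ⟨c, rfl⟩ : ∃ c : A, z = c • (⟨y, Ideal.mem_span_singleton_self y⟩ : Iy) := ⟨_, hcoef z⟩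
      rw [map_smul, map_smul]
      congr 1
      rw [ModuleCat.hom_add, LinearMap.add_apply, ModuleCat.hom_comp, LinearMap.comp_apply]
      rw [ModuleCat.hom_smul, LinearMap.smul_apply, ← algebraMap_smul A (MvPowerSeries.constantCoeff p)]
      show h.hom _ = algebraMap k A (MvPowerSeries.constantCoeff p) • h0 ⟨y, _⟩ + y • (Submodule.Quotient.mk (mk r) : A ⧸ (Ix : Submodule A A))
      rw [← ha, h0y, ← Submodule.Quotient.mk_smul, ← Submodule.Quotient.mk_smul, ← Submodule.Quotient.mk_add]
      refine (Submodule.Quotient.eq _).2 (Ideal.mem_span_singleton'.2 ⟨mk q, ?_⟩)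
      have hp' : mk p = mk (MvPowerSeries.C (MvPowerSeries.constantCoeff p)) + x * mk q + y * mk r := by
        conv_lhs => rw [hp]
        rw [map_add, map_add, map_mul, map_mul]
      rw [smul_eq_mul, smul_eq_mul, mul_one]
      show mk q * x = mk p - (mk (MvPowerSeries.C (MvPowerSeries.constantCoeff p)) + y * mk r)
      rw [hp']; ring
    rw [← hv, Abelian.Ext.homEquiv₀_symm_apply, hh, Abelian.Ext.mk₀_add, Abelian.Ext.comp_add,
      ← Abelian.Ext.mk₀_comp_mk₀, hS.extClass_comp_assoc, add_zero]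
    simp only [δ]
    rw [← Abelian.Ext.comp_smul, ← Abelian.Ext.mk₀_smul]
    congr 2
    refine ModuleCat.hom_ext (LinearMap.ext fun z ↦ ?_)
    simp only [ModuleCat.hom_smul, LinearMap.smul_apply]
    exact Eq.trans rfl (algebraMap_smul A (MvPowerSeries.constantCoeff p) (h0 z : A ⧸ (Ix : Submodule A A)))

end Groth.Agent.S13993
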