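import Groth.Statements.S13994
import Groth.Agent.TorOne.Basic
import Groth.Agent.CAlg76.Planar
import Mathlib
-- import your own Groth.Agent.* helpers here

set_option autoImplicit false
universe u
open CategoryTheory
open CAlg

namespace Groth.Agent.S13994

/-- Let S be a regular local ring of Krull dimension two, f a non-zero element of S and R the quotient
of S by f, assumed reduced. Let M and N be finitely generated R-modules, each admitting a
non-zero-divisor in the maximal ideal of R, annihilated by ideals I and J respectively, where I + J
contains a power of the maximal ideal. Then Tor₁^R(M, Hom_R(N, R)) = 0. (The published claim is made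
for the stalks at a common point of two subcurves without common component of a reduced projective
curve over a characteristic-zero algebraically closed field, the point being a planar singularity,
and the stalks of torsion-free sheaves supported on them; this row states it over an arbitrary
two-dimensional regular local ring. Tor is computed by resolving the second argument.) -/
theorem result (S : Type u) [CommRing S] [IsRegularLocalRing S] (hS : ringKrullDim S = 2) (f : S) (hf : f ≠ 0) (R : Type u) [CommRing R] [IsLocalRing R] [IsReduced R] (π : S →+* R) (hπ : Function.Surjective π) (hker : RingHom.ker π = Ideal.span {f}) (I J : Ideal R) (n : ℕ) (hIJ : IsLocalRing.maximalIdeal R ^ n ≤ I ⊔ J) (M N : Type u) [AddCommGroup M] [Module R M] [Module.Finite R M] [AddCommGroup N] [Module R N] [Module.Finite R N] (hI : I ≤ Module.annihilator R M) (hJ : J ≤ Module.annihilator R N) (x : R) (hx : x ∈ IsLocalRing.maximalIdeal R) (hxM : IsSMulRegular M x) (y : R) (hy : y ∈ IsLocalRing.maximalIdeal R) (hyN : IsSMulRegular N y) : Limits.IsZero (((Tor (ModuleCat.{u} R) 1).obj (ModuleCat.of R M)).obj (ModuleCat.of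 R (Module.Dual R N))) := by
  classical
  haveI : IsNoetherianRing R := isNoetherianRing_of_surjective S R π hπ
  have hyD : IsSMulRegular (Module.Dual R N) y := by
    refine IsSMulRegular.of_right_eq_zero_of_smul fun (d : Module.Dual R N) hd ↦ ?_
    refine LinearMap.ext fun v ↦ ?_
    show d v = 0
    have hyd : y * d v = 0 := LinearMap.congr_fun hd v
    have hmem : d v ∈ sInf ((⊥ : Ideal R).minimalPrimes) := by
      rw [Submodule.mem_sInf]
      intro (P : Ideal R) hP
      by_contra hdP
      have hPp : P.IsPrime := Ideal.minimalPrimes_isPrime hP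
      have hyP : y ∈ P := (hPp.mem_or_mem (hyd ▸ P.zero_mem)).resolve_right hdP
      let M0 : Finset (Ideal R) := (minimalPrimes.finite_of_isNoetherianRing R).toFinset
      have hex : ∀ Q ∈ M0.erase P, ∃ a ∈ Q, a ∉ P := by
        intro Q hQ
        obtain ⟨hne, hQ⟩ := Finset.mem_erase.1 hQ
        have hQ' : Q ∈ (⊥ : Ideal R).minimalPrimes := (Set.Finite.mem_toFinset _).1 hQ
        exact Set.not_subset.1 fun hle ↦ hne
          (le_antisymm hle (hP.2 ⟨Ideal.minimalPrimes_isPrime hQ', bot_le⟩ hle))
      choose a haQ haP using hex
      let s := ∏ Q ∈ (M0.erase P).attach, a Q.1 Q.2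
      have hsP : s ∉ P := by
        intro hmem
        obtain ⟨Q, _, hQ⟩ := (Ideal.IsPrime.prod_mem_iff).1 hmem
        exact haP _ _ hQ
      have hsy : s * y = 0 := by
        have h : s * y ∈ sInf ((⊥ : Ideal R).minimalPrimes) := by
          rw [Submodule.mem_sInf]
          intro (Q : Ideal R) hQ
          rcases eq_or_ne Q P with rfl | hne
          · exact Ideal.mul_mem_left _ _ hyP
          · exact Ideal.mul_mem_right _ _ (Q.mem_of_dvd (Finset.dvd_prod_of_mem (fun Q ↦ a Q.1 Q.2)
              (Finset.mem_attach _ ⟨Q, Finset.mem_erase.2 ⟨hne, (Set.Finite.mem_toFinset _).2 hQ⟩⟩)) (haQ _ _))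
        rw [Ideal.sInf_minimalPrimes] at h
        simpa [← nilradical_eq_zero R] using h
      have hsv : s • v = 0 := hyN.right_eq_zero_of_smul (by rw [smul_smul, mul_comm, hsy, zero_smul])
      have : s * d v = 0 := by rw [← smul_eq_mul, ← map_smul, hsv, map_zero]
      exact (hPp.mem_or_mem (this ▸ P.zero_mem)).elim hsP hdP
    rw [Ideal.sInf_minimalPrimes] at hmem
    simpa [← nilradical_eq_zero R] using hmem
  obtain ⟨k, m, g, φ, hg, hex, hψ⟩ := CAlg76.Planar.exists_presentation hS π hπ (Module.Dual R N) y hy hyD
  refine (TorOne.isZero_tor_one_iff (M := Module.Dual R N) M g hg).2 ?_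
  let e : (Fin m → R) →ₗ[R] LinearMap.ker g := φ.codRestrict _ fun v ↦ (hex _).2 ⟨v, rfl⟩
  have he : Function.Surjective e := fun ⟨w, hw⟩ ↦ by
    obtain ⟨v, rfl⟩ := (hex w).1 hw
    exact ⟨v, rfl⟩
  have hinj : Function.Injective (φ.lTensor M) := by
    rw [injective_iff_map_eq_zero]
    intro z hz
    have hle : I ⊔ J ≤ (Submodule.span R {z}).annihilator := by
      refine sup_le ?_ ?_
      · intro i hi
        rw [Submodule.mem_annihilator_span_singleton]
        induction z using TensorProduct.induction_on with
        | zero => rw [smul_zero]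
        | tmul a b => rw [TensorProduct.smul_tmul', Module.mem_annihilator.1 (hI hi) a, TensorProduct.zero_tmul]
        | add a b iha ihb => 
          rw [smul_add]
          have : ∀ w : TensorProduct R M (Fin m → R), i • w = 0 := fun w ↦ by
            induction w using TensorProduct.induction_on with
            | zero => rw [smul_zero]
            | tmul a b => rw [TensorProduct.smul_tmul', Module.mem_annihilator.1 (hI hi) a, TensorProduct.zero_tmul]
            | add a b iha ihb => rw [smul_add, iha, ihb, add_zero]
          rw [this, this, add_zero]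
      · intro j hj
        rw [Submodule.mem_annihilator_span_singleton]
        have hjD : j ∈ Module.annihilator R (Module.Dual R N) := Module.mem_annihilator.2 fun d ↦
          LinearMap.ext fun v ↦ by
            rw [LinearMap.smul_apply, ← map_smul, Module.mem_annihilator.1 (hJ hj) v, map_zero, LinearMap.zero_apply]
        obtain ⟨ψ, hψ⟩ := hψ j hjD
        have h' := LinearMap.congr_fun (congrArg (LinearMap.lTensor M) hψ) z
        rw [LinearMap.lTensor_comp, LinearMap.comp_apply, hz, map_zero, LinearMap.lTensor_smul, LinearMap.lTensor_id] at h'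
        exact h'.symm
    have hz' : x ^ n • z = 0 := (Submodule.mem_annihilator_span_singleton _ _).1 (hle (hIJ (Ideal.pow_mem_pow hx n)))
    exact (IsSMulRegular.rTensor (Fin m → R) (IsSMulRegular.pow n hxM)).right_eq_zero_of_smul hz'
  intro a b hab
  obtain ⟨a, rfl⟩ := LinearMap.lTensor_surjective M he a
  obtain ⟨b, rfl⟩ := LinearMap.lTensor_surjective M he b
  rw [← LinearMap.comp_apply, ← LinearMap.comp_apply, ← LinearMap.lTensor_comp,
    show (LinearMap.ker g).subtype ∘ₗ e = φ from rfl] at hab
  rw [hinj hab]

end Groth.Agent.S13994
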