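import Groth.Statements.S13995
import Groth.Agent.Depth.Local
import Mathlib
-- import your own Groth.Agent.* helpers here

set_option autoImplicit false
universe u
open CAlg

namespace Groth.Agent.S13995

/-- Let R be a reduced Noetherian ring, M a finitely generated R-module all of whose associated primes
are minimal primes of R and whose localization at each minimal prime p is one-dimensional over the
field R_p, and let g : M → Q be a surjection onto a finitely generated R-module Q all of whose
associated primes are minimal primes of R. Then the kernel of g is the intersection, over the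
minimal primes p of R lying in the support of Q, of the kernels of the localization maps M → M_p.
(The published statement is for a torsion-free coherent sheaf F of uniform rank one on a reduced
connected projective curve over a characteristic-zero algebraically closed field: its non-zero
torsion-free quotients are exactly the maximal torsion-free quotients F_D of the restrictions of F
to subcurves D; this row is the corresponding statement for modules over a reduced Noetherian ring,
a subcurve being a set of minimal primes, and identifies each torsion-free quotient with F_D for D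
the set of generic points of its support.) -/
theorem result (R : Type u) [CommRing R] [IsNoetherianRing R] [IsReduced R] (M : Type u) [AddCommGroup M] [Module R M] [Module.Finite R M] (hM : associatedPrimes R M ⊆ minimalPrimes R) (hrk : ∀ p : PrimeSpectrum R, p.asIdeal ∈ minimalPrimes R → Module.finrank (Localization.AtPrime p.asIdeal) (LocalizedModule p.asIdeal.primeCompl M) = 1) (Q : Type u) [AddCommGroup Q] [Module R Q] [Module.Finite R Q] (hQ : associatedPrimes R Q ⊆ minimalPrimes R) (g : M →ₗ[R] Q) (hg : Function.Surjective g) : LinearMap.ker g = ⨅ p ∈ {p : PrimeSpectrum R | p.asIdeal ∈ minimalPrimes R ∧ p ∈ Module.support R Q}, LinearMap.ker (LocalizedModule.mkLinearMap p.asIdeal.primeCompl M) := by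
  refine le_antisymm ?_ ?_
  · refine le_iInf₂ fun p hp ↦ fun z hz ↦ ?_
    obtain ⟨hmin, hsupp⟩ := hp
    have hfld : IsField (Localization.AtPrime p.asIdeal) := by
      haveI : Ring.KrullDimLE 0 (Localization.AtPrime p.asIdeal) := Ring.KrullDimLE.mk₀ fun J hJ ↦ by
        let J0 := J.comap (algebraMap R (Localization.AtPrime p.asIdeal))
        have hJ0 : J0 ≤ p.asIdeal := fun x hx ↦ by
          by_contra hxp
          exact hJ.ne_top (Ideal.eq_top_of_isUnit_mem J hx
            (IsLocalization.map_units (Localization.AtPrime p.asIdeal) (⟨x, hxp⟩ : p.asIdeal.primeCompl)))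
        have heq : J0 = p.asIdeal :=
          le_antisymm hJ0 (hmin.2 ⟨hJ.comap _, bot_le⟩ hJ0)
        have : J = IsLocalRing.maximalIdeal (Localization.AtPrime p.asIdeal) := by
          refine le_antisymm (IsLocalRing.le_maximalIdeal hJ.ne_top) ?_
          rw [← Localization.AtPrime.map_eq_maximalIdeal, Ideal.map_le_iff_le_comap]
          exact heq.ge
        rw [this]; exact IsLocalRing.maximalIdeal.isMaximal _
      exact Ring.KrullDimLE.isField_of_isReduced
    letI := hfld.toField
    by_contra hne
    rw [Module.mem_support_iff] at hsupp
    obtain ⟨w, hw⟩ := exists_ne (0 : LocalizedModule p.asIdeal.primeCompl Q)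
    induction w using LocalizedModule.induction_on with | _ q t => ?_
    obtain ⟨m, rfl⟩ := hg q
    have h1 := hrk p hmin
    rw [LinearMap.mem_ker] at hne
    obtain ⟨c, hc⟩ := (finrank_eq_one_iff_of_nonzero' _ hne).1 h1 (LocalizedModule.mk m t)
    refine hw ?_
    have h2 := congrArg (LocalizedModule.map p.asIdeal.primeCompl g) hc
    rw [LinearMap.map_smul, LocalizedModule.mkLinearMap_apply, LocalizedModule.map_mk, LocalizedModule.map_mk,
      LinearMap.mem_ker.1 hz, LocalizedModule.zero_mk, smul_zero] at h2
    exact h2.symm
  · intro z hz
    by_contra hne
    obtain ⟨p, hp, hle⟩ := exists_le_isAssociatedPrime_of_isNoetherianRing R (g z) hne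
    have hmin := hQ hp
    haveI := Ideal.minimalPrimes_isPrime hmin
    have hsupp : (⟨p, inferInstance⟩ : PrimeSpectrum R) ∈ Module.support R Q := by
      rw [Module.mem_support_iff']
      refine ⟨g z, fun r hr h ↦ hr (hle ?_)⟩
      rw [Submodule.mem_colon_singleton, Submodule.mem_bot]; exact h
    simp only [Submodule.mem_iInf, LinearMap.mem_ker, LocalizedModule.mkLinearMap_apply] at hz
    have h0 := hz ⟨p, inferInstance⟩ ⟨hmin, hsupp⟩
    rw [← LocalizedModule.zero_mk (1 : p.primeCompl), LocalizedModule.mk_eq] at h0
    obtain ⟨u, hu⟩ := h0
    simp only [one_smul, smul_zero] at hu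
    refine u.2 (hle ?_)
    rw [Submodule.mem_colon_singleton, Submodule.mem_bot, ← map_smul]
    rw [show (u : R) • z = 0 from hu, map_zero]

end Groth.Agent.S13995
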