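import Groth.Statements.S13996
import Groth.Agent.Depth.Local
import Mathlib
-- import your own Groth.Agent.* helpers here

set_option autoImplicit false
universe u
open CAlg

namespace Groth.Agent.S13996

/-- Let R be a reduced Noetherian local ring of Krull dimension one with maximal ideal m, and M a
non-zero finitely generated R-module. Then M is torsion-free in the sense that no element of m which
is a non-zero-divisor on R is a zero-divisor on M, if and only if M has depth one, i.e. some element
of m is a non-zero-divisor on M. (The published statement is for a non-zero coherent sheaf F on a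
connected reduced projective curve over a characteristic-zero algebraically closed field and asserts
the equivalence of: F torsion-free in the above sense at every closed point; F pure of dimension
one; depth of F_p equal to one at every closed point p. This row is the equivalence of the first and
third conditions at a single closed point p with F_p ≠ 0; at points outside the support the third
condition as published cannot hold, so the row assumes the stalk non-zero.) -/
theorem result (R : Type u) [CommRing R] [IsLocalRing R] [IsNoetherianRing R] [IsReduced R] (hdim : ringKrullDim R = 1) (M : Type u) [AddCommGroup M] [Module R M] [Module.Finite R M] [Nontrivial M] : (∀ r : R, r ∈ IsLocalRing.maximalIdeal R → IsSMulRegular R r → IsSMulRegular M r) ↔ (∃ x : R, x ∈ IsLocalRing.maximalIdeal R ∧ IsSMulRegular M x) := by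
  constructor
  · intro h
    have hx : ∃ x ∈ IsLocalRing.maximalIdeal R, IsSMulRegular R x := by
      refine Depth.exists_isSMulRegular_of_forall_not_le fun p hp hle ↦ ?_
      have hpm : p = IsLocalRing.maximalIdeal R :=
        le_antisymm (IsLocalRing.le_maximalIdeal (Depth.isPrime_of_mem_associatedPrimes hp).ne_top) hle
      subst hpm
      obtain ⟨_, z, hz⟩ := hp
      have hzsq : z * z = 0 ∨ IsUnit z := by
        by_cases hu : IsUnit z
        · exact Or.inr hu
        · left
          have hmem : z ∈ IsLocalRing.maximalIdeal R := (IsLocalRing.mem_maximalIdeal _).2 hu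
          rw [hz] at hmem
          obtain ⟨j, hj⟩ := hmem
          rw [Submodule.mem_colon_singleton, Submodule.mem_bot, smul_eq_mul, ← pow_succ] at hj
          have : z = 0 := IsReduced.eq_zero z ⟨j + 1, hj⟩
          rw [this, mul_zero]
      rcases hzsq with hz0 | hu
      · have : z = 0 := IsReduced.eq_zero z ⟨2, by rw [pow_two, hz0]⟩
        subst this
        exact (IsLocalRing.maximalIdeal.isMaximal R).ne_top (hz.trans (by simp))
      · have hfield : IsField R := by
          rw [IsLocalRing.isField_iff_maximalIdeal_eq, eq_bot_iff]
          intro w hw
          rw [hz] at hw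
          obtain ⟨j, hj⟩ := hw
          rw [Submodule.mem_colon_singleton, Submodule.mem_bot, smul_eq_mul] at hj
          exact (Submodule.mem_bot _).2 (IsReduced.eq_zero w ⟨j, (hu.mul_left_eq_zero).1 hj⟩)
        have := ringKrullDim_eq_zero_of_isField hfield
        rw [hdim] at this
        exact one_ne_zero this
    obtain ⟨x, hx, hxR⟩ := hx
    exact ⟨x, hx, h x hx hxR⟩
  · rintro ⟨x, hx, hxM⟩ r hr hrR
    by_contra hrM
    have hmem : r ∈ ⋃ p ∈ associatedPrimes R M, (p : Set R) := by
      rw [biUnion_associatedPrimes_eq_compl_regular R M]; exact hrM
    simp only [Set.mem_iUnion, SetLike.mem_coe, exists_prop] at hmem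
    obtain ⟨P, hP, hrP⟩ := hmem
    haveI := Depth.isPrime_of_mem_associatedPrimes hP
    have hxP : x ∉ P := Depth.notMem_of_isSMulRegular hP hxM
    have hne : P ≠ IsLocalRing.maximalIdeal R := fun h ↦ hxP (h ▸ hx)
    haveI : Ring.KrullDimLE 1 R := Ring.krullDimLE_iff.2 (le_of_eq hdim)
    have hmin : P ∈ minimalPrimes R := by
      rcases Ring.krullDimLE_one_iff.1 ‹_› P ‹_› with h | h
      · exact h
      · exact absurd (IsLocalRing.eq_maximalIdeal h) hne
    have hnz : r ∈ nonZeroDivisors R := mem_nonZeroDivisors_iff_right.2 fun z hz ↦
      hrR.right_eq_zero_of_smul (by rw [smul_eq_mul, mul_comm, hz])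
    exact Set.disjoint_left.1 (Ideal.disjoint_nonZeroDivisors_of_mem_minimalPrimes hmin) hrP hnz

end Groth.Agent.S13996
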