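import Groth.Statements.S13997
import Groth.Agent.FlatMor.Thickening

set_option autoImplicit false
universe u
open FlatMor

namespace Groth.Agent.S13997

open AlgebraicGeometry CategoryTheory in
/-- Consider a commutative square of schemes F₀ ≫ j = i ≫ F in which i : Y₀ ⟶ Y and j : X₀ ⟶ X are
closed immersions surjective on points whose ideals are locally nilpotent (nilpotent on every affine
open), and suppose moreover that the ideal of i is of finite type (finitely generated on every
affine open of Y). Then F : Y ⟶ X is locally of finite type if and only if F₀ : Y₀ ⟶ X₀ is. The
square is not assumed cartesian and the ideal of j need not be of finite type. (The published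
statement also asserts the version for morphisms of finite type; that version follows from this one,
because quasi-compactness of a morphism transfers along closed immersions surjective on points, and
it is not restated here.) -/
theorem result {X X₀ Y Y₀ : Scheme.{u}}
    (F : Y ⟶ X) (F₀ : Y₀ ⟶ X₀) (i : Y₀ ⟶ Y) (j : X₀ ⟶ X)
    (hi : MoreMor.IsThickening i) (hj : MoreMor.IsThickening j)
    (hinil : ∀ U : Y.affineOpens, IsNilpotent (i.ker.ideal U))
    (hjnil : ∀ U : X.affineOpens, IsNilpotent (j.ker.ideal U))
    (hfg : ∀ U : Y.affineOpens, (i.ker.ideal U).FG)
    (w : F₀ ≫ j = i ≫ F) :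
    LocallyOfFiniteType F ↔ LocallyOfFiniteType F₀ := by
  have := hi.1
  have := hj.1
  constructor
  · intro _
    have : LocallyOfFiniteType (F₀ ≫ j) := w ▸ inferInstance
    exact locallyOfFiniteType_of_comp F₀ j
  · intro _
    have : LocallyOfFiniteType (i ≫ F) := w ▸ inferInstance
    exact Groth.Agent.FlatMor.Thickening.locallyOfFiniteType_of_comp i F hinil hfg

end Groth.Agent.S13997
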