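import Groth.Statements.S14036
import Mathlib
import Groth.Agent.QuietLib.Frobenius

set_option autoImplicit false
universe u v
open W4c1frobunstiva

namespace Groth.Agent.S14036

open CategoryTheory TensorProduct

section
variable (p : ℕ) [Fact p.Prime] (A : Type u) [CommRing A] [CharP A p]

/-- functoriality of the twist -/
noncomputable def mapT {B C : Type u} [CommRing B] [CommRing C] [Algebra A B] [Algebra A C]
    (φ : B →ₐ[A] C) : FrobAlg.BaseChange p A B →ₐ[A] FrobAlg.BaseChange p A C :=
  Algebra.TensorProduct.map φ (AlgHom.id A (FrobAlg.Twist p A))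

theorem mapT_isPushout {B C : Type u} [CommRing B] [CommRing C] [Algebra A B] [Algebra A C]
    (φ : B →ₐ[A] C) :
    IsPushout (CommRingCat.ofHom φ.toRingHom)
      (CommRingCat.ofHom (Algebra.TensorProduct.includeLeftRingHom : B →+* FrobAlg.BaseChange p A B))
      (CommRingCat.ofHom (Algebra.TensorProduct.includeLeftRingHom : C →+* FrobAlg.BaseChange p A C))
      (CommRingCat.ofHom (mapT p A φ).toRingHom) := by
  have hB := CommRingCat.isPushout_tensorProduct A B (FrobAlg.Twist p A)
  have hC := CommRingCat.isPushout_tensorProduct A C (FrobAlg.Twist p A)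
  refine IsPushout.of_left ?_ ?_ hB
  · convert hC using 1
    · ext a
      simp
    · ext a
      simp [mapT]
  · ext b
    simp [mapT]

theorem relFrob_natural {B C : Type u} [CommRing B] [CommRing C] [Algebra A B] [Algebra A C]
    [CharP B p] [CharP C p] (φ : B →ₐ[A] C) :
    (FrobAlg.relFrob p A C).comp (mapT p A φ).toRingHom =
      φ.toRingHom.comp (FrobAlg.relFrob p A B) := by
  refine RingHom.ext fun x => ?_
  induction x using TensorProduct.induction_on with
  | zero => simp
  | tmul b c =>
    obtain ⟨a, rfl⟩ := (FrobAlg.toTwist p A).surjective c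
    simp [mapT, Groth.Agent.FrobW.RelFrob.relFrob_tmul]
  | add x y hx hy => rw [map_add, map_add, hx, hy]

theorem flat_relFrob_poly (d : ℕ) [CharP (MvPolynomial (Fin d) A) p] :
    (FrobAlg.relFrob p A (MvPolynomial (Fin d) A)).Flat := by
  let e : FrobAlg.BaseChange p A (MvPolynomial (Fin d) A) ≃+* MvPolynomial (Fin d) A :=
    (((Algebra.TensorProduct.comm A _ _).toRingEquiv).trans
      (MvPolynomial.algebraTensorAlgEquiv A (FrobAlg.Twist p A) (σ := Fin d)).toRingEquiv).trans
      (MvPolynomial.mapEquiv (Fin d) (FrobAlg.toTwist p A).symm)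
  have he : ∀ (x : MvPolynomial (Fin d) A) (a : A), e (x ⊗ₜ FrobAlg.toTwist p A a) =
      MvPolynomial.C a * MvPolynomial.map (frobenius A p) x := by
    intro x a
    have h1 : e (x ⊗ₜ FrobAlg.toTwist p A a) =
        MvPolynomial.map ((FrobAlg.toTwist p A).symm : FrobAlg.Twist p A →+* A)
          (MvPolynomial.algebraTensorAlgEquiv A (FrobAlg.Twist p A) (σ := Fin d)
            (FrobAlg.toTwist p A a ⊗ₜ[A] x)) := rfl
    rw [h1, MvPolynomial.algebraTensorAlgEquiv_tmul, MvPolynomial.smul_eq_C_mul, map_mul,
      MvPolynomial.map_C, MvPolynomial.map_map]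
    rfl
  clear_value e
  have key : FrobAlg.relFrob p A (MvPolynomial (Fin d) A) =
      (MvPolynomial.expand (σ := Fin d) (R := A) p).toRingHom.comp e.toRingHom := by
    refine RingHom.ext fun z => ?_
    induction z using TensorProduct.induction_on with
    | zero => simp
    | tmul x c =>
      obtain ⟨a, rfl⟩ := (FrobAlg.toTwist p A).surjective c
      have h2 : x ^ p = MvPolynomial.expand (σ := Fin d) p (MvPolynomial.map (frobenius A p) x) := by
        rw [← frobenius_def, Groth.Agent.QuietLib.frobenius_eq_map_comp_expand]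
        rfl
      rw [Groth.Agent.FrobW.RelFrob.relFrob_tmul, h2, RingHom.comp_apply]
      show _ = MvPolynomial.expand (σ := Fin d) (R := A) p (e (x ⊗ₜ FrobAlg.toTwist p A a))
      rw [he, map_mul, MvPolynomial.expand_C]
      exact mul_comm _ _
    | add u v hu hv => rw [map_add, map_add, hu, hv]
  rw [key]
  refine RingHom.Flat.comp (RingHom.Flat.of_bijective e.bijective) ?_
  letI := (MvPolynomial.expand (σ := Fin d) (R := A) p).toRingHom.toAlgebra
  have ht : Quiet.IsRootTower p d (MvPolynomial (Fin d) A) (MvPolynomial (Fin d) A) :=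
    (Groth.Agent.QuietLib.isRootTower_iff p d _ _).2 (Groth.Agent.QuietLib.tower_expand p A d)
  exact (Groth.Agent.QuietLib.isRootTower_props (Fact.out : p.Prime).ne_zero d _ _ ht).2.1

theorem flat_of_etale_over_poly (d : ℕ) (B : Type u) [CommRing B] [Algebra A B] [CharP B p]
    [CharP (MvPolynomial (Fin d) A) p]
    [Algebra (MvPolynomial (Fin d) A) B] [IsScalarTower A (MvPolynomial (Fin d) A) B]
    [Algebra.Etale (MvPolynomial (Fin d) A) B] : (FrobAlg.relFrob p A B).Flat := by
  let φ : MvPolynomial (Fin d) A →ₐ[A] B := IsScalarTower.toAlgHom A _ B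
  have outer := Groth.Agent.QuietLib.isPushout_frobenius_of_etale p (MvPolynomial (Fin d) A) B
  have h1 : IsPushout (CommRingCat.ofHom (mapT p A φ).toRingHom)
      (CommRingCat.ofHom (FrobAlg.relFrob p A (MvPolynomial (Fin d) A)))
      (CommRingCat.ofHom (FrobAlg.relFrob p A B))
      (CommRingCat.ofHom (algebraMap (MvPolynomial (Fin d) A) B)) := by
    refine IsPushout.of_top ?_ ?_ (mapT_isPushout p A φ)
    · have e1 : CommRingCat.ofHom (Algebra.TensorProduct.includeLeftRingHom :
            MvPolynomial (Fin d) A →+* FrobAlg.BaseChange p A (MvPolynomial (Fin d) A)) ≫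
          CommRingCat.ofHom (FrobAlg.relFrob p A (MvPolynomial (Fin d) A)) =
          CommRingCat.ofHom (frobenius (MvPolynomial (Fin d) A) p) := by
        rw [← CommRingCat.ofHom_comp]
        exact congrArg CommRingCat.ofHom
          (RingHom.ext fun x => Groth.Agent.FrobW.RelFrob.relFrob_tmul_one p A _ x)
      have e2 : CommRingCat.ofHom (Algebra.TensorProduct.includeLeftRingHom :
            B →+* FrobAlg.BaseChange p A B) ≫ CommRingCat.ofHom (FrobAlg.relFrob p A B) =
          CommRingCat.ofHom (frobenius B p) := by
        rw [← CommRingCat.ofHom_comp]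
        exact congrArg CommRingCat.ofHom
          (RingHom.ext fun x => Groth.Agent.FrobW.RelFrob.relFrob_tmul_one p A _ x)
      rw [e1, e2]
      exact outer
    · rw [← CommRingCat.ofHom_comp, ← CommRingCat.ofHom_comp]
      exact congrArg CommRingCat.ofHom (relFrob_natural p A φ)
  haveI := (RingHom.isStableUnderCobaseChange_toMorphismProperty_iff (P := RingHom.Flat)).2 RingHom.Flat.isStableUnderBaseChange
  exact MorphismProperty.of_isPushout (P := RingHom.toMorphismProperty RingHom.Flat) h1
    (flat_relFrob_poly p A d)

theorem flat_same (B : Type u) [CommRing B] [Algebra A B] [CharP B p] [Algebra.Smooth A B] :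
    (FrobAlg.relFrob p A B).Flat := by
  classical
  obtain ⟨s, hs, hstd⟩ := Algebra.Smooth.exists_span_eq_top_isStandardSmooth A B
  refine RingHom.Flat.ofLocalizationSpanTarget (FrobAlg.relFrob p A B) s hs fun g => ?_
  haveI := hstd g.1 g.2
  rcases subsingleton_or_nontrivial (Localization.Away g.1) with hsub | hnt
  · let ψ := (algebraMap B (Localization.Away g.1)).comp (FrobAlg.relFrob p A B)
    letI := ψ.toAlgebra
    show Module.Flat _ (Localization.Away g.1)
    infer_instance
  haveI : CharP (Localization.Away g.1) p := (CharP.charP_iff_prime_eq_zero Fact.out).2 (by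
    rw [← map_natCast (algebraMap B (Localization.Away g.1)), CharP.cast_eq_zero, map_zero])
  haveI : CharP (MvPolynomial (Fin 0) A) p := inferInstance
  obtain ⟨d, φ, hφ⟩ := RingHom.IsStandardSmooth.exists_etale_mvPolynomial
    (f := algebraMap A (Localization.Away g.1)) (RingHom.isStandardSmooth_algebraMap.2 inferInstance)
  let φ' : MvPolynomial (Fin d) A →+* Localization.Away g.1 := φ
  letI := φ'.toAlgebra
  haveI : IsScalarTower A (MvPolynomial (Fin d) A) (Localization.Away g.1) :=
    IsScalarTower.of_algebraMap_eq' hφ.1.symm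
  haveI : Algebra.Etale (MvPolynomial (Fin d) A) (Localization.Away g.1) := hφ.2
  have hC := flat_of_etale_over_poly p A d (Localization.Away g.1)
  let ι : B →ₐ[A] Localization.Away g.1 := IsScalarTower.toAlgHom A B _
  have hι : (mapT p A ι).toRingHom.Flat := by
    haveI := (RingHom.isStableUnderCobaseChange_toMorphismProperty_iff (P := RingHom.Flat)).2 RingHom.Flat.isStableUnderBaseChange
    refine MorphismProperty.of_isPushout (P := RingHom.toMorphismProperty RingHom.Flat)
      (mapT_isPushout p A ι).flip ?_
    exact RingHom.flat_algebraMap_iff.2 (IsLocalization.flat _ (Submonoid.powers g.1))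
  have := hι.comp hC
  rw [relFrob_natural p A ι] at this
  exact this

end


/-- Let p be a prime number, A a commutative ring of characteristic p and B a smooth A-algebra of
characteristic p. Then the relative Frobenius homomorphism from the Frobenius twist B ⊗_A A (right
factor A through its p-th power map) to B, sending b ⊗ a to b^p a, is flat. (Affine form of the
statement that the relative Frobenius X → X^(p) of a smooth S-scheme in characteristic p is flat;
flatness and the relative Frobenius are both local on affine opens.) -/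
theorem result (p : ℕ) [Fact p.Prime] (A : Type u) [CommRing A]
    [CharP A p] (B : Type v) [CommRing B] [Algebra A B] [CharP B p] [Algebra.Smooth A B] :
    (FrobAlg.relFrob p A B).Flat := by
  classical
  obtain ⟨n, f, hf, hker⟩ :=
    Algebra.FinitePresentation.out (R := A) (A := B)
  let B₀ := MvPolynomial (Fin n) A ⧸ RingHom.ker f
  let e : B₀ ≃ₐ[A] B := Ideal.quotientKerAlgEquivOfSurjective hf
  haveI : Algebra.Smooth A B₀ := Algebra.Smooth.of_equiv e.symm
  haveI : CharP B₀ p := charP_of_injective_ringHom (f := e.symm.toRingEquiv.toRingHom) e.symm.injective p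
  have h0 : (FrobAlg.relFrob p A B₀).Flat := flat_same p A B₀
  let m : FrobAlg.BaseChange p A B →ₐ[A] FrobAlg.BaseChange p A B₀ :=
    Algebra.TensorProduct.map e.symm.toAlgHom (AlgHom.id A (FrobAlg.Twist p A))
  have hm : Function.Bijective m :=
    (Algebra.TensorProduct.congr e.symm (AlgEquiv.refl (R := A) (A₁ := FrobAlg.Twist p A))).bijective
  have key : FrobAlg.relFrob p A B =
      e.toRingEquiv.toRingHom.comp ((FrobAlg.relFrob p A B₀).comp m.toRingHom) := by
    refine RingHom.ext fun x => ?_
    induction x using TensorProduct.induction_on with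
    | zero => simp
    | tmul b c =>
      obtain ⟨a, rfl⟩ := (FrobAlg.toTwist p A).surjective c
      change b ^ p * algebraMap A B a = e ((e.symm b) ^ p * algebraMap A B₀ a)
      rw [map_mul, map_pow, e.apply_symm_apply, e.commutes]
    | add x y hx hy => rw [map_add, map_add, hx, hy]
  rw [key]
  exact ((RingHom.Flat.of_bijective hm).comp h0).comp (RingHom.Flat.of_bijective e.bijective)

end Groth.Agent.S14036
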