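import Groth.Statements.S13999
import Mathlib
import Groth.Agent.S14036

set_option autoImplicit false
universe u
open FrobAlg

namespace Groth.Agent.S13999

open CategoryTheory TensorProduct

/-- A tower of `n` root extractions is free of rank `p ^ n`. -/
theorem isRootTower_free {p : ℕ} (hp : p ≠ 0) : ∀ (n : ℕ) (A B : Type u) [CommRing A] [CommRing B]
    [Nontrivial A] [Algebra A B], Quiet.IsRootTower p n A B →
      Module.Free A B ∧ Module.finrank A B = p ^ n
  | 0, A, B, _, _, _, _, ⟨e⟩ => by
    exact ⟨Module.Free.of_equiv e.symm.toLinearEquiv,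
      by rw [e.toLinearEquiv.finrank_eq, Module.finrank_self, pow_zero]⟩
  | n + 1, A, B, _, _, _, _, ⟨a, inst, htow, h⟩ => by
    have hm := Groth.Agent.QuietLib.monic_X_pow_sub_C' p hp A a
    have : Module.Free A (Quiet.RootRing p A a) := hm.free_adjoinRoot
    have hd : Module.finrank A (Quiet.RootRing p A a) = p := by
      rw [(AdjoinRoot.powerBasis' hm).finrank, AdjoinRoot.powerBasis'_dim,
        Polynomial.natDegree_X_pow_sub_C]
    have : Nontrivial (Quiet.RootRing p A a) :=
      Module.nontrivial_of_finrank_pos (R := A) (by rw [hd]; omega)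
    obtain ⟨h1, h2⟩ := isRootTower_free hp n (Quiet.RootRing p A a) B h
    refine ⟨Module.Free.trans (S := Quiet.RootRing p A a), ?_⟩
    rw [← Module.finrank_mul_finrank A (Quiet.RootRing p A a) B, hd, h2, pow_succ']

/-- The rank of one side of a pushout square, at a point coming from the base change. -/
theorem rank_of_isPushout {S S' B C : Type u} [CommRing S] [CommRing S'] [CommRing B] [CommRing C]
    (f : S →+* S') (g : S →+* B) (h : S' →+* C) (k : B →+* C)
    (H : IsPushout (CommRingCat.ofHom f) (CommRingCat.ofHom g) (CommRingCat.ofHom h)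
      (CommRingCat.ofHom k))
    (n : ℕ) (hn : letI := h.toAlgebra; Module.Free S' C ∧ Module.finrank S' C = n)
    (hfl : g.Flat) (hfi : g.Finite) (q' : PrimeSpectrum S') :
    letI := g.toAlgebra
    Module.rankAtStalk (R := S) B (q'.comap f) = n := by
  letI := f.toAlgebra
  letI := g.toAlgebra
  haveI : Module.Flat S B := hfl
  haveI : Module.Finite S B := hfi
  letI := h.toAlgebra
  letI := k.toAlgebra
  letI := (h.comp f).toAlgebra
  haveI : IsScalarTower S S' C := .of_algebraMap_eq fun _ => rfl
  have hw : h.comp f = k.comp g := congrArg CommRingCat.Hom.hom H.w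
  haveI : IsScalarTower S B C := .of_algebraMap_eq' hw
  haveI : Algebra.IsPushout S S' B C := CommRingCat.isPushout_iff_isPushout.mp H
  obtain ⟨h1, h2⟩ := hn
  haveI := h1
  haveI : Nontrivial S' := PrimeSpectrum.nontrivial q'
  have hb : IsBaseChange S' (IsScalarTower.toAlgHom S B C).toLinearMap := Algebra.IsPushout.out
  have := Module.rankAtStalk_isBaseChange hb q'
  rw [Module.rankAtStalk_eq_finrank_of_free] at this
  exact this.symm.trans h2

variable (p : ℕ) [Fact p.Prime] (A : Type u) [CommRing A] [CharP A p]

theorem relFrob_isPushout_of_etale (B C : Type u) [CommRing B] [CommRing C] [Algebra A B]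
    [Algebra A C] [Algebra B C] [IsScalarTower A B C] [CharP B p] [CharP C p] [Algebra.Etale B C] :
    IsPushout (CommRingCat.ofHom (S14036.mapT p A (IsScalarTower.toAlgHom A B C)).toRingHom)
      (CommRingCat.ofHom (FrobAlg.relFrob p A B))
      (CommRingCat.ofHom (FrobAlg.relFrob p A C))
      (CommRingCat.ofHom (algebraMap B C)) := by
  have outer := Groth.Agent.QuietLib.isPushout_frobenius_of_etale p B C
  let φ : B →ₐ[A] C := IsScalarTower.toAlgHom A B C
  refine IsPushout.of_top ?_ ?_ (S14036.mapT_isPushout p A φ)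
  · have e1 : CommRingCat.ofHom (Algebra.TensorProduct.includeLeftRingHom :
          B →+* FrobAlg.BaseChange p A B) ≫ CommRingCat.ofHom (FrobAlg.relFrob p A B) =
        CommRingCat.ofHom (frobenius B p) := by
      rw [← CommRingCat.ofHom_comp]
      exact congrArg CommRingCat.ofHom
        (RingHom.ext fun x => Groth.Agent.FrobW.RelFrob.relFrob_tmul_one p A _ x)
    have e2 : CommRingCat.ofHom (Algebra.TensorProduct.includeLeftRingHom :
          C →+* FrobAlg.BaseChange p A C) ≫ CommRingCat.ofHom (FrobAlg.relFrob p A C) =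
        CommRingCat.ofHom (frobenius C p) := by
      rw [← CommRingCat.ofHom_comp]
      exact congrArg CommRingCat.ofHom
        (RingHom.ext fun x => Groth.Agent.FrobW.RelFrob.relFrob_tmul_one p A _ x)
    rw [e1, e2]
    exact outer
  · rw [← CommRingCat.ofHom_comp, ← CommRingCat.ofHom_comp]
    exact congrArg CommRingCat.ofHom (S14036.relFrob_natural p A φ)

theorem tower_relFrob_poly (d : ℕ) [CharP (MvPolynomial (Fin d) A) p] :
    Groth.Agent.QuietLib.Tower p d (CommRingCat.of (FrobAlg.BaseChange p A (MvPolynomial (Fin d) A)))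
      (CommRingCat.of (MvPolynomial (Fin d) A))
      (CommRingCat.ofHom (FrobAlg.relFrob p A (MvPolynomial (Fin d) A))) := by
  let e : FrobAlg.BaseChange p A (MvPolynomial (Fin d) A) ≃+* MvPolynomial (Fin d) A :=
    (((Algebra.TensorProduct.comm A _ _).toRingEquiv).trans
      (MvPolynomial.algebraTensorAlgEquiv A (FrobAlg.Twist p A) (σ := Fin d)).toRingEquiv).trans
      (MvPolynomial.mapEquiv (Fin d) (FrobAlg.toTwist p A).symm)
  have he : ∀ (x : MvPolynomial (Fin d) A) (a : A), e (x ⊗ₜ FrobAlg.toTwist p A a) =
      MvPolynomial.C a * MvPolynomial.map (frobenius A p) x := by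
    intro x a
    have h1 : e (x ⊗ₜ FrobAlg.toTwist p A a) =
        MvPolynomial.map ((FrobAlg.toTwist p A).symm : FrobAlg.Twist p A →+* A)
          (MvPolynomial.algebraTensorAlgEquiv A (FrobAlg.Twist p A) (σ := Fin d)
            (FrobAlg.toTwist p A a ⊗ₜ[A] x)) := rfl
    rw [h1, MvPolynomial.algebraTensorAlgEquiv_tmul, MvPolynomial.smul_eq_C_mul, map_mul,
      MvPolynomial.map_C, MvPolynomial.map_map]
    rfl
  clear_value e
  have key : FrobAlg.relFrob p A (MvPolynomial (Fin d) A) =
      (MvPolynomial.expand (σ := Fin d) (R := A) p).toRingHom.comp e.toRingHom := by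
    refine RingHom.ext fun z => ?_
    induction z using TensorProduct.induction_on with
    | zero => simp
    | tmul x c =>
      obtain ⟨a, rfl⟩ := (FrobAlg.toTwist p A).surjective c
      have h2 : x ^ p = MvPolynomial.expand (σ := Fin d) p (MvPolynomial.map (frobenius A p) x) := by
        rw [← frobenius_def, Groth.Agent.QuietLib.frobenius_eq_map_comp_expand]
        rfl
      rw [Groth.Agent.FrobW.RelFrob.relFrob_tmul, h2, RingHom.comp_apply]
      show _ = MvPolynomial.expand (σ := Fin d) (R := A) p (e (x ⊗ₜ FrobAlg.toTwist p A a))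
      rw [he, map_mul, MvPolynomial.expand_C]
      exact mul_comm _ _
    | add u v hu hv => rw [map_add, map_add, hu, hv]
  rw [key, CommRingCat.ofHom_comp]
  haveI : IsIso (CommRingCat.ofHom e.toRingHom) :=
    (ConcreteCategory.isIso_iff_bijective _).2 e.bijective
  exact (Groth.Agent.QuietLib.tower_expand p A d).iso_comp _

theorem tower_relFrob_of_etale (d : ℕ) (C : Type u) [CommRing C] [Algebra A C] [CharP C p]
    [Algebra (MvPolynomial (Fin d) A) C] [IsScalarTower A (MvPolynomial (Fin d) A) C]
    [Algebra.Etale (MvPolynomial (Fin d) A) C] :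
    Groth.Agent.QuietLib.Tower p d (CommRingCat.of (FrobAlg.BaseChange p A C)) (CommRingCat.of C)
      (CommRingCat.ofHom (FrobAlg.relFrob p A C)) :=
  Groth.Agent.QuietLib.Tower.of_isPushout p d
    (relFrob_isPushout_of_etale p A (MvPolynomial (Fin d) A) C) (tower_relFrob_poly p A d)

theorem incl_finiteType (B : Type u) [CommRing B] [Algebra A B] [Algebra.FiniteType A B] :
    (Groth.Agent.FrobW.RelFrob.incl p A B).FiniteType := by
  have h1 : (algebraMap (FrobAlg.Twist p A) (FrobAlg.Twist p A ⊗[A] B)).FiniteType :=
    RingHom.finiteType_algebraMap.2 inferInstance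
  have h2 : (Groth.Agent.FrobW.RelFrob.incl p A B) =
      ((Algebra.TensorProduct.comm A (FrobAlg.Twist p A) B).toRingEquiv.toRingHom.comp
        (algebraMap (FrobAlg.Twist p A) (FrobAlg.Twist p A ⊗[A] B))).comp
        (FrobAlg.toTwist p A).toRingHom := rfl
  rw [h2]
  exact ((RingHom.FiniteType.of_surjective _
    (Algebra.TensorProduct.comm A (FrobAlg.Twist p A) B).surjective).comp h1).comp
    (RingHom.FiniteType.of_surjective _ (FrobAlg.toTwist p A).surjective)

theorem finite_projective (B : Type u) [CommRing B] [Algebra A B] [CharP B p] [Algebra.Smooth A B] :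
    letI := (FrobAlg.relFrob p A B).toAlgebra
    Module.Finite (FrobAlg.BaseChange p A B) B ∧ Module.Projective (FrobAlg.BaseChange p A B) B := by
  letI := (FrobAlg.relFrob p A B).toAlgebra
  have hfp : (FrobAlg.relFrob p A B).FinitePresentation := by
    refine RingHom.FinitePresentation.of_comp_finiteType (Groth.Agent.FrobW.RelFrob.incl p A B) ?_
      (incl_finiteType p A B)
    rw [Groth.Agent.FrobW.RelFrob.relFrob_comp_incl]
    exact RingHom.finitePresentation_algebraMap.2 inferInstance
  haveI : Algebra.FinitePresentation (FrobAlg.BaseChange p A B) B := hfp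
  haveI : Algebra.IsIntegral (FrobAlg.BaseChange p A B) B := ⟨fun b => by
    refine ⟨Polynomial.X ^ p - Polynomial.C (b ⊗ₜ[A] (1 : FrobAlg.Twist p A)),
      Polynomial.monic_X_pow_sub_C _ (Fact.out : p.Prime).ne_zero, ?_⟩
    simp [RingHom.algebraMap_toAlgebra]
    exact sub_eq_zero.2 (Groth.Agent.FrobW.RelFrob.relFrob_tmul_one p A B b).symm⟩
  haveI : Module.Finite (FrobAlg.BaseChange p A B) B := Algebra.IsIntegral.finite
  haveI : Module.FinitePresentation (FrobAlg.BaseChange p A B) B :=
    .of_finite_of_finitePresentation (R := _) (S := B)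
  haveI : Module.Flat (FrobAlg.BaseChange p A B) B := S14036.result p A B
  exact ⟨inferInstance, Module.Flat.projective_of_finitePresentation⟩

/-- Let p be a prime, A a commutative ring of characteristic p and B a smooth A-algebra (of
characteristic p) such that the Kähler differentials Ω_{B/A} have rank r at every prime of B, i.e. B
is smooth of relative dimension r over A. Regard B as an algebra over its Frobenius twist B^{(p)} =
B ⊗_{A,Frob} A through the relative Frobenius b ⊗ a ↦ b^p a. Then B is a finite projective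
B^{(p)}-module whose rank at every prime of B^{(p)} is p^r: the relative Frobenius is finite and
locally free of rank p^r. -/
theorem result (p : ℕ) [Fact p.Prime]
    (A : Type u) [CommRing A] [CharP A p] (B : Type u) [CommRing B] [Algebra A B] [CharP B p]
    [Algebra.Smooth A B] (r : ℕ)
    (hr : ∀ q : PrimeSpectrum B, Module.rankAtStalk (R := B) (KaehlerDifferential A B) q = r) :
    letI := (FrobAlg.relFrob p A B).toAlgebra
    Module.Finite (FrobAlg.BaseChange p A B) B ∧ Module.Projective (FrobAlg.BaseChange p A B) B ∧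
      ∀ q : PrimeSpectrum (FrobAlg.BaseChange p A B),
        Module.rankAtStalk (R := FrobAlg.BaseChange p A B) B q = p ^ r := by
  letI := (FrobAlg.relFrob p A B).toAlgebra
  refine ⟨(finite_projective p A B).1, (finite_projective p A B).2, fun q => ?_⟩
  classical
  let S := FrobAlg.BaseChange p A B
  obtain ⟨s, hs, hstd⟩ := Algebra.Smooth.exists_span_eq_top_isStandardSmooth A B
  obtain ⟨g, hgs, hgq⟩ : ∃ g ∈ s, (g ⊗ₜ[A] (1 : FrobAlg.Twist p A) : S) ∉ q.asIdeal := by
    by_contra hcon
    push Not at hcon
    refine q.isPrime.ne_top (top_le_iff.1 ?_)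
    have h1 : Ideal.map (Algebra.TensorProduct.includeLeftRingHom : B →+* S) (Ideal.span s) ≤ q.asIdeal := by
      rw [Ideal.map_span, Ideal.span_le]
      rintro _ ⟨g, hg, rfl⟩
      exact hcon g hg
    rwa [hs, Ideal.map_top] at h1
  haveI := hstd g hgs
  let C := Localization.Away g
  let ι : B →ₐ[A] C := IsScalarTower.toAlgHom A B C
  let κ : S →+* q.asIdeal.ResidueField := algebraMap S q.asIdeal.ResidueField
  let l₁ : C →+* q.asIdeal.ResidueField := IsLocalization.Away.lift (S := C) g
    (g := κ.comp Algebra.TensorProduct.includeLeftRingHom) (isUnit_iff_ne_zero.2 fun h0 =>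
      hgq (Ideal.algebraMap_residueField_eq_zero.1 h0))
  have hl₁ : ∀ b : B, l₁ (algebraMap B C b) = κ (b ⊗ₜ[A] 1) := fun b =>
    IsLocalization.Away.lift_eq (S := C) g (g := κ.comp Algebra.TensorProduct.includeLeftRingHom) _ b
  have hκ : ∀ a : A, algebraMap A q.asIdeal.ResidueField a = κ (algebraMap A B a ⊗ₜ[A] 1) := fun a =>
    IsScalarTower.algebraMap_apply A S q.asIdeal.ResidueField a
  let l₁' : C →ₐ[A] q.asIdeal.ResidueField :=
    { l₁ with
      commutes' := fun a => by
        show l₁ (algebraMap A C a) = _
        rw [IsScalarTower.algebraMap_apply A B C, hl₁, hκ] }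
  let l₂ : FrobAlg.Twist p A →ₐ[A] q.asIdeal.ResidueField :=
    { κ.comp (Algebra.TensorProduct.includeRight (R := A) (A := B) (B := FrobAlg.Twist p A)).toRingHom with
      commutes' := fun a => by
        show κ ((1 : B) ⊗ₜ[A] algebraMap A (FrobAlg.Twist p A) a) = _
        rw [hκ]
        congr 1
        rw [Algebra.algebraMap_eq_smul_one, Algebra.algebraMap_eq_smul_one, TensorProduct.smul_tmul] }
  let L : FrobAlg.BaseChange p A C →+* q.asIdeal.ResidueField :=
    (Algebra.TensorProduct.lift l₁' l₂ fun _ _ => Commute.all _ _).toRingHom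
  have hL : L.comp (S14036.mapT p A ι).toRingHom = κ := by
    refine RingHom.ext fun x => ?_
    induction x using TensorProduct.induction_on with
    | zero => simp
    | tmul b c =>
      show l₁ (algebraMap B C b) * κ ((1 : B) ⊗ₜ[A] c) = κ (b ⊗ₜ[A] c)
      rw [hl₁, ← map_mul, Algebra.TensorProduct.tmul_mul_tmul, mul_one, one_mul]
    | add x y hx hy => rw [map_add, map_add, hx, hy]
  let q' : PrimeSpectrum (FrobAlg.BaseChange p A C) := ⟨RingHom.ker L, RingHom.ker_isPrime L⟩
  have hq' : q'.comap (S14036.mapT p A ι).toRingHom = q := by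
    refine PrimeSpectrum.ext ?_
    show (RingHom.ker L).comap (S14036.mapT p A ι).toRingHom = q.asIdeal
    rw [RingHom.comap_ker, hL]
    exact Ideal.ker_algebraMap_residueField _
  haveI : Nontrivial C := RingHom.domain_nontrivial l₁
  haveI : CharP C p := (CharP.charP_iff_prime_eq_zero Fact.out).2 (by
    rw [← map_natCast (algebraMap B C), CharP.cast_eq_zero, map_zero])
  haveI : Nontrivial A := CharP.nontrivial_of_char_ne_one (v := p) (Fact.out : p.Prime).ne_one
  haveI : Algebra.Etale B C := Algebra.Etale.of_isLocalizationAway g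
  obtain ⟨d, φ, hφ⟩ := RingHom.IsStandardSmooth.exists_etale_mvPolynomial
    (f := algebraMap A C) (RingHom.isStandardSmooth_algebraMap.2 inferInstance)
  let φ' : MvPolynomial (Fin d) A →+* C := φ
  letI := φ'.toAlgebra
  haveI : IsScalarTower A (MvPolynomial (Fin d) A) C := IsScalarTower.of_algebraMap_eq' hφ.1.symm
  haveI : Algebra.Etale (MvPolynomial (Fin d) A) C := hφ.2
  have hd : d = r := by
    obtain ⟨Q⟩ : Nonempty (PrimeSpectrum C) := inferInstance
    have h1 := Module.rankAtStalk_isBaseChange
      (KaehlerDifferential.isBaseChange_of_formallyEtale A B C) Q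
    have h2 := Module.rankAtStalk_isBaseChange
      (KaehlerDifferential.isBaseChange_of_formallyEtale A (MvPolynomial (Fin d) A) C) Q
    haveI : Module.Free (MvPolynomial (Fin d) A) (KaehlerDifferential A (MvPolynomial (Fin d) A)) :=
      .of_basis (KaehlerDifferential.mvPolynomialBasis A (Fin d))
    rw [Module.rankAtStalk_eq_finrank_of_free (M := KaehlerDifferential A (MvPolynomial (Fin d) A)),
      Module.finrank_eq_card_basis (KaehlerDifferential.mvPolynomialBasis A (Fin d))] at h2
    rw [hr] at h1
    simpa using (h1.symm.trans h2).symm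
  subst hd
  haveI : Nontrivial (FrobAlg.BaseChange p A C) := PrimeSpectrum.nontrivial q'
  have hfree : letI := (FrobAlg.relFrob p A C).toAlgebra
      Module.Free (FrobAlg.BaseChange p A C) C ∧
        Module.finrank (FrobAlg.BaseChange p A C) C = p ^ d := by
    letI := (FrobAlg.relFrob p A C).toAlgebra
    exact isRootTower_free (Fact.out : p.Prime).ne_zero d _ _
      ((Groth.Agent.QuietLib.isRootTower_iff p d _ _).2 (tower_relFrob_of_etale p A d C))
  rw [← hq']
  exact rank_of_isPushout _ _ _ _ (relFrob_isPushout_of_etale p A B C) _ hfree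
    (S14036.result p A B) (finite_projective p A B).1 q'


end Groth.Agent.S13999
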