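import Groth.Statements.S14000
import Groth.Agent.S7142
import Mathlib.Algebra.Category.ModuleCat.Localization
import Mathlib.RingTheory.Spectrum.Prime.FreeLocus
import Mathlib.RingTheory.Localization.BaseChange
-- import your own Groth.Agent.* helpers here

set_option autoImplicit false
universe u
open Perf

namespace Groth.Agent.S14000

open CategoryTheory CategoryTheory.Limits

section

variable {R : Type u} [CommRing R]

/-- The rank at a prime, on the Grothendieck group of finite projective modules. -/
lemma exists_rank (p : PrimeSpectrum R) :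
    ∃ ρ : KZero.K0sub (S7142.FP (R := R)) →+ ℤ,
      ∀ M : ModuleCat.{u} R, S7142.FP M → ρ (S7142.clP M) = (Module.rankAtStalk (R := R) M p : ℤ) := by
  let ρ₀ : FreeAbelianGroup (Subtype (S7142.FP (R := R))) →+ ℤ :=
    FreeAbelianGroup.lift fun M => (Module.rankAtStalk (R := R) M.1 p : ℤ)
  refine ⟨QuotientAddGroup.lift _ ρ₀ ?_, fun M hM => ?_⟩
  · refine (AddSubgroup.closure_le _).2 ?_
    rintro _ ⟨S, h₁, h₂, h₃, hS, rfl⟩
    simp only [SetLike.mem_coe, AddMonoidHom.mem_ker, map_sub, ρ₀, FreeAbelianGroup.lift_apply_of]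
    have := h₁.1; have := h₁.2; have := h₃.1; have := h₃.2
    obtain ⟨l, hl⟩ := Module.projective_lifting_property S.g.hom LinearMap.id
      ((ModuleCat.epi_iff_surjective S.g).1 hS.epi_g)
    have hex : Function.Exact S.f.hom S.g.hom :=
      (ShortComplex.ShortExact.moduleCat_exact_iff_function_exact S).1 hS.exact
    obtain ⟨e, -, -⟩ := ((Function.Exact.split_tfae' hex).out 0 2 rfl rfl).mp ⟨(ModuleCat.mono_iff_injective S.f).1 hS.mono_f, l, hl⟩
    rw [Module.rankAtStalk_eq_of_equiv e, Module.rankAtStalk_prod, Pi.add_apply]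
    push_cast
    ring
  · simp only [S7142.clP, KZero.clSub, dif_pos hM]
    exact FreeAbelianGroup.lift_apply_of _ _

/-- A bounded acyclic complex of finite projective modules has vanishing alternating rank. -/
lemma sum_rank_eq_zero {E : DRing.Cx R} (hE : S7142.Good E) (hac : ∀ i, IsZero (E.homology i))
    (s : Finset ℤ) (hs : ∀ i, i ∉ s → IsZero (E.X i)) (p : PrimeSpectrum R) :
    ∑ i ∈ s, (Int.negOnePow i : ℤ) * (Module.rankAtStalk (R := R) (E.X i) p : ℤ) = 0 := by
  obtain ⟨ρ, hρ⟩ := exists_rank p
  have h := congrArg ρ (S7142.χ_acyclic hE hac)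
  rw [map_zero] at h
  rw [← h, S7142.χ, finsum_eq_sum_of_support_subset _ (s := s) fun i hi => by
    by_contra hne
    exact hi (by show (Int.negOnePow i : ℤ) • S7142.clP (E.X i) = 0; rw [S7142.clP_zero (hs i hne), smul_zero]), map_sum]
  exact Finset.sum_congr rfl fun i _ => by rw [map_zsmul, hρ _ (hE.2 i), smul_eq_mul]

end


open CategoryTheory CategoryTheory.Limits in
/-- Let A be a commutative ring and P a strictly perfect complex over A, that is a cochain complex of
finitely generated projective A-modules which is zero outside a finite set s of degrees. Suppose the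
cohomological support of P has positive codimension: for every minimal prime q of A and every degree
i the localization at q of the cohomology module H^i(P) is zero. Then the Euler characteristic of P
vanishes identically: at every prime of A the alternating sum over i ∈ s of the ranks of the P^i is
zero. -/
theorem result {A : Type u} [CommRing A]
    (P : CochainComplex (ModuleCat.{u} A) ℤ) (s : Finset ℤ)
    (hP : ∀ i : ℤ, Module.Finite A (P.X i) ∧ Module.Projective A (P.X i))
    (hs : ∀ i : ℤ, i ∉ s → IsZero (P.X i))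
    (hsupp : ∀ q : PrimeSpectrum A, q.asIdeal ∈ minimalPrimes A →
      ∀ i : ℤ, Subsingleton (LocalizedModule q.asIdeal.primeCompl (P.homology i))) :
    ∀ x : PrimeSpectrum A,
      (s.sum fun i => ((i.negOnePow : ℤˣ) : ℤ) * (Module.rankAtStalk (R := A) (P.X i) x : ℤ)) = 0 := by
  classical
  intro x
  obtain ⟨q, hq, hqx⟩ := Ideal.exists_minimalPrimes_le (bot_le : (⊥ : Ideal A) ≤ x.asIdeal)
  have hqp : q.IsPrime := hq.1.1
  let S := q.primeCompl
  let F := ModuleCat.localizedModuleFunctor.{u} (R := A) S
  let E : DRing.Cx (Localization S) := (F.mapHomologicalComplex _).obj P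
  obtain ⟨a, ha⟩ : ∃ a : ℤ, ∀ i ∈ s, a ≤ i := by
    by_cases hne : s.Nonempty
    · exact ⟨s.min' hne, fun i hi => s.min'_le i hi⟩
    · exact ⟨0, fun i hi => absurd ⟨i, hi⟩ hne⟩
  obtain ⟨b, hb⟩ : ∃ b : ℤ, ∀ i ∈ s, i ≤ b := by
    by_cases hne : s.Nonempty
    · exact ⟨s.max' hne, fun i hi => s.le_max' i hi⟩
    · exact ⟨0, fun i hi => absurd ⟨i, hi⟩ hne⟩
  have hs' : ∀ i, i ∉ s → IsZero (E.X i) := fun i hi => F.map_isZero (hs i hi)
  have hbc : ∀ i, IsBaseChange (Localization S) ((P.X i).localizedModuleMkLinearMap S) :=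
    fun i => IsLocalizedModule.isBaseChange S _ _
  have hE : S7142.Good E := by
    refine ⟨⟨a, b, fun i hi => hs' i fun h => ?_⟩, fun i => ?_⟩
    · have := ha i h; have := hb i h; omega
    · have := (hP i).1
      have := (hP i).2
      exact ⟨Module.Finite.equiv (hbc i).equiv, Module.Projective.of_equiv (hbc i).equiv⟩
  have hac : ∀ i, IsZero (E.homology i) := fun i => by
    refine IsZero.of_iso ?_ ((P.sc i).mapHomologyIso F)
    have h1 := hsupp ⟨q, hqp⟩ hq i
    have : Subsingleton (F.obj (P.sc i).homology) := @Equiv.subsingleton _ _ (equivShrink.{u} (LocalizedModule S (P.homology i))).symm h1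
    exact ModuleCat.isZero_of_subsingleton _
  let p : PrimeSpectrum (Localization S) := IsLocalRing.closedPoint (Localization.AtPrime q)
  have h := sum_rank_eq_zero hE hac s hs' p
  rw [← h]
  refine Finset.sum_congr rfl fun i _ => ?_
  have := (hP i).1
  have := (hP i).2
  congr 2
  rw [show Module.rankAtStalk (R := Localization S) (E.X i) p = _ from Module.rankAtStalk_isBaseChange (hbc i) p]
  rw [← Module.rankAtStalk_eq_of_le_of_finite_of_flat (P.X i) (p := ⟨q, hqp⟩) (q := x) hqx]
  congr 1
  exact PrimeSpectrum.ext (Localization.AtPrime.under_maximalIdeal (I := q)).symm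

end Groth.Agent.S14000
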