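import Groth.Statements.S14001
import Groth.Agent.DRing.Devissage
import Groth.Agent.DRing.RegularPerfect
import Groth.Agent.KosCone.Basic
import Groth.Agent.CycHerb.FiniteLength
import Mathlib.Algebra.Homology.DerivedCategory.SingleTriangle
import Mathlib.RingTheory.Regular.RegularSequence

set_option autoImplicit false
universe u
open CategoryTheory
attribute [local instance] HasDerivedCategory.standard
open KZero

namespace Groth.Agent.S14001

open CategoryTheory CategoryTheory.Limits CategoryTheory.Pretriangulated DerivedCategory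
open scoped ZeroObject
open Groth.Agent.DRing Groth.Agent.DRing.DBasic Groth.Agent.DRing.PC Groth.Agent.DRing.Devissage

attribute [local instance] HasDerivedCategory.standard

section

variable (R : Type u) [CommRing R] [IsLocalRing R]

/-- Perfect, supported at the closed point. -/
abbrev Pc : ObjectProperty (Dual.D R) := fun K => DRing.IsPerfect R K ∧
  ∀ i : ℤ, Module.support R (Dual.HD R K i) ⊆ {IsLocalRing.closedPoint R}

variable {R}

lemma support_subset_of_subsingleton {M : Type u} [AddCommGroup M] [Module R M] [Subsingleton M]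
    (s : Set (PrimeSpectrum R)) : Module.support R M ⊆ s := by
  rw [Module.support_eq_empty]; exact Set.empty_subset _

lemma pc_iso {K L : Dual.D R} (e : K ≅ L) (h : Pc R K) : Pc R L :=
  ⟨Perfect.perfect_of_iso e h.1, fun i => by
    rw [← LinearEquiv.support_eq ((HF i).mapIso e).toLinearEquiv]; exact h.2 i⟩

lemma pc_zero {K : Dual.D R} (h : IsZero K) : Pc R K :=
  ⟨Perfect.perfect_of_isZero h, fun i => by
    have := ModuleCat.subsingleton_of_isZero ((HF i).map_isZero h)
    exact support_subset_of_subsingleton _⟩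

lemma pc_shift {K : Dual.D R} (h : Pc R K) (n : ℤ) : Pc R ((shiftFunctor (Dual.D R) n).obj K) :=
  ⟨Perfect.perfect_shift h.1 n, fun i => by
    rw [LinearEquiv.support_eq (HFShiftIso K n i (n + i) rfl).toLinearEquiv]; exact h.2 _⟩

lemma pc_ext {T : Triangle (Dual.D R)} (hT : T ∈ distinguishedTriangles) (h₁ : Pc R T.obj₁)
    (h₃ : Pc R T.obj₃) : Pc R T.obj₂ := by
  refine ⟨(Perfect.perfect_two_of_three hT).2.1 h₁.1 h₃.1, fun i => ?_⟩
  have he := (ShortComplex.ShortExact.moduleCat_exact_iff_function_exact _).1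
    (HomologySequence.exact₂ _ hT i)
  intro p hp
  by_contra hc
  have a₁ : p ∉ Module.support R (Dual.HD R T.obj₁ i) := fun h => hc (h₁.2 i h)
  have a₃ : p ∉ Module.support R (Dual.HD R T.obj₃ i) := fun h => hc (h₃.2 i h)
  rw [Module.mem_support_iff'] at hp
  rw [Module.notMem_support_iff'] at a₁ a₃
  obtain ⟨x, hx⟩ := hp
  obtain ⟨s, hs, hsx⟩ := a₃ (((HF i).map T.mor₂).hom x)
  obtain ⟨y, hy⟩ := (he (s • x)).1 ((map_smul ((HF i).map T.mor₂).hom s x).trans hsx)
  obtain ⟨t, ht, hty⟩ := a₁ y
  refine hx (t * s) (p.asIdeal.primeCompl.mul_mem ht hs) ?_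
  rw [mul_smul, ← hy]
  exact (map_smul ((HF i).map T.mor₁).hom t y).symm.trans ((congrArg _ hty).trans (map_zero _))

/-- The class. -/
noncomputable abbrev cT (K : Dual.D R) : KZero.K0tr (Pc R) := KZero.clTr (Pc R) K

lemma cT_add {T : Triangle (Dual.D R)} (hT : T ∈ distinguishedTriangles) (h₁ : Pc R T.obj₁)
    (h₂ : Pc R T.obj₂) (h₃ : Pc R T.obj₃) : cT T.obj₂ = cT T.obj₁ + cT T.obj₃ := by
  simp only [cT, KZero.clTr, dif_pos h₁, dif_pos h₂, dif_pos h₃, ← QuotientAddGroup.mk_add]
  rw [QuotientAddGroup.eq_iff_sub_mem, sub_add_eq_sub_sub]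
  exact AddSubgroup.subset_closure ⟨T, h₁, h₂, h₃, hT, rfl⟩

lemma cT_zero_obj : cT (0 : Dual.D R) = 0 := by
  have hz : Pc R (0 : Dual.D R) := pc_zero (isZero_zero _)
  have := cT_add (contractible_distinguished (0 : Dual.D R)) hz hz hz
  exact left_eq_add.1 this

lemma cT_zero {K : Dual.D R} (h : IsZero K) : cT K = 0 := by
  have hT : Triangle.mk (0 : K ⟶ K) (0 : K ⟶ K) (0 : K ⟶ (shiftFunctor (Dual.D R) (1 : ℤ)).obj K) ∈ distinguishedTriangles :=
    isomorphic_distinguished _ (contractible_distinguished (0 : Dual.D R)) _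
      (Triangle.isoMk _ _ h.isoZero h.isoZero h.isoZero (h.eq_of_src _ _) (h.eq_of_src _ _) (h.eq_of_src _ _))
  have := cT_add hT (pc_zero h) (pc_zero h) (pc_zero h)
  exact left_eq_add.1 this

lemma cT_iso {K L : Dual.D R} (e : K ≅ L) (h : Pc R K) : cT L = cT K := by
  obtain ⟨Z, g, δ, hT⟩ := distinguished_cocone_triangle e.hom
  have hz : IsZero Z := Triangle.isZero₃_of_isIso₁ _ hT (inferInstanceAs (IsIso e.hom))
  have h1 : cT L = cT K + cT Z := cT_add hT h (pc_iso e h) (pc_zero hz)
  rw [h1, cT_zero hz, add_zero]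

lemma cT_shift {K : Dual.D R} (h : Pc R K) : cT ((shiftFunctor (Dual.D R) (1 : ℤ)).obj K) = - cT K := by
  have h1 : cT (0 : Dual.D R) = cT K + cT ((shiftFunctor (Dual.D R) (1 : ℤ)).obj K) :=
    cT_add (rot_of_distTriang _ (contractible_distinguished K)) h (pc_zero (isZero_zero _)) (pc_shift h 1)
  rw [cT_zero_obj] at h1
  exact eq_neg_of_add_eq_zero_right h1.symm

/-- Objects of the subcategory with class in `C`. -/
def Gd (C : AddSubgroup (KZero.K0tr (Pc R))) (K : Dual.D R) : Prop := Pc R K ∧ cT K ∈ C

variable {C : AddSubgroup (KZero.K0tr (Pc R))}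

lemma gd_iso {K L : Dual.D R} (e : K ≅ L) (h : Gd C K) : Gd C L :=
  ⟨pc_iso e h.1, by rw [cT_iso e h.1]; exact h.2⟩

lemma gd_zero {K : Dual.D R} (h : IsZero K) : Gd C K := ⟨pc_zero h, by rw [cT_zero h]; exact zero_mem _⟩

lemma gd_ext {T : Triangle (Dual.D R)} (hT : T ∈ distinguishedTriangles) (h₁ : Gd C T.obj₁)
    (h₃ : Gd C T.obj₃) : Gd C T.obj₂ :=
  ⟨pc_ext hT h₁.1 h₃.1, by rw [cT_add hT h₁.1 (pc_ext hT h₁.1 h₃.1) h₃.1]; exact add_mem h₁.2 h₃.2⟩

lemma gd_shift {K : Dual.D R} (h : Gd C K) (n : ℤ) : Gd C ((shiftFunctor (Dual.D R) n).obj K) := by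
  induction n using Int.induction_on with
  | zero => exact gd_iso ((shiftFunctorZero (Dual.D R) ℤ).app K).symm h
  | succ n ih =>
    refine gd_iso ((shiftFunctorAdd' (Dual.D R) (n : ℤ) 1 ((n : ℤ) + 1) rfl).app K).symm
      ⟨pc_shift ih.1 1, ?_⟩
    change cT ((shiftFunctor (Dual.D R) (1 : ℤ)).obj ((shiftFunctor (Dual.D R) (n : ℤ)).obj K)) ∈ C
    rw [cT_shift ih.1]
    exact neg_mem ih.2
  | pred n ih =>
    refine ⟨pc_shift h.1 _, ?_⟩
    have e := (shiftFunctorAdd' (Dual.D R) (-(n : ℤ) - 1) 1 (-(n : ℤ)) (by ring)).app K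
    have := (gd_iso e ih).2
    change cT ((shiftFunctor (Dual.D R) (1 : ℤ)).obj ((shiftFunctor (Dual.D R) (-(n : ℤ) - 1)).obj K)) ∈ C at this
    rw [cT_shift (pc_shift h.1 _), neg_mem_iff] at this
    exact this

lemma gd_finiteLength {M : Type u} [AddCommGroup M] [Module R M] (hM : IsFiniteLength R M)
    (hk : Gd C (Dual.inD R (IsLocalRing.ResidueField R))) : Gd C (Dual.inD R M) := by
  induction hM with
  | @of_subsingleton M _ _ _ =>
    exact gd_zero ((DerivedCategory.singleFunctor (ModuleCat.{u} R) 0).map_isZero (ModuleCat.isZero_of_subsingleton _))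
  | @of_simple_quotient M _ _ N _ _ ih =>
    obtain ⟨I, hI, ⟨e⟩⟩ := (isSimpleModule_iff_quot_maximal (R := R) (M := M ⧸ N)).1 ‹_›
    obtain rfl := IsLocalRing.eq_maximalIdeal hI
    have hq : Gd C (Dual.inD R (M ⧸ N)) :=
      gd_iso ((DerivedCategory.singleFunctor (ModuleCat.{u} R) 0).mapIso e.toModuleIso).symm hk
    let S : ShortComplex (ModuleCat.{u} R) := ShortComplex.mk (ModuleCat.ofHom N.subtype) (ModuleCat.ofHom N.mkQ)
      (by ext x; simp)
    have hS : S.ShortExact :=
      { exact := (ShortComplex.ShortExact.moduleCat_exact_iff_function_exact S).2 (LinearMap.exact_subtype_mkQ N)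
        mono_f := (ModuleCat.mono_iff_injective _).2 N.injective_subtype
        epi_g := (ModuleCat.epi_iff_surjective _).2 N.mkQ_surjective }
    exact gd_ext hS.singleTriangle_distinguished ih hq

theorem koszul_projective : ∀ (l : List R) (i : ℤ), Module.Projective R ((Koszul.koszul R l).X i)
  | [], i => by
    by_cases h : i = 0
    · subst h
      exact Module.Projective.of_equiv (HomologicalComplex.singleObjXSelf (ComplexShape.up ℤ) 0
        (ModuleCat.of R R)).toLinearEquiv.symm
    · exact Trunc.projective_of_isZero (HomologicalComplex.isZero_single_obj_X _ _ _ i h)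
  | f :: l, i => by
    have := koszul_projective l (i + 1)
    have := koszul_projective l i
    exact Module.Projective.of_equiv ((HomologicalComplex.homotopyCofiber.XIsoBiprod
      (f • 𝟙 (Koszul.koszul R l)) i (i + 1) rfl) ≪≫ ModuleCat.biprodIsoProd _ _).toLinearEquiv.symm

/-- Koszul cohomology of a sequence whose reverse is weakly regular. -/
theorem koszul_acyclic : ∀ (l : List R), RingTheory.Sequence.IsWeaklyRegular R l.reverse →
    ∀ i : ℤ, i ≠ 0 → ∀ x : (Koszul.koszul R l).homology i, x = 0
  | [], _, i, hi, x => by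
    refine Groth.Agent.KosCone.Basic.homology_eq_zero [] i ?_ x
    simp; omega
  | f :: l, h, i, hi, x => by
    rw [List.reverse_cons, RingTheory.Sequence.isWeaklyRegular_append_iff,
      RingTheory.Sequence.isWeaklyRegular_cons_iff] at h
    have ih := koszul_acyclic l h.1
    have hδ : Groth.Agent.KosCone.Basic.δ f l i (i + 1) rfl x = 0 := by
      by_cases h1 : i + 1 = 0
      · have hsm : f • Groth.Agent.KosCone.Basic.δ f l i (i + 1) rfl x = 0 :=
          (Groth.Agent.KosCone.Basic.smul_eq_zero_iff f l i (i + 1) rfl _).2 ⟨x, rfl⟩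
        generalize Groth.Agent.KosCone.Basic.δ f l i (i + 1) rfl x = y at hsm
        revert y
        rw [h1]
        intro y hy
        obtain ⟨π, hπ, hker⟩ := Groth.Agent.KosCone.Basic.exists_toH0 l
        obtain ⟨a, rfl⟩ := hπ y
        rw [← map_smul, ← LinearMap.mem_ker, hker] at hy
        rw [← LinearMap.mem_ker, hker]
        have hreg := h.2.1
        rw [isSMulRegular_quotient_iff_mem_of_smul_mem] at hreg
        have he : (Ideal.ofList l.reverse • ⊤ : Submodule R R) = Ideal.ofList l := by
          rw [Ideal.smul_eq_mul, ← Ideal.one_eq_top, mul_one]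
          exact congrArg Ideal.span (Set.ext fun _ => List.mem_reverse)
        rw [he] at hreg
        exact hreg a hy
      · exact ih (i + 1) h1 _
    obtain ⟨y, hy⟩ := (Groth.Agent.KosCone.Basic.δ_eq_zero_iff f l i (i + 1) rfl x).1 hδ
    rw [← hy, ih i hi y, map_zero]

end

/-- Let R be a Noetherian local ring whose maximal ideal is generated by an R-regular sequence f_1, …,
f_n. Let K_0 be the Grothendieck group of the full triangulated subcategory of D(R) consisting of
the perfect complexes all of whose cohomology modules are supported at the closed point (the perfect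
complexes acyclic off the closed point): the free abelian group on these objects modulo the
relations of distinguished triangles with all three vertices in the subcategory. Then K_0 is
generated by the class of the Koszul complex of f_1, …, f_n. -/
theorem result (R : Type u) [CommRing R]
    [IsNoetherianRing R] [IsLocalRing R] (fs : List R) (hreg : RingTheory.Sequence.IsRegular R fs)
    (hgen : Ideal.ofList fs = IsLocalRing.maximalIdeal R) :
    AddSubgroup.closure
        {KZero.clTr (fun K : Dual.D R => DRing.IsPerfect R K ∧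
            ∀ i : ℤ, Module.support R (Dual.HD R K i) ⊆ {IsLocalRing.closedPoint R})
          (DRing.toD (Koszul.koszul R fs))} = ⊤ := by
  classical
  let C := AddSubgroup.closure {KZero.clTr (Pc R) (DRing.toD (Koszul.koszul R fs))}
  change C = ⊤
  have hrev : RingTheory.Sequence.IsWeaklyRegular R fs.reverse :=
    (IsLocalRing.isRegular_of_perm hreg (List.reverse_perm fs).symm).toIsWeaklyRegular
  have hsub : ∀ i : ℤ, i ≠ 0 → Subsingleton (Dual.HD R (DRing.toD (Koszul.koszul R fs)) i) := fun i hi => by
    rw [subsingleton_HD_toD_iff]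
    have : Subsingleton ((Koszul.koszul R fs).homology i) :=
      ⟨fun x y => (koszul_acyclic fs hrev i hi x).trans (koszul_acyclic fs hrev i hi y).symm⟩
    exact ModuleCat.isZero_of_subsingleton _
  obtain ⟨π, hπ, hker⟩ := Groth.Agent.KosCone.Basic.exists_toH0 fs
  rw [hgen] at hker
  let eH : (IsLocalRing.ResidueField R) ≃ₗ[R] Dual.HD R (DRing.toD (Koszul.koszul R fs)) 0 :=
    ((Submodule.quotEquivOfEq _ _ hker.symm).trans (π.quotKerEquivOfSurjective hπ)).trans
      (hIso (Koszul.koszul R fs) 0).toLinearEquiv.symm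
  have hkosz : Pc R (DRing.toD (Koszul.koszul R fs)) := by
    refine ⟨⟨Koszul.koszul R fs, -(fs.length : ℤ), 0, fun i hi => Groth.Agent.KosCone.Basic.isZero_X fs i (by omega),
      fun i => ⟨Groth.Agent.KosCone.Basic.finite_X fs i, koszul_projective fs i⟩, ⟨Iso.refl _⟩⟩, fun i => ?_⟩
    by_cases hi : i = 0
    · subst hi
      rw [← LinearEquiv.support_eq eH, Module.support_eq_zeroLocus]
      intro p hp
      rw [PrimeSpectrum.mem_zeroLocus] at hp
      have hle : IsLocalRing.maximalIdeal R ≤ p.asIdeal := le_trans (fun a ha => Module.mem_annihilator.2 fun x => by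
        obtain ⟨y, rfl⟩ := IsLocalRing.residue_surjective x
        rw [Algebra.smul_def, IsLocalRing.ResidueField.algebraMap_eq, ← map_mul]
        exact (IsLocalRing.residue_eq_zero_iff _).2 (Ideal.mul_mem_right _ _ ha)) hp
      exact PrimeSpectrum.ext ((IsLocalRing.maximalIdeal.isMaximal R).eq_of_le p.isPrime.ne_top hle).symm
    · have := hsub i hi
      exact support_subset_of_subsingleton _
  obtain ⟨φ, hφ⟩ := PC.exists_toTop (DRing.toD (Koszul.koszul R fs)) 0 fun i hi => hsub i (by omega)
  have : IsIso φ := by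
    rw [isIso_iff_HF]
    intro i
    by_cases hi : i = 0
    · subst hi; exact hφ
    · exact isIso_of_source_target_iso_zero _ ((subsingleton_HD_iff_isZero _ i).1 (hsub i hi)).isoZero
        ((subsingleton_HD_iff_isZero _ i).1 (PC.subsingleton_HD_sgl _ hi)).isoZero
  have hk : Gd C (Dual.inD R (IsLocalRing.ResidueField R)) := by
    refine gd_iso ?_ (⟨hkosz, AddSubgroup.subset_closure rfl⟩ : Gd C (DRing.toD (Koszul.koszul R fs)))
    exact asIso φ ≪≫ (singleFunctorIsoCompQ (ModuleCat.{u} R) 0).symm.app _ ≪≫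
      (DerivedCategory.singleFunctor (ModuleCat.{u} R) 0).mapIso eH.symm.toModuleIso
  refine (AddSubgroup.eq_top_iff' _).2 fun c => ?_
  induction c using QuotientAddGroup.induction_on with
  | _ z =>
    induction z using FreeAbelianGroup.induction_on with
    | zero => exact zero_mem _
    | of K =>
      have h : KZero.clTr (Pc R) K.1 = QuotientAddGroup.mk (FreeAbelianGroup.of K) := dif_pos K.2
      rw [← h]
      obtain ⟨hpc, a, b, hab⟩ := (Perfect.perfect_iff _).1 K.2.1
      have hb := TorAmp.torAmp_boundedHD hab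
      have hfin : ∀ i, Module.Finite R (Dual.HD R K.1 i) := fun i =>
        ((PC.pc_iff_of_coherent (fun I _ => Module.finitePresentation_of_finite R I)
          ⟨b, fun j hj => hb j (Or.inr hj)⟩).1 ((PC.pc'_iff K.1).1 hpc i)).1
      refine (Devissage.of_cohomology (Gd C) gd_iso (fun _ => gd_zero) (fun _ => gd_ext) K.1 hb
        fun i => ?_).2
      have := hfin i
      have hlen : Module.length R (Dual.HD R K.1 i) ≠ ⊤ :=
        Groth.Agent.CycHerb.length_ne_top_of_support_maximal fun p hp => by
          rw [Set.mem_singleton_iff.1 (K.2.2 i hp)]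
          exact IsLocalRing.maximalIdeal.isMaximal R
      exact gd_iso (PC.inDShiftIso _ i)
        (gd_shift (gd_finiteLength (Module.length_ne_top_iff.1 hlen) hk) (-i))
    | neg K hK => rw [QuotientAddGroup.mk_neg]; exact neg_mem hK
    | add a b ha hb => rw [QuotientAddGroup.mk_add]; exact add_mem ha hb


end Groth.Agent.S14001
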