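import Groth.Statements.S14003
import Groth.Agent.CohDev.K0

set_option autoImplicit false
universe u
open CategoryTheory AlgebraicGeometry
open KZero

namespace Groth.Agent.S14003

open CategoryTheory.Limits Groth.Agent.CohDev Groth.Agent.PullStalk.Sky Groth.Agent.PullStalk.Exact TopologicalSpace

section

variable {X : Scheme.{u}} [IsNoetherian X] (Y' : Set X)

/-- Coherent modules with support in `Y'`. -/
abbrev PY : ObjectProperty X.Modules := fun G : X.Modules => Coh.IsCoh G ∧ CohB1.support G ⊆ Y'

/-- The class in the Grothendieck group with supports. -/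
noncomputable abbrev cY (M : X.Modules) : KZero.K0sub (PY Y') := KZero.clSub (PY Y') M

lemma cY_add {S : ShortComplex X.Modules} (hS : S.ShortExact) (h₁ : Coh.IsCoh S.X₁)
    (h₂ : Coh.IsCoh S.X₂) (h₃ : Coh.IsCoh S.X₃) (h : CohB1.support S.X₂ ⊆ Y') :
    cY Y' S.X₂ = cY Y' S.X₁ + cY Y' S.X₃ := by
  have := hS.mono_f
  have := hS.epi_g
  exact Groth.Agent.ResK0.Basic.clSub_add _ hS ⟨h₁, (support_subset_of_mono S.f).trans h⟩ ⟨h₂, h⟩
    ⟨h₃, (support_subset_of_epi S.g).trans h⟩

lemma cY_of_isZero {M : X.Modules} (hz : IsZero M) : cY Y' M = 0 := by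
  let S := ShortComplex.mk (𝟙 M) (0 : M ⟶ M) (hz.eq_of_tgt _ _)
  have hS : S.ShortExact :=
    { exact := ShortComplex.exact_of_isZero_X₂ _ hz
      mono_f := inferInstanceAs (Mono (𝟙 M))
      epi_g := ⟨fun _ _ _ ↦ hz.eq_of_src _ _⟩ }
  have hs : CohB1.support M ⊆ Y' := fun y hy => absurd (AddCommGrpCat.subsingleton_of_isZero
    ((Scheme.Modules.toPresheaf X ⋙ TopCat.Presheaf.stalkFunctor AddCommGrpCat.{u} y).map_isZero hz)) hy
  have h := isCoh_of_isZero hz
  simpa [S] using (cY_add Y' hS h h h hs).symm

lemma cY_mono {A B : X.Modules} (f : A ⟶ B) [Mono f] (hA : Coh.IsCoh A) (hB : Coh.IsCoh B)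
    (h : CohB1.support B ⊆ Y') : cY Y' B = cY Y' A + cY Y' (cokernel f) :=
  cY_add Y' (S := ShortComplex.mk f (cokernel.π f) (cokernel.condition f))
    { exact := ShortComplex.exact_of_g_is_cokernel _ (cokernelIsCokernel f)
      mono_f := ‹_›
      epi_g := inferInstanceAs (Epi (cokernel.π f)) }
    hA hB (isCoh_cokernel f hA.1 hB) h

/-- Classes of modules supported in `closure {x}` but not at `x`. -/
noncomputable def lower (x : X) : AddSubgroup (KZero.K0sub (PY Y')) :=
  AddSubgroup.closure {c | ∃ G : X.Modules, Coh.IsCoh G ∧ CohB1.support G ⊆ closure {x} ∧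
    x ∉ CohB1.support G ∧ c = cY Y' G}

lemma length_eq_zero_of_not_mem {M : X.Modules} {x : X} (h : x ∉ CohB1.support M) :
    Module.length (X.presheaf.stalk x) (M.presheaf.stalk x) = 0 :=
  Module.length_eq_zero_iff.mpr (not_not.mp h)

/-- A module supported in `closure {x}` agrees with a multiple of the structure sheaf up to lower terms. -/
theorem exists_mult {x : X} (hx : closure {x} ⊆ Y') {M : X.Modules} (hM : Coh.IsCoh M)
    (hs : CohB1.support M ⊆ closure {x}) :
    ∃ n : ℕ, Module.length (X.presheaf.stalk x) (M.presheaf.stalk x) = n ∧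
      cY Y' M - n • cY Y' (Cyc.closureStructureSheaf x) ∈ lower Y' x := by
  refine devissage (fun M => CohB1.support M ⊆ closure {x} →
    ∃ n : ℕ, Module.length (X.presheaf.stalk x) (M.presheaf.stalk x) = n ∧
      cY Y' M - n • cY Y' (Cyc.closureStructureSheaf x) ∈ lower Y' x)
    (fun M hz _ => ⟨0, ?_, ?_⟩) (fun S hS h₁ h₂ h₃ p₁ p₃ hs => ?_) (fun M hM hz => ?_) hM hs
  · rw [Nat.cast_zero]
    exact length_eq_zero_of_not_mem fun hy => hy (AddCommGrpCat.subsingleton_of_isZero
      ((Scheme.Modules.toPresheaf X ⋙ TopCat.Presheaf.stalkFunctor AddCommGrpCat.{u} x).map_isZero hz))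
  · rw [cY_of_isZero Y' hz, zero_smul, sub_zero]
    exact zero_mem _
  · have := hS.mono_f
    have := hS.epi_g
    obtain ⟨a, ha, ha'⟩ := p₁ ((support_subset_of_mono S.f).trans hs)
    obtain ⟨b, hb, hb'⟩ := p₃ ((support_subset_of_epi S.g).trans hs)
    obtain ⟨hi, hex, hsur⟩ := stalk_exact hS x
    refine ⟨a + b, ?_, ?_⟩
    · rw [Module.length_eq_add_of_exact _ _ hi hsur hex, ha, hb, Nat.cast_add]
    · rw [cY_add Y' hS h₁ h₂ h₃ (hs.trans hx), add_smul, add_sub_add_comm]
      exact add_mem ha' hb'
  · obtain ⟨y, J, f, g, hf, hg, hJ, hy⟩ := exists_piece hM hz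
    refine ⟨J, f, hf, hJ, fun hJ0 => hy (AddCommGrpCat.subsingleton_of_isZero
      ((Scheme.Modules.toPresheaf X ⋙ TopCat.Presheaf.stalkFunctor AddCommGrpCat.{u} y).map_isZero hJ0)),
      fun hs => ?_⟩
    have hyx : y ∈ closure ({x} : Set X) := hs hy
    have hJy : CohB1.support J ⊆ closure {y} := (support_subset_of_mono g).trans (support_oz_subset y)
    by_cases hxy : x ∈ closure ({y} : Set X)
    · obtain rfl : y = x := ((specializes_iff_mem_closure.mpr hxy).antisymm (specializes_iff_mem_closure.mpr hyx)).eq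
      refine ⟨1, ?_, ?_⟩
      · rw [(LinearEquiv.ofBijective (stalkLin g y) (stalk_piece g hy)).length_eq, length_stalk_oz, Nat.cast_one]
      · rw [one_smul, cY_mono Y' g hJ (isCoh_oz y) ((support_oz_subset y).trans hx), sub_add_cancel_left]
        exact neg_mem (AddSubgroup.subset_closure ⟨_, isCoh_cokernel g hJ.1 (isCoh_oz y),
          (support_subset_of_epi (cokernel.π g)).trans (support_oz_subset y),
          not_mem_support_cokernel g (stalk_piece g hy).2, rfl⟩)
    · have hnot : x ∉ CohB1.support J := fun h => hxy (hJy h)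
      refine ⟨0, by rw [Nat.cast_zero]; exact length_eq_zero_of_not_mem hnot, ?_⟩
      rw [zero_smul, sub_zero]
      exact AddSubgroup.subset_closure ⟨J, hJ, hs, hnot, rfl⟩

theorem cY_mem {ι : Type u} (F : ι → X.Modules) (hF : ∀ a : ι, Coh.IsCoh (F a) ∧ CohB1.support (F a) ⊆ Y')
    (hgen : ∀ (Z : Set X), IsClosed Z → IsIrreducible Z → Z ⊆ Y' → ∀ y : X, closure ({y} : Set X) = Z →
      ∃ a : ι, CohB1.support (F a) ⊆ Z ∧ Module.length (X.presheaf.stalk y) ((F a).presheaf.stalk y) = 1)
    (Z : Closeds X) (hZ : (Z : Set X) ⊆ Y') {G : X.Modules} (hG : Coh.IsCoh G) (hs : CohB1.support G ⊆ Z) :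
    cY Y' G ∈ AddSubgroup.closure (Set.range fun a : ι => cY Y' (F a)) := by
  have : NoetherianSpace X := inferInstance
  induction Z using WellFoundedLT.induction generalizing G with
  | _ Z IH =>
    refine devissage (fun M => CohB1.support M ⊆ (Z : Set X) →
      cY Y' M ∈ AddSubgroup.closure (Set.range fun a : ι => cY Y' (F a)))
      (fun M hM _ => by rw [cY_of_isZero Y' hM]; exact zero_mem _)
      (fun S hS h₁ h₂ h₃ p₁ p₃ hs => ?_) (fun M hM hz => ?_) hG hs
    · have := hS.mono_f
      have := hS.epi_g
      rw [cY_add Y' hS h₁ h₂ h₃ (hs.trans hZ)]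
      exact add_mem (p₁ ((support_subset_of_mono S.f).trans hs)) (p₃ ((support_subset_of_epi S.g).trans hs))
    · obtain ⟨x, J, f, g, hf, hg, hJ, hxJ⟩ := exists_piece hM hz
      refine ⟨J, f, hf, hJ, fun hJ0 => hxJ (AddCommGrpCat.subsingleton_of_isZero
        ((Scheme.Modules.toPresheaf X ⋙ TopCat.Presheaf.stalkFunctor AddCommGrpCat.{u} x).map_isZero hJ0)),
        fun hs => ?_⟩
      have hcl : closure ({x} : Set X) ⊆ Z := closure_minimal (Set.singleton_subset_iff.mpr (hs hxJ)) Z.isClosed
      have hJsupp : CohB1.support J ⊆ closure {x} := (support_subset_of_mono g).trans (support_oz_subset x)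
      have hlow : lower Y' x ≤ AddSubgroup.closure (Set.range fun a : ι => cY Y' (F a)) := by
        refine (AddSubgroup.closure_le _).2 ?_
        rintro _ ⟨H, hH, hHs, hxH, rfl⟩
        let Z' : Closeds X := ⟨CohB1.support H, isClosed_support hH⟩
        have hlt : Z' < Z := lt_of_le_of_ne (fun y hy => hcl (hHs hy)) fun e => hxH (by
          change x ∈ (Z' : Set X); rw [e]; exact hcl (subset_closure rfl))
        exact IH Z' hlt ((hHs.trans hcl).trans hZ) hH subset_rfl
      obtain ⟨a, haZ, ha1⟩ := hgen _ isClosed_closure isIrreducible_singleton.closure (hcl.trans hZ) x rfl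
      obtain ⟨m, hm, hm'⟩ := exists_mult Y' (hcl.trans hZ) (hF a).1 haZ
      obtain rfl : m = 1 := by
        rw [ha1] at hm
        exact_mod_cast hm.symm
      obtain ⟨n, -, hn'⟩ := exists_mult Y' (hcl.trans hZ) hJ hJsupp
      rw [one_smul] at hm'
      have h1 : cY Y' (Cyc.closureStructureSheaf x) ∈ AddSubgroup.closure (Set.range fun a : ι => cY Y' (F a)) := by
        have := sub_mem (AddSubgroup.subset_closure (Set.mem_range_self a)) (hlow hm')
        simpa using this
      have := add_mem (hlow hn') (nsmul_mem h1 n)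
      simpa using this

end

/-- Let X be a Noetherian scheme and Y' a closed subset; write K_0 for the Grothendieck group of the
abelian category of coherent O_X-modules with support in Y' (free abelian group on its objects
modulo the relations of short exact sequences). Let (F_a) be a family of such modules such that for
every irreducible closed subset Z ⊆ Y' with generic point ζ there is an index a with the support of
F_a contained in Z and the stalk of F_a at ζ of length one over the local ring (a one-dimensional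
vector space over the residue field). Then the classes of the F_a generate K_0. (The published
statement omits the condition that the support of F_a lie in Z; without it the claim fails already
for the spectrum of a product of two fields, where the modules k_1 ⊕ k_2 ⊕ k_2 and k_1 ⊕ k_1 ⊕ k_2
have one-dimensional stalks at the two points but their classes generate a subgroup of index 3 in
K_0 = ℤ².) -/
theorem result (X : Scheme.{u}) [IsNoetherian X]
    (Y' : Set X) (hY' : IsClosed Y') {ι : Type u} (F : ι → X.Modules)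
    (hF : ∀ a : ι, Coh.IsCoh (F a) ∧ CohB1.support (F a) ⊆ Y')
    (hgen : ∀ (Z : Set X), IsClosed Z → IsIrreducible Z → Z ⊆ Y' → ∀ y : X, closure ({y} : Set X) = Z →
      ∃ a : ι, CohB1.support (F a) ⊆ Z ∧ Module.length (X.presheaf.stalk y) ((F a).presheaf.stalk y) = 1) :
    AddSubgroup.closure (Set.range fun a : ι =>
        KZero.clSub (fun G : X.Modules => Coh.IsCoh G ∧ CohB1.support G ⊆ Y') (F a)) = ⊤ := by
  refine (AddSubgroup.eq_top_iff' _).2 fun c => ?_
  induction c using QuotientAddGroup.induction_on with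
  | _ z =>
    induction z using FreeAbelianGroup.induction_on with
    | zero => exact zero_mem _
    | of M =>
      have h : KZero.clSub (PY Y') M.1 = QuotientAddGroup.mk (FreeAbelianGroup.of M) := dif_pos M.2
      rw [← h]
      exact cY_mem Y' F hF hgen ⟨Y', hY'⟩ subset_rfl M.2.1 M.2.2
    | neg M hM => rw [QuotientAddGroup.mk_neg]; exact neg_mem hM
    | add a b ha hb => rw [QuotientAddGroup.mk_add]; exact add_mem ha hb


end Groth.Agent.S14003
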