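import Groth.Statements.S14005
import Mathlib

set_option autoImplicit false
universe u
open CategoryTheory AlgebraicGeometry
open CohTop

namespace Groth.Agent.S14005

open CategoryTheory TopologicalSpace Opposite

/-- Take a scheme X with a locally Noetherian underlying topological space, F a sheaf of abelian groups
on X, x a point of X and s an element of the stalk F_x. Then the following are equivalent: (i) s is
the germ of a section t over some open neighbourhood U of x whose support in U is contained in the
closure of {x} (that is, s belongs to the subgroup Γ_x(F) of F_x); (ii) for every generization y ≠ x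
of x the image of s under the cospecialisation map F_x → F_y is zero (that is, viewed as a global
section of the inverse image of F on Spec O_{X,x}, s is supported at the closed point). -/
theorem result {X : Scheme.{u}}
    (hX : ∀ x : X, ∃ U : X.Opens, x ∈ U ∧ TopologicalSpace.NoetherianSpace U)
    (F : TopCat.Sheaf AddCommGrpCat.{u} X.carrier) (x : X) (s : F.presheaf.stalk x) :
    (∃ (U : X.Opens) (hx : x ∈ U) (t : F.presheaf.obj (Opposite.op U)),
        F.presheaf.germ U x hx t = s ∧
          ∀ (u : X) (hu : u ∈ U), F.presheaf.germ U u hu t ≠ 0 → u ∈ closure ({x} : Set X)) ↔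
      ∀ (y : X) (h : y ⤳ x), y ≠ x → F.presheaf.stalkSpecializes h s = 0 := by
  have hspec : ∀ {U : X.Opens} {x y : X} (hx : x ∈ U) (h : y ⤳ x) (t : F.presheaf.obj (op U)),
      F.presheaf.stalkSpecializes h (F.presheaf.germ U x hx t) =
        F.presheaf.germ U y (h.mem_open U.isOpen hx) t := fun hx h t =>
    TopCat.Presheaf.germ_stalkSpecializes_apply F.presheaf hx h t
  constructor
  · rintro ⟨U, hx, t, rfl, hsupp⟩ y h hne
    rw [hspec hx h]
    by_contra h0
    have hxy : x ⤳ y := specializes_iff_mem_closure.mpr (hsupp y _ h0)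
    exact hne (h.antisymm hxy).eq
  · intro hgen
    obtain ⟨W, hxW, hW⟩ := hX x
    obtain ⟨V₀, hxV₀, t₀, rfl⟩ := F.presheaf.exists_germ_eq s
    let V : X.Opens := V₀ ⊓ W
    have hxV : x ∈ V := ⟨hxV₀, hxW⟩
    let t : F.presheaf.obj (op V) := F.presheaf.map (homOfLE inf_le_left).op t₀
    have hts : F.presheaf.germ V x hxV t = F.presheaf.germ V₀ x hxV₀ t₀ :=
      TopCat.Presheaf.germ_res_apply _ _ _ _ _
    haveI : NoetherianSpace (V : Set X) :=
      @NoetherianSpace.of_subset X _ (W : Set X) (V : Set X) hW (fun y hy => hy.2)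
    let S : Set (V : Set X) := {u | F.presheaf.germ V u.1 u.2 t ≠ 0}
    have hS : IsClosed S := by
      rw [← isOpen_compl_iff, isOpen_iff_forall_mem_open]
      intro u hu
      simp only [S, Set.mem_compl_iff, Set.mem_ofPred_eq, ne_eq, not_not] at hu
      obtain ⟨W', hu', i1, i2, he⟩ := F.presheaf.germ_eq u.1 u.2 u.2 t 0 (by rw [hu, map_zero])
      refine ⟨Subtype.val ⁻¹' (W' : Set X), ?_, W'.isOpen.preimage continuous_subtype_val, hu'⟩
      intro v hv
      simp only [S, Set.mem_compl_iff, Set.mem_ofPred_eq, ne_eq, not_not]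
      rw [← TopCat.Presheaf.germ_res_apply F.presheaf i1 v.1 hv t, he, map_zero, map_zero]
    obtain ⟨𝒮, hfin, hcl, hirr, hSeq⟩ := NoetherianSpace.exists_finite_set_isClosed_irreducible hS
    let T : Set (V : Set X) := ⋃ k ∈ {k ∈ 𝒮 | (⟨x, hxV⟩ : (V : Set X)) ∉ k}, k
    have hT : IsClosed T := (hfin.subset fun k hk => hk.1).isClosed_biUnion fun k hk => hcl k hk.1
    let U : X.Opens := ⟨Subtype.val '' Tᶜ, V.isOpen.isOpenMap_subtype_val _ hT.isOpen_compl⟩
    have hxT : (⟨x, hxV⟩ : (V : Set X)) ∉ T := by
      simp only [T, Set.mem_iUnion, Set.mem_ofPred_eq]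
      rintro ⟨k, ⟨-, hk⟩, hk'⟩
      exact hk hk'
    have hUV : U ≤ V := by
      rintro _ ⟨u, -, rfl⟩
      exact u.2
    refine ⟨U, ⟨⟨x, hxV⟩, hxT, rfl⟩, F.presheaf.map (homOfLE hUV).op t, ?_, ?_⟩
    · exact (TopCat.Presheaf.germ_res_apply F.presheaf (homOfLE hUV) x _ t).trans hts
    · rintro _ ⟨u, huT, rfl⟩ hne
      have huS : u ∈ S := fun h => hne ((TopCat.Presheaf.germ_res_apply F.presheaf (homOfLE hUV) u.1 _ t).trans h)
      rw [hSeq] at huS
      obtain ⟨k, hk, huk⟩ := huS
      have hxk : (⟨x, hxV⟩ : (V : Set X)) ∈ k := by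
        by_contra hc
        exact huT (Set.mem_biUnion (show k ∈ {k ∈ 𝒮 | _} from ⟨hk, hc⟩) huk)
      have hki : IsIrreducible (Subtype.val '' k : Set X) :=
        (hirr k hk).image _ continuous_subtype_val.continuousOn
      have hgp := hki.isGenericPoint_genericPoint_closure
      have hηu : hki.genericPoint ⤳ u.1 := hgp.specializes (subset_closure ⟨u, huk, rfl⟩)
      have hηx : hki.genericPoint ⤳ x := hgp.specializes (subset_closure ⟨_, hxk, rfl⟩)
      have hηV : hki.genericPoint ∈ V := hηx.mem_open V.isOpen hxV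
      have hηk : (⟨hki.genericPoint, hηV⟩ : (V : Set X)) ∈ k := by
        have hm : (⟨hki.genericPoint, hηV⟩ : (V : Set X)) ∈ closure k := by
          rw [closure_subtype]; exact hgp.mem
        rwa [(hcl k hk).closure_eq] at hm
      have hηS : (⟨hki.genericPoint, hηV⟩ : (V : Set X)) ∈ S := by
        rw [hSeq]; exact ⟨k, hk, hηk⟩
      have hηeq : hki.genericPoint = x := by
        by_contra hne'
        apply hηS
        have h0 := hgen _ hηx hne'
        rw [← hts, hspec hxV hηx] at h0
        exact h0
      rw [hηeq] at hηu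
      exact specializes_iff_mem_closure.mp hηu

end Groth.Agent.S14005
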