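import Groth.Statements.S14007
import Groth.Agent.S3201
import Groth.Agent.CohDev.Prop
import Groth.Agent.PerfTri.Bounded
import Groth.Agent.PerfTri.Devissage
-- import your own Groth.Agent.* helpers here

set_option autoImplicit false
universe u
open CategoryTheory AlgebraicGeometry
attribute [local instance] HasDerivedCategory.standard
open KZero

namespace Groth.Agent.S14007

/-- Let X be a Noetherian scheme and Y' ⊆ X a closed subset, and suppose that every coherent O_X-module
with support in Y', viewed in degree 0, is a perfect object of D(O_X). Write K_0(C) for the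
Grothendieck group of the abelian category C of coherent O_X-modules supported in Y' (objects modulo
short exact sequences) and K_0(D) for that of the full triangulated subcategory D of D(O_X) on the
perfect complexes all of whose cohomology sheaves are supported in Y' (objects modulo distinguished
triangles with vertices in D). Then the homomorphism K_0(C) → K_0(D) induced by G ↦ G[0] is an
isomorphism: there is an isomorphism of groups carrying the class of every G in C to the class of
G[0]. -/
theorem result (X : Scheme.{u}) [IsNoetherian X]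
    (Y' : Set X) (hY' : IsClosed Y')
    (hperf : ∀ G : X.Modules, Coh.IsCoh G → CohB1.support G ⊆ Y' → DCoh.IsPerfect (DCoh.inD X G)) :
    ∃ φ : KZero.K0sub (fun G : X.Modules => Coh.IsCoh G ∧ CohB1.support G ⊆ Y') ≃+
        KZero.K0tr (fun K : DCoh.D X => DCoh.IsPerfect K ∧ ∀ i : ℤ, CohB1.support (DCoh.HD K i) ⊆ Y'),
      ∀ G : X.Modules, Coh.IsCoh G → CohB1.support G ⊆ Y' →
        φ (KZero.clSub (fun G : X.Modules => Coh.IsCoh G ∧ CohB1.support G ⊆ Y') G) =
          KZero.clTr (fun K : DCoh.D X => DCoh.IsPerfect K ∧ ∀ i : ℤ, CohB1.support (DCoh.HD K i) ⊆ Y')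
            (DCoh.inD X G) := by
  let P : ObjectProperty X.Modules := fun G => Coh.IsCoh G ∧ CohB1.support G ⊆ Y'
  have hD : (fun K : DerivedCategory X.Modules =>
      (∀ i : ℤ, P ((DerivedCategory.homologyFunctor X.Modules i).obj K)) ∧
        ∃ a b : ℤ, (DerivedCategory.TStructure.t (C := X.Modules)).IsGE K a ∧
          (DerivedCategory.TStructure.t (C := X.Modules)).IsLE K b) =
      (fun K : DCoh.D X => DCoh.IsPerfect K ∧ ∀ i : ℤ, CohB1.support (DCoh.HD K i) ⊆ Y') := by
    funext K
    refine propext ⟨?_, ?_⟩
    · rintro ⟨hP, a, b, _, _⟩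
      refine ⟨?_, fun i => (hP i).2⟩
      refine Groth.Agent.PerfTri.Devissage.mem_of_homology P DCoh.IsPerfect
        (fun e h => Groth.Agent.PerfTri.Perfect.isPerfect_of_iso e h)
        (fun T hT h₁ h₃ => Groth.Agent.PerfTri.Perfect.isPerfect₂ T hT h₁ h₃)
        (fun n M hM => ?_) K a b hP
      exact Groth.Agent.PerfTri.Perfect.isPerfect_of_iso
        (((DerivedCategory.singleFunctors X.Modules).shiftIso (-n) n 0 (by omega)).app M)
        (Groth.Agent.PerfTri.Perfect.isPerfect_shift (hperf M hM.1 hM.2) (-n))
    · rintro ⟨hK, hY⟩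
      obtain ⟨hcoh, hb⟩ := Groth.Agent.PerfTri.Bounded.perfect_isCohD_bounded K hK
      exact ⟨fun i => ⟨hcoh i, hY i⟩, hb⟩
  have h := Groth.Agent.S3201.result P
  rw [hD] at h
  obtain ⟨φ, hφ⟩ := h
  exact ⟨φ, fun G h₁ h₂ => hφ G ⟨h₁, h₂⟩⟩

end Groth.Agent.S14007
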