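import Groth.Statements.S14008
import Groth.Agent.FtPtsLib.Basic
import Mathlib.AlgebraicGeometry.Noetherian

set_option autoImplicit false
universe u
open FlatMor

namespace Groth.Agent.S14008

open AlgebraicGeometry CategoryTheory in
/-- Consider a commutative square of schemes F₀ ≫ j = i ≫ F in which i : Y₀ ⟶ Y and j : X₀ ⟶ X are
closed immersions surjective on points whose ideals are nilpotent on every affine open, the ideal of
i being moreover finitely generated on every affine open of Y, and assume that X is locally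
Noetherian. Then F : Y ⟶ X is locally of finite presentation if and only if F₀ : Y₀ ⟶ X₀ is. The
square is not assumed cartesian. -/
theorem result
    {X X₀ Y Y₀ : Scheme.{u}} [IsLocallyNoetherian X]
    (F : Y ⟶ X) (F₀ : Y₀ ⟶ X₀) (i : Y₀ ⟶ Y) (j : X₀ ⟶ X)
    (hi : MoreMor.IsThickening i) (hj : MoreMor.IsThickening j)
    (hinil : ∀ U : Y.affineOpens, IsNilpotent (i.ker.ideal U))
    (hjnil : ∀ U : X.affineOpens, IsNilpotent (j.ker.ideal U))
    (hfg : ∀ U : Y.affineOpens, (i.ker.ideal U).FG)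
    (w : F₀ ≫ j = i ≫ F) :
    LocallyOfFinitePresentation F ↔ LocallyOfFinitePresentation F₀ := by
  haveI := hi.1
  haveI := hj.1
  haveI : IsLocallyNoetherian X₀ := LocallyOfFiniteType.isLocallyNoetherian j
  rw [LocallyOfFinitePresentation.iff_locallyOfFiniteType, LocallyOfFinitePresentation.iff_locallyOfFiniteType]
  constructor
  · intro h
    haveI : LocallyOfFiniteType (F₀ ≫ j) := w ▸ inferInstance
    exact locallyOfFiniteType_of_comp F₀ j
  · intro h
    haveI : LocallyOfFiniteType (i ≫ F) := w ▸ inferInstance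
    refine ⟨fun {U hU V hV} e => ?_⟩
    have hV' : IsAffineOpen (i ⁻¹ᵁ V) := hV.preimage i
    have h1 : ((F.appLE U V e) ≫ i.app V).hom.FiniteType := by
      have hle : i ⁻¹ᵁ V ≤ (i ≫ F) ⁻¹ᵁ U := fun z hz => e hz
      have h2 := (i ≫ F).finiteType_appLE hU hV' hle
      rw [← Scheme.Hom.appLE_comp_appLE _ _ U V (i ⁻¹ᵁ V) e le_rfl] at h2
      simpa [Scheme.Hom.appLE] using h2
    algebraize [(F.appLE U V e).hom]
    let π : Γ(Y, V) →+* Γ(Y₀, i ⁻¹ᵁ V) := (i.app V).hom
    have hπ : Function.Surjective π := i.app_surjective V hV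
    have hk : RingHom.ker π = i.ker.ideal ⟨V, hV⟩ := (Scheme.Hom.ker_apply i ⟨V, hV⟩).symm
    letI : Algebra Γ(X, U) Γ(Y₀, i ⁻¹ᵁ V) := (π.comp (F.appLE U V e).hom).toAlgebra
    let πa : Γ(Y, V) →ₐ[Γ(X, U)] Γ(Y₀, i ⁻¹ᵁ V) := ⟨π, fun _ => rfl⟩
    have h3 : Algebra.FiniteType Γ(X, U) Γ(Y₀, i ⁻¹ᵁ V) := h1
    have h4 : Algebra.FiniteType Γ(X, U) (Γ(Y, V) ⧸ RingHom.ker πa) :=
      h3.equiv (Ideal.quotientKerAlgEquivOfSurjective (f := πa) hπ).symm
    exact Groth.Agent.FtPtsLib.finiteType_of_nilpotent (RingHom.ker πa)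
      (show (RingHom.ker π).FG by rw [hk]; exact hfg _) (show IsNilpotent (RingHom.ker π) by rw [hk]; exact hinil _) h4

end Groth.Agent.S14008
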