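import Groth.Prelude.Def_EtModW
import Groth.Prelude.Def_ARSys
import Mathlib.CategoryTheory.Linear.FunctorCategory
import Mathlib.CategoryTheory.Limits.HasLimits
import Mathlib.AlgebraicGeometry.Noetherian
import Mathlib.Algebra.Homology.ShortComplex.ShortExact
import Groth.Agent.EtModWLib.LimitEpi

set_option autoImplicit false
open CategoryTheory CategoryTheory.Limits AlgebraicGeometry Opposite
universe u
open EtModW

namespace Groth.Agent.S14012

open Groth.Agent Groth.Agent.EtModWLib Groth.Agent.ARLib ARSys

/-- Let X be a Noetherian scheme, Λ a Noetherian commutative ring and I an ideal of Λ. Let 0 ⟶ A ⟶ B ⟶ C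
⟶ 0 be a short exact sequence of inverse systems (indexed by ℕ) of sheaves of Λ-modules on the small
étale site of X, and assume A is I-adic up to translation: it receives a morphism, with kernel and
cokernel null up to translation, from an I-adic system. Then the induced morphism lim_n ε⁻¹B_n ⟶
lim_n ε⁻¹C_n of sheaves on the small pro-étale site is an epimorphism; since the limit functor is
left exact this says that lim_n ε⁻¹(−) carries the given sequence to a short exact sequence. (The
published statement takes all three systems I-adic up to translation; only the hypothesis on A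
enters, so B and C are arbitrary here. Continuity of the inclusion of the étale site into the
pro-étale site is carried as a binder.) -/
theorem result
    (Λ : Type (u + 1)) [CommRing Λ] [IsNoetherianRing Λ] (I : Ideal Λ)
    (X : Scheme.{u}) [IsNoetherian X] [ProEtS.EpsCont X]
    (S : ShortComplex (ARSys.PS (EtModW.Mod Λ X))) (hS : S.ShortExact)
    (hA : ∃ (Y : ARSys.PS (EtModW.Mod Λ X)) (v : Y ⟶ S.X₁), ARSys.IsAdic I Y ∧ ARSys.IsARIso v) :
    Epi (limMap (Functor.whiskerRight S.g (EtModW.epsPullMod Λ X))) := by
  obtain ⟨Y, v, hY, hv⟩ := hA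
  obtain ⟨r, -, hr⟩ := exists_bounds hv
  let L := EtModW.epsPullMod Λ X
  refine epi_limMap (Functor.whiskerRight S.f L) (Functor.whiskerRight S.g L) (Functor.whiskerRight v L)
    (fun n => ⟨_, ((hS.map_of_exact ((evaluation ℕᵒᵖ (EtModW.Mod Λ X)).obj (op n))).map_of_exact L).exact⟩)
    (fun n => ((hS.map_of_exact ((evaluation ℕᵒᵖ (EtModW.Mod Λ X)).obj (op n))).map_of_exact L).epi_g)
    (fun n m h => ?_) (r := r) fun n => ?_
  · haveI := adic_strict hY n m h
    exact inferInstanceAs (Epi (L.map (tr Y h)))
  · have h := hr n (cokernel.π (v.app (op n))) (cokernel.condition _)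
    have h' : L.map (sm S.X₁ r n) ≫ L.map (cokernel.π (v.app (op n))) = 0 := by
      rw [← Functor.map_comp, h, Functor.map_zero]
    have hc : IsColimit (CokernelCofork.ofπ (L.map (cokernel.π (v.app (op n))))
        (by rw [← Functor.map_comp, cokernel.condition, Functor.map_zero])) :=
      CokernelCofork.mapIsColimit _ (cokernelIsCokernel _) L
    obtain ⟨χ, hχ⟩ := CokernelCofork.IsColimit.desc' hc (cokernel.π (L.map (v.app (op n)))) (cokernel.condition _)
    show L.map (sm S.X₁ r n) ≫ cokernel.π (L.map (v.app (op n))) = 0
    rw [← hχ, ← Category.assoc]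
    exact (congrArg (· ≫ χ) h').trans zero_comp

end Groth.Agent.S14012
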