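import Groth.Statements.S14020
import Mathlib
-- import your own Groth.Agent.* helpers here

set_option autoImplicit false
universe u
open CAlg

namespace Groth.Agent.S14020

/-- Let R be a commutative ring and I a finitely generated ideal such that the quotient ring R/I is
artinian. Then R/I^n is artinian for every n. -/
theorem result
    (R : Type u) [CommRing R] (I : Ideal R) (hI : I.FG) [IsArtinianRing (R ⧸ I)] (n : ℕ) :
    IsArtinianRing (R ⧸ I ^ n) := by
  rcases Nat.eq_zero_or_pos n with rfl | hn
  · have : Subsingleton (R ⧸ I ^ 0) := Ideal.Quotient.subsingleton_iff.mpr (by simp)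
    infer_instance
  let J := I.map (Ideal.Quotient.mk (I ^ n))
  have hJ : J.FG := hI.map _
  have hnil : ∀ P : Ideal (R ⧸ I ^ n), P.IsPrime → J ≤ P := by
    intro P hP
    have : J ^ n ≤ P := by
      rw [show J ^ n = ⊥ by rw [← Ideal.map_pow]; exact Ideal.map_quotient_self _]
      exact bot_le
    exact (hP.pow_le_iff hn.ne').mp this
  let g : R ⧸ I ^ n →+* R ⧸ I := Ideal.Quotient.factor (Ideal.pow_le_self hn.ne')
  have hg : Function.Surjective g := Ideal.Quotient.factor_surjective _
  have hker : RingHom.ker g = J := Ideal.Quotient.factor_ker _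
  have hnoeth : IsNoetherianRing (R ⧸ I ^ n) := by
    classical
    refine IsNoetherianRing.of_prime fun P hP => ?_
    obtain ⟨t, ht⟩ := IsNoetherian.noetherian (P.map g)
    let s := t.image (Function.surjInv hg)
    have hs : g '' (s : Set (R ⧸ I ^ n)) = t := by
      simp [s, ← Set.image_comp, Function.comp_def, Function.surjInv_eq hg]
    have hP2 : P = Ideal.span (s : Set _) ⊔ J := by
      have h1 : P.map g = (Ideal.span (s : Set _)).map g := by
        rw [Ideal.map_span, hs]; exact ht.symm
      have h2 := congrArg (Ideal.comap g) h1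
      rw [Ideal.comap_map_of_surjective g hg, Ideal.comap_map_of_surjective g hg] at h2
      rw [← RingHom.ker_eq_comap_bot, hker, sup_eq_left.mpr (hnil P hP)] at h2
      exact h2
    rw [hP2]
    exact Submodule.FG.sup ⟨s, rfl⟩ hJ
  rw [isArtinianRing_iff_krullDimLE_zero, Ring.krullDimLE_zero_iff]
  intro P hP
  have hPJ : RingHom.ker g ≤ P := hker ▸ hnil P hP
  have : (P.map g).IsPrime := Ideal.map_isPrime_of_surjective hg hPJ
  have hmax : (P.map g).IsMaximal := inferInstance
  have h3 := Ideal.comap_isMaximal_of_surjective g hg (K := P.map g)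
  rwa [Ideal.comap_map_of_surjective g hg, ← RingHom.ker_eq_comap_bot, sup_eq_left.mpr hPJ] at h3

end Groth.Agent.S14020
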