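import Mathlib.CategoryTheory.Preadditive.Injective.Basic
import Mathlib.CategoryTheory.Abelian.FunctorCategory
import Mathlib.CategoryTheory.Abelian.Basic
import Mathlib.CategoryTheory.Limits.FunctorCategory.EpiMono
import Mathlib.CategoryTheory.Limits.Shapes.FiniteProducts
import Groth.Prelude.Def_ARSys

set_option autoImplicit false
open CategoryTheory CategoryTheory.Limits Opposite
universe v u
open ARSys

namespace Groth.Agent.S14023

open CategoryTheory CategoryTheory.Limits Opposite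

section
variable {A : Type u} [Category.{v} A] [Abelian A]

theorem hasCoprod (M : A) (n : ℕ) : HasCoproduct fun _ : PLift (n = 0) => M := by
  have : Finite (PLift (n = 0)) := Finite.of_subsingleton
  infer_instance

theorem hasProd (I : ℕ → A) (n : ℕ) : HasProduct fun m : Fin (n + 1) => I m := inferInstance

/-- `M` in degree zero, a zero object elsewhere -/
noncomputable def skyObj (M : A) (n : ℕ) : A :=
  have := hasCoprod M n
  ∐ fun _ : PLift (n = 0) => M

noncomputable def skyι (M : A) (n : ℕ) (h : n = 0) : M ⟶ skyObj M n :=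
  have := hasCoprod M n
  Sigma.ι (fun _ : PLift (n = 0) => M) ⟨h⟩

noncomputable def skyDesc (M : A) (n : ℕ) {T : A} (f : n = 0 → (M ⟶ T)) : skyObj M n ⟶ T :=
  have := hasCoprod M n
  Sigma.desc fun i => f i.down

theorem skyι_desc (M : A) (n : ℕ) {T : A} (f : n = 0 → (M ⟶ T)) (h : n = 0) :
    skyι M n h ≫ skyDesc M n f = f h :=
  have := hasCoprod M n
  Sigma.ι_desc _ _

theorem sky_ext (M : A) (n : ℕ) {T : A} {f g : skyObj M n ⟶ T}
    (h : ∀ hn, skyι M n hn ≫ f = skyι M n hn ≫ g) : f = g :=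
  have := hasCoprod M n
  Sigma.hom_ext _ _ fun i => h i.down

noncomputable def sky (M : A) : ℕᵒᵖ ⥤ A where
  obj n := skyObj M n.unop
  map {a b} f := skyDesc M a.unop fun h => skyι M b.unop (Nat.le_zero.1 (h ▸ leOfHom f.unop))
  map_id a := sky_ext M _ fun h => by rw [skyι_desc, Category.comp_id]
  map_comp {a b c} f g := sky_ext M _ fun h => by
    show skyι M _ h ≫ skyDesc M _ _ = skyι M _ h ≫ skyDesc M _ _ ≫ skyDesc M _ _
    rw [skyι_desc, ← Category.assoc, skyι_desc, skyι_desc]

noncomputable def skyLift (M : A) (I : ℕᵒᵖ ⥤ A) (f : M ⟶ I.obj (op 0)) : sky M ⟶ I where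
  app n := skyDesc M n.unop fun h => f ≫ I.map (homOfLE (le_of_eq h)).op
  naturality {a b} g := by
    refine sky_ext M a.unop fun h => ?_
    show skyι M _ h ≫ skyDesc M a.unop (fun h => skyι M b.unop (Nat.le_zero.1 (h ▸ leOfHom g.unop))) ≫
        skyDesc M b.unop (fun h => f ≫ I.map (homOfLE (le_of_eq h)).op) =
      skyι M _ h ≫ skyDesc M a.unop (fun h => f ≫ I.map (homOfLE (le_of_eq h)).op) ≫ I.map g
    rw [← Category.assoc, skyι_desc, skyι_desc, ← Category.assoc, skyι_desc, Category.assoc,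
      ← I.map_comp]
    rfl

/-- components of a map out of `sky M` -/
noncomputable abbrev skyApp {M : A} {I : ℕᵒᵖ ⥤ A} (h : sky M ⟶ I) (n : ℕ) :
    skyObj M n ⟶ I.obj (op n) := h.app (op n)

theorem skyLift_zero (M : A) (I : ℕᵒᵖ ⥤ A) (f : M ⟶ I.obj (op 0)) :
    skyι M 0 rfl ≫ skyApp (skyLift M I f) 0 = f := by
  refine (skyι_desc M 0 (fun h => f ≫ I.map (homOfLE (le_of_eq h)).op) rfl).trans ?_
  exact (congrArg _ (I.map_id (op 0))).trans (Category.comp_id _)

theorem isIso_skyι (M : A) : IsIso (skyι M 0 rfl) :=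
  ⟨skyDesc M 0 fun _ => 𝟙 M, skyι_desc _ _ _ _,
    sky_ext M 0 fun h => by rw [← Category.assoc, skyι_desc, Category.comp_id, Category.id_comp]⟩

noncomputable def skyMap {M N : A} (g : M ⟶ N) : sky M ⟶ sky N :=
  skyLift M (sky N) (g ≫ skyι N 0 rfl)

/-- components of `skyMap` -/
noncomputable abbrev skyMapApp {M N : A} (g : M ⟶ N) (n : ℕ) : skyObj M n ⟶ skyObj N n :=
  (skyMap g).app (op n)

theorem skyMap_zero {M N : A} (g : M ⟶ N) :
    skyι M 0 rfl ≫ skyMapApp g 0 = g ≫ skyι N 0 rfl := skyLift_zero M (sky N) _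

theorem skyMap_mono {M N : A} (g : M ⟶ N) [Mono g] : Mono (skyMap g) := by
  rw [NatTrans.mono_iff_mono_app]
  rintro ⟨n⟩
  show Mono (skyMapApp g n)
  cases n with
  | zero =>
    have := isIso_skyι M
    have := isIso_skyι N
    rw [(IsIso.eq_inv_comp (skyι M 0 rfl)).2 (skyMap_zero g)]
    exact mono_comp _ _
  | succ n =>
    refine ⟨fun x y _ => IsZero.eq_of_tgt ?_ x y⟩
    exact (IsZero.iff_id_eq_zero _).2 (sky_ext M _ fun h => absurd h (Nat.succ_ne_zero n))

theorem injective_eval_zero (I : ℕᵒᵖ ⥤ A) [Injective I] : Injective (I.obj (op 0)) :=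
  ⟨fun {X Y} f g _ => by
    have := skyMap_mono g
    obtain ⟨h, hh⟩ := Injective.factors (skyLift X I f) (skyMap g)
    refine ⟨skyι Y 0 rfl ≫ skyApp h 0, ?_⟩
    have h0 : skyMapApp g 0 ≫ skyApp h 0 = skyApp (skyLift X I f) 0 :=
      NatTrans.congr_app hh (op 0)
    rw [← Category.assoc, ← skyMap_zero, Category.assoc, h0, skyLift_zero]⟩

/-- the injective system built from a sequence of injectives -/
noncomputable def cofree (I : ℕ → A) : ℕᵒᵖ ⥤ A where
  obj n := ∏ᶜ fun m : Fin (n.unop + 1) => I m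
  map {a b} f := Pi.lift fun m =>
    Pi.π (fun m : Fin (a.unop + 1) => I m)
      ⟨m.1, lt_of_lt_of_le m.2 (Nat.add_le_add_right (leOfHom f.unop) 1)⟩
  map_id a := by
    refine Pi.hom_ext _ _ fun m => ?_
    rw [Pi.lift_π, Category.id_comp]
  map_comp {a b c} f g := by
    refine Pi.hom_ext _ _ fun m => ?_
    rw [Pi.lift_π, Category.assoc, Pi.lift_π, Pi.lift_π]

noncomputable def cofreeLift (I : ℕ → A) (X : ℕᵒᵖ ⥤ A) (f : ∀ m, X.obj (op m) ⟶ I m) :
    X ⟶ cofree I where
  app n := Pi.lift fun m : Fin (n.unop + 1) =>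
    X.map (homOfLE (Nat.le_of_lt_succ m.2)).op ≫ f m
  naturality {a b} g := by
    refine Pi.hom_ext _ _ fun m => ?_
    show (X.map g ≫ Pi.lift _) ≫ Pi.π _ m = (Pi.lift _ ≫ Pi.lift _) ≫ Pi.π _ m
    rw [Category.assoc, Pi.lift_π, Category.assoc, Pi.lift_π, Pi.lift_π, ← Category.assoc,
      ← X.map_comp]
    rfl

/-- projection of `cofree I` to the last factor -/
noncomputable def cofreeπ (I : ℕ → A) (n : ℕ) : (cofree I).obj (op n) ⟶ I n :=
  Pi.π (fun m : Fin (n + 1) => I m) ⟨n, Nat.lt_succ_self n⟩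

theorem cofreeLift_last (I : ℕ → A) (X : ℕᵒᵖ ⥤ A) (f : ∀ m, X.obj (op m) ⟶ I m) (n : ℕ) :
    (cofreeLift I X f).app (op n) ≫ cofreeπ I n = f n := by
  refine (Pi.lift_π _ _).trans ?_
  exact (congrArg (· ≫ f n) (X.map_id (op n))).trans (Category.id_comp _)

theorem cofree_ext (I : ℕ → A) {X : ℕᵒᵖ ⥤ A} {f g : X ⟶ cofree I}
    (h : ∀ n, f.app (op n) ≫ cofreeπ I n = g.app (op n) ≫ cofreeπ I n) : f = g := by
  ext ⟨n⟩
  refine Pi.hom_ext _ _ fun m => ?_
  have hm : m.1 ≤ n := Nat.le_of_lt_succ m.2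
  have hπ : (cofree I).map (homOfLE hm).op ≫ cofreeπ I m.1 =
      Pi.π (fun j : Fin (n + 1) => I j) m := Pi.lift_π _ _
  have key : ∀ k : X ⟶ cofree I, X.map (homOfLE hm).op ≫ k.app (op m.1) ≫ cofreeπ I m.1 =
      k.app (op n) ≫ ((cofree I).map (homOfLE hm).op ≫ cofreeπ I m.1) := fun k => by
    rw [← Category.assoc, k.naturality, Category.assoc]
  have h2 := ((key f).symm.trans (congrArg _ (h m.1))).trans (key g)
  rw [hπ] at h2
  exact h2

theorem injective_cofree (I : ℕ → A) [∀ m, Injective (I m)] : Injective (cofree I) :=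
  ⟨fun {X Y} f g _ => by
    have : ∀ m : ℕ, Mono (g.app (op m)) := fun m =>
      (NatTrans.mono_iff_mono_app g).1 inferInstance _
    choose h hh using fun m => Injective.factors (f.app (op m) ≫ cofreeπ I m) (g.app (op m))
    refine ⟨cofreeLift I Y h, cofree_ext I fun n => ?_⟩
    rw [NatTrans.comp_app, Category.assoc, cofreeLift_last, hh]⟩

end

/-- For an abelian category A, the category of inverse systems (A_n)_n indexed by ℕ, i.e. of functors
ℕᵒᵖ ⥤ A, has enough injectives if and only if A has enough injectives. (The second assertion of the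
published proposition, describing the injective systems, is not part of this row.) -/
theorem result
    (A : Type u) [Category.{v} A] [Abelian A] :
    EnoughInjectives (ℕᵒᵖ ⥤ A) ↔ EnoughInjectives A := by
  constructor
  · intro h
    refine ⟨fun M => ?_⟩
    obtain ⟨J, hJ, e, he⟩ := (h.presentation (sky M)).some
    have hJ0 := injective_eval_zero J
    have this_mono : Mono (e.app (op 0)) := (NatTrans.mono_iff_mono_app e).1 he _
    have := isIso_skyι M
    have : Mono (skyApp e 0) := this_mono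
    exact ⟨⟨J.obj (op 0), hJ0, skyι M 0 rfl ≫ skyApp e 0, mono_comp _ _⟩⟩
  · intro h
    refine ⟨fun X => ?_⟩
    let I : ℕ → A := fun m => Injective.under (X.obj (op m))
    have : ∀ m, Injective (I m) := fun m => inferInstanceAs (Injective (Injective.under _))
    have hinj := injective_cofree I
    refine ⟨⟨cofree I, hinj, cofreeLift I X (fun m => Injective.ι _), ?_⟩⟩
    rw [NatTrans.mono_iff_mono_app]
    rintro ⟨n⟩
    exact mono_of_mono_fac (cofreeLift_last I X (fun m => Injective.ι _) n)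

end Groth.Agent.S14023
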