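import Groth.Statements.S14025
import Groth.Agent.EtModWLib.LocalEss
import Groth.Agent.EtModWLib.Triv

set_option autoImplicit false
open CategoryTheory CategoryTheory.Limits AlgebraicGeometry Opposite
universe u
open EtModW

namespace Groth.Agent.S14025

open Groth.Agent.EtModWLib

set_option backward.isDefEq.respectTransparency.types false in
attribute [local instance] Groth.Agent.ProEtS.Site.pCont Groth.Agent.ProEtS.Site.epsCont in
/-- A sheaf is a pullback from the étale site on an affine open with a stratification on which it is one. -/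
theorem essImage_fromSpec {Λ : Type (u + 1)} [CommRing Λ] {X : Scheme.{u}} (F : EtModW.ModP Λ X)
    {U : X.Opens} (hU : IsAffineOpen U) {m : ℕ} (T : Fin m → Scheme.{u}) (g : ∀ i, T i ⟶ X)
    [∀ i, IsImmersion (g i)]
    (hcons : ∀ i, Topology.IsConstructible ((Subtype.val : ↥(U : Set X) → X) ⁻¹' Set.range (g i)))
    (hun : (⋃ i, Set.range (g i)) = (U : Set X))
    (hg : ∀ i, (EtModW.epsPullMod Λ (T i)).essImage ((PullPBc.pullPMod Λ (g i)).obj F)) :
    (EtModW.epsPullMod Λ (Spec Γ(X, U))).essImage ((PullPBc.pullPMod Λ hU.fromSpec).obj F) := by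
  have hc : ∀ i, Topology.IsConstructible (hU.fromSpec ⁻¹' Set.range (g i)) := fun i =>
    ((hcons i).preimage_of_isOpenEmbedding (Scheme.Hom.isOpenEmbedding hU.isoSpec.inv) :)
  choose S hS using fun i => PrimeSpectrum.exists_constructibleSetData_iff.2 (hc i)
  let I := Σ i, Σ C : {C // C ∈ S i}, Option (Fin C.1.n)
  let v : I → Γ(X, U) := fun x => match x.2.2 with | none => x.2.1.1.f | some l => x.2.1.1.g l
  let e := Fintype.equivFin I
  refine Devissage.essImage_of_strata T g F hg (Fintype.card I) _ hU.fromSpec (v ∘ e.symm) ?_ ?_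
  · intro p
    have : hU.fromSpec p ∈ (U : Set X) := hU.range_fromSpec ▸ ⟨p, rfl⟩
    rw [← hun] at this
    exact Set.mem_iUnion.1 this
  · intro p q hpq i hp
    have key : ∀ x : I, v x ∈ p.asIdeal ↔ v x ∈ q.asIdeal := fun x => by simpa using hpq (e x)
    change p ∈ hU.fromSpec ⁻¹' Set.range (g i) at hp
    change q ∈ hU.fromSpec ⁻¹' Set.range (g i)
    rw [← hS i] at hp ⊢
    obtain ⟨C, hC, hp₁, hp₂⟩ := Set.mem_iUnion₂.1 hp
    refine Set.mem_iUnion₂.2 ⟨C, hC, ?_, fun hq => hp₂ (Set.singleton_subset_iff.2 ((key ⟨i, ⟨C, hC⟩, none⟩).2 (Set.singleton_subset_iff.1 hq)))⟩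
    rintro _ ⟨l, rfl⟩
    exact (key ⟨i, ⟨C, hC⟩, some l⟩).1 (hp₁ ⟨l, rfl⟩)

/-- Let X be a scheme, Λ a Noetherian commutative ring and F a sheaf of Λ-modules on the small pro-étale
site of X. Then F is constructible — isomorphic to the pro-étale pullback ε⁻¹E of a constructible
sheaf E of Λ-modules on the small étale site — exactly when each affine open U ⊆ X can be split into
finitely many constructible locally closed strata, the images of immersions g_i : T_i ⟶ X, such that
for each i the pullback of F to the small pro-étale site of T_i is isomorphic to the pro-étale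
pullback of a finite-type locally constant sheaf of Λ-modules on the small étale site of T_i.
(Continuity of the inclusions of étale into pro-étale sites and of the base-change functors between
pro-étale sites is carried as binders.) -/
theorem result
    (Λ : Type (u + 1)) [CommRing Λ] [IsNoetherianRing Λ]
    (X : Scheme.{u}) [∀ T : Scheme.{u}, ProEtS.EpsCont T]
    [∀ (T : Scheme.{u}) (g : T ⟶ X), ProEtS.PCont g]
    (F : EtModW.ModP Λ X) :
    (∃ E : EtModW.Mod Λ X, EtModW.IsConstructible Λ E ∧ Nonempty ((EtModW.epsPullMod Λ X).obj E ≅ F)) ↔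
      ∀ U : X.Opens, IsAffineOpen U →
        ∃ (m : ℕ) (T : Fin m → Scheme.{u}) (g : ∀ i, T i ⟶ X),
          (∀ i, IsImmersion (g i)) ∧
          (∀ i, Topology.IsConstructible ((Subtype.val : ↥(U : Set X) → X) ⁻¹' Set.range (fun t => (g i).base t))) ∧
          Pairwise (fun i j => Disjoint (Set.range (fun t => (g i).base t)) (Set.range (fun t => (g j).base t))) ∧
          (⋃ i, Set.range (fun t => (g i).base t)) = (U : Set X) ∧
          ∀ i, ∃ E : EtModW.Mod Λ (T i), EtModW.IsFTLocConst Λ E ∧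
            Nonempty ((EtModW.epsPullMod Λ (T i)).obj E ≅ (((ProEtS.bcP (g i)).sheafPullback (ModuleCat.{u + 1} Λ) (Scheme.ProEt.topology X) (Scheme.ProEt.topology (T i)))).obj F) := by
  constructor
  · rintro ⟨E, hE, ⟨e⟩⟩ U hU
    obtain ⟨m, T, g, himm, hcons, hdisj, hun, hloc⟩ := hE U hU
    exact ⟨m, T, g, himm, hcons, hdisj, hun, fun i => ⟨_, hloc i,
      ⟨((PullPBc.pullEpsIso (g i)).app E).symm ≪≫ (PullPBc.pullPMod Λ (g i)).mapIso e⟩⟩⟩
  · intro h
    have hess : (EtModW.epsPullMod Λ X).essImage F := by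
      refine LocalEss.essImage_of_openCover (κ := X.affineOpens) _ (fun U => U.2.fromSpec) (fun x => ?_) F fun U => ?_
      · obtain ⟨U, hU⟩ := Groth.Agent.ProEtS.Covers.affineOpens_cover X x
        exact ⟨U, by rw [U.2.range_fromSpec]; exact hU⟩
      · obtain ⟨m, T, g, himm, hcons, -, hun, hloc⟩ := h U.1 U.2
        exact essImage_fromSpec F U.2 T g hcons hun fun i => (hloc i).elim fun E hE => ⟨E, hE.2⟩
    obtain ⟨E₀, ⟨e⟩⟩ := hess
    refine ⟨E₀, fun U hU => ?_, ⟨e⟩⟩
    obtain ⟨m, T, g, himm, hcons, hdisj, hun, hloc⟩ := h U hU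
    refine ⟨m, T, g, himm, hcons, hdisj, hun, fun i => ?_⟩
    obtain ⟨E, hE, ⟨e'⟩⟩ := hloc i
    exact Groth.Agent.EtModWLib.isFTLocConst_of_iso ((fullyFaithfulEpsPullMod.preimageIso
      (((PullPBc.pullEpsIso (g i)).app E₀).symm ≪≫ (PullPBc.pullPMod Λ (g i)).mapIso e ≪≫ e'.symm)).symm) hE

end Groth.Agent.S14025
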