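import Groth.Statements.S1403
import Groth.Agent.FlatMisc.FlatFibreDimGen
import Groth.Agent.FibSemi.Basic
import Groth.Agent.TrdegDim.Basic

set_option autoImplicit false
universe u
open FlatMor

namespace Groth.Agent.S1403

/-- Let A → B be an injective local homomorphism of local domains with B essentially of finite type and
flat over A. Then dim(B / m_A B) + trdeg_{κ(A)} κ(B) = trdeg_A B; all three quantities are finite
here, and the statement gives them as natural numbers d, e with d + e the transcendence degree of B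
over A. -/
theorem result {A B : Type u} [CommRing A] [CommRing B] [IsDomain A] [IsDomain B] [IsLocalRing A] [IsLocalRing B]
    [Algebra A B] [IsLocalHom (algebraMap A B)] [FaithfulSMul A B] [Algebra.EssFiniteType A B] [Module.Flat A B] :
    ∃ d e : ℕ, ringKrullDim (B ⧸ Ideal.map (algebraMap A B) (IsLocalRing.maximalIdeal A)) = d ∧
      Algebra.trdeg (IsLocalRing.ResidueField A) (IsLocalRing.ResidueField B) = e ∧ Algebra.trdeg A B = (d + e : ℕ) := by
  classical
  let R := Algebra.EssFiniteType.subalgebra A B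
  let k := IsLocalRing.ResidueField A
  let m := IsLocalRing.maximalIdeal A
  let 𝔮 : Ideal R := (IsLocalRing.maximalIdeal B).comap (algebraMap R B)
  have hm𝔮 : m.map (algebraMap A R) ≤ 𝔮 := by
    rw [Ideal.map_le_iff_le_comap, Ideal.comap_comap, ← IsScalarTower.algebraMap_eq]
    intro x hx h
    exact hx (IsUnit.of_map (algebraMap A B) x h)
  haveI hloc : IsLocalization.AtPrime B 𝔮 := by
    have h : 𝔮.primeCompl = Algebra.EssFiniteType.submonoid A B := by
      ext x
      show x ∉ 𝔮 ↔ IsUnit (algebraMap R B x)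
      rw [Ideal.mem_comap, IsLocalRing.notMem_maximalIdeal]
    show IsLocalization 𝔮.primeCompl B
    rw [h]; infer_instance
  let J : Ideal R := m.map (algebraMap A R)
  let S := R ⧸ J
  letI algkS : Algebra k S := (Ideal.quotientMap J (algebraMap A R) Ideal.le_comap_map).toAlgebra
  haveI : IsScalarTower A k S := IsScalarTower.of_algebraMap_eq fun _ => rfl
  haveI : Algebra.FiniteType A S := Algebra.FiniteType.trans (R := A) (S := R) (A := S) inferInstance inferInstance
  haveI : Algebra.FiniteType k S := .of_restrictScalars_finiteType A k S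
  let mk : R →+* S := Ideal.Quotient.mk J
  let qb : Ideal S := 𝔮.map mk
  haveI hqb : qb.IsPrime := Ideal.map_isPrime_of_surjective Ideal.Quotient.mk_surjective (by rwa [Ideal.mk_ker])
  have hback : ∀ P : Ideal R, J ≤ P → (P.map mk).comap mk = P := fun P hP => by
    rw [Ideal.comap_map_of_surjective' _ Ideal.Quotient.mk_surjective, Ideal.mk_ker, sup_eq_left.2 hP]
  -- the residue field of `B`
  haveI : Algebra.FiniteType k (S ⧸ qb) := VarDim.finiteType_quotient k S qb
  have hker : J ≤ RingHom.ker ((IsLocalRing.residue B).comp (algebraMap R B)) := fun x hx => by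
    rw [RingHom.mem_ker, RingHom.comp_apply, IsLocalRing.residue_eq_zero_iff]
    exact hm𝔮 hx
  let ρ : S →+* IsLocalRing.ResidueField B := Ideal.Quotient.lift J _ hker
  have hρ : RingHom.ker ρ = qb := by
    refine Ideal.comap_injective_of_surjective mk Ideal.Quotient.mk_surjective ?_
    rw [hback 𝔮 hm𝔮]
    ext x
    show IsLocalRing.residue B (algebraMap R B x) = 0 ↔ algebraMap R B x ∈ IsLocalRing.maximalIdeal B
    exact IsLocalRing.residue_eq_zero_iff _
  letI algS' : Algebra (S ⧸ qb) (IsLocalRing.ResidueField B) :=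
    (Ideal.Quotient.lift qb ρ fun x hx => hρ.ge hx).toAlgebra
  haveI : IsScalarTower k (S ⧸ qb) (IsLocalRing.ResidueField B) := IsScalarTower.of_algebraMap_eq (R := k) (S := (S ⧸ qb)) (A := IsLocalRing.ResidueField B) fun c => by
    obtain ⟨c, rfl⟩ := IsLocalRing.residue_surjective (R := A) c
    show IsLocalRing.residue B (algebraMap A B c) = IsLocalRing.residue B (algebraMap R B (algebraMap A R c))
    rw [← IsScalarTower.algebraMap_apply A R B c]
  haveI : FaithfulSMul (S ⧸ qb) (IsLocalRing.ResidueField B) := (faithfulSMul_iff_algebraMap_injective _ _).mpr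
    (RingHom.lift_injective_of_ker_le_ideal _ (fun x hx => hρ.ge hx) hρ.le)
  haveI : Algebra.IsAlgebraic (S ⧸ qb) (IsLocalRing.ResidueField B) := ⟨fun z => by
    obtain ⟨b, rfl⟩ := IsLocalRing.residue_surjective z
    obtain ⟨⟨r, t⟩, ht⟩ := IsLocalization.surj 𝔮.primeCompl b
    let ι : R → (S ⧸ qb) := fun x => Ideal.Quotient.mk qb (mk x)
    have hι : ∀ x : R, algebraMap (S ⧸ qb) (IsLocalRing.ResidueField B) (ι x) = IsLocalRing.residue B (algebraMap R B x) :=
      fun x => by
      rw [RingHom.algebraMap_toAlgebra]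
      simp only [ι, ρ, mk]
      rw [Ideal.Quotient.lift_mk, Ideal.Quotient.lift_mk, RingHom.comp_apply]
    have ht0 : ι t ≠ 0 := fun h => t.2 ((hback 𝔮 hm𝔮).le (show mk (t : R) ∈ qb from Ideal.Quotient.eq_zero_iff_mem.mp h))
    refine IsAlgebraic.of_mul (mem_nonZeroDivisors_of_ne_zero
      (fun h : algebraMap (S ⧸ qb) (IsLocalRing.ResidueField B) (ι t) = 0 =>
        ht0 ((map_eq_zero_iff _ (FaithfulSMul.algebraMap_injective _ _)).mp h))) (isAlgebraic_algebraMap (ι t)) ?_
    rw [mul_comm, hι, ← map_mul]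
    exact (show algebraMap (S ⧸ qb) _ (ι r) = IsLocalRing.residue B (b * algebraMap R B t) by rw [hι, ht]) ▸
      isAlgebraic_algebraMap (ι r)⟩
  obtain ⟨e, -, he', -⟩ := VarDim.exists_ringKrullDim_eq_trdeg k (S ⧸ qb)
  have he : Algebra.trdeg k (IsLocalRing.ResidueField B) = e := by
    rw [← trdeg_add_eq k (S ⧸ qb) (A := IsLocalRing.ResidueField B), trdeg_eq_zero (R := (S ⧸ qb)), add_zero, he']
  have hr : Algebra.trdeg k qb.ResidueField = e := by
    haveI : FaithfulSMul (S ⧸ qb) qb.ResidueField :=
      (faithfulSMul_iff_algebraMap_injective _ _).mpr qb.injective_algebraMap_quotient_residueField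
    haveI : Algebra.IsAlgebraic (S ⧸ qb) qb.ResidueField := IsLocalization.isAlgebraic qb.ResidueField (nonZeroDivisors (S ⧸ qb))
    rw [← trdeg_add_eq k (S ⧸ qb) (A := qb.ResidueField), trdeg_eq_zero (R := (S ⧸ qb)), add_zero, he']
  haveI : IsNoetherianRing S := Algebra.FiniteType.isNoetherianRing k S
  obtain ⟨d, hd⟩ := ENat.ne_top_iff_exists.1 (Ideal.height_ne_top_of_isPrime (I := qb))
  have hdim : ringKrullDim (B ⧸ Ideal.map (algebraMap A B) m) = d := by
    have h1 : m.map (algebraMap A B) = J.map (algebraMap R B) := by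
      rw [Ideal.map_map, ← IsScalarTower.algebraMap_eq]
    haveI : IsLocalization.AtPrime (B ⧸ J.map (algebraMap R B)) qb := by
      have h2 : Algebra.algebraMapSubmonoid S 𝔮.primeCompl = qb.primeCompl := by
        ext y
        obtain ⟨y, rfl⟩ := Ideal.Quotient.mk_surjective y
        constructor
        · rintro ⟨x, hx, hxy⟩ hy
          refine hx ?_
          rw [← hback 𝔮 hm𝔮]
          show mk x ∈ qb
          exact (show mk x = mk y from hxy) ▸ hy
        · exact fun hy => ⟨y, fun h => hy (Ideal.mem_map_of_mem mk h), rfl⟩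
      show IsLocalization qb.primeCompl _
      rw [← h2]; infer_instance
    rw [ringKrullDim_eq_of_ringEquiv (Ideal.quotEquivOfEq h1),
      IsLocalization.AtPrime.ringKrullDim_eq_height qb (B ⧸ J.map (algebraMap R B)), ← hd]
    rfl
  refine ⟨d, e, hdim, he, ?_⟩
  -- trdeg of `B` is that of `R`
  haveI : FaithfulSMul R B := (faithfulSMul_iff_algebraMap_injective _ _).mpr Subtype.val_injective
  haveI : Algebra.IsAlgebraic R B := IsLocalization.isAlgebraic B 𝔮.primeCompl
  have hinj : Function.Injective (algebraMap A R) := fun x y h => FaithfulSMul.algebraMap_injective A B (by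
    rw [IsScalarTower.algebraMap_apply A R B, IsScalarTower.algebraMap_apply A R B y, h])
  haveI : FaithfulSMul A R := (faithfulSMul_iff_algebraMap_injective _ _).mpr hinj
  have hRB : Algebra.trdeg A B = Algebra.trdeg A R := by
    rw [← trdeg_add_eq A R (A := B), trdeg_eq_zero (R := R), add_zero]
  -- a component of the closed fibre of maximal dimension through `𝔮`
  obtain ⟨P, hP, hPq, hPdim⟩ := TrdegDim.exists_minimalPrime_eq qb e hr
  haveI := hP.1.1
  haveI : Algebra.FiniteType k (S ⧸ P) := VarDim.finiteType_quotient k S P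
  rw [← hd] at hPdim
  have hPdim' : ringKrullDim (S ⧸ P) = ((d + e : ℕ) : WithBot ℕ∞) := by
    rw [hPdim, Nat.cast_add]; rfl
  have hPtr : Algebra.trdeg k (S ⧸ P) = (d + e : ℕ) := VarDim.trdeg_eq_of_ringKrullDim_eq k (S ⧸ P) hPdim'
  apply le_antisymm
  · -- upper bound
    obtain ⟨g, hgq, hg⟩ : ∃ g : S, g ∉ qb ∧ ∀ P' ∈ minimalPrimes S, ¬ P' ≤ qb → g ∈ P' := by
      have hfin : {P' | P' ∈ minimalPrimes S ∧ ¬ P' ≤ qb}.Finite :=
        (minimalPrimes.finite_of_isNoetherianRing S).subset fun _ h => h.1
      have hch : ∀ P' : {P' | P' ∈ minimalPrimes S ∧ ¬ P' ≤ qb}, ∃ x, x ∈ P'.1 ∧ x ∉ qb :=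
        fun P' => SetLike.not_le_iff_exists.mp P'.2.2
      choose x hx using hch
      haveI := hfin.fintype
      refine ⟨∏ P', x P', fun h => ?_, fun P' h1 h2 => ?_⟩
      · obtain ⟨P', -, hP'⟩ := (Ideal.IsPrime.prod_mem_iff (hp := hqb)).mp h
        exact (hx P').2 hP'
      · exact Ideal.mem_of_dvd _ (Finset.dvd_prod_of_mem x (Finset.mem_univ ⟨P', h1, h2⟩)) (hx ⟨P', h1, h2⟩).1
    haveI : IsJacobsonRing S := isJacobsonRing_of_finiteType (A := k)
    obtain ⟨M, ⟨hqM, hM⟩, hgM⟩ : ∃ M : Ideal S, (qb ≤ M ∧ M.IsMaximal) ∧ g ∉ M := by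
      by_contra h
      push Not at h
      refine hgq ?_
      rw [← IsJacobsonRing.out' qb hqb.isRadical]
      exact Submodule.mem_sInf.mpr fun M hM => h M hM
    let Q : Ideal R := M.comap mk
    haveI hQ : Q.IsMaximal := Ideal.comap_isMaximal_of_surjective mk Ideal.Quotient.mk_surjective
    have hQm : Q.comap (algebraMap A R) = m := by
      refine ((IsLocalRing.maximalIdeal.isMaximal A).eq_of_le (Ideal.comap_ne_top _ hQ.ne_top) ?_).symm
      rw [← Ideal.map_le_iff_le_comap]
      exact le_trans (fun x hx => by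
        show mk x ∈ M
        rw [Ideal.Quotient.eq_zero_iff_mem.mpr hx]; exact zero_mem _) le_rfl
    obtain ⟨T, hT⟩ := exists_isTranscendenceBasis A R
    rw [hRB, ← hT.cardinalMk_eq_trdeg]
    refine Cardinal.card_le_of fun s => ?_
    by_contra hlt
    push Not at hlt
    have hind : DimSpec.Indep (⊥ : Ideal A) (⊥ : Ideal R) (fun i : Fin s.card => (((s.equivFin.symm i).1 : T) : R)) := by
      intro G hG hmem
      obtain ⟨i, hi⟩ := hG
      have h := (hT.1.comp _ (Subtype.val_injective.comp s.equivFin.symm.injective))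
      rw [algebraicIndependent_iff] at h
      exact hi (by rw [h G (Submodule.mem_bot _ |>.mp hmem)]; simp)
    obtain ⟨l, hlen, hl⟩ := DimSpec.exists_chain_of_indep (⊥ : Ideal A) (⟨⊥, Ideal.isPrime_bot⟩ : PrimeSpectrum R)
      (PrimeSpectrum.ext (Ideal.comap_bot_of_injective _ hinj)) _ hind
    have hbot : ∀ i, (l i).asIdeal.comap (algebraMap A R) = (⊥ : Ideal R).comap (algebraMap A R) := fun i => by
      rw [Ideal.comap_bot_of_injective _ hinj]; exact congrArg PrimeSpectrum.asIdeal (hl i).2
    have hle : ∀ l : LTSeries (PrimeSpectrum R), (∀ i, (l i).asIdeal.comap (algebraMap A R) = Q.comap (algebraMap A R)) →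
        l.last.asIdeal = Q → l.length ≤ d + e := by
      intro l hl hlast
      have hJ : ∀ i, J ≤ (l i).asIdeal := fun i => Ideal.map_le_iff_le_comap.mpr (by rw [hl i, hQm])
      haveI : (l.head.asIdeal.map mk).IsPrime :=
        Ideal.map_isPrime_of_surjective Ideal.Quotient.mk_surjective (by rw [Ideal.mk_ker]; exact hJ 0)
      obtain ⟨P', hP', hP'le⟩ := Ideal.exists_minimalPrimes_le (bot_le : (⊥ : Ideal S) ≤ l.head.asIdeal.map mk)
      haveI := hP'.1.1
      have hP'M : P' ≤ M := by
        refine hP'le.trans ((Ideal.map_mono (l.monotone (Fin.zero_le (Fin.last _)))).trans ?_)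
        show Ideal.map mk l.last.asIdeal ≤ M
        rw [hlast]; exact Ideal.map_comap_le
      have hP'q : P' ≤ qb := by
        by_contra h
        exact hgM (hP'M (hg P' hP' h))
      have h := TrdegDim.ringKrullDim_quotient_le qb P' hP'q e hr
      rw [← hd] at h
      have hall : ∀ i, P' ≤ (l i).asIdeal.map mk := fun i => hP'le.trans (Ideal.map_mono (l.monotone (Fin.zero_le i)))
      let π : R →+* S ⧸ P' := (Ideal.Quotient.mk P').comp mk
      have hπ : Function.Surjective π := Ideal.Quotient.mk_surjective.comp Ideal.Quotient.mk_surjective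
      have hkerπ : ∀ i, RingHom.ker π ≤ (l i).asIdeal := fun i x hx => by
        rw [← hback _ (hJ i), Ideal.mem_comap]
        exact hall i (Ideal.Quotient.eq_zero_iff_mem.mp hx)
      let l' : LTSeries (PrimeSpectrum (S ⧸ P')) := LTSeries.mk l.length
        (fun i => ⟨(l i).asIdeal.map π, Ideal.map_isPrime_of_surjective hπ (hkerπ i)⟩) fun i j hij => by
          refine lt_of_le_of_ne (Ideal.map_mono (f := π) (l.strictMono hij).le) fun hh => (l.strictMono hij).ne (PrimeSpectrum.ext ?_)
          have h1 := congrArg (fun z : PrimeSpectrum (S ⧸ P') => z.asIdeal.comap π) hh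
          simp only [Ideal.comap_map_of_surjective' π hπ] at h1
          rwa [sup_eq_left.2 (hkerπ i), sup_eq_left.2 (hkerπ j)] at h1
      have h2 : (l.length : WithBot ℕ∞) ≤ ringKrullDim (S ⧸ P') := Order.le_krullDim_iff.mpr ⟨l', rfl⟩
      have h3 := h2.trans h
      exact_mod_cast h3
    obtain ⟨l₀, h₀⟩ : ∃ l₀ : LTSeries (PrimeSpectrum R), s.card ≤ l₀.length ∧ l₀.head.asIdeal = ⊥ ∧
        ∀ i, (l₀ i).asIdeal.comap (algebraMap A R) = (⊥ : Ideal R).comap (algebraMap A R) := by
      by_cases h : l.head.asIdeal = ⊥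
      · exact ⟨l, hlen.ge, h, hbot⟩
      · refine ⟨l.cons ⟨⊥, Ideal.isPrime_bot⟩ (lt_of_le_of_ne bot_le fun hh => h (congrArg PrimeSpectrum.asIdeal hh).symm), ?_, ?_, fun i => ?_⟩
        · rw [RelSeries.cons_length, hlen]; omega
        · rw [RelSeries.head_cons]
        · obtain ⟨i', rfl⟩ : ∃ i' : Fin (l.length + 1 + 1), Fin.cast (by rw [RelSeries.cons_length]) i' = i :=
            ⟨Fin.cast (by rw [RelSeries.cons_length]) i, Fin.ext rfl⟩
          induction i' using Fin.cases with
          | zero => exact congrArg (fun z : PrimeSpectrum R => z.asIdeal.comap (algebraMap A R)) (RelSeries.head_cons _ _ _)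
          | succ j =>
            rw [RelSeries.cons_cast_succ]
            exact hbot j
    have := FibSemi.length_le_of_chain (A := A) Q (fun Q' hQ' hle' _ => (hQ.eq_of_le hQ'.ne_top hle').symm) hle l₀ h₀.2.1 h₀.2.2
    omega
  · -- lower bound
    obtain ⟨T, hT⟩ := exists_isTranscendenceBasis k (S ⧸ P)
    have hcard : Cardinal.mk _ = _ := hT.cardinalMk_eq_trdeg.trans hPtr
    obtain ⟨φ⟩ := Cardinal.mk_eq_nat_iff.mp hcard
    choose a ha using fun i => (Ideal.Quotient.mk_surjective.comp Ideal.Quotient.mk_surjective :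
      Function.Surjective ((Ideal.Quotient.mk P).comp mk)) ((φ.symm i : T) : S ⧸ P)
    let PR : Ideal R := P.comap mk
    have hPR : PR ≤ 𝔮 := by
      rw [← hback 𝔮 hm𝔮]; exact Ideal.comap_mono hPq
    have hJPR : J ≤ PR := fun x hx => by
      show mk x ∈ P
      rw [Ideal.Quotient.eq_zero_iff_mem.mpr hx]; exact zero_mem _
    have hPRm : PR.comap (algebraMap A R) = m :=
      ((IsLocalRing.maximalIdeal.isMaximal A).eq_of_le (Ideal.comap_ne_top _ (Ideal.IsPrime.ne_top inferInstance))
        (Ideal.map_le_iff_le_comap.mp hJPR)).symm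
    have hdisj : Disjoint (𝔮.primeCompl : Set R) (PR : Set R) :=
      Set.disjoint_left.mpr fun x hx hx' => hx (hPR hx')
    haveI := IsLocalization.isPrime_of_isPrime_disjoint 𝔮.primeCompl B PR inferInstance hdisj
    have hcomap : (PR.map (algebraMap R B)).comap (algebraMap R B) = PR :=
      IsLocalization.under_map_of_isPrime_disjoint 𝔮.primeCompl B (show PR.IsPrime from inferInstance) hdisj
    have hind : DimSpec.Indep m (PR.map (algebraMap R B)) (fun i => algebraMap R B (a i)) := by
      intro G hG hmem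
      rw [show MvPolynomial.aeval (fun i => algebraMap R B (a i)) G = algebraMap R B (MvPolynomial.aeval a G) from
        (congrFun (congrArg DFunLike.coe (MvPolynomial.comp_aeval a (IsScalarTower.toAlgHom A R B))) G).symm,
        ← Ideal.mem_comap, hcomap] at hmem
      obtain ⟨i, hi⟩ := hG
      have h1 := hT.1.comp _ φ.symm.injective
      rw [algebraicIndependent_iff] at h1
      have h2 := h1 (MvPolynomial.map (IsLocalRing.residue A) G) ?_
      · have h3 := congrArg (MvPolynomial.coeff i) h2
        rw [MvPolynomial.coeff_map, MvPolynomial.coeff_zero, IsLocalRing.residue_eq_zero_iff] at h3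
        exact hi h3
      · rw [show IsLocalRing.residue A = algebraMap A k from rfl, MvPolynomial.aeval_map_algebraMap]
        let θ : R →ₐ[A] S ⧸ P := (Ideal.Quotient.mkₐ A P).comp (Ideal.Quotient.mkₐ A J)
        rw [show (Subtype.val ∘ φ.symm) = fun i => θ (a i) from funext fun i => (ha i).symm, ← MvPolynomial.comp_aeval]
        exact Ideal.Quotient.eq_zero_iff_mem.mpr hmem
    obtain ⟨q', -, hq', hind'⟩ := FlatMisc.FlatFibreDimGen.indep_of_flat m (⊥ : Ideal A) bot_le
      (PR.map (algebraMap R B)) (by rw [IsScalarTower.algebraMap_eq A R B, ← Ideal.comap_comap, hcomap, hPRm]) _ hind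
    have hai : AlgebraicIndependent A fun i => algebraMap R B (a i) := by
      refine algebraicIndependent_iff.mpr fun G hG => ?_
      by_contra hne
      obtain ⟨i, hi⟩ := MvPolynomial.ne_zero_iff.mp hne
      exact hind' G ⟨i, fun h => hi h⟩ (by rw [hG]; exact zero_mem _)
    simpa using hai.lift_cardinalMk_le_trdeg

end Groth.Agent.S1403
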