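import Groth.Statements.S14031
import Groth.Agent.EtModWLib.ClosedOpenMod
import Groth.Agent.EtModWLib.ExtAdic
import Groth.Agent.S14028
import Groth.Agent.S14030
import Mathlib.Topology.NoetherianSpace

set_option autoImplicit false
open CategoryTheory CategoryTheory.Limits AlgebraicGeometry Opposite
universe u
open EtModW

namespace Groth.Agent.S14031

/-- Towers of quotients transport along isomorphisms of their sources. -/
theorem adicData_iso {Λ : Type (u + 1)} [CommRing Λ] {X : Scheme.{u}} (I : Ideal Λ)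
    {F F' : EtModW.ModP Λ X} (e : F' ≅ F) (P : EtModW.ModP Λ X → Prop)
    (h : ∃ (Q : ℕᵒᵖ ⥤ EtModW.ModP Λ X) (p : (Functor.const ℕᵒᵖ).obj F ⟶ Q),
      (∀ n : ℕ, ARSys.IsQuot (I ^ (n + 1)) (p.app (op n))) ∧ (∀ n : ℕ, P (Q.obj (op n))) ∧
        IsIso (limit.lift Q (Cone.mk F p))) :
    ∃ (Q : ℕᵒᵖ ⥤ EtModW.ModP Λ X) (p : (Functor.const ℕᵒᵖ).obj F' ⟶ Q),
      (∀ n : ℕ, ARSys.IsQuot (I ^ (n + 1)) (p.app (op n))) ∧ (∀ n : ℕ, P (Q.obj (op n))) ∧
        IsIso (limit.lift Q (Cone.mk F' p)) := by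
  obtain ⟨Q, p, hQ, hP, hiso⟩ := h
  refine ⟨Q, (Functor.const ℕᵒᵖ).map e.hom ≫ p, fun n => Groth.Agent.ARLib.quot_iso_left e.hom (hQ n), hP, ?_⟩
  rw [show limit.lift Q (Cone.mk F' ((Functor.const ℕᵒᵖ).map e.hom ≫ p)) = e.hom ≫ limit.lift Q (Cone.mk F p) from
    limit.hom_ext fun n => by rw [limit.lift_π, Category.assoc, limit.lift_π]; rfl]
  infer_instance

/-- Let X be a Noetherian scheme, Λ a Noetherian commutative ring and I = (a) a principal ideal of Λ;
let j : U ⟶ X be an open immersion and i : Z ⟶ X a closed immersion with complementary images.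
Assume that étale extension by zero along j and étale direct image along i send constructible
sheaves of Λ-modules to constructible sheaves (standard facts, carried as hypotheses). If F is a
sheaf of Λ-modules on the small pro-étale site of X whose pullbacks to the small pro-étale sites of
U and of Z are both I-adic pro-étale sheaves (each has a compatible tower of quotient maps modulo
I^(n+1) with targets isomorphic to pro-étale pullbacks of constructible étale sheaves and is the
limit of its tower by the canonical map), then F itself is an I-adic pro-étale sheaf. (The published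
statement allows an arbitrary ideal; this row states the case of a principal ideal I = (a).
Continuity of the site functors involved and existence of the étale extension by zero are carried as
binders.) -/
theorem result
    (Λ : Type (u + 1)) [CommRing Λ] [IsNoetherianRing Λ] (a : Λ)
    {U Z X : Scheme.{u}} [IsNoetherian X]
    (j : U ⟶ X) [IsOpenImmersion j] [QuasiCompact j] [hje : Etale j] [WeaklyEtale j]
    (i : Z ⟶ X) [IsClosedImmersion i]
    (hUZ : Set.range (fun z => i.base z) = (Set.range (fun t => j.base t))ᶜ)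
    [ProEtS.EpsCont U] [ProEtS.EpsCont Z] [ProEtS.EpsCont X]
    [ProEtS.JPCont j] [ProEtS.PCont j] [ProEtS.PCont i]
    [(MorphismProperty.Over.map (P := EtCoh.etaleMP.{u}) ⊤ (f := j) hje).IsContinuous U.smallEtaleTopology X.smallEtaleTopology]
    [((MorphismProperty.Over.map (P := EtCoh.etaleMP.{u}) ⊤ (f := j) hje).sheafPushforwardContinuous (ModuleCat.{u + 1} Λ) U.smallEtaleTopology X.smallEtaleTopology).IsRightAdjoint]
    (hext : ∀ E : EtModW.Mod Λ U, EtModW.IsConstructible Λ E →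
      EtModW.IsConstructible Λ (((MorphismProperty.Over.map (P := EtCoh.etaleMP.{u}) ⊤ (f := j) hje).sheafPullback (ModuleCat.{u + 1} Λ) U.smallEtaleTopology X.smallEtaleTopology).obj E))
    (hpush : ∀ E : EtModW.Mod Λ Z, EtModW.IsConstructible Λ E →
      EtModW.IsConstructible Λ ((EtModW.push Λ i).obj E))
    (F : EtModW.ModP Λ X)
    (hU : (∃ (Q : ℕᵒᵖ ⥤ EtModW.ModP Λ U) (p : (Functor.const ℕᵒᵖ).obj (((ProEtS.bcP j).sheafPullback (ModuleCat.{u + 1} Λ) (Scheme.ProEt.topology X) (Scheme.ProEt.topology U)).obj F) ⟶ Q),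
        (∀ n : ℕ, ARSys.IsQuot ((Ideal.span {a}) ^ (n + 1)) (p.app (op n))) ∧
        (∀ n : ℕ, ∃ E : EtModW.Mod Λ U, EtModW.IsConstructible Λ E ∧
          Nonempty ((EtModW.epsPullMod Λ U).obj E ≅ Q.obj (op n))) ∧
        IsIso (limit.lift Q (Cone.mk (((ProEtS.bcP j).sheafPullback (ModuleCat.{u + 1} Λ) (Scheme.ProEt.topology X) (Scheme.ProEt.topology U)).obj F) p))))
    (hZ : (∃ (Q : ℕᵒᵖ ⥤ EtModW.ModP Λ Z) (p : (Functor.const ℕᵒᵖ).obj (((ProEtS.bcP i).sheafPullback (ModuleCat.{u + 1} Λ) (Scheme.ProEt.topology X) (Scheme.ProEt.topology Z)).obj F) ⟶ Q),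
        (∀ n : ℕ, ARSys.IsQuot ((Ideal.span {a}) ^ (n + 1)) (p.app (op n))) ∧
        (∀ n : ℕ, ∃ E : EtModW.Mod Λ Z, EtModW.IsConstructible Λ E ∧
          Nonempty ((EtModW.epsPullMod Λ Z).obj E ≅ Q.obj (op n))) ∧
        IsIso (limit.lift Q (Cone.mk (((ProEtS.bcP i).sheafPullback (ModuleCat.{u + 1} Λ) (Scheme.ProEt.topology X) (Scheme.ProEt.topology Z)).obj F) p)))) :
    (∃ (Q : ℕᵒᵖ ⥤ EtModW.ModP Λ X) (p : (Functor.const ℕᵒᵖ).obj F ⟶ Q),
      (∀ n : ℕ, ARSys.IsQuot ((Ideal.span {a}) ^ (n + 1)) (p.app (op n))) ∧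
      (∀ n : ℕ, ∃ E : EtModW.Mod Λ X, EtModW.IsConstructible Λ E ∧
        Nonempty ((EtModW.epsPullMod Λ X).obj E ≅ Q.obj (op n))) ∧
      IsIso (limit.lift Q (Cone.mk F p))) := by
  let adj := (Groth.Agent.S0742.compBcAdj j).sheafPushforwardContinuous (E := ModuleCat.{u + 1} Λ)
    (Scheme.ProEt.topology U) (Scheme.ProEt.topology X)
  let eU := (adj.leftAdjointUniq ((ProEtS.bcP j).sheafAdjunctionContinuous (ModuleCat.{u + 1} Λ)
    (Scheme.ProEt.topology X) (Scheme.ProEt.topology U))).app F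
  have hU' := adicData_iso ((Ideal.span {a})) eU
    (fun Q => ∃ E : EtModW.Mod Λ U, EtModW.IsConstructible Λ E ∧ Nonempty ((EtModW.epsPullMod Λ U).obj E ≅ Q)) hU
  have hc : Set.range j = (Set.range i)ᶜ := by
    rw [show Set.range i = (Set.range j)ᶜ from hUZ, compl_compl]
  have hret : IsRetrocompact (Set.range (fun z => i.base z))ᶜ :=
    fun V _ _ => TopologicalSpace.NoetherianSpace.isCompact _
  obtain ⟨S, hS, hS₂, hS₁, hS₃⟩ := Groth.Agent.EtModWLib.ClosedOpenMod.exists_shortExact i j hc F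
  have h1 := Groth.Agent.S14030.result Λ (Ideal.span {a}) j (hje := hje) hext _ hU'
  have h3 := Groth.Agent.S14028.result Λ (Ideal.span {a}) i hret hpush _ hZ
  subst hS₂
  exact Groth.Agent.EtModWLib.ExtAdic.adicP_extension a hS (by rw [hS₁]; exact h1) (by rw [hS₃]; exact h3)

end Groth.Agent.S14031
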