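import Groth.Statements.S14032
import Mathlib

set_option autoImplicit false
universe u v
open W4c1frobunstiva

namespace Groth.Agent.S14032

open TensorProduct in
theorem span_of_quot {R : Type u} [CommRing R] {M : Type v} [AddCommGroup M] [Module R M]
    (n : Ideal R) (hn : IsNilpotent n) (N : Submodule R M)
    (h : ⊤ ≤ N ⊔ n • (⊤ : Submodule R M)) : N = ⊤ := by
  obtain ⟨k, hk⟩ := hn
  have : ∀ j : ℕ, ⊤ ≤ N ⊔ (n ^ j) • (⊤ : Submodule R M) := by
    intro j
    induction j with
    | zero => simp
    | succ j ih =>
      refine h.trans (sup_le le_sup_left ?_)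
      refine (Submodule.smul_mono le_rfl ih).trans ?_
      rw [Submodule.smul_sup, pow_succ', ← Submodule.smul_assoc]
      exact sup_le_sup_right Submodule.smul_le_right _
  rw [eq_top_iff]
  have h2 := this k
  rw [hk] at h2
  simpa using h2


open TensorProduct in
/-- Let R be a commutative Noetherian ring with nilradical n, M an R-module and r a natural number. Then
M is NR-free of rank r — generated by r elements such that every linear relation among them has
nilpotent coefficients — if and only if (R/n) ⊗_R M is free of rank r over R/n, in the sense of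
admitting a basis indexed by r elements. (The published statement assumes M finitely generated and
also gives the converse when R is local; over a Noetherian ring the nilradical is nilpotent, the
case used here, and finite generation is not needed.) -/
theorem result (R : Type u) [CommRing R]
    [IsNoetherianRing R] (M : Type v) [AddCommGroup M] [Module R M] (r : ℕ) :
    W4c1frobunstiva.IsNRFree R M r ↔
      Nonempty (Module.Basis (Fin r) (R ⧸ nilradical R) ((R ⧸ nilradical R) ⊗[R] M)) := by
  classical
  set n := nilradical R with hn
  have hnil : IsNilpotent n := IsNoetherianRing.isNilpotent_nilradical R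
  let q := TensorProduct.quotTensorEquivQuotSMul (R := R) M n
  constructor
  · rintro ⟨m, hsp, hrel⟩
    let e : Fin r → (R ⧸ n) ⊗[R] M := fun i => (1 : R ⧸ n) ⊗ₜ[R] m i
    have hli : LinearIndependent (R ⧸ n) e := by
      rw [Fintype.linearIndependent_iff]
      intro a ha i
      choose a' ha' using fun j => Ideal.Quotient.mk_surjective (I := n) (a j)
      have h1 : (∑ j, a' j • m j) ∈ n • (⊤ : Submodule R M) := by
        rw [← Submodule.Quotient.mk_eq_zero, ← TensorProduct.quotTensorEquivQuotSMul_mk_one_tmul n,
          LinearEquiv.map_eq_zero_iff, TensorProduct.tmul_sum, ← ha]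
        refine Finset.sum_congr rfl fun j _ => ?_
        simp only [e, ← ha' j, TensorProduct.tmul_smul]
        rw [TensorProduct.smul_tmul', TensorProduct.smul_tmul']
        congr 1
      rw [← hsp, Submodule.mem_ideal_smul_span_iff_exists_sum n m] at h1
      obtain ⟨c, hc, hcs⟩ := h1
      rw [Finsupp.sum_fintype _ _ (by simp)] at hcs
      have h2 : ∑ j, (a' j - c j) • m j = 0 := by
        simp only [sub_smul, Finset.sum_sub_distrib, hcs, sub_self]
      have h3 : a' i - c i ∈ n := mem_nilradical.2 (hrel _ h2 i)
      rw [← ha' i, Ideal.Quotient.eq_zero_iff_mem]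
      simpa using n.add_mem h3 (hc i)
    have hspan : ⊤ ≤ Submodule.span (R ⧸ n) (Set.range e) := by
      rintro x -
      induction x with
      | zero => exact Submodule.zero_mem _
      | add u v hu hv => exact Submodule.add_mem _ hu hv
      | tmul a y =>
        have hy : y ∈ Submodule.span R (Set.range m) := hsp ▸ Submodule.mem_top
        rw [Submodule.mem_span_range_iff_exists_fun] at hy
        obtain ⟨c, rfl⟩ := hy
        rw [TensorProduct.tmul_sum]
        refine Submodule.sum_mem _ fun j _ => ?_
        have : a ⊗ₜ[R] (c j • m j) = (c j • a) • e j := by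
          simp only [e, TensorProduct.smul_tmul', smul_eq_mul, mul_one, TensorProduct.smul_tmul]
        rw [this]
        exact Submodule.smul_mem _ _ (Submodule.subset_span ⟨j, rfl⟩)
    exact ⟨Module.Basis.mk hli hspan⟩
  · rintro ⟨b⟩
    choose m hm using fun i => Submodule.Quotient.mk_surjective (n • (⊤ : Submodule R M)) (q (b i))
    have hm' : ∀ i, b i = (1 : R ⧸ n) ⊗ₜ[R] m i := fun i => by
      apply q.injective
      rw [← hm i]
      exact (TensorProduct.quotTensorEquivQuotSMul_mk_one_tmul n (m i)).symm
    refine ⟨m, span_of_quot n hnil _ ?_, ?_⟩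
    · rintro x -
      have hx := b.sum_repr ((1 : R ⧸ n) ⊗ₜ[R] x)
      choose c hc using fun j => Ideal.Quotient.mk_surjective (I := n)
        (b.repr ((1 : R ⧸ n) ⊗ₜ[R] x) j)
      have h1 : (1 : R ⧸ n) ⊗ₜ[R] (x - ∑ j, c j • m j) = 0 := by
        rw [TensorProduct.tmul_sub, TensorProduct.tmul_sum, sub_eq_zero, ← hx]
        refine Finset.sum_congr rfl fun j _ => ?_
        rw [hm', ← hc j, TensorProduct.tmul_smul, TensorProduct.smul_tmul', TensorProduct.smul_tmul']
        congr 1
      rw [← q.map_eq_zero_iff, TensorProduct.quotTensorEquivQuotSMul_mk_one_tmul,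
        Submodule.Quotient.mk_eq_zero] at h1
      rw [← sub_add_cancel x (∑ j, c j • m j), add_comm]
      exact Submodule.add_mem_sup (Submodule.sum_mem _ fun j _ =>
        Submodule.smul_mem _ _ (Submodule.subset_span ⟨j, rfl⟩)) h1
    · intro a ha i
      have h1 : ∑ j, (Ideal.Quotient.mk n (a j)) • b j = 0 := by
        have h2 := congrArg (fun z => (1 : R ⧸ n) ⊗ₜ[R] z) ha
        simp only [TensorProduct.tmul_sum, TensorProduct.tmul_zero] at h2
        rw [← h2]
        refine Finset.sum_congr rfl fun j _ => ?_
        rw [hm', TensorProduct.tmul_smul, TensorProduct.smul_tmul', TensorProduct.smul_tmul']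
        congr 1
      have h3 := Fintype.linearIndependent_iff.1 b.linearIndependent _ h1 i
      rwa [Ideal.Quotient.eq_zero_iff_mem, hn, mem_nilradical] at h3

end Groth.Agent.S14032
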