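import Groth.Statements.S14033
import Mathlib

set_option autoImplicit false
universe u v
open W4c1frobunstiva

namespace Groth.Agent.S14033

open DualNumber Pointwise

variable {R : Type u} [CommRing R] {M : Type v}
    [AddCommGroup M] [Module R[ε] M] [Module R M] [IsScalarTower R R[ε] M]

lemma decomp (x : R[ε]) : x = algebraMap R R[ε] x.fst + algebraMap R R[ε] x.snd * ε := by
  ext <;> simp [TrivSqZeroExt.algebraMap_eq_inl]

lemma smul_decomp (x : R[ε]) (m : M) : x • m = x.fst • m + x.snd • ((ε : R[ε]) • m) := by
  conv_lhs => rw [decomp x]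
  rw [add_smul, mul_smul, algebraMap_smul, algebraMap_smul]

lemma eps_mem (m : M) : (ε : R[ε]) • m ∈ (ε : R[ε]) • (⊤ : Submodule R[ε] M) :=
  Submodule.smul_mem_pointwise_smul m _ _ trivial

lemma mem_eps {x : M} (hx : x ∈ (ε : R[ε]) • (⊤ : Submodule R[ε] M)) : ∃ m, (ε : R[ε]) • m = x := by
  obtain ⟨m, -, hm⟩ := (Submodule.mem_smul_pointwise_iff_exists _ _ _).1 hx
  exact ⟨m, hm⟩

lemma eps_eps (m : M) : (ε : R[ε]) • (ε : R[ε]) • m = 0 := by
  rw [← mul_smul, DualNumber.eps_mul_eps, zero_smul]

lemma eps_smul_comm (a : R) (m : M) : (ε : R[ε]) • a • m = a • (ε : R[ε]) • m := smul_comm _ _ _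

theorem fwd {r : ℕ} (b : Module.Basis (Fin r) R[ε] M) :
    Nonempty (Module.Basis (Fin r) R (M ⧸ ((ε : R[ε]) • (⊤ : Submodule R[ε] M)))) ∧
      Nonempty (Module.Basis (Fin r) R
        (((ε : R[ε]) • (⊤ : Submodule R[ε] M)).restrictScalars R)) := by
  classical
  set P := (ε : R[ε]) • (⊤ : Submodule R[ε] M) with hP
  constructor
  · let e : Fin r → M ⧸ P := fun i => Submodule.Quotient.mk (b i)
    have hli : LinearIndependent R e := by
      rw [Fintype.linearIndependent_iff]
      intro a ha i
      have h1 : (∑ j, a j • b j) ∈ P := by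
        rw [← Submodule.Quotient.mk_eq_zero, ← Submodule.mkQ_apply, map_sum]
        simpa [e, Submodule.Quotient.mk_smul] using ha
      obtain ⟨m, hm⟩ := mem_eps h1
      have h2 : b.repr ((ε : R[ε]) • m) i = algebraMap R R[ε] (a i) := by
        rw [hm, map_sum, Finset.sum_apply']
        simp_rw [← algebraMap_smul R[ε] (a _) (b _), map_smul, Finsupp.smul_apply,
          Module.Basis.repr_self, Finsupp.single_apply]
        simp
      rw [map_smul, Finsupp.smul_apply, smul_eq_mul] at h2
      have h3 := congrArg TrivSqZeroExt.fst h2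
      simpa [TrivSqZeroExt.algebraMap_eq_inl] using h3.symm
    have hsp : ⊤ ≤ Submodule.span R (Set.range e) := by
      rintro y -
      obtain ⟨x, rfl⟩ := Submodule.Quotient.mk_surjective P y
      rw [← b.sum_repr x, ← Submodule.mkQ_apply, map_sum]
      refine Submodule.sum_mem _ fun i _ => ?_
      rw [smul_decomp, map_add]
      refine Submodule.add_mem _ ?_ ?_
      · have : P.mkQ ((b.repr x i).fst • b i) = (b.repr x i).fst • e i := rfl
        rw [this]
        exact Submodule.smul_mem _ _ (Submodule.subset_span ⟨i, rfl⟩)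
      · have : P.mkQ ((b.repr x i).snd • (ε : R[ε]) • b i) = 0 := by
          rw [Submodule.mkQ_apply, Submodule.Quotient.mk_eq_zero]
          exact Submodule.smul_of_tower_mem _ _ (eps_mem _)
        rw [this]
        exact Submodule.zero_mem _
    exact ⟨Module.Basis.mk hli hsp⟩
  · let e : Fin r → P.restrictScalars R := fun i => ⟨(ε : R[ε]) • b i, eps_mem _⟩
    have hli : LinearIndependent R e := by
      rw [Fintype.linearIndependent_iff]
      intro a ha i
      have h1 : (∑ j, (algebraMap R R[ε] (a j) * ε) • b j) = 0 := by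
        have := congrArg Subtype.val ha
        simp only [Submodule.coe_sum, Submodule.coe_smul_of_tower, ZeroMemClass.coe_zero, e] at this
        simpa [mul_smul] using this
      have h2 := Fintype.linearIndependent_iff.1 b.linearIndependent _ h1 i
      have h3 := congrArg TrivSqZeroExt.snd h2
      simpa [TrivSqZeroExt.algebraMap_eq_inl] using h3
    have hsp : ⊤ ≤ Submodule.span R (Set.range e) := by
      rintro ⟨y, hy⟩ -
      obtain ⟨m, rfl⟩ := mem_eps hy
      have : (⟨(ε : R[ε]) • m, hy⟩ : P.restrictScalars R) = ∑ i, (b.repr m i).fst • e i := by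
        refine Subtype.ext ?_
        simp only [Submodule.coe_sum, Submodule.coe_smul_of_tower, e]
        conv_lhs => rw [← b.sum_repr m, Finset.smul_sum]
        refine Finset.sum_congr rfl fun i _ => ?_
        rw [smul_decomp (b.repr m i), smul_add, eps_smul_comm, eps_smul_comm, eps_eps, smul_zero,
          add_zero]
      rw [this]
      exact Submodule.sum_mem _ fun i _ =>
        Submodule.smul_mem _ _ (Submodule.subset_span ⟨i, rfl⟩)
    exact ⟨Module.Basis.mk hli hsp⟩

theorem bwd {r : ℕ} (c : Module.Basis (Fin r) R (M ⧸ ((ε : R[ε]) • (⊤ : Submodule R[ε] M))))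
    (d : Module.Basis (Fin r) R (((ε : R[ε]) • (⊤ : Submodule R[ε] M)).restrictScalars R)) :
    Nonempty (Module.Basis (Fin r) R[ε] M) := by
  classical
  set P := (ε : R[ε]) • (⊤ : Submodule R[ε] M) with hP
  choose m hm using fun i => Submodule.Quotient.mk_surjective P (c i)
  let g : Fin r → P.restrictScalars R := fun i => ⟨(ε : R[ε]) • m i, eps_mem _⟩
  have hdec : ∀ x : M, x - ∑ i, c.repr (Submodule.Quotient.mk x) i • m i ∈ P := by
    intro x
    rw [← Submodule.Quotient.mk_eq_zero, ← Submodule.mkQ_apply, map_sub, map_sum, sub_eq_zero]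
    have : ∀ i, P.mkQ (c.repr (Submodule.Quotient.mk x) i • m i) =
        c.repr (Submodule.Quotient.mk x) i • c i := fun i => by
      rw [← hm i]; rfl
    simp_rw [this]
    exact (c.sum_repr _).symm
  have hgspan : ∀ x : M, (ε : R[ε]) • x = ∑ i, c.repr (Submodule.Quotient.mk x) i •
      (ε : R[ε]) • m i := by
    intro x
    obtain ⟨y, hy⟩ := mem_eps (hdec x)
    have := congrArg ((ε : R[ε]) • ·) hy
    simp only [eps_eps] at this
    rw [smul_sub, eq_comm, sub_eq_zero, Finset.smul_sum] at this
    rw [this]
    exact Finset.sum_congr rfl fun i _ => eps_smul_comm _ _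
  have hsur : Function.Surjective (Fintype.linearCombination R g) := by
    rintro ⟨y, hy⟩
    obtain ⟨x, rfl⟩ := mem_eps hy
    refine ⟨fun i => c.repr (Submodule.Quotient.mk x) i, Subtype.ext ?_⟩
    rw [Fintype.linearCombination_apply]
    simp only [Submodule.coe_sum, Submodule.coe_smul_of_tower, g]
    exact (hgspan x).symm
  let φ : (Fin r → R) →ₗ[R] (Fin r → R) :=
    d.equivFun.toLinearMap.comp (Fintype.linearCombination R g)
  have hφ : Function.Injective φ :=
    OrzechProperty.injective_of_surjective_endomorphism φ (d.equivFun.surjective.comp hsur)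
  have ginj : Function.Injective (Fintype.linearCombination R g) := fun u v huv =>
    hφ (by simp only [φ, LinearMap.comp_apply, huv])
  have hli : LinearIndependent R[ε] m := by
    rw [Fintype.linearIndependent_iff]
    intro x hx i
    rw [Finset.sum_congr rfl (fun j _ => smul_decomp (x j) (m j)), Finset.sum_add_distrib] at hx
    have h1 : ∀ j, (x j).fst = 0 := by
      have h1 : (∑ j, (x j).fst • m j) ∈ P := by
        rw [eq_neg_of_add_eq_zero_left hx]
        exact P.neg_mem (P.sum_mem fun j _ => Submodule.smul_of_tower_mem _ _ (eps_mem _))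
      rw [← Submodule.Quotient.mk_eq_zero, ← Submodule.mkQ_apply, map_sum] at h1
      have : ∀ j, P.mkQ ((x j).fst • m j) = (x j).fst • c j := fun j => by rw [← hm j]; rfl
      simp_rw [this] at h1
      exact Fintype.linearIndependent_iff.1 c.linearIndependent _ h1
    have h2 : ∀ j, (x j).snd = 0 := by
      have h3 : Fintype.linearCombination R g (fun j => (x j).snd) = 0 := by
        refine Subtype.ext ?_
        rw [Fintype.linearCombination_apply]
        simp only [Submodule.coe_sum, Submodule.coe_smul_of_tower, g, ZeroMemClass.coe_zero]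
        simpa [h1] using hx
      exact fun j => congrFun (ginj (h3.trans (map_zero _).symm)) j
    exact TrivSqZeroExt.ext (h1 i) (h2 i)
  have hsp : ⊤ ≤ Submodule.span R[ε] (Set.range m) := by
    rintro x -
    obtain ⟨y, hy⟩ := mem_eps (hdec x)
    rw [eq_add_of_sub_eq hy.symm]
    refine Submodule.add_mem _ ?_ ?_
    · rw [hgspan y]
      exact Submodule.sum_mem _ fun i _ => Submodule.smul_of_tower_mem _ _
        (Submodule.smul_mem _ _ (Submodule.subset_span ⟨i, rfl⟩))
    · exact Submodule.sum_mem _ fun i _ => Submodule.smul_of_tower_mem _ _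
        (Submodule.subset_span ⟨i, rfl⟩)
  exact ⟨Module.Basis.mk hli hsp⟩


open DualNumber Pointwise in
/-- Let R be a commutative ring, R[ε] its ring of dual numbers (ε² = 0), M an R[ε]-module and r a
natural number. Then M is free of rank r over R[ε] (admits a basis of r elements) if and only if the
R-modules M/εM and εM are both free of rank r. (The published statement concerns a coherent sheaf on
the product of a scheme S with Spec ℤ[ε] and local freeness of rank r; that assertion is local, and
this row is its form over one ring, with no finiteness assumption on M and no hypothesis on R.) -/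
theorem result (R : Type u) [CommRing R] (M : Type v)
    [AddCommGroup M] [Module R[ε] M] [Module R M] [IsScalarTower R R[ε] M] (r : ℕ) :
    Nonempty (Module.Basis (Fin r) R[ε] M) ↔
      (Nonempty (Module.Basis (Fin r) R (M ⧸ ((ε : R[ε]) • (⊤ : Submodule R[ε] M)))) ∧
        Nonempty (Module.Basis (Fin r) R (((ε : R[ε]) • (⊤ : Submodule R[ε] M)).restrictScalars R))) := by
  constructor
  · rintro ⟨b⟩
    exact fwd b
  · rintro ⟨⟨c⟩, ⟨d⟩⟩
    exact bwd c d

end Groth.Agent.S14033
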