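import Groth.Statements.S14034
import Mathlib

set_option autoImplicit false
universe u
open W4c1frobunstiva

namespace Groth.Agent.S14034

/-- The kernel of a surjection of free modules over a local ring is free of the expected rank. -/
theorem ker_basis {R : Type u} [CommRing R] [IsNoetherianRing R] [IsLocalRing R] {r t : ℕ}
    (ψ : (Fin r → R) →ₗ[R] (Fin t → R)) (hψ : Function.Surjective ψ) :
    t ≤ r ∧ Nonempty (Module.Basis (Fin (r - t)) R (LinearMap.ker ψ)) ∧
      ∃ σ : (Fin t → R) →ₗ[R] (Fin r → R), ∀ y, ψ (σ y) = y := by
  obtain ⟨σ, hσ⟩ := ψ.exists_rightInverse_of_surjective (LinearMap.range_eq_top.2 hψ)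
  have hσ' : ∀ y, ψ (σ y) = y := fun y => congrArg (fun f => f y) hσ
  let e : (Fin r → R) ≃ₗ[R] LinearMap.ker ψ × (Fin t → R) :=
    { toFun := fun x => (⟨x - σ (ψ x), by simp [hσ']⟩, ψ x)
      invFun := fun p => p.1.1 + σ p.2
      map_add' := fun x y => by
        refine Prod.ext (Subtype.ext ?_) (map_add _ _ _)
        simp only [map_add, Prod.fst_add, Submodule.coe_add]
        abel
      map_smul' := fun c x => by
        refine Prod.ext (Subtype.ext ?_) (map_smul _ _ _)
        simp [smul_sub]
      left_inv := fun x => by simp
      right_inv := fun p => by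
        have hp : ψ (p.1 : Fin r → R) = 0 := p.1.2
        refine Prod.ext (Subtype.ext ?_) ?_ <;> simp [hσ', hp] }
  haveI : Module.Finite R (LinearMap.ker ψ) :=
    Module.Finite.iff_fg.2 (IsNoetherian.noetherian _)
  haveI : Module.Flat R (LinearMap.ker ψ) := by
    haveI : Module.Projective R (LinearMap.ker ψ) :=
      Module.Projective.of_split ((LinearMap.ker ψ).subtype)
        ((LinearMap.fst R _ _).comp e.toLinearMap) (by
          ext x : 1
          refine Subtype.ext ?_
          have hx : ψ (x : Fin r → R) = 0 := x.2
          simp [e, hx])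
    infer_instance
  haveI : Module.Free R (LinearMap.ker ψ) := Module.free_of_flat_of_isLocalRing
  have hrank := e.finrank_eq
  rw [Module.finrank_prod, Module.finrank_fin_fun, Module.finrank_fin_fun] at hrank
  refine ⟨by omega, ⟨(Module.finBasis R (LinearMap.ker ψ)).reindex (finCongr (by omega))⟩, σ, hσ'⟩

theorem nr_of_basis {R : Type u} [CommRing R] {M : Type*} [AddCommGroup M] [Module R M] {r : ℕ}
    (b : Module.Basis (Fin r) R M) : W4c1frobunstiva.IsNRFree R M r :=
  ⟨b, b.span_eq, fun a ha i => by
    rw [Fintype.linearIndependent_iff.1 b.linearIndependent a ha i]; exact IsNilpotent.zero⟩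


/-- Let R be a Noetherian local ring and f an element of R whose annihilator consists of nilpotent
elements (a f = 0 forces a nilpotent), r, s and l ≤ s natural numbers, N the quotient of the free
module R^s by the submodule spanned by f e_1, …, f e_l (e_i the standard basis vectors), and φ : R^r
→ N a surjective linear map. Then the kernel of φ is NR-free of rank r + l − s: it is generated by r
+ l − s elements every linear relation among which has nilpotent coefficients; and when l = 0 the
kernel is free of rank r − s. (The published statement takes R Noetherian with irreducible spectrum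
and R_red a domain, not necessarily local, and f arbitrary. Over the coordinate ring of the real
2-sphere the kernel of (x, y, z) : R³ → R is not free, and over k[x, y]/(y², xy) localised at (x, y)
with f = y the kernel of R → R/(y) is spanned by y with the non-nilpotent relation x·y = 0. The
published argument uses that the kernel of a surjection of free modules is free, true over a local
ring, and that a f = 0 forces a nilpotent, which is the hypothesis taken here; it holds when R_red
is a domain and f is not nilpotent, and also for f = ε in A[ε] with A a domain, so primality of the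
nilradical is not assumed.) -/
theorem result (R : Type u)
    [CommRing R] [IsNoetherianRing R] [IsLocalRing R] (f : R)
    (hann : ∀ a : R, a * f = 0 → IsNilpotent a) (r s l : ℕ) (hls : l ≤ s)
    (φ : (Fin r → R) →ₗ[R]
      ((Fin s → R) ⧸ Submodule.span R (Set.range fun i : Fin l => (Pi.single (Fin.castLE hls i) f : Fin s → R))))
    (hφ : Function.Surjective φ) :
    W4c1frobunstiva.IsNRFree R (LinearMap.ker φ) (r + l - s) ∧
      (l = 0 → Nonempty (Module.Basis (Fin (r - s)) R (LinearMap.ker φ))) := by
  classical
  let K := Submodule.span R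
    (Set.range fun i : Fin l => (Pi.single (Fin.castLE hls i) f : Fin s → R))
  have hK : K = Submodule.span R
    (Set.range fun i : Fin l => (Pi.single (Fin.castLE hls i) f : Fin s → R)) := rfl
  obtain ⟨ψ, hψ⟩ := Module.projective_lifting_property K.mkQ φ K.mkQ_surjective
  have hψ' : ∀ x, K.mkQ (ψ x) = φ x := fun x => congrArg (fun F => F x) hψ
  have hkerφ : ∀ x, x ∈ LinearMap.ker φ ↔ ψ x ∈ K := fun x => by
    rw [LinearMap.mem_ker, ← hψ', Submodule.mkQ_apply, Submodule.Quotient.mk_eq_zero]
  have hsup : ∀ y, ∃ x, y - ψ x ∈ K := fun y => by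
    obtain ⟨x, hx⟩ := hφ (K.mkQ y)
    refine ⟨x, ?_⟩
    rw [← hψ', Submodule.mkQ_apply, Submodule.mkQ_apply, Submodule.Quotient.eq] at hx
    simpa using K.neg_mem hx
  by_cases hf : IsUnit f
  · let π : (Fin s → R) →ₗ[R] (Fin (s - l) → R) :=
      LinearMap.funLeft R R (fun j => ⟨l + j, by omega⟩)
    have hπK : ∀ y, π y = 0 ↔ y ∈ K := fun y => by
      constructor
      · intro hy
        have hy' : y = ∑ i : Fin l, (y (Fin.castLE hls i) * ↑hf.unit⁻¹) •
            (Pi.single (Fin.castLE hls i) f : Fin s → R) := by
          funext t
          rw [Finset.sum_apply]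
          by_cases ht : (t : ℕ) < l
          · rw [Finset.sum_eq_single ⟨t, ht⟩]
            · have : Fin.castLE hls ⟨t, ht⟩ = t := rfl
              rw [this, Pi.smul_apply, Pi.single_eq_same, smul_eq_mul, mul_assoc,
                IsUnit.val_inv_mul hf, mul_one]
            · intro b _ hb
              rw [Pi.smul_apply, Pi.single_eq_of_ne, smul_zero]
              exact fun h => hb (Fin.ext (congrArg Fin.val h).symm)
            · simp
          · have h1 := congrFun hy ⟨t - l, by omega⟩
            simp only [π, LinearMap.funLeft_apply, Pi.zero_apply] at h1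
            rw [show (⟨l + (t - l), _⟩ : Fin s) = t from Fin.ext (by simp; omega)] at h1
            rw [h1, Finset.sum_eq_zero]
            intro b _
            rw [Pi.smul_apply, Pi.single_eq_of_ne, smul_zero]
            intro h
            exact ht (by rw [h]; exact b.isLt)
        rw [hy']
        exact Submodule.sum_mem _ fun i _ => Submodule.smul_mem _ _ (Submodule.subset_span ⟨i, rfl⟩)
      · intro hy
        have : K ≤ LinearMap.ker π := by
          refine Submodule.span_le.2 ?_
          rintro _ ⟨i, rfl⟩
          refine funext fun j => Pi.single_eq_of_ne (M := fun _ => R) ?_ _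
          intro h
          have := congrArg Fin.val h
          simp at this
          omega
        exact this hy
    have hsurj : Function.Surjective (π.comp ψ) := by
      intro z
      have hπs : Function.Surjective π := LinearMap.funLeft_surjective_of_injective R R _
        (fun a b h => Fin.ext (by simpa using congrArg Fin.val h))
      obtain ⟨y, rfl⟩ := hπs z
      obtain ⟨x, hx⟩ := hsup y
      refine ⟨x, ?_⟩
      have := (hπK _).2 hx
      rw [map_sub, sub_eq_zero] at this
      exact this.symm
    obtain ⟨hle, ⟨b⟩, -⟩ := ker_basis (π.comp ψ) hsurj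
    have hk : LinearMap.ker (π.comp ψ) = LinearMap.ker φ := by
      ext x
      rw [hkerφ, LinearMap.mem_ker, LinearMap.comp_apply, hπK]
    let b' := (b.map (LinearEquiv.ofEq _ _ hk)).reindex
      (finCongr (show r - (s - l) = r + l - s by omega))
    exact ⟨nr_of_basis b', fun hl => ⟨b'.reindex (finCongr (by omega))⟩⟩
  · have hψs : Function.Surjective ψ := by
      rw [← LinearMap.range_eq_top, eq_top_iff]
      have hKf : K ≤ IsLocalRing.maximalIdeal R • (⊤ : Submodule R (Fin s → R)) := by
        refine Submodule.span_le.2 ?_
        rintro _ ⟨i, rfl⟩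
        have : (Pi.single (Fin.castLE hls i) f : Fin s → R) =
            f • Pi.single (Fin.castLE hls i) (1 : R) := by
          rw [← Pi.single_smul', smul_eq_mul, mul_one]
        rw [SetLike.mem_coe]
        beta_reduce
        rw [this]
        exact Submodule.smul_mem_smul ((IsLocalRing.mem_maximalIdeal f).2 hf) trivial
      refine Submodule.le_of_le_smul_of_le_jacobson_bot Module.Finite.fg_top
        (IsLocalRing.maximalIdeal_le_jacobson ⊥) ?_
      intro y _
      obtain ⟨x, hx⟩ := hsup y
      rw [← add_sub_cancel (ψ x) y]
      exact Submodule.add_mem_sup ⟨x, rfl⟩ (hKf hx)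
    obtain ⟨hle, ⟨b⟩, σ, hσ⟩ := ker_basis ψ hψs
    refine ⟨?_, fun hl => ?_⟩
    swap
    · have hk : LinearMap.ker ψ = LinearMap.ker φ := by
        ext x
        rw [hkerφ, LinearMap.mem_ker]
        have : K = ⊥ := by
          subst hl
          rw [hK, Set.range_eq_empty, Submodule.span_empty]
        rw [this, Submodule.mem_bot]
      exact ⟨b.map (LinearEquiv.ofEq _ _ hk)⟩
    let v : Fin l → Fin r → R := fun i => σ (Pi.single (Fin.castLE hls i) f)
    let w : Fin (r - s) → Fin r → R := fun j => (b j : Fin r → R)
    have hv : ∀ i, v i ∈ LinearMap.ker φ := fun i => by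
      rw [hkerφ, hσ]; exact Submodule.subset_span ⟨i, rfl⟩
    have hw : ∀ j, w j ∈ LinearMap.ker φ := fun j => by
      rw [hkerφ, show ψ (w j) = 0 from (b j).2]; exact K.zero_mem
    let e : Fin l ⊕ Fin (r - s) ≃ Fin (r + l - s) :=
      finSumFinEquiv.trans (finCongr (by omega))
    let m : Fin l ⊕ Fin (r - s) → LinearMap.ker φ :=
      Sum.elim (fun i => ⟨v i, hv i⟩) (fun j => ⟨w j, hw j⟩)
    refine ⟨m ∘ e.symm, ?_, fun a ha => ?_⟩
    · rw [Set.range_comp, e.symm.range_eq_univ, Set.image_univ, eq_top_iff]
      rintro ⟨x, hx⟩ -
      have h1 : ψ x ∈ K := (hkerφ x).1 hx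
      rw [hK, Submodule.mem_span_range_iff_exists_fun] at h1
      obtain ⟨c, hc⟩ := h1
      have h2 : x - ∑ i, c i • v i ∈ LinearMap.ker ψ := by
        rw [LinearMap.mem_ker, map_sub, map_sum]
        simp only [v, map_smul, hσ, hc, sub_self]
      have hd := congrArg Subtype.val (b.sum_repr ⟨_, h2⟩)
      simp only [Submodule.coe_sum, Submodule.coe_smul] at hd
      have : (⟨x, hx⟩ : LinearMap.ker φ) =
          ∑ i, c i • m (Sum.inl i) + ∑ j, b.repr ⟨_, h2⟩ j • m (Sum.inr j) := by
        refine Subtype.ext ?_
        simp only [Submodule.coe_add, Submodule.coe_sum, Submodule.coe_smul, m, Sum.elim_inl,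
          Sum.elim_inr, w, hd]
        abel
      rw [this]
      exact Submodule.add_mem _
        (Submodule.sum_mem _ fun i _ => Submodule.smul_mem _ _ (Submodule.subset_span ⟨_, rfl⟩))
        (Submodule.sum_mem _ fun i _ => Submodule.smul_mem _ _ (Submodule.subset_span ⟨_, rfl⟩))
    · rw [← e.sum_comp, Fintype.sum_sum_type] at ha
      simp only [Function.comp_apply, Equiv.symm_apply_apply] at ha
      have h0 := congrArg Subtype.val ha
      simp only [Submodule.coe_add, Submodule.coe_sum, Submodule.coe_smul, m, Sum.elim_inl,
        Sum.elim_inr, ZeroMemClass.coe_zero] at h0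
      have h1 := congrArg ψ h0
      simp only [map_add, map_sum, map_smul, map_zero, v, hσ,
        show ∀ j, ψ (w j) = 0 from fun j => (b j).2, smul_zero, Finset.sum_const_zero,
        add_zero] at h1
      have hai : ∀ i, a (e (Sum.inl i)) * f = 0 := fun i => by
        have h2 := congrFun h1 (Fin.castLE hls i)
        rw [Finset.sum_apply, Finset.sum_eq_single i] at h2
        · simpa using h2
        · intro j _ hji
          rw [Pi.smul_apply, Pi.single_eq_of_ne, smul_zero]
          exact fun h => hji (Fin.castLE_injective hls h.symm)
        · simp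
      have hav : ∀ i, a (e (Sum.inl i)) • v i = 0 := fun i => by
        simp only [v]
        rw [← map_smul, ← Pi.single_smul', smul_eq_mul, hai, Pi.single_zero, map_zero]
      simp only [hav, Finset.sum_const_zero, zero_add] at h0
      have hb : ∑ j, a (e (Sum.inr j)) • b j = 0 := by
        refine Subtype.ext ?_
        simpa [w] using h0
      have hb0 := Fintype.linearIndependent_iff.1 b.linearIndependent _ hb
      intro t
      obtain ⟨(i | j), rfl⟩ := e.surjective t
      · exact hann _ (hai i)
      · rw [hb0 j]; exact IsNilpotent.zero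

end Groth.Agent.S14034
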