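import Groth.Statements.S14035
import Mathlib

set_option autoImplicit false
universe u v
open W4c1frobunstiva

namespace Groth.Agent.S14035

open TensorProduct

theorem exists_smul_mem {A : Type u} [CommRing A] (p : Ideal A) [p.IsPrime]
    {M : Type v} [AddCommGroup M] [Module A M] (x : M)
    (h : (1 : p.ResidueField) ⊗ₜ[A] x = 0) : ∃ s ∉ p, s • x ∈ p • (⊤ : Submodule A M) := by
  set M' := M ⧸ p • (⊤ : Submodule A M)
  let L : p.ResidueField ⊗[A] M →ₗ[A] p.ResidueField ⊗[A ⧸ p] M' :=
    TensorProduct.lift
      (LinearMap.mk₂ A (fun c m => c ⊗ₜ[A ⧸ p] (Submodule.Quotient.mk m : M'))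
        (fun _ _ _ => add_tmul _ _ _) (fun _ _ _ => (smul_tmul' _ _ _).symm)
        (fun _ _ _ => by rw [Submodule.Quotient.mk_add, tmul_add])
        (fun _ _ _ => by rw [Submodule.Quotient.mk_smul, tmul_smul]))
  have h1 : (1 : p.ResidueField) ⊗ₜ[A ⧸ p] (Submodule.Quotient.mk x : M') = 0 := by
    have := congrArg L h
    simpa [L] using this
  haveI : IsLocalizedModule (nonZeroDivisors (A ⧸ p))
      (TensorProduct.mk (A ⧸ p) p.ResidueField M' 1) :=
    (isLocalizedModule_iff_isBaseChange _ p.ResidueField _).mpr (TensorProduct.isBaseChange _ _ _)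
  obtain ⟨⟨c, hc⟩, hcx⟩ := (IsLocalizedModule.eq_zero_iff (nonZeroDivisors (A ⧸ p))
    (TensorProduct.mk (A ⧸ p) p.ResidueField M' 1)).1 h1
  obtain ⟨s, rfl⟩ := Ideal.Quotient.mk_surjective c
  refine ⟨s, ?_, ?_⟩
  · intro hs
    exact nonZeroDivisors.ne_zero hc (Ideal.Quotient.eq_zero_iff_mem.2 hs)
  · rw [← Submodule.Quotient.mk_eq_zero, Submodule.Quotient.mk_smul]
    exact hcx


open TensorProduct in
/-- Let A → B be a ring homomorphism with B Noetherian. If B modulo its nilradical is flat over A and
every fibre ring κ(p) ⊗_A B, p a prime of A, is reduced, then B is reduced. (This is the affine form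
of the statement for a morphism of schemes X → Y all of whose fibres are reduced and whose
restriction to the reduced closed subscheme X_red is flat. The published statement does not say X is
locally Noetherian, but its proof applies Nakayama's lemma to the nilradical as a finitely generated
ideal; without it the square-zero extension of a discrete valuation ring A by Frac(A)/A is a
counterexample.) -/
theorem result (A : Type u) (B : Type v)
    [CommRing A] [CommRing B] [Algebra A B] [IsNoetherianRing B]
    [Module.Flat A (B ⧸ nilradical B)]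
    (hfib : ∀ p : PrimeSpectrum A, IsReduced (p.asIdeal.ResidueField ⊗[A] B)) :
    IsReduced B := by
  classical
  set n := nilradical B with hn
  suffices hbot : n = ⊥ by
    refine ⟨fun x hx => ?_⟩
    have : x ∈ n := mem_nilradical.2 hx
    rwa [hbot] at this
  let nA : Submodule A B := Submodule.restrictScalars A n
  let g : nA →ₗ[A] B := nA.subtype
  let f : B →ₗ[A] B ⧸ n := (Ideal.Quotient.mkₐ A n).toLinearMap
  have hex : Function.Exact g f := by
    intro y
    constructor
    · intro hy
      exact ⟨⟨y, Ideal.Quotient.eq_zero_iff_mem.1 hy⟩, rfl⟩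
    · rintro ⟨z, rfl⟩
      exact Ideal.Quotient.eq_zero_iff_mem.2 z.2
  have hinj : ∀ (M : Type u) [AddCommGroup M] [Module A M], Function.Injective (g.lTensor M) :=
    fun M _ _ => LinearMap.lTensor_injective_of_exact_of_flat f Ideal.Quotient.mk_surjective g
      nA.injective_subtype hex M
  have hkey : ∀ q : Ideal B, q.IsMaximal → ∀ x ∈ n, x ∈ q • n := by
    intro q hq
    let p := q.comap (algebraMap A B)
    haveI : p.IsPrime := Ideal.IsPrime.comap _
    haveI := hfib ⟨p, inferInstance⟩
    intro x hx
    have h0 : (1 : p.ResidueField) ⊗ₜ[A] (⟨x, hx⟩ : nA) = 0 := by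
      apply hinj p.ResidueField
      rw [map_zero, LinearMap.lTensor_tmul]
      have hnil : IsNilpotent ((Algebra.TensorProduct.includeRight :
          B →ₐ[A] p.ResidueField ⊗[A] B) x) := (mem_nilradical.1 hx).map _
      exact hnil.eq_zero
    obtain ⟨s, hs, hsx⟩ := exists_smul_mem p (⟨x, hx⟩ : nA) h0
    have h2 : ∀ z ∈ p • (⊤ : Submodule A nA), (z : B) ∈ q • n := fun z hz => by
      refine Submodule.smul_induction_on hz (fun a ha m _ => ?_) fun u v hu hv => ?_
      · rw [Submodule.coe_smul, Algebra.smul_def a (m : B)]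
        exact Submodule.smul_mem_smul (show algebraMap A B a ∈ q from ha) m.2
      · rw [Submodule.coe_add]; exact Submodule.add_mem _ hu hv
    have h3 : algebraMap A B s * x ∈ q • n := by
      have := h2 _ hsx
      rwa [Submodule.coe_smul, Algebra.smul_def s x] at this
    have hs' : algebraMap A B s ∉ q := hs
    obtain ⟨t, ht⟩ := hq.exists_inv hs'
    obtain ⟨i, hi, hti⟩ := ht
    have hx' : x = t * (algebraMap A B s * x) + i * x := by
      rw [← mul_assoc, ← add_mul, hti, one_mul]
    rw [hx']
    exact Submodule.add_mem _ (Ideal.mul_mem_left _ t h3) (Submodule.smul_mem_smul hi hx)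
  by_contra hne
  have hann : Submodule.annihilator n ≠ ⊤ := by
    rw [Ne, Submodule.annihilator_eq_top_iff]
    exact hne
  obtain ⟨q, hq, hle⟩ := Ideal.exists_le_maximal _ hann
  obtain ⟨r, hr1, hr⟩ := Submodule.exists_sub_one_mem_and_smul_eq_zero_of_fg_of_le_smul q n
    (IsNoetherian.noetherian n) (fun x hx => hkey q hq x hx)
  have hrq : r ∈ q := hle (Submodule.mem_annihilator.2 hr)
  exact hq.ne_top ((Ideal.eq_top_iff_one q).2 (by simpa using q.sub_mem hrq hr1))

end Groth.Agent.S14035
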