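import Groth.Statements.S14038
import Mathlib
import Groth.Agent.Hermite86.Basic

set_option autoImplicit false
universe u
open W4c1frobunstiva

namespace Groth.Agent.S14038

/-- Let k be a field and M a square matrix of size r over the formal power series ring k[[t]] with
non-zero determinant. Call a matrix H over k[[t]] row-reduced when it is upper triangular, each
diagonal entry is a power t^{e_i} of the variable, and every entry above the diagonal in column j is
a polynomial of degree less than e_j (all its coefficients in degrees ≥ e_j vanish). Then there is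
exactly one row-reduced H obtainable from M by left multiplication with an invertible matrix over
k[[t]]. (The published statement takes k algebraically closed; the row-reduction argument needs only
a field.) -/
theorem result (k : Type u) [Field k] (r : ℕ)
    (M : Matrix (Fin r) (Fin r) (PowerSeries k)) (hM : M.det ≠ 0) :
    ∃! H : Matrix (Fin r) (Fin r) (PowerSeries k),
      (∃ e : Fin r → ℕ, (∀ i, H i i = PowerSeries.X ^ e i) ∧ (∀ i j, j < i → H i j = 0) ∧
        (∀ i j, i < j → ∀ n, e j ≤ n → PowerSeries.coeff n (H i j) = 0)) ∧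
      ∃ N : Matrix (Fin r) (Fin r) (PowerSeries k), IsUnit N ∧ N * M = H := by
  obtain ⟨N, e, hN, hT⟩ := Hermite86.exists_tri r M hM
  obtain ⟨N', P, f, hN', -, -, hP, hRed⟩ := Hermite86.exists_red (fun _ _ => False)
    (fun _ : PowerSeries k => True) True trivial trivial (fun _ _ _ _ => trivial)
    (fun _ _ _ _ => trivial)
    (fun r G e _ w => ⟨0, fun _ => trivial, fun _ => rfl, fun i n h => h.elim⟩) r (N * M) e hT
  rw [hP trivial, Matrix.mul_one] at hRed
  obtain ⟨⟨hd, hl⟩, hr⟩ := hRed
  refine ⟨N' * (N * M), ⟨⟨f, hd, hl, fun i j hij n hn => hr i j hij n (Or.inl hn)⟩,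
    N' * N, hN'.mul hN, Matrix.mul_assoc _ _ _⟩, ?_⟩
  rintro H ⟨⟨g, hgd, hgl, hgr⟩, U, hU, hUM⟩
  obtain ⟨V, hV⟩ := hN'.mul hN
  refine Hermite86.unique_red (N' * (N * M)) H
    (U * (↑V⁻¹ : Matrix (Fin r) (Fin r) (PowerSeries k))) f g
    (hU.mul V⁻¹.isUnit) ⟨⟨hd, hl⟩, hr⟩
    ⟨⟨hgd, hgl⟩, fun i j hij n hn => hgr i j hij n (hn.resolve_right id)⟩ ?_
  rw [← Matrix.mul_assoc N', ← hV, Matrix.mul_assoc U, Units.inv_mul_cancel_left, hUM]

end Groth.Agent.S14038
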