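import Groth.Statements.S14039
import Mathlib
import Groth.Agent.Count86.Bounded

set_option autoImplicit false
open W4c1frobunstiva

namespace Groth.Agent.S14039

open Finset

theorem coeff_aux (p n s : ℕ) (hn : 1 ≤ n) (hp : 1 ≤ p) :
    ((∑ a ∈ Icc 1 (p - 1), (Polynomial.X : Polynomial ℤ) ^ a) ^ n).coeff s =
      ∑ i ∈ range (n + 1), (-1 : ℤ) ^ i * (n.choose i : ℤ) *
        (if i * (p - 1) + n ≤ s then (((s - i * (p - 1) - 1).choose (n - 1) : ℕ) : ℤ) else 0) := by
  classical
  set P : PowerSeries ℤ := ∑ a ∈ Icc 1 (p - 1), (PowerSeries.X : PowerSeries ℤ) ^ a with hP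
  have hcoe : (((∑ a ∈ Icc 1 (p - 1), (Polynomial.X : Polynomial ℤ) ^ a) ^ n : Polynomial ℤ) :
      PowerSeries ℤ) = P ^ n := by
    rw [Polynomial.coe_pow, hP]
    congr 1
    rw [← Polynomial.coeToPowerSeries.ringHom_apply, map_sum]
    simp
  rw [← Polynomial.coeff_coe, hcoe]
  have hgeom : P * (1 - PowerSeries.X) = PowerSeries.X * (1 - PowerSeries.X ^ (p - 1)) := by
    have : P = PowerSeries.X * ∑ a ∈ range (p - 1), (PowerSeries.X : PowerSeries ℤ) ^ a := by
      rw [hP, mul_sum, ← Ico_add_one_right_eq_Icc, sum_Ico_eq_sum_range, Nat.add_sub_cancel]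
      exact sum_congr rfl fun a _ => by ring
    rw [this, mul_assoc, geom_sum_mul_neg]
  obtain ⟨d, rfl⟩ : ∃ d, n = d + 1 := ⟨n - 1, by omega⟩
  have hPn : P ^ (d + 1) = PowerSeries.X ^ (d + 1) * (1 - PowerSeries.X ^ (p - 1)) ^ (d + 1) *
      (PowerSeries.invOneSubPow ℤ (d + 1) : PowerSeries ℤ) := by
    rw [← mul_pow, ← hgeom, mul_pow, mul_assoc,
      ← PowerSeries.invOneSubPow_inv_eq_one_sub_pow, Units.inv_eq_val_inv, Units.inv_mul, mul_one]
  have hbin : (1 - (PowerSeries.X : PowerSeries ℤ) ^ (p - 1)) ^ (d + 1) =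
      ∑ i ∈ range (d + 1 + 1), PowerSeries.C ((-1 : ℤ) ^ i * ((d + 1).choose i : ℤ)) *
        PowerSeries.X ^ (i * (p - 1)) := by
    rw [sub_eq_neg_add, add_pow]
    refine sum_congr rfl fun i _ => ?_
    rw [map_mul, map_pow, map_neg, map_one, map_natCast, neg_pow, ← pow_mul, mul_comm i,
      one_pow]
    ring
  rw [hPn, hbin, mul_sum, sum_mul, map_sum]
  refine sum_congr rfl fun i _ => ?_
  have : (PowerSeries.X : PowerSeries ℤ) ^ (d + 1) *
      (PowerSeries.C ((-1 : ℤ) ^ i * ((d + 1).choose i : ℤ)) * PowerSeries.X ^ (i * (p - 1))) *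
      (PowerSeries.invOneSubPow ℤ (d + 1) : PowerSeries ℤ) =
      PowerSeries.C ((-1 : ℤ) ^ i * ((d + 1).choose i : ℤ)) *
        (PowerSeries.X ^ (i * (p - 1) + (d + 1)) *
          (PowerSeries.invOneSubPow ℤ (d + 1) : PowerSeries ℤ)) := by
    rw [pow_add]; ring
  rw [this, PowerSeries.coeff_C_mul, PowerSeries.coeff_X_pow_mul']
  congr 1
  split_ifs with h
  · rw [PowerSeries.invOneSubPow_val_succ_eq_mk_add_choose, PowerSeries.coeff_mk,
      Nat.add_sub_cancel]
    congr 2
    omega
  · rfl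


/-- For natural numbers p, n ≥ 1 and s, the number of monomials of degree s in n variables in which
every variable occurs with a positive exponent strictly less than p — that is, of exponent vectors
(e_1, …, e_n) with sum s and 1 ≤ e_i ≤ p − 1 — equals the inclusion–exclusion sum over i from 0 to n
of (−1)^i · C(n, i) · C(s − i(p − 1) − 1, n − 1), the last factor counting monomials of degree s −
i(p − 1) − n in n variables and read as 0 when s < i(p − 1) + n. (A companion count, by how many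
exponents lie below p/2, and a remark on polynomiality in s and p are not part of this row.) -/
theorem result (p n s : ℕ)
    (hn : 1 ≤ n) :
    (Fintype.card {e : Fin n → Fin p // (∀ i, 1 ≤ (e i : ℕ)) ∧ ∑ i, (e i : ℕ) = s} : ℤ) =
      ∑ i ∈ Finset.range (n + 1),
        (-1 : ℤ) ^ i * (n.choose i : ℤ) *
          (if i * (p - 1) + n ≤ s then (((s - i * (p - 1) - 1).choose (n - 1) : ℕ) : ℤ) else 0) := by
  rw [Groth.Agent.Count86.card_eq_coeff]
  rcases Nat.eq_zero_or_pos p with rfl | hp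
  · have hz : (∑ a ∈ Finset.Icc 1 (0 - 1), (Polynomial.X : Polynomial ℤ) ^ a) = 0 := by simp
    rw [hz, zero_pow (by omega), Polynomial.coeff_zero]
    simp only [Nat.zero_sub, mul_zero, zero_add, Nat.sub_zero]
    rw [← Finset.sum_mul, Int.alternating_sum_range_choose_of_ne (by omega), zero_mul]
  · exact coeff_aux p n s hn hp

end Groth.Agent.S14039
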