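import Groth.Statements.S14040
import Mathlib
import Groth.Agent.S14035

set_option autoImplicit false
universe u v
open W4c1frobunstiva

namespace Groth.Agent.S14040

open TensorProduct in
/-- Let A be a discrete valuation ring and B a Noetherian A-algebra such that the nilradical of B is
prime and meets the image of A only in 0 — the spectrum of B is irreducible and its generic point
lies over the generic point of A. If every fibre ring κ(p) ⊗_A B, p a prime of A, is reduced, then B
is reduced and flat over A. (Affine form of the statement for a dominant morphism from an
irreducible scheme to the spectrum of a discrete valuation ring with reduced fibres. The published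
statement also covers a scheme that is already reduced and does not assume it locally Noetherian;
this row treats reduced fibres with B Noetherian, without which the square-zero extension A ⊕
Frac(A)/A is a counterexample.) -/
theorem result (A : Type u) [CommRing A]
    [IsDomain A] [IsDiscreteValuationRing A] (B : Type v) [CommRing B] [Algebra A B]
    [IsNoetherianRing B] (hirr : (nilradical B).IsPrime)
    (hdom : (nilradical B).comap (algebraMap A B) = ⊥)
    (hfib : ∀ p : PrimeSpectrum A, IsReduced (p.asIdeal.ResidueField ⊗[A] B)) :
    IsReduced B ∧ Module.Flat A B := by
  set n := nilradical B with hn
  haveI : n.IsPrime := hirr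
  haveI : Module.IsTorsionFree A (B ⧸ n) := by
    refine Module.IsTorsionFree.of_smul_eq_zero fun a x h => ?_
    rw [Algebra.smul_def] at h
    rcases mul_eq_zero.1 h with h | h
    · left
      have ha : a ∈ n.comap (algebraMap A B) :=
        Ideal.mem_comap.2 (Ideal.Quotient.eq_zero_iff_mem.1 h)
      rw [hdom] at ha
      simpa using ha
    · exact Or.inr h
  haveI : Module.Flat A (B ⧸ n) := inferInstance
  have hred : IsReduced B := Groth.Agent.S14035.result A B hfib
  refine ⟨hred, ?_⟩
  have hbot : n = ⊥ := nilradical_eq_zero B
  exact Module.Flat.of_linearEquiv
    ((Ideal.quotientEquivAlgOfEq A hbot).trans (AlgEquiv.quotientBot A B)).symm.toLinearEquiv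

end Groth.Agent.S14040
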