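import Groth.Statements.S14042
import Groth.Agent.FibRankLe.Basic
import Groth.Agent.S0386
-- import your own Groth.Agent.* helpers here

set_option backward.isDefEq.respectTransparency false
set_option backward.isDefEq.respectTransparency.types false
set_option maxHeartbeats 1000000

set_option autoImplicit false
universe u
open CategoryTheory CategoryTheory.Limits AlgebraicGeometry
open W4c1frobunstiva

namespace Groth.Agent.S14042

open Groth.Agent.FibRankLe in
/-- A fibre contained in an open is the fibre of the open. -/
theorem rk_restrict {X Y : Scheme.{u}} (f : X ⟶ Y) (W : X.Opens) (z : Y) (hW : f.base ⁻¹' {z} ⊆ W)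
    [IsFinite (pullback.snd f (Y.fromSpecResidueField z))] :
    IsFinite (pullback.snd (W.ι ≫ f) (Y.fromSpecResidueField z)) ∧
      rk (F := Y.residueField z) (pullback.snd (W.ι ≫ f) (Y.fromSpecResidueField z)) =
        rk (F := Y.residueField z) (pullback.snd f (Y.fromSpecResidueField z)) := by
  let g := Y.fromSpecResidueField z
  let a : pullback (W.ι ≫ f) g ⟶ pullback f g :=
    pullback.lift (pullback.fst (W.ι ≫ f) g ≫ W.ι) (pullback.snd (W.ι ≫ f) g)
      (by rw [Category.assoc, pullback.condition])
  have ha : IsPullback (pullback.fst (W.ι ≫ f) g) a W.ι (pullback.fst f g) :=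
    IsPullback.of_bot (by
      rw [pullback.lift_snd]
      exact IsPullback.of_hasPullback (W.ι ≫ f) g) (pullback.lift_fst _ _ _).symm
      (IsPullback.of_hasPullback f g)
  haveI : IsOpenImmersion a := MorphismProperty.of_isPullback ha inferInstance
  haveI : Surjective a := ⟨fun p => by
    have hp : pullback.fst f g p ∈ W := hW (by
      show f (pullback.fst f g p) = z
      rw [← Scheme.Hom.comp_apply, pullback.condition, Scheme.Hom.comp_apply]
      exact Y.fromSpecResidueField_apply z _)
    obtain ⟨w, -, hw⟩ := Scheme.exists_preimage_of_isPullback ha ⟨_, hp⟩ p rfl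
    exact ⟨w, hw⟩⟩
  haveI : IsIso a := (isIso_iff_isOpenImmersion_and_surjective a).mpr ⟨inferInstance, inferInstance⟩
  have hs : a ≫ pullback.snd f g = pullback.snd (W.ι ≫ f) g := pullback.lift_snd _ _ _
  refine ⟨by rw [← hs]; infer_instance, ?_⟩
  haveI : IsAffine (pullback f g) := isAffine_of_isAffineHom (pullback.snd f g)
  haveI : IsIso (Spec.map (CommRingCat.ofHom (algebraMap (Y.residueField z) (Y.residueField z)))) := by
    rw [show CommRingCat.ofHom (algebraMap (Y.residueField z) (Y.residueField z)) = 𝟙 _ from rfl]
    infer_instance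
  refine rk_baseChange (F := Y.residueField z) (E := Y.residueField z) _ a _ (IsPullback.of_horiz_isIso ⟨?_⟩)
  rw [hs, show CommRingCat.ofHom (algebraMap (Y.residueField z) (Y.residueField z)) = 𝟙 _ from rfl,
    Spec.map_id, Category.comp_id]

/-- Let k be a field, X and Y integral schemes of finite type over k of the same dimension whose local
rings are all regular, and f : X → Y a dominant and separated k-morphism; let d be the degree of the
residue field of the generic point of X over that of the generic point of Y, a finite extension.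
Then for every point y of Y, either the fibre X_y has positive dimension — it is not finite over
κ(y) — or its ring of global sections has dimension at most d over κ(y). (The published statement
speaks of length; the κ(y)-rank used here is at least the length, so this form implies the printed
one. The published statement does not mention separatedness: for the affine line with doubled origin
mapping to the affine line — regular, dominant, degree 1 — the fibre over the origin is two reduced
points, of rank 2; the étale-local splitting of a quasi-finite morphism used in the published proof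
needs f separated, so f is taken separated here.) -/
theorem result (k : Type u) [Field k] {X Y : Scheme.{u}}
    [X.Over (Spec (CommRingCat.of k))] [Y.Over (Spec (CommRingCat.of k))]
    [LocallyOfFiniteType (X ↘ Spec (CommRingCat.of k))] [QuasiCompact (X ↘ Spec (CommRingCat.of k))]
    [LocallyOfFiniteType (Y ↘ Spec (CommRingCat.of k))] [QuasiCompact (Y ↘ Spec (CommRingCat.of k))]
    [IsIntegral X] [IsIntegral Y] (f : X ⟶ Y) [IsDominant f]
    (hf : f ≫ (Y ↘ Spec (CommRingCat.of k)) = X ↘ Spec (CommRingCat.of k))
    (hdim : topologicalKrullDim ↥X = topologicalKrullDim ↥Y)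
    [IsSeparated f] (hX : ∀ x : X, IsRegularLocalRing (X.presheaf.stalk x))
    (hY : ∀ y : Y, IsRegularLocalRing (Y.presheaf.stalk y)) (y : Y)
    (hy : IsFinite (pullback.snd f (Y.fromSpecResidueField y))) :
    (letI := ((Scheme.ΓSpecIso (CommRingCat.of (Y.residueField y))).inv ≫
            (pullback.snd f (Y.fromSpecResidueField y)).appTop).hom.toAlgebra;
          Module.finrank (Y.residueField y) ↑(Γ(pullback f (Y.fromSpecResidueField y), ⊤))) ≤
      (letI := (f.residueFieldMap (genericPoint ↥X)).hom.toAlgebra;
          Module.finrank (Y.residueField (f.base (genericPoint ↥X))) (X.residueField (genericPoint ↥X))) := by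
  classical
  have hη : f (genericPoint X) = genericPoint Y := by
    refine ((genericPoint_spec X).image f.continuous).eq ?_
    rw [Set.image_univ, f.denseRange.closure_range]
    exact genericPoint_spec Y
  haveI : IsLocallyNoetherian Y := LocallyOfFiniteType.isLocallyNoetherian (Y ↘ Spec (CommRingCat.of k))
  haveI : IsLocallyNoetherian X := LocallyOfFiniteType.isLocallyNoetherian (X ↘ Spec (CommRingCat.of k))
  haveI : CompactSpace X := QuasiCompact.compactSpace_of_compactSpace (X ↘ Spec (CommRingCat.of k))
  haveI : IsNoetherian X := {}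
  haveI : QuasiCompact f := by
    have : QuasiCompact (f ≫ (Y ↘ Spec (CommRingCat.of k))) := by rw [hf]; infer_instance
    exact QuasiCompact.of_comp f (Y ↘ Spec (CommRingCat.of k))
  haveI : LocallyOfFiniteType f := by
    have : LocallyOfFiniteType (f ≫ (Y ↘ Spec (CommRingCat.of k))) := by rw [hf]; infer_instance
    exact locallyOfFiniteType_of_comp f (Y ↘ Spec (CommRingCat.of k))
  obtain ⟨-, U₀, ⟨⟨u₀, hu₀⟩⟩, hU₀⟩ := Groth.Agent.GenDeg86.main f hη (Groth.Agent.GenDeg86.preimage_generic f hf hdim hη)
  obtain ⟨hfinη, hrkη⟩ := hU₀ (genericPoint Y) ((genericPoint_specializes u₀).mem_open U₀.2 hu₀)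
  show FibRankLe.rk (F := Y.residueField y) (pullback.snd f (Y.fromSpecResidueField y)) ≤ _
  refine le_of_le_of_eq ?_ hrkη
  show _ ≤ FibRankLe.rk (F := Y.residueField (genericPoint Y)) (pullback.snd f (Y.fromSpecResidueField (genericPoint Y)))
  by_cases hyη : y = genericPoint Y
  · subst hyη
    exact le_rfl
  let W : X.Opens := f.quasiFiniteLocus ⊓ ⟨_, S0386.result f⟩
  have hWsub : ∀ z : Y, IsFinite (pullback.snd f (Y.fromSpecResidueField z)) → f.base ⁻¹' {z} ⊆ W := by
    rintro z hz x rfl
    haveI : IsFinite (f.fiberToSpecResidueField (f x)) := hz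
    haveI : IsLocallyArtinian (f.fiber (f x)) := .of_locallyQuasiFinite (f.fiberToSpecResidueField (f x))
    have hq : f.QuasiFiniteAt x := Scheme.Hom.quasiFiniteAt_iff_isOpen_singleton_asFiber.mpr (isOpen_discrete _)
    exact ⟨hq, FibRankLe.flat_stalkMap_of_quasiFiniteAt f hf hdim x hq (hX x) (hY (f x))⟩
  haveI : Flat (W.ι ≫ f) := Flat.of_stalkMap _ fun w => by
    rw [Scheme.Hom.stalkMap_comp, CommRingCat.hom_comp]
    exact RingHom.Flat.comp w.2.2 (.of_bijective (ConcreteCategory.bijective_of_isIso _))
  haveI : LocallyQuasiFinite (W.ι ≫ f) := by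
    rw [← X.homOfLE_ι (inf_le_left : W ≤ f.quasiFiniteLocus), Category.assoc]
    infer_instance
  haveI : QuasiCompact (W.ι ≫ f) := inferInstance
  obtain ⟨hfy, hry⟩ := rk_restrict f W y (hWsub y hy)
  haveI := hfinη
  obtain ⟨hfg, hrg⟩ := rk_restrict f W (genericPoint Y) (hWsub _ hfinη)
  haveI := hfy
  haveI := hfg
  -- the valuation ring
  have hnf : ¬ IsField (Y.presheaf.stalk y) := by
    intro hfield
    haveI : Subsingleton ↥(Spec (Y.presheaf.stalk y)) := by
      letI := hfield.toField
      exact inferInstanceAs (Subsingleton (PrimeSpectrum (Y.presheaf.stalk y)))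
    obtain ⟨p, hp⟩ : genericPoint Y ∈ Set.range (Y.fromSpecStalk y) := by
      rw [Scheme.range_fromSpecStalk]
      exact genericPoint_specializes y
    apply hyη
    rw [← hp, Subsingleton.elim p (IsLocalRing.closedPoint _), Scheme.fromSpecStalk_closedPoint]
  obtain ⟨R, hR, hRmem, hRdom⟩ := DVRDom.exists_dvr_dominating (Y.presheaf.stalk y) hnf Y.functionField Y.functionField
    ⟨∅, by rw [Finset.coe_empty, IntermediateField.adjoin_empty]; exact IntermediateField.bot_eq_top_iff_finrank_eq_one.mpr (Module.finrank_self _)⟩
  haveI := hR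
  let ι₀ : Y.presheaf.stalk y →+* R := (algebraMap (Y.presheaf.stalk y) Y.functionField).codRestrict R.toSubring hRmem
  haveI : IsLocalHom ι₀ := ⟨fun a ha => by
    by_contra hna
    have h1 := hRdom a ((IsLocalRing.mem_maximalIdeal _).mpr hna)
    have h2 := (R.valuation_lt_one_iff (ι₀ a)).mpr h1
    exact (IsLocalRing.mem_maximalIdeal _).mp h2 ha⟩
  let g : Spec (CommRingCat.of R) ⟶ Y := Spec.map (CommRingCat.ofHom ι₀) ≫ Y.fromSpecStalk y
  have hg0 : (Spec.map (CommRingCat.ofHom (algebraMap R (IsLocalRing.ResidueField R))) ≫ g)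
      (IsLocalRing.closedPoint (IsLocalRing.ResidueField R)) = y := by
    rw [Scheme.Hom.comp_apply, Scheme.Hom.comp_apply]
    rw [show (Spec.map (CommRingCat.ofHom (algebraMap R (IsLocalRing.ResidueField R))))
      (IsLocalRing.closedPoint (IsLocalRing.ResidueField R)) = IsLocalRing.closedPoint R from
        IsLocalRing.comap_closedPoint (IsLocalRing.residue R),
      show (Spec.map (CommRingCat.ofHom ι₀)) (IsLocalRing.closedPoint R) = IsLocalRing.closedPoint (Y.presheaf.stalk y)
        from IsLocalRing.comap_closedPoint ι₀]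
    exact Scheme.fromSpecStalk_closedPoint
  have hgK : (Spec.map (CommRingCat.ofHom (algebraMap R Y.functionField)) ≫ g)
      (IsLocalRing.closedPoint Y.functionField) = genericPoint Y := by
    have e : Spec.map (CommRingCat.ofHom (algebraMap R Y.functionField)) ≫ g =
        Y.fromSpecStalk (genericPoint Y) := by
      show _ ≫ Spec.map _ ≫ _ = _
      rw [← Category.assoc, ← Spec.map_comp, ← Scheme.SpecMap_stalkSpecializes_fromSpecStalk (genericPoint_specializes y)]
      rfl
    rw [e]
    exact Scheme.fromSpecStalk_closedPoint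
  obtain ⟨hf0, hr0⟩ := FibRankLe.rk_fieldPoint (W.ι ≫ f)
    (Spec.map (CommRingCat.ofHom (algebraMap R (IsLocalRing.ResidueField R))) ≫ g) y hg0
  obtain ⟨hf1, hr1⟩ := FibRankLe.rk_fieldPoint (W.ι ≫ f)
    (Spec.map (CommRingCat.ofHom (algebraMap R Y.functionField)) ≫ g) (genericPoint Y) hgK
  have sq : ∀ {E : Type u} [CommRing E] (φ : Spec (CommRingCat.of E) ⟶ Spec (CommRingCat.of R)),
      IsPullback (pullback.lift (pullback.fst (W.ι ≫ f) (φ ≫ g)) (pullback.snd (W.ι ≫ f) (φ ≫ g) ≫ φ)
        (by rw [Category.assoc, pullback.condition]) : pullback (W.ι ≫ f) (φ ≫ g) ⟶ pullback (W.ι ≫ f) g)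
        (pullback.snd (W.ι ≫ f) (φ ≫ g)) (pullback.snd (W.ι ≫ f) g) φ := by
    intro E _ φ
    refine IsPullback.of_right ?_ (pullback.lift_snd _ _ _) (IsPullback.of_hasPullback (W.ι ≫ f) g)
    rw [pullback.lift_fst]
    exact IsPullback.of_hasPullback (W.ι ≫ f) (φ ≫ g)
  haveI := hf0
  haveI := hf1
  calc FibRankLe.rk (F := Y.residueField y) (pullback.snd f (Y.fromSpecResidueField y))
      = _ := hry.symm
    _ = _ := hr0.symm
    _ ≤ _ := FibRankLe.rk_special_le (K := Y.functionField) (pullback.snd (W.ι ≫ f) g) _ _ (sq _) _ _ (sq _)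
    _ = _ := hr1
    _ = _ := hrg

end Groth.Agent.S14042
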