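import Groth.Statements.S14043
import Mathlib

set_option autoImplicit false
universe u v
open W4c1frobunstiva

namespace Groth.Agent.S14043

/-- Let R be a commutative Noetherian ring, M an R-module that is NR-free of rank r — generated by some
r elements all of whose linear relations have nilpotent coefficients — and m, m' two generating
families of M, each indexed by the same finite set of size r. Then some invertible r × r matrix T
over R expresses m' in terms of m, m'_j = Σ_i T_{ji} m_i; reducing modulo the nilradical n, such a T
induces the change-of-basis matrix between the bases of M/nM given by the images of m and m' (an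
r-element generating family of M is itself an NR-basis), so only the existence of an invertible T is
asserted here. (T is not unique.) -/
theorem result (R : Type u) [CommRing R]
    [IsNoetherianRing R] (M : Type v) [AddCommGroup M] [Module R M] (r : ℕ)
    (hM : W4c1frobunstiva.IsNRFree R M r) (m m' : Fin r → M)
    (hm : Submodule.span R (Set.range m) = ⊤) (hm' : Submodule.span R (Set.range m') = ⊤) :
    ∃ T : Matrix (Fin r) (Fin r) R, IsUnit T ∧ ∀ j, m' j = ∑ i, T j i • m i := by
  classical
  have hm0 : ∀ a : Fin r → R, (∑ i, a i • m i) = 0 → ∀ i, a i ∈ nilradical R := by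
    obtain ⟨b, hb, hrel⟩ := hM
    intro a ha
    choose C hC using fun i => (Submodule.mem_span_range_iff_exists_fun R).1
      (show m i ∈ Submodule.span R (Set.range b) by rw [hb]; trivial)
    choose D hD using fun i => (Submodule.mem_span_range_iff_exists_fun R).1
      (show b i ∈ Submodule.span R (Set.range m) by rw [hm]; trivial)
    have hprod : ∀ i j, (Matrix.of D * Matrix.of C - 1) i j ∈ nilradical R := by
      intro i j
      apply mem_nilradical.2
      refine hrel (fun k => (Matrix.of D * Matrix.of C - 1) i k) ?_ j
      simp only [Matrix.sub_apply, sub_smul, Finset.sum_sub_distrib, Matrix.mul_apply,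
        Matrix.of_apply, Finset.sum_smul, mul_smul]
      rw [Finset.sum_comm]
      simp only [← Finset.smul_sum, hC, hD, Matrix.one_apply]
      simp
    let π := Ideal.Quotient.mk (nilradical R)
    have h1 : (Matrix.of D).map π * (Matrix.of C).map π = 1 := by
      rw [← Matrix.map_mul]
      ext i j
      rw [Matrix.map_apply, ← sub_eq_zero]
      have := Ideal.Quotient.eq_zero_iff_mem.2 (hprod i j)
      rw [Matrix.sub_apply, map_sub] at this
      rw [← this]
      congr 1
      simp only [Matrix.one_apply]
      split <;> simp
    have h2 : Matrix.vecMul (π ∘ a) ((Matrix.of C).map π) = 0 := by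
      funext k
      simp only [Matrix.vecMul, dotProduct, Matrix.map_apply, Matrix.of_apply, Function.comp_apply,
        ← map_mul, ← map_sum, Pi.zero_apply]
      rw [Ideal.Quotient.eq_zero_iff_mem, mem_nilradical]
      refine hrel (fun k => ∑ i, a i * C i k) ?_ k
      simp only [Finset.sum_smul, mul_smul]
      rw [Finset.sum_comm]
      simpa [← Finset.smul_sum, hC] using ha
    have h3 : π ∘ a = 0 := by
      have h4 : (Matrix.of C).map π * (Matrix.of D).map π = 1 := mul_eq_one_comm.1 h1
      have := congrArg (Matrix.vecMul · ((Matrix.of D).map π)) h2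
      simpa [Matrix.vecMul_vecMul, h4] using this
    exact fun i => Ideal.Quotient.eq_zero_iff_mem.1 (congrFun h3 i)
  choose T hT using fun j => (Submodule.mem_span_range_iff_exists_fun R).1
    (show m' j ∈ Submodule.span R (Set.range m) by rw [hm]; trivial)
  choose U hU using fun j => (Submodule.mem_span_range_iff_exists_fun R).1
    (show m j ∈ Submodule.span R (Set.range m') by rw [hm']; trivial)
  refine ⟨Matrix.of T, ?_, fun j => (hT j).symm⟩
  let π := Ideal.Quotient.mk (nilradical R)
  have h1 : (Matrix.of U).map π * (Matrix.of T).map π = 1 := by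
    rw [← Matrix.map_mul]
    ext i j
    rw [Matrix.map_apply, ← sub_eq_zero]
    have h2 : ∑ k, ((Matrix.of U * Matrix.of T - 1) i k) • m k = 0 := by
      simp only [Matrix.sub_apply, sub_smul, Finset.sum_sub_distrib, Matrix.mul_apply,
        Matrix.of_apply, Finset.sum_smul, mul_smul]
      rw [Finset.sum_comm]
      simp only [← Finset.smul_sum, hT, hU, Matrix.one_apply]
      simp
    have := Ideal.Quotient.eq_zero_iff_mem.2 (hm0 _ h2 j)
    rw [Matrix.sub_apply, map_sub] at this
    rw [← this]
    congr 1
    simp only [Matrix.one_apply]
    split <;> simp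
  rw [Matrix.isUnit_iff_isUnit_det]
  have h5 : IsUnit ((Matrix.of T).map π).det :=
    IsUnit.of_mul_eq_one_right _ (by rw [← Matrix.det_mul, h1, Matrix.det_one])
  have h6 : π.mapMatrix (Matrix.of T) = (Matrix.of T).map π := rfl
  rw [← h6, ← RingHom.map_det] at h5
  haveI : IsLocalHom π := by
    refine ⟨fun x hx => ?_⟩
    obtain ⟨y, hy⟩ := hx.exists_right_inv
    obtain ⟨z, rfl⟩ := Ideal.Quotient.mk_surjective y
    have h7 : IsNilpotent (x * z - 1) := mem_nilradical.1 (by
      rw [← Ideal.Quotient.eq_zero_iff_mem, map_sub, map_mul, hy, map_one, sub_self])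
    have h8 := h7.isUnit_one_add
    rw [add_sub_cancel] at h8
    exact isUnit_of_mul_isUnit_left h8
  exact isUnit_of_map_unit π _ h5

end Groth.Agent.S14043
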