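import Groth.Statements.S14044
import Mathlib
import Groth.Agent.Hermite86.Basic

set_option autoImplicit false
universe u
open W4c1frobunstiva

namespace Groth.Agent.S14044

/-- Let k be a field, p a prime number and M a square matrix of size r over k[[t]] with non-zero
determinant. Allowing, besides invertible row operations over k[[t]], invertible column operations
by matrices with entries in k[[t^p]] (power series whose coefficients vanish in all degrees not
divisible by p), M can be brought to a row-reduced form — upper triangular, diagonal entries
t^{e_i}, entries above the diagonal in column j polynomials of degree less than e_j — in which in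
addition the (i, j) entry (i < j) has no term in a degree that is at least e_i and congruent to e_i
modulo p. (Existence only; the form is not unique. The published statement asks that no term in any
degree congruent to e_i modulo p remain; the published reduction — adding k[[t^p]]-multiples of
column i to column j — removes exactly the terms of degree at least e_i, which is what is asserted
here. The published statement takes k algebraically closed of characteristic p, where k[[t^p]] is
the ring of p-th powers; neither assumption is used.) -/
theorem result (k : Type u)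
    [Field k] (p : ℕ) [Fact p.Prime] (r : ℕ) (M : Matrix (Fin r) (Fin r) (PowerSeries k))
    (hM : M.det ≠ 0) :
    ∃ (N P : Matrix (Fin r) (Fin r) (PowerSeries k)) (e : Fin r → ℕ), IsUnit N ∧ IsUnit P ∧
      (∀ i j n, ¬ p ∣ n → PowerSeries.coeff n (P i j) = 0) ∧
      (∀ i, (N * M * P) i i = PowerSeries.X ^ e i) ∧ (∀ i j, j < i → (N * M * P) i j = 0) ∧
      (∀ i j, i < j → ∀ n, (e j ≤ n ∨ (e i ≤ n ∧ n % p = e i % p)) →
        PowerSeries.coeff n ((N * M * P) i j) = 0) := by
  obtain ⟨N, e, hN, hT⟩ := Hermite86.exists_tri r M hM
  obtain ⟨N', P, f, hN', hP, hPQ, -, hRed⟩ := Hermite86.exists_red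
    (fun a n => a ≤ n ∧ n % p = a % p)
    (fun x : PowerSeries k => ∀ n, ¬ p ∣ n → PowerSeries.coeff n x = 0) False
    (fun n _ => map_zero _)
    (fun n hn => by rw [PowerSeries.coeff_one, if_neg (fun h : n = 0 => hn (h.symm ▸ dvd_zero p))])
    (fun x y hx hy n hn => by rw [map_add, hx n hn, hy n hn, add_zero])
    (fun x y hx hy n hn => by
      rw [PowerSeries.coeff_mul]
      refine Finset.sum_eq_zero fun ab hab => ?_
      replace hab : ab.1 + ab.2 = n := by simpa using hab
      by_cases h1 : p ∣ ab.1
      · rw [hy ab.2 (fun h2 => hn (hab ▸ dvd_add h1 h2)), mul_zero]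
      · rw [hx ab.1 h1, zero_mul])
    (fun r G e hG w => by
      obtain ⟨q, hq1, hq2⟩ := Hermite86.exists_q p r G e hG w
      exact ⟨q, hq1, False.elim, fun i n h => hq2 i n h.1 h.2⟩) r (N * M) e hT
  obtain ⟨⟨hd, hl⟩, hr⟩ := hRed
  rw [← Matrix.mul_assoc N' N M] at hd hl hr
  exact ⟨N' * N, P, f, hN'.mul hN, hP, fun i j n hn => hPQ i j n hn, hd, hl,
    fun i j hij n hn => hr i j hij n hn⟩

end Groth.Agent.S14044
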