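import Groth.Statements.S14046
import Mathlib

set_option autoImplicit false
universe u v w
open W4c1frobunstiva

namespace Groth.Agent.S14046

open TensorProduct in
/-- Let R → A be a homomorphism of commutative rings and I, J ideals of A with I ∩ J = 0 — so that A is
the fibre product of A/I and A/J over A/(I + J), i.e. Spec A is the union of the two closed
subschemes in the strong sense — and suppose A/(I + J) is flat over R. Then this persists under
every base change: for every commutative R-algebra R', the ideals generated by I and J in R' ⊗_R A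
again meet in 0. (This is the ideal-theoretic, affine form of the base-change step; the exact
sequence of unit sheaves deduced from it in the published statement — restriction of units to a
closed subscheme being surjective locally — is not restated. Without flatness of A/(I + J) the
conclusion fails: for A = k[x, y]/(xy) over R = k[u] with u ↦ x + y, I = (x) and J = (y), the base
change to R/(u) gives k[x]/(x²), in which both ideals become (x).) -/
theorem result (R : Type u) (A : Type v)
    [CommRing R] [CommRing A] [Algebra R A] (I J : Ideal A) (hIJ : I ⊓ J = ⊥)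
    [Module.Flat R (A ⧸ (I ⊔ J))] (R' : Type w) [CommRing R'] [Algebra R R'] :
    I.map (Algebra.TensorProduct.includeRight : A →ₐ[R] R' ⊗[R] A) ⊓
      J.map (Algebra.TensorProduct.includeRight : A →ₐ[R] R' ⊗[R] A) = ⊥ := by
  classical
  let g : A →ₗ[R] (A ⧸ I) × (A ⧸ J) :=
    LinearMap.prod (Ideal.Quotient.mkₐ R I).toLinearMap (Ideal.Quotient.mkₐ R J).toLinearMap
  let pI : (A ⧸ I) →ₗ[R] A ⧸ (I ⊔ J) :=
    (Ideal.Quotient.factorₐ R (le_sup_left : I ≤ I ⊔ J)).toLinearMap
  let pJ : (A ⧸ J) →ₗ[R] A ⧸ (I ⊔ J) :=
    (Ideal.Quotient.factorₐ R (le_sup_right : J ≤ I ⊔ J)).toLinearMap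
  let f : (A ⧸ I) × (A ⧸ J) →ₗ[R] A ⧸ (I ⊔ J) :=
    pI.comp (LinearMap.fst R (A ⧸ I) (A ⧸ J)) - pJ.comp (LinearMap.snd R (A ⧸ I) (A ⧸ J))
  have hg : Function.Injective g := by
    rw [← LinearMap.ker_eq_bot, eq_bot_iff]
    intro a ha
    have h1 : Ideal.Quotient.mk I a = 0 := congrArg Prod.fst (LinearMap.mem_ker.1 ha)
    have h2 : Ideal.Quotient.mk J a = 0 := congrArg Prod.snd (LinearMap.mem_ker.1 ha)
    rw [Ideal.Quotient.eq_zero_iff_mem] at h1 h2
    have h3 : a ∈ I ⊓ J := ⟨h1, h2⟩
    rw [hIJ] at h3
    exact h3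
  have hf : Function.Surjective f := by
    intro y
    obtain ⟨a, rfl⟩ := Ideal.Quotient.mk_surjective y
    refine ⟨(Ideal.Quotient.mk I a, 0), ?_⟩
    simp [f, pI, pJ]
  have hex : Function.Exact g f := by
    intro y
    constructor
    · intro hy
      obtain ⟨u, v⟩ := y
      obtain ⟨a, rfl⟩ := Ideal.Quotient.mk_surjective u
      obtain ⟨b, rfl⟩ := Ideal.Quotient.mk_surjective v
      have h1 : a - b ∈ I ⊔ J := by
        rw [← Ideal.Quotient.eq_zero_iff_mem, map_sub]
        simpa [f, pI, pJ] using hy
      obtain ⟨i, hi, j, hj, hsum⟩ := Submodule.mem_sup.1 h1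
      refine ⟨a - i, Prod.ext ?_ ?_⟩
      · change Ideal.Quotient.mk I (a - i) = Ideal.Quotient.mk I a
        rw [Ideal.Quotient.eq]
        simpa using I.neg_mem hi
      · change Ideal.Quotient.mk J (a - i) = Ideal.Quotient.mk J b
        rw [Ideal.Quotient.eq]
        have : a - i - b = j := by
          rw [sub_right_comm, ← hsum, add_sub_cancel_left]
        rw [this]
        exact hj
    · rintro ⟨a, rfl⟩
      simp [f, g, pI, pJ]
  have hinj := LinearMap.lTensor_injective_of_exact_of_flat f hf g hg hex R'
  rw [eq_bot_iff]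
  rintro x ⟨hxI, hxJ⟩
  have key : ∀ K : Ideal A, x ∈ K.map (Algebra.TensorProduct.includeRight : A →ₐ[R] R' ⊗[R] A) →
      (Ideal.Quotient.mkₐ R K).toLinearMap.lTensor R' x = 0 := by
    intro K hK
    have h1 := Algebra.TensorProduct.lTensor_ker (R := R) (A := R') (C := A)
      (Ideal.Quotient.mkₐ R K) Ideal.Quotient.mk_surjective
    have h2 : RingHom.ker (Ideal.Quotient.mkₐ R K) = K := Ideal.Quotient.mkₐ_ker R K
    rw [h2] at h1
    rw [← h1] at hK
    exact hK
  have e : ∀ z : R' ⊗[R] A, TensorProduct.prodRight R R R' (A ⧸ I) (A ⧸ J) (g.lTensor R' z) =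
      ((Ideal.Quotient.mkₐ R I).toLinearMap.lTensor R' z,
        (Ideal.Quotient.mkₐ R J).toLinearMap.lTensor R' z) := by
    intro z
    induction z with
    | zero => simp only [map_zero]; rfl
    | tmul a b => simp [g]
    | add u v hu hv => simp [hu, hv]
  have hx : g.lTensor R' x = 0 := by
    apply (TensorProduct.prodRight R R R' (A ⧸ I) (A ⧸ J)).injective
    rw [e, map_zero, key I hxI, key J hxJ]
    rfl
  exact hinj (hx.trans (map_zero (g.lTensor R')).symm)

end Groth.Agent.S14046
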