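import Groth.Statements.S14047
import Groth.Agent.NodeStruct.FittingFamily
import Mathlib.AlgebraicGeometry.ZariskisMainTheorem
import Mathlib.RingTheory.Unramified.LocalStructure

set_option autoImplicit false
universe u
open CategoryTheory AlgebraicGeometry
open W4c1frobunstiva

namespace Groth.Agent.S14047

theorem sheafIdeal_congr {X : Scheme.{u}} {F G : X.Modules} (e : F ≅ G) (r : ℕ) :
    Fitt.sheafIdeal F r = Fitt.sheafIdeal G r := by
  have h : ∀ U : X.affineOpens, Fitt.ideal Γ(X, U.1) Γ(F, U.1) r = Fitt.ideal Γ(X, U.1) Γ(G, U.1) r := fun U => by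
    have he : ∀ z, e.inv.app U.1 (e.hom.app U.1 z) = z := fun z => by
      rw [← ConcreteCategory.comp_apply, ← Scheme.Modules.Hom.comp_app, e.hom_inv_id]; rfl
    have he' : ∀ z, e.hom.app U.1 (e.inv.app U.1 z) = z := fun z => by
      rw [← ConcreteCategory.comp_apply, ← Scheme.Modules.Hom.comp_app, e.inv_hom_id]; rfl
    exact FittLib.ideal_congr
      ({ toFun := e.hom.app U.1
         map_add' := map_add _
         map_smul' := fun a z => Scheme.Modules.Hom.app_smul e.hom a z
         invFun := e.inv.app U.1
         left_inv := he
         right_inv := he' } : Γ(F, U.1) ≃ₗ[Γ(X, U.1)] Γ(G, U.1)) r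
  unfold Fitt.sheafIdeal
  simp only [h]

/-- Let f : X → B be a proper family of nodal curves — flat, locally of finite presentation, each fibre
having all its irreducible components of dimension one and at worst nodes as singularities. Let Ω be
an O_X-module equipped with a universal B-derivation (a sheaf of relative differentials of X over B)
and let Z be the closed subscheme of X cut out by the first Fitting ideal sheaf of Ω, the singular
locus of f. Then the composite Z → X → B is finite and formally unramified, so unramified. -/
theorem result {X B : Scheme.{u}}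
    (f : X ⟶ B) (hf : Curv2.IsNodalFamily f) [IsProper f] (Ω : X.Modules) (d : OmegaSh.Der f Ω)
    (hd : OmegaSh.IsUniversal d) :
    IsFinite ((Fitt.sheafIdeal Ω 1).subschemeι ≫ f) ∧
      FormallyUnramified ((Fitt.sheafIdeal Ω 1).subschemeι ≫ f) := by
  haveI : LocallyOfFinitePresentation f := hf.2.1
  rw [sheafIdeal_congr (Omega.Basic.uniqueIso hd (Omega.DiagUniv.isUniversal_dOmega f)) 1]
  have hu := NodeStruct.formallyUnramified_fitting f hf
  refine ⟨?_, hu⟩
  haveI := hu
  haveI : LocallyQuasiFinite ((Fitt.sheafIdeal (_root_.Omega.sheaf f) 1).subschemeι ≫ f) := by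
    set g := (Fitt.sheafIdeal (_root_.Omega.sheaf f) 1).subschemeι ≫ f
    rw [HasRingHomProperty.iff_appLE (P := @LocallyQuasiFinite)]
    intro U V e
    have h1 := FormallyUnramified.formallyUnramified_appLE g U.2 V.2 e
    have h2 := g.finiteType_appLE U.2 V.2 e
    algebraize [(g.appLE U.1 V.1 e).hom]
    show Algebra.QuasiFinite _ _
    infer_instance
  exact IsFinite.of_isProper_of_locallyQuasiFinite _

end Groth.Agent.S14047
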