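import Groth.Statements.S14048
import Mathlib
-- import your own Groth.Agent.* helpers here

set_option autoImplicit false
universe u
open TensorProduct
open CAlg

namespace Groth.Agent.S14048

open Polynomial in
theorem key (p : ℕ) [Fact p.Prime] {A : Type*} [CommRing A] (T : A →+* ℚ[X]) (s : A →+* Localization.Away (2 : ℤ))
    (j : Localization.Away (2 : ℤ) →+* A) (hsj : ∀ x, s (j x) = x)
    (ι : Localization.Away (2 : ℤ) →+* ℚ) (hTj : ∀ x, T (j x) = C (ι x))
    (h0 : ∀ a, (T a).coeff 0 = ι (s a)) (S : Subring ℚ) (hι : ∀ x, ι x ∈ S)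
    (G : Set A) (hG : Ideal.span G = RingHom.ker s) (hGS : ∀ g ∈ G, ∀ n, (T g).coeff n ∈ S) :
    ∀ n a, (T a).coeff n ∈ S := by
  intro n
  induction n using Nat.strong_induction_on with
  | _ n IH =>
    intro a
    have claim : ∀ x ∈ Ideal.span G, (T x).coeff 0 = 0 ∧ ∀ m ≤ n, (T x).coeff m ∈ S := by
      intro x hx
      induction hx using Submodule.span_induction with
      | mem g hg =>
        refine ⟨?_, fun m _ ↦ hGS g hg m⟩
        have : g ∈ RingHom.ker s := hG ▸ Ideal.subset_span hg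
        rw [h0, RingHom.mem_ker.1 this, map_zero]
      | zero => simp [S.zero_mem]
      | add x y _ _ ihx ihy =>
        refine ⟨by simp [ihx.1, ihy.1], fun m hm ↦ ?_⟩
        rw [map_add, coeff_add]; exact S.add_mem (ihx.2 m hm) (ihy.2 m hm)
      | smul c x _ ih =>
        refine ⟨by simp [mul_coeff_zero, ih.1], fun m hm ↦ ?_⟩
        rw [smul_eq_mul, map_mul, coeff_mul]
        refine S.sum_mem fun q hq ↦ ?_
        rw [Finset.HasAntidiagonal.mem_antidiagonal] at hq
        by_cases hj : q.2 = 0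
        · rw [hj, ih.1, mul_zero]; exact S.zero_mem
        · exact S.mul_mem (IH q.1 (by omega) c) (ih.2 q.2 (by omega))
    rcases Nat.eq_zero_or_pos n with hn | hn
    · subst hn; rw [h0]; exact hι _
    · have hm : a - j (s a) ∈ Ideal.span G := by
        rw [hG, RingHom.mem_ker, map_sub, hsj, sub_self]
      have := (claim _ hm).2 n le_rfl
      rwa [map_sub, coeff_sub, hTj, coeff_C, if_neg hn.ne', sub_zero] at this

/-- rationals which are integral at `p` -/
def intAt (p : ℕ) [hp : Fact p.Prime] : Subring ℚ where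
  carrier := {q | padicNorm p q ≤ 1}
  mul_mem' {a b} ha hb := by
    show padicNorm p (a * b) ≤ 1
    rw [padicNorm.mul]; exact mul_le_one₀ ha (padicNorm.nonneg _) hb
  one_mem' := by show padicNorm p 1 ≤ 1; simp
  add_mem' {a b} ha hb := le_trans padicNorm.nonarchimedean (max_le ha hb)
  zero_mem' := by show padicNorm p 0 ≤ 1; simp
  neg_mem' {a} ha := by show padicNorm p (-a) ≤ 1; simpa using ha

theorem mem_intAt_of_den {p : ℕ} [hp : Fact p.Prime] {q : ℚ} (h : ¬ p ∣ q.den) : q ∈ intAt p := by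
  show padicNorm p q ≤ 1
  have : q = q.num * (q.den : ℚ)⁻¹ := by rw [← div_eq_mul_inv, Rat.num_div_den]
  rw [this, padicNorm.mul]
  refine mul_le_one₀ (padicNorm.of_int _) (padicNorm.nonneg _) ?_
  rw [← one_div, padicNorm.div, padicNorm.one, (padicNorm.nat_eq_one_iff _).2 h, div_one]

/-- Let A be an integral domain in which 2 is invertible and let t be an element of A, so that Spec A is
a scheme over the affine line Spec ℤ[1/2][t]. Assume that (1) the ℚ-algebra map ℚ[X] → ℚ ⊗_ℤ A
sending X to 1 ⊗ t is bijective (the map Spec A → Spec ℤ[1/2][t] becomes an isomorphism after base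
change to ℚ); (2) every prime number is invertible in A/(t) (the fibre over t = 0 is of pure
characteristic zero); and (3) there is a ring homomorphism s : A → ℤ[1/2] with s(t) = 1 (the fibre
over t = 1 admits a section). Then A is not Noetherian. -/
theorem result (A : Type u) [CommRing A]
    [IsDomain A] (h2 : IsUnit (2 : A)) (t : A)
    (h1 : Function.Bijective (Polynomial.aeval (R := ℚ) ((1 : ℚ) ⊗ₜ[ℤ] t : ℚ ⊗[ℤ] A)))
    (h0 : ∀ p : ℕ, p.Prime → IsUnit ((p : ℕ) : A ⧸ Ideal.span ({t} : Set A)))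
    (s : A →+* Localization.Away (2 : ℤ)) (hs : s t = 1) :
    ¬ IsNoetherianRing A := by
  classical
  intro hN
  let e := AlgEquiv.ofBijective _ h1
  let φ : A →+* Polynomial ℚ := (e.symm : ℚ ⊗[ℤ] A →+* Polynomial ℚ).comp
    (Algebra.TensorProduct.includeRight : A →ₐ[ℤ] ℚ ⊗[ℤ] A).toRingHom
  have hφt : φ t = Polynomial.X := by
    show e.symm ((1 : ℚ) ⊗ₜ[ℤ] t) = _
    rw [AlgEquiv.symm_apply_eq]
    simp [e]
  let ι : Localization.Away (2 : ℤ) →+* ℚ :=
    IsLocalization.Away.lift (2 : ℤ) (g := Int.castRingHom ℚ) (by simp)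
  let j : Localization.Away (2 : ℤ) →+* A :=
    IsLocalization.Away.lift (2 : ℤ) (g := Int.castRingHom A) (by simpa using h2)
  have hsj : ∀ x, s (j x) = x := by
    intro x
    have : s.comp j = RingHom.id _ :=
      IsLocalization.ringHom_ext (Submonoid.powers (2 : ℤ)) (RingHom.ext_int _ _)
    exact RingHom.congr_fun this x
  have hev : ∀ a, (φ a).eval 1 = ι (s a) := by
    intro a
    let g : A →ₐ[ℤ] ℚ := (ι.comp s).toIntAlgHom
    let ψ : ℚ ⊗[ℤ] A →ₐ[ℚ] ℚ :=
      Algebra.TensorProduct.lift (AlgHom.id ℚ ℚ) g (fun _ _ ↦ Commute.all _ _)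
    have : ψ.comp (e : Polynomial ℚ →ₐ[ℚ] ℚ ⊗[ℤ] A) = Polynomial.aeval 1 := by
      refine Polynomial.algHom_ext ?_
      simp [ψ, e, g, hs]
    have h := AlgHom.congr_fun this (φ a)
    rw [Polynomial.coe_aeval_eq_eval] at h
    rw [← h]
    show ψ (e (e.symm ((1 : ℚ) ⊗ₜ[ℤ] a))) = _
    rw [AlgEquiv.apply_symm_apply]
    simp [ψ, g]
  let T : A →+* Polynomial ℚ :=
    ((Polynomial.taylorAlgHom (1 : ℚ)).toRingHom).comp φ
  obtain ⟨G, hG⟩ := (RingHom.ker s).fg_of_isNoetherianRing
  obtain ⟨p, hp, hpp⟩ := Nat.exists_infinite_primes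
    ((∑ g ∈ G, ∑ n ∈ (T g).support, ((T g).coeff n).den) + 3)
  haveI : Fact p.Prime := ⟨hpp⟩
  have hsmall : ∀ g ∈ G, ∀ n, (T g).coeff n ∈ intAt p := by
    intro g hg n
    by_cases hn : n ∈ (T g).support
    · refine mem_intAt_of_den fun hd ↦ ?_
      have h₁ : ((T g).coeff n).den ≤ ∑ g ∈ G, ∑ n ∈ (T g).support, ((T g).coeff n).den :=
        le_trans (Finset.single_le_sum (f := fun n ↦ ((T g).coeff n).den) (fun _ _ ↦ Nat.zero_le _) hn)
          (Finset.single_le_sum (f := fun g ↦ ∑ n ∈ (T g).support, ((T g).coeff n).den) (fun _ _ ↦ Nat.zero_le _) hg)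
      have h₂ := Nat.le_of_dvd ((T g).coeff n).den_pos hd
      omega
    · rw [Polynomial.notMem_support_iff.1 hn]; exact (intAt p).zero_mem
  have hι : ∀ x, ι x ∈ intAt p := by
    intro x
    obtain ⟨⟨a, ⟨_, k, rfl⟩⟩, hx⟩ := IsLocalization.surj (Submonoid.powers (2 : ℤ)) x
    have := congrArg ι hx
    simp [ι, map_ofNat] at this
    have h2p : ¬ p ∣ 2 := fun h ↦ by have := Nat.le_of_dvd (by norm_num) h; omega
    show padicNorm p (ι x) ≤ 1
    have h' := congrArg (padicNorm p) this
    have h22 : padicNorm p (2 : ℚ) = 1 := by exact_mod_cast (padicNorm.nat_eq_one_iff 2).2 h2p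
    have hk : ∀ k : ℕ, padicNorm p ((2 : ℚ) ^ k) = 1 := by
      intro k; induction k with
      | zero => simp
      | succ k ih => rw [pow_succ, padicNorm.mul, ih, h22, one_mul]
    rw [padicNorm.mul, hk, mul_one] at h'
    calc padicNorm p (ι x) = padicNorm p (a : ℚ) := h'
      _ ≤ 1 := padicNorm.of_int a
  have hTj : ∀ x, T (j x) = Polynomial.C (ι x) := by
    intro x
    have : T.comp j = Polynomial.C.comp ι :=
      IsLocalization.ringHom_ext (Submonoid.powers (2 : ℤ)) (RingHom.ext_int _ _)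
    exact RingHom.congr_fun this x
  have h0' : ∀ a, (T a).coeff 0 = ι (s a) := by
    intro a
    show (Polynomial.taylor 1 (φ a)).coeff 0 = _
    rw [Polynomial.taylor_coeff_zero, hev]
  have hall := key p T s j hsj ι hTj h0' (intAt p) hι G hG hsmall
  obtain ⟨u, hu⟩ := (h0 p hpp).exists_left_inv
  obtain ⟨a, rfl⟩ := Ideal.Quotient.mk_surjective u
  rw [← map_natCast (Ideal.Quotient.mk (Ideal.span ({t} : Set A))), ← map_mul, ← map_one (Ideal.Quotient.mk (Ideal.span ({t} : Set A))),
    Ideal.Quotient.eq, Ideal.mem_span_singleton'] at hu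
  obtain ⟨b, hb⟩ := hu
  have := congrArg (fun z ↦ (φ z).eval 0) hb
  simp only [map_mul, map_sub, map_natCast, map_one, hφt, Polynomial.eval_mul, Polynomial.eval_X,
    mul_zero, Polynomial.eval_sub, Polynomial.eval_natCast, Polynomial.eval_one] at this
  have hmem : (φ a).eval 0 ∈ intAt p := by
    have : (φ a).eval 0 = (T a).eval (-1) := by
      show _ = (Polynomial.taylor 1 (φ a)).eval (-1)
      rw [Polynomial.taylor_eval]; norm_num
    rw [this, Polynomial.eval_eq_sum, Polynomial.sum_def]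
    exact (intAt p).sum_mem fun n _ ↦ (intAt p).mul_mem (hall n a) ((intAt p).pow_mem ((intAt p).neg_mem (intAt p).one_mem) _)
  have h' : (φ a).eval 0 * p = 1 := by linarith
  have h'' := congrArg (padicNorm p) h'
  rw [padicNorm.mul, padicNorm.one, padicNorm.padicNorm_p_of_prime] at h''
  have hle : padicNorm p ((φ a).eval 0) ≤ 1 := hmem
  have hp2 : (1:ℚ) < p := by exact_mod_cast hpp.one_lt
  have : padicNorm p ((φ a).eval 0) = p := by
    field_simp at h''
    linarith
  linarith

end Groth.Agent.S14048
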