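import Groth.Statements.S14049
-- import your own Groth.Agent.* helpers here

set_option autoImplicit false
universe u
open CategoryTheory AlgebraicGeometry
open LocStr

namespace Groth.Agent.S14049

lemma surjective_of_sq {A B : Type u} [CommRing A] [CommRing B] (φ : A →+* B) (J : Ideal B) (n : ℕ)
    (hn : J ^ n = ⊥) (h : ∀ b, ∃ a, b - φ a ∈ J ^ 2) : Function.Surjective φ := by
  have key : ∀ k, ∀ x ∈ J ^ (k + 1), ∃ a, φ a ∈ J ^ (k + 1) ∧ x - φ a ∈ J ^ (k + 2) := by
    intro k
    induction k with
    | zero =>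
      intro x hx
      obtain ⟨a, ha⟩ := h x
      refine ⟨a, ?_, ha⟩
      have h2 : x - φ a ∈ J ^ (0 + 1) := Ideal.pow_le_pow_right (by norm_num) ha
      simpa using sub_mem hx h2
    | succ k ih =>
      intro x hx
      rw [pow_succ] at hx
      induction hx using Submodule.mul_induction_on' with
      | mem_mul_mem p hp q hq =>
        obtain ⟨a, ha, ha'⟩ := ih p hp
        obtain ⟨c, hc⟩ := h q
        have hcJ : φ c ∈ J := by
          have := sub_mem hq (Ideal.pow_le_self (by norm_num) hc)
          simpa using this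
        refine ⟨a * c, ?_, ?_⟩
        · rw [map_mul, pow_succ]
          exact Ideal.mul_mem_mul ha hcJ
        · have e : p * q - φ (a * c) = (p - φ a) * q + φ a * (q - φ c) := by rw [map_mul]; ring
          rw [e]
          refine add_mem ?_ ?_
          · rw [pow_succ]
            exact Ideal.mul_mem_mul ha' hq
          · have := Ideal.mul_mem_mul ha hc
            rwa [← pow_add] at this
      | add p _ q _ hp hq =>
        obtain ⟨a, ha, ha'⟩ := hp
        obtain ⟨c, hc, hc'⟩ := hq
        refine ⟨a + c, by rw [map_add]; exact add_mem ha hc, ?_⟩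
        rw [map_add, add_sub_add_comm]
        exact add_mem ha' hc'
  have main : ∀ k b, ∃ a, b - φ a ∈ J ^ (k + 2) := by
    intro k
    induction k with
    | zero => exact h
    | succ k ih =>
      intro b
      obtain ⟨a, ha⟩ := ih b
      obtain ⟨c, -, hc⟩ := key (k + 1) _ ha
      exact ⟨a + c, by rw [map_add, ← sub_sub]; exact hc⟩
  intro b
  obtain ⟨a, ha⟩ := main n b
  have : b - φ a ∈ J ^ n := Ideal.pow_le_pow_right (by omega) ha
  rw [hn, Ideal.mem_bot, sub_eq_zero] at this
  exact ⟨a, this.symm⟩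

open AlgebraicGeometry CategoryTheory in
/-- The kernel of the stalk map of a closed subscheme is generated by sections of the ideal. -/
lemma ker_stalkMap_le {X : Scheme.{u}} (J : X.IdealSheafData) (U : X.affineOpens) (z : J.subscheme)
    (hU : J.subschemeι z ∈ U.1) :
    RingHom.ker (J.subschemeι.stalkMap z).hom ≤
      (J.ideal U).map (X.presheaf.germ U.1 (J.subschemeι z) hU).hom := by
  intro b hb
  obtain ⟨W, hW, w, rfl⟩ := X.presheaf.exists_germ_eq b
  rw [RingHom.mem_ker, Scheme.Hom.germ_stalkMap_apply] at hb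
  obtain ⟨W', hzW', i₁, i₂, e⟩ := J.subscheme.presheaf.germ_eq z
    (U := J.subschemeι ⁻¹ᵁ W) (V := J.subschemeι ⁻¹ᵁ W) hW hW (J.subschemeι.app W w) 0
    (hb.trans (map_zero _).symm)
  rw [map_zero] at e
  obtain ⟨W₀, hW₀, eW₀⟩ := J.subschemeι.isEmbedding.isInducing.isOpen_iff.mp W'.2
  obtain ⟨_, ⟨D : X.Opens, hD, rfl⟩, hzD, hDW⟩ :=
    X.isBasis_affineOpens.exists_subset_of_mem_open
      (show J.subschemeι z ∈ W₀ ∩ W ∩ U.1 from ⟨⟨(Set.ext_iff.mp eW₀ z).mpr hzW', hW⟩, hU⟩)
      ((hW₀.inter W.2).inter U.1.2)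
  have hDW' : D ≤ W := fun x hx => (hDW hx).1.2
  have hDU : (⟨D, hD⟩ : X.affineOpens) ≤ U := fun x hx => (hDW hx).2
  have hle : J.subschemeι ⁻¹ᵁ D ≤ W' := fun y hy => (Set.ext_iff.mp eW₀ y).mp (hDW hy).1.1
  have hmem : X.presheaf.map (homOfLE hDW').op w ∈ J.ideal ⟨D, hD⟩ := by
    rw [← J.ker_subschemeι_app ⟨D, hD⟩, RingHom.mem_ker]
    have e1 := congr(J.subscheme.presheaf.map (homOfLE hle).op $e)
    rw [map_zero, ← CategoryTheory.comp_apply, ← Functor.map_comp] at e1
    refine Eq.trans ?_ e1
    exact congr($(J.subschemeι.naturality (homOfLE hDW').op) w)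
  rw [← J.map_ideal hDU] at hmem
  have := Ideal.mem_map_of_mem (X.presheaf.germ D (J.subschemeι z) hzD).hom hmem
  rw [Ideal.map_map] at this
  convert this using 2
  · rw [← CommRingCat.hom_comp]
    exact congrArg _ (X.presheaf.germ_res (homOfLE hDU) _ hzD).symm
  · exact (X.presheaf.germ_res_apply (homOfLE hDW') _ hzD w).symm

/-- For schemes. Let f : X → Y be a morphism of schemes and let I be a quasi-coherent sheaf of ideals on
X which is nilpotent (some power of I is zero). Let X₁ ⊆ X be the closed subscheme defined by I².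
Then f is a closed immersion as soon as the composite X₁ → X → Y is one. (The published statement is
the same assertion for a morphism of algebraic stacks; it is stated here for schemes.) -/
theorem result (X Y : Scheme.{u}) (f : X ⟶ Y)
    (I : X.IdealSheafData) (hI : IsNilpotent I)
    (h : IsClosedImmersion ((I ^ 2).subschemeι ≫ f)) :
    IsClosedImmersion f := by
  obtain ⟨n, hn⟩ := hI
  have hsup : I.support = ⊤ := by
    rcases n with _ | n
    · rw [pow_zero] at hn
      have : I = 0 := eq_zero_of_zero_eq_one hn.symm I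
      rw [this]
      exact Scheme.IdealSheafData.support_bot
    · rw [← Scheme.IdealSheafData.support_pow I (n + 1) n.succ_ne_zero, hn]
      exact Scheme.IdealSheafData.support_bot
  have hs : Function.Surjective (I ^ 2).subschemeι := by
    rw [← Set.range_eq_univ, Scheme.IdealSheafData.range_subschemeι,
      Scheme.IdealSheafData.support_pow I 2 (by norm_num), hsup]
    rfl
  let e := (I ^ 2).subschemeι.isEmbedding.toHomeomorphOfSurjective hs
  have hfe : (f : X → Y) = ((I ^ 2).subschemeι ≫ f) ∘ e.symm := by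
    ext x
    simp only [Function.comp_apply, Scheme.Hom.comp_apply]
    exact congrArg f (e.apply_symm_apply x).symm
  have emb : Topology.IsEmbedding f := by
    rw [hfe]
    exact (((I ^ 2).subschemeι ≫ f).isEmbedding).comp e.symm.isEmbedding
  have : SurjectiveOnStalks f := by
    refine ⟨fun x => ?_⟩
    obtain ⟨z, rfl⟩ := hs x
    obtain ⟨_, ⟨U : X.Opens, hU, rfl⟩, hzU, -⟩ :=
      X.isBasis_affineOpens.exists_subset_of_mem_open (Set.mem_univ ((I ^ 2).subschemeι z))
        isOpen_univ
    refine surjective_of_sq (f.stalkMap ((I ^ 2).subschemeι z)).hom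
      ((I.ideal ⟨U, hU⟩).map (X.presheaf.germ U _ hzU).hom) n ?_ ?_
    · have h0 : I.ideal ⟨U, hU⟩ ^ n = ⊥ := by
        have := congr(($hn).ideal ⟨U, hU⟩)
        rwa [Scheme.IdealSheafData.ideal_pow, Pi.pow_apply] at this
      rw [← Ideal.map_pow, h0, Ideal.map_bot]
    · intro b
      have hsurj := ((I ^ 2).subschemeι ≫ f).stalkMap_surjective z
      obtain ⟨a, ha⟩ := hsurj ((I ^ 2).subschemeι.stalkMap z b)
      rw [Scheme.Hom.stalkMap_comp] at ha
      refine ⟨a, ?_⟩
      have hk : b - (f.stalkMap ((I ^ 2).subschemeι z)).hom a ∈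
          RingHom.ker ((I ^ 2).subschemeι.stalkMap z).hom := by
        rw [RingHom.mem_ker, map_sub, sub_eq_zero]
        exact ha.symm
      have := ker_stalkMap_le (I ^ 2) ⟨U, hU⟩ z hzU hk
      rwa [Scheme.IdealSheafData.ideal_pow, Pi.pow_apply, Ideal.map_pow] at this
  have : IsPreimmersion f := ⟨emb⟩
  refine .of_isPreimmersion f ?_
  have hr : Set.range f = Set.range ((I ^ 2).subschemeι ≫ f) := by
    rw [Scheme.Hom.comp_base, TopCat.coe_comp, Set.range_comp, hs.range_eq, Set.image_univ]
  rw [hr]
  exact ((I ^ 2).subschemeι ≫ f).isClosedEmbedding.isClosed_range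

end Groth.Agent.S14049
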