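import Groth.Statements.S14050
import Groth.Agent.Hens.PairApprox
import Groth.Agent.S14624
import Groth.Agent.S0600

set_option autoImplicit false
set_option linter.style.haveILetI false
universe u
open CategoryTheory CategoryTheory.Limits
open Hensel

namespace Groth.Agent.S14050

/-- Let A be a G-ring, that is a Noetherian ring whose local rings have regular completion maps (for
instance a quasi-excellent ring), let I be an ideal such that (A, I) is a henselian pair, and let Â
be the I-adic completion of A. Let F be a functor from A-algebras (commutative rings under A) to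
sets which preserves filtered colimits, let ξ ∈ F(Â) and n ≥ 0. Then there is η ∈ F(A) such that η
and ξ have the same image in F(A/I^(n+1)). Here π is the A-algebra map Â → A/I^(n+1), pinned by its
underlying ring map, and ρ is the structure map A → A/I^(n+1). (The published statement is for a
limit-preserving contravariant functor on all schemes over Spec A; only its values on affine schemes
enter, and those form a functor on A-algebras preserving filtered colimits, which is the form stated
here.) -/
theorem result (A : Type u) [CommRing A]
    (I : Ideal A) [HenselianRing A I] (hG : CAlg.IsGRing A)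
    (F : Under (CommRingCat.of A) ⥤ Type u)
    (hF : ∀ (J : Type u) [SmallCategory J] [IsFiltered J], PreservesColimitsOfShape J F)
    (n : ℕ)
    (π : Under.mk (CommRingCat.ofHom (algebraMap A (AdicCompletion I A))) ⟶
      Under.mk (CommRingCat.ofHom (algebraMap A (A ⧸ I ^ (n + 1)))))
    (hπ : π.right = CommRingCat.ofHom
      (AdicCompletion.evalₐ I (n + 1) : AdicCompletion I A →ₐ[A] A ⧸ I ^ (n + 1)).toRingHom)
    (ρ : Under.mk (𝟙 (CommRingCat.of A)) ⟶
      Under.mk (CommRingCat.ofHom (algebraMap A (A ⧸ I ^ (n + 1)))))
    (ξ : F.obj (Under.mk (CommRingCat.ofHom (algebraMap A (AdicCompletion I A))))) :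
    ∃ η : F.obj (Under.mk (𝟙 (CommRingCat.of A))), F.map ρ η = F.map π ξ := by
  haveI : IsNoetherianRing A := hG.1
  by_cases htop : I = ⊤
  · haveI : Subsingleton A := subsingleton_of_forall_eq 0 fun x => by
      have h1 : (1 : A) ∈ Ideal.jacobson (⊥ : Ideal A) :=
        (HenselianRing.jac (I := I)) (by rw [htop]; trivial)
      rw [Ideal.mem_jacobson_bot] at h1
      have h2 : IsUnit (0 : A) := by simpa using h1 (-1)
      exact isUnit_zero_iff.mp h2 ▸ (by rw [← mul_one x, ← isUnit_zero_iff.mp h2, mul_zero])
    haveI : Subsingleton (A ⧸ I ^ (n + 1)) := Ideal.Quotient.mk_surjective.subsingleton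
    let σ : Under.mk (CommRingCat.ofHom (algebraMap A (A ⧸ I ^ (n + 1)))) ⟶ Under.mk (𝟙 (CommRingCat.of A)) :=
      Under.homMk (CommRingCat.ofHom (Ideal.Quotient.lift (I ^ (n + 1)) (RingHom.id A) fun x _ => Subsingleton.elim _ _))
        (CommRingCat.hom_ext (RingHom.ext fun x => @Subsingleton.elim A _ _ _))
    refine ⟨F.map (π ≫ σ) ξ, ?_⟩
    rw [← Functor.map_comp_apply, show (π ≫ σ) ≫ ρ = π from CategoryTheory.CommaMorphism.ext (Subsingleton.elim _ _)
      (CommRingCat.hom_ext (RingHom.ext fun x => @Subsingleton.elim (A ⧸ I ^ (n + 1)) _ _ _))]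
  exact S14624.result A I htop
    (fun k l c f a ha => Hens.PairApprox.exists_zero _ (S0600.result A hG I) k l c f a ha) F hF (n + 1) π hπ ρ ξ

end Groth.Agent.S14050
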