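import Groth.Statements.S14051
import Mathlib
-- import your own Groth.Agent.* helpers here

set_option autoImplicit false
universe u
open CAlg

namespace Groth.Agent.S14051

/-- Let A be a commutative ℕ-graded algebra over a base ring R which is generated by A_1 as an
A_0-algebra, written as A_{n+1} = A_1 · A_n for every n, and let M be a graded A-module: an A-module
with R-submodules M_n giving a direct-sum decomposition and A_i · M_j ⊆ M_{i+j}. If M is spanned
over A by a set of homogeneous elements all of degree at most n₀, then for every n ≥ n₀ and every k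
≥ 0 the degree-(n+k) part of M is A_k · M_n. -/
theorem result
    (R : Type u) [CommRing R] (A : Type u) [CommRing A] [Algebra R A]
    (𝒜 : ℕ → Submodule R A) [GradedAlgebra 𝒜]
    (hA : ∀ n : ℕ, 𝒜 (n + 1) = 𝒜 1 * 𝒜 n)
    (M : Type u) [AddCommGroup M] [Module R M] [Module A M] [IsScalarTower R A M]
    (ℳ : ℕ → Submodule R M) [DirectSum.Decomposition ℳ] [SetLike.GradedSMul 𝒜 ℳ]
    (s : Set M) (n₀ : ℕ) (hs : ∀ y ∈ s, ∃ d : ℕ, d ≤ n₀ ∧ y ∈ ℳ d)
    (hspan : Submodule.span A s = ⊤)
    (n k : ℕ) (hn : n₀ ≤ n) :
    ℳ (n + k) = 𝒜 k • ℳ n := by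
  classical
  have hmul : ∀ j i : ℕ, 𝒜 (i + j) = 𝒜 i * 𝒜 j ∨ (i = 0 ∧ j = 0) := by
    intro j i
    induction i with
    | zero =>
      rcases j with _ | j
      · exact Or.inr ⟨rfl, rfl⟩
      · left
        rw [zero_add]
        refine le_antisymm ?_ (Submodule.mul_le.2 fun a ha b hb ↦ by simpa using SetLike.mul_mem_graded ha hb)
        intro a ha
        simpa using Submodule.mul_mem_mul (SetLike.GradedOne.one_mem (A := 𝒜)) ha
    | succ i ih =>
      left
      rcases ih with ih | ⟨rfl, rfl⟩
      · rw [Nat.add_right_comm, hA, ih, ← mul_assoc, ← hA]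
      · refine le_antisymm ?_ (Submodule.mul_le.2 fun a ha b hb ↦ by simpa using SetLike.mul_mem_graded ha hb)
        intro a ha
        simpa using Submodule.mul_mem_mul ha (SetLike.GradedOne.one_mem (A := 𝒜))
  refine le_antisymm ?_ (Submodule.smul_le.2 fun a ha y hy ↦ ?_)
  · intro x hx
    have hkey : ∀ z : M, ((DirectSum.decompose ℳ z (n + k)) : M) ∈ 𝒜 k • ℳ n := by
      intro z
      have hz : z ∈ Submodule.span A s := hspan ▸ Submodule.mem_top
      have hkey' : ∀ (y : M), y ∈ s → ∀ a : A, ((DirectSum.decompose ℳ (a • y) (n + k)) : M) ∈ 𝒜 k • ℳ n := by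
        intro y hy a
        obtain ⟨d, hd, hyd⟩ := hs y hy
        rw [← DirectSum.sum_support_decompose 𝒜 a, Finset.sum_smul, DirectSum.decompose_sum]
        rw [DFinsupp.finsetSum_apply, AddSubmonoidClass.coe_finsetSum]
        refine Submodule.sum_mem _ fun i _ ↦ ?_
        have hmem : ((DirectSum.decompose 𝒜 a i : A) • y) ∈ ℳ (i + d) :=
          SetLike.GradedSMul.smul_mem (A := 𝒜) (B := ℳ) (i := i) (SetLike.coe_mem _) hyd
        by_cases hi : i + d = n + k
        · rw [DirectSum.decompose_of_mem_same ℳ (hi ▸ hmem)]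
          have hi' : i = k + (n - d) := by omega
          rcases hmul (n - d) k with h | ⟨hk0, hnd⟩
          · have ha : (DirectSum.decompose 𝒜 a i : A) ∈ 𝒜 k * 𝒜 (n - d) := h ▸ hi' ▸ SetLike.coe_mem _
            refine Submodule.mul_induction_on ha (fun b hb c hc ↦ ?_) (fun b c ihb ihc ↦ ?_)
            · rw [mul_smul]
              refine Submodule.smul_mem_smul hb ?_
              have := SetLike.GradedSMul.smul_mem (A := 𝒜) (B := ℳ) hc hyd
              simpa [vadd_eq_add, Nat.sub_add_cancel (hd.trans hn)] using this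
            · rw [add_smul]; exact add_mem ihb ihc
          · subst hk0
            have hdn : d = n := by omega
            subst hdn
            have hi0 : i = 0 := by omega
            subst hi0
            exact Submodule.smul_mem_smul (SetLike.coe_mem _) hyd
        · rw [DirectSum.decompose_of_mem_ne ℳ hmem hi]
          exact zero_mem _
      suffices ∀ a : A, ((DirectSum.decompose ℳ (a • z) (n + k)) : M) ∈ 𝒜 k • ℳ n by simpa using this 1
      induction hz using Submodule.span_induction with
      | mem y hy => exact hkey' y hy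
      | zero => intro a; simp
      | add y w _ _ iy iw => intro a; rw [smul_add, DirectSum.decompose_add]; exact add_mem (iy a) (iw a)
      | smul b y _ iy => intro a; rw [smul_smul]; exact iy _
    have := hkey x
    rwa [DirectSum.decompose_of_mem_same ℳ hx] at this
  · have := SetLike.GradedSMul.smul_mem (A := 𝒜) (B := ℳ) ha hy
    rwa [vadd_eq_add, add_comm] at this

end Groth.Agent.S14051
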