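import Groth.Statements.S14053
import Mathlib
-- import your own Groth.Agent.* helpers here

set_option autoImplicit false
universe u
open CAlg

namespace Groth.Agent.S14053

theorem exists_le_sum {ι : Type} (s : Finset ι) (n : ι → ℕ) :
    ∀ t, t ≤ ∑ i ∈ s, n i → ∃ n' : ι → ℕ, (∀ i, n' i ≤ n i) ∧ ∑ i ∈ s, n' i = t := by
  classical
  induction s using Finset.induction with
  | empty =>
    intro t ht
    exact ⟨0, fun i => Nat.zero_le _, by simp at ht ⊢; omega⟩
  | insert a s ha ih =>
    intro t ht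
    rw [Finset.sum_insert ha] at ht
    obtain ⟨n', h1, h2⟩ := ih (t - min t (n a)) (by omega)
    refine ⟨Function.update n' a (min t (n a)), fun i => ?_, ?_⟩
    · rcases eq_or_ne i a with rfl | h
      · simp
      · simpa [h] using h1 i
    · rw [Finset.sum_insert ha, Function.update_self, Finset.sum_update_of_notMem ha, h2]
      omega

/-- An exponent vector of weight `6em` has a part of weight exactly `6e`. -/
theorem exists_part {ι : Type} [Fintype ι] (w : ι → ℕ) (hw : ∀ i, w i ∣ 6) (e : ℕ)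
    (he : ∑ i, w i * (6 / w i - 1) ≤ e) (a : ι → ℕ) (m : ℕ)
    (ha : ∑ i, a i * w i = (m + 1) * (6 * e)) :
    ∃ b : ι → ℕ, (∀ i, b i ≤ a i) ∧ ∑ i, b i * w i = 6 * e := by
  have hq : ∀ i, 6 / w i * w i = 6 := fun i => Nat.div_mul_cancel (hw i)
  have hq0 : ∀ i, 0 < 6 / w i := fun i => by
    have := hq i
    rcases Nat.eq_zero_or_pos (6 / w i) with h | h
    · rw [h, zero_mul] at this; omega
    · exact h
  set R := ∑ i, a i % (6 / w i) * w i
  set N := ∑ i, a i / (6 / w i)
  have hsplit : ∀ i, a i * w i = a i % (6 / w i) * w i + 6 * (a i / (6 / w i)) := fun i => by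
    calc a i * w i = (a i % (6 / w i) + (6 / w i) * (a i / (6 / w i))) * w i := by rw [Nat.mod_add_div]
      _ = a i % (6 / w i) * w i + (6 / w i * w i) * (a i / (6 / w i)) := by ring
      _ = _ := by rw [hq]
  have htot : R + 6 * N = (m + 1) * (6 * e) := by
    rw [← ha, Finset.mul_sum, ← Finset.sum_add_distrib]
    exact Finset.sum_congr rfl fun i _ => (hsplit i).symm
  have hR : R ≤ e := le_trans (Finset.sum_le_sum fun i _ => by
    rw [mul_comm]
    exact Nat.mul_le_mul_left _ (Nat.le_sub_one_of_lt (Nat.mod_lt _ (hq0 i)))) he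
  have h6 : 6 ∣ R := by
    have h1 : 6 ∣ R + 6 * N := htot ▸ (dvd_mul_right 6 e).mul_left (m + 1)
    exact (Nat.dvd_add_left (dvd_mul_right 6 N)).mp h1
  obtain ⟨r, hr⟩ := h6
  have hbig : 6 * e ≤ (m + 1) * (6 * e) := Nat.le_mul_of_pos_left _ (Nat.succ_pos m)
  obtain ⟨n', hn', hsum⟩ := exists_le_sum Finset.univ (fun i => a i / (6 / w i)) (e - r) (by omega)
  refine ⟨fun i => a i % (6 / w i) + 6 / w i * n' i, fun i => ?_, ?_⟩
  · calc a i % (6 / w i) + 6 / w i * n' i ≤ a i % (6 / w i) + 6 / w i * (a i / (6 / w i)) :=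
          add_le_add le_rfl (Nat.mul_le_mul_left _ (hn' i))
      _ = a i := Nat.mod_add_div _ _
  · have : ∀ i, (a i % (6 / w i) + 6 / w i * n' i) * w i = a i % (6 / w i) * w i + 6 * n' i := fun i => by
      calc _ = a i % (6 / w i) * w i + (6 / w i * w i) * n' i := by ring
        _ = _ := by rw [hq]
    simp only [this, Finset.sum_add_distrib, ← Finset.mul_sum, hsum]
    omega


/-- Let k be a field and R a commutative ℕ-graded k-algebra with R_0 = k · 1 which is generated as a
k-algebra by R_1, R_2 and R_3, each a finite-dimensional k-vector space, of dimensions d_1, d_2,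
d_3. Then for every natural number e ≥ 5 d_1 + 4 d_2 + 3 d_3 the (6e)-th Veronese subring of R is
generated in degree one over k: R_{6em} = (R_{6e})^m for every m > 0. -/
theorem result
    (k : Type u) [Field k] (R : Type u) [CommRing R] [Algebra k R]
    (ℛ : ℕ → Submodule k R) [GradedAlgebra ℛ]
    (h0 : ℛ 0 = 1)
    (hgen : Algebra.adjoin k ((ℛ 1 : Set R) ∪ (ℛ 2 : Set R) ∪ (ℛ 3 : Set R)) = ⊤)
    [Module.Finite k (ℛ 1)] [Module.Finite k (ℛ 2)] [Module.Finite k (ℛ 3)]
    (e : ℕ) (he : 5 * Module.finrank k (ℛ 1) + 4 * Module.finrank k (ℛ 2) + 3 * Module.finrank k (ℛ 3) ≤ e)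
    (m : ℕ) (hm : 0 < m) :
    ℛ (m * (6 * e)) = ℛ (6 * e) ^ m := by
  classical
  refine le_antisymm ?_ ?_
  swap
  · clear hm he
    induction m with
    | zero => rw [zero_mul, pow_zero, h0]
    | succ m ih =>
      rw [pow_succ, add_one_mul]
      exact Submodule.mul_le.mpr fun a ha b hb => SetLike.mul_mem_graded (ih ha) hb
  let d1 := Module.finrank k (ℛ 1)
  let d2 := Module.finrank k (ℛ 2)
  let d3 := Module.finrank k (ℛ 3)
  let g : Fin d1 ⊕ Fin d2 ⊕ Fin d3 → R :=
    Sum.elim (fun i => (Module.finBasis k (ℛ 1) i : R))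
      (Sum.elim (fun i => (Module.finBasis k (ℛ 2) i : R)) (fun i => (Module.finBasis k (ℛ 3) i : R)))
  let w : Fin d1 ⊕ Fin d2 ⊕ Fin d3 → ℕ := Sum.elim (fun _ => 1) (Sum.elim (fun _ => 2) (fun _ => 3))
  have hgw : ∀ i, g i ∈ ℛ (w i) := by
    rintro (i | i | i) <;> exact Subtype.coe_prop _
  have hwd : ∀ i, w i ∣ 6 := by
    rintro (i | i | i) <;> simp [w]
  have hwe : ∑ i, w i * (6 / w i - 1) ≤ e := by
    simp [w, Fintype.sum_sum_type]
    omega
  have hmon : ∀ a : Fin d1 ⊕ Fin d2 ⊕ Fin d3 → ℕ, ∏ i, g i ^ a i ∈ ℛ (∑ i, a i * w i) := by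
    intro a
    refine SetLike.prod_mem_graded _ _ _ fun i _ => ?_
    rw [← smul_eq_mul]
    exact SetLike.pow_mem_graded _ (hgw i)
  -- monomials of weight `6em` are in the power
  have key : ∀ (l : ℕ) (a : Fin d1 ⊕ Fin d2 ⊕ Fin d3 → ℕ), ∑ i, a i * w i = l * (6 * e) →
      0 < l → ∏ i, g i ^ a i ∈ ℛ (6 * e) ^ l := by
    intro l
    induction l with
    | zero => intro a _ h; omega
    | succ l ih =>
      intro a ha _
      rcases Nat.eq_zero_or_pos l with rfl | hl
      · rw [pow_one]; simpa [ha] using hmon a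
      obtain ⟨b, hb, hbw⟩ := exists_part w hwd e hwe a l ha
      have hsub : ∑ i, (a i - b i) * w i = l * (6 * e) := by
        have h1 : ∑ i, (a i - b i) * w i + ∑ i, b i * w i = ∑ i, a i * w i := by
          rw [← Finset.sum_add_distrib]
          exact Finset.sum_congr rfl fun i _ => by rw [← add_mul, Nat.sub_add_cancel (hb i)]
        rw [hbw, ha, add_one_mul] at h1
        omega
      have h2 : ∏ i, g i ^ a i = (∏ i, g i ^ (a i - b i)) * ∏ i, g i ^ b i := by
        rw [← Finset.prod_mul_distrib]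
        exact Finset.prod_congr rfl fun i _ => by rw [← pow_add, Nat.sub_add_cancel (hb i)]
      rw [h2, pow_succ]
      exact Submodule.mul_mem_mul (ih _ hsub hl) (hbw ▸ hmon b)
  -- every element is a polynomial in the generators
  have htop : Algebra.adjoin k (Set.range g) = ⊤ := by
    rw [eq_top_iff, ← hgen]
    refine Algebra.adjoin_le ?_
    rintro x ((hx | hx) | hx)
    · have := ((Module.finBasis k (ℛ 1)).sum_repr ⟨x, hx⟩)
      rw [← Subtype.coe_inj, Submodule.coe_sum] at this
      change _ = x at this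
      rw [← this]
      exact sum_mem fun i _ => Subalgebra.smul_mem _ (Algebra.subset_adjoin (Set.mem_range_self (f := g) (Sum.inl i))) _
    · have := ((Module.finBasis k (ℛ 2)).sum_repr ⟨x, hx⟩)
      rw [← Subtype.coe_inj, Submodule.coe_sum] at this
      change _ = x at this
      rw [← this]
      exact sum_mem fun i _ => Subalgebra.smul_mem _ (Algebra.subset_adjoin (Set.mem_range_self (f := g) (Sum.inr (Sum.inl i)))) _
    · have := ((Module.finBasis k (ℛ 3)).sum_repr ⟨x, hx⟩)
      rw [← Subtype.coe_inj, Submodule.coe_sum] at this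
      change _ = x at this
      rw [← this]
      exact sum_mem fun i _ => Subalgebra.smul_mem _ (Algebra.subset_adjoin (Set.mem_range_self (f := g) (Sum.inr (Sum.inr i)))) _
  intro x hx
  obtain ⟨P, rfl⟩ : ∃ P, MvPolynomial.aeval g P = x := by
    have : x ∈ (MvPolynomial.aeval (R := k) g).range := by
      rw [← Algebra.adjoin_range_eq_range_aeval, htop]; trivial
    exact this
  have hproj : GradedRing.proj ℛ (m * (6 * e)) (MvPolynomial.aeval g P) = MvPolynomial.aeval g P := by
    rw [GradedRing.proj_apply, DirectSum.decompose_of_mem_same ℛ hx]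
  rw [← hproj, MvPolynomial.as_sum P, map_sum, map_sum]
  refine Submodule.sum_mem _ fun a _ => ?_
  rw [MvPolynomial.aeval_monomial, Finsupp.prod_fintype _ _ (fun i => pow_zero _), ← Algebra.smul_def,
    GradedRing.proj_apply, DirectSum.decompose_smul, DirectSum.smul_apply, Submodule.coe_smul]
  refine Submodule.smul_mem _ _ ?_
  by_cases h : ∑ i, a i * w i = m * (6 * e)
  · rw [DirectSum.decompose_of_mem_same ℛ (h ▸ hmon a)]
    exact key m a h hm
  · rw [DirectSum.decompose_of_mem_ne ℛ (hmon a) h]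
    exact Submodule.zero_mem _

end Groth.Agent.S14053
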