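import Groth.Statements.S14055
import Groth.Agent.HodgeIdx81.Proper


set_option autoImplicit false
universe u
open CategoryTheory CategoryTheory.Limits AlgebraicGeometry TopologicalSpace
open Surf

namespace Groth.Agent.S14055

open Groth.Agent.HodgeIdx81 Groth.Agent.ProjTwist

set_option linter.style.haveILetI false

/-- Let k be an algebraically closed field and X a smooth surface over k: an integral scheme, proper and
smooth over k, of dimension 2; let W be its canonical module, a second exterior power of Ω_{X/k}.
For an invertible module L and an integral closed one-dimensional subscheme C ⊆ X write (L·C) =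
χ(O_C ⊗ L) − χ(O_C). If W is nef, that is (W·C) ≥ 0 for every such C, then X is minimal: it contains
no (−1)-curve, where a (−1)-curve is taken, through its numerical characterization, to be an
integral closed one-dimensional subscheme E with H¹(E, O_E) = 0 and (O_X(E)·E) = −1, O_X(E) being a
tensor inverse of the ideal sheaf of E. -/
theorem result (k : Type u) [Field k] [IsAlgClosed k] (X : Scheme.{u})
    [X.Over (Spec (CommRingCat.of k))] [IsProper (X ↘ (Spec (CommRingCat.of k)))] [Smooth (X ↘ (Spec (CommRingCat.of k)))]
    [IsIntegral X] (hdim : topologicalKrullDim X = 2)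
    (W : X.Modules) (hW : ExtPow.IsExtPow 2 (Omega.sheaf (X ↘ (Spec (CommRingCat.of k)))) W)
    (hnef : (∀ C : X.IdealSheafData, IsIntegral C.subscheme → topologicalKrullDim (C.support : Set X) = 1 →
      0 ≤ Curv2.euler k X (CohB1.tensorMod (ClSub.quotMod C) W) - Curv2.euler k X (ClSub.quotMod C))) :
    (∀ (E : X.IdealSheafData) (N : X.Modules), IsIntegral E.subscheme →
      topologicalKrullDim (E.support : Set X) = 1 → ClSub.IsInverseOf N (ClSub.idealMod E) →
      Subsingleton (Coh.HH E.subscheme (Coh.structureModule E.subscheme) 1) →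
      Curv2.euler k X (CohB1.tensorMod (ClSub.quotMod E) N) - Curv2.euler k X (ClSub.quotMod E) ≠ -1) := by
  have hd : topologicalKrullDim X = ((2 : ℕ) : WithBot ℕ∞) := by rw [hdim]; norm_num
  have hreg : ∀ x : X, IsRegularLocalRing (X.presheaf.stalk x) :=
    CurveDVR.isRegularLocalRing_stalk (X ↘ (Spec (CommRingCat.of k)))
  obtain ⟨A, hA⟩ := exists_ample k hreg hd
  have hWi := RR.isInvertible_canonical k hd hreg hA hW
  intro E N hE hE1 hN hH1 hdeg
  haveI := hE
  have hI := isInvertible_of_curve k hreg hd E (hE1.trans rfl)
  obtain ⟨eN⟩ := hN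
  have hNi := AmpCrit.NegVan.isInvertible_of_inverse hI (tensComm _ N ≪≫ eN)
  change NumTriv.deg1 k (ClSub.quotMod E) N = -1 at hdeg
  rw [deg1_quotMod k hI hNi, pr_inv_left k hd.le hI hNi hI (tensComm _ N ≪≫ eN), neg_neg] at hdeg
  have hadj := RR.adjunction k hd hreg hA hW E hI
  rw [curve_euler_eq_one k E (hE1.trans rfl) hH1, hdeg] at hadj
  have h := hnef E hE hE1
  change 0 ≤ NumTriv.deg1 k (ClSub.quotMod E) W at h
  rw [deg1_quotMod k hI hWi, pr_comm] at h
  omega

end Groth.Agent.S14055
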