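import Groth.Statements.S14056
import Groth.Agent.HodgeIdx81.Proper


set_option autoImplicit false
universe u
open CategoryTheory CategoryTheory.Limits AlgebraicGeometry TopologicalSpace
open Surf

namespace Groth.Agent.S14056

open Groth.Agent.HodgeIdx81 Groth.Agent.ProjTwist

set_option linter.style.haveILetI false

/-- Let k be an algebraically closed field and X a smooth surface over k: an integral scheme, proper and
smooth over k, of dimension 2; let W be its canonical module, a second exterior power of Ω_{X/k}.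
For an invertible module L and an integral closed one-dimensional subscheme C ⊆ X write (L·C) =
χ(O_C ⊗ L) − χ(O_C). Suppose that X has non-negative Kodaira dimension, that is some tensor power
W^{⊗m} with m > 0 has a nonzero global section, and that X is minimal: it contains no (−1)-curve,
where a (−1)-curve is taken, through its numerical characterization, to be an integral closed
one-dimensional subscheme E with H¹(E, O_E) = 0 and (O_X(E)·E) = −1, O_X(E) being a tensor inverse
of the ideal sheaf of E. Then W is nef: (W·C) ≥ 0 for every integral closed one-dimensional C ⊆ X.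
(Together with the first assertion: under non-negative Kodaira dimension, X is minimal if and only
if W is nef.) -/
theorem result (k : Type u) [Field k] [IsAlgClosed k] (X : Scheme.{u})
    [X.Over (Spec (CommRingCat.of k))] [IsProper (X ↘ (Spec (CommRingCat.of k)))] [Smooth (X ↘ (Spec (CommRingCat.of k)))]
    [IsIntegral X] (hdim : topologicalKrullDim X = 2)
    (W : X.Modules) (hW : ExtPow.IsExtPow 2 (Omega.sheaf (X ↘ (Spec (CommRingCat.of k)))) W)
    (m : ℕ) (hm : 0 < m) (hsec : Nontrivial (Coh.HH X (CohB1.tensorPow W m) 0))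
    (hmin : (∀ (E : X.IdealSheafData) (N : X.Modules), IsIntegral E.subscheme →
      topologicalKrullDim (E.support : Set X) = 1 → ClSub.IsInverseOf N (ClSub.idealMod E) →
      Subsingleton (Coh.HH E.subscheme (Coh.structureModule E.subscheme) 1) →
      Curv2.euler k X (CohB1.tensorMod (ClSub.quotMod E) N) - Curv2.euler k X (ClSub.quotMod E) ≠ -1)) :
    (∀ C : X.IdealSheafData, IsIntegral C.subscheme → topologicalKrullDim (C.support : Set X) = 1 →
      0 ≤ Curv2.euler k X (CohB1.tensorMod (ClSub.quotMod C) W) - Curv2.euler k X (ClSub.quotMod C)) := by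
  have hd : topologicalKrullDim X = ((2 : ℕ) : WithBot ℕ∞) := by rw [hdim]; norm_num
  have hreg : ∀ x : X, IsRegularLocalRing (X.presheaf.stalk x) :=
    CurveDVR.isRegularLocalRing_stalk (X ↘ (Spec (CommRingCat.of k)))
  obtain ⟨A, hA⟩ := exists_ample k hreg hd
  have hWi := RR.isInvertible_canonical k hd hreg hA hW
  intro C hC hC1
  haveI := hC
  have hI := isInvertible_of_curve k hreg hd C (hC1.trans rfl)
  show 0 ≤ NumTriv.deg1 k (ClSub.quotMod C) W
  rw [deg1_quotMod k hI hWi, neg_nonneg]
  by_contra hlt
  push Not at hlt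
  have hM := AmpleLib.isInvertible_tensorPow hWi m
  obtain ⟨c, hc⟩ := exists_ne (0 : Coh.HH X (CohB1.tensorPow W m) 0)
  obtain ⟨s, μ, hs, hp⟩ := pr_of_section k hreg hd hM ((ShStabLib.BC.secEquiv k _).symm c)
    fun h => hc ((LinearEquiv.map_eq_zero_iff _).1 h)
  have hpos : 0 < (m : ℤ) * pr k W (ClSub.idealMod C) := mul_pos (by exact_mod_cast hm) hlt
  rw [← pr_pow_left k hd.le hWi hI m, pr_comm, hp _ hI, neg_pos] at hpos
  obtain ⟨ξ, hξ, hξlt⟩ : ∃ ξ ∈ s, pr k (ClSub.idealMod C) (ClSub.idealMod (IntMult.ptIdeal ξ)) < 0 := by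
    by_contra h
    push Not at h
    exact hpos.not_ge (Finset.sum_nonneg fun ξ hξ => mul_nonneg (Int.natCast_nonneg _) (h ξ hξ))
  haveI := (hs ξ hξ).1
  have heq : C = IntMult.ptIdeal ξ := by
    by_contra hne
    exact hξlt.not_ge (RealNakai.pr_curves_nonneg k (hs ξ hξ).2.1 (hC1.trans rfl) (hs ξ hξ).2.2 hI
      (Ne.symm hne))
  rw [← heq] at hξlt
  have hadj := RR.adjunction k hd hreg hA hW C hI
  rw [pr_comm k (ClSub.idealMod C) W] at hadj
  obtain ⟨hle, hone⟩ := RR.curve_euler k C (hC1.trans rfl)
  obtain ⟨N, hNi, ⟨e⟩⟩ := PicLaw.exists_inverse hI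
  refine hmin C N hC hC1 ⟨tensComm _ _ ≪≫ e⟩ (hone (by omega)) ?_
  show NumTriv.deg1 k (ClSub.quotMod C) N = -1
  rw [deg1_quotMod k hI hNi, pr_inv_left k hd.le hI hNi hI e]
  omega

end Groth.Agent.S14056
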