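import Groth.Statements.S14057
import Groth.Agent.HodgeIdx81.Proper


set_option autoImplicit false
universe u
open CategoryTheory CategoryTheory.Limits AlgebraicGeometry TopologicalSpace
open Surf

namespace Groth.Agent.S14057

open Groth.Agent.HodgeIdx81 Groth.Agent.ProjTwist

set_option linter.style.haveILetI false

/-- Let k be an algebraically closed field and X a smooth surface over k: an integral scheme, proper and
smooth over k, of dimension 2; let W be its canonical module, a second exterior power of Ω_{X/k}.
For an invertible module L and an integral closed one-dimensional subscheme C ⊆ X write (L·C) =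
χ(O_C ⊗ L) − χ(O_C), and (W·W) for the self-intersection number of W (the alternating sum χ(O_X) −
2χ(W) + χ(W ⊗ W)). Suppose W is nef and (W·W) > 0. Then W is ample if and only if X contains no
(−2)-curve, where a (−2)-curve is taken, through its numerical characterization, to be an integral
closed one-dimensional subscheme E with H¹(E, O_E) = 0 and (O_X(E)·E) = −2, O_X(E) being a tensor
inverse of the ideal sheaf of E. (The published statement is for a minimal surface of general type;
its proof uses exactly that the canonical module is nef with positive self-intersection, which is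
how the hypothesis is written here.) -/
theorem result (k : Type u) [Field k] [IsAlgClosed k] (X : Scheme.{u})
    [X.Over (Spec (CommRingCat.of k))] [IsProper (X ↘ (Spec (CommRingCat.of k)))] [Smooth (X ↘ (Spec (CommRingCat.of k)))]
    [IsIntegral X] (hdim : topologicalKrullDim X = 2)
    (W : X.Modules) (hW : ExtPow.IsExtPow 2 (Omega.sheaf (X ↘ (Spec (CommRingCat.of k)))) W)
    (hnef : (∀ C : X.IdealSheafData, IsIntegral C.subscheme → topologicalKrullDim (C.support : Set X) = 1 →
      0 ≤ Curv2.euler k X (CohB1.tensorMod (ClSub.quotMod C) W) - Curv2.euler k X (ClSub.quotMod C)))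
    (hpos : 0 < FGA.intNum k X 2 ![W, W] (Coh.structureModule X)) :
    CohB1.IsAmple W ↔
    (∀ (E : X.IdealSheafData) (N : X.Modules), IsIntegral E.subscheme →
      topologicalKrullDim (E.support : Set X) = 1 → ClSub.IsInverseOf N (ClSub.idealMod E) →
      Subsingleton (Coh.HH E.subscheme (Coh.structureModule E.subscheme) 1) →
      Curv2.euler k X (CohB1.tensorMod (ClSub.quotMod E) N) - Curv2.euler k X (ClSub.quotMod E) ≠ -2) := by
  have hd : topologicalKrullDim X = ((2 : ℕ) : WithBot ℕ∞) := by rw [hdim]; norm_num
  have hreg : ∀ x : X, IsRegularLocalRing (X.presheaf.stalk x) :=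
    CurveDVR.isRegularLocalRing_stalk (X ↘ (Spec (CommRingCat.of k)))
  obtain ⟨A, hA⟩ := exists_ample k hreg hd
  have hWi := RR.isInvertible_canonical k hd hreg hA hW
  rw [intNum_eq_pr k hd hWi hWi] at hpos
  constructor
  · intro hWa E N hE hE1 hN hH1 hdeg
    haveI := hE
    have hI := isInvertible_of_curve k hreg hd E (hE1.trans rfl)
    obtain ⟨eN⟩ := hN
    have hNi := AmpCrit.NegVan.isInvertible_of_inverse hI (tensComm _ N ≪≫ eN)
    have hdN : Curv2.euler k X (CohB1.tensorMod (ClSub.quotMod E) N) - Curv2.euler k X (ClSub.quotMod E) =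
        pr k (ClSub.idealMod E) (ClSub.idealMod E) := by
      show NumTriv.deg1 k (ClSub.quotMod E) N = _
      rw [deg1_quotMod k hI hNi, pr_inv_left k hd.le hI hNi hI (tensComm _ N ≪≫ eN), neg_neg]
    rw [hdN] at hdeg
    have hadj := RR.adjunction k hd hreg hA hW E hI
    rw [curve_euler_eq_one k E (hE1.trans rfl) hH1, hdeg] at hadj
    have h := RealNakai.pr_ample_curve k hWa E (hE1.trans rfl) hI
    rw [pr_comm] at h
    omega
  · intro h
    refine RealNakai.isAmple_of_pr k hreg hd hWi hpos fun C hC hC1 hI => ?_
    haveI := hC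
    have hWC := hnef C hC (hC1.trans rfl)
    change 0 ≤ NumTriv.deg1 k (ClSub.quotMod C) W at hWC
    rw [deg1_quotMod k hI hWi, neg_nonneg] at hWC
    refine lt_of_le_of_ne hWC fun h0 => ?_
    have hneg := pr_self_neg_of_orth k hd hA hWi hI hpos h0 (RealNakai.pr_ample_curve k hA C hC1 hI).ne
    have hadj := RR.adjunction k hd hreg hA hW C hI
    rw [pr_comm k (ClSub.idealMod C) W, h0, sub_zero] at hadj
    obtain ⟨hle, hone⟩ := RR.curve_euler k C hC1
    obtain ⟨N, hNi, ⟨e⟩⟩ := PicLaw.exists_inverse hI
    refine h C N hC (hC1.trans rfl) ⟨tensComm _ _ ≪≫ e⟩ (hone (by omega)) ?_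
    show NumTriv.deg1 k (ClSub.quotMod C) N = -2
    rw [deg1_quotMod k hI hNi, pr_inv_left k hd.le hI hNi hI e]
    omega

end Groth.Agent.S14057
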