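import Groth.Statements.S14058
import Groth.Agent.NumTriv.Proper
import Groth.Agent.S0042
import Groth.Agent.EulerChar.Torsion

set_option autoImplicit false
universe u
open CategoryTheory CategoryTheory.Limits AlgebraicGeometry TopologicalSpace
open Surf

namespace Groth.Agent.S14058

/-- Let k be an algebraically closed field and X a normal surface over k: an integral normal scheme,
proper over k, of dimension 2. Let π : S → X be a resolution of X: S is an integral scheme of
dimension 2 smooth over k, π is proper, the map O_X → π_*O_S is an isomorphism, and π restricts to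
an isomorphism over the open subset of regular points of X. Then R¹π_*O_S = 0 if and only if χ(S,
O_S) = χ(X, O_X). Here R¹π_* is the first right derived functor of the direct image on abelian
sheaves, applied to the abelian sheaf underlying O_S. -/
theorem result (k : Type u) [Field k] [IsAlgClosed k]
    (X : Scheme.{u}) [X.Over (Spec (CommRingCat.of k))] [IsProper (X ↘ (Spec (CommRingCat.of k)))] [IsIntegral X]
    (hdimX : topologicalKrullDim X = 2) (hnorm : Pi1.IsNormalScheme X)
    (S : Scheme.{u}) (π : S ⟶ X) [IsProper π] [IsIntegral S] (hdimS : topologicalKrullDim S = 2)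
    [Smooth (π ≫ (X ↘ (Spec (CommRingCat.of k))))]
    (hO : IsIso (ClSub.unitToPush π))
    (U : X.Opens) (hU : ∀ x : X, x ∈ U ↔ IsRegularLocalRing (X.presheaf.stalk x)) (hiso : IsIso (π ∣_ U)) :
    letI : S.Over (Spec (CommRingCat.of k)) := ⟨π ≫ (X ↘ (Spec (CommRingCat.of k)))⟩
    IsZero ((Coh.RpushAb π 1).obj (Coh.toAb (Coh.structureModule S))) ↔
      Curv2.euler k S (Coh.structureModule S) = Curv2.euler k X (Coh.structureModule X) := by
  letI : S.Over (Spec (CommRingCat.of k)) := ⟨π ≫ (X ↘ (Spec (CommRingCat.of k)))⟩
  haveI : IsProper (S ↘ Spec (CommRingCat.of k)) :=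
    inferInstanceAs (IsProper (π ≫ (X ↘ (Spec (CommRingCat.of k)))))
  haveI := EulerChar.isNoetherian k (X := X)
  haveI := EulerChar.isNoetherian k (X := S)
  haveI := hiso
  haveI := hO
  haveI : EnoughInjectives S.Modules := ModShf.schemeModulesEnoughInjectives _
  have hOS := ProperFin.isCoh_structureModule S
  let R := CohAff.FRes.ofMod (Coh.structureModule S)
  haveI : (R.Z 0).IsQuasicoherent := hOS.1
  let G : ℕ → X.Modules := fun q => (Coh.Rpush π q).obj (Coh.structureModule S)
  have hG : ∀ q, Coh.IsCoh (G q) := fun q => NumTriv.isCoh_rpush (k := k) π rfl hOS q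
  have hsupU : ∀ q, CohB1.support (G (q + 1)) ⊆ (U : Set X)ᶜ := fun q =>
    (CohDev.support_subset_of_mono (R.rpushIsoRc π q).hom).trans (ProperFin.support_Rc_subset π R q U)
  have hstalk : ∀ (y : X) (q : ℕ),
      IsZero (TopCat.Presheaf.stalk ((Coh.RpushAb π q).obj (Coh.toAb (Coh.structureModule S))).obj y) →
      y ∉ CohB1.support (G q) := fun y q h hy => by
    let e := (TopCat.Presheaf.stalkFunctor AddCommGrpCat.{u} y).mapIso
      ((sheafToPresheaf _ _).mapIso ((ModShf.rpushCompToAb π q).app (Coh.structureModule S)))
    have hsub : Subsingleton ((G q).presheaf.stalk y) := AddCommGrpCat.subsingleton_of_isZero (h.of_iso e)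
    exact hy hsub
  have hgenU : π (genericPoint S) ∈ U := by
    by_contra hg
    have hXg : genericPoint X ∈ U := by
      rw [hU]
      exact inferInstanceAs (IsRegularLocalRing X.functionField)
    obtain ⟨s, hs⟩ : ∃ s, (π ∣_ U) s = ⟨genericPoint X, hXg⟩ := (π ∣_ U).surjective _
    exact hg (((genericPoint_specializes s.1).map π.continuous).mem_open U.2 s.2)
  -- curves in a fibre are over closed points
  have hfib0 : ∀ y : X, y ∉ U → ¬ IsClosed ({y} : Set X) →
      topologicalKrullDim ↥(π.fiber y) ≤ ((0 : ℕ) : WithBot ℕ∞) := by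
    intro y hy hyc
    refine Order.krullDim_nonpos_iff_forall_isMax.2 fun A B hAB => ?_
    obtain ⟨g, hg⟩ := QuasiSober.sober B.isIrreducible' B.isClosed'
    have key : ∀ z : ↥(π.fiber y), g ⤳ z → z = g := by
      intro z hz
      by_contra hne
      let a := π.fiberι y g
      let b := π.fiberι y z
      have hab : a ⤳ b := hz.map (π.fiberι y).continuous
      have hba : b ≠ a := fun h => hne ((π.fiberι y).isEmbedding.injective h)
      have hval : ∀ w, π (π.fiberι y w) = y := fun w => by
        have := (π.range_fiberι y).le ⟨w, rfl⟩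
        exact this
      obtain ⟨c, hc, hcc⟩ := (isClosed_closure (s := ({b} : Set S))).exists_closed_singleton
        ⟨b, subset_closure rfl⟩
      have hcb : c ≠ b := fun h => hyc (by
        rw [← hval z, show π.fiberι y z = c from h.symm, ← Set.image_singleton]
        exact π.isClosedMap _ hcc)
      have hag : a ≠ genericPoint S := fun h => hy (by rw [← hval g]; show π a ∈ U; rw [h]; exact hgenU)
      have h2 := CohDev.dim_closure_lt (x := genericPoint S) (y := a)
        (specializes_iff_mem_closure.1 (genericPoint_specializes a)) hag (n := 2)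
        ((Topology.IsInducing.subtypeVal.topologicalKrullDim_le).trans hdimS.le)
      have h1 := CohDev.dim_closure_lt (x := a) (y := b) (specializes_iff_mem_closure.1 hab) hba (n := 1)
        (Snapper.le_of_lt_succ h2)
      have h0 := CohDev.dim_closure_lt (x := b) (y := c) hc hcb (n := 0) (Snapper.le_of_lt_succ h1)
      haveI : Nonempty ↥(closure ({c} : Set S)) := ⟨⟨c, subset_closure rfl⟩⟩
      exact absurd (TopDimLib.topDim_nonneg_of_nonempty (X := ↥(closure ({c} : Set S)))) (not_le.2 (by simpa using h0))
    intro w hw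
    have hw' : w = g := key w (hg.specializes hw)
    obtain ⟨a, ha⟩ := A.isIrreducible'.nonempty
    rw [hw', ← key a (hg.specializes (hAB ha))]
    exact ha
  have hfib1 : ∀ y : X, y ∉ U → topologicalKrullDim ↥(π.fiber y) ≤ ((1 : ℕ) : WithBot ℕ∞) := by
    intro y hy
    by_cases hyc : IsClosed ({y} : Set X)
    · rw [IsHomeomorph.topologicalKrullDim_eq _ (π.fiberHomeo y).isHomeomorph]
      refine Snapper.le_of_lt_succ (CohDev.dim_lt_of_irreducible (hyc.preimage π.continuous)
        (IrreducibleSpace.isIrreducible_univ S) (Set.subset_univ _) (fun h => ?_) ?_)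
      · have : π (genericPoint S) = y := h (Set.mem_univ _)
        exact hy (this ▸ hgenU)
      · rw [IsHomeomorph.topologicalKrullDim_eq _ (Homeomorph.Set.univ S).isHomeomorph, hdimS]
        rfl
    · exact (hfib0 y hy hyc).trans (by norm_num)
  have hhigh : ∀ q, IsZero (G (q + 2)) := fun q => by
    refine CohDev.isZero_of_support_eq_empty (Set.eq_empty_iff_forall_notMem.2 fun y hy => ?_)
    exact hstalk y _ (S0042.result π y 1 (hfib1 y (hsupU (q + 1) hy)) _ hOS _ (by omega)) hy
  have hdim1 : topologicalKrullDim ↥(CohB1.support (G 1)) ≤ 0 := by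
    have hclosed : ∀ y ∈ CohB1.support (G 1), IsClosed ({y} : Set X) := fun y hy => by
      by_contra hyc
      exact hstalk y _ (S0042.result π y 0 (hfib0 y (hsupU 0 hy) hyc) _ hOS 1 one_pos) hy
    have hT := CohDev.isClosed_support (hG 1)
    haveI : QuasiSober ↥(CohB1.support (G 1)) := hT.isClosedEmbedding_subtypeVal.quasiSober
    refine Order.krullDim_nonpos_iff_forall_isMax.2 fun A B hAB => ?_
    obtain ⟨g, hg⟩ := QuasiSober.sober B.isIrreducible' B.isClosed'
    have hB : ∀ b ∈ (B : Set ↥(CohB1.support (G 1))), b = g := fun b hb => Subtype.ext (by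
      have h := specializes_iff_mem_closure.1 ((hg.specializes hb).map continuous_subtype_val)
      rwa [(hclosed g.1 g.2).closure_eq, Set.mem_singleton_iff] at h)
    intro b hb
    obtain ⟨a, ha⟩ := A.isIrreducible'.nonempty
    rwa [hB b hb, ← hB a (hAB ha)]
  -- Euler characteristics
  let e0 : G 0 ≅ Coh.structureModule X :=
    (Scheme.Modules.pushforward π).rightDerivedZeroIsoSelf.app _ ≪≫ (asIso (ClSub.unitToPush π)).symm
  have hsum : Curv2.euler k S (Coh.structureModule S) =
      Curv2.euler k X (Coh.structureModule X) - Curv2.euler k X (G 1) := by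
    rw [EulerChar.euler_leray π rfl _ hOS, finsum_eq_sum_of_support_subset _ (s := Finset.range 2) ?_]
    · simp only [Finset.sum_range_succ, Finset.sum_range_zero, pow_zero, pow_one]
      rw [EulerChar.euler_iso k e0]
      ring
    · intro q hq
      simp only [Finset.coe_range, Set.mem_Iio]
      by_contra hlt
      obtain ⟨q', rfl⟩ : ∃ q', q = q' + 2 := ⟨q - 2, by omega⟩
      exact hq (mul_eq_zero_of_right _ (EulerChar.euler_of_isZero k (hhigh q')))
  constructor
  · intro h
    have h1 : IsZero (G 1) := CohDev.isZero_of_support_eq_empty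
      (Set.eq_empty_iff_forall_notMem.2 fun y hy => hstalk y 1
        (((sheafToPresheaf _ _) ⋙ TopCat.Presheaf.stalkFunctor AddCommGrpCat.{u} y).map_isZero h) hy)
    rw [hsum, EulerChar.euler_of_isZero k h1, sub_zero]
  · intro h
    exact ((ModShf.toAbFunctor X).map_isZero (EulerChar.isZero_of_euler_eq_zero k (hG 1) hdim1 (by linarith))).of_iso
      ((ModShf.rpushCompToAb π 1).app (Coh.structureModule S)).symm


end Groth.Agent.S14058
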