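import Groth.Statements.S14059
import Groth.Agent.GrpScheme.Basic
import Groth.Agent.GrpScheme.IdComponent
import Mathlib.AlgebraicGeometry.AlgClosed.Basic
import Mathlib.RingTheory.Ideal.Cotangent
-- import your own Groth.Agent.* helpers here

set_option autoImplicit false
set_option backward.isDefEq.respectTransparency false
universe u
open CategoryTheory MonoidalCategory CartesianMonoidalCategory MonObj GrpObj AlgebraicGeometry
open GrpSch

namespace Groth.Agent.S14059

open CategoryTheory.MonoidalCategory CategoryTheory.CartesianMonoidalCategory MonObj GrpObj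

/-- The stalk at the closed point of the spectrum of a field is the field. -/
lemma germ_bijective (k : Type u) [Field k] :
    Function.Bijective ((Scheme.ΓSpecIso (CommRingCat.of k)).inv ≫
      (Spec (CommRingCat.of k)).presheaf.germ ⊤ (IsLocalRing.closedPoint k) trivial) := by
  have h : (Scheme.ΓSpecIso (CommRingCat.of k)).inv ≫
      (Spec (CommRingCat.of k)).presheaf.germ ⊤ (IsLocalRing.closedPoint k) trivial =
      (stalkClosedPointIso (CommRingCat.of k)).inv := by
    rw [← ΓSpecIso_hom_stalkClosedPointIso_inv, Iso.inv_hom_id_assoc]
  rw [h]
  exact ConcreteCategory.bijective_of_isIso _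

/-- A rational point with a field as local ring has the base field as local ring. -/
lemma stalkMap_bijective (k : Type u) [Field k] (G : Over (Spec (CommRingCat.of k)))
    (p : 𝟙_ (Over (Spec (CommRingCat.of k))) ⟶ G)
    (hF : IsField (G.left.presheaf.stalk (p.left (IsLocalRing.closedPoint k)))) :
    letI : G.left.Over (Spec (CommRingCat.of k)) := ⟨G.hom⟩
    Function.Bijective (Curv2.stalkMap k G.left (p.left (IsLocalRing.closedPoint k))) := by
  letI : G.left.Over (Spec (CommRingCat.of k)) := ⟨G.hom⟩
  letI := hF.toField
  let s : k →+* G.left.presheaf.stalk (p.left (IsLocalRing.closedPoint k)) := Curv2.stalkMap k G.left _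
  have h : ((Scheme.ΓSpecIso (CommRingCat.of k)).inv ≫ G.hom.appTop ≫
      G.left.presheaf.germ ⊤ (p.left (IsLocalRing.closedPoint k)) trivial) ≫
        p.left.stalkMap (IsLocalRing.closedPoint k) =
      (Scheme.ΓSpecIso (CommRingCat.of k)).inv ≫
        (Spec (CommRingCat.of k)).presheaf.germ ⊤ (IsLocalRing.closedPoint k) trivial := by
    rw [Category.assoc, Category.assoc, Scheme.Hom.germ_stalkMap]
    erw [← Scheme.Hom.comp_appTop_assoc]
    rw [Over.w p]
    simp
  have hb : Function.Bijective fun c => p.left.stalkMap (IsLocalRing.closedPoint k) (s c) := by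
    have := germ_bijective k
    rw [← h] at this
    exact this
  refine ⟨RingHom.injective s, fun y => ?_⟩
  obtain ⟨c, hc⟩ := hb.2 (p.left.stalkMap (IsLocalRing.closedPoint k) y)
  exact ⟨c, RingHom.injective (p.left.stalkMap (IsLocalRing.closedPoint k)).hom hc⟩

/-- Let k be an algebraically closed field and G a group scheme of finite type over k, with unit point e
(the image of the unit section). Then the tangent space of G at e is zero, that is the cotangent
space m_e/m_e² of the local ring O_{G,e} vanishes, if and only if G is isomorphic over k to a finite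
disjoint union of copies of Spec k, stated as: the underlying space of G is finite and discrete and
the structure map k → O_{G,g} is bijective for every point g. (The published statement is over an
arbitrary field; the group scheme of cube roots of unity over the rationals has zero tangent space
at the unit but a point with residue field larger than the base field, and the printed argument
translates by rational points, so the base field is taken algebraically closed here.) -/
theorem result (k : Type u) [Field k] [IsAlgClosed k]
    (G : Over (Spec (CommRingCat.of k))) [GrpObj G] [LocallyOfFiniteType G.hom] [QuasiCompact G.hom]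
    (e : G.left) (he : e ∈ Set.range (η[G]).left.base) :
    letI : G.left.Over (Spec (CommRingCat.of k)) := ⟨G.hom⟩
    Subsingleton (IsLocalRing.CotangentSpace (G.left.presheaf.stalk e)) ↔
      (Finite G.left ∧ DiscreteTopology G.left ∧
        ∀ g : G.left, Function.Bijective (Curv2.stalkMap k G.left g)) := by
  letI : G.left.Over (Spec (CommRingCat.of k)) := ⟨G.hom⟩
  have : IsLocallyNoetherian G.left := LocallyOfFiniteType.isLocallyNoetherian G.hom
  obtain ⟨t, rfl⟩ := he
  obtain rfl : t = IsLocalRing.closedPoint k := Subsingleton.elim (α := PrimeSpectrum k) _ _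
  constructor
  · intro h
    have hF : IsField (G.left.presheaf.stalk (η[G].left (IsLocalRing.closedPoint k))) :=
      IsLocalRing.subsingleton_cotangentSpace_iff.1 h
    have := LocallyOfFiniteType.jacobsonSpace G.hom
    have hall : ∀ p : 𝟙_ (Over (Spec (CommRingCat.of k))) ⟶ G,
        IsField (G.left.presheaf.stalk (p.left (IsLocalRing.closedPoint k))) := by
      intro p
      let L := GrpScheme.Basic.translate p
      have hL : η[G] ≫ L.hom = p := by
        show η[G] ≫ ((toUnit G ≫ p) * 𝟙 G) = p
        rw [MonObj.comp_mul, ← Category.assoc, toUnit_unique (η[G] ≫ toUnit G) (𝟙 _), Category.id_comp,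
          Category.comp_id, MonObj.one_eq_one, _root_.mul_one]
      have : IsIso L.hom.left := ((Over.forget _).mapIso L).isIso_hom
      have hx : L.hom.left (η[G].left (IsLocalRing.closedPoint k)) = p.left (IsLocalRing.closedPoint k) := by
        rw [← Scheme.Hom.comp_apply, ← Over.comp_left, hL]
      rw [← hx]
      exact (asIso (L.hom.left.stalkMap (η[G].left (IsLocalRing.closedPoint k)))).commRingCatIsoToRingEquiv.toMulEquiv.isField hF
    have hpt : ∀ g : G.left, IsClosed ({g} : Set G.left) →
        ∃ p : 𝟙_ (Over (Spec (CommRingCat.of k))) ⟶ G, p.left (IsLocalRing.closedPoint k) = g := by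
      intro g hg
      refine ⟨Over.homMk _ ((pointEquivClosedPoint G.hom).symm ⟨g, hg⟩).2, ?_⟩
      exact congrArg Subtype.val ((pointEquivClosedPoint G.hom).apply_symm_apply ⟨g, hg⟩)
    have hgen : ∀ g : G.left, IsClosed ({g} : Set G.left) → ∀ z, z ⤳ g → z = g := by
      intro g hg z hz
      obtain ⟨p, rfl⟩ := hpt g hg
      letI := (hall p).toField
      obtain ⟨a, rfl⟩ : z ∈ Set.range (G.left.fromSpecStalk (p.left (IsLocalRing.closedPoint k))) := by
        rw [Scheme.range_fromSpecStalk]; exact hz
      rw [show a = IsLocalRing.closedPoint (G.left.presheaf.stalk (p.left (IsLocalRing.closedPoint k))) from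
        Subsingleton.elim (α := PrimeSpectrum (G.left.presheaf.stalk (p.left (IsLocalRing.closedPoint k)))) _ _]
      exact Scheme.fromSpecStalk_closedPoint
    have : CompactSpace G.left := (quasiCompact_iff_compactSpace G.hom).1 inferInstance
    have hclosed : ∀ z : G.left, IsClosed ({z} : Set G.left) := by
      intro z
      obtain ⟨g, hg, hgc⟩ := (isClosed_closure (s := ({z} : Set G.left))).exists_closed_singleton
        ⟨z, subset_closure rfl⟩
      rwa [hgen g hgc z (specializes_iff_mem_closure.2 hg)]
    have : IsNoetherian G.left := ⟨⟩
    have hfin : Finite G.left := by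
      have h1 := TopologicalSpace.NoetherianSpace.finite_irreducibleComponents (α := G.left)
      have hsub : ∀ C ∈ irreducibleComponents G.left, C.Finite := fun C hC => by
        have hg := hC.1.isGenericPoint_genericPoint (isClosed_of_mem_irreducibleComponents C hC)
        rw [← hg.def, (hclosed _).closure_eq]
        exact Set.finite_singleton _
      refine Set.finite_univ_iff.1 ((h1.biUnion hsub).subset fun x _ => ?_)
      exact Set.mem_biUnion (irreducibleComponent_mem_irreducibleComponents x) mem_irreducibleComponent
    have : T1Space G.left := ⟨hclosed⟩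
    refine ⟨hfin, inferInstance, fun g => ?_⟩
    obtain ⟨p, rfl⟩ := hpt g (hclosed g)
    exact stalkMap_bijective k G p (hall p)
  · rintro ⟨-, -, hb⟩
    refine IsLocalRing.subsingleton_cotangentSpace_iff.2 ?_
    exact (RingEquiv.ofBijective _ (hb _)).symm.toMulEquiv.isField (Field.toIsField k)

end Groth.Agent.S14059
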