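import Groth.Statements.S14060
import Groth.Agent.CohTop.Push

set_option autoImplicit false
universe u
open CategoryTheory CategoryTheory.Limits TopologicalSpace
open CohTop

namespace Groth.Agent.S14060

section

open Groth.Agent.CohTop.Basic

variable {X : TopCat.{u}} (F : ChainComplex (CohTop.Ab X) ℕ)

/-- The cycles. -/
noncomputable abbrev Zc (j : ℕ) : CohTop.Ab X := kernel (F.d (j + 1) j)

/-- The sequence out of degree `j + 2`. -/
noncomputable abbrev seq (j : ℕ) : ShortComplex (CohTop.Ab X) :=
  ShortComplex.mk (kernel.ι (F.d (j + 2) (j + 1)))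
    (kernel.lift (F.d (j + 1) j) (F.d (j + 2) (j + 1)) (F.d_comp_d _ _ _))
    ((cancel_mono (kernel.ι (F.d (j + 1) j))).1 (by
      rw [Category.assoc, kernel.lift_ι, kernel.condition, zero_comp]))

theorem seq_shortExact (j : ℕ) (h : F.ExactAt (j + 1)) : (seq F j).ShortExact := by
  rw [HomologicalComplex.exactAt_iff' F (j + 2) (j + 1) j (by simp) (by simp)] at h
  refine ShortComplex.ShortExact.mk' (ShortComplex.exact_of_f_is_kernel _ ?_) inferInstance
    h.epi_kernelLift
  refine KernelFork.IsLimit.ofι _ _ (fun k hk => kernel.lift _ k ?_)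
    (fun k hk => kernel.lift_ι _ _ _) (fun k hk m hm => ?_)
  · rw [← kernel.lift_ι (F.d (j + 1) j) (F.d (j + 2) (j + 1)) (F.d_comp_d _ _ _), ← Category.assoc]
    exact (congrArg (· ≫ _) hk).trans zero_comp
  · rw [← cancel_mono (kernel.ι (F.d (j + 2) (j + 1))), kernel.lift_ι]
    exact hm

theorem van (r : ℕ) (hmono : Mono (F.d r (r - 1))) (hex : ∀ j : ℕ, 1 ≤ j → j < r → F.ExactAt j)
    (hvan : ∀ j : ℕ, 2 ≤ j → j ≤ r → Subsingleton (CohTop.HU (F.X j) (j - 1) (⊤ : Opens X))) :
    ∀ (k j : ℕ), j + 1 + k = r → Subsingleton (CohTop.HU (Zc F j) (j + 1) (⊤ : Opens X)) := by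
  intro k
  induction k with
  | zero =>
    intro j hj
    subst hj
    have : Mono (F.d (j + 1) j) := by simpa using hmono
    refine subsingleton_of_forall_eq 0 fun x => ?_
    have h0 : (kernel.ι (F.d (j + 1) j)) = 0 := kernel.ι_of_mono _
    have hz : 𝟙 (Zc F j) = 0 := (cancel_mono (kernel.ι (F.d (j + 1) j))).1 (by rw [h0]; simp)
    rw [← HUmap_id (Zc F j) (j + 1) ⊤ x, hz, HUmap_eq, Abelian.Ext.mk₀_zero]
    simp
    rfl
  | succ k ih =>
    intro j hj
    have hS := seq_shortExact F j (hex (j + 1) (by omega) (by omega))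
    have h1 := ih (j + 1) (by omega)
    have h2 : Subsingleton (CohTop.HU (F.X (j + 2)) (j + 1) (⊤ : Opens X)) := by
      have := hvan (j + 2) (by omega) (by omega)
      simpa using this
    refine subsingleton_of_forall_eq 0 fun x => ?_
    obtain ⟨y, hy⟩ := HU_exact₃ hS ⊤ (rfl : j + 1 + 1 = j + 2) x
      (@Subsingleton.elim (CohTop.HU (Zc F (j + 1)) (j + 2) ⊤) h1 _ _)
    exact hy.symm.trans ((congrArg _ (@Subsingleton.elim _ h2 y 0)).trans (map_zero _))

end

/-- Let X be a topological space, r ≥ 1 an integer and 0 → F_r → ⋯ → F_2 → F_1 → F_0 → 0 an exact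
sequence of sheaves of abelian groups on X, presented as a chain complex F of abelian sheaves
indexed by the natural numbers whose differential F_r → F_{r−1} is a monomorphism, whose
differential F_1 → F_0 is an epimorphism of sheaves, and which is exact at F_j for 1 ≤ j ≤ r − 1
(for r = 1 the single map F_1 → F_0 is mono and epi). Assume the sheaf cohomology groups H^{j−1}(X,
F_j) vanish for 2 ≤ j ≤ r. Then the map on global sections F_1(X) → F_0(X) is surjective. (The
instance hypothesis that the category of abelian sheaves on X has Ext groups in the universe of X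
holds for every X, abelian sheaves on a space forming a Grothendieck abelian category; it is the
setting in which sheaf cohomology is defined.) -/
theorem result (X : TopCat.{u})
    [HasExt.{u} (Sheaf (Opens.grothendieckTopology X) AddCommGrpCat.{u})]
    (r : ℕ) (hr : 1 ≤ r)
    (F : ChainComplex (Sheaf (Opens.grothendieckTopology X) AddCommGrpCat.{u}) ℕ)
    (hmono : Mono (F.d r (r - 1))) (hepi : Epi (F.d 1 0))
    (hex : ∀ j : ℕ, 1 ≤ j → j < r → F.ExactAt j)
    (hvan : ∀ j : ℕ, 2 ≤ j → j ≤ r → Subsingleton (Sheaf.H (F.X j) (j - 1))) :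
    Function.Surjective ((F.d 1 0).hom.app (Opposite.op ⊤)) := by
  have h := van F r hmono hex (fun j h2 hjr => by
    have := hvan j h2 hjr
    exact (Groth.Agent.CohTop.Basic.HEquivHUTop (F.X j) (j - 1)).symm.injective.subsingleton)
    (r - 1) 0 (by omega)
  let S : ShortComplex (CohTop.Ab X) :=
    ShortComplex.mk (kernel.ι (F.d 1 0)) (F.d 1 0) (kernel.condition _)
  have hS : S.ShortExact := ShortComplex.ShortExact.mk'
    (ShortComplex.exact_of_f_is_kernel _ (kernelIsKernel _)) inferInstance hepi
  intro a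
  exact (Groth.Agent.CohTop.Push.sectδ_eq_zero_iff hS ⊤ a).1
    (@Subsingleton.elim (CohTop.HU (Zc F 0) 1 (⊤ : Opens X)) h _ _)

end Groth.Agent.S14060
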