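import Groth.Statements.S14064
import Groth.Agent.Cube.SecCosec
import Groth.Agent.GrpScheme.PowPullback
import Groth.Agent.AmpCrit.NegVan
import Groth.Agent.ShStabLib.BC.Sys


set_option autoImplicit false
universe u
open CategoryTheory CategoryTheory.Limits AlgebraicGeometry TopologicalSpace
open Surf

namespace Groth.Agent.S14064

open Groth.Agent Groth.Agent.QCoh Groth.Agent.Props.GenLocus Groth.Agent.Props.GenTensor

/-- Powers of a nonzero section of an invertible module are nonzero. -/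
theorem exists_sec_pow {X : Scheme.{u}} [IsIntegral X] {N : X.Modules} (hN : PicF.IsInvertible N)
    {s : Γ(N, ⊤)} (hs : s ≠ 0) : ∀ n, ∃ σ : Γ(CohB1.tensorPow N n, ⊤), σ ≠ 0
  | 0 => by
    have : Nonempty (⊤ : X.Opens) := ⟨⟨Classical.arbitrary X, trivial⟩⟩
    exact ⟨(1 : Γ(X, ⊤)), one_ne_zero (α := Γ(X, ⊤))⟩
  | n + 1 => by
    obtain ⟨σ, hσ⟩ := exists_sec_pow hN hs n
    have hn := AmpleLib.isInvertible_tensorPow hN n
    refine ⟨tmul σ s, fun h => ?_⟩
    obtain ⟨U, e, hxU, he⟩ := exists_isGen hn (Classical.arbitrary X)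
    obtain ⟨U', e', hxU', he'⟩ := exists_isGen hN (Classical.arbitrary X)
    have : Nonempty (U ⊓ U' : X.Opens) := ⟨⟨_, hxU, hxU'⟩⟩
    have hg := he.restrict (inf_le_left : U ⊓ U' ≤ U)
    have hg' := he'.restrict (inf_le_right : U ⊓ U' ≤ U')
    obtain ⟨a, ha, -⟩ := hg.exists_eq le_rfl (res _ (le_top : U ⊓ U' ≤ ⊤) σ)
    obtain ⟨b, hb, -⟩ := hg'.exists_eq le_rfl (res N (le_top : U ⊓ U' ≤ ⊤) s)
    rw [res_self] at ha hb
    have h1 : res _ (le_top : U ⊓ U' ≤ ⊤) (tmul σ s) = 0 := (congrArg _ h).trans (map_zero _)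
    rw [res_tmul, ha, hb, tmul_smul_left, tmul_smul_right, smul_smul] at h1
    have h2 : a * b = 0 :=
      (isGen_tmul hg hg').injective le_rfl (by rw [res_self]; exact h1.trans (zero_smul _ _).symm)
    rcases mul_eq_zero.mp h2 with h' | h'
    · exact hσ (Cube.Seesaw.eq_zero_of_res_eq_zero hn σ (V := U ⊓ U') (by rw [ha, h', zero_smul]))
    · exact hs (Cube.Seesaw.eq_zero_of_res_eq_zero hN s (V := U ⊓ U') (by rw [hb, h', zero_smul]))

/-- Fix a field k, an integral proper k-scheme X, and an invertible O_X-module L with tensor inverse M.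
Suppose that L^{⊗j} has a nonzero global section for every j ≥ 4 and that no tensor power L^{⊗j}
with j ≥ 1 is isomorphic to O_X. Then H⁰(X, M^{⊗i}) = 0 for every i ≥ 1: the negative powers of L
have no nonzero global sections. (The published statement is for the canonical module of a minimal
surface of general type over an algebraically closed field, where the fourth and higher powers are
globally generated by a deep result quoted without proof, and non-triviality of the positive powers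
comes from bigness; the published deduction of this part uses exactly the two hypotheses carried
here, on an integral proper X.) -/
theorem result (k : Type u) [Field k]
    (X : Scheme.{u}) [X.Over (Spec (CommRingCat.of k))] [IsProper (X ↘ (Spec (CommRingCat.of k)))] [IsIntegral X]
    (L M : X.Modules) (hL : PicF.IsInvertible L) (hM : ClSub.IsInverseOf M L)
    (hsec : ∀ j : ℕ, 4 ≤ j → Nontrivial (Coh.HH X (CohB1.tensorPow L j) 0))
    (hnt : ∀ j : ℕ, 1 ≤ j → IsEmpty (CohB1.tensorPow L j ≅ Coh.structureModule X))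
    (i : ℕ) (hi : 1 ≤ i) :
    Subsingleton (Coh.HH X (CohB1.tensorPow M i) 0) := by
  letI := PicLaw.law X
  have hfield : IsField Γ(X, ⊤) := isField_of_universallyClosed (K := k) (X ↘ (Spec (CommRingCat.of k)))
  obtain ⟨eML⟩ := hM
  have hMi : PicF.IsInvertible M :=
    AmpCrit.NegVan.isInvertible_of_inverse hL (ProjTwist.tensComm L M ≪≫ eML)
  have hMp := AmpleLib.isInvertible_tensorPow hMi i
  refine not_nontrivial_iff_subsingleton.1 fun hnon => ?_
  obtain ⟨c, hc⟩ := exists_ne (0 : Coh.HH X (CohB1.tensorPow M i) 0)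
  have hs : (ShStabLib.BC.secEquiv k (CohB1.tensorPow M i)).symm c ≠ 0 :=
    fun h => hc ((LinearEquiv.map_eq_zero_iff _).1 h)
  obtain ⟨σ, hσ⟩ := exists_sec_pow hMp (Cube.SecCosec.sec_ne_zero hs) 4
  obtain ⟨c', hc'⟩ := @exists_ne _ (hsec (i * 4) (by omega)) (0 : Coh.HH X (CohB1.tensorPow L (i * 4)) 0)
  have hs' : (ShStabLib.BC.secEquiv k (CohB1.tensorPow L (i * 4))).symm c' ≠ 0 :=
    fun h => hc' ((LinearEquiv.map_eq_zero_iff _).1 h)
  obtain ⟨hLp, eL⟩ := GrpScheme.PowPullback.cls_tensorPow hL (i * 4)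
  obtain ⟨hMq, eMi⟩ := GrpScheme.PowPullback.cls_tensorPow hMi i
  obtain ⟨hMr, eMr⟩ := GrpScheme.PowPullback.cls_tensorPow hMq 4
  have e : PicGrp.cls _ hLp * PicGrp.cls _ hMr = 1 := by
    rw [eL, eMr, eMi, ← pow_mul, ← mul_pow,
      (PicGrp.cls_mul_cls_eq_one_iff hL hMi).2 ⟨ProjTwist.tensComm L M ≪≫ eML⟩, one_pow]
  obtain ⟨φ⟩ := Cube.Seesaw.iso_of_sections hfield hLp hMr ((PicGrp.cls_mul_cls_eq_one_iff hLp hMr).1 e)
    ⟨⟨_, 0, Cube.SecCosec.sec_ne_zero hs'⟩⟩ ⟨⟨σ, 0, hσ⟩⟩
  exact (hnt (i * 4) (by omega)).false φ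

end Groth.Agent.S14064
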