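import Groth.Statements.S14065
import Groth.Agent.VBLib.LineCalc

set_option autoImplicit false
universe u
open CategoryTheory CategoryTheory.Limits AlgebraicGeometry TopologicalSpace
open Curves

namespace Groth.Agent.S14065

/-- Let k be an algebraically closed field and C a smooth projective connected curve over k — an
integral scheme, proper and smooth over k, of dimension 1 — of genus g = dim_k H¹(C, O_C) with g ≥
2, and let T be the tangent module of C, a tensor inverse of the module of differentials Ω_{C/k}.
Then dim_k H¹(C, T) = 3g − 3. (The published proof makes this computation, together with the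
vanishing of H⁰(C, T), to find the dimension of the tangent space of the moduli stack of genus-g
curves at C; only the dimension of H¹(C, T) is stated here.) -/
theorem result (k : Type u) [Field k] [IsAlgClosed k]
    (C : Scheme.{u}) [C.Over (Spec (CommRingCat.of k))] [IsProper (C ↘ (Spec (CommRingCat.of k)))] [Smooth (C ↘ (Spec (CommRingCat.of k)))] [IsIntegral C]
    (hdim : topologicalKrullDim C = 1) (g : ℕ) (hg : Curv2.genus k C = g) (h2 : 2 ≤ g)
    (T : C.Modules) (hT : ClSub.IsInverseOf T (Omega.sheaf (C ↘ (Spec (CommRingCat.of k))))) :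
    Module.finrank k (Coh.HH C T 1) = 3 * g - 3 := by
  have hX := VBLib.goodCurve_of_smooth (k := k) hdim
  haveI := FFCurve.regCurve_of_smooth k (X := C) hdim
  have hΩ := FFCurve.isInvertible_omega (X := C) k hdim
  have hΩd := FFCurve.deg_omega (X := C) k hdim
  obtain ⟨hTi, ⟨e⟩⟩ := VBLib.LineCalc.iso_dual_of_inverse hΩ hT
  have hΩr := VBLib.ofRank_one_of_invertible hΩ
  have hTr := VBLib.ofRank_one_of_invertible hTi
  have hDr := VBLib.ofRank_one_of_invertible (VBLib.DualDeg.invertible_dual hΩ).1
  have h1 := (hX.dg_iso e (VBLib.isCoh_of_ofRank hTr) (VBLib.isCoh_of_ofRank hDr)).1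
  rw [hX.dg_dual (VBLib.isFinLocFree_of_ofRank hΩr), ← VBLib.dg_eq hΩr, hΩd, hg] at h1
  have hd : VBLib.dg k T < 0 := by omega
  haveI := hX.subsingleton_h0_neg hTi hd
  have hrr := hX.riemannRoch VBLib.bijective_toGlobal_of_isAlgClosed (VBLib.isCoh_of_ofRank hTr)
  rw [Module.finrank_zero_of_subsingleton (R := k) (M := Coh.HH C T 0), VBLib.rk_eq hTr, hg] at hrr
  push_cast at hrr
  omega

end Groth.Agent.S14065
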