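import Groth.Statements.S14066
import Groth.Agent.CVar22.LinearEmb
import Groth.Agent.HilbStrat.Union

set_option autoImplicit false
universe u
open CategoryTheory CategoryTheory.Limits AlgebraicGeometry TopologicalSpace
open Variety

namespace Groth.Agent.S14066

/-- Let k be a field, and let X₁ and X₂ be k-schemes with closed immersions i₁ : X₁ → P^n_k and i₂ : X₂
→ P^m_k over k. Then there is a closed immersion of the disjoint union X₁ ⨿ X₂ into P^{n+m+1}_k over
k, that is, compatible with the structure morphism of the coproduct induced by those of X₁ and X₂.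
(Stated as the step of the published proof showing that a disjoint union of two projective k-schemes
is projective.) -/
theorem result (k : Type u) [Field k] (n m : ℕ)
    (X₁ X₂ : Scheme.{u}) [X₁.Over (Spec (CommRingCat.of k))] [X₂.Over (Spec (CommRingCat.of k))]
    (i₁ : X₁ ⟶ CohB1.ProjSpace n k) [IsClosedImmersion i₁] (h₁ : i₁ ≫ CohB1.ProjSpace.toSpec n k = X₁ ↘ (Spec (CommRingCat.of k)))
    (i₂ : X₂ ⟶ CohB1.ProjSpace m k) [IsClosedImmersion i₂] (h₂ : i₂ ≫ CohB1.ProjSpace.toSpec m k = X₂ ↘ (Spec (CommRingCat.of k))) :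
    ∃ j : X₁ ⨿ X₂ ⟶ CohB1.ProjSpace (n + m + 1) k, IsClosedImmersion j ∧
      j ≫ CohB1.ProjSpace.toSpec (n + m + 1) k = coprod.desc (X₁ ↘ (Spec (CommRingCat.of k))) (X₂ ↘ (Spec (CommRingCat.of k))) := by
  let e₁ : Fin (n + 1) → Fin (n + m + 1 + 1) := fun i => ⟨i.1, by omega⟩
  let e₂ : Fin (m + 1) → Fin (n + m + 1 + 1) := fun i => ⟨n + 1 + i.1, by omega⟩
  have he₁ : Function.Injective e₁ := fun a b h => Fin.ext (by simpa [e₁] using h)
  have he₂ : Function.Injective e₂ := fun a b h => Fin.ext (by simpa [e₂] using h)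
  have hd : Disjoint (Set.range e₁) (Set.range e₂) := by
    rw [Set.disjoint_left]
    rintro _ ⟨a, rfl⟩ ⟨b, hb⟩
    simp [e₁, e₂] at hb
    omega
  have hd' : Disjoint (Set.range (i₁ ≫ CVar22.linEmb k e₁ he₁)) (Set.range (i₂ ≫ CVar22.linEmb k e₂ he₂)) := by
    refine (CVar22.disjoint_range_linEmb k e₁ he₁ e₂ he₂ hd).mono ?_ ?_
    · rintro _ ⟨x, rfl⟩; exact ⟨i₁ x, (Scheme.Hom.comp_apply _ _ x).symm⟩
    · rintro _ ⟨x, rfl⟩; exact ⟨i₂ x, (Scheme.Hom.comp_apply _ _ x).symm⟩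
  refine ⟨coprod.desc (i₁ ≫ CVar22.linEmb k e₁ he₁) (i₂ ≫ CVar22.linEmb k e₂ he₂),
    HilbStrat.isClosedImmersion_coprod_desc _ _ hd', ?_⟩
  ext
  · rw [coprod.inl_desc_assoc, coprod.inl_desc, Category.assoc, CVar22.linEmb_toSpec, h₁]
  · rw [coprod.inr_desc_assoc, coprod.inr_desc, Category.assoc, CVar22.linEmb_toSpec, h₂]

end Groth.Agent.S14066
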