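import Groth.Statements.S14069
import Groth.Agent.AlgSpCov.SmoothSlice
import Groth.Agent.AlgSp.InfRing

set_option autoImplicit false
universe u
open CategoryTheory AlgebraicGeometry
open FamCyc

namespace Groth.Agent.S14069

/-- Let i : S₀ ⟶ S be a closed immersion, p : X ⟶ S a scheme over S, q : Y ⟶ S a smooth morphism, X₀ = X
×_S S₀, x₀ a point of X₀ and f₀ : X₀ ⟶ Y a morphism over S. Then there are a scheme U, an étale
morphism e : U ⟶ X whose base change U ×_X X₀ ⟶ X₀ is an open immersion whose image contains x₀, and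
a morphism f : U ⟶ Y over S whose restriction to U ×_X X₀ equals the restriction of f₀. -/
theorem result {S S₀ X Y : Scheme.{u}} (i : S₀ ⟶ S) [IsClosedImmersion i]
    (p : X ⟶ S) (q : Y ⟶ S) [Smooth q] (f₀ : Limits.pullback p i ⟶ Y)
    (hf₀ : f₀ ≫ q = Limits.pullback.fst p i ≫ p) (x₀ : ↥(Limits.pullback p i)) :
    ∃ (U : Scheme.{u}) (e : U ⟶ X) (f : U ⟶ Y), Etale e ∧ f ≫ q = e ≫ p ∧
      IsOpenImmersion (Limits.pullback.snd e (Limits.pullback.fst p i)) ∧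
      x₀ ∈ Set.range (Limits.pullback.snd e (Limits.pullback.fst p i)).base ∧
      Limits.pullback.snd e (Limits.pullback.fst p i) ≫ f₀ =
        Limits.pullback.fst e (Limits.pullback.fst p i) ≫ f := by
  classical
  let j : Limits.pullback p i ⟶ X := Limits.pullback.fst p i
  obtain ⟨W, hW, UY, hUY, hy₀, eUW, hss⟩ := Smooth.exists_isStandardSmooth q (f₀ x₀)
  obtain ⟨O, hO, hOj⟩ := j.isClosedEmbedding.isInducing.isOpen_iff.1 (f₀ ⁻¹ᵁ UY).isOpen
  have hxO : j x₀ ∈ O := by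
    change x₀ ∈ j ⁻¹' O
    rw [hOj]
    exact hy₀
  have hxW : j x₀ ∈ p ⁻¹ᵁ W := by
    have h1 : q (f₀ x₀) ∈ W := eUW hy₀
    rw [← Scheme.Hom.comp_apply, hf₀, Scheme.Hom.comp_apply] at h1
    exact h1
  obtain ⟨_, ⟨C, hC, rfl⟩, hxC, hCsub⟩ := X.isBasis_affineOpens.exists_subset_of_mem_open
    (show j x₀ ∈ (⟨O, hO⟩ : X.Opens) ⊓ p ⁻¹ᵁ W from ⟨hxO, hxW⟩) ((⟨O, hO⟩ : X.Opens) ⊓ p ⁻¹ᵁ W).isOpen
  have hCW : C ≤ p ⁻¹ᵁ W := fun z hz => (hCsub hz).2
  have hjC : IsAffineOpen (j ⁻¹ᵁ C) := hC.preimage j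
  have hCU : j ⁻¹ᵁ C ≤ f₀ ⁻¹ᵁ UY := fun z hz => by
    have : z ∈ j ⁻¹' O := (hCsub hz).1
    rw [hOj] at this
    exact this
  -- the closed subscheme over `C`
  let J : Ideal Γ(X, C) := RingHom.ker (j.app C).hom
  have hjs : Function.Surjective (j.app C).hom := Scheme.Hom.app_surjective j C hC
  let iso : Γ(X, C) ⧸ J ≃+* Γ(Limits.pullback p i, j ⁻¹ᵁ C) :=
    RingHom.quotientKerEquivOfSurjective hjs
  let χ : Γ(S, W) →+* Γ(X, C) := (p.appLE W C hCW).hom
  let φ : Γ(Y, UY) →+* Γ(X, C) ⧸ J :=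
    iso.symm.toRingHom.comp (f₀.appLE UY (j ⁻¹ᵁ C) hCU).hom
  have hjW : j ⁻¹ᵁ C ≤ (f₀ ≫ q) ⁻¹ᵁ W := fun z hz => eUW (hCU hz)
  have hφ : φ.comp (q.appLE W UY eUW).hom = (Ideal.Quotient.mk J).comp χ := by
    ext k
    apply iso.injective
    simp only [φ, RingHom.comp_apply, RingEquiv.toRingHom_eq_coe, RingHom.coe_coe, RingEquiv.apply_symm_apply]
    change _ = iso (Ideal.Quotient.mk J (χ k))
    rw [RingHom.quotientKerEquivOfSurjective_apply_mk]
    have h1 : q.appLE W UY eUW ≫ f₀.appLE UY (j ⁻¹ᵁ C) hCU = (f₀ ≫ q).appLE W (j ⁻¹ᵁ C) hjW :=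
      Scheme.Hom.appLE_comp_appLE _ _ _ _ _ _ _
    have h2 : p.appLE W C hCW ≫ j.app C = (j ≫ p).appLE W (j ⁻¹ᵁ C) (fun z hz => hCW hz) := by
      rw [Scheme.Hom.app_eq_appLE]
      exact Scheme.Hom.appLE_comp_appLE _ _ _ _ _ _ _
    have h3 : (f₀ ≫ q).appLE W (j ⁻¹ᵁ C) hjW = (j ≫ p).appLE W (j ⁻¹ᵁ C) (fun z hz => hCW hz) := by
      simp only [j, hf₀]
    exact congr($(h1.trans (h3.trans h2.symm)).hom k)
  obtain ⟨D, _, ψ, ρ, hψ, hρψ, hbij, hcompat⟩ :=
    Groth.Agent.AlgSpCov.exists_etale_lift_of_standardSmooth _ hss χ J φ hφ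
  let e : Spec (.of D) ⟶ X := Spec.map (CommRingCat.ofHom ψ) ≫ hC.fromSpec
  let f : Spec (.of D) ⟶ Y := Spec.map (CommRingCat.ofHom ρ) ≫ hUY.fromSpec
  have he : Etale e := by
    have : Etale (Spec.map (CommRingCat.ofHom ψ)) := HasRingHomProperty.Spec_iff.2 hψ
    infer_instance
  have hfq : f ≫ q = e ≫ p := by
    simp only [e, f, Category.assoc]
    rw [← IsAffineOpen.SpecMap_appLE_fromSpec q hW hUY eUW, ← IsAffineOpen.SpecMap_appLE_fromSpec p hW hC hCW,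
      ← Spec.map_comp_assoc, ← Spec.map_comp_assoc]
    congr 2
    exact CommRingCat.hom_ext hρψ
  -- the square over `C`
  have sq1 : IsPullback (Spec.map (j.app C)) hjC.fromSpec hC.fromSpec j := by
    refine IsOpenImmersion.isPullback _ _ _ _ ?_ ?_
    · rw [Scheme.Hom.app_eq_appLE, IsAffineOpen.SpecMap_appLE_fromSpec]
    · rw [IsAffineOpen.opensRange_fromSpec, IsAffineOpen.opensRange_fromSpec]
  let isoC : CommRingCat.of (Γ(X, C) ⧸ J) ≅ Γ(Limits.pullback p i, j ⁻¹ᵁ C) :=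
    iso.toCommRingCatIso
  have hmk : CommRingCat.ofHom (Ideal.Quotient.mk J) ≫ isoC.hom = j.app C := by
    ext a
    exact RingHom.quotientKerEquivOfSurjective_apply_mk hjs a
  have sq2 : IsPullback (Spec.map (CommRingCat.ofHom (Ideal.Quotient.mk J))) (Spec.map isoC.inv ≫ hjC.fromSpec)
      hC.fromSpec j := by
    refine sq1.of_iso (Scheme.Spec.mapIso isoC.op) (Iso.refl _) (Iso.refl _) (Iso.refl _) ?_ ?_ ?_ ?_
    · simp only [Functor.mapIso_hom, Iso.op_hom, Scheme.Spec_map, Quiver.Hom.unop_op,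
        Iso.refl_hom, Category.comp_id, ← hmk, Spec.map_comp]
    · simp only [Functor.mapIso_hom, Iso.op_hom, Scheme.Spec_map, Quiver.Hom.unop_op,
        Iso.refl_hom, Category.comp_id]
      rw [← Spec.map_comp_assoc]
      simp
    · simp
    · simp
  let qm := Ideal.quotientMap (J.map ψ) ψ Ideal.le_comap_map
  have sq3 := (Groth.Agent.AlgSp.InfRing.isPullback_quotient J ψ).paste_vert sq2
  let P := Spec (CommRingCat.of (D ⧸ J.map ψ))
  have sq4 : IsPullback (Spec.map (CommRingCat.ofHom (Ideal.Quotient.mk (J.map ψ))))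
      (Spec.map (CommRingCat.ofHom qm) ≫ Spec.map isoC.inv ≫ hjC.fromSpec) e j := sq3
  have : IsIso (CommRingCat.ofHom qm) := (ConcreteCategory.isIso_iff_bijective _).2 hbij
  refine ⟨Spec (.of D), e, f, he, hfq, ?_, ?_, ?_⟩
  · have h5 : Limits.pullback.snd e j = sq4.isoPullback.inv ≫
        Spec.map (CommRingCat.ofHom qm) ≫ Spec.map isoC.inv ≫ hjC.fromSpec :=
      (sq4.isoPullback_inv_snd).symm
    change IsOpenImmersion (Limits.pullback.snd e j)
    rw [h5]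
    infer_instance
  · have hx : x₀ ∈ Set.range (Spec.map (CommRingCat.ofHom qm) ≫ Spec.map isoC.inv ≫ hjC.fromSpec) := by
      have : x₀ ∈ (j ⁻¹ᵁ C : Set _) := hxC
      rw [← hjC.range_fromSpec] at this
      obtain ⟨z, hz⟩ := this
      obtain ⟨z', rfl⟩ := (Spec.map (CommRingCat.ofHom qm) ≫ Spec.map isoC.inv).surjective z
      exact ⟨z', by rw [← hz]; rfl⟩
    obtain ⟨z, hz⟩ := hx
    exact ⟨sq4.isoPullback.hom z, by rw [← Scheme.Hom.comp_apply, sq4.isoPullback_hom_snd]; exact hz⟩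
  · change Limits.pullback.snd e j ≫ f₀ = Limits.pullback.fst e j ≫ f
    rw [← cancel_epi sq4.isoPullback.hom, sq4.isoPullback_hom_snd_assoc, sq4.isoPullback_hom_fst_assoc]
    simp only [f, Category.assoc]
    rw [← IsAffineOpen.SpecMap_appLE_fromSpec f₀ hUY hjC hCU]
    simp only [← Spec.map_comp_assoc]
    congr 2
    refine CommRingCat.hom_ext ?_
    simp only [CommRingCat.hom_comp, CommRingCat.hom_ofHom, hcompat]
    rfl


end Groth.Agent.S14069
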