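import Groth.Statements.S1407
import Groth.Agent.Wt.CMScheme
import Groth.Agent.Wt.FibNoeth
-- Template for statement S1407 (row 1407; see the milestone table for weights).
-- Copy to Groth/Agent/S1407.lean and replace the sorry. The statement below is byte-identical to the frozen
-- statement FlatMor.GrothFrozen.S1407 (Groth/Statements/S1407.lean; the theorem FlatMor.cohenMacaulay_iff_of_fppf_baseChange);
-- the grader kernel-checks Groth.Agent.S1407.result against that frozen type. Keep the theorem IN THIS FILE
-- (a `result` declared elsewhere and merely imported here is not credited); helpers may live anywhere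
-- under Groth/Agent/.


set_option autoImplicit false
universe u
open FlatMor

namespace Groth.Agent.S1407

open AlgebraicGeometry CategoryTheory Limits in
/-- Let Y' → Y be flat, locally of finite presentation and surjective and f' the base change of f : X →
Y. Then f has locally Noetherian fibres and is Cohen–Macaulay at every point if and only if the same
holds for f'. -/
theorem result {X Y X' Y' : Scheme.{u}} (f : X ⟶ Y) (f' : X' ⟶ Y') (g' : X' ⟶ X) (g : Y' ⟶ Y) [Flat g] [LocallyOfFinitePresentation g] [Surjective g]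
    (hc : IsPullback g' f' f g) :
    ((∀ y : Y, IsLocallyNoetherian (f.fiber y)) ∧ ∀ x : X, MoreMor.IsCMAt f x) ↔
      (∀ y' : Y', IsLocallyNoetherian (f'.fiber y')) ∧ ∀ x' : X', MoreMor.IsCMAt f' x' := by
  have hs : Surjective g' := MorphismProperty.of_isPullback hc.flip ‹Surjective g›
  have he : ∀ x' : X', g (f' x') = f (g' x') := fun x' ↦ by
    rw [← Scheme.Hom.comp_apply, ← Scheme.Hom.comp_apply, hc.w]
  constructor
  · rintro ⟨hN, hcm⟩
    refine ⟨fun y' ↦ (Wt.FibNoeth.isLocallyNoetherian_fiber_iff f f' g' g hc y').mpr (hN _),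
      fun x' ↦ (Wt.CMBase.isCMAt_baseChange_iff hc x' (hN _) (Or.inr inferInstance)).1 (hcm _)
        (Wt.CMBase.flat_stalkMap_baseChange hc x' ((FlatMor.CMFlat.isCMAt_iff f _).mp (hcm _)).1)⟩
  · rintro ⟨hN', hcm⟩
    have hN : ∀ y : Y, IsLocallyNoetherian (f.fiber y) := fun y ↦ by
      obtain ⟨y', rfl⟩ := g.surjective y
      exact (Wt.FibNoeth.isLocallyNoetherian_fiber_iff f f' g' g hc y').mp (hN' y')
    refine ⟨hN, fun x ↦ ?_⟩
    obtain ⟨x', rfl⟩ := g'.surjective x
    exact (Wt.CMBase.isCMAt_baseChange_iff hc x' (hN _) (Or.inr inferInstance)).2 (hcm _)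
      (Wt.CMBase.flat_stalkMap_of_baseChange hc x' (Flat.stalkMap g _)
        ((FlatMor.CMFlat.isCMAt_iff f' _).mp (hcm _)).1)

end Groth.Agent.S1407
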