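import Groth.Statements.S14073
import Mathlib.RingTheory.LocalRing.Module
import Mathlib.LinearAlgebra.Charpoly.BaseChange
import Mathlib.LinearAlgebra.Charpoly.ToMatrix
import Mathlib.RingTheory.Ideal.AssociatedPrime.Basic
import Mathlib.RingTheory.Localization.BaseChange
import Mathlib.Algebra.Module.LocalizedModule.Exact

set_option autoImplicit false
universe u
open FamCyc

namespace Groth.Agent.S14073

open Polynomial TensorProduct

section
variable {R : Type u} [CommRing R] {K N M : Type u} [AddCommGroup K] [Module R K] [AddCommGroup N] [Module R N]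
  [AddCommGroup M] [Module R M]

theorem charpoly_exact [Module.Free R K] [Module.Finite R K] [Module.Free R N] [Module.Finite R N]
    [Module.Free R M] [Module.Finite R M] (i : K →ₗ[R] N) (p : N →ₗ[R] M) (hi : Function.Injective i)
    (hex : Function.Exact i p) (hp : Function.Surjective p) (a : K →ₗ[R] K) (b : N →ₗ[R] N) (c : M →ₗ[R] M)
    (h1 : i ∘ₗ a = b ∘ₗ i) (h2 : p ∘ₗ b = c ∘ₗ p) : b.charpoly = a.charpoly * c.charpoly := by
  classical
  obtain ⟨s, hs⟩ := Module.projective_lifting_property p LinearMap.id hp
  have hps : ∀ m, p (s m) = m := fun m => LinearMap.congr_fun hs m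
  let f : K × M →ₗ[R] N := i.coprod s
  have hf : Function.Bijective f := by
    constructor
    · rw [← LinearMap.ker_eq_bot, eq_bot_iff]
      rintro ⟨x, y⟩ h
      have h' : i x + s y = 0 := h
      have hy : y = 0 := by
        simpa [hex.apply_apply_eq_zero, hps] using congrArg p h'
      subst hy
      rw [map_zero, add_zero, ← map_zero i] at h'
      simp [hi h']
    · intro v
      obtain ⟨x, hx⟩ := (hex (v - s (p v))).1 (by simp [hps])
      exact ⟨(x, p v), by simp [f, hx]⟩
  let bK := Module.Free.chooseBasis R K
  let bM := Module.Free.chooseBasis R M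
  let bN := (bK.prod bM).map (LinearEquiv.ofBijective f hf)
  rw [← LinearMap.charpoly_toMatrix b bN, ← LinearMap.charpoly_toMatrix a bK, ← LinearMap.charpoly_toMatrix c bM]
  have hrepr : ∀ x y, bN.repr (i x + s y) = (bK.prod bM).repr (x, y) := fun x y => by
    simp only [bN, Module.Basis.map_repr, LinearEquiv.trans_apply]
    rw [show i x + s y = LinearEquiv.ofBijective f hf (x, y) from rfl, LinearEquiv.symm_apply_apply]
  have hblock : LinearMap.toMatrix bN bN b = Matrix.fromBlocks (LinearMap.toMatrix bK bK a)
      (Matrix.of fun q r => LinearMap.toMatrix bN bN b (.inl q) (.inr r)) 0 (LinearMap.toMatrix bM bM c) := by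
    ext q r
    rcases r with r | r
    · have e : b (bN (.inl r)) = i (a (bK r)) + s 0 := by
        rw [map_zero, add_zero]
        have : bN (.inl r) = i (bK r) := by simp [bN, f]
        rw [this]; exact (LinearMap.congr_fun h1 (bK r)).symm
      rw [LinearMap.toMatrix_apply, e, hrepr]
      rcases q with q | q <;> simp [LinearMap.toMatrix_apply]
    · have hr : bN (.inr r) = s (bM r) := by simp [bN, f]
      obtain ⟨x, hx⟩ := (hex (b (s (bM r)) - s (c (bM r)))).1 (by
        rw [map_sub, hps, show p (b (s (bM r))) = c (p (s (bM r))) from LinearMap.congr_fun h2 _, hps, sub_self])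
      rcases q with q | q
      · simp
      · rw [LinearMap.toMatrix_apply, hr, show b (s (bM r)) = i x + s (c (bM r)) by rw [hx, sub_add_cancel], hrepr]
        simp [LinearMap.toMatrix_apply]
  rw [hblock, Matrix.charpoly_fromBlocks_zero₂₁]

theorem free_coker [IsLocalRing R] (c : R) (hc : c ≠ 0) (hcm : ∀ r ∈ IsLocalRing.maximalIdeal R, c * r = 0)
    [Module.Free R K] [Module.Finite R K] [Module.Free R N] [Module.Finite R N]
    (i : K →ₗ[R] N) (p : N →ₗ[R] M) (hi : Function.Injective i)
    (hex : Function.Exact i p) (hp : Function.Surjective p) : Module.Free R M := by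
  classical
  have hinj : Function.Injective (i.lTensor (IsLocalRing.ResidueField R)) := by
    rw [← LinearMap.ker_eq_bot, eq_bot_iff]
    intro z hz
    obtain ⟨x, rfl⟩ := TensorProduct.mk_surjective R K (IsLocalRing.ResidueField R)
      Ideal.Quotient.mk_surjective z
    let bN := Module.Free.chooseBasis R N
    let bK := Module.Free.chooseBasis R K
    have hz' : (1 : IsLocalRing.ResidueField R) ⊗ₜ[R] i x = 0 := hz
    have h1 : ∀ q, bN.repr (i x) q ∈ IsLocalRing.maximalIdeal R := fun q => by
      have := congrArg ((TensorProduct.rid R _).toLinearMap ∘ₗ (bN.coord q).lTensor _) hz'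
      simp [Algebra.smul_def] at this
      exact this
    have h2 : c • i x = 0 := bN.repr.injective (by
      ext q; simp [hcm _ (h1 q)])
    rw [← map_smul, ← map_zero i] at h2
    have h3 : ∀ q, bK.repr x q ∈ IsLocalRing.maximalIdeal R := fun q => by
      have := congrArg (fun v => bK.repr v q) (hi h2)
      simp at this
      by_contra hq
      rw [IsLocalRing.mem_maximalIdeal, mem_nonunits_iff, not_not] at hq
      exact hc (hq.mul_left_eq_zero.1 this)
    show (1 : IsLocalRing.ResidueField R) ⊗ₜ[R] x ∈ (⊥ : Submodule R _)
    rw [Submodule.mem_bot, ← bK.sum_repr x, TensorProduct.tmul_sum]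
    refine Finset.sum_eq_zero fun q _ => ?_
    rw [← TensorProduct.smul_tmul, Algebra.smul_def, mul_one,
      show algebraMap R (IsLocalRing.ResidueField R) (bK.repr x q) = 0 from Ideal.Quotient.eq_zero_iff_mem.2 (h3 q),
      TensorProduct.zero_tmul]
  obtain ⟨l, hl⟩ := (IsLocalRing.split_injective_iff_lTensor_residueField_injective i).2 hinj
  let s : M →ₗ[R] N := ((LinearMap.ker p).liftQ (LinearMap.id - i ∘ₗ l) (fun v hv => by
      obtain ⟨w, rfl⟩ := (hex v).1 hv
      have := LinearMap.congr_fun hl w
      simp only [LinearMap.comp_apply, LinearMap.id_apply] at this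
      simp [this])).comp (p.quotKerEquivOfSurjective hp).symm.toLinearMap
  have hs : p ∘ₗ s = LinearMap.id := by
    ext m
    obtain ⟨v, rfl⟩ := hp m
    have : (p.quotKerEquivOfSurjective hp).symm (p v) = Submodule.Quotient.mk v := by
      rw [LinearEquiv.symm_apply_eq]; rfl
    simp [s, this, hex.apply_apply_eq_zero]
  have : Module.Projective R M := Module.Projective.of_split s p hs
  have : Module.Finite R M := Module.Finite.of_surjective p hp
  exact Module.free_of_flat_of_isLocalRing

theorem free_kernel [IsLocalRing R] [Module.Free R N] [Module.Finite R K] [Module.Projective R M]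
    (i : K →ₗ[R] N) (p : N →ₗ[R] M) (hi : Function.Injective i)
    (hex : Function.Exact i p) (hp : Function.Surjective p) : Module.Free R K := by
  obtain ⟨s, hs⟩ := Module.projective_lifting_property p LinearMap.id hp
  have hps : ∀ m, p (s m) = m := fun m => LinearMap.congr_fun hs m
  let r : N →ₗ[R] K := (LinearEquiv.ofInjective i hi).symm.toLinearMap.comp
    ((LinearMap.id - s ∘ₗ p).codRestrict (LinearMap.range i) fun v => (hex _).1 (by simp [hps]))
  have : Module.Projective R K := Module.Projective.of_split i r (by
    ext x
    apply hi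
    have e : ∀ v, i (r v) = v - s (p v) := fun v =>
      congrArg Subtype.val ((LinearEquiv.ofInjective i hi).apply_symm_apply _)
    simp [e, hex.apply_apply_eq_zero])
  exact Module.free_of_flat_of_isLocalRing

end

variable {A : Type u} [CommRing A]

theorem free_loc {M : Type u} [AddCommGroup M] [Module A M] [Module.Free A M] (S : Submonoid A) :
    Module.Free (Localization S) (LocalizedModule S M) :=
  Module.Free.of_equiv (IsLocalizedModule.isBaseChange S (Localization S) (LocalizedModule.mkLinearMap S M)).equiv

theorem loc_exact {N M : Type u} [AddCommGroup N] [Module A N] [AddCommGroup M] [Module A M]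
    (f : N →ₗ[A] M) (hf : Function.Surjective f) (S : Submonoid A) :
    Function.Injective (LocalizedModule.map S (LinearMap.ker f).subtype) ∧
      Function.Exact (LocalizedModule.map S (LinearMap.ker f).subtype) (LocalizedModule.map S f) ∧
      Function.Surjective (LocalizedModule.map S f) :=
  ⟨LocalizedModule.map_injective S _ (Submodule.injective_subtype _),
    LocalizedModule.map_exact S _ _ (LinearMap.exact_subtype_ker_map f),
    LocalizedModule.map_surjective S _ hf⟩

theorem finite_of_ffr : ∀ (n : ℕ) (M : Type u) [AddCommGroup M] [Module A M],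
    FamCyc.HasFiniteFreeResolutionLE A n M → Module.Finite A M
  | 0, _, _, _, h => h.2
  | _ + 1, _, _, _, ⟨_, f, hf, _⟩ => Module.Finite.of_surjective f hf

variable [IsNoetherianRing A]

theorem free_at_assoc (P : Ideal A) [P.IsPrime] (hP : IsAssociatedPrime P A) :
    ∀ (n : ℕ) (M : Type u) [AddCommGroup M] [Module A M], FamCyc.HasFiniteFreeResolutionLE A n M →
      Module.Free (Localization.AtPrime P) (LocalizedModule P.primeCompl M)
  | 0, M, _, _, h => by
    haveI := h.1; haveI := h.2
    exact free_loc _
  | n + 1, M, _, _, ⟨k, f, hf, hK⟩ => by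
    haveI := free_at_assoc P hP n _ hK
    haveI := finite_of_ffr n _ hK
    haveI : Module.Free (Localization.AtPrime P) (LocalizedModule P.primeCompl (Fin k → A)) := free_loc _
    obtain ⟨hi, hex, hp⟩ := loc_exact f hf P.primeCompl
    obtain ⟨-, y, hy⟩ := isAssociatedPrime_iff.1 hP
    have hmem : ∀ r, r ∈ P ↔ r * y = 0 := fun r => by
      rw [hy, Submodule.mem_colon_singleton, Submodule.mem_bot, smul_eq_mul]
    refine free_coker (R := Localization.AtPrime P) (K := LocalizedModule P.primeCompl (LinearMap.ker f))
      (N := LocalizedModule P.primeCompl (Fin k → A)) (M := LocalizedModule P.primeCompl M)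
      (algebraMap A (Localization.AtPrime P) y) ?_ ?_ (LocalizedModule.map P.primeCompl (LinearMap.ker f).subtype)
      (LocalizedModule.map P.primeCompl f) hi hex hp
    · intro h0
      obtain ⟨⟨r, hr⟩, hr'⟩ := (IsLocalization.map_eq_zero_iff P.primeCompl _ _).1 h0
      exact hr ((hmem r).2 hr')
    · intro r hr
      rw [← IsLocalization.AtPrime.map_eq_maximalIdeal P (Localization.AtPrime P)] at hr
      refine Submodule.span_induction ?_ (mul_zero _) ?_ ?_ hr
      · rintro _ ⟨q, hq, rfl⟩
        rw [← map_mul, mul_comm, (hmem q).1 hq, map_zero]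
      · intro _ _ _ _ h1 h2; rw [mul_add, h1, h2, add_zero]
      · intro a b _ h; rw [smul_eq_mul, ← mul_assoc, mul_comm _ a, mul_assoc, h, mul_zero]

theorem eq_zero_of_assoc (a : A)
    (h : ∀ (P : Ideal A) [P.IsPrime], IsAssociatedPrime P A → algebraMap A (Localization.AtPrime P) a = 0) :
    a = 0 := by
  by_contra ha
  obtain ⟨P, hP, hle⟩ := exists_le_isAssociatedPrime_of_isNoetherianRing A a ha
  haveI := hP.isPrime
  obtain ⟨⟨r, hr⟩, hr'⟩ := (IsLocalization.map_eq_zero_iff P.primeCompl _ _).1 (h P hP)
  exact hr (hle (by rw [Submodule.mem_colon_singleton, Submodule.mem_bot, smul_eq_mul]; exact hr'))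

theorem localized_charpoly {M : Type u} [AddCommGroup M] [Module A M] [Module.Free A M] [Module.Finite A M]
    (φ : M →ₗ[A] M) (S : Submonoid A) [Module.Free (Localization S) (LocalizedModule S M)] :
    φ.charpoly.map (algebraMap A (Localization S)) = (LocalizedModule.map S φ).charpoly := by
  rw [← LinearMap.charpoly_baseChange]
  let e : Localization S ⊗[A] M ≃ₗ[Localization S] LocalizedModule S M :=
    (IsLocalizedModule.isBaseChange S (Localization S) (LocalizedModule.mkLinearMap S M)).equiv
  rw [show LocalizedModule.map S φ = e.conj (φ.baseChange (Localization S)) from ?_, LinearEquiv.charpoly_conj]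
  refine LinearMap.ext fun z => ?_
  obtain ⟨z, rfl⟩ := e.surjective z
  rw [LinearEquiv.conj_apply_apply, LinearEquiv.symm_apply_apply]
  induction z using TensorProduct.induction_on with
  | zero => simp
  | tmul s m =>
    rw [LinearMap.baseChange_tmul]
    simp only [e, IsBaseChange.equiv_tmul, map_smul]
    simp [LocalizedModule.mkLinearMap_apply]
  | add x y hx hy => simp [hx, hy]

theorem exists_poly : ∀ (n : ℕ) (M : Type u) [AddCommGroup M] [Module A M],
    FamCyc.HasFiniteFreeResolutionLE A n M → ∀ φ : M →ₗ[A] M, ∃ Q : A[X], Q.Monic ∧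
      ∀ (P : Ideal A) [P.IsPrime] [Module.Free (Localization.AtPrime P) (LocalizedModule P.primeCompl M)]
        [Module.Finite A M],
        Q.map (algebraMap A (Localization.AtPrime P)) = (LocalizedModule.map P.primeCompl φ).charpoly
  | 0, M, _, _, h, φ => by
    haveI := h.1; haveI := h.2
    exact ⟨φ.charpoly, φ.charpoly_monic, fun P _ _ _ => localized_charpoly φ _⟩
  | n + 1, M, _, _, hM@⟨k, f, hf, hK⟩, φ => by
    obtain ⟨ψ, hψ⟩ := Module.projective_lifting_property f (φ ∘ₗ f) hf
    have hψ' : ∀ v, f (ψ v) = φ (f v) := fun v => LinearMap.congr_fun hψ v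
    let ψK : LinearMap.ker f →ₗ[A] LinearMap.ker f := ψ.restrict fun v hv => by
      rw [LinearMap.mem_ker] at hv ⊢; rw [hψ', hv, map_zero]
    obtain ⟨R, hR, hRP⟩ := exists_poly n _ hK ψK
    haveI := finite_of_ffr n _ hK
    haveI := finite_of_ffr (n + 1) M hM
    have key : ∀ (P : Ideal A) [P.IsPrime] [Module.Free (Localization.AtPrime P) (LocalizedModule P.primeCompl M)],
        (ψ.charpoly /ₘ R).map (algebraMap A (Localization.AtPrime P)) = (LocalizedModule.map P.primeCompl φ).charpoly ∧
        (ψ.charpoly %ₘ R).map (algebraMap A (Localization.AtPrime P)) = 0 := by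
      intro P _ _
      obtain ⟨hi, hex, hp⟩ := loc_exact f hf P.primeCompl
      haveI : Module.Free (Localization.AtPrime P) (LocalizedModule P.primeCompl (Fin k → A)) := free_loc _
      haveI : Module.Free (Localization.AtPrime P) (LocalizedModule P.primeCompl (LinearMap.ker f)) :=
        free_kernel (R := Localization.AtPrime P) (K := LocalizedModule P.primeCompl (LinearMap.ker f))
          (N := LocalizedModule P.primeCompl (Fin k → A)) (M := LocalizedModule P.primeCompl M)
          (LocalizedModule.map P.primeCompl (LinearMap.ker f).subtype) (LocalizedModule.map P.primeCompl f) hi hex hp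
      have hc := charpoly_exact (R := Localization.AtPrime P) (K := LocalizedModule P.primeCompl (LinearMap.ker f))
        (N := LocalizedModule P.primeCompl (Fin k → A)) (M := LocalizedModule P.primeCompl M)
        (LocalizedModule.map P.primeCompl (LinearMap.ker f).subtype) (LocalizedModule.map P.primeCompl f)
        hi hex hp (LocalizedModule.map P.primeCompl ψK)
        (LocalizedModule.map P.primeCompl ψ) (LocalizedModule.map P.primeCompl φ)
        (by
          refine LinearMap.ext fun z => ?_
          induction z using LocalizedModule.induction_on with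
          | h m s => simp [ψK])
        (by
          refine LinearMap.ext fun z => ?_
          induction z using LocalizedModule.induction_on with
          | h m s => simp [hψ'])
      rw [← localized_charpoly, ← hRP P] at hc
      rw [Polynomial.map_divByMonic _ hR, Polynomial.map_modByMonic _ hR, hc]
      exact ⟨mul_divByMonic_cancel_left _ (hR.map _),
        (Polynomial.modByMonic_eq_zero_iff_dvd (hR.map _)).2 ⟨_, rfl⟩⟩
    have hr : ψ.charpoly %ₘ R = 0 := by
      ext j
      rw [coeff_zero]
      refine eq_zero_of_assoc _ fun P _ hP => ?_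
      haveI := free_at_assoc P hP (n + 1) M hM
      rw [← coeff_map, (key P).2, coeff_zero]
    have hQ : ψ.charpoly = R * (ψ.charpoly /ₘ R) := by
      conv_lhs => rw [← modByMonic_add_div ψ.charpoly R, hr, zero_add]
    exact ⟨_, hR.of_mul_monic_left (hQ ▸ ψ.charpoly_monic), fun P _ _ _ => (key P).1⟩

/-- Let A be a Noetherian ring, M an A-module with a finite resolution by finite free modules, and φ an
endomorphism of M. Then there is a unique element of A (the determinant of φ) whose image in A_p is
the determinant of the localized endomorphism φ_p of the free A_p-module M_p, for every prime p of A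
at which M_p is free. -/
theorem result (A : Type u) [CommRing A] [IsNoetherianRing A]
    (M : Type u) [AddCommGroup M] [Module A M] (n : ℕ) (hM : FamCyc.HasFiniteFreeResolutionLE A n M)
    (φ : M →ₗ[A] M) :
    ∃! a : A, ∀ (p : Ideal A) [p.IsPrime],
      Module.Free (Localization.AtPrime p) (LocalizedModule p.primeCompl M) →
        algebraMap A (Localization.AtPrime p) a =
          LinearMap.det (LocalizedModule.map p.primeCompl φ) := by
  obtain ⟨Q, hQ, hQP⟩ := exists_poly n M hM φ
  haveI := finite_of_ffr n M hM
  have hdet : ∀ (p : Ideal A) [p.IsPrime],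
      Module.Free (Localization.AtPrime p) (LocalizedModule p.primeCompl M) →
      algebraMap A (Localization.AtPrime p) ((-1) ^ Q.natDegree * Q.coeff 0) =
        LinearMap.det (LocalizedModule.map p.primeCompl φ) := by
    intro p _ hfree
    rw [LinearMap.det_eq_sign_charpoly_coeff, ← hQP p, map_mul, map_pow, map_neg, map_one, Polynomial.coeff_map,
      ← LinearMap.charpoly_natDegree (LocalizedModule.map p.primeCompl φ), ← hQP p, hQ.natDegree_map]
  refine ⟨_, hdet, fun b hb => ?_⟩
  rw [← sub_eq_zero]
  refine eq_zero_of_assoc _ fun P _ hP => ?_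
  have hfree := free_at_assoc P hP n M hM
  rw [map_sub, hb P hfree, hdet P hfree, sub_self]

end Groth.Agent.S14073
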