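import Groth.Statements.S14074
import Groth.Agent.FlatMor.PC.Cancel
import Groth.Agent.FlatMor.PC.Stalks
import Mathlib.Algebra.TrivSqZeroExt.Basic

set_option autoImplicit false
open CategoryTheory AlgebraicGeometry
universe u
attribute [local instance] HasDerivedCategory.standard
open FamCyc

namespace Groth.Agent.S14074

open Groth.Agent.FlatMor.PC Groth.Agent.DRing DerivedCategory TensorProduct in
/-- finite tor dimension passes from the base to a standard smooth algebra below the algebra -/
theorem finTorDim_of_comp_standardSmooth {A B C : Type u} [CommRing A] [CommRing B] [CommRing C]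
    [Algebra A B] [Algebra B C] [Algebra A C] [IsScalarTower A B C] [Algebra.IsStandardSmooth A B]
    (h : DRing.HasFiniteTorDim A C) : DRing.HasFiniteTorDim B C := by
  let : Algebra C (B ⊗[A] C) := Algebra.TensorProduct.rightAlgebra
  have : IsScalarTower A C (B ⊗[A] C) :=
    IsScalarTower.of_algebraMap_eq (R := A) (S := C) (A := B ⊗[A] C) fun x =>
      ((Algebra.TensorProduct.includeRight (R := A) (A := B) (B := C)).commutes x).symm
  have : Algebra.IsPushout A B C (B ⊗[A] C) := TensorProduct.isPushout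
  let π : B ⊗[A] C →ₐ[B] C :=
    Algebra.TensorProduct.lift (Algebra.ofId B C) (AlgHom.id A C) fun _ _ => mul_comm _ _
  let := π.toRingHom.toAlgebra
  have : IsScalarTower B (B ⊗[A] C) C := IsScalarTower.of_algebraMap_eq fun b => (π.commutes b).symm
  have hs : Function.Surjective (algebraMap (B ⊗[A] C) C) := fun c =>
    ⟨1 ⊗ₜ c, by change π (1 ⊗ₜ c) = c; simp [π]⟩
  have hid : π.toRingHom.comp (algebraMap C (B ⊗[A] C)) = RingHom.id C :=
    RingHom.ext fun c => by change π (1 ⊗ₜ c) = c; simp [π]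
  have hstd : (algebraMap C (B ⊗[A] C)).IsStandardSmooth := by
    rw [RingHom.isStandardSmooth_algebraMap]
    exact Algebra.IsStandardSmooth.of_algEquiv
      (Algebra.TensorProduct.commRight A C B : C ⊗[A] B ≃ₐ[C] B ⊗[A] C)
  have : Algebra.Smooth A B := inferInstance
  have : Module.Flat A B := inferInstance
  refine finTorDim_trans (finTorDim_baseChange (A := A) (A' := B) (B := C) (B' := B ⊗[A] C) h)
    (perfectHom_of_isKoszulRegularIdeal hs ?_).2
  refine (KReg44.isKoszulRegularIdeal_ker_iff (algebraMap C (B ⊗[A] C)) hstd π.toRingHom ?_).1 ?_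
  · rw [hid]; exact fun c => ⟨c, rfl⟩
  · rw [hid, (RingHom.injective_iff_ker_eq_bot _).1 Function.injective_id]
    exact isKoszulRegularIdeal_bot

open Groth.Agent.FlatMor.PC Groth.Agent.DRing Groth.Agent.DRing.PC DerivedCategory in
/-- a direct factor with flat complement -/
theorem hasTorDimLE_snd {A F M : Type u} [CommRing A] [AddCommGroup F] [Module A F] [Module.Flat A F]
    [AddCommGroup M] [Module A M] {d : ℕ} (h : DRing.HasTorDimLE A d (F × M)) :
    DRing.HasTorDimLE A d M := by
  obtain ⟨T, hT, h1, h2, h3⟩ := exists_triangle_of_surjective (LinearMap.fst A F M)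
    LinearMap.fst_surjective
  let e : LinearMap.ker (LinearMap.fst A F M) ≃ₗ[A] M :=
    { toFun := fun x => x.1.2
      invFun := fun m => ⟨(0, m), rfl⟩
      left_inv := fun x => Subtype.ext (Prod.ext (x.2 : x.1.1 = 0).symm rfl)
      right_inv := fun _ => rfl
      map_add' := fun _ _ => rfl
      map_smul' := fun _ _ => rfl }
  rw [TorBalance.hasTorDimLE_iff, ← h2] at h
  have hF : DRing.HasTorAmplitudeIn A 0 0 T.obj₃ := by
    rw [h3]
    simpa using (TorBalance.hasTorDimLE_iff 0 F).1 (hasTorDimLE_of_flat 0 F)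
  have t := (TorAmp.torAmp_of_triangle hT (-((d + 1 : ℕ) : ℤ)) 0).2.2
    (TorAmp.torAmp_mono h (by push_cast; omega) (by omega))
    (TorAmp.torAmp_mono hF (by push_cast; omega) (by omega))
  refine hasTorDimLE_congr e (hasTorDimLE_of_torAmp (b := 1) ?_)
  rw [← h1]
  exact TorAmp.torAmp_mono t (by push_cast; omega) (by omega)

open Groth.Agent.FlatMor.PC in
theorem key' {P R Q C₀ C : Type u} [CommRing P] [CommRing R] [CommRing Q] [CommRing C₀] [CommRing C]
    [Algebra P R] [Algebra P Q] [Algebra P C₀] [Algebra R C₀] [Algebra Q C₀]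
    [Algebra C₀ C] [Algebra P C] [Algebra R C] [Algebra Q C]
    [IsScalarTower P R C] [IsScalarTower P Q C] [IsScalarTower R C₀ C] [IsScalarTower Q C₀ C]
    [Module.Flat P R] [Module.Flat R C₀]
    [Algebra.IsStandardSmooth P Q] (S : Submonoid Q) [IsLocalization S C₀]
    {M : Type u} [AddCommGroup M] [Module C₀ M] [Module R M] [IsScalarTower R C₀ M]
    (e : C ≃ₗ[C₀] (C₀ × M))
    (h : DRing.HasFiniteTorDim R M) : DRing.HasFiniteTorDim C₀ M := by
  obtain ⟨d, hd⟩ := h
  have h1 : DRing.HasTorDimLE R d (C₀ × M) := hasTorDimLE_prod (hasTorDimLE_of_flat d C₀) hd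
  have h2 : DRing.HasFiniteTorDim P C :=
    finTorDim_trans (B := R) finTorDim_of_flat ⟨d, hasTorDimLE_congr (e.restrictScalars R).symm h1⟩
  have h3 : DRing.HasFiniteTorDim Q C := finTorDim_of_comp_standardSmooth (A := P) h2
  obtain ⟨n, hn⟩ := finTorDim_of_localization_base (A := Q) (A' := C₀) S h3
  exact ⟨n, hasTorDimLE_snd (hasTorDimLE_congr e hn)⟩

theorem key {P R Q C₀ : Type u} [CommRing P] [CommRing R] [CommRing Q] [CommRing C₀]
    [Algebra P R] [Algebra P Q] [Algebra P C₀] [Algebra R C₀] [Algebra Q C₀]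
    [IsScalarTower P R C₀] [IsScalarTower P Q C₀] [Module.Flat P R] [Module.Flat R C₀]
    [Algebra.IsStandardSmooth P Q] (S : Submonoid Q) [IsLocalization S C₀]
    (M : Type u) [AddCommGroup M] [Module C₀ M] [Module R M] [IsScalarTower R C₀ M]
    (h : DRing.HasFiniteTorDim R M) : DRing.HasFiniteTorDim C₀ M := by
  obtain ⟨C, _, _, ⟨e⟩⟩ : ∃ (C : Type u) (_ : CommRing C) (_ : Algebra C₀ C),
      Nonempty (C ≃ₗ[C₀] (C₀ × M)) := by
    letI : Module C₀ᵐᵒᵖ M := Module.compHom M ((RingHom.id C₀).fromOpposite fun x y => mul_comm x y)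
    haveI : IsCentralScalar C₀ M := ⟨fun _ _ => rfl⟩
    exact ⟨TrivSqZeroExt C₀ M, inferInstance, inferInstance,
      ⟨{ toFun := fun x => x
         invFun := fun x => x
         left_inv := fun _ => rfl
         right_inv := fun _ => rfl
         map_add' := fun _ _ => rfl
         map_smul' := fun _ _ => rfl }⟩⟩
  let g := algebraMap C₀ C
  let : Algebra P C := (g.comp (algebraMap P C₀)).toAlgebra
  let : Algebra R C := (g.comp (algebraMap R C₀)).toAlgebra
  let : Algebra Q C := (g.comp (algebraMap Q C₀)).toAlgebra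
  have : IsScalarTower R C₀ C := IsScalarTower.of_algebraMap_eq' rfl
  have : IsScalarTower Q C₀ C := IsScalarTower.of_algebraMap_eq' rfl
  have : IsScalarTower P R C := IsScalarTower.of_algebraMap_eq'
    (show g.comp (algebraMap P C₀) = (g.comp (algebraMap R C₀)).comp (algebraMap P R) by
      rw [RingHom.comp_assoc, ← IsScalarTower.algebraMap_eq P R C₀])
  have : IsScalarTower P Q C := IsScalarTower.of_algebraMap_eq'
    (show g.comp (algebraMap P C₀) = (g.comp (algebraMap Q C₀)).comp (algebraMap P Q) by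
      rw [RingHom.comp_assoc, ← IsScalarTower.algebraMap_eq P Q C₀])
  exact key' (P := P) (R := R) (Q := Q) (C := C) S e h

open DerivedCategory in
theorem nonempty_stalkIso {X Y : Scheme.{u}} (f : X ⟶ Y) (x : X) (F : X.Modules) :
    Nonempty (DRing.toD ((DerSch.stalkCxOver f x).obj
      ((HomologicalComplex.single X.Modules (ComplexShape.up ℤ) 0).obj F)) ≅
      Dual.inD (Y.presheaf.stalk (f.base x)) ((DerSch.stalkOver f x).obj F)) :=
  ⟨DerivedCategory.Q.mapIso
      ((HomologicalComplex.singleMapHomologicalComplex (DerSch.stalkOver f x) (ComplexShape.up ℤ) 0).app F) ≪≫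
    ((singleFunctorIsoCompQ (ModuleCat.{u} (Y.presheaf.stalk (f.base x))) 0).app _).symm⟩

open Groth.Agent.FlatMor.PC Groth.Agent.DRing in
theorem finTorDim_of_ampAt {X Y : Scheme.{u}} (f : X ⟶ Y) (x : X) (F : X.Modules) {a b : ℤ}
    (h : DerSch.HasTorAmplitudeAt f a b
      ((HomologicalComplex.single X.Modules (ComplexShape.up ℤ) 0).obj F) x) :
    DRing.HasFiniteTorDim (Y.presheaf.stalk (f.base x)) ((DerSch.stalkOver f x).obj F) := by
  obtain ⟨e⟩ := nonempty_stalkIso f x F
  have h' : DRing.HasTorAmplitudeIn (Y.presheaf.stalk (f.base x)) a b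
      (Dual.inD (Y.presheaf.stalk (f.base x)) ((DerSch.stalkOver f x).obj F)) :=
    TorAmp.torAmp_of_iso e h
  exact ⟨(-a).toNat, hasTorDimLE_of_torAmp (b := max b 0)
    (TorAmp.torAmp_mono h' (by omega) (le_max_left _ _))⟩

open Groth.Agent.FlatMor.PC Groth.Agent.DRing in
theorem ampAt_of_finTorDim {X Y : Scheme.{u}} (f : X ⟶ Y) (x : X) (F : X.Modules)
    (h : DRing.HasFiniteTorDim (Y.presheaf.stalk (f.base x)) ((DerSch.stalkOver f x).obj F)) :
    ∃ a b : ℤ, DerSch.HasTorAmplitudeAt f a b
      ((HomologicalComplex.single X.Modules (ComplexShape.up ℤ) 0).obj F) x := by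
  obtain ⟨e⟩ := nonempty_stalkIso f x F
  obtain ⟨d, hd⟩ := h
  exact ⟨_, _, TorAmp.torAmp_of_iso e.symm ((TorBalance.hasTorDimLE_iff d _).1 hd)⟩

/-- Let h : B ⟶ S be a smooth morphism, φ : X ⟶ B a morphism locally of finite type and F a
quasi-coherent O_X-module of pointwise finite tor dimension over S, i.e. at every point x of X the
stalk F_x is, over the local ring of S below x, isomorphic in the derived category to a bounded
complex of flat modules. Then F has finite tor dimension over B pointwise in the same sense. -/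
theorem result {X B S : Scheme.{u}} (h : B ⟶ S) [Smooth h]
    (φ : X ⟶ B) [LocallyOfFiniteType φ] (F : X.Modules) (hF : Coh.IsQCoh F)
    (hS : ∀ x : X, ∃ a b : ℤ,
      DerSch.HasTorAmplitudeAt (φ ≫ h) a b ((HomologicalComplex.single X.Modules (ComplexShape.up ℤ) 0).obj F) x) :
    ∀ x : X, ∃ a b : ℤ,
      DerSch.HasTorAmplitudeAt φ a b ((HomologicalComplex.single X.Modules (ComplexShape.up ℤ) 0).obj F) x := by
  intro x
  obtain ⟨a, b, hab⟩ := hS x
  have hR := finTorDim_of_ampAt (φ ≫ h) x F hab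
  obtain ⟨U, hU, V, hV, hy, e, hstd⟩ := Smooth.exists_isStandardSmooth h (φ.base x)
  have hs : h.base (φ.base x) ∈ U := e hy
  let gP := S.presheaf.germ U (h.base (φ.base x)) hs
  let gQ := B.presheaf.germ V (φ.base x) hy
  letI : Algebra Γ(S, U) Γ(B, V) := (h.appLE U V e).hom.toAlgebra
  haveI : Algebra.IsStandardSmooth Γ(S, U) Γ(B, V) := hstd
  letI : Algebra Γ(S, U) (S.presheaf.stalk (h.base (φ.base x))) := gP.hom.toAlgebra
  letI : Algebra Γ(B, V) (B.presheaf.stalk (φ.base x)) := gQ.hom.toAlgebra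
  haveI hlP : IsLocalization.AtPrime (S.presheaf.stalk (h.base (φ.base x))) (hU.primeIdealOf ⟨_, hs⟩).asIdeal :=
    hU.isLocalization_stalk ⟨_, hs⟩
  haveI hlQ : IsLocalization.AtPrime (B.presheaf.stalk (φ.base x)) (hV.primeIdealOf ⟨_, hy⟩).asIdeal :=
    hV.isLocalization_stalk ⟨_, hy⟩
  letI : Algebra (S.presheaf.stalk (h.base (φ.base x))) (B.presheaf.stalk (φ.base x)) :=
    (h.stalkMap (φ.base x)).hom.toAlgebra
  letI : Algebra Γ(S, U) (B.presheaf.stalk (φ.base x)) := (gP ≫ h.stalkMap (φ.base x)).hom.toAlgebra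
  haveI : IsScalarTower Γ(S, U) (S.presheaf.stalk (h.base (φ.base x))) (B.presheaf.stalk (φ.base x)) :=
    IsScalarTower.of_algebraMap_eq' rfl
  haveI : IsScalarTower Γ(S, U) Γ(B, V) (B.presheaf.stalk (φ.base x)) :=
    IsScalarTower.of_algebraMap_eq' (congrArg CommRingCat.Hom.hom
      (show gP ≫ h.stalkMap (φ.base x) = h.appLE U V e ≫ gQ by
        simp only [gP, gQ, Scheme.Hom.appLE, Category.assoc, B.presheaf.germ_res]
        exact h.germ_stalkMap U (φ.base x) hs))
  haveI : Module.Flat Γ(S, U) (S.presheaf.stalk (h.base (φ.base x))) :=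
    IsLocalization.flat _ (hU.primeIdealOf ⟨_, hs⟩).asIdeal.primeCompl
  haveI : Module.Flat (S.presheaf.stalk (h.base (φ.base x))) (B.presheaf.stalk (φ.base x)) :=
    Flat.stalkMap h (φ.base x)
  let M := (DerSch.stalkOver φ x).obj F
  letI : Module (S.presheaf.stalk (h.base (φ.base x))) M :=
    Module.compHom M (h.stalkMap (φ.base x)).hom
  haveI : IsScalarTower (S.presheaf.stalk (h.base (φ.base x))) (B.presheaf.stalk (φ.base x)) M :=
    IsScalarTower.of_algebraMap_smul fun _ _ => rfl
  refine ampAt_of_finTorDim φ x F (key (P := Γ(S, U)) (R := S.presheaf.stalk (h.base (φ.base x)))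
    (Q := Γ(B, V)) (hV.primeIdealOf ⟨_, hy⟩).asIdeal.primeCompl M ?_)
  obtain ⟨d, hd⟩ := hR
  let M' := (DerSch.stalkOver (φ ≫ h) x).obj F
  letI : Module (S.presheaf.stalk (h.base (φ.base x))) M' :=
    inferInstanceAs (Module (S.presheaf.stalk ((φ ≫ h).base x)) M')
  refine ⟨d, Groth.Agent.FlatMor.PC.hasTorDimLE_congr (A := S.presheaf.stalk (h.base (φ.base x))) (M := M') (N := M) ?_ hd⟩
  exact
    { toFun := fun m => m
      invFun := fun m => m
      left_inv := fun _ => rfl
      right_inv := fun _ => rfl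
      map_add' := fun _ _ => rfl
      map_smul' := fun r m => by
        change ((φ ≫ h).stalkMap x).hom r • (show F.presheaf.stalk x from m) =
          (φ.stalkMap x).hom ((h.stalkMap (φ.base x)).hom r) • (show F.presheaf.stalk x from m)
        rw [Scheme.Hom.stalkMap_comp]; rfl }

end Groth.Agent.S14074
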