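import Groth.Statements.S14075
import Groth.Agent.EquidimPt.Component
-- import your own Groth.Agent.* helpers here

set_option autoImplicit false
open CategoryTheory AlgebraicGeometry
universe u
open FamCyc

namespace Groth.Agent.S14075

/-- Let f : X ⟶ S be locally of finite type and universally open. Then every point x of X lies on an
irreducible component W of X, given its reduced subscheme structure, such that W ⟶ S is
equidimensional at x. -/
theorem result {X S : Scheme.{u}} (f : X ⟶ S) [LocallyOfFiniteType f]
    [UniversallyOpen f] (x : X) :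
    ∃ W : TopologicalSpace.Closeds X, (W : Set X) ∈ irreducibleComponents (X : Type u) ∧
      ∃ w : ↥((Scheme.IdealSheafData.vanishingIdeal W).subscheme),
        (Scheme.IdealSheafData.vanishingIdeal W).subschemeι.base w = x ∧
        EGA43.IsEquidimAt ((Scheme.IdealSheafData.vanishingIdeal W).subschemeι ≫ f) w := by
  obtain ⟨z, hzx, hfz, hzmax, -, -, e', -, -, hfdx, hz, -⟩ := Groth.Agent.FibSemi.exists_max_fibre f x
  obtain ⟨η, hηz, hη⟩ := Groth.Agent.FlatOpen.EquiDim.exists_max (f z)
  have huo : EGA43.IsUnivOpenAt f z := fun Y' g x' _ U hU => by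
    haveI : UniversallyOpen (Limits.pullback.snd f g) := inferInstance
    exact (Limits.pullback.snd f g).isOpenMap.image_mem_nhds hU
  obtain ⟨z', hfz', hz'z, hle⟩ := Groth.Agent.EquidimPt.exists_gen_dim_specializes f huo
    (fun w hw hwz => hzmax w (hw.trans hfz) hwz) hηz
  obtain ⟨c, hcz, hfc, hcmax, -, -, e'', -, -, hfd', hc, -⟩ := Groth.Agent.FibSemi.exists_max_fibre f z'
  have hc' : Groth.Agent.FlatOpen.EquiDim.Max c := fun w hw => by
    refine hcmax w ?_ hw
    rw [hfz']
    refine hη _ ?_
    rw [← hfz', ← hfc]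
    exact hw.map f.continuous
  refine Groth.Agent.EquidimPt.exists_component f (hcz.trans (hz'z.trans hzx)) hc' (by rw [hfc, hfz']; exact hη) ?_
  rw [hfdx, ← hz]
  refine (Groth.Agent.EquidimPt.le_fibreDimAt f z).trans (hle.trans ?_)
  rw [hfd', ← hc]
  exact Groth.Agent.EquidimPt.le_fibreDimAt f c

end Groth.Agent.S14075
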