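import Groth.Statements.S14078
import Groth.Agent.S1353
-- import your own Groth.Agent.* helpers here

set_option autoImplicit false
open CategoryTheory CategoryTheory.Limits AlgebraicGeometry
universe u
open FamCyc

namespace Groth.Agent.S14078

/-- Let f : X ⟶ S be a morphism of schemes locally of finite type, i : Z ⟶ X an immersion such that Z ⟶
S is locally quasi-finite, and z a point of Z. Then there are an étale morphism g : T ⟶ S and an
open subscheme U of X ×_S T such that the preimage U ×_X Z of Z in U is finite over T and contains a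
point u over z whose residue field extension κ(z) → κ(u) is an isomorphism, u being moreover the
only point of U ×_X Z in its fibre over T. (The published statement covers algebraic spaces X, with
U ⟶ X ×_S T étale in general and an open subspace when X is a scheme; this row is the scheme case.) -/
theorem result {Z X S : Scheme.{u}} (f : X ⟶ S)
    [LocallyOfFiniteType f] (i : Z ⟶ X) [IsImmersion i] [LocallyQuasiFinite (i ≫ f)] (z : Z) :
    ∃ (T : Scheme.{u}) (g : T ⟶ S) (U : (pullback f g).Opens)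
      (u : ↥(pullback (U.ι ≫ pullback.fst f g) i)),
      Etale g ∧
      IsFinite (pullback.fst (U.ι ≫ pullback.fst f g) i ≫ U.ι ≫ pullback.snd f g) ∧
      (pullback.snd (U.ι ≫ pullback.fst f g) i).base u = z ∧
      IsIso ((pullback.snd (U.ι ≫ pullback.fst f g) i).residueFieldMap u) ∧
      ∀ u' : ↥(pullback (U.ι ≫ pullback.fst f g) i),
        (pullback.fst (U.ι ≫ pullback.fst f g) i ≫ U.ι ≫ pullback.snd f g).base u' =
          (pullback.fst (U.ι ≫ pullback.fst f g) i ≫ U.ι ≫ pullback.snd f g).base u → u' = u := by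
  obtain ⟨T, g, t, hT, V, v, hvV, hfin, hvt, huniq, hvz, hres⟩ := S1353.result (i ≫ f) z ((i ≫ f).quasiFiniteAt z)
  let m : pullback (i ≫ f) g ⟶ pullback f g :=
    pullback.lift (pullback.fst (i ≫ f) g ≫ i) (pullback.snd (i ≫ f) g) (by rw [Category.assoc]; exact pullback.condition)
  have hm1 : m ≫ pullback.fst f g = pullback.fst (i ≫ f) g ≫ i := pullback.lift_fst _ _ _
  have hm2 : m ≫ pullback.snd f g = pullback.snd (i ≫ f) g := pullback.lift_snd _ _ _
  have hsq : IsPullback (pullback.fst (i ≫ f) g) m i (pullback.fst f g) := by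
    refine IsPullback.of_bot ?_ hm1.symm (IsPullback.of_hasPullback f g)
    rw [hm2]
    exact IsPullback.of_hasPullback (i ≫ f) g
  haveI : IsImmersion m := MorphismProperty.of_isPullback (P := @IsImmersion) hsq ‹_›
  obtain ⟨O, hO, hOV⟩ := (Scheme.Hom.isEmbedding m).isInducing.isOpen_iff.1 V.2
  let U : (pullback f g).Opens := ⟨O, hO⟩
  have hUV : m ⁻¹ᵁ U = V := TopologicalSpace.Opens.ext hOV
  subst hUV
  have hP : IsPullback (m ∣_ U) ((m ⁻¹ᵁ U).ι ≫ pullback.fst (i ≫ f) g) (U.ι ≫ pullback.fst f g) i :=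
    (isPullback_morphismRestrict m U).paste_vert hsq.flip
  let θ := hP.isoPullback
  have hθ1 : θ.hom ≫ pullback.fst (U.ι ≫ pullback.fst f g) i = m ∣_ U := hP.isoPullback_hom_fst
  have hθ2 : θ.hom ≫ pullback.snd (U.ι ≫ pullback.fst f g) i = (m ⁻¹ᵁ U).ι ≫ pullback.fst (i ≫ f) g :=
    hP.isoPullback_hom_snd
  have hθ3 : θ.inv ≫ (m ⁻¹ᵁ U).ι ≫ pullback.snd (i ≫ f) g =
      pullback.fst (U.ι ≫ pullback.fst f g) i ≫ U.ι ≫ pullback.snd f g := by
    rw [← cancel_epi θ.hom, Iso.hom_inv_id_assoc, reassoc_of% hθ1, morphismRestrict_ι_assoc, hm2]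
  refine ⟨T, g, U, θ.hom ⟨v, hvV⟩, hT.etale, ?_, ?_, ?_, fun u' hu' => ?_⟩
  · rw [← hθ3]
    exact MorphismProperty.RespectsIso.precomp @IsFinite θ.inv _ hfin
  · show (θ.hom ≫ pullback.snd (U.ι ≫ pullback.fst f g) i) ⟨v, hvV⟩ = z
    rw [hθ2]
    exact hvz
  · haveI : IsIso ((pullback.fst (i ≫ f) g).residueFieldMap v) :=
      (ConcreteCategory.isIso_iff_bijective _).2 hres
    haveI : IsIso ((pullback.fst (i ≫ f) g).residueFieldMap ((m ⁻¹ᵁ U).ι ⟨v, hvV⟩)) := ‹_›
    have h1 : IsIso (((m ⁻¹ᵁ U).ι ≫ pullback.fst (i ≫ f) g).residueFieldMap ⟨v, hvV⟩) := by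
      rw [Scheme.residueFieldMap_comp]
      exact @IsIso.comp_isIso _ _ _ _ _ _ _ ‹_› inferInstance
    rw [← ConcreteCategory.isIso_iff_bijective] at *
    have h2 : IsIso ((θ.hom ≫ pullback.snd (U.ι ≫ pullback.fst f g) i).residueFieldMap ⟨v, hvV⟩) := by
      convert h1 using 2 <;> simp [hθ2]
    rw [Scheme.residueFieldMap_comp] at h2
    exact @IsIso.of_isIso_comp_right _ _ _ _ _ _ (θ.hom.residueFieldMap ⟨v, hvV⟩) inferInstance h2
  · apply θ.inv.isOpenEmbedding.injective
    have hv' : θ.inv (θ.hom ⟨v, hvV⟩) = ⟨v, hvV⟩ := by simp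
    rw [hv']
    refine Subtype.ext (huniq _ (θ.inv u').2 ?_)
    have h3 : (θ.inv ≫ (m ⁻¹ᵁ U).ι ≫ pullback.snd (i ≫ f) g) u' =
        (θ.inv ≫ (m ⁻¹ᵁ U).ι ≫ pullback.snd (i ≫ f) g) (θ.hom ⟨v, hvV⟩) := by rw [hθ3]; exact hu'
    refine Eq.trans h3 ?_
    show pullback.snd (i ≫ f) g ((m ⁻¹ᵁ U).ι (θ.inv (θ.hom ⟨v, hvV⟩))) = t
    rw [hv']
    exact hvt

end Groth.Agent.S14078
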