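import Groth.Statements.S14079
import Groth.Agent.EquidimPt.Component
-- import your own Groth.Agent.* helpers here

set_option autoImplicit false
open CategoryTheory AlgebraicGeometry
universe u
open FamCyc

namespace Groth.Agent.S14079

/-- (iv) ⇒ (iii): let f : X ⟶ S be locally of finite type. Suppose that every point x of X which is a
maximal point of its fibre (no other point of the fibre over f x specializes to x) lies on an
irreducible component W of X, given its reduced subscheme structure, with W ⟶ S equidimensional at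
x. Then every point of X lies on such an irreducible component. -/
theorem result {X S : Scheme.{u}} (f : X ⟶ S) [LocallyOfFiniteType f]
    (h : ∀ x : X, (∀ x' : X, f.base x' = f.base x → x ∈ closure ({x'} : Set X) → x' = x) →
      ∃ W : TopologicalSpace.Closeds X, (W : Set X) ∈ irreducibleComponents (X : Type u) ∧
      ∃ w : ↥((Scheme.IdealSheafData.vanishingIdeal W).subscheme),
        (Scheme.IdealSheafData.vanishingIdeal W).subschemeι.base w = x ∧
        EGA43.IsEquidimAt ((Scheme.IdealSheafData.vanishingIdeal W).subschemeι ≫ f) w)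
    (x : X) :
    ∃ W : TopologicalSpace.Closeds X, (W : Set X) ∈ irreducibleComponents (X : Type u) ∧
      ∃ w : ↥((Scheme.IdealSheafData.vanishingIdeal W).subscheme),
        (Scheme.IdealSheafData.vanishingIdeal W).subschemeι.base w = x ∧
        EGA43.IsEquidimAt ((Scheme.IdealSheafData.vanishingIdeal W).subschemeι ≫ f) w := by
  obtain ⟨c, hcx, hfc, hcmax, -, -, e', -, -, hfdx, hc, -⟩ := Groth.Agent.FibSemi.exists_max_fibre f x
  obtain ⟨W, hW, w, hw, heq⟩ := h c fun x' hx' hsp => hcmax x' (hx'.trans hfc) (specializes_iff_mem_closure.2 hsp)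
  let i := (Scheme.IdealSheafData.vanishingIdeal W).subschemeι
  have hr : Set.range i = (W : Set X) := Groth.Agent.RedSub.range_vanishingIdeal_subschemeι W
  obtain ⟨m, hm, hmW⟩ := Groth.Agent.FlatOpen.EquiDim.exists_max_closure_eq hW
  obtain ⟨η, hη⟩ : m ∈ Set.range i := hr.ge (hmW.le (subset_closure rfl))
  have hgen : ∀ z, η ⤳ z := fun z => i.isEmbedding.specializes_iff.1
    (by rw [hη, specializes_iff_mem_closure]; exact hmW.ge (hr.le (Set.mem_range_self z)))
  obtain ⟨h1, h2⟩ := Groth.Agent.EquidimPt.facts_of_isEquidimAt_irreducible (i ≫ f) hgen heq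
  rw [Scheme.Hom.comp_apply, hη] at h1
  have hmc : m ⤳ c := by
    rw [← hη, ← hw]
    exact (hgen w).map i.continuous
  refine Groth.Agent.EquidimPt.exists_component f (hmc.trans hcx) hm h1 ?_
  rw [Groth.Agent.EquidimPt.fibreDimAt_of_max (i ≫ f) (fun z hz => (hz.antisymm (hgen z)).eq),
    Groth.Agent.EquidimPt.specs_closedImmersion, hη, ← Groth.Agent.EquidimPt.fibreDimAt_of_max f hm] at h2
  refine le_trans ?_ h2
  rw [hfdx, ← hc, ← hw, ← Groth.Agent.EquidimPt.specs_closedImmersion i f w]
  exact Groth.Agent.EquidimPt.le_fibreDimAt (i ≫ f) w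

end Groth.Agent.S14079
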