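import Groth.Statements.S14081
import Groth.Agent.ArInv.Zero
-- import your own Groth.Agent.* helpers here

set_option autoImplicit false
universe u
open ArSing

namespace Groth.Agent.S14081

/-- Over an algebraically closed field k of characteristic prime to 2 and to r+1, with r even, every
non-trivial k-algebra involution σ of A_r = k[[x,y]]/(y^2 - x^(r+1)) is conjugate, by a k-algebra
automorphism φ of A_r, to the involution x ↦ x, y ↦ -y (that is, φ⁻¹σφ fixes the class of x and
negates the class of y). -/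
theorem result (k : Type u) [Field k] [IsAlgClosed k] (r : ℕ)
    (h2 : (2 : k) ≠ 0) (hr : ((r + 1 : ℕ) : k) ≠ 0) (hev : Even r)
    (σ : ArSing.ring k r ≃ₐ[k] ArSing.ring k r) (hσ : ∀ a, σ (σ a) = a) (hne : σ ≠ AlgEquiv.refl) :
    ∃ φ : ArSing.ring k r ≃ₐ[k] ArSing.ring k r,
      φ.symm (σ (φ (ArSing.x k r))) = ArSing.x k r ∧
      φ.symm (σ (φ (ArSing.y k r))) = -ArSing.y k r := by
  obtain ⟨m, rfl⟩ := hev
  rcases Nat.eq_zero_or_pos m with rfl | hm
  · exact (ArInv.case_zero k h2 σ hσ hne)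
  obtain ⟨α, β, φ, hα, hβ, hodd, hab, hx, hy⟩ := ArInv.case_class (by omega) h2 hr σ hσ hne
  rcases hα with rfl | rfl
  · rcases hβ with rfl | rfl
    · exact absurd ⟨rfl, rfl⟩ hab
    · exact ⟨φ, by rw [hx, one_smul], by rw [hy, neg_one_smul]⟩
  · exact absurd (hodd rfl) (Nat.not_odd_iff_even.2 ⟨m, rfl⟩)

end Groth.Agent.S14081
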