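import Groth.Statements.S14085
import Groth.Agent.FlatMor.FlatLemmas

set_option autoImplicit false
universe u
open FlatMor

namespace Groth.Agent.S14085

/-- Let R be a ring, A and B flat R-algebras, I an ideal of A and B → A/I an injective finite flat map
of R-algebras. Then the fibre product ring B ×_{A/I} A, realised as the subalgebra of B × A of pairs
with equal image in A/I, is flat over R. (This is the affine statement behind flatness over the base
of the pushout of a closed immersion along a finite flat morphism.) -/
theorem result (R A B : Type u) [CommRing R] [CommRing A] [CommRing B]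
    [Algebra R A] [Algebra R B] [Module.Flat R A] [Module.Flat R B] (I : Ideal A)
    [Algebra B (A ⧸ I)] [IsScalarTower R B (A ⧸ I)] [Module.Finite B (A ⧸ I)] [Module.Flat B (A ⧸ I)]
    (hinj : Function.Injective (algebraMap B (A ⧸ I))) :
    Module.Flat R ↥(AlgHom.equalizer ((IsScalarTower.toAlgHom R B (A ⧸ I)).comp (AlgHom.fst R B A))
          ((Ideal.Quotient.mkₐ R I).comp (AlgHom.snd R B A))) := by
  have : Module.Flat R (A ⧸ I) := Module.Flat.trans R B (A ⧸ I)
  set P := AlgHom.equalizer ((IsScalarTower.toAlgHom R B (A ⧸ I)).comp (AlgHom.fst R B A))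
          ((Ideal.Quotient.mkₐ R I).comp (AlgHom.snd R B A)) with hP
  let d : B × A →ₗ[R] A ⧸ I := ((IsScalarTower.toAlgHom R B (A ⧸ I)).comp (AlgHom.fst R B A)).toLinearMap -
    ((Ideal.Quotient.mkₐ R I).comp (AlgHom.snd R B A)).toLinearMap
  have hd : Function.Surjective d := fun q => by
    obtain ⟨a, rfl⟩ := Ideal.Quotient.mk_surjective q
    exact ⟨(0, -a), by simp [d]⟩
  have hker : LinearMap.ker d = Subalgebra.toSubmodule P := by
    ext x
    simp [d, hP, sub_eq_zero, AlgHom.mem_equalizer]
  have := FlatMor.FlatLemmas.flat_prod (R := R) (M := B) (N := A)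
  have := FlatMor.FlatLemmas.flat_ker d hd
  exact Module.Flat.of_linearEquiv (LinearEquiv.ofEq _ _ hker).symm

end Groth.Agent.S14085
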