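import Groth.Statements.S14086
import Groth.Agent.FlatMor.FlatLemmas
import Mathlib.RingTheory.Flat.FaithfullyFlat.Algebra
import Mathlib.RingTheory.Spectrum.Prime.Topology

set_option autoImplicit false
universe u
open FlatMor

namespace Groth.Agent.S14086

open TensorProduct in
/-- Base change of an injective finite flat algebra map stays injective. -/
theorem lTensor_injective_of_ff (R B C N : Type u) [CommRing R] [CommRing B] [CommRing C] [Algebra R B]
    [Algebra B C] [Algebra R C] [IsScalarTower R B C] [Module.FaithfullyFlat B C]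
    [AddCommGroup N] [Module R N] :
    Function.Injective ((IsScalarTower.toAlgHom R B C).toLinearMap.lTensor N) := by
  have h := Module.FaithfullyFlat.tensorProduct_mk_injective (A := B) (B := C) (B ⊗[R] N)
  let e : C ⊗[B] (B ⊗[R] N) ≃ₗ[R] C ⊗[R] N :=
    (AlgebraTensorModule.cancelBaseChange R B C C N).restrictScalars R
  have heq : ((IsScalarTower.toAlgHom R B C).toLinearMap.rTensor N) =
      e.toLinearMap ∘ₗ ((TensorProduct.mk B C (B ⊗[R] N) 1).restrictScalars R) := by
    apply TensorProduct.ext'
    intro b n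
    simp only [e, LinearMap.comp_apply, LinearEquiv.coe_coe, LinearMap.rTensor_tmul, LinearMap.restrictScalars_apply,
      TensorProduct.mk_apply, LinearEquiv.restrictScalars_apply, AlgebraTensorModule.cancelBaseChange_tmul,
      AlgHom.toLinearMap_apply, IsScalarTower.coe_toAlgHom', Algebra.smul_def, mul_one]
  have hr : Function.Injective ((IsScalarTower.toAlgHom R B C).toLinearMap.rTensor N) := by
    rw [heq]; exact e.injective.comp h
  rwa [LinearMap.lTensor_inj_iff_rTensor_inj]

/-- Let R be a ring, A and B flat R-algebras, I an ideal of A, B → A/I an injective finite flat map of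
R-algebras and P = B ×_{A/I} A the fibre product ring (pairs in B × A with equal image in A/I). For
any R-algebra R' the base change R' ⊗_R P maps injectively to R' ⊗_R A, and any b' in R' ⊗_R B and
a' in R' ⊗_R A with the same image in R' ⊗_R (A/I) are the two components of some element of R' ⊗_R
P; that is, R' ⊗_R P is the fibre product of R' ⊗_R B and R' ⊗_R A over R' ⊗_R (A/I). -/
theorem result (R A B R' : Type u) [CommRing R] [CommRing A]
    [CommRing B] [CommRing R'] [Algebra R A] [Algebra R B] [Algebra R R'] [Module.Flat R A] [Module.Flat R B]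
    (I : Ideal A) [Algebra B (A ⧸ I)] [IsScalarTower R B (A ⧸ I)] [Module.Finite B (A ⧸ I)] [Module.Flat B (A ⧸ I)]
    (hinj : Function.Injective (algebraMap B (A ⧸ I))) :
    Function.Injective (Algebra.TensorProduct.map (AlgHom.id R' R')
        ((AlgHom.snd R B A).comp (AlgHom.equalizer ((IsScalarTower.toAlgHom R B (A ⧸ I)).comp (AlgHom.fst R B A))
          ((Ideal.Quotient.mkₐ R I).comp (AlgHom.snd R B A))).val)) ∧
    ∀ (b : TensorProduct R R' B) (a : TensorProduct R R' A),
      Algebra.TensorProduct.map (AlgHom.id R' R') (IsScalarTower.toAlgHom R B (A ⧸ I)) b =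
        Algebra.TensorProduct.map (AlgHom.id R' R') (Ideal.Quotient.mkₐ R I) a →
      ∃ x : TensorProduct R R' ↥(AlgHom.equalizer ((IsScalarTower.toAlgHom R B (A ⧸ I)).comp (AlgHom.fst R B A))
          ((Ideal.Quotient.mkₐ R I).comp (AlgHom.snd R B A))),
        Algebra.TensorProduct.map (AlgHom.id R' R') ((AlgHom.fst R B A).comp (AlgHom.equalizer ((IsScalarTower.toAlgHom R B (A ⧸ I)).comp (AlgHom.fst R B A))
          ((Ideal.Quotient.mkₐ R I).comp (AlgHom.snd R B A))).val) x = b ∧
        Algebra.TensorProduct.map (AlgHom.id R' R') ((AlgHom.snd R B A).comp (AlgHom.equalizer ((IsScalarTower.toAlgHom R B (A ⧸ I)).comp (AlgHom.fst R B A))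
          ((Ideal.Quotient.mkₐ R I).comp (AlgHom.snd R B A))).val) x = a := by
  have : Module.Flat R (A ⧸ I) := Module.Flat.trans R B (A ⧸ I)
  have : FaithfulSMul B (A ⧸ I) := (faithfulSMul_iff_algebraMap_injective _ _).mpr hinj
  have : Module.FaithfullyFlat B (A ⧸ I) :=
    Module.FaithfullyFlat.of_comap_surjective (Algebra.IsIntegral.comap_surjective B (A ⧸ I))
  set P := AlgHom.equalizer ((IsScalarTower.toAlgHom R B (A ⧸ I)).comp (AlgHom.fst R B A))
          ((Ideal.Quotient.mkₐ R I).comp (AlgHom.snd R B A)) with hP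
  let i : B →ₐ[R] A ⧸ I := IsScalarTower.toAlgHom R B (A ⧸ I)
  let q : A →ₐ[R] A ⧸ I := Ideal.Quotient.mkₐ R I
  let d : B × A →ₗ[R] A ⧸ I := (i.comp (AlgHom.fst R B A)).toLinearMap - (q.comp (AlgHom.snd R B A)).toLinearMap
  have hd : Function.Surjective d := fun c => by
    obtain ⟨a, rfl⟩ := Ideal.Quotient.mk_surjective c
    exact ⟨(0, -a), by simp [d, q]⟩
  have hexact : Function.Exact P.val.toLinearMap d := by
    intro x
    have hx : d x = 0 ↔ x ∈ P := by simp [d, i, q, hP, sub_eq_zero, AlgHom.mem_equalizer]
    rw [hx]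
    exact ⟨fun h => ⟨⟨x, h⟩, rfl⟩, fun ⟨y, hy⟩ => hy ▸ y.2⟩
  let pr := TensorProduct.prodRight R R R' B A
  have hpr1 : ∀ y, (pr (P.val.toLinearMap.lTensor R' y)).1 =
      Algebra.TensorProduct.map (AlgHom.id R' R') ((AlgHom.fst R B A).comp P.val) y := by
    intro y
    induction y with
    | zero => simp
    | tmul r p => simp [pr]
    | add a b ha hb => simp [ha, hb]
  have hpr2 : ∀ y, (pr (P.val.toLinearMap.lTensor R' y)).2 =
      Algebra.TensorProduct.map (AlgHom.id R' R') ((AlgHom.snd R B A).comp P.val) y := by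
    intro y
    induction y with
    | zero => simp
    | tmul r p => simp [pr]
    | add a b ha hb => simp [ha, hb]
  have hd' : ∀ z, d.lTensor R' z =
      Algebra.TensorProduct.map (AlgHom.id R' R') i (pr z).1 -
        Algebra.TensorProduct.map (AlgHom.id R' R') q (pr z).2 := by
    intro z
    induction z with
    | zero => simp
    | tmul r p => simp [pr, d, TensorProduct.tmul_sub]
    | add a b ha hb => simp [ha, hb]; abel
  have hib : ∀ z, Algebra.TensorProduct.map (AlgHom.id R' R') i z = i.toLinearMap.lTensor R' z := by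
    intro z
    induction z with
    | zero => simp
    | tmul r p => simp
    | add a b ha hb => simp [ha, hb]
  refine ⟨?_, fun b a hab => ?_⟩
  · rw [injective_iff_map_eq_zero]
    intro y hy
    apply LinearMap.lTensor_injective_of_exact_of_flat d hd P.val.toLinearMap Subtype.val_injective hexact R'
    rw [map_zero]
    apply pr.injective
    rw [map_zero]
    refine Prod.ext ?_ ((hpr2 y).trans hy)
    apply lTensor_injective_of_ff R B (A ⧸ I) R'
    have h0 : d.lTensor R' (P.val.toLinearMap.lTensor R' y) = 0 := by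
      rw [← LinearMap.comp_apply, ← LinearMap.lTensor_comp, hexact.linearMap_comp_eq_zero]
      simp
    rw [hd', hpr2, hy, map_zero, sub_zero, hib] at h0
    exact h0.trans (map_zero _).symm
  · obtain ⟨y, hy⟩ := (lTensor_exact R' hexact hd (pr.symm (b, a))).mp (by
      rw [hd', pr.apply_symm_apply, sub_eq_zero]
      exact hab)
    exact ⟨y, by rw [← hpr1, hy, pr.apply_symm_apply], by rw [← hpr2, hy, pr.apply_symm_apply]⟩

end Groth.Agent.S14086
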