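import Groth.Statements.S14087
import Groth.Agent.Curvilinear.Basic
-- import your own Groth.Agent.* helpers here

set_option autoImplicit false
universe u
open ArSing

namespace Groth.Agent.S14087

open Polynomial in
/-- Over an algebraically closed field k, if B = k[t]/(t^n) with n ≥ 1 is flat over a k-subalgebra A ⊆ B
(a finite flat extension of pointed finite algebras with curvilinear top), then A is curvilinear
too: A is isomorphic as a k-algebra to k[t]/(t^m) for some m. -/
theorem result (k : Type u) [Field k] [IsAlgClosed k]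
    (n : ℕ) (hn : 0 < n)
    (A : Subalgebra k (Polynomial k ⧸ Ideal.span {(X : Polynomial k) ^ n}))
    [Module.Flat A (Polynomial k ⧸ Ideal.span {(X : Polynomial k) ^ n})] :
    ∃ m : ℕ, Nonempty (A ≃ₐ[k] (Polynomial k ⧸ Ideal.span {(X : Polynomial k) ^ m})) := by
  have hne : Ideal.span {(X : Polynomial k) ^ n} ≠ ⊤ := by
    rw [Ne, Ideal.span_singleton_eq_top]
    exact fun h => not_isUnit_X ((isUnit_pow_iff hn.ne').1 h)
  haveI : Nontrivial (Polynomial k ⧸ Ideal.span {(X : Polynomial k) ^ n}) := Ideal.Quotient.nontrivial_iff.2 hne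
  haveI : IsPrincipalIdealRing (Polynomial k ⧸ Ideal.span {(X : Polynomial k) ^ n}) :=
    IsPrincipalIdealRing.of_surjective (Ideal.Quotient.mk _) Ideal.Quotient.mk_surjective
  haveI : Module.Finite k (Polynomial k ⧸ Ideal.span {(X : Polynomial k) ^ n}) :=
    Polynomial.Monic.finite_quotient (monic_X_pow n)
  haveI : IsLocalRing (Polynomial k ⧸ Ideal.span {(X : Polynomial k) ^ n}) := by
    refine IsLocalRing.of_unique_max_ideal ⟨Ideal.map (Ideal.Quotient.mk _) (Ideal.span {(X : Polynomial k)}), ?_, ?_⟩
    · have hXM : (Ideal.span {(X : Polynomial k)}).IsMaximal :=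
        PrincipalIdealRing.isMaximal_of_irreducible irreducible_X
      refine (Ideal.map_eq_top_or_isMaximal_of_surjective _ Ideal.Quotient.mk_surjective hXM).resolve_left fun h => ?_
      have := congrArg (Ideal.comap (Ideal.Quotient.mk (Ideal.span {(X : Polynomial k) ^ n}))) h
      rw [Ideal.comap_map_of_surjective _ Ideal.Quotient.mk_surjective, Ideal.comap_top, ← RingHom.ker_eq_comap_bot, Ideal.mk_ker, sup_of_le_left (Ideal.span_singleton_le_span_singleton.2 (dvd_pow_self _ hn.ne'))] at this
      exact hXM.ne_top this
    · intro M hM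
      have hXM : (Ideal.span {(X : Polynomial k)}).IsMaximal :=
        PrincipalIdealRing.isMaximal_of_irreducible irreducible_X
      have hle : Ideal.span {(X : Polynomial k)} ≤ M.comap (Ideal.Quotient.mk _) := by
        rw [Ideal.span_singleton_le_iff_mem, Ideal.mem_comap]
        refine hM.isPrime.mem_of_pow_mem n ?_
        rw [← map_pow, Ideal.Quotient.eq_zero_iff_mem.2 (Ideal.mem_span_singleton_self _)]
        exact zero_mem _
      have := hXM.eq_of_le (Ideal.comap_ne_top _ hM.ne_top) hle
      rw [this, Ideal.map_comap_of_surjective _ Ideal.Quotient.mk_surjective]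
  exact Curvilinear.of_flat_subalgebra k _ A

end Groth.Agent.S14087
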