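import Groth.Statements.S14088
import Mathlib.RingTheory.MvPolynomial.Symmetric.Defs
import Mathlib.Algebra.BigOperators.Intervals
import Mathlib.Tactic.LinearCombination
import Mathlib.Tactic.Ring
-- import your own Groth.Agent.* helpers here

set_option autoImplicit false
universe u
open ArSing

namespace Groth.Agent.S14088

section
variable {A : Type*} [CommRing A] (h τ : A)

/-- `h_0 ⋯ h_(k-1)`. -/
def P (k : ℕ) : A := ∏ i ∈ Finset.range k, (h + (i : A) * τ)

theorem pow_two_eq (n m : ℕ) (hnm : n ≤ m) :
    (∏ i ∈ Finset.range n, (h + (i : A) * τ) ^ 2) * ∏ i ∈ Finset.Ico n m, (h + (i : A) * τ) =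
      P h τ n * P h τ m := by
  rw [Finset.prod_pow, sq, mul_assoc, Finset.prod_range_mul_prod_Ico _ hnm]
  rfl

theorem main (m : ℕ) : ∀ n, n ≤ m → P h τ n * P h τ m =
    ∑ s ∈ Finset.range (n + 1), (-1 : A) ^ s * (Nat.factorial s : A) * (Nat.choose n s : A) *
      (Nat.choose m s : A) * τ ^ s * P h τ (m + n - s) := by
  intro n
  induction n with
  | zero => intro _; simp [P]
  | succ n ih =>
    intro hn
    let c : ℕ → A := fun s => (-1 : A) ^ s * (Nat.factorial s : A) * (Nat.choose m s : A) * τ ^ s
    have hc : ∀ s, s ≤ m → c (s + 1) = -((m : A) - (s : A)) * τ * c s := by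
      intro s hs
      have e : (m.choose (s + 1) : A) * ((s : A) + 1) = (m.choose s : A) * ((m : A) - (s : A)) := by
        rw [← Nat.cast_sub hs]
        exact_mod_cast congr_arg (Nat.cast : ℕ → A) (Nat.choose_succ_right_eq m s)
      simp only [c, Nat.factorial_succ, pow_succ]
      push_cast
      linear_combination -((-1 : A) ^ s * (Nat.factorial s : A) * τ ^ s * τ) * e
    have hP : P h τ (n + 1) = (h + (n : A) * τ) * P h τ n := by
      rw [P, Finset.prod_range_succ, mul_comm]; rfl
    have hterm : ∀ s ∈ Finset.range (n + 1),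
        (h + (n : A) * τ) * ((-1 : A) ^ s * (Nat.factorial s : A) * (Nat.choose n s : A) *
          (Nat.choose m s : A) * τ ^ s * P h τ (m + n - s)) =
        (n.choose s : A) * c s * P h τ (m + (n + 1) - s) +
          (n.choose s : A) * c (s + 1) * P h τ (m + (n + 1) - (s + 1)) := by
      intro s hs
      simp only [Finset.mem_range] at hs
      rw [hc s (by omega), show m + (n + 1) - (s + 1) = m + n - s by omega,
        show m + (n + 1) - s = m + n - s + 1 by omega]
      rw [show P h τ (m + n - s + 1) = (h + ((m + n - s : ℕ) : A) * τ) * P h τ (m + n - s) by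
        rw [P, Finset.prod_range_succ, mul_comm]; rfl]
      rw [Nat.cast_sub (show s ≤ m + n by omega)]
      simp only [c]
      push_cast
      ring
    rw [hP, mul_assoc, ih (by omega), Finset.mul_sum, Finset.sum_congr rfl hterm, Finset.sum_add_distrib]
    have hR : ∀ s, (-1 : A) ^ s * (Nat.factorial s : A) * ((n + 1).choose s : A) * (Nat.choose m s : A) *
        τ ^ s * P h τ (m + (n + 1) - s) = ((n + 1).choose s : A) * c s * P h τ (m + (n + 1) - s) :=
      fun s => by simp only [c]; ring
    simp only [hR]
    rw [Finset.sum_range_succ' (fun s => ((n + 1).choose s : A) * c s * P h τ (m + (n + 1) - s)) (n + 1)]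
    simp only [Nat.choose_succ_succ, Nat.cast_add, add_mul, Finset.sum_add_distrib]
    rw [Finset.sum_range_succ' (fun s => (n.choose s : A) * c s * P h τ (m + (n + 1) - s)) n,
      Finset.sum_range_succ (fun s => (n.choose (s + 1) : A) * c (s + 1) * P h τ (m + (n + 1) - (s + 1))) n]
    simp
    ring

end

/-- The identity behind the torus-equivariant classes h_i = h_0 + i τ of the coordinate hyperplanes of a
projective space of binary forms, stated in an arbitrary commutative ring: for n ≤ m, (h_0 ⋯
h_(n-1))^2 · h_n ⋯ h_(m-1) equals the sum over s = 0, …, n of (-1)^s s! (n choose s) (m choose s)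
τ^s h_0 ⋯ h_(m+n-s-1), where h_i = h + i τ. (The published statement is in the equivariant Chow ring
of that projective space; only the relations h_i = h_j + (j - i) τ are used, so it holds in any
commutative ring.) -/
theorem result (A : Type u) [CommRing A] (h τ : A) (n m : ℕ) (hnm : n ≤ m) :
    (∏ i ∈ Finset.range n, (h + (i : A) * τ) ^ 2) * ∏ i ∈ Finset.Ico n m, (h + (i : A) * τ) =
      ∑ s ∈ Finset.range (n + 1), (-1 : A) ^ s * (Nat.factorial s : A) * (Nat.choose n s : A) *
        (Nat.choose m s : A) * τ ^ s * ∏ i ∈ Finset.range (m + n - s), (h + (i : A) * τ) := by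
  rw [pow_two_eq h τ n m hnm]
  exact main h τ m n hnm

end Groth.Agent.S14088
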