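import Groth.Statements.S14089
import Groth.Agent.S2896
import Groth.Agent.BlowUpSmooth.FlatFromQuot
import Groth.Agent.BlowUpProper.Basic
-- import your own Groth.Agent.* helpers here

set_option autoImplicit false
universe u
open CategoryTheory AlgebraicGeometry
open BlowUp

namespace Groth.Agent.S14089

/-- Let f : X → S be flat, proper and of finite presentation, 𝓘 a quasi-coherent ideal of finite type on
X with V(𝓘^m) flat over S for all m ≥ 1, and b : X' → X a blowing up of X in 𝓘. Then X' is flat and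
proper over S, and blowing up commutes with every base change T → S: if X_T = X ×_S T and X'_T = X'
×_X X_T, the projection X'_T → X_T is a blowing up of X_T in the inverse image of 𝓘. (The published
statement puts no finiteness condition on the ideal; for S = X the spectrum of an infinite product
of fields and 𝓘 the ideal of finitely supported sequences every V(𝓘^m) is flat, yet the blow-up is a
non-quasi-compact open subscheme, not proper — so the ideal is taken of finite type here, and finite
presentation of X' over S is not asserted.) -/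
theorem result {X X' S T XT XT' : Scheme.{u}}
    (f : X ⟶ S) [Flat f] [IsProper f] [LocallyOfFinitePresentation f]
    (𝓘 : X.IdealSheafData) (hft : BlowUp.IsFiniteTypeIdeal 𝓘)
    (hfl : ∀ m : ℕ, 1 ≤ m → Flat ((𝓘 ^ m).subschemeι ≫ f))
    (b : X' ⟶ X) (hb : BlowUp.IsBlowUp b 𝓘)
    (g : T ⟶ S) (pX : XT ⟶ X) (fT : XT ⟶ T) (hX : IsPullback pX fT f g)
    (pX' : XT' ⟶ X') (bT : XT' ⟶ XT) (hX' : IsPullback pX' bT b pX) :
    Flat (b ≫ f) ∧ IsProper (b ≫ f) ∧ BlowUp.IsBlowUp bT (𝓘.comap pX) := by
  haveI : IsProper b := Groth.Agent.BlowUpProper.Basic.isProper hb hft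
  have hflat : ∀ n : ℕ, Flat ((𝓘 ^ (n + 1)).subschemeι ≫ f) := fun n => hfl _ n.succ_pos
  refine ⟨?_, inferInstance, ?_⟩
  · rw [HasRingHomProperty.iff_exists_appLE (P := @Flat)
      (RingHom.Flat.stableUnderComposition.stableUnderCompositionWithLocalizationAway RingHom.Flat.holdsForLocalizationAway).left]
    intro y
    obtain ⟨U, hU, hyU, -⟩ := exists_isAffineOpen_mem_and_subset (U := (⊤ : S.Opens)) (x := f (b y)) trivial
    obtain ⟨W, e, t, hxW, ht, hideal, hflC⟩ := Groth.Agent.S2896.exists_chart f 𝓘 hflat b hb y ⟨U, hU⟩ hyU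
    refine ⟨⟨U, hU⟩, W, hxW, e, ?_⟩
    haveI := Groth.Agent.BlowUp.Basic.isOpenImmersion_ι_comp hb (X'.basicOpen t) (by
      rw [Groth.Agent.IdealSh.Regular.basicOpen_eq_compl_support hideal]; exact Set.disjoint_sdiff_left)
    haveI : Flat ((X'.basicOpen t).ι ≫ b ≫ f) := by rw [← Category.assoc]; infer_instance
    have h1 := Groth.Agent.IdealSh.Regular.flat_appLE_of_flat_ι (b ≫ f) hU (W.2.basicOpen t)
      ((X'.basicOpen_le t).trans e)
    rw [← Scheme.Hom.appLE_map _ e (homOfLE (X'.basicOpen_le t)).op] at h1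
    letI := ((b ≫ f).appLE U W.1 e).hom.toAlgebra
    letI : Algebra Γ(S, U) Γ(X', X'.basicOpen t) :=
      ((b ≫ f).appLE U W.1 e ≫ X'.presheaf.map (homOfLE (X'.basicOpen_le t)).op).hom.toAlgebra
    haveI : IsScalarTower Γ(S, U) Γ(X', W.1) Γ(X', X'.basicOpen t) := IsScalarTower.of_algebraMap_eq fun _ => rfl
    haveI := W.2.isLocalization_basicOpen t
    haveI : Module.Flat Γ(S, U) Γ(X', X'.basicOpen t) := h1
    haveI := hflC
    exact Groth.Agent.FlatFromQuot.flat_of_quot_of_away (Ct := Γ(X', X'.basicOpen t)) t ht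
  · let e₁ := hX.isoPullback
    have hP : IsPullback pX' (bT ≫ fT) (b ≫ f) g := hX'.paste_vert hX
    let e₂ := hP.isoPullback
    have hbc := (Groth.Agent.S2896.result f 𝓘 hflat b hb).2 T g
    have hsq : bT = (e₂.hom ≫ CInt.baseChangeOver b f g) ≫ e₁.inv := by
      rw [Iso.eq_comp_inv]
      refine Limits.pullback.hom_ext ?_ ?_
      · show bT ≫ hX.isoPullback.hom ≫ _ = (hP.isoPullback.hom ≫ CInt.baseChangeOver b f g) ≫ _
        simp [CInt.baseChangeOver, Limits.pullback.map, ← hX'.w]
        erw [Limits.pullback.lift_fst, ← Category.assoc, hP.isoPullback_hom_fst]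
      · simp [CInt.baseChangeOver, Limits.pullback.map, e₁, e₂]
        erw [Limits.pullback.lift_snd, hP.isoPullback_hom_snd]
    rw [hsq]
    refine Groth.Agent.BlowUp.Local.comp_iso e₁.symm ?_
    have hi : (𝓘.comap pX).comap e₁.symm.hom = 𝓘.comap (Limits.pullback.fst f g) := by
      rw [← Scheme.IdealSheafData.comap_comp]
      congr 1
      simp [e₁]
    rw [hi]
    exact Groth.Agent.BlowUp.Basic.isBlowUp_iso_comp hbc e₂

end Groth.Agent.S14089
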