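import Groth.Statements.S1409
import Mathlib.RingTheory.Flat.FaithfullyFlat.Algebra
import Mathlib.RingTheory.Ideal.GoingDown
import Mathlib.Algebra.Colimit.Ring
import Mathlib.RingTheory.Spectrum.Prime.Basic
-- import your own Groth.Agent.* helpers here

set_option autoImplicit false
universe u
open FlatMor

namespace Groth.Agent.S1409

theorem exists_mul_pow_eq_zero {R : Type u} [CommRing R] {q : Ideal R} (hq : q ∈ minimalPrimes R)
    {x : R} (hx : x ∈ q) : ∃ s ∉ q, ∃ n : ℕ, s * x ^ n = 0 := by
  by_contra h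
  push Not at h
  have := hq.1.1
  let M : Submonoid R := q.primeCompl ⊔ Submonoid.powers x
  have hdis : Disjoint ((⊥ : Ideal R) : Set R) (M : Set R) := by
    rw [Set.disjoint_left]
    rintro z (rfl : z = 0) hz
    obtain ⟨s, hs, t, ⟨n, rfl⟩, he⟩ := Submonoid.mem_sup.mp hz
    exact h s hs n he
  obtain ⟨P, hP, -, hPM⟩ := Ideal.exists_le_prime_disjoint ⊥ M hdis
  have hPq : P ≤ q := fun z hz => by
    by_contra hzq
    exact Set.disjoint_left.mp hPM hz (Submonoid.mem_sup_left hzq)
  have hxP : x ∈ P := hq.2 ⟨hP, bot_le⟩ hPq hx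
  exact Set.disjoint_left.mp hPM hxP (Submonoid.mem_sup_right (Submonoid.mem_powers x))

/-- Let (R_i) be a directed system of commutative rings whose transition maps are faithfully flat, with
colimit R. Then, counting in the extended natural numbers, the minimal primes of R are exactly as
numerous as the supremum over i of the count of minimal primes of R_i. -/
theorem result {ι : Type u} [Preorder ι] [IsDirected ι (· ≤ ·)] [Nonempty ι] (G : ι → Type u) [∀ i, CommRing (G i)]
    (f : ∀ i j, i ≤ j → G i →+* G j) [DirectedSystem G fun i j h => f i j h]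
    (hf : ∀ i j (h : i ≤ j), letI := (f i j h).toAlgebra
      Module.FaithfullyFlat (G i) (G j)) :
    (minimalPrimes (Ring.DirectLimit G fun i j h => ⇑(f i j h))).encard = ⨆ i, (minimalPrimes (G i)).encard := by
  classical
  let R := Ring.DirectLimit G fun i j h => ⇑(f i j h)
  let o : ∀ i, G i →+* R := fun i => Ring.DirectLimit.of G _ i
  have ho : ∀ {i j} (h : i ≤ j) (x : G i), o j (f i j h x) = o i x := fun {i j} h x =>
    Ring.DirectLimit.of_f h x
  have htrans : ∀ {i j k} (h : i ≤ j) (h' : j ≤ k) (x : G i),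
      f j k h' (f i j h x) = f i k (h.trans h') x := fun {i j k} h h' x =>
    DirectedSystem.map_map (f := fun i j h => f i j h) h h' x
  -- contraction of minimal primes
  have hmin : ∀ i, ∀ q ∈ minimalPrimes R, q.comap (o i) ∈ minimalPrimes (G i) := by
    intro i q hq
    have := hq.1.1
    refine ⟨⟨inferInstance, bot_le⟩, fun p hp hpq x hx => ?_⟩
    have := hp.1
    obtain ⟨s, hs, n, hsn⟩ := exists_mul_pow_eq_zero hq (show o i x ∈ q from hx)
    obtain ⟨k, s', rfl⟩ := Ring.DirectLimit.exists_of s
    obtain ⟨l, hil, hkl⟩ := exists_ge_ge i k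
    obtain ⟨j, hlj, hj⟩ := Ring.DirectLimit.of.zero_exact (f' := f) (i := l)
      (x := f k l hkl s' * (f i l hil x) ^ n) (by
        show o l _ = 0
        rw [map_mul, map_pow, ho, ho]; exact hsn)
    rw [map_mul, map_pow, htrans, htrans] at hj
    letI := (f i j (hil.trans hlj)).toAlgebra
    have := hf i j (hil.trans hlj)
    let Q := q.comap (o j)
    have hQ : Q.LiesOver (q.comap (o i)) := ⟨by
      ext z
      show o i z ∈ q ↔ o j (f i j _ z) ∈ q
      rw [ho]⟩
    obtain ⟨P, hPQ, hP, hPp⟩ := Ideal.exists_ideal_le_liesOver_of_le (p := p) Q hpq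
    have hsP : f k j (hkl.trans hlj) s' ∉ P := fun h => hs (by
      have : o j (f k j (hkl.trans hlj) s') ∈ q := hPQ h
      rwa [ho] at this)
    have hxP : (f i j (hil.trans hlj) x) ∈ P :=
      hP.mem_of_pow_mem n ((hP.mem_or_mem (hj ▸ P.zero_mem)).resolve_left hsP)
    rw [hPp.over]
    exact hxP
  -- every minimal prime of a stage is such a contraction
  have hsurj : ∀ i, ∀ p ∈ minimalPrimes (G i), ∃ q ∈ minimalPrimes R, q.comap (o i) = p := by
    intro i p hp
    have := hp.1.1
    have key : (p.map (o i)).comap (o i) = p := by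
      refine le_antisymm (fun x hx => ?_) Ideal.le_comap_map
      have main : ∀ z ∈ p.map (o i), ∃ j, ∃ h : i ≤ j, ∃ w ∈ p.map (f i j h), o j w = z := by
        intro z hz
        induction hz using Submodule.span_induction with
        | mem z hz =>
          obtain ⟨y, hy, rfl⟩ := hz
          exact ⟨i, le_rfl, _, Ideal.mem_map_of_mem _ hy, ho le_rfl y⟩
        | zero => exact ⟨i, le_rfl, 0, Ideal.zero_mem _, map_zero _⟩
        | add a b _ _ iha ihb =>
          obtain ⟨j, hj, w, hw, rfl⟩ := iha
          obtain ⟨k, hk, v, hv, rfl⟩ := ihb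
          obtain ⟨l, hjl, hkl⟩ := exists_ge_ge j k
          refine ⟨l, hj.trans hjl, f j l hjl w + f k l hkl v, Ideal.add_mem _ ?_ ?_, by
            rw [map_add, ho, ho]⟩
          · have := Ideal.mem_map_of_mem (f j l hjl) hw
            rwa [Ideal.map_map, show (f j l hjl).comp (f i j hj) = f i l (hj.trans hjl) from
              RingHom.ext (htrans _ _)] at this
          · have := Ideal.mem_map_of_mem (f k l hkl) hv
            rwa [Ideal.map_map, show (f k l hkl).comp (f i k hk) = f i l (hj.trans hjl) from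
              RingHom.ext (htrans _ _)] at this
        | smul r a _ iha =>
          obtain ⟨j, hj, w, hw, rfl⟩ := iha
          obtain ⟨k, r', rfl⟩ := Ring.DirectLimit.exists_of r
          obtain ⟨l, hjl, hkl⟩ := exists_ge_ge j k
          refine ⟨l, hj.trans hjl, f k l hkl r' * f j l hjl w, Ideal.mul_mem_left _ _ ?_, by
            rw [map_mul, ho, ho]; rfl⟩
          have := Ideal.mem_map_of_mem (f j l hjl) hw
          rwa [Ideal.map_map, show (f j l hjl).comp (f i j hj) = f i l (hj.trans hjl) from
            RingHom.ext (htrans _ _)] at this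
      obtain ⟨j, hij, w, hw, he⟩ := main _ hx
      obtain ⟨l, hjl, hl⟩ := Ring.DirectLimit.of.zero_exact (f' := f) (i := j)
        (x := w - f i j hij x) (by
          show o j _ = 0
          rw [map_sub, ho, he, sub_self])
      rw [map_sub, sub_eq_zero, htrans] at hl
      letI := (f i l (hij.trans hjl)).toAlgebra
      have := hf i l (hij.trans hjl)
      have hmem := Ideal.mem_map_of_mem (f j l hjl) hw
      rw [hl, Ideal.map_map, show (f j l hjl).comp (f i j hij) = f i l (hij.trans hjl) from
        RingHom.ext (htrans _ _)] at hmem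
      rw [← Ideal.comap_map_eq_self_of_faithfullyFlat (B := G l) p]
      exact hmem
    obtain ⟨P, hP, hPp⟩ := Ideal.comap_map_eq_self_iff_of_isPrime p |>.mp key
    obtain ⟨q, hq, hqP⟩ := Ideal.exists_minimalPrimes_le (I := (⊥ : Ideal R)) (J := P) bot_le
    refine ⟨q, hq, le_antisymm ((Ideal.comap_mono hqP).trans hPp.le) ?_⟩
    exact hp.2 ⟨(hmin i q hq).1.1, bot_le⟩ ((Ideal.comap_mono hqP).trans hPp.le)
  refine le_antisymm ?_ (iSup_le fun i => ?_)
  · refine ENat.forall_natCast_le_iff_le.mp fun n hn => ?_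
    obtain ⟨F, hF, hFn⟩ := Set.exists_subset_encard_eq hn
    have hFfin : F.Finite := Set.finite_of_encard_eq_coe hFn
    have hpair : ∀ pq : F × F, ∃ i, ∀ k, i ≤ k →
        (pq.1.1.comap (o k) = pq.2.1.comap (o k) → pq.1.1 = pq.2.1) := by
      intro pq
      by_cases h : pq.1.1 = pq.2.1
      · exact ⟨Classical.arbitrary ι, fun _ _ _ => h⟩
      obtain ⟨z, hz⟩ : ∃ z, ¬ (z ∈ pq.1.1 ↔ z ∈ pq.2.1) := not_forall.mp fun h' => h (Ideal.ext h')
      obtain ⟨i, x, rfl⟩ := Ring.DirectLimit.exists_of z
      refine ⟨i, fun k hk he => absurd ?_ hz⟩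
      have := Ideal.ext_iff.mp he (f i k hk x)
      simp only [Ideal.mem_comap, ho] at this
      exact this
    choose I hI using hpair
    have := hFfin.fintype
    obtain ⟨i₀, hi₀⟩ := Finite.exists_le I
    rw [← hFn]
    refine le_iSup_of_le i₀ ?_
    refine Set.encard_le_encard_of_injOn (f := fun q => q.comap (o i₀))
      (fun q hq => hmin i₀ q (hF hq)) ?_
    intro p hp q hq he
    exact hI (⟨p, hp⟩, ⟨q, hq⟩) i₀ (hi₀ _) he
  · refine le_trans (Set.encard_le_encard ?_) (Set.encard_image_le (fun q => q.comap (o i)) _)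
    intro p hp
    obtain ⟨q, hq, rfl⟩ := hsurj i p hp
    exact ⟨q, hq, rfl⟩

end Groth.Agent.S1409
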