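import Groth.Statements.S14090
import Groth.Agent.IdealSh.Regular

set_option autoImplicit false
universe u
open CategoryTheory AlgebraicGeometry
open BlowUp

namespace Groth.Agent.S14090

lemma local_gen {A R : Type u} [CommRing A] [CommRing R] (φ : A →+* R) {I : Ideal A} {a₀ : A}
    (ha₀ : a₀ ∈ I) (hsq : ∀ a ∈ I, ∀ a' ∈ I, ∃ a'' ∈ I, a * a' = a'' * a₀) {e : R}
    (he : e ∈ nonZeroDivisors R) (hI : I.map φ = Ideal.span {e}) :
    φ a₀ ∈ nonZeroDivisors R ∧ ∀ a ∈ I, ∃ s, φ a₀ * s = φ a := by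
  have h2 : I.map φ * I.map φ ≤ Ideal.span {φ a₀} * I.map φ := by
    rw [← Ideal.map_mul, Ideal.map_le_iff_le_comap, Ideal.mul_le]
    intro a ha a' ha'
    obtain ⟨a'', ha'', heq⟩ := hsq a ha a' ha'
    rw [Ideal.mem_comap, heq, map_mul, mul_comm (φ a'')]
    have h3 : φ a'' ∈ I.map φ := Ideal.mem_map_of_mem φ ha''
    exact Ideal.mul_mem_mul (Ideal.mem_span_singleton_self (φ a₀)) h3
  rw [hI, Ideal.span_singleton_mul_span_singleton, Ideal.span_singleton_mul_span_singleton,
    Ideal.span_singleton_le_span_singleton] at h2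
  obtain ⟨d, hd⟩ := h2
  have hed : e = φ a₀ * d := by
    refine (mul_cancel_right_mem_nonZeroDivisors he).mp ?_
    linear_combination hd
  refine ⟨(mul_mem_nonZeroDivisors.mp (hed ▸ he : φ a₀ * d ∈ nonZeroDivisors R)).1, fun a ha => ?_⟩
  obtain ⟨s, hs⟩ := Ideal.mem_span_singleton'.mp (hI.le (Ideal.mem_map_of_mem _ ha))
  exact ⟨d * s, by rw [← mul_assoc, ← hed, mul_comm]; exact hs⟩

/-- Let A → B be an injective ring homomorphism and I an ideal of A such that the ideal I·B of B is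
contained in the image of I (so I is an ideal of B as well) and I·B is generated by one
nonzerodivisor of B (I is free of rank one over B). Then Spec B → Spec A is a blowing up of Spec A
in I. (This is the affine statement behind recovering a pair (X̃, D̃), D̃ an effective Cartier
divisor finite flat over D, as the blow-up of the pushout X̃ ⨿_D̃ D along D.) -/
theorem result (A B : Type u) [CommRing A] [CommRing B] [Algebra A B]
    (hinj : Function.Injective (algebraMap A B)) (I : Ideal A)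
    (hIB : (Ideal.map (algebraMap A B) I : Set B) ⊆ algebraMap A B '' (I : Set A))
    (f : B) (hf : f ∈ nonZeroDivisors B) (hgen : Ideal.map (algebraMap A B) I = Ideal.span {f}) :
    BlowUp.IsBlowUp (Spec.map (CommRingCat.ofHom (algebraMap A B))) (Curv2.idealSheaf A I) := by
  classical
  let ρA := (Scheme.ΓSpecIso (CommRingCat.of A))
  let ρB := (Scheme.ΓSpecIso (CommRingCat.of B))
  let ι := Spec.map (CommRingCat.ofHom (algebraMap A B))
  have hιtop : ι.appTop = ρA.hom ≫ CommRingCat.ofHom (algebraMap A B) ≫ ρB.inv := by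
    rw [Scheme.ΓSpecIso_inv_naturality (CommRingCat.ofHom (algebraMap A B)), Iso.hom_inv_id_assoc]
  have key : ∀ {Y : Scheme.{u}} (g : Y ⟶ Spec (CommRingCat.of A)) (V : Y.affineOpens),
      ((Curv2.idealSheaf A I).comap g).ideal V =
        I.map ((ρA.inv ≫ g.appTop ≫ Y.presheaf.map (homOfLE le_top).op).hom) := by
    intro Y g V
    have h1 := IdealSh.Comap.ofIdealTop_comap (I.map ρA.inv.hom) g V
    rw [Ideal.map_map, ← CommRingCat.hom_comp] at h1
    exact h1
  have ha0 : ∃ a₀ ∈ I, algebraMap A B a₀ = f :=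
    hIB (show f ∈ Ideal.map (algebraMap A B) I from hgen.ge (Ideal.mem_span_singleton_self f))
  obtain ⟨a₀, ha₀, hfa⟩ := ha0
  have hmul : ∀ b : B, ∃ a ∈ I, algebraMap A B a = b * f := fun b =>
    hIB (Ideal.mul_mem_left _ b (hgen.ge (Ideal.mem_span_singleton_self f)))
  choose α hαI hα using hmul
  have hsq : ∀ a ∈ I, ∀ a' ∈ I, ∃ a'' ∈ I, a * a' = a'' * a₀ := by
    intro a ha a' ha'
    obtain ⟨β, hβ⟩ := Ideal.mem_span_singleton'.mp (hgen.le (Ideal.mem_map_of_mem _ ha))
    obtain ⟨β', hβ'⟩ := Ideal.mem_span_singleton'.mp (hgen.le (Ideal.mem_map_of_mem _ ha'))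
    refine ⟨α (β * β'), hαI _, hinj ?_⟩
    rw [map_mul, map_mul, hα, hfa, ← hβ, ← hβ']
    ring
  refine ⟨?_, fun Y g hg => ?_⟩
  · refine fun x => ⟨⟨⊤, isAffineOpen_top _⟩, trivial, ρB.inv f, ?_, ?_⟩
    · exact IdealSh.EffCartier.map_mem_nonZeroDivisors_of_flat ρB.inv.hom
        (RingHom.Flat.of_bijective (ConcreteCategory.bijective_of_isIso _)) hf
    · rw [key]
      have h2 : ρA.inv ≫ ι.appTop = CommRingCat.ofHom (algebraMap A B) ≫ ρB.inv := by
        rw [hιtop, Iso.inv_hom_id_assoc]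
      have h3 : ρA.inv ≫ ι.appTop ≫ (Spec (CommRingCat.of B)).presheaf.map
          (homOfLE (le_top : (⊤ : (Spec (CommRingCat.of B)).Opens) ≤ ⊤)).op =
          CommRingCat.ofHom (algebraMap A B) ≫ ρB.inv := by
        rw [← h2]; simp
      rw [h3, CommRingCat.hom_comp, ← Ideal.map_map, CommRingCat.hom_ofHom, hgen, Ideal.map_span,
        Set.image_singleton]
  · let γ : A →+* Γ(Y, ⊤) := (ρA.inv ≫ g.appTop).hom
    let t : Γ(Y, ⊤) := γ a₀
    let res : ∀ V : Y.Opens, Γ(Y, ⊤) →+* Γ(Y, V) :=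
      fun V => (Y.presheaf.map (homOfLE (le_top : V ≤ ⊤)).op).hom
    have hloc : ∀ y : Y, ∃ V : Y.affineOpens, y ∈ V.1 ∧
        res V.1 t ∈ nonZeroDivisors Γ(Y, V.1) ∧ ∀ b, ∃ s, res V.1 t * s = res V.1 (γ (α b)) := by
      intro y
      obtain ⟨V, hyV, -, e, he, hVe⟩ := IdealSh.EffCartier.exists_equation hg y ⊤ trivial
      rw [key] at hVe
      obtain ⟨h1, h2⟩ := local_gen ((res V.1).comp γ) ha₀ hsq he hVe
      exact ⟨V, hyV, h1, fun b => h2 _ (hαI b)⟩
    choose V hV htV s hs using hloc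
    have hgermt : ∀ y : Y, Y.presheaf.germ ⊤ y trivial t ∈ nonZeroDivisors (Y.presheaf.stalk y) := by
      intro y
      have h2 := IdealSh.Regular.germ_mem_nonZeroDivisors (V y).2 y (hV y) (htV y)
      rwa [show res (V y).1 t = Y.presheaf.map (homOfLE le_top).op t from rfl,
        TopCat.Presheaf.germ_res_apply] at h2
    have ht : ∀ {z z' : Γ(Y, ⊤)}, t * z = t * z' → z = z' := by
      intro z z' hz
      exact (mul_cancel_left_mem_nonZeroDivisors
        (IdealSh.Regular.mem_nonZeroDivisors_of_germ fun y _ => hgermt y)).mp hz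
    have hcov : (⊤ : Y.Opens) ≤ iSup fun y => (V y).1 :=
      fun y _ => TopologicalSpace.Opens.mem_iSup.mpr ⟨y, hV y⟩
    have hex : ∀ b : B, ∃ z : Γ(Y, ⊤), t * z = γ (α b) := by
      intro b
      have hcompat : TopCat.Presheaf.IsCompatible Y.sheaf.obj (fun y => (V y).1) (fun y => s y b) := by
        intro y y'
        refine TopCat.Presheaf.section_ext Y.sheaf _ _ _ fun z hz => ?_
        refine (mul_cancel_left_mem_nonZeroDivisors (hgermt z)).mp ?_
        erw [TopCat.Presheaf.germ_res_apply, TopCat.Presheaf.germ_res_apply]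
        have e1 := congrArg (Y.presheaf.germ (V y).1 z hz.1) (hs y b)
        have e2 := congrArg (Y.presheaf.germ (V y').1 z hz.2) (hs y' b)
        simp only [map_mul, res, TopCat.Presheaf.germ_res_apply] at e1 e2
        exact e1.trans e2.symm
      obtain ⟨z, hz, -⟩ := Y.sheaf.existsUnique_gluing' (fun y => (V y).1) ⊤
        (fun y => homOfLE le_top) hcov (fun y => s y b) hcompat
      obtain ⟨z', hz'⟩ : ∃ z' : Γ(Y, ⊤), ∀ y, res (V y).1 z' = s y b := ⟨z, hz⟩
      refine ⟨z', Y.sheaf.eq_of_locally_eq' (fun y => (V y).1) ⊤ (fun y => homOfLE le_top) hcov _ _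
        fun y => ?_⟩
      change res (V y).1 (t * z') = res (V y).1 (γ (α b))
      rw [map_mul, hz' y, hs]
    choose φ hφ using hex
    have hαdef : ∀ a ∈ I, ∀ b : B, algebraMap A B a = b * f → γ a = t * φ b := by
      intro a _ b hab
      rw [hφ, hinj ((hα b).trans hab.symm)]
    have hφhom : φ 1 = 1 ∧ φ 0 = 0 ∧ (∀ b b', φ (b + b') = φ b + φ b') ∧
        ∀ b b', φ (b * b') = φ b * φ b' := by
      refine ⟨ht ?_, ht ?_, fun b b' => ht ?_, fun b b' => ht (ht ?_)⟩
      · rw [mul_one]; exact (hαdef a₀ ha₀ 1 (by rw [hfa, one_mul])).symm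
      · rw [mul_zero, ← hαdef 0 I.zero_mem 0 (by simp), map_zero]
      · rw [hφ, mul_add, hφ, hφ, ← map_add]
        congr 1
        exact hinj (by rw [map_add, hα, hα, hα, add_mul])
      · have h2 : a₀ * α (b * b') = α b * α b' :=
          hinj (by rw [map_mul, map_mul, hα, hα, hα, hfa]; ring)
        calc t * (t * φ (b * b')) = γ a₀ * γ (α (b * b')) := by rw [hφ]
          _ = γ (α b) * γ (α b') := by rw [← map_mul, h2, map_mul]
          _ = _ := by rw [← hφ, ← hφ]; ring
    let φh : B →+* Γ(Y, ⊤) :=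
      { toFun := φ, map_one' := hφhom.1, map_zero' := hφhom.2.1, map_add' := hφhom.2.2.1,
        map_mul' := hφhom.2.2.2 }
    have hφA : ∀ a, φ (algebraMap A B a) = γ a := fun a => ht (by
      rw [← hαdef (a * a₀) (Ideal.mul_mem_left _ a ha₀) (algebraMap A B a)
        (by rw [map_mul, hfa]), map_mul, mul_comm])
    refine ⟨Y.toSpecΓ ≫ Spec.map (CommRingCat.ofHom φh), ?_, fun h hh => ?_⟩
    · refine ext_of_isAffine ?_
      rw [Scheme.Hom.comp_appTop, Scheme.Hom.comp_appTop, hιtop, Scheme.toSpecΓ_appTop]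
      have h4 : (Spec.map (CommRingCat.ofHom φh)).appTop =
          ρB.hom ≫ CommRingCat.ofHom φh ≫ (Scheme.ΓSpecIso Γ(Y, ⊤)).inv := by
        rw [← Iso.inv_comp_eq]; exact (Scheme.ΓSpecIso_inv_naturality _).symm
      rw [h4, ← cancel_epi ρA.inv]
      simp only [Category.assoc, Iso.inv_hom_id_assoc, Iso.inv_hom_id, Category.comp_id]
      exact CommRingCat.hom_ext (RingHom.ext hφA)
    · refine ext_of_isAffine ?_
      rw [Scheme.Hom.comp_appTop, Scheme.toSpecΓ_appTop]
      have h4 : (Spec.map (CommRingCat.ofHom φh)).appTop =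
          ρB.hom ≫ CommRingCat.ofHom φh ≫ (Scheme.ΓSpecIso Γ(Y, ⊤)).inv := by
        rw [← Iso.inv_comp_eq]; exact (Scheme.ΓSpecIso_inv_naturality _).symm
      rw [h4, ← cancel_epi ρB.inv]
      simp only [Category.assoc, Iso.inv_hom_id_assoc, Iso.inv_hom_id, Category.comp_id]
      refine CommRingCat.hom_ext (RingHom.ext fun b => ht ?_)
      have hg' : ∀ a, γ a = (ρB.inv ≫ h.appTop).hom (algebraMap A B a) := fun a => by
        change (ρA.inv ≫ g.appTop).hom a = _
        rw [← hh, Scheme.Hom.comp_appTop, hιtop]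
        simp
      change t * (ρB.inv ≫ h.appTop).hom b = t * φ b
      rw [hφ, hg', show t = γ a₀ from rfl, hg', ← map_mul, hfa, hα, mul_comm]

end Groth.Agent.S14090
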