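import Groth.Statements.S14092
import Groth.Agent.S16295
import Groth.Agent.EulerChar.Basic
import Groth.Agent.ProjTwist.Tensor
-- import your own Groth.Agent.* helpers here

set_option autoImplicit false
universe u
open CategoryTheory CategoryTheory.Limits AlgebraicGeometry TopologicalSpace
open Curv2

namespace Groth.Agent.S14092

/-- Fix an algebraically closed field k and a genus-0 nodal curve Z over k (connected, reduced, proper,
one-dimensional, at-worst-nodal singularities, h^1(O_Z) = 0) and L an invertible O_Z-module whose
pullback to every irreducible component (integral closed subscheme of dimension one) has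
non-negative degree. Then L is generated by global sections and H^1(Z, L) = 0. (The published
statement also includes converse and weaker implications — a section vanishing identically on no
component forces non-negative degrees, and global generation is equivalent to non-negative degrees;
only the two implications from non-negative degrees are asserted here.) -/
theorem result (k : Type u) [Field k] [IsAlgClosed k]
    (Z : Scheme.{u}) [Z.Over (Spec (CommRingCat.of k))] [IsProper (Z ↘ (Spec (CommRingCat.of k)))] [IsReduced Z]
    [ConnectedSpace Z] (hdim : topologicalKrullDim Z = 1) (hnod : Curv2.AtWorstNodal k Z)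
    (hg : Curv2.genus k Z = 0) (L : Z.Modules) (hL : PicF.IsInvertible L)
    (hdeg : ∀ C : Z.IdealSheafData, IsIntegral C.subscheme → topologicalKrullDim (C.support : Set Z) = 1 →
      0 ≤ @Curv2.deg k _ C.subscheme ⟨C.subschemeι ≫ (Z ↘ Spec (CommRingCat.of k))⟩
        ((Scheme.Modules.pullback C.subschemeι).obj L) 1) :
    Curv2.IsGloballyGenerated L ∧ Subsingleton (Coh.HH Z L 1) := by
  haveI := EulerChar.finite_HH k (Coh.structureModule Z) (VBLib.isCoh_of_ofRank
    (ProjTwist.isFinLocFreeOfRank_one (PicLoc.isInvertible_structureModule Z))) 1
  have hg' : Module.finrank k (Coh.HH Z (Coh.structureModule Z) 1) = 0 := hg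
  refine (Groth.Agent.S16295.result k Z hdim (Module.finrank_zero_iff.1 hg') L hL
    fun J hJ hJd => hdeg J hJ ?_).symm
  rw [← Scheme.IdealSheafData.range_subschemeι]
  exact (IsHomeomorph.topologicalKrullDim_eq _
    J.subschemeι.isClosedEmbedding.isEmbedding.toHomeomorph.isHomeomorph).symm.trans hJd

end Groth.Agent.S14092
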