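import Groth.Statements.S14097
import Mathlib.RingTheory.MvPolynomial.Symmetric.Defs
import Mathlib.Algebra.BigOperators.Intervals
import Mathlib.Tactic.LinearCombination
import Mathlib.Tactic.Ring
-- import your own Groth.Agent.* helpers here

set_option autoImplicit false
universe u
open ArSing

namespace Groth.Agent.S14097

section
variable {A : Type*} [CommRing A] (h : ℕ → A) (τ : A)

/-- `∏_{i<k} (h_i + τ)`. -/
def G (k : ℕ) : A := ∏ i ∈ Finset.range k, (h i + τ)

/-- The right-hand side, with `k + 1` variables, defined recursively. -/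
def E : ℕ → A
  | 0 => 1
  | k + 1 => G h τ (k + 1) + h (k + 1) * E k

theorem G_succ_eq : ∀ k, (∀ i, i ≤ k → h i ^ 2 + τ * h i = 0) → G h τ (k + 1) = E h τ k * (h k + τ)
  | 0, _ => by simp [G, E]
  | k + 1, hrel => by
    rw [G, Finset.prod_range_succ, ← G, E]
    linear_combination -(E h τ k) * hrel (k + 1) le_rfl

theorem E_eq_prod : ∀ k, (∀ i, i ≤ k → h i ^ 2 + τ * h i = 0) →
    E h τ k = ∏ i ∈ Finset.range k, (h i + h (i + 1) + τ)
  | 0, _ => by simp [E]
  | k + 1, hrel => by
    rw [Finset.prod_range_succ, ← E_eq_prod k fun i hi => hrel i (by omega), E,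
      G_succ_eq h τ k fun i hi => hrel i (by omega)]
    ring

theorem esymm_cons (a : A) (s : Multiset A) (n : ℕ) :
    (a ::ₘ s).esymm (n + 1) = s.esymm (n + 1) + a * s.esymm n := by
  simp only [Multiset.esymm, Multiset.powersetCard_cons, Multiset.map_add, Multiset.sum_add,
    Multiset.map_map, Function.comp_def, Multiset.prod_cons, Multiset.sum_map_mul_left]

/-- The elementary symmetric functions of the first `k` variables. -/
def e (k j : ℕ) : A := ((Finset.range k).val.map h).esymm j

theorem e_succ (k j : ℕ) : e h (k + 1) (j + 1) = e h k (j + 1) + h k * e h k j := by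
  rw [e, Finset.range_val, Multiset.range_succ, Multiset.map_cons, esymm_cons]
  rfl

theorem e_zero (k : ℕ) : e h k 0 = 1 := by simp [e, Multiset.esymm]

theorem e_top : ∀ k, e h k (k + 1) = 0
  | k => by
    rw [e, Multiset.esymm, Multiset.powersetCard_eq_empty]
    · simp
    · simp

theorem sum_G : ∀ k, ∑ j ∈ Finset.range (k + 1), τ ^ (k - j) * e h k j = G h τ k
  | 0 => by simp [G, e_zero]
  | k + 1 => by
    have h1 : ∑ j ∈ Finset.range (k + 1), τ ^ (k - j) * (h k * e h k j) = h k * G h τ k := by
      rw [← sum_G k, Finset.mul_sum]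
      exact Finset.sum_congr rfl fun j _ => by ring
    have h2 : (∑ j ∈ Finset.range (k + 1), τ ^ (k - j) * e h k (j + 1)) + τ ^ (k + 1) = τ * G h τ k := by
      rw [← sum_G k, Finset.mul_sum, Finset.sum_range_succ, e_top, mul_zero, add_zero,
        Finset.sum_range_succ' (fun j => τ * (τ ^ (k - j) * e h k j))]
      congr 1
      · refine Finset.sum_congr rfl fun j hj => ?_
        simp only [Finset.mem_range] at hj
        rw [show k - j = k - (j + 1) + 1 by omega, pow_succ]; ring
      · simp [e_zero, pow_succ, mul_comm]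
    have h3 : G h τ (k + 1) = G h τ k * (h k + τ) := Finset.prod_range_succ _ _
    rw [Finset.sum_range_succ', h3]
    simp only [Nat.succ_sub_succ, e_succ, e_zero, mul_add, Finset.sum_add_distrib, Nat.sub_zero]
    linear_combination h1 + h2

theorem sum_eq_E : ∀ l, ∑ j ∈ Finset.range (l + 1), τ ^ (l + 1 - 1 - j) * ((Finset.range (l + 1)).val.map h).esymm j = E h τ l
  | 0 => by simp [E, Multiset.esymm]
  | l + 1 => by
    show ∑ j ∈ Finset.range (l + 2), τ ^ (l + 1 - j) * e h (l + 2) j = _
    rw [E, ← sum_G h τ (l + 1), ← sum_eq_E l, Finset.mul_sum, Finset.sum_range_succ',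
      Finset.sum_range_succ' (fun j => τ ^ (l + 1 - j) * e h (l + 1) j) (l + 1)]
    simp only [Nat.add_sub_cancel, Nat.succ_sub_succ, e_succ, e_zero, mul_add, Finset.sum_add_distrib]
    rw [add_right_comm]
    congr 1
    exact Finset.sum_congr rfl fun j _ => by simp only [Nat.sub_zero]; rw [← e]; ring

end

/-- In any commutative ring, if h_0, …, h_(k-1) (k ≥ 2) and τ satisfy h_i^2 + τ h_i = 0, then ∏_(i ≤
k-2) (h_i + h_(i+1) + τ) = Σ_(j ≤ k-1) τ^(k-1-j) e_j(h), e_j the elementary symmetric functions.
(The published statement is the resulting formula for the class of the small diagonal in the Chow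
ring of (P^1)^k, where the h_i are the hyperplane classes of the factors and satisfy these
relations; only the ring identity is asserted here.) -/
theorem result (A : Type u) [CommRing A] (k : ℕ) (hk : 2 ≤ k) (τ : A)
    (h : ℕ → A) (hrel : ∀ i, i < k → h i ^ 2 + τ * h i = 0) :
    ∏ i ∈ Finset.range (k - 1), (h i + h (i + 1) + τ) =
      ∑ j ∈ Finset.range k, τ ^ (k - 1 - j) * (((Finset.range k).val.map h).esymm j) := by
  obtain ⟨l, rfl⟩ : ∃ l, k = l + 1 := ⟨k - 1, by omega⟩
  rw [sum_eq_E h τ l, Nat.add_sub_cancel]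
  exact (E_eq_prod h τ l fun i hi => hrel i (by omega)).symm

end Groth.Agent.S14097
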