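import Groth.Statements.S14098
import Groth.Agent.PinchLib.StdRinged
import Groth.Agent.PinchLib.BaseChange
import Groth.Agent.FlatMisc.PushoutCovers
import Groth.Agent.FlatMor.FlatLemmas

set_option autoImplicit false
universe u
open CategoryTheory AlgebraicGeometry
open FlatMor

namespace Groth.Agent.S14098

/-- The fibre product of flat algebras with one surjective leg is flat. -/
theorem flat_of_fib {R P B A C : CommRingCat.{u}} {pB : P ⟶ B} {pA : P ⟶ A} {fB : B ⟶ C} {fA : A ⟶ C}
    (h : Groth.Agent.PinchLib.IsFib pB pA fB fA) (sP : R ⟶ P)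
    (hB : (sP ≫ pB).hom.Flat) (hA : (sP ≫ pA).hom.Flat) (hC : (sP ≫ pB ≫ fB).hom.Flat) :
    sP.hom.Flat := by
  algebraize [sP.hom, (sP ≫ pB).hom, (sP ≫ pA).hom, (sP ≫ pB ≫ fB).hom]
  haveI := FlatMor.FlatLemmas.flat_prod (R := R) (M := B) (N := A)
  let lB : (P : Type u) →ₗ[R] B := { pB.hom with
    map_smul' := fun r x => by
      simp only [Algebra.smul_def, RingHom.id_apply]
      exact map_mul pB.hom _ _ }
  let lA : (P : Type u) →ₗ[R] A := { pA.hom with
    map_smul' := fun r x => by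
      simp only [Algebra.smul_def, RingHom.id_apply]
      exact map_mul pA.hom _ _ }
  let mB : (B : Type u) →ₗ[R] C := { fB.hom with
    map_smul' := fun r x => by
      simp only [Algebra.smul_def, RingHom.id_apply]
      exact map_mul fB.hom _ _ }
  let mA : (A : Type u) →ₗ[R] C := { fA.hom with
    map_smul' := fun r x => by
      simp only [Algebra.smul_def, RingHom.id_apply]
      exact (map_mul fA.hom _ _).trans (congrArg (· * _) (h.w_apply (sP r)).symm) }
  let d := mB.coprod (-mA)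
  have hd : Function.Surjective d := fun c => by
    obtain ⟨a, ha⟩ := h.surj (-c)
    exact ⟨(0, a), show fB 0 + -(fA a) = c by rw [map_zero, ha, zero_add, neg_neg]⟩
  haveI := FlatMor.FlatLemmas.flat_ker d hd
  let φ : (P : Type u) →ₗ[R] LinearMap.ker d := (lB.prod lA).codRestrict _ fun x =>
    show fB (pB x) + -(fA (pA x)) = 0 by rw [h.w_apply, add_neg_cancel]
  refine Module.Flat.of_linearEquiv (LinearEquiv.ofBijective φ ⟨fun x y hxy => ?_, fun z => ?_⟩)
  · have := congrArg Subtype.val hxy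
    exact h.inj x y (congrArg Prod.fst this) (congrArg Prod.snd this)
  · obtain ⟨⟨b, a⟩, hba⟩ := z
    obtain ⟨x, hx, hx'⟩ := h.glue b a (add_neg_eq_zero.mp hba)
    exact ⟨x, Subtype.ext (Prod.ext hx hx')⟩

/-- Let S be a scheme, i : Y → X a closed immersion and h : Y → Y' a finite flat surjective morphism,
everything over S with X and Y' flat over S, and let the square (i, h, q : X → P, j : Y' → P) be a
pushout of schemes with q affine, P carrying the induced morphism to S. Then P is flat over S and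
the pushout commutes with base change: for T → S, with P_T, X_T, Y'_T, Y_T the fibre products and
i_T, h_T, q_T, j_T the induced morphisms, the square (i_T, h_T, q_T, j_T) is a pushout of schemes.
(The published statement assumes Y → Y' only finite flat and asserts that the pushout exists in the
category of schemes; its proof uses that Y → Y' is surjective and that X → P is affine, P being
built affine-locally as the spectrum of the fibre product of rings O(Y') ×_O(Y) O(X). This row
assumes Y → Y' surjective, takes a pushout of schemes with X → P affine as given — then every fibre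
of Y → Y' lies in an affine open of X and P is that affine-local pushout — and asserts neither
existence nor the properness and finite presentation of P for X, Y' proper and finitely presented,
which the published lemma also states.) -/
theorem result
    {S X Y Y' P T XT YT Y'T PT : Scheme.{u}}
    (i : Y ⟶ X) [IsClosedImmersion i] (h : Y ⟶ Y') [IsFinite h] [Flat h] [Surjective h]
    (q : X ⟶ P) [IsAffineHom q] (j : Y' ⟶ P) (hP : IsPushout i h q j)
    (sP : P ⟶ S) [Flat (q ≫ sP)] [Flat (j ≫ sP)] (g : T ⟶ S)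
    (pP : PT ⟶ P) (sPT : PT ⟶ T) (hPT : IsPullback pP sPT sP g)
    (pX : XT ⟶ X) (qT : XT ⟶ PT) (hXT : IsPullback pX qT q pP)
    (pY' : Y'T ⟶ Y') (jT : Y'T ⟶ PT) (hY'T : IsPullback pY' jT j pP)
    (pY : YT ⟶ Y) (iT : YT ⟶ XT) (hYT : IsPullback pY iT i pX)
    (hT : YT ⟶ Y'T) (hhT₁ : hT ≫ pY' = pY ≫ h) (hhT₂ : hT ≫ jT = iT ≫ qT) :
    Flat sP ∧ IsPushout iT hT qT jT := by
  have hc : ∀ y : Y', ∃ (U : X.Opens) (V : Y'.Opens), IsAffineOpen U ∧ IsAffineOpen V ∧ y ∈ V ∧
      i ⁻¹ᵁ U = h ⁻¹ᵁ V := fun y => by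
    obtain ⟨W, hW, hyW, -⟩ := exists_isAffineOpen_mem_and_subset (U := (⊤ : P.Opens)) (x := j y) trivial
    refine FlatMisc.PushoutCovers.exists_cover_integral i h y (hW.preimage q) fun z hz => ?_
    show (i ≫ q) z ∈ W
    rw [hP.w, Scheme.Hom.comp_apply, show h z = y from hz]
    exact hyW
  obtain ⟨-, hj, -, -⟩ := PinchLib.StdPushout.props i h hc hP
  haveI := hj
  have hpo := PinchLib.StdRinged.isPushout_toSh hc hP
  haveI : Flat (i ≫ q ≫ sP) := by
    rw [← Category.assoc, hP.w, Category.assoc]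
    infer_instance
  refine ⟨(HasRingHomProperty.iff_appLE (P := @Flat)).mpr fun U V e => ?_, ?_⟩
  · have hA := V.2.preimage q
    have hB := V.2.preimage j
    have fib : PinchLib.IsFib (j.appLE V (j ⁻¹ᵁ V) le_rfl) (q.appLE V (q ⁻¹ᵁ V) le_rfl)
        (h.appLE (j ⁻¹ᵁ V) (i ⁻¹ᵁ q ⁻¹ᵁ V) (PinchLib.preimage_eq hpo V).le)
        (i.appLE (q ⁻¹ᵁ V) (i ⁻¹ᵁ q ⁻¹ᵁ V) le_rfl) := by
      letI := (j.appLE V (j ⁻¹ᵁ V) le_rfl).hom.toAlgebra
      letI := (q.appLE V (q ⁻¹ᵁ V) le_rfl).hom.toAlgebra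
      letI := (h.appLE (j ⁻¹ᵁ V) (i ⁻¹ᵁ q ⁻¹ᵁ V) (PinchLib.preimage_eq hpo V).le).hom.toAlgebra
      letI := (i.appLE (q ⁻¹ᵁ V) (i ⁻¹ᵁ q ⁻¹ᵁ V) le_rfl).hom.toAlgebra
      letI := ((i ≫ q).appLE V (i ⁻¹ᵁ q ⁻¹ᵁ V) le_rfl).hom.toAlgebra
      obtain ⟨_, _, h'⟩ := PinchLib.isFibreSquare hpo V hA
      exact PinchLib.IsFib.of_isFibreSquare h'
    refine flat_of_fib fib (sP.appLE U V e) ?_ ?_ ?_
    · rw [Scheme.Hom.appLE_comp_appLE]
      exact HasRingHomProperty.appLE @Flat (j ≫ sP) inferInstance U ⟨_, hB⟩ _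
    · rw [Scheme.Hom.appLE_comp_appLE]
      exact HasRingHomProperty.appLE @Flat (q ≫ sP) inferInstance U ⟨_, hA⟩ _
    · rw [Scheme.Hom.appLE_comp_appLE, Scheme.Hom.appLE_comp_appLE]
      exact HasRingHomProperty.appLE @Flat (h ≫ j ≫ sP) inferInstance U ⟨_, hA.preimage i⟩ _
  refine PinchLib.StdRinged.isPushout_of_toSh ?_
  refine PinchLib.isPushout_baseChange (fX := q ≫ sP) (fZ' := j ≫ sP) (fX' := sP)
    (by rw [← Category.assoc, ← hP.w, Category.assoc]) rfl rfl hpo
    (hXT.paste_vert hPT) ((hYT.paste_vert hXT).paste_vert hPT |> fun H => ?_) (hY'T.paste_vert hPT) hPT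
    (eZ := pY) (pZ := (iT ≫ qT) ≫ sPT) ?_ ?_ ?_ ?_ ?_ ?_ ?_ ?_
  · simpa [Category.assoc] using H
  · exact hYT.w.symm
  · exact (Category.assoc _ _ _).symm
  · exact hhT₁
  · exact (reassoc_of% hhT₂) sPT |>.trans (Category.assoc _ _ _).symm
  · exact hXT.w.symm
  · rfl
  · exact hY'T.w.symm
  · rfl

end Groth.Agent.S14098
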