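import Groth.Statements.S1410
import Groth.Agent.FlatMor.CechH1.SurjLocal

set_option autoImplicit false
universe u
open FlatMor

namespace Groth.Agent.S1410

open AlgebraicGeometry CategoryTheory Limits in
/-- Let f : X → Y be proper with every fibre of dimension at most 1 and with H^1(X_y, O) = 0 for all y,
and assume O_Y → f_* O_X is surjective (checked on affine opens). Then for every base change f' : X'
→ Y' of f, O_{Y'} → f'_* O_{X'} is surjective on every affine open of Y'. -/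
theorem result {X Y : Scheme.{u}} (f : X ⟶ Y) [IsProper f]
    (hdim : ∀ y : Y, topologicalKrullDim ↑(f.fiber y) ≤ 1) (hH1 : ∀ y : Y, Subsingleton (Coh.HH (f.fiber y) (Coh.structureModule (f.fiber y)) 1))
    (hsurj : ∀ U : Y.Opens, IsAffineOpen U → Function.Surjective (f.app U))
    {X' Y' : Scheme.{u}} (f' : X' ⟶ Y') (g' : X' ⟶ X) (g : Y' ⟶ Y) (hc : IsPullback g' f' f g) :
    ∀ U' : Y'.Opens, IsAffineOpen U' → Function.Surjective (f'.app U') := by
  classical
  intro U' hU'
  haveI : IsProper f' := MorphismProperty.of_isPullback hc inferInstance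
  let R := Γ(Y', U')
  intro z
  -- the ideal of denominators
  let J : Ideal R :=
    { carrier := {r | ∃ a, f'.app U' a = f'.app U' r * z}
      zero_mem' := ⟨0, by simp⟩
      add_mem' := fun {r s} ⟨a, ha⟩ ⟨b, hb⟩ => ⟨a + b, by rw [map_add, map_add, ha, hb, add_mul]⟩
      smul_mem' := fun c r ⟨a, ha⟩ => ⟨c * a, by rw [smul_eq_mul, map_mul, map_mul, ha, mul_assoc]⟩ }
  suffices hJ : J = ⊤ by
    obtain ⟨a, ha⟩ := hJ.ge (Submodule.mem_top : (1 : R) ∈ _)
    exact ⟨a, ha.trans (by rw [map_one, one_mul])⟩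
  by_contra hJ
  obtain ⟨M, hM, hJM⟩ := Ideal.exists_le_maximal J hJ
  let y' : Y' := hU'.fromSpec ⟨M, hM.isPrime⟩
  have hy' : y' ∈ U' := hU'.range_fromSpec.le ⟨_, rfl⟩
  obtain ⟨_, ⟨(V : Y.Opens), hV, rfl⟩, hyV, -⟩ :=
    Y.isBasis_affineOpens.exists_subset_of_mem_open (Set.mem_univ (g y')) isOpen_univ
  obtain ⟨r, hle, hyr⟩ := hU'.exists_basicOpen_le (V := g ⁻¹ᵁ V) ⟨y', hyV⟩ hy'
  let W := Y'.basicOpen r
  haveI : IsAffine V.toScheme := hV
  haveI : IsAffine W.toScheme := hU'.basicOpen r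
  have hrange : Set.range ((f' ⁻¹ᵁ W).ι ≫ g') ⊆ Set.range (f ⁻¹ᵁ V).ι := by
    rintro _ ⟨p, rfl⟩
    rw [Scheme.Opens.range_ι]
    show f (g' p.1) ∈ V
    rw [← Scheme.Hom.comp_apply, hc.w, Scheme.Hom.comp_apply]
    exact hle p.2
  let gV := g.resLE V W hle
  let g'V := IsOpenImmersion.lift (f ⁻¹ᵁ V).ι ((f' ⁻¹ᵁ W).ι ≫ g') hrange
  have hsq : IsPullback g'V (f' ∣_ W) (f ∣_ V) gV := by
    refine IsPullback.of_right ?_ ?_ (isPullback_morphismRestrict f V).flip
    · rw [IsOpenImmersion.lift_fac, Scheme.Hom.resLE_comp_ι]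
      exact (isPullback_morphismRestrict f' W).flip.paste_horiz hc
    · rw [← cancel_mono V.ι, Category.assoc, morphismRestrict_ι, IsOpenImmersion.lift_fac_assoc,
        Category.assoc, Category.assoc, Scheme.Hom.resLE_comp_ι, morphismRestrict_ι_assoc, hc.w]
  have hsW : Function.Surjective (f'.app W) :=
    (Groth.Agent.FlatMor.CechH1.surjective_app_iff f' W).mp
      (Groth.Agent.FlatMor.CechH1.surjective_appTop (f ∣_ V)
        (fun v => (Groth.Agent.VanQC.dim_fiber_restrict f V v).trans_le (hdim _))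
        (fun v => Groth.Agent.FlatMor.CechH1.subsingleton_HH_fiber_restrict f V v (hH1 _))
        ((Groth.Agent.FlatMor.CechH1.surjective_app_iff f V).mpr (hsurj V hV)) hsq)
  obtain ⟨b, hb⟩ := hsW (X'.presheaf.map (homOfLE (f'.preimage_mono (Y'.basicOpen_le r))).op z)
  haveI := hU'.isLocalization_basicOpen r
  obtain ⟨⟨a, ⟨_, n, rfl⟩⟩, hab⟩ := IsLocalization.surj (Submonoid.powers r) b
  -- `f' a` and `r ^ n * z` agree over the basic open
  have h1 : f'.app U' a |_ X'.basicOpen (f'.app U' r) = (f'.app U' (r ^ n) * z) |_ X'.basicOpen (f'.app U' r) := by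
    have hn : ∀ c : R, f'.app W (Y'.presheaf.map (homOfLE (Y'.basicOpen_le r)).op c) =
        X'.presheaf.map (homOfLE (f'.preimage_mono (Y'.basicOpen_le r))).op (f'.app U' c) := fun c =>
      congr($(f'.naturality (homOfLE (Y'.basicOpen_le r)).op) c)
    have h2 := congrArg (f'.app W).hom hab
    change f'.app W (b * Y'.presheaf.map (homOfLE (Y'.basicOpen_le r)).op (r ^ n)) =
      f'.app W (Y'.presheaf.map (homOfLE (Y'.basicOpen_le r)).op a) at h2
    rw [map_mul, hb, hn, hn, ← map_mul, mul_comm] at h2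
    have h3 := congrArg (X'.presheaf.map (homOfLE (X := X'.Opens)
      (show X'.basicOpen (f'.app U' r) ≤ f' ⁻¹ᵁ W from (Scheme.preimage_basicOpen f' r).ge)).op).hom h2
    simp only [TopCat.Presheaf.restrictOpen, TopCat.Presheaf.restrict]
    change (X'.presheaf.map _ ≫ X'.presheaf.map _) _ = (X'.presheaf.map _ ≫ X'.presheaf.map _) _ at h3
    rw [← Functor.map_comp] at h3
    exact h3.symm
  obtain ⟨m, hm⟩ := exists_of_res_eq_of_qcqs (f'.isCompact_preimage hU'.isCompact)
    (f'.isQuasiSeparated_preimage hU'.isQuasiSeparated) h1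
  have hmem : r ^ (m + n) ∈ J := ⟨r ^ m * a, by
    rw [map_mul, map_pow, hm, pow_add, map_mul, map_pow, map_pow, mul_assoc]⟩
  have hrM : r ∈ M := hM.isPrime.mem_of_pow_mem _ (hJM hmem)
  have : ⟨M, hM.isPrime⟩ ∈ hU'.fromSpec ⁻¹ᵁ W := hyr
  rw [IsAffineOpen.fromSpec_preimage_basicOpen] at this
  exact this hrM

end Groth.Agent.S1410
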