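import Groth.Statements.S14100
import Groth.Agent.DHA.TruncHom
import Mathlib.CategoryTheory.Triangulated.TStructure.TruncLTGE
import Mathlib.CategoryTheory.Triangulated.TStructure.TruncLEGT

set_option autoImplicit false
universe w v u
open DCoh

namespace Groth.Agent.S14100

open CategoryTheory CategoryTheory.Limits CategoryTheory.Pretriangulated DerivedCategory

variable {C : Type u} [Category.{v} C] [Abelian C] [HasDerivedCategory.{w} C]

lemma eq_zero_of_homologyMap {X Y : DerivedCategory C} (m : ℤ) [X.IsLE m] [Y.IsGE m] (f : X ⟶ Y)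
    (hf : (homologyFunctor C m).map f = 0) : f = 0 := by
  obtain ⟨K, hK, ⟨e⟩⟩ := X.exists_iso_Q_obj_of_isLE m
  obtain ⟨L, hL, ⟨e'⟩⟩ := Y.exists_iso_Q_obj_of_isGE m
  have h : e.inv ≫ f ≫ e'.hom = 0 := Groth.Agent.DHA.TruncHom.eq_zero m _ (by
    rw [Functor.map_comp, Functor.map_comp, hf, zero_comp, comp_zero])
  rwa [Preadditive.IsIso.comp_left_eq_zero, Preadditive.IsIso.comp_right_eq_zero] at h

lemma mono_truncLTι (X : DerivedCategory C) (m q : ℤ) (hq : q ≤ m) :
    Mono ((homologyFunctor C q).map ((TStructure.t.truncLTι m).app X)) := by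
  refine (HomologySequence.mono_homologyMap_mor₁_iff _ (TStructure.t.triangleLTGE_distinguished m X) (q - 1) q (by omega)).2 ?_
  exact IsZero.eq_of_src (isZero_of_isGE (hX := inferInstanceAs (TStructure.t.IsGE ((TStructure.t.truncGE m).obj X) m)) _ m (q - 1) (by omega)) _ _

theorem ghost (a : ℤ) : ∀ (n : ℕ) (K : ℕ ⥤ DerivedCategory C)
    (_ : ∀ i : ℕ, i ≤ n + 1 → (K.obj i).IsGE a)
    (_ : ∀ i : ℕ, i ≤ n + 1 → (K.obj i).IsLE (a + n))
    (_ : ∀ i : ℕ, i ≤ n → ∀ q : ℤ, (homologyFunctor C q).map (K.map (homOfLE (Nat.le_succ i))) = 0),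
    K.map (homOfLE (Nat.zero_le (n + 1))) = 0 := by
  intro n
  induction n with
  | zero =>
    intro K hGE hLE hzero
    have : (K.obj 0).IsLE a := by simpa using hLE 0 (by omega)
    have := hGE 1 le_rfl
    exact eq_zero_of_homologyMap a _ (hzero 0 le_rfl a)
  | succ n ih =>
    intro K hGE hLE hzero
    let m : ℤ := a + ((n + 1 : ℕ) : ℤ)
    have hm : m = a + ((n + 1 : ℕ) : ℤ) := rfl
    let T := TStructure.t (C := C)
    let S : ℕ ⥤ ℕ := Monotone.functor (f := fun i => i + 1) fun i j h => Nat.add_le_add_right h 1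
    let K' : ℕ ⥤ DerivedCategory C := S ⋙ K ⋙ T.truncLT m
    have hK' : K'.map (homOfLE (Nat.zero_le (n + 1))) = 0 := by
      refine ih K' (fun i hi => ?_) (fun i hi => ?_) (fun i hi q => ?_)
      · have := hGE (i + 1) (by omega)
        exact inferInstanceAs (T.IsGE ((T.truncLT m).obj (K.obj (i + 1))) a)
      · exact T.isLE_truncLT_obj _ m (a + n) (by omega)
      · by_cases hq : q ≤ m - 1
        · have := mono_truncLTι (K.obj (i + 1 + 1)) m q (by omega)
          refine @zero_of_comp_mono _ _ _ _ _ _ _ ((homologyFunctor C q).map ((T.truncLTι m).app (K.obj (i + 1 + 1)))) (mono_truncLTι (K.obj (i + 1 + 1)) m q (by omega)) ?_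
          refine ((homologyFunctor C q).map_comp _ _).symm.trans ?_
          have hn := (T.truncLTι m).naturality (K.map (homOfLE (Nat.le_succ (i + 1))))
          refine (congrArg ((homologyFunctor C q).map ·) hn).trans (((homologyFunctor C q).map_comp _ _).trans ?_)
          exact (congrArg (_ ≫ ·) (hzero (i + 1) (by omega) q)).trans comp_zero
        · have : T.IsLE (K'.obj i) (m - 1) := inferInstanceAs (T.IsLE ((T.truncLT m).obj (K.obj (i + 1))) (m - 1))
          exact (isZero_of_isLE (K'.obj i) (m - 1) q (by omega)).eq_of_src _ _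
    have h0 : K.map (homOfLE (Nat.le_succ 0)) ≫ (T.truncGEπ m).app (K.obj 1) = 0 := by
      have : (K.obj 0).IsLE m := hLE 0 (by omega)
      have : DerivedCategory.IsGE ((T.truncGE m).obj (K.obj 1)) m := inferInstanceAs (T.IsGE ((T.truncGE m).obj (K.obj 1)) m)
      refine eq_zero_of_homologyMap m _ ?_
      exact ((homologyFunctor C m).map_comp _ _).trans ((congrArg (· ≫ _) (hzero 0 (by omega) m)).trans zero_comp)
    obtain ⟨g, hg⟩ := Triangle.coyoneda_exact₂ _ (T.triangleLTGE_distinguished m (K.obj 1)) _ h0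
    have hcomp : K.map (homOfLE (Nat.zero_le (n + 1 + 1))) =
        K.map (homOfLE (Nat.le_succ 0)) ≫ K.map (homOfLE (by omega : 1 ≤ n + 1 + 1)) := by
      rw [← K.map_comp]
      rfl
    rw [hcomp, hg]
    refine (Category.assoc _ _ _).trans ?_
    have hn := (T.truncLTι m).naturality (K.map (homOfLE (by omega : 1 ≤ n + 1 + 1)))
    refine (congrArg (g ≫ ·) hn.symm).trans ?_
    show g ≫ K'.map (homOfLE (Nat.zero_le (n + 1))) ≫ (T.truncLTι m).app (K.obj (n + 1 + 1)) = 0
    rw [hK']
    exact (congrArg (g ≫ ·) zero_comp).trans comp_zero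


open CategoryTheory in
/-- Let C be an abelian category, a an integer and n a natural number, and let K_0 → K_1 → ⋯ → K_{n+1}
be composable morphisms in the derived category of C such that each K_i has cohomology concentrated
in degrees a, …, a+n and each map K_i → K_{i+1} induces zero on every cohomology object. Then the
composite K_0 → K_{n+1} is zero. (The chain is given as a functor from the ordered set of natural
numbers; only its values on 0, …, n+1 matter.) -/
theorem result
    (C : Type u) [Category.{v} C] [Abelian C] [HasDerivedCategory.{w} C]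
    (a : ℤ) (n : ℕ) (K : ℕ ⥤ DerivedCategory C)
    (hGE : ∀ i : ℕ, i ≤ n + 1 → (K.obj i).IsGE a)
    (hLE : ∀ i : ℕ, i ≤ n + 1 → (K.obj i).IsLE (a + n))
    (hzero : ∀ i : ℕ, i ≤ n → ∀ q : ℤ,
      (DerivedCategory.homologyFunctor C q).map (K.map (homOfLE (Nat.le_succ i))) = 0) :
    K.map (homOfLE (Nat.zero_le (n + 1))) = 0 := by
  exact ghost a n K hGE hLE hzero

end Groth.Agent.S14100
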