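import Groth.Statements.S14101
import Mathlib
-- import your own Groth.Agent.* helpers here

set_option autoImplicit false
universe u
open CAlg

namespace Groth.Agent.S14101

set_option maxHeartbeats 800000
open Polynomial in
theorem core {ι : Type*} (B : Type*) [CommRing B] [IsDomain B] [CharZero B]
    [Algebra (MvPolynomial ι ℤ) B] [FaithfulSMul (MvPolynomial ι ℤ) B]
    [halg : Algebra.IsAlgebraic (MvPolynomial ι ℤ) B] (s : Finset B) (hs : Algebra.adjoin ℤ (s : Set B) = ⊤)
    (K L : Type*) [Field K] [Field L] [Algebra (MvPolynomial ι ℤ) K] [IsFractionRing (MvPolynomial ι ℤ) K]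
    [Algebra B L] [IsFractionRing B L] [Algebra (MvPolynomial ι ℤ) L] [Algebra K L]
    [IsScalarTower (MvPolynomial ι ℤ) B L] [IsScalarTower (MvPolynomial ι ℤ) K L] :
    ∃ h : B, h ≠ 0 ∧ ∃ S : Finset ℕ, ∀ p : ℕ, p.Prime → p ∉ S →
      ∀ b : B, (p : B) ∣ b ^ 2 → ∃ j : ℕ, (p : B) ∣ h ^ j * b := by
  classical
  let R := MvPolynomial ι ℤ
  have hψ : Function.Injective (algebraMap R B) := FaithfulSMul.algebraMap_injective R B
  have hRL : Function.Injective (algebraMap R L) := by
    rw [IsScalarTower.algebraMap_eq R B L]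
    exact (IsFractionRing.injective B L).comp hψ
  have : CharZero L := charZero_of_injective_algebraMap (IsFractionRing.injective B L)
  have : FaithfulSMul R L := (faithfulSMul_iff_algebraMap_injective R L).2 hRL
  have hden : ∀ x : L, ∃ d : R, d ≠ 0 ∧ ∃ b : B, d • x = algebraMap B L b := by
    intro x
    obtain ⟨b1, b2, hb2, rfl⟩ := IsFractionRing.div_surjective (A := B) x
    have hb2' : b2 ≠ 0 := nonZeroDivisors.ne_zero hb2
    obtain ⟨d, hd, c, hc⟩ := (halg.isAlgebraic b2).exists_nonzero_dvd (mem_nonZeroDivisors_of_ne_zero hb2')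
    refine ⟨d, hd, b1 * c, ?_⟩
    rw [Algebra.smul_def, IsScalarTower.algebraMap_apply R B L, hc, map_mul, map_mul]
    have : algebraMap B L b2 ≠ 0 := (map_ne_zero_iff _ (IsFractionRing.injective B L)).2 hb2'
    field_simp
  have halgK : ∀ x : L, IsAlgebraic K x := by
    intro x
    obtain ⟨b1, b2, hb2, rfl⟩ := IsFractionRing.div_surjective (A := B) x
    have : ∀ b : B, IsAlgebraic K (algebraMap B L b) := fun b ↦
      (IsFractionRing.isAlgebraic_iff R K L).1 ((halg.isAlgebraic b).algebraMap)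
    rw [div_eq_mul_inv]
    exact (this b1).mul (this b2).inv
  have : FiniteDimensional K L := by
    have htop : IntermediateField.adjoin K ((algebraMap B L) '' (s : Set B)) = ⊤ := by
      rw [eq_top_iff]
      intro x _
      have hB : ∀ b : B, algebraMap B L b ∈ IntermediateField.adjoin K ((algebraMap B L) '' (s : Set B)) := by
        intro b
        have hb : b ∈ Algebra.adjoin ℤ (s : Set B) := by rw [hs]; trivial
        induction hb using Algebra.adjoin_induction with
        | mem y hy => exact IntermediateField.subset_adjoin K _ ⟨y, hy, rfl⟩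
        | algebraMap r => simp only [eq_intCast, map_intCast]; exact intCast_mem _ r
        | add y z _ _ iy iz => rw [map_add]; exact add_mem iy iz
        | mul y z _ _ iy iz => rw [map_mul]; exact mul_mem iy iz
      obtain ⟨b1, b2, -, rfl⟩ := IsFractionRing.div_surjective (A := B) x
      exact div_mem (hB b1) (hB b2)
    have : FiniteDimensional K (IntermediateField.adjoin K ((algebraMap B L) '' (s : Set B))) := by
      have : Finite ((algebraMap B L) '' (s : Set B)) := (s.finite_toSet.image _).to_subtype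
      exact IntermediateField.finiteDimensional_adjoin fun x _ ↦ (halgK x).isIntegral
    rw [htop] at this
    exact Module.Finite.equiv (IntermediateField.topEquiv (F := K) (E := L)).toLinearEquiv
  have : Algebra.IsAlgebraic K L := ⟨halgK⟩
  have : CharZero K := charZero_of_injective_algebraMap (IsFractionRing.injective R K)
  obtain ⟨θ0, hθ0⟩ := Field.exists_primitive_element K L
  obtain ⟨d0, hd0, hint⟩ := ((IsFractionRing.isAlgebraic_iff R K L).2 (halgK θ0)).exists_integral_multiple
  let θ : L := d0 • θ0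
  have hθK : IsIntegral K θ := (halgK θ).isIntegral
  let g := minpoly R θ
  have hgmonic : g.Monic := minpoly.monic hint
  have hgK : minpoly K θ = g.map (algebraMap R K) := minpoly.isIntegrallyClosed_eq_field_fractions' K hint
  let φ : R[X] →ₐ[R] L := Polynomial.aeval θ
  have hker : ∀ q : R[X], φ q = 0 → g ∣ q := fun q hq ↦
    minpoly.isIntegrallyClosed_dvd hint hq
  have hq : ∀ x : L, ∃ d : R, d ≠ 0 ∧ ∃ q : R[X], d • x = φ q := by
    intro x
    have hθ : Algebra.adjoin K {θ} = ⊤ := by
      rw [← IntermediateField.adjoin_simple_toSubalgebra_of_isAlgebraic hθK.isAlgebraic]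
      have : IntermediateField.adjoin K {θ} = ⊤ := by
        rw [eq_top_iff, ← hθ0, IntermediateField.adjoin_simple_le_iff]
        have h1 : θ ∈ IntermediateField.adjoin K {θ} := IntermediateField.mem_adjoin_simple_self K θ
        have hd0' : algebraMap R L d0 ≠ 0 := (map_ne_zero_iff _ hRL).2 hd0
        have : θ0 = θ / algebraMap R L d0 := by
          simp only [θ, Algebra.smul_def]; field_simp
        rw [this]
        refine div_mem h1 ?_
        rw [IsScalarTower.algebraMap_apply R K L]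
        exact IntermediateField.algebraMap_mem _ _
      rw [this, IntermediateField.top_toSubalgebra]
    have hx : x ∈ Algebra.adjoin K {θ} := hθ ▸ Algebra.mem_top
    rw [Algebra.adjoin_singleton_eq_range_aeval] at hx
    obtain ⟨q', rfl⟩ := hx
    obtain ⟨d, hd, hq⟩ := IsLocalization.integerNormalization_spec (nonZeroDivisors R) q'
    refine ⟨d, nonZeroDivisors.ne_zero hd, IsLocalization.integerNormalization (nonZeroDivisors R) q', ?_⟩
    have := congrArg (Polynomial.aeval θ) hq
    rw [Polynomial.aeval_map_algebraMap] at this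
    show _ = Polynomial.aeval θ _
    rw [this]
    simp [Algebra.smul_def, Polynomial.aeval_C, IsScalarTower.algebraMap_apply R K L]
  obtain ⟨D1, hD1, a, b, hab⟩ : ∃ D1 : R, D1 ≠ 0 ∧ ∃ a b : R[X], a * g + b * derivative g = C D1 := by
    have hsep : (minpoly K θ).Separable := Algebra.IsSeparable.isSeparable K θ
    obtain ⟨a', b', h⟩ := hsep
    obtain ⟨da, hda, ha⟩ := IsLocalization.integerNormalization_spec (nonZeroDivisors R) a'
    obtain ⟨db, hdb, hb⟩ := IsLocalization.integerNormalization_spec (nonZeroDivisors R) b'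
    refine ⟨da * db, mul_ne_zero (nonZeroDivisors.ne_zero hda) (nonZeroDivisors.ne_zero hdb),
      C db * IsLocalization.integerNormalization (nonZeroDivisors R) a',
      C da * IsLocalization.integerNormalization (nonZeroDivisors R) b', ?_⟩
    apply Polynomial.map_injective (algebraMap R K) (IsFractionRing.injective R K)
    simp only [Polynomial.map_add, Polynomial.map_mul, Polynomial.map_C, ha, hb, map_mul,
      ← Polynomial.derivative_map, ← hgK, Algebra.smul_def, Polynomial.algebraMap_apply]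
    linear_combination (C (algebraMap R K da) * C (algebraMap R K db)) * h
  choose dq hdq qq hqq using hq
  obtain ⟨e, he, bθ, hbθ⟩ := hden θ
  let D : R := D1 * e * ∏ x ∈ s, dq (algebraMap B L x)
  have hD : D ≠ 0 := mul_ne_zero (mul_ne_zero hD1 he) (Finset.prod_ne_zero_iff.2 fun x _ ↦ hdq _)
  obtain ⟨m, hm⟩ := MvPolynomial.ne_zero_iff.1 hD
  refine ⟨algebraMap R B D, (map_ne_zero_iff _ hψ).2 hD, (MvPolynomial.coeff m D).natAbs.primeFactors, ?_⟩
  intro p hp hpS x hx
  haveI : Fact p.Prime := ⟨hp⟩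
  let π : R →+* MvPolynomial ι (ZMod p) := MvPolynomial.map (Int.castRingHom (ZMod p))
  have hπdvd : ∀ r : R, π r = 0 → (p : R) ∣ r := by
    intro r hr
    have hc : MvPolynomial.C (p : ℤ) ∣ r := by
      rw [MvPolynomial.C_dvd_iff_dvd_coeff]
      intro i
      have := congrArg (MvPolynomial.coeff i) hr
      rw [MvPolynomial.coeff_map, MvPolynomial.coeff_zero] at this
      exact (ZMod.intCast_zmod_eq_zero_iff_dvd _ p).1 this
    simpa using hc
  have hπD : π D ≠ 0 := by
    intro h
    have h := congrArg (MvPolynomial.coeff m) h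
    rw [MvPolynomial.coeff_map, MvPolynomial.coeff_zero] at h
    have := (ZMod.intCast_zmod_eq_zero_iff_dvd _ p).1 h
    exact hpS (Nat.mem_primeFactors.2 ⟨hp, Int.natCast_dvd.1 this, by simpa using hm⟩)
  let π' := (algebraMap (MvPolynomial ι (ZMod p)) (FractionRing (MvPolynomial ι (ZMod p)))).comp π
  have hπ'D1 : π' D1 ≠ 0 := by
    show algebraMap _ _ (π D1) ≠ 0
    rw [map_ne_zero_iff _ (IsFractionRing.injective _ _)]
    intro h; apply hπD; simp [D, h]
  have hgsep : (g.map π').Separable := by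
    refine ⟨Polynomial.C (π' D1)⁻¹ * a.map π', Polynomial.C (π' D1)⁻¹ * b.map π', ?_⟩
    rw [Polynomial.derivative_map, mul_assoc, mul_assoc, ← mul_add, ← Polynomial.map_mul,
      ← Polynomial.map_mul, ← Polynomial.map_add, hab, Polynomial.map_C, ← map_mul, inv_mul_cancel₀ hπ'D1, map_one]
  have hrad : ∀ q r u : R[X], q ^ 2 = (p : R[X]) * r + g * u → ∃ r' u', q = (p : R[X]) * r' + g * u' := by
    intro q r u h
    have h2 : g.map π' ∣ (q.map π') ^ 2 := by
      have hp0 : π' (p : R) = 0 := by simp [π', π]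
      refine ⟨u.map π', ?_⟩
      rw [← Polynomial.map_pow, h]
      have hp0' : ((p : R[X])).map π' = 0 := by
        rw [← Polynomial.C_eq_natCast, Polynomial.map_C, hp0, map_zero]
      rw [Polynomial.map_add, Polynomial.map_mul, Polynomial.map_mul, hp0', zero_mul, zero_add]
    have h3 : g.map π' ∣ q.map π' := hgsep.squarefree.isRadical 2 _ h2
    have h4 : (q %ₘ g).map π' = 0 := by
      refine Polynomial.eq_zero_of_dvd_of_degree_lt (p := g.map π') ?_ ?_
      · rw [Polynomial.modByMonic_eq_sub_mul_div, Polynomial.map_sub, Polynomial.map_mul]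
        exact dvd_sub h3 (dvd_mul_right _ _)
      · calc ((q %ₘ g).map π').degree ≤ (q %ₘ g).degree := Polynomial.degree_map_le
          _ < g.degree := Polynomial.degree_modByMonic_lt _ hgmonic
          _ = (g.map π').degree := (hgmonic.degree_map π').symm
    have h5 : Polynomial.C (p : R) ∣ q %ₘ g := by
      rw [Polynomial.C_dvd_iff_dvd_coeff]
      intro i
      refine hπdvd _ ?_
      have := congrArg (fun P : Polynomial _ ↦ P.coeff i) h4
      simp only [Polynomial.coeff_map, Polynomial.coeff_zero, π', RingHom.comp_apply] at this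
      exact (map_eq_zero_iff _ (IsFractionRing.injective _ _)).1 this
    obtain ⟨w, hw⟩ := h5
    refine ⟨w, q /ₘ g, ?_⟩
    rw [← Polynomial.C_eq_natCast, ← hw, Polynomial.modByMonic_add_div q g]
  have hclear : ∀ y : B, ∃ j : ℕ, ∃ q : R[X], D ^ j • algebraMap B L y = φ q := by
    intro y
    have hy : y ∈ Algebra.adjoin ℤ (s : Set B) := by rw [hs]; trivial
    induction hy using Algebra.adjoin_induction with
    | mem y hy =>
      obtain ⟨c, hc⟩ : dq (algebraMap B L y) ∣ D :=
        dvd_mul_of_dvd_right (Finset.dvd_prod_of_mem (fun x ↦ dq (algebraMap B L x)) hy) _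
      refine ⟨1, Polynomial.C c * qq (algebraMap B L y), ?_⟩
      rw [map_mul, ← hqq, pow_one]
      conv_lhs => rw [hc, mul_comm, mul_smul, Algebra.smul_def]
      simp [φ, IsScalarTower.algebraMap_apply R K L]
    | algebraMap r => exact ⟨0, (r : R[X]), by simp [φ]⟩
    | add y z _ _ iy iz =>
      obtain ⟨i, q, hq⟩ := iy; obtain ⟨j, r, hr⟩ := iz
      refine ⟨i + j, Polynomial.C (D ^ j) * q + Polynomial.C (D ^ i) * r, ?_⟩
      rw [map_add, smul_add, map_add, map_mul, map_mul, ← hq, ← hr]
      simp only [φ, Polynomial.aeval_C, Algebra.smul_def, map_pow]; ring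
    | mul y z _ _ iy iz =>
      obtain ⟨i, q, hq⟩ := iy; obtain ⟨j, r, hr⟩ := iz
      refine ⟨i + j, q * r, ?_⟩
      rw [map_mul, map_mul, ← hq, ← hr]
      simp only [Algebra.smul_def, map_pow]; ring
  have hback : ∀ q : R[X], ∃ j : ℕ, ∃ y : B, D ^ j • φ q = algebraMap B L y := by
    intro q
    induction q using Polynomial.induction_on with
    | C c => exact ⟨0, algebraMap R B c, by simp [φ, ← IsScalarTower.algebraMap_apply]⟩
    | add q r iq ir =>
      obtain ⟨i, y, hy⟩ := iq; obtain ⟨j, z, hz⟩ := ir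
      refine ⟨i + j, algebraMap R B (D ^ j) * y + algebraMap R B (D ^ i) * z, ?_⟩
      rw [map_add (algebraMap B L), map_mul, map_mul, ← hy, ← hz, map_add φ, smul_add]
      simp only [← IsScalarTower.algebraMap_apply, Algebra.smul_def, map_pow]; ring
    | monomial n c ih =>
      obtain ⟨i, y, hy⟩ := ih
      obtain ⟨c', hc'⟩ : e ∣ D := dvd_mul_of_dvd_left (dvd_mul_left e D1) _
      refine ⟨i + 1, y * (algebraMap R B c' * bθ), ?_⟩
      rw [map_mul (algebraMap B L), map_mul (algebraMap B L), ← hy, ← hbθ, ← IsScalarTower.algebraMap_apply]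
      simp only [φ, map_mul, Polynomial.aeval_C, Polynomial.aeval_X, map_pow, pow_succ, Algebra.smul_def, hc']
      ring
  obtain ⟨y, hy⟩ := hx
  obtain ⟨i, q, hq⟩ := hclear x
  obtain ⟨k, r, hr⟩ := hclear y
  have h0 : φ ((Polynomial.C (D ^ k) * q) ^ 2 - (p : R[X]) * (Polynomial.C (D ^ (k + 2 * i)) * r)) = 0 := by
    have h2 : algebraMap B L x ^ 2 = (p : L) * algebraMap B L y := by rw [← map_pow, hy]; simp
    simp only [map_sub, map_mul, map_pow, map_natCast, ← hq, ← hr, Algebra.smul_def]
    simp only [φ, Polynomial.aeval_C]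
    linear_combination ((algebraMap R L D ^ k) ^ 2 * (algebraMap R L D ^ i) ^ 2) * h2
  obtain ⟨u, hu⟩ := hker _ h0
  obtain ⟨r', u', hr'⟩ := hrad _ _ u (sub_eq_iff_eq_add'.1 hu)
  obtain ⟨l, z, hz⟩ := hback r'
  refine ⟨l + k + i, z, IsFractionRing.injective B L ?_⟩
  have hg0 : φ g = 0 := minpoly.aeval R θ
  have := congrArg φ hr'
  simp only [map_add, map_mul, hg0, zero_mul, add_zero, map_natCast, ← hq, map_pow] at this
  simp only [map_mul, map_natCast, map_pow, ← IsScalarTower.algebraMap_apply, ← hz, Algebra.smul_def] at this ⊢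
  simp only [φ, Polynomial.aeval_C] at this ⊢
  linear_combination (algebraMap R L D ^ l) * this

theorem step' {ι : Type*} (B : Type*) [CommRing B] [IsDomain B] [CharZero B]
    [Algebra (MvPolynomial ι ℤ) B] [FaithfulSMul (MvPolynomial ι ℤ) B]
    [Algebra.IsAlgebraic (MvPolynomial ι ℤ) B] (s : Finset B) (hs : Algebra.adjoin ℤ (s : Set B) = ⊤)
    (K L : Type*) [Field K] [Field L] [Algebra (MvPolynomial ι ℤ) K] [IsFractionRing (MvPolynomial ι ℤ) K]
    [Algebra B L] [IsFractionRing B L] [Algebra (MvPolynomial ι ℤ) L]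
    [IsScalarTower (MvPolynomial ι ℤ) B L] :
    ∃ h : B, h ≠ 0 ∧ ∃ S : Finset ℕ, ∀ p : ℕ, p.Prime → p ∉ S →
      ∀ b : B, (p : B) ∣ b ^ 2 → ∃ j : ℕ, (p : B) ∣ h ^ j * b := by
  have hRL : Function.Injective (algebraMap (MvPolynomial ι ℤ) L) := by
    rw [IsScalarTower.algebraMap_eq (MvPolynomial ι ℤ) B L]
    exact (IsFractionRing.injective B L).comp (FaithfulSMul.algebraMap_injective _ B)
  letI : Algebra K L := (IsFractionRing.lift (K := K) hRL).toAlgebra
  have : IsScalarTower (MvPolynomial ι ℤ) K L := IsScalarTower.of_algebraMap_eq fun x ↦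
    (IsFractionRing.lift_algebraMap (K := K) hRL x).symm
  exact core (ι := ι) B s hs K L

theorem step {ι : Type*} (B : Type*) [CommRing B] [IsDomain B] [CharZero B]
    [Algebra (MvPolynomial ι ℤ) B] [FaithfulSMul (MvPolynomial ι ℤ) B]
    [Algebra.IsAlgebraic (MvPolynomial ι ℤ) B] (s : Finset B) (hs : Algebra.adjoin ℤ (s : Set B) = ⊤) :
    ∃ h : B, h ≠ 0 ∧ ∃ S : Finset ℕ, ∀ p : ℕ, p.Prime → p ∉ S →
      ∀ b : B, (p : B) ∣ b ^ 2 → ∃ j : ℕ, (p : B) ∣ h ^ j * b :=
  step' (ι := ι) B s hs (FractionRing (MvPolynomial ι ℤ)) (FractionRing B)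

open Polynomial in
theorem domain_case (B : Type*) [CommRing B] [IsDomain B] [CharZero B] [Algebra.FiniteType ℤ B] :
    ∃ h : B, h ≠ 0 ∧ ∃ S : Finset ℕ, ∀ p : ℕ, p.Prime → p ∉ S →
      ∀ b : B, (p : B) ∣ b ^ 2 → ∃ j : ℕ, (p : B) ∣ h ^ j * b := by
  classical
  obtain ⟨s, hs⟩ := (inferInstance : Algebra.FiniteType ℤ B).out
  have hne : (s.powerset.filter fun t : Finset B ↦ AlgebraicIndepOn ℤ (id : B → B) (↑t : Set B)).Nonempty := by
    refine ⟨∅, Finset.mem_filter.2 ⟨Finset.empty_mem_powerset _, ?_⟩⟩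
    rw [Finset.coe_empty]
    exact (algebraicIndependent_empty_type_iff).2 (algebraMap ℤ B).injective_int
  obtain ⟨t, ht, hmax⟩ := Finset.exists_max_image _ Finset.card hne
  rw [Finset.mem_filter, Finset.mem_powerset] at ht
  obtain ⟨hts, hind⟩ := ht
  have hind' : AlgebraicIndependent ℤ ((↑) : t → B) := hind
  let R := MvPolynomial t ℤ
  let ψ : R →ₐ[ℤ] B := MvPolynomial.aeval ((↑) : t → B)
  letI : Algebra R B := ψ.toRingHom.toAlgebra
  have hψ : Function.Injective (algebraMap R B) := hind'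
  have : FaithfulSMul R B := (faithfulSMul_iff_algebraMap_injective R B).2 hψ
  have halg : Algebra.IsAlgebraic R B := by
    have hs' : ∀ x ∈ s, IsAlgebraic R x := by
      intro x hx
      by_cases hxt : x ∈ t
      · have h := isAlgebraic_algebraMap (R := R) (A := B) (MvPolynomial.X ⟨x, hxt⟩)
        have h' : algebraMap R B (MvPolynomial.X ⟨x, hxt⟩) = x := MvPolynomial.aeval_X _ _
        rwa [h'] at h
      · by_contra hx'
        have h1 : AlgebraicIndepOn ℤ (id : B → B) (↑(insert x t) : Set B) := by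
          rw [Finset.coe_insert, AlgebraicIndepOn.insert_iff (by simpa using hxt)]
          refine ⟨hind, ?_⟩
          intro hal
          apply hx'
          have heq : Algebra.adjoin ℤ ((id : B → B) '' (t : Set B)) = ψ.range := by
            rw [Set.image_id, ← Algebra.adjoin_range_eq_range_aeval]; congr 1; ext; simp
          obtain ⟨P, hP0, hP⟩ := hal
          let e := AlgEquiv.ofInjective ψ hψ
          refine ⟨P.map ((e.symm.toAlgHom.comp (Subalgebra.equivOfEq _ _ heq).toAlgHom).toRingHom), ?_, ?_⟩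
          · exact (Polynomial.map_ne_zero_iff (e.symm.injective.comp (Subalgebra.equivOfEq _ _ heq).injective)).2 hP0
          · rw [Polynomial.aeval_def, Polynomial.eval₂_map]
            rw [Polynomial.aeval_def] at hP
            have hc : (algebraMap R B).comp (e.symm.toAlgHom.comp (Subalgebra.equivOfEq _ _ heq).toAlgHom).toRingHom
                = algebraMap (Algebra.adjoin ℤ ((id : B → B) '' (t : Set B))) B := by
              refine RingHom.ext fun y ↦ ?_
              exact congrArg Subtype.val (e.apply_symm_apply (Subalgebra.equivOfEq _ _ heq y))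
            rw [hc]; exact hP
        have h2 := hmax (insert x t) (Finset.mem_filter.2 ⟨by
          rw [Finset.mem_powerset]; exact Finset.insert_subset hx hts, h1⟩)
        rw [Finset.card_insert_of_notMem hxt] at h2
        omega
    constructor
    intro x
    have hx : x ∈ Algebra.adjoin ℤ (s : Set B) := by rw [hs]; trivial
    induction hx using Algebra.adjoin_induction with
    | mem y hy => exact hs' y hy
    | algebraMap r =>
      rw [IsScalarTower.algebraMap_apply ℤ R B]; exact isAlgebraic_algebraMap _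
    | add y z _ _ iy iz => exact iy.add iz
    | mul y z _ _ iy iz => exact iy.mul iz
  exact step B s hs (ι := t)

/-- Affine form — let A be a reduced commutative ring of finite type over ℤ. Then for all but finitely
many prime numbers p the reduction A/pA is reduced. (The published statement is for a reduced scheme
of finite type over ℤ; such a scheme has a finite affine open cover, so the affine form carries the
same content.) -/
theorem result
    (A : Type u) [CommRing A] [Algebra.FiniteType ℤ A] [IsReduced A] :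
    {p : ℕ | p.Prime ∧ ¬ IsReduced (A ⧸ Ideal.span {(p : A)})}.Finite := by
  classical
  have : IsNoetherianRing A := Algebra.FiniteType.isNoetherianRing ℤ A
  let M : Finset (Ideal A) := (minimalPrimes.finite_of_isNoetherianRing A).toFinset
  have hM : ∀ P ∈ M, P ∈ minimalPrimes A := fun P hP ↦ (Set.Finite.mem_toFinset _).1 hP
  have hzero : ∀ x : A, (∀ P ∈ M, x ∈ P) → x = 0 := by
    intro x hx
    have hx' : x ∈ sInf ((⊥ : Ideal A).minimalPrimes) := by
      rw [Submodule.mem_sInf]; exact fun P hP ↦ hx P ((Set.Finite.mem_toFinset _).2 hP)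
    rw [Ideal.sInf_minimalPrimes] at hx'
    simpa [← nilradical_eq_zero A] using hx'
  let Z := M.filter fun P ↦ ringChar (A ⧸ P) = 0
  let M0 : ℕ := ∏ P ∈ M.filter (fun P ↦ ringChar (A ⧸ P) ≠ 0), ringChar (A ⧸ P)
  have hM0 : M0 ≠ 0 := Finset.prod_ne_zero_iff.2 fun P hP ↦ (Finset.mem_filter.1 hP).2
  have hM0P : ∀ P ∈ M, P ∉ Z → (M0 : A) ∈ P := by
    intro P hP hPZ
    rw [← Ideal.Quotient.eq_zero_iff_mem, map_natCast]
    refine (ringChar.spec _ _).2 (Finset.dvd_prod_of_mem (fun Q ↦ ringChar (A ⧸ Q)) ?_)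
    simp only [Z, Finset.mem_filter] at hPZ ⊢
    exact ⟨hP, fun h ↦ hPZ ⟨hP, h⟩⟩
  have key : ∀ P ∈ Z, ∃ g : A, g ∉ P ∧ (∀ Q ∈ M, Q ≠ P → g ∈ Q) ∧ ∃ S : Finset ℕ, ∀ p : ℕ, p.Prime → p ∉ S →
      ∀ a : A, (p : A) ∣ a ^ 2 → ∃ j, (p : A) ∣ g ^ j * a := by
    intro P hP
    obtain ⟨hPM, hchar⟩ := Finset.mem_filter.1 hP
    haveI hPp : P.IsPrime := Ideal.minimalPrimes_isPrime (hM P hPM)
    haveI hft : @Algebra.FiniteType ℤ (A ⧸ P) _ _ (Ring.toIntAlgebra (A ⧸ P)) :=
      Algebra.FiniteType.of_surjective (Ideal.Quotient.mk P).toIntAlgHom Ideal.Quotient.mk_surjective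
    haveI : CharP (A ⧸ P) 0 := hchar ▸ ringChar.charP _
    haveI : CharZero (A ⧸ P) := CharP.charP_to_charZero _
    obtain ⟨h, hh, S, hS⟩ := @domain_case (A ⧸ P) _ _ _ hft
    obtain ⟨h', rfl⟩ := Ideal.Quotient.mk_surjective h
    have hex : ∀ Q ∈ M.erase P, ∃ x ∈ Q, x ∉ P := by
      intro Q hQ
      obtain ⟨hne, hQ⟩ := Finset.mem_erase.1 hQ
      exact Set.not_subset.1 fun hle ↦ hne
        (le_antisymm hle ((hM P hPM).2 ⟨Ideal.minimalPrimes_isPrime (hM Q hQ), bot_le⟩ hle))
    choose x hxQ hxP using hex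
    let g0 := ∏ Q ∈ (M.erase P).attach, x Q.1 Q.2
    have hg0Q : ∀ Q ∈ M, Q ≠ P → g0 ∈ Q := fun Q hQ hne ↦
      Q.mem_of_dvd (Finset.dvd_prod_of_mem (fun Q ↦ x Q.1 Q.2) (Finset.mem_attach _ ⟨Q, Finset.mem_erase.2 ⟨hne, hQ⟩⟩)) (hxQ _ _)
    have hg0P : g0 ∉ P := by
      intro hmem
      obtain ⟨Q, _, hQ⟩ := (Ideal.IsPrime.prod_mem_iff).1 hmem
      exact hxP _ _ hQ
    refine ⟨g0 * h', ?_, fun Q hQ hne ↦ Q.mul_mem_right _ (hg0Q Q hQ hne), S, ?_⟩
    · intro hmem
      rcases hPp.mem_or_mem hmem with h1 | h1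
      · exact hg0P h1
      · exact hh (Ideal.Quotient.eq_zero_iff_mem.2 h1)
    intro p hp hpS a ha
    obtain ⟨c, hc⟩ := ha
    obtain ⟨j, ⟨d, hd⟩⟩ := hS p hp hpS (Ideal.Quotient.mk P a) ⟨Ideal.Quotient.mk P c, by rw [← map_pow, hc]; simp⟩
    obtain ⟨d', rfl⟩ := Ideal.Quotient.mk_surjective d
    rw [← map_pow, ← map_mul, ← map_natCast (Ideal.Quotient.mk P), ← map_mul, Ideal.Quotient.eq] at hd
    have h0 : g0 * (h' ^ j * a - p * d') = 0 := hzero _ fun Q hQ ↦ by
      rcases eq_or_ne Q P with rfl | hne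
      · exact Ideal.mul_mem_left _ _ hd
      · exact Ideal.mul_mem_right _ _ (hg0Q Q hQ hne)
    exact ⟨j + 1, g0 ^ (j + 1) * h' * d', by linear_combination (g0 ^ j * h') * h0⟩
  choose g hgP hgQ S hS using key
  let f : A := ∑ P ∈ Z.attach, g P.1 P.2
  have hf : ∀ P ∈ Z, f ∉ P := by
    intro P hP hmem
    have hsum : ∑ Q ∈ Z.attach.erase ⟨P, hP⟩, g Q.1 Q.2 ∈ P := by
      refine P.sum_mem fun Q hQ ↦ hgQ Q.1 Q.2 P (Finset.mem_filter.1 hP).1 ?_
      intro h
      exact (Finset.mem_erase.1 hQ).1 (Subtype.ext h.symm)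
    have : f = g P hP + ∑ Q ∈ Z.attach.erase ⟨P, hP⟩, g Q.1 Q.2 :=
      (Finset.add_sum_erase _ (fun Q ↦ g Q.1 Q.2) (Finset.mem_attach _ ⟨P, hP⟩)).symm
    rw [this] at hmem
    exact hgP P hP ((Ideal.add_mem_iff_left P hsum).1 hmem)
  let T : ℕ →o Ideal A := ⟨fun n ↦ Submodule.comap (LinearMap.mulLeft A ((n.factorial : A))) (Ideal.span {f}), by
    intro m n hmn a ha
    obtain ⟨c, hc⟩ := Nat.factorial_dvd_factorial hmn
    show (n.factorial : A) * a ∈ Ideal.span {f}
    rw [hc, Nat.cast_mul, mul_comm (m.factorial : A), mul_assoc]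
    exact Ideal.mul_mem_left _ _ ha⟩
  obtain ⟨n0, hn0⟩ := monotone_stabilizes_iff_noetherian.mpr (inferInstance : IsNoetherian A A) T
  refine ((Set.finite_le_nat n0).union (M0.primeFactors.finite_toSet.union
    ((Z.attach.biUnion fun P ↦ S P.1 P.2).finite_toSet))).subset ?_
  rintro p ⟨hp, hnr⟩
  by_contra hcon
  simp only [Set.mem_union, Set.mem_setOf_eq, Finset.mem_coe, not_or, Finset.mem_biUnion,
    not_exists, not_and, Nat.mem_primeFactors, not_le] at hcon
  obtain ⟨hn, hpM, hpS⟩ := hcon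
  apply hnr
  have hreg : ∀ a : A, (p : A) ∣ f * a → (p : A) ∣ a := by
    rintro a ⟨b, hb⟩
    have hbT : b ∈ T p := by
      show (p.factorial : A) * b ∈ Ideal.span {f}
      obtain ⟨c, hc⟩ := Nat.dvd_factorial hp.pos le_rfl
      rw [hc, Nat.cast_mul, Ideal.mem_span_singleton]
      exact ⟨(c : A) * a, by linear_combination (-(c : A)) * hb⟩
    rw [← hn0 p hn.le] at hbT
    obtain ⟨c, hc⟩ := Ideal.mem_span_singleton.1 hbT
    change (n0.factorial : A) * b = f * c at hc
    have h1 : f * ((p : A) * c - n0.factorial * a) = 0 := by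
      linear_combination (-(p:A)) * hc - (n0.factorial : A) * hb
    have h2 : (M0 : A) * ((p : A) * c - n0.factorial * a) = 0 := hzero _ fun P hP ↦ by
      by_cases hPZ : P ∈ Z
      · refine Ideal.mul_mem_left _ _ ?_
        exact ((Ideal.minimalPrimes_isPrime (hM P hP)).mem_or_mem (h1 ▸ P.zero_mem)).resolve_left (hf P hPZ)
      · exact Ideal.mul_mem_right _ _ (hM0P P hP hPZ)
    have hcop : Nat.Coprime (M0 * n0.factorial) p := by
      refine (hp.coprime_iff_not_dvd.2 fun hd ↦ ?_).symm
      rcases (Nat.Prime.dvd_mul hp).1 hd with h | h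
      · exact hpM hp h hM0
      · have := (Nat.Prime.dvd_factorial hp).1 h; omega
    obtain ⟨x, y, hxy⟩ := hcop.cast (R := A)
    push_cast at hxy
    exact ⟨x * M0 * c + y * a, by linear_combination (-x) * h2 - a * hxy⟩
  refine (isReduced_iff_pow_one_lt 2 one_lt_two).2 fun z hz ↦ ?_
  obtain ⟨a, rfl⟩ := Ideal.Quotient.mk_surjective z
  rw [← map_pow, Ideal.Quotient.eq_zero_iff_mem, Ideal.mem_span_singleton] at hz
  rw [Ideal.Quotient.eq_zero_iff_mem, Ideal.mem_span_singleton]
  let J : Ideal A := Submodule.comap (LinearMap.mulRight A a) (Ideal.span {(p : A)})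
  have hfJ : f ∈ J.radical := by
    refine J.radical.sum_mem fun P hP ↦ ?_
    obtain ⟨j, hj⟩ := hS P.1 P.2 p hp (hpS P hP) a hz
    exact ⟨j, Ideal.mem_span_singleton.2 hj⟩
  obtain ⟨k, hk⟩ := hfJ
  have hk' : (p : A) ∣ f ^ k * a := Ideal.mem_span_singleton.1 hk
  clear hk
  induction k with
  | zero => simpa using hk'
  | succ k ih => exact ih (hreg _ (by rwa [← mul_assoc, ← pow_succ']))

end Groth.Agent.S14101
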