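import Groth.Statements.S14106
import Groth.Agent.CIntCodim.Smooth

set_option autoImplicit false
universe u
open CategoryTheory CategoryTheory.Limits AlgebraicGeometry Opposite TopologicalSpace
open CInt

namespace Groth.Agent.S14106

/-- Let S be a locally Noetherian scheme, f : X → S a smooth morphism and i : Y → X a closed immersion
whose composite with f is smooth. Then the codimension of the image of i relative to f (the infimum
over its points y of the Krull dimension of the local ring at y of the fibre of f through y) equals
its codimension in X (the infimum over the same points of the Krull dimension of O_{X,y}). -/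
theorem result {X Y S : Scheme.{u}} [IsLocallyNoetherian X]
    [IsLocallyNoetherian S] (f : X ⟶ S) [Smooth f] (i : Y ⟶ X) [IsClosedImmersion i] [Smooth (i ≫ f)] :
    (⨅ y : Set.range i.base, ringKrullDim ↑(CInt.fiberStalk f y.1)) =
      ⨅ y : Set.range i.base, ringKrullDim ↑(X.presheaf.stalk y.1) := by
  refine le_antisymm (iInf_mono fun y => CIntCodim.dim_fiberStalk_le f y.1) (le_iInf fun y => ?_)
  obtain ⟨_, y, rfl⟩ := y
  obtain ⟨z, hz⟩ := CIntCodim.exists_dim_stalk_le_fiber f i y
  exact iInf_le_of_le ⟨i z, z, rfl⟩ hz

end Groth.Agent.S14106
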