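import Groth.Statements.S14116
import Groth.Agent.LocCohZW.SectionsTop
import Groth.Agent.Props.QProj
import Groth.Agent.AuslBuchs.Basic
import Groth.Agent.VBLib.Basic

set_option autoImplicit false
universe u
open CategoryTheory CategoryTheory.Limits AlgebraicGeometry Opposite TopologicalSpace
open LocCohZ

namespace Groth.Agent.S14116

/-- Let X be a locally Noetherian scheme, U ⊆ X open with closed complement Y, d a natural number such
that the depth of O_X along Y is at least d (every local ring O_{X,y}, y ∈ Y, has depth at least d),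
and M a finite locally free O_X-module. Then Γ(X, ℋ^d_Y(M)) is isomorphic to H^d_Y(X, M), where
ℋ^d_Y is the d-th right derived functor of the sheaf of sections with support in Y (applied to the
underlying abelian sheaf of M) and H^d_Y(X, M) is cohomology with support in Y. Existence of an
additive isomorphism only; the published statement asserts a canonical functorial isomorphism that
is linear over the global functions Γ(X, O_X) (obtained in its proof as the edge map of the
local-to-global spectral sequence), and adds that U ↦ H^d_{Y∩U}(U, M), U ⊆ X open, is a sheaf; none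
of this is part of this row. (The published statement assumes a flat morphism X → S with
Cohen–Macaulay fibres and relative codimension of Y at least d; these enter only through the depth
bound, which is the hypothesis of this row.) -/
theorem result (X : Scheme.{u}) [IsLocallyNoetherian X]
    (U : X.Opens) (d : ℕ)
    (hdepth : ∀ x : ↥X, x ∉ (U : Set ↥X) → (d : ℕ∞) ≤ LocCoh.depth ↑(X.presheaf.stalk x) ↑(X.presheaf.stalk x))
    (M : X.Modules) (hM : FlatMod.IsFinLocFree M) :
    Nonempty (↑(((LocCohZ.HZsh (X := X.carrier) U d).obj (Coh.toAb M)).obj.obj (op ⊤)) ≃+ LocCohZ.HZM X M d U) := by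
  have hcoh := VBLib.isCoh_of_isFinLocFree hM
  have : M.IsQuasicoherent := hcoh.1
  let T : Closeds X := ⟨(U : Set X)ᶜ, U.isOpen.isClosed_compl⟩
  have hT : T.compl = U := Opens.ext (compl_compl _)
  have hd : ∀ x : X, x ∉ (U : Set X) →
      (d : ℕ∞) ≤ LocCoh.depth (X.presheaf.stalk x) (M.presheaf.stalk x) := by
    intro x hx
    obtain ⟨hfree, hfin⟩ := Props.QProj.free_stalk M hM x
    let b := (Module.Free.chooseBasis (X.presheaf.stalk x) (M.presheaf.stalk x)).reindex
      (Fintype.equivFin _)
    rw [(EGA4Lib.depth_supportDim_congr b.equivFun).1, Depth.depth_eq_idealDepth,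
      Depth.le_idealDepth_iff_ext]
    intro i hi
    exact ExtVanish.subsingleton_ext_pi
      ((Depth.le_idealDepth_iff_ext (I := IsLocalRing.maximalIdeal (X.presheaf.stalk x))
        (M := X.presheaf.stalk x) d).1 ((hdepth x hx).trans_eq Depth.depth_eq_idealDepth) i hi) _
  have hvan : ∀ i, i < d → IsZero ((LocCohZ.HZsh (X := X.carrier) U i).obj (Coh.toAb M)) := by
    rw [← hT, LocCohZW.DepthZ.isZero_HZsh_iff_basis (Y := X.carrier) T.compl (Coh.toAb M)
      (fun W : X.Opens => IsAffineOpen W) (fun V y hy => ?_) d]
    · exact fun W hW => (LocCohZW.DepthZ.forall_subsingleton_HZ_iff M hcoh hW T d).mpr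
        fun y _ hy => hd y hy
    · obtain ⟨_, ⟨W, hW, rfl⟩, hyW, hWV⟩ :=
        X.isBasis_affineOpens.exists_subset_of_mem_open (show y ∈ (V : Set X) from hy) V.isOpen
      exact ⟨W, hW, hyW, hWV⟩
  obtain ⟨e⟩ := LocCohZW.SectionsTop.nonempty_sections_HZsh_equiv (Y := X.carrier) U ⊤ d _ hvan
  obtain ⟨e'⟩ := LocCohZW.SectionsTop.nonempty_HZ_congr (Y := X.carrier) (Coh.toAb M) d
    (top_inf_eq U) inf_le_left le_top
  exact ⟨e.trans e'⟩

end Groth.Agent.S14116
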