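import Groth.Statements.S14118
import Mathlib
-- import your own Groth.Agent.* helpers here

set_option autoImplicit false
universe u v w
open SuperComm

namespace Groth.Agent.S14118

/-- Let R be a commutative ring and M a finitely ℤ-graded R-module with finitely many nonzero graded
pieces, each finite free, presented as a finite family of finite free R-modules M_i with integer
degrees deg i (the piece of degree n being the product of the M_i with deg i = n); an endomorphism φ
of the total module Π_i M_i has degree a when its (i, j) block vanishes unless deg j = deg i + a;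
the supertrace of an endomorphism is the trace of its composite with the grading involution ε = Σ_i
(-1)^{deg i} pr_i. If φ and ψ have degrees a and b, the supertrace of the supercommutator φψ -
(-1)^{ab} ψφ vanishes. (The published statement allows the graded pieces to be finitely generated
projective; this row takes them finite free, where the trace is the ordinary trace of a free
module.) -/
theorem result {R : Type u} [CommRing R] {ι : Type v} [Fintype ι] [DecidableEq ι]
    (deg : ι → ℤ) (M : ι → Type w) [∀ i, AddCommGroup (M i)] [∀ i, Module R (M i)]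
    [∀ i, Module.Free R (M i)] [∀ i, Module.Finite R (M i)]
    (a b : ℤ) (φ ψ : (Π k, M k) →ₗ[R] (Π k, M k))
    (hφ : ∀ i j : ι, deg j ≠ deg i + a → (LinearMap.proj j) ∘ₗ φ ∘ₗ (LinearMap.single R M i) = 0)
    (hψ : ∀ i j : ι, deg j ≠ deg i + b → (LinearMap.proj j) ∘ₗ ψ ∘ₗ (LinearMap.single R M i) = 0) :
    LinearMap.trace R (Π k, M k)
      ((∑ i : ι, (LinearMap.single R M i) ∘ₗ (((-1 : R) ^ (deg i).natAbs) • (LinearMap.proj i : (Π k, M k) →ₗ[R] M i))) ∘ₗ (φ ∘ₗ ψ - ((-1 : R) ^ (a * b).natAbs) • (ψ ∘ₗ φ))) = 0 := by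
  rw [show ∀ (f : ι → ((Π k, M k) →ₗ[R] (Π k, M k))) (g : (Π k, M k) →ₗ[R] (Π k, M k)),
      (∑ i, f i) ∘ₗ g = ∑ i, (f i ∘ₗ g) from fun f g => LinearMap.ext fun m => by simp, map_sum]
  have hterm : ∀ (g : (Π k, M k) →ₗ[R] (Π k, M k)) (i : ι),
      LinearMap.trace R (Π k, M k) ((LinearMap.single R M i ∘ₗ
        (((-1 : R) ^ (deg i).natAbs) • (LinearMap.proj i : (Π k, M k) →ₗ[R] M i))) ∘ₗ g) =
      (-1 : R) ^ (deg i).natAbs *
        LinearMap.trace R (M i) (LinearMap.proj i ∘ₗ g ∘ₗ LinearMap.single R M i) := by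
    intro g i
    rw [LinearMap.comp_assoc, LinearMap.trace_comp_comm', LinearMap.smul_comp, LinearMap.smul_comp,
      map_smul, smul_eq_mul, LinearMap.comp_assoc]
  rw [Finset.sum_congr rfl (fun i _ => hterm _ i)]
  simp only [LinearMap.sub_comp, LinearMap.comp_sub, LinearMap.smul_comp,
    LinearMap.comp_smul, map_sub, map_smul, smul_eq_mul, mul_sub, LinearMap.comp_assoc,
    Finset.sum_sub_distrib]
  have hd : ∀ (f g : (Π k, M k) →ₗ[R] (Π k, M k)) (i : ι),
      LinearMap.trace R (M i) (LinearMap.proj i ∘ₗ f ∘ₗ g ∘ₗ LinearMap.single R M i) =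
        ∑ j, LinearMap.trace R (M i) ((LinearMap.proj i ∘ₗ f ∘ₗ LinearMap.single R M j) ∘ₗ
          (LinearMap.proj j ∘ₗ g ∘ₗ LinearMap.single R M i)) := by
    intro f g i
    rw [← map_sum]
    congr 1
    apply LinearMap.ext
    intro m
    simp only [LinearMap.sum_apply, LinearMap.comp_apply]
    rw [← map_sum, ← map_sum]
    congr 2
    exact (Finset.univ_sum_single _).symm
  simp only [hd, Finset.mul_sum, mul_left_comm _ ((-1 : R) ^ (a * b).natAbs)]
  rw [Finset.sum_comm (f := fun i j => (-1 : R) ^ (a * b).natAbs * ((-1 : R) ^ (deg i).natAbs *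
    LinearMap.trace R (M i) ((LinearMap.proj i ∘ₗ ψ ∘ₗ LinearMap.single R M j) ∘ₗ
          (LinearMap.proj j ∘ₗ φ ∘ₗ LinearMap.single R M i))))]
  rw [← Finset.sum_sub_distrib]
  refine Finset.sum_eq_zero (fun i _ => ?_)
  rw [← Finset.sum_sub_distrib]
  refine Finset.sum_eq_zero (fun j _ => ?_)
  rw [LinearMap.trace_comp_comm' (R := R) (LinearMap.proj j ∘ₗ ψ ∘ₗ LinearMap.single R M i)]
  by_cases h1 : deg i = deg j + a
  · by_cases h2 : deg j = deg i + b
    · rw [← mul_assoc, ← sub_mul, ← pow_add]
      have hsign : (-1 : R) ^ (deg i).natAbs = (-1 : R) ^ ((a * b).natAbs + (deg j).natAbs) := by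
        apply neg_one_pow_congr
        rw [Nat.even_add, Int.natAbs_even, Int.natAbs_even, Int.natAbs_even,
          show a = -b by omega, h2, Int.even_add, Int.even_mul, even_neg, or_self]
        tauto
      rw [hsign, sub_self, zero_mul]
    · simp [hψ i j h2]
  · simp [hφ j i h1]

end Groth.Agent.S14118
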