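import Groth.Statements.S14119
import Groth.Agent.PurLib.Factorial
import Groth.Agent.EGA4Lib.EquidimFlat
import Groth.Agent.IdealSh.Stalk
import Groth.Agent.IdealSh.Regular

set_option autoImplicit false
universe u
open CategoryTheory CategoryTheory.Limits AlgebraicGeometry Opposite TopologicalSpace
open BlowUp

namespace Groth.Agent.S14119

theorem mem_basicOpen_fromSpecStalk {X : Scheme.{u}} {U : X.Opens} (hU : IsAffineOpen U) (ζ : X) (hζ : ζ ∈ U)
    (a : Γ(X, U)) (Q : PrimeSpectrum (X.presheaf.stalk ζ)) :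
    X.fromSpecStalk ζ Q ∈ X.basicOpen a ↔ X.presheaf.germ U ζ hζ a ∉ Q.asIdeal := by
  rw [← hU.fromSpecStalk_eq_fromSpecStalk hζ, IsAffineOpen.fromSpecStalk, Scheme.Hom.comp_apply]
  show Spec.map (X.presheaf.germ U ζ hζ) Q ∈ hU.fromSpec ⁻¹ᵁ X.basicOpen a ↔ _
  rw [hU.fromSpec_preimage_basicOpen]
  exact Iff.rfl

theorem fromSpecStalk_specializes_iff {X : Scheme.{u}} (ζ : X) (P Q : PrimeSpectrum (X.presheaf.stalk ζ)) :
    X.fromSpecStalk ζ P ⤳ X.fromSpecStalk ζ Q ↔ P.asIdeal ≤ Q.asIdeal :=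
  (X.fromSpecStalk ζ).isEmbedding.isInducing.specializes_iff.trans (PrimeSpectrum.le_iff_specializes P Q).symm

theorem one_le_ringKrullDim {A : Type u} [CommRing A] [IsLocalRing A] {t : A}
    (ht : t ∈ nonZeroDivisors A) (htm : t ∈ IsLocalRing.maximalIdeal A) : 1 ≤ ringKrullDim A := by
  rw [← IsLocalRing.maximalIdeal_height_eq_ringKrullDim]
  have h : (IsLocalRing.maximalIdeal A).height ≠ 0 := fun h =>
    notMem_nonZeroDivisors_of_mem_mem_minimalPrimes htm (Ideal.height_eq_zero_iff.1 h) ht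
  exact_mod_cast Order.one_le_iff_pos.2 (pos_iff_ne_zero.2 h)

/-- Let X be a locally Noetherian scheme, Y an effective Cartier divisor on X (a quasi-coherent ideal
sheaf which, near every point, is generated on some affine open by one nonzerodivisor; Y is its
support) and Z a closed integral subscheme (a closed immersion i from an integral scheme with
generic point ξ). Assume X irreducible with all local rings catenary (the first of the two printed
sufficient conditions), and assume that the inverse image ideal sheaf of Y on Z is the ideal of an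
effective Cartier divisor on Z. Then Y and Z intersect properly: every point ζ of Y ∩ Z that is
maximal under generization inside Y ∩ Z satisfies dim O_{X,ζ} = codim(Y,X) + codim(Z,X), where
codim(Y,X) is the infimum over y ∈ Y of dim O_{X,y} and codim(Z,X) = dim O_{X,i(ξ)}. (The published
statement also has a second sufficient condition, X biequidimensional, and a fourth equivalent
condition, vanishing of the higher Tor sheaves of O_Y against O_Z; neither is included in this row.) -/
theorem result {X Z : Scheme.{u}}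
    [IsLocallyNoetherian X] [IrreducibleSpace ↥X] (hcat : ∀ x : ↥X, CAlg.IsCatenary ↑(X.presheaf.stalk x))
    (𝓘 : X.IdealSheafData) (hY : BlowUp.IsEffCartierIdeal 𝓘)
    (i : Z ⟶ X) [IsClosedImmersion i] [IsIntegral Z] (hc : BlowUp.IsEffCartierIdeal (𝓘.comap i)) :
    (∀ ζ : ↥X, ζ ∈ (𝓘.support : Set ↥X) ∩ Set.range i.base →
        (∀ ζ' : ↥X, ζ' ∈ (𝓘.support : Set ↥X) ∩ Set.range i.base → ζ' ⤳ ζ → ζ' = ζ) →
        ringKrullDim ↑(X.presheaf.stalk ζ) =
          (⨅ y : (𝓘.support : Set ↥X), ringKrullDim ↑(X.presheaf.stalk y.1)) +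
            ringKrullDim ↑(X.presheaf.stalk (i (genericPoint ↥Z)))) := by
  classical
  rintro ζ ⟨hζY, hζZ⟩ hmax
  obtain ⟨U, hζU, a, ha, hIU⟩ := hY ζ
  let A := X.presheaf.stalk ζ
  let t : A := X.presheaf.germ U.1 ζ hζU a
  have htnzd : t ∈ nonZeroDivisors A := Groth.Agent.IdealSh.Regular.germ_mem_nonZeroDivisors U.2 ζ hζU ha
  have hmem : ∀ x ∈ U.1, x ∈ 𝓘.support ↔ x ∉ X.basicOpen a := fun x hx => by
    rw [Scheme.IdealSheafData.mem_support_iff_of_mem hx, hIU, Scheme.zeroLocus_span]
    simp [Scheme.zeroLocus]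
    rfl
  have hgen : ∀ Q : PrimeSpectrum A, X.fromSpecStalk ζ Q ⤳ ζ := fun Q =>
    Groth.Agent.FlatMor.DimOne.fromSpecStalk_specializes ζ Q
  have hsupp : ∀ Q : PrimeSpectrum A, X.fromSpecStalk ζ Q ∈ 𝓘.support ↔ t ∈ Q.asIdeal := fun Q => by
    rw [hmem _ ((hgen Q).mem_open U.1.2 hζU), mem_basicOpen_fromSpecStalk U.2 ζ hζU, not_not]
  have hcp : X.fromSpecStalk ζ (IsLocalRing.closedPoint A) = ζ := Scheme.fromSpecStalk_closedPoint
  have htm : t ∈ IsLocalRing.maximalIdeal A := (hsupp (IsLocalRing.closedPoint A)).1 (hcp.symm ▸ hζY)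
  -- the generic point of `Z`
  obtain ⟨z, hz⟩ := hζZ
  have hξζ : i (genericPoint ↥Z) ⤳ ζ := hz ▸ (genericPoint_specializes z).map i.continuous
  obtain ⟨P, hP⟩ : i (genericPoint ↥Z) ∈ Set.range (X.fromSpecStalk ζ) := by
    rw [Scheme.range_fromSpecStalk]; exact hξζ
  have htP : t ∉ P.asIdeal := fun h => by
    have h1 : genericPoint ↥Z ∈ (𝓘.comap i).support := by
      rw [← SetLike.mem_coe, Scheme.IdealSheafData.support_comap]
      show i (genericPoint ↥Z) ∈ 𝓘.support
      rw [← hP]
      exact (hsupp P).2 h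
    obtain ⟨V, hηV, b, hb, hbI⟩ := hc (genericPoint ↥Z)
    rw [Scheme.IdealSheafData.mem_support_iff_of_mem hηV, hbI, Scheme.zeroLocus_span, Scheme.mem_zeroLocus_iff] at h1
    have h2 : Z.basicOpen b = ⊥ := by
      by_contra hne
      refine h1 b rfl (((genericPoint_spec ↥Z).mem_open_set_iff (Z.basicOpen b).2).2 ?_)
      rw [Set.univ_inter]
      exact Set.nonempty_iff_ne_empty.2 fun e => hne (Opens.ext e)
    haveI : Nonempty V.1 := ⟨⟨_, hηV⟩⟩
    exact nonZeroDivisors.ne_zero hb ((basicOpen_eq_bot_iff b).1 h2)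
  have hmin : ∀ Q : PrimeSpectrum A, P.asIdeal ≤ Q.asIdeal → t ∈ Q.asIdeal → Q = IsLocalRing.closedPoint A := by
    intro Q hPQ htQ
    refine (X.fromSpecStalk ζ).isEmbedding.injective ?_
    rw [hcp]
    refine hmax _ ⟨(hsupp Q).2 htQ, ?_⟩ (hgen Q)
    exact ((fromSpecStalk_specializes_iff ζ P Q).2 hPQ).mem_closed
      i.isClosedEmbedding.isClosed_range ⟨_, hP.symm⟩
  have hquot : ringKrullDim (A ⧸ P.asIdeal) = 1 := by
    haveI : IsLocalRing (A ⧸ P.asIdeal) := IsLocalRing.of_surjective' _ Ideal.Quotient.mk_surjective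
    refine le_antisymm ?_ ?_
    · rw [← IsLocalRing.maximalIdeal_height_eq_ringKrullDim]
      have h1 : IsLocalRing.maximalIdeal (A ⧸ P.asIdeal) ∈ (Ideal.span {Ideal.Quotient.mk P.asIdeal t}).minimalPrimes := by
        refine ⟨⟨inferInstance, Ideal.span_le.2 (Set.singleton_subset_iff.2 ?_)⟩, fun R hR _ => ?_⟩
        · rw [SetLike.mem_coe, IsLocalRing.mem_maximalIdeal]
          intro hu
          obtain ⟨v, hv⟩ := Ideal.Quotient.mk_surjective (↑hu.unit⁻¹ : A ⧸ P.asIdeal)
          have h2 : Ideal.Quotient.mk P.asIdeal (t * v) = Ideal.Quotient.mk P.asIdeal 1 := by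
            rw [map_mul, hv, map_one]; exact hu.mul_val_inv
          refine (IsLocalRing.maximalIdeal.isMaximal A).ne_top ((Ideal.eq_top_iff_one _).2 ?_)
          have h3 := sub_mem (Ideal.mul_mem_right v _ htm)
            (IsLocalRing.le_maximalIdeal P.isPrime.ne_top (Ideal.Quotient.eq.1 h2))
          rwa [sub_sub_cancel] at h3
        · haveI := hR.1
          have hQ := hmin ⟨R.comap (Ideal.Quotient.mk P.asIdeal), inferInstance⟩
            (fun x hx => by
              show Ideal.Quotient.mk P.asIdeal x ∈ R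
              rw [Ideal.Quotient.eq_zero_iff_mem.2 hx]; exact zero_mem _)
            (hR.2 (Ideal.mem_span_singleton_self _))
          intro x hx
          obtain ⟨x, rfl⟩ := Ideal.Quotient.mk_surjective x
          have hxm : x ∈ IsLocalRing.maximalIdeal A := by
            rw [IsLocalRing.mem_maximalIdeal] at hx ⊢
            exact fun hu => hx (hu.map _)
          have := congrArg PrimeSpectrum.asIdeal hQ
          exact (this.ge hxm : x ∈ R.comap (Ideal.Quotient.mk P.asIdeal))
      exact_mod_cast Ideal.height_le_one_of_isPrincipal_of_mem_minimalPrimes _ _ h1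
    · refine one_le_ringKrullDim (t := Ideal.Quotient.mk P.asIdeal t) ?_ ?_
      · exact mem_nonZeroDivisors_of_ne_zero fun h => htP (Ideal.Quotient.eq_zero_iff_mem.1 h)
      · rw [IsLocalRing.mem_maximalIdeal]
        intro hu
        obtain ⟨v, hv⟩ := Ideal.Quotient.mk_surjective (↑hu.unit⁻¹ : A ⧸ P.asIdeal)
        have h2 : Ideal.Quotient.mk P.asIdeal (t * v) = Ideal.Quotient.mk P.asIdeal 1 := by
          rw [map_mul, hv, map_one]; exact hu.mul_val_inv
        refine (IsLocalRing.maximalIdeal.isMaximal A).ne_top ((Ideal.eq_top_iff_one _).2 ?_)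
        have h3 := sub_mem (Ideal.mul_mem_right v _ htm)
          (IsLocalRing.le_maximalIdeal P.isPrime.ne_top (Ideal.Quotient.eq.1 h2))
        rwa [sub_sub_cancel] at h3
  have heq : EGA4.IsEquidim A := fun p hp => by
    haveI := hp.1.1
    rw [ringKrullDim_quotient]
    have hall : PrimeSpectrum.zeroLocus (p : Set A) = Set.univ := by
      refine Set.eq_univ_of_forall fun Q => ?_
      obtain ⟨g, hg⟩ : genericPoint ↥X ∈ Set.range (X.fromSpecStalk ζ) := by
        rw [Scheme.range_fromSpecStalk]; exact genericPoint_specializes ζ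
      have hle : ∀ R : PrimeSpectrum A, g.asIdeal ≤ R.asIdeal := fun R =>
        (fromSpecStalk_specializes_iff ζ g R).1 (hg.symm ▸ genericPoint_specializes _)
      exact (hp.2 ⟨g.isPrime, bot_le⟩ (hle ⟨p, inferInstance⟩)).trans (hle Q)
    rw [hall]
    exact Order.krullDim_eq_of_orderIso (OrderIso.Set.univ)
  have hdim := Groth.Agent.EGA4Lib.height_add_ringKrullDim_quotient (hcat ζ) heq P.asIdeal
  rw [hquot, Groth.Agent.PurLib.height_eq_ringKrullDim_stalk ζ P, hP] at hdim
  rw [← hdim, add_comm]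
  congr 1
  refine le_antisymm (le_iInf fun y => ?_) ?_
  · obtain ⟨V, hyV, b, hb, hbI⟩ := hY y.1
    have hy := y.2
    rw [SetLike.mem_coe, Scheme.IdealSheafData.mem_support_iff_of_mem hyV, hbI, Scheme.zeroLocus_span, Scheme.mem_zeroLocus_iff] at hy
    refine one_le_ringKrullDim (t := X.presheaf.germ V.1 y.1 hyV b)
      (Groth.Agent.IdealSh.Regular.germ_mem_nonZeroDivisors V.2 y.1 hyV hb) ?_
    rw [IsLocalRing.mem_maximalIdeal]
    exact fun hu => hy b rfl ((Scheme.mem_basicOpen _ _ _ hyV).2 hu)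
  · obtain ⟨Q, hQ, -⟩ := Ideal.exists_minimalPrimes_le
      (show Ideal.span {t} ≤ IsLocalRing.maximalIdeal A from Ideal.span_le.2 (Set.singleton_subset_iff.2 htm))
    haveI := hQ.1.1
    refine (iInf_le _ (⟨X.fromSpecStalk ζ ⟨Q, inferInstance⟩,
      (hsupp _).2 (hQ.1.2 (Ideal.mem_span_singleton_self t))⟩ : (𝓘.support : Set ↥X))).trans ?_
    rw [← Groth.Agent.PurLib.height_eq_ringKrullDim_stalk ζ ⟨Q, inferInstance⟩]
    exact_mod_cast Ideal.height_le_one_of_isPrincipal_of_mem_minimalPrimes _ _ hQ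

end Groth.Agent.S14119
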