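import Groth.Statements.S9205
import Groth.Agent.LimLib.ClosedAvoid

set_option backward.isDefEq.respectTransparency false
set_option backward.defeqAttrib.useBackward true

set_option autoImplicit false
universe u
open CategoryTheory CategoryTheory.Limits AlgebraicGeometry
open Lim

namespace Groth.Agent.S9205

/-- Let f : X → S be a quasi-compact morphism of schemes. Then: f is universally closed if and only if,
whenever g : S' → S is a morphism locally of finite presentation, the projection X ×_S S' → S' is a
closed map; and f is universally closed if and only if for every natural number n the base change X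
×_S A^n_S → A^n_S to affine n-space over S is closed. -/
theorem result {X S : Scheme.{u}} (f : X ⟶ S) [QuasiCompact f] :
    (UniversallyClosed f ↔ ∀ (S' : Scheme.{u}) (g : S' ⟶ S), LocallyOfFinitePresentation g →
        IsClosedMap (pullback.snd f g).base) ∧
      (UniversallyClosed f ↔ ∀ n : ℕ, IsClosedMap (pullback.snd f (𝔸(ULift.{u} (Fin n); S) ↘ S)).base) := by
  have h1 : UniversallyClosed f → ∀ (S' : Scheme.{u}) (g : S' ⟶ S),
      IsClosedMap (pullback.snd f g).base := fun h S' g => by
    have : UniversallyClosed (pullback.snd f g) := MorphismProperty.pullback_snd _ _ h
    exact (pullback.snd f g).isClosedMap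
  exact ⟨⟨fun h S' g _ => h1 h S' g, fun h =>
      LimLib.universallyClosed_of_isClosedMap_affineSpace f fun n => h _ _ inferInstance⟩,
    ⟨fun h n => h1 h _ _, LimLib.universallyClosed_of_isClosedMap_affineSpace f⟩⟩

end Groth.Agent.S9205
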