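import Groth.Statements.S7449
import Groth.Agent.LimLib.NagataCurve
import Groth.Agent.S9205

set_option autoImplicit false
universe u
set_option backward.isDefEq.respectTransparency false
open CategoryTheory CategoryTheory.Limits AlgebraicGeometry
open Lim

namespace Groth.Agent.S7449

/-- Let `S` be a Nagata scheme, `X`, `Y` locally of finite type over `S` and `f : X → Y` a quasi-compact
morphism over `S`. Then `f` is universally closed if and only if for every commutative diagram `U →
X`, `C → Y` over `S` where `C` is a normal integral scheme of finite type over `S`, `c ∈ C` is a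
closed point whose local ring `A = O_{C,c}` has dimension `1` and `U = C ∖ {c}`, there is a morphism
`Spec A → X` making the square `Spec K → X`, `Spec A → Y` (with `K = Frac A`, `Spec K → X` through
`U`, `Spec A → Y` through `C`) commute. -/
theorem result (S : Scheme.{u}) (hS : ∀ W : S.affineOpens, CAlg.IsNagata Γ(S, W))
    {X Y : Scheme.{u}} (p : X ⟶ S) (q : Y ⟶ S) [LocallyOfFiniteType p] [LocallyOfFiniteType q] (f : X ⟶ Y)
    (hf : f ≫ q = p) [QuasiCompact f] :
    UniversallyClosed f ↔
      ∀ (C : Scheme.{u}) (r : C ⟶ S) [IsIntegral C] [LocallyOfFiniteType r] [QuasiCompact r],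
        (∀ x : C, IsIntegrallyClosed (C.presheaf.stalk x)) →
        ∀ (c : C), IsClosed ({c} : Set C) → ringKrullDim (C.presheaf.stalk c) = 1 →
        ∀ (U : C.Opens), (U : Set C) = {c}ᶜ →
        ∀ (u : (U : Scheme.{u}) ⟶ X) (g : C ⟶ Y), g ≫ q = r → u ≫ f = U.ι ≫ g →
        ∀ (k : Spec (CommRingCat.of (FractionRing (C.presheaf.stalk c))) ⟶ (U : Scheme.{u})),
          k ≫ U.ι = Spec.map (CommRingCat.ofHom (algebraMap (C.presheaf.stalk c)
            (FractionRing (C.presheaf.stalk c)))) ≫ C.fromSpecStalk c →
        ∃ l : Spec (C.presheaf.stalk c) ⟶ X, l ≫ f = C.fromSpecStalk c ≫ g ∧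
          Spec.map (CommRingCat.ofHom (algebraMap (C.presheaf.stalk c) (FractionRing (C.presheaf.stalk c)))) ≫ l =
            k ≫ u := by
  haveI : LocallyOfFiniteType f := by
    haveI : LocallyOfFiniteType (f ≫ q) := hf.symm ▸ ‹LocallyOfFiniteType p›
    exact locallyOfFiniteType_of_comp f q
  refine ⟨fun _ C r _ _ _ hn c _ hdim U _ u g _ hu k hk => ?_, fun H => ?_⟩
  · haveI : IsLocallyNoetherian S := ⟨fun W => (hS W).1⟩
    haveI : IsLocallyNoetherian C := LocallyOfFiniteType.isLocallyNoetherian r
    haveI := hn c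
    haveI : Ring.KrullDimLE 1 (C.presheaf.stalk c) := (Ring.krullDimLE_iff).mpr hdim.le
    haveI : ValuationRing (C.presheaf.stalk c) :=
      ((tfae_of_isNoetherianRing_of_isLocalRing_of_isDomain (R := C.presheaf.stalk c)).out 3 1
        (a := IsIntegrallyClosed (C.presheaf.stalk c) ∧ ∀ P : Ideal (C.presheaf.stalk c), P ≠ ⊥ →
          P.IsPrime → P = IsLocalRing.maximalIdeal _)).mp
        ⟨inferInstance, fun P hP0 hP => IsLocalRing.eq_maximalIdeal (hP.isMaximal_of_ne_bot hP0)⟩
    have h : (ValuativeCriterion.Existence f) := by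
      have h : UniversallyClosed f := inferInstance
      rw [UniversallyClosed.eq_valuativeCriterion] at h
      exact h.1
    let Sq : ValuativeCommSq f :=
      { R := C.presheaf.stalk c
        K := FractionRing (C.presheaf.stalk c)
        i₁ := k ≫ u
        i₂ := C.fromSpecStalk c ≫ g
        commSq := ⟨by rw [Category.assoc, hu, reassoc_of% hk]⟩ }
    obtain ⟨⟨l⟩⟩ := h Sq
    exact ⟨l.l, l.fac_right, l.fac_left⟩
  · refine (Groth.Agent.S9205.result f).2.mpr fun n => ?_
    let a := 𝔸(ULift.{u} (Fin n); Y) ↘ Y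
    intro Z hZ
    refine Groth.Agent.LimLib.NagataCurve.isClosed_image hS (a ≫ q) (pullback.snd f a) ?_ hZ
    intro C r _ _ _ hn c hc hdim U hU u g hg hu k hk
    obtain ⟨l, hl, hl'⟩ := H C r hn c hc hdim U hU (u ≫ pullback.fst f a) (g ≫ a)
      (by rw [Category.assoc]; exact hg)
      (by rw [Category.assoc, pullback.condition, reassoc_of% hu]) k hk
    refine ⟨pullback.lift l (C.fromSpecStalk c ≫ g) (by rw [hl, Category.assoc]),
      pullback.lift_snd _ _ _, pullback.hom_ext ?_ ?_⟩
    · simp only [Category.assoc, pullback.lift_fst]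
      exact hl'
    · simp only [Category.assoc, pullback.lift_snd]
      rw [hu, reassoc_of% hk]

end Groth.Agent.S7449
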