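import Groth.Statements.S14120
import Groth.Agent.ValCritLib.CurveDvr
import Groth.Agent.S2654
import Groth.Agent.S7449

set_option autoImplicit false
universe u
open CategoryTheory AlgebraicGeometry
open ValCrit

set_option linter.style.haveILetI false
set_option backward.isDefEq.respectTransparency false

namespace Groth.Agent.S14120

/-- For schemes, let every affine open of the base `S` have excellent coordinate ring, let `g : Y ⟶ S`
be locally of finite type and `f : X ⟶ Y` quasi-compact and locally of finite type. Then the
existence part of the valuative criterion for `f` over discrete valuation rings (every commutative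
square `Spec K ⟶ X`, `Spec R ⟶ Y` with `R` a discrete valuation ring and `K` its fraction field has
a lift `Spec R ⟶ X`) holds as soon as it holds for the squares whose ring `R` is essentially of
finite type over `S`, i.e. `Spec R ⟶ Y ⟶ S` factors through some affine open `U` of `S` by a ring
map `Γ(S, U) ⟶ R` that is essentially of finite type; and conversely. (The published statement is
for algebraic spaces and treats existence and uniqueness together; this row is the existence half
for schemes.) -/
theorem result (S : Scheme.{u})
    (hS : ∀ U : S.affineOpens, EGA4.IsExcellent Γ(S, U.1))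
    {X Y : Scheme.{u}} (f : X ⟶ Y) (g : Y ⟶ S)
    [QuasiCompact f] [LocallyOfFiniteType f] [LocallyOfFiniteType g] :
    (∀ sq : ValuativeCommSq f, IsDiscreteValuationRing sq.R → sq.commSq.HasLift) ↔
    (∀ sq : ValuativeCommSq f, IsDiscreteValuationRing sq.R →
      (∃ (U : S.affineOpens) (φ : Γ(S, U.1) ⟶ CommRingCat.of sq.R),
        Spec.map φ ≫ U.2.fromSpec = sq.i₂ ≫ g ∧ φ.hom.EssFiniteType) →
      sq.commSq.HasLift) := by
  refine ⟨fun H sq hR _ => H sq hR, fun H sq hR => ?_⟩
  have hN : ∀ W : S.affineOpens, CAlg.IsNagata Γ(S, W) := fun W =>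
    Groth.Agent.S2654.result Γ(S, W.1) ⟨(hS W).1, (hS W).2.2.1, (hS W).2.2.2⟩
  haveI : IsLocallyNoetherian S := ⟨fun W => (hN W).1⟩
  suffices h : UniversallyClosed f by
    rw [UniversallyClosed.eq_valuativeCriterion] at h
    exact h.1 sq
  refine (Groth.Agent.S7449.result S hN (f ≫ g) g f rfl).2
    fun C r _ _ _ hn c _ hdim U _ u gC hg hu k hk => ?_
  haveI : IsLocallyNoetherian C := LocallyOfFiniteType.isLocallyNoetherian r
  haveI := Groth.Agent.ValCritLib.CurveDvr.isDiscreteValuationRing_stalk c (hn c) hdim
  let Sq : ValuativeCommSq f :=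
    { R := C.presheaf.stalk c
      K := FractionRing (C.presheaf.stalk c)
      i₁ := k ≫ u
      i₂ := C.fromSpecStalk c ≫ gC
      commSq := ⟨by rw [Category.assoc, hu, reassoc_of% hk]⟩ }
  obtain ⟨W, φ, hφ, hφe⟩ := Groth.Agent.ValCritLib.CurveDvr.exists_essFiniteType_factor r c
  obtain ⟨⟨l⟩⟩ := H Sq inferInstance ⟨W, φ, by rw [hφ, ← hg, ← Category.assoc], hφe⟩
  exact ⟨l.l, l.fac_right, l.fac_left⟩

end Groth.Agent.S14120
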