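import Groth.Statements.S7450
import Groth.Agent.LimLib.NagataCurve

set_option autoImplicit false
universe u
set_option backward.isDefEq.respectTransparency false
open CategoryTheory CategoryTheory.Limits AlgebraicGeometry
open Lim

namespace Groth.Agent.S7450

/-- Assume `S` is a Nagata scheme and `f : X → Y` is a morphism over `S` between schemes `X`, `Y` that
are locally of finite type over `S`. Then `f` is separated exactly when the following holds. Take
any normal integral scheme `C` of finite type over `S` and a closed point `c ∈ C` such that the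
local ring `A = O_{C,c}` is one-dimensional, put `U = C ∖ {c}`, and consider any commutative diagram
of `S`-schemes formed by `U → X` and `C → Y`. Then at most one morphism `Spec A → X` makes the
square with `Spec K → X` and `Spec A → Y` commute. -/
theorem result (S : Scheme.{u}) (hS : ∀ W : S.affineOpens, CAlg.IsNagata Γ(S, W))
    {X Y : Scheme.{u}} (p : X ⟶ S) (q : Y ⟶ S) [LocallyOfFiniteType p] [LocallyOfFiniteType q] (f : X ⟶ Y)
    (hf : f ≫ q = p) :
    IsSeparated f ↔
      ∀ (C : Scheme.{u}) (r : C ⟶ S) [IsIntegral C] [LocallyOfFiniteType r] [QuasiCompact r],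
        (∀ x : C, IsIntegrallyClosed (C.presheaf.stalk x)) →
        ∀ (c : C), IsClosed ({c} : Set C) → ringKrullDim (C.presheaf.stalk c) = 1 →
        ∀ (U : C.Opens), (U : Set C) = {c}ᶜ →
        ∀ (u : (U : Scheme.{u}) ⟶ X) (g : C ⟶ Y), g ≫ q = r → u ≫ f = U.ι ≫ g →
        ∀ (k : Spec (CommRingCat.of (FractionRing (C.presheaf.stalk c))) ⟶ (U : Scheme.{u})),
          k ≫ U.ι = Spec.map (CommRingCat.ofHom (algebraMap (C.presheaf.stalk c)
            (FractionRing (C.presheaf.stalk c)))) ≫ C.fromSpecStalk c →
        ∀ l l' : Spec (C.presheaf.stalk c) ⟶ X,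
          l ≫ f = C.fromSpecStalk c ≫ g →
          Spec.map (CommRingCat.ofHom (algebraMap (C.presheaf.stalk c) (FractionRing (C.presheaf.stalk c)))) ≫ l =
            k ≫ u →
          l' ≫ f = C.fromSpecStalk c ≫ g →
          Spec.map (CommRingCat.ofHom (algebraMap (C.presheaf.stalk c) (FractionRing (C.presheaf.stalk c)))) ≫ l' =
            k ≫ u → l = l' := by
  haveI : LocallyOfFiniteType f := by
    haveI : LocallyOfFiniteType (f ≫ q) := hf.symm ▸ ‹LocallyOfFiniteType p›
    exact locallyOfFiniteType_of_comp f q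
  haveI : IsLocallyNoetherian S := ⟨fun W => (hS W).1⟩
  refine ⟨fun _ C r _ _ _ hn c _ hdim U _ u g _ hu k hk l l' hl hl₁ hl' hl₂ => ?_, fun H => ?_⟩
  · haveI : IsLocallyNoetherian C := LocallyOfFiniteType.isLocallyNoetherian r
    haveI := hn c
    haveI : Ring.KrullDimLE 1 (C.presheaf.stalk c) := (Ring.krullDimLE_iff).mpr hdim.le
    haveI : ValuationRing (C.presheaf.stalk c) :=
      ((tfae_of_isNoetherianRing_of_isLocalRing_of_isDomain (R := C.presheaf.stalk c)).out 3 1
        (a := IsIntegrallyClosed (C.presheaf.stalk c) ∧ ∀ P : Ideal (C.presheaf.stalk c), P ≠ ⊥ →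
          P.IsPrime → P = IsLocalRing.maximalIdeal _)).mp
        ⟨inferInstance, fun P hP0 hP => IsLocalRing.eq_maximalIdeal (hP.isMaximal_of_ne_bot hP0)⟩
    let Sq : ValuativeCommSq f :=
      { R := C.presheaf.stalk c
        K := FractionRing (C.presheaf.stalk c)
        i₁ := k ≫ u
        i₂ := C.fromSpecStalk c ≫ g
        commSq := ⟨by rw [Category.assoc, hu, reassoc_of% hk]⟩ }
    have h : ValuativeCriterion.Uniqueness f := IsSeparated.valuativeCriterion f
    haveI := h Sq
    exact congrArg CommSq.LiftStruct.l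
      (Subsingleton.elim (α := Sq.commSq.LiftStruct) ⟨l, hl₁, hl⟩ ⟨l', hl₂, hl'⟩)
  · haveI : IsLocallyNoetherian Y := LocallyOfFiniteType.isLocallyNoetherian q
    haveI : IsLocallyNoetherian X := LocallyOfFiniteType.isLocallyNoetherian f
    haveI : IsLocallyNoetherian (pullback f f) :=
      LocallyOfFiniteType.isLocallyNoetherian (pullback.fst f f)
    haveI : QuasiSeparated f := by
      haveI : QuasiSeparated (f ≫ terminal.from Y) := by
        rw [terminal.hom_ext (f ≫ terminal.from Y) (terminal.from X)]
        infer_instance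
      exact QuasiSeparated.of_comp f (terminal.from Y)
    refine ⟨IsClosedImmersion.of_isPreimmersion _ ?_⟩
    rw [← Set.image_univ]
    refine Groth.Agent.LimLib.NagataCurve.isClosed_image hS (pullback.fst f f ≫ f ≫ q)
      (pullback.diagonal f) ?_ isClosed_univ
    intro C r _ _ _ hn c hc hdim U hU u g hg hu k hk
    have h1 : U.ι ≫ g ≫ pullback.fst f f = u := by
      rw [← reassoc_of% hu, pullback.diagonal_fst, Category.comp_id]
    have h2 : U.ι ≫ g ≫ pullback.snd f f = u := by
      rw [← reassoc_of% hu, pullback.diagonal_snd, Category.comp_id]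
    have heq : C.fromSpecStalk c ≫ g ≫ pullback.fst f f = C.fromSpecStalk c ≫ g ≫ pullback.snd f f :=
      H C r hn c hc hdim U hU u (g ≫ pullback.fst f f ≫ f) (by simpa using hg)
        (by rw [← reassoc_of% h1]) k hk _ _ (by simp)
        (by rw [← reassoc_of% hk, h1]) (by simp [pullback.condition]) (by rw [← reassoc_of% hk, h2])
    refine ⟨C.fromSpecStalk c ≫ g ≫ pullback.fst f f, pullback.hom_ext ?_ ?_, ?_⟩
    · simp
    · simpa using heq
    · rw [← reassoc_of% hk, h1]

end Groth.Agent.S7450
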