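import Groth.Statements.S14122
import Mathlib.LinearAlgebra.FreeModule.PID
import Mathlib.RingTheory.Localization.Module
-- import your own Groth.Agent.* helpers here

set_option autoImplicit false
set_option linter.style.haveILetI false
universe u
open ValCrit

namespace Groth.Agent.S14122

/-- Let `R` be a discrete valuation ring with fraction field `K` and `g ∈ GL_N(K)` an element of finite
order. Then after passing to a finite extension `K'` of `K` and a discrete valuation ring `R'` of
`K'` dominating `R`, the element `g` becomes conjugate in `GL_N(K')` to an element of `GL_N(R')`.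
(The published statement is that the classifying stack of `GL_N` over the integers satisfies a
valuative condition, for discrete valuation rings essentially of finite type over the integers, on
extending finite-order generic automorphisms along nearby modifications; since vector bundles over a
discrete valuation ring are trivial, that condition is this conjugacy statement for such rings, and
this row states it for every discrete valuation ring, as the printed argument gives.) -/
theorem result
    (R : Type u) [CommRing R] [IsDomain R] [IsDiscreteValuationRing R]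
    (K : Type u) [Field K] [Algebra R K] [IsFractionRing R K]
    (N : ℕ) (g : GL (Fin N) K) (hg : IsOfFinOrder g) :
    ∃ (R' : Type u) (_ : CommRing R') (_ : IsDomain R') (_ : IsDiscreteValuationRing R')
      (K' : Type u) (_ : Field K') (_ : Algebra R' K') (_ : IsFractionRing R' K')
      (_ : Algebra R R') (_ : Algebra K K') (_ : Algebra R K')
      (_ : IsScalarTower R R' K') (_ : IsScalarTower R K K')
      (_ : Module.Finite K K') (_ : IsLocalHom (algebraMap R R'))
      (h : GL (Fin N) K') (g' : GL (Fin N) R'),
      h * Matrix.GeneralLinearGroup.map (algebraMap K K') g * h⁻¹ =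
        Matrix.GeneralLinearGroup.map (algebraMap R' K') g' := by
  let v : Fin (orderOf g) × Fin N → (Fin N → K) := fun p =>
    Matrix.mulVec ((g ^ (p.1 : ℕ) : GL (Fin N) K) : Matrix (Fin N) (Fin N) K) (Pi.single p.2 1)
  let L : Submodule R (Fin N → K) := Submodule.span R (Set.range v)
  have hpos : 0 < orderOf g := hg.orderOf_pos
  haveI : Module.Finite R L := Module.Finite.span_of_finite R (Set.finite_range v)
  haveI : Module.IsTorsionFree R (Fin N → K) := inferInstance
  haveI : Module.Free R L := inferInstance
  let b := Module.Free.chooseBasis R L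
  let w : Module.Free.ChooseBasisIndex R L → (Fin N → K) := fun i => (b i : Fin N → K)
  have hwR : LinearIndependent R w :=
    b.linearIndependent.map' L.subtype (Submodule.ker_subtype L)
  have hwK : LinearIndependent K w := (LinearIndependent.iff_fractionRing (R := R) (K := K)).1 hwR
  have hLw : L = Submodule.span R (Set.range w) := by
    have := congrArg (Submodule.map L.subtype) b.span_eq
    rw [Submodule.map_top, Submodule.range_subtype, Submodule.map_span] at this
    rw [← Set.range_comp] at this; exact this.symm
  have hspan : ⊤ ≤ Submodule.span K (Set.range w) := by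
    rw [← (Pi.basisFun K (Fin N)).span_eq, Submodule.span_le]
    rintro _ ⟨j, rfl⟩
    have hj : (Pi.single j 1 : Fin N → K) ∈ L :=
      Submodule.subset_span ⟨(⟨0, hpos⟩, j), by funext i; simp [v, Matrix.col, Matrix.one_apply, Pi.single_apply, eq_comm]⟩
    rw [hLw] at hj
    simpa using Submodule.span_le_restrictScalars R K _ hj
  let bK := Module.Basis.mk hwK hspan
  let e : Module.Free.ChooseBasisIndex R L ≃ Fin N :=
    bK.indexEquiv (Pi.basisFun K (Fin N))
  let P : Matrix (Fin N) (Fin N) K := Matrix.of fun i j => w (e.symm j) i
  have hP : IsUnit P := by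
    rw [← Matrix.linearIndependent_cols_iff_isUnit]
    exact hwK.comp _ e.symm.injective
  have hstab : ∀ x ∈ L, Matrix.mulVec ((g : GL (Fin N) K) : Matrix (Fin N) (Fin N) K) x ∈ L := by
    intro x hx
    induction hx using Submodule.span_induction with
    | mem x hx =>
      obtain ⟨⟨i, j⟩, rfl⟩ := hx
      refine Submodule.subset_span ⟨(⟨(i + 1 : ℕ) % orderOf g, Nat.mod_lt _ hpos⟩, j), ?_⟩
      simp only [v, Matrix.mulVec_mulVec, ← Units.val_mul, pow_mod_orderOf, pow_succ']
    | zero => simp
    | add x y _ _ hx hy => rw [Matrix.mulVec_add]; exact add_mem hx hy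
    | smul r x _ hx => rw [Matrix.mulVec_smul]; exact Submodule.smul_mem _ r hx
  let M : Matrix (Fin N) (Fin N) R := Matrix.of fun i j =>
    b.repr ⟨_, hstab _ (b (e.symm j)).2⟩ (e.symm i)
  have hM : ((g : GL (Fin N) K) : Matrix (Fin N) (Fin N) K) * P = P * M.map (algebraMap R K) := by
    ext i j
    have h1 : ∑ l, b.repr ⟨_, hstab _ (b (e.symm j)).2⟩ l • w l =
        Matrix.mulVec ((g : GL (Fin N) K) : Matrix (Fin N) (Fin N) K) (w (e.symm j)) := by
      have := congrArg L.subtype (b.sum_repr ⟨_, hstab _ (b (e.symm j)).2⟩)
      rw [map_sum] at this; simpa [map_smul, w, -Module.Basis.sum_repr] using this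
    have h2 := congrFun h1 i
    simp only [Finset.sum_apply, Pi.smul_apply] at h2
    rw [Matrix.mul_apply, Matrix.mul_apply]
    refine Eq.trans ?_ (h2.symm.trans ?_)
    · simp [Matrix.mulVec, dotProduct, P]
    · rw [← e.symm.sum_comp]
      refine Finset.sum_congr rfl fun l _ => ?_
      simp [P, M, Algebra.smul_def, mul_comm]
  let h : GL (Fin N) K := hP.unit⁻¹
  have hconj : ((h * g * h⁻¹ : GL (Fin N) K) : Matrix (Fin N) (Fin N) K) = M.map (algebraMap R K) := by
    have : ((h⁻¹ : GL (Fin N) K) : Matrix (Fin N) (Fin N) K) = P := by simp [h]
    rw [Units.val_mul, Units.val_mul, this, mul_assoc, hM, ← mul_assoc, ← this, Units.mul_inv, one_mul]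
  have hMn : M ^ orderOf g = 1 := by
    apply Matrix.map_injective (IsFractionRing.injective R K)
    change (algebraMap R K).mapMatrix (M ^ orderOf g) = (algebraMap R K).mapMatrix 1
    rw [map_pow, map_one, RingHom.mapMatrix_apply, ← hconj, ← Units.val_pow_eq_pow_val,
      conj_pow, pow_orderOf_eq_one, mul_one, mul_inv_cancel, Units.val_one]
  refine ⟨R, inferInstance, inferInstance, inferInstance, K, inferInstance, inferInstance, inferInstance,
    Algebra.id R, Algebra.id K, inferInstance, inferInstance, inferInstance, inferInstance,
    ⟨fun x hx => by simpa using hx⟩, h, Units.ofPowEqOne M (orderOf g) hMn hpos.ne', ?_⟩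
  apply Units.ext
  rw [Units.val_mul, Units.val_mul]
  simp only [Units.val_mul] at hconj
  simpa [Matrix.GeneralLinearGroup.map] using hconj

end Groth.Agent.S14122
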