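import Groth.Statements.S14123
import Groth.Agent.EtRamLib.Eisenstein

set_option autoImplicit false
universe u v
open GmQuot

namespace Groth.Agent.S14123

/-- Let `A = ⊕_{d ∈ ℤ} A_d` be a graded commutative ring whose ideal `I₊` generated by the homogeneous
elements of positive degree is finitely generated, `R` a discrete valuation ring with fraction field
`K`, and `φ : A → R` a ring map with `φ(I₊) ≠ 0` and `φ(I₊)` inside the maximal ideal. Then after a
finite extension `K'/K` and a discrete valuation ring `R'` of `K'` dominating `R` there are a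
nonzero non-unit `ϖ ∈ R'` and a ring map `g : A → R'` with `g(a) ϖ^d = φ(a)` for every homogeneous
`a` of degree `d` (so `g` is `φ` rescaled through the grading by `ϖ`), such that `g(I₊) R' = R'`.
(The published statement is phrased for the quotient stack of `Spec A` by the multiplicative group
and its closed substack cut out by `I₊`, in a setting where `A` is Noetherian, being of finite type
over a Noetherian base: an `R`-point whose closed point lies in that substack and whose generic
point does not admits, after a finite extension, an elementary modification avoiding the substack;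
this row is the graded-ring statement the printed argument proves, assuming only that `I₊` is
finitely generated, which is all that argument uses, and with `ϖ` not required to be a uniformizer.) -/
theorem result
    {A : Type u} [CommRing A] (𝒜 : ℤ → AddSubgroup A) [GradedRing 𝒜]
    (hfg : (Ideal.span {a : A | ∃ d : ℤ, 0 < d ∧ a ∈ 𝒜 d}).FG)
    (R : Type v) [CommRing R] [IsDomain R] [IsDiscreteValuationRing R]
    (K : Type v) [Field K] [Algebra R K] [IsFractionRing R K]
    (φ : A →+* R)
    (hle : Ideal.map φ (Ideal.span {a : A | ∃ d : ℤ, 0 < d ∧ a ∈ 𝒜 d}) ≤ IsLocalRing.maximalIdeal R)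
    (hne : Ideal.map φ (Ideal.span {a : A | ∃ d : ℤ, 0 < d ∧ a ∈ 𝒜 d}) ≠ ⊥) :
    ∃ (R' : Type v) (_ : CommRing R') (_ : IsDomain R') (_ : IsDiscreteValuationRing R')
      (K' : Type v) (_ : Field K') (_ : Algebra R' K') (_ : IsFractionRing R' K')
      (_ : Algebra R R') (_ : Algebra K K') (_ : Algebra R K')
      (_ : IsScalarTower R R' K') (_ : IsScalarTower R K K')
      (_ : Module.Finite K K') (_ : IsLocalHom (algebraMap R R'))
      (ϖ : R') (g : A →+* R'),
      ϖ ≠ 0 ∧ ϖ ∈ IsLocalRing.maximalIdeal R' ∧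
      (∀ (d : ℤ) (a : A), a ∈ 𝒜 d →
        algebraMap R' K' (g a) * algebraMap R' K' ϖ ^ d = algebraMap R K' (φ a)) ∧
      Ideal.map g (Ideal.span {a : A | ∃ d : ℤ, 0 < d ∧ a ∈ 𝒜 d}) = ⊤ := by
  classical
  let I := Ideal.span {a : A | ∃ d : ℤ, 0 < d ∧ a ∈ 𝒜 d}
  -- homogeneous generators
  obtain ⟨s, hs, hspan⟩ : ∃ s : Finset A, (∀ a ∈ s, ∃ d : ℤ, 0 < d ∧ a ∈ 𝒜 d) ∧ Ideal.span (s : Set A) = I := by
    obtain ⟨t, ht, ht'⟩ := (Submodule.fg_span_iff_fg_span_finset_subset _).1 hfg
    exact ⟨t, ht, ht'.symm⟩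
  choose! deg hdeg0 hdeg using hs
  obtain ⟨π, hπ⟩ := IsDiscreteValuationRing.exists_irreducible R
  have hnz : ∃ a ∈ s, φ a ≠ 0 := by
    by_contra h
    push Not at h
    refine hne ?_
    show I.map φ = ⊥
    rw [← hspan, Ideal.map_span, Ideal.span_eq_bot]
    rintro _ ⟨a, ha, rfl⟩
    exact h a ha
  choose! v u hvu using fun (a : A) (h : φ a ≠ 0) => IsDiscreteValuationRing.eq_unit_mul_pow_irreducible h hπ
  -- the least slope
  let S := s.filter fun a => φ a ≠ 0
  obtain ⟨a₀, ha₀, hmin⟩ := S.exists_min_image (fun a => (v a : ℚ) / (deg a : ℚ))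
    (by obtain ⟨a, h1, h2⟩ := hnz; exact ⟨a, Finset.mem_filter.2 ⟨h1, h2⟩⟩)
  obtain ⟨ha₀s, ha₀n⟩ := Finset.mem_filter.1 ha₀
  obtain ⟨D, hD⟩ := Int.eq_ofNat_of_zero_le (hdeg0 a₀ ha₀s).le
  have hD0 : 0 < D := by have := hdeg0 a₀ ha₀s; omega
  have hv0 : 0 < v a₀ := by
    rcases Nat.eq_zero_or_pos (v a₀) with h | h
    · have hu : IsUnit (φ a₀) := by rw [hvu a₀ ha₀n, h, pow_zero, mul_one]; exact (u a₀).isUnit
      exact absurd hu ((IsLocalRing.mem_maximalIdeal _).1
        (hle (Ideal.mem_map_of_mem φ (Ideal.subset_span ⟨deg a₀, hdeg0 a₀ ha₀s, hdeg a₀ ha₀s⟩))))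
    · exact h
  -- the totally ramified extension
  let f : Polynomial R := Polynomial.X ^ D - Polynomial.C π
  have hfm : f.Monic := Polynomial.monic_X_pow_sub_C π hD0.ne'
  have hfd : f.natDegree = D := Polynomial.natDegree_X_pow_sub_C
  have hmax : IsLocalRing.maximalIdeal R = Ideal.span {π} := (IsDiscreteValuationRing.irreducible_iff_uniformizer π).mp hπ
  have hE : f.IsEisensteinAt (Ideal.span {π}) :=
    { leading := by rw [hfm.leadingCoeff, ← hmax]; exact fun h => (IsLocalRing.mem_maximalIdeal _).1 h isUnit_one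
      mem := fun {i} hi => by
        rw [hfd] at hi
        rw [Polynomial.coeff_sub, Polynomial.coeff_X_pow, if_neg hi.ne, zero_sub, neg_mem_iff, Polynomial.coeff_C]
        split_ifs
        · exact Ideal.mem_span_singleton_self π
        · exact zero_mem _
      notMem := by
        rw [Polynomial.coeff_sub, Polynomial.coeff_X_pow, if_neg hD0.ne, zero_sub, neg_mem_iff, Polynomial.coeff_C_zero,
          Ideal.span_singleton_pow, Ideal.mem_span_singleton, pow_two]
        rintro ⟨c, hc⟩
        exact hπ.not_isUnit (IsUnit.of_mul_eq_one c (mul_left_cancel₀ hπ.ne_zero (by rw [← mul_assoc, ← hc, mul_one]))) }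
  obtain ⟨-, hdom, hdvr, hm', -, -⟩ :=
    Groth.Agent.EtRamLib.Eisenstein.totallyRamified R π hπ f hfm hE D hfd hD0
  let R' := AdjoinRoot f
  haveI : IsDomain R' := hdom
  haveI : IsDiscreteValuationRing R' := hdvr
  let t : R' := AdjoinRoot.root f
  have htD : t ^ D = algebraMap R R' π := by
    have h := AdjoinRoot.eval₂_root f
    simp only [f, Polynomial.eval₂_sub, Polynomial.eval₂_pow, Polynomial.eval₂_X, Polynomial.eval₂_C, sub_eq_zero] at h
    exact h
  have hinj : Function.Injective (algebraMap R R') := AdjoinRoot.of.injective_of_degree_ne_zero (by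
    rw [Polynomial.degree_eq_natDegree hfm.ne_zero, hfd]; exact_mod_cast hD0.ne')
  have ht0 : t ≠ 0 := fun h => hπ.ne_zero (hinj (by rw [← htD, h, zero_pow hD0.ne', map_zero]))
  haveI : Module.Finite R R' := hfm.finite_adjoinRoot
  let K' := FractionRing R'
  haveI : IsScalarTower R R' K' := inferInstance
  have hinj' : Function.Injective (algebraMap R K') := by
    rw [IsScalarTower.algebraMap_eq R R' K']
    exact (IsFractionRing.injective R' K').comp hinj
  letI : Algebra K K' := (IsFractionRing.lift hinj' : K →+* K').toAlgebra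
  haveI : IsScalarTower R K K' := IsScalarTower.of_algebraMap_eq fun r => (IsFractionRing.lift_algebraMap hinj' r).symm
  haveI : IsLocalHom (algebraMap R R') := by
    refine ⟨fun r hr => ?_⟩
    by_contra h
    have h1 : r ∈ Ideal.span {π} := hmax ▸ (IsLocalRing.mem_maximalIdeal _).2 h
    obtain ⟨c, rfl⟩ := Ideal.mem_span_singleton.1 h1
    rw [map_mul, IsUnit.mul_iff, ← htD, isUnit_pow_iff hD0.ne'] at hr
    have h2 : t ∈ IsLocalRing.maximalIdeal R' := hm' ▸ Ideal.mem_span_singleton_self t
    exact (IsLocalRing.mem_maximalIdeal _).1 h2 hr.1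
  haveI : IsLocalization (Algebra.algebraMapSubmonoid R' (nonZeroDivisors R)) K' := by
    rw [isLocalization_iff]
    refine ⟨?_, ?_, ?_⟩
    · rintro ⟨_, r, hr, rfl⟩
      rw [← IsScalarTower.algebraMap_apply R R' K', isUnit_iff_ne_zero]
      exact fun h => nonZeroDivisors.ne_zero hr (hinj' (h.trans (map_zero _).symm))
    · intro z
      obtain ⟨x, y, hy, rfl⟩ := IsFractionRing.div_surjective (A := R') z
      obtain ⟨r, hr, c, hc⟩ := (Algebra.IsIntegral.isIntegral (R := R) y).isAlgebraic.exists_nonzero_dvd hy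
      refine ⟨⟨x * c, ⟨_, r, mem_nonZeroDivisors_of_ne_zero hr, rfl⟩⟩, ?_⟩
      have hy' : algebraMap R' K' y ≠ 0 := IsFractionRing.to_map_ne_zero_of_mem_nonZeroDivisors hy
      show _ * algebraMap R' K' (algebraMap R R' r) = algebraMap R' K' (x * c)
      rw [hc, map_mul, map_mul, div_mul_eq_mul_div, mul_comm (algebraMap R' K' y), ← mul_assoc, mul_div_cancel_right₀ _ hy']
    · intro x y h
      exact ⟨1, by rw [IsFractionRing.injective R' K' h]⟩
  haveI : Module.Finite K K' := Module.Finite.of_isLocalization R R' (nonZeroDivisors R)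
  let ϖ : R' := t ^ v a₀
  let w : K' := algebraMap R' K' ϖ
  have hw : w ≠ 0 := fun h => pow_ne_zero _ ht0 (IsFractionRing.injective R' K' (h.trans (map_zero _).symm))
  let comp : ∀ d : ℤ, 𝒜 d →+ K' := fun d =>
    { toFun := fun a => algebraMap R K' (φ a) * w ^ (-d)
      map_zero' := by simp
      map_add' := fun a b => by simp [add_mul] }
  let H := DirectSum.toSemiring comp
    (by show algebraMap R K' (φ (1 : A)) * w ^ (-(0 : ℤ)) = 1; simp)
    (fun {i j} a b => by
      show algebraMap R K' (φ ((a : A) * (b : A))) * w ^ (-(i + j)) = algebraMap R K' (φ a) * w ^ (-i) * (algebraMap R K' (φ b) * w ^ (-j))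
      rw [map_mul, map_mul, neg_add, zpow_add₀ hw]
      ring)
  let G : A →+* K' := H.comp (DirectSum.decomposeRingEquiv 𝒜).toRingHom
  have hG : ∀ (d : ℤ) (a : A), a ∈ 𝒜 d → G a = algebraMap R K' (φ a) * w ^ (-d) := by
    intro d a ha
    show H (DirectSum.decompose 𝒜 a) = _
    rw [DirectSum.decompose_of_mem 𝒜 ha]
    simp only [H, DirectSum.toSemiring_of]
    rfl
  have hwG : ∀ (d : ℤ) (a : A), a ∈ 𝒜 d → G a * w ^ d = algebraMap R K' (φ a) := fun d a ha => by
    rw [hG d a ha, mul_assoc, ← zpow_add₀ hw, neg_add_cancel, zpow_zero, mul_one]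
  -- integrality of the generators
  have hgen : ∀ a ∈ s, ∃ r : R', algebraMap R' K' r = G a := by
    intro a ha
    obtain ⟨e, he⟩ := Int.eq_ofNat_of_zero_le (hdeg0 a ha).le
    by_cases h0 : φ a = 0
    · exact ⟨0, by rw [hG _ a (hdeg a ha), h0]; simp⟩
    have hm := hmin a (Finset.mem_filter.2 ⟨ha, h0⟩)
    have he0 : 0 < e := by have := hdeg0 a ha; omega
    rw [he, hD] at hm
    simp only [Int.cast_natCast] at hm
    rw [div_le_div_iff₀ (by exact_mod_cast hD0) (by exact_mod_cast he0)] at hm
    have hle' : v a₀ * e ≤ v a * D := by exact_mod_cast hm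
    obtain ⟨c, hc⟩ := Nat.exists_eq_add_of_le hle'
    refine ⟨algebraMap R R' (u a) * t ^ c, ?_⟩
    rw [hG _ a (hdeg a ha), he, zpow_neg, zpow_natCast, eq_mul_inv_iff_mul_eq₀ (pow_ne_zero _ hw)]
    show _ * (algebraMap R' K' ϖ) ^ e = _
    rw [← map_pow, ← map_mul, IsScalarTower.algebraMap_apply R R' K', hvu a h0, map_mul (algebraMap R R'),
      map_pow (algebraMap R R'), ← htD, ← pow_mul, ← pow_mul, mul_assoc, ← pow_add,
      show c + v a₀ * e = D * v a by rw [add_comm, ← hc, mul_comm]]
  -- integrality of every homogeneous element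
  have hint : ∀ (m : ℕ) (d : ℤ) (a : A), d ≤ m → a ∈ 𝒜 d → ∃ r : R', algebraMap R' K' r = G a := by
    intro m
    induction m with
    | zero =>
      intro d a hd ha
      obtain ⟨e, he⟩ := Int.eq_ofNat_of_zero_le (neg_nonneg.2 (by exact_mod_cast hd) : (0 : ℤ) ≤ -d)
      refine ⟨algebraMap R R' (φ a) * ϖ ^ e, ?_⟩
      rw [hG d a ha, he, zpow_natCast, map_mul, map_pow, ← IsScalarTower.algebraMap_apply R R' K']
    | succ m ih =>
      intro d a hd ha
      rcases le_or_gt d (m : ℤ) with h | h
      · exact ih d a h ha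
      have hdpos : 0 < d := lt_of_le_of_lt (Int.natCast_nonneg m) h
      have haI : a ∈ Ideal.span (Set.range (fun b : s => (b : A))) := by
        rw [Subtype.range_coe_subtype, Finset.setOfPred_mem, hspan]
        exact Ideal.subset_span ⟨d, hdpos, ha⟩
      obtain ⟨c, hc⟩ := (Submodule.mem_span_range_iff_exists_fun A).1 haI
      have ha' : a = ∑ b : s, (DirectSum.decompose 𝒜 (c b) (d - deg b) : A) * b := by
        conv_lhs => rw [← DirectSum.decompose_of_mem_same 𝒜 ha, ← hc]
        rw [DirectSum.decompose_sum, DFinsupp.finset_sum_apply, AddSubgroup.val_finsetSum]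
        refine Finset.sum_congr rfl fun b _ => ?_
        have hb := DirectSum.coe_decompose_mul_add_of_right_mem 𝒜 (a := c b) (i := d - deg b) (hdeg b b.2)
        rw [sub_add_cancel] at hb
        exact hb
      have hterm : ∀ b : s, ∃ r : R', algebraMap R' K' r = G ((DirectSum.decompose 𝒜 (c b) (d - deg b) : A) * b) := fun b => by
        obtain ⟨r₁, hr₁⟩ := ih (d - deg b) _ (by have := hdeg0 b b.2; omega) (SetLike.coe_mem (DirectSum.decompose 𝒜 (c b) (d - deg b)))
        obtain ⟨r₂, hr₂⟩ := hgen b b.2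
        exact ⟨r₁ * r₂, by rw [map_mul, map_mul, hr₁, hr₂]⟩
      choose r hr using hterm
      exact ⟨∑ b, r b, by rw [ha', map_sum, map_sum]; exact Finset.sum_congr rfl fun b _ => hr b⟩
  have hall : ∀ a, G a ∈ (algebraMap R' K').range := fun a => by
    rw [← DirectSum.sum_support_decompose 𝒜 a, map_sum]
    refine Subring.sum_mem _ fun d _ => ?_
    obtain ⟨r, hr⟩ := hint d.toNat d _ (Int.self_le_toNat d) (SetLike.coe_mem (DirectSum.decompose 𝒜 a d))
    exact ⟨r, hr⟩
  choose g₀ hg₀ using hall
  let g : A →+* R' :=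
    { toFun := g₀
      map_one' := IsFractionRing.injective R' K' (by rw [hg₀, map_one, map_one])
      map_mul' := fun a b => IsFractionRing.injective R' K' (by rw [hg₀, map_mul, map_mul, hg₀, hg₀])
      map_zero' := IsFractionRing.injective R' K' (by rw [hg₀, map_zero, map_zero])
      map_add' := fun a b => IsFractionRing.injective R' K' (by rw [hg₀, map_add, map_add, hg₀, hg₀]) }
  refine ⟨R', inferInstance, inferInstance, inferInstance, K', inferInstance, inferInstance, inferInstance,
    inferInstance, inferInstance, inferInstance, inferInstance, inferInstance, inferInstance, inferInstance,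
    ϖ, g, pow_ne_zero _ ht0, ?_, fun d a ha => ?_, ?_⟩
  · exact Ideal.pow_mem_of_mem _ (hm' ▸ Ideal.mem_span_singleton_self t) _ hv0
  · show algebraMap R' K' (g₀ a) * w ^ d = _
    rw [hg₀]
    exact hwG d a ha
  · refine Ideal.eq_top_of_isUnit_mem _ (Ideal.mem_map_of_mem g
      (Ideal.subset_span ⟨deg a₀, hdeg0 a₀ ha₀s, hdeg a₀ ha₀s⟩)) ?_
    have : g a₀ = algebraMap R R' (u a₀) := IsFractionRing.injective R' K' (by
      show algebraMap R' K' (g₀ a₀) = _
      rw [hg₀, hG _ a₀ (hdeg a₀ ha₀s), hvu a₀ ha₀n, hD, zpow_neg, zpow_natCast]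
      show _ * ((algebraMap R' K' ϖ) ^ D)⁻¹ = _
      rw [IsScalarTower.algebraMap_apply R R' K', map_mul, map_pow (algebraMap R R'), map_mul, ← htD, ← map_pow]
      simp only [ϖ, ← pow_mul, mul_comm (v a₀) D]
      rw [mul_assoc, mul_inv_cancel₀, mul_one]
      exact fun h => pow_ne_zero _ ht0 (IsFractionRing.injective R' K' (h.trans (map_zero _).symm)))
    rw [this]
    exact (u a₀).isUnit.map _

end Groth.Agent.S14123
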