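import Groth.Statements.S1413
import Groth.Agent.Thick.FlatCancel

set_option autoImplicit false
universe u
open FlatMor

namespace Groth.Agent.S1413

open AlgebraicGeometry CategoryTheory Limits in
/-- Let X → Y → Z be morphisms with X → Y flat and surjective and with the diagonal of X over Z flat.
Then the diagonal of Y over Z is flat. -/
theorem result {X Y Z : Scheme.{u}} (f : X ⟶ Y) (g : Y ⟶ Z) [Flat f] [Surjective f] [Flat (pullback.diagonal (f ≫ g))] :
    Flat (pullback.diagonal g) := by
  have e : f ≫ pullback.diagonal g = pullback.diagonal (f ≫ g) ≫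
      pullback.map (f ≫ g) (f ≫ g) g g f f (𝟙 _) (Category.comp_id _) (Category.comp_id _) := by
    refine pullback.hom_ext ?_ ?_
    · rw [Category.assoc, pullback.diagonal_fst, Category.comp_id, Category.assoc,
        pullback.map, pullback.lift_fst, pullback.diagonal_fst_assoc]
    · rw [Category.assoc, pullback.diagonal_snd, Category.comp_id, Category.assoc,
        pullback.map, pullback.lift_snd, pullback.diagonal_snd_assoc]
  have : Flat (pullback.map (f ≫ g) (f ≫ g) g g f f (𝟙 _) (Category.comp_id _) (Category.comp_id _)) :=
    MorphismProperty.pullbackMap (P := @Flat) ‹Flat f› ‹Flat f› rfl rfl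
  have : Flat (f ≫ pullback.diagonal g) := e ▸ inferInstance
  exact Groth.Agent.Thick.FlatCancel.flat_of_comp f _

end Groth.Agent.S1413
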