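import Groth.Statements.S14139
import Groth.Agent.VBLib.Slope

set_option autoImplicit false
universe u
open CategoryTheory CategoryTheory.Limits AlgebraicGeometry
open VBCurve

namespace Groth.Agent.S14139

/-- Let C be a smooth proper geometrically connected curve over a field k (proper, smooth and
geometrically connected over k, of dimension one), and 0 → E₁ → E → E₂ → 0 a short exact sequence of
finite locally free O_C-modules of ranks r₁, r, r₂ ≥ 1 whose slopes are all equal: deg E₁ · r = deg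
E · r₁ and deg E₂ · r = deg E · r₂, the degree of a rank-n locally free module being χ − n·χ(O_C).
Then E is semistable (deg G · r ≤ deg E · r' for every finite locally free submodule G of E of rank
r' ≥ 1) if and only if both E₁ and E₂ are semistable in the same sense. -/
theorem result (k : Type u) [Field k] (X : Scheme.{u}) [X.Over (Spec (CommRingCat.of k))]
    [IsProper (X ↘ Spec (CommRingCat.of k))] [Smooth (X ↘ Spec (CommRingCat.of k))]
    [GeometricallyConnected (X ↘ Spec (CommRingCat.of k))] (hdim : topologicalKrullDim ↥X = 1)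
    (T : ShortComplex X.Modules) (hT : T.ShortExact)
    (r₁ r r₂ : ℕ) (hr₁ : 0 < r₁) (hr : 0 < r) (hr₂ : 0 < r₂)
    (hE₁ : FlatMod.IsFinLocFreeOfRank r₁ T.X₁) (hE : FlatMod.IsFinLocFreeOfRank r T.X₂) (hE₂ : FlatMod.IsFinLocFreeOfRank r₂ T.X₃)
    (hμ₁ : Curv2.deg k X T.X₁ r₁ * (r : ℤ) = Curv2.deg k X T.X₂ r * (r₁ : ℤ))
    (hμ₂ : Curv2.deg k X T.X₃ r₂ * (r : ℤ) = Curv2.deg k X T.X₂ r * (r₂ : ℤ)) :
    (∀ (G : X.Modules) (r' : ℕ) (i : G ⟶ T.X₂), Mono i → 0 < r' → FlatMod.IsFinLocFreeOfRank r' G →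
      Curv2.deg k X G r' * (r : ℤ) ≤ Curv2.deg k X T.X₂ r * (r' : ℤ)) ↔
      ((∀ (G : X.Modules) (r' : ℕ) (i : G ⟶ T.X₁), Mono i → 0 < r' → FlatMod.IsFinLocFreeOfRank r' G →
      Curv2.deg k X G r' * (r₁ : ℤ) ≤ Curv2.deg k X T.X₁ r₁ * (r' : ℤ)) ∧
       (∀ (G : X.Modules) (r' : ℕ) (i : G ⟶ T.X₃), Mono i → 0 < r' → FlatMod.IsFinLocFreeOfRank r' G →
      Curv2.deg k X G r' * (r₂ : ℤ) ≤ Curv2.deg k X T.X₃ r₂ * (r' : ℤ))) := by
  haveI := CurveCoh.isIntegral_of_smooth k X
  have hX : VBLib.GoodCurve k X := VBLib.goodCurve_of_smooth hdim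
  haveI := hT.mono_f
  haveI := hT.epi_g
  have c1 := VBLib.isCoh_of_ofRank hE₁
  have c2 := VBLib.isCoh_of_ofRank hE
  have c3 := VBLib.isCoh_of_ofRank hE₂
  have hrk := VBLib.rk_add hT c2
  have hdg := hX.dg_add hT c1 c2 c3
  rw [VBLib.rk_eq hE₁, VBLib.rk_eq hE, VBLib.rk_eq hE₂] at hrk
  rw [← VBLib.dg_eq hE₁, ← VBLib.dg_eq hE, ← VBLib.dg_eq hE₂] at hdg
  set d₁ := Curv2.deg k X T.X₁ r₁
  set d := Curv2.deg k X T.X₂ r
  set d₂ := Curv2.deg k X T.X₃ r₂
  have hr0 : (0 : ℤ) < r := by exact_mod_cast hr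
  constructor
  · intro hss
    refine ⟨fun G r' i hi h' hG => ?_, fun G r' i hi h' hG => ?_⟩
    · haveI := hi
      have h := mul_le_mul_of_nonneg_right (hss G r' (i ≫ T.f) (mono_comp i T.f) h' hG)
        (Int.natCast_nonneg r₁)
      refine le_of_mul_le_mul_right ?_ hr0
      have h2 := congrArg (fun z : ℤ => z * (r' : ℤ)) hμ₁
      linarith
    · haveI := hi
      obtain ⟨P, j, hj, hP, p1, p2⟩ := hX.exists_preimage T.g i (VBLib.isFinLocFree_of_ofRank hE) c3
        (VBLib.isCoh_of_ofRank hG)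
      rw [← VBLib.dg_eq hE, ← VBLib.dg_eq hE₂, ← VBLib.dg_eq hG] at p1
      rw [VBLib.rk_eq hE, VBLib.rk_eq hE₂, VBLib.rk_eq hG] at p2
      have hP' : VBLib.rk P = r₁ + r' := by omega
      have hpd : VBLib.dg k P = d₁ + Curv2.deg k X G r' := by omega
      have h := hss P (VBLib.rk P) j hj (by omega) (VBLib.ofRank_rk hP)
      change VBLib.dg k P * (r : ℤ) ≤ d * (VBLib.rk P : ℤ) at h
      rw [hpd, hP', Nat.cast_add] at h
      have h3 := mul_le_mul_of_nonneg_right
        (show Curv2.deg k X G r' * (r : ℤ) ≤ d * (r' : ℤ) by linarith) (Int.natCast_nonneg r₂)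
      refine le_of_mul_le_mul_right ?_ hr0
      have h2 := congrArg (fun z : ℤ => z * (r' : ℤ)) hμ₂
      linarith
  · rintro ⟨h₁, h₂⟩ G r' i hi h' hG
    haveI := hi
    haveI := hX.isLocallyNoetherian
    have hGc := VBLib.isCoh_of_ofRank hG
    have hK := VBLib.isFinLocFree_kernel hX.pid (i ≫ T.g) (VBLib.isFinLocFree_of_ofRank hG) c3
    have hI := VBLib.isFinLocFree_image hX.pid (i ≫ T.g) hGc (VBLib.isFinLocFree_of_ofRank hE₂)
    obtain ⟨e1, e2⟩ := hX.dg_kernel_image (i ≫ T.g) hGc c3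
    rw [← VBLib.dg_eq hG] at e1
    rw [VBLib.rk_eq hG] at e2
    let l := hT.exact.lift (kernel.ι (i ≫ T.g) ≫ i) (by rw [Category.assoc, kernel.condition])
    haveI : Mono l := by
      haveI : Mono (l ≫ T.f) := by rw [ShortComplex.Exact.lift_f]; infer_instance
      exact mono_of_mono l T.f
    have b1 : VBLib.dg k (kernel (i ≫ T.g)) * (r : ℤ) ≤ d * (VBLib.rk (kernel (i ≫ T.g)) : ℤ) := by
      rcases Nat.eq_zero_or_pos (VBLib.rk (kernel (i ≫ T.g))) with h0 | hpos
      · rw [h0, hX.dg_eq_zero_of_isZero (VBLib.isCoh_of_isFinLocFree hK)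
          (VBLib.isZero_of_rk_eq_zero hK h0)]
        simp
      · have h := mul_le_mul_of_nonneg_right (h₁ _ _ l inferInstance hpos (VBLib.ofRank_rk hK))
          (Int.natCast_nonneg r)
        refine le_of_mul_le_mul_right ?_ (Int.natCast_pos.mpr hr₁)
        have h2 := congrArg (fun z : ℤ => z * (VBLib.rk (kernel (i ≫ T.g)) : ℤ)) hμ₁
        simp only [VBLib.dg] at h ⊢
        linarith
    have b2 : VBLib.dg k (Abelian.image (i ≫ T.g)) * (r : ℤ) ≤
        d * (VBLib.rk (Abelian.image (i ≫ T.g)) : ℤ) := by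
      rcases Nat.eq_zero_or_pos (VBLib.rk (Abelian.image (i ≫ T.g))) with h0 | hpos
      · rw [h0, hX.dg_eq_zero_of_isZero (VBLib.isCoh_of_isFinLocFree hI)
          (VBLib.isZero_of_rk_eq_zero hI h0)]
        simp
      · have h := mul_le_mul_of_nonneg_right
          (h₂ _ _ (Abelian.image.ι (i ≫ T.g)) inferInstance hpos (VBLib.ofRank_rk hI))
          (Int.natCast_nonneg r)
        refine le_of_mul_le_mul_right ?_ (Int.natCast_pos.mpr hr₂)
        have h2 := congrArg (fun z : ℤ => z * (VBLib.rk (Abelian.image (i ≫ T.g)) : ℤ)) hμ₂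
        simp only [VBLib.dg] at h ⊢
        linarith
    rw [e1, e2]
    push_cast
    linarith

end Groth.Agent.S14139
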