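import Groth.Statements.S14140
import Groth.Agent.AbVarLib.MumfordSurj
import Groth.Agent.AbVarLib.KunnethField
import Groth.Agent.AbVarLib.KerAmple
-- import your own Groth.Agent.* helpers here

set_option autoImplicit false
universe u
open CategoryTheory CategoryTheory.Limits MonoidalCategory CartesianMonoidalCategory MonObj GrpObj AlgebraicGeometry
open AbVar

namespace Groth.Agent.S14140

/-- Let k be an algebraically closed field, A an abelian variety over k (a proper smooth k-group scheme
with geometrically connected fibres), L an ample invertible O_A-module with an inverse L' (L ⊗ L' ≅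
O_A), and M an invertible O_A-module in Pic⁰(A), meaning that t_x^*M ≅ M for every k-rational point
x of A, where t_x : A → A is the translation by x (the product of the identity and the constant map
x in the group Hom(A, A)). Then there is a k-rational point x of A with M ≅ t_x^*L ⊗ L'. -/
theorem result (k : Type u) [Field k] [IsAlgClosed k]
    (A : Over (Spec (CommRingCat.of k))) [GrpObj A] [IsProper A.hom] [Smooth A.hom] [GeometricallyConnected A.hom]
    (L L' : A.left.Modules) (hLa : CohB1.IsAmple L) (hLL' : Nonempty (CohB1.tensorMod L L' ≅ Coh.structureModule A.left))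
    (M : A.left.Modules) (hM : PicF.IsInvertible M)
    (hM0 : ∀ x : 𝟙_ (Over (Spec (CommRingCat.of k))) ⟶ A, Nonempty ((Scheme.Modules.pullback (𝟙 A * (toUnit A ≫ x)).left).obj M ≅ M)) :
    ∃ x : 𝟙_ (Over (Spec (CommRingCat.of k))) ⟶ A,
      Nonempty (M ≅ CohB1.tensorMod ((Scheme.Modules.pullback (𝟙 A * (toUnit A ≫ x)).left).obj L) L') := by
  open Groth.Agent in
  open scoped Groth.Agent.PicLaw in
  exact by
    have : GeometricallyIntegral A.hom := AbVarLib.Basics.geometricallyIntegral A
    have hlk := AbVarLib.KerAmple.finite_ker hLa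
    have hp := (AbVarLib.TransInv.iff_primitive (A := A) (PicGrp.cls M hM)).mp fun a =>
      ((PicLaw.cls_pullback _ hM).symm.trans ((PicLaw.iso_iff (PicLoc.isInvertible_pullback _ hM) hM).mp (hM0 a)))
    obtain ⟨a, ha⟩ := AbVarLib.MumfordSurj.exists_phi (PicGrp.cls L hLa.1) (AbVarLib.KunnethField.kunneth A)
      (hlk.subset fun a ha => show AbVarLib.Defect.pair _ _ _ = 1 from
        (AbVarLib.MumfordSurj.pair_const _ a).trans (div_eq_one.mpr ha)) (PicGrp.cls M hM) hp
    have hL' : PicF.IsInvertible L' := PicLaw.isInvertible_of_tensor_left hLa.1 (PicCl.isInvertible_of_iso hLL'.some.symm (PicLoc.isInvertible_structureModule _))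
    have h1 := (PicGrp.cls_eq_one_iff (PicLaw.isInvertible_tensor hLa.1 hL')).mpr hLL'
    rw [PicLaw.cls_tensor hLa.1 hL'] at h1
    refine ⟨a, (PicLaw.iso_iff hM (PicLaw.isInvertible_tensor (PicLoc.isInvertible_pullback _ hLa.1) hL')).mpr ?_⟩
    rw [PicLaw.cls_tensor (PicLoc.isInvertible_pullback _ hLa.1) hL', PicLaw.cls_pullback _ hLa.1]
    show _ = PicLaw.Mumford.op _ _ * _
    rw [ha, _root_.mul_assoc, h1, _root_.mul_one]

end Groth.Agent.S14140
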