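import Groth.Statements.S14141
import Groth.Agent.GITLib.RigidProper
-- import your own Groth.Agent.* helpers here

set_option autoImplicit false
universe u
open CategoryTheory CategoryTheory.Limits AlgebraicGeometry
open AbSch

namespace Groth.Agent.S14141

/-- Let S be a connected Noetherian scheme, f : X → S a proper flat morphism such that for every point s
of S the natural map κ(s) → H^0(X_s, O_{X_s}) on global sections of the fibre is bijective, g : Y →
S a separated morphism and π : X → Y a morphism over S. If for some point s of S the restriction of
π to the fibre X_s is constant, i.e. factors through the projection X_s → Spec κ(s), then π is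
constant over all of S: it factors as f followed by a section S → Y of g. (The published statement
is for arbitrary Noetherian S with the conclusion over the connected component of s; this row
assumes S connected, the reduction made in the first line of the printed proof.) -/
theorem result {X Y S : Scheme.{u}} [IsNoetherian S] [ConnectedSpace ↥S]
    (f : X ⟶ S) [IsProper f] [Flat f]
    (hfib : ∀ s : ↥S, Function.Bijective (algebraMap (S.residueField s) Γ(f.fiber s, ⊤)))
    (g : Y ⟶ S) [IsSeparated g] (π : X ⟶ Y) (hπ : π ≫ g = f) (s : ↥S)
    (hs : ∃ y : Spec (S.residueField s) ⟶ Y, f.fiberι s ≫ π = f.fiberToSpecResidueField s ≫ y) :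
    ∃ σ : S ⟶ Y, σ ≫ g = 𝟙 S ∧ π = f ≫ σ := by
  open Groth.Agent.GITLib.Rigid in
  exact (by
    have h0 : ConstFibres f := fun t => by
      have h1 : Function.Bijective (Scheme.ΓSpecIso (S.residueField t)).inv :=
        ConcreteCategory.bijective_of_isIso _
      exact (Function.Bijective.of_comp_iff _ h1).1 (hfib t)
    have : IsLocallyNoetherian X := LocallyOfFiniteType.isLocallyNoetherian f
    obtain ⟨y, hy⟩ := hs
    have hcol : Collapsed f π s := by
      intro x x' hx hx'
      have key : ∀ x, f.base x = s → π.base x = y.base (IsLocalRing.closedPoint _) := by
        intro x hx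
        obtain ⟨z, hz, -⟩ := Scheme.Pullback.exists_preimage_pullback (f := f) (g := S.fromSpecResidueField s) x
          (IsLocalRing.closedPoint _) (by rw [hx]; exact (Scheme.fromSpecResidueField_apply _ _).symm)
        have h1 : (f.fiberι s ≫ π).base z = (f.fiberToSpecResidueField s ≫ y).base z := by rw [hy]
        rw [Scheme.Hom.comp_apply, Scheme.Hom.comp_apply, Scheme.Hom.fiberToSpecResidueField_apply] at h1
        rw [← hz]
        exact h1
      rw [key x hx, key x' hx']
    exact rigidity f g π hπ h0 s hcol)

end Groth.Agent.S14141
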