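import Groth.Statements.S14143
import Groth.Agent.AbVarLib.MumfordSurj
import Groth.Agent.AbVarLib.KunnethField
-- import your own Groth.Agent.* helpers here

set_option autoImplicit false
universe u
open CategoryTheory CategoryTheory.Limits MonoidalCategory CartesianMonoidalCategory MonObj GrpObj AlgebraicGeometry
open AbVar

namespace Groth.Agent.S14143

/-- Let k be an algebraically closed field, A an abelian variety over k (a proper smooth k-group scheme
with geometrically connected fibres), L an invertible O_A-module which is non-degenerate, i.e. only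
finitely many k-rational points x satisfy t_x^*L ≅ L (t_x the translation by x), M an invertible
O_A-module lying in Pic⁰(A), i.e. t_x^*M ≅ M for every k-rational point x, and L' an O_A-module
isomorphic to L ⊗ M. Then L' ≅ t_x^*L for some k-rational point x of A; consequently L and L' have
isomorphic cohomology and equal index. (The published statement assumes L and L' algebraically
equivalent non-degenerate line bundles and concludes equality of indices; its proof reduces to L' ⊗
L^{-1} ∈ Pic⁰ and proves the displayed isomorphism, which is what is stated here.) -/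
theorem result (k : Type u) [Field k] [IsAlgClosed k]
    (A : Over (Spec (CommRingCat.of k))) [GrpObj A] [IsProper A.hom] [Smooth A.hom] [GeometricallyConnected A.hom]
    (L : A.left.Modules) (hL : PicF.IsInvertible L) (hnd : (Set.Finite {x : 𝟙_ (Over (Spec (CommRingCat.of k))) ⟶ A |
      Nonempty ((Scheme.Modules.pullback (𝟙 A * (toUnit A ≫ x)).left).obj L ≅ L)}))
    (M : A.left.Modules) (hM : PicF.IsInvertible M)
    (hM0 : ∀ x : 𝟙_ (Over (Spec (CommRingCat.of k))) ⟶ A, Nonempty ((Scheme.Modules.pullback (𝟙 A * (toUnit A ≫ x)).left).obj M ≅ M))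
    (L' : A.left.Modules) (hL' : Nonempty (L' ≅ CohB1.tensorMod L M)) :
    ∃ x : 𝟙_ (Over (Spec (CommRingCat.of k))) ⟶ A, Nonempty (L' ≅ (Scheme.Modules.pullback (𝟙 A * (toUnit A ≫ x)).left).obj L) := by
  open Groth.Agent in
  open scoped Groth.Agent.PicLaw in
  exact by
    have : GeometricallyIntegral A.hom := AbVarLib.Basics.geometricallyIntegral A
    have hp := (AbVarLib.TransInv.iff_primitive (A := A) (PicGrp.cls M hM)).mp fun a =>
      (PicLaw.cls_pullback _ hM).symm.trans ((PicLaw.iso_iff (PicLoc.isInvertible_pullback _ hM) hM).mp (hM0 a))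
    obtain ⟨a, ha⟩ := AbVarLib.MumfordSurj.exists_phi (PicGrp.cls L hL) (AbVarLib.KunnethField.kunneth A)
      (hnd.subset fun a ha => (PicLaw.iso_iff (PicLoc.isInvertible_pullback _ hL) hL).mpr
        ((PicLaw.cls_pullback _ hL).trans ha)) (PicGrp.cls M hM) hp
    obtain ⟨φ⟩ := hL'
    refine ⟨a, ⟨φ ≪≫ ((PicLaw.iso_iff (PicLaw.isInvertible_tensor hL hM) (PicLoc.isInvertible_pullback _ hL)).mpr ?_).some⟩⟩
    rw [PicLaw.cls_tensor hL hM, PicLaw.cls_pullback _ hL, _root_.mul_comm]
    exact ha.symm

end Groth.Agent.S14143
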