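import Groth.Statements.S1415
import Groth.Agent.Wt.Bound
-- import your own Groth.Agent.* helpers here

set_option autoImplicit false
universe u
open FlatMor

namespace Groth.Agent.S1415

open AlgebraicGeometry CategoryTheory Limits in
/-- Let f : X → Y be locally quasi-finite. Then (1) for every y the number of irreducible components and
the number of connected components of the geometric fibre over y agree, and (2) if X is
quasi-compact these numbers are bounded by some natural number. -/
theorem result {X Y : Scheme.{u}} (f : X ⟶ Y) [LocallyQuasiFinite f] [LocallyOfFiniteType f] :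
    (∀ y : Y, MoreMor.nGeomIrredComp f y = MoreMor.nGeomConnComp f y) ∧
      (CompactSpace ↑X → ∃ d : ℕ, ∀ y : Y, MoreMor.nGeomConnComp f y ≤ d) := by
  have hdisc : ∀ y : Y, DiscreteTopology ↥(MoreMor.geomFiber f y) := fun y => by
    have : LocallyQuasiFinite (f.fiberToSpecResidueField y) :=
      inferInstanceAs (LocallyQuasiFinite (pullback.snd f (Y.fromSpecResidueField y)))
    let q := pullback.snd (f.fiberToSpecResidueField y)
      (Spec.map (CommRingCat.ofHom (algebraMap (Y.residueField y) (SeparableClosure (Y.residueField y)))))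
    let c : ↥(Spec (CommRingCat.of (SeparableClosure (Y.residueField y)))) :=
      IsLocalRing.closedPoint (SeparableClosure (Y.residueField y))
    have h := Scheme.Hom.isDiscrete_preimage_singleton q c
    have hu : q ⁻¹' {c} = Set.univ := Set.eq_univ_of_forall fun p =>
      Subsingleton.elim (α := ↥(Spec (CommRingCat.of (SeparableClosure (Y.residueField y))))) _ _
    rw [hu] at h
    exact isDiscrete_univ_iff.mp h
  have hconn : ∀ y : Y, MoreMor.nGeomConnComp f y = ENat.card ↥(MoreMor.geomFiber f y) := fun y => by
    have := hdisc y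
    refine (ENat.card_congr (Equiv.ofBijective ConnectedComponents.mk
      ⟨fun a b h => ?_, ConnectedComponents.surjective_coe⟩)).symm
    have h' := connectedComponent_eq_iff_mem.mp (ConnectedComponents.coe_eq_coe.mp h)
    rwa [connectedComponent_eq_singleton, Set.mem_singleton_iff] at h'
  refine ⟨fun y => ?_, fun _ => ?_⟩
  · have := hdisc y
    rw [hconn, MoreMor.nGeomIrredComp]
    have e : irreducibleComponents ↥(MoreMor.geomFiber f y) =
        Set.range fun p : ↥(MoreMor.geomFiber f y) => ({p} : Set ↥(MoreMor.geomFiber f y)) := by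
      ext s
      constructor
      · intro hs
        obtain ⟨p, rfl⟩ := Set.exists_eq_singleton_iff_nonempty_subsingleton.mpr
          ⟨hs.1.nonempty, hs.1.isPreirreducible.isPreconnected.subsingleton⟩
        exact ⟨p, rfl⟩
      · rintro ⟨p, rfl⟩
        refine ⟨isIrreducible_singleton, fun t ht hpt => ?_⟩
        intro x hx
        exact ht.isPreirreducible.isPreconnected.subsingleton hx (hpt rfl)
    rw [e, ← Set.image_univ, Set.singleton_injective.injOn.encard_image, Set.encard_univ]
  · obtain ⟨d, hd⟩ := Wt.Bound.exists_bound_geomFib f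
    refine ⟨d, fun y => ?_⟩
    rw [hconn]
    let k := Y.residueField y
    let L := SeparableClosure k
    let i := Spec.map (CommRingCat.ofHom (algebraMap k L))
    have : LocallyQuasiFinite (f.fiberToSpecResidueField y) :=
      inferInstanceAs (LocallyQuasiFinite (pullback.snd f (Y.fromSpecResidueField y)))
    let yb := Spec.map (CommRingCat.ofHom (algebraMap L (AlgebraicClosure L)))
    let yY := yb ≫ i ≫ Y.fromSpecResidueField y
    let q := pullback.snd (f.fiberToSpecResidueField y) i
    let Φ : Wt.GeomPts.GeomFib q yb → Wt.GeomPts.GeomFib f yY := fun x =>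
      ⟨x.1 ≫ pullback.fst _ _ ≫ f.fiberι y, by
        calc (x.1 ≫ pullback.fst (f.fiberToSpecResidueField y) i ≫ f.fiberι y) ≫ f
            = x.1 ≫ (pullback.fst (f.fiberToSpecResidueField y) i ≫ f.fiberToSpecResidueField y) ≫
              Y.fromSpecResidueField y := by simp [Scheme.Hom.fiber_fac]
          _ = (x.1 ≫ q) ≫ i ≫ Y.fromSpecResidueField y := by
              rw [pullback.condition]; simp [q]
          _ = yY := by rw [x.2]⟩
    have hΦ : Function.Injective Φ := fun a b h => by
      have h' : a.1 ≫ pullback.fst _ _ ≫ f.fiberι y = b.1 ≫ pullback.fst _ _ ≫ f.fiberι y :=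
        congrArg (fun x : Wt.GeomPts.GeomFib f yY => x.1) h
      refine Subtype.ext (pullback.hom_ext (pullback.hom_ext ?_ ?_) (a.2.trans b.2.symm))
      · exact (Category.assoc _ _ _).trans (h'.trans (Category.assoc _ _ _).symm)
      · show (a.1 ≫ pullback.fst _ _) ≫ f.fiberToSpecResidueField y =
          (b.1 ≫ pullback.fst _ _) ≫ f.fiberToSpecResidueField y
        rw [Category.assoc, Category.assoc, pullback.condition]
        exact congrArg (· ≫ i) (a.2.trans b.2.symm) |> fun e => by simpa using e
    have := (hd _ yY).1
    have : Finite (Wt.GeomPts.GeomFib q yb) := Finite.of_injective Φ hΦ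
    have hs : Function.Surjective fun x : Wt.GeomPts.GeomFib q yb => Wt.GeomPts.pt x.1 := fun p => by
      obtain ⟨c, hc⟩ := Wt.GeomPts.surjective_pt q yb ⟨p, Subsingleton.elim (α := ↥(Spec (CommRingCat.of L))) _ _⟩
      exact ⟨c, congrArg Subtype.val hc⟩
    have : Finite ↥(MoreMor.geomFiber f y) := Finite.of_surjective _ hs
    rw [ENat.card_eq_coe_natCard]
    exact_mod_cast ((Nat.card_le_card_of_surjective _ hs).trans
      (Nat.card_le_card_of_injective Φ hΦ)).trans (hd _ yY).2

end Groth.Agent.S1415
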