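import Groth.Statements.S14151
import Groth.Agent.VBLib.Slope

set_option autoImplicit false
universe u
open CategoryTheory CategoryTheory.Limits AlgebraicGeometry
open VBCurve

namespace Groth.Agent.S14151

/-- Let C be a smooth proper geometrically connected curve over a field k (proper, smooth and
geometrically connected over k, of dimension one) and E a finite locally free O_C-module of rank r ≥
1; degrees of rank-n locally free modules are χ − n·χ(O_C) and slopes are compared by
cross-multiplication. Then: E is semistable in the sense of quotients (μ(E) ≤ μ(F) for every locally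
free quotient E ↠ F of rank s ≥ 1) if and only if μ(G) ≤ μ(E) for every finite locally free
submodule G of E of rank r' ≥ 1; and E is stable in the sense of quotients (μ(E) < μ(F) for every
such quotient map which is not an isomorphism) if and only if μ(G) < μ(E) for every such submodule
whose inclusion is not an isomorphism. (The printed lemma says every nonzero subsheaf; for the
strict inequalities the subsheaf and the quotient must be proper, as its proof uses.) -/
theorem result (k : Type u) [Field k] (X : Scheme.{u}) [X.Over (Spec (CommRingCat.of k))]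
    [IsProper (X ↘ Spec (CommRingCat.of k))] [Smooth (X ↘ Spec (CommRingCat.of k))]
    [GeometricallyConnected (X ↘ Spec (CommRingCat.of k))] (hdim : topologicalKrullDim ↥X = 1)
    (r : ℕ) (hr : 0 < r) (E : X.Modules) (hE : FlatMod.IsFinLocFreeOfRank r E) :
    ((∀ (F : X.Modules) (s : ℕ) (p : E ⟶ F), Epi p → 0 < s → FlatMod.IsFinLocFreeOfRank s F →
      Curv2.deg k X E r * (s : ℤ) ≤ Curv2.deg k X F s * (r : ℤ)) ↔
      (∀ (G : X.Modules) (r' : ℕ) (i : G ⟶ E), Mono i → 0 < r' → FlatMod.IsFinLocFreeOfRank r' G →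
      Curv2.deg k X G r' * (r : ℤ) ≤ Curv2.deg k X E r * (r' : ℤ))) ∧
    ((∀ (F : X.Modules) (s : ℕ) (p : E ⟶ F), Epi p → 0 < s → FlatMod.IsFinLocFreeOfRank s F → (¬ IsIso p) →
      Curv2.deg k X E r * (s : ℤ) < Curv2.deg k X F s * (r : ℤ)) ↔
      (∀ (G : X.Modules) (r' : ℕ) (i : G ⟶ E), Mono i → 0 < r' → FlatMod.IsFinLocFreeOfRank r' G → (¬ IsIso i) →
      Curv2.deg k X G r' * (r : ℤ) < Curv2.deg k X E r * (r' : ℤ))) := by
  haveI := CurveCoh.isIntegral_of_smooth k X
  have hX : VBLib.GoodCurve k X := VBLib.goodCurve_of_smooth hdim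
  haveI := hX.isLocallyNoetherian
  have hE' := VBLib.isFinLocFree_of_ofRank hE
  have hEc := VBLib.isCoh_of_ofRank hE
  have hrE := VBLib.rk_eq hE
  -- data of a quotient
  have quot : ∀ (F : X.Modules) (s : ℕ) (p : E ⟶ F), Epi p → FlatMod.IsFinLocFreeOfRank s F →
      FlatMod.IsFinLocFree (kernel p) ∧ VBLib.rk (kernel p) + s = r ∧
        VBLib.dg k (kernel p) + Curv2.deg k X F s = Curv2.deg k X E r := by
    intro F s p hp hF
    let S := ShortComplex.mk (kernel.ι p) p (kernel.condition p)
    have hS : S.ShortExact := { exact := S.exact_of_f_is_kernel (kernelIsKernel p) }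
    have hFc := VBLib.isCoh_of_ofRank hF
    have h1 := hX.dg_add hS (VBLib.isCoh_kernel p hEc hFc) hEc hFc
    have h2 := VBLib.rk_add hS hEc
    simp only [S] at h1 h2
    rw [← VBLib.dg_eq hE, ← VBLib.dg_eq hF] at h1
    rw [hrE, VBLib.rk_eq hF] at h2
    exact ⟨VBLib.isFinLocFree_kernel hX.pid p hE' hFc, by omega, by omega⟩
  refine ⟨⟨fun h G r' i hi h' hG => ?_, fun h F s p hp h' hF => ?_⟩,
    ⟨fun h G r' i hi h' hG hni => ?_, fun h F s p hp h' hF hni => ?_⟩⟩
  · haveI := hi
    have hGc := VBLib.isCoh_of_ofRank hG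
    obtain ⟨G', j, i', hji, hj, hi', hG', hQ, hr1, hd⟩ := hX.exists_saturation i hGc hE'
    haveI := hi'
    obtain ⟨q1, q2⟩ := hX.dg_mono_cokernel i' (VBLib.isCoh_of_isFinLocFree hG') hEc
    rw [hr1, VBLib.rk_eq hG, hrE] at q2
    rw [← VBLib.dg_eq hE] at q1
    rw [← VBLib.dg_eq hG] at hd
    have hd' := mul_le_mul_of_nonneg_right hd (Int.natCast_nonneg r)
    rcases Nat.eq_zero_or_pos (VBLib.rk (cokernel i')) with h0 | hpos
    · have hz := hX.dg_eq_zero_of_isZero (VBLib.isCoh_of_isFinLocFree hQ)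
        (VBLib.isZero_of_rk_eq_zero hQ h0)
      have : r' = r := by omega
      subst this
      rw [hz, add_zero] at q1
      rw [q1]
      exact hd'
    · have h3 := h _ _ (cokernel.π i') inferInstance hpos (VBLib.ofRank_rk hQ)
      simp only [VBLib.dg] at q1 hd hd'
      rw [show (r : ℤ) = (r' : ℤ) + (VBLib.rk (cokernel i') : ℤ) by exact_mod_cast q2] at h3 hd' ⊢
      rw [q1] at h3 ⊢
      linarith
  · obtain ⟨hK, hr2, hd2⟩ := quot F s p hp hF
    rcases Nat.eq_zero_or_pos (VBLib.rk (kernel p)) with h0 | hpos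
    · rw [hX.dg_eq_zero_of_isZero (VBLib.isCoh_of_isFinLocFree hK)
        (VBLib.isZero_of_rk_eq_zero hK h0), zero_add] at hd2
      rw [h0, zero_add] at hr2
      rw [hd2, hr2]
    · have h3 := h _ _ (kernel.ι p) inferInstance hpos (VBLib.ofRank_rk hK)
      simp only [VBLib.dg] at hd2
      rw [show (r : ℤ) = (VBLib.rk (kernel p) : ℤ) + (s : ℤ) by exact_mod_cast hr2.symm] at h3 ⊢
      rw [← hd2] at h3 ⊢
      linarith
  · haveI := hi
    have hGc := VBLib.isCoh_of_ofRank hG
    obtain ⟨G', j, i', hji, hj, hi', hG', hQ, hr1, hd⟩ := hX.exists_saturation i hGc hE'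
    haveI := hi'
    obtain ⟨q1, q2⟩ := hX.dg_mono_cokernel i' (VBLib.isCoh_of_isFinLocFree hG') hEc
    rw [hr1, VBLib.rk_eq hG, hrE] at q2
    rw [← VBLib.dg_eq hE] at q1
    rw [← VBLib.dg_eq hG] at hd
    have hd' := mul_le_mul_of_nonneg_right hd (Int.natCast_nonneg r)
    rcases Nat.eq_zero_or_pos (VBLib.rk (cokernel i')) with h0 | hpos
    · have : r' = r := by omega
      subst this
      obtain ⟨hle, heq⟩ := hX.dg_le_of_mono i hGc hEc (by rw [VBLib.rk_eq hG, hrE])
      rw [← VBLib.dg_eq hG, ← VBLib.dg_eq hE] at hle heq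
      exact mul_lt_mul_of_pos_right (lt_of_le_of_ne hle fun he => hni (heq he))
        (Int.natCast_pos.mpr h')
    · have hnp : ¬ IsIso (cokernel.π i') := fun hiso => by
        have h5 := (hX.dg_iso (asIso (cokernel.π i')) hEc (VBLib.isCoh_of_isFinLocFree hQ)).2
        omega
      have h3 := h _ _ (cokernel.π i') inferInstance hpos (VBLib.ofRank_rk hQ) hnp
      simp only [VBLib.dg] at q1 hd hd'
      rw [show (r : ℤ) = (r' : ℤ) + (VBLib.rk (cokernel i') : ℤ) by exact_mod_cast q2] at h3 hd' ⊢
      rw [q1] at h3 ⊢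
      linarith
  · obtain ⟨hK, hr2, hd2⟩ := quot F s p hp hF
    rcases Nat.eq_zero_or_pos (VBLib.rk (kernel p)) with h0 | hpos
    · haveI := hp
      haveI := VBLib.mono_of_rk_kernel p hK h0
      exact absurd (isIso_of_mono_of_epi p) hni
    · have hnk : ¬ IsIso (kernel.ι p) := fun hiso => by
        have h5 := (hX.dg_iso (asIso (kernel.ι p)) (VBLib.isCoh_of_isFinLocFree hK) hEc).2
        omega
      have h3 := h _ _ (kernel.ι p) inferInstance hpos (VBLib.ofRank_rk hK) hnk
      simp only [VBLib.dg] at hd2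
      rw [show (r : ℤ) = (VBLib.rk (kernel p) : ℤ) + (s : ℤ) by exact_mod_cast hr2.symm] at h3 ⊢
      rw [← hd2] at h3 ⊢
      linarith

end Groth.Agent.S14151
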