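import Groth.Statements.S14155
import Groth.Agent.VBLib.StableGcd
import Groth.Agent.VBLib.SplitOne

set_option autoImplicit false
universe u
open CategoryTheory CategoryTheory.Limits AlgebraicGeometry
open VBCurve

namespace Groth.Agent.S14155

/-- Let k be an algebraically closed field, X a smooth proper integral curve over k (proper and smooth
over k, integral, of dimension one) of genus one, i.e. dim_k H^1(X, O_X) = 1 (an elliptic curve once
a base point is chosen), and F a finite locally free O_X-module of rank r ≥ 1 which is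
indecomposable (nonzero, and in any decomposition F ≅ F₁ ⊕ F₂ one summand is zero), of degree d =
χ(F) − r·χ(O_X). Then F is stable — deg G · r < d · r' for every finite locally free submodule G of
F of rank r' ≥ 1 whose inclusion is not an isomorphism — if and only if gcd(d, r) = 1. (The
published corollary also identifies stability with simplicity in two senses; those equivalences are
not restated.) -/
theorem result (k : Type u) [Field k] [IsAlgClosed k]
    (X : Scheme.{u}) [X.Over (Spec (CommRingCat.of k))] [IsIntegral X]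
    [IsProper (X ↘ Spec (CommRingCat.of k))] [Smooth (X ↘ Spec (CommRingCat.of k))]
    (hdim : topologicalKrullDim ↥X = 1) (hg : Curv2.genus k X = 1)
    (r : ℕ) (hr : 0 < r) (F : X.Modules) (hF : FlatMod.IsFinLocFreeOfRank r F)
    (hind : ¬ IsZero F ∧ ∀ (F₁ F₂ : X.Modules), Nonempty (F ≅ F₁ ⊞ F₂) → IsZero F₁ ∨ IsZero F₂) :
    (∀ (G : X.Modules) (r' : ℕ) (i : G ⟶ F), Mono i → 0 < r' → FlatMod.IsFinLocFreeOfRank r' G → (¬ IsIso i) →
      Curv2.deg k X G r' * (r : ℤ) < Curv2.deg k X F r * (r' : ℤ)) ↔ Int.gcd (Curv2.deg k X F r) (r : ℤ) = 1 := by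
  have hX := VBLib.goodCurve_of_smooth (k := k) hdim
  have hF' := VBLib.isFinLocFree_of_ofRank hF
  have hrk := VBLib.rk_eq hF
  have hb := VBLib.bijective_toGlobal_of_isAlgClosed (k := k) (X := X)
  constructor
  · intro hst
    have hst' : VBLib.Stable k F := VBLib.stable_of hF fun G r' i hi hpos hlt hG =>
      hst G r' i hi hpos hG fun hiso => by
        have e1 := (hX.dg_iso (@asIso _ _ _ _ i hiso) (VBLib.isCoh_of_ofRank hG) (VBLib.isCoh_of_ofRank hF)).2
        rw [VBLib.rk_eq hG, hrk] at e1
        omega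
    have := hX.gcd_eq_one_of_stable hb hg (fun m => VBLib.exists_line_deg hdim m) hF' (by omega) hst'
    rwa [hrk, ← VBLib.dg_eq hF] at this
  · intro hgcd G r' i hi hpos hG hni
    have hss := hX.ss_of_indecomposable hb hg hF' (by omega) hind.2
    have hle := hss.le hF i hi hpos hG
    refine lt_of_le_of_ne hle fun heq => hni ?_
    haveI := hi
    have hr'le : r' ≤ r := by
      have := VBLib.rk_le_of_mono i (VBLib.isCoh_of_ofRank hF)
      rwa [VBLib.rk_eq hG, hrk] at this
    have hdvd : (r : ℤ) ∣ (r' : ℤ) := Int.dvd_of_dvd_mul_right_of_gcd_one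
      (show (r : ℤ) ∣ Curv2.deg k X F r * (r' : ℤ) from ⟨Curv2.deg k X G r', by rw [← heq]; ring⟩)
      (by rw [Int.gcd_comm]; exact hgcd)
    have heqr : r' = r := le_antisymm hr'le (Nat.le_of_dvd hpos (Int.natCast_dvd_natCast.mp hdvd))
    subst heqr
    have hd : Curv2.deg k X G r' = Curv2.deg k X F r' :=
      mul_right_cancel₀ (by exact_mod_cast hpos.ne' : (r' : ℤ) ≠ 0) heq
    refine (hX.dg_le_of_mono i (VBLib.isCoh_of_ofRank hG) (VBLib.isCoh_of_ofRank hF)
      ((VBLib.rk_eq hG).trans hrk.symm)).2 ?_
    rwa [← VBLib.dg_eq hG, ← VBLib.dg_eq hF]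

end Groth.Agent.S14155
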