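import Groth.Statements.S1416
import Groth.Agent.FlatMisc.FlatSuppDim
import Groth.Agent.FlatMisc.FibreDimScheme
import Groth.Agent.FlatSect.Basic
import Groth.Agent.CycLib.ModStalk

set_option autoImplicit false
universe u
open FlatMor


namespace Groth.Agent.S1416

open AlgebraicGeometry CategoryTheory Limits in
/-- Let f : X → S be locally of finite type with S irreducible with generic point η, and F a
quasi-coherent O_X-module of finite type which is flat over S. If the support of F in the fibre over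
η has dimension ≤ r then the support of F in every fibre has dimension ≤ r (supports in fibres taken
as subspaces of X: the points of the fibre where the stalk of F is nonzero). -/
theorem result {X S : Scheme.{u}} (f : X ⟶ S) [LocallyOfFiniteType f] [IrreducibleSpace ↑S]
    (F : X.Modules) (hF : Coh.IsCoh F) (hfl : FlatMod.IsFlatOver f F) (r : WithBot ℕ∞)
    (h : topologicalKrullDim ↑(f ⁻¹' {genericPoint ↑S} ∩ CohB1.support F) ≤ r) (s : S) :
    topologicalKrullDim ↑(f ⁻¹' {s} ∩ CohB1.support F) ≤ r := by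
  haveI : F.IsQuasicoherent := hF.1
  haveI : SheafOfModules.IsFiniteType.{u} F := hF.2
  have hmemT : ∀ x : X, x ∈ CohB1.support F ↔ Nontrivial (F.presheaf.stalk x) := fun x => not_subsingleton_iff_nontrivial
  have hclosed : IsClosed (CohB1.support F) := by
    have : CohB1.support F = {x : X | Nontrivial (F.presheaf.stalk x)} := Set.ext hmemT
    rw [this]; exact CycLib.isClosed_support F hF
  set T := f ⁻¹' {s} ∩ CohB1.support F with hTdef
  haveI : QuasiSober ↥(f ⁻¹' {s}) := (f.fiberHomeo s).symm.isClosedEmbedding.quasiSober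
  let incl : T → ↥(f ⁻¹' {s}) := fun t => ⟨t.1, t.2.1⟩
  have hincl : Topology.IsClosedEmbedding incl := by
    refine ⟨Topology.IsEmbedding.inclusion Set.inter_subset_left, ?_⟩
    have : Set.range incl = Subtype.val ⁻¹' CohB1.support F := by
      ext y; exact ⟨fun ⟨t, ht⟩ => ht ▸ t.2.2, fun hy => ⟨⟨y.1, y.2, hy⟩, rfl⟩⟩
    show IsClosed (Set.range incl)
    rw [this]; exact hclosed.preimage continuous_subtype_val
  haveI : QuasiSober T := hincl.quasiSober
  letI : PartialOrder T := specializationOrder T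
  letI : Preorder T := (specializationOrder T).toPreorder
  rw [DimLift.topDim_eq_krullDim_points]
  refine iSup_le fun l => ?_
  set x : X := (l.head : T).1
  have hxs : f x = s := l.head.2.1
  have hgen : ∀ i, (l i : T).1 ⤳ x := fun i =>
    (subtype_specializes_iff _ _).mp (show l i ⤳ l.head from l.monotone (Fin.zero_le i))
  obtain ⟨V, U, hV, hU, e, hxU⟩ := FlatSect.exists_chart f x
  letI := (f.appLE V U e).hom.toAlgebra
  letI : Module Γ(S, V) Γ(F, U) := Module.compHom _ (f.appLE V U e).hom
  haveI : IsScalarTower Γ(S, V) Γ(X, U) Γ(F, U) := IsScalarTower.of_algebraMap_smul fun _ _ => rfl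
  haveI : Algebra.FiniteType Γ(S, V) Γ(X, U) := f.finiteType_appLE hV hU e
  haveI : Module.Finite Γ(X, U) Γ(F, U) := QCoh.finite_sections_of_isFiniteType F hU
  haveI : Module.Flat Γ(S, V) Γ(F, U) := FlatSect.flat_sections_of_isFlatOverAt f hV hU e F fun z _ => hfl z
  have hsupp : ∀ q : PrimeSpectrum Γ(X, U),
      q ∈ Module.support Γ(X, U) Γ(F, U) ↔ hU.fromSpec q ∈ CohB1.support F := fun q => by
    have hqU : hU.fromSpec q ∈ U := hU.range_fromSpec.subset ⟨q, rfl⟩
    have hq : hU.primeIdealOf ⟨_, hqU⟩ = q :=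
      hU.fromSpec.isOpenEmbedding.injective (hU.fromSpec_primeIdealOf _)
    rw [hmemT, CycLib.nontrivial_stalk_iff F hU hqU, hq, Module.mem_support_iff_of_finite]
  have hcomm : ∀ q : PrimeSpectrum Γ(X, U),
      hV.fromSpec (PrimeSpectrum.comap (algebraMap Γ(S, V) Γ(X, U)) q) = f (hU.fromSpec q) := fun q =>
    congrArg (fun h : Spec Γ(X, U) ⟶ S => h q) (IsAffineOpen.SpecMap_appLE_fromSpec f hV hU e)
  have hU' : ∀ i, ∃ q, hU.fromSpec q = (l i : T).1 := fun i => by
    have : (l i : T).1 ∈ Set.range hU.fromSpec := by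
      rw [hU.range_fromSpec]; exact (hgen i).mem_open U.2 hxU
    exact this
  choose Q hQ using hU'
  -- the chain of primes
  let C : LTSeries (PrimeSpectrum Γ(X, U)) := LTSeries.mk l.length (fun i => Q i.rev) fun i j hij => by
    have h1 := l.strictMono (Fin.rev_lt_rev.mpr hij)
    refine lt_of_le_of_ne ((PrimeSpectrum.le_iff_specializes _ _).mpr ?_) fun he => h1.ne ?_
    · refine hU.fromSpec.isOpenEmbedding.isInducing.specializes_iff.mp ?_
      rw [hQ, hQ]; exact (subtype_specializes_iff _ _).mp (show l i.rev ⤳ l j.rev from h1.le)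
    · exact Subtype.ext ((hQ _).symm.trans ((congrArg _ he.symm).trans (hQ _)))
  obtain ⟨p, hp⟩ : s ∈ Set.range hV.fromSpec := by
    rw [hV.range_fromSpec, ← hxs]; exact e hxU
  obtain ⟨p', hp'⟩ : genericPoint ↑S ∈ Set.range hV.fromSpec := by
    rw [hV.range_fromSpec]
    exact (genericPoint_specializes s).mem_open V.2 (by rw [← hxs]; exact e hxU)
  have hle : p'.asIdeal ≤ p.asIdeal := (PrimeSpectrum.le_iff_specializes p' p).mpr
    (hV.fromSpec.isOpenEmbedding.isInducing.specializes_iff.mp (by rw [hp', hp]; exact genericPoint_specializes s))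
  have hfib : ∀ i, PrimeSpectrum.comap (algebraMap Γ(S, V) Γ(X, U)) (C i) = p := fun i =>
    hV.fromSpec.isOpenEmbedding.injective (((hcomm _).trans ((congrArg f (hQ _)).trans (l i.rev).2.1)).trans hp.symm)
  have hC0 : C.head ∈ Module.support Γ(X, U) Γ(F, U) := (hsupp _).mpr (by
    rw [show hU.fromSpec C.head = _ from hQ _]; exact (l _).2.2)
  obtain ⟨a, ha⟩ := DimSpec.exists_indep_of_chain p.asIdeal C hfib
  obtain ⟨q', hq'N, hq', ha'⟩ := FlatMisc.FlatSuppDim.indep_of_flat Γ(F, U) p.asIdeal p'.asIdeal hle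
    C.head hC0 (congrArg PrimeSpectrum.asIdeal (hfib 0)) a ha
  obtain ⟨L, hLlen, hL⟩ := DimSpec.exists_chain_of_indep p'.asIdeal q' hq' a ha'
  refine le_trans ?_ h
  have hL' : ∀ i, hU.fromSpec (L i) ∈ f ⁻¹' {genericPoint ↑S} ∩ CohB1.support F := fun i =>
    ⟨(hcomm _).symm.trans (by rw [(hL i).2]; exact hp'), (hsupp _).mp (Module.mem_support_mono (hL i).1 hq'N)⟩
  have h2 := FlatMisc.FibreDimScheme.length_le_topDim
    (fun i => (⟨hU.fromSpec (L i.rev), hL' _⟩ : ↥(f ⁻¹' {genericPoint ↑S} ∩ CohB1.support F))) fun i j hij => by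
      have h1 := L.strictMono (Fin.rev_lt_rev.mpr hij)
      exact ⟨(subtype_specializes_iff _ _).mpr
          (((PrimeSpectrum.le_iff_specializes _ _).mp h1.le).map hU.fromSpec.continuous),
        fun he => h1.ne (hU.fromSpec.isOpenEmbedding.injective (congrArg Subtype.val he).symm)⟩
  rw [hLlen] at h2
  exact h2

end Groth.Agent.S1416
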