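import Groth.Statements.S1417
import Groth.Agent.AlgSpCov.SmallExtSmooth
import Mathlib.AlgebraicGeometry.Morphisms.Smooth

set_option autoImplicit false
set_option linter.style.haveILetI false
universe u
open AlgebraicGeometry CategoryTheory CategoryTheory.Limits
open FlatMor

namespace Groth.Agent.S1417

/-- A morphism from the spectrum of a local ring lands in any open containing the image of the closed point. -/
theorem range_subset {Z : Scheme.{u}} {R : Type u} [CommRing R] [IsLocalRing R]
    (γ : Spec (CommRingCat.of R) ⟶ Z) (U : Z.Opens) (h : γ (IsLocalRing.closedPoint R) ∈ U) :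
    Set.range γ ⊆ U := by
  rintro _ ⟨p, rfl⟩
  exact ((IsLocalRing.specializes_closedPoint (p : PrimeSpectrum R)).map γ.continuous).mem_open U.2 h

/-- Smooth morphisms lift along small extensions. -/
theorem exists_lift {X S : Scheme.{u}} (f : X ⟶ S) [Smooth f] {B B' : Type u} [CommRing B] [CommRing B']
    [IsLocalRing B] [IsLocalRing B'] (φ : B' →+* B) (hφ : Function.Surjective φ)
    (h2 : IsNilpotent (RingHom.ker φ))
    (α : Spec (CommRingCat.of B) ⟶ X) (β : Spec (CommRingCat.of B') ⟶ S)
    (w : Spec.map (CommRingCat.ofHom φ) ≫ β = α ≫ f) :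
    ∃ γ : Spec (CommRingCat.of B') ⟶ X, Spec.map (CommRingCat.ofHom φ) ≫ γ = α ∧ γ ≫ f = β := by
  let c := IsLocalRing.closedPoint B
  haveI : IsLocalHom φ := .of_surjective φ hφ
  have h0 : Spec.map (CommRingCat.ofHom φ) c = IsLocalRing.closedPoint B' := IsLocalRing.comap_closedPoint φ
  obtain ⟨W, hW, hxW, -⟩ := exists_isAffineOpen_mem_and_subset (x := f (α c)) (U := ⊤) trivial
  obtain ⟨U, hU, hxU, hUW⟩ := exists_isAffineOpen_mem_and_subset (x := α c) (U := f ⁻¹ᵁ W) hxW
  have hβ : Set.range β ⊆ Set.range hW.fromSpec := by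
    rw [hW.range_fromSpec]
    refine range_subset β W ?_
    rw [← h0, ← Scheme.Hom.comp_apply, w, Scheme.Hom.comp_apply]
    exact hxW
  have hα : Set.range α ⊆ Set.range hU.fromSpec := by
    rw [hU.range_fromSpec]
    exact range_subset α U hxU
  obtain ⟨u, hu⟩ := Spec.map_surjective (IsOpenImmersion.lift hU.fromSpec α hα)
  obtain ⟨χ, hχ⟩ := Spec.map_surjective (IsOpenImmersion.lift hW.fromSpec β hβ)
  replace hu : Spec.map u ≫ hU.fromSpec = α := by rw [hu, IsOpenImmersion.lift_fac]
  replace hχ : Spec.map χ ≫ hW.fromSpec = β := by rw [hχ, IsOpenImmersion.lift_fac]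
  let η := f.appLE W U hUW
  have hη : Spec.map η ≫ hW.fromSpec = hU.fromSpec ≫ f := hW.SpecMap_appLE_fromSpec f hU hUW
  have hcomm : η ≫ u = χ ≫ CommRingCat.ofHom φ := by
    apply Spec.map_injective
    rw [← cancel_mono hW.fromSpec]
    simp only [Spec.map_comp, Category.assoc, hη, hχ, reassoc_of% hu, w]
  have hsm : η.hom.Smooth := f.smooth_appLE hW hU hUW
  letI := η.hom.toAlgebra
  haveI : Algebra.Smooth Γ(S, W) Γ(X, U) := hsm
  letI : Algebra Γ(S, W) B' := χ.hom.toAlgebra
  letI : Algebra Γ(S, W) B := (φ.comp χ.hom).toAlgebra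
  let π : B' →ₐ[Γ(S, W)] B := { φ with commutes' := fun _ => rfl }
  let g : Γ(X, U) →ₐ[Γ(S, W)] B := { u.hom with commutes' := fun r => congr($(hcomm).hom r) }
  let v := Algebra.FormallySmooth.liftOfSurjective g π hφ h2
  refine ⟨Spec.map (CommRingCat.ofHom v.toRingHom) ≫ hU.fromSpec, ?_, ?_⟩
  · rw [← Spec.map_comp_assoc, ← hu]
    congr 2
    ext r
    exact Algebra.FormallySmooth.liftOfSurjective_apply g π hφ h2 r
  · rw [Category.assoc, ← hη, ← Spec.map_comp_assoc, ← hχ]
    congr 2
    ext r
    exact v.commutes r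

/-- Let S be locally Noetherian and f : X → S locally of finite type. Then f is smooth if and only if
for every small extension B' → B of Artinian local rings (a surjection whose kernel is generated by
one element annihilated by the maximal ideal), every morphism Spec B → X and every morphism Spec B'
→ S locally of finite type making the square commute, there is a lift Spec B' → X. -/
theorem result {X S : Scheme.{u}} (f : X ⟶ S) [IsLocallyNoetherian S] [LocallyOfFiniteType f] :
    Smooth f ↔ ∀ (B B' : Type u) [CommRing B] [CommRing B'] [IsArtinianRing B] [IsArtinianRing B'] [IsLocalRing B] [IsLocalRing B']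
      (φ : B' →+* B) (ε : B'), Function.Surjective φ → RingHom.ker φ = Ideal.span {ε} → (∀ m ∈ IsLocalRing.maximalIdeal B', ε * m = 0) →
      ∀ (α : Spec (CommRingCat.of B) ⟶ X) (β : Spec (CommRingCat.of B') ⟶ S), LocallyOfFiniteType β →
        Spec.map (CommRingCat.ofHom φ) ≫ β = α ≫ f →
        ∃ γ : Spec (CommRingCat.of B') ⟶ X, Spec.map (CommRingCat.ofHom φ) ≫ γ = α ∧ γ ≫ f = β := by
  constructor
  · intro _ B B' _ _ _ _ _ _ φ ε hφ hker hm α β _ w
    refine exists_lift f φ hφ ⟨2, ?_⟩ α β w
    have hε : ε ∈ IsLocalRing.maximalIdeal B' :=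
      IsLocalRing.le_maximalIdeal (RingHom.ker_ne_top φ) (hker ▸ Ideal.mem_span_singleton_self ε)
    rw [hker, Ideal.zero_eq_bot, Ideal.span_singleton_pow, Ideal.span_singleton_eq_bot, pow_two]
    exact hm ε hε
  · intro H
    rw [HasRingHomProperty.iff_appLE (P := @Smooth)]
    intro W U e
    let η := f.appLE W.1 U.1 e
    have hfin : η.hom.FiniteType := HasRingHomProperty.appLE @LocallyOfFiniteType f inferInstance W U e
    have : IsNoetherianRing Γ(S, W.1) := IsLocallyNoetherian.component_noetherian W
    algebraize [η.hom]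
    have : Algebra.FinitePresentation Γ(S, W.1) Γ(X, U.1) :=
      Algebra.FinitePresentation.of_finiteType.1 inferInstance
    have hsl : ∀ m : PrimeSpectrum Γ(X, U.1), m.asIdeal.IsMaximal →
        AlgSpCov.SmallExtSmooth.SmallLifts η.hom m.asIdeal := by
      intro m hm B' B _ _ _ _ _ _ π hπ hker χ u hu huq hft
      obtain ⟨t, ht, htm⟩ := hker
      have hη : Spec.map η ≫ W.2.fromSpec = U.2.fromSpec ≫ f := W.2.SpecMap_appLE_fromSpec f U.2 e
      haveI : LocallyOfFiniteType (Spec.map (CommRingCat.ofHom χ)) :=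
        (HasRingHomProperty.Spec_iff (P := @LocallyOfFiniteType)).2 (hft hm)
      obtain ⟨γ, hγ₁, hγ₂⟩ := H B B' π t hπ ht (fun a ha => (mul_comm _ _).trans (htm a ha))
        (Spec.map (CommRingCat.ofHom u) ≫ U.2.fromSpec) (Spec.map (CommRingCat.ofHom χ) ≫ W.2.fromSpec)
        inferInstance (by
          rw [Category.assoc, ← hη, ← Spec.map_comp_assoc, ← Spec.map_comp_assoc]
          congr 2
          exact CommRingCat.hom_ext hu.symm)
      haveI : IsLocalHom π := .of_surjective π hπ
      have hrange : Set.range γ ⊆ Set.range U.2.fromSpec := by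
        rw [U.2.range_fromSpec]
        refine range_subset γ U.1 ?_
        have h0 : Spec.map (CommRingCat.ofHom π) (IsLocalRing.closedPoint B) = IsLocalRing.closedPoint B' :=
          IsLocalRing.comap_closedPoint π
        rw [← h0, ← Scheme.Hom.comp_apply, hγ₁, Scheme.Hom.comp_apply]
        exact U.2.range_fromSpec.le ⟨_, rfl⟩
      obtain ⟨v, hv⟩ := Spec.map_surjective (IsOpenImmersion.lift U.2.fromSpec γ hrange)
      replace hv : Spec.map v ≫ U.2.fromSpec = γ := by rw [hv, IsOpenImmersion.lift_fac]
      refine ⟨v.hom, ?_, ?_⟩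
      · have : η ≫ v = CommRingCat.ofHom χ := by
          apply Spec.map_injective
          rw [← cancel_mono W.2.fromSpec, Spec.map_comp, Category.assoc, hη, ← Category.assoc, hv]
          exact hγ₂
        exact congrArg CommRingCat.Hom.hom this
      · have : v ≫ CommRingCat.ofHom π = CommRingCat.ofHom u := by
          apply Spec.map_injective
          rw [← cancel_mono U.2.fromSpec, Spec.map_comp, Category.assoc, hv]
          exact hγ₁
        exact congrArg CommRingCat.Hom.hom this
    have huniv : Algebra.smoothLocus Γ(S, W.1) Γ(X, U.1) = Set.univ := by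
      refine Set.eq_univ_of_forall fun p => ?_
      obtain ⟨m, hm, hpm⟩ := Ideal.exists_le_maximal p.asIdeal p.isPrime.ne_top
      exact ((PrimeSpectrum.le_iff_specializes p ⟨m, hm.isPrime⟩).1 hpm).mem_open Algebra.isOpen_smoothLocus
        (AlgSpCov.SmallExtSmooth.isSmoothAt_of_smallLifts m (hsl ⟨m, hm.isPrime⟩ hm))
    exact ⟨Algebra.smoothLocus_eq_univ_iff.1 huniv, inferInstance⟩

end Groth.Agent.S1417
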