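import Groth.Statements.S14175
-- import your own Groth.Agent.* helpers here

set_option autoImplicit false
universe u v w
open GalCoh

namespace Groth.Agent.S14175

/-- Let G be a finite cyclic group generated by t, let m be a natural number dividing the order of G,
and let ρ be a linear representation of G on a module V over a commutative ring k such that m·V = 0
and every element of G whose m-th power is the identity acts trivially on V. Then evaluating a
crossed homomorphism at t induces a bijection from the first cohomology of G with values in V
(crossed homomorphisms f, i.e. f(gh) = ρ(g)f(h) + f(g), modulo the principal ones g ↦ ρ(g)x − x)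
onto the coinvariants V_G (the quotient of V by the span of all ρ(g)v − v): the class of f(t) in V_G
vanishes exactly when f is principal, and every class of V_G is the class of f(t) for some crossed
homomorphism f. The bijection depends on the choice of the generator t. -/
theorem result
    {k : Type u} {G : Type v} {V : Type w} [CommRing k] [Group G] [Finite G]
    [AddCommGroup V] [Module k V] (ρ : Representation k G V)
    (t : G) (ht : ∀ g : G, g ∈ Subgroup.zpowers t)
    (m : ℕ) (hm : m ∣ Nat.card G) (htors : ∀ v : V, m • v = 0)
    (htriv : ∀ g : G, g ^ m = 1 → ∀ v : V, ρ g v = v) :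
    (∀ f : G → V, (∀ g h : G, f (g * h) = ρ g (f h) + f g) →
        (Representation.Coinvariants.mk ρ (f t) = 0 ↔ ∃ x : V, ∀ g : G, f g = ρ g x - x)) ∧
    (∀ v : V, ∃ f : G → V, (∀ g h : G, f (g * h) = ρ g (f h) + f g) ∧
        Representation.Coinvariants.mk ρ (f t) = Representation.Coinvariants.mk ρ v) := by
  haveI := Fintype.ofFinite G
  constructor
  · intro f hf
    rw [Representation.Coinvariants.mk_eq_zero]
    have hspan : Representation.Coinvariants.ker ρ ≤ LinearMap.range (ρ t - LinearMap.id) := by
      refine Submodule.span_le.2 ?_
      rintro _ ⟨⟨g, y⟩, rfl⟩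
      obtain ⟨j, rfl⟩ := (Submonoid.mem_powers_iff _ _).1 (mem_powers_iff_mem_zpowers.2 (ht g))
      change ρ (t ^ j) y - y ∈ LinearMap.range (ρ t - LinearMap.id)
      induction j with
      | zero => simp
      | succ j ih =>
        obtain ⟨w, hw⟩ := ih
        refine ⟨ρ (t ^ j) y + w, ?_⟩
        rw [map_add, hw, pow_succ', map_mul]
        simp
    constructor
    · intro h
      obtain ⟨x, hx⟩ := hspan h
      refine ⟨x, fun g => ?_⟩
      obtain ⟨j, rfl⟩ := (Submonoid.mem_powers_iff _ _).1 (mem_powers_iff_mem_zpowers.2 (ht g))
      have hx' : f t = ρ t x - x := hx.symm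
      induction j with
      | zero =>
        have h1 := hf 1 1
        simp at h1
        simp [h1]
      | succ j ih =>
        rw [pow_succ', hf, ih, hx', map_mul, map_sub]
        simp
    · rintro ⟨x, hx⟩
      rw [hx t]
      exact Representation.Coinvariants.sub_mem_ker t x
  · intro v
    let S : ℕ → V := fun a => ∑ j ∈ Finset.range a, ρ (t ^ j) v
    have hS : ∀ a b, S (a + b) = ρ (t ^ a) (S b) + S a := by
      intro a b
      simp only [S, Finset.sum_range_add, map_sum, pow_add, map_mul, Module.End.mul_apply]
      rw [add_comm]
    obtain ⟨d, hd⟩ := hm
    have hN : S (Nat.card G) = 0 := by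
      have hper : ρ (t ^ d) (S d) = S d := htriv _ (by
        rw [← pow_mul, mul_comm, ← hd]; exact pow_card_eq_one') _
      have hk : ∀ c, S (d * c) = c • S d := by
        intro c
        induction c with
        | zero => simp [S]
        | succ c ih =>
          rw [Nat.mul_succ, add_comm, hS, ih, map_nsmul, hper, succ_nsmul]
      rw [hd, mul_comm, hk, htors]
    have hord : orderOf t = Nat.card G := orderOf_eq_card_of_forall_mem_zpowers ht
    have hmod : ∀ a b, t ^ a = t ^ b → S a = S b := by
      intro a b h
      have hred : ∀ c, S c = S (c % Nat.card G) := by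
        intro c
        have hq : ∀ q r, S (r + Nat.card G * q) = S r := by
          intro q r
          induction q with
          | zero => simp
          | succ q ih =>
            rw [Nat.mul_succ, ← add_assoc, hS, hN, map_zero, zero_add, ih]
        conv_lhs => rw [← Nat.mod_add_div c (Nat.card G), hq]
      rw [hred a, hred b]
      rw [pow_eq_pow_iff_modEq, hord] at h
      rw [h]
    choose e he using fun g => (Submonoid.mem_powers_iff _ _).1 (mem_powers_iff_mem_zpowers.2 (ht g))
    refine ⟨fun g => S (e g), fun g h => ?_, ?_⟩
    · dsimp only
      rw [hmod (e (g * h)) (e g + e h) (by rw [pow_add, he, he, he]), hS, he]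
    · change Representation.Coinvariants.mk ρ (S (e t)) = _
      rw [hmod (e t) 1 (by rw [he, pow_one])]
      simp [S]

end Groth.Agent.S14175
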