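import Groth.Statements.S14176
import Mathlib.GroupTheory.FiniteAbelian.Duality
import Mathlib.RingTheory.RootsOfUnity.AlgebraicallyClosed
import Mathlib.Analysis.Complex.Polynomial.Basic
import Mathlib.Topology.Algebra.Group.ClosedSubgroup
import Mathlib.Topology.Algebra.Group.Quotient

set_option autoImplicit false
universe u
open Pi1

namespace Groth.Agent.S14176

/-- The cyclic group of order `n` inside the complex units. -/
noncomputable def incl (n : ℕ) [NeZero n] : Multiplicative (ZMod n) ≃* rootsOfUnity n ℂ :=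
  mulEquivOfCyclicCardEq (by
    rw [HasEnoughRootsOfUnity.natCard_rootsOfUnity ℂ n]
    simp [Nat.card_congr Multiplicative.toAdd, Nat.card_zmod])

theorem pow_card_eq_one' (n : ℕ) [NeZero n] (x : Multiplicative (ZMod n)) : x ^ n = 1 := by
  rw [← toAdd_eq_zero, toAdd_pow, nsmul_eq_mul, ZMod.natCast_self, zero_mul]

/-- Homomorphisms to the cyclic group as complex characters. -/
noncomputable def homEquiv {A : Type*} [CommGroup A] (n : ℕ) [NeZero n] (hA : ∀ a : A, a ^ n = 1) :
    (A →* Multiplicative (ZMod n)) ≃ (A →* ℂˣ) where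
  toFun ψ := (rootsOfUnity n ℂ).subtype.comp ((incl n).toMonoidHom.comp ψ)
  invFun φ := (incl n).symm.toMonoidHom.comp (φ.codRestrict (rootsOfUnity n ℂ) fun a => by
    rw [mem_rootsOfUnity, ← map_pow, hA, map_one])
  left_inv ψ := MonoidHom.ext fun a => (incl n).symm_apply_apply (ψ a)
  right_inv φ := MonoidHom.ext fun a => by
    exact congrArg Subtype.val ((incl n).apply_symm_apply _)

theorem card_dual {A : Type*} [CommGroup A] [Finite A] (n : ℕ) [NeZero n] (hA : ∀ a : A, a ^ n = 1) :
    Nat.card (A →* Multiplicative (ZMod n)) = Nat.card A := by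
  have : HasEnoughRootsOfUnity ℂ (Monoid.exponent A) :=
    HasEnoughRootsOfUnity.of_dvd ℂ (Monoid.exponent_dvd_of_forall_pow_eq_one hA)
  rw [Nat.card_congr (homEquiv n hA), CommGroup.card_monoidHom_of_hasEnoughRootsOfUnity]

theorem eq_one_of_dual {A : Type*} [CommGroup A] [Finite A] (n : ℕ) [NeZero n] (hA : ∀ a : A, a ^ n = 1)
    {a : A} (ha : ∀ ψ : A →* Multiplicative (ZMod n), ψ a = 1) : a = 1 := by
  have : HasEnoughRootsOfUnity ℂ (Monoid.exponent A) :=
    HasEnoughRootsOfUnity.of_dvd ℂ (Monoid.exponent_dvd_of_forall_pow_eq_one hA)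
  by_contra hne
  obtain ⟨φ, hφ⟩ := CommGroup.exists_apply_ne_one_of_hasEnoughRootsOfUnity A ℂ hne
  apply hφ
  rw [← (homEquiv n hA).apply_symm_apply φ]
  change ((incl n ((homEquiv n hA).symm φ a) : rootsOfUnity n ℂ) : ℂˣ) = 1
  rw [ha, map_one]
  rfl

theorem eval_surjective {A : Type*} [CommGroup A] [Finite A] (n : ℕ) [NeZero n] (hA : ∀ a : A, a ^ n = 1)
    (F : (A →* Multiplicative (ZMod n)) →* Multiplicative (ZMod n)) : ∃ a : A, ∀ ψ, F ψ = ψ a := by
  have : Finite (A →* Multiplicative (ZMod n)) :=
    Finite.of_injective (fun ψ => (ψ : A → Multiplicative (ZMod n))) DFunLike.coe_injective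
  have : Finite ((A →* Multiplicative (ZMod n)) →* Multiplicative (ZMod n)) :=
    Finite.of_injective (fun ψ => (ψ : (A →* Multiplicative (ZMod n)) → Multiplicative (ZMod n))) DFunLike.coe_injective
  let ev : A →* ((A →* Multiplicative (ZMod n)) →* Multiplicative (ZMod n)) := MonoidHom.eval
  have hinj : Function.Injective ev := (injective_iff_map_eq_one ev).mpr fun a ha =>
    eq_one_of_dual n hA fun ψ => DFunLike.congr_fun ha ψ
  have hcard : Nat.card A = Nat.card ((A →* Multiplicative (ZMod n)) →* Multiplicative (ZMod n)) := by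
    rw [card_dual n (fun ψ => MonoidHom.ext fun a => pow_card_eq_one' n (ψ a)), card_dual n hA]
  obtain ⟨a, ha⟩ := ((Nat.bijective_iff_injective_and_card ev).mpr ⟨hinj, hcard⟩).2 F
  exact ⟨a, fun ψ => (DFunLike.congr_fun ha ψ).symm⟩

open W4c1etcurveeff2
open scoped commutatorElement

variable {G : Type u} [Group G] [TopologicalSpace G] [IsTopologicalGroup G] {n : ℕ}

theorem comm_mem (a b : G) : ⁅a, b⁆ ∈ powCommClosure G n :=
  Subgroup.le_topologicalClosure _ (le_sup_right (a := Subgroup.closure (Set.range fun g : G => g ^ n))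
    (Subgroup.commutator_mem_commutator (Subgroup.mem_top a) (Subgroup.mem_top b)))

theorem pow_mem' (a : G) : a ^ n ∈ powCommClosure G n :=
  Subgroup.le_topologicalClosure _ (le_sup_left (b := commutator G) (Subgroup.subset_closure ⟨a, rfl⟩))

theorem le_of_closed (H : Subgroup G) (hH : IsClosed (H : Set G)) (hp : ∀ a : G, a ^ n ∈ H)
    (hc : ∀ a b : G, ⁅a, b⁆ ∈ H) : powCommClosure G n ≤ H := by
  refine Subgroup.topologicalClosure_minimal _ (sup_le ?_ ?_) hH
  · rw [Subgroup.closure_le]
    rintro _ ⟨a, rfl⟩
    exact hp a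
  · rw [commutator_def, Subgroup.commutator_le]
    exact fun a _ b _ => hc a b

theorem le_of_quotient {K : Type*} [CommGroup K] (hK : ∀ k : K, k ^ n = 1) (f : G →* K)
    (hf : IsClosed (f.ker : Set G)) : powCommClosure G n ≤ f.ker :=
  le_of_closed f.ker hf (fun a => by rw [MonoidHom.mem_ker, map_pow, hK])
    fun a b => by rw [MonoidHom.mem_ker, map_commutatorElement, commutatorElement_eq_one_iff_mul_comm, mul_comm]

instance normal_powComm : (powCommClosure G n).Normal where
  conj_mem a ha g := by
    have h := (powCommClosure G n).mul_mem (comm_mem g a) ha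
    rwa [commutatorElement_def, inv_mul_cancel_right] at h


open W4c1etcurveeff2 in
/-- Let G be a topological group in which some finite subset generates a dense subgroup, let n ≥ 1, and
let S be the closure of the subgroup generated by all n-th powers and all commutators. Write D for
the group of continuous homomorphisms from G to the discrete cyclic group ℤ/n, that is,
homomorphisms with open kernel (the first cohomology of G with coefficients in the trivial module
ℤ/n), and D^∨ for its ℤ/n-dual, the group of homomorphisms D → ℤ/n. Then: S is carried onto itself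
by every group automorphism of G that is a homeomorphism; an element g of G lies in S exactly when
every element of D kills g, and every element of D^∨ is evaluation at some element of G, so that
evaluation identifies G/S with D^∨; and S is the only closed normal subgroup H of G with G/H
isomorphic to D^∨. (The published statement is for a topologically finitely generated group, calls S
characteristic and does not restrict the competing subgroups H; this row asks the automorphisms to
be homeomorphisms and H to be closed, which is what the argument uses: for the integers with the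
p-adic topology times a cyclic group of prime order q ≠ p, the subgroup qℤ × ℤ/q is normal, not
closed, and has quotient isomorphic to D^∨ ≅ ℤ/q, while S = ℤ × 0.) -/
theorem result
    {G : Type u} [Group G] [TopologicalSpace G] [IsTopologicalGroup G]
    (s : Finset G) (hs : Dense ((Subgroup.closure (s : Set G) : Subgroup G) : Set G))
    (n : ℕ) [NeZero n] (S : Subgroup G) (hS : S = powCommClosure G n) :
    (∀ φ : G ≃* G, Continuous φ → Continuous φ.symm → S.map φ.toMonoidHom = S) ∧
    (∀ g : G, g ∈ S ↔
        ∀ χ : G →* Multiplicative (ZMod n), IsOpen ((χ.ker : Subgroup G) : Set G) → χ g = 1) ∧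
    (∀ F : ContChar G n →* Multiplicative (ZMod n), ∃ g : G,
        ∀ χ : ContChar G n, F χ = (χ.1 : G →* Multiplicative (ZMod n)) g) ∧
    (∀ (H : Subgroup G) [H.Normal], IsClosed (H : Set G) →
        Nonempty (G ⧸ H ≃* (ContChar G n →* Multiplicative (ZMod n))) → H = S) := by
  subst hS
  set S := powCommClosure G n with hS
  let _ : CommGroup (G ⧸ S) :=
    { (inferInstance : Group (G ⧸ S)) with
      mul_comm := fun x y => by
        obtain ⟨a, rfl⟩ := QuotientGroup.mk_surjective x
        obtain ⟨b, rfl⟩ := QuotientGroup.mk_surjective y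
        rw [← commutatorElement_eq_one_iff_mul_comm, ← QuotientGroup.mk'_apply, ← QuotientGroup.mk'_apply,
          ← map_commutatorElement]
        exact (QuotientGroup.eq_one_iff _).mpr (comm_mem a b) }
  have hA : ∀ x : G ⧸ S, x ^ n = 1 := fun x => by
    obtain ⟨a, rfl⟩ := QuotientGroup.mk_surjective x
    exact (QuotientGroup.eq_one_iff _).mpr (pow_mem' a)
  have hcl : IsClosed (S : Set G) := Subgroup.isClosed_topologicalClosure _
  have hfin : Finite (G ⧸ S) := by
    let K : Subgroup (G ⧸ S) := Subgroup.closure ((QuotientGroup.mk' S) '' (s : Set G))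
    have hKfg : Group.FG K := (Group.fg_iff_subgroup_fg K).mpr
      ((Subgroup.fg_iff K).mpr ⟨_, rfl, s.finite_toSet.image _⟩)
    have hKt : Monoid.IsTorsion K := fun x =>
      isOfFinOrder_iff_pow_eq_one.mpr ⟨n, Nat.pos_of_neZero n, Subtype.ext (hA x.1)⟩
    have : Finite K := CommGroup.finite_of_fg_torsion K hKt
    have : T1Space (G ⧸ S) := QuotientGroup.instT1Space (hN := hcl)
    have hKc : IsClosed ((QuotientGroup.mk' S) ⁻¹' (K : Set (G ⧸ S))) :=
      (Set.toFinite (K : Set (G ⧸ S))).isClosed.preimage continuous_quotient_mk'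
    have h1 : (Subgroup.closure (s : Set G) : Set G) ⊆ (QuotientGroup.mk' S) ⁻¹' (K : Set (G ⧸ S)) := fun x hx => by
      change QuotientGroup.mk' S x ∈ K
      rw [show K = (Subgroup.closure (s : Set G)).map (QuotientGroup.mk' S) from (MonoidHom.map_closure _ _).symm]
      exact Subgroup.mem_map_of_mem _ hx
    have h2 := hKc.closure_subset_iff.mpr h1
    rw [hs.closure_eq] at h2
    exact Finite.of_surjective (fun x : K => (x : G ⧸ S)) fun x => by
      obtain ⟨a, rfl⟩ := QuotientGroup.mk_surjective x
      exact ⟨⟨_, h2 (Set.mem_univ a)⟩, rfl⟩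
  have : S.FiniteIndex := Subgroup.finiteIndex_of_finite_quotient
  have hopen : IsOpen (S : Set G) := Subgroup.isOpen_of_isClosed_of_finiteIndex S hcl
  have hker : ∀ χ : G →* Multiplicative (ZMod n), IsOpen ((χ.ker : Subgroup G) : Set G) → S ≤ χ.ker :=
    fun χ hχ => le_of_quotient (pow_card_eq_one' n) χ (Subgroup.isClosed_of_isOpen _ hχ)
  let pb : (G ⧸ S →* Multiplicative (ZMod n)) →* ContChar G n :=
    MonoidHom.mk' (fun ψ => ⟨ψ.comp (QuotientGroup.mk' S), Subgroup.isOpen_mono (fun a ha => by
      rw [MonoidHom.mem_ker, MonoidHom.comp_apply, QuotientGroup.mk'_apply, (QuotientGroup.eq_one_iff a).mpr ha,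
        map_one]) hopen⟩) fun ψ ψ' => rfl
  have h2 : ∀ g : G, g ∈ S ↔
      ∀ χ : G →* Multiplicative (ZMod n), IsOpen ((χ.ker : Subgroup G) : Set G) → χ g = 1 := fun g =>
    ⟨fun hg χ hχ => MonoidHom.mem_ker.mp (hker χ hχ hg), fun h => (QuotientGroup.eq_one_iff g).mp
      (eq_one_of_dual n hA fun ψ => h _ (pb ψ).2)⟩
  have h3 : ∀ F : ContChar G n →* Multiplicative (ZMod n), ∃ g : G,
      ∀ χ : ContChar G n, F χ = (χ.1 : G →* Multiplicative (ZMod n)) g := fun F => by
    obtain ⟨a, ha⟩ := eval_surjective n hA (F.comp pb)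
    obtain ⟨g, rfl⟩ := QuotientGroup.mk_surjective a
    refine ⟨g, fun χ => ?_⟩
    have h1 : pb (QuotientGroup.lift S χ.1 (hker χ.1 χ.2)) = χ := Subtype.ext (MonoidHom.ext fun _ => rfl)
    conv_lhs => rw [← h1]
    exact ha _
  refine ⟨fun φ hc hc' => ?_, h2, h3, fun H _ hH he => ?_⟩
  · have key : ∀ φ : G ≃* G, Continuous φ → S ≤ S.comap φ.toMonoidHom := fun φ hφ =>
      le_of_closed _ (hcl.preimage hφ) (fun a => by
        rw [Subgroup.mem_comap, map_pow]; exact pow_mem' _) fun a b => by
        rw [Subgroup.mem_comap, map_commutatorElement]; exact comm_mem _ _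
    refine le_antisymm (Subgroup.map_le_iff_le_comap.mpr (key φ hc)) fun x hx => ?_
    exact Subgroup.mem_map.mpr ⟨φ.symm x, key φ.symm hc' hx, φ.apply_symm_apply x⟩
  · obtain ⟨e⟩ := he
    let ev : G →* (ContChar G n →* Multiplicative (ZMod n)) :=
      MonoidHom.mk' (fun g => MonoidHom.mk' (fun χ => χ.1 g) fun _ _ => rfl)
        fun a b => MonoidHom.ext fun χ => map_mul χ.1 a b
    have hsurj : Function.Surjective ev := fun F => by
      obtain ⟨g, hg⟩ := h3 F
      exact ⟨g, MonoidHom.ext fun χ => (hg χ).symm⟩
    have hevker : ev.ker = S := Subgroup.ext fun g => by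
      rw [h2, MonoidHom.mem_ker, DFunLike.ext_iff]
      exact ⟨fun h χ hχ => h ⟨χ, hχ⟩, fun h χ => h χ.1 χ.2⟩
    let f : G →* (ContChar G n →* Multiplicative (ZMod n)) := e.toMonoidHom.comp (QuotientGroup.mk' H)
    have hfker : f.ker = H := Subgroup.ext fun g => by
      rw [MonoidHom.mem_ker]
      exact (MulEquiv.map_eq_one_iff e).trans (QuotientGroup.eq_one_iff g)
    have hle : S ≤ H := by
      rw [← hfker]
      exact le_of_quotient (fun F => MonoidHom.ext fun χ => pow_card_eq_one' n (F χ)) f (by rwa [hfker])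
    refine ((eq_or_lt_of_le hle).resolve_right fun hlt => ?_).symm
    have h := Subgroup.index_strictAnti hlt
    rw [← hfker, ← hevker, Subgroup.index_ker, Subgroup.index_ker,
      MonoidHom.range_eq_top.mpr hsurj, MonoidHom.range_eq_top.mpr (e.surjective.comp (QuotientGroup.mk'_surjective H))] at h
    exact lt_irrefl _ h

end Groth.Agent.S14176
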