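import Groth.Statements.S14177
import Mathlib

set_option autoImplicit false
universe u v w
open scoped nonZeroDivisors
open EtAlg

namespace Groth.Agent.S14177

/-- Let A be a Dedekind domain with fraction field K, let n be a natural number invertible in A, let f
be a nonzero element of K whose principal fractional ideal is the n-th power of a fractional ideal I
(the divisor of f is n times a divisor), and let L = K(α) be a field extension of K generated by a
single element α with α^n = f. Then the integral closure of A in L is finite and étale over A. (The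
published statement is for the normalisation of an integral smooth curve over a perfect field in
such an extension of its function field; this row states the same for any Dedekind domain, the case
the local argument covers.) -/
theorem result
    {A : Type u} {K : Type v} {L : Type w} [CommRing A] [IsDedekindDomain A]
    [Field K] [Algebra A K] [IsFractionRing A K]
    [Field L] [Algebra K L] [Algebra A L] [IsScalarTower A K L]
    (n : ℕ) (hn : IsUnit (n : A)) (f : K) (hf : f ≠ 0)
    (I : FractionalIdeal A⁰ K) (hI : FractionalIdeal.spanSingleton A⁰ f = I ^ n)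
    (α : L) (hα : α ^ n = algebraMap K L f) (hgen : IntermediateField.adjoin K {α} = ⊤) :
    Algebra.Etale A (integralClosure A L) ∧ Module.Finite A (integralClosure A L) := by
  classical
  haveI hdK : IsDomain A := inferInstance
  have hinjAK : Function.Injective (algebraMap A K) := IsFractionRing.injective A K
  have hn0 : n ≠ 0 := by
    rintro rfl
    rw [Nat.cast_zero] at hn
    exact not_isUnit_zero hn
  have hnK : (n : K) ≠ 0 := by
    have := (hn.map (algebraMap A K)).ne_zero
    rwa [map_natCast] at this
  have hroot : Polynomial.aeval α (Polynomial.X ^ n - Polynomial.C f) = 0 := by simp [hα]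
  have hαi : IsIntegral K α := ⟨_, Polynomial.monic_X_pow_sub_C f hn0, hroot⟩
  have hαsep : IsSeparable K α :=
    (Polynomial.separable_X_pow_sub_C f hnK hf).of_dvd (minpoly.dvd K α hroot)
  haveI : FiniteDimensional K L := by
    have := IntermediateField.adjoin.finiteDimensional hαi
    rw [hgen] at this
    exact Module.Finite.equiv IntermediateField.topEquiv.toLinearEquiv
  haveI : Algebra.IsSeparable K L := by
    have := (IntermediateField.isSeparable_adjoin_simple_iff_isSeparable K L).2 hαsep
    rw [hgen] at this
    exact AlgEquiv.Algebra.isSeparable IntermediateField.topEquiv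
  set B := integralClosure A L
  haveI : Module.Finite A B := IsIntegralClosure.finite A K L B
  haveI : IsFractionRing B L := integralClosure.isFractionRing_of_finite_extension K L
  haveI : IsDedekindDomain B := IsIntegralClosure.isDedekindDomain A K L B
  haveI : FaithfulSMul A B := by
    refine (faithfulSMul_iff_algebraMap_injective A B).2 fun a b h ↦ hinjAK ?_
    have := congrArg (algebraMap B L) h
    rw [← IsScalarTower.algebraMap_apply, ← IsScalarTower.algebraMap_apply,
      IsScalarTower.algebraMap_apply A K L, IsScalarTower.algebraMap_apply A K L] at this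
    exact (algebraMap K L).injective this
  haveI : Module.IsTorsionFree A B := inferInstance
  haveI : Module.Flat A B := inferInstance
  refine ⟨?_, inferInstance⟩
  haveI : Algebra.FinitePresentation A B :=
    Algebra.FinitePresentation.of_finiteType.1 inferInstance
  letI := FractionRing.liftAlgebra A (FractionRing B)
  haveI : Algebra.IsSeparable (FractionRing A) (FractionRing B) := by
    refine Algebra.IsSeparable.of_equiv_equiv (FractionRing.algEquiv A K).symm.toRingEquiv
      (FractionRing.algEquiv B L).symm.toRingEquiv ?_
    apply IsLocalization.ringHom_ext (nonZeroDivisors A)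
    ext a
    change algebraMap (FractionRing A) (FractionRing B) ((FractionRing.algEquiv A K).symm (algebraMap A K a))
      = (FractionRing.algEquiv B L).symm (algebraMap K L (algebraMap A K a))
    rw [AlgEquiv.commutes, ← IsScalarTower.algebraMap_apply, ← IsScalarTower.algebraMap_apply,
      IsScalarTower.algebraMap_apply A B L, AlgEquiv.commutes, ← IsScalarTower.algebraMap_apply]
  haveI : Algebra.FormallyUnramified A B := by
    rw [← Algebra.unramifiedLocus_eq_univ_iff, Set.eq_univ_iff_forall]
    intro P
    change Algebra.IsUnramifiedAt A P.asIdeal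
    rw [← not_dvd_differentIdeal_iff, Ideal.dvd_iff_le]
    intro hle
    set p := P.asIdeal.comap (algebraMap A B) with hp
    -- a maximal ideal above `p`
    obtain ⟨q, hq, hpq⟩ := Ideal.exists_le_maximal p (Ideal.IsPrime.ne_top inferInstance)
    obtain ⟨d, J, hd0, hI'⟩ := FractionalIdeal.exists_eq_spanSingleton_mul I
    have hI0 : I ≠ 0 := by
      intro h0
      rw [h0, zero_pow hn0, FractionalIdeal.spanSingleton_eq_zero_iff] at hI
      exact hf hI
    have hJ0 : J ≠ ⊥ := by
      intro h0
      rw [h0, FractionalIdeal.coeIdeal_bot, mul_zero] at hI'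
      exact hI0 hI'
    have hlt : q * J < J := by
      refine lt_of_le_of_ne Ideal.mul_le_right fun h ↦ hq.ne_top ?_
      rw [mul_eq_right₀ hJ0] at h
      rwa [← Ideal.one_eq_top]
    obtain ⟨j, hjJ, hjq⟩ := SetLike.exists_of_lt hlt
    obtain ⟨M, hM⟩ := Ideal.dvd_span_singleton.2 hjJ
    have hMq : ¬ M ≤ q := fun h ↦ hjq (by
      have : j ∈ J * M := hM ▸ Ideal.mem_span_singleton_self j
      rw [mul_comm q J]
      exact Ideal.mul_mono le_rfl h this)
    obtain ⟨m, hmM, hmq⟩ := SetLike.not_le_iff_exists.1 hMq
    obtain ⟨N, hN⟩ := Ideal.dvd_span_singleton.2 hmM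
    have hNq : ¬ N ≤ q := fun h ↦ hmq (h (Ideal.mul_le_right (hN ▸ Ideal.mem_span_singleton_self m)))
    have hj0 : j ≠ 0 := fun h0 ↦ hjq (h0 ▸ zero_mem _)
    have hm0 : m ≠ 0 := fun h0 ↦ hmq (h0 ▸ zero_mem _)
    set h : K := algebraMap A K d * algebraMap A K m / algebraMap A K j with hh
    have hdK0 : algebraMap A K d ≠ 0 := (map_ne_zero_iff _ hinjAK).2 hd0
    have hjK : algebraMap A K j ≠ 0 := (map_ne_zero_iff _ hinjAK).2 hj0
    have hmK : algebraMap A K m ≠ 0 := (map_ne_zero_iff _ hinjAK).2 hm0
    have hh0 : h ≠ 0 := div_ne_zero (mul_ne_zero hdK0 hmK) hjK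
    have hNI : FractionalIdeal.spanSingleton A⁰ h * I = (N : FractionalIdeal A⁰ K) := by
      apply mul_left_cancel₀
        (mt FractionalIdeal.spanSingleton_eq_zero_iff.1 hjK : FractionalIdeal.spanSingleton A⁰ (algebraMap A K j) ≠ 0)
      rw [hI', ← mul_assoc, ← mul_assoc, FractionalIdeal.spanSingleton_mul_spanSingleton,
        FractionalIdeal.spanSingleton_mul_spanSingleton]
      have : algebraMap A K j * h * (algebraMap A K d)⁻¹ = algebraMap A K m := by
        rw [hh]; field_simp
      rw [this, ← FractionalIdeal.coeIdeal_span_singleton, ← FractionalIdeal.coeIdeal_span_singleton,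
        hN, hM, ← FractionalIdeal.coeIdeal_mul, ← FractionalIdeal.coeIdeal_mul]
      congr 1
      ring
    have hNn : FractionalIdeal.spanSingleton A⁰ (h ^ n * f) = ((N ^ n : Ideal A) : FractionalIdeal A⁰ K) := by
      rw [← FractionalIdeal.spanSingleton_mul_spanSingleton, hI, ← FractionalIdeal.spanSingleton_pow,
        ← mul_pow, hNI, FractionalIdeal.coeIdeal_pow]
    obtain ⟨a, haN, ha⟩ : ∃ a ∈ N ^ n, algebraMap A K a = h ^ n * f :=
      (FractionalIdeal.mem_coeIdeal _).1 (hNn ▸ FractionalIdeal.mem_spanSingleton_self _ _)
    have haspan : Ideal.span {a} = N ^ n := by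
      apply FractionalIdeal.coeIdeal_injective (K := K)
      simp only []
      rw [FractionalIdeal.coeIdeal_span_singleton, ha, hNn]
    have haq : a ∉ q := fun h' ↦ hNq (hq.isPrime.le_of_pow_le
      (haspan ▸ (Ideal.span_singleton_le_iff_mem _).2 h'))
    set γ : L := algebraMap K L h * α with hγ
    have hγn : γ ^ n = algebraMap A L a := by
      rw [hγ, mul_pow, hα, ← map_pow, ← map_mul, ← ha, ← IsScalarTower.algebraMap_apply]
    let γB : B := ⟨γ, IsIntegral.of_pow (Nat.pos_of_ne_zero hn0) (hγn ▸ isIntegral_algebraMap)⟩
    have hγgen : Algebra.adjoin K {algebraMap B L γB} = ⊤ := by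
      have h1 : IntermediateField.adjoin K {γ} = ⊤ := by
        rw [eq_top_iff, ← hgen, IntermediateField.adjoin_simple_le_iff]
        have : α = algebraMap K L h⁻¹ * γ := by
          rw [hγ, ← mul_assoc, ← map_mul, inv_mul_cancel₀ hh0, map_one, one_mul]
        rw [this]
        exact mul_mem (IntermediateField.algebraMap_mem _ _) (IntermediateField.mem_adjoin_simple_self K γ)
      change Algebra.adjoin K {γ} = ⊤
      rw [← IntermediateField.adjoin_simple_toSubalgebra_of_isAlgebraic
        (Algebra.IsAlgebraic.isAlgebraic γ), h1, IntermediateField.top_toSubalgebra]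
    have hdiff := aeval_derivative_mem_differentIdeal A K L γB hγgen
    have hrootB : Polynomial.aeval γB (Polynomial.X ^ n - Polynomial.C a) = 0 := by
      apply Subtype.ext
      rw [← Subalgebra.aeval_coe]
      simp [γB, hγn]
    have hγi : IsIntegral A γB := ⟨_, Polynomial.monic_X_pow_sub_C a hn0, hrootB⟩
    obtain ⟨r, hr⟩ := minpoly.isIntegrallyClosed_dvd hγi hrootB
    have hmem : Polynomial.aeval γB (Polynomial.derivative (Polynomial.X ^ n - Polynomial.C a)) ∈ P.asIdeal := by
      rw [hr, Polynomial.derivative_mul, map_add, map_mul, map_mul, minpoly.aeval, zero_mul, add_zero]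
      exact P.asIdeal.mul_mem_right _ (hle hdiff)
    rw [Polynomial.derivative_sub, Polynomial.derivative_X_pow, Polynomial.derivative_C, sub_zero,
      map_mul, Polynomial.aeval_C, map_pow, Polynomial.aeval_X] at hmem
    have hγnB : γB ^ n = algebraMap A B a := by
      rw [← sub_eq_zero]
      simpa using hrootB
    rcases P.2.mem_or_mem hmem with h1 | h1
    · exact P.2.ne_top (Ideal.eq_top_of_isUnit_mem _ h1 (hn.map _))
    · have : γB ^ n ∈ P.asIdeal := Ideal.pow_mem_of_mem _ (P.2.mem_of_pow_mem _ h1) n (Nat.pos_of_ne_zero hn0)
      rw [hγnB] at this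
      exact haq (hpq this)
  exact Algebra.Etale.of_formallyUnramified_of_flat

end Groth.Agent.S14177
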