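import Groth.Statements.S14178
import Mathlib

set_option autoImplicit false
universe u v w
open scoped nonZeroDivisors
open EtAlg

namespace Groth.Agent.S14178

/-- Let A be a Dedekind domain with fraction field K, let n be a natural number invertible in A such
that K contains a primitive n-th root of unity, let f be a nonzero element of K and I an invertible
fractional ideal of A with (f) = I^n whose class in the ideal class group of A has order exactly n
(the divisor of f is n times a divisor whose class has order n), and let L = K(α) be a field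
extension of K generated by a single element α with α^n = f. Then L is Galois over K of degree n
with cyclic Galois group. (The published statement is for an integral smooth curve over a perfect
field containing a primitive n-th root of unity, with the Picard group of the curve in place of the
class group; this row states it for any Dedekind domain.) -/
theorem result
    {A : Type u} {K : Type v} {L : Type w} [CommRing A] [IsDedekindDomain A]
    [Field K] [Algebra A K] [IsFractionRing A K]
    [Field L] [Algebra K L]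
    (n : ℕ) (hn : IsUnit (n : A)) (ζ : K) (hζ : IsPrimitiveRoot ζ n) (f : K) (hf : f ≠ 0)
    (I : (FractionalIdeal A⁰ K)ˣ) (hI : FractionalIdeal.spanSingleton A⁰ f = (I : FractionalIdeal A⁰ K) ^ n)
    (hord : orderOf (ClassGroup.mk K I) = n)
    (α : L) (hα : α ^ n = algebraMap K L f) (hgen : IntermediateField.adjoin K {α} = ⊤) :
    IsGalois K L ∧ IsCyclic (L ≃ₐ[K] L) ∧ Module.finrank K L = n := by
  classical
  have hn0 : n ≠ 0 := fun h => by subst h; simp at hn
  have hnpos : 0 < n := Nat.pos_of_ne_zero hn0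
  haveI : NeZero n := ⟨hn0⟩
  have hαint : IsIntegral K α := ⟨Polynomial.X ^ n - Polynomial.C f, Polynomial.monic_X_pow_sub_C f hn0, by simp [hα]⟩
  haveI : FiniteDimensional K L := by
    have h := IntermediateField.adjoin.finiteDimensional hαint
    rw [hgen] at h
    exact Module.Finite.equiv IntermediateField.topEquiv.toLinearEquiv
  have hα0 : α ≠ 0 := fun h => by
    rw [h, zero_pow hn0, eq_comm, map_eq_zero] at hα
    exact hf hα
  set m := Module.finrank K L with hm
  have hdeg : (minpoly K α).natDegree = m := by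
    rw [← IntermediateField.adjoin.finrank hαint, hgen, hm]
    exact finrank_top K L
  -- the constant coefficient of the minimal polynomial
  set ζL := algebraMap K L ζ with hζL
  have hζL' : IsPrimitiveRoot ζL n := hζ.map_of_injective (algebraMap K L).injective
  have hdvd : (minpoly K α).map (algebraMap K L) ∣ ∏ i ∈ Finset.range n, (Polynomial.X - Polynomial.C (ζL ^ i * α)) := by
    have h2 := X_pow_sub_C_eq_prod hζL' hnpos hα
    rw [← h2]
    have h3 := Polynomial.map_dvd (algebraMap K L) (minpoly.dvd K α (p := Polynomial.X ^ n - Polynomial.C f) (by simp [hα]))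
    simpa using h3
  have hαm : α ^ m ∈ Set.range (algebraMap K L) := by
    have hmon : ((minpoly K α).map (algebraMap K L)).Monic := (minpoly.monic hαint).map _
    have hne : ∏ i ∈ Finset.range n, (Polynomial.X - Polynomial.C (ζL ^ i * α)) ≠ 0 :=
      (Polynomial.monic_prod_of_monic _ _ fun i _ => Polynomial.monic_X_sub_C _).ne_zero
    have hsplit : ((minpoly K α).map (algebraMap K L)).Splits :=
      (Polynomial.Splits.prod fun i _ => Polynomial.Splits.X_sub_C _).of_dvd hne hdvd
    have hroots : ∀ x ∈ ((minpoly K α).map (algebraMap K L)).roots, ∃ i : ℕ, x = ζL ^ i * α := by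
      intro x hx
      have h1 := Multiset.mem_of_le (Polynomial.roots.le_of_dvd hne hdvd) hx
      rw [Polynomial.roots_prod _ _ hne, Multiset.mem_bind] at h1
      obtain ⟨i, -, hi⟩ := h1
      rw [Polynomial.roots_X_sub_C, Multiset.mem_singleton] at hi
      exact ⟨i, hi⟩
    have hprod : ∀ s : Multiset L, (∀ x ∈ s, ∃ i : ℕ, x = ζL ^ i * α) → ∃ j : ℕ, s.prod = ζL ^ j * α ^ s.card := by
      intro s
      induction s using Multiset.induction with
      | empty => exact fun _ => ⟨0, by simp⟩
      | cons a s ih =>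
        intro hs
        obtain ⟨i, hi⟩ := hs a (Multiset.mem_cons_self a s)
        obtain ⟨j, hj⟩ := ih fun x hx => hs x (Multiset.mem_cons_of_mem hx)
        refine ⟨i + j, ?_⟩
        rw [Multiset.prod_cons, hi, hj, Multiset.card_cons, pow_add, pow_succ]
        ring
    obtain ⟨j, hj⟩ := hprod _ hroots
    have hc := hsplit.coeff_zero_eq_prod_roots_of_monic hmon
    rw [hj, ← hsplit.natDegree_eq_card_roots, Polynomial.natDegree_map, hdeg, Polynomial.coeff_map] at hc
    refine ⟨(minpoly K α).coeff 0 / ((-1) ^ m * ζ ^ j), ?_⟩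
    have hne1 : ((-1 : L) ^ m * ζL ^ j) ≠ 0 := mul_ne_zero (pow_ne_zero _ (by simp)) (pow_ne_zero _ (hζL'.ne_zero hn0))
    rw [map_div₀, map_mul, map_pow, map_pow, map_neg, map_one, hc, ← hζL, eq_comm, eq_div_iff hne1]
    ring
  -- hence `α ^ gcd` is rational
  set d := Nat.gcd m n with hd
  have hαd : α ^ d ∈ (algebraMap K L).fieldRange := by
    have h1 : α ^ m ∈ (algebraMap K L).fieldRange := hαm
    have h2 : α ^ n ∈ (algebraMap K L).fieldRange := ⟨f, hα.symm⟩
    have h3 : α ^ (d : ℤ) ∈ (algebraMap K L).fieldRange := by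
      rw [hd, Nat.gcd_eq_gcd_ab, zpow_add₀ hα0, zpow_mul, zpow_mul, zpow_natCast, zpow_natCast]
      exact mul_mem (zpow_mem h1 _) (zpow_mem h2 _)
    rwa [zpow_natCast] at h3
  obtain ⟨g, hg⟩ := hαd
  have hdpos : 0 < d := Nat.gcd_pos_of_pos_right _ hnpos
  have hmd : m ≤ d := by
    rw [← hdeg]
    refine (Polynomial.natDegree_le_of_dvd (minpoly.dvd K α (p := Polynomial.X ^ d - Polynomial.C g) (by simp [hg]))
      (Polynomial.monic_X_pow_sub_C g hdpos.ne').ne_zero).trans ?_
    rw [Polynomial.natDegree_X_pow_sub_C]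
  have hmdd : m = d := le_antisymm hmd (Nat.le_of_dvd Module.finrank_pos (Nat.gcd_dvd_left _ _))
  obtain ⟨k, hk⟩ : m ∣ n := hmdd ▸ Nat.gcd_dvd_right m n
  have hkpos : 0 < k := Nat.pos_of_ne_zero fun h => hn0 (by rw [hk, h, mul_zero])
  have hg0 : g ≠ 0 := fun h => by
    rw [h, map_zero, eq_comm] at hg; exact hα0 (pow_eq_zero_iff hdpos.ne' |>.mp hg)
  have hfg : f = g ^ k := (algebraMap K L).injective (by rw [← hα, map_pow, hg, ← pow_mul, ← hmdd, ← hk])
  -- torsion-freeness of the group of fractional ideals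
  have htf : ∀ J : (FractionalIdeal A⁰ K)ˣ, J ^ k = 1 → (J : FractionalIdeal A⁰ K) ≤ 1 := by
    intro J hJ x hx
    have hxk : x ^ k ∈ ((J : FractionalIdeal A⁰ K) ^ k) := by
      rw [← FractionalIdeal.mem_coe, FractionalIdeal.coe_pow]
      exact Submodule.pow_mem_pow _ hx k
    rw [← Units.val_pow_eq_pow_val, hJ, Units.val_one] at hxk
    obtain ⟨a, ha⟩ := (FractionalIdeal.mem_one_iff _).mp hxk
    have hxint : IsIntegral A x := IsIntegral.of_pow hkpos (by rw [← ha]; exact isIntegral_algebraMap)
    obtain ⟨b, hb⟩ := IsIntegrallyClosed.isIntegral_iff.mp hxint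
    exact (FractionalIdeal.mem_one_iff _).mpr ⟨b, hb⟩
  let G : (FractionalIdeal A⁰ K)ˣ := toPrincipalIdeal A K (Units.mk0 g hg0)
  have hGk : (I ^ m * G⁻¹) ^ k = 1 := by
    rw [mul_pow, ← pow_mul, ← hk, inv_pow, mul_inv_eq_one]
    refine Units.ext ?_
    rw [Units.val_pow_eq_pow_val, Units.val_pow_eq_pow_val, coe_toPrincipalIdeal, Units.val_mk0,
      FractionalIdeal.spanSingleton_pow, ← hfg, hI]
  have hJ1 : I ^ m * G⁻¹ = 1 := by
    refine Units.ext (le_antisymm (htf _ hGk) ?_)
    have h := htf (I ^ m * G⁻¹)⁻¹ (by rw [inv_pow, hGk, inv_one])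
    rw [Units.val_one]
    calc (1 : FractionalIdeal A⁰ K) = ((I ^ m * G⁻¹ : (FractionalIdeal A⁰ K)ˣ) : FractionalIdeal A⁰ K) *
          ((I ^ m * G⁻¹)⁻¹ : (FractionalIdeal A⁰ K)ˣ) := by rw [← Units.val_mul, mul_inv_cancel, Units.val_one]
      _ ≤ ((I ^ m * G⁻¹ : (FractionalIdeal A⁰ K)ˣ) : FractionalIdeal A⁰ K) * 1 :=
          mul_le_mul_right h _
      _ = _ := mul_one _
  have hclass : ClassGroup.mk K I ^ m = 1 := by
    rw [← map_pow, mul_inv_eq_one.mp hJ1, ClassGroup.mk_eq_one_iff]
    exact ⟨⟨g, by rw [coe_toPrincipalIdeal, FractionalIdeal.coe_spanSingleton]; rfl⟩⟩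
  have hnm : m = n := Nat.dvd_antisymm ⟨k, hk⟩ (hord ▸ orderOf_dvd_of_pow_eq_one hclass)
  have hK : (primitiveRoots (Module.finrank K L) K).Nonempty :=
    ⟨ζ, (mem_primitiveRoots Module.finrank_pos).mpr (by rw [← hm, hnm]; exact hζ)⟩
  have h3 : ∃ β : L, β ^ Module.finrank K L ∈ Set.range (algebraMap K L) ∧ IntermediateField.adjoin K {β} = ⊤ :=
    ⟨α, ⟨f, by rw [← hm, hnm, hα]⟩, hgen⟩
  have : IsGalois K L ∧ IsCyclic (L ≃ₐ[K] L) := ((isCyclic_tfae K L hK).out 0 2 rfl rfl).mpr h3
  exact ⟨this.1, this.2, hnm⟩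

end Groth.Agent.S14178
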