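import Groth.Statements.S14179
import Groth.Agent.S0171
import Groth.Agent.S0227
import Groth.Agent.S1585
import Groth.Agent.S0071
import Groth.Agent.S3502
import Groth.Agent.EtaleSite.HpullComp
import Groth.Agent.EtAcDepth.Leray
import Groth.Agent.EtaleSite.PushFiber
import Groth.Agent.EtaleSite.Recollement
import Groth.Agent.EtConsAb.PullTriv
-- import your own Groth.Agent.* helpers here

set_option autoImplicit false
universe u
open CategoryTheory CategoryTheory.Limits AlgebraicGeometry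
open EtCore

namespace Groth.Agent.S14179


open Groth.Agent

attribute [-instance] GalCohAux.EtFin.instUniqueCarrierCarrierCommRingCatSpecOf_groth

set_option backward.isDefEq.respectTransparency.types false in
/-- The unit of a finite morphism is bijective on stalks over an open where it is an isomorphism. -/
theorem bijective_stalk_unit {X Y : Scheme.{u}} (f : Y ⟶ X) [IsFinite f] (G : EtCoh.Ab X)
    (V : X.Opens) [IsIso (f ∣_ V)] {Ω : Type u} [Field Ω] [IsSepClosed Ω]
    (η : Spec (CommRingCat.of Ω) ⟶ X) (hη : η default ∈ V) :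
    Function.Bijective ((EtCoh.stalk η).map ((EtCoh.pullPushAdj f).unit.app G)) := by
  let L := AlgebraicClosure Ω
  let σ : Spec (CommRingCat.of L) ⟶ Spec (CommRingCat.of Ω) :=
    Spec.map (CommRingCat.ofHom (algebraMap Ω L))
  suffices h : IsIso ((EtCoh.stalk (σ ≫ η)).map ((EtCoh.pullPushAdj f).unit.app G)) by
    haveI := (NatIso.isIso_map_iff (EtaleSite.stalkExtIso σ η) _).2 h
    exact ConcreteCategory.bijective_of_isIso _
  have hr : Set.range (σ ≫ η) ⊆ Set.range V.ι := by
    rintro _ ⟨z, rfl⟩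
    rw [Scheme.Opens.range_ι]
    show η (σ z) ∈ V
    rw [Subsingleton.elim (α := Spec (CommRingCat.of Ω)) (σ z) default]
    exact hη
  let l : Spec (CommRingCat.of L) ⟶ V := IsOpenImmersion.lift V.ι (σ ≫ η) hr
  let ξ₀ : Spec (CommRingCat.of L) ⟶ Y := l ≫ inv (f ∣_ V) ≫ (f ⁻¹ᵁ V).ι
  have hξ₀ : ξ₀ ≫ f = σ ≫ η := by
    simp only [ξ₀, Category.assoc, ← morphismRestrict_ι, IsIso.inv_hom_id_assoc]
    exact IsOpenImmersion.lift_fac _ _ _
  have huniq : ∀ ξ, ξ ≫ f = σ ≫ η → ξ = ξ₀ := by
    intro ξ hξ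
    have hr' : Set.range ξ ⊆ Set.range (f ⁻¹ᵁ V).ι := by
      rintro _ ⟨z, rfl⟩
      rw [Scheme.Opens.range_ι]
      show f (ξ z) ∈ V
      rw [← Scheme.Hom.comp_apply, hξ]
      obtain ⟨y, hy⟩ := hr ⟨z, rfl⟩
      rw [← hy]
      exact y.2
    have e : IsOpenImmersion.lift (f ⁻¹ᵁ V).ι ξ hr' ≫ f ∣_ V = l := by
      rw [← cancel_mono V.ι, Category.assoc, morphismRestrict_ι, IsOpenImmersion.lift_fac_assoc,
        hξ]
      exact (IsOpenImmersion.lift_fac _ _ _).symm
    calc ξ = IsOpenImmersion.lift (f ⁻¹ᵁ V).ι ξ hr' ≫ (f ⁻¹ᵁ V).ι :=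
          (IsOpenImmersion.lift_fac _ _ _).symm
      _ = ξ₀ := by simp [ξ₀, ← e]
  let P := (EtCoh.pull f).obj G
  let c := EtaleSite.cmpAt f ξ₀ hξ₀ P
  haveI : IsIso c := (ConcreteCategory.isIso_iff_bijective _).2
    ⟨fun a b hab => sub_eq_zero.1 (EtaleSite.eq_zero_of_cmpAt f (σ ≫ η) P (a - b) fun ξ hξ => by
        obtain rfl := huniq ξ hξ
        show c (a - b) = 0
        rw [map_sub, hab, sub_self]),
      fun q => by
        obtain ⟨p, hp⟩ := EtaleSite.exists_cmpAt_eq f (σ ≫ η) P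
          (fun ξ => huniq ξ.1 ξ.2 ▸ q)
        exact ⟨p, hp ⟨ξ₀, hξ₀⟩⟩⟩
  haveI : IsIso ((EtCoh.stalk (σ ≫ η)).map ((EtCoh.pullPushAdj f).unit.app G) ≫ c) := by
    have e : (EtCoh.stalk (σ ≫ η)).map ((EtCoh.pullPushAdj f).unit.app G) ≫ c =
        eqToHom (by rw [hξ₀]; rfl) ≫ (EtaleSite.stalkPullIso f ξ₀).inv.app G := by
      ext p
      obtain ⟨W, φ, t, rfl⟩ := EtaleSite.exists_germ_eq _ G p
      rw [ConcreteCategory.comp_apply]
      refine (congrArg c (EtaleSite.germ_naturality (σ ≫ η)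
        ((EtCoh.pullPushAdj f).unit.app G) W φ t)).trans ?_
      refine (EtaleSite.cmpAt_germ f ξ₀ hξ₀ P W φ _).trans ?_
      revert φ
      generalize σ ≫ η = η' at hξ₀
      subst hξ₀
      intro φ
      rw [eqToHom_refl, Category.id_comp]
      exact EtConsAb.germ_pullSect f ξ₀ G W φ t
    rw [e]
    infer_instance
  exact IsIso.of_isIso_comp_right _ c

/-- Let k be an algebraically closed field, X an integral curve over k (separated and of finite type
over k, of dimension one) and ν : X^ν ⟶ X its normalization, and let n ≥ 1 be invertible in k. Then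
pulling back along ν induces a bijection from H²(X, μ_n) onto H²(X^ν, ν⁻¹μ_n) (étale cohomology;
ν⁻¹μ_n is the sheaf of n-th roots of unity of X^ν). (The published statement allows any curve over
k; this row takes X integral. Exactness of pullback of abelian sheaves and the quasi-compactness and
quasi-separatedness of Spec K(X) ⟶ X always hold; the binders are only needed to form the map and
the normalization.) -/
theorem result
    (k : Type u) [Field k] [IsAlgClosed k] (X : Scheme.{u}) (f : X ⟶ Spec (CommRingCat.of k))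
    [IsSeparated f] [LocallyOfFiniteType f] [QuasiCompact f] [IsIntegral X]
    (hdim : topologicalKrullDim X = 1)
    [QuasiCompact (X.fromSpecStalk (genericPoint X))] [QuasiSeparated (X.fromSpecStalk (genericPoint X))]
    [PreservesFiniteLimits (EtCoh.pull (Curv2.normalizationι X))]
    (n : ℕ) (hn : 1 ≤ n) (hnk : (n : k) ≠ 0) :
    Function.Bijective (EtCore.Hpull (Curv2.normalizationι X) (EtCoh.mu X n) 2) := by
  let ν := Curv2.normalizationι X
  let G := EtCoh.mu X n
  letI : X.Over (Spec (CommRingCat.of k)) := ⟨f⟩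
  haveI : LocallyOfFiniteType (X ↘ Spec (CommRingCat.of k)) := ‹LocallyOfFiniteType f›
  obtain ⟨hfin, -, ⟨V, hVne, hV⟩, -, -⟩ := Groth.Agent.S1585.result k X
  haveI : IsFinite ν := hfin
  haveI : IsIso (ν ∣_ V) := hV
  let a := (EtCoh.pullPushAdj ν).unit.app G
  obtain ⟨hK, hC⟩ := Groth.Agent.S0227.supp_kernel_cokernel a fun Ω _ _ ξ hξ => by
    refine bijective_stalk_unit ν G V ξ ?_
    by_cases he : genericPoint X = ξ default
    · rw [← he]
      exact (genericPoint_spec X).mem_open_set_iff V.2 |>.2 (by simpa using hVne)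
    · exact absurd
        (S3502.spec_dim_one X hdim.le (genericPoint X) (ξ default) (genericPoint_specializes _) he).1 hξ
  let S1 : ShortComplex (EtCoh.Ab X) :=
    ShortComplex.mk (kernel.ι a) (Abelian.coimage.π a) (cokernel.condition _)
  let S2 : ShortComplex (EtCoh.Ab X) :=
    ShortComplex.mk (Abelian.image.ι a) (cokernel.π a) (kernel.condition _)
  have hS1 : S1.ShortExact := { exact := ShortComplex.exact_of_g_is_cokernel _ (cokernelIsCokernel _) }
  have hS2 : S2.ShortExact := { exact := ShortComplex.exact_of_f_is_kernel _ (kernelIsKernel _) }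
  have v1 : ∀ q, 0 < q → Subsingleton (EtCoh.H X S1.X₁ q) := fun q hq =>
    Groth.Agent.S0171.result X f _ hK q hq
  have v2 : ∀ q, 0 < q → Subsingleton (EtCoh.H X S2.X₃ q) := fun q hq =>
    Groth.Agent.S0171.result X f _ hC q hq
  have ha : Function.Bijective fun e : EtCoh.H X G 2 => e.comp (Abelian.Ext.mk₀ a) (add_zero 2) := by
    have hfac : S1.g ≫ (Abelian.coimageIsoImage a).hom ≫ S2.f = a :=
      Abelian.coimage_image_factorisation a
    have hcomp : ∀ e : EtCoh.H X G 2, e.comp (Abelian.Ext.mk₀ a) (add_zero 2) =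
        ((e.comp (Abelian.Ext.mk₀ S1.g) (add_zero 2)).comp
          (Abelian.Ext.mk₀ (Abelian.coimageIsoImage a).hom) (add_zero 2)).comp
            (Abelian.Ext.mk₀ S2.f) (add_zero 2) := fun e => by
      simp only [Abelian.Ext.comp_assoc_of_third_deg_zero, Abelian.Ext.mk₀_comp_mk₀]
      rw [Category.assoc, hfac]
    constructor
    · intro e e' he
      rw [← sub_eq_zero]
      let z := e - e'
      have hz : z.comp (Abelian.Ext.mk₀ a) (add_zero 2) = 0 := by
        simp only [z, sub_eq_add_neg, Abelian.Ext.add_comp, Abelian.Ext.neg_comp]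
        rw [← sub_eq_add_neg, sub_eq_zero]; exact he
      rw [hcomp] at hz
      obtain ⟨w, hw⟩ := Abelian.Ext.covariant_sequence_exact₁ _ hS2 _ hz (rfl : 1 + 1 = 2)
      rw [@Subsingleton.elim _ (v2 1 one_pos) w 0, Abelian.Ext.zero_comp] at hw
      have h2 : z.comp (Abelian.Ext.mk₀ S1.g) (add_zero 2) = 0 :=
        (EtaleSite.HpullComp.HF_map_bijective (n := 2) (Abelian.coimageIsoImage a).hom).1
          (hw.symm.trans (Abelian.Ext.zero_comp _ _ _ _ _).symm)
      obtain ⟨w', hw'⟩ := Abelian.Ext.covariant_sequence_exact₂ _ hS1 z h2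
      rw [@Subsingleton.elim _ (v1 2 two_pos) w' 0, Abelian.Ext.zero_comp] at hw'
      exact hw'.symm
    · intro y
      obtain ⟨y₁, hy₁⟩ := Abelian.Ext.covariant_sequence_exact₂ _ hS2 y
        (@Subsingleton.elim _ (v2 2 two_pos) _ _)
      obtain ⟨y₂, hy₂⟩ := (EtaleSite.HpullComp.HF_map_bijective (n := 2)
        (Abelian.coimageIsoImage a).hom).2 y₁
      obtain ⟨y₃, hy₃⟩ := Abelian.Ext.covariant_sequence_exact₃ _ hS1 y₂ (rfl : 2 + 1 = 3)
        (@Subsingleton.elim _ (v1 3 (by omega)) _ _)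
      refine ⟨y₃, ?_⟩
      show y₃.comp (Abelian.Ext.mk₀ a) (add_zero 2) = y
      rw [hcomp, hy₃, show y₂.comp (Abelian.Ext.mk₀ (Abelian.coimageIsoImage a).hom) (add_zero 2) = y₁
        from hy₂, hy₁]
  have hb := EtaleSite.AdjExt.toExt_bijective_le (EtCoh.pullPushAdj ν) 2 (EtCoh.const X ℤ)
    ((EtCoh.pull ν).obj G) fun b hb _ => Groth.Agent.S0071.result ν _ b hb
  have hψ : Function.Bijective fun x : Abelian.Ext ((EtCoh.pull ν).obj (EtCoh.const X ℤ))
      ((EtCoh.pull ν).obj G) 2 =>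
      (Abelian.Ext.mk₀ (EtCore.pullConst ν ℤ).inv).comp x (zero_add 2) := by
    refine Function.bijective_iff_has_inverse.2
      ⟨fun x => (Abelian.Ext.mk₀ (EtCore.pullConst ν ℤ).hom).comp x (zero_add 2), ?_, ?_⟩ <;>
    · intro x
      simp
  convert hψ.comp (hb.comp ha) using 1
  funext e
  show (Abelian.Ext.mk₀ (EtCore.pullConst ν ℤ).inv).comp (e.mapExactFunctor (EtCoh.pull ν))
      (zero_add 2) = (Abelian.Ext.mk₀ (EtCore.pullConst ν ℤ).inv).comp
      (EtaleSite.AdjExt.toExt (EtCoh.pullPushAdj ν) _ _ 2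
        (e.comp (Abelian.Ext.mk₀ a) (add_zero 2))) (zero_add 2)
  congr 1
  simp only [EtaleSite.AdjExt.toExt, Abelian.Ext.mapExactFunctor_comp,
    Abelian.Ext.mapExactFunctor_mk₀, Abelian.Ext.comp_assoc_of_third_deg_zero,
    Abelian.Ext.mk₀_comp_mk₀]
  rw [show (EtCoh.pull ν).map a ≫ (EtCoh.pullPushAdj ν).counit.app ((EtCoh.pull ν).obj G) = 𝟙 _
    from (EtCoh.pullPushAdj ν).left_triangle_components G]
  exact (Abelian.Ext.comp_mk₀_id _).symm

end Groth.Agent.S14179
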