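import Groth.Statements.S14625
import Groth.Agent.RegDivMu.Lift

set_option autoImplicit false
open CategoryTheory AlgebraicGeometry
universe u
open EtBase

namespace Groth.Agent.S14625

/-- Let A be a strictly henselian local ring, n ≥ 1 an integer invertible in A, and X a scheme over Spec
A. Then the étale sheaf μ_n of n-th roots of unity on X is isomorphic to the constant sheaf with
value ℤ/n. Only the existence of an isomorphism is asserted; it depends on the choice of a primitive
n-th root of unity in A. -/
theorem result (A : Type u) [CommRing A]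
    (hA : EtCoh.IsStrictlyHenselianLocalRing A) (n : ℕ) (hn : 1 ≤ n) (hu : IsUnit (n : A))
    (X : Scheme.{u}) (f : X ⟶ Spec (CommRingCat.of A)) :
    Nonempty (EtCoh.mu X n ≅ EtCoh.const X (ZMod n)) := by
  obtain ⟨hH, hsep⟩ := hA
  haveI := hH
  haveI := hsep
  haveI : NeZero n := ⟨by omega⟩
  have hn' : IsUnit (n : Γ(Spec (CommRingCat.of A), ⊤)) := by
    simpa only [map_natCast] using hu.map (Scheme.ΓSpecIso (CommRingCat.of A)).inv.hom
  obtain ⟨X', g, _, σ', ζ, -, hnX', hζ⟩ :=
    Groth.Agent.RegDivMu.exists_cyclotomic_lift n hn' A (𝟙 (Spec (CommRingCat.of A)))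
  exact Groth.Agent.EtSupp.MuConst.nonempty_iso (S := X) (by simpa using hnX'.map (f ≫ σ').appTop.hom)
    ((f ≫ σ').appTop ζ) (Groth.Agent.RegDivMu.root_appTop (f ≫ σ') hζ)

end Groth.Agent.S14625
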