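import Groth.Statements.S14180
import Groth.Agent.S14179
import Groth.Agent.S14625
import Groth.Agent.S11568
import Groth.Agent.S7657
import Groth.Agent.S9235
import Groth.Agent.S9812
import Groth.Agent.S0074
import Groth.Agent.StrictSSLib.OdpConj
import Groth.Agent.S9791
import Groth.Agent.EtRestLib.LocallyConstant
import Groth.Agent.EtDepthLib.Clopen
import Groth.Agent.EtConsAb.ConstMod
import Mathlib.AlgebraicGeometry.AlgClosed.Basic
-- import your own Groth.Agent.* helpers here

set_option autoImplicit false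
set_option linter.style.haveILetI false
set_option backward.isDefEq.respectTransparency.types false
set_option backward.isDefEq.respectTransparency false
universe u
open CategoryTheory CategoryTheory.Limits AlgebraicGeometry Opposite
open EtCore

namespace Groth.Agent.S14180

open Groth.Agent Groth.Agent.EtaleSite

attribute [-instance] GalCohAux.EtFin.instUniqueCarrierCarrierCommRingCatSpecOf_groth

/-- A constant sheaf has stalks of the same cardinality as its value group. -/
theorem natCard_stalk_const {X : Scheme.{u}} (n : ℕ) {Ω : Type u} [Field Ω] [IsSepClosed Ω]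
    (ξ : Spec (CommRingCat.of Ω) ⟶ X) :
    Nat.card ((EtCoh.stalk ξ).obj (EtCoh.const X (ZMod n))) = n := by
  obtain ⟨φ, -⟩ := exists_fiber_point ξ (EtCoh.top X) (ξ default) rfl
  have h := EtConsAb.isTriv_constSect (ULift.{u + 1} (ZMod n)) (EtCoh.top X) Ω ξ φ
  exact ((Nat.card_congr (Equiv.ofBijective _ h)).symm.trans
    (Nat.card_congr (Equiv.ulift (α := ZMod n)))).trans (Nat.card_zmod n)

/-- The inverse image of a constant sheaf has stalks of the same cardinality. -/
theorem natCard_stalk_pull_const {X Y : Scheme.{u}} (f : Y ⟶ X) (n : ℕ) {Ω : Type u} [Field Ω]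
    [IsSepClosed Ω] (ξ : Spec (CommRingCat.of Ω) ⟶ Y) :
    Nat.card ((EtCoh.stalk ξ).obj ((EtCoh.pull f).obj (EtCoh.const X (ZMod n)))) = n :=
  (Nat.card_congr ((stalkPullIso f ξ).app (EtCoh.const X (ZMod n))).addCommGroupIsoToAddEquiv.toEquiv).trans
    (natCard_stalk_const n (ξ ≫ f))

open Groth.Agent.EtaleSite.ConstSections in
/-- Sections of constant sheaves on connected schemes are constant. -/
theorem cst_bijective_of_connected (W : Scheme.{u}) [ConnectedSpace W] (M : AddCommGrpCat.{u + 1}) :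
    Function.Bijective fun c : M => cst (EtCoh.top W) c := by
  obtain ⟨w⟩ : Nonempty ↥W := inferInstance
  let T := EtCoh.top W
  haveI : ConnectedSpace T.left := inferInstanceAs (ConnectedSpace W)
  refine ⟨fun c d h => cst_injective (show T.left from w) h, fun s => ?_⟩
  obtain ⟨c, hc⟩ := EtDepthLib.exists_level T s w
  have hu := (EtDepthLib.isClopen_sectSupp T (s - cst T c)).compl.eq_univ ⟨w, hc⟩
  refine ⟨c, (sub_eq_zero.1 (EtShriekLib.eq_zero_of_sectSupp_empty _ _ ?_)).symm⟩
  exact Set.compl_univ_iff.1 hu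

section Nodal

variable {k : Type u} [Field k] [IsAlgClosed k] {X : Scheme.{u}} [X.Over (Spec (CommRingCat.of k))]
  [LocallyOfFiniteType (X ↘ Spec (CommRingCat.of k))] [IsIntegral X]
  [QuasiCompact (X.fromSpecStalk (genericPoint X))] [QuasiSeparated (X.fromSpecStalk (genericPoint X))]

/-- The normalization has two points over a node. -/
theorem card_fibre_node (hdim : topologicalKrullDim X = 1) {x : X} (hx : Curv2.IsNode k X x) :
    ENat.card {y : ↥(Curv2.normalization X) // (Curv2.normalizationι X).base y = x} = 2 := by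
  obtain ⟨hcl, xb, hxb, hord⟩ := hx
  let K := AlgebraicClosure k
  have hb : Function.Bijective (algebraMap k K) := IsAlgClosed.algebraMap_bijective_of_isIntegral
  let σ : K ≃+* k := (RingEquiv.ofBijective (algebraMap k K) hb).symm
  haveI : IsIso (CommRingCat.ofHom (algebraMap k K)) := (ConcreteCategory.isIso_iff_bijective _).2 hb
  let P : Curv2.bc k X K ⟶ X := pullback.fst _ _
  haveI : IsIso P := inferInstanceAs (IsIso (pullback.fst _ _))
  let τ : X ⟶ Curv2.bc k X K := inv P
  let π : Curv2.bc k X K ⟶ Spec (CommRingCat.of K) := pullback.snd _ _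
  haveI : LocallyOfFiniteType π := inferInstanceAs (LocallyOfFiniteType (pullback.snd _ _))
  have hτ : τ ≫ π = (X ↘ Spec (CommRingCat.of k)) ≫ Spec.map (CommRingCat.ofHom σ.toRingHom) := by
    rw [← cancel_mono (Spec.map (CommRingCat.ofHom (algebraMap k K))), Category.assoc, Category.assoc,
      ← Spec.map_comp]
    have h1 : CommRingCat.ofHom (algebraMap k K) ≫ CommRingCat.ofHom σ.toRingHom = 𝟙 _ := by
      ext c
      exact (RingEquiv.ofBijective (algebraMap k K) hb).symm_apply_apply c
    rw [h1, Spec.map_id, Category.comp_id]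
    rw [← pullback.condition]
    exact IsIso.inv_hom_id_assoc P _
  have hτx : τ x = xb := by
    rw [← hxb]
    show (P ≫ inv P).base xb = xb
    rw [IsIso.hom_inv_id]; rfl
  have hodp : StrictSSLib.IsOdpAt (X ↘ Spec (CommRingCat.of k)) x :=
    StrictSSLib.isOdpAt_of_semilinear π _ σ τ hτ x (hτx.symm ▸ hord)
  obtain ⟨e, he⟩ := hodp
  have hI : Ideal.span {f : MvPowerSeries (Fin 2) k |
      ∃ i j : Fin 2, i ≠ j ∧ f = MvPowerSeries.X i * MvPowerSeries.X j} =
      Ideal.span {(MvPowerSeries.X 0 * MvPowerSeries.X 1 : MvPowerSeries (Fin 2) k)} := by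
    congr 1
    ext f
    constructor
    · rintro ⟨i, j, hij, rfl⟩
      fin_cases i <;> fin_cases j
      · exact absurd rfl hij
      · exact rfl
      · exact mul_comm _ _
      · exact absurd rfl hij
    · rintro rfl
      exact ⟨0, 1, by decide, rfl⟩
  have hequi : ∀ Z ∈ irreducibleComponents (X : Type u), topologicalKrullDim Z = 1 := by
    intro Z hZ
    rw [irreducibleComponents_eq_singleton] at hZ
    obtain rfl : Z = Set.univ := hZ
    exact (Homeomorph.Set.univ X).isHomeomorph.topologicalKrullDim_eq.trans hdim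
  haveI : IsReduced X := inferInstance
  have he' : ∀ c : k, (e.trans (Ideal.quotEquivOfEq hI.symm))
      (algebraMap (X.presheaf.stalk x) (Curv2.cpl (X.presheaf.stalk x)) (Curv2.stalkMap k X x c)) =
      Ideal.Quotient.mk _ (MvPowerSeries.C c) :=
    fun c => (congrArg (Ideal.quotEquivOfEq hI.symm) (he c)).trans (Ideal.quotEquivOfEq_mk _ _)
  have h := (Groth.Agent.S11568.result k X hequi x hcl 2 (e.trans (Ideal.quotEquivOfEq hI.symm))
    he').1
  rw [← (Groth.Agent.S7657.result X x).1, h]
  rfl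

/-- The normalization has one point over a smooth point. -/
theorem card_fibre_smooth {x : X}
    (hx : ∃ U : X.Opens, x ∈ U ∧ Smooth (U.ι ≫ (X ↘ Spec (CommRingCat.of k)))) :
    ENat.card {y : ↥(Curv2.normalization X) // (Curv2.normalizationι X).base y = x} = 1 := by
  obtain ⟨U, hxU, hU⟩ := hx
  have hn := (S9791.isNormalScheme_of_smooth_field (U.ι ≫ (X ↘ Spec (CommRingCat.of k)))) ⟨x, hxU⟩
  let e := (U.stalkIso ⟨x, hxU⟩).commRingCatIsoToRingEquiv
  haveI : IsDomain (X.presheaf.stalk x) := inferInstance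
  haveI := hn.1
  haveI := hn.2
  haveI : IsIntegrallyClosed (X.presheaf.stalk x) := IsIntegrallyClosed.of_equiv e
  rw [← (Groth.Agent.S7657.result X x).1]
  exact (Groth.Agent.S9235.result _).2 (Groth.Agent.S9812.result (X.presheaf.stalk x)).1

omit [IsIntegral X] [QuasiCompact (X.fromSpecStalk (genericPoint X))]
  [QuasiSeparated (X.fromSpecStalk (genericPoint X))] in
/-- Rational points lifting a rational point correspond to the points of the fibre. -/
theorem bijective_lifts {Y : Scheme.{u}} (ν : Y ⟶ X) [IsFinite ν] (x : X)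
    (η : Spec (CommRingCat.of k) ⟶ X) (hη : η ≫ (X ↘ Spec (CommRingCat.of k)) = 𝟙 _)
    (hx : η default = x) :
    Function.Bijective fun ξ : {ξ : Spec (CommRingCat.of k) ⟶ Y // ξ ≫ ν = η} =>
      (⟨ξ.1 default, by rw [← Scheme.Hom.comp_apply, ξ.2, hx]⟩ : {y : ↥Y // ν y = x}) := by
  refine ⟨fun ξ ζ h => Subtype.ext ?_, fun y => ?_⟩
  · let g := ν ≫ (X ↘ Spec (CommRingCat.of k))
    have h1 : ∀ ξ : {ξ : Spec (CommRingCat.of k) ⟶ Y // ξ ≫ ν = η}, ξ.1 ≫ g = 𝟙 _ := fun ξ => by
      rw [← Category.assoc, ξ.2, hη]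
    refine congrArg (fun p : {p : Spec (CommRingCat.of k) ⟶ Y // p ≫ g = 𝟙 _} => p.1)
      ((pointEquivClosedPoint g).injective
        (a₁ := ⟨ξ.1, h1 ξ⟩) (a₂ := ⟨ζ.1, h1 ζ⟩) (Subtype.ext ?_))
    show ξ.1 (IsLocalRing.closedPoint k) = ζ.1 (IsLocalRing.closedPoint k)
    rw [Subsingleton.elim (α := Spec (CommRingCat.of k)) (IsLocalRing.closedPoint k) default]
    exact congrArg Subtype.val h
  · obtain ⟨ξ, hξ, hξy⟩ := exists_point_over ν η y.1 (y.2.trans hx.symm)
    exact ⟨⟨ξ, hξ⟩, Subtype.ext hξy⟩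

omit [IsIntegral X] [QuasiCompact (X.fromSpecStalk (genericPoint X))]
  [QuasiSeparated (X.fromSpecStalk (genericPoint X))] in
/-- The stalk of the direct image of a constant sheaf at a rational point. -/
theorem natCard_stalk_push_pull {Y : Scheme.{u}} (ν : Y ⟶ X) [IsFinite ν] (n : ℕ) (r : ℕ) (x : X)
    (η : Spec (CommRingCat.of k) ⟶ X) (hη : η ≫ (X ↘ Spec (CommRingCat.of k)) = 𝟙 _)
    (hx : η default = x) (hr : ENat.card {y : ↥Y // ν y = x} = r) :
    Nat.card ((EtCoh.stalk η).obj
      ((EtCoh.push ν).obj ((EtCoh.pull ν).obj (EtCoh.const X (ZMod n))))) = n ^ r := by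
  let F := (EtCoh.pull ν).obj (EtCoh.const X (ZMod n))
  let L := {ξ : Spec (CommRingCat.of k) ⟶ Y // ξ ≫ ν = η}
  haveI : Finite {y : ↥Y // ν y = x} := by
    rw [← ENat.card_lt_top, hr]
    exact ENat.coe_lt_top r
  haveI : Finite L := Finite.of_equiv _ (Equiv.ofBijective _ (bijective_lifts ν x η hη hx)).symm
  letI := Fintype.ofFinite L
  have hb : Function.Bijective fun (p : (EtCoh.stalk η).obj ((EtCoh.push ν).obj F)) (ξ : L) =>
      cmpAt ν ξ.1 ξ.2 F p := by
    refine ⟨fun a b h => sub_eq_zero.1 (eq_zero_of_cmpAt ν η F (a - b) fun ξ hξ => ?_), fun q => ?_⟩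
    · rw [map_sub]
      exact sub_eq_zero.2 (congrFun h ⟨ξ, hξ⟩)
    · obtain ⟨p, hp⟩ := exists_cmpAt_eq ν η F q
      exact ⟨p, funext hp⟩
  rw [Nat.card_congr (Equiv.ofBijective _ hb), Nat.card_pi,
    Finset.prod_congr rfl fun ξ _ => natCard_stalk_pull_const ν n ξ.1, Finset.prod_const,
    Finset.card_univ, ← Nat.card_eq_fintype_card,
    Nat.card_congr (Equiv.ofBijective _ (bijective_lifts ν x η hη hx))]
  congr 1
  exact_mod_cast (ENat.card_eq_coe_natCard _).symm.trans hr

end Nodal

/-- The unit of a finite surjective morphism is a monomorphism. -/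
theorem mono_unit {X Y : Scheme.{u}} (ν : Y ⟶ X) [IsFinite ν] [Surjective ν] (G : EtCoh.Ab X) :
    Mono ((EtCoh.pullPushAdj ν).unit.app G) := by
  refine mono_of_stalk _ fun Ω _ _ η => ?_
  let L := AlgebraicClosure Ω
  let σ : Spec (CommRingCat.of L) ⟶ Spec (CommRingCat.of Ω) :=
    Spec.map (CommRingCat.ofHom (algebraMap Ω L))
  obtain ⟨y, hy⟩ := ν.surjective ((σ ≫ η) default)
  obtain ⟨ξ, hξ, -⟩ := exists_point_over ν (σ ≫ η) y hy
  haveI : Mono ((EtCoh.stalk (σ ≫ η)).map ((EtCoh.pullPushAdj ν).unit.app G)) := by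
    refine (AddCommGrpCat.mono_iff_injective _).2 ((injective_iff_map_eq_zero
      ((EtCoh.stalk (σ ≫ η)).map ((EtCoh.pullPushAdj ν).unit.app G)).hom).2 fun p hp => ?_)
    revert p
    rw [← hξ]
    intro p hp
    obtain ⟨W, φ, t, rfl⟩ := exists_germ_eq (ξ ≫ ν) G p
    have hp' : (EtCoh.stalk (ξ ≫ ν)).map ((EtCoh.pullPushAdj ν).unit.app G)
        (germ (ξ ≫ ν) G W φ t) = 0 := hp
    have hp'' := (germ_naturality (ξ ≫ ν) ((EtCoh.pullPushAdj ν).unit.app G) W φ t).symm.trans hp'
    have h1 := congrArg (cmpAt ν ξ rfl ((EtCoh.pull ν).obj G)) hp''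
    rw [map_zero] at h1
    refine (ConcreteCategory.bijective_of_isIso ((stalkPullIso ν ξ).inv.app G)).1 ?_
    rw [map_zero]
    refine (EtConsAb.germ_pullSect ν ξ G W φ t).symm.trans (Eq.trans ?_ h1)
    exact (cmpAt_germ ν ξ rfl ((EtCoh.pull ν).obj G) W φ _).symm
  haveI := ((MorphismProperty.monomorphisms AddCommGrpCat.{u + 1}).arrow_mk_iso_iff
    ((Functor.mapArrowFunctor _ _).mapIso (stalkExtIso σ η) |>.app
      (Arrow.mk ((EtCoh.pullPushAdj ν).unit.app G)))).2 ‹_›
  exact (AddCommGrpCat.mono_iff_injective _).1 ‹_›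

/-- A sheaf vanishing off a rational point has the stalk there as cohomology in degree zero. -/
theorem natCard_H_zero_of_supp {k : Type u} [Field k] [IsAlgClosed k] {X : Scheme.{u}}
    (η : Spec (CommRingCat.of k) ⟶ X) [IsClosedImmersion η] (Q : EtCoh.Ab X)
    (hQ : ∀ y ∈ EtPBC.supp Q, y = η default) :
    Nat.card (EtCoh.H X Q 0) = Nat.card ((EtCoh.stalk η).obj Q) := by
  let u := (EtCoh.pullPushAdj η).unit.app Q
  haveI : IsIso u := by
    refine isIso_of_stalk u fun Ω _ _ ξ => ?_
    by_cases h : ξ default ∈ Set.range η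
    · exact isIso_stalk_unit_push η Q ξ h
    refine IsZero.isIso ?_ (isZero_stalk_push η ξ h _) _
    obtain ⟨e⟩ := nonempty_stalk_iso_geomPointAt ξ
    refine IsZero.of_iso ?_ (e.app Q)
    by_contra hz
    exact h ⟨default, (hQ _ (by rw [GalCohAux.EtDimVanA.mem_supp]; exact hz)).symm⟩
  let R := (EtCoh.pull η).obj Q
  let hT := EtCore.topIsTerminal X
  let hT' : IsTerminal ((EtCoh.bc η).obj (EtCoh.top X)) := hT.isTerminalObj (EtCoh.bc η) _
  let i := hT'.uniqueUpToIso (EtCore.topIsTerminal (Spec (CommRingCat.of k)))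
  have h1 : Nat.card (EtCoh.H X Q 0) = Nat.card (R.obj.obj (op (EtCoh.top (Spec (CommRingCat.of k))))) := by
    refine (Nat.card_congr (Sheaf.H.equiv₀ Q hT).toEquiv).trans ?_
    refine (Nat.card_congr (((sheafToPresheaf _ _).mapIso (asIso u)).app
      (op (EtCoh.top X))).addCommGroupIsoToAddEquiv.toEquiv).trans ?_
    exact Nat.card_congr (R.obj.mapIso i.op).symm.addCommGroupIsoToAddEquiv.toEquiv
  rw [h1]
  let ρ : Spec (CommRingCat.of (IsLocalRing.ResidueField k)) ⟶ Spec (CommRingCat.of k) :=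
    Spec.map (CommRingCat.ofHom (IsLocalRing.residue k))
  refine (Nat.card_congr (Equiv.ofBijective _ (Groth.Agent.S0074.result k R))).trans ?_
  obtain ⟨e₁⟩ := nonempty_stalk_iso_geomPointAt (ρ ≫ η)
  obtain ⟨e₂⟩ := nonempty_stalk_iso_geomPointAt η
  have hy : (ρ ≫ η) default = η default := congrArg η (Subsingleton.elim _ _)
  exact Nat.card_congr ((stalkPullIso η ρ).app Q ≪≫ e₁.app Q ≪≫ eqToIso (by rw [hy]) ≪≫
    (e₂.app Q).symm).addCommGroupIsoToAddEquiv.toEquiv


/-- Precomposing with the identification `ℤ ≅ ν⁻¹ℤ` after the adjunction. -/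
theorem Hpull_factor {X Y : Scheme.{u}} (ν : Y ⟶ X) [IsFinite ν]
    [PreservesFiniteLimits (EtCoh.pull ν)] (G : EtCoh.Ab X) (p : ℕ) :
    ∃ Ψ : EtCoh.H X ((EtCoh.push ν).obj ((EtCoh.pull ν).obj G)) p →
        EtCoh.H Y ((EtCoh.pull ν).obj G) p,
      Function.Bijective Ψ ∧ Ψ 0 = 0 ∧ ∀ e : EtCoh.H X G p,
        EtCore.Hpull ν G p e =
          Ψ (e.comp (Abelian.Ext.mk₀ ((EtCoh.pullPushAdj ν).unit.app G)) (add_zero p)) := by
  let a := (EtCoh.pullPushAdj ν).unit.app G
  have hb := EtaleSite.AdjExt.toExt_bijective_le (EtCoh.pullPushAdj ν) p (EtCoh.const X ℤ)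
    ((EtCoh.pull ν).obj G) fun b hb _ => Groth.Agent.S0071.result ν _ b hb
  have hψ : Function.Bijective fun x : Abelian.Ext ((EtCoh.pull ν).obj (EtCoh.const X ℤ))
      ((EtCoh.pull ν).obj G) p =>
      (Abelian.Ext.mk₀ (EtCore.pullConst ν ℤ).inv).comp x (zero_add p) := by
    refine Function.bijective_iff_has_inverse.2
      ⟨fun x => (Abelian.Ext.mk₀ (EtCore.pullConst ν ℤ).hom).comp x (zero_add p), ?_, ?_⟩ <;>
    · intro x
      simp
  have key : ∀ e : EtCoh.H X G p, EtCore.Hpull ν G p e =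
      (Abelian.Ext.mk₀ (EtCore.pullConst ν ℤ).inv).comp (EtaleSite.AdjExt.toExt (EtCoh.pullPushAdj ν)
        _ _ p (e.comp (Abelian.Ext.mk₀ a) (add_zero p))) (zero_add p) := fun e => by
    show (Abelian.Ext.mk₀ (EtCore.pullConst ν ℤ).inv).comp (e.mapExactFunctor (EtCoh.pull ν))
        (zero_add p) = _
    congr 1
    simp only [EtaleSite.AdjExt.toExt, Abelian.Ext.mapExactFunctor_comp,
      Abelian.Ext.mapExactFunctor_mk₀, Abelian.Ext.comp_assoc_of_third_deg_zero,
      Abelian.Ext.mk₀_comp_mk₀]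
    rw [show (EtCoh.pull ν).map a ≫ (EtCoh.pullPushAdj ν).counit.app ((EtCoh.pull ν).obj G) = 𝟙 _
      from (EtCoh.pullPushAdj ν).left_triangle_components G]
    exact (Abelian.Ext.comp_mk₀_id _).symm
  refine ⟨_, hψ.comp hb, ?_, key⟩
  have h0 := key 0
  rw [map_zero] at h0
  refine Eq.trans ?_ h0.symm
  simp only [Function.comp_apply, Abelian.Ext.zero_comp]

/-- The version of the statement for a constant sheaf. -/
theorem const_case (k : Type u) [Field k] [IsAlgClosed k] (X : Scheme.{u})
    [X.Over (Spec (CommRingCat.of k))]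
    [IsProper (X ↘ Spec (CommRingCat.of k))] [IsIntegral X]
    (hdim : topologicalKrullDim X = 1)
    (hnodal : Curv2.AtWorstNodal k X) (hone : Nat.card {x : X // Curv2.IsNode k X x} = 1)
    [QuasiCompact (X.fromSpecStalk (genericPoint X))] [QuasiSeparated (X.fromSpecStalk (genericPoint X))]
    [PreservesFiniteLimits (EtCoh.pull (Curv2.normalizationι X))]
    (n : ℕ) (hn : 1 ≤ n) :
    Function.Surjective (EtCore.Hpull (Curv2.normalizationι X) (EtCoh.const X (ZMod n)) 1) ∧
    Nat.card (EtCore.Hpull (Curv2.normalizationι X) (EtCoh.const X (ZMod n)) 1).ker = n := by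
  haveI : NeZero n := ⟨by omega⟩
  let f := X ↘ Spec (CommRingCat.of k)
  let ν := Curv2.normalizationι X
  obtain ⟨hfin, hdom, ⟨V, hVne, hV⟩, hint, -⟩ := Groth.Agent.S1585.result k X
  haveI : IsFinite ν := hfin
  haveI : IsDominant ν := hdom
  haveI : IsIntegral (Curv2.normalization X) := hint
  haveI : IsIso (ν ∣_ V) := hV
  haveI : Surjective ν := ⟨fun y => by
    have h := ν.denseRange.closure_range
    rw [ν.isClosedMap.isClosed_range.closure_eq] at h
    exact (h.symm ▸ Set.mem_univ y : y ∈ Set.range ν)⟩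
  -- the node
  obtain ⟨hsub, ⟨⟨x, hx⟩⟩⟩ := Nat.card_eq_one_iff_unique.1 hone
  let G := EtCoh.const X (ZMod n)
  let P := (EtCoh.push ν).obj ((EtCoh.pull ν).obj G)
  let a : G ⟶ P := (EtCoh.pullPushAdj ν).unit.app G
  haveI : Mono a := mono_unit ν G
  let S : ShortComplex (EtCoh.Ab X) := ShortComplex.mk a (cokernel.π a) (cokernel.condition _)
  have hS : S.ShortExact := { exact := ShortComplex.exact_of_g_is_cokernel _ (cokernelIsCokernel _) }
  -- stalks at rational points
  have hcount : ∀ (y : X) (hy : IsClosed ({y} : Set X)) (r : ℕ),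
      ENat.card {z : ↥(Curv2.normalization X) // ν z = y} = r →
      Nat.card ((EtCoh.stalk (pointOfClosedPoint f y hy)).obj P) = n ^ r := fun y hy r hr =>
    natCard_stalk_push_pull ν n r y _ (pointOfClosedPoint_comp f y hy)
      (pointOfClosedPoint_apply f y hy _) hr
  have hstalk : ∀ (y : X) (hy : IsClosed ({y} : Set X)) (r : ℕ),
      ENat.card {z : ↥(Curv2.normalization X) // ν z = y} = r + 1 →
      Nat.card ((EtCoh.stalk (pointOfClosedPoint f y hy)).obj S.X₃) = n ^ r := by
    intro y hy r hr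
    let η := pointOfClosedPoint f y hy
    have hc := hcount y hy (r + 1) (by rw [hr]; norm_cast)
    have hTe := hS.map_of_exact (EtCoh.stalk η)
    let g := ((EtCoh.stalk η).map (cokernel.π a)).hom
    let f₀ := ((EtCoh.stalk η).map a).hom
    have hg : Function.Surjective g := (AddCommGrpCat.epi_iff_surjective _).1 hTe.epi_g
    have hf : Function.Injective f₀ := (AddCommGrpCat.mono_iff_injective _).1 hTe.mono_f
    have hk : g.ker = f₀.range := ((ShortComplex.ab_exact_iff_range_eq_ker).1 hTe.exact).symm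
    have h1 := AddSubgroup.card_eq_card_quotient_mul_card_addSubgroup g.ker
    have h2 : Nat.card g.ker = n := by
      rw [hk, ← natCard_stalk_const (X := X) n η]
      exact (Nat.card_congr (AddMonoidHom.ofInjective hf).toEquiv).symm
    rw [Nat.card_congr (QuotientAddGroup.quotientKerEquivOfSurjective g hg).toEquiv, h2] at h1
    exact Nat.eq_of_mul_eq_mul_right (by omega) ((h1.symm.trans hc).trans (pow_succ n r))
  -- the support of the cokernel
  have hsupp : ∀ y ∈ EtPBC.supp S.X₃, y = x := by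
    intro y hy
    rw [GalCohAux.EtDimVanA.mem_supp] at hy
    by_contra hne
    apply hy
    by_cases hcl : IsClosed ({y} : Set X)
    · have hs := (hnodal y hcl).resolve_right fun h => hne
        (congrArg Subtype.val (hsub.elim (⟨y, h⟩ : {x : X // Curv2.IsNode k X x}) ⟨x, hx⟩))
      have h1 := hstalk y hcl 0 (by rw [card_fibre_smooth hs]; norm_num)
      rw [pow_zero, Nat.card_eq_one_iff_unique] at h1
      obtain ⟨e⟩ := nonempty_stalk_iso_geomPointAt (pointOfClosedPoint f y hcl)
      rw [pointOfClosedPoint_apply] at e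
      exact IsZero.of_iso (@AddCommGrpCat.isZero_of_subsingleton _ h1.1) (e.app _).symm
    · have hgen : genericPoint X = y := by
        by_contra he
        exact hcl (S3502.spec_dim_one X hdim.le (genericPoint X) y (genericPoint_specializes _) he).1
      have hyV : geomPointAt X y default ∈ V := by
        rw [geomPointAt_apply X y _, ← hgen]
        exact (genericPoint_spec X).mem_open_set_iff V.2 |>.2 (by simpa using hVne)
      have hb := S14179.bijective_stalk_unit ν G V (geomPointAt X y) hyV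
      haveI : IsIso ((EtCoh.stalk (geomPointAt X y)).map a) := (ConcreteCategory.isIso_iff_bijective _).2 hb
      exact IsZero.of_iso (isZero_cokernel_of_epi _) (PreservesCokernel.iso (EtCoh.stalk (geomPointAt X y)) a)
  let η := pointOfClosedPoint f x hx.1
  have hηx : η default = x := pointOfClosedPoint_apply f x hx.1 _
  haveI : IsClosedImmersion η := isClosedImmersion_of_comp_eq_id _ _ (pointOfClosedPoint_comp f x hx.1)
  have hQ0 : Nat.card (EtCoh.H X S.X₃ 0) = n := by
    rw [natCard_H_zero_of_supp η S.X₃ fun y hy => (hsupp y hy).trans hηx.symm,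
      hstalk x hx.1 1 (by rw [card_fibre_node hdim hx]; norm_num), pow_one]
  have hQ1 : Subsingleton (EtCoh.H X S.X₃ 1) :=
    Groth.Agent.S0171.result X f _ (fun y hy => (hsupp y hy).symm ▸ hx.1) 1 one_pos
  obtain ⟨Ψ₀, hΨ₀, -, key₀⟩ := Hpull_factor ν G 0
  obtain ⟨Ψ, hΨ, hΨz, key⟩ := Hpull_factor ν G 1
  -- degree zero
  have h0 : Function.Surjective fun e : EtCoh.H X G 0 => e.comp (Abelian.Ext.mk₀ a) (add_zero 0) := by
    haveI : ConnectedSpace X := inferInstance
    have h := EtRestLib.Hpull_bijective_const ν (AddCommGrpCat.of (ULift.{u + 1} (ZMod n)))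
      (cst_bijective_of_connected X _) (cst_bijective_of_connected _ _)
    intro y
    obtain ⟨e, he⟩ := h.2 (Ψ₀ y)
    exact ⟨e, hΨ₀.1 ((key₀ e).symm.trans he)⟩
  refine ⟨fun y => ?_, ?_⟩
  · obtain ⟨z, hz⟩ := hΨ.2 y
    obtain ⟨e, he⟩ := Abelian.Ext.covariant_sequence_exact₂ _ hS z (@Subsingleton.elim _ hQ1 _ _)
    exact ⟨e, (key e).trans ((congrArg Ψ he).trans hz)⟩
  · have hker : ∀ e : EtCoh.H X G 1, e ∈ (EtCore.Hpull ν G 1).ker ↔
        e.comp (Abelian.Ext.mk₀ a) (add_zero 1) = 0 := fun e => by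
      rw [AddMonoidHom.mem_ker, key e]
      exact ⟨fun h => hΨ.1 (h.trans hΨz.symm), fun h => (congrArg Ψ h).trans hΨz⟩
    let δ : EtCoh.H X S.X₃ 0 → (EtCore.Hpull ν G 1).ker := fun z =>
      ⟨z.comp hS.extClass (zero_add 1), (hker _).2 (by
        rw [Abelian.Ext.comp_assoc_of_third_deg_zero]
        exact (congrArg (fun q => z.comp q (zero_add 1)) hS.extClass_comp).trans
          (Abelian.Ext.comp_zero _ _ _ _ _))⟩
    have hδ : Function.Bijective δ := by
      refine ⟨fun z w h => sub_eq_zero.1 ?_, fun e => ?_⟩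
      · let d : EtCoh.H X S.X₃ 0 →+ EtCoh.H X G 1 := hS.extClass.postcomp _ (zero_add 1)
        have hz : (z - w).comp hS.extClass (zero_add 1) = 0 := by
          show d (z - w) = 0
          rw [map_sub]
          exact sub_eq_zero.2 (congrArg Subtype.val h)
        obtain ⟨v, hv⟩ := Abelian.Ext.covariant_sequence_exact₃ _ hS (z - w) (zero_add 1) hz
        obtain ⟨e, he⟩ := h0 v
        rw [← hv, ← he, Abelian.Ext.comp_assoc_of_third_deg_zero, Abelian.Ext.mk₀_comp_mk₀]
        show e.comp (Abelian.Ext.mk₀ (S.f ≫ S.g)) _ = 0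
        rw [S.zero, Abelian.Ext.mk₀_zero, Abelian.Ext.comp_zero]
      · obtain ⟨z, hz⟩ := Abelian.Ext.covariant_sequence_exact₁ _ hS e.1 ((hker e.1).1 e.2) (rfl : 0 + 1 = 1)
        exact ⟨z, Subtype.ext hz⟩
    exact (Nat.card_congr (Equiv.ofBijective δ hδ)).symm.trans hQ0

/-- Let k be an algebraically closed field and n ≥ 1 an integer invertible in k; let X be an integral
proper curve over k (separated and of finite type, of dimension one) whose closed points are all
smooth points or nodes, with exactly one node, and let ν : X^ν ⟶ X be its normalization. Then the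
pullback map H¹(X, μ_n) → H¹(X^ν, ν⁻¹μ_n) on étale cohomology is surjective and its kernel has
exactly n elements (it is the image of (μ_n(k) × μ_n(k))/μ_n(k)). (The published statement is for
the base change to an algebraic closure of a projective nodal curve with one node over a perfect
field and records the Galois-module structure of the short exact sequence; this row keeps the part
over the algebraically closed field. Exactness of pullback and the quasi-compactness and
quasi-separatedness of Spec K(X) ⟶ X always hold; the binders only serve to form the map and the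
normalization.) -/
theorem result
    (k : Type u) [Field k] [IsAlgClosed k] (X : Scheme.{u}) [X.Over (Spec (CommRingCat.of k))]
    [IsProper (X ↘ Spec (CommRingCat.of k))] [IsIntegral X]
    (hdim : topologicalKrullDim X = 1)
    (hnodal : Curv2.AtWorstNodal k X) (hone : Nat.card {x : X // Curv2.IsNode k X x} = 1)
    [QuasiCompact (X.fromSpecStalk (genericPoint X))] [QuasiSeparated (X.fromSpecStalk (genericPoint X))]
    [PreservesFiniteLimits (EtCoh.pull (Curv2.normalizationι X))]
    (n : ℕ) (hn : 1 ≤ n) (hnk : (n : k) ≠ 0) :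
    Function.Surjective (EtCore.Hpull (Curv2.normalizationι X) (EtCoh.mu X n) 1) ∧
    Nat.card (EtCore.Hpull (Curv2.normalizationι X) (EtCoh.mu X n) 1).ker = n := by
  have hk : EtCoh.IsStrictlyHenselianLocalRing k := ⟨inferInstance, inferInstance⟩
  obtain ⟨e⟩ := Groth.Agent.S14625.result k hk n hn (isUnit_iff_ne_zero.2 hnk) X
    (X ↘ Spec (CommRingCat.of k))
  obtain ⟨hs, hc⟩ := const_case k X hdim hnodal hone n hn
  let ν := Curv2.normalizationι X
  let p : EtCoh.H X (EtCoh.mu X n) 1 → EtCoh.H X (EtCoh.const X (ZMod n)) 1 := fun x =>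
    x.comp (Abelian.Ext.mk₀ e.hom) (add_zero 1)
  let q : EtCoh.H (Curv2.normalization X) ((EtCoh.pull ν).obj (EtCoh.mu X n)) 1 →
      EtCoh.H (Curv2.normalization X) ((EtCoh.pull ν).obj (EtCoh.const X (ZMod n))) 1 := fun y =>
    y.comp (Abelian.Ext.mk₀ ((EtCoh.pull ν).map e.hom)) (add_zero 1)
  have hp : Function.Bijective p := EtaleSite.HpullComp.HF_map_bijective e.hom
  have hq : Function.Bijective q := EtaleSite.HpullComp.HF_map_bijective ((EtCoh.pull ν).map e.hom)
  have key : ∀ x, EtCore.Hpull ν (EtCoh.const X (ZMod n)) 1 (p x) =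
      q (EtCore.Hpull ν (EtCoh.mu X n) 1 x) := fun x =>
    EtaleSite.HpullSeq.Hpull_postcomp ν e.hom 1 x
  refine ⟨fun y => ?_, ?_⟩
  · obtain ⟨z, hz⟩ := hs (q y)
    obtain ⟨x, rfl⟩ := hp.2 z
    exact ⟨x, hq.1 ((key x).symm.trans hz)⟩
  · refine (Nat.card_congr ((Equiv.ofBijective p hp).subtypeEquiv fun x => ?_)).trans hc
    rw [AddMonoidHom.mem_ker, AddMonoidHom.mem_ker]
    show _ ↔ EtCore.Hpull ν (EtCoh.const X (ZMod n)) 1 (p x) = 0
    rw [key]
    exact ⟨fun h => (congrArg q h).trans (Abelian.Ext.zero_comp _ _ _ _ _),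
      fun h => hq.1 (h.trans (Abelian.Ext.zero_comp _ _ _ _ _).symm)⟩

end Groth.Agent.S14180
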