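import Groth.Statements.S14181
-- import your own Groth.Agent.* helpers here

set_option autoImplicit false
universe u
open CategoryTheory
open GalCoh

namespace Groth.Agent.S14181

/-- Let G be a group with a finite normal subgroup P, k a commutative ring and A a k-linear
representation of G such that multiplication by the order of P is a bijection of A. Then the
inflation map on 1-cocycles (crossed homomorphisms) Z¹(G/P, A^P) → Z¹(G, A) has a k-linear left
inverse. (The published statement is for the inertia group of a Galois cover of smooth curves at a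
point, its normal Sylow p-subgroup P and a module of n-torsion with n prime to p; the argument uses
only that the order of P acts invertibly, which is the hypothesis taken here.) -/
theorem result
    {k G : Type u} [CommRing k] [Group G] (A : Rep.{u} k G) (P : Subgroup G) [P.Normal] [Finite P]
    (hP : Function.Bijective fun a : A => (Nat.card P : k) • a) :
    ∃ r : ModuleCat.of k (groupCohomology.cocycles₁ A) ⟶
        ModuleCat.of k (groupCohomology.cocycles₁ (A.quotientToInvariants P)),
      (groupCohomology.mapCocycles₁ (QuotientGroup.mk' P) (Rep.ofHom (A.ρ.quotientToInvariants_lift P)) :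
          ModuleCat.of k (groupCohomology.cocycles₁ (A.quotientToInvariants P)) ⟶
            ModuleCat.of k (groupCohomology.cocycles₁ A)) ≫ r = 𝟙 _ := by
  haveI : Fintype P := Fintype.ofFinite P
  let N : A →ₗ[k] A := (Nat.card P : k) • LinearMap.id
  let e : A ≃ₗ[k] A := LinearEquiv.ofBijective N hP
  have he : ∀ g a, A.ρ g (e.symm a) = e.symm (A.ρ g a) := by
    intro g a
    apply e.injective
    rw [e.apply_symm_apply]
    have hN : ∀ x, N (A.ρ g x) = A.ρ g (N x) := fun x => by simp [N]
    change N (A.ρ g (e.symm a)) = A.ρ g a
    rw [hN]
    exact congrArg (A.ρ g) (e.apply_symm_apply a)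
  let w : groupCohomology.cocycles₁ A →ₗ[k] A :=
    e.symm.toLinearMap ∘ₗ (∑ h : P, LinearMap.proj (h : G) ∘ₗ (groupCohomology.cocycles₁ A).subtype)
  let adj : groupCohomology.cocycles₁ A → G → A := fun f g => f g + (A.ρ g (w f) - w f)
  have hadj : ∀ f g h, adj f (g * h) = A.ρ g (adj f h) + adj f g := by
    intro f g h
    simp only [adj, (groupCohomology.mem_cocycles₁_iff f).1 f.2 g h, map_mul, Module.End.mul_apply,
      map_add, map_sub]
    abel
  have hzero : ∀ f (p : P), adj f p = 0 := by
    intro f p
    have hw : w f = e.symm (∑ h : P, f (h : G)) := by simp [w, LinearMap.sum_apply]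
    have h1 : ∑ h : P, f ((p : G) * h) = ∑ h : P, f (h : G) :=
      Equiv.sum_comp (Equiv.mulLeft p) fun h : P => f (h : G)
    simp only [(groupCohomology.mem_cocycles₁_iff f).1 f.2, Finset.sum_add_distrib,
      Finset.sum_const, Finset.card_univ] at h1
    have h2 : e (f (p : G)) = ∑ h : P, f (h : G) - A.ρ p (∑ h : P, f (h : G)) := by
      rw [eq_sub_iff_add_eq']
      refine Eq.trans ?_ h1
      rw [map_sum]
      simp [e, N, Nat.cast_smul_eq_nsmul]
    have h3 : f (p : G) = w f - A.ρ p (w f) := by
      rw [hw, he, ← map_sub, ← h2, e.symm_apply_apply]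
    simp only [adj, h3]
    abel
  have hright : ∀ f g (p : P), adj f (g * p) = adj f g := fun f g p => by
    rw [hadj, hzero, map_zero, zero_add]
  have hinv : ∀ f g, adj f g ∈ Representation.invariants (A.ρ.comp P.subtype : Representation k P A) := fun f g p => by
    have h1 : adj f ((p : G) * g) = A.ρ p (adj f g) := by rw [hadj, hzero, add_zero]
    have h2 : (p : G) * g = g * (⟨g⁻¹ * p * g, ‹P.Normal›.conj_mem' (p : G) p.2 g⟩ : P) := by
      simp only
      group
    rw [h2, hright] at h1
    exact h1.symm
  have hout : ∀ f (g : G), adj f (Quotient.out (g : G ⧸ P)) = adj f g := fun f g => by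
    obtain ⟨p, hp⟩ := QuotientGroup.mk_out_eq_mul P g
    rw [hp, hright]
  let r : groupCohomology.cocycles₁ A →ₗ[k]
      groupCohomology.cocycles₁ (A.quotientToInvariants P) :=
    { toFun := fun f => ⟨fun q => ⟨adj f (Quotient.out q), hinv f _⟩, by
        rw [groupCohomology.mem_cocycles₁_iff]
        intro a b
        induction a using QuotientGroup.induction_on with | H a => ?_
        induction b using QuotientGroup.induction_on with | H b => ?_
        apply Subtype.ext
        change adj f (Quotient.out ((a * b : G) : G ⧸ P)) =
          A.ρ a (adj f (Quotient.out (b : G ⧸ P))) + adj f (Quotient.out (a : G ⧸ P))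
        rw [hout, hout, hout, hadj]⟩
      map_add' := fun f f' => by
        apply Subtype.ext
        funext q
        apply Subtype.ext
        change adj (f + f') _ = adj f _ + adj f' _
        simp only [adj, map_add]
        change f _ + f' _ + _ = _
        abel
      map_smul' := fun c f => by
        apply Subtype.ext
        funext q
        apply Subtype.ext
        change adj (c • f) _ = c • adj f _
        simp only [adj, map_smul, smul_add, smul_sub]
        rfl }
  refine ⟨ModuleCat.ofHom r, ?_⟩
  apply ModuleCat.hom_ext
  refine LinearMap.ext fun f => ?_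
  refine groupCohomology.cocycles₁_ext fun q => ?_
  induction q using QuotientGroup.induction_on with | H g => ?_
  let F := groupCohomology.mapCocycles₁ (QuotientGroup.mk' P)
    (Rep.ofHom (A.ρ.quotientToInvariants_lift P)) f
  apply Subtype.ext
  change adj F (Quotient.out (g : G ⧸ P)) = (f (g : G ⧸ P)).1
  have hF : ∀ x : G, F x = (f (x : G ⧸ P)).1 := fun x => rfl
  have hw : w F = 0 := by
    have : ∀ h : P, F (h : G) = 0 := fun h => by
      rw [hF, (QuotientGroup.eq_one_iff _).2 h.2, groupCohomology.cocycles₁_map_one]
      rfl
    simp [w, LinearMap.sum_apply, this]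
  rw [hout]
  simp only [adj, hw, map_zero, sub_zero, add_zero, hF]

end Groth.Agent.S14181
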