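import Groth.Statements.S14182
import Groth.Agent.LocSymLib.Symbol
-- import your own Groth.Agent.* helpers here

set_option autoImplicit false
universe u
open CategoryTheory AlgebraicGeometry
open LocSym Groth.Agent.LocSymLib

namespace Groth.Agent.S14182

open W4c1etcurveeff2 in
/-- Let k be an algebraically closed field and X a smooth proper integral curve over k (structure
morphism c, dimension one); divisors are finitely supported integer-valued functions on the k-points
and ord_x is the valuation at x. Let m be a reduced modulus (every multiplicity at most 1) with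
support S, Pic the group of divisors modulo divisors of nonzero rational functions, and Pic_m the
group of divisors vanishing on S modulo divisors of nonzero rational functions congruent to 1 modulo
m. Then: the natural map Pic_m → Pic is surjective; a class of Pic_m maps to zero exactly when it is
the class of the divisor of a nonzero rational function having a nonzero value at every point of S;
and for every family of nonzero scalars (v_x) there is a nonzero rational function g with value v_x
at each x ∈ S, the class of whose divisor in Pic_m vanishes exactly when the v_x for x ∈ S are all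
equal. (So the kernel is (kˣ)^S modulo the diagonal kˣ, the short exact sequence 0 → (kˣ)^S/kˣ →
Pic_m → Pic → 0; the same then holds for the degree-zero parts.) -/
theorem result
    (k : Type u) [Field k] [IsAlgClosed k] (X : Scheme.{u}) [IsIntegral X]
    (c : X ⟶ Spec (CommRingCat.of k)) [IsProper c] [Smooth c] (hdim : topologicalKrullDim X = 1)
    (m : LocSym.Pt c →₀ ℕ) (hm : ∀ x : LocSym.Pt c, m x ≤ 1) :
    Function.Surjective (picModToPic c m) ∧
    (∀ y : PicMod c m, picModToPic c m y = 0 ↔
      ∃ (g : X.functionField) (D : divAway c m) (v : LocSym.Pt c → kˣ),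
        IsDivOf c (D : LocSym.Pt c →₀ ℤ) g ∧ (∀ x ∈ m.support, LocSym.HasValueAt x g (v x : k)) ∧
        y = (QuotientAddGroup.mk D : PicMod c m)) ∧
    (∀ v : LocSym.Pt c → kˣ, ∃ (g : X.functionField) (D : divAway c m),
        IsDivOf c (D : LocSym.Pt c →₀ ℤ) g ∧ (∀ x ∈ m.support, LocSym.HasValueAt x g (v x : k)) ∧
        ((QuotientAddGroup.mk D : PicMod c m) = 0 ↔ ∃ a : kˣ, ∀ x ∈ m.support, v x = a)) := by
  classical
  have div_of : ∀ g : X.functionField, g ≠ 0 → ∃ D : LocSym.Pt c →₀ ℤ, IsDivOf c D g := fun g hg =>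
    ⟨Finsupp.ofSupportFinite (fun x => x.ord g) (finite_ord_ne_zero hdim hg), hg, fun x => rfl⟩
  have mem_principal : ∀ D, D ∈ principal c → ∃ g, IsDivOf c D g := by
    intro D hD
    induction hD using AddSubgroup.closure_induction with
    | mem D h => exact h
    | zero => exact ⟨1, one_ne_zero, fun x => by simp [ord_one hdim]⟩
    | add D E _ _ hD hE =>
      obtain ⟨g, hg, hD⟩ := hD
      obtain ⟨g', hg', hE⟩ := hE
      exact ⟨g * g', mul_ne_zero hg hg', fun x => by
        rw [Finsupp.add_apply, hD, hE, ord_mul hdim x hg hg']⟩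
    | neg D _ hD =>
      obtain ⟨g, hg, hD⟩ := hD
      exact ⟨g⁻¹, inv_ne_zero hg, fun x => by rw [Finsupp.neg_apply, hD, ord_inv hdim]⟩
  have hm1 : ∀ x ∈ m.support, m x = 1 := fun x hx =>
    le_antisymm (hm x) (Nat.pos_of_ne_zero (Finsupp.mem_support_iff.1 hx))
  have mem_principalMod : ∀ D : divAway c m, D ∈ principalMod c m →
      ∃ g, IsDivOf c (D : LocSym.Pt c →₀ ℤ) g ∧ LocSym.Cong1 m g := by
    intro D hD
    induction hD using AddSubgroup.closure_induction with
    | mem D h => exact h
    | zero => exact ⟨1, ⟨one_ne_zero, fun x => by simp [ord_one hdim]⟩, fun x _ => Or.inl rfl⟩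
    | add D E _ _ hD hE =>
      obtain ⟨g, ⟨hg, hD⟩, hc⟩ := hD
      obtain ⟨g', ⟨hg', hE⟩, hc'⟩ := hE
      exact ⟨g * g', ⟨mul_ne_zero hg hg', fun x => by
        rw [AddSubgroup.coe_add, Finsupp.add_apply, hD, hE, ord_mul hdim x hg hg']⟩, fun x hx =>
        (cong_iff hdim x _ _).2 (cong_mul hdim ((cong_iff hdim x _ _).1 (hc x hx))
          ((cong_iff hdim x _ _).1 (hc' x hx)))⟩
    | neg D _ hD =>
      obtain ⟨g, ⟨hg, hD⟩, hc⟩ := hD
      exact ⟨g⁻¹, ⟨inv_ne_zero hg, fun x => by
        rw [AddSubgroup.coe_neg, Finsupp.neg_apply, hD, ord_inv hdim]⟩, fun x hx =>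
        (cong_iff hdim x _ _).2 (cong_inv hdim (hm1 x hx ▸ one_pos)
          ((cong_iff hdim x _ _).1 (hc x hx)))⟩
  refine ⟨fun y => ?_, fun y => ⟨fun hy => ?_, ?_⟩, fun v => ?_⟩
  · induction y using QuotientAddGroup.induction_on with
    | _ D =>
    have hex : ∀ x : LocSym.Pt c, ∃ a : X.functionField, a ≠ 0 ∧ x.ord a = D x := fun x => by
      obtain ⟨a, ha⟩ := (pl hdim x).2.2 (WithZero.exp (-D x))
      have ha' : val hdim x a = WithZero.exp (-D x) := ha
      exact ⟨a, fun h => WithZero.exp_ne_zero (by rw [h, map_zero] at ha'; exact ha'.symm), by rw [ord_eq hdim, ha', WithZero.log_exp, neg_neg]⟩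
    choose a ha0 ha using hex
    obtain ⟨g, hg, hgx⟩ := exists_approx hdim m.support a (fun x _ => ha0 x) fun _ => 0
    obtain ⟨E, hE⟩ := div_of g hg
    have hmem : D - E ∈ divAway c m := fun x hx => by
      have h1 := ord_eq_zero_of_val hdim (val_eq_one_of_cong hdim (Nat.succ_pos _) (hgx x hx))
      rw [ord_div hdim x hg (ha0 x), ha x] at h1
      rw [Finsupp.sub_apply, hE.2 x]
      omega
    refine ⟨QuotientAddGroup.mk ⟨D - E, hmem⟩, ?_⟩
    show (QuotientAddGroup.mk (D - E) : Pic c) = QuotientAddGroup.mk D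
    rw [QuotientAddGroup.eq_iff_sub_mem, sub_sub_cancel_left]
    exact neg_mem (AddSubgroup.subset_closure ⟨g, hE⟩)
  · induction y using QuotientAddGroup.induction_on with
    | _ D =>
    obtain ⟨g, hg⟩ := mem_principal _ ((QuotientAddGroup.eq_zero_iff _).1 hy)
    have hv : ∀ x : LocSym.Pt c, ∃ a : kˣ, x ∈ m.support → LocSym.HasValueAt x g (a : k) := fun x => by
      by_cases hx : x ∈ m.support
      · obtain ⟨a, ha⟩ := exists_hasValueAt hdim x hg.1 ((hg.2 x).symm.trans (D.2 x hx))
        exact ⟨a, fun _ => ha⟩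
      · exact ⟨1, fun h => absurd h hx⟩
    choose v hv using hv
    exact ⟨g, D, v, hg, hv, rfl⟩
  · rintro ⟨g, D, v, hg, -, rfl⟩
    exact (QuotientAddGroup.eq_zero_iff _).2 (AddSubgroup.subset_closure ⟨g, hg⟩)
  · obtain ⟨g, hg0, hgx⟩ := exists_approx hdim m.support (fun x => LocSym.constFun c (v x : k))
      (fun x _ => (map_ne_zero _).2 (v x).ne_zero) fun _ => 0
    obtain ⟨E, hE⟩ := div_of g hg0
    have hval : ∀ x ∈ m.support, LocSym.HasValueAt x g (v x : k) := fun x hx =>
      (hasValueAt_iff_cong hdim x g (v x).ne_zero).2 (hgx x hx)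
    have hmem : E ∈ divAway c m := fun x hx => by
      have h1 := ord_eq_zero_of_val hdim (val_eq_one_of_cong hdim (Nat.succ_pos _) (hgx x hx))
      rw [ord_div hdim x hg0 ((map_ne_zero _).2 (v x).ne_zero), ord_const hdim, sub_zero] at h1
      rw [hE.2 x, h1]
    refine ⟨g, ⟨E, hmem⟩, hE, hval, ⟨fun h => ?_, fun ⟨a, ha⟩ => ?_⟩⟩
    · obtain ⟨g', ⟨hg'0, hg'⟩, hc⟩ := mem_principalMod _ ((QuotientAddGroup.eq_zero_iff _).1 h)
      obtain ⟨a, ha⟩ := exists_eq_constFun (c := c) hdim (g := g / g') fun x => by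
        rw [ord_div hdim x hg0 hg'0, ← hE.2 x, ← hg' x]; simp
      have ha0 : a ≠ 0 := fun e => by
        rw [e, map_zero, div_eq_zero_iff] at ha
        exact ha.elim hg0 hg'0
      refine ⟨Units.mk0 a ha0, fun x hx => Units.ext (hasValueAt_unique hdim (hval x hx) ?_)⟩
      refine (hasValueAt_iff_cong hdim x g ha0).2 ?_
      rw [← ha, div_div_cancel₀ hg0]
      exact hm1 x hx ▸ (cong_iff hdim x _ _).1 (hc x hx)
    · refine (QuotientAddGroup.eq_zero_iff _).2 (AddSubgroup.subset_closure
        ⟨g / LocSym.constFun c (a : k), ⟨div_ne_zero hg0 ((map_ne_zero _).2 a.ne_zero), fun x => ?_⟩,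
          fun x hx => ?_⟩)
      · rw [ord_div hdim x hg0 ((map_ne_zero _).2 a.ne_zero), ord_const hdim, sub_zero]
        exact hE.2 x
      · rw [LocSym.Cong1At, hm1 x hx]
        refine (cong_iff hdim x _ 1).2 ?_
        exact (hasValueAt_iff_cong hdim x g a.ne_zero).1 (ha x hx ▸ hval x hx)

end Groth.Agent.S14182
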