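import Groth.Statements.S14183
import Groth.Agent.S14182
import Groth.Agent.LocSymLib.Values
import Mathlib.RingTheory.RootsOfUnity.EnoughRootsOfUnity
import Mathlib.RingTheory.RootsOfUnity.AlgebraicallyClosed
-- import your own Groth.Agent.* helpers here

set_option autoImplicit false
set_option linter.style.haveILetI false
universe u
open CategoryTheory AlgebraicGeometry
open LocSym

namespace Groth.Agent.S14183

open W4c1etcurveeff2 in
/-- Let k be an algebraically closed field, X a smooth proper integral curve over k (structure morphism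
c, dimension one), m a reduced modulus (every multiplicity at most 1) whose support S has s points,
and n ≥ 1 an integer invertible in k. Let Pic be the group of divisors on k-points modulo divisors
of nonzero rational functions and Pic_m the group of divisors vanishing on S modulo divisors of
nonzero rational functions congruent to 1 modulo m. Then every n-torsion class of Pic is the image
of an n-torsion class of Pic_m, and the n-torsion classes of Pic_m that map to zero in Pic are
exactly n^(s−1) in number (they form μ_n(k)^S modulo the diagonal μ_n(k)): the short exact sequence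
0 → μ_n^S/μ_n → Pic_m[n] → Pic[n] → 0. (The published statement is for the degree-zero parts;
n-torsion classes have degree zero, so this is the same sequence. For s = 0 the two groups coincide
and the count is 1.) -/
theorem result
    (k : Type u) [Field k] [IsAlgClosed k] (X : Scheme.{u}) [IsIntegral X]
    (c : X ⟶ Spec (CommRingCat.of k)) [IsProper c] [Smooth c] (hdim : topologicalKrullDim X = 1)
    (m : LocSym.Pt c →₀ ℕ) (hm : ∀ x : LocSym.Pt c, m x ≤ 1)
    (s : ℕ) (hs : m.support.card = s) (n : ℕ) (hn : 1 ≤ n) (hnk : (n : k) ≠ 0) :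
    (∀ y : Pic c, n • y = 0 → ∃ x : PicMod c m, n • x = 0 ∧ picModToPic c m x = y) ∧
    Nat.card {x : PicMod c m // n • x = 0 ∧ picModToPic c m x = 0} = n ^ (s - 1) := by
  classical
  obtain ⟨hsurj, hker, hlift⟩ := Groth.Agent.S14182.result k X c hdim m hm
  choose g D hD hv hzero using hlift
  let cls : (LocSym.Pt c → kˣ) → W4c1etcurveeff2.PicMod c m := fun v => QuotientAddGroup.mk (D v)
  -- a class only depends on the values
  have huniq : ∀ (g' : X.functionField) (D' : W4c1etcurveeff2.divAway c m) (v : LocSym.Pt c → kˣ),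
      W4c1etcurveeff2.IsDivOf c (D' : LocSym.Pt c →₀ ℤ) g' →
      (∀ x ∈ m.support, LocSym.HasValueAt x g' (v x : k)) →
      (QuotientAddGroup.mk D' : W4c1etcurveeff2.PicMod c m) = cls v := by
    intro g' D' v hD' hv'
    rw [QuotientAddGroup.eq_iff_sub_mem]
    refine AddSubgroup.subset_closure ⟨g' * (g v) ^ (-1 : ℤ),
      ⟨mul_ne_zero hD'.1 (zpow_ne_zero _ (hD v).1), fun x => ?_⟩, fun x hx => ?_⟩
    · rw [AddSubgroup.coe_sub, Finsupp.sub_apply, hD'.2, (hD v).2,
        Groth.Agent.LocSymLib.ord_mul hdim x hD'.1 (zpow_ne_zero _ (hD v).1),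
        Groth.Agent.LocSymLib.ord_zpow hdim]
      ring
    · have h := Groth.Agent.LocSymLib.value_mul hdim (hv' x hx)
        (Groth.Agent.LocSymLib.value_zpow hdim (hv v x hx) (v x).ne_zero (-1))
      rw [zpow_neg_one, zpow_neg_one, mul_inv_cancel₀ (v x).ne_zero] at h
      have h1 : m x = 1 := le_antisymm (hm x) (Nat.pos_of_ne_zero (Finsupp.mem_support_iff.1 hx))
      rw [zpow_neg_one, LocSym.Cong1At, h1]
      simpa using Groth.Agent.LocSymLib.cong1_of_value hdim h
  have hmul : ∀ v w, cls (v * w) = cls v + cls w := fun v w => by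
    refine (huniq (g v * g w) (D v + D w) (v * w) ⟨mul_ne_zero (hD v).1 (hD w).1, fun x => ?_⟩
      fun x hx => ?_).symm.trans (QuotientAddGroup.mk_add _ _ _)
    · rw [AddSubgroup.coe_add, Finsupp.add_apply, (hD v).2, (hD w).2,
        Groth.Agent.LocSymLib.ord_mul hdim x (hD v).1 (hD w).1]
    · simpa using Groth.Agent.LocSymLib.value_mul hdim (hv v x hx) (hv w x hx)
  have hone : cls 1 = 0 := (hzero 1).2 ⟨1, fun x _ => rfl⟩
  let Φ : (LocSym.Pt c → kˣ) →* Multiplicative (W4c1etcurveeff2.PicMod c m) :=
    { toFun := fun v => Multiplicative.ofAdd (cls v)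
      map_one' := by rw [hone]; rfl
      map_mul' := fun v w => by rw [hmul]; rfl }
  have hpow : ∀ v (i : ℕ), i • cls v = cls (v ^ i) := fun v i =>
    (congrArg Multiplicative.toAdd (map_pow Φ v i)).symm
  have hmemker : ∀ x, W4c1etcurveeff2.picModToPic c m x = 0 ↔ ∃ v, x = cls v := by
    intro x
    rw [hker]
    exact ⟨fun ⟨g', D', v, h1, h2, h3⟩ => ⟨v, h3.trans (huniq g' D' v h1 h2)⟩,
      fun ⟨v, h⟩ => ⟨g v, D v, v, hD v, hv v, h⟩⟩
  have hn0 : n ≠ 0 := by omega
  have hroot : ∀ a : kˣ, ∃ b : kˣ, b ^ n = a := fun a => by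
    obtain ⟨b, hb⟩ := IsAlgClosed.exists_pow_nat_eq (a : k) (by omega : 0 < n)
    have hb0 : b ≠ 0 := fun e => a.ne_zero (by rw [← hb, e, zero_pow hn0])
    exact ⟨Units.mk0 b hb0, Units.ext (by simpa using hb)⟩
  choose root hroot using hroot
  refine ⟨fun y hy => ?_, ?_⟩
  · obtain ⟨x, rfl⟩ := hsurj y
    obtain ⟨v, hvx⟩ := (hmemker (n • x)).1 (by rw [map_nsmul, hy])
    refine ⟨x - cls (fun z => root (v z)), ?_, ?_⟩
    · rw [nsmul_sub, hvx, hpow, sub_eq_zero]
      exact congrArg cls (funext fun z => (hroot (v z)).symm)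
    · rw [map_sub, (hmemker _).2 ⟨_, rfl⟩, sub_zero]
  · rcases m.support.eq_empty_or_nonempty with hS | ⟨x₀, hx₀⟩
    · have h0 : ∀ v, cls v = 0 := fun v => (hzero v).2 ⟨1, fun x hx => by simp [hS] at hx⟩
      rw [← hs, hS, Finset.card_empty, Nat.zero_sub, pow_zero, Nat.card_eq_one_iff_exists]
      refine ⟨⟨0, nsmul_zero n, map_zero _⟩, fun x => Subtype.ext ?_⟩
      obtain ⟨v, hv'⟩ := (hmemker x.1).1 x.2.2
      rw [hv', h0]
    let T := m.support.erase x₀
    let ext : (T → rootsOfUnity n k) → LocSym.Pt c → kˣ := fun w z => if h : z ∈ T then (w ⟨z, h⟩ : kˣ) else 1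
    have hextn : ∀ w, ext w ^ n = 1 := fun w => funext fun z => by
      simp only [ext, Pi.pow_apply, Pi.one_apply]
      split_ifs with h
      · exact (mem_rootsOfUnity n _).1 (w _).2
      · exact one_pow n
    let ι : (T → rootsOfUnity n k) → {x : W4c1etcurveeff2.PicMod c m //
        n • x = 0 ∧ W4c1etcurveeff2.picModToPic c m x = 0} := fun w =>
      ⟨cls (ext w), by rw [hpow, hextn, hone], (hmemker _).2 ⟨_, rfl⟩⟩
    have hbij : Function.Bijective ι := by
      constructor
      · intro w w' h
        have h1 : cls (ext w) = cls (ext w') := congrArg Subtype.val h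
        have h2 : cls (ext w * (ext w')⁻¹) = 0 := by
          have h3 := hmul (ext w * (ext w')⁻¹) (ext w')
          rw [inv_mul_cancel_right, h1] at h3
          exact left_eq_add.1 (h3.trans (add_comm _ _))
        obtain ⟨a, ha⟩ := (hzero _).1 h2
        have ha1 : a = 1 := by
          rw [← ha x₀ hx₀]; simp [ext, T]
        refine funext fun z => Subtype.ext ?_
        have := ha z.1 (Finset.mem_of_mem_erase z.2)
        rw [ha1, Pi.mul_apply, Pi.inv_apply, mul_inv_eq_one] at this
        simp only [ext, dif_pos z.2] at this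
        exact this
      · rintro ⟨x, hx, hx'⟩
        obtain ⟨v, rfl⟩ := (hmemker x).1 hx'
        rw [hpow] at hx
        obtain ⟨a, ha⟩ := (hzero _).1 hx
        have hw : ∀ z ∈ m.support, (v z * (v x₀)⁻¹) ^ n = 1 := fun z hz => by
          rw [mul_pow, inv_pow, mul_inv_eq_one]
          exact (ha z hz).trans (ha x₀ hx₀).symm
        refine ⟨fun z => ⟨v z.1 * (v x₀)⁻¹, (mem_rootsOfUnity n _).2 (hw z.1 (Finset.mem_of_mem_erase z.2))⟩,
          Subtype.ext ?_⟩
        set w : T → rootsOfUnity n k :=
          fun z => ⟨v z.1 * (v x₀)⁻¹, (mem_rootsOfUnity n _).2 (hw z.1 (Finset.mem_of_mem_erase z.2))⟩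
        show cls (ext w) = cls v
        have h2 : cls (ext w * v⁻¹) = 0 := (hzero _).2 ⟨(v x₀)⁻¹, fun z hz => by
          simp only [Pi.mul_apply, Pi.inv_apply, ext, w]
          split_ifs with h
          · rw [mul_comm (v z), mul_inv_cancel_right]
          · rw [one_mul, show z = x₀ by by_contra hne; exact h (Finset.mem_erase.2 ⟨hne, hz⟩)]⟩
        have h3 := hmul (ext w * v⁻¹) v
        rwa [inv_mul_cancel_right, h2, zero_add] at h3
    haveI : NeZero (n : k) := ⟨hnk⟩
    haveI : NeZero n := ⟨hn0⟩
    rw [← Nat.card_eq_of_bijective ι hbij, Nat.card_fun, HasEnoughRootsOfUnity.natCard_rootsOfUnity k n,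
      Nat.card_eq_fintype_card, Fintype.card_coe, Finset.card_erase_of_mem hx₀, hs]

end Groth.Agent.S14183
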