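import Groth.Statements.S14184
import Groth.Agent.LocSymLib.Values
-- import your own Groth.Agent.* helpers here

set_option autoImplicit false
set_option linter.style.haveILetI false
universe u
open CategoryTheory AlgebraicGeometry
open LocSym

namespace Groth.Agent.S14184

/-- Let k be an algebraically closed field and X a smooth proper integral curve over k (structure
morphism c, dimension one); points are k-points and ord_x is the valuation at x. Let n ≥ 1, let Z be
a finite set of points, let f₁, f₂ be nonzero rational functions and D₁, D₁′, D₂ divisors (finitely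
supported integer-valued functions on points) with n·D₁ = div(f₁) + D₁′, D₁′ supported on Z, n·D₂ =
div(f₂), f₂ taking the value 1 at every point of Z, and div(f₁) and D₂ with disjoint supports. Let
v₁(x) ∈ kˣ be the value of f₁ at each point of the support of D₂ and v₂(x) ∈ kˣ the value of f₂ at
each point of the support of D₁. Then the quotient of ∏_x v₁(x)^{D₂(x)} by ∏_x v₂(x)^{D₁(x)} is an
n-th root of unity: its n-th power is 1. (This quotient f₁(D₂)/f₂(D₁) is the generalised Weil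
pairing of the classes of (D₁, D₁′, f₁) and D₂; the published statement also normalises f₁, f₂ at a
base point, which is not needed for this assertion.) -/
theorem result
    (k : Type u) [Field k] [IsAlgClosed k] (X : Scheme.{u}) [IsIntegral X]
    (c : X ⟶ Spec (CommRingCat.of k)) [IsProper c] [Smooth c] (hdim : topologicalKrullDim X = 1)
    (n : ℕ) (hn : 1 ≤ n) (Z : Finset (LocSym.Pt c))
    (f₁ f₂ : X.functionField) (hf₁ : f₁ ≠ 0) (hf₂ : f₂ ≠ 0)
    (D₁ D₁' D₂ : LocSym.Pt c →₀ ℤ)
    (hD₁ : ∀ x : LocSym.Pt c, (n : ℤ) * D₁ x = x.ord f₁ + D₁' x) (hD₁' : D₁'.support ⊆ Z)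
    (hD₂ : ∀ x : LocSym.Pt c, (n : ℤ) * D₂ x = x.ord f₂)
    (hf₂Z : ∀ x ∈ Z, LocSym.HasValueAt x f₂ 1)
    (hdisj : ∀ x : LocSym.Pt c, x.ord f₁ = 0 ∨ D₂ x = 0)
    (v₁ v₂ : LocSym.Pt c → kˣ)
    (hv₁ : ∀ x ∈ D₂.support, LocSym.HasValueAt x f₁ (v₁ x : k))
    (hv₂ : ∀ x ∈ D₁.support, LocSym.HasValueAt x f₂ (v₂ x : k)) :
    ((D₂.prod fun x e => v₁ x ^ e) / (D₁.prod fun x e => v₂ x ^ e)) ^ n = 1 := by
  classical
  obtain ⟨vf, hvf⟩ := Groth.Agent.LocSymLib.exists_valFun hdim hf₁ (c := c)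
  obtain ⟨vg, hvg⟩ := Groth.Agent.LocSymLib.exists_valFun hdim hf₂ (c := c)
  have hdis : ∀ x : LocSym.Pt c, x.ord f₁ = 0 ∨ x.ord f₂ = 0 := fun x =>
    (hdisj x).imp_right fun h => by rw [← hD₂ x, h, mul_zero]
  have hW := Groth.Agent.LocSymLib.weil hdim hf₁ hf₂ hdis vf vg hvf hvg
  have h2 : (D₂.prod fun x e => v₁ x ^ e) ^ n = ∏ᶠ x, vf x ^ x.ord f₂ := by
    rw [finprod_eq_prod_of_mulSupport_subset _ (s := D₂.support) (fun x hx => ?_), Finsupp.prod,
      ← Finset.prod_pow]
    · refine Finset.prod_congr rfl fun x hx => ?_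
      have hx0 : x.ord f₁ = 0 := (hdisj x).resolve_right (Finsupp.mem_support_iff.1 hx)
      rw [Groth.Agent.LocSymLib.value_units_unique hdim (hvf x hx0) (hv₁ x hx), ← hD₂ x, ← zpow_natCast,
        ← zpow_mul, mul_comm]
    · rw [Function.mem_mulSupport] at hx
      refine Finsupp.mem_support_iff.2 fun h => hx ?_
      rw [← hD₂ x, h, mul_zero, zpow_zero]
  have hZ : ∀ x, D₁' x ≠ 0 → LocSym.HasValueAt x f₂ ((1 : kˣ) : k) := fun x hx =>
    by simpa using hf₂Z x (hD₁' (Finsupp.mem_support_iff.2 hx))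
  have hvg1 : ∀ x, D₁' x ≠ 0 → vg x = 1 := fun x hx => by
    exact Groth.Agent.LocSymLib.value_units_unique hdim
      (hvg x (Groth.Agent.LocSymLib.ord_eq_zero_of_value hdim (hZ x hx) (Units.ne_zero _))) (hZ x hx)
  have h1 : (D₁.prod fun x e => v₂ x ^ e) ^ n = ∏ᶠ x, vg x ^ x.ord f₁ := by
    have heq : ∀ x, vg x ^ x.ord f₁ = vg x ^ ((n : ℤ) * D₁ x) := fun x => by
      rw [hD₁ x, zpow_add]
      by_cases h : D₁' x = 0
      · rw [h, zpow_zero, mul_one]
      · rw [hvg1 x h, one_zpow, one_zpow, mul_one]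
    rw [finprod_congr heq, finprod_eq_prod_of_mulSupport_subset _ (s := D₁.support) (fun x hx => ?_),
      Finsupp.prod, ← Finset.prod_pow]
    · refine Finset.prod_congr rfl fun x hx => ?_
      have hx0 := Groth.Agent.LocSymLib.ord_eq_zero_of_value hdim (hv₂ x hx) (Units.ne_zero _)
      rw [Groth.Agent.LocSymLib.value_units_unique hdim (hvg x hx0) (hv₂ x hx), ← zpow_natCast, ← zpow_mul,
        mul_comm]
    · rw [Function.mem_mulSupport] at hx
      exact Finsupp.mem_support_iff.2 fun h => hx (by rw [h, mul_zero, zpow_zero])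
  rw [div_pow, h2, h1, hW, div_self']

end Groth.Agent.S14184
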