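import Groth.Statements.S14188
import Groth.Agent.FlatMor.GenericDense

set_option autoImplicit false
universe u
open CategoryTheory CategoryTheory.Limits AlgebraicGeometry
open FlatMor

namespace Groth.Agent.S14188

/-- Let T be an integral scheme with generic point η, let Y and Z be schemes flat over T with Z
separated over T, and let ψ : Y_η → Z be a T-morphism from the generic fibre Y_η = Y ×_T Spec
O_{T,η} (equivalently, an η-morphism Y_η → Z_η). Let gr : Y_η → Y ×_T Z be the graph of ψ, the
morphism whose components are the projection Y_η → Y and ψ, and let Γ ⊆ Y ×_T Z be the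
scheme-theoretic image of gr (the schematic closure of the graph). Then ψ extends to a T-morphism φ
: Y → Z, meaning that the composite Y_η → Y → Z is ψ, if and only if the composite of the inclusion
Γ → Y ×_T Z with the first projection is an isomorphism Γ ≅ Y. -/
theorem result (T Y Z : Scheme.{u}) [IsIntegral T]
    (pY : Y ⟶ T) (pZ : Z ⟶ T) [Flat pY] [Flat pZ] [IsSeparated pZ]
    (ψ : pullback pY (T.fromSpecStalk (genericPoint T)) ⟶ Z)
    (hψ : ψ ≫ pZ = pullback.fst pY (T.fromSpecStalk (genericPoint T)) ≫ pY)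
    (gr : pullback pY (T.fromSpecStalk (genericPoint T)) ⟶ pullback pY pZ)
    (hgr₁ : gr ≫ pullback.fst pY pZ = pullback.fst pY (T.fromSpecStalk (genericPoint T)))
    (hgr₂ : gr ≫ pullback.snd pY pZ = ψ) :
    (∃ φ : Y ⟶ Z, φ ≫ pZ = pY ∧ pullback.fst pY (T.fromSpecStalk (genericPoint T)) ≫ φ = ψ) ↔
      IsIso (gr.imageι ≫ pullback.fst pY pZ) := by
  constructor
  · rintro ⟨φ, hφ, hφψ⟩
    let γ : Y ⟶ pullback pY pZ := pullback.lift (𝟙 Y) φ (by rw [hφ, Category.id_comp])
    have hγf : γ ≫ pullback.fst pY pZ = 𝟙 Y := pullback.lift_fst _ _ _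
    have : IsSeparated (pullback.fst pY pZ) := inferInstance
    have : IsClosedImmersion γ := by
      have : IsClosedImmersion (γ ≫ pullback.fst pY pZ) := hγf ▸ inferInstance
      exact IsClosedImmersion.of_comp γ (pullback.fst pY pZ)
    have hgr : gr = pullback.fst pY (T.fromSpecStalk (genericPoint T)) ≫ γ := by
      apply pullback.hom_ext
      · rw [hgr₁, Category.assoc, hγf, Category.comp_id]
      · rw [hgr₂, Category.assoc, pullback.lift_snd, hφψ]
    subst hgr
    have hker : (pullback.fst pY (T.fromSpecStalk (genericPoint T)) ≫ γ).ker = γ.ker :=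
      Groth.Agent.FlatMor.GenericDense.ker_comp pY γ
    have key : ∀ I : (pullback pY pZ).IdealSheafData, I = γ.ker →
        IsIso (I.subschemeι ≫ pullback.fst pY pZ) := by
      rintro _ rfl
      have h1 : γ.toImage ≫ γ.imageι ≫ pullback.fst pY pZ = 𝟙 Y := by
        rw [Scheme.Hom.toImage_imageι_assoc, hγf]
      rw [IsIso.eq_inv_of_hom_inv_id h1]
      infer_instance
    exact key _ hker
  · intro hiso
    refine ⟨inv (gr.imageι ≫ pullback.fst pY pZ) ≫ gr.imageι ≫ pullback.snd pY pZ, ?_, ?_⟩
    · rw [Category.assoc, IsIso.inv_comp_eq]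
      simp only [Category.assoc, pullback.condition]
    · have h : pullback.fst pY (T.fromSpecStalk (genericPoint T)) ≫ inv (gr.imageι ≫ pullback.fst pY pZ) =
          gr.toImage := by
        rw [IsIso.comp_inv_eq, Scheme.Hom.toImage_imageι_assoc, hgr₁]
      rw [reassoc_of% h, Scheme.Hom.toImage_imageι_assoc, hgr₂]

end Groth.Agent.S14188
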