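import Groth.Statements.S14189
import Groth.Agent.GITLib.DedekindTorsor
import Mathlib.AlgebraicGeometry.Sites.Fpqc

set_option autoImplicit false
universe u
open CategoryTheory CategoryTheory.Limits AlgebraicGeometry
open FlatMor

namespace Groth.Agent.S14189

/-- Let T be an integral scheme with generic point η, let Y and Z be schemes flat over T with Z
separated over T, and let ψ : Y_η → Z be a T-morphism from the generic fibre Y_η = Y ×_T Spec
O_{T,η}. Let g : T' → T be flat, surjective and quasi-compact, and let φ' : Y_{T'} → Z_{T'} be a
T'-morphism which agrees with ψ over T' ×_T η, in the sense that on Y_{T'} ×_Y Y_η = Y ×_T T' ×_T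
Spec O_{T,η} the composite of the first projection with φ' and with Z_{T'} → Z equals the composite
of the second projection with ψ. Then ψ extends to a T-morphism φ : Y → Z, one whose composite with
Y_η → Y is ψ. (The published statement is an equivalence and also records that an extension, when it
exists, is unique; the converse direction, that an extension over T base-changes to such a φ' over
any such T', is immediate, and this row states the existence direction only.) -/
theorem result (T Y Z T' : Scheme.{u}) [IsIntegral T]
    (pY : Y ⟶ T) (pZ : Z ⟶ T) [Flat pY] [Flat pZ] [IsSeparated pZ]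
    (ψ : pullback pY (T.fromSpecStalk (genericPoint T)) ⟶ Z)
    (hψ : ψ ≫ pZ = pullback.fst pY (T.fromSpecStalk (genericPoint T)) ≫ pY)
    (g : T' ⟶ T) [Flat g] [Surjective g] [QuasiCompact g]
    (φ' : pullback pY g ⟶ pullback pZ g) (hφ' : φ' ≫ pullback.snd pZ g = pullback.snd pY g)
    (hagree : pullback.fst (pullback.fst pY g) (pullback.fst pY (T.fromSpecStalk (genericPoint T))) ≫ φ' ≫ pullback.fst pZ g =
      pullback.snd (pullback.fst pY g) (pullback.fst pY (T.fromSpecStalk (genericPoint T))) ≫ ψ) :
    ∃ φ : Y ⟶ Z, φ ≫ pZ = pY ∧ pullback.fst pY (T.fromSpecStalk (genericPoint T)) ≫ φ = ψ := by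
  let gen := T.fromSpecStalk (genericPoint T)
  haveI : QuasiCompact gen := by
    refine ⟨fun U _ _ => ?_⟩
    haveI : Subsingleton ↥(Spec (T.presheaf.stalk (genericPoint T))) :=
      inferInstanceAs (Subsingleton (PrimeSpectrum T.functionField))
    exact (Set.subsingleton_of_subsingleton).isCompact
  haveI : IsDominant gen := ⟨dense_iff_inter_open.2 fun U hU hne => ⟨genericPoint T,
    ((genericPoint_spec T).mem_open_set_iff hU).2 (by simpa using hne),
      ⟨_, Scheme.fromSpecStalk_closedPoint⟩⟩⟩
  haveI := IsSchemeTheoreticallyDominant.of_isDominant gen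
  let u := pullback.fst pY g
  haveI : EffectiveEpi u := inferInstance
  let e := φ' ≫ pullback.fst pZ g
  have he : e ≫ pZ = u ≫ pY := by
    simp only [e, u, Category.assoc]
    rw [pullback.condition, reassoc_of% hφ', ← pullback.condition]
  have hd : ∀ {W : Scheme.{u}} (a b : W ⟶ pullback pY g), a ≫ u = b ≫ u → a ≫ e = b ≫ e := by
    intro W a b hab
    let P := pullback u u
    suffices hP : pullback.fst u u ≫ e = pullback.snd u u ≫ e by
      rw [← pullback.lift_fst a b hab, Category.assoc, hP, ← Category.assoc, pullback.lift_snd]
    let r := (pullback.fst u u ≫ u) ≫ pY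
    haveI : Flat r := inferInstance
    refine Groth.Agent.GrpScheme.Ext.ext_of_schematicallyDominant (pullback.fst r gen) pZ ?_ ?_
    · exact ((Category.assoc _ _ _).trans (congrArg (fun w => pullback.fst u u ≫ w) he)).trans
        ((pullback.condition_assoc _).trans
          ((congrArg (fun w => pullback.snd u u ≫ w) he.symm).trans (Category.assoc _ _ _).symm))
    · have key : ∀ (c : P ⟶ pullback pY g), c ≫ u = pullback.fst u u ≫ u →
          pullback.fst r gen ≫ c ≫ e = pullback.lift (pullback.fst r gen ≫ pullback.fst u u ≫ u) (pullback.snd r gen)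
            (by simpa [r] using pullback.condition (f := r) (g := gen)) ≫ ψ := by
        intro c hc
        let k : pullback r gen ⟶ pullback pY gen :=
          pullback.lift (pullback.fst r gen ≫ pullback.fst u u ≫ u) (pullback.snd r gen)
            (by simpa [r] using pullback.condition (f := r) (g := gen))
        let m : pullback r gen ⟶ pullback u (pullback.fst pY gen) :=
          pullback.lift (pullback.fst r gen ≫ c) k (by rw [pullback.lift_fst, Category.assoc, hc])
        have := congrArg (fun w => m ≫ w) hagree
        exact (Category.assoc _ _ _).symm.trans ((congrArg (fun w => w ≫ e) (pullback.lift_fst _ _ _).symm).trans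
          ((Category.assoc _ _ _).trans (this.trans
            ((Category.assoc _ _ _).symm.trans (congrArg (fun w => w ≫ ψ) (pullback.lift_snd _ _ _))))))
      rw [key _ rfl, key _ pullback.condition.symm]
  refine ⟨EffectiveEpi.desc u e (fun a b h => hd a b h), ?_, ?_⟩
  · rw [← cancel_epi u, EffectiveEpi.fac_assoc, he]
  · haveI : EffectiveEpi (pullback.snd u (pullback.fst pY gen)) := inferInstance
    rw [← cancel_epi (pullback.snd u (pullback.fst pY gen)), ← pullback.condition_assoc, EffectiveEpi.fac]
    simpa [e, u, gen] using hagree

end Groth.Agent.S14189
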