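import Groth.Statements.S14190
import Groth.Agent.CohLin.Basic
import Groth.Agent.ProperFin.Descend
import Groth.Agent.CycLib.DevDegVan
import Groth.Agent.QCoh.Exact
import Groth.Agent.QCoh.Qcqs
import Groth.Agent.QCoh.Pullback
-- import your own Groth.Agent.* helpers here

set_option autoImplicit false
universe u
open CategoryTheory CategoryTheory.Limits AlgebraicGeometry Opposite
open Models

namespace Groth.Agent.S14190

section Helpers
open TopologicalSpace

variable {X : Scheme.{u}}

/-- A module restricting to zero on `U` has no sections inside `U`. -/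
theorem subsingleton_sections {M : X.Modules} (U : X.Opens) (h : IsZero ((Scheme.Modules.restrictFunctor U.ι).obj M))
    {V : X.Opens} (hV : V ≤ U) : Subsingleton Γ(M, V) := by
  obtain ⟨O, rfl⟩ : ∃ O : (U : Scheme.{u}).Opens, U.ι ''ᵁ O = V :=
    ⟨U.ι ⁻¹ᵁ V, by rw [Scheme.Hom.image_preimage_eq_opensRange_inf, Scheme.Opens.opensRange_ι, inf_eq_right.mpr hV]⟩
  refine subsingleton_of_forall_eq 0 fun s => ?_
  exact congr(Scheme.Modules.Hom.app $((IsZero.iff_id_eq_zero _).mp h) O s)

/-- A module supported on finitely many closed points has no higher cohomology. -/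
theorem subsingleton_H1 [AlgebraicGeometry.IsNoetherian X] {M : X.Modules} (U : X.Opens)
    (hfin : ((U : Set X)ᶜ).Finite) (hcl : ∀ x : X, x ∉ U → IsClosed ({x} : Set X))
    (h : IsZero ((Scheme.Modules.restrictFunctor U.ι).obj M)) : Subsingleton (Coh.HH X M 1) := by
  have hd : DiscreteTopology ((U : Set X)ᶜ : Set X) := by
    haveI : Finite ((U : Set X)ᶜ : Set X) := hfin.to_subtype
    haveI : T1Space ((U : Set X)ᶜ : Set X) := ⟨fun z => by
      have : ({z} : Set ((U : Set X)ᶜ : Set X)) = Subtype.val ⁻¹' {z.1} := by ext w; simp [Subtype.ext_iff]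
      rw [this]; exact (hcl z.1 z.2).preimage continuous_subtype_val⟩
    infer_instance
  refine CycLib.Dev.subsingleton_HH_of_support_dim M U.isOpen.isClosed_compl (fun x hx => ?_) (d := 0)
    (topologicalKrullDim_zero_of_discreteTopology _) 1 one_pos
  refine subsingleton_of_forall_eq 0 fun a => ?_
  obtain ⟨V, hxV, s, rfl⟩ := M.presheaf.germ_exist a
  have hxU : x ∈ U := not_not.mp hx
  haveI := subsingleton_sections U h (inf_le_right : V ⊓ U ≤ U)
  rw [← M.presheaf.germ_res_apply (homOfLE (inf_le_left : V ⊓ U ≤ V)) x ⟨hxV, hxU⟩ s,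
    Subsingleton.elim (M.presheaf.map (homOfLE (inf_le_left : V ⊓ U ≤ V)).op s) 0, map_zero]

end Helpers

open TopologicalSpace in
/-- Let R be a discrete valuation ring with fraction field K, let C be a proper K-curve which is smooth
of relative dimension 1 and geometrically connected over K, and let X be a model of C over R (flat
and of finite type over R with generic fibre C) which is proper over R and normal; so X is a proper
relative curve over R, integral of dimension 2. Let (ω, tr) be a 1-dualizing pair for X over R: ω is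
a quasi-coherent O_X-module and tr : H¹(X, ω) → R an R-linear map such that φ ↦ tr ∘ H¹(φ) is a
bijection from Hom(F, ω) onto Hom_R(H¹(X, F), R) for every quasi-coherent F (such a pair is a
relative dualizing sheaf of X over R with its trace, and is unique up to isomorphism). Let U ⊆ X be
an open subscheme whose complement is a finite set of closed points of X (these lie in the closed
fibre and have codimension 2). Then the canonical map from ω to the direct image of its restriction
to U is an isomorphism: for every open V ⊆ X the restriction map ω(V) → ω(V ∩ U) is bijective. (The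
published statement is for a relative curve which need not be proper and for the relative dualizing
sheaf of duality theory; this row takes X proper over R, where a 1-dualizing pair in the above
global-sections sense determines that sheaf up to isomorphism.) -/
theorem result (R : Type u) [CommRing R] [IsDomain R] [IsDiscreteValuationRing R]
    (X C : Scheme.{u}) [X.Over (Spec (CommRingCat.of R))]
    (f : C ⟶ Spec (CommRingCat.of (FractionRing R)))
    [SmoothOfRelativeDimension 1 f] [IsProper f] [GeometricallyConnected f]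
    (hX : Models.IsModel R X (X ↘ Spec (CommRingCat.of R)) C f)
    [IsProper (X ↘ Spec (CommRingCat.of R))] (hn : Pi1.IsNormalScheme X)
    (ω : X.Modules) (tr : Coh.HH X ω 1 →ₗ[R] R) (hω : Canon.IsRDualOver R X 1 ω tr)
    (U : X.Opens) (hfin : ((U : Set X)ᶜ).Finite) (hcl : ∀ x : X, x ∉ U → IsClosed ({x} : Set X))
    (V : X.Opens) :
    Function.Bijective (ω.presheaf.map (homOfLE (inf_le_left : V ⊓ U ≤ V)).op).hom := by
  set p := X ↘ Spec (CommRingCat.of R) with hp
  haveI : IsLocallyNoetherian X := LocallyOfFiniteType.isLocallyNoetherian p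
  haveI : CompactSpace X := QuasiCompact.compactSpace_of_compactSpace p
  haveI : AlgebraicGeometry.IsNoetherian X := {}
  obtain ⟨ϖ, hϖ⟩ := IsDiscreteValuationRing.exists_irreducible R
  let π : Γ(X, ⊤) := Coh.toGlobal p ϖ
  have hπU : X.basicOpen π ≤ U := fun x hx => by
    by_contra hxU
    have h1 : IsClosed (p.base '' ({x} : Set X)) := p.isClosedMap _ (hcl x hxU)
    rw [Set.image_singleton] at h1
    replace h1 : (p.base x).asIdeal.IsMaximal := (PrimeSpectrum.isClosed_singleton_iff_isMaximal _).mp h1
    have h2 : x ∈ p ⁻¹ᵁ (Spec (CommRingCat.of R)).basicOpen ((Scheme.ΓSpecIso (CommRingCat.of R)).inv ϖ) := by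
      rw [Scheme.preimage_basicOpen]; exact hx
    rw [basicOpen_eq_of_affine'] at h2
    simp only [Iso.inv_hom_id_apply] at h2
    change ϖ ∉ (p.base x).asIdeal at h2
    rw [IsLocalRing.eq_maximalIdeal h1] at h2
    exact h2 ((IsLocalRing.mem_maximalIdeal _).mpr hϖ.not_isUnit)
  haveI : ω.IsQuasicoherent := hω.1
  let F := Scheme.Modules.restrictFunctor U.ι
  let adj := Scheme.Modules.restrictAdjunction U.ι
  let ω' : X.Modules := (Scheme.Modules.pushforward U.ι).obj (F.obj ω)
  haveI : (F.obj ω).IsQuasicoherent :=
    (SheafOfModules.isQuasicoherent (U : Scheme.{u}).ringCatSheaf).prop_of_iso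
      ((Scheme.Modules.restrictFunctorIsoPullback U.ι).app ω).symm (QCoh.isQuasicoherent_pullback U.ι ω)
  haveI : ω'.IsQuasicoherent := QCoh.isQuasicoherent_pushforward U.ι _
  let u : ω ⟶ ω' := adj.unit.app ω
  have hmapu : F.map u ≫ adj.counit.app (F.obj ω) = 𝟙 _ := adj.left_triangle_components ω
  haveI : IsIso (F.map u) := by
    haveI : IsIso (adj.counit.app (F.obj ω)) := NatIso.isIso_app_of_isIso _ _
    exact IsIso.of_isIso_fac_right hmapu
  -- homomorphisms into `ω` are detected by the trace
  have hinj : ∀ {G : X.Modules}, Coh.IsQCoh G → ∀ φ φ' : G ⟶ ω,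
      (∀ z, tr (CohLin.hMap φ 1 z) = tr (CohLin.hMap φ' 1 z)) → φ = φ' := fun hG φ φ' h =>
    (hω.2 _ hG).1 (LinearMap.ext h)
  -- no sections supported outside `U`
  haveI : Mono u := by
    refine Preadditive.mono_of_kernel_zero (hinj (QCoh.isQuasicoherent_kernel u) _ _ fun z => ?_)
    have hz : IsZero (F.obj (kernel u)) := by
      rw [IsZero.iff_id_eq_zero]
      have h0 : F.map (kernel.ι u) = 0 := by
        have h1 : F.map (kernel.ι u) ≫ F.map u = 0 := by rw [← F.map_comp, kernel.condition, F.map_zero]
        rw [← cancel_mono (F.map u), h1, CategoryTheory.Limits.zero_comp]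
      ext O s
      refine QCoh.app_injective_of_mono (kernel.ι u) (U.ι ''ᵁ O) ?_
      refine Eq.trans ?_ (map_zero _).symm
      exact congr(Scheme.Modules.Hom.app $h0 O s)
    haveI := subsingleton_H1 U hfin hcl hz
    rw [Subsingleton.elim z 0]
    simp
  let S := ShortComplex.mk u (cokernel.π u) (cokernel.condition u)
  have hS : S.ShortExact :=
    { exact := ShortComplex.exact_of_g_is_cokernel _ (cokernelIsCokernel u)
      mono_f := inferInstanceAs (Mono u)
      epi_g := inferInstanceAs (Epi (cokernel.π u)) }
  haveI hQ : (cokernel u).IsQuasicoherent := QCoh.isQuasicoherent_cokernel u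
  have hQz : IsZero (F.obj (cokernel u)) := by
    haveI := (Scheme.Modules.restrictAdjunction U.ι).isLeftAdjoint
    haveI : Epi (F.map (cokernel.π u)) := inferInstance
    refine IsZero.of_epi_eq_zero (F.map (cokernel.π u)) ?_
    rw [← cancel_epi (F.map u), ← F.map_comp, cokernel.condition, F.map_zero, CategoryTheory.Limits.comp_zero]
  -- the trace kills the connecting map
  have hker : ∀ x : Coh.HH X ω 1, CohLin.hMap u 1 x = 0 → tr x = 0 := fun x hx => by
    obtain ⟨y, hy⟩ := CohLin.exists_hδ_eq hS (n := 0) x hx
    haveI := subsingleton_sections U hQz hπU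
    obtain ⟨N, hN⟩ := QCoh.exists_pow_smul_eq_zero (cokernel u) (U := ⊤) isCompact_univ π
      (ProperFin.h0Sec (cokernel u) y) (Subsingleton.elim _ _)
    have hy0 : (show Coh.Γtop X from π ^ N) • y = 0 := (ProperFin.h0Sec (cokernel u)).injective
      ((ProperFin.h0Sec_smul (cokernel u) (π ^ N) y).trans (hN.trans (map_zero _).symm))
    have h1 : (ϖ ^ N) • x = 0 := by
      show Coh.toGlobal p (ϖ ^ N) • x = 0
      rw [map_pow, ← hy]
      exact ((CohLin.hδ hS 0).map_smul (show Coh.Γtop X from π ^ N) y).symm.trans
        ((congrArg (CohLin.hδ hS 0) hy0).trans (map_zero _))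
    have h2 : ϖ ^ N * tr x = 0 := by rw [← smul_eq_mul, ← map_smul, h1, map_zero]
    exact (mul_eq_zero.mp h2).resolve_left (pow_ne_zero _ hϖ.ne_zero)
  haveI := subsingleton_H1 U hfin hcl hQz
  have hsurj : Function.Surjective (Canon.HHlin R u 1) := fun z =>
    CohLin.exists_hMap_f_eq hS z (Subsingleton.elim _ _)
  let tr' : Coh.HH X ω' 1 →ₗ[R] R :=
    ((LinearMap.ker (Canon.HHlin R u 1)).liftQ tr fun x hx => hker x hx).comp
      ((Canon.HHlin R u 1).quotKerEquivOfSurjective hsurj).symm.toLinearMap
  have htr' : ∀ x, tr' (CohLin.hMap u 1 x) = tr x := fun x => by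
    have hx : ((Canon.HHlin R u 1).quotKerEquivOfSurjective hsurj).symm (Canon.HHlin R u 1 x) =
        Submodule.Quotient.mk x := (LinearEquiv.symm_apply_eq _).mpr rfl
    exact (congrArg ((LinearMap.ker (Canon.HHlin R u 1)).liftQ tr fun x hx => hker x hx) hx).trans rfl
  obtain ⟨φ, hφ⟩ := (hω.2 ω' inferInstance).2 tr'
  have h1 : u ≫ φ = 𝟙 ω := hinj hω.1 _ _ fun z => by
    rw [CohLin.hMap_comp, CohLin.hMap_id]
    exact (LinearMap.congr_fun hφ _).trans (htr' z)
  have h2 : φ ≫ u = 𝟙 ω' := by
    refine (adj.homEquiv ω' (F.obj ω)).symm.injective ?_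
    rw [Adjunction.homEquiv_counit, Adjunction.homEquiv_counit]
    refine congrArg (· ≫ adj.counit.app (F.obj ω)) ?_
    show F.map (φ ≫ u) = F.map (𝟙 ω')
    rw [← cancel_epi (F.map u), ← F.map_comp, ← F.map_comp, ← Category.assoc, h1, Category.id_comp, Category.comp_id]
  haveI : IsIso u := ⟨φ, h1, h2⟩
  have h3 : Function.Bijective (u.app V) := (ConcreteCategory.isIso_iff_bijective _).mp inferInstance
  rw [show u.app V = _ from Scheme.Modules.restrictAdjunction_unit_app_app U.ι ω V] at h3
  have key : ∀ (O : X.Opens) (h : O ≤ V), O = V ⊓ U → Function.Bijective (ω.presheaf.map (homOfLE h).op) →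
      Function.Bijective (ω.presheaf.map (homOfLE (inf_le_left : V ⊓ U ≤ V)).op).hom := by
    rintro O h rfl hb; exact hb
  refine key _ _ ?_ h3
  rw [Scheme.Hom.image_preimage_eq_opensRange_inf, Scheme.Opens.opensRange_ι, inf_comm]

end Groth.Agent.S14190
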