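import Groth.Statements.S14191
import Groth.Agent.CohLin.Basic
import Groth.Agent.ProperFin.Descend
import Groth.Agent.QCoh.Exact
import Groth.Agent.QCoh.Qcqs
import Groth.Agent.QCoh.Pullback
import Groth.Agent.Props.SubExt
import Groth.Agent.Props.GenLocus
import Groth.Agent.EulerChar.Cartier
import Groth.Agent.ProjTwist.Invertible
import Groth.Agent.BigVol.PowReg
import Groth.Agent.VarBC.H0
import Groth.Agent.AbVarLib.Basics
import Groth.Agent.VertInter.Global
import Groth.Agent.VertInter.CohFlat
import Groth.Agent.S13746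
import Groth.Agent.S2768
import Groth.Agent.S0002
import Groth.Agent.S0007
import Groth.Agent.S0012
-- import your own Groth.Agent.* helpers here

set_option autoImplicit false
universe u
open CategoryTheory CategoryTheory.Limits AlgebraicGeometry Opposite
open Models

namespace Groth.Agent.S14191

section Helpers
open TopologicalSpace Groth.Agent.QCoh

variable {X : Scheme.{u}}

theorem isZero_kernel_of_injective {A B : X.Modules} (v : A ⟶ B)
    (h : ∀ x : X, ∃ U : X.Opens, x ∈ U ∧ ∀ V ≤ U, Function.Injective (v.app V)) : Mono v := by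
  refine Preadditive.mono_of_kernel_zero ?_
  ext O s
  show (kernel.ι v).app O s = 0
  choose U hxU hU using h
  refine eq_zero_of_locally_eq_zero A (U := fun x : O => O ⊓ U x.1) (fun x => inf_le_left)
    (fun x hx => Opens.mem_iSup.mpr ⟨⟨x, hx⟩, hx, hxU x⟩) _ fun x => hU x.1 _ inf_le_right ?_
  rw [map_zero, app_res, show v.app O ((kernel.ι v).app O s) = 0 from
    congr(Scheme.Modules.Hom.app $(kernel.condition v) O s), map_zero]

/-- A quasi-coherent module embeds in one without first cohomology. -/
theorem exists_effacement [X.IsSeparated] [CompactSpace X] (ω : X.Modules) [ω.IsQuasicoherent] :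
    ∃ (J : X.Modules) (v : ω ⟶ J), J.IsQuasicoherent ∧ Mono v ∧ Subsingleton (Coh.HH X J 1) := by
  have hcpt : IsCompact ((⊤ : X.Opens) : Set X) := isCompact_univ
  obtain ⟨s, hs, e⟩ := isCompact_iff_finite_and_eq_biUnion_affineOpens.mp hcpt
  classical
  suffices key : ∀ t : Finset X.affineOpens, t.Nonempty → ∃ (J : X.Modules) (v : ω ⟶ J), J.IsQuasicoherent ∧
      Subsingleton (Coh.HH X J 1) ∧ ∀ U ∈ t, ∀ V ≤ U.1, Function.Injective (v.app V) by
    by_cases hne : hs.toFinset.Nonempty
    · obtain ⟨J, v, hJ, h1, hv⟩ := key _ hne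
      refine ⟨J, v, hJ, isZero_kernel_of_injective v fun x => ?_, h1⟩
      have hx : x ∈ ((⊤ : X.Opens) : Set X) := trivial
      rw [e] at hx
      simp only [Opens.coe_iSup, Set.mem_iUnion] at hx
      obtain ⟨U, hU, hxU⟩ := hx
      exact ⟨U.1, hxU, hv U (hs.mem_toFinset.mpr hU)⟩
    · haveI : IsEmpty X := ⟨fun x => by
        have hx : x ∈ ((⊤ : X.Opens) : Set X) := trivial
        rw [e] at hx
        simp only [Opens.coe_iSup, Set.mem_iUnion] at hx
        obtain ⟨U, hU, -⟩ := hx
        exact hne ⟨U, hs.mem_toFinset.mpr hU⟩⟩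
      haveI : IsAffine X := inferInstance
      exact ⟨ω, 𝟙 ω, inferInstance, inferInstance, S0007.result X ω 1 one_pos⟩
  intro t ht
  have single : ∀ U : X.affineOpens, ∃ (J : X.Modules) (v : ω ⟶ J), J.IsQuasicoherent ∧
      Subsingleton (Coh.HH X J 1) ∧ ∀ V ≤ U.1, Function.Injective (v.app V) := fun U => by
    let F := Scheme.Modules.restrictFunctor U.1.ι
    haveI : (F.obj ω).IsQuasicoherent :=
      (SheafOfModules.isQuasicoherent (U.1 : Scheme.{u}).ringCatSheaf).prop_of_iso
        ((Scheme.Modules.restrictFunctorIsoPullback U.1.ι).app ω).symm (isQuasicoherent_pullback U.1.ι ω)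
    haveI : IsAffine (U.1 : Scheme.{u}) := U.2
    haveI : IsSeparated (terminal.from X) := Scheme.IsSeparated.isSeparated_terminal_from
    haveI : IsAffineHom (U.1.ι ≫ terminal.from X) := inferInstance
    haveI : IsAffineHom U.1.ι := IsAffineHom.of_comp U.1.ι (terminal.from X)
    refine ⟨_, (Scheme.Modules.restrictAdjunction U.1.ι).unit.app ω,
      isQuasicoherent_pushforward U.1.ι (F.obj ω), ?_, fun V hV => ?_⟩
    · haveI : Coh.IsQCoh (F.obj ω) := ‹(F.obj ω).IsQuasicoherent›
      haveI := Groth.Agent.S0007.result (U.1 : Scheme.{u}) (F.obj ω) 1 one_pos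
      obtain ⟨e'⟩ := Groth.Agent.S0012.result U.1.ι (F.obj ω) 1
      exact e'.symm.injective.subsingleton
    · rw [Scheme.Modules.restrictAdjunction_unit_app_app]
      have key : ∀ (O : X.Opens) (h : O ≤ V), O = V → Function.Injective (ω.presheaf.map (homOfLE h).op) := by
        rintro O h rfl a b hab
        rw [show (homOfLE h).op = 𝟙 _ from rfl, CategoryTheory.Functor.map_id] at hab
        exact hab
      exact key _ _ (by rw [Scheme.Hom.image_preimage_eq_opensRange_inf, Scheme.Opens.opensRange_ι, inf_eq_right.mpr hV])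
  induction ht using Finset.Nonempty.cons_induction with
  | singleton U =>
    obtain ⟨J, v, hJ, h1, hv⟩ := single U
    exact ⟨J, v, hJ, h1, fun U' hU' => by rw [Finset.mem_singleton.mp hU']; exact hv⟩
  | cons U t hU ht ih =>
    obtain ⟨J, v, hJ, h1, hv⟩ := ih
    obtain ⟨J', v', hJ', h1', hv'⟩ := single U
    refine ⟨J' ⊞ J, biprod.lift v' v, Props.SubExt.isQuasicoherent_biprod J' J, ?_, fun U' hU' V hV => ?_⟩
    · exact CohLin.subsingleton_X₂ (n := 1) (S := ShortComplex.mk (biprod.inl : J' ⟶ J' ⊞ J) biprod.snd biprod.inl_snd)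
        (ShortComplex.Splitting.ofHasBinaryBiproduct J' J).shortExact
    · intro a b hab
      rcases Finset.mem_cons.mp hU' with rfl | hmem
      · refine hv' V hV ?_
        rw [← biprod.lift_fst v' v]
        exact congrArg ((biprod.fst : J' ⊞ J ⟶ J').app V) hab
      · refine hv U' hmem V hV ?_
        rw [← biprod.lift_snd v' v]
        exact congrArg ((biprod.snd : J' ⊞ J ⟶ J).app V) hab

/-- Linear forms on a submodule extend when the quotient sits in a free module. -/
theorem exists_extend {R A B D : Type u} [CommRing R] [IsDomain R] [IsPrincipalIdealRing R]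
    [AddCommGroup A] [Module R A] [AddCommGroup B] [Module R B] [AddCommGroup D] [Module R D]
    [Module.Free R D] [Module.Finite R D] (f : A →ₗ[R] B) (g : B →ₗ[R] D)
    (hfg : ∀ b, g b = 0 → ∃ a, f a = b) (hgf : ∀ a, g (f a) = 0) (l : A →ₗ[R] R)
    (hl : ∀ a, f a = 0 → l a = 0) : ∃ l' : B →ₗ[R] R, ∀ a, l' (f a) = l a := by
  obtain ⟨σ, hσ⟩ := Module.projective_lifting_property g.rangeRestrict LinearMap.id g.surjective_rangeRestrict
  have hσ' : ∀ d, g (σ d) = d.1 := fun d => congrArg Subtype.val (LinearMap.congr_fun hσ d)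
  let π : B →ₗ[R] LinearMap.range f :=
    (LinearMap.id - σ.comp g.rangeRestrict).codRestrict _ fun b => by
      obtain ⟨a, ha⟩ := hfg (b - σ (g.rangeRestrict b)) (by rw [map_sub, hσ']; exact sub_self _)
      exact ⟨a, ha⟩
  let l₀ : LinearMap.range f →ₗ[R] R :=
    ((LinearMap.ker f).liftQ l fun a ha => hl a ha).comp f.quotKerEquivRange.symm.toLinearMap
  refine ⟨l₀.comp π, fun a => ?_⟩
  have h1 : π (f a) = ⟨f a, a, rfl⟩ := by
    refine Subtype.ext ?_
    show f a - σ (g.rangeRestrict (f a)) = f a
    rw [show g.rangeRestrict (f a) = 0 from Subtype.ext (hgf a), map_zero, sub_zero]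
  show l₀ (π (f a)) = l a
  rw [h1]
  have h2 : f.quotKerEquivRange.symm ⟨f a, a, rfl⟩ = Submodule.Quotient.mk a :=
    (LinearEquiv.symm_apply_eq _).mpr rfl
  exact (congrArg ((LinearMap.ker f).liftQ l fun a ha => hl a ha) h2).trans rfl

/-- An element without torsion is seen by a linear form. -/
theorem exists_form_ne_zero {R N : Type u} [CommRing R] [IsDomain R] [IsPrincipalIdealRing R]
    [AddCommGroup N] [Module R N] [Module.Finite R N] (x : N) (hx : ∀ r : R, r • x = 0 → r = 0) :
    ∃ l : N →ₗ[R] R, l x ≠ 0 := by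
  have hne : (Submodule.torsion R N).mkQ x ≠ 0 := fun h => by
    obtain ⟨⟨r, hr⟩, hrx⟩ := (Submodule.Quotient.mk_eq_zero _).mp h
    exact nonZeroDivisors.ne_zero hr (hx r hrx)
  let b := Module.Free.chooseBasis R (N ⧸ Submodule.torsion R N)
  obtain ⟨i, hi⟩ : ∃ i, b.repr ((Submodule.torsion R N).mkQ x) i ≠ 0 := by
    by_contra h
    push Not at h
    exact hne (b.repr.injective ((Finsupp.ext h).trans (map_zero _).symm))
  exact ⟨(b.coord i).comp (Submodule.torsion R N).mkQ, hi⟩

end Helpers

open TopologicalSpace Groth.Agent.QCoh Groth.Agent.Props.GenLocus in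
/-- Let R be a discrete valuation ring with fraction field K, let C be a proper K-curve which is smooth
of relative dimension 1 and geometrically connected over K, and let X be a model of C over R (flat
and of finite type over R with generic fibre C) which is proper over R and normal; so X is a proper
relative curve over R. Let (ω, tr) be a 1-dualizing pair for X over R: ω is a quasi-coherent
O_X-module and tr : H¹(X, ω) → R an R-linear map such that φ ↦ tr ∘ H¹(φ) is a bijection from Hom(F,
ω) onto Hom_R(H¹(X, F), R) for every quasi-coherent F. Suppose that H¹(X, O_X) is a free R-module,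
which for such X says that X → Spec R is cohomologically flat in dimension 0. Then H¹(X, ω) is a
free R-module and its rank equals the rank of the free R-module H⁰(X, O_X); that is, H¹(X, ω) is
R-dual to H⁰(X, O_X) up to isomorphism. (The published statement is phrased for the relative
dualizing sheaf of duality theory and its higher direct image R¹f_*; over the affine base Spec R a
1-dualizing pair in the above global-sections sense determines that sheaf up to isomorphism, and
local freeness of R¹f_* is freeness of H¹.) -/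
theorem result (R : Type u) [CommRing R] [IsDomain R] [IsDiscreteValuationRing R]
    (X C : Scheme.{u}) [X.Over (Spec (CommRingCat.of R))]
    (f : C ⟶ Spec (CommRingCat.of (FractionRing R)))
    [SmoothOfRelativeDimension 1 f] [IsProper f] [GeometricallyConnected f]
    (hX : Models.IsModel R X (X ↘ Spec (CommRingCat.of R)) C f)
    [IsProper (X ↘ Spec (CommRingCat.of R))] (hn : Pi1.IsNormalScheme X)
    (ω : X.Modules) (tr : Coh.HH X ω 1 →ₗ[R] R) (hω : Canon.IsRDualOver R X 1 ω tr)
    (hcf : Module.Free R (Coh.HH X (Coh.structureModule X) 1)) :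
    Module.Free R (Coh.HH X ω 1) ∧
      Module.finrank R (Coh.HH X ω 1) = Module.finrank R (Coh.HH X (Coh.structureModule X) 0) := by
  set p := X ↘ Spec (CommRingCat.of R) with hp
  haveI hflat : Flat p := hX.1
  haveI : IsLocallyNoetherian X := LocallyOfFiniteType.isLocallyNoetherian p
  haveI : CompactSpace X := QuasiCompact.compactSpace_of_compactSpace p
  haveI : AlgebraicGeometry.IsNoetherian X := {}
  haveI : X.IsSeparated := ⟨by rw [← terminal.comp_from p]; infer_instance⟩
  obtain ⟨g, hg⟩ := hX.2.2.2
  letI : C.Over (Spec (CommRingCat.of (FractionRing R))) := ⟨f⟩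
  haveI : IsProper (C ↘ Spec (CommRingCat.of (FractionRing R))) := ‹IsProper f›
  haveI : Smooth f := SmoothOfRelativeDimension.smooth 1 f
  haveI : GeometricallyConnected (C ↘ Spec (CommRingCat.of (FractionRing R))) := ‹GeometricallyConnected f›
  haveI : GeometricallyReduced (C ↘ Spec (CommRingCat.of (FractionRing R))) :=
    AbVarLib.Basics.geometricallyReduced_of_smooth f
  haveI : ConnectedSpace C := GeometricallyConnected.connectedSpace_of_subsingleton f
  have hH0 : IsIso f.appTop := by
    have h1 := VarBC.H0.bijective_algebraMap (FractionRing R) C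
    rw [ConcreteCategory.isIso_iff_bijective]
    have h2 := h1.comp (ConcreteCategory.bijective_of_isIso (Scheme.ΓSpecIso (CommRingCat.of (FractionRing R))).hom)
    convert h2 using 1
    funext a
    show f.appTop a = f.appTop ((Scheme.ΓSpecIso _).inv ((Scheme.ΓSpecIso _).hom a))
    rw [Iso.hom_inv_id_apply]
  haveI : Flat (Over.mk p).hom := hflat
  haveI : IsProper (Over.mk p).hom := ‹IsProper p›
  have hglob : Function.Bijective (Coh.toGlobal p) :=
    VertInter.toGlobal_bijective (X := Over.mk p) hg hH0
  -- `H⁰(X, O) = R`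
  let h0 := ProperFin.h0Sec (Coh.structureModule X)
  let one : Coh.HH X (Coh.structureModule X) 0 := h0.symm (1 : Γ(X, ⊤))
  have hone : ∀ y : Coh.HH X (Coh.structureModule X) 0, ∃ r : R, r • one = y := fun y => by
    obtain ⟨r, hr⟩ := hglob.2 (show Γ(X, ⊤) from h0 y)
    refine ⟨r, h0.injective ?_⟩
    refine (ProperFin.h0Sec_smul (Coh.structureModule X) (Coh.toGlobal p r) one).trans ?_
    rw [AddEquiv.apply_symm_apply, hr]
    exact mul_one (show Γ(X, ⊤) from h0 y)
  have hone0 : ∀ r : R, r • one = 0 → r = 0 := fun r hr => hglob.1 (by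
    have h1 := (ProperFin.h0Sec_smul (Coh.structureModule X) (Coh.toGlobal p r) one).symm.trans
      ((congrArg h0 hr).trans (map_zero h0))
    rw [AddEquiv.apply_symm_apply] at h1
    exact ((mul_one (show Γ(X, ⊤) from Coh.toGlobal p r)).symm.trans h1).trans (map_zero _).symm)
  haveI : ω.IsQuasicoherent := hω.1
  haveI hOq : (Coh.structureModule X).IsQuasicoherent :=
    ProjTwist.isQCoh_of_isInvertible (PicLoc.isInvertible_structureModule X)
  haveI : Module.Finite R (Coh.HH X (Coh.structureModule X) 1) :=
    S0002.result R X (Coh.structureModule X) (ProperFin.isCoh_structureModule X) 1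
  -- the trace is injective
  have hinj : ∀ e : Coh.HH X ω 1, tr e = 0 → e = 0 := by
    intro e he
    obtain ⟨J, v, hJ, hv, hJ1⟩ := exists_effacement ω
    haveI := hJ
    let T := ShortComplex.mk v (cokernel.π v) (cokernel.condition v)
    have hT : T.ShortExact :=
      { exact := ShortComplex.exact_of_g_is_cokernel _ (cokernelIsCokernel v)
        mono_f := inferInstanceAs (Mono v)
        epi_g := inferInstanceAs (Epi (cokernel.π v)) }
    obtain ⟨y, hy⟩ := CohLin.exists_hδ_eq hT (n := 0) e (Subsingleton.elim _ _)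
    let σ : Coh.structureModule X ⟶ cokernel v := homOfSec (ProperFin.h0Sec (cokernel v) y)
    have hσ : CohLin.hMap σ 0 one = y := (ProperFin.h0Sec (cokernel v)).injective (by
      rw [ProperFin.h0Sec_hMap, AddEquiv.apply_symm_apply]
      exact (sec_homOfSec _ ⊤).trans (res_self _ le_rfl _))
    let i : ω ⟶ pullback (cokernel.π v) σ :=
      pullback.lift v 0 (by rw [cokernel.condition, CategoryTheory.Limits.zero_comp])
    let S := ShortComplex.mk i (pullback.snd (cokernel.π v) σ) (pullback.lift_snd _ _ _)
    have hS : S.ShortExact :=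
      { exact := ShortComplex.exact_of_f_is_kernel _ (KernelFork.IsLimit.ofι _ _
          (fun k hk => hT.exact.lift (k ≫ pullback.fst (cokernel.π v) σ) (by
            show (k ≫ pullback.fst (cokernel.π v) σ) ≫ cokernel.π v = 0
            rw [Category.assoc, pullback.condition, ← Category.assoc, hk, CategoryTheory.Limits.zero_comp]))
          (fun k hk => by
            apply pullback.hom_ext
            · rw [Category.assoc, pullback.lift_fst]; exact hT.exact.lift_f _ _
            · rw [Category.assoc, pullback.lift_snd, CategoryTheory.Limits.comp_zero]; exact hk.symm)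
          (fun k hk b hb => by
            rw [← cancel_mono v]
            refine Eq.trans ?_ (hT.exact.lift_f _ _).symm
            rw [← hb, Category.assoc]
            exact congrArg (b ≫ ·) (pullback.lift_fst _ _ _).symm))
        mono_f := by
          haveI : Mono (i ≫ pullback.fst (cokernel.π v) σ) := by rw [pullback.lift_fst]; exact hv
          exact mono_of_mono i (pullback.fst (cokernel.π v) σ)
        epi_g := inferInstanceAs (Epi (pullback.snd (cokernel.π v) σ)) }
    let φT : S ⟶ T :=
      { τ₁ := 𝟙 ω, τ₂ := pullback.fst (cokernel.π v) σ, τ₃ := σ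
        comm₁₂ := (Category.id_comp v).trans (pullback.lift_fst _ _ _).symm
        comm₂₃ := pullback.condition }
    have hδ : CohLin.hδ hS 0 one = e := by
      have h1 := VertInter.hδ_naturality hS hT φT one
      refine (CohLin.hMap_id ω 1 _).symm.trans (h1.symm.trans ?_)
      show CohLin.hδ hT 0 (CohLin.hMap σ 0 one) = e
      rw [hσ, hy]
    have hker : ∀ x, Canon.HHlin R i 1 x = 0 → tr x = 0 := fun x hx => by
      obtain ⟨z, hz⟩ := CohLin.exists_hδ_eq hS (n := 0) x hx
      obtain ⟨r, rfl⟩ := hone z
      have h1 : x = r • e := by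
        rw [← hz, ← hδ]
        exact (CohLin.hδ hS 0).map_smul (Coh.toGlobal p r) one
      rw [h1, map_smul, he, smul_zero]
    haveI := hcf
    obtain ⟨l, hl⟩ := exists_extend (Canon.HHlin R i 1) (Canon.HHlin R (pullback.snd (cokernel.π v) σ) 1)
      (fun b hb => CohLin.exists_hMap_f_eq hS b hb) (fun a => CohLin.hMap_g_hMap_f (S := S) a) tr hker
    have hEq : Coh.IsQCoh S.X₂ := @isQuasicoherent_X₂ _ S hS ‹ω.IsQuasicoherent› hOq
    obtain ⟨φ, hφ⟩ := (hω.2 _ hEq).2 l
    have hiφ : i ≫ φ = 𝟙 ω := (hω.2 ω hω.1).1 (LinearMap.ext fun z => by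
      show tr (CohLin.hMap (i ≫ φ) 1 z) = tr (CohLin.hMap (𝟙 ω) 1 z)
      rw [CohLin.hMap_comp, CohLin.hMap_id]
      exact (LinearMap.congr_fun hφ _).trans (hl z))
    have h0e : CohLin.hMap i 1 e = 0 := hδ ▸ CohLin.hMap_f_hδ hS one
    have h2 := CohLin.hMap_comp i φ 1 e
    rw [h0e, map_zero, hiφ, CohLin.hMap_id] at h2
    exact h2
  have htr : Function.Injective tr := (injective_iff_map_eq_zero tr).mpr hinj
  -- the trace is nonzero
  obtain ⟨ϖ, hϖ⟩ := IsDiscreteValuationRing.exists_irreducible R
  have htr0 : tr ≠ 0 := by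
    intro htr0
    have hvan : ∀ G : X.Modules, Coh.IsQCoh G → ∀ l : Coh.HH X G 1 →ₗ[R] R, l = 0 := fun G hG l => by
      obtain ⟨φ, rfl⟩ := (hω.2 G hG).2 l
      ext z
      show tr _ = (0 : R)
      rw [htr0]; rfl
    -- two closed points on `C`
    haveI : LocallyOfFiniteType f := inferInstance
    haveI : JacobsonSpace C := LocallyOfFiniteType.jacobsonSpace f
    obtain ⟨P, hP, Q, hQ, hPQ⟩ : ∃ P : C, IsClosed ({P} : Set C) ∧ ∃ Q : C, IsClosed ({Q} : Set C) ∧ P ≠ Q := by
      obtain ⟨P, -, hP⟩ := nonempty_inter_closedPoints (Z := (Set.univ : Set C)) Set.univ_nonempty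
        isOpen_univ.isLocallyClosed
      refine ⟨P, hP, ?_⟩
      by_contra hcon
      push Not at hcon
      have hsub : Subsingleton C := ⟨fun a b => by
        have hall : ∀ z : C, z = P := fun z => by
          by_contra hz
          obtain ⟨w, hw, hwc⟩ := nonempty_inter_closedPoints (Z := ({P} : Set C)ᶜ) ⟨z, hz⟩ hP.isOpen_compl.isLocallyClosed
          exact hw (hcon w hwc).symm
        rw [hall a, hall b]⟩
      have hdim := S2768.result 1 f P
      haveI : Subsingleton (f.fiber (f.base P)) :=
        (f.fiberι (f.base P)).isEmbedding.injective.subsingleton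
      have hle : FlatMor.localDim (f.fiber (f.base P)) (f.asFiber P) ≤ 0 := by
        refine (iInf_le _ ⟨⊤, trivial⟩).trans ?_
        haveI : DiscreteTopology ((⊤ : Opens (f.fiber (f.base P))) : Set (f.fiber (f.base P))) := inferInstance
        exact topologicalKrullDim_zero_of_discreteTopology _
      rw [FlatMor.fibreDimAt] at hdim
      exact absurd (hdim ▸ hle) (by decide)
    haveI : IsOpenImmersion g := by
      haveI := S13746.isLocalization_away ϖ hϖ
      exact MorphismProperty.of_isPullback (P := @IsOpenImmersion) hg.flip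
        (IsOpenImmersion.of_isLocalization ϖ : IsOpenImmersion (Spec.map (CommRingCat.ofHom (algebraMap R (FractionRing R)))))
    have hrange : Set.range g.base = (S13746.dOpen p ϖ : Set X) := by
      haveI := S13746.isLocalization_away ϖ hϖ
      rw [← hg.isoPullback_hom_fst, Scheme.Hom.comp_base, TopCat.coe_comp, Set.range_comp,
        Set.range_eq_univ.mpr hg.isoPullback.hom.surjective, Set.image_univ, Scheme.Pullback.range_fst,
        S13746.dOpen_eq_preimage]
      congr 1
      exact PrimeSpectrum.localization_away_comap_range (FractionRing R) ϖ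
    have hsep : ∀ A B : C, IsClosed ({A} : Set C) → g.base B ∈ closure ({g.base A} : Set X) → B = A :=
      fun A B hA h => by
        have h1 : A ⤳ B := g.isEmbedding.isInducing.specializes_iff.mp (specializes_iff_mem_closure.mpr h)
        exact h1.mem_closed hA rfl
    let Z0 : Closeds X := ⟨closure {g.base P, g.base Q}, isClosed_closure⟩
    let I := Scheme.IdealSheafData.vanishingIdeal Z0
    have hrangeZ : Set.range I.subschemeι.base = closure {g.base P, g.base Q} := by
      rw [Scheme.IdealSheafData.range_subschemeι]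
      exact Scheme.IdealSheafData.coe_support_vanishingIdeal Z0
    let D : I.subscheme.Opens := I.subschemeι ⁻¹ᵁ S13746.dOpen p ϖ
    let V1 : I.subscheme.Opens := D ⊓ I.subschemeι ⁻¹ᵁ ⟨(closure {g.base Q})ᶜ, isClosed_closure.isOpen_compl⟩
    let V2 : I.subscheme.Opens := D ⊓ I.subschemeι ⁻¹ᵁ ⟨(closure {g.base P})ᶜ, isClosed_closure.isOpen_compl⟩
    have hpt : ∀ z ∈ D, I.subschemeι.base z = g.base P ∨ I.subschemeι.base z = g.base Q := fun z hz => by
      have h1 : I.subschemeι.base z ∈ closure ({g.base P, g.base Q} : Set X) := hrangeZ ▸ ⟨z, rfl⟩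
      rw [Set.insert_eq, closure_union] at h1
      obtain ⟨c, hc⟩ : I.subschemeι.base z ∈ Set.range g.base := hrange ▸ hz
      rw [← hc] at h1 ⊢
      rcases h1 with h1 | h1
      · exact Or.inl (congrArg g.base (hsep P c hP h1))
      · exact Or.inr (congrArg g.base (hsep Q c hQ h1))
    have hcov : D ≤ V1 ⊔ V2 := fun z hz => by
      rcases hpt z hz with h | h
      · refine Or.inl ⟨hz, fun hmem => hPQ (hsep Q P hQ ?_)⟩
        rwa [h] at hmem
      · refine Or.inr ⟨hz, fun hmem => hPQ (hsep P Q hP ?_).symm⟩
        rwa [h] at hmem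
    have hdisj : ∀ z, z ∈ V1 → z ∈ V2 → False := fun z h1 h2 => by
      rcases hpt z h1.1 with h | h
      · exact h2.2 (show I.subschemeι.base z ∈ closure ({g.base P} : Set X) from h ▸ subset_closure rfl)
      · exact h1.2 (show I.subschemeι.base z ∈ closure ({g.base Q} : Set X) from h ▸ subset_closure rfl)
    obtain ⟨zP, hzP⟩ : g.base P ∈ Set.range I.subschemeι.base := hrangeZ ▸ subset_closure (Set.mem_insert _ _)
    obtain ⟨zQ, hzQ⟩ : g.base Q ∈ Set.range I.subschemeι.base :=
      hrangeZ ▸ subset_closure (Set.mem_insert_of_mem _ rfl)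
    have hzP1 : zP ∈ V1 := ⟨by show I.subschemeι.base zP ∈ (S13746.dOpen p ϖ : Set X); rw [hzP, ← hrange]; exact ⟨P, rfl⟩,
      fun hmem => hPQ (hsep Q P hQ (by rwa [hzP] at hmem))⟩
    have hzQ2 : zQ ∈ V2 := ⟨by show I.subschemeι.base zQ ∈ (S13746.dOpen p ϖ : Set X); rw [hzQ, ← hrange]; exact ⟨Q, rfl⟩,
      fun hmem => hPQ (hsep P Q hP (by rwa [hzQ] at hmem)).symm⟩
    let str := S13746.str (I.subschemeι ≫ p)
    have hstr : ∀ r : R, I.subschemeι.appTop (Coh.toGlobal p r) = str ⊤ r := fun r => by
      refine Eq.trans ?_ (S13746.app_str I.subschemeι p ⊤ r)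
      refine congrArg (fun z => I.subschemeι.appTop z) ?_
      show p.appTop ((Scheme.ΓSpecIso (CommRingCat.of R)).inv r) =
        p.appLE ⊤ ⊤ le_top ((Scheme.ΓSpecIso (CommRingCat.of R)).inv r)
      exact (congrArg (fun φ => φ ((Scheme.ΓSpecIso (CommRingCat.of R)).inv r)) p.appLE_eq_app).symm
    have hnz : ∀ (c : R) (V : I.subscheme.Opens) (z : I.subscheme), z ∈ V → V ≤ D → str V c = 0 → c = 0 :=
      fun c V z hzV hVD hc => by
        by_contra hc0
        obtain ⟨m, w, rfl⟩ := IsDiscreteValuationRing.eq_unit_mul_pow_irreducible hc0 hϖ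
        have hu : IsUnit (str V ϖ) := by
          have h1 : V ≤ I.subscheme.basicOpen (str V ϖ) := by
            rw [S13746.basicOpen_str]
            refine le_inf le_rfl (hVD.trans ?_)
            rw [← S13746.preimage_dOpen]
          exact RingedSpace.isUnit_of_isUnit_germ _ V (str V ϖ) fun y hy =>
            (I.subscheme.mem_basicOpen _ y hy).mp (h1 hy)
        rw [map_mul, map_pow] at hc
        have h2 := (((w.isUnit.map (str V)).mul (hu.pow m)).map (I.subscheme.presheaf.germ V z hzV).hom)
        rw [hc, map_zero] at h2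
        exact not_isUnit_zero h2
    obtain ⟨e₀, he, -⟩ := I.subscheme.sheaf.existsUnique_gluing' (fun b : Bool => cond b V1 V2) D
      (fun b => homOfLE (by cases b <;> exact inf_le_left))
      (hcov.trans (sup_le (le_iSup_of_le true le_rfl) (le_iSup_of_le false le_rfl)))
      (fun b => if b then 1 else 0) (by
        intro a b
        rcases Bool.eq_false_or_eq_true a with rfl | rfl <;> rcases Bool.eq_false_or_eq_true b with rfl | rfl
        · rfl
        · refine TopCat.Presheaf.section_ext I.subscheme.sheaf _ _ _ fun y hy => (hdisj y hy.1 hy.2).elim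
        · refine TopCat.Presheaf.section_ext I.subscheme.sheaf _ _ _ fun y hy => (hdisj y hy.2 hy.1).elim
        · rfl)
    let e : Γ(I.subscheme, D) := e₀
    haveI : IsLocallyNoetherian I.subscheme := LocallyOfFiniteType.isLocallyNoetherian I.subschemeι
    haveI : CompactSpace I.subscheme := QuasiCompact.compactSpace_of_compactSpace I.subschemeι
    haveI : (Coh.structureModule I.subscheme).IsQuasicoherent :=
      ProjTwist.isQCoh_of_isInvertible (PicLoc.isInvertible_structureModule _)
    have hDeq : I.subscheme.basicOpen (str ⊤ ϖ) = D := by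
      show S13746.dOpen (I.subschemeι ≫ p) ϖ = _
      rw [← S13746.preimage_dOpen]
    obtain ⟨N, t, ht⟩ : ∃ (N : ℕ) (t : Γ(I.subscheme, ⊤)),
        I.subscheme.presheaf.map (homOfLE (le_top : D ≤ ⊤)).op t = str D (ϖ ^ N) * e := by
      have H := isLocalizingAt_of_isCompact (Coh.structureModule I.subscheme) (U := ⊤) isCompact_univ (str ⊤ ϖ)
      have key : ∀ (W : I.subscheme.Opens) (h : W ≤ ⊤), W = D → IsLocalizingOn (Coh.structureModule I.subscheme) h (str ⊤ ϖ) →
          ∃ (N : ℕ) (t : Γ(I.subscheme, ⊤)),
            I.subscheme.presheaf.map (homOfLE (le_top : D ≤ ⊤)).op t = str D (ϖ ^ N) * e := by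
        rintro W h rfl HW
        obtain ⟨N, t, ht⟩ := HW.surj e
        refine ⟨N, t, ht.trans ?_⟩
        rw [map_pow]
        exact congrArg (fun z : Γ(I.subscheme, D) => z ^ N * e) (S13746.res_str (I.subschemeι ≫ p) (homOfLE h) ϖ)
      exact key _ _ hDeq H
    let S := ShortComplex.mk (ClSub.idealModι I) (ClSub.toSubscheme I) (kernel.condition _)
    have hS : S.ShortExact := EulerChar.shortExact_ideal I
    let y : Coh.HH X (ClSub.quotMod I) 0 := (ProperFin.h0Sec (ClSub.quotMod I)).symm t
    have hIc := BigVol.PowReg.isCoh_idealMod I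
    haveI : Module.Finite R (Coh.HH X (ClSub.idealMod I) 1) := S0002.result R X _ hIc 1
    obtain ⟨l, hl⟩ := exists_form_ne_zero (R := R) (N := Coh.HH X (ClSub.idealMod I) 1) (CohLin.hδ hS 0 y)
      fun r hr => by
        have hr' : CohLin.hδ hS 0 (r • y) = 0 :=
          ((CohLin.hδ hS 0).map_smul (Coh.toGlobal p r) y).trans hr
        obtain ⟨z, hz⟩ := CohLin.exists_hMap_g_eq hS (r • y) hr'
        obtain ⟨c, rfl⟩ := hone z
        have h1 := congrArg (fun z => (show Γ(I.subscheme, ⊤) from ProperFin.h0Sec (ClSub.quotMod I) z)) hz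
        have h2 : str ⊤ c = str ⊤ r * t := by
          have hL : (show Γ(I.subscheme, ⊤) from ProperFin.h0Sec (ClSub.quotMod I)
              (CohLin.hMap S.g 0 (c • one))) = str ⊤ c := by
            refine (ProperFin.h0Sec_hMap _ _).trans ?_
            refine (congrArg ((ClSub.toSubscheme I).app ⊤)
              (ProperFin.h0Sec_smul (Coh.structureModule X) (Coh.toGlobal p c) one)).trans ?_
            rw [AddEquiv.apply_symm_apply]
            refine (congrArg I.subschemeι.appTop (mul_one (show Γ(X, ⊤) from Coh.toGlobal p c))).trans ?_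
            exact hstr c
          have hR : (show Γ(I.subscheme, ⊤) from ProperFin.h0Sec (ClSub.quotMod I) (r • y)) = str ⊤ r * t := by
            refine (ProperFin.h0Sec_smul (ClSub.quotMod I) (Coh.toGlobal p r) y).trans ?_
            rw [AddEquiv.apply_symm_apply]
            exact congrArg (fun z : Γ(I.subscheme, ⊤) => z * t) (hstr r)
          exact hL.symm.trans (h1.trans hR)
        have h3 := congrArg (I.subscheme.presheaf.map (homOfLE (le_top : D ≤ ⊤)).op) h2
        rw [map_mul, ht, S13746.res_str, S13746.res_str, ← mul_assoc, ← map_mul] at h3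
        have hr2 := congrArg (I.subscheme.presheaf.map (homOfLE (inf_le_left : V2 ≤ D)).op) h3
        rw [map_mul, S13746.res_str, S13746.res_str,
          show I.subscheme.presheaf.map (homOfLE (inf_le_left : V2 ≤ D)).op e = 0 from he false, mul_zero] at hr2
        have hc0 := hnz c V2 zQ hzQ2 inf_le_left hr2
        subst hc0
        have hr1 := congrArg (I.subscheme.presheaf.map (homOfLE (inf_le_left : V1 ≤ D)).op) h3
        rw [map_mul, S13746.res_str, S13746.res_str,
          show I.subscheme.presheaf.map (homOfLE (inf_le_left : V1 ≤ D)).op e = 1 from he true, mul_one,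
          map_zero] at hr1
        exact (mul_eq_zero.mp (hnz _ V1 zP hzP1 inf_le_left hr1.symm)).resolve_right (pow_ne_zero _ hϖ.ne_zero)
    exact hl (by rw [hvan _ hIc.1 l]; rfl)
  haveI : Module.Finite R (LinearMap.range tr) := Module.Finite.iff_fg.mpr (IsNoetherian.noetherian _)
  haveI : Module.Free R (LinearMap.range tr) := inferInstance
  haveI : Nontrivial (LinearMap.range tr) :=
    Submodule.nontrivial_iff_ne_bot.mpr fun h => htr0 (LinearMap.range_eq_bot.mp h)
  let eT := LinearEquiv.ofInjective tr htr
  let e0 : R ≃ₗ[R] Coh.HH X (Coh.structureModule X) 0 :=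
    LinearEquiv.ofBijective (LinearMap.toSpanSingleton R _ one)
      ⟨(injective_iff_map_eq_zero _).mpr fun r hr => hone0 r hr, fun y => hone y⟩
  refine ⟨Module.Free.of_equiv eT.symm, ?_⟩
  rw [eT.finrank_eq, ← e0.finrank_eq, Module.finrank_self]
  exact le_antisymm ((Submodule.finrank_le _).trans (Module.finrank_self R).le) Module.finrank_pos

end Groth.Agent.S14191
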