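import Groth.Statements.S14192
import Groth.Agent.PowExp.Basic
import Mathlib.Algebra.BigOperators.Field

set_option autoImplicit false
open PowerSeries
open StackCount

namespace Groth.Agent.S14192

open PowerSeries Groth.Agent.PowExp in
theorem expS_nat_geomLog_mul {ι : Type*} (s : Finset ι) (a : ι → ℚ) (e : ι → ℕ) :
    expS (∑ i ∈ s, (e i : ℚ⟦X⟧) * geomLog (a i)) * ∏ i ∈ s, (1 - C (a i) * X) ^ e i = 1 := by
  rw [expS_sum s _ (fun i _ => by simp [constantCoeff_geomLog]), ← Finset.prod_mul_distrib]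
  refine Finset.prod_eq_one fun i _ => ?_
  rw [expS_natMul (constantCoeff_geomLog _), ← mul_pow, expS_geomLog_mul, one_pow]

/-- Let R = Σ_n r_n X^n be a Laurent polynomial with integer coefficients and q > 1 an integer. In the
ring of formal power series in t over ℚ, the exponential of Σ_{v ≥ 1} R(q^v) t^v / v equals the
finite product Π_n (1 - q^n t)^(-r_n). Stated here with denominators cleared: the exponential series
multiplied by Π_{n : r_n > 0} (1 - q^n t)^(r_n) equals Π_{n : r_n < 0} (1 - q^n t)^(-r_n) (each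
factor 1 - q^n t is a unit, so this is equivalent). -/
theorem result (R : LaurentPolynomial ℤ) (q : ℤ) (hq : 1 < q) :
    (PowerSeries.exp ℚ).subst
        (PowerSeries.mk fun v : ℕ => if v = 0 then (0 : ℚ)
          else (R.coeff.sum fun (n : ℤ) (r : ℤ) => (r : ℚ) * (q : ℚ) ^ (n * (v : ℤ))) / (v : ℚ))
      * ∏ n ∈ R.coeff.support, (1 - PowerSeries.C ((q : ℚ) ^ n) * PowerSeries.X) ^ (R.coeff n).toNat
    = ∏ n ∈ R.coeff.support, (1 - PowerSeries.C ((q : ℚ) ^ n) * PowerSeries.X) ^ (-(R.coeff n)).toNat := by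
  set L : PowerSeries ℚ := PowerSeries.mk fun v : ℕ => if v = 0 then (0 : ℚ)
    else (R.coeff.sum fun (n : ℤ) (r : ℤ) => (r : ℚ) * (q : ℚ) ^ (n * (v : ℤ))) / (v : ℚ) with hLdef
  set s := R.coeff.support
  set a : ℤ → ℚ := fun n => (q : ℚ) ^ n
  let G : (ℤ → ℕ) → PowerSeries ℚ := fun e =>
    ∑ n ∈ s, (e n : PowerSeries ℚ) * Groth.Agent.PowExp.geomLog (a n)
  let pos : ℤ → ℕ := fun n => (R.coeff n).toNat
  let neg : ℤ → ℕ := fun n => (-(R.coeff n)).toNat
  have hG0 : ∀ e, PowerSeries.constantCoeff (G e) = 0 := fun e => by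
    simp [G, Groth.Agent.PowExp.constantCoeff_geomLog]
  have hL0 : PowerSeries.constantCoeff L = 0 := by simp [hLdef]
  have key : L + G neg = G pos := by
    ext v
    simp only [map_add, G, map_sum, ← map_natCast (PowerSeries.C (R := ℚ)), PowerSeries.coeff_C_mul,
      Groth.Agent.PowExp.geomLog, PowerSeries.coeff_mk, hLdef]
    rcases Nat.eq_zero_or_pos v with rfl | hv
    · simp
    rw [if_neg hv.ne', Finsupp.sum, Finset.sum_div, ← Finset.sum_add_distrib]
    refine Finset.sum_congr rfl fun n _ => ?_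
    have h1 : ((pos n : ℤ) : ℚ) - ((neg n : ℤ) : ℚ) = (R.coeff n : ℚ) := by
      exact_mod_cast Int.toNat_sub_toNat_neg (R.coeff n)
    have h2 : (a n) ^ v = (q : ℚ) ^ (n * (v : ℤ)) := by rw [zpow_mul, zpow_natCast]
    rw [h2]
    push_cast at h1
    linear_combination -((q : ℚ) ^ (n * (v : ℤ)) / (v : ℚ)) * h1
  have h3 := expS_nat_geomLog_mul s a neg
  have h4 := expS_nat_geomLog_mul s a pos
  have h5 : Groth.Agent.PowExp.expS L * Groth.Agent.PowExp.expS (G neg) =
      Groth.Agent.PowExp.expS (G pos) := by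
    rw [← Groth.Agent.PowExp.expS_add hL0 (hG0 _), key]
  change Groth.Agent.PowExp.expS L * ∏ n ∈ s, (1 - PowerSeries.C (a n) * PowerSeries.X) ^ pos n =
    ∏ n ∈ s, (1 - PowerSeries.C (a n) * PowerSeries.X) ^ neg n
  linear_combination
    (-(Groth.Agent.PowExp.expS L * ∏ n ∈ s, (1 - PowerSeries.C (a n) * PowerSeries.X) ^ pos n)) * h3
    + (∏ n ∈ s, (1 - PowerSeries.C (a n) * PowerSeries.X) ^ neg n) * h4
    + ((∏ n ∈ s, (1 - PowerSeries.C (a n) * PowerSeries.X) ^ pos n) *
        (∏ n ∈ s, (1 - PowerSeries.C (a n) * PowerSeries.X) ^ neg n)) * h5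

end Groth.Agent.S14192
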