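import Groth.Statements.S1420
import Groth.Agent.Wt.Local
-- import your own Groth.Agent.* helpers here

set_option autoImplicit false
universe u
open FlatMor

namespace Groth.Agent.S1420

open AlgebraicGeometry CategoryTheory Limits in
/-- A locally quasi-finite morphism with a weighting taking only positive values is universally open. -/
theorem result {X Y : Scheme.{u}} (f : X ⟶ Y) [LocallyQuasiFinite f] [LocallyOfFiniteType f] (w : ↑X → ℤ) (hw : MoreMor.IsWeighting f w) (hpos : ∀ x, 0 < w x) :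
    UniversallyOpen f := by
  constructor
  intro X' Y' i₁ i₂ f' hc'
  have hc := hc'.flip
  have : LocallyQuasiFinite f' := MorphismProperty.of_isPullback hc ‹_›
  have : LocallyOfFiniteType f' := MorphismProperty.of_isPullback hc ‹_›
  have hw' := Wt.Apply.isWeighting_baseChange hw hc
  intro O hO
  rw [isOpen_iff_mem_nhds]
  rintro _ ⟨x, hxO, rfl⟩
  obtain ⟨V, g, u, hg, hu, J, W, -, hJW, hmem, hev⟩ :=
    Wt.Local.exists_single f' hw' (f' x) {x} (Set.finite_singleton x) (by simp)
  obtain ⟨z, hz₁, hz₂⟩ :=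
    Scheme.Pullback.exists_preimage_pullback (f := f') (g := g) x u hu.symm
  have hzJ : z ∈ J := hmem z hz₂ (by simp [hz₁])
  obtain ⟨N, huN, hN⟩ := Wt.Master.exists_nbhd_avoid (pullback.snd f' g) (W z) (hJW z hzJ).1.finite
    (pullback.fst f' g ⁻¹' Oᶜ) (hO.isClosed_compl.preimage (pullback.fst f' g).continuous) u
    fun p hp hpu hpO => by
      obtain rfl := (hJW z hzJ).1.unique p hp hpu
      exact hpO (hz₁ ▸ hxO)
  obtain ⟨N', hN', hN'o, huN'⟩ := mem_nhds_iff.mp (hev.and (N.2.mem_nhds huN))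
  refine Filter.mem_of_superset ((g.isOpenMap N' hN'o).mem_nhds ⟨u, huN', hu⟩) ?_
  rintro _ ⟨n, hn, rfl⟩
  obtain ⟨y, hy⟩ := Wt.GeomPts.exists_geomPt n
  obtain ⟨c, hc⟩ := Wt.Local.exists_of_geomSum_ne_zero (pullback.snd f' g) _ y
    (A := (W z : Set _)) (by rw [(hN' hn).1 z hzJ _ y hy]; exact (hpos _).ne')
  have hcn : pullback.snd f' g (Wt.GeomPts.pt c.1) = n := (Wt.GeomPts.apply_pt _ y c).trans hy
  refine ⟨pullback.fst f' g (Wt.GeomPts.pt c.1),
    not_not.mp (hN _ hc (show pullback.snd f' g _ ∈ N from hcn.symm ▸ (hN' hn).2)), ?_⟩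
  rw [← Scheme.Hom.comp_apply, pullback.condition, Scheme.Hom.comp_apply, hcn]

end Groth.Agent.S1420
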