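import Groth.Statements.S14202
import Groth.Agent.KSMod.Global

set_option autoImplicit false
universe u
open CategoryTheory CategoryTheory.Limits AlgebraicGeometry
open ASBun

namespace Groth.Agent.S14202

open Groth.Agent

/-- Let X be a scheme proper over a field k, K an algebraic closure of k, e a K-isomorphism X_K ≅ P^n_K
with O_e(j) the pullback of O(j) along e, and j an integer. If W and W' are indecomposable finite
locally free O_X-modules (nonzero, and in any decomposition as a direct sum one summand is zero)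
with W_K ≅ O_e(j)^{⊕r} and W'_K ≅ O_e(−j)^{⊕r'} for some r, r' ≥ 1, then r = r': the indecomposable
modules of types O(j) and O(−j) have the same rank (W' is isomorphic to the dual of W). -/
theorem result (k : Type u) [Field k] {X : Scheme.{u}}
    (f : X ⟶ Spec (CommRingCat.of k)) [IsProper f] (n : ℕ)
    (K : Type u) [Field K] [Algebra k K] [IsAlgClosure k K] (e : BrSev.Splitting f K n) (j : ℤ)
    (W W' : X.Modules) (hW : FlatMod.IsFinLocFree W) (hW' : FlatMod.IsFinLocFree W')
    (hWi : (¬ IsZero W ∧ ∀ M₁ M₂ : X.Modules, Nonempty (W ≅ M₁ ⊞ M₂) → IsZero M₁ ∨ IsZero M₂))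
    (hW'i : (¬ IsZero W' ∧ ∀ M₁ M₂ : X.Modules, Nonempty (W' ≅ M₁ ⊞ M₂) → IsZero M₁ ∨ IsZero M₂))
    (r r' : ℕ) (hr : 0 < r) (hr' : 0 < r') (hWt : BrSev.IsTwPow e j r W)
    (hW't : BrSev.IsTwPow e (-j) r' W') : r = r' := by
  haveI : Algebra.IsAlgebraic k K := IsAlgClosure.isAlgebraic
  haveI : IsAlgClosed K := IsAlgClosure.isAlgClosed k
  haveI := KSMod.connectedSpace_of_splitting e
  have hY := KSMod.surjective_appTop_of_splitting e
  obtain ⟨dW⟩ := hWt
  obtain ⟨dW'⟩ := hW't
  obtain ⟨φ⟩ := KSMod.nonempty_twist_tensor e j (-j)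
  obtain ⟨φ'⟩ := KSMod.nonempty_twist_tensor e (-j) j
  obtain ⟨ψ⟩ := KSMod.nonempty_twist_zero e
  exact Nat.dvd_antisymm
    (KSMod.mult_dvd f K hY (KSMod.isInvertible_twist e j) (KSMod.isInvertible_twist e (-j))
      (φ ≪≫ eqToIso (by rw [add_neg_cancel]) ≪≫ ψ) hW hW' hWi (KSMod.powDec dW) (KSMod.powDec dW'))
    (KSMod.mult_dvd f K hY (KSMod.isInvertible_twist e (-j)) (KSMod.isInvertible_twist e j)
      (φ' ≪≫ eqToIso (by rw [neg_add_cancel]) ≪≫ ψ) hW' hW hW'i (KSMod.powDec dW') (KSMod.powDec dW))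

end Groth.Agent.S14202
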