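import Groth.Statements.S14204
import Groth.Agent.ProjTwist.Pn.Twist
import Groth.Agent.KFlat.PullTensor


set_option autoImplicit false
universe u
open CategoryTheory CategoryTheory.Limits AlgebraicGeometry
open ASBun

namespace Groth.Agent.S14204

/-- Let X be a scheme over a field k, K a field extension of k, e a K-isomorphism X_K ≅ P^n_K with
O_e(j) the pullback of O(j) along e, and W, W' two O_X-modules with W_K ≅ O_e(j)^{⊕r} and W'_K ≅
O_e(l)^{⊕s} for integers j, l and natural numbers r, s. Then the tensor product W ⊗_{O_X} W'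
satisfies (W ⊗ W')_K ≅ O_e(j + l)^{⊕rs}: the tensor product of absolutely rank-one-isotypical
modules of twisting types O(j) and O(l) is absolutely rank-one-isotypical of type O(j + l), in
particular absolutely split. (The published statement is for the indecomposable modules of types
O(j) and O(l) on a Severi–Brauer variety with K an algebraic closure; the argument uses only the
displayed decompositions.) -/
theorem result (k : Type u) [Field k] {X : Scheme.{u}}
    (f : X ⟶ Spec (CommRingCat.of k)) (n : ℕ)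
    (K : Type u) [Field K] [Algebra k K] (e : BrSev.Splitting f K n) (j l : ℤ) (r s : ℕ)
    (W W' : X.Modules) (hWt : BrSev.IsTwPow e j r W) (hW't : BrSev.IsTwPow e l s W') :
    BrSev.IsTwPow e (j + l) (r * s) (CohB1.tensorMod W W') := by
  obtain ⟨a⟩ := hWt
  obtain ⟨b⟩ := hW't
  let T : CohB1.tensorMod (e.twist j) (e.twist l) ≅ e.twist (j + l) :=
    (Groth.Agent.KFlat.PullTensor.pullTensorIso e.iso.hom (Twist.twistProjSpace n K j) (Twist.twistProjSpace n K l)).symm ≪≫
      (Scheme.Modules.pullback e.iso.hom).mapIso (Groth.Agent.ProjTwist.nonempty_twistProjSpace_tensor n K j l).some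
  let S₁ : (BrSev.bc f K).Modules ⥤ (BrSev.bc f K).Modules :=
    (DCoh.tensorBi (X := BrSev.bc f K)).flip.obj (BrSev.pow (e.twist l) s)
  haveI hF1 : PreservesColimitsOfSize.{u, u} S₁ :=
    Groth.Agent.ProjTwist.Pn.preservesColimits_tensorFlip _ _
  haveI : PreservesColimitsOfSize.{0, 0} S₁ := preservesColimitsOfSize_shrink.{0, u, 0, u} S₁
  let S₂ : (BrSev.bc f K).Modules ⥤ (BrSev.bc f K).Modules :=
    (DCoh.tensorBi (X := BrSev.bc f K)).flip.obj (e.twist j)
  haveI hF2 : PreservesColimitsOfSize.{u, u} S₂ :=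
    Groth.Agent.ProjTwist.Pn.preservesColimits_tensorFlip _ _
  haveI : PreservesColimitsOfSize.{0, 0} S₂ := preservesColimitsOfSize_shrink.{0, u, 0, u} S₂
  let T₁ : CohB1.tensorMod (BrSev.pow (e.twist j) r) (BrSev.pow (e.twist l) s) ≅
      ∐ fun _ : Fin r => CohB1.tensorMod (e.twist j) (BrSev.pow (e.twist l) s) :=
    PreservesCoproduct.iso S₁ fun _ : Fin r => e.twist j
  let T₂ : CohB1.tensorMod (e.twist j) (BrSev.pow (e.twist l) s) ≅ ∐ fun _ : Fin s => e.twist (j + l) :=
    Groth.Agent.ProjTwist.tensComm _ _ ≪≫ PreservesCoproduct.iso S₂ (fun _ : Fin s => e.twist l) ≪≫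
      Limits.Sigma.mapIso fun _ => Groth.Agent.ProjTwist.tensComm _ _ ≪≫ T
  refine ⟨Groth.Agent.KFlat.PullTensor.pullTensorIso (BrSev.proj f K) W W' ≪≫ Groth.Agent.ProjTwist.tensCongr a b ≪≫
    T₁ ≪≫ Limits.Sigma.mapIso (fun _ => T₂) ≪≫
    sigmaSigmaIso (fun _ : Fin r => Fin s) (fun _ _ => e.twist (j + l)) ≪≫
    Sigma.whiskerEquiv (g := fun _ : Fin (r * s) => e.twist (j + l))
      ((Equiv.sigmaEquivProd (Fin r) (Fin s)).trans finProdFinEquiv) (fun _ => Iso.refl (e.twist (j + l)))⟩

end Groth.Agent.S14204
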