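import Groth.Statements.S14205
import Groth.Agent.CSA.AntiSym


set_option autoImplicit false
universe u v
open scoped TensorProduct
open Brauer

namespace Groth.Agent.S14205

open Groth.Agent.CSA

/-- Let A be a finite-dimensional central simple algebra over a field k with period p: p is the least
positive integer for which the p-fold tensor power of A over k is a full matrix algebra over k. Then
for every r ≥ 1 the r-fold tensor power of A has period p / gcd(p, r) (the order of the r-th
multiple of an element of order p). -/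
theorem result (k : Type u) [Field k] (A : Type v) [Ring A] [Algebra k A]
    [Algebra.IsCentral k A] [IsSimpleRing A] [FiniteDimensional k A] (p : ℕ)
    (hp : CSAGal.IsPeriod k A p) (r : ℕ) (hr : 0 < r) :
    CSAGal.IsPeriod k (CSAGal.tpow k A r) (p / Nat.gcd p r) := by
  have hA : IsCSA k A := IsCSA.of k A
  have hp0 : 0 < p := hp.1
  have hg : 0 < Nat.gcd p r := Nat.gcd_pos_of_pos_left r hp0
  have hq : 0 < p / Nat.gcd p r := Nat.div_pos (Nat.le_of_dvd hp0 (Nat.gcd_dvd_left p r)) hg
  refine ⟨hq, (splits_self_iff_brEq ((hA.tpow r).tpow _)).2 ?_, fun m hm hlt hs => ?_⟩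
  · refine (brEq_tpow_mul r _).symm.trans ?_
    have : r * (p / Nat.gcd p r) = p * (r / Nat.gcd p r) := by
      rw [← Nat.mul_div_assoc r (Nat.gcd_dvd_left p r), ← Nat.mul_div_assoc p (Nat.gcd_dvd_right p r), Nat.mul_comm]
    rw [this]
    exact brEq_tpow_mul_of_brEq ((splits_self_iff_brEq (hA.tpow p)).1 hp.2.1) _
  · have h := period_dvd hA hp ((brEq_tpow_mul r m).trans ((splits_self_iff_brEq ((hA.tpow r).tpow m)).1 hs))
    have hdiv : p / Nat.gcd p r ∣ r / Nat.gcd p r * m := by
      refine (Nat.mul_dvd_mul_iff_right hg).1 ?_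
      rw [Nat.div_mul_cancel (Nat.gcd_dvd_left p r), Nat.mul_right_comm, Nat.div_mul_cancel (Nat.gcd_dvd_right p r)]
      exact h
    have := Nat.le_of_dvd hm ((Nat.coprime_div_gcd_div_gcd hg).dvd_of_dvd_mul_left hdiv)
    omega

end Groth.Agent.S14205
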