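import Groth.Statements.S14207
import Groth.Agent.SBTaut.Index

set_option autoImplicit false
universe u
open CategoryTheory CategoryTheory.Limits AlgebraicGeometry
open ASBun

namespace Groth.Agent.S14207

open Groth.Agent Groth.Agent.CSA in

/-- Let A be a central simple algebra of degree n ≥ 1 over a field k (of dimension n² over k), X a
proper k-scheme which is the Severi–Brauer scheme of A (for every commutative k-algebra R its
R-points over k are, naturally in R, the left ideals of R ⊗_k A with projective quotient of rank n²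
− n), K an algebraic closure of k and e a K-isomorphism X_K ≅ P^{n−1}_K, along which O_e(j) denotes
the pullback of the twisting sheaf O(j); suppose the degree n is a prime number and A is not split
(not isomorphic over k to a full matrix algebra over k). Let W be an indecomposable finite locally
free O_X-module (nonzero, and in any decomposition as a direct sum one summand is zero) with W_K ≅
O_e(j)^{⊕r}, r ≥ 1, for an integer j. Then r = n / gcd(n, |j|), that is r = 1 when n divides j and r
= n otherwise: all non-split Severi–Brauer varieties of dimension n − 1 with n prime have the same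
multiplicities, 1 for j divisible by n and n otherwise; for n = 2, on a non-split conic the
indecomposable module of type O(j) has rank 1 for j even and 2 for j odd. -/
theorem result (k : Type u) [Field k] (A : Type u) [Ring A] [Algebra k A]
    [Algebra.IsCentral k A] [IsSimpleRing A] (n : ℕ) (hn : 0 < n)
    (hA : Module.finrank k A = n * n) {X : Scheme.{u}} (f : X ⟶ Spec (CommRingCat.of k))
    [IsProper f] (hX : BrSev.IsSBOf k A (n * n - n) f)
    (K : Type u) [Field K] [Algebra k K] [IsAlgClosure k K] (e : BrSev.Splitting f K (n - 1))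
    (hq : n.Prime) (hns : ¬ Curves.Splits k A k)
    (W : X.Modules) (hW : FlatMod.IsFinLocFree W)
    (hWi : (¬ IsZero W ∧ ∀ M₁ M₂ : X.Modules, Nonempty (W ≅ M₁ ⊞ M₂) → IsZero M₁ ∨ IsZero M₂))
    (j : ℤ) (r : ℕ) (hr : 0 < r) (hWt : BrSev.IsTwPow e j r W) :
    r = n / Nat.gcd n j.natAbs := by
  have hA' := SBTaut.isCSA_of_finrank hn hA
  have hdeg : deg k A = n := by rw [deg, hA, Nat.sqrt_eq]
  have hind : ind k A = n := by
    rcases (Nat.dvd_prime hq).1 (hdeg ▸ ind_dvd_deg hA') with h | h
    · exact absurd ((splits_self_iff_brEq hA').2 ((ind_eq_one_iff hA').1 h)) hns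
    · exact h
  have hn' : BrEq k (CSAGal.tpow k A n) k := hind ▸ brEq_tpow_ind hA'
  rw [SBTaut.eq_ind hn hA hX e hW ⟨hWi.1, hWi.2⟩ hr hWt]
  rcases Nat.coprime_or_dvd_of_prime hq j.natAbs with h | h
  · rw [Nat.Coprime.gcd_eq_one h, Nat.div_one]
    refine Nat.dvd_antisymm (hind ▸ SBTaut.ind_tpow_dvd hA' _) ?_
    rw [← hind, ← brEq_tpow_one.ind_eq (hA'.tpow 1) hA']
    have hb := Nat.gcd_eq_gcd_ab n j.natAbs
    rw [Nat.Coprime.gcd_eq_one h] at hb
    exact SBTaut.ind_tpow_dvd_of_dvd_sub hA' hn hn' _ 1 (Nat.gcdB n j.natAbs)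
      ⟨Nat.gcdA n j.natAbs, by push_cast at hb ⊢; linarith⟩
  · obtain ⟨q, hq'⟩ := h
    rw [(ind_eq_one_iff (hA'.tpow _)).2 (hq' ▸ brEq_tpow_mul_of_brEq hn' q),
      Nat.gcd_eq_left ⟨q, hq'⟩, Nat.div_self hn]

end Groth.Agent.S14207
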