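import Groth.Statements.S14211
import Groth.Agent.CSA.Quaternion


set_option autoImplicit false
universe u v
open scoped TensorProduct
open Brauer

namespace Groth.Agent.S14211

open Groth.Agent.CSA

/-- Let k be a field in which 2 ≠ 0 and A a finite-dimensional central simple k-algebra. Then A has
period 2 and index 2 (its Severi–Brauer variety has type (2, 2, 2m)) if and only if A is isomorphic
over k to a matrix algebra M_m(Q), m ≥ 1, over a quaternion algebra Q = (a, b)_k (the k-algebra with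
basis 1, i, j, ij, i² = a, j² = b, ij = −ji) which is a division ring; moreover such a quaternion
algebra is unique up to k-isomorphism. -/
theorem result (k : Type u) [Field k] (h2 : (2 : k) ≠ 0)
    (A : Type v) [Ring A] [Algebra k A] [Algebra.IsCentral k A] [IsSimpleRing A]
    [FiniteDimensional k A] :
    ((CSAGal.IsPeriod k A 2 ∧ CSAGal.IsIndex k A 2) ↔
      ∃ (a b : k) (m : ℕ), 0 < m ∧ (∀ x : QuaternionAlgebra k a 0 b, x ≠ 0 → IsUnit x) ∧
        Nonempty (A ≃ₐ[k] Matrix (Fin m) (Fin m) (QuaternionAlgebra k a 0 b))) ∧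
    (∀ (a b a' b' : k) (m m' : ℕ),
      (∀ x : QuaternionAlgebra k a 0 b, x ≠ 0 → IsUnit x) →
      (∀ x : QuaternionAlgebra k a' 0 b', x ≠ 0 → IsUnit x) →
      Nonempty (A ≃ₐ[k] Matrix (Fin m) (Fin m) (QuaternionAlgebra k a 0 b)) →
      Nonempty (A ≃ₐ[k] Matrix (Fin m') (Fin m') (QuaternionAlgebra k a' 0 b')) →
      Nonempty (QuaternionAlgebra k a 0 b ≃ₐ[k] QuaternionAlgebra k a' 0 b')) := by
  have hA : IsCSA k A := IsCSA.of k A
  refine ⟨⟨?_, ?_⟩, ?_⟩
  · rintro ⟨-, -, m, D, _, _, hm, hd, ⟨e⟩⟩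
    have : NeZero m := ⟨hm.ne'⟩
    have hfd : FiniteDimensional k D := Module.finite_of_finrank_pos (by rw [hd]; norm_num)
    have := ((IsCSA.of k A).of_algEquiv e).central
    have hc : Algebra.IsCentral k D := isCentral_of_matrix (ι := Fin m)
    obtain ⟨a, b, ⟨φ⟩⟩ := exists_quaternion_of_finrank_four h2 D hd
    exact ⟨a, b, m, hm, fun x hx => by
      have h0 : φ.symm x ≠ 0 := fun h => hx (φ.symm.injective (by rw [h, map_zero]))
      simpa using (isUnit_iff_ne_zero.2 h0).map φ, ⟨e.trans φ.mapMatrix⟩⟩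
  · rintro ⟨a, b, m, hm, hu, ⟨e⟩⟩
    obtain ⟨q1, q2, q3⟩ := isCSA_quaternion h2 a b hu
    letI := DivisionRing.ofIsUnitOrEqZero fun x : QuaternionAlgebra k a 0 b =>
      (em (x = 0)).symm.imp (hu x) id
    have hd : Module.finrank k (QuaternionAlgebra k a 0 b) = 2 ^ 2 := by
      rw [QuaternionAlgebra.finrank_eq_four]; norm_num
    have : NeZero m := ⟨hm.ne'⟩
    have hind : ind k A = 2 := (ind_eq_deg k A m _ e hA).trans (deg_eq_of_finrank k _ hd)
    refine ⟨⟨two_pos, (splits_self_iff_brEq (hA.tpow 2)).2 (hind ▸ brEq_tpow_ind hA), fun e' he' hlt hs => ?_⟩,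
      (isIndex_iff hA 2).2 hind.symm⟩
    obtain rfl : e' = 1 := by omega
    have := (ind_eq_one_iff hA).2 (brEq_tpow_one.symm.trans ((splits_self_iff_brEq (hA.tpow 1)).1 hs))
    omega
  · intro a b a' b' m m' hu hu' ⟨e⟩ ⟨e'⟩
    obtain ⟨q1, q2, q3⟩ := isCSA_quaternion h2 a b hu
    letI := DivisionRing.ofIsUnitOrEqZero fun x : QuaternionAlgebra k a 0 b =>
      (em (x = 0)).symm.imp (hu x) id
    letI := DivisionRing.ofIsUnitOrEqZero fun x : QuaternionAlgebra k a' 0 b' =>
      (em (x = 0)).symm.imp (hu' x) id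
    have : NeZero m := ⟨fun h => by subst h; exact not_subsingleton A e.toEquiv.subsingleton⟩
    have : NeZero m' := ⟨fun h => by subst h; exact not_subsingleton A e'.toEquiv.subsingleton⟩
    exact nonempty_algEquiv_of_matrix (e.symm.trans e')

end Groth.Agent.S14211
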