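import Groth.Statements.S14213
import Groth.Agent.SBTaut.Horrocks

set_option autoImplicit false
universe u
open CategoryTheory CategoryTheory.Limits AlgebraicGeometry
open ASBun

namespace Groth.Agent.S14213

open Groth.Agent in

/-- Let A be a central simple algebra of degree n ≥ 1 over a field k (of dimension n² over k), X a
proper k-scheme which is the Severi–Brauer scheme of A (for every commutative k-algebra R its
R-points over k are, naturally in R, the left ideals of R ⊗_k A with projective quotient of rank n²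
− n), K an algebraic closure of k and e a K-isomorphism X_K ≅ P^{n−1}_K, along which O_e(j) denotes
the pullback of the twisting sheaf O(j); let p be the period of A (the least p ≥ 1 for which the
p-fold tensor power of A is a full matrix algebra over k) and E a finite locally free O_X-module.
Then E is absolutely split (E_K is isomorphic to a finite direct sum of invertible O_{X_K}-modules)
if and only if the cohomology groups H^i(X, E ⊗ L ⊗ W) vanish for all 0 < i < n − 1 = dim X, all
integers a, all invertible O_X-modules L with L_K ≅ O_e(ap), all integers 0 ≤ j < p and all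
indecomposable finite locally free O_X-modules W (nonzero, and in any decomposition as a direct sum
one summand is zero) with W_K ≅ O_e(j)^{⊕r} for some r ≥ 1. -/
theorem result (k : Type u) [Field k] (A : Type u) [Ring A] [Algebra k A]
    [Algebra.IsCentral k A] [IsSimpleRing A] (n : ℕ) (hn : 0 < n)
    (hA : Module.finrank k A = n * n) {X : Scheme.{u}} (f : X ⟶ Spec (CommRingCat.of k))
    [IsProper f] (hX : BrSev.IsSBOf k A (n * n - n) f)
    (K : Type u) [Field K] [Algebra k K] [IsAlgClosure k K] (e : BrSev.Splitting f K (n - 1))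
    (p : ℕ) (hp : CSAGal.IsPeriod k A p) (E : X.Modules) (hE : FlatMod.IsFinLocFree E) :
    (∃ (s : ℕ) (Ls : Fin s → (BrSev.bc f K).Modules), (∀ i, PicF.IsInvertible (Ls i)) ∧
        Nonempty (BrSev.bcMod f K E ≅ ∐ Ls)) ↔
      (∀ (i : ℕ), 0 < i → i + 1 < n → ∀ (a : ℤ) (L : X.Modules), PicF.IsInvertible L →
        BrSev.IsTwPow e (a * (p : ℤ)) 1 L → ∀ (j : ℤ), 0 ≤ j → j < (p : ℤ) →
        ∀ (W : X.Modules), FlatMod.IsFinLocFree W →
        (¬ IsZero W ∧ ∀ M₁ M₂ : X.Modules, Nonempty (W ≅ M₁ ⊞ M₂) → IsZero M₁ ∨ IsZero M₂) →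
        ∀ (r : ℕ), 0 < r → BrSev.IsTwPow e j r W →
        Subsingleton (Coh.HH X (CohB1.tensorMod (CohB1.tensorMod E L) W) i)) := by
  haveI : IsAlgClosed K := IsAlgClosure.isAlgClosed k
  haveI := KSMod.isLocallyNoetherian f
  have hP := SerrePn.isLocallyNoetherian (n := n - 1) (R := K)
  haveI : Algebra.IsAlgebraic k K := IsAlgClosure.isAlgebraic
  set F := (Scheme.Modules.pullback (SBTaut.fromPn e)).obj E with hFdef
  have hF : FlatMod.IsFinLocFree F := KFlat.LocFree.isFinLocFree_pull _ hE
  have hFc : Coh.IsCoh F := VBLib.isCoh_of_isFinLocFree hF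
  constructor
  · rintro ⟨s, Ls, hLs, ⟨φ⟩⟩ i hi hin a L hL hLt j hj hjp W hW hWi r hr hWt
    rw [SBTaut.subsingleton_HH_tens_iff e hE hL hW hr hLt hWt i]
    choose c hc using fun t => KSMod.exists_iso_eTwist e (hLs t)
    obtain ⟨ψ⟩ := SBTaut.nonempty_fromPn_iso e E c (φ ≪≫ Sigma.mapIso fun t => (hc t).some)
    exact (DualAbs.midVanish_of_split (by omega) c ψ).mid _ i hi (by omega)
  · intro h
    obtain ⟨y⟩ : Nonempty (CohB1.ProjSpace (n - 1) K) := by
      have := S18573.irreducibleSpace_projSpace (n - 1) K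
      infer_instance
    obtain ⟨s, a, ⟨ψ⟩⟩ : ∃ (s : ℕ) (a : Fin s → ℤ),
        Nonempty (F ≅ ∐ fun c => Twist.twistProjSpace (n - 1) K (a c)) := by
      rcases Nat.eq_zero_or_pos (n - 1) with hn1 | hn1
      · obtain ⟨U, r, hy, φ⟩ := hF y
        have hsub : Subsingleton (CohB1.ProjSpace (n - 1) K) := by
          rw [hn1]; exact DualAbs.subsingleton_projSpace_zero K
        have hr : FlatMod.IsFinLocFreeOfRank r F := fun x => ⟨U, (hsub.elim y x) ▸ hy, φ⟩
        revert F
        generalize n - 1 = N at *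
        subst hn1
        intro F _ _ _ _ hr
        exact ⟨r, fun _ => 0, DualAbs.nonempty_split_zero hr⟩
      · refine ⟨_, DualAbs.exists_split hn1 y _ F hFc ⟨?_, fun d i h1 h2 => ?_⟩ rfl⟩
        · obtain ⟨m₀, hm₀⟩ := DualAbs.negVanish_of_isFinLocFree hFc hF
          refine ⟨-m₀, fun d hd => ?_⟩
          have := hm₀ (-d) (by omega) 0 (by omega)
          rwa [neg_neg] at this
        · have hp0 : 0 < (p : ℤ) := by exact_mod_cast hp.1
          have hj0 := Int.emod_nonneg d (by omega : (p : ℤ) ≠ 0)
          have hjp := Int.emod_lt_of_pos d hp0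
          obtain ⟨L, hL, hLt⟩ := (SBTaut.exists_invertible_iff hn hA hX hp e (d / (p : ℤ) * (p : ℤ))).2
            (dvd_mul_left _ _)
          obtain ⟨W, r, hW, hWi, hr, hWt⟩ := SBTaut.exists_indec_type hn hA hX hp e _ hj0 hjp
          have := (SBTaut.subsingleton_HH_tens_iff e hE hL hW hr hLt hWt i).1
            (h i (by omega) (by omega) (d / (p : ℤ)) L hL hLt _ hj0 hjp W hW hWi r hr hWt)
          rwa [show d / (p : ℤ) * (p : ℤ) + d % (p : ℤ) = d from Int.ediv_mul_add_emod d p] at this
    obtain ⟨φ⟩ := SBTaut.nonempty_bcMod_iso e E a ψ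
    exact ⟨s, fun c => e.twist (a c), fun c =>
      PicLoc.isInvertible_pullback e.iso.hom (ProjTwist.isInvertible_twistProjSpace _ K _), ⟨φ⟩⟩

end Groth.Agent.S14213
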