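import Groth.Statements.S14214
import Groth.Agent.SBTaut.AmitsurBirat
import Groth.Agent.SBTaut.IndexReduction

set_option autoImplicit false
universe u
open CategoryTheory CategoryTheory.Limits AlgebraicGeometry
open ASBun

namespace Groth.Agent.S14214

open Groth.Agent in

/-- Let A and B be central simple algebras of degrees n, n' ≥ 1 over a field k, and X, Y proper
k-schemes which are the Severi–Brauer schemes of A and of B (R-points = left ideals of R ⊗_k A,
resp. R ⊗_k B, with projective quotient of rank n² − n, resp. n'² − n', naturally in R). Suppose X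
and Y are birational over k: there are nonempty open subschemes U ⊆ X and V ⊆ Y and an isomorphism U
≅ V compatible with the structure morphisms to Spec k. Let K be an algebraic closure of k with
K-isomorphisms e : X_K ≅ P^{n−1}_K and e' : Y_K ≅ P^{n'−1}_K, and j an integer. If W on X and W' on
Y are indecomposable finite locally free modules (nonzero, and in any decomposition as a direct sum
one summand is zero) with W_K ≅ O_e(j)^{⊕r} and W'_K ≅ O_{e'}(j)^{⊕r'}, r, r' ≥ 1, then r = r'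
(birational Severi–Brauer varieties have, for every integer j, indecomposable modules of type O(j)
of the same multiplicity). -/
theorem result (k : Type u) [Field k]
    (A : Type u) [Ring A] [Algebra k A] [Algebra.IsCentral k A] [IsSimpleRing A]
    (B : Type u) [Ring B] [Algebra k B] [Algebra.IsCentral k B] [IsSimpleRing B]
    (n n' : ℕ) (hn : 0 < n) (hn' : 0 < n')
    (hA : Module.finrank k A = n * n) (hB : Module.finrank k B = n' * n')
    {X Y : Scheme.{u}} (f : X ⟶ Spec (CommRingCat.of k)) (g : Y ⟶ Spec (CommRingCat.of k))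
    [IsProper f] [IsProper g]
    (hX : BrSev.IsSBOf k A (n * n - n) f) (hY : BrSev.IsSBOf k B (n' * n' - n') g)
    (U : X.Opens) (V : Y.Opens) (hU : Nonempty ↥U) (hV : Nonempty ↥V)
    (φ : (U : Scheme.{u}) ≅ (V : Scheme.{u})) (hφ : φ.hom ≫ V.ι ≫ g = U.ι ≫ f)
    (K : Type u) [Field K] [Algebra k K] [IsAlgClosure k K]
    (e : BrSev.Splitting f K (n - 1)) (e' : BrSev.Splitting g K (n' - 1)) (j : ℤ)
    (W : X.Modules) (W' : Y.Modules) (hW : FlatMod.IsFinLocFree W) (hW' : FlatMod.IsFinLocFree W')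
    (hWi : (¬ IsZero W ∧ ∀ M₁ M₂ : X.Modules, Nonempty (W ≅ M₁ ⊞ M₂) → IsZero M₁ ∨ IsZero M₂))
    (hW'i : (¬ IsZero W' ∧ ∀ M₁ M₂ : Y.Modules, Nonempty (W' ≅ M₁ ⊞ M₂) → IsZero M₁ ∨ IsZero M₂))
    (r r' : ℕ) (hr : 0 < r) (hr' : 0 < r')
    (hWt : BrSev.IsTwPow e j r W) (hW't : BrSev.IsTwPow e' j r' W') : r = r' := by
  haveI : FiniteDimensional k A := Module.finite_of_finrank_pos (by rw [hA]; exact Nat.mul_pos hn hn)
  haveI : FiniteDimensional k B := Module.finite_of_finrank_pos (by rw [hB]; exact Nat.mul_pos hn' hn')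
  haveI := SBTaut.geometricallyIntegral_of_isSBOf hn hA hX
  haveI := SBTaut.geometricallyIntegral_of_isSBOf hn' hB hY
  haveI : Subsingleton ↥(Spec (CommRingCat.of k)) := inferInstanceAs (Subsingleton (PrimeSpectrum k))
  haveI : IsIntegral X := GeometricallyIntegral.isIntegral_of_subsingleton f
  haveI : IsIntegral Y := GeometricallyIntegral.isIntegral_of_subsingleton g
  obtain ⟨u⟩ := hU
  obtain ⟨v⟩ := hV
  haveI : IsDominant U.ι := ⟨U.ι.opensRange.2.dense ⟨_, u, rfl⟩⟩
  let ψ := φ.hom ≫ V.ι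
  haveI : IsDominant ψ := ⟨ψ.opensRange.2.dense ⟨_, u, rfl⟩⟩
  have hb : Scheme.BirationalOver f g :=
    (Scheme.Hom.birationalOver U.ι f (U.ι ≫ f) rfl).symm.trans
      (Scheme.Hom.birationalOver ψ g (U.ι ≫ f) ((Category.assoc _ _ _).trans hφ))
  obtain ⟨a, ha⟩ := SBTaut.exists_brEq_tpow_of_birational hn hn' hA hB hX hY hb
  obtain ⟨b, hb'⟩ := SBTaut.exists_brEq_tpow_of_birational hn' hn hB hA hY hX hb.symm
  have key : ∀ {C D : Type u} [Ring C] [Algebra k C] [Ring D] [Algebra k D], CSA.IsCSA k C →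
      CSA.IsCSA k D → ∀ i l : ℕ, CSA.BrEq k D (CSAGal.tpow k C i) →
      CSA.ind k (CSAGal.tpow k D l) ∣ CSA.ind k (CSAGal.tpow k C l) := by
    intro C D _ _ _ _ hC hD i l h
    have h' : CSA.BrEq k (CSAGal.tpow k D l) (CSAGal.tpow k (CSAGal.tpow k C l) i) :=
      ((h.tpow l).trans (CSA.brEq_tpow_mul i l).symm).trans
        ((Nat.mul_comm l i) ▸ CSA.brEq_tpow_mul (A := C) l i)
    rw [h'.ind_eq (hD.tpow l) ((hC.tpow l).tpow i)]
    exact CSA.ind_tpow_dvd (hC.tpow l) i
  rw [SBTaut.eq_ind hn hA hX e hW ⟨hWi.1, hWi.2⟩ hr hWt,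
    SBTaut.eq_ind hn' hB hY e' hW' ⟨hW'i.1, hW'i.2⟩ hr' hW't]
  exact Nat.dvd_antisymm (key (CSA.IsCSA.of k B) (CSA.IsCSA.of k A) b _ hb')
    (key (CSA.IsCSA.of k A) (CSA.IsCSA.of k B) a _ ha)

end Groth.Agent.S14214
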