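import Groth.Statements.S14230
import Groth.Agent.RootCh.Special

set_option autoImplicit false
universe u v w x
open RootCh RootCh.Facet

namespace Groth.Agent.S14230

open Groth.Agent.RootChLib

/-- For a finite reduced crystallographic root system over a linearly ordered field and a facet F, the
vectors of F are exactly the linear combinations of the corners of F in which every corner of F
occurs with a strictly positive coefficient (written with a finitely supported coefficient function
supported inside the set of corners). -/
theorem result {ι : Type u} {R : Type v} {M : Type w} {N : Type x}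
    [Field R] [LinearOrder R] [IsStrictOrderedRing R]
    [AddCommGroup M] [Module R M] [AddCommGroup N] [Module R N] [Finite ι]
    (P : RootPairing ι R M N) [P.IsRootSystem] [P.IsCrystallographic] [P.IsReduced] (F : RootCh.Facet P) :
    F.carrier = {ξ : M | ∃ c : M →₀ R, (c.support : Set M) ⊆ F.corners ∧
      (∀ m ∈ F.corners, 0 < c m) ∧ c.sum (fun m r => r • m) = ξ} := by
  classical
  obtain ⟨b, hb⟩ := exists_cham F
  ext ξ
  constructor
  · intro hξ
    refine ⟨∑ k ∈ posIdx F b, Finsupp.single (fundWeight b k) (P.coroot' k ξ), ?_, ?_, ?_⟩
    · intro m hm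
      obtain ⟨k, hk, hk'⟩ := Finset.mem_biUnion.mp (Finsupp.support_finset_sum hm)
      rw [Finset.mem_singleton.mp (Finsupp.support_single_subset hk')]
      exact (fundWeight_mem_corners_iff F hb k).mpr hk
    · intro m hm
      obtain ⟨k, hk, rfl⟩ := (corners_eq F hb) ▸ hm
      rw [Finsupp.finset_sum_apply, Finset.sum_eq_single_of_mem k hk, Finsupp.single_eq_same]
      · exact coroot'_pos_of_mem_carrier F hξ hk
      · intro l _ hl
        rw [Finsupp.single_eq_of_ne]
        exact fun e => hl (fw_injective b e.symm)
    · rw [← Finsupp.sum_finsetSum_index (h := fun (m : M) (r : R) => r • m)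
        (fun _ => zero_smul _ _) (fun _ _ _ => add_smul _ _ _)]
      simp only [zero_smul, Finsupp.sum_single_index]
      exact (eq_sum_posIdx F hb hξ).symm
  · rintro ⟨c, hc, hpos, rfl⟩
    rw [mem_carrier_iff_simple F hb]
    intro k
    have hval : P.coroot' k (c.sum fun m r => r • m) =
        ∑ m ∈ c.support, c m * P.coroot' k m := by
      simp [Finsupp.sum, map_sum]
    have hrw : P.coroot' k (c.sum fun m r => r • m) =
        ∑ m ∈ c.support, (if m = fundWeight b k then c m else 0) := by
      rw [hval]
      refine Finset.sum_congr rfl fun m hm => ?_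
      obtain ⟨l, hl, rfl⟩ := (corners_eq F hb) ▸ hc hm
      rw [coroot'_fw]
      by_cases h : k = l
      · subst h; simp
      · rw [if_neg h, if_neg (fun e => h (fw_injective b e.symm)), mul_zero]
    rw [hrw, Finset.sum_ite_eq']
    refine ⟨fun hk => ?_, fun hk => ?_⟩
    · have h1 := hpos _ ((fundWeight_mem_corners_iff F hb k).mpr hk)
      rw [if_pos (Finsupp.mem_support_iff.mpr h1.ne')]
      exact h1
    · rw [if_neg]
      exact fun h => hk ((fundWeight_mem_corners_iff F hb k).mp (hc h))

end Groth.Agent.S14230
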