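import Groth.Statements.S14231
import Groth.Agent.RootCh.Special

set_option autoImplicit false
universe u v w x
open RootCh RootCh.Facet

namespace Groth.Agent.S14231

open Groth.Agent.RootChLib

/-- For a finite reduced crystallographic root system over a linearly ordered field and a facet F with
dual facet F̌ (the facet of the dual root system with the same sign vector), the corners of F̌ are
exactly the fundamental coweights corresponding to the corners of F, where a fundamental weight and
a fundamental coweight correspond when they are attached to the same simple root of the same base. -/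
theorem result {ι : Type u} {R : Type v} {M : Type w} {N : Type x}
    [Field R] [LinearOrder R] [IsStrictOrderedRing R]
    [AddCommGroup M] [Module R M] [AddCommGroup N] [Module R N] [Finite ι]
    (P : RootPairing ι R M N) [P.IsRootSystem] [P.IsCrystallographic] [P.IsReduced] (F : RootCh.Facet P) :
    F.dualCorners = {y : N | ∃ m ∈ F.corners, RootCh.Corr P m y} := by
  ext y
  constructor
  · intro hy
    obtain ⟨b', i, hi⟩ := hy.1
    let b : P.Base := RootPairing.Base.flip (P := P.flip) b'
    let j : b.support := ⟨i.1, i.2⟩
    have he : RootCh.fundCoweight b j = y := hi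
    subst he
    refine ⟨RootCh.fundWeight b j, ⟨⟨b, j, rfl⟩, fun k => ?_⟩, b, j, rfl, rfl⟩
    have h := hy.2 k
    rw [sgnVec_fundWeight]
    exact h
  · rintro ⟨m, hm, hcorr⟩
    refine ⟨?_, fun i => ?_⟩
    · obtain ⟨b, k, -, rfl⟩ := hcorr
      exact ⟨b.flip, k, rfl⟩
    · change SignType.sign (P.root' i y) = 0 ∨ SignType.sign (P.root' i y) = F.sgn i
      rw [corr_sign hcorr]
      exact hm.2 i

end Groth.Agent.S14231
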