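import Groth.Statements.S1425
import Groth.Agent.Wt.Local
-- import your own Groth.Agent.* helpers here

set_option autoImplicit false
universe u
open FlatMor

namespace Groth.Agent.S1425

open AlgebraicGeometry CategoryTheory Limits in
/-- A weighting of a locally quasi-finite morphism taking positive values is upper semicontinuous on X. -/
theorem result {X Y : Scheme.{u}} (f : X ⟶ Y) [LocallyQuasiFinite f] [LocallyOfFiniteType f] (w : ↑X → ℤ) (hw : MoreMor.IsWeighting f w) (hpos : ∀ x, 0 < w x) :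
    UpperSemicontinuous w := by
  intro x k hk
  obtain ⟨V, g, u, hg, hu, J, W, -, hJW, hmem, hev⟩ :=
    Wt.Local.exists_single f hw (f x) {x} (Set.finite_singleton x) (by simp)
  obtain ⟨z, hz₁, hz₂⟩ :=
    Scheme.Pullback.exists_preimage_pullback (f := f) (g := g) x u hu.symm
  have hzJ : z ∈ J := hmem z hz₂ (by simp [hz₁])
  obtain ⟨N, hN, hNo, huN⟩ := mem_nhds_iff.mp hev
  let O : Set ↥(pullback f g) := (W z : Set _) ∩ pullback.snd f g ⁻¹' N
  have hO : IsOpen O := (W z).2.inter (hNo.preimage (pullback.snd f g).continuous)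
  have hx : x ∈ pullback.fst f g '' O :=
    ⟨z, ⟨(hJW z hzJ).1.mem, show pullback.snd f g z ∈ N from hz₂ ▸ huN⟩, hz₁⟩
  filter_upwards [((pullback.fst f g).isOpenMap O hO).mem_nhds hx] with x' hx'
  obtain ⟨p, ⟨hpW, hpN⟩, rfl⟩ := hx'
  obtain ⟨y, hy⟩ := Wt.GeomPts.exists_geomPt (pullback.snd f g p)
  obtain ⟨c, hc⟩ := Wt.GeomPts.surjective_pt (pullback.snd f g) y ⟨p, hy.symm⟩
  have hc' : Wt.GeomPts.pt c.1 = p := congrArg Subtype.val hc
  have := Wt.Local.le_geomSum (pullback.snd f g) (fun q => w (pullback.fst f g q)) y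
    (Wt.Master.finite_geomFib_open _ _ (hJW z hzJ).1.finite y) (fun q => hpos _) c
    (show Wt.GeomPts.pt c.1 ∈ W z from hc'.symm ▸ hpW)
  rw [hN hpN z hzJ _ y hy, hc', hz₁] at this
  exact lt_of_le_of_lt this hk

end Groth.Agent.S1425
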