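import Groth.Statements.S14252
import Groth.Agent.PerfTor.Perfect
import Groth.Agent.HTor95.Colim
import Groth.Agent.LocCoh.TorLES
import Mathlib.Algebra.Category.ModuleCat.FilteredColimits

set_option autoImplicit false
universe u
open CategoryTheory
open FrobAlg

namespace Groth.Agent.S14252

section aux

open MonoidalCategory LocCoh.Tor Limits

variable {p : ℕ} [hp : Fact p.Prime] {A : Type u} [CommRing A] {N : ModuleCat.{u} A}

/-- All higher `Tor` against `N` vanish. -/
def Acyc (N M : ModuleCat.{u} A) : Prop := ∀ n : ℕ, IsZero (T (n + 1) M N)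

lemma acyc_of_flat (M : ModuleCat.{u} A) [Module.Flat A M] : Acyc N M := fun n => by
  have : Subsingleton (T (n + 1) M N) :=
    ⟨fun x y => (tor_succ_eq_zero_of_flat M n N x).trans (tor_succ_eq_zero_of_flat M n N y).symm⟩
  exact ModuleCat.isZero_of_subsingleton _

lemma acyc_of_iso {M M' : ModuleCat.{u} A} (e : M ≅ M') (h : Acyc N M) : Acyc N M' := fun n =>
  (h n).of_iso (((CategoryTheory.Tor (ModuleCat.{u} A) (n + 1)).mapIso e).app N).symm

lemma acyc_X₃ {S : ShortComplex (ModuleCat.{u} A)} (hS : S.ShortExact) (h1 : Acyc N S.X₁)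
    (h2 : Acyc N S.X₂) (hinj : Function.Injective (tf S.f 0 N).hom) : Acyc N S.X₃ := by
  intro n
  have := ModuleCat.subsingleton_of_isZero (h2 n)
  suffices ∀ x : T (n + 1) S.X₃ N, x = 0 by
    have : Subsingleton (T (n + 1) S.X₃ N) := ⟨fun x y => (this x).trans (this y).symm⟩
    exact ModuleCat.isZero_of_subsingleton _
  intro x
  have hδ : (torδ hS n N).hom x = 0 := by
    cases n with
    | zero =>
      apply hinj
      rw [map_zero]
      exact (tor_exact₁ hS 0 N).apply_apply_eq_zero x
    | succ m =>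
      have := ModuleCat.subsingleton_of_isZero (h1 m)
      exact Subsingleton.elim _ _
  obtain ⟨y, rfl⟩ := (tor_exact₃ hS n N x).mp hδ
  rw [Subsingleton.elim y 0, map_zero]

variable {J : Type u} [SmallCategory J] [IsFiltered J]

lemma preservesColimits_torFlip (n : ℕ) (N : ModuleCat.{u} A) :
    PreservesColimitsOfShape J ((CategoryTheory.Tor (ModuleCat.{u} A) n).flip.obj N) := by
  have := HTor95.Colim.preservesColimitsOfShape_tensorH J
    (projectiveResolution N).cochainComplex (-(n : ℤ))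
  exact preservesColimitsOfShape_of_natIso (HTor95.Tor.flipIso (projectiveResolution N) n).symm

lemma acyc_colim {F : J ⥤ ModuleCat.{u} A} {c : Cocone F} (hc : IsColimit c)
    (h : ∀ j, Acyc N (F.obj j)) : Acyc N c.pt := by
  intro n
  have := preservesColimits_torFlip (J := J) (n + 1) N
  have hc' := isColimitOfPreserves ((CategoryTheory.Tor (ModuleCat.{u} A) (n + 1)).flip.obj N) hc
  exact (IsZero.iff_id_eq_zero _).mpr (hc'.hom_ext fun j => (h j n).eq_of_src _ _)

omit [IsFiltered J] in
lemma shortExact_of_exact {M₁ M₂ M₃ : ModuleCat.{u} A} (f : M₁ ⟶ M₂) (g : M₂ ⟶ M₃)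
    (hf : Function.Injective f.hom) (hg : Function.Surjective g.hom)
    (hfg : Function.Exact f.hom g.hom) :
    ∃ w : f ≫ g = 0, (ShortComplex.mk f g w).ShortExact := by
  refine ⟨ModuleCat.hom_ext hfg.linearMap_comp_eq_zero, ?_⟩
  exact
    { exact := (ShortComplex.ShortExact.moduleCat_exact_iff_function_exact _).mpr hfg
      mono_f := (ModuleCat.mono_iff_injective _).mpr hf
      epi_g := (ModuleCat.epi_iff_surjective _).mpr hg }

section step

variable {Q : Type u} [CommRing Q] [Algebra A Q]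

/-- Transition scalars. -/
def tr (r : ℕ → Q) (p : ℕ) (n m : ℕ) : Q := r m ^ (p ^ (m - n) - 1)

lemma tr_self (r : ℕ → Q) (n : ℕ) : tr r p n n = 1 := by simp [tr]

lemma tr_trans {r : ℕ → Q} (hr : ∀ n, r (n + 1) ^ p = r n) {n m l : ℕ} (h1 : n ≤ m) (h2 : m ≤ l) :
    tr r p m l * tr r p n m = tr r p n l := by
  obtain ⟨a, rfl⟩ := Nat.exists_eq_add_of_le h1
  obtain ⟨b, rfl⟩ := Nat.exists_eq_add_of_le h2
  simp only [tr, Nat.add_sub_cancel_left, show n + a + b - n = a + b by omega]
  conv_lhs => rw [← PerfTor.pow_roots hr (n + a) b, ← pow_mul, ← pow_add]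
  congr 1
  have ha : 1 ≤ p ^ a := Nat.one_le_pow _ _ hp.out.pos
  have hb : 1 ≤ p ^ b := Nat.one_le_pow _ _ hp.out.pos
  rw [Nat.mul_sub, mul_one, ← pow_add, add_comm b a]
  have : p ^ b ≤ p ^ (a + b) := Nat.pow_le_pow_right hp.out.pos (by omega)
  omega

lemma mul_tr {r : ℕ → Q} (hr : ∀ n, r (n + 1) ^ p = r n) {n m : ℕ} (h : n ≤ m) :
    r m * tr r p n m = r n := by
  obtain ⟨a, rfl⟩ := Nat.exists_eq_add_of_le h
  rw [tr, Nat.add_sub_cancel_left, ← pow_succ',
    Nat.sub_add_cancel (Nat.one_le_pow _ _ hp.out.pos), PerfTor.pow_roots hr]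

/-- The system `Q → Q → ⋯` with the transition maps given by the scalars. -/
noncomputable def sys {r : ℕ → Q} (hr : ∀ n, r (n + 1) ^ p = r n) :
    ULift.{u} ℕ ⥤ ModuleCat.{u} A where
  obj _ := ModuleCat.of A Q
  map {i j} _ := ModuleCat.ofHom (LinearMap.mulLeft A (tr r p i.down j.down))
  map_id i := by
    ext q
    simp [tr_self]
  map_comp {i j k} f g := by
    refine ModuleCat.hom_ext (LinearMap.ext fun (q : Q) => ?_)
    have hij : i ≤ j := leOfHom f
    have hjk : j ≤ k := leOfHom g
    show tr r p i.down k.down * q = tr r p j.down k.down * (tr r p i.down j.down * q)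
    rw [← mul_assoc, tr_trans hr (n := i.down) (m := j.down) hij hjk]

/-- The multiplication cocone. -/
noncomputable def mulCocone {r : ℕ → Q} (hr : ∀ n, r (n + 1) ^ p = r n) :
    Cocone (sys (A := A) hr) where
  pt := ModuleCat.of A Q
  ι :=
    { app := fun i => ModuleCat.ofHom (LinearMap.mulLeft A (r i.down))
      naturality := fun i j f => by
        refine ModuleCat.hom_ext (LinearMap.ext fun (q : Q) => ?_)
        have hij : i ≤ j := leOfHom f
        show r j.down * (tr r p i.down j.down * q) = r i.down * q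
        rw [← mul_assoc, mul_tr hr (n := i.down) (m := j.down) hij] }

omit [IsFiltered J] in
lemma kill {R : Type*} [CommRing R] (hR : PerfTor.Perf p R) {b : R} {x : R} (h : b ^ p * x = 0) :
    b ^ (p - 1) * x = 0 := by
  obtain ⟨z, rfl⟩ := hR.2.2 x
  have hb : b * z = 0 := hR.eq_zero_of_pow_eq_zero (k := p) (by rw [mul_pow]; exact h)
  have h1 := hp.out.pos
  show b ^ (p - 1) * z ^ p = 0
  rw [show z ^ p = z ^ (p - 1) * z by rw [← pow_succ, Nat.sub_add_cancel h1], ← mul_assoc,
    ← mul_pow]
  rcases Nat.eq_zero_or_pos (p - 1) with h0 | h0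
  · have := hp.out.two_le; omega
  · rw [hb, zero_pow (by omega), zero_mul]

lemma t0_tf_mulLeft (C : Type u) [CommRing C] [Algebra A C] (a : Q)
    (y : T 0 (ModuleCat.of A Q) (ModuleCat.of A C)) :
    (t0 (ModuleCat.of A Q) (ModuleCat.of A C)).hom.hom
      ((tf (ModuleCat.ofHom (LinearMap.mulLeft A a)) 0 (ModuleCat.of A C)).hom y) =
      (a ⊗ₜ[A] (1 : C)) * ((t0 (ModuleCat.of A Q) (ModuleCat.of A C)).hom.hom y : TensorProduct A Q C) := by
  have h := t0_naturality_left (ModuleCat.ofHom (LinearMap.mulLeft A a)) (ModuleCat.of A C)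
  refine (congrArg (fun φ => φ.hom y) h).trans ?_
  show LinearMap.rTensor C (LinearMap.mulLeft A a)
    ((t0 (ModuleCat.of A Q) (ModuleCat.of A C)).hom.hom y : TensorProduct A Q C) = _
  generalize ((t0 (ModuleCat.of A Q) (ModuleCat.of A C)).hom.hom y : TensorProduct A Q C) = z
  induction z using TensorProduct.induction_on with
  | zero => simp
  | tmul q c =>
    rw [LinearMap.rTensor_tmul]
    exact ((Algebra.TensorProduct.tmul_mul_tmul a q 1 c).trans (by rw [one_mul]; rfl)).symm
  | add x y hx hy => rw [map_add, hx, hy, mul_add]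

/-- Dividing by the roots of one element. -/
lemma acyc_step {C : Type u} [CommRing C] [Algebra A C] (hA : PerfTor.Perf p A)
    (hC : PerfTor.Perf p C) (hQ : PerfTor.Perf p Q)
    (h : Acyc (ModuleCat.of A C) (ModuleCat.of A Q)) (f : Q) :
    Acyc (ModuleCat.of A C) (ModuleCat.of A (Q ⧸ (Ideal.span {f}).radical)) := by
  obtain ⟨r, r0, hr⟩ := hQ.exists_roots f
  have hQC : PerfTor.Perf p (TensorProduct A Q C) := PerfTor.Perf.tensor hA hQ hC
  let F := sys (A := A) hr
  let c := colimit.cocone F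
  have hc : IsColimit c := colimit.isColimit F
  let κ : c.pt ⟶ ModuleCat.of A Q := hc.desc (mulCocone hr)
  have hκ : ∀ (i : ULift.{u} ℕ) (q : Q), κ.hom ((c.ι.app i).hom q) = r i.down * q := fun i q =>
    congrArg (fun φ => φ.hom q) (hc.fac (mulCocone hr) i)
  let π : ModuleCat.of A Q ⟶ ModuleCat.of A (Q ⧸ (Ideal.span {f}).radical) :=
    ModuleCat.ofHom (Ideal.Quotient.mkₐ A (Ideal.span {f}).radical).toLinearMap
  have hinjκ : Function.Injective κ.hom := by
    rw [injective_iff_map_eq_zero]
    intro x hx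
    obtain ⟨i, q, rfl⟩ : ∃ (i : ULift.{u} ℕ) (q : Q), (c.ι.app i).hom q = x :=
      Concrete.isColimit_exists_rep F hc x
    rw [hκ, ← hr i.down] at hx
    have h2 : tr r p i.down (i.down + 1) * q = 0 := by
      rw [tr, show i.down + 1 - i.down = 1 by omega, pow_one]
      exact kill hQ hx
    have h3 := congrArg (fun φ => φ.hom q)
      (c.w (homOfLE (show i ≤ ULift.up (i.down + 1) from Nat.le_succ i.down)))
    refine h3.symm.trans ?_
    show (c.ι.app _).hom (tr r p i.down (i.down + 1) * q) = 0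
    exact (congrArg _ h2).trans (map_zero _)
  have hex : Function.Exact κ.hom π.hom := by
    intro x
    show Ideal.Quotient.mk (Ideal.span {f}).radical x = 0 ↔ x ∈ Set.range κ.hom
    rw [Ideal.Quotient.eq_zero_iff_mem, ← r0, hQ.mem_radical_iff hr]
    constructor
    · rintro ⟨n, q, rfl⟩
      exact ⟨(c.ι.app (ULift.up n)).hom q, hκ _ q⟩
    · rintro ⟨z, rfl⟩
      obtain ⟨i, q, rfl⟩ : ∃ (i : ULift.{u} ℕ) (q : Q), (c.ι.app i).hom q = z :=
        Concrete.isColimit_exists_rep F hc z
      exact ⟨i.down, q, hκ i q⟩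
  obtain ⟨w, hS⟩ := shortExact_of_exact κ π hinjκ Ideal.Quotient.mk_surjective hex
  refine acyc_X₃ hS (acyc_colim hc fun _ => h) h ?_
  rw [injective_iff_map_eq_zero]
  intro x hx
  have := preservesColimits_torFlip (A := A) (J := ULift.{u} ℕ) 0 (ModuleCat.of A C)
  have hc' := isColimitOfPreserves
    ((CategoryTheory.Tor (ModuleCat.{u} A) 0).flip.obj (ModuleCat.of A C)) hc
  obtain ⟨i, y, rfl⟩ : ∃ (i : ULift.{u} ℕ) (y : T 0 (F.obj i) (ModuleCat.of A C)),
      (tf (c.ι.app i) 0 (ModuleCat.of A C)).hom y = x :=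
    Concrete.isColimit_exists_rep _ hc' x
  have hx2 : (tf (c.ι.app i ≫ κ) 0 (ModuleCat.of A C)).hom y = 0 := by
    show ((((CategoryTheory.Tor (ModuleCat.{u} A) 0).map (c.ι.app i ≫ κ)).app _).hom y) = 0
    rw [Functor.map_comp, NatTrans.comp_app]
    exact hx
  rw [show c.ι.app i ≫ κ = (mulCocone hr).ι.app i from hc.fac (mulCocone hr) i] at hx2
  have hx3 : ((r i.down) ⊗ₜ[A] (1 : C)) *
      ((t0 (ModuleCat.of A Q) (ModuleCat.of A C)).hom.hom y : TensorProduct A Q C) = 0 := by
    rw [← t0_tf_mulLeft C (r i.down) y]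
    exact (congrArg (t0 (ModuleCat.of A Q) (ModuleCat.of A C)).hom.hom hx2).trans (map_zero _)
  rw [← hr i.down, show (r (i.down + 1) ^ p) ⊗ₜ[A] (1 : C) = (r (i.down + 1) ⊗ₜ[A] (1 : C)) ^ p by
    rw [Algebra.TensorProduct.tmul_pow, one_pow]] at hx3
  have hx4 : (tf (ModuleCat.ofHom (LinearMap.mulLeft A (tr r p i.down (i.down + 1)))) 0
      (ModuleCat.of A C)).hom y = 0 := by
    apply (t0 (ModuleCat.of A Q) (ModuleCat.of A C)).toLinearEquiv.injective
    rw [map_zero]
    refine (t0_tf_mulLeft C _ y).trans ?_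
    rw [tr, show i.down + 1 - i.down = 1 by omega, pow_one,
      show (r (i.down + 1) ^ (p - 1)) ⊗ₜ[A] (1 : C) = (r (i.down + 1) ⊗ₜ[A] (1 : C)) ^ (p - 1) by
        rw [Algebra.TensorProduct.tmul_pow, one_pow]]
    exact kill hQC hx3
  rw [← c.w (homOfLE (show i ≤ ULift.up (i.down + 1) from Nat.le_succ i.down))]
  show ((((CategoryTheory.Tor (ModuleCat.{u} A) 0).map _).app _).hom y) = 0
  rw [Functor.map_comp, NatTrans.comp_app]
  exact (congrArg (((CategoryTheory.Tor (ModuleCat.{u} A) 0).map _).app _).hom hx4).trans (map_zero _)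

end step

/-- Dividing by the radical of a finitely generated ideal. -/
lemma acyc_list {C : Type u} [CommRing C] [Algebra A C] (hA : PerfTor.Perf p A)
    (hC : PerfTor.Perf p C) (k : ℕ) :
    ∀ (Q : Type u) [CommRing Q] [Algebra A Q] (Q' : Type u) [CommRing Q'] [Algebra A Q'],
      PerfTor.Perf p Q → Acyc (ModuleCat.of A C) (ModuleCat.of A Q) →
      ∀ (π : Q →ₐ[A] Q'), Function.Surjective π → ∀ (l : List Q), l.length = k →
      RingHom.ker π = (Ideal.span {x | x ∈ l}).radical →
      Acyc (ModuleCat.of A C) (ModuleCat.of A Q') := by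
  induction k with
  | zero =>
    intro Q _ _ Q' _ _ hQ hac π hπ l hl hker
    obtain rfl := List.length_eq_zero_iff.mp hl
    have : Function.Injective π := by
      rw [injective_iff_map_eq_zero]
      intro x hx
      have : x ∈ RingHom.ker π := hx
      rw [hker] at this
      simpa [hQ.radical_bot] using this
    exact acyc_of_iso (LinearEquiv.ofBijective π.toLinearMap ⟨this, hπ⟩).toModuleIso hac
  | succ k ih =>
    intro Q _ _ Q' _ _ hQ hac π hπ l hl hker
    obtain ⟨f, l, rfl⟩ := List.exists_cons_of_ne_nil (l := l) (by intro h; simp [h] at hl)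
    let I : Ideal Q := (Ideal.span {f}).radical
    let g : Q →ₐ[A] Q ⧸ I := Ideal.Quotient.mkₐ A I
    have hI : RingHom.ker g ≤ RingHom.ker π := by
      rw [hker]
      intro x hx
      have hx' : x ∈ I := Ideal.Quotient.eq_zero_iff_mem.mp hx
      refine Ideal.radical_mono (Ideal.span_mono ?_) hx'
      intro y hy
      obtain rfl := hy
      simp
    let π1 : Q ⧸ I →ₐ[A] Q' := Ideal.Quotient.liftₐ I π
      (fun a ha => hI (Ideal.Quotient.eq_zero_iff_mem.mpr ha))
    have hgs : Function.Surjective g := Ideal.Quotient.mk_surjective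
    refine ih (Q ⧸ I) Q' (hQ.of_surjective g.toRingHom hgs ?_) (acyc_step hA hC hQ hac f) π1
      (fun y => ⟨g (hπ y).choose, (hπ y).choose_spec⟩) (l.map g) (by simpa using hl) ?_
    · show (RingHom.ker (Ideal.Quotient.mk I)).IsRadical
      rw [Ideal.mk_ker]
      exact Ideal.radical_isRadical _
    · have h1 : Ideal.span {x | x ∈ l.map g} = (Ideal.span {x | x ∈ f :: l}).map g.toRingHom := by
        rw [Ideal.map_span]
        have hf : g f = 0 := Ideal.Quotient.eq_zero_iff_mem.mpr (Ideal.le_radical (Ideal.subset_span rfl))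
        refine le_antisymm (Ideal.span_mono ?_) (Ideal.span_le.mpr ?_)
        · intro y hy
          obtain ⟨x, hx, rfl⟩ := List.mem_map.mp hy
          exact ⟨x, List.mem_cons_of_mem _ hx, rfl⟩
        · rintro _ ⟨x, hx, rfl⟩
          rcases List.mem_cons.mp hx with rfl | hx
          · show g x ∈ _
            rw [hf]
            exact zero_mem _
          · exact Ideal.subset_span (List.mem_map.mpr ⟨x, hx, rfl⟩)
      apply Ideal.comap_injective_of_surjective g.toRingHom hgs
      rw [h1, Ideal.comap_radical,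
        Ideal.comap_map_of_surjective g.toRingHom hgs (Ideal.span {x | x ∈ f :: l}),
        show Ideal.comap g.toRingHom (RingHom.ker π1) = RingHom.ker π from Ideal.ext fun x => Iff.rfl]
      rw [show Ideal.comap g.toRingHom ⊥ = I from Ideal.mk_ker, hker]
      refine le_antisymm (Ideal.radical_mono le_sup_left) ?_
      rw [Ideal.radical_le_radical_iff]
      refine sup_le Ideal.le_radical ?_
      rw [← hker]
      intro x hx
      exact hI (Ideal.Quotient.eq_zero_iff_mem.mpr hx)

/-- Acyclicity passes to directed unions of kernels. -/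
lemma acyc_union {C : Type u} [CommRing C] [Algebra A C] {Q Q' : Type u} [CommRing Q] [Algebra A Q]
    [CommRing Q'] [Algebra A Q'] (π : Q →ₐ[A] Q') (hπ : Function.Surjective π)
    {K : Type u} [Preorder K] [IsDirectedOrder K] [Nonempty K] (I : K → Ideal Q)
    (hmono : ∀ {i j : K}, i ≤ j → I i ≤ I j) (hle : ∀ i, I i ≤ RingHom.ker π)
    (hcov : ∀ x ∈ RingHom.ker π, ∃ i, x ∈ I i)
    (h : ∀ i, Acyc (ModuleCat.of A C) (ModuleCat.of A (Q ⧸ I i))) :
    Acyc (ModuleCat.of A C) (ModuleCat.of A Q') := by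
  let F : K ⥤ ModuleCat.{u} A :=
    { obj := fun i => ModuleCat.of A (Q ⧸ I i)
      map := fun {i j} f => ModuleCat.ofHom (Ideal.Quotient.factorₐ A (hmono (leOfHom f))).toLinearMap
      map_id := fun i => by
        ext x
        obtain ⟨x, rfl⟩ := Ideal.Quotient.mk_surjective x
        rfl
      map_comp := fun f g => by
        ext x
        obtain ⟨x, rfl⟩ := Ideal.Quotient.mk_surjective x
        rfl }
  let c : Cocone F :=
    { pt := ModuleCat.of A Q'
      ι :=
        { app := fun i => ModuleCat.ofHom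
            (Ideal.Quotient.liftₐ (I i) π fun a ha => hle i ha).toLinearMap
          naturality := fun i j f => by
            ext x
            obtain ⟨x, rfl⟩ := Ideal.Quotient.mk_surjective x
            rfl } }
  have hc : IsColimit c := by
    refine @Limits.isColimitOfReflects _ _ _ _ _ _ _ (forget (ModuleCat.{u} A)) c
      (Types.FilteredColimit.isColimitOf _ _ (fun b => ?_)
        (fun i j (a : Q ⧸ I i) (a' : Q ⧸ I j) heq => ?_)) _
    · obtain ⟨x, rfl⟩ := hπ b
      exact ⟨Classical.arbitrary K, Ideal.Quotient.mk _ x, rfl⟩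
    · obtain ⟨a, rfl⟩ := Ideal.Quotient.mk_surjective a
      obtain ⟨a', rfl⟩ := Ideal.Quotient.mk_surjective a'
      have hk : a - a' ∈ RingHom.ker π := by
        rw [RingHom.mem_ker, map_sub, sub_eq_zero]
        exact heq
      obtain ⟨l, hl⟩ := hcov _ hk
      obtain ⟨m, hm1, hm2⟩ := exists_ge_ge i j
      obtain ⟨n, hn1, hn2⟩ := exists_ge_ge m l
      exact ⟨n, homOfLE (hm1.trans hn1), homOfLE (hm2.trans hn1),
        (Ideal.Quotient.mk_eq_mk_iff_sub_mem a a').mpr (hmono hn2 hl)⟩
  exact acyc_colim hc h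

end aux

/-- Let p be a prime, A a commutative ring with p = 0 whose p-th power map is bijective, and B, C two
commutative A-algebras whose p-th power maps are bijective (a diagram C ← A → B of perfect rings of
characteristic p). Then Tor_i^A(B, C) vanishes for all i > 0. -/
theorem result (p : ℕ) [Fact p.Prime] (A B C : Type u) [CommRing A] [CommRing B] [CommRing C]
    [CharP A p] [Algebra A B] [Algebra A C]
    (hA : Function.Bijective fun a : A => a ^ p) (hB : Function.Bijective fun b : B => b ^ p)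
    (hC : Function.Bijective fun c : C => c ^ p) (i : ℕ) (hi : 0 < i) :
    Limits.IsZero (((Tor (ModuleCat.{u} A) i).obj (ModuleCat.of A B)).obj (ModuleCat.of A C)) := by
  obtain ⟨i, rfl⟩ : ∃ n, i = n + 1 := ⟨i - 1, by omega⟩
  have hpA : (p : A) = 0 := CharP.cast_eq_zero A p
  have pA : PerfTor.Perf p A := ⟨hpA, hA⟩
  have pB : PerfTor.Perf p B := ⟨by rw [← map_natCast (algebraMap A B), hpA, map_zero], hB⟩
  have pC : PerfTor.Perf p C := ⟨by rw [← map_natCast (algebraMap A C), hpA, map_zero], hC⟩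
  let P := MonoidAlgebra A B
  have pP : PerfTor.Perf p P := pA.monoidAlgebra hB
  let π : P →ₐ[A] B := MonoidAlgebra.lift A B B (MonoidHom.id B)
  have hπ : Function.Surjective π := fun b => ⟨MonoidAlgebra.single b 1,
    (MonoidAlgebra.lift_single (MonoidHom.id B) b 1).trans (one_smul A b)⟩
  have hP : Acyc (ModuleCat.of A C) (ModuleCat.of A P) := acyc_of_flat _
  let I : Finset ↥(RingHom.ker π) → Ideal P := fun S =>
    (Ideal.span {x | x ∈ S.toList.map Subtype.val}).radical
  have hmono : ∀ {S S' : Finset ↥(RingHom.ker π)}, S ≤ S' → I S ≤ I S' := fun {S S'} h =>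
    Ideal.radical_mono (Ideal.span_mono fun x hx => by
      obtain ⟨y, hy, rfl⟩ := List.mem_map.mp hx
      exact List.mem_map.mpr ⟨y, Finset.mem_toList.mpr (h (Finset.mem_toList.mp hy)), rfl⟩)
  have hle : ∀ S, I S ≤ RingHom.ker π := fun S => by
    have h1 : Ideal.span {x | x ∈ S.toList.map Subtype.val} ≤ RingHom.ker π :=
      Ideal.span_le.mpr fun x hx => by
        obtain ⟨y, -, rfl⟩ := List.mem_map.mp hx
        exact y.2
    intro x hx
    obtain ⟨k, hk⟩ := hx
    refine RingHom.mem_ker.mpr (pB.eq_zero_of_pow_eq_zero (k := k) ?_)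
    rw [← map_pow]
    exact h1 hk
  classical
  refine acyc_union π hπ I (fun h => hmono h) hle ?_ (fun S => acyc_list pA pC _ P _ pP hP
    (Ideal.Quotient.mkₐ A (I S)) Ideal.Quotient.mk_surjective _ rfl Ideal.mk_ker) i
  intro a ha
  exact ⟨{⟨a, ha⟩}, Ideal.le_radical (Ideal.subset_span
    (List.mem_map.mpr ⟨⟨a, ha⟩, by simp, rfl⟩))⟩

end Groth.Agent.S14252
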