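import Groth.Statements.S14254
import Groth.Agent.WN.CharP
import Groth.Agent.WN.Closed
import Mathlib.FieldTheory.IsPerfectClosure
import Mathlib.Algebra.Polynomial.Expand

set_option autoImplicit false
universe u
open CategoryTheory AlgebraicGeometry
open FrobAlg

namespace Groth.Agent.S14254

theorem isRadHomeo_of_isPRadical (p : ℕ) [Fact p.Prime] {A B : Type u} [CommRing A] [CommRing B]
    (hp : (p : A) = 0) (f : A →+* B) [IsPRadical f p] : Groth.Agent.WN.IsRadHomeo f := by
  have hi : f.IsIntegral := fun b => by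
    obtain ⟨n, a, ha⟩ := IsPRadical.pow_mem f p b
    exact ⟨Polynomial.X ^ p ^ n - Polynomial.C a,
      Polynomial.monic_X_pow_sub_C _ (pow_ne_zero _ (Fact.out : p.Prime).ne_zero), by simp [ha]⟩
  refine ⟨hi, Groth.Agent.WN.surj_of_isIntegral_of_ker_le hi
    ((IsPRadical.ker_le f p).trans pNilradical_le_nilradical), fun K _ g₁ g₂ h => RingHom.ext fun b => ?_⟩
  haveI : CharP K p := (CharP.charP_iff_prime_eq_zero (Fact.out : p.Prime)).mpr (by
    rw [← map_natCast (g₁.comp f), hp, map_zero])
  obtain ⟨n, a, ha⟩ := IsPRadical.pow_mem f p b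
  apply iterateFrobenius_inj K p n
  rw [iterateFrobenius_def, iterateFrobenius_def, ← map_pow, ← map_pow, ← ha]
  exact RingHom.congr_fun h a

theorem isRadHomeo_right {A B C : Type u} [CommRing A] [CommRing B] [CommRing C] {f : A →+* B} {g : B →+* C}
    (hf : Groth.Agent.WN.IsRadHomeo f) (h : Groth.Agent.WN.IsRadHomeo (g.comp f)) : Groth.Agent.WN.IsRadHomeo g := by
  refine ⟨RingHom.IsIntegral.tower_top f g h.isIntegral, fun q => ?_, fun K _ g₁ g₂ e => h.radicial K g₁ g₂ ?_⟩
  · obtain ⟨r, hr⟩ := h.surj (PrimeSpectrum.comap f q)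
    exact ⟨r, hf.injective_comap ((PrimeSpectrum.comap_comp_apply f g r).symm.trans hr)⟩
  · rw [← RingHom.comp_assoc, e, RingHom.comp_assoc]

theorem isRadHomeo_left {A B C : Type u} [CommRing A] [CommRing B] [CommRing C] {f : A →+* B} {g : B →+* C}
    (hg : Groth.Agent.WN.IsRadHomeo g) (h : Groth.Agent.WN.IsRadHomeo (g.comp f)) : Groth.Agent.WN.IsRadHomeo f := by
  refine ⟨fun b => ?_, fun q => ?_, fun K _ g₁ g₂ e => ?_⟩
  · obtain ⟨P, hP, hP'⟩ := h.isIntegral (g b)
    have h0 : g (Polynomial.eval₂ f b P) = 0 := by rw [Polynomial.hom_eval₂]; exact hP'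
    obtain ⟨N, hN⟩ := mem_nilradical.1 (Groth.Agent.WN.ker_le_nilradical_of_surj hg.surj (RingHom.mem_ker.2 h0))
    exact ⟨P ^ N, hP.pow N, by rw [Polynomial.eval₂_pow, hN]⟩
  · obtain ⟨r, hr⟩ := h.surj q
    exact ⟨PrimeSpectrum.comap g r, (PrimeSpectrum.comap_comp_apply f g r).symm.trans hr⟩
  · let ι := algebraMap K (AlgebraicClosure K)
    obtain ⟨k₁, hk₁⟩ := hg.exists_lift _ (ι.comp g₁)
    obtain ⟨k₂, hk₂⟩ := hg.exists_lift _ (ι.comp g₂)
    have : k₁ = k₂ := h.radicial _ k₁ k₂ (by
      rw [← RingHom.comp_assoc, hk₁, ← RingHom.comp_assoc, hk₂, RingHom.comp_assoc, e, RingHom.comp_assoc])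
    refine RingHom.ext fun b => ι.injective ?_
    rw [← RingHom.comp_apply, ← hk₁, this, hk₂, RingHom.comp_apply]

/-- Let p be a prime, φ : A → B a map of commutative rings of characteristic p, i : A → A' and j : B →
B' perfect closures (A' and B' are perfect rings of characteristic p, every element of A' resp. B'
has a p^n-th power in the image of i resp. j, and the kernels of i and j consist of nilpotent
elements), and φ' : A' → B' the induced map, φ' ∘ i = j ∘ φ. Then Spec φ : Spec B ⟶ Spec A is a
universal homeomorphism if and only if φ' is bijective. (The published statement is for an arbitrary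
morphism of schemes over the prime field and its perfection; this row is the case of affine schemes,
the perfection of Spec A being Spec of the perfect closure of A.) -/
theorem result (p : ℕ) [Fact p.Prime]
    {A B A' B' : Type u} [CommRing A] [CommRing B] [CommRing A'] [CommRing B']
    [CharP A p] [CharP B p] [CharP A' p] [CharP B' p] [PerfectRing A' p] [PerfectRing B' p]
    (φ : A →+* B) (i : A →+* A') (j : B →+* B') [IsPerfectClosure i p] [IsPerfectClosure j p]
    (φ' : A' →+* B') (hφ : φ'.comp i = j.comp φ) :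
    FlatMor.IsUnivHomeo (Spec.map (CommRingCat.ofHom φ)) ↔ Function.Bijective φ' := by
  have hi := isRadHomeo_of_isPRadical p (CharP.cast_eq_zero A p) i
  have hj := isRadHomeo_of_isPRadical p (CharP.cast_eq_zero B p) j
  rw [Groth.Agent.WN.isUnivHomeo_specMap_iff]
  constructor
  · intro h
    have h' : Groth.Agent.WN.IsRadHomeo φ' := isRadHomeo_right hi (hφ ▸ h.comp hj)
    have hred : _root_.IsReduced B' := by
      rw [isReduced_iff_pow_one_lt p (Fact.out : p.Prime).one_lt]
      intro x hx
      exact (PerfectRing.bijective_frobenius (R := B') (p := p)).1 (by simp [hx, zero_pow (Fact.out : p.Prime).ne_zero])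
    exact @Groth.Agent.WN.bijective_of_isAWNRing _ _ _ _ _ hred h' (Groth.Agent.WN.isAWNRing_of_perfectRing p (CharP.cast_eq_zero A' p))
  · intro h
    have h' : Groth.Agent.WN.IsRadHomeo φ' := by
      have h1 : φ'.IsIntegral := φ'.isIntegral_of_surjective h.2
      exact ⟨h1, Groth.Agent.WN.surj_of_isIntegral_of_ker_le h1 (by rw [(RingHom.injective_iff_ker_eq_bot _).1 h.1]; exact bot_le),
        fun K _ g₁ g₂ e => RingHom.ext fun x => by obtain ⟨y, rfl⟩ := h.2 x; exact RingHom.congr_fun e y⟩
    exact isRadHomeo_left hj (hφ ▸ hi.comp h')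

end Groth.Agent.S14254
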