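import Groth.Statements.S14255
import Groth.Agent.FrobW.Perfect

set_option autoImplicit false
universe u
open FrobAlg

namespace Groth.Agent.S14255

/-- Let p be a prime, φ : A → B a flat map of commutative rings of characteristic p, i : A → A' and j :
B → B' perfect closures (A', B' perfect rings of characteristic p, every element of A' resp. B' has
a p^n-th power in the image of i resp. j, the kernels of i and j consist of nilpotent elements), and
φ' : A' → B' the induced map, φ' ∘ i = j ∘ φ. Then φ' is flat. (The published statement is that the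
perfection of a flat morphism of schemes over the prime field is flat; this row is its affine case,
to which the published proof reduces.) -/
theorem result (p : ℕ) [Fact p.Prime]
    {A B A' B' : Type u} [CommRing A] [CommRing B] [CommRing A'] [CommRing B']
    [CharP A p] [CharP B p] [CharP A' p] [CharP B' p] [PerfectRing A' p] [PerfectRing B' p]
    (φ : A →+* B) (hflat : φ.Flat) (i : A →+* A') (j : B →+* B') [IsPerfectClosure i p] [IsPerfectClosure j p]
    (φ' : A' →+* B') (hφ : φ'.comp i = j.comp φ) : φ'.Flat := by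
  refine Groth.Agent.FrobW.Perfect.flat_of_relations φ' fun {l} r x hx => ?_
  obtain ⟨N₁, h₁⟩ := Groth.Agent.FrobW.Perfect.exists_pow_mem_range_of_finite i p r
  obtain ⟨N₂, h₂⟩ := Groth.Agent.FrobW.Perfect.exists_pow_mem_range_of_finite j p x
  choose α hα using h₁ (max N₁ N₂) (le_max_left _ _)
  choose β hβ using h₂ (max N₁ N₂) (le_max_right _ _)
  have hcomm : ∀ a, φ' (i a) = j (φ a) := fun a => RingHom.congr_fun hφ a
  have h0 : j (∑ k, φ (α k) * β k) = 0 := by
    have := congrArg (fun z : B' => z ^ p ^ max N₁ N₂) hx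
    simp only [sum_pow_char_pow, mul_pow, zero_pow (pow_ne_zero _ (Fact.out : p.Prime).ne_zero)] at this
    simpa [map_sum, ← hcomm, hα, hβ, map_pow] using this
  obtain ⟨e, he⟩ := Groth.Agent.FrobW.Perfect.exists_pow_eq_zero_of_ker j p h0
  simp only [sum_pow_char_pow, mul_pow, ← map_pow] at he
  obtain ⟨n, c, y, hy, hc⟩ := Groth.Agent.FrobW.Perfect.relations_of_flat hflat _ _ he
  set N := max N₁ N₂ + e
  let ρA : A' ≃+* A' := (iterateFrobeniusEquiv A' p N).symm
  let ρB : B' ≃+* B' := (iterateFrobeniusEquiv B' p N).symm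
  have hcr : ∀ a, φ' (ρA a) = ρB (φ' a) := fun a => by
    rw [RingEquiv.eq_symm_apply, iterateFrobeniusEquiv_apply, iterateFrobenius_def, ← map_pow,
      ← iterateFrobenius_def, ← iterateFrobeniusEquiv_apply, RingEquiv.apply_symm_apply]
  have hrA : ∀ k, ρA (i (α k ^ p ^ e)) = r k := fun k => by
    rw [RingEquiv.symm_apply_eq, iterateFrobeniusEquiv_apply, iterateFrobenius_def, map_pow, hα, ← pow_mul, ← pow_add]
  have hrB : ∀ k, ρB (j (β k ^ p ^ e)) = x k := fun k => by
    rw [RingEquiv.symm_apply_eq, iterateFrobeniusEquiv_apply, iterateFrobenius_def, map_pow, hβ, ← pow_mul, ← pow_add]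
  refine ⟨n, fun k m => ρA (i (c k m)), fun m => ρB (j (y m)), fun k => ?_, fun m => ?_⟩
  · rw [← hrB, hy]
    simp [map_sum, hcr, hcomm]
  · simp_rw [← hrA, ← map_mul, ← map_sum, hc]
    simp

end Groth.Agent.S14255
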