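import Groth.Statements.S14256


set_option autoImplicit false
universe u
open FrobAlg

namespace Groth.Agent.S14256

/-- Let p be a prime, φ : A → B a map of commutative rings of characteristic p, i : A → A' and j : B →
B' perfect closures (A', B' perfect rings of characteristic p, every element of A' resp. B' has a
p^n-th power in the image of i resp. j, the kernels of i and j consist of nilpotent elements), and
φ' : A' → B' the induced map, φ' ∘ i = j ∘ φ. Then φ is integral if and only if φ' is integral. (The
published statement is that a morphism of schemes over the prime field is integral exactly when its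
perfection is; this row is its affine case, to which the published proof reduces.) -/
theorem result (p : ℕ) [Fact p.Prime]
    {A B A' B' : Type u} [CommRing A] [CommRing B] [CommRing A'] [CommRing B']
    [CharP A p] [CharP B p] [CharP A' p] [CharP B' p] [PerfectRing A' p] [PerfectRing B' p]
    (φ : A →+* B) (i : A →+* A') (j : B →+* B') [IsPerfectClosure i p] [IsPerfectClosure j p]
    (φ' : A' →+* B') (hφ : φ'.comp i = j.comp φ) : φ.IsIntegral ↔ φ'.IsIntegral := by
  have hint : ∀ {K L : Type u} [CommRing K] [CommRing L] (i : K →+* L) [IsPRadical i p], i.IsIntegral := by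
    intro K L _ _ i _ x
    obtain ⟨n, y, hy⟩ := IsPRadical.pow_mem i p x
    exact ⟨Polynomial.X ^ p ^ n - Polynomial.C y, Polynomial.monic_X_pow_sub_C _ (pow_ne_zero _ (Fact.out : p.Prime).ne_zero),
      by simp [hy]⟩
  constructor
  · intro h
    have : (φ'.comp i).IsIntegral := by rw [hφ]; exact RingHom.IsIntegral.trans _ _ h (hint j)
    exact RingHom.IsIntegral.tower_top i φ' this
  · intro h b
    have : (j.comp φ).IsIntegral := by rw [← hφ]; exact RingHom.IsIntegral.trans _ _ (hint i) h
    obtain ⟨P, hP, hP0⟩ := this (j b)
    rw [← Polynomial.hom_eval₂] at hP0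
    obtain ⟨n, hn⟩ := mem_pNilradical.1 (IsPRadical.ker_le j p (RingHom.mem_ker.2 hP0))
    exact ⟨P ^ p ^ n, hP.pow _, by rw [Polynomial.eval₂_pow, hn]⟩

end Groth.Agent.S14256
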