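import Groth.Statements.S14257
import Groth.Agent.FrobW.RelFrob
import Mathlib.FieldTheory.IsPerfectClosure

set_option autoImplicit false
universe u
open TensorProduct
open FrobAlg

namespace Groth.Agent.S14257

/-- An étale algebra over a perfect ring is perfect. -/
theorem bijective_frobenius (p : ℕ) [Fact p.Prime] (A C : Type u) [CommRing A] [CommRing C] [CharP A p] [PerfectRing A p]
    [CharP C p] [Algebra A C] [Algebra.Etale A C] : Function.Bijective (frobenius C p) := by
  have hb := Groth.Agent.FrobW.RelFrob.bijective_of_etale p A C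
  let root : FrobAlg.Twist p A →+* A := (frobeniusEquiv A p).symm.toRingHom.comp (FrobAlg.toTwist p A).symm.toRingHom
  let q : FrobAlg.BaseChange p A C →ₐ[A] C := Algebra.TensorProduct.lift (AlgHom.id A C)
    { toRingHom := (algebraMap A C).comp root
      commutes' := fun a => by
        change algebraMap A C (root (algebraMap A (FrobAlg.Twist p A) a)) = algebraMap A C a
        congr 1
        change (frobeniusEquiv A p).symm ((FrobAlg.toTwist p A).symm (algebraMap A (FrobAlg.Twist p A) a)) = a
        rw [FrobAlg.algebraMap_twist, RingEquiv.symm_apply_apply, RingEquiv.symm_apply_eq, frobeniusEquiv_def] }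
    (fun _ _ => Commute.all _ _)
  have hq : ∀ c, q (c ⊗ₜ[A] (1 : FrobAlg.Twist p A)) = c := fun c => by simp [q]
  have key : ∀ x, q x ^ p = FrobAlg.relFrob p A C x := fun x => by
    induction x using TensorProduct.induction_on with
    | zero => simp [zero_pow (Fact.out : p.Prime).ne_zero]
    | tmul c w =>
      obtain ⟨a, rfl⟩ := (FrobAlg.toTwist p A).surjective w
      rw [Groth.Agent.FrobW.RelFrob.relFrob_tmul]
      change (c * algebraMap A C ((frobeniusEquiv A p).symm ((FrobAlg.toTwist p A).symm (FrobAlg.toTwist p A a)))) ^ p = _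
      rw [RingEquiv.symm_apply_apply, mul_pow, ← map_pow, frobeniusEquiv_symm_pow_p]
    | add x y hx hy => rw [map_add, map_add, add_pow_char, hx, hy]
  refine ⟨(injective_iff_map_eq_zero _).2 fun c hc => ?_, fun y => ?_⟩
  · have h0 : c ⊗ₜ[A] (1 : FrobAlg.Twist p A) = 0 := hb.1 (by
      rw [map_zero, Groth.Agent.FrobW.RelFrob.relFrob_tmul_one, ← frobenius_def, hc])
    rw [← hq c, h0, map_zero]
  · obtain ⟨x, rfl⟩ := hb.2 y
    exact ⟨q x, key x⟩

/-- Let p be a prime, A a commutative ring of characteristic p, B an etale A-algebra of characteristic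
p, A → A' and B → B' perfect closures (A', B' perfect rings of characteristic p, every element of A'
resp. B' has a p^n-th power in the image of A resp. B, and the structure maps have kernels
consisting of nilpotent elements), B' viewed as an A-algebra through B, and φ' : A' → B' a map of
A-algebras. Then the natural map A' ⊗_A B → B', a ⊗ b ↦ φ'(a) b, is bijective. (The published
statement is for an etale morphism X → Y of schemes over the prime field, where X_perf → X ×_Y
Y_perf is an isomorphism; this row is the affine case.) -/
theorem result (p : ℕ) [Fact p.Prime]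
    (A B A' B' : Type u) [CommRing A] [CommRing B] [CommRing A'] [CommRing B']
    [CharP A p] [CharP B p] [CharP A' p] [CharP B' p] [PerfectRing A' p] [PerfectRing B' p]
    [Algebra A B] [Algebra.Etale A B] [Algebra A A'] [Algebra B B'] [Algebra A B'] [IsScalarTower A B B']
    [IsPerfectClosure (algebraMap A A') p] [IsPerfectClosure (algebraMap B B') p]
    (φ' : A' →ₐ[A] B') :
    Function.Bijective (Algebra.TensorProduct.lift φ' (IsScalarTower.toAlgHom A B B')
      (fun a b => Commute.all (φ' a) (IsScalarTower.toAlgHom A B B' b))) := by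
  classical
  let f : A' ⊗[A] B →+* B' := (Algebra.TensorProduct.lift φ' (IsScalarTower.toAlgHom A B B')
      (fun a b => Commute.all (φ' a) (IsScalarTower.toAlgHom A B B' b))).toRingHom
  change Function.Bijective f
  let ι : B →+* A' ⊗[A] B := (Algebra.TensorProduct.includeRight (R := A) (A := A') (B := B)).toRingHom
  have hfι : f.comp ι = algebraMap B B' := RingHom.ext fun b => by simp [f, ι]
  have hp : (p : A' ⊗[A] B) = 0 := by rw [← map_natCast ι, CharP.cast_eq_zero, map_zero]
  haveI : Nontrivial B' := CharP.nontrivial_of_char_ne_one (R := B') (v := p) (Fact.out : p.Prime).ne_one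
  haveI : Nontrivial (A' ⊗[A] B) := f.domain_nontrivial
  haveI : CharP (A' ⊗[A] B) p := (CharP.charP_iff_prime_eq_zero (Fact.out : p.Prime)).mpr hp
  haveI : Algebra.Etale A' (A' ⊗[A] B) := inferInstance
  haveI : PerfectRing (A' ⊗[A] B) p := ⟨bijective_frobenius p A' (A' ⊗[A] B)⟩
  haveI : IsPRadical ι p :=
    { pow_mem' := fun x => by
        induction x using TensorProduct.induction_on with
        | zero => exact ⟨0, 0, by simp⟩
        | tmul a b =>
          obtain ⟨n, c, hc⟩ := IsPRadical.pow_mem (algebraMap A A') p a
          refine ⟨n, c • b ^ p ^ n, ?_⟩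
          change (1 : A') ⊗ₜ[A] (c • b ^ p ^ n) = _
          rw [Algebra.TensorProduct.tmul_pow, ← hc, Algebra.algebraMap_eq_smul_one, TensorProduct.smul_tmul]
        | add x y hx hy =>
          obtain ⟨m, a, ha⟩ := hx
          obtain ⟨n, b, hb⟩ := hy
          refine ⟨m + n, a ^ p ^ n + b ^ p ^ m, ?_⟩
          rw [map_add, map_pow, map_pow, ha, hb, ← pow_mul, ← pow_mul, ← pow_add, ← pow_add, add_comm n m, add_pow_char_pow]
      ker_le' := fun b hb => IsPRadical.ker_le (algebraMap B B') p (RingHom.mem_ker.2 (by
        rw [← hfι, RingHom.comp_apply, RingHom.mem_ker.1 hb, map_zero])) }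
  have hf : f = (IsPerfectClosure.equiv ι (algebraMap B B') p).toRingHom := by
    rw [IsPerfectClosure.equiv_toRingHom, ← hfι, PerfectRing.comp_lift]
  rw [hf]
  exact (IsPerfectClosure.equiv ι (algebraMap B B') p).bijective

end Groth.Agent.S14257
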