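import Groth.Statements.S14260
import Groth.Agent.FrobW.Perfect
import Groth.Agent.S14255

set_option autoImplicit false
universe u
open FrobAlg

namespace Groth.Agent.S14260

/-- Let p be a prime, φ : A → B a faithfully flat map of commutative rings of characteristic p, i : A →
A' and j : B → B' perfect closures (A', B' perfect rings of characteristic p, every element of A'
resp. B' has a p^n-th power in the image of i resp. j, the kernels of i and j consist of nilpotent
elements), and φ' : A' → B' the induced map, φ' ∘ i = j ∘ φ. Then φ' is faithfully flat. (The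
published statement is that the perfection of a faithfully flat morphism of schemes over the prime
field is faithfully flat; this row is its affine case, to which the published proof reduces.) -/
theorem result (p : ℕ) [Fact p.Prime]
    {A B A' B' : Type u} [CommRing A] [CommRing B] [CommRing A'] [CommRing B']
    [CharP A p] [CharP B p] [CharP A' p] [CharP B' p] [PerfectRing A' p] [PerfectRing B' p]
    (φ : A →+* B) (hflat : φ.FaithfullyFlat) (i : A →+* A') (j : B →+* B') [IsPerfectClosure i p]
    [IsPerfectClosure j p] (φ' : A' →+* B') (hφ : φ'.comp i = j.comp φ) : φ'.FaithfullyFlat := by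
  have hflat' : φ'.Flat := Groth.Agent.S14255.result p φ hflat.flat i j φ' hφ
  refine Groth.Agent.FrobW.Perfect.faithfullyFlat_of_map_ne_top hflat' fun m hm htop => ?_
  obtain ⟨l, a, y, ha, hsum⟩ := Groth.Agent.FrobW.Perfect.exists_eq_one_of_map_eq_top htop
  obtain ⟨N₁, h₁⟩ := Groth.Agent.FrobW.Perfect.exists_pow_mem_range_of_finite i p a
  obtain ⟨N₂, h₂⟩ := Groth.Agent.FrobW.Perfect.exists_pow_mem_range_of_finite j p y
  choose α hα using h₁ (max N₁ N₂) (le_max_left _ _)
  choose β hβ using h₂ (max N₁ N₂) (le_max_right _ _)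
  have hcomm : ∀ a, φ' (i a) = j (φ a) := fun a => RingHom.congr_fun hφ a
  have h0 : j (∑ k, φ (α k) * β k - 1) = 0 := by
    have := congrArg (fun z : B' => z ^ p ^ max N₁ N₂) hsum
    simp only [sum_pow_char_pow, mul_pow, one_pow] at this
    simpa [map_sum, ← hcomm, hα, hβ, map_pow, sub_eq_zero] using this
  obtain ⟨e, he⟩ := Groth.Agent.FrobW.Perfect.exists_pow_eq_zero_of_ker j p h0
  simp only [sub_pow_char_pow, sum_pow_char_pow, mul_pow, one_pow, sub_eq_zero, ← map_pow] at he
  have hI : m.comap i ≠ ⊤ := Ideal.comap_ne_top i hm.ne_top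
  apply Groth.Agent.FrobW.Perfect.map_ne_top_of_faithfullyFlat hflat hI
  rw [Ideal.eq_top_iff_one, ← he]
  refine Ideal.sum_mem _ fun k _ => Ideal.mul_mem_right _ _ (Ideal.mem_map_of_mem φ ?_)
  rw [Ideal.mem_comap, map_pow, hα, ← pow_mul, ← pow_add]
  exact Ideal.pow_mem_of_mem _ (ha k) _ (pow_pos (Fact.out : p.Prime).pos _)

end Groth.Agent.S14260
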