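import Groth.Statements.S14261
import Groth.Agent.PerfModel.Stages
import Mathlib.CategoryTheory.Presentable.Finite
import Mathlib.Algebra.Category.Ring.Under.Basic
import Mathlib.RingTheory.FinitePresentation

set_option autoImplicit false
universe u
open CategoryTheory
open FrobAlg

namespace Groth.Agent.S14261

section aux

open MvPolynomial PerfModel Limits

variable (p : ℕ) [hp : Fact p.Prime] (B : CommRingCat.{u})

/-- Perfect `B`-algebras. -/
abbrev PerfB : Type (u + 1) := ObjectProperty.FullSubcategory fun Y : Under B =>
  (p : Y.right) = 0 ∧ Function.Bijective fun y : Y.right => y ^ p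

variable {p B}

/-- The ring map of a morphism. -/
abbrev evh {X Y : PerfB p B} (f : X ⟶ Y) : ↑X.obj.right →+* ↑Y.obj.right := f.hom.right.hom

omit hp in
lemma ext_hom {X Y : PerfB p B} {f g : X ⟶ Y} (h : evh f = evh g) : f = g :=
  ObjectProperty.hom_ext _ (Under.UnderMorphism.ext (CommRingCat.hom_ext h))

variable [CharP B p] {L : Type u} [CommRing L] [Algebra B L]

variable (B L) in
/-- The poset of stages, as a category. -/
def Ix : Type u := Idx B L

instance : PartialOrder (Ix B L) := inferInstanceAs (PartialOrder (Idx B L))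

instance : IsDirectedOrder (Ix B L) := by
  classical
  exact ⟨fun a b => ⟨((show Idx B L from a).1 ∪ (show Idx B L from b).1,
    (show Idx B L from a).2 ∪ (show Idx B L from b).2),
    ⟨Finset.subset_union_left, Finset.subset_union_left⟩,
    ⟨Finset.subset_union_right, Finset.subset_union_right⟩⟩⟩

instance : Nonempty (Ix B L) := ⟨((∅, ∅) : Idx B L)⟩

variable (p B L) in
/-- The system of stages. -/
noncomputable def sys : Ix B L ⥤ PerfB p B where
  obj j := ⟨Under.mk (CommRingCat.ofHom (str p j)), perf_St j⟩
  map {i j} f := ObjectProperty.homMk (Under.homMk (CommRingCat.ofHom (PerfModel.trans p (show @LE.le (Idx B L) _ i j from leOfHom f)))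
    (CommRingCat.hom_ext (trans_str (leOfHom f))))
  map_id i := ext_hom (trans_refl (p := p) (i : Idx B L))
  map_comp {i j k} f g := ext_hom (trans_trans (p := p) (i := (i : Idx B L)) (j := (j : Idx B L)) (k := (k : Idx B L))
    (leOfHom f) (leOfHom g)).symm

variable [CharP L p] [PerfectRing L p]

lemma perfL : (p : L) = 0 ∧ Function.Bijective fun y : L => y ^ p :=
  ⟨CharP.cast_eq_zero L p, PerfectRing.bijective_frobenius (R := L) (p := p)⟩

variable (p B L) in
/-- The cocone of stages. -/
noncomputable def stageCocone : Cocone (sys p B L) where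
  pt := ⟨Under.mk (CommRingCat.ofHom (algebraMap B L)), show (p : L) = 0 ∧ Function.Bijective fun y : L => y ^ p from perfL⟩
  ι :=
    { app := fun j => ObjectProperty.homMk (Under.homMk (CommRingCat.ofHom (proj p j))
        (CommRingCat.hom_ext (proj_str j)))
      naturality := fun i j f => ext_hom (proj_trans (p := p) (i := (i : Idx B L)) (j := (j : Idx B L)) (leOfHom f)) }

section desc

variable (s : Cocone (sys p B L))

/-- The components of a cocone as ring maps. -/
noncomputable def leg (j : Idx B L) : ↥(St p j) →+* ↑s.pt.obj.right := evh (s.ι.app j)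

lemma s_trans {i j : Idx B L} (h : i ≤ j) (x : ↥(St p i)) :
    leg s j (PerfModel.trans p h x) = leg s i x :=
  RingHom.congr_fun (congrArg evh (s.w (homOfLE (show @LE.le (Ix B L) _ i j from h)))) x

/-- The underlying function of the descended map. -/
noncomputable def descFun (a : L) : ↑s.pt.obj.right := leg s (single B a) (gen p B a)

lemma descFun_eq {j : Idx B L} (q : ↥(St p j)) {a : L} (h : proj p j q = a) :
    descFun s a = leg s j q := by
  classical
  let k : Idx B L := ((single B a).1 ∪ j.1, (single B a).2 ∪ j.2)
  have h1 : single B a ≤ k := ⟨Finset.subset_union_left, Finset.subset_union_left⟩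
  have h2 : j ≤ k := ⟨Finset.subset_union_right, Finset.subset_union_right⟩
  obtain ⟨l, hl, h0⟩ := exists_trans_eq_zero (PerfModel.trans p h1 (gen p B a) - PerfModel.trans p h2 q) (by
    rw [map_sub, ← RingHom.comp_apply, proj_trans, proj_gen, ← RingHom.comp_apply, proj_trans, h,
      sub_self])
  have h3 := s_trans s hl (PerfModel.trans p h1 (gen p B a) - PerfModel.trans p h2 q)
  rw [h0, map_zero, map_sub, s_trans, s_trans] at h3
  exact sub_eq_zero.mp h3.symm

lemma exists_common (a b : L) : ∃ (j : Idx B L) (x y : ↥(St p j)), proj p j x = a ∧ proj p j y = b := by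
  classical
  let j : Idx B L := ((single B a).1 ∪ (single B b).1, (single B a).2 ∪ (single B b).2)
  have h1 : single B a ≤ j := ⟨Finset.subset_union_left, Finset.subset_union_left⟩
  have h2 : single B b ≤ j := ⟨Finset.subset_union_right, Finset.subset_union_right⟩
  exact ⟨j, PerfModel.trans p h1 (gen p B a), PerfModel.trans p h2 (gen p B b),
    (RingHom.congr_fun (proj_trans h1) _).trans (proj_gen a),
    (RingHom.congr_fun (proj_trans h2) _).trans (proj_gen b)⟩

/-- The descended ring map. -/
noncomputable def descHom : L →+* s.pt.obj.right where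
  toFun := descFun s
  map_one' := by rw [descFun_eq s (1 : ↥(St p (∅, ∅))) (map_one _), map_one]
  map_zero' := by rw [descFun_eq s (0 : ↥(St p (∅, ∅))) (map_zero _), map_zero]
  map_mul' a b := by
    obtain ⟨j, x, y, hx, hy⟩ := exists_common (p := p) (B := B) a b
    rw [descFun_eq s (x * y) (by rw [map_mul, hx, hy]), map_mul, ← descFun_eq s x hx,
      ← descFun_eq s y hy]
  map_add' a b := by
    obtain ⟨j, x, y, hx, hy⟩ := exists_common (p := p) (B := B) a b
    rw [descFun_eq s (x + y) (by rw [map_add, hx, hy]), map_add, ← descFun_eq s x hx,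
      ← descFun_eq s y hy]

lemma descHom_apply (a : L) : descHom s a = descFun s a := rfl

lemma descHom_comp (j : Idx B L) : (descHom s).comp (proj p j) = leg s j := by
  refine RingHom.ext fun x => ?_
  rw [RingHom.comp_apply, descHom_apply, descFun_eq s x (a := proj p j x) (Eq.refl _)]

lemma descHom_algebraMap : (descHom s).comp (algebraMap B L) = s.pt.obj.hom.hom := by
  rw [← proj_str (p := p) ((∅, ∅) : Idx B L), ← RingHom.comp_assoc, descHom_comp]
  exact congrArg CommRingCat.Hom.hom (Under.w (s.ι.app ((∅, ∅) : Idx B L)).hom)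

end desc

variable (p B L) in
/-- The perfect algebra is the colimit of its stages. -/
noncomputable def isColimitStages : IsColimit (stageCocone p B L) where
  desc s := ObjectProperty.homMk (Under.homMk (CommRingCat.ofHom (descHom s))
    (CommRingCat.hom_ext (descHom_algebraMap s)))
  fac s j := ext_hom (descHom_comp s j)
  uniq s m hm := ext_hom (RingHom.ext fun (a : L) => by
    show evh m a = descHom s a
    rw [← proj_gen (p := p) (B := B) a]
    refine (RingHom.congr_fun (congrArg evh (hm (single B a))) (gen p B a)).trans ?_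
    exact (RingHom.congr_fun (descHom_comp s (single B a)) (gen p B a)).symm)

lemma hom_pn {R S : Type*} [CommRing R] [CommRing S] (hS : (p : S) = 0) (φ : R →+* S) (n : ℕ) :
    ∃ ψ : R →+* S, ∀ x, ψ x = φ x ^ p ^ n :=
  ⟨{ toFun := fun x => φ x ^ p ^ n
     map_one' := by simp
     map_zero' := by simp [zero_pow (pow_ne_zero _ hp.out.ne_zero)]
     map_mul' := fun x y => by simp [mul_pow]
     map_add' := fun x y => by simp [add_pow_pn hS] }, fun _ => rfl⟩

/-- A retract of a stage has a finitely presented model. -/
lemma exists_model {j : Idx B L} (s : L →+* ↥(St p j))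
    (hs : (proj p j).comp s = RingHom.id L) (hsB : s.comp (algebraMap B L) = str p j) :
    ∃ (A₀ : Type u) (_ : CommRing A₀) (_ : Algebra B A₀) (_ : Algebra.FinitePresentation B A₀)
      (k : A₀ →+* L), k.comp (algebraMap B A₀) = algebraMap B L ∧ IsPRadical k p := by
  classical
  let σ := ↥(vset j)
  have hρ : ∀ f : MvPolynomial σ B, rho p j f =
      Ideal.Quotient.mk (irel p j) (ι (rename Subtype.val f)) := fun f => rfl
  -- the retraction on variables
  let ret : MvPolynomial L B →ₐ[B] MvPolynomial σ B :=
    aeval fun a => if h : a ∈ vset j then X ⟨a, h⟩ else 0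
  have hret : ∀ f : MvPolynomial σ B, ret (rename Subtype.val f) = f := by
    intro f
    have : ret.comp (rename Subtype.val) = AlgHom.id B _ := algHom_ext fun a => by simp [ret]
    exact AlgHom.congr_fun this f
  let U : Finset (MvPolynomial σ B) := j.2.image fun u => ret u.1
  have hker : ∀ f : MvPolynomial σ B, rho p j f = 0 → f ∈ (Ideal.span (U : Set (MvPolynomial σ B))).radical := by
    intro f hf
    rw [hρ, Ideal.Quotient.eq_zero_iff_mem] at hf
    obtain ⟨k, hk⟩ := mem_radical_of_ι_mem hf
    refine ⟨k, ?_⟩
    have h1 : ret (rename Subtype.val f ^ k) ∈ (rels j).map ret.toRingHom :=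
      Ideal.mem_map_of_mem _ hk
    rw [map_pow, hret, rels, Ideal.map_span, ← Set.image_comp] at h1
    convert h1 using 3
    simp [U]
  -- uniform exponent and lifts of the idempotent
  let x : σ → ↥(St p j) := fun a => ⟨rho p j (X a), mem_St_of_range ⟨_, rfl⟩⟩
  let e : ↥(St p j) →+* ↥(St p j) := s.comp (proj p j)
  have hex : ∀ a : σ, ∃ n, (e (x a)).1 ^ p ^ n ∈ (rho p j).range := fun a => (e (x a)).2
  choose nf hnf using hex
  let n := Finset.univ.sup nf
  have hg : ∀ a : σ, ∃ g, rho p j g = (e (x a)).1 ^ p ^ n := fun a => by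
    obtain ⟨d, hd⟩ := Nat.exists_eq_add_of_le (Finset.le_sup (f := nf) (Finset.mem_univ a))
    show (e (x a)).1 ^ p ^ n ∈ (rho p j).range
    rw [show n = nf a + d from hd, pow_add, pow_mul]
    exact Subring.pow_mem _ (hnf a) _
  choose g hg using hg
  let V : Finset (MvPolynomial σ B) := Finset.univ.image fun a => X a ^ p ^ n - g a
  let I : Ideal (MvPolynomial σ B) := Ideal.span ((U ∪ V : Finset (MvPolynomial σ B)) : Set _)
  have hfp : Algebra.FinitePresentation B (MvPolynomial σ B ⧸ I) :=
    Algebra.FinitePresentation.quotient ⟨U ∪ V, rfl⟩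
  let kk : MvPolynomial σ B →ₐ[B] L := aeval Subtype.val
  have hkk : ∀ f, kk f = proj p j ⟨rho p j f, mem_St_of_range ⟨f, rfl⟩⟩ := by
    intro f
    rw [proj_apply]
    show _ = Ideal.Quotient.lift (irel p j) (theta p) _ (Ideal.Quotient.mk _ (ι (rename Subtype.val f)))
    rw [Ideal.Quotient.lift_mk, theta_ι]
    show aeval Subtype.val f = aeval id (rename Subtype.val f)
    rw [aeval_rename]
    rfl
  have hpe : ∀ q, proj p j (e q) = proj p j q := fun q => RingHom.congr_fun hs (proj p j q)
  have hI : ∀ f ∈ I, kk f = 0 := by
    intro f hf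
    refine (Ideal.span_le.mpr ?_ : I ≤ RingHom.ker kk) hf
    intro y hy
    rcases Finset.mem_union.mp hy with hy | hy
    · obtain ⟨u, hu, rfl⟩ := Finset.mem_image.mp hy
      have hu' : u.1.vars ⊆ vset j := vars_subset_vset hu
      obtain ⟨u', hu''⟩ := exists_rename_eq_of_vars_subset_range u.1 (Subtype.val : σ → L)
        Subtype.val_injective (by simpa [σ] using hu')
      show kk (ret u.1) = 0
      rw [← hu'', hret]
      show aeval Subtype.val u' = 0
      have h0 : ev (B := B) u.1 = 0 := u.2
      rw [← hu'', aeval_rename] at h0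
      exact h0
    · obtain ⟨a, -, rfl⟩ := Finset.mem_image.mp hy
      show kk (X a ^ p ^ n - g a) = 0
      rw [map_sub, map_pow, sub_eq_zero, hkk (g a), hkk (X a)]
      show proj p j (x a) ^ p ^ n = _
      rw [← hpe (x a), ← map_pow]
      exact congrArg (proj p j) (Subtype.ext ((SubmonoidClass.coe_pow _ _).trans (hg a).symm))
  refine ⟨MvPolynomial σ B ⧸ I, inferInstance, inferInstance, hfp,
    (Ideal.Quotient.liftₐ I kk hI).toRingHom,
    RingHom.ext fun b => (Ideal.Quotient.liftₐ I kk hI).commutes b, ⟨fun a => ?_, fun f hf => ?_⟩⟩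
  · obtain ⟨m, f, hf⟩ := (s a).2
    refine ⟨m, Ideal.Quotient.mk I f, ?_⟩
    show kk f = _
    rw [hkk, show a = proj p j (s a) from (RingHom.congr_fun hs a).symm, ← map_pow]
    exact congrArg (proj p j) (Subtype.ext (hf.trans (SubmonoidClass.coe_pow _ _).symm))
  · obtain ⟨f, rfl⟩ := Ideal.Quotient.mk_surjective f
    have hf0 : kk f = 0 := hf
    rw [pNilradical_eq_nilradical hp.out.one_lt, mem_nilradical]
    have hA0 : (p : MvPolynomial σ B ⧸ I) = 0 := natCast_zero_of (algebraMap B _) (CharP.cast_eq_zero B p)
    obtain ⟨φ, hφ⟩ := hom_pn hA0 (Ideal.Quotient.mk I) n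
    obtain ⟨cp, hcp⟩ := hom_pn (CharP.cast_eq_zero B p) (RingHom.id B) n
    let ψ : MvPolynomial σ B →+* MvPolynomial σ B := eval₂Hom (C.comp cp) g
    have h1 : φ = (Ideal.Quotient.mk I).comp ψ := by
      refine ringHom_ext (fun b => ?_) (fun a => ?_)
      · simp [hφ, ψ, hcp]
      · simp only [hφ, RingHom.comp_apply, ψ, eval₂Hom_X', ← map_pow]
        exact (Ideal.Quotient.mk_eq_mk_iff_sub_mem _ _).mpr (Ideal.subset_span
          (Finset.mem_union_right _ (Finset.mem_image_of_mem (fun a => X a ^ p ^ n - g a) (Finset.mem_univ a))))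
    obtain ⟨χ, hχ⟩ := hom_pn (perf_St j).1 (s.comp kk.toRingHom) n
    have h2 : ((St p j).subtype).comp χ = (rho p j).comp ψ := by
      refine ringHom_ext (fun b => ?_) (fun a => ?_)
      · simp only [RingHom.comp_apply, hχ, ψ, eval₂Hom_C, AlgHom.toRingHom_eq_coe,
          RingHom.coe_coe]
        rw [show kk (C b) = algebraMap B L b from kk.commutes b,
          show s (algebraMap B L b) = str p j b from RingHom.congr_fun hsB b, hcp]
        simp only [RingHom.id_apply, map_pow]
        rfl
      · simp only [RingHom.comp_apply, hχ, ψ, eval₂Hom_X']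
        rw [hg a, map_pow]
        show (s (kk (X a))).1 ^ p ^ n = (s (proj p j (x a))).1 ^ p ^ n
        rw [hkk (X a)]
    have h3 : rho p j (ψ f) = 0 := by
      rw [← RingHom.comp_apply, ← h2, RingHom.comp_apply, hχ, RingHom.comp_apply]
      show (s (kk f) ^ p ^ n : ↥(St p j)).1 = 0
      rw [hf0, map_zero, zero_pow (pow_ne_zero _ hp.out.ne_zero)]
      rfl
    obtain ⟨k, hk⟩ := hker _ h3
    refine ⟨p ^ n * k, ?_⟩
    rw [pow_mul, ← hφ, h1, RingHom.comp_apply, ← map_pow, Ideal.Quotient.eq_zero_iff_mem]
    exact Ideal.span_mono (fun y hy => Finset.mem_union_left _ hy) hk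

end aux

/-- Let p be a prime, B a perfect ring of characteristic p and A a perfect B-algebra (p = 0 in A and the
p-th power map of A is bijective). Suppose A is a finitely presentable object of the category of
perfect B-algebras (the full subcategory of B-algebras on the perfect ones): B-algebra maps from A
into a filtered colimit of perfect B-algebras factor through some term of the system, uniquely after
passing to a later term. Then A is perfectly finitely presented over B: there are a finitely
presented B-algebra A₀ and a B-algebra homomorphism k : A₀ → A which exhibits A as a perfect closure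
of A₀ (every element of A has some p^n-th power in the image of k, and every element of the kernel
of k is nilpotent). (The published statement is the equivalence, for morphisms of quasi-compact
quasi-separated perfect schemes, of perfect finite presentation with a compactness condition ranging
over cofiltered systems of perfect schemes with affine transition maps; this row is the case of
affine schemes with the compactness condition tested on affine systems only, which is all the
published argument uses.) -/
theorem result (p : ℕ) [Fact p.Prime] (B : CommRingCat.{u})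
    [CharP B p] [PerfectRing B p]
    (A : ObjectProperty.FullSubcategory fun Y : Under B => (p : Y.right) = 0 ∧ Function.Bijective fun y : Y.right => y ^ p)
    [IsFinitelyPresentable.{u} A] :
    ∃ (A₀ : Type u) (_ : CommRing A₀) (_ : Algebra B A₀) (_ : Algebra.FinitePresentation B A₀)
      (k : A₀ →+* A.obj.right), k.comp (algebraMap B A₀) = A.obj.hom.hom ∧ IsPRadical k p := by
  letI : Algebra B A.obj.right := A.obj.hom.hom.toAlgebra
  rcases subsingleton_or_nontrivial A.obj.right with hA | hA
  · refine ⟨B ⧸ (⊤ : Ideal B), inferInstance, inferInstance,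
      Algebra.FinitePresentation.quotient ⟨{1}, by simp⟩,
      Ideal.Quotient.lift ⊤ A.obj.hom.hom (fun _ _ => Subsingleton.elim _ _), ?_, ?_⟩
    · exact RingHom.ext fun b => Subsingleton.elim _ _
    · refine ⟨fun x => ⟨0, 0, Subsingleton.elim _ _⟩, fun y _ => ?_⟩
      rw [show y = 0 from Subsingleton.elim _ _]
      exact zero_mem _
  · have : CharP A.obj.right p := (CharP.charP_iff_prime_eq_zero (Fact.out : p.Prime)).mpr A.property.1
    have : PerfectRing A.obj.right p := ⟨A.property.2⟩
    let c := stageCocone p B A.obj.right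
    let f : A ⟶ c.pt := ObjectProperty.homMk (Under.homMk (𝟙 A.obj.right) (CategoryTheory.Category.comp_id _))
    obtain ⟨j, q, hq⟩ := IsFinitelyPresentable.exists_hom_of_isColimit (isColimitStages p B A.obj.right) f
    obtain ⟨A₀, i₁, i₂, i₃, k, hk, hk'⟩ := exists_model (j := j) (evh q)
      (congrArg evh hq) (congrArg CommRingCat.Hom.hom (Under.w q.hom))
    exact ⟨A₀, i₁, i₂, i₃, k, hk, hk'⟩

end Groth.Agent.S14261
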