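import Groth.Statements.S14262
import Mathlib.RingTheory.Flat.EquationalCriterion
import Mathlib.Tactic.Ring


set_option autoImplicit false
universe u
open FrobAlg

namespace Groth.Agent.S14262

/-- Let p be a prime, A a perfect ring of characteristic p and f ∈ A. The radical of the principal ideal
(f) — equivalently the ideal generated by all p^n-th roots of f, n ≥ 0 — is a flat A-module. -/
theorem result (p : ℕ) [Fact p.Prime] (A : Type u) [CommRing A]
    [CharP A p] [PerfectRing A p] (f : A) :
    Module.Flat A ((Ideal.span {f}).radical) := by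
  have hp := (Fact.out : p.Prime)
  let g : ℕ → A := fun n => (iterateFrobeniusEquiv A p n).symm f
  have hg : ∀ n, g n ^ p ^ n = f := fun n => by
    rw [← iterateFrobenius_def, ← iterateFrobeniusEquiv_apply, RingEquiv.apply_symm_apply]
  have hgs : ∀ n, g (n + 1) ^ p = g n := fun n => by
    apply (iterateFrobeniusEquiv A p n).injective
    simp only [iterateFrobeniusEquiv_apply, iterateFrobenius_def, hg, ← pow_mul, ← pow_succ']
  have hle : ∀ n m, n ≤ m → g n ∈ Ideal.span {g m} := by
    intro n m h
    induction h with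
    | refl => exact Ideal.mem_span_singleton_self _
    | step h ih =>
      rename_i m
      refine Ideal.span_le.2 (Set.singleton_subset_iff.2 ?_) ih
      rw [← hgs m]
      exact Ideal.pow_mem_of_mem _ (Ideal.mem_span_singleton_self _) p hp.pos
  have hmem : ∀ n, g n ∈ (Ideal.span {f}).radical := fun n => ⟨p ^ n, by rw [hg]; exact Ideal.mem_span_singleton_self _⟩
  have hrep : ∀ x ∈ (Ideal.span {f}).radical, ∃ n, x ∈ Ideal.span {g n} := by
    rintro x ⟨t, ht⟩
    obtain ⟨c, hc⟩ := Ideal.mem_span_singleton'.1 ht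
    refine ⟨t, ?_⟩
    obtain ⟨s, hs⟩ := Nat.exists_eq_add_of_le (Nat.lt_pow_self hp.one_lt (n := t)).le
    have : x = (iterateFrobeniusEquiv A p t).symm (c * x ^ s) * g t := by
      rw [← map_mul, RingEquiv.eq_symm_apply, iterateFrobeniusEquiv_apply, iterateFrobenius_def, hs, pow_add, ← hc]
      ring
    rw [this]
    exact Ideal.mul_mem_left _ _ (Ideal.mem_span_singleton_self _)
  refine Module.Flat.of_forall_isTrivialRelation fun {l r x} hx => ?_
  choose N hN using fun k => hrep _ (x k).2
  have hN' : ∀ k, ∃ a, a * g (Finset.univ.sup N) = (x k : A) := fun k =>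
    Ideal.mem_span_singleton'.1 (Ideal.span_le.2 (Set.singleton_subset_iff.2 (hle _ _ (Finset.le_sup (Finset.mem_univ k)))) (hN k))
  choose a ha using hN'
  set n := Finset.univ.sup N
  have h0 : (∑ k, r k * a k) * g n = 0 := by
    rw [Finset.sum_mul]
    have := congrArg Subtype.val hx
    simpa [mul_assoc, ha, smul_eq_mul] using this
  have h1 : (∑ k, r k * a k) * g (n + 1) ^ (p - 1) = 0 := by
    set s := ∑ k, r k * a k
    have : (iterateFrobeniusEquiv A p 1).symm s * g (n + 1) = 0 := by
      apply (iterateFrobeniusEquiv A p 1).injective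
      rw [map_mul, RingEquiv.apply_symm_apply, map_zero, iterateFrobeniusEquiv_apply, iterateFrobenius_def, pow_one, hgs, h0]
    have hs : s = (iterateFrobeniusEquiv A p 1).symm s ^ p := by
      conv_lhs => rw [← (iterateFrobeniusEquiv A p 1).apply_symm_apply s, iterateFrobeniusEquiv_apply, iterateFrobenius_def, pow_one]
    obtain ⟨q, hq⟩ : ∃ q, p = q + 2 := Nat.exists_eq_add_of_le' hp.two_le
    rw [hs]
    generalize (iterateFrobeniusEquiv A p 1).symm s = w at this ⊢
    calc w ^ p * g (n + 1) ^ (p - 1) = (w * g (n + 1)) ^ (p - 1) * w ^ (p - (p - 1)) := by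
          rw [mul_pow, mul_comm (w ^ (p - 1)), mul_assoc, ← pow_add, Nat.add_sub_cancel' (Nat.sub_le p 1), mul_comm]
      _ = 0 := by rw [this, zero_pow (by omega), zero_mul]
  refine ⟨1, fun k _ => a k * g (n + 1) ^ (p - 1), fun _ => ⟨g (n + 1), hmem _⟩, fun k => ?_, fun _ => ?_⟩
  · refine Subtype.ext ?_
    simp only [Fin.sum_univ_one, Submodule.coe_smul, smul_eq_mul]
    rw [mul_assoc, ← pow_succ, Nat.sub_add_cancel hp.one_le, hgs, ha]
  · simp_rw [← mul_assoc, ← Finset.sum_mul]
    exact h1

end Groth.Agent.S14262
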