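import Groth.Statements.S14269
import Groth.Agent.FEtCat.VdimPieces
import Groth.Agent.FEtCat.Full
import Groth.Agent.FEtCat.PurityQuot
import Groth.Agent.S0239
import Groth.Agent.RegLoc.CompleteTrans
-- import your own Groth.Agent.* helpers here

set_option backward.isDefEq.respectTransparency.types false

set_option autoImplicit false
universe u
open Pi1

namespace Groth.Agent.S14269

open CategoryTheory CategoryTheory.Limits AlgebraicGeometry IsLocalRing Topology

/-- Clopen subsets of a cover and of its restriction to the punctured spectrum. -/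
theorem clopen_descent (A : Type u) [CommRing A] [IsNoetherianRing A] [IsLocalRing A]
    (S : Type u) [CommRing S] [IsRegularLocalRing S] [IsAdicComplete (maximalIdeal S) S]
    (d : ℕ) (hd : ringKrullDim S = d) (s : Finset S) (hs : s.card + 2 ≤ d)
    (e : AdicCompletion (maximalIdeal A) A ≃+* S ⧸ Ideal.span (s : Set S)) :
    (FEtCat.Full.ClopenInj (FEt.puncturedSpec A).ι ∧ FEtCat.Full.ClopenSurj (FEt.puncturedSpec A).ι) ∧
      ConnectedSpace ↥(FEt.puncturedSpec A : Scheme.{u}) := by
  classical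
  set m := maximalIdeal A
  set I := Ideal.span (s : Set S)
  letI : Field (A ⧸ m) := Ideal.Quotient.field _
  have hfg : m.FG := m.fg_of_isNoetherianRing
  let Ah := AdicCompletion m A
  haveI : IsNoetherianRing Ah := RegLoc.AdicNoeth.isNoetherianRing_adicCompletion m hfg
  let π : Ah →+* A ⧸ m := (AdicCompletion.evalOneₐ m).toRingHom
  have hπ : Function.Surjective π := AdicCompletion.evalOneₐ_surjective m
  have hker : RingHom.ker π = m.map (algebraMap A Ah) := AdicCompletion.ker_evalOneₐ_eq_map m hfg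
  have hcomp : π.comp (algebraMap A Ah) = Ideal.Quotient.mk m := AdicCompletion.evalOneₐ_comp_algebraMap_eq_mk m
  haveI : Nontrivial Ah := π.domain_nontrivial
  have hI : I ≠ ⊤ := fun h => by
    haveI : Subsingleton (S ⧸ I) := Ideal.Quotient.subsingleton_iff.mpr h
    exact not_subsingleton Ah e.toEquiv.subsingleton
  haveI : Nontrivial (S ⧸ I) := Ideal.Quotient.nontrivial_iff.mpr hI
  haveI : IsLocalRing (S ⧸ I) := IsLocalRing.of_surjective' _ Ideal.Quotient.mk_surjective
  haveI : IsLocalHom (Ideal.Quotient.mk I) := IsLocalHom.of_surjective _ Ideal.Quotient.mk_surjective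
  haveI : IsLocalRing Ah := e.symm.isLocalRing
  let φ : A →+* S ⧸ I := e.toRingHom.comp (algebraMap A Ah)
  let ρ : S ⧸ I →+* A ⧸ m := π.comp e.symm.toRingHom
  have hρφ : ρ.comp φ = Ideal.Quotient.mk m := by
    rw [← hcomp]; ext a; simp [ρ, φ]
  have hρ : Function.Surjective ρ := hπ.comp e.symm.surjective
  have hρker : RingHom.ker ρ = maximalIdeal (S ⧸ I) :=
    IsLocalRing.eq_maximalIdeal (RingHom.ker_isMaximal_of_surjective (R := S ⧸ I) ρ hρ)
  have hπker : RingHom.ker π = maximalIdeal Ah :=
    IsLocalRing.eq_maximalIdeal (RingHom.ker_isMaximal_of_surjective (R := Ah) π hπ)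
  haveI : IsLocalHom (algebraMap A Ah) := ((local_hom_TFAE (algebraMap A Ah)).out 2 0).mp
    (hker.ge.trans hπker.le)
  haveI : Module.FaithfullyFlat A Ah := Module.FaithfullyFlat.of_flat_of_isLocalHom
  have hφff : φ.FaithfullyFlat := by
    show (e.toRingHom.comp (algebraMap A Ah)).FaithfullyFlat
    refine RingHom.FaithfullyFlat.stableUnderComposition _ _ ?_ ?_
    · exact RingHom.faithfullyFlat_algebraMap_iff.mpr inferInstance
    · exact RingHom.FaithfullyFlat.of_bijective e.bijective
  let g : Spec (CommRingCat.of (S ⧸ I)) ⟶ Spec (CommRingCat.of A) := Spec.map (CommRingCat.ofHom φ)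
  haveI : Flat g := (HasRingHomProperty.Spec_iff (P := @Flat)).mpr hφff.flat
  haveI : Surjective g := ⟨(RingHom.FaithfullyFlat.iff_flat_and_comap_surjective.mp hφff).2⟩
  let s₀ : Spec (CommRingCat.of (S ⧸ I)) ⟶ Spec (CommRingCat.of S) :=
    Spec.map (CommRingCat.ofHom (Ideal.Quotient.mk I))
  let ĵ : Spec (CommRingCat.of (A ⧸ m)) ⟶ Spec (CommRingCat.of (S ⧸ I)) := Spec.map (CommRingCat.ofHom ρ)
  haveI : IsClosedImmersion (ĵ ≫ g) := by
    rw [← Spec.map_comp, ← CommRingCat.ofHom_comp, hρφ]
    exact IsClosedImmersion.spec_of_surjective _ Ideal.Quotient.mk_surjective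
  -- the closed point
  have hclosed : ∀ p : Spec (CommRingCat.of (S ⧸ I)), g p = closedPoint A ↔ p = closedPoint (S ⧸ I) := by
    intro p
    constructor
    · intro hp
      refine PrimeSpectrum.ext (le_antisymm (le_maximalIdeal p.isPrime.ne_top) ?_)
      intro x hx
      have h1 : m ≤ p.asIdeal.comap φ := (congrArg PrimeSpectrum.asIdeal hp).ge
      have h2 : e.symm x ∈ m.map (algebraMap A Ah) := by
        rw [← hker, RingHom.mem_ker]
        exact RingHom.mem_ker.mp (hρker.ge hx)
      have h3 := Ideal.mem_map_of_mem e.toRingHom h2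
      rw [Ideal.map_map] at h3
      have h4 := Ideal.map_le_iff_le_comap.mpr h1 h3
      rwa [show e.toRingHom (e.symm x) = x from e.apply_symm_apply x] at h4
    · rintro rfl
      refine PrimeSpectrum.ext (IsLocalRing.eq_maximalIdeal ?_)
      show ((maximalIdeal (S ⧸ I)).comap φ).IsMaximal
      rw [← hρker, RingHom.comap_ker, hρφ, Ideal.mk_ker]
      exact maximalIdeal.isMaximal A
  have hĵ : ∀ p, p = closedPoint (S ⧸ I) → p ∈ Set.range ĵ := fun p hp => by
    refine (range_comap_of_surjective _ _ hρ).ge ?_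
    rw [hp, PrimeSpectrum.mem_zeroLocus, SetLike.coe_subset_coe]
    exact hρker.le
  haveI : (FEt.restrict s₀).IsEquivalence :=
    haveI : HenselianRing S I := by
      haveI : IsAdicComplete I S := RegLoc.CompleteTrans.isAdicComplete_of_le (J := I) (le_maximalIdeal hI)
      infer_instance
    S0239.result S I
  constructor
  swap
  · -- connectedness
    have hc := FEtCat.VdimPieces.isConnected_base d hd s hs hI
    have hemb := PrimeSpectrum.isClosedEmbedding_comap_of_surjective (S ⧸ I) (Ideal.Quotient.mk I) Ideal.Quotient.mk_surjective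
    have hset : PrimeSpectrum.comap (Ideal.Quotient.mk I) '' {p | p ≠ closedPoint (S ⧸ I)} =
        {x : PrimeSpectrum S | I ≤ x.asIdeal ∧ x.asIdeal ≠ maximalIdeal S} := by
      ext x
      constructor
      · rintro ⟨p, hp, rfl⟩
        refine ⟨fun a ha => ?_, fun h => hp (hemb.injective ?_)⟩
        · show Ideal.Quotient.mk I a ∈ p.asIdeal
          rw [Ideal.Quotient.eq_zero_iff_mem.mpr ha]; exact p.asIdeal.zero_mem
        · rw [IsLocalRing.comap_closedPoint]
          exact PrimeSpectrum.ext h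
      · rintro ⟨hx, hxm⟩
        obtain ⟨p, rfl⟩ : x ∈ Set.range (PrimeSpectrum.comap (Ideal.Quotient.mk I)) := by
          rw [range_comap_of_surjective _ _ Ideal.Quotient.mk_surjective, Ideal.mk_ker,
            PrimeSpectrum.mem_zeroLocus]
          exact hx
        exact ⟨p, fun h => hxm (by rw [h, IsLocalRing.comap_closedPoint]; rfl), rfl⟩
    have hR : _root_.IsConnected {p : Spec (CommRingCat.of (S ⧸ I)) | p ≠ closedPoint (S ⧸ I)} := by
      refine ⟨(Set.image_nonempty.mp (hset ▸ hc.nonempty)), hemb.isInducing.isPreconnected_image.mp ?_⟩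
      exact (congrArg _root_.IsPreconnected hset).mpr hc.isPreconnected
    have himg : g '' {p | p ≠ closedPoint (S ⧸ I)} = (FEt.puncturedSpec A : Set (Spec (CommRingCat.of A))) := by
      ext y
      obtain ⟨p, rfl⟩ := g.surjective y
      exact ⟨fun ⟨q, hq, hqe⟩ h => hq ((hclosed q).mp (hqe.trans h)),
        fun h => ⟨p, fun h' => h ((hclosed p).mpr h'), rfl⟩⟩
    exact isConnected_iff_connectedSpace.mp (himg ▸ hR.image g g.continuous.continuousOn)
  -- the covers
  have main : ∀ Y : FEt.Cat (Spec (CommRingCat.of A)),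
      (∀ W : Set (pullback Y.hom g : Scheme.{u}), IsClopen W →
        W ⊆ pullback.snd Y.hom g ⁻¹' {closedPoint (S ⧸ I)} → W = ∅) ∧
      ∀ W' : Set ↥((pullback.snd Y.hom g ⁻¹' {closedPoint (S ⧸ I)})ᶜ : Set (pullback Y.hom g : Scheme.{u})),
        IsClopen W' → ∃ W, IsClopen W ∧ Subtype.val ⁻¹' W = W' := by
    intro Y
    obtain ⟨Y', ⟨ε⟩⟩ : ∃ Y', Nonempty ((FEt.restrict s₀).obj Y' ≅ (FEt.restrict g).obj Y) :=
      ⟨_, ⟨Functor.objObjPreimageIso _ _⟩⟩
    haveI : IsFinite Y'.hom := Y'.prop.1
    haveI : Etale Y'.hom := Y'.prop.2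
    haveI : IsAffine Y'.left := isAffine_of_isAffineHom (Y := Spec (CommRingCat.of S)) Y'.hom
    let B := Γ(Y'.left, ⊤)
    obtain ⟨ψ, hψ⟩ := Spec.map_surjective (Y'.left.isoSpec.inv ≫ Y'.hom)
    algebraize [ψ.hom]
    haveI : Module.Finite S B := (IsFinite.SpecMap_iff ψ).mp (hψ ▸ inferInstance)
    haveI : Algebra.Etale S B := RingHom.etale_algebraMap.mp ((HasRingHomProperty.Spec_iff (P := @Etale) (φ := ψ)).mp (hψ ▸ inferInstance))
    obtain ⟨n, C, hC, hcov, hpiece⟩ := FEtCat.VdimPieces.exists_pieces d hd s hs hI B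
    haveI : IsIso ε.inv.left := FEtCat.Basic.isIso_left ε.inv
    let j₁ : pullback Y.hom g ⟶ pullback Y'.hom s₀ := ε.inv.left
    haveI : IsIso j₁ := FEtCat.Basic.isIso_left ε.inv
    let j : pullback Y.hom g ⟶ Spec B := j₁ ≫ pullback.fst Y'.hom s₀ ≫ Y'.left.isoSpec.hom
    haveI : IsClosedImmersion s₀ := IsClosedImmersion.spec_of_surjective _ Ideal.Quotient.mk_surjective
    haveI : IsClosedImmersion (pullback.fst Y'.hom s₀) := inferInstance
    haveI : IsClosedImmersion j := inferInstance
    have hj : j ≫ Spec.map ψ = pullback.snd Y.hom g ≫ s₀ := by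
      rw [hψ]
      simp only [j, Category.assoc, Iso.hom_inv_id_assoc]
      erw [pullback.condition, ← Category.assoc]
      exact congrArg (· ≫ s₀) (MorphismProperty.Over.w ε.inv)
    have hjx : ∀ x, PrimeSpectrum.comap ψ.hom (j x) = PrimeSpectrum.comap (Ideal.Quotient.mk I) (pullback.snd Y.hom g x) :=
      fun x => by
        show (j ≫ Spec.map ψ) x = (pullback.snd Y.hom g ≫ s₀) x
        rw [hj]
    have hZ : ∀ x, pullback.snd Y.hom g x = closedPoint (S ⧸ I) ↔
        (j x).asIdeal.comap (algebraMap S B) = maximalIdeal S := fun x => by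
      constructor
      · intro hx
        have := hjx x
        rw [hx, IsLocalRing.comap_closedPoint] at this
        exact congrArg PrimeSpectrum.asIdeal this
      · intro hx
        refine (PrimeSpectrum.isClosedEmbedding_comap_of_surjective (S ⧸ I) (Ideal.Quotient.mk I)
          Ideal.Quotient.mk_surjective).injective ?_
        rw [← hjx, IsLocalRing.comap_closedPoint]
        exact PrimeSpectrum.ext hx
    have hrangej : ∀ y : Spec B, y ∈ Set.range j ↔ I.map (algebraMap S B) ≤ y.asIdeal := fun y => by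
      rw [Ideal.map_le_iff_le_comap]
      have h1 : PrimeSpectrum.comap ψ.hom y ∈ Set.range s₀ ↔ I ≤ y.asIdeal.comap (algebraMap S B) := by
        show _ ∈ Set.range (PrimeSpectrum.comap (Ideal.Quotient.mk I)) ↔ _
        rw [range_comap_of_surjective _ _ Ideal.Quotient.mk_surjective, Ideal.mk_ker,
          PrimeSpectrum.mem_zeroLocus]
        rfl
      rw [← h1]
      constructor
      · rintro ⟨x, rfl⟩
        exact ⟨_, (hjx x).symm⟩
      · rintro ⟨p, hp⟩
        have hy : Y'.hom (Y'.left.isoSpec.inv y) = s₀ p := by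
          rw [← Scheme.Hom.comp_apply, ← hψ]; exact hp.symm
        obtain ⟨w, hw, -⟩ := Scheme.Pullback.exists_preimage_pullback (Y'.left.isoSpec.inv y) p hy
        obtain ⟨x, rfl⟩ := j₁.surjective w
        refine ⟨x, ?_⟩
        simp only [j, Scheme.Hom.comp_apply]
        erw [hw, ← Scheme.Hom.comp_apply, Iso.inv_hom_id]
        rfl
    refine FEtCat.VdimPieces.clopen_extend _ (fun i => j ⁻¹' C i) (fun i => (hC i).preimage j.continuous)
      (fun x => hcov (j x)) (fun i => ?_) (fun z hz => ?_)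
    · rw [← j.isClosedEmbedding.isInducing.isPreconnected_image]
      refine (congrArg _root_.IsPreconnected ?_).mpr (hpiece i).1.isPreconnected
      ext y
      constructor
      · rintro ⟨x, ⟨hxC, hxZ⟩, rfl⟩
        exact ⟨hxC, (hrangej _).mp ⟨x, rfl⟩, fun h => hxZ ((hZ x).mpr h)⟩
      · rintro ⟨hyC, hyI, hym⟩
        obtain ⟨x, rfl⟩ := (hrangej y).mpr hyI
        exact ⟨x, ⟨hyC, fun h => hym ((hZ x).mp h)⟩, rfl⟩
    · obtain ⟨i, hi⟩ := hcov (j z)
      obtain ⟨y, hyC, hyI, hym⟩ := (hpiece i).1.nonempty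
      obtain ⟨x, rfl⟩ := (hrangej y).mpr hyI
      exact ⟨x, fun h => hym ((hZ x).mp h), j.isClosedEmbedding.isInducing.specializes_iff.mp
        ((hpiece i).2 _ hi ((hZ z).mp hz) _ hyC)⟩
  -- descent to `A`
  have key : ∀ Y : FEt.Cat (Spec (CommRingCat.of A)),
      (∀ z, Y.hom (pullback.fst Y.hom g z) = closedPoint A ↔
        pullback.snd Y.hom g z = closedPoint (S ⧸ I)) ∧
      IsQuotientMap (pullback.fst Y.hom g) ∧
      ∀ z z', pullback.fst Y.hom g z = pullback.fst Y.hom g z' →
        pullback.snd Y.hom g z = closedPoint (S ⧸ I) → z = z' := by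
    intro Y
    have hq : ∀ z, Y.hom (pullback.fst Y.hom g z) = g (pullback.snd Y.hom g z) := fun z => by
      rw [← Scheme.Hom.comp_apply, ← Scheme.Hom.comp_apply, pullback.condition]
    have hiff : ∀ z, Y.hom (pullback.fst Y.hom g z) = closedPoint A ↔
        pullback.snd Y.hom g z = closedPoint (S ⧸ I) := fun z => by rw [hq]; exact hclosed _
    refine ⟨hiff, Flat.isQuotientMap_of_surjective _, fun z z' hzz hz => ?_⟩
    have hz' : pullback.snd Y.hom g z' = closedPoint (S ⧸ I) := (hiff z').mp (hzz ▸ (hiff z).mpr hz)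
    let r := pullback.fst (pullback.snd Y.hom g) ĵ
    have hr : ∀ z, pullback.snd Y.hom g z = closedPoint (S ⧸ I) → z ∈ Set.range r := fun z hz => by
      rw [Scheme.Pullback.range_fst]
      exact hĵ _ hz
    obtain ⟨w, rfl⟩ := hr z hz
    obtain ⟨w', rfl⟩ := hr z' hz'
    congr 1
    let ι' := pullbackLeftPullbackSndIso Y.hom g ĵ
    have hfac : r ≫ pullback.fst Y.hom g = ι'.hom ≫ pullback.fst Y.hom (ĵ ≫ g) :=
      (pullbackLeftPullbackSndIso_hom_fst Y.hom g ĵ).symm
    refine ι'.hom.isOpenEmbedding.injective ((pullback.fst Y.hom (ĵ ≫ g)).isClosedEmbedding.injective ?_)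
    rw [← Scheme.Hom.comp_apply, ← Scheme.Hom.comp_apply, ← hfac, Scheme.Hom.comp_apply, Scheme.Hom.comp_apply]
    exact hzz
  have hrangeU : ∀ (Y : FEt.Cat (Spec (CommRingCat.of A))) (y : Y.left),
      y ∈ Set.range (pullback.fst Y.hom (FEt.puncturedSpec A).ι) ↔ Y.hom y ≠ closedPoint A := fun Y y => by
    rw [Scheme.Pullback.range_fst, Scheme.Opens.range_ι]
    rfl
  refine ⟨fun Y W hW hpre => ?_, fun Y W' hW' => ?_⟩
  · obtain ⟨hiff, hquot, -⟩ := key Y
    have h0 := (main Y).1 _ (hW.preimage (pullback.fst Y.hom g).continuous) fun z hz => by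
      by_contra hzZ
      obtain ⟨w, hw⟩ := (hrangeU Y _).mpr fun h => hzZ ((hiff z).mp h)
      exact Set.eq_empty_iff_forall_notMem.mp hpre w (show _ ∈ W from hw ▸ hz)
    rw [← Set.image_preimage_eq W hquot.surjective, h0, Set.image_empty]
  · obtain ⟨hiff, hquot, hinj⟩ := key Y
    let f' := pullback.fst Y.hom (FEt.puncturedSpec A).ι
    have hf' : IsOpenEmbedding f' := f'.isOpenEmbedding
    let r : ↥((pullback.snd Y.hom g ⁻¹' {closedPoint (S ⧸ I)})ᶜ : Set (pullback Y.hom g : Scheme.{u})) → Y.left :=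
      fun z => pullback.fst Y.hom g z
    have hr : ∀ z, r z ∈ Set.range f' := fun z => (hrangeU Y _).mpr fun h => z.2 ((hiff z.1).mp h)
    have hrc : Continuous r := (pullback.fst Y.hom g).continuous.comp continuous_subtype_val
    have hcompl : (r ⁻¹' (f' '' W'))ᶜ = r ⁻¹' (f' '' W'ᶜ) := by
      ext z
      obtain ⟨w, hw⟩ := hr z
      constructor
      · intro hz
        exact ⟨w, fun h => hz ⟨w, h, hw⟩, hw⟩
      · rintro ⟨v, hv, hve⟩ ⟨u', hu, hue⟩
        exact hv (hf'.injective (hve.trans hue.symm) ▸ hu)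
    obtain ⟨Wh, hWh, hWhr⟩ := (main Y).2 (r ⁻¹' (f' '' W'))
      ⟨⟨hcompl ▸ (hf'.isOpenMap _ hW'.1.isOpen_compl).preimage hrc⟩, (hf'.isOpenMap _ hW'.2).preimage hrc⟩
    have hsat : pullback.fst Y.hom g ⁻¹' (pullback.fst Y.hom g '' Wh) = Wh := by
      refine Set.Subset.antisymm (fun z ⟨z', hz', hzz⟩ => ?_) (Set.subset_preimage_image _ _)
      by_cases hz : pullback.snd Y.hom g z = closedPoint (S ⧸ I)
      · exact hinj z z' hzz.symm hz ▸ hz'
      · have hzn : pullback.snd Y.hom g z' ≠ closedPoint (S ⧸ I) := fun h =>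
          hz ((hiff z).mp (hzz ▸ (hiff z').mpr h))
        have h1 : (⟨z', hzn⟩ : ↥((pullback.snd Y.hom g ⁻¹' {closedPoint (S ⧸ I)})ᶜ : Set _)) ∈
            r ⁻¹' (f' '' W') := by rw [← hWhr]; exact hz'
        have h2 : (⟨z, hz⟩ : ↥((pullback.snd Y.hom g ⁻¹' {closedPoint (S ⧸ I)})ᶜ : Set _)) ∈
            r ⁻¹' (f' '' W') := by
          show pullback.fst Y.hom g z ∈ f' '' W'
          rw [← hzz]; exact h1
        rw [← hWhr] at h2
        exact h2
    refine ⟨_, hquot.isClopen_preimage.mp (by rw [hsat]; exact hWh), ?_⟩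
    ext w
    obtain ⟨z, hz⟩ := hquot.surjective (f' w)
    have hzn : pullback.snd Y.hom g z ≠ closedPoint (S ⧸ I) := fun h => by
      refine (hrangeU Y _).mp ⟨w, rfl⟩ ?_
      show Y.hom (f' w) = _
      rw [← hz]
      exact (hiff z).mpr h
    let z₀ : ↥((pullback.snd Y.hom g ⁻¹' {closedPoint (S ⧸ I)})ᶜ : Set (pullback Y.hom g : Scheme.{u})) := ⟨z, hzn⟩
    have e1 : z ∈ Wh ↔ f' w ∈ f' '' W' := by
      rw [← hz]
      exact Set.ext_iff.mp hWhr z₀
    have e2 : f' w ∈ pullback.fst Y.hom g '' Wh ↔ z ∈ Wh := by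
      rw [← hz]
      exact ⟨fun h => hsat.le h, fun h => ⟨z, h, rfl⟩⟩
    exact (e2.trans e1).trans hf'.injective.mem_set_image

open AlgebraicGeometry CategoryTheory CategoryTheory.Limits in
/-- Let A be a Noetherian local ring of virtual dimension at least 2, the virtual dimension being
expressed through a presentation of the adic completion of A as a quotient S/I of a complete regular
local ring S of Krull dimension d by an ideal I generated by a finite set of at most d - 2 elements.
Then the restriction functor from finite etale covers of Spec A to finite etale covers of the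
punctured spectrum is fully faithful, and the punctured spectrum is connected. (The published
statement also records the surjectivity of the induced map on etale fundamental groups, which is the
usual reformulation of full faithfulness and is not restated here.) -/
theorem result (A : Type u) [CommRing A] [IsNoetherianRing A] [IsLocalRing A]
    (S : Type u) [CommRing S] [IsRegularLocalRing S] [IsAdicComplete (IsLocalRing.maximalIdeal S) S]
    (d : ℕ) (hd : ringKrullDim S = d) (s : Finset S) (hs : s.card + 2 ≤ d)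
    (e : AdicCompletion (IsLocalRing.maximalIdeal A) A ≃+* S ⧸ Ideal.span (s : Set S)) :
    ((FEt.restrict (FEt.puncturedSpec A).ι).Full ∧ (FEt.restrict (FEt.puncturedSpec A).ι).Faithful) ∧
      ConnectedSpace ↥(FEt.puncturedSpec A : Scheme.{u}) := by
  obtain ⟨⟨h1, h2⟩, hc⟩ := clopen_descent A S d hd s hs e
  exact ⟨FEtCat.Full.full_faithful _ h1 h2, hc⟩

end Groth.Agent.S14269
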