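import Groth.Statements.S1427
import Groth.Agent.Wt.Bound
import Groth.Agent.Wt.Constr
-- import your own Groth.Agent.* helpers here

set_option autoImplicit false
universe u
open FlatMor

namespace Groth.Agent.S1427

open AlgebraicGeometry CategoryTheory Limits in
/-- Let f : X → Y be locally quasi-finite with X quasi-compact and w a weighting of f. Then the fibre
integral of w along f is bounded above and, if Y is nonempty, attains its maximum. -/
theorem result {X Y : Scheme.{u}} (f : X ⟶ Y) [LocallyQuasiFinite f] [LocallyOfFiniteType f] [CompactSpace ↑X] (w : ↑X → ℤ) (hw : MoreMor.IsWeighting f w) [Nonempty ↑Y] :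
    ∃ y₀ : Y, ∀ y : Y, MoreMor.fibreIntegral f w y ≤ MoreMor.fibreIntegral f w y₀ := by
  obtain ⟨d, hd⟩ := Wt.Bound.exists_bound_geomFib f
  -- the values of `w` are bounded on the quasi-compact space
  have hbw : ∃ M : ℕ, ∀ x, w x ≤ (M : ℤ) := by
    have : ∀ x : X, ∃ U : Set X, x ∈ U ∧ IsOpen U ∧ ∃ M : ℕ, ∀ x' ∈ U, w x' ≤ (M : ℤ) := fun x => by
      obtain ⟨X₀, hX₀, hx, -⟩ :=
        exists_isAffineOpen_mem_and_subset (TopologicalSpace.Opens.mem_top x)
      obtain ⟨M, hM⟩ := Wt.Constr.exists_bound_affine f hw X₀ hX₀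
      exact ⟨X₀, hx, X₀.2, M, fun x' hx' => hM ⟨x', hx'⟩⟩
    choose U hxU hU M hM using this
    obtain ⟨s, hs⟩ := isCompact_univ.elim_finite_subcover U hU
      fun x _ => Set.mem_iUnion.mpr ⟨x, hxU x⟩
    refine ⟨s.sup M, fun x' => ?_⟩
    obtain ⟨x, hx, hx'⟩ := Set.mem_iUnion₂.mp (hs (Set.mem_univ x'))
    exact (hM x x' hx').trans (by exact_mod_cast Finset.le_sup hx)
  obtain ⟨M, hM⟩ := hbw
  have hb : ∀ y : Y, MoreMor.fibreIntegral f w y ≤ ((d * M : ℕ) : ℤ) := fun y => by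
    obtain ⟨yb, hyb⟩ := Wt.GeomPts.exists_geomPt y
    have := (hd _ yb).1
    have : Finite {u : X // f u = Wt.GeomPts.pt yb} := Wt.GeomPts.finite_fibre f yb
    rw [← hyb, ← Wt.GeomPts.geomInt_eq_fibreIntegral f yb]
    cases nonempty_fintype (Wt.GeomPts.GeomFib f yb)
    unfold Wt.GeomPts.geomInt
    rw [finsum_eq_sum_of_fintype]
    refine (Finset.sum_le_card_nsmul _ _ (M : ℤ) fun x _ => hM _).trans ?_
    rw [Finset.card_univ, ← Nat.card_eq_fintype_card, nsmul_eq_mul]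
    have := (hd _ yb).2
    push_cast
    exact mul_le_mul_of_nonneg_right (by exact_mod_cast this) (by positivity)
  obtain ⟨m, ⟨y₀, hy₀⟩, hm⟩ := Int.exists_greatest_of_bdd (P := fun z => ∃ y, MoreMor.fibreIntegral f w y = z)
    ⟨_, fun z ⟨y, hy⟩ => hy ▸ hb y⟩ ⟨_, Classical.arbitrary Y, rfl⟩
  exact ⟨y₀, fun y => hy₀ ▸ hm _ ⟨y, rfl⟩⟩

end Groth.Agent.S1427
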