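import Groth.Statements.S14274
import Groth.Agent.TorsorClos.Hartogs
import Groth.Agent.GITLib.DedekindTorsor
import Groth.Agent.GITLib.RigidProper
import Groth.Agent.GITLib.TorsorSchMore

set_option autoImplicit false
universe u
open scoped CategoryTheory.Obj
open NonAbH1

namespace Groth.Agent.S14274

open CategoryTheory CategoryTheory.Limits MonoidalCategory CartesianMonoidalCategory MonObj AlgebraicGeometry Groth.Agent.GITLib Groth.Agent.TorsorClos

set_option linter.style.haveILetI false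
set_option maxHeartbeats 1000000

theorem isIso_restrict {X : Scheme.{u}} (U : X.Opens) [QuasiCompact U.ι]
    (hZ : ∀ z : X, z ∉ U → IsRegularLocalRing (X.presheaf.stalk z) ∧
      (2 : WithBot ℕ∞) ≤ ringKrullDim (X.presheaf.stalk z))
    (V : X.Opens) (hV : IsAffineOpen V) : IsIso (U.ι ∣_ V).appTop := by
  haveI : IsAffine V.toScheme := hV
  haveI : QuasiCompact (U.ι ∣_ V) :=
    MorphismProperty.of_isPullback (isPullback_morphismRestrict U.ι V).flip ‹QuasiCompact U.ι›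
  refine isIso_appTop_of_isOpenImmersion (U.ι ∣_ V) fun x hx => ?_
  have hxU : V.ι.base x ∉ U := by
    intro h
    refine hx ?_
    obtain ⟨y, hy, -⟩ := Scheme.exists_preimage_of_isPullback (isPullback_morphismRestrict U.ι V)
      x (⟨V.ι.base x, h⟩ : U) (by rfl)
    exact ⟨y, hy⟩
  obtain ⟨hreg, hdim⟩ := hZ _ hxU
  haveI := hreg
  let e := (asIso (V.ι.stalkMap x)).commRingCatIsoToRingEquiv
  refine ⟨isNoetherianRing_of_ringEquiv _ e, ?_⟩
  haveI := isNoetherianRing_of_ringEquiv _ e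
  rw [HartogsAffine.depth_congr_ringEquiv e]
  exact depth_ge_two_of_regular _ hdim

theorem body {X : Scheme.{u}} (G : Over X) [GrpObj G]
    [Flat G.hom]
    (U : X.Opens) [QuasiCompact U.ι]
    (hZ : ∀ z : X, z ∉ U → IsRegularLocalRing (X.presheaf.stalk z) ∧
      (2 : WithBot ℕ∞) ≤ ringKrullDim (X.presheaf.stalk z))
    (Q₁ Q₂ : Over X) (a₁ : AlgGrp.Action G Q₁) (a₂ : AlgGrp.Action G Q₂)
    [Flat Q₁.hom] [IsAffineHom Q₁.hom] [IsAffineHom Q₂.hom]
    (h' : (Over.pullback U.ι).obj Q₁ ⟶ (Over.pullback U.ι).obj Q₂)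
    (hh' : (Functor.LaxMonoidal.μ (Over.pullback U.ι) G Q₁ ≫ (Over.pullback U.ι).map a₁.act) ≫ h' =
      ((Over.pullback U.ι).obj G ◁ h') ≫
        (Functor.LaxMonoidal.μ (Over.pullback U.ι) G Q₂ ≫ (Over.pullback U.ι).map a₂.act)) :
    ∃! h : Q₁ ⟶ Q₂, a₁.act ≫ h = (G ◁ h) ≫ a₂.act ∧ (Over.pullback U.ι).map h = h' := by
  let ρ := U.ι
  haveI hSTD : IsSchemeTheoreticallyDominant ρ := by
    rw [isSchemeTheoreticallyDominant_iff]
    ext V : 2
    rw [Scheme.Hom.ker_apply, Scheme.IdealSheafData.ideal_bot, Pi.bot_apply,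
      ← RingHom.injective_iff_ker_eq_bot]
    haveI := isIso_restrict U hZ V.1 V.2
    exact (app_bijective_of_restrict ρ V.1 (ConcreteCategory.bijective_of_isIso _)).1
  have hext : ∀ {W : Over X} [Flat W.hom] {u v : W ⟶ Q₂},
      (Over.pullback ρ).map u = (Over.pullback ρ).map v → u = v := by
    intro W _ u v huv
    refine ext_generic ρ ?_
    apply ((Over.mapPullbackAdj ρ).homEquiv _ Q₂).injective
    rw [Adjunction.homEquiv_naturality_right, Adjunction.homEquiv_naturality_right, huv]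
  let f₀ : pullback Q₁.hom ρ ⟶ Q₂.left := h'.left ≫ pullback.fst Q₂.hom ρ
  haveI : IsSchemeTheoreticallyDominant (pullback.fst Q₁.hom ρ) := inferInstance
  -- over an affine open of the base
  have loc : ∀ V : X.affineOpens, ∃ g : (Q₁.hom ⁻¹ᵁ V.1 : Q₁.left.Opens).toScheme ⟶ Q₂.left,
      g ≫ Q₂.hom = (Q₁.hom ⁻¹ᵁ V.1).ι ≫ Q₁.hom ∧
      ∀ {T : Scheme.{u}} (a : T ⟶ pullback Q₁.hom ρ) (b : T ⟶ (Q₁.hom ⁻¹ᵁ V.1 : Q₁.left.Opens).toScheme),
        a ≫ pullback.fst Q₁.hom ρ = b ≫ (Q₁.hom ⁻¹ᵁ V.1).ι → b ≫ g = a ≫ f₀ := by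
    rintro ⟨V, hV⟩
    haveI : IsAffine V.toScheme := hV
    haveI : IsAffine (Q₂.hom ⁻¹ᵁ V).toScheme := hV.preimage Q₂.hom
    haveI : IsAffine (Q₁.hom ⁻¹ᵁ V).toScheme := hV.preimage Q₁.hom
    let fV := Q₁.hom ∣_ V
    let ρV := ρ ∣_ V
    haveI : Flat fV :=
      MorphismProperty.of_isPullback (isPullback_morphismRestrict Q₁.hom V).flip ‹Flat Q₁.hom›
    haveI : QuasiCompact ρV :=
      MorphismProperty.of_isPullback (isPullback_morphismRestrict ρ V).flip ‹QuasiCompact U.ι›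
    haveI : CompactSpace (ρ ⁻¹ᵁ V).toScheme := QuasiCompact.compactSpace_of_compactSpace ρV
    haveI : QuasiSeparatedSpace (ρ ⁻¹ᵁ V).toScheme := quasiSeparatedSpace_of_quasiSeparated ρV
    let r := pullback.fst fV ρV
    haveI hiso : IsIso r.appTop :=
      GITLib.Rigid.isIso_appTop_of_isPullback (IsPullback.of_hasPullback fV ρV).flip
        (isIso_restrict U hZ V hV)
    have hρV : ρV ≫ V.ι = (ρ ⁻¹ᵁ V).ι ≫ ρ := morphismRestrict_ι _ _
    have hfV : fV ≫ V.ι = (Q₁.hom ⁻¹ᵁ V).ι ≫ Q₁.hom := morphismRestrict_ι _ _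
    let m : pullback fV ρV ⟶ pullback Q₁.hom ρ :=
      pullback.lift (r ≫ (Q₁.hom ⁻¹ᵁ V).ι) (pullback.snd fV ρV ≫ (ρ ⁻¹ᵁ V).ι) (by
        rw [Category.assoc, Category.assoc, ← hρV, ← hfV]
        exact pullback.condition_assoc _)
    have hm₁ : IsPullback m r (pullback.fst Q₁.hom ρ) (Q₁.hom ⁻¹ᵁ V).ι := by
      refine IsPullback.of_right (h₁₂ := pullback.snd Q₁.hom ρ) (h₂₂ := Q₁.hom) (v₁₃ := ρ) ?_
        (pullback.lift_fst _ _ _) (IsPullback.of_hasPullback Q₁.hom ρ).flip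
      rw [pullback.lift_snd, ← hfV]
      exact ((IsPullback.of_hasPullback fV ρV).paste_vert (isPullback_morphismRestrict ρ V)).flip
    have hover : (m ≫ f₀) ≫ Q₂.hom = r ≫ fV ≫ V.ι := by
      simp only [f₀, Category.assoc, pullback.condition]
      rw [← Category.assoc h'.left]
      rw [show h'.left ≫ pullback.snd Q₂.hom ρ = pullback.snd Q₁.hom ρ from Over.w h',
        ← pullback.condition, pullback.lift_fst_assoc, hfV, Category.assoc]
    have hrange : Set.range (m ≫ f₀).base ⊆ Set.range (Q₂.hom ⁻¹ᵁ V).ι.base := by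
      rintro _ ⟨z, rfl⟩
      rw [Scheme.Opens.range_ι]
      show Q₂.hom ((m ≫ f₀) z) ∈ V
      rw [← Scheme.Hom.comp_apply, hover, ← Category.assoc, Scheme.Hom.comp_apply]
      exact ((r ≫ fV) z).2
    let fl := IsOpenImmersion.lift (Q₂.hom ⁻¹ᵁ V).ι (m ≫ f₀) hrange
    have hbij : ∀ (Y : Scheme.{u}) [IsAffine Y],
        Function.Bijective (fun g : (Q₁.hom ⁻¹ᵁ V).toScheme ⟶ Y => r ≫ g) := fun Y _ =>
      Rat20Lib.bijective_precomp r (ConcreteCategory.bijective_of_isIso r.appTop)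
    obtain ⟨g₀, hg₀⟩ := (hbij _).2 fl
    have hg₀V : g₀ ≫ Q₂.hom ∣_ V = fV := by
      apply (hbij V.toScheme).1
      show r ≫ g₀ ≫ Q₂.hom ∣_ V = r ≫ fV
      rw [← cancel_mono V.ι, reassoc_of% hg₀, Category.assoc, Category.assoc, morphismRestrict_ι,
        IsOpenImmersion.lift_fac_assoc, Category.assoc]
      exact (Category.assoc _ _ _).symm.trans hover
    refine ⟨g₀ ≫ (Q₂.hom ⁻¹ᵁ V).ι, ?_, fun {T} a b hab => ?_⟩
    · rw [Category.assoc, ← morphismRestrict_ι, reassoc_of% hg₀V, hfV]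
    · obtain ⟨l, hl₁, hl₂⟩ : ∃ l, l ≫ m = a ∧ l ≫ r = b :=
        ⟨hm₁.lift a b hab, hm₁.lift_fst _ _ _, hm₁.lift_snd _ _ _⟩
      rw [← hl₁, ← hl₂, Category.assoc, Category.assoc, reassoc_of% hg₀,
        IsOpenImmersion.lift_fac]
  choose g hgw hg using loc
  have hsup := iSup_affineOpens_eq_top X
  have hcov : TopologicalSpace.IsOpenCover (fun V : X.affineOpens => Q₁.hom ⁻¹ᵁ V.1) := by
    rw [TopologicalSpace.IsOpenCover, ← Scheme.Hom.preimage_iSup, hsup]
    rfl
  let 𝒰 := Q₁.left.openCoverOfIsOpenCover _ hcov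
  let hl : Q₁.left ⟶ Q₂.left := 𝒰.glueMorphisms g fun V V' => by
    let i := pullback.fst (Q₁.hom ⁻¹ᵁ V.1).ι (Q₁.hom ⁻¹ᵁ V'.1).ι
    let i' := pullback.snd (Q₁.hom ⁻¹ᵁ V.1).ι (Q₁.hom ⁻¹ᵁ V'.1).ι
    let c := i ≫ (Q₁.hom ⁻¹ᵁ V.1).ι
    haveI : IsSchemeTheoreticallyDominant (pullback.snd (pullback.fst Q₁.hom ρ) c) := inferInstance
    refine GrpScheme.Ext.ext_of_schematicallyDominant (pullback.snd (pullback.fst Q₁.hom ρ) c)
      Q₂.hom ?_ ?_
    · show (i ≫ g V) ≫ Q₂.hom = (i' ≫ g V') ≫ Q₂.hom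
      rw [Category.assoc, Category.assoc, hgw, hgw]
      exact pullback.condition_assoc _
    · show pullback.snd _ c ≫ i ≫ g V = pullback.snd _ c ≫ i' ≫ g V'
      rw [← Category.assoc, ← Category.assoc,
        hg V (pullback.fst _ c) _ (by rw [Category.assoc]; exact pullback.condition),
        hg V' (pullback.fst _ c) _ (by
          rw [Category.assoc, show i' ≫ (Q₁.hom ⁻¹ᵁ V'.1).ι = c from pullback.condition.symm]
          exact pullback.condition)]
  have hlV : ∀ V, (Q₁.hom ⁻¹ᵁ V.1).ι ≫ hl = g V := fun V =>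
    Scheme.Cover.ι_glueMorphisms 𝒰 g _ V
  let h : Q₁ ⟶ Q₂ := Over.homMk hl (Scheme.Cover.hom_ext 𝒰 _ _ fun V => by
    show (Q₁.hom ⁻¹ᵁ V.1).ι ≫ hl ≫ Q₂.hom = _
    rw [reassoc_of% (hlV V), hgw]
    rfl)
  have hgen : pullback.fst Q₁.hom ρ ≫ hl = f₀ := by
    have hcov' : TopologicalSpace.IsOpenCover
        (fun V : X.affineOpens => pullback.fst Q₁.hom ρ ⁻¹ᵁ (Q₁.hom ⁻¹ᵁ V.1)) := by
      rw [TopologicalSpace.IsOpenCover, ← Scheme.Hom.preimage_iSup, hcov.iSup_eq_top]
      rfl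
    refine Scheme.Cover.hom_ext ((pullback Q₁.hom ρ).openCoverOfIsOpenCover _ hcov') _ _ fun V => ?_
    show Scheme.Opens.ι _ ≫ _ ≫ hl = Scheme.Opens.ι _ ≫ f₀
    rw [← Category.assoc, ← morphismRestrict_ι, Category.assoc, hlV]
    exact hg V _ _ (morphismRestrict_ι _ _).symm
  have hmap : (Over.pullback ρ).map h = h' := by
    apply Over.OverMorphism.ext
    apply pullback.hom_ext
    · show pullback.lift _ _ _ ≫ pullback.fst _ _ = _
      rw [pullback.lift_fst]
      exact hgen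
    · show pullback.lift _ _ _ ≫ pullback.snd _ _ = _
      rw [pullback.lift_snd]
      exact (Over.w h').symm
  haveI : Flat (G ⊗ Q₁).hom := by
    show Flat (pullback.fst G.hom Q₁.hom ≫ G.hom)
    infer_instance
  refine ⟨h, ⟨?_, hmap⟩, fun k hk => hext (hk.2.trans hmap.symm)⟩
  apply hext
  rw [← cancel_epi (Functor.LaxMonoidal.μ (Over.pullback ρ) G Q₁), Functor.map_comp,
    Functor.map_comp, hmap, ← Category.assoc, hh', ← Functor.LaxMonoidal.μ_natural_right_assoc,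
    hmap]

open AlgebraicGeometry CategoryTheory CategoryTheory.Limits MonoidalCategory in
/-- Let X be a scheme, G a finite locally free X-group scheme (finite, flat and locally of finite
presentation over X, not necessarily commutative), and U an open subscheme of X whose inclusion is
quasi-compact, such that for every point z of X outside U the local ring of X at z is regular of
Krull dimension at least 2. Let Q₁ and Q₂ be fppf G-torsors over X. Then every U-morphism between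
their base changes to U that is equivariant for the base-changed group is the base change of a
unique G-equivariant X-morphism Q₁ -> Q₂. (With the essential-surjectivity row this is the statement
that pullback is an equivalence from G-torsors over X to torsors over U under the base change of G.) -/
theorem result {X : Scheme.{u}} (G : Over X) [GrpObj G]
    [IsFinite G.hom] [Flat G.hom] [LocallyOfFinitePresentation G.hom]
    (U : X.Opens) [QuasiCompact U.ι]
    (hZ : ∀ z : X, z ∉ U → IsRegularLocalRing (X.presheaf.stalk z) ∧ (2 : WithBot ℕ∞) ≤ ringKrullDim (X.presheaf.stalk z))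
    (Q₁ Q₂ : Over X) (a₁ : AlgGrp.Action G Q₁) (a₂ : AlgGrp.Action G Q₂)
    (h₁ : NonAbH1.IsTorsorFor Scheme.fppfPrecoverage a₁) (h₂ : NonAbH1.IsTorsorFor Scheme.fppfPrecoverage a₂)
    (h' : (Over.pullback U.ι).obj Q₁ ⟶ (Over.pullback U.ι).obj Q₂)
    (hh' : (Functor.LaxMonoidal.μ (Over.pullback U.ι) G Q₁ ≫ (Over.pullback U.ι).map a₁.act) ≫ h' =
      ((Over.pullback U.ι).obj G ◁ h') ≫ (Functor.LaxMonoidal.μ (Over.pullback U.ι) G Q₂ ≫ (Over.pullback U.ι).map a₂.act)) :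
    ∃! h : Q₁ ⟶ Q₂, a₁.act ≫ h = (G ◁ h) ≫ a₂.act ∧ (Over.pullback U.ι).map h = h' := by
  haveI : MorphismProperty.DescendsAlong @IsFinite.{u} AlgSpCov.Fpqc :=
    FpqcDesc.descendsAlong_isFinite
  have h₁q := isTorsorFor_mono Scheme.fppfPrecoverage_le_fpqcPrecoverage h₁
  have h₂q := isTorsorFor_mono Scheme.fppfPrecoverage_le_fpqcPrecoverage h₂
  haveI : IsFinite Q₁.hom := property_of_torsor @IsFinite h₁q inferInstance
  haveI : IsFinite Q₂.hom := property_of_torsor @IsFinite h₂q inferInstance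
  haveI : Flat Q₁.hom := property_of_torsor @Flat h₁q inferInstance
  exact body G U hZ Q₁ Q₂ a₁ a₂ h' hh'

end Groth.Agent.S14274
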