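import Groth.Statements.S14275
import Mathlib
-- import your own Groth.Agent.* helpers here

set_option autoImplicit false
universe u
open CAlg

namespace Groth.Agent.S14275

section
variable {R : Type u} [CommRing R] (a : R)
variable {M N P : Type u} [AddCommGroup M] [Module R M] [AddCommGroup N] [Module R N] [AddCommGroup P] [Module R P]

theorem mem_pow_smul_top_iff (n : ℕ) (x : M) :
    x ∈ ((Ideal.span {a}) ^ n • ⊤ : Submodule R M) ↔ ∃ y : M, a ^ n • y = x := by
  rw [Ideal.span_singleton_pow, Submodule.ideal_span_singleton_smul, Submodule.mem_smul_pointwise_iff_exists]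
  simp

variable {a}
theorem ar {f : M →ₗ[R] N} {g : N →ₗ[R] P} (hf : Function.Injective f) (hfg : Function.Exact f g)
    {k : ℕ} (hk : ∀ x : P, (∃ m : ℕ, a ^ m • x = 0) → a ^ k • x = 0) {n : ℕ} {x : M}
    (hx : f x ∈ ((Ideal.span {a}) ^ (n + k) • ⊤ : Submodule R N)) :
    x ∈ ((Ideal.span {a}) ^ n • ⊤ : Submodule R M) := by
  rw [mem_pow_smul_top_iff] at hx ⊢
  obtain ⟨y, hy⟩ := hx
  have hg : a ^ k • g y = 0 := hk _ ⟨n + k, by rw [← map_smul, hy, hfg.apply_apply_eq_zero]⟩
  rw [← map_smul] at hg
  obtain ⟨z, hz⟩ := (hfg _).1 hg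
  refine ⟨z, hf ?_⟩
  rw [map_smul, hz, smul_smul, ← pow_add, hy]

theorem map_injective {f : M →ₗ[R] N} {g : N →ₗ[R] P} (hf : Function.Injective f) (hfg : Function.Exact f g)
    {k : ℕ} (hk : ∀ x : P, (∃ m : ℕ, a ^ m • x = 0) → a ^ k • x = 0) :
    Function.Injective (AdicCompletion.map (Ideal.span {a}) f) := by
  rw [← LinearMap.ker_eq_bot, LinearMap.ker_eq_bot']
  intro x
  apply AdicCompletion.induction_on (Ideal.span {a}) M x (fun c ↦ ?_)
  intro hx
  refine AdicCompletion.mk_zero_of _ _ _ ⟨0, fun n _ ↦ ⟨n + k, by lia, n, le_rfl, ?_⟩⟩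
  exact ar hf hfg hk (by simpa using congrArg (fun x ↦ x.val (n + k)) hx)

theorem map_exact {f : M →ₗ[R] N} {g : N →ₗ[R] P} (hf : Function.Injective f) (hfg : Function.Exact f g)
    (hgs : Function.Surjective g)
    {k : ℕ} (hk : ∀ x : P, (∃ m : ℕ, a ^ m • x = 0) → a ^ k • x = 0) :
    Function.Exact (AdicCompletion.map (Ideal.span {a}) f) (AdicCompletion.map (Ideal.span {a}) g) := by
  refine LinearMap.exact_of_comp_eq_zero_of_ker_le_range ?_ (fun y ↦ ?_)
  · rw [AdicCompletion.map_comp, hfg.linearMap_comp_eq_zero, AdicCompletion.map_zero]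
  · apply AdicCompletion.induction_on (Ideal.span {a}) N y (fun b ↦ ?_)
    intro hz
    have hc : ∀ n, ∃ c : M, b n - f c ∈ ((Ideal.span {a}) ^ n • ⊤ : Submodule R N) := by
      intro n
      have hb : g (b n) ∈ ((Ideal.span {a}) ^ n • ⊤ : Submodule R P) := by
        simpa using congrArg (fun x ↦ x.val n) hz
      rw [mem_pow_smul_top_iff] at hb
      obtain ⟨p, hp⟩ := hb
      obtain ⟨q, rfl⟩ := hgs p
      obtain ⟨c, hc⟩ := (hfg (b n - a ^ n • q)).1 (by rw [map_sub, map_smul, hp, sub_self])
      exact ⟨c, (mem_pow_smul_top_iff a n _).2 ⟨q, by rw [hc]; abel⟩⟩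
    choose c hc using hc
    have hcau : ∀ n, c (n + k) ≡ c (n + 1 + k) [SMOD ((Ideal.span {a}) ^ n • ⊤ : Submodule R M)] := by
      intro n
      rw [SModEq.sub_mem]
      refine ar hf hfg hk (n := n) ?_
      have h1 := hc (n + k)
      have h2 : b (n + 1 + k) - f (c (n + 1 + k)) ∈ ((Ideal.span {a}) ^ (n + k) • ⊤ : Submodule R N) :=
        Submodule.smul_mono_left (Ideal.pow_le_pow_right (by lia)) (hc (n + 1 + k))
      have h3 : b (n + k) - b (n + 1 + k) ∈ ((Ideal.span {a}) ^ (n + k) • ⊤ : Submodule R N) :=
        SModEq.sub_mem.1 (b.property (by lia))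
      rw [map_sub, show f (c (n + k)) - f (c (n + 1 + k)) =
        (b (n + k) - b (n + 1 + k)) - (b (n + k) - f (c (n + k))) + (b (n + 1 + k) - f (c (n + 1 + k))) by abel]
      exact add_mem (sub_mem h3 h1) h2
    refine ⟨AdicCompletion.mk _ M (AdicCompletion.AdicCauchySequence.mk _ M (fun n ↦ c (n + k)) hcau), ?_⟩
    ext n
    suffices h : Submodule.Quotient.mk (p := ((Ideal.span {a}) ^ n • ⊤ : Submodule R N)) (f (c (n + k))) =
        Submodule.Quotient.mk (p := ((Ideal.span {a}) ^ n • ⊤ : Submodule R N)) (b n) by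
      simpa using h
    rw [Submodule.Quotient.eq]
    have h1 : b (n + k) - f (c (n + k)) ∈ ((Ideal.span {a}) ^ n • ⊤ : Submodule R N) :=
      Submodule.smul_mono_left (Ideal.pow_le_pow_right (by lia)) (hc (n + k))
    have h2 : b n - b (n + k) ∈ ((Ideal.span {a}) ^ n • ⊤ : Submodule R N) :=
      SModEq.sub_mem.1 (b.property (by lia))
    rw [show f (c (n + k)) - b n = -((b n - b (n + k)) + (b (n + k) - f (c (n + k)))) by abel]
    exact neg_mem (add_mem h2 h1)

end

open RingTheory.Sequence in
/-- Let A be a commutative ring, a an element of A with a-adic completion A^, and a_1, ..., a_n a weakly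
regular sequence on A such that for each i = 0, ..., n the quotient A/(a_1, ..., a_i) has bounded
a-power torsion (some fixed power of a kills every element killed by a power of a). Then the images
of a_1, ..., a_n form a weakly regular sequence on A^, and the canonical map from A^ to the a-adic
completion of A/(a_1, ..., a_n) is surjective with kernel the ideal generated by the images of a_1,
..., a_n. -/
theorem result (A : Type u) [CommRing A] (a : A) (rs : List A)
    (hreg : IsWeaklyRegular A rs)
    (hbd : ∀ i ≤ rs.length, ∃ N : ℕ, ∀ x : A ⧸ Ideal.ofList (rs.take i), (∃ m : ℕ, a ^ m • x = 0) → a ^ N • x = 0) :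
    IsWeaklyRegular (AdicCompletion (Ideal.span {a}) A)
        (rs.map (algebraMap A (AdicCompletion (Ideal.span {a}) A))) ∧
      Function.Surjective (AdicCompletion.map (Ideal.span {a}) (Ideal.ofList rs).mkQ) ∧
      LinearMap.ker (AdicCompletion.map (Ideal.span {a}) (Ideal.ofList rs).mkQ) =
        (Ideal.ofList rs).map (algebraMap A (AdicCompletion (Ideal.span {a}) A)) := by
  let I := Ideal.span {a}
  let B := AdicCompletion I A
  have hJ : ∀ i (h : i < rs.length), Ideal.ofList (rs.take (i + 1)) = Ideal.ofList (rs.take i) ⊔ Ideal.span {rs[i]} := by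
    intro i h
    rw [← List.take_concat_get' rs i h, Ideal.ofList_append, Ideal.ofList_singleton]
  -- regularity of `rs[i]` on `A / Jᵢ` and the resulting exact sequences
  have hstep : ∀ i (h : i < rs.length),
      Function.Injective (AdicCompletion.map I (LinearMap.lsmul A (A ⧸ Ideal.ofList (rs.take i)) rs[i])) ∧
      Function.Exact (AdicCompletion.map I (LinearMap.lsmul A (A ⧸ Ideal.ofList (rs.take i)) rs[i]))
        (AdicCompletion.map I (Submodule.factor ((hJ i h).symm ▸ le_sup_left :
          (Ideal.ofList (rs.take i) : Submodule A A) ≤ Ideal.ofList (rs.take (i + 1))))) := by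
    intro i h
    have hreg' : Function.Injective (LinearMap.lsmul A (A ⧸ Ideal.ofList (rs.take i)) rs[i]) := by
      have := hreg.regular_mod_prev i h
      have he : (Ideal.ofList (rs.take i) • ⊤ : Submodule A A) = Ideal.ofList (rs.take i) := by simp
      exact (LinearEquiv.isSMulRegular_congr (Submodule.quotEquivOfEq _ _ he) rs[i]).1 this
    have hex : Function.Exact (LinearMap.lsmul A (A ⧸ Ideal.ofList (rs.take i)) rs[i])
        (Submodule.factor ((hJ i h).symm ▸ le_sup_left :
          (Ideal.ofList (rs.take i) : Submodule A A) ≤ Ideal.ofList (rs.take (i + 1)))) := by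
      intro x
      obtain ⟨x, rfl⟩ := Ideal.Quotient.mk_surjective x
      constructor
      · intro hx
        have hx' : x ∈ Ideal.ofList (rs.take (i + 1)) := (Submodule.Quotient.mk_eq_zero _).1 hx
        rw [hJ i h, Submodule.mem_sup] at hx'
        obtain ⟨j, hj, z, hz, rfl⟩ := hx'
        obtain ⟨w, rfl⟩ := Ideal.mem_span_singleton'.1 hz
        refine ⟨Ideal.Quotient.mk _ w, ?_⟩
        show rs[i] • Ideal.Quotient.mk _ w = _
        rw [map_add, Ideal.Quotient.eq_zero_iff_mem.2 hj, zero_add, map_mul, Algebra.smul_def, mul_comm]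
        rfl
      · rintro ⟨w, hw⟩
        obtain ⟨w, rfl⟩ := Ideal.Quotient.mk_surjective w
        rw [← hw]
        show Submodule.factor _ (Submodule.Quotient.mk (rs[i] * w)) = 0
        refine (Submodule.Quotient.mk_eq_zero _).2 ?_
        rw [hJ i h]
        exact Submodule.mem_sup_right (Ideal.mem_span_singleton'.2 ⟨w, mul_comm _ _⟩)
    obtain ⟨k, hk⟩ := hbd (i + 1) h
    exact ⟨map_injective hreg' hex hk,
      map_exact hreg' hex (Submodule.factor_surjective _) hk⟩
  have hsmul : ∀ (r : A) (M : Type u) [AddCommGroup M] [Module A M] (y : AdicCompletion I M),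
      AdicCompletion.map I (LinearMap.lsmul A M r) y = algebraMap A B r • y := by
    intro r M _ _ y
    rw [algebraMap_smul]
    apply AdicCompletion.induction_on I M y
    intro c
    ext n
    simp only [AdicCompletion.map_val_apply, AdicCompletion.mk_apply_coe, AdicCompletion.val_smul_apply,
      LinearMap.reduceModIdeal_apply, LinearMap.lsmul_apply]
    rfl
  have Q : ∀ i ≤ rs.length, Function.Surjective (AdicCompletion.map I (Ideal.ofList (rs.take i)).mkQ) ∧
      LinearMap.ker (AdicCompletion.map I (Ideal.ofList (rs.take i)).mkQ) =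
        (Ideal.ofList (rs.take i)).map (algebraMap A B) := by
    intro i hi
    refine ⟨AdicCompletion.map_surjective I (Submodule.mkQ_surjective _), le_antisymm ?_ ?_⟩
    · induction i with
      | zero =>
        intro x hx
        have hb : Function.Injective (AdicCompletion.map I (Ideal.ofList (rs.take 0)).mkQ) := by
          let e : (A ⧸ (Ideal.ofList (rs.take 0) : Submodule A A)) ≃ₗ[A] A :=
            (Submodule.quotEquivOfEqBot _ (by simp))
          intro u v huv
          have := congrArg (AdicCompletion.map I e.toLinearMap) huv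
          rwa [AdicCompletion.map_comp_apply, AdicCompletion.map_comp_apply,
            show e.toLinearMap ∘ₗ (Ideal.ofList (rs.take 0)).mkQ = LinearMap.id from LinearMap.ext fun z : A ↦
              Submodule.quotEquivOfEqBot_apply_mk (Ideal.ofList (rs.take 0) : Submodule A A) (by simp) z,
            AdicCompletion.map_id, LinearMap.id_apply, LinearMap.id_apply] at this
        have : x = 0 := hb (by rw [LinearMap.mem_ker.1 hx, map_zero])
        rw [this]; exact zero_mem _
      | succ i ih =>
        intro x hx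
        have h : i < rs.length := hi
        have hx0 : AdicCompletion.map I (Submodule.factor ((hJ i h).symm ▸ le_sup_left :
            (Ideal.ofList (rs.take i) : Submodule A A) ≤ Ideal.ofList (rs.take (i + 1))))
            (AdicCompletion.map I (Ideal.ofList (rs.take i)).mkQ x) = 0 := by
          rw [AdicCompletion.map_comp_apply, Submodule.factor_comp_mk]; exact hx
        obtain ⟨y, hy⟩ := ((hstep i h).2 _).1 hx0
        obtain ⟨z, rfl⟩ := AdicCompletion.map_surjective I (Submodule.mkQ_surjective _) y
        have hz : x - algebraMap A B rs[i] • z ∈ LinearMap.ker (AdicCompletion.map I (Ideal.ofList (rs.take i)).mkQ) := by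
          rw [LinearMap.mem_ker, map_sub, map_smul, ← hy, hsmul, sub_self]
        have hz' := ih (by omega) hz
        rw [hJ i h, Ideal.map_sup]
        refine Submodule.mem_sup.2 ⟨_, hz', algebraMap A B rs[i] • z, ?_, sub_add_cancel _ _⟩
        exact Ideal.mul_mem_right _ _ (Ideal.mem_map_of_mem _ (Ideal.mem_span_singleton_self _))
    · refine Ideal.map_le_iff_le_comap.2 ?_
      intro j hj
      refine LinearMap.mem_ker.2 ?_
      ext n
      have h0 : (Submodule.Quotient.mk j : A ⧸ (Ideal.ofList (rs.take i) : Submodule A A)) = 0 :=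
        (Submodule.Quotient.mk_eq_zero _).2 hj
      show Submodule.Quotient.mk _ = _
      simpa [h0] using (Submodule.mem_sup_right hj : j ∈ I ^ n ⊔ Ideal.ofList (rs.take i))
  refine ⟨⟨fun i hi ↦ ?_⟩, ?_⟩
  · rw [List.length_map] at hi
    refine IsSMulRegular.of_right_eq_zero_of_smul ?_
    intro x hx
    obtain ⟨z, rfl⟩ := Submodule.Quotient.mk_surjective _ x
    rw [← Submodule.Quotient.mk_smul, Submodule.Quotient.mk_eq_zero] at hx
    rw [Submodule.Quotient.mk_eq_zero]
    have hmem : ∀ w : B, w ∈ (Ideal.ofList ((rs.map (algebraMap A B)).take i) • ⊤ : Submodule B B) ↔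
        w ∈ LinearMap.ker (AdicCompletion.map I (Ideal.ofList (rs.take i)).mkQ) := by
      intro w
      rw [(Q i hi.le).2, smul_eq_mul, Ideal.mul_top, ← List.map_take, Ideal.map_ofList]
      rfl
    rw [hmem, LinearMap.mem_ker] at hx ⊢
    apply (hstep i hi).1
    rw [hsmul, map_zero, ← map_smul]
    simpa using hx
  · have h := Q rs.length le_rfl
    rw [List.take_length] at h
    exact h

end Groth.Agent.S14275
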