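import Groth.Statements.S14276
import Groth.Agent.GITLib.TorsorSchMore
import Groth.Agent.AlgSpCov.EtaleSections

set_option autoImplicit false
universe u
open CategoryTheory AlgebraicGeometry
open NonAbH1

namespace Groth.Agent.S14276

/-- Let X be a scheme and G a group scheme over X which is smooth over X. Then every G-torsor for the
fppf topology is locally trivial for the étale topology on X. Here a torsor is an X-scheme with an
action of G which is a pseudo-torsor and acquires sections on the members of some fppf covering
family of X, and the conclusion says that it acquires sections on the members of some étale covering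
family of X. (The published statement is about torsors in the sense of fppf sheaves; this row states
it for torsors that are schemes.) -/
theorem result {X : Scheme.{u}}
    (G : Over X) [GrpObj G] [Smooth G.hom] (P : Over X) (a : AlgGrp.Action G P)
    (h : NonAbH1.IsTorsorFor Scheme.fppfPrecoverage a) :
    NonAbH1.IsLocallyTrivialFor Scheme.etalePrecoverage P := by
  classical
  have h' : NonAbH1.IsTorsorFor Scheme.fpqcPrecoverage a :=
    Groth.Agent.GITLib.isTorsorFor_mono Scheme.fppfPrecoverage_le_fpqcPrecoverage h
  haveI : Smooth P.hom := Groth.Agent.GITLib.property_of_torsor (a := a) @Smooth h' inferInstance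
  have hsurj : ∀ s : X, ∃ x : P.left, P.hom x = s := by
    intro s
    obtain ⟨R, hR, hs⟩ := h'.2
    obtain ⟨S', f, hf, y, hy⟩ := hR.2.1 s
    rcases hf with @⟨T', g, hg⟩
    obtain ⟨t, ht⟩ := hs g hg
    refine ⟨t y, ?_⟩
    rw [← Scheme.Hom.comp_apply, ht]
    exact hy
  choose x hx using hsurj
  choose S' g s' hg hgs l hl using fun s => Groth.Agent.AlgSpCov.exists_etale_section P.hom (x s)
  refine ⟨Presieve.ofArrows S' g, ?_, ?_⟩
  · show Presieve.ofArrows S' g ∈ Scheme.precoverage @Etale X
    rw [Scheme.ofArrows_mem_precoverage_iff]
    exact ⟨fun s => ⟨s, s' s, (hgs s).trans (hx s)⟩, hg⟩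
  · rintro T f ⟨i⟩
    exact ⟨l i, hl i⟩

end Groth.Agent.S14276
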