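import Groth.Statements.S14280
import Mathlib.LinearAlgebra.Eigenspace.Charpoly
import Mathlib.Analysis.Normed.Group.InfiniteSum
import Mathlib.Analysis.Complex.Basic
import Mathlib.Analysis.Real.Sqrt
import Mathlib.Topology.Algebra.InfiniteSum.Real
import Mathlib.Analysis.Complex.Polynomial.Basic
import Mathlib.Analysis.Normed.Ring.InfiniteSum


set_option autoImplicit false
universe u
open SpSeq

namespace Groth.Agent.S14280

/-- Let E^{p,q} (p, q ≥ 0) be finite-dimensional complex vector spaces each carrying an endomorphism Φ,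
and suppose that for a natural number N and functions a, c ≥ 0 (real) and b, d (natural numbers) one
has E^{p,q} = 0 for q > N, |μ| ≤ a(q)c(p) for every eigenvalue μ of Φ on E^{p,q}, and dim E^{p,q} ≤
b(q)d(p). If Σ_p c(p)d(p) converges then the family of traces tr(Φ | E^{p,q}) is absolutely summable
over all pairs (p, q). (The published statement takes a and b defined on {0, …, N} only; here they
are functions on all natural numbers, which changes nothing since E^{p,q} = 0 for q > N.) -/
theorem result
    (E : ℕ → ℕ → Type u) [∀ p q, AddCommGroup (E p q)] [∀ p q, Module ℂ (E p q)]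
    [∀ p q, FiniteDimensional ℂ (E p q)] (Φ : ∀ p q, E p q →ₗ[ℂ] E p q)
    (N : ℕ) (a c : ℕ → ℝ) (b d : ℕ → ℕ) (ha : ∀ q, 0 ≤ a q) (hc : ∀ p, 0 ≤ c p)
    (h1 : ∀ p q, N < q → Subsingleton (E p q))
    (h2 : ∀ p q (μ : ℂ), Module.End.HasEigenvalue (Φ p q) μ → ‖μ‖ ≤ a q * c p)
    (h3 : ∀ p q, Module.finrank ℂ (E p q) ≤ b q * d p)
    (hsum : Summable fun p : ℕ => c p * (d p : ℝ)) :
    Summable fun pq : ℕ × ℕ => ‖LinearMap.trace ℂ (E pq.1 pq.2) (Φ pq.1 pq.2)‖ := by
  classical
  have key : ∀ p q, ‖LinearMap.trace ℂ (E p q) (Φ p q)‖ ≤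
      c p * (d p : ℝ) * (if q ≤ N then a q * (b q : ℝ) else 0) := by
    intro p q
    by_cases hq : q ≤ N
    · rw [if_pos hq]
      have hr : ∀ x ∈ (Φ p q).charpoly.roots, ‖x‖ ≤ a q * c p := fun x hx =>
        h2 p q x ((Module.End.hasEigenvalue_iff_isRoot_charpoly _ _).2
          (Polynomial.isRoot_of_mem_roots hx))
      rw [Module.End.trace_eq_sum_roots_charpoly_of_splits (IsAlgClosed.splits _)]
      calc ‖(Φ p q).charpoly.roots.sum‖ ≤ ((Φ p q).charpoly.roots.map (‖·‖)).sum :=
            norm_multiset_sum_le _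
        _ ≤ ((Φ p q).charpoly.roots.map (fun _ => a q * c p)).sum :=
            Multiset.sum_map_le_sum_map _ _ hr
        _ = ((Φ p q).charpoly.roots.card : ℝ) * (a q * c p) := by simp
        _ ≤ ((b q * d p : ℕ) : ℝ) * (a q * c p) := by
            refine mul_le_mul_of_nonneg_right ?_ (mul_nonneg (ha q) (hc p))
            refine Nat.cast_le.2 (le_trans ?_ (h3 p q))
            rw [← (Φ p q).charpoly_natDegree]
            exact Polynomial.card_roots' _
        _ = _ := by push_cast; ring
    · have := h1 p q (not_le.1 hq)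
      simp [if_neg hq, Subsingleton.elim (Φ p q) 0]
  refine Summable.of_nonneg_of_le (fun _ => norm_nonneg _) (fun pq => key pq.1 pq.2) ?_
  have hs : Summable fun q : ℕ => if q ≤ N then a q * (b q : ℝ) else 0 :=
    summable_of_ne_finset_zero (s := Finset.range (N + 1)) (fun q hq => by
      rw [Finset.mem_range] at hq; simp [show ¬ q ≤ N by omega])
  exact Summable.mul_of_nonneg hsum hs (fun p => mul_nonneg (hc p) (Nat.cast_nonneg _))
    (fun q => by dsimp only; split_ifs <;> [exact mul_nonneg (ha q) (Nat.cast_nonneg _); exact le_rfl])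

end Groth.Agent.S14280
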