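import Groth.Statements.S14283
import Groth.Agent.SpSeqLib.TraceSum
import Mathlib.Analysis.Normed.Group.Tannery
import Mathlib.Algebra.Order.Antidiag.Prod
import Mathlib.Algebra.BigOperators.NatAntidiagonal
-- import your own Groth.Agent.* helpers here

set_option autoImplicit false
universe u
open CategoryTheory CategoryTheory.Limits
open SpSeq

namespace Groth.Agent.S14283

open CategoryTheory CategoryTheory.Limits SpSeq Groth.Agent.SpSeqLib Groth.Agent.SpSeqLib.Tr
open scoped Polynomial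

variable {E : E₂CohomologicalSpectralSequence (ModuleCat.{u} ℂ[X])}
  {H : ℤ → ModuleCat.{u} ℂ[X]} (ab : SpSeq.Abutment E H)
  {N : ℕ} {a c : ℕ → ℝ} {b d : ℕ → ℕ}

theorem famBd_page (h : FamBd N a c b d (E.page 2 le_rfl).X) (ha : ∀ q, 0 ≤ a q)
    (hc : ∀ p, 0 ≤ c p) (hsum : Summable fun p : ℕ => c p * (d p : ℝ)) (r : ℤ) (hr : 2 ≤ r) :
    FamBd N a c b d (E.page r hr).X ∧
      ∑' pq, sgn pq * tr ((E.page r hr).X pq) = ∑' pq, sgn pq * tr ((E.page 2 le_rfl).X pq) := by
  induction r, hr using Int.leInduction with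
  | base => exact ⟨h, rfl⟩
  | succ r hr ih => exact ⟨(famBd_next E r hr ih.1).1, (tsum_next E r hr ih.1 ha hc hsum).trans ih.2⟩

/-- The limit term. -/
noncomputable def L (pq : ℤ × ℤ) : ModuleCat.{u} ℂ[X] := (E.page (ab.rk pq) (ab.stat pq).1).X pq

theorem famBd_L (h : ∀ (r : ℤ) (hr : 2 ≤ r), FamBd N a c b d (E.page r hr).X) :
    FamBd N a c b d (L ab) :=
  ⟨fun pq hpq => (h _ (ab.stat pq).1).neg pq hpq,
    fun p q hq => (h _ (ab.stat _).1).high p q hq, fun p q => (h _ (ab.stat _).1).bd p q⟩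

theorem bd_of_fam {M : ℤ × ℤ → ModuleCat.{u} ℂ[X]} (h : FamBd N a c b d M) (pq : ℤ × ℤ) :
    Module.Finite ℂ (RC.obj (M pq)) := by
  by_cases hq : pq ∈ Set.range quad
  · obtain ⟨⟨p, q⟩, rfl⟩ := hq
    exact (h.bd p q).fin
  · exact (Bd.of_isZero (h.neg pq (not_mem_range_quad hq)) 0 0).fin

theorem tendsto_page (h : ∀ (r : ℤ) (hr : 2 ≤ r), FamBd N a c b d (E.page r hr).X) (pq : ℤ × ℤ) :
    Filter.Tendsto (fun k : ℕ => sgn pq * tr ((E.page (2 + k) (by omega)).X pq)) Filter.atTop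
      (nhds (sgn pq * tr (L ab pq))) := by
  refine tendsto_const_nhds.congr' (Filter.eventually_atTop.2 ⟨(ab.rk pq - 2).toNat, fun k hk => ?_⟩)
  obtain ⟨e⟩ := nonempty_iso_of_le E pq (ab.rk pq) (ab.stat pq) (2 + k) (by omega)
  rw [show tr (L ab pq) = _ from (tr_iso e.symm (bd_of_fam (h _ (ab.stat pq).1) pq))]

theorem nonempty_gr_iso (n : ℤ) (pq : ℤ × ℤ) (h : pq.1 + pq.2 = n) :
    Nonempty (L ab pq ≅ grPiece (ab.fil n) (ab.anti n) pq.1) := by
  subst h
  exact ⟨ab.β pq⟩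

theorem fin_mid {S : ShortComplex (ModuleCat.{u} ℂ[X])} (hS : S.ShortExact)
    (h₁ : Module.Finite ℂ (RC.obj S.X₁)) (h₃ : Module.Finite ℂ (RC.obj S.X₃)) :
    Module.Finite ℂ (RC.obj S.X₂) := by
  refine ⟨Submodule.fg_of_fg_map_of_fg_inf_ker (RC.map S.g).hom ?_ ?_⟩
  · rw [Submodule.map_top, LinearMap.range_eq_top.2 (surj_g hS)]
    exact h₃.fg_top
  · rw [top_inf_eq, LinearMap.exact_iff.1 (exact_fg hS), ← Submodule.map_top]
    exact h₁.fg_top.map _

theorem fil_step (n p : ℤ) :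
    (ShortComplex.mk ((ab.fil n (p + 1)).ofLE (ab.fil n p) (ab.anti n (Int.le_add_one le_rfl)))
      (cokernel.π _) (cokernel.condition _)).ShortExact where
  exact := ShortComplex.exact_of_g_is_cokernel _ (cokernelIsCokernel _)
  mono_f := inferInstance
  epi_g := coequalizer.π_epi

theorem tr_H (h : FamBd N a c b d (L ab)) (n : ℕ) (hfin : ab.IsFinite n) :
    tr (H n) = ∑ ij ∈ Finset.HasAntidiagonal.antidiagonal n,
      tr (L ab ((ij.1 : ℤ), (ij.2 : ℤ))) := by
  have hgr : ∀ p : ℤ, p < 0 ∨ (n : ℤ) < p → IsZero (grPiece (ab.fil n) (ab.anti n) p) := by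
    intro p hp
    obtain ⟨e⟩ := nonempty_gr_iso ab (n : ℤ) (p, n - p) (add_sub_cancel _ _)
    refine (h.neg (p, n - p) ?_).of_iso e.symm
    dsimp only
    omega
  obtain ⟨⟨A, hA⟩, B, hB⟩ := hfin
  have htop : ab.fil n 0 = ⊤ := by
    rw [eq_of_grPiece_isZero (ab.fil n) (ab.anti n) (min A 0) 0 (min_le_right _ _)
      fun s _ hs => hgr s (Or.inl hs)]
    exact top_le_iff.1 (hA ▸ ab.anti n (min_le_left _ _))
  have hbot : ab.fil n (n + 1) = ⊥ := by
    rw [← eq_of_grPiece_isZero (ab.fil n) (ab.anti n) (n + 1) (max B (n + 1)) (le_max_right _ _)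
      fun s hs _ => hgr s (Or.inr (by omega))]
    exact le_bot_iff.1 (hB ▸ ab.anti n (le_max_left _ _))
  have step : ∀ j, j ≤ n + 1 →
      Module.Finite ℂ (RC.obj (ab.fil n (j : ℕ) : ModuleCat.{u} ℂ[X])) ∧
      tr (ab.fil n (j : ℕ) : ModuleCat.{u} ℂ[X]) =
        ∑ i ∈ Finset.Ico j (n + 1), tr (L ab ((i : ℤ), ((n - i : ℕ) : ℤ))) := by
    intro j hj
    induction hj using Nat.decreasingInduction with
    | self =>
      have hz : IsZero (ab.fil n ((n + 1 : ℕ) : ℤ) : ModuleCat.{u} ℂ[X]) := by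
        rw [Nat.cast_succ, hbot]
        exact (isZero_zero _).of_iso Subobject.botCoeIsoZero
      exact ⟨(Bd.of_isZero hz 0 0).fin, by rw [tr_of_isZero hz, Finset.Ico_self, Finset.sum_empty]⟩
    | of_succ j hj ih =>
      rw [Nat.cast_succ] at ih
      have hj' : j ≤ n := Nat.le_of_lt_succ hj
      obtain ⟨e⟩ := nonempty_gr_iso ab (n : ℤ) ((j : ℤ), ((n - j : ℕ) : ℤ)) (by dsimp only; omega)
      have hg : Module.Finite ℂ (RC.obj (grPiece (ab.fil n) (ab.anti n) (j : ℤ))) :=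
        (Bd.of_iso e.symm (h.bd j (n - j))).fin
      have hm := fin_mid (fil_step ab (n : ℤ) j) ih.1 hg
      refine ⟨hm, ?_⟩
      rw [Finset.sum_eq_sum_Ico_succ_bot hj, tr_add (fil_step ab (n : ℤ) j) hm, ← ih.2,
        add_comm, tr_iso e.symm (bd_of_fam h _)]
      rfl
  obtain ⟨hf, ht⟩ := step 0 (Nat.zero_le _)
  rw [Nat.cast_zero] at hf ht
  have : IsIso (ab.fil n 0).arrow := (Subobject.isIso_iff_mk_eq_top _).2 (by rw [Subobject.mk_arrow, htop])
  rw [Finset.Nat.sum_antidiagonal_eq_sum_range_succ_mk, Finset.range_eq_Ico, ← ht,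
    tr_iso (asIso (ab.fil n 0).arrow).symm hf]

theorem tsum_antidiagonal (f : ℕ × ℕ → ℂ) (hf : Summable fun x => ‖f x‖) :
    Summable (fun n => ‖∑ ij ∈ Finset.HasAntidiagonal.antidiagonal n, f ij‖) ∧
      ∑' n, ∑ ij ∈ Finset.HasAntidiagonal.antidiagonal n, f ij = ∑' x, f x := by
  have hs : Summable (f ∘ Finset.HasAntidiagonal.sigmaAntidiagonalEquivProd) :=
    Finset.HasAntidiagonal.sigmaAntidiagonalEquivProd.summable_iff.2 hf.of_norm
  have hn : Summable ((fun x => ‖f x‖) ∘ Finset.HasAntidiagonal.sigmaAntidiagonalEquivProd) :=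
    Finset.HasAntidiagonal.sigmaAntidiagonalEquivProd.summable_iff.2 hf
  constructor
  · refine Summable.of_nonneg_of_le (fun _ => norm_nonneg _) (fun n => norm_sum_le _ _) ?_
    refine hn.sigma.congr fun n => ?_
    simp only [Function.comp_apply, Finset.HasAntidiagonal.sigmaAntidiagonalEquivProd_apply]
    rw [Finset.tsum_subtype (Finset.HasAntidiagonal.antidiagonal n) fun x => ‖f x‖]
  · rw [← Finset.HasAntidiagonal.sigmaAntidiagonalEquivProd.tsum_eq f]
    refine Eq.trans (tsum_congr fun n => ?_) hs.tsum_sigma.symm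
    simp only [Function.comp_apply, Finset.HasAntidiagonal.sigmaAntidiagonalEquivProd_apply]
    rw [Finset.tsum_subtype (Finset.HasAntidiagonal.antidiagonal n) f]


/-- For an E_2 spectral sequence (E, Φ) of complex vector spaces carrying an endomorphism Φ compatible
with all its structure maps — here encoded as a cohomological spectral sequence in the category of
ℂ[X]-modules (X acting as Φ) — which is concentrated in the first quadrant (E_2^{p,q} = 0 if p < 0
or q < 0) and abuts to F^n (n ∈ ℤ) through abutment data whose filtrations are finite, assume that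
the E_2^{p,q} are finite-dimensional over ℂ, vanish for q > N, that every eigenvalue μ of Φ on
E_2^{p,q} has |μ| ≤ a(q)c(p) and dim E_2^{p,q} ≤ b(q)d(p) for functions a, c ≥ 0 (real) and b, d
(natural numbers), and that Σ_p c(p)d(p) converges. Then the series Σ_{n ≥ 0} (−1)^n tr(Φ | F^n)
converges absolutely and its sum equals Σ_{p,q ≥ 0} (−1)^{p+q} tr(Φ | E_2^{p,q}). Traces, dimensions
and eigenvalues are taken on the underlying complex vector spaces (restriction of scalars along ℂ →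
ℂ[X]) for the endomorphism 'multiplication by X'. -/
theorem result
    (E : E₂CohomologicalSpectralSequence (ModuleCat.{u} (Polynomial ℂ)))
    (H : ℤ → ModuleCat.{u} (Polynomial ℂ)) (abut : SpSeq.Abutment E H) (hfin : ∀ n, abut.IsFinite n)
    (hquad : ∀ pq : ℤ × ℤ, pq.1 < 0 ∨ pq.2 < 0 → IsZero ((E.page 2 le_rfl).X pq))
    (hfd : ∀ pq : ℤ × ℤ, Module.Finite ℂ ((ModuleCat.restrictScalars (algebraMap ℂ (Polynomial ℂ))).obj ((E.page 2 le_rfl).X pq)))
    (N : ℕ) (a c : ℕ → ℝ) (b d : ℕ → ℕ) (ha : ∀ q, 0 ≤ a q) (hc : ∀ p, 0 ≤ c p)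
    (h1 : ∀ p q : ℕ, N < q → IsZero ((E.page 2 le_rfl).X ((p : ℤ), (q : ℤ))))
    (h2 : ∀ (p q : ℕ) (μ : ℂ), Module.End.HasEigenvalue
        ((ModuleCat.restrictScalars (algebraMap ℂ (Polynomial ℂ))).map
          ((Polynomial.X : Polynomial ℂ) • 𝟙 ((E.page 2 le_rfl).X ((p : ℤ), (q : ℤ))))).hom μ → ‖μ‖ ≤ a q * c p)
    (h3 : ∀ p q : ℕ, Module.finrank ℂ
        ((ModuleCat.restrictScalars (algebraMap ℂ (Polynomial ℂ))).obj ((E.page 2 le_rfl).X ((p : ℤ), (q : ℤ)))) ≤ b q * d p)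
    (hsum : Summable fun p : ℕ => c p * (d p : ℝ)) :
    Summable (fun n : ℕ => ‖LinearMap.trace ℂ _
        ((ModuleCat.restrictScalars (algebraMap ℂ (Polynomial ℂ))).map ((Polynomial.X : Polynomial ℂ) • 𝟙 (H n))).hom‖) ∧
    ∑' n : ℕ, (-1 : ℂ) ^ n * LinearMap.trace ℂ _
        ((ModuleCat.restrictScalars (algebraMap ℂ (Polynomial ℂ))).map ((Polynomial.X : Polynomial ℂ) • 𝟙 (H n))).hom =
      ∑' pq : ℕ × ℕ, (-1 : ℂ) ^ (pq.1 + pq.2) * LinearMap.trace ℂ _
        ((ModuleCat.restrictScalars (algebraMap ℂ (Polynomial ℂ))).map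
          ((Polynomial.X : Polynomial ℂ) • 𝟙 ((E.page 2 le_rfl).X ((pq.1 : ℤ), (pq.2 : ℤ))))).hom := by
  have hM : FamBd N a c b d (E.page 2 le_rfl).X :=
    ⟨hquad, h1, fun p q => ⟨hfd _, h3 p q, h2 p q⟩⟩
  have hall := famBd_page hM ha hc hsum
  have hL := famBd_L abut fun r hr => (hall r hr).1
  have hlim : ∑' pq, sgn pq * tr (L abut pq) = ∑' pq, sgn pq * tr ((E.page 2 le_rfl).X pq) := by
    refine tendsto_nhds_unique (tendsto_tsum_of_dominated_convergence (summable_major ha hc hsum)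
      (tendsto_page abut fun r hr => (hall r hr).1) (Filter.Eventually.of_forall fun k pq =>
        (norm_sgn_mul pq _).trans_le ((hall _ (by omega)).1.norm_le ha hc pq))) ?_
    exact tendsto_const_nhds.congr fun k : ℕ => (hall (2 + k) (by omega)).2.symm
  let f : ℕ × ℕ → ℂ := fun x => sgn (quad x) * tr (L abut (quad x))
  have hf : Summable fun x => ‖f x‖ :=
    Summable.of_nonneg_of_le (fun _ => norm_nonneg _)
      (fun x => (norm_sgn_mul _ _).trans_le (hL.norm_le ha hc _))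
      ((summable_major ha hc hsum).comp_injective quad_injective)
  obtain ⟨hs1, hs2⟩ := tsum_antidiagonal f hf
  have key : ∀ n : ℕ, (-1 : ℂ) ^ n * tr (H n) =
      ∑ ij ∈ Finset.HasAntidiagonal.antidiagonal n, f ij := by
    intro n
    rw [tr_H abut hL n (hfin n), Finset.mul_sum]
    refine Finset.sum_congr rfl fun ij hij => ?_
    rw [Finset.HasAntidiagonal.mem_antidiagonal] at hij
    simp only [f, quad, sgn, ← Nat.cast_add, zpow_natCast, hij]
  refine ⟨hs1.congr fun n => ?_, ?_⟩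
  · rw [← key, norm_mul, norm_pow, norm_neg, norm_one, one_pow, one_mul]
  · refine ((tsum_congr key).trans hs2).trans ?_
    refine Eq.trans ?_ hM.tsum_quad.symm
    rw [← hlim]
    exact quad_injective.tsum_eq (f := fun pq => sgn pq * tr (L abut pq))
      (Function.support_subset_iff'.2 fun x hx => by
        simp [tr_of_isZero (hL.neg x (not_mem_range_quad hx))])
end Groth.Agent.S14283
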