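import Groth.Statements.S14285
import Groth.Agent.S2393
import Groth.Agent.GITLib.RigidProper

set_option autoImplicit false
universe u
open CategoryTheory AlgebraicGeometry
open EllLift

namespace Groth.Agent.S14285

/-- Let R be a complete Noetherian local ring with maximal ideal m and residue field k = R/m, g : X →
Spec R a proper and flat morphism, and i : X₀ → X the fibre of g over the closed point, i.e. a
pullback of g along Spec k → Spec R, with structure map f₀ : X₀ → Spec k. If the induced ring map k
→ Γ(X₀, O_{X₀}) is bijective, then so is R → Γ(X, O_X). -/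
theorem result (R : Type u) [CommRing R]
    [IsLocalRing R] [IsNoetherianRing R] [IsAdicComplete (IsLocalRing.maximalIdeal R) R]
    (X X₀ : Scheme.{u}) (g : X ⟶ Spec (CommRingCat.of R)) [IsProper g] [Flat g]
    (i : X₀ ⟶ X) (f₀ : X₀ ⟶ Spec (CommRingCat.of (R ⧸ IsLocalRing.maximalIdeal R)))
    (hsq : IsPullback i f₀ g
      (Spec.map (CommRingCat.ofHom (Ideal.Quotient.mk (IsLocalRing.maximalIdeal R)))))
    (h0 : Function.Bijective ((Scheme.ΓSpecIso (CommRingCat.of (R ⧸ IsLocalRing.maximalIdeal R))).inv ≫
      f₀.appTop)) :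
    Function.Bijective ((Scheme.ΓSpecIso (CommRingCat.of R)).inv ≫ g.appTop) := by
  open Groth.Agent in
  exact by
    let m := IsLocalRing.maximalIdeal R
    let : Field (R ⧸ m) := Ideal.Quotient.field m
    let s : Spec (CommRingCat.of (R ⧸ m)) ⟶ Spec (CommRingCat.of R) :=
      Spec.map (CommRingCat.ofHom (Ideal.Quotient.mk m))
    let y := s (IsLocalRing.closedPoint (R ⧸ m))
    let φ := Scheme.descResidueField (Scheme.stalkClosedPointTo (R := CommRingCat.of (R ⧸ m)) s)
    have hφ : Spec.map φ ≫ (Spec (CommRingCat.of R)).fromSpecResidueField y = s :=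
      Scheme.descResidueField_stalkClosedPointTo_fromSpecResidueField (R ⧸ m) (Spec (CommRingCat.of R)) s
    have hφiso : IsIso φ := by
      rw [ConcreteCategory.isIso_iff_bijective]
      refine ⟨φ.hom.injective, fun z => ?_⟩
      obtain ⟨r, rfl⟩ := Ideal.Quotient.mk_surjective z
      have h1 := congrArg Spec.preimage hφ
      rw [show Spec.map φ ≫ (Spec (CommRingCat.of R)).fromSpecResidueField y =
        Spec.map (Spec.preimage ((Spec (CommRingCat.of R)).fromSpecResidueField y) ≫ φ) by
          rw [Spec.map_comp, Spec.map_preimage], Spec.preimage_map, Spec.preimage_map] at h1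
      exact ⟨(Spec.preimage ((Spec (CommRingCat.of R)).fromSpecResidueField y)).hom r, congr($(h1).hom r)⟩
    let r : Spec ((Spec (CommRingCat.of R)).residueField y) ⟶ Spec (CommRingCat.of (R ⧸ m)) :=
      inv (Spec.map φ)
    have hr : r ≫ s = (Spec (CommRingCat.of R)).fromSpecResidueField y := by
      simp only [r, IsIso.inv_comp_eq]; exact hφ.symm
    have hfib : IsPullback (g.fiberι y) (g.fiberToSpecResidueField y) g
        ((Spec (CommRingCat.of R)).fromSpecResidueField y) := IsPullback.of_hasPullback _ _
    have hw : g.fiberι y ≫ g = (g.fiberToSpecResidueField y ≫ r) ≫ s := by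
      rw [Category.assoc, hr]; exact hfib.w
    let a := hsq.lift (g.fiberι y) (g.fiberToSpecResidueField y ≫ r) hw
    have H : IsPullback a (g.fiberToSpecResidueField y) f₀ r :=
      IsPullback.of_right (by rw [hsq.lift_fst, hr]; exact hfib) (hsq.lift_snd _ _ _) hsq
    have hk : IsIso f₀.appTop := by
      have : IsIso ((Scheme.ΓSpecIso (CommRingCat.of (R ⧸ m))).inv ≫ f₀.appTop) :=
        (ConcreteCategory.isIso_iff_bijective _).mpr h0
      exact IsIso.of_isIso_comp_left (Scheme.ΓSpecIso (CommRingCat.of (R ⧸ m))).inv _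
    have : IsProper f₀ := MorphismProperty.of_isPullback hsq (inferInstance : IsProper g)
    have : CompactSpace X₀ := QuasiCompact.compactSpace_of_compactSpace f₀
    have : QuasiSeparatedSpace X₀ := quasiSeparatedSpace_of_quasiSeparated f₀
    have hy : IsIso (g.fiberToSpecResidueField y).appTop := GITLib.Rigid.isIso_appTop_of_isPullback H hk
    obtain ⟨U, hyU, hU⟩ := Groth.Agent.S2393.result g y ((ConcreteCategory.isIso_iff_bijective _).mp
      (inferInstanceAs (IsIso ((Scheme.ΓSpecIso _).inv ≫ (g.fiberToSpecResidueField y).appTop))))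
    have hyc : y = IsLocalRing.closedPoint R := PrimeSpectrum.ext (by
      show Ideal.comap (Ideal.Quotient.mk m) (IsLocalRing.maximalIdeal (R ⧸ m)) = m
      rw [IsLocalRing.isField_iff_maximalIdeal_eq.mp (Field.toIsField (R ⧸ m)), ← RingHom.ker_eq_comap_bot,
        Ideal.mk_ker])
    have htop : U = ⊤ := top_unique fun z _ =>
      (IsLocalRing.specializes_closedPoint (R := R) z).mem_open U.2 (hyc ▸ hyU)
    have := hU ⊤ htop.ge
    exact (ConcreteCategory.isIso_iff_bijective _).mp
      (inferInstanceAs (IsIso ((Scheme.ΓSpecIso (CommRingCat.of R)).inv ≫ g.app ⊤)))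

end Groth.Agent.S14285
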