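import Groth.Statements.S7185
import Mathlib.FieldTheory.SeparableDegree

set_option autoImplicit false
universe u
open FlatMor

namespace Groth.Agent.S7185

open CategoryTheory CategoryTheory.Limits AlgebraicGeometry in
theorem fibreIntegral_comp_iso {U U' V : Scheme.{u}} (e : U' ≅ U) (π : U ⟶ V) (w : U → ℤ) (v : V) :
    MoreMor.fibreIntegral (e.hom ≫ π) (fun u ↦ w (e.hom u)) v =
      MoreMor.fibreIntegral π w v := by
  unfold MoreMor.fibreIntegral
  rw [← finsum_comp_equiv (Equiv.subtypeEquiv (Scheme.homeoOfIso e).toEquiv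
    (p := fun u : U' ↦ (e.hom ≫ π) u = v) (q := fun u : U ↦ π u = v) fun u ↦ Iff.rfl)]
  refine finsum_congr fun u ↦ ?_
  congr 2
  let _ : Algebra (V.residueField ((e.hom ≫ π) u.1)) (U.residueField (e.hom u.1)) :=
    (π.residueFieldMap (e.hom u.1)).hom.toAlgebra
  let _ := ((e.hom ≫ π).residueFieldMap u.1).hom.toAlgebra
  exact (Field.finSepDegree_eq_of_equiv _ _ _
    { (asIso (e.hom.residueFieldMap u.1)).commRingCatIsoToRingEquiv with
      commutes' := fun a ↦ by
        change (π.residueFieldMap (e.hom u.1) ≫ e.hom.residueFieldMap u.1) a = _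
        rw [← Scheme.residueFieldMap_comp]
        rfl }).symm

open AlgebraicGeometry CategoryTheory Limits in
/-- The restriction of a weighting of a locally quasi-finite morphism f : X → Y (locally of finite type
with discrete fibres) to an open subscheme X' of X is a weighting of X' → Y. -/
theorem result {X Y : Scheme.{u}} (f : X ⟶ Y) [LocallyQuasiFinite f] [LocallyOfFiniteType f] (w : X → ℤ)
    (hw : MoreMor.IsWeighting f w) (X' : X.Opens) : MoreMor.IsWeighting (X'.ι ≫ f) (fun x => w (X'.ι x)) := by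
  intro V g _ U hU
  let m : pullback (X'.ι ≫ f) g ⟶ pullback f g :=
    pullback.map (X'.ι ≫ f) g f g X'.ι (𝟙 V) (𝟙 Y) (by simp) (by simp)
  have hm : m ≫ pullback.snd f g = pullback.snd (X'.ι ≫ f) g := pullback.lift_snd _ _ _ |>.trans (Category.comp_id _)
  have hm' : m ≫ pullback.fst f g = pullback.fst (X'.ι ≫ f) g ≫ X'.ι :=
    pullback.lift_fst _ _ _
  let e := m.isoImage U
  have heq : U.ι ≫ pullback.snd (X'.ι ≫ f) g =
      e.hom ≫ ((m ''ᵁ U).ι ≫ pullback.snd f g) := by
    rw [← hm]
    simp [e]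
  have hfin : IsFinite ((m ''ᵁ U).ι ≫ pullback.snd f g) := by
    rw [heq] at hU
    exact (MorphismProperty.cancel_left_of_respectsIso @IsFinite e.hom _).mp hU
  have hw' : (fun u ↦ w (X'.ι (pullback.fst (X'.ι ≫ f) g (U.ι u)))) =
      fun u ↦ w (pullback.fst f g ((m ''ᵁ U).ι (e.hom u))) := by
    funext u
    congr 1
    rw [← Scheme.Hom.comp_apply, ← Scheme.Hom.comp_apply, ← Scheme.Hom.comp_apply,
      ← Scheme.Hom.comp_apply]
    congr 1
    simp [e, hm']
  have := hw V g (m ''ᵁ U) hfin
  convert this using 1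
  funext v
  rw [hw', heq]
  exact fibreIntegral_comp_iso e _ (fun z ↦ w (pullback.fst f g ((m ''ᵁ U).ι z))) v

end Groth.Agent.S7185
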