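import Groth.Statements.S14292
import Groth.Agent.EllJIsom.Forms
import Mathlib.FieldTheory.IsAlgClosed.AlgebraicClosure
import Mathlib.RingTheory.Spectrum.Prime.RingHom

set_option autoImplicit false
universe u
open EllLift

namespace Groth.Agent.S14292

/-- Let A be a commutative ring and W₁, W₂ Weierstrass cubics over A with unit discriminants and the
same j-invariant j, such that j and j - 1728 are both units of A (the modular invariant avoids the
special values 0 and 1728 at every point). Then for every prime ideal p of A there exist an étale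
A-algebra B with a prime lying over p and a change of variables over B carrying the base change of
W₁ to that of W₂; that is, the two elliptic curves become isomorphic on an étale neighbourhood of
every point of Spec A. (The published statement is about Weierstrass curves with possibly nodal,
geometrically irreducible fibres over an arbitrary base scheme whose modular invariant avoids 0,
1728 and ∞; this row is the case of unit discriminant over an affine base.) -/
theorem result (A : Type u) [CommRing A]
    (W₁ W₂ : WeierstrassCurve A) [W₁.IsElliptic] [W₂.IsElliptic] (hj : W₁.j = W₂.j)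
    (h0 : IsUnit W₁.j) (h1728 : IsUnit (W₁.j - 1728)) (p : PrimeSpectrum A) :
    ∃ (B : Type u) (_ : CommRing B) (_ : Algebra A B), Algebra.Etale A B ∧
      p ∈ Set.range (PrimeSpectrum.comap (algebraMap A B)) ∧
      ∃ C : WeierstrassCurve.VariableChange B, C • (W₁.map (algebraMap A B)) = W₂.map (algebraMap A B) := by
  have hΔ : ∀ W : WeierstrassCurve A, ∀ [W.IsElliptic], IsUnit W.Δ := fun W _ => W.isUnit_Δ
  have hj' : ∀ W : WeierstrassCurve A, ∀ [W.IsElliptic], W.j * W.Δ = W.c₄ ^ 3 := fun W _ => by
    rw [WeierstrassCurve.j, mul_comm, ← mul_assoc, ← W.coe_Δ', Units.mul_inv, one_mul]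
  have hc4 : ∀ W : WeierstrassCurve A, ∀ [W.IsElliptic], IsUnit W.j → IsUnit W.c₄ := fun W _ h => by
    have := h.mul (hΔ W)
    rw [hj'] at this
    exact (isUnit_pow_iff (by norm_num)).mp this
  have hc6 : ∀ W : WeierstrassCurve A, ∀ [W.IsElliptic], IsUnit (W.j - 1728) → IsUnit W.c₆ :=
    fun W _ h => by
      have := h.mul (hΔ W)
      rw [sub_mul, hj', W.c_relation, sub_sub_cancel] at this
      exact (isUnit_pow_iff (by norm_num)).mp this
  have hadm : EllJIsom.Adm W₁ W₂ := ⟨hc4 W₁ h0, hc4 W₂ (hj ▸ h0), hc6 W₁ h1728,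
    hc6 W₂ (by rw [← hj]; exact h1728), by rw [← hj' W₁, ← hj' W₂, hj]; ring⟩
  let Ω := AlgebraicClosure p.asIdeal.ResidueField
  let ρ : A →+* Ω := (algebraMap p.asIdeal.ResidueField Ω).comp (algebraMap A p.asIdeal.ResidueField)
  have hiso : EllJIsom.IsLocIso A ρ W₁ W₂ := by
    by_cases h2 : ρ 2 = 0
    · exact EllJIsom.two ρ W₁ W₂ h2 hadm
    by_cases h3 : ρ 3 = 0
    · exact EllJIsom.three ρ W₁ W₂ h3 hadm
    refine EllJIsom.six ρ W₁ W₂ ?_ hadm
    rw [show (6 : A) = 2 * 3 by norm_num, map_mul]
    exact mul_ne_zero h2 h3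
  obtain ⟨B, _, _, he, ⟨φ, hφ⟩, hC⟩ := hiso
  refine ⟨B, _, _, he, ⟨⟨RingHom.ker φ, RingHom.ker_isPrime φ⟩, ?_⟩, hC⟩
  refine PrimeSpectrum.ext ?_
  show Ideal.comap (algebraMap A B) (RingHom.ker φ) = p.asIdeal
  rw [RingHom.comap_ker, hφ, RingHom.ker_comp_of_injective _ (algebraMap p.asIdeal.ResidueField Ω).injective,
    Ideal.ker_algebraMap_residueField]

end Groth.Agent.S14292
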