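import Groth.Statements.S14297
import Mathlib
-- import your own Groth.Agent.* helpers here

set_option autoImplicit false
universe u
open MeasureTheory
open PtDeg

namespace Groth.Agent.S14297
/-- A continuous function on a finite product of compact Hausdorff spaces is measurable for the
product σ-algebra. -/
theorem measurable_of_continuous_pi {ι : Type*} {G : Type u} [TopologicalSpace G] [CompactSpace G]
    [T2Space G] [MeasurableSpace G] [BorelSpace G] (f : C(ι → G, ℝ)) : Measurable ⇑f := by
  let gens : Set C(ι → G, ℝ) :=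
    Set.range fun p : ι × C(G, ℝ) => p.2.comp ⟨fun x => x p.1, continuous_apply p.1⟩
  let A : Subalgebra ℝ C(ι → G, ℝ) := Algebra.adjoin ℝ gens
  have hA : ∀ g ∈ A, Measurable ⇑g := by
    intro g hg
    induction hg using Algebra.adjoin_induction with
    | mem x hx =>
      obtain ⟨⟨i, h⟩, rfl⟩ := hx
      exact h.continuous.measurable.comp (measurable_pi_apply i)
    | algebraMap r => exact measurable_const
    | add x y _ _ hx hy => exact hx.add hy
    | mul x y _ _ hx hy => exact hx.mul hy
  have hsep : A.SeparatesPoints := by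
    intro x y hxy
    obtain ⟨i, hi⟩ := Function.ne_iff.mp hxy
    obtain ⟨h, h0, h1, -⟩ := exists_continuous_zero_one_of_isClosed (isClosed_singleton (x := x i))
      (isClosed_singleton (x := y i)) (Set.disjoint_singleton.mpr hi)
    exact ⟨_, ⟨_, Algebra.subset_adjoin ⟨(i, h), rfl⟩, rfl⟩, by
      change h (x i) ≠ h (y i)
      rw [h0 rfl, h1 rfl]; simp⟩
  have hf : f ∈ closure (A : Set C(ι → G, ℝ)) := by
    have := ContinuousMap.subalgebra_topologicalClosure_eq_top_of_separatesPoints A hsep
    rw [← Subalgebra.topologicalClosure_coe, this]; trivial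
  obtain ⟨u, hu, hlim⟩ := mem_closure_iff_seq_limit.mp hf
  refine measurable_of_tendsto_metrizable (f := fun n => ⇑(u n)) (fun n => hA _ (hu n)) ?_
  exact tendsto_pi_nhds.mpr fun x => ((continuous_eval_const x).tendsto f).comp hlim

variable {G : Type u} [TopologicalSpace G] [CompactSpace G] [T2Space G] [MeasurableSpace G]
  [BorelSpace G] {m : ℕ} (ν : MeasureTheory.Measure (Fin m → G)) [MeasureTheory.IsProbabilityMeasure ν]

theorem integrable_of_continuous {F : (Fin m → G) → ℝ} (hF : Continuous F) :
    MeasureTheory.Integrable F ν := by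
  refine MeasureTheory.Integrable.of_bound
    (measurable_of_continuous_pi ⟨F, hF⟩).stronglyMeasurable.aestronglyMeasurable
    ‖(⟨F, hF⟩ : C(Fin m → G, ℝ))‖ (Filter.Eventually.of_forall fun x => ?_)
  exact ContinuousMap.norm_coe_le_norm (⟨F, hF⟩ : C(Fin m → G, ℝ)) x

theorem continuous_integral {F : G × (Fin m → G) → ℝ} (hF : Continuous F) :
    Continuous fun g => ∫ u, F (g, u) ∂ν := by
  let C : C(G, C(Fin m → G, ℝ)) := ContinuousMap.curry ⟨F, hF⟩
  have hI : LipschitzWith 1 fun h : C(Fin m → G, ℝ) => ∫ u, h u ∂ν := by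
    refine LipschitzWith.of_dist_le_mul fun a b => ?_
    rw [NNReal.coe_one, one_mul, dist_eq_norm, dist_eq_norm,
      ← MeasureTheory.integral_sub (integrable_of_continuous ν a.continuous)
        (integrable_of_continuous ν b.continuous)]
    refine (MeasureTheory.norm_integral_le_of_norm_le_const (C := ‖a - b‖)
      (Filter.Eventually.of_forall fun x => ContinuousMap.norm_coe_le_norm (a - b) x)).trans ?_
    simp
  exact hI.continuous.comp C.continuous

theorem integrable_prod_of_continuous (μ : MeasureTheory.Measure G)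
    [MeasureTheory.IsProbabilityMeasure μ] {F : G × (Fin m → G) → ℝ} (hF : Continuous F) :
    MeasureTheory.Integrable (Function.uncurry fun w u => F (w, u)) (μ.prod ν) := by
  let F' : C(Fin (m + 1) → G, ℝ) :=
    ⟨fun x => F (x 0, fun i => x i.succ), hF.comp ((continuous_apply 0).prodMk
      (continuous_pi fun i => continuous_apply i.succ))⟩
  have hm : Measurable fun p : G × (Fin m → G) => (Fin.cons p.1 p.2 : Fin (m + 1) → G) :=
    measurable_pi_lambda _ fun i => Fin.cases (by simpa using measurable_fst)
      (fun j => by simp only [Fin.cons_succ]; exact (measurable_pi_apply j).comp measurable_snd) i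
  refine MeasureTheory.Integrable.of_bound ?_ ‖(⟨F, hF⟩ : C(G × (Fin m → G), ℝ))‖
    (Filter.Eventually.of_forall fun p => ContinuousMap.norm_coe_le_norm (⟨F, hF⟩ : C(G × (Fin m → G), ℝ)) p)
  have : (Function.uncurry fun w u => F (w, u)) = fun p => F' (Fin.cons p.1 p.2) := by
    funext p
    simp [F', Function.uncurry]
  rw [this]
  exact ((measurable_of_continuous_pi F').comp hm).stronglyMeasurable.aestronglyMeasurable

/-- Averaging over one coordinate kills a translation independent of that coordinate. -/
theorem integral_translate {G : Type u} [AddCommGroup G] [TopologicalSpace G] [IsTopologicalAddGroup G]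
    [CompactSpace G] [T2Space G] [MeasurableSpace G] [BorelSpace G]
    (μ : MeasureTheory.Measure G) [μ.IsAddHaarMeasure] [MeasureTheory.IsProbabilityMeasure μ]
    {m : ℕ} {φ : G → ℝ} (hφ : Continuous φ) (l : Fin m) (T : (Fin m → G) → G) (hT : Continuous T)
    (hT' : ∀ u v, T (Function.update u l v) = T u) (F : (Fin m → G) → G)
    (hF : F = fun u => u l + T u) :
    ∫ u, φ (F u) ∂(MeasureTheory.Measure.pi fun _ : Fin m => μ) = ∫ v, φ v ∂μ := by
  classical
  subst hF
  set ν := MeasureTheory.Measure.pi fun _ : Fin m => μ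
  have hc : Continuous fun u : Fin m → G => φ (u l + T u) :=
    hφ.comp ((continuous_apply l).add hT)
  -- average over translations of the `l`-th coordinate
  have h1 : ∀ w : G, ∫ u, φ (w + (u l + T u)) ∂ν = ∫ u, φ (u l + T u) ∂ν := by
    intro w
    rw [← MeasureTheory.integral_add_left_eq_self (E := ℝ) (μ := ν) (fun u : Fin m → G => φ (u l + T u))
      (Pi.single l w : Fin m → G)]
    refine congrArg (fun H : (Fin m → G) → ℝ => ∫ u, H u ∂ν) (funext fun u => ?_)
    have : T (Pi.single l w + u) = T u := by
      rw [← hT' u (w + u l)]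
      congr 1
      funext i
      rcases eq_or_ne i l with rfl | hi
      · simp
      · simp [Function.update_of_ne hi, Pi.single_eq_of_ne hi]
    rw [this, Pi.add_apply, Pi.single_eq_same, add_assoc]
  have hG : Continuous fun p : G × (Fin m → G) => φ (p.1 + (p.2 l + T p.2)) :=
    hφ.comp (continuous_fst.add (((continuous_apply l).comp continuous_snd).add (hT.comp continuous_snd)))
  calc ∫ u, φ (u l + T u) ∂ν = ∫ w, ∫ u, φ (w + (u l + T u)) ∂ν ∂μ := by simp [h1]
    _ = ∫ u, ∫ w, φ (w + (u l + T u)) ∂μ ∂ν :=
      MeasureTheory.integral_integral_swap (integrable_prod_of_continuous ν μ hG)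
    _ = ∫ v, φ v ∂μ := by simp [MeasureTheory.integral_add_right_eq_self]

/-- Let G be a compact Hausdorff commutative topological group, written additively, μ its Haar measure
of total mass 1, m ≥ 1 an integer and ψ : G^{m+1} → ℝ a continuous function which is a 2-cocycle
with respect to every pair of variables: for all positions i ≠ j, every point x of G^{m+1} and all
a, b, c in G, writing x[i ↦ a, j ↦ c] for x with its i-th coordinate replaced by a and its j-th by
c, one has ψ(x[i ↦ a+b, j ↦ c]) + ψ(x[i ↦ a, j ↦ b]) = ψ(x[i ↦ a, j ↦ b+c]) + ψ(x[i ↦ b, j ↦ c]).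
Let φ : G → ℝ be φ(g) = (−1)^m ∫_{G^m} ψ(g, u_1, …, u_m) dμ^{⊗m}(u). Then ψ is the (m+1)-st
deviation of φ, namely ψ(x) = Σ_{∅ ≠ I ⊆ {0,…,m}} (−1)^{m+1+|I|} φ(Σ_{i ∈ I} x_i) for every x; φ is
continuous; and φ is the unique continuous function G → ℝ with this property. -/
theorem result {G : Type u} [AddCommGroup G] [TopologicalSpace G] [IsTopologicalAddGroup G] [CompactSpace G] [T2Space G]
    [MeasurableSpace G] [BorelSpace G] (μ : MeasureTheory.Measure G) [μ.IsAddHaarMeasure] [MeasureTheory.IsProbabilityMeasure μ]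
    (m : ℕ) (hm : 1 ≤ m) (ψ : (Fin (m + 1) → G) → ℝ) (hψc : Continuous ψ)
    (hψ : ∀ (i j : Fin (m + 1)), i ≠ j → ∀ (x : Fin (m + 1) → G) (a b c : G),
      ψ (Function.update (Function.update x i (a + b)) j c) + ψ (Function.update (Function.update x i a) j b) =
        ψ (Function.update (Function.update x i a) j (b + c)) + ψ (Function.update (Function.update x i b) j c)) :
    (∀ x : Fin (m + 1) → G,
      ψ x = ∑ I ∈ ((Finset.univ : Finset (Fin (m + 1))).powerset.erase ∅),
        (-1 : ℝ) ^ (m + 1 + I.card) * ((-1 : ℝ) ^ m *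
          ∫ u, ψ (Fin.cons (∑ i ∈ I, x i) u) ∂(MeasureTheory.Measure.pi (fun _ : Fin m => μ)))) ∧
    Continuous (fun g : G => (-1 : ℝ) ^ m * ∫ u, ψ (Fin.cons g u) ∂(MeasureTheory.Measure.pi (fun _ : Fin m => μ))) ∧
    (∀ φ : G → ℝ, Continuous φ → (∀ x : Fin (m + 1) → G,
      ψ x = ∑ I ∈ ((Finset.univ : Finset (Fin (m + 1))).powerset.erase ∅), (-1 : ℝ) ^ (m + 1 + I.card) * φ (∑ i ∈ I, x i)) →
      φ = fun g => (-1 : ℝ) ^ m * ∫ u, ψ (Fin.cons g u) ∂(MeasureTheory.Measure.pi (fun _ : Fin m => μ))) := by
  classical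
  set ν := MeasureTheory.Measure.pi (fun _ : Fin m => μ) with hν
  -- partially averaged function: coordinates below `k` are integrated out
  let mix (k : ℕ) (x : Fin (m + 1) → G) (u : Fin m → G) : Fin m → G :=
    fun i => if (i : ℕ) < k then u i else x i.succ
  let Φ (k : ℕ) (x : Fin (m + 1) → G) (g : G) : ℝ := ∫ u, ψ (Fin.cons g (mix k x u)) ∂ν
  have hcont : ∀ (k : ℕ) (x : Fin (m + 1) → G),
      Continuous fun p : G × (Fin m → G) => ψ (Fin.cons p.1 (mix k x p.2)) := by
    intro k x
    refine hψc.comp (continuous_pi fun i => ?_)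
    refine Fin.cases ?_ (fun j => ?_) i
    · simpa using continuous_fst
    · simp only [Fin.cons_succ, mix]
      split_ifs
      · exact (continuous_apply j).comp continuous_snd
      · exact continuous_const
  have hint : ∀ (k : ℕ) (x : Fin (m + 1) → G) (g : G),
      Integrable (fun u => ψ (Fin.cons g (mix k x u))) ν := fun k x g =>
    integrable_of_continuous ν ((hcont k x).comp (Continuous.prodMk_right g))
  have hΦm : ∀ x g, Φ m x g = ∫ u, ψ (Fin.cons g u) ∂ν := by
    intro x g
    refine congrArg (fun F : (Fin m → G) → ℝ => ∫ u, F u ∂ν) (funext fun u => ?_)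
    congr 1
    congr 1
    funext i
    simp [mix]
  -- one averaging step
  have hstep : ∀ (k : Fin m) (x : Fin (m + 1) → G) (a : G),
      Φ k x a = Φ (k + 1) x a + Φ (k + 1) x (x k.succ) - Φ (k + 1) x (a + x k.succ) := by
    intro k x a
    set b := x k.succ with hb
    have key : ∀ u : Fin m → G,
        ψ (Fin.cons (a + b) (mix (k + 1) x u)) + ψ (Fin.cons a (mix k x u)) =
          ψ (Fin.cons a (mix (k + 1) x (Pi.single k b + u))) + ψ (Fin.cons b (mix (k + 1) x u)) := by
      intro u
      have h := hψ 0 k.succ (Fin.succ_ne_zero k).symm (Fin.cons a (mix (k + 1) x u)) a b (u k)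
      simp only [Fin.update_cons_zero, ← Fin.cons_update] at h
      have e1 : Function.update (mix (k + 1) x u) k (u k) = mix (k + 1) x u := by
        refine Function.update_eq_self_iff.mpr ?_
        simp [mix]
      have e2 : Function.update (mix (k + 1) x u) k b = mix k x u := by
        funext i
        rcases eq_or_ne i k with rfl | hi
        · simp [mix, hb]
        · have hi' : (i : ℕ) ≠ k := fun h' => hi (Fin.ext h')
          simp only [Function.update_of_ne hi, mix]
          split_ifs <;> first | rfl | omega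
      have e3 : Function.update (mix (k + 1) x u) k (b + u k) = mix (k + 1) x (Pi.single k b + u) := by
        funext i
        rcases eq_or_ne i k with rfl | hi
        · simp [mix]
        · simp [mix, Function.update_of_ne hi, Pi.single_eq_of_ne hi]
      rw [e1, e2, e3] at h
      exact h
    have htr : ∫ u, ψ (Fin.cons a (mix (k + 1) x (Pi.single k b + u))) ∂ν = Φ (k + 1) x a :=
      integral_add_left_eq_self (E := ℝ) (μ := ν) (fun u : Fin m → G => ψ (Fin.cons a (mix (k + 1) x u)))
        (Pi.single k b : Fin m → G)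
    have hint' : Integrable (fun u => ψ (Fin.cons a (mix (k + 1) x (Pi.single k b + u)))) ν :=
      integrable_of_continuous ν (((hcont (k + 1) x).comp (Continuous.prodMk_right a)).comp
        (continuous_const.add continuous_id))
    have hI : ∫ u, ψ (Fin.cons (a + b) (mix (k + 1) x u)) + ψ (Fin.cons a (mix k x u)) ∂ν =
        ∫ u, ψ (Fin.cons a (mix (k + 1) x (Pi.single k b + u))) + ψ (Fin.cons b (mix (k + 1) x u)) ∂ν :=
      congrArg (fun F : (Fin m → G) → ℝ => ∫ u, F u ∂ν) (funext key)
    rw [integral_add (hint (k + 1) x (a + b)) (hint k x a), integral_add hint' (hint (k + 1) x b),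
      htr] at hI
    simp only [Φ] at hI ⊢
    linarith
  -- inclusion–exclusion
  let U (k : ℕ) : Finset (Fin (m + 1)) := Finset.univ.filter (fun i => (i : ℕ) ≤ k)
  have hsum : ∀ k ≤ m, ∀ x : Fin (m + 1) → G,
      ψ x = ∑ I ∈ (U k).powerset.erase ∅, (-1 : ℝ) ^ (I.card + 1) * Φ k x (∑ i ∈ I, x i) := by
    intro k
    induction k with
    | zero =>
      intro _ x
      have hU : U 0 = {0} := by
        ext i
        simp only [U, Finset.mem_filter, Finset.mem_univ, true_and, Finset.mem_singleton, Nat.le_zero,
          Fin.ext_iff, Fin.val_zero]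
      have hmix : ∀ u, Fin.cons (x 0) (mix 0 x u) = x := fun u => by
        funext i
        refine Fin.cases ?_ (fun j => ?_) i <;> simp [mix]
      rw [hU, show ({0} : Finset (Fin (m + 1))).powerset.erase ∅ = {{0}} by
        ext I
        simp only [Finset.mem_erase, Finset.mem_powerset, Finset.subset_singleton_iff,
          Finset.mem_singleton]
        exact ⟨fun h => h.2.resolve_left h.1,
          fun h => ⟨by rw [h]; exact Finset.singleton_ne_empty _, Or.inr h⟩⟩]
      simp [Φ, hmix]
    | succ k ih =>
      intro hk x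
      let kk : Fin m := ⟨k, hk⟩
      let j : Fin (m + 1) := kk.succ
      have hj : j ∉ U k := by simp [U, j, kk]
      have hU : U (k + 1) = insert j (U k) := by
        ext i
        simp only [U, Finset.mem_insert, Finset.mem_filter, Finset.mem_univ, true_and, j, kk,
          Fin.ext_iff, Fin.val_succ]
        omega
      have hne : ∅ ∉ (U k).powerset.image (insert j) := by simp
      have hdisj : Disjoint ((U k).powerset.erase ∅) ((U k).powerset.image (insert j)) := by
        rw [Finset.disjoint_left]
        intro I hI hI'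
        obtain ⟨J, -, rfl⟩ := Finset.mem_image.mp hI'
        exact hj (Finset.mem_powerset.mp (Finset.mem_of_mem_erase hI) (Finset.mem_insert_self j J))
      have hinj : Set.InjOn (insert j) ((U k).powerset : Set (Finset (Fin (m + 1)))) := by
        intro I hI J hJ h
        have hI' : j ∉ I := fun h' => hj (Finset.mem_powerset.mp hI h')
        have hJ' : j ∉ J := fun h' => hj (Finset.mem_powerset.mp hJ h')
        rw [← Finset.erase_insert hI', ← Finset.erase_insert hJ']
        exact congrArg (Finset.erase · j) h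
      rw [hU, Finset.powerset_insert, Finset.erase_union_distrib, Finset.erase_eq_of_notMem hne,
        Finset.sum_union hdisj, Finset.sum_image hinj, ih (Nat.le_of_succ_le hk) x]
      have hterm : ∀ I : Finset (Fin (m + 1)), Φ k x (∑ i ∈ I, x i) =
          Φ (k + 1) x (∑ i ∈ I, x i) + Φ (k + 1) x (x j) - Φ (k + 1) x ((∑ i ∈ I, x i) + x j) :=
        fun I => hstep kk x _
      have hins : ∀ I ∈ (U k).powerset,
          (-1 : ℝ) ^ ((insert j I).card + 1) * Φ (k + 1) x (∑ i ∈ insert j I, x i) =
            -((-1 : ℝ) ^ (I.card + 1) * Φ (k + 1) x ((∑ i ∈ I, x i) + x j)) := by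
        intro I hI
        have hI' : j ∉ I := fun h' => hj (Finset.mem_powerset.mp hI h')
        rw [Finset.card_insert_of_notMem hI', Finset.sum_insert hI', add_comm (x j)]
        ring
      rw [Finset.sum_congr rfl hins]
      simp only [hterm, mul_sub, mul_add, Finset.sum_sub_distrib, Finset.sum_add_distrib,
        Finset.sum_neg_distrib]
      have hsigns : ∑ I ∈ (U k).powerset.erase ∅, (-1 : ℝ) ^ (I.card + 1) = 1 := by
        have h0 : ∑ I ∈ (U k).powerset, (-1 : ℝ) ^ I.card = 0 := by
          have hn : U k ≠ ∅ := Finset.Nonempty.ne_empty ⟨0, by simp [U]⟩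
          exact_mod_cast (by rw [Finset.sum_powerset_neg_one_pow_card, if_neg hn] :
            (∑ I ∈ (U k).powerset, (-1 : ℤ) ^ I.card) = 0)
        have h1 := Finset.add_sum_erase _ (fun I => (-1 : ℝ) ^ I.card) (Finset.empty_mem_powerset (U k))
        simp only [h0, Finset.card_empty, pow_zero] at h1
        simp only [pow_succ, mul_neg, mul_one, Finset.sum_neg_distrib]
        linarith
      rw [← Finset.sum_mul, hsigns, one_mul,
        ← Finset.add_sum_erase _ (fun I => (-1 : ℝ) ^ (I.card + 1) *
          Φ (k + 1) x ((∑ i ∈ I, x i) + x j)) (Finset.empty_mem_powerset (U k))]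
      simp
      ring
  have hfirst : ∀ x : Fin (m + 1) → G,
      ψ x = ∑ I ∈ ((Finset.univ : Finset (Fin (m + 1))).powerset.erase ∅),
        (-1 : ℝ) ^ (m + 1 + I.card) * ((-1 : ℝ) ^ m * ∫ u, ψ (Fin.cons (∑ i ∈ I, x i) u) ∂ν) := by
    intro x
    have hU : U m = Finset.univ := by
      ext i; simp [U, Nat.lt_succ_iff.mp i.isLt]
    rw [hsum m le_rfl x, hU]
    refine Finset.sum_congr rfl fun I _ => ?_
    rw [hΦm, ← mul_assoc, ← pow_add, show m + 1 + I.card + m = 2 * m + (I.card + 1) by ring,
      pow_add (-1 : ℝ) (2 * m), pow_mul]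
    simp
  refine ⟨hfirst, continuous_const.mul (continuous_integral ν (F := fun p => ψ (Fin.cons p.1 p.2))
    (hψc.comp (Continuous.finCons continuous_fst continuous_snd))), fun φ hφc hφ => funext fun g => ?_⟩
  -- uniqueness
  have hmp : ∀ i : Fin m, MeasurePreserving (fun u : Fin m → G => u i) ν μ := fun i =>
    measurePreserving_eval (fun _ : Fin m => μ) i
  have hI : ∀ I : Finset (Fin (m + 1)), (I.filter (fun i => i ≠ 0)).Nonempty →
      ∫ u, φ (∑ i ∈ I, (Fin.cons g u : Fin (m + 1) → G) i) ∂ν = ∫ v, φ v ∂μ := by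
    rintro I ⟨i, hi⟩
    obtain ⟨hiI, hi0⟩ := Finset.mem_filter.mp hi
    obtain ⟨l, rfl⟩ := Fin.exists_succ_eq.mpr hi0
    -- translate the `l`-th coordinate
    let T : (Fin m → G) → G := fun u =>
      ∑ i ∈ I.erase l.succ, (Fin.cons g u : Fin (m + 1) → G) i
    have hsplit : ∀ u, ∑ i ∈ I, (Fin.cons g u : Fin (m + 1) → G) i = u l + T u := fun u => by
      rw [← Finset.add_sum_erase I _ hiI, Fin.cons_succ]
    have hT : ∀ (u : Fin m → G) (v : G), T (Function.update u l v) = T u := fun u v => by
      refine Finset.sum_congr rfl fun i hi => ?_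
      rw [Fin.cons_update, Function.update_of_ne (Finset.ne_of_mem_erase hi)]
    exact integral_translate μ hφc l T (continuous_finsetSum _ fun i _ =>
      (continuous_apply i).comp (Continuous.finCons (A := fun _ => G) continuous_const continuous_id)) hT _
        (funext hsplit)
  have hconst : ∀ x : Fin m → G, ψ (Fin.cons g x) =
      ∑ I ∈ ((Finset.univ : Finset (Fin (m + 1))).powerset.erase ∅), (-1 : ℝ) ^ (m + 1 + I.card) *
        φ (∑ i ∈ I, (Fin.cons g x : Fin (m + 1) → G) i) := fun x => hφ _
  simp_rw [hconst]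
  have hint2 : ∀ I : Finset (Fin (m + 1)), Integrable
      (fun u => (-1 : ℝ) ^ (m + 1 + I.card) * φ (∑ i ∈ I, (Fin.cons g u : Fin (m + 1) → G) i)) ν :=
    fun I => (integrable_of_continuous ν (hφc.comp
      (continuous_finsetSum I fun i _ => (continuous_apply i).comp
        (Continuous.finCons (A := fun _ => G) continuous_const continuous_id)))).const_mul _
  rw [integral_finsetSum _ fun I _ => hint2 I]
  simp_rw [integral_const_mul]
  have h0mem : ({0} : Finset (Fin (m + 1))) ∈ (Finset.univ : Finset (Fin (m + 1))).powerset.erase ∅ := by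
    simp
  rw [← Finset.add_sum_erase _ _ h0mem]
  rw [Finset.sum_congr rfl (g := fun I : Finset (Fin (m + 1)) =>
    (-1 : ℝ) ^ (m + 1 + I.card) * ∫ v, φ v ∂μ) fun I hI' => ?_]
  · have hsig : ∑ I ∈ ((Finset.univ : Finset (Fin (m + 1))).powerset.erase ∅).erase {0},
        (-1 : ℝ) ^ (m + 1 + I.card) = 0 := by
      have h0 : ∑ I ∈ (Finset.univ : Finset (Fin (m + 1))).powerset, (-1 : ℝ) ^ I.card = 0 := by
        exact_mod_cast (by rw [Finset.sum_powerset_neg_one_pow_card, if_neg Finset.univ_nonempty.ne_empty] :
          (∑ I ∈ (Finset.univ : Finset (Fin (m + 1))).powerset, (-1 : ℤ) ^ I.card) = 0)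
      have h1 := Finset.add_sum_erase _ (fun I => (-1 : ℝ) ^ I.card)
        (Finset.empty_mem_powerset (Finset.univ : Finset (Fin (m + 1))))
      have h2 := Finset.add_sum_erase _ (fun I => (-1 : ℝ) ^ I.card) h0mem
      simp only [h0, Finset.card_empty, pow_zero] at h1
      simp only [Finset.card_singleton, pow_one] at h2
      simp only [pow_add _ (m + 1), ← Finset.mul_sum]
      refine mul_eq_zero_of_right _ ?_
      linarith
    rw [← Finset.sum_mul, hsig, zero_mul, add_zero]
    simp only [Finset.sum_singleton, Fin.cons_zero, Finset.card_singleton, integral_const,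
      probReal_univ, one_smul]
    rw [← mul_assoc, ← pow_add, show m + (m + 1 + 1) = 2 * (m + 1) by ring, pow_mul]
    simp
  · have hne : (I.filter (fun i => i ≠ 0)).Nonempty := by
      obtain ⟨hI0, hI1⟩ := Finset.mem_erase.mp hI'
      have hInonempty := Finset.nonempty_iff_ne_empty.mpr (Finset.ne_of_mem_erase hI1)
      by_contra hc
      refine hI0 (Finset.eq_singleton_iff_nonempty_unique_mem.mpr ⟨hInonempty, fun i hi => ?_⟩)
      by_contra hi0
      exact hc ⟨i, Finset.mem_filter.mpr ⟨hi, hi0⟩⟩
    rw [hI I hne]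

end Groth.Agent.S14297
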