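import Groth.Statements.S14305
import Groth.Agent.PtDegLib.Basic
-- import your own Groth.Agent.* helpers here

set_option autoImplicit false
universe u v
open PtDeg

namespace Groth.Agent.S14305

/-- Let A and G be abelian groups, written additively, f : A → G a map and n ≥ 1. For k ≥ 0 the k-th
deviation of f is the map A^k → G, (y_1, …, y_k) ↦ Σ_{∅ ≠ I ⊆ {1,…,k}} (−1)^{k+|I|} f(Σ_{i ∈ I}
y_i). Then f is pointed of degree n, meaning that its (n+1)-st deviation vanishes identically, if
and only if its n-th deviation is additive in each variable separately (with the other variables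
fixed). -/
theorem result {A : Type u} {G : Type v} [AddCommGroup A] [AddCommGroup G]
    (f : A → G) (n : ℕ) (hn : 1 ≤ n) :
    (∀ x : Fin (n + 1) → A, ∑ I ∈ ((Finset.univ : Finset (Fin (n + 1))).powerset.erase ∅), ((-1 : ℤ) ^ (n + 1 + I.card)) • f (∑ i ∈ I, x i) = 0) ↔
      (∀ (j : Fin n) (y : Fin n → A) (a b : A),
        ∑ I ∈ ((Finset.univ : Finset (Fin n)).powerset.erase ∅), ((-1 : ℤ) ^ (n + I.card)) • f (∑ i ∈ I, (Function.update y j (a + b)) i) =
          ∑ I ∈ ((Finset.univ : Finset (Fin n)).powerset.erase ∅), ((-1 : ℤ) ^ (n + I.card)) • f (∑ i ∈ I, (Function.update y j a) i) + ∑ I ∈ ((Finset.univ : Finset (Fin n)).powerset.erase ∅), ((-1 : ℤ) ^ (n + I.card)) • f (∑ i ∈ I, (Function.update y j b) i)) := by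
  classical
  simp only [Groth.Agent.PtDegLib.sum_erase_eq_dev]
  open Groth.Agent.PtDegLib in
  have key : ∀ (j : Fin n) (y : Fin n → A) (a b : A),
      dev f Finset.univ (Fin.snoc (Function.update y j a) b : Fin (n + 1) → A) 0 - ((-1 : ℤ) ^ (n + 1)) • f 0 =
        (dev f Finset.univ (Function.update y j (a + b)) 0 - ((-1 : ℤ) ^ n) • f 0) -
          (dev f Finset.univ (Function.update y j a) 0 - ((-1 : ℤ) ^ n) • f 0) -
          (dev f Finset.univ (Function.update y j b) 0 - ((-1 : ℤ) ^ n) • f 0) := by
    intro j y a b
    have hins : ∀ t c, dev f Finset.univ (Function.update y j t) c =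
        dev f (Finset.univ.erase j) y (c + t) - dev f (Finset.univ.erase j) y c := fun t c => by
      conv_lhs => rw [← Finset.insert_erase (Finset.mem_univ j), dev_insert _ _ _ _ (Finset.notMem_erase j _)]
      have hc : ∀ c, dev f (Finset.univ.erase j) (Function.update y j t) c = dev f (Finset.univ.erase j) y c :=
        fun c => dev_congr f _ c fun i hi => Function.update_of_ne (Finset.ne_of_mem_erase hi) t y
      rw [hc, hc, Function.update_self]
    have hu : (Finset.univ : Finset (Fin (n + 1))) = insert (Fin.last n) (Finset.univ.map Fin.castSuccEmb) := by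
      ext i
      cases i using Fin.lastCases <;> simp [Fin.castSucc_ne_last]
    have hsn : ((Fin.snoc (Function.update y j a) b : Fin (n + 1) → A) ∘ Fin.castSuccEmb) = Function.update y j a := by
      funext i; show (Fin.snoc (Function.update y j a) b : Fin (n + 1) → A) i.castSucc = _; rw [Fin.snoc_castSucc]
    rw [hu, dev_insert _ _ _ _ (by simp), dev_map, dev_map, hsn, Fin.snoc_last, hins, hins, hins, hins,
      zero_add, zero_add, zero_add, add_comm b a, pow_succ, mul_neg, mul_one, neg_smul]
    abel
  constructor
  · intro h j y a b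
    have := (key j y a b).symm.trans (h _)
    rwa [sub_sub, sub_eq_zero] at this
  · intro h x
    let j : Fin n := ⟨0, hn⟩
    have hx : x = Fin.snoc (Function.update (Fin.init x) j (Fin.init x j)) (x (Fin.last n)) := by
      rw [Function.update_eq_self, Fin.snoc_init_self]
    rw [hx, key, h]
    abel

end Groth.Agent.S14305
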