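import Groth.Statements.S14309
import Mathlib
-- import your own Groth.Agent.* helpers here

set_option autoImplicit false
universe u v w x y
open CAlg

namespace Groth.Agent.S14309

/-- Let R be a commutative ring; A, B, C commutative R-algebras; i : A → B and j : A → C jointly
injective R-algebra maps; c a non-zero-divisor of B; u : C → B/(c) a ring map with u ∘ j equal to i
followed by reduction modulo c; ζ in A with i ζ = c and j ζ = 0; η : R[X_σ, Z] → A an R-algebra map
with η(Z) = ζ; a : R[Y_τ] → B a surjective R-algebra map; η_Z : R[X_σ, Z] → R[Y_τ] a surjective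
R-algebra map with a ∘ η_Z = i ∘ η. Fix c̃ in R[Y_τ] with a(c̃) = c, a family (p_h) generating the
kernel of the composite R[X_σ] → R[X_σ, Z] → A → C, a family (q'_h) generating the kernel of a
together with lifts q_h along η_Z, a family (v_h) generating the kernel of η_Z, and elements g'_h of
R[Y_τ] with η_Z(p_h) + g'_h c̃ in the ideal (q'_h), together with lifts g_h along η_Z. Then the
kernel of η is the ideal generated by the elements Z q_h, Z v_h and p_h + Z g_h. (The published
statement is for the rings of cycle classes, with coefficients ℤ[1/6], of a smooth quotient stack, a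
smooth closed substack whose normal bundle has top Chern class c a non-zero-divisor, and the open
complement; this row states the ring-theoretic content for any such square of commutative rings in
which A embeds in B × C.) -/
theorem result
    {R : Type u} [CommRing R] {A : Type v} {B : Type w} {C : Type x}
    [CommRing A] [CommRing B] [CommRing C] [Algebra R A] [Algebra R B] [Algebra R C]
    (i : A →ₐ[R] B) (j : A →ₐ[R] C)
    (hinj : ∀ t : A, i t = 0 → j t = 0 → t = 0)
    (c : B) (hc : c ∈ nonZeroDivisors B) (u : C →+* B ⧸ Ideal.span ({c} : Set B))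
    (hu : ∀ t : A, u (j t) = Ideal.Quotient.mk (Ideal.span ({c} : Set B)) (i t))
    (ζ : A) (hiζ : i ζ = c) (hjζ : j ζ = 0)
    {σ τ ιp ιq ιv : Type y}
    (η : MvPolynomial (Option σ) R →ₐ[R] A) (hη : η (MvPolynomial.X none) = ζ)
    (a : MvPolynomial τ R →ₐ[R] B) (ha : Function.Surjective a)
    (ηZ : MvPolynomial (Option σ) R →ₐ[R] MvPolynomial τ R)
    (hcomm : ∀ t, a (ηZ t) = i (η t)) (hηZ : Function.Surjective ηZ)
    (cZ : MvPolynomial τ R) (hcZ : a cZ = c)
    (p : ιp → MvPolynomial σ R)
    (hp : Ideal.span (Set.range p) =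
      RingHom.ker ((j.comp η).comp (MvPolynomial.rename (Option.some : σ → Option σ))))
    (q' : ιq → MvPolynomial τ R) (hq' : Ideal.span (Set.range q') = RingHom.ker a)
    (q : ιq → MvPolynomial (Option σ) R) (hq : ∀ h, ηZ (q h) = q' h)
    (v : ιv → MvPolynomial (Option σ) R) (hv : Ideal.span (Set.range v) = RingHom.ker ηZ)
    (g' : ιp → MvPolynomial τ R)
    (hg' : ∀ h, ηZ (MvPolynomial.rename (Option.some : σ → Option σ) (p h)) + g' h * cZ ∈
      Ideal.span (Set.range q'))
    (g : ιp → MvPolynomial (Option σ) R) (hg : ∀ h, ηZ (g h) = g' h) :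
    RingHom.ker η = Ideal.span
      (Set.range (fun h : ιq => MvPolynomial.X none * q h) ∪
        Set.range (fun h : ιv => MvPolynomial.X none * v h) ∪
        Set.range (fun h : ιp =>
          MvPolynomial.rename (Option.some : σ → Option σ) (p h) + MvPolynomial.X none * g h)) := by
  classical
  set Z : MvPolynomial (Option σ) R := MvPolynomial.X none
  set I := Ideal.span (Set.range (fun h : ιq => Z * q h) ∪ Set.range (fun h : ιv => Z * v h) ∪
        Set.range (fun h : ιp => MvPolynomial.rename (Option.some : σ → Option σ) (p h) + Z * g h))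
  have hq0 : ∀ h, a (q' h) = 0 := fun h =>
    RingHom.mem_ker.mp (hq' ▸ Ideal.subset_span ⟨h, rfl⟩ : q' h ∈ RingHom.ker a)
  have hv0 : ∀ h, ηZ (v h) = 0 := fun h =>
    RingHom.mem_ker.mp (hv ▸ Ideal.subset_span ⟨h, rfl⟩ : v h ∈ RingHom.ker ηZ)
  apply le_antisymm
  · intro t ht
    rw [RingHom.mem_ker] at ht
    obtain ⟨t0, t1, rfl⟩ : ∃ t0 t1, t = MvPolynomial.rename (Option.some : σ → Option σ) t0 + Z * t1 := by
      clear ht
      induction t using MvPolynomial.induction_on with
      | C r => exact ⟨MvPolynomial.C r, 0, by simp⟩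
      | add s t hs ht =>
        obtain ⟨a0, a1, rfl⟩ := hs
        obtain ⟨b0, b1, rfl⟩ := ht
        exact ⟨a0 + b0, a1 + b1, by simp; ring⟩
      | mul_X s o hs =>
        obtain ⟨a0, a1, rfl⟩ := hs
        cases o with
        | none => exact ⟨0, MvPolynomial.rename Option.some a0 + Z * a1, by simp [Z]; ring⟩
        | some o => exact ⟨a0 * MvPolynomial.X o, a1 * MvPolynomial.X (some o), by simp [Z]; ring⟩
    have hj : t0 ∈ Ideal.span (Set.range p) := by
      rw [hp, RingHom.mem_ker]
      have := congrArg j ht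
      simpa [Z, hη, hjζ] using this
    obtain ⟨t2, ht2⟩ : ∃ t2, MvPolynomial.rename (Option.some : σ → Option σ) t0 - Z * t2 ∈ I := by
      clear ht
      induction hj using Submodule.span_induction with
      | mem x hx =>
        obtain ⟨h, rfl⟩ := hx
        refine ⟨-g h, ?_⟩
        rw [mul_neg, sub_neg_eq_add]
        exact Ideal.subset_span (Or.inr ⟨h, rfl⟩)
      | zero => exact ⟨0, by simp⟩
      | add x y _ _ hx hy =>
        obtain ⟨x2, hx2⟩ := hx
        obtain ⟨y2, hy2⟩ := hy
        refine ⟨x2 + y2, ?_⟩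
        have := I.add_mem hx2 hy2
        convert this using 1
        simp; ring
      | smul r x _ hx =>
        obtain ⟨x2, hx2⟩ := hx
        refine ⟨MvPolynomial.rename Option.some r * x2, ?_⟩
        have := I.mul_mem_left (MvPolynomial.rename Option.some r) hx2
        convert this using 1
        simp; ring
    have hker : ∀ x ∈ I, i (η x) = 0 := by
      intro x hx
      have hle : I ≤ RingHom.ker (i.comp η) := by
        rw [Ideal.span_le]
        rintro _ ((⟨h, rfl⟩ | ⟨h, rfl⟩) | ⟨h, rfl⟩)
        · simp [← hcomm, hq, hq0]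
        · simp [← hcomm, hv0]
        · simp only [SetLike.mem_coe, RingHom.mem_ker, AlgHom.comp_apply, ← hcomm, map_add, map_mul, hg]
          have hZ : a (ηZ Z) = a cZ := by rw [hcomm, hη, hiζ, hcZ]
          have := RingHom.mem_ker.mp (hq' ▸ hg' h : _ ∈ RingHom.ker a)
          rw [hZ, mul_comm, ← map_mul, ← map_add]
          simpa using this
      exact RingHom.mem_ker.mp (hle hx)
    have e : MvPolynomial.rename (Option.some : σ → Option σ) t0 + Z * t1 =
        (MvPolynomial.rename (Option.some : σ → Option σ) t0 - Z * t2) + Z * (t2 + t1) := by ring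
    rw [e] at ht ⊢
    refine I.add_mem ht2 ?_
    have h0 : a (ηZ (t2 + t1)) = 0 := by
      have h1 := congrArg i ht
      rw [map_add η, map_add i, hker _ ht2, zero_add, map_mul η, map_mul i, hη, hiζ, ← hcomm, map_zero] at h1
      exact (mul_left_mem_nonZeroDivisors_eq_zero_iff hc).mp h1
    have h2 : t2 + t1 ∈ Ideal.span (Set.range q) ⊔ RingHom.ker ηZ := by
      have h3 : ηZ (t2 + t1) ∈ (Ideal.span (Set.range q)).map ηZ := by
        rw [Ideal.map_span, ← Set.range_comp, show (ηZ ∘ q) = q' from funext hq, hq']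
        exact h0
      obtain ⟨w, hw, hw'⟩ := (Ideal.mem_map_iff_of_surjective _ hηZ).mp h3
      rw [show t2 + t1 = w + ((t2 + t1) - w) by ring]
      exact Submodule.add_mem_sup hw (by rw [RingHom.mem_ker, map_sub, hw', sub_self])
    rw [← hv, ← Ideal.span_union] at h2
    have h4 : Z * (t2 + t1) ∈ Ideal.span {Z} * Ideal.span (Set.range q ∪ Set.range v) :=
      Ideal.mul_mem_mul (Ideal.mem_span_singleton_self Z) h2
    rw [Ideal.span_mul_span'] at h4
    refine Ideal.span_mono ?_ h4
    rintro _ ⟨z, hz, w, hw, rfl⟩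
    rw [Set.mem_singleton_iff] at hz
    subst hz
    rcases hw with ⟨h, rfl⟩ | ⟨h, rfl⟩
    · exact Or.inl (Or.inl ⟨h, rfl⟩)
    · exact Or.inl (Or.inr ⟨h, rfl⟩)
  · rw [Ideal.span_le]
    intro x hx
    rw [SetLike.mem_coe, RingHom.mem_ker]
    refine hinj _ ?_ ?_
    · rw [← hcomm]
      rcases hx with (⟨h, rfl⟩ | ⟨h, rfl⟩) | ⟨h, rfl⟩
      · simp [hq, hq0]
      · simp [hv0]
      · have hZ : a (ηZ Z) = a cZ := by rw [hcomm, hη, hiζ, hcZ]
        have := RingHom.mem_ker.mp (hq' ▸ hg' h : _ ∈ RingHom.ker a)
        simp only [map_add, map_mul, hg, hZ]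
        rw [mul_comm, ← map_mul, ← map_add]
        exact this
    · rcases hx with (⟨h, rfl⟩ | ⟨h, rfl⟩) | ⟨h, rfl⟩
      · simp [Z, hη, hjζ]
      · simp [Z, hη, hjζ]
      · have this : p h ∈ Ideal.span (Set.range p) := Ideal.subset_span ⟨h, rfl⟩
        rw [hp, RingHom.mem_ker] at this
        simp only [AlgHom.comp_apply] at this
        simp [Z, hη, hjζ, this]

end Groth.Agent.S14309
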