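import Groth.Statements.S1431
import Groth.Agent.CBC.VBLocusO
import Groth.Agent.GrpdLib.AntiAffineRigid
import Groth.Agent.FormalFun.HomMonoEpi

set_option autoImplicit false
universe u
open FlatMor

namespace Groth.Agent.S1431

open AlgebraicGeometry CategoryTheory Limits in
/-- The hypothesis gives constant functions on all fibres of all base changes. -/
theorem constFibres {X S : Scheme.{u}} (f : X ⟶ S)
    (hO : ∀ (T : Scheme.{u}) (g : T ⟶ S) (U : T.Opens), IsIso ((pullback.snd f g).app U)) :
    Groth.Agent.CBC.VBO.ConstFibres f := fun T u z => by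
  let q := T.fromSpecResidueField z
  have H : IsPullback (pullback.fst (pullback.snd f u) q ≫ pullback.fst f u)
      ((pullback.snd f u).fiberToSpecResidueField z) f (q ≫ u) :=
    (IsPullback.of_hasPullback (pullback.snd f u) q).paste_horiz (IsPullback.of_hasPullback f u)
  haveI : IsIso (pullback.snd f (q ≫ u)).appTop := hO _ _ _
  haveI : IsIso H.isoPullback.hom.appTop := inferInstanceAs (IsIso (Scheme.Γ.map H.isoPullback.hom.op))
  have h1 : IsIso ((pullback.snd f u).fiberToSpecResidueField z).appTop := by
    rw [← H.isoPullback_hom_snd, Scheme.Hom.comp_appTop]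
    exact IsIso.comp_isIso' ‹_› ‹_›
  exact (ConcreteCategory.bijective_of_isIso ((pullback.snd f u).fiberToSpecResidueField z).appTop).comp
    (ConcreteCategory.bijective_of_isIso (Scheme.ΓSpecIso (T.residueField z)).inv)

open AlgebraicGeometry CategoryTheory Limits in
/-- The hypothesis gives geometrically connected fibres. -/
theorem geometricallyConnected {X S : Scheme.{u}} (f : X ⟶ S)
    (hO : ∀ (T : Scheme.{u}) (g : T ⟶ S) (U : T.Opens), IsIso ((pullback.snd f g).app U)) :
    GeometricallyConnected f := by
  refine ⟨fun K _ y P h hp H => ?_⟩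
  haveI : IsIso (pullback.snd f y).appTop := hO _ _ _
  haveI : ConnectedSpace ↥(pullback f y) :=
    Groth.Agent.GrpdLib.AntiAffineRigid.connectedSpace_of_antiAffine (K := K)
    (X := Over.mk (pullback.snd f y))
    ((ConcreteCategory.bijective_of_isIso (pullback.snd f y).appTop).comp
      (ConcreteCategory.bijective_of_isIso (Scheme.ΓSpecIso (CommRingCat.of K)).inv))
  exact H.isoPullback.inv.surjective.connectedSpace H.isoPullback.inv.continuous

open AlgebraicGeometry CategoryTheory Limits in
/-- Let f : X → S be flat, proper and of finite presentation such that for every base change p : X_T → T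
the map O_T → p_* O_{X_T} is an isomorphism, and let E be a finite locally free O_X-module. Then
some immersion j : Z → S of finite presentation has the property that a morphism g : T → S factors
through j exactly when the pullback of E to X_T is isomorphic to the pullback along p of some finite
locally free O_T-module. -/
theorem result {X S : Scheme.{u}} (f : X ⟶ S) [Flat f] [IsProper f] [LocallyOfFinitePresentation f]
    (hO : ∀ (T : Scheme.{u}) (g : T ⟶ S) (U : T.Opens), IsIso ((pullback.snd f g).app U))
    (E : X.Modules) (hE : FlatMod.IsFinLocFree E) :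
    ∃ (Z : Scheme.{u}) (j : Z ⟶ S), IsImmersion j ∧ LocallyOfFinitePresentation j ∧
      ∀ (T : Scheme.{u}) (g : T ⟶ S), (∃ g' : T ⟶ Z, g' ≫ j = g) ↔
        ∃ N : T.Modules, FlatMod.IsFinLocFree N ∧
          Nonempty ((Scheme.Modules.pullback (pullback.snd f g)).obj N ≅ (Scheme.Modules.pullback (pullback.fst f g)).obj E) := by
  haveI := geometricallyConnected f hO
  haveI : E.IsQuasicoherent := (Groth.Agent.VBLib.isCoh_of_isFinLocFree hE).1
  have hF : CohB1.IsFP E := Groth.Agent.Props.QProj.isFP E hE
  have hfl : FlatMod.IsFlatOver f E := Groth.Agent.FormalFun.isFlatOver_of_isFinLocFree' f hE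
  obtain ⟨Z, j, h1, h2, -, h4⟩ :=
    Groth.Agent.CBC.VBO.exists_seesaw hE (constFibres f hO) hfl hF
  refine ⟨Z, j, h1, h2, fun T g => (h4 T g).trans ⟨?_, ?_⟩⟩
  · rintro ⟨N, hN, ⟨e⟩⟩; exact ⟨N, hN, ⟨e.symm⟩⟩
  · rintro ⟨N, hN, ⟨e⟩⟩; exact ⟨N, hN, ⟨e.symm⟩⟩

end Groth.Agent.S1431
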