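import Groth.Statements.S14313
import Groth.Agent.HodgeIdx81.Fundamental
import Groth.Agent.S2122


set_option autoImplicit false
universe u
open CategoryTheory CategoryTheory.Limits AlgebraicGeometry TopologicalSpace
open Surf

namespace Groth.Agent.S14313

open Groth.Agent.HodgeIdx81 Groth.Agent.ProjTwist

set_option linter.style.haveILetI false
attribute [local irreducible] Curv2.euler

theorem pr_self_nonneg_of_nef (k : Type u) [Field k] {X : Scheme.{u}}
    [X.Over (Spec (CommRingCat.of k))] [IsProper (X ↘ Spec (CommRingCat.of k))] [IsIntegral X]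
    (hdim : topologicalKrullDim X = ((2 : ℕ) : WithBot ℕ∞))
    (hreg : ∀ x : X, IsRegularLocalRing (X.presheaf.stalk x))
    {H N : X.Modules} (hH : CohB1.IsAmple H) (hN : PicF.IsInvertible N)
    (hnef : ∀ C : X.IdealSheafData, IsIntegral C.subscheme →
      topologicalKrullDim ↥(C.support : Set X) = ((1 : ℕ) : WithBot ℕ∞) →
      pr k N (ClSub.idealMod C) ≤ 0) : 0 ≤ pr k N N := by
  have hsec : ∀ M : X.Modules, PicF.IsInvertible M → Nontrivial (Coh.HH X M 0) → 0 ≤ pr k N M := by
    intro M hM hn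
    obtain ⟨c, hc⟩ := @exists_ne _ hn 0
    obtain ⟨s, μ, hs, hp⟩ := pr_of_section k hreg hdim hM ((ShStabLib.BC.secEquiv k _).symm c)
      fun h => hc ((LinearEquiv.map_eq_zero_iff _).1 h)
    rw [hp N hN, neg_nonneg]
    exact Finset.sum_nonpos fun ξ hξ => mul_nonpos_of_nonneg_of_nonpos (Int.natCast_nonneg _)
      (hnef _ (hs ξ hξ).1 (hs ξ hξ).2.1)
  have hh := pr_self_pos k hdim hH
  obtain ⟨m₀, s₀, hs₀⟩ := exists_section_of_ample hH
  have hM₀ := AmpleLib.isInvertible_tensorPow hH.1 (m₀ + 1)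
  have hmul : 0 ≤ pr k N (CohB1.tensorPow H (m₀ + 1)) := hsec _ hM₀
    (nontrivial_of_ne _ _ fun h => hs₀ ((LinearEquiv.map_eq_zero_iff (ShStabLib.BC.secEquiv k _)).1 h))
  rw [pr_comm, pr_pow_left k hdim.le hH.1 hN (m₀ + 1), pr_comm k H N] at hmul
  have ha : 0 ≤ pr k N H := nonneg_of_mul_nonneg_right hmul (by positivity)
  by_contra hneg
  push Not at hneg
  have main : ∀ m t : ℤ, 0 < m ^ 2 * pr k N N + 2 * m * t * pr k N H + t ^ 2 * pr k H H →
      0 ≤ m * pr k N H + t * pr k H H → 0 ≤ m * pr k N N + t * pr k N H := by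
    intro m t h1 h2
    obtain ⟨P, hP, hPC⟩ := exists_comb k hdim.le hN hH.1 m t
    have hPP : 0 < pr k P P := by
      rw [hPC P hP, pr_comm k N P, pr_comm k H P, hPC N hN, hPC H hH.1, pr_comm k H N]
      linarith
    have hPH : 0 ≤ pr k P H := by rw [hPC H hH.1]; exact h2
    obtain ⟨n₀, hn₀, hn⟩ := exists_nontrivial k hdim hH hP hPH hPP
    have h := hsec _ (AmpleLib.isInvertible_tensorPow hP n₀) (hn n₀ le_rfl)
    rw [pr_comm, pr_pow_left k hdim.le hP hN n₀, hPC N hN, pr_comm k H N] at h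
    exact nonneg_of_mul_nonneg_right h (by exact_mod_cast hn₀)
  generalize pr k N N = q at hneg main
  generalize pr k N H = a at ha main
  generalize pr k H H = d at hh main
  rcases eq_or_lt_of_le ha with ha0 | ha0
  · subst ha0
    have h := main 1 (-q + 1)
      (by nlinarith [mul_nonneg (mul_self_nonneg (-q + 1)) (sub_nonneg.2 (show (1 : ℤ) ≤ d from hh))])
      (by nlinarith)
    linarith
  · have hqq : 0 < q * q := mul_pos_of_neg_of_neg hneg hneg
    have h := main (4 * a) (-3 * q)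
      (by nlinarith [mul_pos (mul_pos ha0 ha0) (neg_pos.2 hneg), mul_pos hqq hh])
      (by nlinarith [mul_pos (neg_pos.2 hneg) hh])
    nlinarith [mul_pos ha0 (neg_pos.2 hneg)]

/-- Let k be an algebraically closed field, S a smooth projective surface over k (integral, proper and
smooth over k, of dimension 2), f : S → C a surjective k-morphism onto a smooth projective curve
(integral, proper and smooth over k, of dimension 1) and F = f⁻¹(p) the fibre over a closed point p,
with O_S(F) a tensor inverse of its ideal sheaf. Let D be a divisor (L = O_S(D) an invertible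
module), Z_1 ≥ Z_2 ≥ ⋯ ≥ Z_n ≥ Z_{n+1} = 0 effective Cartier divisors (ideal sheaves I_1 ⊆ I_2 ⊆ ⋯ ⊆
I_{n+1} = O_S) and μ_1 > μ_2 > ⋯ > μ_n > μ_{n+1} = 0 rational numbers such that every N_i = D − Z_i
− μ_i F (1 ≤ i ≤ n + 1) is a nef ℚ-divisor: (D·Γ) − (Z_i·Γ) − μ_i (F·Γ) ≥ 0 for every integral curve
Γ ⊆ S, where (L·Γ) = χ(O_Γ ⊗ L) − χ(O_Γ) and (Z_i·Γ) = −(I_i·Γ). Put d_i = N_i·F = (D·F) − (Z_i·F) −
μ_i (F·F). Then D² ≥ Σ_{i=1}^{n} (d_i + d_{i+1})(μ_i − μ_{i+1}); here (L·M) = χ(O_S) − χ(L) − χ(M) +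
χ(L ⊗ M) for invertible L, M, packaged as FGA.intNum. (Indices run over Fin (n+1), position i
standing for i + 1.) (The published statement is for the chapter's fibration, with connected fibres,
semi-stable and relatively minimal, over an algebraically closed field of positive characteristic;
this row asks only that f be surjective and allows any algebraically closed field.) -/
theorem result (k : Type u) [Field k] [IsAlgClosed k]
    (S : Scheme.{u}) [S.Over (Spec (CommRingCat.of k))] [IsProper (S ↘ (Spec (CommRingCat.of k)))]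
    [Smooth (S ↘ (Spec (CommRingCat.of k)))] [IsIntegral S] (hdim : topologicalKrullDim S = 2)
    (C : Scheme.{u}) [C.Over (Spec (CommRingCat.of k))] [IsProper (C ↘ (Spec (CommRingCat.of k)))]
    [Smooth (C ↘ (Spec (CommRingCat.of k)))] [IsIntegral C] (hdimC : topologicalKrullDim C = 1)
    (f : S ⟶ C) [f.IsOver (Spec (CommRingCat.of k))] [Surjective f]
    (p : C) (hp : IsClosed ({p} : Set C))
    (LF : S.Modules) (hLF : ClSub.IsInverseOf LF (ClSub.idealMod (f.fiberι p).ker))
    (L : S.Modules) (hL : PicF.IsInvertible L)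
    (n : ℕ) (Z : Fin (n + 1) → S.IdealSheafData) (hZ : ∀ i, FGA.IsEffCartier (Z i))
    (hZmono : Monotone Z) (hZlast : Z (Fin.last n) = ⊤)
    (μ : Fin (n + 1) → ℚ) (hμ : StrictAnti μ) (hμlast : μ (Fin.last n) = 0)
    (hnef : ∀ (i : Fin (n + 1)) (Γ : S.IdealSheafData), IsIntegral Γ.subscheme →
      topologicalKrullDim (Γ.support : Set S) = 1 →
      (0 : ℚ) ≤ ((Curv2.euler k S (CohB1.tensorMod (ClSub.quotMod Γ) L) - Curv2.euler k S (ClSub.quotMod Γ)) : ℚ) + ((Curv2.euler k S (CohB1.tensorMod (ClSub.quotMod Γ) (ClSub.idealMod (Z i))) - Curv2.euler k S (ClSub.quotMod Γ)) : ℚ)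
        - μ i * ((Curv2.euler k S (CohB1.tensorMod (ClSub.quotMod Γ) LF) - Curv2.euler k S (ClSub.quotMod Γ)) : ℚ)) :
    (Finset.univ.sum fun i : Fin n =>
        (((FGA.intNum k S 2 ![L, LF] (Coh.structureModule S) : ℚ) + (FGA.intNum k S 2 ![ClSub.idealMod (Z i.castSucc), LF] (Coh.structureModule S) : ℚ) - μ i.castSucc * (FGA.intNum k S 2 ![LF, LF] (Coh.structureModule S) : ℚ))
          + ((FGA.intNum k S 2 ![L, LF] (Coh.structureModule S) : ℚ) + (FGA.intNum k S 2 ![ClSub.idealMod (Z i.succ), LF] (Coh.structureModule S) : ℚ) - μ i.succ * (FGA.intNum k S 2 ![LF, LF] (Coh.structureModule S) : ℚ)))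
        * (μ i.castSucc - μ i.succ)) ≤ (FGA.intNum k S 2 ![L, L] (Coh.structureModule S) : ℚ) := by
  have hd : topologicalKrullDim S = ((2 : ℕ) : WithBot ℕ∞) := by rw [hdim]; norm_num
  have hreg : ∀ x : S, IsRegularLocalRing (S.presheaf.stalk x) :=
    CurveDVR.isRegularLocalRing_stalk (S ↘ (Spec (CommRingCat.of k)))
  haveI := EulerChar.isNoetherian k (X := S)
  obtain ⟨A, hA⟩ := exists_ample k hreg hd
  have hFi : PicF.IsInvertible LF := S2122.result LF _ hLF.some
  have hI : ∀ i, PicF.IsInvertible (ClSub.idealMod (Z i)) := fun i =>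
    IdealSh.IdealMod.isInvertible_of_isEffCartierIdeal (Z i) (hZ i)
  let P : S.Modules → S.Modules → ℚ := fun A B => (pr k A B : ℚ)
  let v : Fin (n + 1) → S.Modules → ℚ := fun i B =>
    P L B + P (ClSub.idealMod (Z i)) B - μ i * P LF B
  let Q : Fin (n + 1) → ℚ := fun i =>
    v i L + v i (ClSub.idealMod (Z i)) - μ i * v i LF
  have hv : ∀ (i : Fin (n + 1)) (Γ : S.IdealSheafData), IsIntegral Γ.subscheme →
      topologicalKrullDim ↥(Γ.support : Set S) = ((1 : ℕ) : WithBot ℕ∞) →
      v i (ClSub.idealMod Γ) ≤ 0 := fun i Γ hΓ h1 => by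
    haveI := hΓ
    have hΓi := isInvertible_of_curve k hreg hd Γ h1
    have hc : ∀ B, PicF.IsInvertible B →
        ((Curv2.euler k S (CohB1.tensorMod (ClSub.quotMod Γ) B) : ℚ) - (Curv2.euler k S (ClSub.quotMod Γ) : ℚ)) =
          -P B (ClSub.idealMod Γ) := fun B hB => by
      have h2 := congrArg (fun z : ℤ => (z : ℚ)) (deg1_quotMod k hΓi hB)
      rw [NumTriv.deg1] at h2
      push_cast at h2
      exact h2
    have h := hnef i Γ hΓ (h1.trans rfl)
    rw [hc L hL, hc _ (hI i), hc LF hFi] at h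
    simp only [v]
    linarith
  have hvR : ∀ (i : Fin (n + 1)) (R : S.IdealSheafData), BlowUp.IsEffCartierIdeal R →
      v i (ClSub.idealMod R) ≤ 0 := fun i R hR => by
    obtain ⟨s, m, hs, hp⟩ := Sub.pr_ideal_pieces k hd hreg (I := R) hR
    simp only [v, P]
    rw [hp L hL, hp _ (hI i), hp LF hFi]
    push_cast
    rw [Finset.mul_sum, ← Finset.sum_add_distrib, ← Finset.sum_sub_distrib]
    refine Finset.sum_nonpos fun ξ hξ => ?_
    have h := hv i _ (hs ξ hξ).2.1 (hs ξ hξ).2.2.1
    simp only [v, P] at h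
    have hm : (0 : ℚ) ≤ (m ξ : ℚ) := Nat.cast_nonneg _
    nlinarith [mul_nonpos_of_nonneg_of_nonpos hm h]
  have hstep : ∀ i : Fin n, (v i.castSucc LF + v i.succ LF) * (μ i.castSucc - μ i.succ) ≤
      Q i.succ - Q i.castSucc := fun i => by
    have hle : Z i.castSucc ≤ Z i.succ := hZmono i.castSucc_lt_succ.le
    have e := ModPairLib.Divide.quot_mul_eq (hZ i.succ) hle
    generalize ModPairLib.Divide.quot (Z i.castSucc) (Z i.succ) _ = R at e
    have hR : BlowUp.IsEffCartierIdeal R := IdealSh.EffCartier.factor_left (e.symm ▸ hZ i.castSucc)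
    have hadd : ∀ B, PicF.IsInvertible B → P B (ClSub.idealMod (Z i.castSucc)) =
        P B (ClSub.idealMod R) + P B (ClSub.idealMod (Z i.succ)) := fun B hB => by
      simp only [P]
      rw [← e, Fundamental.pr_mul k hd hR (hZ i.succ) hB]
      push_cast
      rfl
    have h1 := hvR i.castSucc R hR
    have h2 := hvR i.succ R hR
    have e1 := hadd L hL
    have e2 := hadd LF hFi
    have e3 := hadd _ (hI i.castSucc)
    have e4 := hadd _ (hI i.succ)
    simp only [Q, v, P, pr_comm k (ClSub.idealMod (Z i.castSucc)) L, pr_comm k (ClSub.idealMod (Z i.succ)) L,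
      pr_comm k LF L, pr_comm k LF (ClSub.idealMod (Z i.castSucc)),
      pr_comm k LF (ClSub.idealMod (Z i.succ))] at *
    have e5 : (pr k (ClSub.idealMod (Z i.succ)) (ClSub.idealMod (Z i.castSucc)) : ℚ) =
        (pr k (ClSub.idealMod (Z i.castSucc)) (ClSub.idealMod (Z i.succ)) : ℚ) := by rw [pr_comm]
    have e6 := congrArg (fun z : ℚ => μ i.castSucc * z) e2
    have e7 := congrArg (fun z : ℚ => μ i.succ * z) e2
    linarith
  have htel : ∑ i : Fin n, (Q i.succ - Q i.castSucc) = Q (Fin.last n) - Q 0 := by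
    rw [Finset.sum_sub_distrib]
    have h1 := Fin.sum_univ_succ Q
    have h2 := Fin.sum_univ_castSucc Q
    linarith
  have hQ0 : 0 ≤ Q 0 := by
    obtain ⟨N₁, hN₁, hN₁C⟩ := exists_comb k hd.le hL (hI 0) ((μ 0).den : ℤ) ((μ 0).den : ℤ)
    obtain ⟨N, hN, hNC⟩ := exists_comb k hd.le hN₁ hFi 1 (-(μ 0).num)
    have hq : (0 : ℚ) < ((μ 0).den : ℚ) := by exact_mod_cast (μ 0).den_pos
    have hnum : μ 0 * ((μ 0).den : ℚ) = ((μ 0).num : ℚ) := Rat.mul_den_eq_num _
    have hNv : ∀ B, PicF.IsInvertible B → (pr k N B : ℚ) = ((μ 0).den : ℚ) * v 0 B := fun B hB => by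
      rw [hNC B hB, hN₁C B hB]
      simp only [v, P]
      push_cast
      linear_combination ((pr k LF B : ℚ)) * hnum
    have hnn := pr_self_nonneg_of_nef k hd hreg hA hN fun C hC h1 => by
      haveI := hC
      have h := hNv _ (isInvertible_of_curve k hreg hd C h1)
      have h' : (pr k N (ClSub.idealMod C) : ℚ) ≤ 0 := by
        rw [h]; exact mul_nonpos_of_nonneg_of_nonpos hq.le (hv 0 C hC h1)
      exact_mod_cast h'
    have hsq : (pr k N N : ℚ) = ((μ 0).den : ℚ) * ((μ 0).den : ℚ) * Q 0 := by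
      rw [hNv N hN]
      simp only [Q, v, P, pr_comm k _ N]
      rw [hNv L hL, hNv _ (hI 0), hNv LF hFi]
      simp only [v, P]
      ring
    have hnn' : (0 : ℚ) ≤ (pr k N N : ℚ) := by exact_mod_cast hnn
    rw [hsq] at hnn'
    exact nonneg_of_mul_nonneg_right hnn' (mul_pos hq hq)
  have htop : ∀ B, PicF.IsInvertible B → pr k (ClSub.idealMod (⊤ : S.IdealSheafData)) B = 0 := fun B hB => by
    have h := Fundamental.pr_mul k hd IdealSh.EffCartier.top IdealSh.EffCartier.top hB
    rw [Scheme.IdealSheafData.top_mul] at h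
    rw [pr_comm]
    omega
  have hQl : Q (Fin.last n) = (pr k L L : ℚ) := by
    simp only [Q, v, P, hμlast, hZlast]
    have hti := IdealSh.IdealMod.isInvertible_of_isEffCartierIdeal (⊤ : S.IdealSheafData) IdealSh.EffCartier.top
    rw [htop L hL, pr_comm k L (ClSub.idealMod ⊤), htop L hL, htop _ hti]
    push_cast
    ring
  have hsum := Finset.sum_le_sum fun i (_ : i ∈ (Finset.univ : Finset (Fin n))) => hstep i
  rw [htel, hQl] at hsum
  have hterm : ∀ i : Fin (n + 1), v i LF = (FGA.intNum k S 2 ![L, LF] (Coh.structureModule S) : ℚ) +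
      (FGA.intNum k S 2 ![ClSub.idealMod (Z i), LF] (Coh.structureModule S) : ℚ) -
      μ i * (FGA.intNum k S 2 ![LF, LF] (Coh.structureModule S) : ℚ) := fun i => by
    rw [intNum_eq_pr k hd hL hFi, intNum_eq_pr k hd (hI i) hFi, intNum_eq_pr k hd hFi hFi]
  simp only [hterm] at hsum
  rw [intNum_eq_pr k hd hL hL]
  linarith

end Groth.Agent.S14313
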