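import Groth.Statements.S14314
import Groth.Agent.HodgeLite47.Basic
import Groth.Agent.IdealSh.EffCartier
import Groth.Agent.CurveDVR.Stalk
import Groth.Agent.S2122
import Groth.Agent.PicAlg.IdealPull
import Groth.Agent.FFCurve.Point
import Groth.Agent.HilbD.Push
import Groth.Agent.RedSub.Basic
import Groth.Agent.BigVol.CurveTest
import Groth.Agent.EulerChar.AmpleCurve

set_option autoImplicit false
universe u
open CategoryTheory CategoryTheory.Limits AlgebraicGeometry TopologicalSpace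
open Surf

namespace Groth.Agent.S14314

open Groth.Agent.HodgeIdx81 Groth.Agent.ProjTwist Groth.Agent.FFCurve

attribute [local irreducible] Curv2.euler

/-- An invertible module pulls back trivially along a morphism collapsing to a point. -/
theorem nonempty_pullback_trivial {E C : Scheme.{u}} (g : E ⟶ C) (p : C) (hg : ∀ z, g z = p)
    {M : C.Modules} (hM : PicF.IsInvertible M) :
    Nonempty ((Scheme.Modules.pullback g).obj M ≅ Coh.structureModule E) := by
  obtain ⟨U, hp, ⟨φ⟩⟩ := hM p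
  have hsub : Set.range g ⊆ Set.range U.ι := by
    rw [Scheme.Opens.range_ι]
    rintro _ ⟨z, rfl⟩
    rw [hg z]
    exact hp
  have hl := IsOpenImmersion.lift_fac U.ι g hsub
  exact ⟨(Scheme.Modules.pullbackCongr hl.symm).app M ≪≫
    ((Scheme.Modules.pullbackComp _ U.ι).app M).symm ≪≫
    (Scheme.Modules.pullback (IsOpenImmersion.lift U.ι g hsub)).mapIso
      (((Scheme.Modules.restrictFunctorIsoPullback U.ι).app M).symm ≪≫ φ) ≪≫
    QCoh.pullbackUnitIso _⟩

/-- Let k be an algebraically closed field, S a smooth projective surface over k (integral, proper and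
smooth over k, of dimension 2), f : S → C a surjective k-morphism onto a smooth projective curve and
F = f⁻¹(p) the fibre over a closed point p, with O_S(F) a tensor inverse of its ideal sheaf. Let
D_1, D_2 be numerically equivalent divisors (invertible modules L_1, L_2 with (L_1·Γ) = (L_2·Γ) for
every integral curve Γ ⊆ S, where (L·Γ) = χ(O_Γ ⊗ L) − χ(O_Γ)), μ_1 ≥ μ_2 rational numbers and Z_1,
Z_2 effective Cartier divisors with common part Z, that is Z_i = Z + Y_i with Z, Y_1, Y_2 effective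
Cartier divisors and Y_1, Y_2 without common component (Y_1 ∩ Y_2 finite); in terms of ideal sheaves
I_{Z_i} = I_Z · I_{Y_i}. If N_i = D_i − Z_i − μ_i F is nef for i = 1, 2, that is (D_i·Γ) +
(I_{Z_i}·Γ) − μ_i (F·Γ) ≥ 0 for every integral curve Γ, then N = D_2 − Z − μ_2 F is nef. (The
published statement is for the chapter's fibration over an algebraically closed field of positive
characteristic; this row asks only that f be surjective and allows any algebraically closed field.) -/
theorem result (k : Type u) [Field k] [IsAlgClosed k]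
    (S : Scheme.{u}) [S.Over (Spec (CommRingCat.of k))] [IsProper (S ↘ (Spec (CommRingCat.of k)))]
    [Smooth (S ↘ (Spec (CommRingCat.of k)))] [IsIntegral S] (hdim : topologicalKrullDim S = 2)
    (C : Scheme.{u}) [C.Over (Spec (CommRingCat.of k))] [IsProper (C ↘ (Spec (CommRingCat.of k)))]
    [Smooth (C ↘ (Spec (CommRingCat.of k)))] [IsIntegral C] (hdimC : topologicalKrullDim C = 1)
    (f : S ⟶ C) [f.IsOver (Spec (CommRingCat.of k))] [Surjective f]
    (p : C) (hp : IsClosed ({p} : Set C))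
    (LF : S.Modules) (hLF : ClSub.IsInverseOf LF (ClSub.idealMod (f.fiberι p).ker))
    (L₁ L₂ : S.Modules) (hL₁ : PicF.IsInvertible L₁) (hL₂ : PicF.IsInvertible L₂)
    (hnum : ∀ Γ : S.IdealSheafData, IsIntegral Γ.subscheme → topologicalKrullDim (Γ.support : Set S) = 1 →
      (Curv2.euler k S (CohB1.tensorMod (ClSub.quotMod Γ) L₁) - Curv2.euler k S (ClSub.quotMod Γ)) = (Curv2.euler k S (CohB1.tensorMod (ClSub.quotMod Γ) L₂) - Curv2.euler k S (ClSub.quotMod Γ)))
    (μ₁ μ₂ : ℚ) (hμ : μ₂ ≤ μ₁)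
    (Z Y₁ Y₂ Z₁ Z₂ : S.IdealSheafData) (hZ : FGA.IsEffCartier Z) (hY₁ : FGA.IsEffCartier Y₁) (hY₂ : FGA.IsEffCartier Y₂)
    (hZ₁ : Z₁ = Z * Y₁) (hZ₂ : Z₂ = Z * Y₂) (hY : ((Y₁ ⊔ Y₂).support : Set S).Finite)
    (hnef₁ : (∀ Γ : S.IdealSheafData, IsIntegral Γ.subscheme → topologicalKrullDim (Γ.support : Set S) = 1 →
      (0 : ℚ) ≤ ((Curv2.euler k S (CohB1.tensorMod (ClSub.quotMod Γ) L₁) - Curv2.euler k S (ClSub.quotMod Γ)) : ℚ) + ((Curv2.euler k S (CohB1.tensorMod (ClSub.quotMod Γ) (ClSub.idealMod Z₁)) - Curv2.euler k S (ClSub.quotMod Γ)) : ℚ)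
        - μ₁ * ((Curv2.euler k S (CohB1.tensorMod (ClSub.quotMod Γ) LF) - Curv2.euler k S (ClSub.quotMod Γ)) : ℚ)))
    (hnef₂ : (∀ Γ : S.IdealSheafData, IsIntegral Γ.subscheme → topologicalKrullDim (Γ.support : Set S) = 1 →
      (0 : ℚ) ≤ ((Curv2.euler k S (CohB1.tensorMod (ClSub.quotMod Γ) L₂) - Curv2.euler k S (ClSub.quotMod Γ)) : ℚ) + ((Curv2.euler k S (CohB1.tensorMod (ClSub.quotMod Γ) (ClSub.idealMod Z₂)) - Curv2.euler k S (ClSub.quotMod Γ)) : ℚ)
        - μ₂ * ((Curv2.euler k S (CohB1.tensorMod (ClSub.quotMod Γ) LF) - Curv2.euler k S (ClSub.quotMod Γ)) : ℚ))) :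
    (∀ Γ : S.IdealSheafData, IsIntegral Γ.subscheme → topologicalKrullDim (Γ.support : Set S) = 1 →
      (0 : ℚ) ≤ ((Curv2.euler k S (CohB1.tensorMod (ClSub.quotMod Γ) L₂) - Curv2.euler k S (ClSub.quotMod Γ)) : ℚ) + ((Curv2.euler k S (CohB1.tensorMod (ClSub.quotMod Γ) (ClSub.idealMod Z)) - Curv2.euler k S (ClSub.quotMod Γ)) : ℚ)
        - μ₂ * ((Curv2.euler k S (CohB1.tensorMod (ClSub.quotMod Γ) LF) - Curv2.euler k S (ClSub.quotMod Γ)) : ℚ)) := by
  have hd : topologicalKrullDim S = ((2 : ℕ) : WithBot ℕ∞) := by rw [hdim]; norm_num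
  have hreg : ∀ x : S, IsRegularLocalRing (S.presheaf.stalk x) :=
    CurveDVR.isRegularLocalRing_stalk (S ↘ (Spec (CommRingCat.of k)))
  haveI := EulerChar.isNoetherian k (X := S)
  let R : S.IdealSheafData := (f.fiberι p).ker
  have hFi : PicF.IsInvertible LF := S2122.result LF _ hLF.some
  have hRi : PicF.IsInvertible (ClSub.idealMod R) :=
    S2122.result (ClSub.idealMod R) LF (tensComm _ _ ≪≫ hLF.some)
  have hR : BlowUp.IsEffCartierIdeal R := IdealSh.IdealMod.isEffCartierIdeal_of_isInvertible R hRi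
  intro Γ hΓ hΓ1
  haveI := hΓ
  have h1 : topologicalKrullDim ↥(Γ.support : Set S) = ((1 : ℕ) : WithBot ℕ∞) := hΓ1.trans rfl
  have hΓi := isInvertible_of_curve k hreg hd Γ h1
  let P : S.Modules → ℚ := fun B => (pr k B (ClSub.idealMod Γ) : ℚ)
  have hc : ∀ B, PicF.IsInvertible B →
      ((Curv2.euler k S (CohB1.tensorMod (ClSub.quotMod Γ) B) : ℚ) - (Curv2.euler k S (ClSub.quotMod Γ) : ℚ)) =
        -P B := fun B hB => by
    have h2 := congrArg (fun z : ℤ => (z : ℚ)) (deg1_quotMod k hΓi hB)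
    rw [NumTriv.deg1] at h2
    push_cast at h2
    exact h2
  have hI : ∀ {I : S.IdealSheafData}, FGA.IsEffCartier I → PicF.IsInvertible (ClSub.idealMod I) :=
    fun {I} hI => IdealSh.IdealMod.isInvertible_of_isEffCartierIdeal I hI
  have hmul : ∀ {I J : S.IdealSheafData}, FGA.IsEffCartier I → FGA.IsEffCartier J →
      PicF.IsInvertible (ClSub.idealMod (I * J)) ∧
        P (ClSub.idealMod (I * J)) = P (ClSub.idealMod I) + P (ClSub.idealMod J) := fun {I J} hI hJ => by
    refine ⟨IdealSh.IdealMod.isInvertible_of_isEffCartierIdeal _ (IdealSh.EffCartier.mul hI hJ), ?_⟩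
    simp only [P]
    rw [pr_comm k (ClSub.idealMod (I * J)), pr_comm k (ClSub.idealMod I), pr_comm k (ClSub.idealMod J),
      HodgeLite47.pr_mul k hd hI hJ hΓi]
    push_cast
    rfl
  let η := Γ.subschemeι (genericPoint ↥Γ.subscheme)
  have hPF : P LF ≤ 0 := by
    have hinv : pr k (ClSub.idealMod R) (ClSub.idealMod Γ) = -pr k LF (ClSub.idealMod Γ) :=
      pr_inv_left k hd.le hFi hRi hΓi hLF.some
    suffices h : 0 ≤ pr k (ClSub.idealMod R) (ClSub.idealMod Γ) by
      simp only [P]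
      exact_mod_cast (show pr k LF (ClSub.idealMod Γ) ≤ 0 by omega)
    by_cases hη : η ∈ (R.support : Set S)
    swap
    · exact HodgeLite47.pr_curve_nonneg k hd hreg hR Γ h1 hη
    haveI : IsClosedImmersion (C.fromSpecResidueField p) := (isClosed_singleton_iff_isClosedImmersion).1 hp
    haveI : IsClosedImmersion (f.fiberι p) :=
      inferInstanceAs (IsClosedImmersion (pullback.fst f (C.fromSpecResidueField p)))
    have hηp : f η = p := by
      have h' : η ∈ closure (Set.range (f.fiberι p)) := by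
        rw [← Scheme.Hom.support_ker]; exact hη
      rw [(f.fiberι p).isClosedEmbedding.isClosed_range.closure_eq, Scheme.Hom.range_fiberι] at h'
      exact h'
    let g := Γ.subschemeι ≫ f
    have hg : ∀ z, g z = p := fun z => by
      have hs : f η ⤳ g z := (genericPoint_specializes z).map g.continuous
      rw [hηp] at hs
      exact Set.mem_singleton_iff.1 (hs.mem_closed hp rfl)
    haveI : RegCurve C := regCurve_of_smooth k hdimC
    let J : C.IdealSheafData := (C.fromSpecResidueField p).ker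
    have hJe : J = pointI ⟨p, hp⟩ :=
      RedSub.ker_eq_vanishingIdeal _ ⟨{p}, hp⟩ (C.range_fromSpecResidueField p)
    have hJ : BlowUp.IsEffCartierIdeal J := fun y => by
      obtain ⟨U, a, -, hy, ha, he, -⟩ := exists_equation k hdimC ⟨p, hp⟩ y
      exact ⟨U, hy, a, ha, hJe ▸ he⟩
    have hJR : J.comap f = R :=
      HilbD.comap_ker_of_isPullback (IsPullback.of_hasPullback f (C.fromSpecResidueField p))
    obtain ⟨e⟩ := PicAlg.nonempty_pullback_idealMod f J hJ (hJR ▸ hR)
    obtain ⟨t⟩ := nonempty_pullback_trivial g p hg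
      (IdealSh.IdealMod.isInvertible_of_isEffCartierIdeal J hJ)
    rw [hJR] at e
    have hdeg := BigVol.CurveTest.euler_sub_eq_deg k Γ hRi
    letI : Γ.subscheme.Over (Spec (CommRingCat.of k)) :=
      ⟨Γ.subschemeι ≫ (S ↘ Spec (CommRingCat.of k))⟩
    haveI : IsProper (Γ.subscheme ↘ Spec (CommRingCat.of k)) :=
      inferInstanceAs (IsProper (Γ.subschemeι ≫ (S ↘ Spec (CommRingCat.of k))))
    have hz : Curv2.deg k Γ.subscheme (Coh.structureModule Γ.subscheme) 1 = 0 := by simp [Curv2.deg]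
    replace hdeg := hdeg.trans ((EulerChar.deg_iso k ((Scheme.Modules.pullback Γ.subschemeι).mapIso e.symm ≪≫
      (Scheme.Modules.pullbackComp Γ.subschemeι f).app _ ≪≫ t)).trans hz)
    have h2 := deg1_quotMod k hΓi hRi
    rw [NumTriv.deg1, hdeg] at h2
    omega
  have hY0 : ∀ {I : S.IdealSheafData}, FGA.IsEffCartier I → η ∉ (I.support : Set S) →
      0 ≤ P (ClSub.idealMod I) := fun {I} hI hη => by
    simp only [P]
    exact_mod_cast HodgeLite47.pr_curve_nonneg k hd hreg hI Γ h1 hη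
  have h₁ := hnef₁ Γ hΓ hΓ1
  have h₂ := hnef₂ Γ hΓ hΓ1
  have hn := congrArg (fun z : ℤ => (z : ℚ)) (hnum Γ hΓ hΓ1)
  push_cast at hn
  rw [hZ₁, hc L₁ hL₁, hc _ (hmul hZ hY₁).1, hc LF hFi, (hmul hZ hY₁).2] at h₁
  rw [hZ₂, hc L₂ hL₂, hc _ (hmul hZ hY₂).1, hc LF hFi, (hmul hZ hY₂).2] at h₂
  rw [hc L₁ hL₁, hc L₂ hL₂] at hn
  rw [hc L₂ hL₂, hc _ (hI hZ), hc LF hFi]
  by_cases hη2 : η ∈ (Y₂.support : Set S)
  swap
  · have := hY0 hY₂ hη2
    linarith
  have hη1 : η ∉ (Y₁.support : Set S) := fun hη1 => by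
    have hsub : (Γ.support : Set S) ⊆ ((Y₁ ⊔ Y₂).support : Set S) := by
      rw [Scheme.IdealSheafData.support_sup]
      intro x hx
      obtain ⟨z, rfl⟩ : x ∈ Set.range Γ.subschemeι := Γ.range_subschemeι.symm ▸ hx
      have hs : η ⤳ Γ.subschemeι z := (genericPoint_specializes z).map Γ.subschemeι.continuous
      exact ⟨hs.mem_closed Y₁.support.isClosed hη1, hs.mem_closed Y₂.support.isClosed hη2⟩
    haveI : Finite ↥(Γ.support : Set S) := (hY.subset hsub).to_subtype
    haveI : Finite ↥Γ.subscheme :=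
      Finite.of_injective (fun z => (⟨Γ.subschemeι z, Γ.range_subschemeι ▸ Set.mem_range_self z⟩ : ↥(Γ.support : Set S)))
        fun a b h => Γ.subschemeι.isEmbedding.injective (congrArg Subtype.val h)
    haveI : JacobsonSpace ↥Γ.subscheme :=
      LocallyOfFiniteType.jacobsonSpace (Γ.subschemeι ≫ (S ↘ Spec (CommRingCat.of k)))
    have hle := topologicalKrullDim_zero_of_discreteTopology ↥Γ.subscheme
    rw [IsHomeomorph.topologicalKrullDim_eq _ Γ.subschemeι.isEmbedding.toHomeomorph.isHomeomorph,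
      Γ.range_subschemeι, h1] at hle
    exact absurd hle (by norm_num)
  have := hY0 hY₁ hη1
  have := mul_nonpos_of_nonneg_of_nonpos (sub_nonneg.2 hμ) hPF
  nlinarith

end Groth.Agent.S14314
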