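import Groth.Statements.S1432
import Mathlib.AlgebraicGeometry.Morphisms.SchemeTheoreticallyDominant
import Mathlib.AlgebraicGeometry.Morphisms.UniversallyInjective
import Mathlib.AlgebraicGeometry.ValuativeCriterion
import Mathlib.AlgebraicGeometry.Limits
-- import your own Groth.Agent.* helpers here

set_option autoImplicit false
universe u
open FlatMor

namespace Groth.Agent.S1432

section
open AlgebraicGeometry CategoryTheory Limits

/-- The spectrum of an injective ring map is scheme-theoretically dominant. -/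
theorem isSchemeTheoreticallyDominant_of_injective {A B : Type u} [CommRing A] [CommRing B]
    (φ : A →+* B) (hφ : Function.Injective φ) :
    IsSchemeTheoreticallyDominant (Spec.map (CommRingCat.ofHom φ)) := by
  refine ⟨Scheme.IdealSheafData.ext_of_isAffine ?_⟩
  rw [Scheme.Hom.ker_apply]
  simp only [Scheme.IdealSheafData.ideal_bot, Pi.bot_apply]
  rw [← RingHom.injective_iff_ker_eq_bot]
  have h := Scheme.ΓSpecIso_inv_naturality (CommRingCat.ofHom φ)
  intro x y hxy
  obtain ⟨a, rfl⟩ := (Scheme.ΓSpecIso (CommRingCat.of A)).commRingCatIsoToRingEquiv.symm.surjective x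
  obtain ⟨b, rfl⟩ := (Scheme.ΓSpecIso (CommRingCat.of A)).commRingCatIsoToRingEquiv.symm.surjective y
  congr 1
  refine hφ ((Scheme.ΓSpecIso (CommRingCat.of B)).commRingCatIsoToRingEquiv.symm.injective ?_)
  exact ((congr($h a)).trans hxy).trans (congr($h b)).symm

theorem of_closedImmersion {X Y : Scheme.{u}} (f : X ⟶ Y) [IsClosedImmersion f]
    {A B : Type u} [CommRing A] [CommRing B] (φ : A →+* B) (hφ : Function.Injective φ)
    (a : Spec (CommRingCat.of B) ⟶ X) (b : Spec (CommRingCat.of A) ⟶ Y)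
    (w : Spec.map (CommRingCat.ofHom φ) ≫ b = a ≫ f) :
    ∃ l : Spec (CommRingCat.of A) ⟶ X, Spec.map (CommRingCat.ofHom φ) ≫ l = a ∧ l ≫ f = b := by
  have := isSchemeTheoreticallyDominant_of_injective φ hφ
  have hb : (Spec.map (CommRingCat.ofHom φ) ≫ b).ker = b.ker := by
    rw [Scheme.Hom.ker_comp, Scheme.Hom.ker_eq_bot, Scheme.IdealSheafData.map_bot]
  have H : f.ker ≤ b.ker := by
    rw [← hb, w]
    exact Scheme.Hom.le_ker_comp a f
  refine ⟨IsClosedImmersion.lift f b H, ?_, IsClosedImmersion.lift_fac _ _ H⟩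
  rw [← cancel_mono f, Category.assoc, IsClosedImmersion.lift_fac, w]

theorem to_closedImmersion {X Y : Scheme.{u}} (f : X ⟶ Y) [QuasiCompact f]
    (h : ∀ (A B : Type u) [CommRing A] [CommRing B] (φ : A →+* B), Function.Injective φ →
      ∀ (a : Spec (CommRingCat.of B) ⟶ X) (b : Spec (CommRingCat.of A) ⟶ Y),
        Spec.map (CommRingCat.ofHom φ) ≫ b = a ≫ f →
        ∃ l : Spec (CommRingCat.of A) ⟶ X, Spec.map (CommRingCat.ofHom φ) ≫ l = a ∧ l ≫ f = b) :
    IsClosedImmersion f := by
  have : Mono f := by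
    refine ⟨fun {T} g₁ g₂ hg => T.affineCover.hom_ext _ _ fun i => ?_⟩
    let R' : CommRingCat := Γ(T.affineCover.X i, ⊤)
    have : IsAffine (T.affineCover.X i) := inferInstance
    let e := (T.affineCover.X i).isoSpec
    let k₁ := e.inv ≫ T.affineCover.f i ≫ g₁
    let k₂ := e.inv ≫ T.affineCover.f i ≫ g₂
    let φ : R' →+* R' × R' := (RingHom.id R').prod (RingHom.id R')
    let a : Spec (CommRingCat.of (R' × R')) ⟶ X := inv (coprodSpec R' R') ≫ coprod.desc k₁ k₂
    have hinl : coprod.inl ≫ coprodSpec R' R' ≫ Spec.map (CommRingCat.ofHom φ) = 𝟙 _ := by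
      rw [coprodSpec_inl_assoc, ← Spec.map_comp]
      exact Spec.map_id _
    have hinr : coprod.inr ≫ coprodSpec R' R' ≫ Spec.map (CommRingCat.ofHom φ) = 𝟙 _ := by
      rw [coprodSpec_inr_assoc, ← Spec.map_comp]
      exact Spec.map_id _
    obtain ⟨l, hl, -⟩ := h R' (R' × R') φ (fun x y hxy => congrArg Prod.fst hxy) a (k₁ ≫ f) (by
      rw [← cancel_epi (coprodSpec R' R')]
      simp only [a, Category.assoc, IsIso.hom_inv_id_assoc]
      apply coprod.hom_ext
      · rw [coprod.inl_desc_assoc, reassoc_of% hinl]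
      · rw [coprod.inr_desc_assoc, reassoc_of% hinr]
        simp only [k₁, k₂, Category.assoc, hg])
    have h1 : k₁ = l := by
      have := congr(coprod.inl ≫ coprodSpec R' R' ≫ $hl)
      rw [reassoc_of% hinl] at this
      simp only [a, IsIso.hom_inv_id_assoc] at this
      exact (coprod.inl_desc k₁ k₂).symm.trans this.symm |>.trans rfl
    have h2 : k₂ = l := by
      have := congr(coprod.inr ≫ coprodSpec R' R' ≫ $hl)
      rw [reassoc_of% hinr] at this
      simp only [a, IsIso.hom_inv_id_assoc] at this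
      exact (coprod.inr_desc k₁ k₂).symm.trans this.symm |>.trans rfl
    have := h1.trans h2.symm
    simpa [k₁, k₂] using this
  have : UniversallyClosed f := UniversallyClosed.of_valuativeCriterion f fun S =>
    ⟨by
      obtain ⟨l, hl₁, hl₂⟩ := h S.R S.K (algebraMap S.R S.K) (IsFractionRing.injective _ _) S.i₁ S.i₂
        S.commSq.w.symm
      exact ⟨⟨l, hl₁, hl₂⟩⟩⟩
  have hemb : Topology.IsClosedEmbedding f :=
    .of_continuous_injective_isClosedMap f.continuous f.injective f.isClosedMap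
  have : IsAffineHom f := isAffineHom_of_isInducing _ hemb.isInducing hemb.isClosed_range
  rw [isClosedImmersion_iff_isAffineHom]
  refine ⟨this, fun V hV => ?_⟩
  have hW : IsAffineOpen (f ⁻¹ᵁ V) := hV.preimage f
  let ψ := f.app V
  show Function.Surjective ψ
  let φ : ψ.hom.range →+* Γ(X, f ⁻¹ᵁ V) := ψ.hom.range.subtype
  let q : CommRingCat.of Γ(Y, V) ⟶ CommRingCat.of ψ.hom.range := CommRingCat.ofHom ψ.hom.rangeRestrict
  have w : Spec.map (CommRingCat.ofHom φ) ≫ Spec.map q ≫ hV.fromSpec = hW.fromSpec ≫ f := by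
    rw [← Spec.map_comp_assoc, show q ≫ CommRingCat.ofHom φ = ψ from rfl]
    rw [← hV.SpecMap_appLE_fromSpec f hW le_rfl, ← Scheme.Hom.app_eq_appLE]
  obtain ⟨l, hl₁, hl₂⟩ := h ψ.hom.range Γ(X, f ⁻¹ᵁ V) φ Subtype.val_injective hW.fromSpec
    (Spec.map q ≫ hV.fromSpec) w
  have hlW : Set.range l ⊆ Set.range hW.fromSpec := by
    rintro _ ⟨x, rfl⟩
    rw [hW.range_fromSpec]
    show f (l x) ∈ V
    have hx : (Spec.map q ≫ hV.fromSpec) x ∈ Set.range hV.fromSpec := ⟨_, rfl⟩
    rw [hV.range_fromSpec, ← hl₂] at hx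
    exact hx
  let l' := IsOpenImmersion.lift hW.fromSpec l hlW
  obtain ⟨θ, hθ⟩ := Spec.map_surjective l'
  have h1 : Spec.map (CommRingCat.ofHom φ) ≫ Spec.map θ = 𝟙 _ := by
    rw [← cancel_mono hW.fromSpec, Category.assoc, hθ, IsOpenImmersion.lift_fac, hl₁, Category.id_comp]
  rw [← Spec.map_comp, ← Spec.map_id, Spec.map_inj] at h1
  intro z
  obtain ⟨r, hr⟩ := (θ z).2
  exact ⟨r, hr.trans congr($h1 z)⟩

end

open AlgebraicGeometry CategoryTheory Limits in
/-- For a quasi-compact morphism f : X → Y, being a closed immersion is equivalent to the following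
lifting property: for each injective ring map A → B and each commutative square with Spec B → X on
top and Spec A → Y at the bottom there is a lift Spec A → X making both triangles commute. -/
theorem result {X Y : Scheme.{u}} (f : X ⟶ Y) [QuasiCompact f] :
    IsClosedImmersion f ↔ ∀ (A B : Type u) [CommRing A] [CommRing B] (φ : A →+* B), Function.Injective φ →
      ∀ (a : Spec (CommRingCat.of B) ⟶ X) (b : Spec (CommRingCat.of A) ⟶ Y), Spec.map (CommRingCat.ofHom φ) ≫ b = a ≫ f →
        ∃ l : Spec (CommRingCat.of A) ⟶ X, Spec.map (CommRingCat.ofHom φ) ≫ l = a ∧ l ≫ f = b := by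
  exact ⟨fun _ A B _ _ φ hφ a b w => of_closedImmersion f φ hφ a b w, to_closedImmersion f⟩

end Groth.Agent.S1432
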