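import Groth.Statements.S14330
import Groth.Agent.Depth.Basic
import Groth.Agent.DepthExt.Basic
import Groth.Agent.AlgSp.DenseFlat
import Groth.Agent.Props.GenLocus
import Mathlib.RingTheory.Regular.Flat
import Mathlib.AlgebraicGeometry.Noetherian
-- import your own Groth.Agent.* helpers here

set_option autoImplicit false
universe u
open CategoryTheory CategoryTheory.Limits AlgebraicGeometry Opposite
open GrpSch

namespace Groth.Agent.S14330

open Groth.Agent.QCoh Groth.Agent.Props.GenLocus in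
lemma res_injective_of_local {A : Scheme.{u}} {L : A.Modules} (hL : PicF.IsInvertible L) (P : A.Opens)
    (hinj : ∀ Ω : A.Opens, IsAffineOpen Ω → Function.Injective (rres (inf_le_left : Ω ⊓ P ≤ Ω)))
    (T : A.Opens) : Function.Injective (res L (inf_le_left : T ⊓ P ≤ T)) := by
  rw [injective_iff_map_eq_zero]
  intro x hx
  have key : ∀ a : T, ∃ (Ω : A.Opens), IsAffineOpen Ω ∧ Ω ≤ T ∧ a.1 ∈ Ω ∧ ∃ e, IsGen L Ω e := by
    intro a
    obtain ⟨U, e, haU, he⟩ := exists_isGen hL a.1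
    obtain ⟨_, ⟨Ω, hΩ, rfl⟩, haΩ, hle⟩ :=
      A.isBasis_affineOpens.exists_subset_of_mem_open (show a.1 ∈ T ⊓ U from ⟨a.2, haU⟩) (T ⊓ U).2
    exact ⟨Ω, hΩ, fun y hy => (hle hy).1, haΩ, _, he.restrict (fun y hy => (hle hy).2)⟩
  choose Ω hΩ hΩT haΩ e he using key
  refine eq_zero_of_locally_eq_zero L hΩT (fun a ha => TopologicalSpace.Opens.mem_iSup.2 ⟨⟨a, ha⟩, haΩ ⟨a, ha⟩⟩) x fun a => ?_
  obtain ⟨c, hc, -⟩ := (he a).exists_eq le_rfl (res L (hΩT a) x)
  suffices c = 0 by rw [hc, this, zero_smul]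
  apply hinj (Ω a) (hΩ a)
  rw [map_zero]
  refine (he a).injective (inf_le_left : Ω a ⊓ P ≤ Ω a) ?_
  have h1 := congrArg (res L (inf_le_left : Ω a ⊓ P ≤ Ω a)) hc
  rw [res_smul, res_res, res_res] at h1
  rw [zero_smul, ← h1, ← res_res L (inf_le_left : T ⊓ P ≤ T) (inf_le_inf_right P (hΩT a)), hx, map_zero]

open Groth.Agent.QCoh Groth.Agent.Props.GenLocus in
lemma res_bijective_of_local {A : Scheme.{u}} {L : A.Modules} (hL : PicF.IsInvertible L) (P : A.Opens)
    (hbij : ∀ Ω : A.Opens, IsAffineOpen Ω → Function.Bijective (rres (inf_le_left : Ω ⊓ P ≤ Ω)))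
    (T : A.Opens) : Function.Bijective (res L (inf_le_left : T ⊓ P ≤ T)) := by
  have inj := res_injective_of_local hL P (fun Ω hΩ => (hbij Ω hΩ).1)
  refine ⟨inj T, fun y => ?_⟩
  have key : ∀ a : T, ∃ (Ω : A.Opens), IsAffineOpen Ω ∧ Ω ≤ T ∧ a.1 ∈ Ω ∧ ∃ e, IsGen L Ω e := by
    intro a
    obtain ⟨U, e, haU, he⟩ := exists_isGen hL a.1
    obtain ⟨_, ⟨Ω, hΩ, rfl⟩, haΩ, hle⟩ :=
      A.isBasis_affineOpens.exists_subset_of_mem_open (show a.1 ∈ T ⊓ U from ⟨a.2, haU⟩) (T ⊓ U).2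
    exact ⟨Ω, hΩ, fun z hz => (hle hz).1, haΩ, _, he.restrict (fun z hz => (hle hz).2)⟩
  choose Ω hΩ hΩT haΩ e he using key
  have sec : ∀ a : T, ∃ x : Γ(L, Ω a),
      res L (inf_le_left : Ω a ⊓ P ≤ Ω a) x = res L (inf_le_inf_right P (hΩT a)) y := by
    intro a
    obtain ⟨b, hb, -⟩ := (he a).exists_eq (inf_le_left : Ω a ⊓ P ≤ Ω a) (res L (inf_le_inf_right P (hΩT a)) y)
    obtain ⟨c, hc⟩ := (hbij (Ω a) (hΩ a)).2 b
    exact ⟨c • e a, by rw [res_smul, hc, ← hb]⟩
  choose x hx using sec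
  obtain ⟨s, hs⟩ := exists_glue L hΩT (fun a ha => TopologicalSpace.Opens.mem_iSup.2 ⟨⟨a, ha⟩, haΩ ⟨a, ha⟩⟩) x (fun a b => by
    apply inj (Ω a ⊓ Ω b)
    rw [res_res, res_res,
      ← res_res L (inf_le_left : Ω a ⊓ P ≤ Ω a) (inf_le_inf_right P (inf_le_left : Ω a ⊓ Ω b ≤ Ω a)), hx,
      ← res_res L (inf_le_left : Ω b ⊓ P ≤ Ω b) (inf_le_inf_right P (inf_le_right : Ω a ⊓ Ω b ≤ Ω b)), hx,
      res_res, res_res])
  refine ⟨s, eq_of_locally_eq L (fun a : T => inf_le_inf_right P (hΩT a))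
    (fun a ha => TopologicalSpace.Opens.mem_iSup.2 ⟨⟨a, ha.1⟩, haΩ ⟨a, ha.1⟩, ha.2⟩) _ _ fun a => ?_⟩
  rw [res_res, ← res_res L (hΩT a) (inf_le_left : Ω a ⊓ P ≤ Ω a), hs, hx]

/-- Let S be a locally Noetherian scheme, f : A → S a smooth morphism, L an invertible O_A-module and V
an open subscheme of S; for an open W of S consider the restriction of sections of L from f⁻¹(W) to
f⁻¹(W) ∩ f⁻¹(V), that is the component over W of the natural map f_*L → j_*j^*(f_*L), j : V → S the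
inclusion. If V is schematically dense in S, all these restrictions are injective. If V is a big
open of S, meaning that the local ring of S at every point outside V has depth at least 2, all these
restrictions are bijective. (The published statement is for a semi-stable group scheme A; its proof
uses only the smoothness of A over S and the local freeness of L, which are the hypotheses kept
here.) -/
theorem result {S A : Scheme.{u}} [IsLocallyNoetherian S]
    (f : A ⟶ S) [Smooth f] (L : A.Modules) (hL : PicF.IsInvertible L) (V : S.Opens) :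
    (CInt.IsSchematicallyDense V →
      ∀ W : S.Opens, Function.Injective (L.val.map (homOfLE (inf_le_left : f ⁻¹ᵁ W ⊓ f ⁻¹ᵁ V ≤ f ⁻¹ᵁ W)).op)) ∧
    ((∀ x : S, x ∉ V → 2 ≤ LocCoh.depth (S.presheaf.stalk x) (S.presheaf.stalk x)) →
      ∀ W : S.Opens, Function.Bijective (L.val.map (homOfLE (inf_le_left : f ⁻¹ᵁ W ⊓ f ⁻¹ᵁ V ≤ f ⁻¹ᵁ W)).op)) := by
  refine ⟨fun hV W => res_injective_of_local hL (f ⁻¹ᵁ V) (fun Ω _ => ?_) (f ⁻¹ᵁ W),
    fun hd W => res_bijective_of_local hL (f ⁻¹ᵁ V) (fun Ω hΩ => ?_) (f ⁻¹ᵁ W)⟩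
  · exact AlgSp.DenseFlat.preimage f V hV Ω
  · have : IsLocallyNoetherian A := LocallyOfFiniteType.isLocallyNoetherian f
    have hreg : ∀ z : A, z ∈ Ω → z ∉ Ω ⊓ f ⁻¹ᵁ V → ∃ a b : A.presheaf.stalk z,
        a ∈ IsLocalRing.maximalIdeal (A.presheaf.stalk z) ∧ b ∈ IsLocalRing.maximalIdeal (A.presheaf.stalk z) ∧
        RingTheory.Sequence.IsWeaklyRegular (A.presheaf.stalk z) [a, b] := by
      intro z hzΩ hz
      have hzV : f z ∉ V := fun h => hz ⟨hzΩ, h⟩
      obtain ⟨rs, hrs, hmem, hlen⟩ := Groth.Agent.Depth.exists_isWeaklyRegular_of_le_idealDepth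
        (R := S.presheaf.stalk (f z)) (M := S.presheaf.stalk (f z))
        (I := IsLocalRing.maximalIdeal (S.presheaf.stalk (f z))) (by
          rw [Ideal.smul_top_eq_map, Algebra.algebraMap_self, Ideal.map_id]
          exact fun h => (IsLocalRing.maximalIdeal.isMaximal _).ne_top
            (by simpa using h)) (n := 2) (by exact_mod_cast hd (f z) hzV)
      obtain ⟨a, b, rfl⟩ : ∃ a b, rs = [a, b] := List.length_eq_two.1 hlen
      algebraize [(f.stalkMap z).hom]
      have : Module.Flat (S.presheaf.stalk (f z)) (A.presheaf.stalk z) := Flat.stalkMap f z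
      exact ⟨f.stalkMap z a, f.stalkMap z b, map_nonunit (f.stalkMap z).hom a (hmem a (by simp)),
        map_nonunit (f.stalkMap z).hom b (hmem b (by simp)), hrs.of_flat (S := A.presheaf.stalk z)⟩
    have hcpt : IsCompact ((Ω ⊓ f ⁻¹ᵁ V : A.Opens) : Set A) := by
      have : IsNoetherian (Ω : Scheme.{u}) :=
        have : IsAffine (Ω : Scheme.{u}) := hΩ
        { }
      have := TopologicalSpace.NoetherianSpace.isCompact (Ω.ι ⁻¹' ((Ω ⊓ f ⁻¹ᵁ V : A.Opens) : Set A))
      have h2 := this.image Ω.ι.continuous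
      rwa [Set.image_preimage_eq_of_subset (by rw [Scheme.Opens.range_ι]; exact fun y hy => hy.1)] at h2
    refine ⟨DepthExt.res_injective inf_le_left (fun z h1 h2 => ?_) hΩ,
      DepthExt.res_surjective inf_le_left hcpt hreg hΩ⟩
    obtain ⟨a, b, ha, -, h⟩ := hreg z h1 h2
    exact ⟨a, ha, (DepthExt.dvd_of_isWeaklyRegular h).1⟩

end Groth.Agent.S14330
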