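import Groth.Statements.S14336
import Groth.Agent.FlatCx.Fib
import Mathlib
-- import your own Groth.Agent.* helpers here

set_option autoImplicit false
universe u
open CAlg

namespace Groth.Agent.S14336


open TensorProduct Filter Groth.Agent.FlatCx in
private theorem rank_add_fib {B K K' : Type u} [CommRing B] [AddCommGroup K] [Module B K]
    [AddCommGroup K'] [Module B K'] [Module.Finite B K'] (φ : K →ₗ[B] K') (y : PrimeSpectrum B) :
    Module.finrank y.asIdeal.ResidueField ↥(LinearMap.range (φ.baseChange y.asIdeal.ResidueField)) +
      fib (K' ⧸ LinearMap.range φ) y = fib K' y := by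
  let q := (LinearMap.range φ).mkQ.baseChange y.asIdeal.ResidueField
  have hq : Function.Surjective q := LinearMap.lTensor_surjective _ (Submodule.mkQ_surjective _)
  have hk : LinearMap.ker q = LinearMap.range (φ.baseChange y.asIdeal.ResidueField) := by
    ext z
    exact lTensor_exact y.asIdeal.ResidueField (LinearMap.exact_map_mkQ_range φ) (Submodule.mkQ_surjective _) z
  have h := LinearMap.finrank_range_add_finrank_ker q
  rw [LinearMap.range_eq_top.mpr hq, finrank_top, hk] at h
  show _ + Module.finrank _ _ = Module.finrank _ _
  rw [add_comm]
  exact h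

/-- Let B be a Noetherian ring, K and K' finitely generated flat B-modules and φ : K → K' a B-linear
map; for a prime y of B write κ(y) for its residue field and φ_y for the base change κ(y) ⊗ K → κ(y)
⊗ K'. Then the function y ↦ dim_{κ(y)} Im(φ_y) on Spec B is lower semicontinuous. -/
theorem result (B : Type u) [CommRing B] [IsNoetherianRing B] (K K' : Type u) [AddCommGroup K] [Module B K] [Module.Finite B K] [Module.Flat B K] [AddCommGroup K'] [Module B K'] [Module.Finite B K'] [Module.Flat B K'] (φ : K →ₗ[B] K') : LowerSemicontinuous (fun y : PrimeSpectrum B => Module.finrank y.asIdeal.ResidueField ↥(LinearMap.range (φ.baseChange y.asIdeal.ResidueField))) := by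
  intro y a ha
  haveI := Module.finitePresentation_of_finite B K'
  have hconst := (IsLocallyConstant.iff_eventually_eq _).mp
    (Groth.Agent.FlatCx.isLocallyConstant_fib (A := B) K') y
  filter_upwards [hconst, Groth.Agent.FlatCx.fib_le_eventually (K' ⧸ LinearMap.range φ) y] with z h1 h2
  simp only at ha ⊢
  have := rank_add_fib φ y
  have := rank_add_fib φ z
  omega

end Groth.Agent.S14336
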