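import Groth.Statements.S14337
import Mathlib
-- import your own Groth.Agent.* helpers here

set_option autoImplicit false
universe u
open scoped TensorProduct
open CAlg

namespace Groth.Agent.S14337

/-- Let B be a Noetherian ring, K and K' finitely generated flat B-modules and φ : K → K' a B-linear
map; for a prime y of B write κ(y) for its residue field and φ_y for the base change κ(y) ⊗ K → κ(y)
⊗ K'. If the cokernel K'/Im φ is a projective (locally free) B-module, then Im φ is projective, and
the formation of Im φ commutes with every base change: for every commutative B-algebra B' the map B'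
⊗ Im φ → B' ⊗ K' induced by the inclusion is injective and its range is the range of the base change
B' ⊗ K → B' ⊗ K' of φ. -/
theorem result (B : Type u) [CommRing B] [IsNoetherianRing B] (K K' : Type u) [AddCommGroup K] [Module B K] [Module.Finite B K] [Module.Flat B K] [AddCommGroup K'] [Module B K'] [Module.Finite B K'] [Module.Flat B K'] (φ : K →ₗ[B] K') (hc : Module.Projective B (K' ⧸ LinearMap.range φ)) : Module.Projective B ↥(LinearMap.range φ) ∧ ∀ (B' : Type u) [CommRing B'] [Algebra B B'], Function.Injective ((LinearMap.range φ).subtype.baseChange B') ∧ LinearMap.range ((LinearMap.range φ).subtype.baseChange B') = LinearMap.range (φ.baseChange B') := by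
  haveI := Module.finitePresentation_of_finite B K'
  haveI : Module.Projective B K' := Module.Flat.projective_of_finitePresentation
  obtain ⟨s, hs⟩ := Module.projective_lifting_property (LinearMap.range φ).mkQ LinearMap.id (Submodule.mkQ_surjective _)
  have hs' : ∀ c, Submodule.Quotient.mk (s c) = c := fun c => LinearMap.congr_fun hs c
  let r : K' →ₗ[B] LinearMap.range φ :=
    LinearMap.codRestrict _ (LinearMap.id - s ∘ₗ (LinearMap.range φ).mkQ) (fun x => by
      rw [← Submodule.Quotient.mk_eq_zero]
      simp [hs'])
  have hr : r ∘ₗ (LinearMap.range φ).subtype = LinearMap.id := by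
    ext x
    show (x : K') - s ((LinearMap.range φ).mkQ (x : K')) = x
    rw [show (LinearMap.range φ).mkQ (x : K') = 0 from (Submodule.Quotient.mk_eq_zero _).mpr x.2]
    simp
  refine ⟨Module.Projective.of_split (LinearMap.range φ).subtype r hr, ?_⟩
  intro B' _ _
  have hinj : Function.Injective ((LinearMap.range φ).subtype.baseChange B') := by
    refine Function.LeftInverse.injective (g := r.baseChange B') (fun z => ?_)
    rw [← LinearMap.comp_apply, ← LinearMap.baseChange_comp, hr, LinearMap.baseChange_id]
    rfl
  refine ⟨hinj, ?_⟩
  have h : φ.baseChange B' = (LinearMap.range φ).subtype.baseChange B' ∘ₗ φ.rangeRestrict.baseChange B' := by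
    rw [← LinearMap.baseChange_comp]
    rfl
  rw [h, LinearMap.range_comp_of_range_eq_top]
  exact LinearMap.range_eq_top.mpr (LinearMap.lTensor_surjective _ φ.surjective_rangeRestrict)

end Groth.Agent.S14337
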