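import Groth.Statements.S14338
import Groth.Agent.FlatCx.Semicont
import Mathlib
-- import your own Groth.Agent.* helpers here

set_option autoImplicit false
universe u
open CAlg

namespace Groth.Agent.S14338


open TensorProduct Filter Groth.Agent.FlatCx in
private theorem key {A K K' : Type u} [CommRing A] [IsNoetherianRing A] [IsReduced A]
    [AddCommGroup K] [Module A K] [AddCommGroup K'] [Module A K']
    [Module.Finite A K'] [Module.Flat A K'] (φ : K →ₗ[A] K') (c : ℕ)
    (h : ∀ y : PrimeSpectrum A,
      Module.finrank y.asIdeal.ResidueField ↥(LinearMap.range (φ.baseChange y.asIdeal.ResidueField)) = c) :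
    Module.Flat A (K' ⧸ LinearMap.range φ) := by
  haveI := Module.finitePresentation_of_finite A K'
  have key : ∀ w : PrimeSpectrum A, c + fib (K' ⧸ LinearMap.range φ) w = fib K' w := by
    intro w
    let q := (LinearMap.range φ).mkQ.baseChange w.asIdeal.ResidueField
    have hq : Function.Surjective q := LinearMap.lTensor_surjective _ (Submodule.mkQ_surjective _)
    have hk : LinearMap.ker q = LinearMap.range (φ.baseChange w.asIdeal.ResidueField) := by
      ext z
      exact lTensor_exact w.asIdeal.ResidueField (LinearMap.exact_map_mkQ_range φ) (Submodule.mkQ_surjective _) z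
    have h' := LinearMap.finrank_range_add_finrank_ker q
    rw [LinearMap.range_eq_top.mpr hq, finrank_top, hk, h w] at h'
    unfold fib
    omega
  refine flat_of_isLocallyConstant_fib _ ((IsLocallyConstant.iff_eventually_eq _).mpr fun z => ?_)
  filter_upwards [(IsLocallyConstant.iff_eventually_eq _).mp (isLocallyConstant_fib (A := A) K') z] with x h1
  have := key x
  have := key z
  omega

/-- Let B be a Noetherian ring, K and K' finitely generated flat B-modules and φ : K → K' a B-linear
map; for a prime y of B write κ(y) for its residue field and φ_y for the base change κ(y) ⊗ K → κ(y)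
⊗ K'. Assume B is reduced and the number dim_{κ(y)} Im(φ_y) is the same for all primes y of B. Then
the cokernel K'/Im φ and the image Im φ are projective (locally free) B-modules. -/
theorem result (B : Type u) [CommRing B] [IsNoetherianRing B] (K K' : Type u) [AddCommGroup K] [Module B K] [Module.Finite B K] [Module.Flat B K] [AddCommGroup K'] [Module B K'] [Module.Finite B K'] [Module.Flat B K'] (φ : K →ₗ[B] K') [IsReduced B] (hconst : ∃ c : ℕ, ∀ y : PrimeSpectrum B, Module.finrank y.asIdeal.ResidueField ↥(LinearMap.range (φ.baseChange y.asIdeal.ResidueField)) = c) : Module.Projective B (K' ⧸ LinearMap.range φ) ∧ Module.Projective B ↥(LinearMap.range φ) := by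
  obtain ⟨c, hc⟩ := hconst
  haveI := key φ c hc
  haveI := Module.finitePresentation_of_finite B (K' ⧸ LinearMap.range φ)
  haveI := Module.finitePresentation_of_finite B K'
  haveI : Module.Projective B K' := Module.Flat.projective_of_finitePresentation
  haveI hC : Module.Projective B (K' ⧸ LinearMap.range φ) := Module.Flat.projective_of_finitePresentation
  refine ⟨hC, ?_⟩
  obtain ⟨s, hs⟩ := Module.projective_lifting_property (LinearMap.range φ).mkQ LinearMap.id (Submodule.mkQ_surjective _)
  have hs' : ∀ c, Submodule.Quotient.mk (s c) = c := fun c => LinearMap.congr_fun hs c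
  let r : K' →ₗ[B] LinearMap.range φ :=
    LinearMap.codRestrict _ (LinearMap.id - s ∘ₗ (LinearMap.range φ).mkQ) (fun x => by
      rw [← Submodule.Quotient.mk_eq_zero]
      simp [hs'])
  refine Module.Projective.of_split (LinearMap.range φ).subtype r ?_
  ext x
  show (x : K') - s ((LinearMap.range φ).mkQ (x : K')) = x
  rw [show (LinearMap.range φ).mkQ (x : K') = 0 from (Submodule.Quotient.mk_eq_zero _).mpr x.2]
  simp

end Groth.Agent.S14338
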