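import Groth.Statements.S14339
import Groth.Agent.FFCurve.PlaneNotHyper
-- import your own Groth.Agent.* helpers here

set_option autoImplicit false
set_option backward.isDefEq.respectTransparency false
set_option backward.isDefEq.respectTransparency.types false
set_option linter.style.haveILetI false
universe u
open CategoryTheory CategoryTheory.Limits AlgebraicGeometry
open Curves

namespace Groth.Agent.S14339

/-- Let k be a field, d ≥ 4, and f a nonzero homogeneous form of degree d in the homogeneous coordinates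
of P^2_k whose plane curve X = V_+(f) is smooth over k. Then X is not hyperelliptic: there is no
morphism φ : X → P^1_k over k which is finite and flat of constant rank 2 (a double cover of the
projective line). -/
theorem result (k : Type u) [Field k] (d : ℕ) (hd : 4 ≤ d) (f : LefPen.Form 2 k d) (hf : f ≠ 0) [Smooth ((LefPen.hypIdeal f).subschemeι ≫ CohB1.ProjSpace.toSpec 2 k)] : ¬ ∃ φ : (LefPen.hypIdeal f).subscheme ⟶ CohB1.ProjSpace 1 k, φ ≫ CohB1.ProjSpace.toSpec 1 k = (LefPen.hypIdeal f).subschemeι ≫ CohB1.ProjSpace.toSpec 2 k ∧ IsFinite φ ∧ Flat φ ∧ ∀ y : ↥(CohB1.ProjSpace 1 k), Scheme.Hom.finrank φ y = 2 := by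
  rintro ⟨φ, hφ, hfin, hflat, hrank⟩
  haveI := hfin
  haveI := hflat
  letI : (FFCurve.Plane.Cv f).Over (Spec (CommRingCat.of k)) :=
    ⟨(LefPen.hypIdeal f).subschemeι ≫ CohB1.ProjSpace.toSpec 2 k⟩
  haveI := ProjProper.Basic.isProper_toSpec 2 k
  haveI : IsProper ((FFCurve.Plane.Cv f) ↘ Spec (CommRingCat.of k)) :=
    (inferInstance : IsProper ((LefPen.hypIdeal f).subschemeι ≫ CohB1.ProjSpace.toSpec 2 k))
  haveI : Smooth ((FFCurve.Plane.Cv f) ↘ Spec (CommRingCat.of k)) :=
    ‹Smooth ((LefPen.hypIdeal f).subschemeι ≫ CohB1.ProjSpace.toSpec 2 k)›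
  haveI := FFCurve.Plane.connectedSpace hf (by omega : 0 < d)
  haveI := FFCurve.isIntegral_of_connected (X := FFCurve.Plane.Cv f) k
  have hdim := FFCurve.Plane.dim_eq_one hf (by omega : 0 < d)
  haveI := FFCurve.regCurve_of_smooth (X := FFCurve.Plane.Cv f) k hdim
  obtain ⟨t, ht, hres, -⟩ := FFCurve.exists_param k hdim φ hφ
  obtain ⟨hPp, -, hPi, hPd⟩ := FFCurve.p1_facts k
  haveI := hPi
  letI : (CohB1.ProjSpace 1 k).Over (Spec (CommRingCat.of k)) := ⟨CohB1.ProjSpace.toSpec 1 k⟩
  haveI : IsProper ((CohB1.ProjSpace 1 k) ↘ Spec (CommRingCat.of k)) := hPp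
  have e := FFCurve.map_genericPoint k hdim hPd φ
  have h2 : φ.residueDegree (genericPoint (FFCurve.Plane.Cv f)) = 2 :=
    (FFCurve.GenericRank.finrank_genericPoint φ e).symm.trans (hrank _)
  rw [h2] at hres
  have hK := FFCurve.Plane.isFunctionField hf (by omega : 2 ≤ d) hdim rfl
  haveI := FF.finite_adjoin hK.1 ht
  let K' := IntermediateField.adjoin k ({t} : Set (FFCurve.Plane.Cv f).functionField)
  have htop : IntermediateField.adjoin k ({IntermediateField.AdjoinSimple.gen k t} : Set K') = ⊤ := by
    apply IntermediateField.lift_injective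
    rw [IntermediateField.lift_top, IntermediateField.lift_adjoin_simple]
    rfl
  have hgen : Transcendental k (IntermediateField.AdjoinSimple.gen k t) := fun ha =>
    ht (ha.algebraMap (A := (FFCurve.Plane.Cv f).functionField))
  have hK' : FunFld.IsFunctionField k K' := by
    refine ⟨⟨IntermediateField.AdjoinSimple.gen k t, hgen, ?_⟩, fun y hy => ?_⟩
    · rw [htop]
      exact Module.Finite.of_surjective (Algebra.linearMap (⊤ : IntermediateField k K') K')
        fun z => ⟨⟨z, trivial⟩, rfl⟩
    · obtain ⟨c, hc⟩ := hK.2 (algebraMap K' (FFCurve.Plane.Cv f).functionField y)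
        (hy.algebraMap (A := (FFCurve.Plane.Cv f).functionField))
      exact ⟨c, (algebraMap K' (FFCurve.Plane.Cv f).functionField).injective
        ((IsScalarTower.algebraMap_apply k K' _ c).symm.trans hc)⟩
  have hg' := FF.genus_eq_zero_of_rational hK' htop
  obtain ⟨P, hP, -, -⟩ := FF.exists_simple_pole_of_rational hK' htop
  exact FFCurve.Plane.not_double hf (by omega) hdim rfl hd hK' hres.symm hg'
    (E := Finsupp.single P ((FunFld.genus k (FFCurve.Plane.Cv f).functionField : ℤ) - 1))
    (by rw [FF.deg_single, hP]; push_cast; ring)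

end Groth.Agent.S14339
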