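import Groth.Statements.S1434
import Mathlib.AlgebraicGeometry.IdealSheaf.Subscheme
-- import your own Groth.Agent.* helpers here

set_option autoImplicit false
universe u
open FlatMor

namespace Groth.Agent.S1434

section
open AlgebraicGeometry CategoryTheory TopologicalSpace

/-- Sections killed by a first order thickening multiply to zero. -/
theorem mul_eq_zero_of_app {T T' : Scheme.{u}} (t : T ⟶ T') (ht : MoreMor.IsFirstOrderThickening t)
    (W : T'.Opens) (p q : Γ(T', W)) (hp : t.app W p = 0) (hq : t.app W q = 0) : p * q = 0 := by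
  have := ht.1.1
  let V := fun V : { V : T'.affineOpens // (V : T'.Opens) ≤ W } => (V.1 : T'.Opens)
  refine TopCat.Sheaf.eq_of_locally_eq' T'.sheaf V W (fun V => homOfLE V.2) ?_ _ _ fun V => ?_
  · intro x hx
    obtain ⟨_, ⟨V, hV, rfl⟩, hxV, hVle⟩ :=
      T'.isBasis_affineOpens.exists_subset_of_mem_open hx W.2
    exact Opens.mem_iSup.mpr ⟨⟨⟨V, hV⟩, hVle⟩, hxV⟩
  · show (T'.presheaf.map (homOfLE V.2).op) (p * q) = (T'.presheaf.map (homOfLE V.2).op) 0
    rw [map_mul, map_zero]
    have key : ∀ r : Γ(T', W), t.app W r = 0 →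
        T'.presheaf.map (homOfLE V.2).op r ∈ t.ker.ideal V.1 := fun r hr => by
      rw [Scheme.Hom.ker_apply, RingHom.mem_ker, ← CommRingCat.comp_apply, Scheme.Hom.naturality,
        CommRingCat.comp_apply, hr, map_zero]
    have h := Ideal.mul_mem_mul (key p hp) (key q hq)
    have e : t.ker.ideal V.1 * t.ker.ideal V.1 = ⊥ := by
      have := congrArg (fun J : T'.IdealSheafData => J.ideal V.1) ht.2
      simpa using this
    rw [e] at h
    simpa using h

end

open AlgebraicGeometry CategoryTheory Limits in
/-- Part (1), for a closed subscheme: let Z ⊂ X be the closed subscheme cut out by an ideal sheaf I and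
Z' the one cut out by I², its first order infinitesimal neighbourhood. Given a first order
thickening T → T', a morphism a : T → Z and a morphism b : T' → X compatible with them, there is a
unique morphism T' → Z' through which b factors (compatibility with a is then automatic). -/
theorem result {X T T' : Scheme.{u}} (I : X.IdealSheafData) (t : T ⟶ T') (ht : MoreMor.IsFirstOrderThickening t)
    (a : T ⟶ I.subscheme) (b : T' ⟶ X) (w : a ≫ I.subschemeι = t ≫ b) :
    ∃! a' : T' ⟶ (I ^ 2).subscheme, a' ≫ (I ^ 2).subschemeι = b := by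
  have hI : I ≤ (t ≫ b).ker := by
    rw [← w]
    exact I.ker_subschemeι.ge.trans (Scheme.Hom.le_ker_comp a I.subschemeι)
  have hle : (I ^ 2).subschemeι.ker ≤ b.ker := by
    rw [Scheme.IdealSheafData.ker_subschemeι]
    refine Scheme.IdealSheafData.le_ofIdeals_iff.mpr fun U => ?_
    rw [Scheme.IdealSheafData.ideal_pow, Pi.pow_apply, pow_two, Ideal.mul_le]
    intro x hx y hy
    have key : ∀ r ∈ I.ideal U, t.app (b ⁻¹ᵁ U) (b.app U r) = 0 := fun r hr => by
      have h1 : r ∈ RingHom.ker ((t ≫ b).app U).hom :=
        Scheme.IdealSheafData.ideal_ofIdeals_le _ U (hI U hr)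
      rw [RingHom.mem_ker, Scheme.Hom.comp_app] at h1
      exact h1
    rw [RingHom.mem_ker, map_mul]
    exact mul_eq_zero_of_app t ht _ _ _ (key x hx) (key y hy)
  refine ⟨IsClosedImmersion.lift (I ^ 2).subschemeι b hle, IsClosedImmersion.lift_fac _ _ hle, fun a' ha' => ?_⟩
  rw [← cancel_mono (I ^ 2).subschemeι, ha', IsClosedImmersion.lift_fac]

end Groth.Agent.S1434
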