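import Groth.Statements.S14343
import Groth.Agent.BlowPerf.BaseChange

set_option autoImplicit false
universe u
open CategoryTheory CategoryTheory.Limits AlgebraicGeometry TopologicalSpace
open QuotLF

namespace Groth.Agent.S14343

/-- Let 𝓘 be a Koszul-regular quasi-coherent ideal sheaf on a scheme X (the ideal of a Koszul-regularly
immersed closed subscheme Z) and let g : X' ⟶ X be a morphism which is Tor-independent with respect
to Z ⟶ X, stated in the following equivalent form: whenever 𝓘(U) is generated on an affine open U by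
a Koszul-regular sequence, the image of that sequence in Γ(X', V) is again Koszul-regular for every
affine open V of X' lying over U (for a Koszul-regular ideal the Koszul complex of such a sequence
resolves O_Z on U, so this says exactly that the higher Tor groups of O_Z against O_{X'} vanish).
Then for every blowing-up b : B ⟶ X of X in 𝓘, the base change B ×_X X' ⟶ X' is a blowing-up of X'
in the inverse image ideal sheaf 𝓘·O_{X'} (the ideal of Z ×_X X'). Blowing-ups are taken through
their universal property. -/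
theorem result {X X' B : Scheme.{u}} (𝓘 : X.IdealSheafData)
    (h𝓘 : RegImm.IsRegularIdeal .koszul 𝓘) (g : X' ⟶ X)
    (hg : ∀ (U : X.affineOpens) (rs : List Γ(X, U.1)), LCI.IsKoszulRegularSeq Γ(X, U.1) rs →
      𝓘.ideal U = Ideal.ofList rs → ∀ (V : X'.affineOpens) (e : V.1 ≤ g ⁻¹ᵁ U.1),
        LCI.IsKoszulRegularSeq Γ(X', V.1) (rs.map fun r => (g.appLE U.1 V.1 e).hom r))
    (b : B ⟶ X) (hb : BlowUp.IsBlowUp b 𝓘) :
    BlowUp.IsBlowUp (pullback.snd b g) (𝓘.comap g) := by
  have h' : ∀ x : X, ∃ (U : X.Opens) (hU : IsAffineOpen U) (rs : List Γ(X, U)), x ∈ U ∧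
      LCI.IsKoszulRegularSeq Γ(X, U) rs ∧ 𝓘.ideal ⟨U, hU⟩ = Ideal.ofList rs := by
    intro x
    by_cases hx : x ∈ 𝓘.support
    · obtain ⟨U, hxU, rs, h1, h2⟩ := h𝓘 x hx
      exact ⟨U.1, U.2, rs, hxU, h1, h2⟩
    · obtain ⟨U, hU, hxU, hsub⟩ := exists_isAffineOpen_mem_and_subset (x := x)
        (U := ⟨(𝓘.support : Set X)ᶜ, 𝓘.support.isClosed.isOpen_compl⟩) hx
      refine ⟨U, hU, [1], hxU, KReg44.isKoszulRegularSeq_of_eq_top (by simp), ?_⟩
      rw [Groth.Agent.IdealSh.Extend.ideal_eq_top_of_disjoint (U := U) ?_ ⟨U, hU⟩ le_rfl]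
      · simp
      · exact Set.disjoint_left.2 fun y hy hyU => hsub hyU hy
  refine ⟨Groth.Agent.BlowPerf.BaseChange.isEffCartierIdeal 𝓘 h' g hg b hb, fun Y h hY => ?_⟩
  rw [← Scheme.IdealSheafData.comap_comp] at hY
  obtain ⟨k, hk, huniq⟩ := hb.2 Y (h ≫ g) hY
  refine ⟨pullback.lift k h hk, pullback.lift_snd _ _ _, fun l hl => ?_⟩
  refine pullback.hom_ext ?_ ?_
  · rw [pullback.lift_fst]
    refine huniq _ ?_
    simp only at hl ⊢
    rw [Category.assoc, pullback.condition, ← Category.assoc, hl]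
  · rw [pullback.lift_snd, hl]

end Groth.Agent.S14343
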