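import Groth.Statements.S14345
import Groth.Agent.FittLib.Rank

set_option autoImplicit false
universe u v
open TensorProduct
open QuotLF

namespace Groth.Agent.S14345

theorem ideal_eq_bot_of_rankAtStalk {A : Type u} [CommRing A] {P : Type*} [AddCommGroup P] [Module A P]
    [Module.Finite A P] [Module.Projective A P] {k : ℕ}
    (hk : ∀ p, Module.rankAtStalk (R := A) P p = k) {j : ℕ} (hj : j < k) : Fitt.ideal A P j = ⊥ := by
  haveI : Module.Flat A P := Module.Flat.of_projective
  rw [eq_bot_iff]
  intro r hr
  rw [Submodule.mem_bot]
  refine eq_zero_of_localization r fun J hJ => ?_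
  haveI : Module.Free (Localization.AtPrime J) (LocalizedModule J.primeCompl P) := Module.free_of_flat_of_isLocalRing
  let b := Module.finBasis (Localization.AtPrime J) (LocalizedModule J.primeCompl P)
  have hb : j < Module.finrank (Localization.AtPrime J) (LocalizedModule J.primeCompl P) :=
    hj.trans_eq (hk ⟨J, hJ.isPrime⟩).symm
  have := Ideal.mem_map_of_mem (algebraMap A (Localization.AtPrime J)) hr
  rwa [← Groth.Agent.FittLib.ideal_localizedModule, Groth.Agent.FittLib.ideal_eq_bot_of_basis b hb,
    Ideal.mem_bot] at this

/-- Let R be a commutative ring, M a finitely generated R-module and k ≥ 0. If for an R-algebra A the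
module A ⊗_R M admits a quotient that is finite projective of constant rank k (an A-valued point of
the Quot scheme of rank-k locally free quotients of M), then every Fitting ideal Fit_j(M) with j < k
extends to the zero ideal of A; that is, the structure map of the Quot scheme of rank-k locally free
quotients factors through the closed subscheme cut out by Fit_{k-1}(M). -/
theorem result (R : Type u) [CommRing R]
    (M : Type v) [AddCommGroup M] [Module R M] [Module.Finite R M] (k : ℕ)
    (A : Type u) [CommRing A] [Algebra R A] (N : Module.Grassmannian A (A ⊗[R] M) k)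
    (j : ℕ) (hj : j < k) :
    (Fitt.ideal R M j).map (algebraMap R A) = ⊥ := by
  rw [← Groth.Agent.FittLib.ideal_baseChange (R := R) (R' := A) (M := M) j, eq_bot_iff,
    ← ideal_eq_bot_of_rankAtStalk N.rankAtStalk_eq hj]
  exact Groth.Agent.FittLib.ideal_le_of_surjective N.toSubmodule.mkQ (Submodule.mkQ_surjective _) j

end Groth.Agent.S14345
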