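import Groth.Statements.S14346
import Mathlib.RingTheory.Spectrum.Prime.FreeLocus
import Mathlib.RingTheory.Grassmannian

set_option autoImplicit false
universe u v
open TensorProduct
open QuotLF

namespace Groth.Agent.S14346

/-- Let R be a commutative ring, M an R-module, k ≥ 0, and A an R-algebra for which A ⊗_R M is finite
projective of constant rank k, i.e. Spec A → Spec R factors through the locally closed stratum where
M is locally free of rank k. Then A ⊗_R M has exactly one rank-k locally free quotient: the zero
submodule has finite projective quotient of constant rank k, and every submodule with such a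
quotient is zero. In other words the Quot scheme of rank-k locally free quotients of M restricted to
that stratum maps isomorphically onto it. -/
theorem result (R : Type u) [CommRing R]
    (M : Type v) [AddCommGroup M] [Module R M] (k : ℕ)
    (A : Type u) [CommRing A] [Algebra R A] [Module.Finite A (A ⊗[R] M)] [Module.Projective A (A ⊗[R] M)]
    (hk : ∀ p : PrimeSpectrum A, Module.rankAtStalk (R := A) (A ⊗[R] M) p = k) :
    (∃ N : Module.Grassmannian A (A ⊗[R] M) k, N.toSubmodule = ⊥) ∧
      ∀ N : Module.Grassmannian A (A ⊗[R] M) k, N.toSubmodule = ⊥ := by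
  classical
  refine ⟨⟨⟨⊥, ?_, ?_, ?_⟩, rfl⟩, fun N => ?_⟩
  · exact Module.Finite.equiv (Submodule.quotEquivOfEqBot ⊥ rfl).symm
  · exact Module.Projective.of_equiv' (Submodule.quotEquivOfEqBot ⊥ rfl).symm
  · intro p
    rw [Module.rankAtStalk_eq_of_equiv (Submodule.quotEquivOfEqBot (⊥ : Submodule A (A ⊗[R] M)) rfl), hk p]
  · haveI := N.projective_quotient
    haveI := N.finite_quotient
    obtain ⟨s, hs⟩ := Module.projective_lifting_property N.toSubmodule.mkQ LinearMap.id N.toSubmodule.mkQ_surjective
    obtain ⟨e, -⟩ := Function.Exact.splitSurjectiveEquiv (LinearMap.exact_subtype_mkQ N.toSubmodule) (Submodule.subtype_injective _) ⟨s, hs⟩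
    haveI : Module.Finite A (↥N.toSubmodule × ((A ⊗[R] M) ⧸ N.toSubmodule)) := Module.Finite.equiv e
    haveI : Module.Finite A ↥N.toSubmodule :=
      Module.Finite.of_surjective (LinearMap.fst A ↥N.toSubmodule ((A ⊗[R] M) ⧸ N.toSubmodule)) LinearMap.fst_surjective
    haveI : Module.Projective A (↥N.toSubmodule × ((A ⊗[R] M) ⧸ N.toSubmodule)) := Module.Projective.of_equiv' e
    haveI : Module.Projective A ↥N.toSubmodule :=
      Module.Projective.of_split (LinearMap.inl A _ ((A ⊗[R] M) ⧸ N.toSubmodule)) (LinearMap.fst A _ _) (LinearMap.ext fun _ => rfl)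
    have h0 : Module.rankAtStalk (R := A) ↥N.toSubmodule = 0 := by
      ext p
      have h1 := congrFun (Module.rankAtStalk_prod ↥N.toSubmodule ((A ⊗[R] M) ⧸ N.toSubmodule)) p
      rw [← Module.rankAtStalk_eq_of_equiv e, hk p, Pi.add_apply, N.rankAtStalk_eq p] at h1
      simp only [Pi.zero_apply]
      omega
    exact Submodule.subsingleton_iff_eq_bot.1 (Module.rankAtStalk_eq_zero_iff_subsingleton.1 h0)

end Groth.Agent.S14346
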