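import Groth.Statements.S14347
import Groth.Agent.FittLib.Rank
import Mathlib.LinearAlgebra.Dual.Lemmas

set_option autoImplicit false
universe u
open QuotLF

namespace Groth.Agent.S14347

open Matrix

variable {R : Type u} [CommRing R]

/-- The ideal of `t`-minors. -/
def minors {n m : ℕ} (A : Matrix (Fin n) (Fin m) R) (t : ℕ) : Ideal R :=
  Ideal.span {d | ∃ (r : Fin t → Fin n) (c : Fin t → Fin m), d = (A.submatrix r c).det}

theorem minors_transpose {n m : ℕ} (A : Matrix (Fin n) (Fin m) R) (t : ℕ) :
    minors Aᵀ t = minors A t := by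
  apply le_antisymm <;> refine Ideal.span_le.2 ?_ <;> rintro _ ⟨r, c, rfl⟩ <;>
    refine Ideal.subset_span ⟨c, r, ?_⟩ <;> rw [← Matrix.det_transpose] <;> rfl

theorem minors_eq_bot {n m : ℕ} (A : Matrix (Fin n) (Fin m) R) {t : ℕ} (h : m < t) : minors A t = ⊥ := by
  rw [eq_bot_iff]
  refine Ideal.span_le.2 ?_
  rintro _ ⟨r, c, rfl⟩
  obtain ⟨i, j, hij, e⟩ := Fintype.exists_ne_map_eq_of_card_lt c (by simpa using h)
  exact (Submodule.mem_bot R).2 (Matrix.det_zero_of_column_eq hij fun l => by simp [e])

theorem block_det {n t : ℕ} {S : Type*} [Fintype S] [DecidableEq S] (a : Matrix (Fin n) (Fin n) R)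
    (e1 e2 : Fin t ⊕ S ≃ Fin n) (hS : ∀ s, a (e1 (.inr s)) = Pi.single (e2 (.inr s)) 1) :
    ∃ u : Rˣ, a.det = u * (a.submatrix (e1 ∘ Sum.inl) (e2 ∘ Sum.inl)).det := by
  have h1 : (a.submatrix e1 e2).det = (a.submatrix (e1 ∘ Sum.inl) (e2 ∘ Sum.inl)).det := by
    have e : a.submatrix e1 e2 = Matrix.fromBlocks (a.submatrix (e1 ∘ Sum.inl) (e2 ∘ Sum.inl))
        (a.submatrix (e1 ∘ Sum.inl) (e2 ∘ Sum.inr)) 0 1 := by
      ext i j
      rcases i with i | i <;> rcases j with j | j <;>
        simp [hS, Pi.single_apply, Matrix.one_apply, eq_comm]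
    rw [e, Matrix.det_fromBlocks_zero₂₁, Matrix.det_one, mul_one]
  let π : Equiv.Perm (Fin n) := e2.symm.trans e1
  have h2 : (a.submatrix e1 e2).det = ((Equiv.Perm.sign π : ℤ) : R) * a.det := by
    rw [← Matrix.det_permute π a, ← Matrix.det_submatrix_equiv_self e2 (a.submatrix π id),
      Matrix.submatrix_submatrix]
    congr 1
    ext i j
    simp [π]
  refine ⟨Units.map (Int.castRingHom R).toMonoidHom (Equiv.Perm.sign π), ?_⟩
  rw [← h1, h2, ← mul_assoc]
  simp [← Int.cast_mul, Int.units_coe_mul_self]

theorem ideal_eq_minors {n m : ℕ} {M : Type*} [AddCommGroup M] [Module R M]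
    (A : Matrix (Fin n) (Fin m) R) (x : Fin n → M) (hx : Submodule.span R (Set.range x) = ⊤)
    (hrel : ∀ z : Fin n → R, ∑ j, z j • x j = 0 ↔ z ∈ Submodule.span R (Set.range A.col))
    (k : ℕ) : Fitt.ideal R M k = minors A (n - k) := by
  classical
  rw [Groth.Agent.FittLib.ideal_eq_G x hx]
  let S := {i : Fin n // ¬ (i : ℕ) < n - k}
  let e1 : Fin (n - k) ⊕ S ≃ Fin n :=
    (Equiv.sumCongr (⟨fun i => ⟨⟨i, by omega⟩, i.2⟩, fun i => ⟨i.1, i.2⟩, fun i => rfl, fun i => rfl⟩ :
      Fin (n - k) ≃ {i : Fin n // (i : ℕ) < n - k}) (Equiv.refl S)).trans (Equiv.sumCompl _)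
  have hcardS : Fintype.card S + (n - k) = n := by
    have := Fintype.card_congr e1
    simpa [add_comm] using this
  refine le_antisymm (Ideal.span_le.2 ?_) (Ideal.span_le.2 ?_)
  · rintro _ ⟨a, ha, rfl⟩
    refine Groth.Agent.FittLib.det_mem_of_rows (R' := R) _
      (fun i => if (i : ℕ) < n - k then Set.range A.col else Set.range fun j => Pi.single j 1)
      (fun b hb => ?_) Finset.univ a (fun i _ => ?_) fun i hi => absurd (Finset.mem_univ i) hi
    · have hc : ∀ i : Fin (n - k), ∃ l, A.col l = b (e1 (.inl i)) := fun i => by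
        have := hb (e1 (.inl i))
        rw [if_pos (show ((e1 (.inl i) : Fin n) : ℕ) < n - k from i.2)] at this
        exact this
      have hf : ∀ s : S, ∃ j, b (e1 (.inr s)) = Pi.single j 1 := fun s => by
        have := hb (e1 (.inr s))
        rw [if_neg (show ¬ ((e1 (.inr s) : Fin n) : ℕ) < n - k from s.2)] at this
        obtain ⟨j, hj⟩ := this
        exact ⟨j, hj.symm⟩
      choose c hc using hc
      choose f hf using hf
      by_cases hinj : Function.Injective f
      · obtain ⟨g⟩ : Nonempty (Fin (n - k) ≃ {j // j ∉ Set.range f}) := by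
          refine ⟨(Fintype.equivFinOfCardEq ?_).symm⟩
          rw [Fintype.card_subtype_compl, Fintype.card_fin, Set.card_range_of_injective hinj]
          omega
        let e2 : Fin (n - k) ⊕ S ≃ Fin n :=
          (Equiv.sumComm _ _).trans ((Equiv.sumCongr (Equiv.ofInjective f hinj) g).trans (Equiv.sumCompl _))
        obtain ⟨u, hu⟩ := block_det b e1 e2 (fun s => by rw [hf s]; rfl)
        rw [hu]
        refine Ideal.mul_mem_left _ _ (Ideal.subset_span ⟨e2 ∘ Sum.inl, c, ?_⟩)
        rw [← Matrix.det_transpose]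
        congr 1
        ext i j
        simp [← hc]
      · simp only [Function.Injective, not_forall] at hinj
        obtain ⟨s, s', e, hne⟩ := hinj
        rw [Matrix.det_zero_of_row_eq (i := e1 (.inr s)) (j := e1 (.inr s')) (by simpa using hne)
          (by rw [hf s, hf s', e])]
        exact Ideal.zero_mem _
    · by_cases hi : (i : ℕ) < n - k
      · simp only [if_pos hi]
        exact (hrel _).1 (ha i hi)
      · simp only [if_neg hi]
        rw [pi_eq_sum_univ' (a i)]
        exact Submodule.sum_mem _ fun j _ => Submodule.smul_mem _ _ (Submodule.subset_span ⟨j, rfl⟩)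
  · rintro _ ⟨r, c, rfl⟩
    by_cases hinj : Function.Injective r
    · obtain ⟨g⟩ : Nonempty (S ≃ {j // j ∉ Set.range r}) := by
        refine Fintype.card_eq.1 ?_
        have h2 : Fintype.card {j // j ∉ Set.range r} = n - (n - k) := by
          rw [Fintype.card_subtype_compl, Fintype.card_fin, Set.card_range_of_injective hinj, Fintype.card_fin]
        omega
      let e2 : Fin (n - k) ⊕ S ≃ Fin n :=
        (Equiv.sumCongr (Equiv.ofInjective r hinj) g).trans (Equiv.sumCompl _)
      let a : Matrix (Fin n) (Fin n) R := Matrix.of fun i =>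
        Sum.elim (fun l => A.col (c l)) (fun s => Pi.single (e2 (.inr s)) 1) (e1.symm i)
      obtain ⟨u, hu⟩ := block_det a e1 e2 (fun s => by funext q; simp [a])
      have hminor : (a.submatrix (e1 ∘ Sum.inl) (e2 ∘ Sum.inl)).det = (A.submatrix r c).det := by
        rw [← Matrix.det_transpose]
        congr 1
        ext i j
        simp [a, e2]
      have hmem : a.det ∈ Groth.Agent.FittLib.G (R := R) x k := Ideal.subset_span ⟨a, fun i hi => ?_, rfl⟩
      · have := Ideal.mul_mem_left _ (↑u⁻¹ : R) hmem
        rwa [hu, ← mul_assoc, Units.inv_mul, one_mul, hminor] at this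
      · obtain ⟨s, rfl⟩ := e1.surjective i
        rcases s with l | s
        · refine (hrel _).2 (Submodule.subset_span ⟨c l, ?_⟩)
          ext q; simp [a]
        · exact absurd hi s.2
    · simp only [Function.Injective, not_forall] at hinj
      obtain ⟨s, s', e, hne⟩ := hinj
      rw [SetLike.mem_coe, Matrix.det_zero_of_row_eq hne (by ext l; simp [e])]
      exact Ideal.zero_mem _

/-- Let R be a commutative ring and σ : R^m → R^n an injective linear map with cokernel M, so that M has
a length-one resolution by finite free modules and rank δ = n − m; let K be the cokernel of the dual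
map (R^n)^∨ → (R^m)^∨, which is the module Ext¹_R(M, R). Then the Fitting ideals satisfy Fit_{δ +
j}(M) = Fit_j(K) for all j ≥ 0, and Fit_i(M) = 0 for i < δ (the degeneracy loci of M and of K agree
after the shift by δ). -/
theorem result (R : Type u) [CommRing R] (m n : ℕ)
    (σ : (Fin m → R) →ₗ[R] (Fin n → R)) (hσ : Function.Injective σ) :
    (∀ j : ℕ, Fitt.ideal R ((Fin n → R) ⧸ LinearMap.range σ) (n - m + j) =
        Fitt.ideal R (Module.Dual R (Fin m → R) ⧸ LinearMap.range σ.dualMap) j) ∧
      ∀ i : ℕ, i < n - m → Fitt.ideal R ((Fin n → R) ⧸ LinearMap.range σ) i = ⊥ := by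
  classical
  cases subsingleton_or_nontrivial R with
  | inl h => exact ⟨fun j => Subsingleton.elim _ _, fun i _ => Subsingleton.elim _ _⟩
  | inr h =>
  have hmn : m ≤ n := by simpa using LinearMap.finrank_le_finrank_of_injective hσ
  let A : Matrix (Fin n) (Fin m) R := LinearMap.toMatrix' σ
  let x : Fin n → (Fin n → R) ⧸ LinearMap.range σ := fun i => (LinearMap.range σ).mkQ (Pi.single i 1)
  have hx : Submodule.span R (Set.range x) = ⊤ := by
    rw [show x = (LinearMap.range σ).mkQ ∘ fun i => Pi.single i 1 from rfl, Set.range_comp, ← Submodule.map_span]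
    have : Submodule.span R (Set.range fun i : Fin n => (Pi.single i 1 : Fin n → R)) = ⊤ := by
      simpa [Pi.basisFun] using (Pi.basisFun R (Fin n)).span_eq
    rw [this, Submodule.map_top, Submodule.range_mkQ]
  have hrange : LinearMap.range σ = Submodule.span R (Set.range A.col) := by
    rw [← Matrix.range_mulVecLin]
    congr 1
    exact (Matrix.toLin'_toMatrix' σ).symm
  have hM : ∀ k, Fitt.ideal R ((Fin n → R) ⧸ LinearMap.range σ) k = minors A (n - k) := fun k =>
    ideal_eq_minors A x hx (fun z => by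
      rw [← hrange, ← Submodule.Quotient.mk_eq_zero, ← Submodule.mkQ_apply]
      refine Iff.of_eq (congrArg (· = 0) ?_)
      conv_rhs => rw [pi_eq_sum_univ' z, map_sum]
      simp [x]) k
  let bm := (Pi.basisFun R (Fin m)).dualBasis
  let bn := (Pi.basisFun R (Fin n)).dualBasis
  let y : Fin m → Module.Dual R (Fin m → R) ⧸ LinearMap.range σ.dualMap :=
    fun i => (LinearMap.range σ.dualMap).mkQ (bm i)
  have hy : Submodule.span R (Set.range y) = ⊤ := by
    rw [show y = (LinearMap.range σ.dualMap).mkQ ∘ bm from rfl, Set.range_comp, ← Submodule.map_span,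
      bm.span_eq, Submodule.map_top, Submodule.range_mkQ]
  have hK : ∀ k, Fitt.ideal R (Module.Dual R (Fin m → R) ⧸ LinearMap.range σ.dualMap) k = minors Aᵀ (m - k) := fun k =>
    ideal_eq_minors Aᵀ y hy (fun z => by
      rw [show ∑ j, z j • y j = (LinearMap.range σ.dualMap).mkQ (bm.equivFun.symm z) by
        simp [y, Module.Basis.equivFun_symm_apply], Submodule.mkQ_apply, Submodule.Quotient.mk_eq_zero]
      have key : bm.equivFun.toLinearMap ∘ₗ σ.dualMap ∘ₗ bn.equivFun.symm.toLinearMap = Aᵀ.mulVecLin := by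
        refine (Pi.basisFun R (Fin n)).ext fun i => ?_
        ext j
        simp [bm, bn, A, LinearMap.toMatrix'_apply, Module.Basis.dualBasis_equivFun, Matrix.mulVec_single]
      rw [← Matrix.range_mulVecLin, ← key, LinearMap.range_comp, LinearMap.range_comp, LinearEquiv.range,
        Submodule.map_top]
      rw [Submodule.mem_map_equiv]) k
  refine ⟨fun j => ?_, fun i hi => ?_⟩
  · rw [hM, hK, minors_transpose, show n - (n - m + j) = m - j by omega]
  · rw [hM]; exact minors_eq_bot A (by omega)

end Groth.Agent.S14347
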