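import Groth.Statements.S1435
import Mathlib.AlgebraicGeometry.IdealSheaf.Subscheme
import Mathlib.AlgebraicGeometry.Morphisms.QuasiSeparated
import Mathlib.Data.Fin.Tuple.Sort
-- import your own Groth.Agent.* helpers here

set_option autoImplicit false
universe u
open FlatMor

namespace Groth.Agent.S1435

section
open AlgebraicGeometry CategoryTheory TopologicalSpace

/-- The stratification attached to an affine open cover whose successive differences are, with respect to a
second affine cover, contained in or disjoint from each member. -/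
theorem hasAffineStratification_of_pieces {X : Scheme.{u}} {n : ℕ} (V : Fin (n + 1) → X.Opens)
    (hV : ∀ i, IsAffineOpen (V i)) (hcov : ∀ x : X, ∃ i, x ∈ V i) {ι : Type*} (U : ι → X.Opens)
    (hU : ∀ j, IsAffineOpen (U j)) (hUcov : ∀ x : X, ∃ j, x ∈ U j)
    (h : ∀ k j, (∀ x ∈ V k, (∀ l < k, x ∉ V l) → x ∈ U j) ∨
      (∀ x ∈ V k, (∀ l < k, x ∉ V l) → x ∉ U j)) :
    MoreMor.HasAffineStratification X n := by
  classical
  let m : X → Fin (n + 1) := fun x => Fin.find _ (hcov x)
  have hm : ∀ x, x ∈ V (m x) := fun x => Fin.find_spec (hcov x)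
  have hmin : ∀ x l, l < m x → x ∉ V l := fun x l hl hx =>
    absurd ((Fin.find_le_of_pos (hcov x) hx).trans_lt hl) (lt_irrefl _)
  refine ⟨fun x => Fin.rev (m x), fun i => ?_, fun i => ?_⟩
  · have e : {x : X | Fin.rev (m x) ≤ i} = (⋃ k ∈ Set.Iio (Fin.rev i), (V k : Set X))ᶜ := by
      ext x
      simp only [Set.mem_ofPred_eq, Fin.rev_le_iff, Set.mem_compl_iff, Set.mem_iUnion, Set.mem_Iio,
        not_exists, SetLike.mem_coe]
      exact ⟨fun h k hk => hmin x k (hk.trans_le h), fun h => not_lt.mp fun hlt => h _ hlt (hm x)⟩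
    rw [e]
    exact (isOpen_biUnion fun k _ => (V k).2).isClosed_compl
  · let k := Fin.rev i
    let Zs : Closeds (V k : Scheme.{u}) :=
      ⟨(V k).ι ⁻¹' (⋃ l ∈ Set.Iio k, (V l : Set X))ᶜ,
        ((isOpen_biUnion fun l _ => (V l).2).isClosed_compl).preimage (V k).ι.continuous⟩
    let I := Scheme.IdealSheafData.vanishingIdeal Zs
    have : IsAffine (V k : Scheme.{u}) := hV k
    have : IsAffine I.subscheme := isAffine_of_isAffineHom I.subschemeι
    have hr : Set.range I.subschemeι = (Zs : Set (V k : Scheme.{u})) := by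
      rw [Scheme.IdealSheafData.range_subschemeι]; rfl
    have hpiece : ∀ z, ((I.subschemeι ≫ (V k).ι) z) ∈ V k ∧
        ∀ l < k, (I.subschemeι ≫ (V k).ι) z ∉ V l := fun z =>
      ⟨(I.subschemeι z).2, fun l hl hz => hr.le ⟨z, rfl⟩ (Set.mem_iUnion₂.mpr ⟨l, hl, hz⟩)⟩
    have haff : IsAffineHom (I.subschemeι ≫ (V k).ι) := by
      refine isAffineHom_of_forall_exists_isAffineOpen _ fun x => ?_
      obtain ⟨j, hj⟩ := hUcov x
      refine ⟨U j, hj, hU j, ?_⟩
      rcases h k j with h' | h'
      · rw [show (I.subschemeι ≫ (V k).ι) ⁻¹ᵁ U j = ⊤ from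
          eq_top_iff.mpr fun z _ => h' _ (hpiece z).1 (hpiece z).2]
        exact isAffineOpen_top _
      · rw [show (I.subschemeι ≫ (V k).ι) ⁻¹ᵁ U j = ⊥ from
          eq_bot_iff.mpr fun z hz => h' _ (hpiece z).1 (hpiece z).2 hz]
        exact isAffineOpen_bot _
    refine ⟨I.subscheme, I.subschemeι ≫ (V k).ι, inferInstance, inferInstance, haff, ?_⟩
    ext x
    constructor
    · rintro ⟨z, rfl⟩
      show Fin.rev (m _) = i
      rw [Fin.rev_eq_iff]
      exact le_antisymm (Fin.find_le_of_pos (hcov _) (hpiece z).1)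
        (not_lt.mp fun hlt => (hpiece z).2 _ hlt (hm _))
    · intro hx
      have hk : m x = k := Fin.rev_eq_iff.mp hx
      have hxk : x ∈ V k := hk ▸ hm x
      have : (⟨x, hxk⟩ : (V k : Scheme.{u})) ∈ Set.range I.subschemeι := by
        rw [hr]
        intro h
        obtain ⟨l, hl, hxl⟩ := Set.mem_iUnion₂.mp h
        exact hmin x l (hl.trans_eq hk.symm) hxl
      obtain ⟨z, hz⟩ := this
      exact ⟨z, congrArg Subtype.val hz⟩

theorem exists_stratification (X : Scheme.{u}) [CompactSpace X] [QuasiSeparatedSpace X] :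
    ∃ n : ℕ, MoreMor.HasAffineStratification X n := by
  classical
  obtain ⟨s, hs⟩ := isCompact_univ.elim_finite_subcover
    (fun U : X.affineOpens => ((U : X.Opens) : Set X)) (fun U => U.1.2) fun x _ => by
      obtain ⟨_, ⟨U, hU, rfl⟩, hxU, -⟩ :=
        X.isBasis_affineOpens.exists_subset_of_mem_open (Set.mem_univ x) isOpen_univ
      exact Set.mem_iUnion.mpr ⟨⟨U, hU⟩, hxU⟩
  let W : Finset ↥s → X.Opens := fun J => ⟨⋂ j ∈ J, ((j.1 : X.Opens) : Set X),
    J.finite_toSet.isOpen_biInter fun j _ => j.1.1.2⟩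
  have hWc : ∀ J : Finset ↥s, IsCompact (W J : Set X) := fun J => by
    show IsCompact (⋂ j ∈ J, ((j.1 : X.Opens) : Set X))
    induction J using Finset.induction with
    | empty => simpa using isCompact_univ
    | insert a t _ ih =>
      rw [Finset.set_biInter_insert]
      exact QuasiSeparatedSpace.inter_isCompact _ _ a.1.1.2 a.1.2.isCompact
        (t.finite_toSet.isOpen_biInter fun j _ => j.1.1.2) ih
  choose T hT using fun J : Finset ↥s => (hWc J).elim_finite_subcover
    (fun V : { V : X.affineOpens // (V : X.Opens) ≤ W J } => ((V.1 : X.Opens) : Set X))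
    (fun V => V.1.1.2) fun x hx => by
      obtain ⟨_, ⟨V, hV, rfl⟩, hxV, hVle⟩ :=
        X.isBasis_affineOpens.exists_subset_of_mem_open hx (W J).2
      exact Set.mem_iUnion.mpr ⟨⟨⟨V, hV⟩, hVle⟩, hxV⟩
  let σ := Option (Σ J : Finset ↥s, ↥(T J))
  let n := Fintype.card (Σ J : Finset ↥s, ↥(T J))
  let e₀ : Fin (n + 1) ≃ σ := (Fintype.equivFinOfCardEq (by simp [σ, n])).symm
  let key : σ → ℕ := fun p => p.elim 0 fun p => s.attach.card - p.1.card
  let e : Fin (n + 1) ≃ σ := (Tuple.sort (key ∘ e₀)).trans e₀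
  have hmono : Monotone (key ∘ e) := Tuple.monotone_sort (key ∘ e₀)
  let V : Fin (n + 1) → X.Opens := fun i => (e i).elim ⊥ fun p => (p.2.1.1 : X.Opens)
  have hVcov : ∀ J, ∀ x ∈ W J, ∃ i, x ∈ V i ∧ key (e i) = s.attach.card - J.card := by
    intro J x hx
    obtain ⟨v, hv, hxv⟩ := Set.mem_iUnion₂.mp (hT J hx)
    refine ⟨e.symm (some ⟨J, v, hv⟩), ?_, ?_⟩ 
    · simp only [V, Equiv.apply_symm_apply, Option.elim_some]; exact hxv
    · simp [key]
  have hUcov : ∀ x : X, ∃ j : ↥s, x ∈ (j.1 : X.Opens) := fun x => by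
    obtain ⟨U, hU, hx⟩ := Set.mem_iUnion₂.mp (hs (Set.mem_univ x))
    exact ⟨⟨U, hU⟩, hx⟩
  refine ⟨n, hasAffineStratification_of_pieces V (fun i => ?_) (fun x => ?_)
    (fun j : ↥s => (j.1 : X.Opens)) (fun j => j.1.2) hUcov fun k j => ?_⟩
  · simp only [V]
    rcases e i with _ | p
    · exact isAffineOpen_bot X
    · exact p.2.1.1.2
  · obtain ⟨j, hj⟩ := hUcov x
    obtain ⟨i, hi, -⟩ := hVcov {j} x (by simpa [W] using hj)
    exact ⟨i, hi⟩
  · rcases hk : e k with _ | ⟨J, v⟩
    · left
      intro x hx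
      simp [V, hk] at hx
    by_cases hj : j ∈ J
    · left
      intro x hx _
      have hxW : x ∈ W J := v.1.2 (by simpa [V, hk] using hx)
      exact Set.mem_iInter₂.mp hxW j hj
    · right
      intro x hx hmin hxj
      have hxW : x ∈ W J := v.1.2 (by simpa [V, hk] using hx)
      obtain ⟨i, hxi, hi⟩ := hVcov (insert j J) x (show x ∈ ⋂ l ∈ insert j J, _ by
        rw [Finset.set_biInter_insert]; exact ⟨hxj, hxW⟩)
      refine hmin i (lt_of_not_ge fun hle => ?_) hxi
      have h1 := hmono hle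
      simp only [Function.comp_apply, hi, key, hk, Option.elim_some,
        Finset.card_insert_of_notMem hj] at h1
      have h2 := Finset.card_le_card (Finset.subset_univ (insert j J))
      rw [Finset.card_insert_of_notMem hj, Finset.univ_eq_attach] at h2
      omega

theorem qcqs_of_stratification (X : Scheme.{u}) (n : ℕ) (h : MoreMor.HasAffineStratification X n) :
    CompactSpace X ∧ QuasiSeparatedSpace X := by
  obtain ⟨s, -, h⟩ := h
  choose Z ι hι hZ hιa hr using h
  have hun : ∀ A : Set X, A = ⋃ i, ι i '' (ι i ⁻¹' A) := fun A => by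
    refine subset_antisymm (fun x hx => ?_) (Set.iUnion_subset fun i => Set.image_preimage_subset _ _)
    obtain ⟨z, hz⟩ := (hr (s x)).ge (rfl : s x = s x)
    exact Set.mem_iUnion.mpr ⟨s x, z, by rwa [Set.mem_preimage, hz], hz⟩
  refine ⟨⟨?_⟩, ⟨fun U V hU hUc hV hVc => ?_⟩⟩
  · rw [hun Set.univ]
    exact isCompact_iUnion fun i => isCompact_univ.image (ι i).continuous
  · rw [hun (U ∩ V)]
    refine isCompact_iUnion fun i => IsCompact.image ?_ (ι i).continuous
    rw [Set.preimage_inter]
    exact QuasiSeparatedSpace.inter_isCompact _ _ (hU.preimage (ι i).continuous)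
      (QuasiCompact.isCompact_preimage _ hU hUc) (hV.preimage (ι i).continuous)
      (QuasiCompact.isCompact_preimage _ hV hVc)

end

open AlgebraicGeometry CategoryTheory Limits in
/-- A scheme has a finite affine stratification if and only if it is quasi-compact and quasi-separated. -/
theorem result (X : Scheme.{u}) :
    (∃ n : ℕ, MoreMor.HasAffineStratification X n) ↔ CompactSpace ↑X ∧ QuasiSeparatedSpace ↑X := by
  exact ⟨fun ⟨n, h⟩ => qcqs_of_stratification X n h, fun ⟨_, _⟩ => exists_stratification X⟩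

end Groth.Agent.S1435
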