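import Groth.Statements.S14351
import Mathlib
-- import your own Groth.Agent.* helpers here

set_option autoImplicit false
universe u
open CAlg

namespace Groth.Agent.S14351

/-- For ring maps A → B → C with C faithfully flat over B and C faithfully flat over A, the ring B is
faithfully flat over A. -/
theorem result (A B C : Type u) [CommRing A] [CommRing B]
    [CommRing C] [Algebra A B] [Algebra B C] [Algebra A C] [IsScalarTower A B C]
    [Module.FaithfullyFlat B C] [Module.FaithfullyFlat A C] : Module.FaithfullyFlat A B := by
  have : Module.Flat A B := by
    rw [Module.Flat.iff_lTensor_preserves_injective_linearMap]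
    intro N P _ _ _ _ f hf
    suffices h : Function.Injective (f.baseChange B) from h
    rw [← Module.FaithfullyFlat.lTensor_injective_iff_injective B C]
    let eN := TensorProduct.AlgebraTensorModule.cancelBaseChange A B C C N
    let eP := TensorProduct.AlgebraTensorModule.cancelBaseChange A B C C P
    have h2 : ∀ z, eP (LinearMap.lTensor C (f.baseChange B) z) = LinearMap.lTensor C f (eN z) := by
      intro z
      induction z using TensorProduct.induction_on with
      | zero => simp
      | add a b ha hb => simp only [map_add, ha, hb]
      | tmul c w =>
        induction w using TensorProduct.induction_on with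
        | zero => simp
        | add a b ha hb => simp only [TensorProduct.tmul_add, map_add, ha, hb]
        | tmul b n => simp [eN, eP]
    intro x y hxy
    apply eN.injective
    apply Module.Flat.lTensor_preserves_injective_linearMap (M := C) f hf
    rw [← h2, ← h2, hxy]
  refine Module.FaithfullyFlat.of_comap_surjective fun p => ?_
  obtain ⟨q, rfl⟩ := PrimeSpectrum.comap_surjective_of_faithfullyFlat (B := C) p
  refine ⟨PrimeSpectrum.comap (algebraMap B C) q, ?_⟩
  rw [IsScalarTower.algebraMap_eq A B C, PrimeSpectrum.comap_comp]
  rfl

end Groth.Agent.S14351
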