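import Groth.Statements.S14352
import Groth.Agent.UnramFib.Field
import Groth.Agent.EtStruct.BaseChangeDescentScheme
import Mathlib.AlgebraicGeometry.Morphisms.Flat
import Mathlib.AlgebraicGeometry.PullbackCarrier
-- import your own Groth.Agent.* helpers here

set_option autoImplicit false
universe u
open Mor

namespace Groth.Agent.S14352
set_option backward.isDefEq.respectTransparency.types false

open CategoryTheory CategoryTheory.Limits AlgebraicGeometry in
/-- A morphism of schemes f : X → S which is locally of finite presentation is unramified (formally
unramified) if and only if all its geometric fibres are reduced with discrete underlying space: for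
every algebraically closed field K and every S-point Spec K → S, the fibre product X ×_S Spec K is a
reduced scheme whose topological space is discrete. -/
theorem result {X S : Scheme.{u}} (f : X ⟶ S)
    [LocallyOfFinitePresentation f] :
    FormallyUnramified f ↔
      ∀ (K : Type u) [Field K] [IsAlgClosed K] (s : Spec (CommRingCat.of K) ⟶ S),
        IsReduced (pullback f s) ∧ DiscreteTopology ↥(pullback f s) := by
  constructor
  · intro _ K _ _ s
    have : FormallyUnramified (pullback.snd f s) := MorphismProperty.pullback_snd _ _ ‹_›
    exact ⟨Groth.Agent.UnramFib.isReduced_of_unramified (pullback.snd f s),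
      Groth.Agent.UnramFib.discreteTopology_of_unramified (pullback.snd f s)⟩
  · intro h
    refine Groth.Agent.UnramFib.formallyUnramified_of_fibers f fun y => ?_
    let K := AlgebraicClosure (S.residueField y)
    let j : Spec (CommRingCat.of K) ⟶ Spec (S.residueField y) :=
      Spec.map (CommRingCat.ofHom (algebraMap (S.residueField y) K))
    have hflat : Flat j := (HasRingHomProperty.Spec_iff (P := @Flat)).mpr
      (RingHom.flat_algebraMap_iff.mpr inferInstance)
    have : Surjective j := ⟨fun z => ⟨IsLocalRing.closedPoint K, Subsingleton.elim _ _⟩⟩
    obtain ⟨_, _⟩ := h K (j ≫ S.fromSpecResidueField y)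
    let q : pullback f (j ≫ S.fromSpecResidueField y) ⟶ Spec (CommRingCat.of K) := pullback.snd _ _
    have : FormallyUnramified q := Groth.Agent.UnramFib.formallyUnramified_of_discrete q
    let p : pullback f (j ≫ S.fromSpecResidueField y) ⟶ f.fiber y :=
      pullback.lift (pullback.fst _ _) (pullback.snd _ _ ≫ j)
        (by rw [Category.assoc]; exact pullback.condition)
    have : LocallyOfFiniteType (f.fiberToSpecResidueField y) := MorphismProperty.pullback_snd _ _ inferInstance
    have sq : IsPullback p q (f.fiberToSpecResidueField y) j := by
      refine IsPullback.of_right ?_ (pullback.lift_snd _ _ _) (IsPullback.of_hasPullback f _)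
      have hp1 : p ≫ pullback.fst f (S.fromSpecResidueField y) = pullback.fst _ _ := pullback.lift_fst _ _ _
      erw [hp1]
      exact IsPullback.of_hasPullback f (j ≫ S.fromSpecResidueField y)
    refine IsZariskiLocalAtSource.of_iSup_eq_top (P := @FormallyUnramified)
      (fun w : {W : (f.fiber y).Opens // FormallyUnramified (W.ι ≫ f.fiberToSpecResidueField y)} => w.1)
      (top_le_iff.mp fun z _ => ?_) fun w => w.2
    have hp : Surjective p := MorphismProperty.of_isPullback sq.flip (P := @Surjective) inferInstance
    obtain ⟨x', rfl⟩ := hp.surj z
    obtain ⟨W, hxW, hW⟩ := (Groth.Agent.EtStruct.formallyUnramified_nhd_iff _ _).mpr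
      ((Groth.Agent.EtStruct.stalkMap_descent_of_flat sq x').2
        (AlgebraicGeometry.FormallyUnramified.stalkMap q x'))
    exact TopologicalSpace.Opens.mem_iSup.mpr ⟨⟨W, hW⟩, hxW⟩

end Groth.Agent.S14352
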