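import Groth.Statements.S14353
import Groth.Agent.CAlg76.LimFiber
import Mathlib
-- import your own Groth.Agent.* helpers here

set_option autoImplicit false
universe u
open CategoryTheory CategoryTheory.Limits CategoryTheory.MonoidalCategory
open CAlg

namespace Groth.Agent.S14353


open Opposite
open scoped TensorProduct

/-- For a commutative ring R, an inverse system (M_n)_{n ∈ ℕ} of R-modules of finite length and a
finitely presented R-module N, the canonical comparison map (lim_n M_n) ⊗_R N ⟶ lim_n (M_n ⊗_R N) is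
an isomorphism. (The published statement takes N = R/I for a finitely generated ideal I; the
argument covers every finitely presented N, which is the form stated here.) -/
theorem result (R : Type u) [CommRing R]
    (M : ℕᵒᵖ ⥤ ModuleCat.{u} R) (hM : ∀ n : ℕᵒᵖ, IsFiniteLength R (M.obj n))
    (N : Type u) [AddCommGroup N] [Module R N] [Module.FinitePresentation R N] :
    IsIso (limit.post M (tensorRight (ModuleCat.of R N))) := by
  classical
  obtain ⟨b, K, eN, hK⟩ := Module.FinitePresentation.exists_fin R N
  let q : (Fin b → R) →ₗ[R] N := eN.symm.toLinearMap ∘ₗ K.mkQ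
  have hq : Function.Surjective q := eN.symm.surjective.comp (Submodule.mkQ_surjective K)
  haveI : Module.Finite R K := Module.Finite.iff_fg.mpr hK
  obtain ⟨a, r', hr'⟩ := Module.Finite.exists_fin' R K
  let r : (Fin a → R) →ₗ[R] (Fin b → R) := K.subtype ∘ₗ r'
  have hex : Function.Exact r q := by
    rw [LinearMap.exact_iff]
    simp only [q, r, LinearMap.ker_comp, LinearEquiv.ker, LinearMap.range_comp,
      LinearMap.range_eq_top.mpr hr', Submodule.map_top, Submodule.range_subtype]
    ext x
    simp [Submodule.Quotient.mk_eq_zero]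
  haveI hArt : ∀ n : ℕᵒᵖ, IsArtinian R (M.obj n) := fun n =>
    (isFiniteLength_iff_isNoetherian_isArtinian.mp (hM n)).2
  let φ : ∀ n : ℕ, M.obj (op (n + 1)) →ₗ[R] M.obj (op n) := fun n => (M.map (homOfLE (Nat.le_succ n)).op).hom
  have hπ : ∀ (n : ℕ) (l : (limit M : ModuleCat.{u} R)), φ n (limit.π M (op (n + 1)) l) = limit.π M (op n) l :=
    fun n l => Groth.Agent.CAlg76.LimFiber.limit_π_map M l n
  have hkey : ∀ (n : ℕ) (t : (limit M : ModuleCat.{u} R) ⊗[R] N),
      limit.π (M ⋙ tensorRight (ModuleCat.of R N)) (op n) (limit.post M (tensorRight (ModuleCat.of R N)) t) =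
        (limit.π M (op n)).hom.rTensor N t := by
    intro n t
    exact ConcreteCategory.congr_hom (limit.post_π M (tensorRight (ModuleCat.of R N)) (op n)) t
  rw [ConcreteCategory.isIso_iff_bijective]
  constructor
  · -- injectivity
    refine (injective_iff_map_eq_zero _).mpr (fun t ht => ?_)
    obtain ⟨l, rfl⟩ := Groth.Agent.CAlg76.LimFiber.surjective_sum_tmul (P := (limit M : ModuleCat.{u} R)) q hq t
    have hrel : ∀ n : ℕ, ∃ u : Fin a → M.obj (op n), ∀ j, ∑ i, r (Pi.single i 1) j • u i = limit.π M (op n) (l j) := by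
      intro n
      refine Groth.Agent.CAlg76.LimFiber.exists_relation q r hq hex (fun j => limit.π M (op n) (l j)) ?_
      have h1 := hkey n (∑ j, l j ⊗ₜ[R] q (Pi.single j 1))
      rw [ht, map_zero, map_sum] at h1
      simpa using h1.symm
    let g : ∀ n : ℕ, (Fin a → M.obj (op n)) →ₗ[R] (Fin b → M.obj (op n)) := fun n =>
      LinearMap.pi (fun j => ∑ i, r (Pi.single i 1) j • LinearMap.proj i)
    have hg : ∀ n (u : Fin a → M.obj (op n)) j, g n u j = ∑ i, r (Pi.single i 1) j • u i := by
      intro n u j
      simp [g]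
    obtain ⟨u, hu, hu'⟩ := Groth.Agent.CAlg76.LimFiber.exists_compatible
      (X := fun n => Fin a → M.obj (op n)) (Z := fun n => Fin b → M.obj (op n))
      (fun n => (φ n).compLeft (Fin a)) (fun n => (φ n).compLeft (Fin b)) g
      (fun n x => by
        funext j
        simp only [hg, LinearMap.compLeft_apply, Function.comp_apply]
        rw [map_sum]
        exact Finset.sum_congr rfl fun i _ => (map_smul (φ n) _ _).symm)
      (fun n j => limit.π M (op n) (l j)) (fun n => funext fun j => hπ n (l j))
      (fun n => by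
        obtain ⟨u, hu⟩ := hrel n
        exact ⟨u, funext fun j => (hg n u j).trans (hu j)⟩)
    choose U hU using fun i => Groth.Agent.CAlg76.LimFiber.exists_limit_elem M (fun n => u n i)
      (fun n => congrFun (hu n) i)
    have hl : ∀ j, l j = ∑ i, r (Pi.single i 1) j • U i := by
      intro j
      refine Groth.Agent.CAlg76.LimFiber.limit_elem_ext M (fun n => ?_)
      rw [map_sum]
      simp only [map_smul, hU]
      rw [← hg, hu' n]
    simp only [hl, TensorProduct.sum_tmul, TensorProduct.smul_tmul]
    rw [Finset.sum_comm]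
    refine Finset.sum_eq_zero (fun i _ => ?_)
    rw [← TensorProduct.tmul_sum]
    simp only [← map_smul, ← map_sum]
    rw [← pi_eq_sum_univ' (r (Pi.single i 1)), hex.apply_apply_eq_zero, TensorProduct.tmul_zero]
  · -- surjectivity
    intro y
    let g : ∀ n : ℕ, (Fin b → M.obj (op n)) →ₗ[R] (M.obj (op n) : Type u) ⊗[R] N := fun n =>
      ∑ j, ((TensorProduct.mk R (M.obj (op n)) N).flip (q (Pi.single j 1))) ∘ₗ LinearMap.proj j
    have hg : ∀ n (v : Fin b → M.obj (op n)), g n v = ∑ j, v j ⊗ₜ[R] q (Pi.single j 1) := by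
      intro n v
      simp [g]
    obtain ⟨x, hx, hx'⟩ := Groth.Agent.CAlg76.LimFiber.exists_compatible
      (X := fun n => Fin b → M.obj (op n)) (Z := fun n => (M.obj (op n) : Type u) ⊗[R] N)
      (fun n => (φ n).compLeft (Fin b)) (fun n => (φ n).rTensor N) g
      (fun n v => by simp [hg, map_sum])
      (fun n => limit.π (M ⋙ tensorRight (ModuleCat.of R N)) (op n) y)
      (fun n => Groth.Agent.CAlg76.LimFiber.limit_π_map (M ⋙ tensorRight (ModuleCat.of R N)) y n)
      (fun n => by
        obtain ⟨v, hv⟩ := Groth.Agent.CAlg76.LimFiber.surjective_sum_tmul q hq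
          (P := (M.obj (op n) : Type u)) (limit.π (M ⋙ tensorRight (ModuleCat.of R N)) (op n) y)
        exact ⟨v, (hg n v).trans hv⟩)
    choose L hL using fun j => Groth.Agent.CAlg76.LimFiber.exists_limit_elem M (fun n => x n j)
      (fun n => congrFun (hx n) j)
    refine ⟨∑ j, L j ⊗ₜ[R] q (Pi.single j 1), ?_⟩
    refine Groth.Agent.CAlg76.LimFiber.limit_elem_ext _ (fun n => ?_)
    rw [← hx' n, hg]
    refine (hkey n _).trans ?_
    rw [map_sum]
    exact Finset.sum_congr rfl fun j _ => (LinearMap.rTensor_tmul _ _ _ _).trans (congrArg (· ⊗ₜ[R] _) (hL j n))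

end Groth.Agent.S14353
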