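import Groth.Statements.S14354
import Groth.Agent.CohDev.Coh
import Mathlib.CategoryTheory.Limits.Types.Limits
import Mathlib.CategoryTheory.Abelian.Images

set_option autoImplicit false
universe u
open CategoryTheory CategoryTheory.Limits AlgebraicGeometry Opposite
open Coh

namespace Groth.Agent.S14354

section
open AlgebraicGeometry CategoryTheory CategoryTheory.Limits Opposite
open Groth.Agent Groth.Agent.PullStalk.Sky

theorem isCoh_imageSubobject {X : Scheme.{u}} [IsLocallyNoetherian X] {A B : X.Modules} (f : A ⟶ B)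
    (hA : Coh.IsCoh A) (hB : Coh.IsCoh B) : Coh.IsCoh (imageSubobject f : X.Modules) :=
  CohDev.isCoh_of_iso (Abelian.imageIsoImage f ≪≫ (imageSubobjectIso f).symm)
    (CohDev.isCoh_image f hA hB.1)

theorem range_app_eq {X : Scheme.{u}} [IsLocallyNoetherian X] {A B : X.Modules} (f : A ⟶ B)
    (hA : Coh.IsCoh A) (hB : Coh.IsCoh B) {U : X.Opens} (hU : IsAffineOpen U) :
    Set.range (f.app U) = Set.range ((imageSubobject f).arrow.app U) := by
  haveI := hA.1
  haveI := (isCoh_imageSubobject f hA hB).1
  have hs : Function.Surjective ((factorThruImageSubobject f).app U) :=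
    QCoh.app_surjective_of_epi (factorThruImageSubobject f) hU
  have h : f.app U = (factorThruImageSubobject f).app U ≫ (imageSubobject f).arrow.app U := by
    rw [← Scheme.Modules.Hom.comp_app, imageSubobject_arrow_comp]
  rw [h]
  exact hs.range_comp ((imageSubobject f).arrow.app U)

theorem exists_limit_lift {X : Scheme.{u}} [IsLocallyNoetherian X]
    (G : ℕᵒᵖ ⥤ X.Modules) (hG : ∀ n : ℕᵒᵖ, Coh.IsCoh (G.obj n))
    (d : ℕ → ℕ) (hd : ∀ e, e ≤ d e)
    (hML : ∀ (e d' : ℕ) (hd' : d e ≤ d'),
      imageSubobject (G.map (homOfLE ((hd e).trans hd')).op) = imageSubobject (G.map (homOfLE (hd e)).op))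
    {U : X.Opens} (hU : IsAffineOpen U) (e : ℕ) (y : Γ(G.obj (op e), U))
    (hy : y ∈ Set.range ((imageSubobject (G.map (homOfLE (hd e)).op)).arrow.app U)) :
    ∃ σ : Γ(limit G, U), (limit.π G (op e)).app U σ = y := by
  let m : ∀ {a b : ℕ}, a ≤ b → Γ(G.obj (op b), U) → Γ(G.obj (op a), U) :=
    fun h w => (G.map (homOfLE h).op).app U w
  have hm : ∀ {a b c : ℕ} (h : a ≤ b) (h' : b ≤ c) (w : Γ(G.obj (op c), U)), m (h.trans h') w = m h (m h' w) := by
    intro a b c h h' w
    show (G.map (homOfLE (h.trans h')).op).app U w = _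
    rw [show (homOfLE (h.trans h')).op = (homOfLE h').op ≫ (homOfLE h).op from rfl, G.map_comp,
      Scheme.Modules.Hom.comp_app]
    rfl
  have hid : ∀ (a : ℕ) (w : Γ(G.obj (op a), U)), m (le_refl a) w = w := by
    intro a w
    show (G.map (homOfLE (le_refl a)).op).app U w = w
    rw [show (homOfLE (le_refl a)).op = 𝟙 (op a) from rfl, G.map_id, Scheme.Modules.Hom.id_app]
    rfl
  have hS : ∀ (n d' : ℕ) (h : d n ≤ d'), Set.range (m ((hd n).trans h)) = Set.range (m (hd n)) := by
    intro n d' h
    show Set.range ((G.map (homOfLE ((hd n).trans h)).op).app U) = Set.range ((G.map (homOfLE (hd n)).op).app U)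
    rw [range_app_eq _ (hG _) (hG _) hU, range_app_eq _ (hG _) (hG _) hU, hML n d' h]
  have hstep : ∀ (n : ℕ) (z : Γ(G.obj (op n), U)), z ∈ Set.range (m (hd n)) →
      ∃ z' : Γ(G.obj (op (n + 1)), U), z' ∈ Set.range (m (hd (n + 1))) ∧ m (Nat.le_succ n) z' = z := by
    intro n z hz
    rw [← hS n (max (d n) (d (n + 1))) (le_max_left _ _)] at hz
    obtain ⟨w, rfl⟩ := hz
    refine ⟨m ((hd (n + 1)).trans (le_max_right (d n) _)) w, ?_, (hm _ _ w).symm⟩
    rw [← hS (n + 1) (max (d n) (d (n + 1))) (le_max_right _ _)]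
    exact Set.mem_range_self w
  choose next hnext hnext' using hstep
  have hy' : y ∈ Set.range (m (hd e)) := by
    show y ∈ Set.range ((G.map (homOfLE (hd e)).op).app U)
    rw [range_app_eq _ (hG _) (hG _) hU]
    exact hy
  let t : ∀ k : ℕ, {z : Γ(G.obj (op (e + k)), U) // z ∈ Set.range (m (hd (e + k)))} :=
    fun k => Nat.rec ⟨y, hy'⟩ (fun k z => ⟨next (e + k) z.1 z.2, hnext _ _ _⟩) k
  have ht : ∀ k k' (h : k ≤ k'), m (Nat.add_le_add_left h e) (t k').1 = (t k).1 := by
    intro k k' h
    induction h with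
    | refl => exact hid _ _
    | @step k' h ih =>
      rw [hm (Nat.add_le_add_left h e) (Nat.le_succ (e + k')) (t (k' + 1)).1]
      exact (congrArg (m (Nat.add_le_add_left h e)) (hnext' (e + k') (t k').1 (t k').2)).trans ih
  let v : ∀ n : ℕ, Γ(G.obj (op n), U) := fun n => m (Nat.le_add_left n e) (t n).1
  have hv : ∀ (a b : ℕ) (h : a ≤ b), m h (v b) = v a := by
    intro a b h
    show m h (m (Nat.le_add_left b e) (t b).1) = m (Nat.le_add_left a e) (t a).1
    rw [← hm, ← ht a b h, ← hm]
  let Φ := QCoh.sectionsFunctor X U ⋙ forget Ab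
  haveI : PreservesLimitsOfSize.{0, 0} (QCoh.sectionsFunctor X U) :=
    preservesSmallestLimits_of_preservesLimits _
  haveI : PreservesLimitsOfSize.{0, 0} (forget Ab.{u}) := preservesSmallestLimits_of_preservesLimits _
  let hlim := isLimitOfPreserves Φ (limit.isLimit G)
  let s : (G ⋙ Φ).sections := ⟨fun n => v n.unop, fun {a b} φ => by
    have h : b.unop ≤ a.unop := leOfHom φ.unop
    have hφ : φ = (homOfLE h).op := Subsingleton.elim _ _
    rw [hφ]
    exact hv _ _ h⟩
  refine ⟨(Types.isLimitEquivSections hlim).symm s, ?_⟩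
  have h1 := Types.isLimitEquivSections_symm_apply hlim s (op e)
  refine h1.trans ?_
  show m (Nat.le_add_left e e) (t e).1 = y
  exact ht 0 e (Nat.zero_le e)

theorem image_lift_mono {C : Type*} [Category C] [HasImages C] {A B : C} (f : A ⟶ B) (F' : MonoFactorisation f) :
    Mono (image.lift F') := by
  have := image.lift_fac F'
  exact mono_of_mono_fac this

end

/-- Let X be a locally Noetherian scheme and (G_e)_{e ∈ ℕ} an inverse system of coherent O_X-modules
satisfying the Mittag-Leffler condition, in the sense that for every e the image subobject of G_d ⟶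
G_e is the same for all sufficiently large d. Then for every e the support of the image of the
canonical map lim_d G_d ⟶ G_e is closed in X. (The published statement is the case where G_e is the
i-th cohomology sheaf of the Fourier–Mukai transform of the e-th member of a Mittag-Leffler inverse
system of coherent modules on an abelian variety; the argument uses only the coherence of the G_e
and their Mittag-Leffler condition, which is the form stated here.) -/
theorem result (X : Scheme.{u}) [IsLocallyNoetherian X]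
    (G : ℕᵒᵖ ⥤ X.Modules) (hG : ∀ n : ℕᵒᵖ, Coh.IsCoh (G.obj n))
    (hML : ∀ e : ℕ, ∃ (d : ℕ) (hd : e ≤ d), ∀ (d' : ℕ) (hd' : d ≤ d'),
      imageSubobject (G.map (homOfLE (hd.trans hd')).op) = imageSubobject (G.map (homOfLE hd).op))
    (e : ℕ) : IsClosed (CohB1.support (image (limit.π G (op e)))) := by
  choose d hd hML' using hML
  let I : X.Modules := imageSubobject (G.map (homOfLE (hd e)).op)
  let i : I ⟶ G.obj (op e) := (imageSubobject (G.map (homOfLE (hd e)).op)).arrow
  have hI : Coh.IsCoh I := isCoh_imageSubobject _ (hG _) (hG _)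
  suffices CohB1.support (image (limit.π G (op e))) = CohB1.support I by
    rw [this]
    exact Groth.Agent.CohDev.isClosed_support hI
  let F' : MonoFactorisation (limit.π G (op e)) :=
    { I := I, m := i, e := limit.π G (op (d e)) ≫ factorThruImageSubobject _
      fac := by
        show (limit.π G (op (d e)) ≫ factorThruImageSubobject _) ≫ i = limit.π G (op e)
        rw [Category.assoc, imageSubobject_arrow_comp, limit.w] }
  haveI := image_lift_mono _ F'
  refine Set.Subset.antisymm (Groth.Agent.CohDev.support_subset_of_mono (image.lift F')) ?_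
  intro x hx hsub
  refine hx (subsingleton_of_forall_eq 0 fun a => ?_)
  obtain ⟨W, hxW, s, rfl⟩ := Groth.Agent.PullStalk.Sky.exists_germM_eq I x a
  obtain ⟨U, hU, hxU, hUW⟩ := AlgebraicGeometry.exists_isAffineOpen_mem_and_subset (x := x) (U := W) hxW
  let s' := Groth.Agent.QCoh.res I hUW s
  obtain ⟨σ, hσ⟩ := exists_limit_lift G hG d hd hML' hU e (i.app U s') ⟨s', rfl⟩
  let τ := (factorThruImage (limit.π G (op e))).app U σ
  have h0 : (image (limit.π G (op e))).presheaf.germ U x hxU τ =
      (image (limit.π G (op e))).presheaf.germ U x hxU 0 := @Subsingleton.elim _ hsub _ _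
  obtain ⟨V, hxV, i₁, _, eq⟩ := (image (limit.π G (op e))).presheaf.germ_eq x hxU hxU _ _ h0
  have hτ : Groth.Agent.QCoh.res (image (limit.π G (op e))) i₁.le τ = 0 := eq.trans (map_zero _)
  have hz : Groth.Agent.QCoh.res I i₁.le s' = 0 := Groth.Agent.QCoh.app_injective_of_mono i V (by
    rw [Groth.Agent.QCoh.app_res, map_zero]
    have h2 : (image.ι (limit.π G (op e))).app U τ = i.app U s' := by
      rw [← hσ]
      show ((factorThruImage (limit.π G (op e))).app U ≫ (image.ι (limit.π G (op e))).app U) σ = _
      rw [← Scheme.Modules.Hom.comp_app, image.fac]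
    rw [← h2, ← Groth.Agent.QCoh.app_res, hτ, map_zero])
  show I.presheaf.germ W x hxW s = 0
  have e1 : I.presheaf.germ W x hxW s = I.presheaf.germ U x hxU s' :=
    (I.presheaf.germ_res_apply (homOfLE hUW) x hxU s).symm
  have e2 : I.presheaf.germ U x hxU s' = I.presheaf.germ V x hxV (Groth.Agent.QCoh.res I i₁.le s') :=
    (I.presheaf.germ_res_apply i₁ x hxV s').symm
  rw [e1, e2, hz, map_zero]

end Groth.Agent.S14354
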