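import Groth.Statements.S14355
-- import your own Groth.Agent.* helpers here

set_option autoImplicit false
universe v u
open CategoryTheory CategoryTheory.Limits
open SpSeqMor

namespace Groth.Agent.S14355

/-- Let φ : E ⟶ E' be a morphism of E_2-cohomological spectral sequences in an abelian category, with
abutments H and H' whose filtrations are finite in each degree, and f a morphism of abutment data
over φ. Fix integers l and a₀. If E_2^{i, l-i} = 0 for i < a₀, E'_2^{i, l-i} = 0 for i > a₀ and
φ_2^{a₀, l-a₀} = 0, then f^l : H^l ⟶ H'^l is zero. (The published statement prints the two vanishing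
hypotheses at positions (i, l); the argument works on the line of total degree l, at positions (i, l
- i), which is the form stated here.) -/
theorem result (C : Type u) [Category.{v} C] [Abelian C]
    (E E' : E₂CohomologicalSpectralSequence C) (φ : E ⟶ E') (H H' : ℤ → C)
    (a : SpSeq.Abutment E H) (a' : SpSeq.Abutment E' H')
    (ha : ∀ n : ℤ, a.IsFinite n) (ha' : ∀ n : ℤ, a'.IsFinite n)
    (f : SpSeqMor.AbutHom φ a a') (l a₀ : ℤ)
    (hE : ∀ i : ℤ, i < a₀ → IsZero ((E.page 2 le_rfl).X (i, l - i)))
    (hE' : ∀ i : ℤ, a₀ < i → IsZero ((E'.page 2 le_rfl).X (i, l - i)))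
    (hφ : (φ.hom 2 le_rfl).f (a₀, l - a₀) = 0) :
    f.hom l = 0 := by
  have hzero : ∀ (F : E₂CohomologicalSpectralSequence C) (pq : ℤ × ℤ),
      IsZero ((F.page 2 le_rfl).X pq) → ∀ (r : ℤ) (hr : 2 ≤ r), IsZero ((F.page r hr).X pq) := by
    intro F pq h r hr
    induction r, hr using Int.le_induction with
    | base => exact h
    | succ r hr ih =>
      exact ((HomologicalComplex.exactAt_iff_isZero_homology _ _).mp
        (ShortComplex.exact_of_isZero_X₂ _ ih)).of_iso (F.iso r (r + 1) pq rfl hr).symm
  have hφr : ∀ (r : ℤ) (hr : 2 ≤ r), (φ.hom r hr).f (a₀, l - a₀) = 0 := by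
    intro r hr
    induction r, hr using Int.le_induction with
    | base => exact hφ
    | succ r hr ih =>
      have h0 : HomologicalComplex.homologyMap (φ.hom r hr) (a₀, l - a₀) = 0 := by
        rw [← cancel_epi (HomologicalComplex.homologyπ _ _), HomologicalComplex.homologyπ_naturality,
          comp_zero]
        have : HomologicalComplex.cyclesMap (φ.hom r hr) (a₀, l - a₀) = 0 := by
          rw [← cancel_mono (HomologicalComplex.iCycles _ _), HomologicalComplex.cyclesMap_i, ih,
            comp_zero, zero_comp]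
        rw [this, zero_comp]
      have := φ.comm r (r + 1) (a₀, l - a₀) rfl hr
      rw [h0, zero_comp] at this
      rw [← cancel_epi (E.iso r (r + 1) (a₀, l - a₀) rfl hr).hom, ← this, comp_zero]
  -- graded pieces
  have hgr : ∀ (F : E₂CohomologicalSpectralSequence C) (K : ℤ → C) (b : SpSeq.Abutment F K) (i : ℤ),
      IsZero ((F.page 2 le_rfl).X (i, l - i)) → IsZero ((b.filObj l).gr i) := by
    intro F K b i h
    have e := (hzero F (i, l - i) h _ (b.stat (i, l - i)).1).of_iso (b.β (i, l - i)).symm
    have h1 : (i, l - i).1 + (i, l - i).2 = l := add_sub_cancel i l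
    have h2 : IsZero ((b.filObj ((i, l - i).1 + (i, l - i).2)).gr i) := e
    rwa [h1] at h2
  -- a step with zero graded piece is an equality
  have hstep : ∀ (K : SpSeq.FilObj C) (i : ℤ), IsZero (K.gr i) → K.fil i ≤ K.fil (i + 1) := by
    intro K i h
    haveI : Epi (K.stepLE (Int.le_add_one (le_refl i))) :=
      Abelian.epi_of_cokernel_π_eq_zero _ (h.eq_of_tgt _ _)
    haveI : Mono (K.stepLE (Int.le_add_one (le_refl i))) := by
      unfold SpSeq.FilObj.stepLE; infer_instance
    haveI := isIso_of_mono_of_epi (K.stepLE (Int.le_add_one (le_refl i)))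
    refine Subobject.le_of_comm (inv (K.stepLE (Int.le_add_one (le_refl i)))) ?_
    rw [IsIso.inv_comp_eq]
    simp [SpSeq.FilObj.stepLE]
  have htop : (a.filObj l).fil a₀ = ⊤ := by
    obtain ⟨⟨p, hp⟩, -⟩ := ha l
    refine top_le_iff.mp ?_
    rcases le_total a₀ p with h | h
    · exact hp ▸ (a.filObj l).anti h
    · have : ∀ q, p ≤ q → q ≤ a₀ → ⊤ ≤ (a.filObj l).fil q := by
        intro q hq
        induction q, hq using Int.le_induction with
        | base => exact fun _ => hp.ge
        | succ q hq ih =>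
          exact fun h' => (ih (by omega)).trans (hstep _ q (hgr E H a q (hE q (by omega))))
      exact this a₀ h le_rfl
  have hbot : (a'.filObj l).fil (a₀ + 1) = ⊥ := by
    obtain ⟨-, ⟨b, hb⟩⟩ := ha' l
    refine le_bot_iff.mp ?_
    rcases le_total b (a₀ + 1) with h | h
    · exact hb ▸ (a'.filObj l).anti h
    · have : ∀ q, a₀ + 1 ≤ q → (a'.filObj l).fil (a₀ + 1) ≤ (a'.filObj l).fil q := by
        intro q hq
        induction q, hq using Int.le_induction with
        | base => exact le_rfl
        | succ q hq ih => exact ih.trans (hstep _ q (hgr E' H' a' q (hE' q (by omega))))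
      exact hb ▸ this b h
  have hgr0 : (f.fil l).gr a₀ = 0 := by
    have hk : ∃ k k' : ℕ, a.rk (a₀, l - a₀) + k = a'.rk (a₀, l - a₀) + k' :=
      ⟨(a'.rk (a₀, l - a₀) - a.rk (a₀, l - a₀)).toNat, (a.rk (a₀, l - a₀) - a'.rk (a₀, l - a₀)).toNat, by omega⟩
    obtain ⟨k, k', hk⟩ := hk
    have := f.comm (a₀, l - a₀) k k' hk
    rw [hφr] at this
    simp only [zero_comp, comp_zero] at this
    have h1 : (a₀, l - a₀).1 + (a₀, l - a₀).2 = l := add_sub_cancel a₀ l
    have h2 : (f.fil ((a₀, l - a₀).1 + (a₀, l - a₀).2)).gr a₀ = 0 :=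
      (cancel_epi (a.β (a₀, l - a₀)).hom).mp (this.trans comp_zero.symm)
    rwa [h1] at h2
  have hlift : (f.fil l).lift a₀ = 0 := by
    haveI : IsIso (cokernel.π ((a'.filObj l).stepLE (Int.le_add_one (le_refl a₀)))) := by
      have : (a'.filObj l).stepLE (Int.le_add_one (le_refl a₀)) = 0 := by
        rw [← cancel_mono ((a'.filObj l).fil a₀).arrow, zero_comp, SpSeq.FilObj.stepLE, Subobject.ofLE_arrow]
        have hS : ∀ {Y : C} (S : Subobject Y), S = ⊥ → S.arrow = 0 := fun S hS => by
          subst hS; exact Subobject.bot_arrow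
        exact hS _ hbot
      exact cokernel.π_of_zero this
    rw [← cancel_mono (cokernel.π ((a'.filObj l).stepLE (Int.le_add_one (le_refl a₀)))), zero_comp]
    have h3 : cokernel.π ((a.filObj l).stepLE (Int.le_add_one (le_refl a₀))) ≫ (f.fil l).gr a₀ =
        (f.fil l).lift a₀ ≫ cokernel.π ((a'.filObj l).stepLE (Int.le_add_one (le_refl a₀))) :=
      cokernel.π_desc _ _ _
    exact h3.symm.trans (by rw [hgr0]; exact comp_zero)
  haveI : IsIso ((a.filObj l).fil a₀).arrow := (Subobject.isIso_arrow_iff_eq_top _).mpr htop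
  show (f.fil l).hom = 0
  rw [← cancel_epi ((a.filObj l).fil a₀).arrow, comp_zero, ← (f.fil l).lift_arrow, hlift, zero_comp]

end Groth.Agent.S14355
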