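import Groth.Statements.S14357
import Mathlib.AlgebraicGeometry.ProjectiveSpectrum.Proper
import Mathlib.AlgebraicGeometry.Morphisms.Finite
import Mathlib.Algebra.MvPolynomial.Division

set_option autoImplicit false
universe u
open AlgebraicGeometry
open Proj

namespace Groth.Agent.S14357

open AlgebraicGeometry CategoryTheory in
lemma bijective_algebraMap_zero (n : ℕ) (k : Type u) [CommRing k] :
    Function.Bijective (algebraMap k (CohB1.polyGrading n k 0)) := by
  constructor
  · intro a b h
    exact MvPolynomial.C_injective _ k (congrArg Subtype.val h)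
  · rintro ⟨p, hp⟩
    refine ⟨MvPolynomial.coeff 0 p, Subtype.ext ?_⟩
    exact (MvPolynomial.totalDegree_eq_zero_iff_eq_C.mp
      (MvPolynomial.IsHomogeneous.totalDegree_le hp |>.antisymm (Nat.zero_le _))).symm

open AlgebraicGeometry CategoryTheory in
/-- The two points used: the generic point and the point `X₀ = 0`. -/
lemma exists_pair (k : Type u) [Field k] :
    ∃ x y : ProjectiveSpectrum (CohB1.polyGrading 1 k), x ⤳ y ∧ x ≠ y := by
  let 𝒜 := CohB1.polyGrading 1 k
  have hX : ∀ i, (MvPolynomial.X i : MvPolynomial (Fin 2) k) ∈ HomogeneousIdeal.irrelevant 𝒜 :=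
    fun i => HomogeneousIdeal.mem_irrelevant_of_mem 𝒜 one_pos (MvPolynomial.isHomogeneous_X k i)
  let x : ProjectiveSpectrum 𝒜 :=
    ⟨⊥, Ideal.bot_prime, fun h => MvPolynomial.X_ne_zero (0 : Fin 2) ((Ideal.mem_bot).mp (h (hX 0)))⟩
  have hp : (Ideal.span {(MvPolynomial.X 0 : MvPolynomial (Fin 2) k)}).IsPrime :=
    (Ideal.span_singleton_prime (MvPolynomial.X_ne_zero 0)).mpr MvPolynomial.X_prime
  have hh : (Ideal.span {(MvPolynomial.X 0 : MvPolynomial (Fin 2) k)}).IsHomogeneous 𝒜 :=
    Ideal.homogeneous_span _ _ (by rintro _ rfl; exact ⟨1, MvPolynomial.isHomogeneous_X k 0⟩)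
  let y : ProjectiveSpectrum 𝒜 := ⟨⟨_, hh⟩, hp, fun h => by
    have := (Ideal.mem_span_singleton).mp (h (hX 1))
    rw [MvPolynomial.X_dvd_X] at this
    simp at this⟩
  refine ⟨x, y, ?_, ?_⟩
  · rw [specializes_iff_mem_closure, ← ProjectiveSpectrum.le_iff_mem_closure]
    exact bot_le (α := HomogeneousIdeal 𝒜)
  · intro h
    have h2 : (MvPolynomial.X 0 : MvPolynomial (Fin 2) k) ∈ y.asHomogeneousIdeal.toIdeal :=
      Ideal.mem_span_singleton_self _
    rw [← h] at h2
    exact MvPolynomial.X_ne_zero (0 : Fin 2) (Ideal.mem_bot.mp h2)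

/-- For a field k the projective line over k is not an affine scheme. (The projective line is taken here
as Proj of the polynomial ring in two variables over k with its standard grading; the book builds it
by gluing two affine lines and identifies the two constructions later.) -/
theorem result (k : Type u) [Field k] :
    ¬ IsAffine (CohB1.ProjSpace 1 k) := by
  intro hA
  let 𝒜 := CohB1.polyGrading 1 k
  have hb := bijective_algebraMap_zero 1 k
  have : Algebra.FiniteType (𝒜 0) (MvPolynomial (Fin 2) k) :=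
    have : IsScalarTower k (𝒜 0) (MvPolynomial (Fin 2) k) :=
      IsScalarTower.of_algebraMap_eq (R := k) (S := ↥(𝒜 0)) (A := MvPolynomial (Fin 2) k) (by intro r; rfl)
    .of_restrictScalars_finiteType k (𝒜 0) _
  have : IsProper (AlgebraicGeometry.Proj.toSpecZero 𝒜) := inferInstance
  have : AlgebraicGeometry.IsAffine (AlgebraicGeometry.Proj 𝒜) := hA
  have hf : AlgebraicGeometry.IsFinite (AlgebraicGeometry.Proj.toSpecZero 𝒜) :=
    AlgebraicGeometry.IsFinite.iff_isProper_and_isAffineHom.mpr ⟨this.rec inferInstance, inferInstance⟩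
  let Γ := ((AlgebraicGeometry.Proj 𝒜).presheaf.obj (Opposite.op ⊤))
  let ψ : (𝒜 0) →+* Γ :=
    ((AlgebraicGeometry.Proj.toSpecZero 𝒜).appTop).hom.comp
      (AlgebraicGeometry.Scheme.ΓSpecIso (CommRingCat.of (𝒜 0))).inv.hom
  have hψ : ψ.Finite := RingHom.Finite.comp
    (AlgebraicGeometry.Scheme.Hom.finite_appTop _)
    (RingHom.Finite.of_surjective _
      (AlgebraicGeometry.Scheme.ΓSpecIso (CommRingCat.of (𝒜 0))).symm.commRingCatIsoToRingEquiv.surjective)
  algebraize [ψ]
  have : IsArtinianRing (𝒜 0) :=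
    (RingEquiv.ofBijective _ hb).isArtinianRing
  have : IsArtinianRing Γ := IsArtinianRing.of_finite (𝒜 0) Γ
  have : DiscreteTopology (AlgebraicGeometry.Spec Γ) :=
    inferInstanceAs (DiscreteTopology (PrimeSpectrum Γ))
  have : DiscreteTopology (AlgebraicGeometry.Proj 𝒜) :=
    (AlgebraicGeometry.Proj 𝒜).isoSpec.hom.homeomorph.isEmbedding.discreteTopology
  obtain ⟨x, y, hxy, hne⟩ := exists_pair k
  have : DiscreteTopology (ProjectiveSpectrum 𝒜) := this
  exact hne hxy.eq

end Groth.Agent.S14357
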