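import Groth.Statements.S14358
import Groth.Agent.Depth.Local
import Mathlib
-- import your own Groth.Agent.* helpers here

set_option autoImplicit false
universe u
open CAlg

namespace Groth.Agent.S14358

/-- Let A be a Noetherian integral domain with fraction field K and let r ∈ K. Then r belongs to A if
and only if, for every nonzero g ∈ A and every associated prime p of the A-module A/(g), the element
r belongs to the local ring A_p inside K, i.e. s r = a in K for some a ∈ A and some s ∈ A outside p. -/
theorem result (A K : Type u)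
    [CommRing A] [IsDomain A] [IsNoetherianRing A] [Field K] [Algebra A K] [IsFractionRing A K]
    (r : K) :
    r ∈ Set.range (algebraMap A K) ↔
      ∀ g : A, g ≠ 0 → ∀ p ∈ associatedPrimes A (A ⧸ Ideal.span {g}),
        ∃ a s : A, s ∉ p ∧ algebraMap A K s * r = algebraMap A K a := by
  constructor
  · rintro ⟨a, rfl⟩ g hg p hp
    exact ⟨a, 1, fun h1 ↦ (Depth.isPrime_of_mem_associatedPrimes hp).ne_top ((Ideal.eq_top_iff_one _).2 h1), by simp⟩
  · intro h
    obtain ⟨a, g, hg, rfl⟩ := IsFractionRing.div_surjective (A := A) r
    have hg0 : g ≠ 0 := nonZeroDivisors.ne_zero hg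
    have hgK : algebraMap A K g ≠ 0 := (map_ne_zero_iff _ (IsFractionRing.injective A K)).2 hg0
    by_cases hz : (Submodule.Quotient.mk a : A ⧸ Ideal.span {g}) = 0
    · obtain ⟨c, rfl⟩ := Ideal.mem_span_singleton'.1 ((Submodule.Quotient.mk_eq_zero _).1 hz)
      exact ⟨c, by rw [map_mul]; field_simp⟩
    · obtain ⟨p, hp, hle⟩ := exists_le_isAssociatedPrime_of_isNoetherianRing A _ hz
      obtain ⟨b, s, hs, hsr⟩ := h g hg0 p hp
      refine absurd ?_ hs
      refine hle ?_
      rw [Submodule.mem_colon_singleton, Submodule.mem_bot, ← Submodule.Quotient.mk_smul, Submodule.Quotient.mk_eq_zero]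
      refine Ideal.mem_span_singleton'.2 ⟨b, IsFractionRing.injective A K ?_⟩
      rw [smul_eq_mul, map_mul, map_mul, ← hsr]
      field_simp

end Groth.Agent.S14358
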