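import Groth.Statements.S14359
import Groth.Agent.S10957
import Mathlib
-- import your own Groth.Agent.* helpers here

set_option autoImplicit false
universe u
open CAlg

namespace Groth.Agent.S14359

/-- Let A be a Noetherian integrally closed integral domain and b a nonzero element of A. Then every
associated prime of the A-module A/(b) has height one, so that A/(b) has no embedded associated
primes. -/
theorem result
    (A : Type u) [CommRing A] [IsDomain A] [IsNoetherianRing A] [IsIntegrallyClosed A]
    (b : A) (hb : b ≠ 0) (p : Ideal A) (hp : p ∈ associatedPrimes A (A ⧸ Ideal.span {b})) :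
    p.height = 1 := by
  obtain ⟨hp', z, hz⟩ := isAssociatedPrime_iff.mp hp
  haveI := hp'
  obtain ⟨a, rfl⟩ := Submodule.Quotient.mk_surjective _ z
  let L := Localization.AtPrime p
  let ι := algebraMap A L
  have hmem : ∀ r : A, r ∈ p ↔ r * a ∈ Ideal.span {b} := fun r ↦ by
    rw [hz, Submodule.mem_colon_singleton, Submodule.mem_bot, ← Submodule.Quotient.mk_smul, Submodule.Quotient.mk_eq_zero]
    rfl
  haveI : IsNoetherianRing L := IsLocalization.isNoetherianRing p.primeCompl L inferInstance
  haveI : IsIntegrallyClosed L := isIntegrallyClosed_of_isLocalization L p.primeCompl p.primeCompl_le_nonZeroDivisors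
  have hb' : ι b ≠ 0 := (map_ne_zero_iff _ (IsLocalization.injective L p.primeCompl_le_nonZeroDivisors)).2 hb
  have hass : IsLocalRing.maximalIdeal L ∈ associatedPrimes L (L ⧸ Ideal.span ({ι b} : Set L)) := by
    refine isAssociatedPrime_iff.mpr ⟨inferInstance, Submodule.Quotient.mk (ι a), ?_⟩
    ext x
    obtain ⟨⟨r, s⟩, rfl⟩ := IsLocalization.mk'_surjective p.primeCompl x
    beta_reduce
    dsimp only
    rw [Submodule.mem_colon_singleton, Submodule.mem_bot, ← Submodule.Quotient.mk_smul, Submodule.Quotient.mk_eq_zero,
      IsLocalization.AtPrime.mk'_mem_maximal_iff L p r s, smul_eq_mul, IsLocalization.mk'_eq_mul_mk'_one r s,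
      mul_right_comm]
    have hu : IsUnit (IsLocalization.mk' L (1 : A) s) :=
      IsUnit.of_mul_eq_one (ι (s : A)) (by rw [IsLocalization.mk'_spec, map_one])
    rw [Ideal.mul_unit_mem_iff_mem _ hu, ← map_mul,
      show Ideal.span ({ι b} : Set L) = (Ideal.span {b}).map ι by rw [Ideal.map_span, Set.image_singleton],
      IsLocalization.algebraMap_mem_map_algebraMap_iff p.primeCompl]
    constructor
    · intro h
      exact ⟨1, p.primeCompl.one_mem, by rw [one_mul]; exact (hmem r).1 h⟩
    · rintro ⟨u, hu, h⟩
      rw [← mul_assoc, ← hmem] at h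
      exact (hp'.mem_or_mem h).resolve_left hu
  haveI := S10957.result L (ι b) hb' hass
  have h1 := IsLocalization.AtPrime.ringKrullDim_eq_height p L
  have h2 : ringKrullDim L = 1 := by
    refine le_antisymm ?_ ?_
    · exact Ring.krullDimLE_iff.1 inferInstance
    · exact (IsPrincipalIdealRing.ringKrullDim_eq_one L (IsDiscreteValuationRing.not_isField L)).ge
  rw [h2] at h1
  exact_mod_cast h1.symm

end Groth.Agent.S14359
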