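import Groth.Statements.S14360

set_option autoImplicit false
universe u
open AlgebraicGeometry
open Variety

namespace Groth.Agent.S14360

open CategoryTheory in
/-- If `g ∘ f` is the identity rational map, then on a dense open `W` inside the domain of `f`
the composite is the inclusion. -/
lemma exists_section {X Y : Scheme.{u}} [IsIntegral X] [Nonempty Y] (f : X.PartialMap Y)
    [IsDominant f.hom] (g : Y.PartialMap X)
    (h : (f.comp g).toRationalMap = Scheme.RationalMap.id X) :
    ∃ (W : X.Opens) (_ : (W : Set X).Nonempty) (hW : W ≤ f.domain) (j : W.toScheme ⟶ g.domain.toScheme),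
      j ≫ g.domain.ι = X.homOfLE hW ≫ f.hom ∧ j ≫ g.hom = W.ι := by
  obtain ⟨W, hW, hW₁, hW₂, e⟩ := Scheme.PartialMap.toRationalMap_eq_iff.mp h
  change W ≤ f.domain.ι ''ᵁ (f.hom ⁻¹ᵁ g.domain) at hW₁
  have hWU : W ≤ f.domain := hW₁.trans (f.domain.ι_image_le _)
  refine ⟨W, hW.nonempty, hWU, X.homOfLE hW₁ ≫ (f.domain.ι.isoImage _).inv ≫ (f.hom ∣_ g.domain),
    ?_, ?_⟩
  · rw [Category.assoc, Category.assoc, morphismRestrict_ι, ← Category.assoc, ← Category.assoc]
    congr 1
    rw [← cancel_mono f.domain.ι, Category.assoc, Category.assoc, Scheme.Hom.isoImage_inv_ι,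
      Scheme.homOfLE_ι, Scheme.homOfLE_ι]
  · have : X.homOfLE hW₂ ≫ (⊤ : X.Opens).ι = W.ι := Scheme.homOfLE_ι _ _
    rw [← this]
    simp only [Scheme.PartialMap.restrict_hom, Scheme.PartialMap.comp_hom] at e
    exact e

open CategoryTheory in
lemma toRationalMap_comp_symm {X Y : Scheme.{u}} [IsIntegral X] [IsIntegral Y]
    (e : X.PartialIso Y) [IsDominant e.toPartialMap.hom] :
    (e.toPartialMap.comp e.symm.toPartialMap).toRationalMap = Scheme.RationalMap.id X := by
  refine Scheme.PartialMap.toRationalMap_eq_iff.mpr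
    ⟨_, (e.toPartialMap.comp e.symm.toPartialMap).dense_domain, le_rfl, le_top, ?_⟩
  have key : ∀ (U : X.Opens) (V : Y.Opens) (i : U.toScheme ≅ V.toScheme),
      (U.ι.isoImage ((i.hom ≫ V.ι) ⁻¹ᵁ V)).inv ≫ ((i.hom ≫ V.ι) ∣_ V) ≫ i.inv ≫ U.ι =
        (U.ι ''ᵁ ((i.hom ≫ V.ι) ⁻¹ᵁ V)).ι := by
    intro U V i
    have h : (i.hom ≫ V.ι) ∣_ V = ((i.hom ≫ V.ι) ⁻¹ᵁ V).ι ≫ i.hom := by
      rw [← cancel_mono V.ι, morphismRestrict_ι, Category.assoc]
    rw [h, Category.assoc, Iso.hom_inv_id_assoc, Scheme.Hom.isoImage_inv_ι]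
  refine (congrArg (fun φ => X.homOfLE _ ≫ φ) (key e.source e.target e.iso)).trans ?_
  exact (Scheme.homOfLE_ι _ _).trans (Scheme.homOfLE_ι _ _).symm

/-- Let X and Y be integral schemes. Then X and Y have isomorphic dense open subschemes if and only if
they are birational in the sense of rational maps, i.e. there exist dominant rational maps f : X ⤏ Y
and g : Y ⤏ X such that the composites g ∘ f and f ∘ g are the identity rational maps of X and of Y. -/
theorem result (X Y : Scheme.{u})
    [IsIntegral X] [IsIntegral Y] :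
    Scheme.Birational X Y ↔
      ∃ (f : X ⤏ Y) (g : Y ⤏ X) (_ : f.IsDominant) (_ : g.IsDominant),
        f.comp g = Scheme.RationalMap.id X ∧ g.comp f = Scheme.RationalMap.id Y := by
  open CategoryTheory in
  constructor
  · rintro ⟨e⟩
    have h1 : IsDominant e.toPartialMap.hom := by
      have := Opens.isDominant_ι e.dense_target
      show IsDominant (e.iso.hom ≫ e.target.ι)
      infer_instance
    have h2 : IsDominant e.symm.toPartialMap.hom := by
      have := Opens.isDominant_ι e.dense_source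
      show IsDominant (e.iso.inv ≫ e.source.ι)
      infer_instance
    refine ⟨e.toRationalMap, e.symm.toRationalMap, inferInstance, inferInstance, ?_, ?_⟩
    · exact (Scheme.RationalMap.toRationalMap_comp _ _).trans (toRationalMap_comp_symm e)
    · exact (Scheme.RationalMap.toRationalMap_comp _ _).trans (toRationalMap_comp_symm e.symm)
  · rintro ⟨f, g, hf, hg, e₁, e₂⟩
    obtain ⟨f, rfl⟩ := f.exists_rep
    obtain ⟨g, rfl⟩ := g.exists_rep
    have : IsDominant f.hom := f.isDominant_toRationalMap_iff.mp hf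
    have : IsDominant g.hom := g.isDominant_toRationalMap_iff.mp hg
    rw [Scheme.RationalMap.toRationalMap_comp] at e₁ e₂
    obtain ⟨W, hWne, hW, j, hj₁, hj₂⟩ := exists_section f g e₁
    obtain ⟨W', hW'ne, hW', j', hj'₁, hj'₂⟩ := exists_section g f e₂
    set A : X.Opens := W ⊓ f.domain.ι ''ᵁ (f.hom ⁻¹ᵁ W')
    set B : Y.Opens := W' ⊓ g.domain.ι ''ᵁ (g.hom ⁻¹ᵁ W)
    have dA : Dense (A : Set X) := by
      refine A.isOpen.dense ?_
      refine nonempty_preirreducible_inter W.isOpen (f.domain.ι ''ᵁ (f.hom ⁻¹ᵁ W')).isOpen hWne ?_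
      obtain ⟨z, hz⟩ := f.hom.denseRange.exists_mem_open W'.isOpen hW'ne
      exact ⟨f.domain.ι z, z, hz, rfl⟩
    have dB : Dense (B : Set Y) := by
      refine B.isOpen.dense ?_
      refine nonempty_preirreducible_inter W'.isOpen (g.domain.ι ''ᵁ (g.hom ⁻¹ᵁ W)).isOpen hW'ne ?_
      obtain ⟨z, hz⟩ := g.hom.denseRange.exists_mem_open W.isOpen hWne
      exact ⟨g.domain.ι z, z, hz, rfl⟩
    have hAW : A ≤ W := inf_le_left
    have hBW : B ≤ W' := inf_le_left
    set α : A.toScheme ⟶ Y := X.homOfLE (hAW.trans hW) ≫ f.hom with hα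
    set β : B.toScheme ⟶ X := Y.homOfLE (hBW.trans hW') ≫ g.hom with hβ
    have ha : X.homOfLE hAW ≫ j ≫ g.domain.ι = α := by rw [hj₁, hα]; simp
    have hb : Y.homOfLE hBW ≫ j' ≫ f.domain.ι = β := by rw [hj'₁, hβ]; simp
    have ha' : X.homOfLE hAW ≫ j ≫ g.hom = A.ι := by rw [hj₂]; simp
    have hb' : Y.homOfLE hBW ≫ j' ≫ f.hom = B.ι := by rw [hj'₂]; simp
    have rA : Set.range α ⊆ Set.range B.ι := by
      rw [Scheme.Opens.range_ι]
      rintro _ ⟨a, rfl⟩
      have hmem : α a ∈ W' := by
        obtain ⟨z, hz, hza⟩ := a.2.2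
        have : X.homOfLE (hAW.trans hW) a = z :=
          f.domain.ι.isOpenEmbedding.injective ((by simp [← Scheme.Hom.comp_apply] :
            f.domain.ι (X.homOfLE (hAW.trans hW) a) = a.1).trans hza.symm)
        rw [hα, Scheme.Hom.comp_apply, this]
        exact hz
      refine ⟨hmem, j (X.homOfLE hAW a), ?_, ?_⟩
      · show g.hom (j (X.homOfLE hAW a)) ∈ W
        have := congr($ha' a)
        simp only [Scheme.Hom.comp_apply] at this
        rw [this]
        exact a.2.1
      · exact congr($ha a)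
    have rB : Set.range β ⊆ Set.range A.ι := by
      rw [Scheme.Opens.range_ι]
      rintro _ ⟨b, rfl⟩
      have hmem : β b ∈ W := by
        obtain ⟨z, hz, hzb⟩ := b.2.2
        have : Y.homOfLE (hBW.trans hW') b = z :=
          g.domain.ι.isOpenEmbedding.injective ((by simp [← Scheme.Hom.comp_apply] :
            g.domain.ι (Y.homOfLE (hBW.trans hW') b) = b.1).trans hzb.symm)
        rw [hβ, Scheme.Hom.comp_apply, this]
        exact hz
      refine ⟨hmem, j' (Y.homOfLE hBW b), ?_, ?_⟩
      · show f.hom (j' (Y.homOfLE hBW b)) ∈ W'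
        have := congr($hb' b)
        simp only [Scheme.Hom.comp_apply] at this
        rw [this]
        exact b.2.1
      · exact congr($hb b)
    set p := IsOpenImmersion.lift B.ι α rA
    set q := IsOpenImmersion.lift A.ι β rB
    have hp : p ≫ B.ι = α := IsOpenImmersion.lift_fac _ _ _
    have hq : q ≫ A.ι = β := IsOpenImmersion.lift_fac _ _ _
    refine ⟨⟨A, dA, B, dB, ⟨p, q, ?_, ?_⟩⟩⟩
    · have : p ≫ Y.homOfLE (hBW.trans hW') = X.homOfLE hAW ≫ j := by
        rw [← cancel_mono g.domain.ι, Category.assoc, Category.assoc, Scheme.homOfLE_ι, hp, ha]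
      rw [← cancel_mono A.ι, Category.assoc, hq, hβ, ← Category.assoc, this, Category.assoc, ha',
        Category.id_comp]
    · have : q ≫ X.homOfLE (hAW.trans hW) = Y.homOfLE hBW ≫ j' := by
        rw [← cancel_mono f.domain.ι, Category.assoc, Category.assoc, Scheme.homOfLE_ι, hq, hb]
      rw [← cancel_mono B.ι, Category.assoc, hp, hα, ← Category.assoc, this, Category.assoc, hb',
        Category.id_comp]

end Groth.Agent.S14360
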