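import Groth.Statements.S14363
import Mathlib
-- import your own Groth.Agent.* helpers here

set_option autoImplicit false
universe u
open CAlg

namespace Groth.Agent.S14363

/-- Let A be a Noetherian ring and 0 → M' → M → M'' → 0 a short exact sequence of A-modules. If a prime
p of A is an associated prime of M'' and is not in the support of M', then p is an associated prime
of M. -/
theorem result (A : Type u) [CommRing A] [IsNoetherianRing A]
    (M' M M'' : Type u) [AddCommGroup M'] [Module A M'] [AddCommGroup M] [Module A M]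
    [AddCommGroup M''] [Module A M'']
    (f : M' →ₗ[A] M) (g : M →ₗ[A] M'') (hf : Function.Injective f) (hg : Function.Surjective g)
    (hfg : Function.Exact f g)
    (p : PrimeSpectrum A) (hp : p.asIdeal ∈ associatedPrimes A M'') (hsupp : p ∉ Module.support A M') :
    p.asIdeal ∈ associatedPrimes A M := by
  obtain ⟨hpp, m2, hm2⟩ := isAssociatedPrime_iff.mp hp
  obtain ⟨m, rfl⟩ := hg m2
  obtain ⟨t, ht⟩ := IsNoetherian.noetherian p.asIdeal
  have hmem : ∀ a ∈ t, ∃ s : A, s ∉ p.asIdeal ∧ (s * a) • m = 0 := by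
    intro a ha
    have ha' : a ∈ p.asIdeal := ht ▸ Submodule.subset_span ha
    have h0 : g (a • m) = 0 := by
      rw [hm2, Submodule.mem_colon_singleton, Submodule.mem_bot] at ha'
      rw [map_smul, ha']
    obtain ⟨x, hx⟩ := (hfg _).mp h0
    obtain ⟨s, hs, hs'⟩ := Module.notMem_support_iff'.mp hsupp x
    refine ⟨s, hs, ?_⟩
    rw [mul_smul, ← hx, ← map_smul, hs', map_zero]
  choose! s hs hs' using hmem
  set σ := ∏ a ∈ t, s a
  have hσ : σ ∉ p.asIdeal := fun h => by
    obtain ⟨a, ha, ha'⟩ := (Ideal.IsPrime.prod_mem_iff).mp h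
    exact hs a ha ha'
  rw [AssociatedPrimes.mem_iff, isAssociatedPrime_iff]
  refine ⟨hpp, σ • m, le_antisymm ?_ fun a ha => ?_⟩
  · rw [← ht]
    refine Submodule.span_le.mpr fun a ha => ?_
    obtain ⟨k, hk⟩ : s a ∣ σ := Finset.dvd_prod_of_mem _ ha
    rw [SetLike.mem_coe, Submodule.mem_colon_singleton, Submodule.mem_bot, ← mul_smul, hk,
      show a * (s a * k) = k * (s a * a) by ring, mul_smul, hs' a ha, smul_zero]
  · rw [Submodule.mem_colon_singleton, Submodule.mem_bot, ← mul_smul] at ha
    have : a * σ ∈ p.asIdeal := by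
      rw [hm2, Submodule.mem_colon_singleton, Submodule.mem_bot, ← map_smul, ha, map_zero]
    exact (hpp.mem_or_mem this).resolve_right hσ

end Groth.Agent.S14363
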