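import Groth.Statements.S14364
import Groth.Agent.GammaLib.Local

set_option autoImplicit false
universe u
open CategoryTheory CategoryTheory.Limits AlgebraicGeometry
attribute [local instance] HasDerivedCategory.standard
open CxOX

attribute [-instance] CategoryTheory.ReflQuiver.toQuiver

namespace Groth.Agent.S14364

/-- equal morphisms have the same derived direct image -/
theorem rpush_congr {X Y : Scheme.{u}} {f g : X ⟶ Y} (h : f = g) [DCoh.HasRpush f] [DCoh.HasRpush g] :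
    Nonempty (DCoh.Rpush f ≅ DCoh.Rpush g) := by
  subst h
  exact ⟨Iso.refl _⟩

/-- Let f : X ⟶ Y be a finite-type morphism between Noetherian schemes, U ⊆ Y an open subscheme with
closed complement Z, and Z' = f⁻¹(Z), the closed complement of f⁻¹(U) in X. For every K in D(O_X)
with quasi-coherent cohomology sheaves, the morphism Rf_*(RΓ_{Z'}(K) ⟶ K) factors through the
canonical morphism RΓ_Z(Rf_* K) ⟶ Rf_* K, and every morphism Rf_* RΓ_{Z'}(K) ⟶ RΓ_Z(Rf_* K) giving
such a factorisation is an isomorphism; this is the isomorphism Rf_* RΓ_{Z'} ≅ RΓ_Z Rf_*.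
(Throughout, RΓ with support is the total right derived functor of the sheaf of sections supported
in the closed subset. The published statement derives instead the functor of sections killed by some
power of a defining ideal; on complexes with quasi-coherent cohomology sheaves over a Noetherian
scheme the two derived functors agree.) -/
theorem result {X Y : Scheme.{u}} [IsNoetherian X] [IsNoetherian Y]
    (f : X ⟶ Y) [LocallyOfFiniteType f] (U : Y.Opens)
    [CxOX.HasRgammaZ U.ι] [CxOX.HasRgammaZ (f ⁻¹ᵁ U).ι] [DCoh.HasRpush f]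
    (K : DCoh.D X) (hK : DCoh.IsQCohD K) :
    (∃ α : (DCoh.Rpush f).obj ((CxOX.RgammaZ (f ⁻¹ᵁ U).ι).obj K) ⟶ (CxOX.RgammaZ U.ι).obj ((DCoh.Rpush f).obj K),
        α ≫ (CxOX.RgammaZToId U.ι).app ((DCoh.Rpush f).obj K) =
          (DCoh.Rpush f).map ((CxOX.RgammaZToId (f ⁻¹ᵁ U).ι).app K)) ∧
    ∀ α : (DCoh.Rpush f).obj ((CxOX.RgammaZ (f ⁻¹ᵁ U).ι).obj K) ⟶ (CxOX.RgammaZ U.ι).obj ((DCoh.Rpush f).obj K),
        α ≫ (CxOX.RgammaZToId U.ι).app ((DCoh.Rpush f).obj K) =
          (DCoh.Rpush f).map ((CxOX.RgammaZToId (f ⁻¹ᵁ U).ι).app K) → IsIso α := by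
  let V := f ⁻¹ᵁ U
  have := KFlat.RPush.hasRpush V.ι
  have := KFlat.RPush.hasRpush U.ι
  have := KFlat.RPush.hasRpush (f ∣_ U)
  obtain ⟨adjV⟩ := PerfExt.exists_adj (X := X) V.ι
  obtain ⟨adjU⟩ := PerfExt.exists_adj (X := Y) U.ι
  obtain ⟨hS, C, g, d, hT, hC⟩ := GammaLib.exists_triangle V.ι K
  have hRS : IsZero ((DCoh.restrictD U.ι).obj ((DCoh.Rpush f).obj ((CxOX.RgammaZ V.ι).obj K))) :=
    ((DCoh.Rpush (f ∣_ U)).map_isZero hS).of_iso
      ((KFlat.RPushBase.restrictRpushIso f U).app ((CxOX.RgammaZ V.ι).obj K))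
  refine ⟨(GammaLib.bijective U.ι _ hRS).2 _, fun α hα => ?_⟩
  obtain ⟨δ, hT'⟩ := KFlat.RPushTriangle.distinguished_Rpush f _ hT
  refine GammaLib.isIso_lift U.ι _ _ δ hT' hRS ?_ α hα
  have := KFlat.RPush.hasRpush ((f ∣_ U) ≫ U.ι)
  have := KFlat.RPush.hasRpush (V.ι ≫ f)
  have := GammaLib.isIso_unit_of_local V.ι adjV hC
  have hcomp : V.ι ≫ f = (f ∣_ U) ≫ U.ι := (morphismRestrict_ι f U).symm
  let D := (DCoh.restrictD V.ι).obj C
  let e : (DCoh.Rpush f).obj C ≅ (DCoh.Rpush U.ι).obj ((DCoh.Rpush (f ∣_ U)).obj D) :=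
    (DCoh.Rpush f).mapIso (asIso (adjV.unit.app C)) ≪≫ (KFlat.RPush.rpushCompIso V.ι f).app D ≪≫
      (rpush_congr hcomp).some.app D ≪≫ ((KFlat.RPush.rpushCompIso (f ∣_ U) U.ι).app D).symm
  exact GammaLib.local_of_iso U.ι e.symm (GammaLib.local_Rpush U.ι adjU _)

end Groth.Agent.S14364
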