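import Groth.Statements.S14365
import Groth.Agent.GammaLib.Local
import Groth.Agent.GammaLib.FlatLpull
import Groth.Agent.KFlat.DerivedAdj
import Groth.Agent.S1058

set_option autoImplicit false
universe u
open CategoryTheory CategoryTheory.Limits AlgebraicGeometry
attribute [local instance] HasDerivedCategory.standard
open CxOX

attribute [-instance] CategoryTheory.ReflQuiver.toQuiver

namespace Groth.Agent.S14365

/-- equal morphisms have the same derived direct image -/
theorem rpush_congr {X Y : Scheme.{u}} {f g : X ⟶ Y} (h : f = g) [DCoh.HasRpush f] [DCoh.HasRpush g] :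
    Nonempty (DCoh.Rpush f ≅ DCoh.Rpush g) := by
  subst h
  exact ⟨Iso.refl _⟩

/-- Let f : X ⟶ Y be a flat morphism of finite type of Noetherian schemes, U ⊆ Y an open subscheme with
closed complement Z, Z' = f⁻¹(Z) the closed complement of f⁻¹(U), and let the derived pullback Lf^*
: D(O_Y) ⥤ D(O_X) exist. For every K in D(O_Y) with quasi-coherent cohomology sheaves, the morphism
Lf^*(RΓ_Z(K) ⟶ K) factors through the canonical morphism RΓ_{Z'}(Lf^* K) ⟶ Lf^* K, and every
morphism Lf^* RΓ_Z(K) ⟶ RΓ_{Z'}(Lf^* K) giving such a factorisation is an isomorphism; this is the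
isomorphism f^* RΓ_Z ≅ RΓ_{Z'} f^* for flat f. (Throughout, RΓ with support is the total right
derived functor of the sheaf of sections supported in the closed subset. The published statement
derives instead the functor of sections killed by some power of a defining ideal; on complexes with
quasi-coherent cohomology sheaves over a Noetherian scheme the two derived functors agree.) -/
theorem result {X Y : Scheme.{u}} [IsNoetherian X] [IsNoetherian Y]
    (f : X ⟶ Y) [LocallyOfFiniteType f] [Flat f] (U : Y.Opens)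
    [CxOX.HasRgammaZ U.ι] [CxOX.HasRgammaZ (f ⁻¹ᵁ U).ι] [DCoh.HasLpull f]
    (K : DCoh.D Y) (hK : DCoh.IsQCohD K) :
    (∃ β : (DCoh.Lpull f).obj ((CxOX.RgammaZ U.ι).obj K) ⟶ (CxOX.RgammaZ (f ⁻¹ᵁ U).ι).obj ((DCoh.Lpull f).obj K),
        β ≫ (CxOX.RgammaZToId (f ⁻¹ᵁ U).ι).app ((DCoh.Lpull f).obj K) =
          (DCoh.Lpull f).map ((CxOX.RgammaZToId U.ι).app K)) ∧
    ∀ β : (DCoh.Lpull f).obj ((CxOX.RgammaZ U.ι).obj K) ⟶ (CxOX.RgammaZ (f ⁻¹ᵁ U).ι).obj ((DCoh.Lpull f).obj K),
        β ≫ (CxOX.RgammaZToId (f ⁻¹ᵁ U).ι).app ((DCoh.Lpull f).obj K) =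
          (DCoh.Lpull f).map ((CxOX.RgammaZToId U.ι).app K) → IsIso β := by
  let V := f ⁻¹ᵁ U
  have := KFlat.RPush.hasRpush f
  have := KFlat.RPush.hasRpush U.ι
  have := KFlat.RPush.hasRpush V.ι
  have := KFlat.RPush.hasRpush (f ∣_ U)
  have := KFlat.RPush.hasRpush ((f ∣_ U) ≫ U.ι)
  have := KFlat.RPush.hasRpush (V.ι ≫ f)
  let adjf := KFlat.DerivedAdj.adj f
  obtain ⟨adjU⟩ := PerfExt.exists_adj (X := Y) U.ι
  obtain ⟨adjV⟩ := PerfExt.exists_adj (X := X) V.ι
  obtain ⟨hS, C, g, d, hT, hC⟩ := GammaLib.exists_triangle U.ι K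
  let S := (CxOX.RgammaZ U.ι).obj K
  let L := DCoh.Lpull f
  have hLS : IsZero ((DCoh.restrictD V.ι).obj (L.obj S)) := by
    let Z := (DCoh.restrictD V.ι).obj (L.obj S)
    let e : (DCoh.Rpush f).obj ((DCoh.Rpush V.ι).obj Z) ≅ (DCoh.Rpush U.ι).obj ((DCoh.Rpush (f ∣_ U)).obj Z) :=
      (KFlat.RPush.rpushCompIso V.ι f).app Z ≪≫ (rpush_congr (morphismRestrict_ι f U).symm).some.app Z ≪≫
        ((KFlat.RPush.rpushCompIso (f ∣_ U) U.ι).app Z).symm
    have hloc : GammaLib.Local U.ι ((DCoh.Rpush f).obj ((DCoh.Rpush V.ι).obj Z)) :=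
      GammaLib.local_of_iso U.ι e.symm (GammaLib.local_Rpush U.ι adjU _)
    rw [IsZero.iff_id_eq_zero]
    refine (adjV.homEquiv (L.obj S) Z).injective ((adjf.homEquiv S ((DCoh.Rpush V.ι).obj Z)).injective ?_)
    exact (hloc S hS _).trans (hloc S hS _).symm
  refine ⟨(GammaLib.bijective V.ι _ hLS).2 _, fun β hβ => ?_⟩
  obtain ⟨δ, hTL⟩ := GammaLib.distinguished_Lpull f _ hT
  refine GammaLib.isIso_lift V.ι _ _ δ hTL hLS ?_ β hβ
  let p₁ := pullback.fst U.ι f
  let p₂ := pullback.snd U.ι f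
  have := KFlat.RPush.hasRpush p₁
  have := KFlat.RPush.hasRpush p₂
  have := KFlat.Pull.hasLpull p₁
  let D := (DCoh.restrictD U.ι).obj C
  have hD : DCoh.IsQCohD D := by
    have : IsIso ((DCoh.restrictD U.ι).map g) :=
      (Pretriangulated.Triangle.isZero₁_iff_isIso₂ _ ((DCoh.restrictD U.ι).map_distinguished _ hT)).1 hS
    exact CohDerLib.QC.isQCohD_iso (asIso ((DCoh.restrictD U.ι).map g)) (PerfExt.isQCohD_restrict U.ι hK)
  obtain ⟨e, he⟩ := Groth.Agent.S1058.result U.ι f adjf (KFlat.DerivedAdj.adj p₁)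
  have := he D hD
  have := GammaLib.isIso_unit_of_local U.ι adjU hC
  obtain ⟨adj₂⟩ := PerfExt.exists_adj (X := X) p₂
  intro W hW φ
  have hW₂ : IsZero ((DCoh.restrictD p₂).obj W) :=
    PerfExt.isZero_restrict_of_range V p₂ (by
      rintro _ ⟨z, rfl⟩
      change f.base (p₂.base z) ∈ U
      have hz : U.ι.base (p₁.base z) = f.base (p₂.base z) := by
        rw [← Scheme.Hom.comp_apply, ← Scheme.Hom.comp_apply, pullback.condition]
      exact hz ▸ (p₁.base z).2) hW
  exact GammaLib.local_of_iso p₂ (L.mapIso (asIso (adjU.unit.app C)) ≪≫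
    asIso (DCoh.baseChangeApp adjf (KFlat.DerivedAdj.adj p₁) e D)).symm (GammaLib.local_Rpush p₂ adj₂ _) W hW₂ φ

end Groth.Agent.S14365
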