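import Groth.Statements.S14366
import Groth.Agent.GammaLib.Local

set_option autoImplicit false
universe u
open CategoryTheory CategoryTheory.Limits AlgebraicGeometry
attribute [local instance] HasDerivedCategory.standard
open CxOX

attribute [-instance] CategoryTheory.ReflQuiver.toQuiver Groth.Agent.KFlat.FlatPull.preservesFiniteLimits_restrict

namespace Groth.Agent.S14366

/-- Let j : X ⟶ X̄ be an open immersion of Noetherian schemes, U ⊆ X an open subscheme with closed
complement Z, U' ⊆ X̄ the open complement of the closure Z̄ of j(Z) in X̄, and T = U' ∪ j(X), the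
open complement of the closed subset Z̄ ∖ j(X). Let Rj_* exist and preserve complexes with
quasi-coherent cohomology, and let an adjunction j^* ⊣ Rj_* between D(O_X̄) and D(O_X) be given.
Then Rj_* and j^* are inverse equivalences between the objects of D_qc(O_X) whose cohomology sheaves
are supported on Z and the objects of D_qc(O_X̄) whose cohomology sheaves are supported on Z̄ and on
which RΓ_{Z̄ ∖ j(X)} vanishes: for F in the first class, Rj_* F has cohomology supported on Z̄ and
RΓ_{Z̄ ∖ j(X)}(Rj_* F) is zero; the counit j^* Rj_* F ⟶ F is an isomorphism for every F; and for G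
in the second class the unit G ⟶ Rj_* j^* G is an isomorphism and j^* G is in the first class.
(Throughout, RΓ with support is the total right derived functor of the sheaf of sections supported
in the closed subset. The published statement derives instead the functor of sections killed by some
power of a defining ideal; on complexes with quasi-coherent cohomology sheaves over a Noetherian
scheme the two derived functors agree.) -/
theorem result {X Xbar : Scheme.{u}} [IsNoetherian Xbar] [IsNoetherian X]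
    (j : X ⟶ Xbar) [IsOpenImmersion j] (U : X.Opens) (U' T : Xbar.Opens)
    (hU' : (U' : Set Xbar) = (closure (j.base '' ((U : Set X)ᶜ)))ᶜ)
    (hT : (T : Set Xbar) = (U' : Set Xbar) ∪ Set.range j.base)
    [DCoh.HasRpush j] [CxOX.HasRgammaZ T.ι] (hj : DCoh.RpushPreservesQCoh j)
    (adj : DCoh.restrictD j ⊣ DCoh.Rpush j) :
    (∀ F : DCoh.D X, DCoh.IsQCohD F → CxOX.IsSuppD U.ι F →
        CxOX.IsSuppD U'.ι ((DCoh.Rpush j).obj F) ∧ IsZero ((CxOX.RgammaZ T.ι).obj ((DCoh.Rpush j).obj F))) ∧
    (∀ F : DCoh.D X, IsIso (adj.counit.app F)) ∧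
    (∀ G : DCoh.D Xbar, DCoh.IsQCohD G → CxOX.IsSuppD U'.ι G → IsZero ((CxOX.RgammaZ T.ι).obj G) →
        IsIso (adj.unit.app G) ∧ DCoh.IsQCohD ((DCoh.restrictD j).obj G) ∧ CxOX.IsSuppD U.ι ((DCoh.restrictD j).obj G)) := by
  have key : ∀ F : DCoh.D X, CxOX.IsSuppD U.ι F →
      IsZero ((DCoh.restrictD U'.ι).obj ((DCoh.Rpush j).obj F)) := by
    intro F hF
    have hF0 : IsZero ((DCoh.restrictD U.ι).obj F) :=
      PerfExt.isZero_restrict_of_support U fun i => (hF i).trans (by rw [Scheme.Opens.range_ι])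
    have := KFlat.RPush.hasRpush (j ∣_ U')
    refine ((DCoh.Rpush (j ∣_ U')).map_isZero ?_).of_iso ((KFlat.RPushBase.restrictRpushIso j U').app F)
    refine PerfExt.isZero_restrict_of_range U _ ?_ hF0
    rw [Scheme.Opens.range_ι]
    intro x hx
    by_contra hxU
    have : j.base x ∈ (U' : Set Xbar) := hx
    rw [hU'] at this
    exact this (subset_closure ⟨x, hxU, rfl⟩)
  have hsupp : ∀ {Y : Scheme.{u}} (V : Y.Opens) (K : DCoh.D Y), IsZero ((DCoh.restrictD V.ι).obj K) →
      CxOX.IsSuppD V.ι K := fun V K h i => (PerfExt.support_subset_of_isZero_restrict V h i).trans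
        (by rw [Scheme.Opens.range_ι])
  refine ⟨fun F _ hF => ⟨hsupp U' _ (key F hF), ?_⟩, GammaLib.isIso_counit j adj, fun G hG hGs hGT => ?_⟩
  · let R := (CxOX.RgammaZ T.ι).obj ((DCoh.Rpush j).obj F)
    have hR := GammaLib.isZero_restrict_RgammaZ T.ι ((DCoh.Rpush j).obj F)
    have hjR : IsZero ((DCoh.restrictD j).obj R) :=
      PerfExt.isZero_restrict_of_range T j (by rw [hT]; exact Set.subset_union_right) hR
    rw [IsZero.iff_id_eq_zero]
    refine (GammaLib.bijective T.ι _ hR).1 ?_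
    exact (GammaLib.local_Rpush j adj F _ hjR _).trans (GammaLib.local_Rpush j adj F _ hjR _).symm
  · have hG0 : IsZero ((DCoh.restrictD U'.ι).obj G) :=
      PerfExt.isZero_restrict_of_support U' fun i => (hGs i).trans (by rw [Scheme.Opens.range_ι])
    have hjG : IsZero ((DCoh.restrictD U.ι).obj ((DCoh.restrictD j).obj G)) := by
      refine IsZero.of_iso ?_ ((PerfExt.restrictDComp U.ι j (U.ι ≫ j) rfl).app G)
      refine PerfExt.isZero_restrict_of_range U' (U.ι ≫ j) ?_ hG0
      rintro _ ⟨x, rfl⟩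
      change j.base (U.ι.base x) ∈ (U' : Set Xbar)
      rw [hU']
      intro hc
      obtain ⟨O, hO, hxO⟩ : ∃ O : Set Xbar, IsOpen O ∧ j.base '' (U : Set X) = O :=
        ⟨_, j.isOpenEmbedding.isOpenMap _ U.isOpen, rfl⟩
      obtain ⟨z, hz, y, hy, rfl⟩ := mem_closure_iff.1 hc O hO (hxO ▸ ⟨_, x.2, rfl⟩)
      obtain ⟨y', hy', he⟩ := hxO.symm ▸ hz
      exact hy (j.isOpenEmbedding.injective he ▸ hy')
    refine ⟨?_, PerfExt.isQCohD_restrict j hG, hsupp U _ hjG⟩
    obtain ⟨S, a, d, hS⟩ := Pretriangulated.distinguished_cocone_triangle₁ (adj.unit.app G)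
    have hjS : IsZero ((DCoh.restrictD j).obj S) :=
      Pretriangulated.Triangle.isZero₁_of_isIso₂ _ ((DCoh.restrictD j).map_distinguished _ hS)
        (GammaLib.isIso_restrict_unit j adj G)
    have hU'S : IsZero ((DCoh.restrictD U'.ι).obj S) :=
      ((DCoh.restrictD U'.ι).mapTriangle.obj (Pretriangulated.Triangle.mk a (adj.unit.app G) d)).isZero₁_of_isZero₂₃
        ((DCoh.restrictD U'.ι).map_distinguished _ hS) hG0
        (key _ fun i => hsupp U _ hjG i)
    have hTS : IsZero ((DCoh.restrictD T.ι).obj S) := by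
      refine PerfExt.isZero_of_cover (T.ι ⁻¹ᵁ U') (T.ι ⁻¹ᵁ j.opensRange) ?_ ?_ ?_
      · refine top_le_iff.1 fun x _ => ?_
        have : T.ι.base x ∈ (T : Set Xbar) := x.2
        rw [hT] at this
        exact this
      · exact (PerfExt.isZero_restrict_of_range U' ((T.ι ⁻¹ᵁ U').ι ≫ T.ι) (by rintro _ ⟨x, rfl⟩; exact x.2)
          hU'S).of_iso ((PerfExt.restrictDComp _ T.ι _ rfl).app S)
      · have hO : IsZero ((DCoh.restrictD j.opensRange.ι).obj S) := by
          refine IsZero.of_iso ?_ ((PerfExt.restrictDComp j.isoOpensRange.inv j j.opensRange.ι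
            (Scheme.Hom.isoOpensRange_inv_comp j)).app S).symm
          exact (DCoh.restrictD j.isoOpensRange.inv).map_isZero hjS
        exact (PerfExt.isZero_restrict_of_range j.opensRange ((T.ι ⁻¹ᵁ j.opensRange).ι ≫ T.ι)
          (by rintro _ ⟨x, rfl⟩; exact x.2) hO).of_iso ((PerfExt.restrictDComp _ T.ι _ rfl).app S)
    obtain ⟨a', ha'⟩ := (GammaLib.bijective T.ι G hTS).2 a
    have ha : a = 0 := by
      rw [← ha', hGT.eq_of_tgt a' 0]
      exact zero_comp
    have hj1 : IsZero ((DCoh.restrictD j).obj (S⟦(1 : ℤ)⟧)) :=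
      ((shiftFunctor (DCoh.D X) (1 : ℤ)).map_isZero hjS).of_iso (((DCoh.restrictD j).commShiftIso (1 : ℤ)).app S)
    obtain ⟨s, hs⟩ : ∃ s : S⟦(1 : ℤ)⟧ ⟶ (DCoh.Rpush j).obj ((DCoh.restrictD j).obj G), s ≫ d = 𝟙 _ := by
      obtain ⟨s, hs⟩ := Pretriangulated.Triangle.coyoneda_exact₃ _ (Pretriangulated.rot_of_distTriang _ hS)
        (𝟙 (S⟦(1 : ℤ)⟧)) (by
          change 𝟙 _ ≫ (-a⟦(1 : ℤ)⟧') = 0
          rw [ha, Functor.map_zero, neg_zero, comp_zero])
      exact ⟨s, hs.symm⟩
    have hz : IsZero (S⟦(1 : ℤ)⟧) := by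
      rw [IsZero.iff_id_eq_zero, ← hs, GammaLib.local_Rpush j adj _ _ hj1 s, zero_comp]
    exact (Pretriangulated.Triangle.isZero₁_iff_isIso₂ _ hS).1 (((shiftFunctor (DCoh.D Xbar) (-1 : ℤ)).map_isZero hz).of_iso
      ((shiftFunctorCompIsoId (DCoh.D Xbar) (1 : ℤ) (-1) (by omega)).app S).symm)

end Groth.Agent.S14366
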