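import Groth.Statements.S14367
import Groth.Agent.GammaLib.Local
import Groth.Agent.KFlat.DerivedAdj
import Groth.Agent.KFlat.LTensorExact
import Groth.Agent.KFlat.StrictDual
import Groth.Agent.S0960
import Groth.Agent.S1118
import Groth.Agent.CohDerLib.QC.PerfBound

set_option autoImplicit false
universe u
open CategoryTheory CategoryTheory.Limits AlgebraicGeometry
attribute [local instance] HasDerivedCategory.standard
open CxOX

attribute [-instance] CategoryTheory.ReflQuiver.toQuiver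

namespace Groth.Agent.S14367

open Pretriangulated Groth.Agent.KFlat

/-- tensoring keeps objects supported off an open supported there -/
theorem supported_tensor {X : Scheme.{u}} (U : X.Opens) (S : DCoh.D X) (hS : IsZero ((DCoh.restrictD U.ι).obj S))
    (P : CochainComplex X.Modules ℤ) (hP : DCoh.IsKFlat P) [DCoh.HasLTensorCx P] :
    IsZero ((DCoh.restrictD U.ι).obj ((DCoh.LTensorCx P).obj S)) := by
  have := RPush.hasRpush U.ι
  have := Pull.hasLpull U.ι
  obtain ⟨adjU⟩ := PerfExt.exists_adj (X := X) U.ι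
  let adjL := DerivedAdj.adj U.ι
  have hL : IsZero ((DCoh.Lpull U.ι).obj S) := by
    rw [IsZero.iff_id_eq_zero]
    exact (adjL.homEquiv S _).injective ((GammaLib.local_Rpush U.ι adjU _ S hS _).trans
      (GammaLib.local_Rpush U.ι adjU _ S hS _).symm)
  have := LTensor.hasLTensorCx (((Scheme.Modules.pullback U.ι).mapHomologicalComplex (ComplexShape.up ℤ)).obj P)
  obtain ⟨e⟩ := Groth.Agent.S0960.result U.ι P hP S
  have hz : IsZero ((DCoh.Lpull U.ι).obj ((DCoh.LTensorCx P).obj S)) :=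
    ((DCoh.LTensorCx _).map_isZero hL).of_iso e
  rw [IsZero.iff_id_eq_zero]
  exact (adjU.homEquiv _ _).injective ((adjL.homEquiv _ _).symm.injective (hz.eq_of_src _ _))

/-- tensoring keeps local objects local -/
theorem local_tensor {X : Scheme.{u}} (U : X.Opens) [QuasiCompact U.ι] [QuasiSeparated U.ι] (C : DCoh.D X) (hC : GammaLib.Local U.ι C)
    (hq : DCoh.IsQCohD ((DCoh.restrictD U.ι).obj C)) (E : CochainComplex X.Modules ℤ)
    (hE : DCoh.IsQCohD (DCoh.toD X E)) [DCoh.HasLTensorCx E] :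
    GammaLib.Local U.ι ((DCoh.LTensorCx E).obj C) := by
  have := RPush.hasRpush U.ι
  have := Pull.hasLpull U.ι
  obtain ⟨adjU⟩ := PerfExt.exists_adj (X := X) U.ι
  let M := DerivedCategory.Q.objPreimage ((DCoh.Lpull U.ι).obj (DCoh.toD X E))
  have := LTensor.hasLTensorCx M
  obtain ⟨e⟩ := Groth.Agent.S1118.result U.ι ((DCoh.restrictD U.ι).obj C) hq E hE M
    ⟨DerivedCategory.Q.objObjPreimageIso _⟩
  have := GammaLib.isIso_unit_of_local U.ι adjU hC
  exact GammaLib.local_of_iso U.ι ((DCoh.LTensorCx E).mapIso (asIso (adjU.unit.app C)) ≪≫ e).symm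
    (GammaLib.local_Rpush U.ι adjU _)


/-- Let X be a Noetherian scheme, U ⊆ X an open subscheme with closed complement Z, F an object of
D(O_X) and E a cochain complex of O_X-modules, both with quasi-coherent cohomology sheaves vanishing
outside a bounded range of degrees, and let the derived functor − ⊗^L E on D(O_X) exist. Then the
morphism (RΓ_Z(F)) ⊗^L E ⟶ F ⊗^L E induced by RΓ_Z(F) ⟶ F factors through the canonical morphism
RΓ_Z(F ⊗^L E) ⟶ F ⊗^L E, and every morphism (RΓ_Z(F)) ⊗^L E ⟶ RΓ_Z(F ⊗^L E) giving such a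
factorisation is an isomorphism; this is the isomorphism RΓ_Z(F) ⊗^L E ≅ RΓ_Z(F ⊗^L E) (the
companion isomorphism F ⊗^L RΓ_Z(E) ≅ RΓ_Z(F ⊗^L E) differs from it by the symmetry of ⊗^L).
(Throughout, RΓ with support is the total right derived functor of the sheaf of sections supported
in the closed subset. The published statement derives instead the functor of sections killed by some
power of a defining ideal; on complexes with quasi-coherent cohomology sheaves over a Noetherian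
scheme the two derived functors agree.) -/
theorem result {X : Scheme.{u}} [IsNoetherian X] (U : X.Opens) [CxOX.HasRgammaZ U.ι]
    (F : DCoh.D X) (hF : DCoh.IsQCohD F) (a b : ℤ) (hFa : DerivedCategory.IsGE F a) (hFb : DerivedCategory.IsLE F b)
    (E : CochainComplex X.Modules ℤ) (hE : DCoh.IsQCohD (DCoh.toD X E))
    (a' b' : ℤ) (hEa : DerivedCategory.IsGE (DCoh.toD X E) a') (hEb : DerivedCategory.IsLE (DCoh.toD X E) b')
    [DCoh.HasLTensorCx E] :
    (∃ φ : (DCoh.LTensorCx E).obj ((CxOX.RgammaZ U.ι).obj F) ⟶ (CxOX.RgammaZ U.ι).obj ((DCoh.LTensorCx E).obj F),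
        φ ≫ (CxOX.RgammaZToId U.ι).app ((DCoh.LTensorCx E).obj F) =
          (DCoh.LTensorCx E).map ((CxOX.RgammaZToId U.ι).app F)) ∧
    ∀ φ : (DCoh.LTensorCx E).obj ((CxOX.RgammaZ U.ι).obj F) ⟶ (CxOX.RgammaZ U.ι).obj ((DCoh.LTensorCx E).obj F),
        φ ≫ (CxOX.RgammaZToId U.ι).app ((DCoh.LTensorCx E).obj F) =
          (DCoh.LTensorCx E).map ((CxOX.RgammaZToId U.ι).app F) → IsIso φ := by
  obtain ⟨hS, C, g, d, hT, hC⟩ := GammaLib.exists_triangle U.ι F
  let a := (CxOX.RgammaZToId U.ι).app F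
  let S := (CxOX.RgammaZ U.ι).obj F
  -- a K-flat model of `E`
  let P := (KFlat.Pull.resY X).obj E
  have hP : DCoh.IsKFlat P := KFlat.Pull.isKFlat_resY E
  have := KFlat.LTensor.hasLTensorCx P
  have := KFlat.Pull.quasiIso_resYπ (Y := X) E
  obtain ⟨c⟩ := KFlat.StrictDual.nonempty_ltCongr (X := X) (A := P) (B := E)
    (asIso (DerivedCategory.Q.map ((KFlat.Pull.resYπ X).app E)))
  have hsup : IsZero ((DCoh.restrictD U.ι).obj ((DCoh.LTensorCx E).obj S)) :=
    (supported_tensor U S hS P hP).of_iso ((DCoh.restrictD U.ι).mapIso (c.app S).symm)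
  refine ⟨(GammaLib.bijective U.ι _ hsup).2 _, fun φ hφ => ?_⟩
  have hCq : DCoh.IsQCohD ((DCoh.restrictD U.ι).obj C) := by
    have : IsIso ((DCoh.restrictD U.ι).map g) :=
      (Triangle.isZero₁_iff_isIso₂ _ ((DCoh.restrictD U.ι).map_distinguished _ hT)).1 hS
    exact CohDerLib.QC.isQCohD_iso (asIso ((DCoh.restrictD U.ι).map g)) (PerfExt.isQCohD_restrict U.ι hF)
  have hC1 : GammaLib.Local U.ι (C⟦(-1 : ℤ)⟧) := fun Y hY y => by
    refine (shiftFunctor (DCoh.D X) (1 : ℤ)).map_injective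
      ((cancel_mono ((shiftFunctorCompIsoId (DCoh.D X) (-1 : ℤ) 1 (by omega)).hom.app C)).1 ?_)
    have hY1 : IsZero ((DCoh.restrictD U.ι).obj (Y⟦(1 : ℤ)⟧)) :=
      ((shiftFunctor (DCoh.D (U : Scheme.{u})) (1 : ℤ)).map_isZero hY).of_iso
        (((DCoh.restrictD U.ι).commShiftIso (1 : ℤ)).app Y)
    exact (hC _ hY1 _).trans (hC _ hY1 _).symm
  have hC1q : DCoh.IsQCohD ((DCoh.restrictD U.ι).obj (C⟦(-1 : ℤ)⟧)) :=
    CohDerLib.QC.isQCohD_iso (((DCoh.restrictD U.ι).commShiftIso (-1 : ℤ)).app C).symm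
      (CohDerLib.QC.isQCohD_shift hCq (-1))
  have hmid := KFlat.LTensorExact.midExact P hP
  have hmid' : ∀ T ∈ (distinguishedTriangles : Set (Triangle (DCoh.D X))), ∀ (N : DCoh.D X)
      (x : N ⟶ (DCoh.LTensorCx E).obj T.obj₂), x ≫ (DCoh.LTensorCx E).map T.mor₂ = 0 →
        ∃ b, b ≫ (DCoh.LTensorCx E).map T.mor₁ = x := fun T hT N x hx => by
    obtain ⟨b, hb⟩ := hmid T hT N (x ≫ c.inv.app T.obj₂) (by
      rw [Category.assoc, ← c.inv.naturality, ← Category.assoc, hx, zero_comp])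
    refine ⟨b ≫ c.hom.app T.obj₁, ?_⟩
    rw [Category.assoc, ← c.hom.naturality, ← Category.assoc, hb, Category.assoc, Iso.inv_hom_id_app,
      Category.comp_id]
  have hinj : ∀ (Y : DCoh.D X), IsZero ((DCoh.restrictD U.ι).obj Y) → ∀ y : Y ⟶ (DCoh.LTensorCx E).obj S,
      y ≫ (DCoh.LTensorCx E).map a = 0 → y = 0 := fun Y hY y hy => by
    obtain ⟨b, hb⟩ := hmid' _ (inv_rot_of_distTriang _ hT) Y y hy
    have hb0 : b = 0 := local_tensor U _ hC1 hC1q E hE Y hY b
    rw [← hb, hb0]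
    exact zero_comp
  have hR := GammaLib.isZero_restrict_RgammaZ U.ι ((DCoh.LTensorCx E).obj F)
  obtain ⟨β, hβ⟩ : ∃ β : (CxOX.RgammaZ U.ι).obj ((DCoh.LTensorCx E).obj F) ⟶ (DCoh.LTensorCx E).obj S,
      β ≫ (DCoh.LTensorCx E).map a = (CxOX.RgammaZToId U.ι).app ((DCoh.LTensorCx E).obj F) := hmid' _ hT _ ((CxOX.RgammaZToId U.ι).app ((DCoh.LTensorCx E).obj F))
    (local_tensor U C hC hCq E hE _ hR _)
  refine ⟨β, sub_eq_zero.1 (hinj _ hsup (φ ≫ β - 𝟙 _) ?_), (GammaLib.bijective U.ι _ hR).1 ?_⟩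
  · rw [Preadditive.sub_comp, Category.assoc, Category.id_comp, sub_eq_zero]
    exact (congrArg (φ ≫ ·) hβ).trans hφ
  · change (β ≫ φ) ≫ _ = 𝟙 _ ≫ _
    rw [Category.assoc, hφ, Category.id_comp]
    exact hβ

end Groth.Agent.S14367
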