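import Groth.Statements.S14368
import Groth.Agent.GammaLib.Local

set_option autoImplicit false
universe u
open CategoryTheory CategoryTheory.Limits AlgebraicGeometry
attribute [local instance] HasDerivedCategory.standard
open CxOX

attribute [-instance] CategoryTheory.ReflQuiver.toQuiver Groth.Agent.KFlat.FlatPull.preservesFiniteLimits_restrict

namespace Groth.Agent.S14368

/-- Let j : X ⟶ X̄ be an open immersion of Noetherian schemes and W ⊆ X̄ an open subscheme whose closed
complement Z̄ = X̄ ∖ W is contained in j(X) (so Z̄ = j(Z) for the closed subset Z = X ∖ j⁻¹(W) of X: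
this is the situation of a closed subset of X whose image in X̄ is still closed). Let Rj_* exist and
preserve complexes with quasi-coherent cohomology, and let an adjunction j^* ⊣ Rj_* on derived
categories be given. Then for every G in D(O_X̄) with quasi-coherent cohomology sheaves the unit
RΓ_{Z̄}(G) ⟶ Rj_* j^* RΓ_{Z̄}(G) is an isomorphism; composed with Rj_* of the isomorphism j^*
RΓ_{Z̄} ≅ RΓ_Z j^* it gives the isomorphism ε : RΓ_{Z̄} ≅ Rj_* RΓ_Z j^*. (Throughout, RΓ with
support is the total right derived functor of the sheaf of sections supported in the closed subset.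
The published statement derives instead the functor of sections killed by some power of a defining
ideal; on complexes with quasi-coherent cohomology sheaves over a Noetherian scheme the two derived
functors agree.) -/
theorem result {X Xbar : Scheme.{u}} [IsNoetherian Xbar] [IsNoetherian X]
    (j : X ⟶ Xbar) [IsOpenImmersion j] (W : Xbar.Opens) (hW : (W : Set Xbar)ᶜ ⊆ Set.range j.base)
    [DCoh.HasRpush j] [CxOX.HasRgammaZ W.ι] (hj : DCoh.RpushPreservesQCoh j)
    (adj : DCoh.restrictD j ⊣ DCoh.Rpush j) (G : DCoh.D Xbar) (hG : DCoh.IsQCohD G) :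
    IsIso (adj.unit.app ((CxOX.RgammaZ W.ι).obj G)) := by
  let R := (CxOX.RgammaZ W.ι).obj G
  obtain ⟨S, a, d, hT⟩ := Pretriangulated.distinguished_cocone_triangle₁ (adj.unit.app R)
  refine (Pretriangulated.Triangle.isZero₁_iff_isIso₂ _ hT).1 ?_
  change IsZero S
  have hjS : IsZero ((DCoh.restrictD j).obj S) :=
    Pretriangulated.Triangle.isZero₁_of_isIso₂ _ ((DCoh.restrictD j).map_distinguished _ hT)
      (GammaLib.isIso_restrict_unit j adj R)
  have hWS : IsZero ((DCoh.restrictD W.ι).obj S) := by
    have hR : IsZero ((DCoh.restrictD W.ι).obj R) := GammaLib.isZero_restrict_RgammaZ W.ι G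
    have := KFlat.RPush.hasRpush (j ∣_ W)
    have h3 : IsZero ((DCoh.restrictD W.ι).obj ((DCoh.Rpush j).obj ((DCoh.restrictD j).obj R))) := by
      refine ((DCoh.Rpush (j ∣_ W)).map_isZero ?_).of_iso
        ((KFlat.RPushBase.restrictRpushIso j W).app ((DCoh.restrictD j).obj R))
      exact (PerfExt.isZero_restrict_of_range W ((j ⁻¹ᵁ W).ι ≫ j) (by
        rintro _ ⟨x, rfl⟩
        exact x.2) hR).of_iso ((PerfExt.restrictDComp (j ⁻¹ᵁ W).ι j _ rfl).app R)
    exact ((DCoh.restrictD W.ι).mapTriangle.obj (Pretriangulated.Triangle.mk a (adj.unit.app R) d)).isZero₁_of_isZero₂₃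
      ((DCoh.restrictD W.ι).map_distinguished _ hT) hR h3
  refine PerfExt.isZero_of_cover j.opensRange W ?_ ?_ hWS
  · refine top_le_iff.1 fun x _ => ?_
    by_cases hx : x ∈ W
    · exact Or.inr hx
    · exact Or.inl (hW hx)
  · exact PerfExt.isZero_restrict_of_range j.opensRange j.opensRange.ι (by rw [Scheme.Opens.range_ι]) (by
      refine IsZero.of_iso ?_ ((PerfExt.restrictDComp j.isoOpensRange.inv j j.opensRange.ι
        (Scheme.Hom.isoOpensRange_inv_comp j)).app S).symm
      exact (DCoh.restrictD j.isoOpensRange.inv).map_isZero hjS)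

end Groth.Agent.S14368
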