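import Groth.Statements.S14378
import Groth.Agent.EquidimPt.FieldBase
import Groth.Agent.S3448
-- import your own Groth.Agent.* helpers here

set_option autoImplicit false
universe u
open CategoryTheory CategoryTheory.Limits AlgebraicGeometry
open Variety

namespace Groth.Agent.S14378

open AlgebraicGeometry CategoryTheory Groth.Agent

/-- Let k be an algebraically closed field, X and Y schemes of finite type over k with Y irreducible,
and f : X → Y a k-morphism such that for some natural number d the fibre of f over every closed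
point of Y (the subspace of points mapping to it) is irreducible of dimension d. Then (i) exactly
one irreducible component of X has dense image in Y, and (ii) each irreducible component Z of X is
made up of whole fibres — if Z meets the fibre over a closed point then it contains it — and dim Z =
d + dim f(Z)‾, the dimension of the closure of its image. (The published assertions are for
varieties, i.e. reduced separated schemes; this row assumes neither.) -/
theorem result (k : Type u) [Field k] [IsAlgClosed k]
    {X Y : Scheme.{u}} (qX : X ⟶ Spec (CommRingCat.of k)) (qY : Y ⟶ Spec (CommRingCat.of k))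
    [LocallyOfFiniteType qX] [QuasiCompact qX] [LocallyOfFiniteType qY] [QuasiCompact qY]
    (f : X ⟶ Y) (hf : f ≫ qY = qX) [IrreducibleSpace ↥Y] (d : ℕ)
    (hirr : ∀ y : ↥Y, IsClosed ({y} : Set ↥Y) → IsIrreducible (f.base ⁻¹' {y}))
    (hdim : ∀ y : ↥Y, IsClosed ({y} : Set ↥Y) → topologicalKrullDim ↥(f.base ⁻¹' {y}) = d) :
    (∃! Z : Set ↥X, Z ∈ irreducibleComponents ↥X ∧ Dense (f.base '' Z)) ∧
      ∀ Z ∈ irreducibleComponents ↥X,
        (∀ y : ↥Y, IsClosed ({y} : Set ↥Y) → (f.base ⁻¹' {y} ∩ Z).Nonempty → f.base ⁻¹' {y} ⊆ Z) ∧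
        topologicalKrullDim ↥Z = d + topologicalKrullDim ↥(closure (f.base '' Z)) := by
  subst hf
  haveI : LocallyOfFiniteType f := locallyOfFiniteType_of_comp f qY
  haveI : QuasiCompact f := EquidimPt.quasiCompact_of_field k f (f ≫ qY)
  haveI : IsLocallyNoetherian X := LocallyOfFiniteType.isLocallyNoetherian (f ≫ qY)
  haveI : IsLocallyNoetherian Y := LocallyOfFiniteType.isLocallyNoetherian qY
  haveI : CompactSpace X := QuasiCompact.compactSpace_of_compactSpace (f ≫ qY)
  haveI : CompactSpace Y := QuasiCompact.compactSpace_of_compactSpace qY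
  haveI : IsNoetherian X := ⟨⟩
  haveI : IsNoetherian Y := ⟨⟩
  have hgenmax : FlatOpen.EquiDim.Max (genericPoint Y) := fun z hz =>
    (hz.antisymm (genericPoint_specializes z)).eq
  obtain ⟨m₀, hm₀, hfm₀⟩ := EquidimPt.exists_dominant k f qY d hirr hdim
  have hgenOf : ∀ m : X, FlatOpen.EquiDim.Max m → Dense (f.base '' closure {m}) → f m = genericPoint Y := by
    intro m _ hd
    refine IsGenericPoint.eq ?_ (genericPoint_spec Y)
    have h1 := hd.closure_eq
    rwa [closure_image_closure f.continuous, Set.image_singleton] at h1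
  have hwhole : ∀ m : X, FlatOpen.EquiDim.Max m → ∀ y : ↥Y, IsClosed ({y} : Set ↥Y) →
      (f.base ⁻¹' {y} ∩ closure {m}).Nonempty → f.base ⁻¹' {y} ⊆ closure {m} := by
    rintro m hm y hy ⟨z, hz, hzm⟩
    obtain ⟨c, hfc, -, hmc, hle⟩ := S3448.exists_point f (specializes_iff_mem_closure.2 hzm) hm
    rw [(EquidimPt.component_dim k f qY d hirr hdim hm).2] at hle
    exact (EquidimPt.fibre_subset k f qY d hirr hdim hy (hfc.trans hz) hle).trans
      (closure_minimal (Set.singleton_subset_iff.2 (specializes_iff_mem_closure.1 hmc)) isClosed_closure)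
  refine ⟨⟨closure {m₀}, ⟨FlatOpen.EquiDim.closure_mem_irreducibleComponents hm₀, ?_⟩, ?_⟩, fun Z hZ => ?_⟩
  · refine dense_iff_closure_eq.2 ?_
    rw [closure_image_closure f.continuous, Set.image_singleton, hfm₀]
    exact genericPoint_spec Y
  · rintro Z ⟨hZ, hd⟩
    obtain ⟨m, hm, rfl⟩ := FlatOpen.EquiDim.exists_max_closure_eq hZ
    have hfm := hgenOf m hm hd
    by_contra hne
    have hEc : Topology.IsConstructible (f.base '' closure {m₀}) :=
      f.isConstructible_image (ConstrLib.isConstructible_of_isClosed isClosed_closure)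
    obtain ⟨O, hO, ⟨a, ha, -⟩, hsub⟩ := ConstrLib.exists_open_subset_of_dense_constructible
      (Z := (Set.univ : Set Y)) (IrreducibleSpace.isIrreducible_univ _) hEc (by
        rw [Set.inter_univ, closure_image_closure f.continuous, Set.image_singleton, hfm₀]
        exact (genericPoint_spec Y).symm.subset)
    have hgO : genericPoint Y ∈ O := (genericPoint_specializes a).mem_open hO ha
    have hmnot : m ∉ closure ({m₀} : Set X) := fun h => hne (by
      rw [hm m₀ (specializes_iff_mem_closure.2 h)])
    obtain ⟨x, hmx, hxW, hx⟩ := EquidimPt.exists_closed_specialization k (f ≫ qY) m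
      ⟨f.base ⁻¹' O ∩ (closure {m₀})ᶜ, (hO.preimage f.continuous).inter isClosed_closure.isOpen_compl⟩
      ⟨show f m ∈ O from hfm ▸ hgO, hmnot⟩
    obtain ⟨z, hz, hfz⟩ := hsub ⟨hxW.1, trivial⟩
    refine hxW.2 (hwhole m₀ hm₀ (f x) ?_ ⟨z, hfz, hz⟩ rfl)
    obtain ⟨t, -, hD⟩ := EquidimPt.exists_dimOver_eq k f qY x
    rw [(EquidimPt.dimOver_eq_zero_iff k (f ≫ qY) x).2 hx] at hD
    exact (EquidimPt.dimOver_eq_zero_iff k qY (f x)).1 (by omega)
  · obtain ⟨m, hm, rfl⟩ := FlatOpen.EquiDim.exists_max_closure_eq hZ
    refine ⟨fun y hy h => hwhole m hm y hy h, ?_⟩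
    rw [closure_image_closure f.continuous, Set.image_singleton, EquidimPt.topDim_closure_eq k (f ≫ qY),
      EquidimPt.topDim_closure_eq k qY, (EquidimPt.component_dim k f qY d hirr hdim hm).1, Nat.cast_add,
      add_comm]

end Groth.Agent.S14378
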