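import Groth.Statements.S14369
import Groth.Agent.EquidimPt.FieldBase
import Groth.Agent.S14378
-- import your own Groth.Agent.* helpers here

set_option autoImplicit false
universe u
open CategoryTheory CategoryTheory.Limits AlgebraicGeometry
open Variety

namespace Groth.Agent.S14369

open AlgebraicGeometry CategoryTheory Groth.Agent

/-- Let k be an algebraically closed field, X and Y schemes of finite type over k with Y irreducible,
and f : X → Y a k-morphism whose underlying continuous map is closed. Suppose that for some natural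
number d the fibre of f over every closed point y of Y (the subspace of points mapping to y) is
irreducible of dimension d. Then X is irreducible and dim X = d + dim Y. (The published statement is
for varieties, i.e. reduced separated schemes; this row assumes neither.) -/
theorem result (k : Type u) [Field k] [IsAlgClosed k]
    {X Y : Scheme.{u}} (qX : X ⟶ Spec (CommRingCat.of k)) (qY : Y ⟶ Spec (CommRingCat.of k))
    [LocallyOfFiniteType qX] [QuasiCompact qX] [LocallyOfFiniteType qY] [QuasiCompact qY]
    (f : X ⟶ Y) (hf : f ≫ qY = qX) [IrreducibleSpace ↥Y] (hcl : IsClosedMap f.base) (d : ℕ)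
    (hirr : ∀ y : ↥Y, IsClosed ({y} : Set ↥Y) → IsIrreducible (f.base ⁻¹' {y}))
    (hdim : ∀ y : ↥Y, IsClosed ({y} : Set ↥Y) → topologicalKrullDim ↥(f.base ⁻¹' {y}) = d) :
    IrreducibleSpace ↥X ∧ topologicalKrullDim ↥X = d + topologicalKrullDim ↥Y := by
  subst hf
  haveI : LocallyOfFiniteType f := locallyOfFiniteType_of_comp f qY
  haveI : QuasiCompact f := EquidimPt.quasiCompact_of_field k f (f ≫ qY)
  haveI : IsLocallyNoetherian X := LocallyOfFiniteType.isLocallyNoetherian (f ≫ qY)
  haveI : IsLocallyNoetherian Y := LocallyOfFiniteType.isLocallyNoetherian qY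
  haveI : CompactSpace X := QuasiCompact.compactSpace_of_compactSpace (f ≫ qY)
  haveI : CompactSpace Y := QuasiCompact.compactSpace_of_compactSpace qY
  haveI : IsNoetherian X := ⟨⟩
  haveI : IsNoetherian Y := ⟨⟩
  have hgenmax : FlatOpen.EquiDim.Max (genericPoint Y) := fun z hz =>
    (hz.antisymm (genericPoint_specializes z)).eq
  obtain ⟨m₀, hm₀, hfm₀⟩ := EquidimPt.exists_dominant k f qY d hirr hdim
  obtain ⟨-, hall⟩ := S14378.result k (f ≫ qY) qY f rfl d hirr hdim
  have huniv : closure ({m₀} : Set X) = Set.univ := by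
    refine Set.eq_univ_of_forall fun w => ?_
    by_contra hw
    obtain ⟨x, -, hxW, hx⟩ := EquidimPt.exists_closed_specialization k (f ≫ qY) w
      ⟨(closure {m₀})ᶜ, isClosed_closure.isOpen_compl⟩ hw
    have himg : f.base '' closure {m₀} = Set.univ := by
      refine Set.eq_univ_of_univ_subset ?_
      rw [← (hcl _ isClosed_closure).closure_eq, closure_image_closure f.continuous, Set.image_singleton, hfm₀]
      exact (genericPoint_spec Y).symm.subset
    obtain ⟨z, hz, hfz⟩ := himg.ge (Set.mem_univ (f x))
    obtain ⟨t, -, hD⟩ := EquidimPt.exists_dimOver_eq k f qY x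
    rw [(EquidimPt.dimOver_eq_zero_iff k (f ≫ qY) x).2 hx] at hD
    exact hxW ((hall _ (FlatOpen.EquiDim.closure_mem_irreducibleComponents hm₀)).1 (f x)
      ((EquidimPt.dimOver_eq_zero_iff k qY (f x)).1 (by omega)) ⟨z, hfz, hz⟩ rfl)
  have hgen : ∀ z : X, m₀ ⤳ z := fun z => specializes_iff_mem_closure.2 (huniv.ge trivial)
  haveI hXi : IrreducibleSpace X :=
    (irreducibleSpace_def _).mpr (by
      show IsIrreducible (Set.univ : Set X)
      rw [← huniv]
      exact isIrreducible_singleton.closure)
  refine ⟨hXi, ?_⟩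
  have hX : topologicalKrullDim X = EquidimPt.dimOver k (f ≫ qY) m₀ := by
    rw [EquidimPt.topDim_eq_iSup k (f ≫ qY)]
    exact le_antisymm (iSup_le fun z => Nat.cast_le.2 (EquidimPt.dimOver_le k (f ≫ qY) (hgen z)))
      (le_iSup (fun z : X => (EquidimPt.dimOver k (f ≫ qY) z : WithBot ℕ∞)) m₀)
  have hY : topologicalKrullDim Y = EquidimPt.dimOver k qY (genericPoint Y) := by
    rw [EquidimPt.topDim_eq_iSup k qY]
    exact le_antisymm (iSup_le fun z => Nat.cast_le.2 (EquidimPt.dimOver_le k qY (genericPoint_specializes z)))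
      (le_iSup (fun z : Y => (EquidimPt.dimOver k qY z : WithBot ℕ∞)) (genericPoint Y))
  rw [hX, hY, (EquidimPt.component_dim k f qY d hirr hdim hm₀).1, hfm₀, Nat.cast_add, add_comm]

end Groth.Agent.S14369
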