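import Groth.Statements.S1437
import Groth.Agent.Wt.AffStrat
import Mathlib.AlgebraicGeometry.Noetherian
import Mathlib.Topology.KrullDimension

set_option autoImplicit false
set_option linter.style.haveILetI false
universe u
open FlatMor

namespace Groth.Agent.S1437

open AlgebraicGeometry CategoryTheory Limits TopologicalSpace in
/-- A dense affine open with affine inclusion, containing all generic points. -/
theorem exists_dense_affine (X : Scheme.{u}) [IsNoetherian X] :
    ∃ U : X.Opens, IsAffineOpen U ∧ IsAffineHom U.ι ∧ genericPoints X ⊆ (U : Set X) := by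
  classical
  have hfin : (irreducibleComponents X).Finite := finite_irreducibleComponents_of_isNoetherian
  haveI : Finite (genericPoints X) := (genericPoints.finite hfin).to_subtype
  obtain ⟨κ, hκ, V, hV, hcov⟩ : ∃ (κ : Type u) (_ : Finite κ) (V : κ → X.Opens),
      (∀ i, IsAffineOpen (V i)) ∧ ∀ x, ∃ i, x ∈ V i := by
    let C := X.affineCover.finiteSubcover
    exact ⟨C.I₀, inferInstance, fun i => (C.f i).opensRange,
      fun i => isAffineOpen_opensRange _, fun x => ⟨C.idx x, C.covers x⟩⟩
  have hO : ∀ η : genericPoints X, ∃ W : X.Opens, IsAffineOpen W ∧ η.1 ∈ W ∧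
      (∀ i, η.1 ∈ V i → W ≤ V i) ∧
      ∀ C ∈ irreducibleComponents X, ((W : Set X) ∩ C).Nonempty → C = closure {η.1} := by
    intro η
    let S : Set (Set X) := irreducibleComponents X \ {closure {η.1}}
    have hS : IsClosed (⋃₀ S) :=
      by rw [Set.sUnion_eq_biUnion]
         exact (hfin.subset Set.sdiff_subset).isClosed_biUnion
           fun C hC => isClosed_of_mem_irreducibleComponents C hC.1
    let O : Set X := (⋃₀ S)ᶜ ∩ ⋂ i : {i // η.1 ∈ V i}, (V i.1 : Set X)
    have hOo : IsOpen O := hS.isOpen_compl.inter (isOpen_iInter_of_finite fun i => (V i.1).2)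
    have hηO : η.1 ∈ O := by
      refine ⟨fun ⟨C, hC, hη⟩ => hC.2 ?_, Set.mem_iInter.mpr fun i => i.2⟩
      have hle : closure {η.1} ⊆ C :=
        closure_minimal (Set.singleton_subset_iff.mpr hη) (isClosed_of_mem_irreducibleComponents C hC.1)
      exact le_antisymm (η.2.2 hC.1.1 hle) hle
    obtain ⟨W, hW, hηW, hWO⟩ := exists_isAffineOpen_mem_and_subset (U := ⟨O, hOo⟩) hηO
    refine ⟨W, hW, hηW, fun i hi x hx => Set.mem_iInter.mp (hWO hx).2 ⟨i, hi⟩,
      fun C hC ⟨x, hxW, hxC⟩ => ?_⟩
    by_contra hne
    exact (hWO hxW).1 ⟨C, ⟨hC, hne⟩, hxC⟩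
  choose W hW hηW hWV hWC using hO
  have hmem : ∀ (η : genericPoints X) (x : X), x ∈ W η → x ∈ closure {η.1} := fun η x hx =>
    hWC η _ (irreducibleComponent_mem_irreducibleComponents x) ⟨x, hx, mem_irreducibleComponent⟩
      ▸ mem_irreducibleComponent
  have hdis : Pairwise (fun η η' : genericPoints X => Disjoint (W η) (W η')) := by
    intro η η' hne
    rw [disjoint_iff_inf_le]
    intro x hx
    refine hne (genericPoints.component_injective (Subtype.ext ?_))
    exact (hWC η _ (irreducibleComponent_mem_irreducibleComponents x)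
      ⟨x, hx.1, mem_irreducibleComponent⟩).symm.trans (hWC η' _
      (irreducibleComponent_mem_irreducibleComponents x) ⟨x, hx.2, mem_irreducibleComponent⟩)
  refine ⟨iSup W, IsAffineOpen.iSup_of_disjoint hW hdis, ?_, fun η hη =>
    Opens.mem_iSup.mpr ⟨⟨η, hη⟩, hηW ⟨η, hη⟩⟩⟩
  refine isAffineHom_of_forall_exists_isAffineOpen _ fun x => ?_
  obtain ⟨i, hi⟩ := hcov x
  refine ⟨V i, hi, hV i, ?_⟩
  have hVW : ∀ η : {η : genericPoints X // η.1 ∈ V i}, W η.1 ≤ V i := fun η => hWV _ i η.2
  have key : iSup W ⊓ V i = ⨆ η : {η : genericPoints X // η.1 ∈ V i}, W η.1 := by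
    refine le_antisymm ?_ (iSup_le fun η => le_inf (le_iSup W η.1) (hVW η))
    rintro y ⟨hy, hyV⟩
    obtain ⟨η, hη⟩ := Opens.mem_iSup.mp hy
    refine Opens.mem_iSup.mpr ⟨⟨η, ?_⟩, hη⟩
    exact (IsGenericPoint.specializes (isGenericPoint_closure (x := η.1)) (hmem η y hη)).mem_open
      (V i).2 hyV
  have hA : IsAffineOpen (iSup W ⊓ V i) := by
    rw [key]
    exact IsAffineOpen.iSup_of_disjoint (fun η => hW η.1) fun a b hab =>
      hdis fun h => hab (Subtype.ext h)
  have h2 : (iSup W).ι ''ᵁ ((iSup W).ι ⁻¹ᵁ V i) = iSup W ⊓ V i := by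
    rw [Scheme.Hom.image_preimage_eq_opensRange_inf, Scheme.Opens.opensRange_ι]
  rw [← h2] at hA
  exact (iSup W).ι.isAffineOpen_iff_of_isOpenImmersion.mp hA

open AlgebraicGeometry CategoryTheory Limits TopologicalSpace Order in
/-- The induction. -/
theorem strat : ∀ (d : ℕ) (X : Scheme.{u}), IsNoetherian X → topologicalKrullDim X ≤ d →
    MoreMor.HasAffineStratification X d := by
  intro d
  induction d with
  | zero =>
    intro X _ hd
    obtain ⟨U, hU, hj, hgen⟩ := exists_dense_affine X
    have htop : (U : Set X) = Set.univ := by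
      refine Set.eq_univ_of_forall fun x => ?_
      obtain ⟨η, hη⟩ := genericPoints.component_surjective
        ⟨irreducibleComponent x, irreducibleComponent_mem_irreducibleComponents x⟩
      have hη' : closure {η.1} = irreducibleComponent x := congrArg Subtype.val hη
      let a : IrreducibleCloseds X := ⟨closure {x}, isIrreducible_singleton.closure, isClosed_closure⟩
      let b : IrreducibleCloseds X := ⟨closure {η.1}, isIrreducible_singleton.closure, isClosed_closure⟩
      have hab : a ≤ b := closure_minimal (Set.singleton_subset_iff.mpr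
        (hη' ▸ mem_irreducibleComponent : x ∈ closure {η.1})) isClosed_closure
      have := (krullDim_nonpos_iff_forall_isMax.mp hd a) hab
      have hx : closure {x} = closure {η.1} := le_antisymm hab this
      have : x = η.1 := by
        refine IsGenericPoint.eq (S := closure {η.1}) ?_ isGenericPoint_closure
        exact hx
      rw [this]
      exact hgen η.2
    refine ⟨fun _ => 0, fun i => by simpa using isClosed_univ, fun i => ⟨U, U.ι, inferInstance, hU, hj, ?_⟩⟩
    rw [Scheme.Opens.range_ι, htop, Fin.eq_zero i]
    simp
  | succ d ih =>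
    intro X _ hd
    classical
    obtain ⟨U, hU, hj, hgen⟩ := exists_dense_affine X
    let I := Scheme.IdealSheafData.vanishingIdeal ⟨(U : Set X)ᶜ, U.2.isClosed_compl⟩
    let i := I.subschemeι
    have hri : Set.range i = (U : Set X)ᶜ := by
      rw [Scheme.IdealSheafData.range_subschemeι, Scheme.IdealSheafData.coe_support_vanishingIdeal]
      rfl
    haveI : IsLocallyNoetherian I.subscheme := LocallyOfFiniteType.isLocallyNoetherian i
    haveI : CompactSpace I.subscheme := i.isClosedEmbedding.compactSpace
    have hdim : topologicalKrullDim I.subscheme ≤ d := by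
      refine iSup_le fun l => ?_
      have hsm := IrreducibleCloseds.map_strictMono_of_isInducing i.isClosedEmbedding.isInducing
      let l' := l.map _ hsm
      obtain ⟨y, hy⟩ := l'.last.2.nonempty
      let z : IrreducibleCloseds X := l'.last
      obtain ⟨C, hC, hzC⟩ := exists_mem_irreducibleComponents_subset_of_isIrreducible _ z.2
      let c : IrreducibleCloseds X := ⟨C, hC.1, isClosed_of_mem_irreducibleComponents C hC⟩
      have hlt : z < c := by
        refine lt_of_le_of_ne hzC fun h => ?_
        let η := genericPoints.ofComponent ⟨C, hC⟩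
        have hηC : η.1 ∈ (c : Set X) := (genericPoints.isGenericPoint_ofComponent ⟨C, hC⟩).mem
        rw [← h] at hηC
        have hsub : (z : Set X) ⊆ (U : Set X)ᶜ := by
          rw [← hri]
          change closure (i '' (l.last : Set I.subscheme)) ⊆ _
          exact closure_minimal (Set.image_subset_range _ _) i.isClosedEmbedding.isClosed_range
        exact hsub hηC (hgen η.2)
      have h := (LTSeries.length_le_krullDim (l'.snoc c hlt)).trans hd
      simp only [RelSeries.snoc_length, l', LTSeries.map_length] at h
      norm_cast at h ⊢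
      omega
    obtain ⟨s', hc', hs'⟩ := ih I.subscheme ⟨⟩ hdim
    have hmem : ∀ x, x ∉ U → ∃ z, i z = x := fun x hx => by
      have : x ∈ Set.range i := by rw [hri]; exact hx
      exact this
    let s : X → Fin (d + 1 + 1) := fun x =>
      if h : x ∈ U then Fin.last (d + 1) else (s' (hmem x h).choose).castSucc
    have hsi : ∀ z, s (i z) = (s' z).castSucc := fun z => by
      have hz : i z ∉ U := by
        have : i z ∈ Set.range i := ⟨z, rfl⟩
        rw [hri] at this
        exact this
      simp only [s, dif_neg hz]
      exact congrArg (fun w => (s' w).castSucc)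
        (i.isClosedEmbedding.injective (hmem _ hz).choose_spec)
    have hsU : ∀ x ∈ U, s x = Fin.last (d + 1) := fun x hx => by simp only [s, dif_pos hx]
    refine ⟨s, fun k => ?_, fun k => ?_⟩
    · induction k using Fin.lastCases with
      | last => simp [Fin.le_last]
      | cast k =>
        have : {x | s x ≤ k.castSucc} = i '' {z | s' z ≤ k} := by
          ext x
          by_cases hx : x ∈ U
          · simp only [Set.mem_ofPred_eq, hsU x hx, Set.mem_image]
            refine ⟨fun h => absurd h (not_le.mpr (Fin.castSucc_lt_last k)), ?_⟩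
            rintro ⟨z, -, rfl⟩
            have : i z ∈ Set.range i := ⟨z, rfl⟩
            rw [hri] at this
            exact absurd hx this
          · obtain ⟨z, rfl⟩ := hmem x hx
            simp [hsi, i.isClosedEmbedding.injective.eq_iff]
        rw [this]
        exact i.isClosedEmbedding.isClosedMap _ (hc' k)
    · induction k using Fin.lastCases with
      | last =>
        refine ⟨U, U.ι, inferInstance, hU, hj, ?_⟩
        rw [Scheme.Opens.range_ι]
        ext x
        by_cases hx : x ∈ U
        · simp [hsU x hx, hx]
        · obtain ⟨z, rfl⟩ := hmem x hx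
          simp [hsi, hx, Fin.castSucc_ne_last]
      | cast k =>
        obtain ⟨T, ι, _, _, _, hr⟩ := hs' k
        refine ⟨T, ι ≫ i, inferInstance, ‹_›, inferInstance, ?_⟩
        ext x
        by_cases hx : x ∈ U
        · simp only [Set.mem_ofPred_eq, hsU x hx, (Fin.castSucc_ne_last k).symm, iff_false]
          rintro ⟨t, rfl⟩
          have : (ι ≫ i) t ∈ Set.range i := ⟨ι t, rfl⟩
          rw [hri] at this
          exact this hx
        · obtain ⟨z, rfl⟩ := hmem x hx
          simp only [Set.mem_ofPred_eq, hsi, Fin.castSucc_inj]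
          rw [show s' z = k ↔ z ∈ Set.range ι by rw [hr]; rfl]
          constructor
          · rintro ⟨t, ht⟩
            exact ⟨t, i.isClosedEmbedding.injective ht⟩
          · rintro ⟨t, rfl⟩
            exact ⟨t, rfl⟩

open AlgebraicGeometry CategoryTheory Limits in
/-- A Noetherian scheme of finite dimension d has affine stratification number at most d: it admits an
affine stratification with index set {0, …, d}. -/
theorem result (X : Scheme.{u}) [IsNoetherian X] (d : ℕ) (hd : topologicalKrullDim ↑X = d) :
    MoreMor.HasAffineStratification X d := by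
  exact strat d X inferInstance hd.le

end Groth.Agent.S1437
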