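import Groth.Statements.S14371
import Groth.Agent.RegLoc.Basic
import Mathlib
-- import your own Groth.Agent.* helpers here

set_option autoImplicit false
universe u
open CAlg

namespace Groth.Agent.S14371

/-- Let R be a regular local ring of dimension n with maximal ideal m and residue field κ, and I, J
ideals of R such that R/I and R/J are regular local rings of dimensions a and b (two subvarieties
smooth at the point). Suppose the quotient R/(I + J) is local with cotangent space m/(m² + I + J) of
dimension a + b − n over κ (the tangent spaces of the two subvarieties meet in the expected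
dimension, i.e. they intersect transversally at the point). Then R/(I + J) is a regular local ring
of dimension a + b − n; in particular I + J is a prime ideal. (The published statement is about the
local rings of a smooth variety over an algebraically closed field at a point where two smooth
closed subvarieties meet transversally, and also states the resulting equalities of tangent spaces
and of ideals; this row is the local-ring form, for an arbitrary regular local ring.) -/
theorem result {R : Type u} [CommRing R] [IsRegularLocalRing R]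
    (I J : Ideal R) [IsRegularLocalRing (R ⧸ I)] [IsRegularLocalRing (R ⧸ J)] [IsLocalRing (R ⧸ (I ⊔ J))]
    (n a b : ℕ) (hn : ringKrullDim R = n) (ha : ringKrullDim (R ⧸ I) = a) (hb : ringKrullDim (R ⧸ J) = b)
    (ht : Module.finrank (IsLocalRing.ResidueField (R ⧸ (I ⊔ J))) (IsLocalRing.CotangentSpace (R ⧸ (I ⊔ J))) + n = a + b) :
    IsRegularLocalRing (R ⧸ (I ⊔ J)) ∧ ringKrullDim (R ⧸ (I ⊔ J)) = ((a + b - n : ℕ) : WithBot ℕ∞) := by
  obtain ⟨s, t, hsI, hst, hcard⟩ := Groth.Agent.RegLoc.exists_finset_span_eq_of_quotient hn I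
  have hcardspan : ∀ v : Finset R, (Ideal.span (v : Set R)).spanFinrank ≤ v.card := fun v =>
    (Submodule.spanFinrank_span_le_ncard_of_finite (Finset.finite_toSet _)).trans
      (Set.ncard_coe_finset _).le
  obtain ⟨-, e, he, hea, heb⟩ := Groth.Agent.RegLoc.isRegularLocalRing_quotient_of_sup_eq
    (a := s.card) (b := t.card) hn hst (hcardspan s) (hcardspan t) hcard.le
  rw [hsI, ha] at he
  have hea' : a = e := by exact_mod_cast he
  -- the image of `I` in `R ⧸ J`
  have hJm := Groth.Agent.RegLoc.le_maximalIdeal_of_isLocalRing_quotient J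
  have hIm := Groth.Agent.RegLoc.le_maximalIdeal_of_isLocalRing_quotient I
  have hle : I.map (Ideal.Quotient.mk J) ≤ Ring.jacobson (R ⧸ J) := by
    rw [IsLocalRing.ringJacobson_eq_maximalIdeal, Groth.Agent.RegLoc.maximalIdeal_quotient_eq_map]
    exact Ideal.map_mono hIm
  have h1 := ringKrullDim_le_ringKrullDim_quotient_add_spanFinrank (I.map (Ideal.Quotient.mk J)) hle
  have e1 : ((R ⧸ J) ⧸ I.map (Ideal.Quotient.mk J)) ≃+* R ⧸ (I ⊔ J) :=
    (DoubleQuot.quotQuotEquivQuotSup J I).trans (Ideal.quotEquivOfEq (sup_comm J I))
  rw [ringKrullDim_eq_of_ringEquiv e1, hb] at h1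
  obtain ⟨d, hd, hdle⟩ := Groth.Agent.RegLoc.exists_natCast_eq_ringKrullDim (R ⧸ (I ⊔ J))
  rw [hd] at h1
  have h2 : (I.map (Ideal.Quotient.mk J)).spanFinrank ≤ s.card :=
    (Ideal.spanFinrank_map_le_of_fg _ (IsNoetherian.noetherian I)).trans (hsI ▸ hcardspan s)
  have h1' : b ≤ d + (I.map (Ideal.Quotient.mk J)).spanFinrank := by exact_mod_cast h1
  have h3 : d ≤ Module.finrank (IsLocalRing.ResidueField (R ⧸ (I ⊔ J))) (IsLocalRing.CotangentSpace (R ⧸ (I ⊔ J))) := by
    have := ringKrullDim_le_spanFinrank_maximalIdeal (R ⧸ (I ⊔ J))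
    rw [hd, IsLocalRing.spanFinrank_maximalIdeal_eq_finrank_cotangentSpace] at this
    exact_mod_cast this
  have h4 : d = a + b - n := by omega
  refine ⟨IsRegularLocalRing.iff_finrank_cotangentSpace _ |>.mpr ?_, by rw [hd, h4]⟩
  rw [hd]
  exact_mod_cast (by omega : Module.finrank (IsLocalRing.ResidueField (R ⧸ (I ⊔ J))) (IsLocalRing.CotangentSpace (R ⧸ (I ⊔ J))) = d)

end Groth.Agent.S14371
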