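import Groth.Statements.S14373
import Groth.Agent.GenericFibre.Sing

set_option autoImplicit false
universe u
open Fano

namespace Groth.Agent.S14373

open MvPolynomial GenericFibre

/-- the coordinate subspace of the first `r` coordinates -/
def first (n r : ℕ) : Set (Fin (n + 1)) := {l | (l : ℕ) < r}

/-- monomials outside the coordinate subspace -/
abbrev WMon (n d r : ℕ) : Type := {m : Mon n d // ¬ ∀ l ∈ m.1.support, (l : ℕ) < r}

lemma not_supported {n d r : ℕ} (m : WMon n d r) :
    ∃ l ∈ m.1.1.support, r ≤ (l : ℕ) := by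
  by_contra h
  push Not at h
  exact m.2 h

/-- monomials which vanish at a singular coordinate point -/
noncomputable def singMon {n d : ℕ} (hd : 1 ≤ d) (j l : Fin (n + 1)) : Mon n d :=
  ⟨Finsupp.single j (d - 1) + Finsupp.single l 1,
    by rw [map_add, Finsupp.degree_single, Finsupp.degree_single]; omega⟩

lemma singMon_injective {n d : ℕ} (hd : 1 ≤ d) (j : Fin (n + 1)) :
    Function.Injective (singMon hd j) := fun a b h => by
  have h' := add_left_cancel (congrArg Subtype.val h)
  exact Finsupp.single_left_injective one_ne_zero h'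

/-- parameters of a point in the chart `v j = 1` -/
abbrev PtVar (n r : ℕ) (j : Fin (n + 1)) : Type :=
  {l : Fin (n + 1) // l ≠ j ∧ ((j : ℕ) < r → (l : ℕ) < r)}

/-- conditions at the coordinate point -/
abbrev Cond (n r : ℕ) (j : Fin (n + 1)) : Type :=
  {l : Fin (n + 1) // (j : ℕ) < r → r ≤ (l : ℕ)}

lemma card_pt_lt {n r : ℕ} (hr : 2 * r ≤ n + 1) (j : Fin (n + 1)) :
    Fintype.card (PtVar n r j) < Fintype.card (Cond n r j) := by
  classical
  by_cases hj : (j : ℕ) < r
  · have h1 : Fintype.card (PtVar n r j) < r := by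
      have : Function.Injective (fun l : PtVar n r j =>
          (⟨⟨l.1.1, l.2.2 hj⟩, fun h => l.2.1 (Fin.ext (congrArg Fin.val h :))⟩ :
            {i : Fin r // i ≠ ⟨j, hj⟩})) :=
        fun a b h => Subtype.ext (Fin.ext (congrArg (fun x => x.1.1) h :))
      have h := Fintype.card_le_of_injective _ this
      rw [Fintype.card_subtype_compl, Fintype.card_fin, Fintype.card_subtype_eq] at h
      omega
    have h2 : n + 1 - r ≤ Fintype.card (Cond n r j) := by
      have : Function.Injective (fun i : Fin (n + 1 - r) =>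
          (⟨⟨r + i.1, by omega⟩, fun _ => Nat.le_add_right _ _⟩ : Cond n r j)) :=
        fun a b h => Fin.ext (Nat.add_left_cancel (congrArg (fun x => x.1.1) h :))
      simpa using Fintype.card_le_of_injective _ this
    omega
  · have h1 : Fintype.card (PtVar n r j) ≤ n := by
      have := Fintype.card_le_of_injective (fun l : PtVar n r j =>
        (⟨l.1, l.2.1⟩ : {i : Fin (n + 1) // i ≠ j})) (fun a b h => by simpa [Subtype.ext_iff] using h)
      rw [Fintype.card_subtype_compl, Fintype.card_fin, Fintype.card_subtype_eq] at this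
      omega
    have h2 : Fintype.card (Cond n r j) = n + 1 := by
      rw [Fintype.card_subtype, Finset.filter_true_of_mem fun l _ h => absurd h hj]
      simp
    omega

/-- the condition monomials lie among the monomials of `W` -/
noncomputable def condMon {n d r : ℕ} (hd : 2 ≤ d) (j : Fin (n + 1)) (l : Cond n r j) : WMon n d r :=
  ⟨singMon (by omega) j l.1, fun h => by
    by_cases hj : (j : ℕ) < r
    · have := h l.1 (by simp [singMon])
      have := l.2 hj
      omega
    · exact hj (h j (by simp [singMon]; omega))⟩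

/-- free coefficients -/
abbrev FreeVar (n d r : ℕ) (hd : 2 ≤ d) (j : Fin (n + 1)) : Type :=
  {m : WMon n d r // m ∉ Set.range (condMon hd j)}

lemma card_param {n d r : ℕ} (hd : 2 ≤ d) (hr : 2 * r ≤ n + 1) (j : Fin (n + 1)) :
    Fintype.card (PtVar n r j ⊕ FreeVar n d r hd j) < Fintype.card (WMon n d r) := by
  classical
  have hinj : Function.Injective (condMon (r := r) (d := d) hd j) := fun a b h =>
    Subtype.ext (singMon_injective (by omega) j (congrArg Subtype.val h))
  have h1 := Set.card_range_of_injective hinj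
  have h2 := Fintype.card_subtype_compl (fun m : WMon n d r => m ∈ Set.range (condMon hd j))
  have h3 := Fintype.card_subtype_le (fun m : WMon n d r => m ∈ Set.range (condMon hd j))
  have h4 := card_pt_lt hr j
  have e : Fintype.card {m : WMon n d r // m ∈ Set.range (condMon hd j)} = Fintype.card (Cond n r j) :=
    (Fintype.card_congr (Equiv.refl _)).trans h1
  rw [e] at h2 h3
  rw [Fintype.card_sum]
  have e2 : Fintype.card (FreeVar n d r hd j) =
      Fintype.card {m : WMon n d r // ¬ m ∈ Set.range (condMon hd j)} :=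
    Fintype.card_congr (Equiv.refl _)
  omega

variable {k : Type u} [Field k] [Infinite k] {n d r : ℕ}

/-- the universal singular form -/
noncomputable def family (k : Type u) [Field k] {n d r : ℕ} (hd : 2 ≤ d) (j : Fin (n + 1)) :
    MvPolynomial (Fin (n + 1)) (MvPolynomial (PtVar n r j ⊕ FreeVar n d r hd j) k) :=
  aeval (chartLin (fun _ : Fin 1 => j) fun _ o =>
      if h : o.1 ≠ j ∧ ((j : ℕ) < r → (o.1 : ℕ) < r) then
        (X (Sum.inl ⟨o.1, h⟩) : MvPolynomial (PtVar n r j ⊕ FreeVar n d r hd j) k) else 0)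
    (∑ m : FreeVar n d r hd j,
      monomial m.1.1.1 (X (Sum.inr m) : MvPolynomial (PtVar n r j ⊕ FreeVar n d r hd j) k))

lemma mem_family (hd : 2 ≤ d) (G : MvPolynomial (Fin (n + 1)) k) (hG : G.IsHomogeneous d)
    (hG0 : ∀ x : Fin (n + 1) → k, (∀ l, l ∉ first n r → x l = 0) → eval x G = 0)
    (j : Fin (n + 1)) (v : Fin (n + 1) → k) (hvj : v j = 1)
    (hvU : (j : ℕ) < r → ∀ l : Fin (n + 1), ¬ (l : ℕ) < r → v l = 0) (hv : SingAt G v) :
    ∃ z : PtVar n r j ⊕ FreeVar n d r hd j → k, map (eval z) (family k hd j) = G := by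
  classical
  let s : Fin 1 → Fin (n + 1) := fun _ => j
  let A : Fin 1 → Out s → k := fun _ o => v o.1
  have hpt : ∀ x, chartPt s A x = fun l => x l + if l = j then 0 else v l * x j := fun x => by
    funext l
    by_cases h : l = j
    · simp [chartPt, s, h]
    · simp [chartPt, s, A, h, Ne.symm h]
  let F := aeval (chartLin s A) G
  have hF : F.IsHomogeneous d := by
    have h := hG.aeval (g := chartLin s A) (n := 1) (isHomogeneous_chartLin s A)
    rwa [one_mul] at h
  have hF0 : ∀ x : Fin (n + 1) → k, (∀ l, l ∉ first n r → x l = 0) → eval x F = 0 := by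
    intro x hx
    rw [eval_chartLin, hpt]
    refine hG0 _ fun l hl => ?_
    change ¬ (l : ℕ) < r at hl
    by_cases hj : (j : ℕ) < r
    · simp [hx l hl, hvU hj l hl]
    · simp [hx l hl, hx j hj]
  have hvpt : chartPt s A (Pi.single j 1) = v := by
    rw [hpt]; funext l
    by_cases h : l = j
    · simp [h, hvj]
    · simp [h]
  have hsing : SingAt F (Pi.single j 1) := by
    refine ⟨by rw [eval_chartLin, hvpt]; exact hv.1, fun i => ?_⟩
    rw [pderiv_aeval, map_sum]
    refine Finset.sum_eq_zero fun l _ => ?_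
    rw [map_mul, eval_chartLin, hvpt, hv.2 l, zero_mul]
  let zA : PtVar n r j → k := fun l => -v l.1
  refine ⟨Sum.elim zA (fun m => coeff m.1.1.1 F), ?_⟩
  rw [family, map_aeval_eq, map_sum]
  simp only [map_monomial, eval_X, Sum.elim_inr, map_chartLin]
  have hsum : (∑ m : FreeVar n d r hd j, monomial m.1.1.1 (coeff m.1.1.1 F)) = F := by
    conv_rhs => rw [eq_sum_monomial hF]
    rw [← Fintype.sum_subtype_add_sum_subtype (fun m : Mon n d => ∀ l ∈ m.1.support, (l : ℕ) < r)
      (fun m => monomial m.1 (coeff m.1 F)),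
      Finset.sum_eq_zero (fun (m : {m : Mon n d // ∀ l ∈ m.1.support, (l : ℕ) < r}) _ => by
        rw [coeff_eq_zero_of_vanish (first n r) hF0 m.1.1 m.2, monomial_zero]), zero_add,
      ← Fintype.sum_subtype_add_sum_subtype (fun m : WMon n d r => m ∈ Set.range (condMon hd j))
        (fun m => monomial m.1.1 (coeff m.1.1 F)),
      Finset.sum_eq_zero (fun (m : {m : WMon n d r // m ∈ Set.range (condMon hd j)}) _ => by
        obtain ⟨l, hl⟩ := m.2
        rw [← hl]
        simp only [condMon, singMon]
        rw [coeff_eq_zero_of_singAt hF (by omega) hsing, monomial_zero]), zero_add]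
  rw [hsum]
  apply MvPolynomial.funext
  intro x
  rw [eval_chartLin, eval_chartLin]
  congr 2
  funext l
  by_cases hl : l = j
  · subst hl; simp [chartPt, s, hpt]
  · rw [hpt]
    simp only [if_neg hl]
    by_cases hc : (j : ℕ) < r → (l : ℕ) < r
    · simp [chartPt, s, hl, Ne.symm hl, zA]
      rw [dif_pos hc, eval_X, Sum.elim_inl]
      ring
    · obtain ⟨h1, h2⟩ := _root_.not_imp.1 hc
      simp [chartPt, s, hl, Ne.symm hl, hc, hvU h1 l h2]


/-- Over an algebraically closed field k of arbitrary characteristic, let d ≥ 2 and let U be a linear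
subspace of k^(n+1) with 2 · dim U ≤ n + 1 (an r-plane P(U) in P^n with r ≤ (n − 1)/2). Let W be the
linear space of degree-d forms in n + 1 variables vanishing on U (hypersurfaces of degree d
containing P(U)). Then a general member G of W defines a smooth hypersurface: for G outside the zero
set of some nonzero polynomial function on W, at every nonzero vector where G vanishes some partial
derivative of G is nonzero. -/
theorem result (k : Type u) [Field k] [IsAlgClosed k]
    (n d : ℕ) (hd : 2 ≤ d) (U : Submodule k (Fin (n + 1) → k)) (hU : 2 * Module.finrank k ↥U ≤ n + 1)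
    (W : Submodule k (LefPen.Form n k d)) (hW : ∀ G : LefPen.Form n k d, G ∈ W ↔ ∀ u ∈ U, MvPolynomial.eval u G.1 = 0) :
    LefPen.IsGeneric k {G : ↥W | ∀ v : Fin (n + 1) → k, v ≠ 0 → MvPolynomial.eval v G.1.1 = 0 →
      ∃ i : Fin (n + 1), MvPolynomial.eval v (MvPolynomial.pderiv i G.1.1) ≠ 0} := by
  classical
  obtain ⟨T, hT⟩ := GenericFibre.exists_adapted U
  set r := Module.finrank k U with hr
  have hTU : ∀ x : Fin (n + 1) → k, (∀ l, l ∉ first n r → x l = 0) → T x ∈ U :=
    fun x hx => (hT x).2 fun l hl => hx l (by simp [first]; omega)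
  let toC : ↥W →ₗ[k] (WMon n d r → k) :=
    { toFun := fun G m => MvPolynomial.coeff m.1.1
        (MvPolynomial.aeval (GenericFibre.linSub T.toLinearMap) G.1.1)
      map_add' := fun G H => by funext m; simp
      map_smul' := fun t G => by funext m; simp }
  have hsum : ∀ F : MvPolynomial (Fin (n + 1)) k, F.IsHomogeneous d →
      (∀ x : Fin (n + 1) → k, (∀ l, l ∉ first n r → x l = 0) → MvPolynomial.eval x F = 0) →
      F = ∑ m : WMon n d r, MvPolynomial.monomial m.1.1 (MvPolynomial.coeff m.1.1 F) := by
    intro F hF hF0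
    conv_lhs => rw [GenericFibre.eq_sum_monomial hF]
    rw [← Fintype.sum_subtype_add_sum_subtype
      (fun m : GenericFibre.Mon n d => ∀ l ∈ m.1.support, (l : ℕ) < r)
      (fun m => MvPolynomial.monomial m.1 (MvPolynomial.coeff m.1 F)),
      Finset.sum_eq_zero (fun (m : {m : GenericFibre.Mon n d // ∀ l ∈ m.1.support, (l : ℕ) < r}) _ => by
        rw [GenericFibre.coeff_eq_zero_of_vanish (first n r) hF0 m.1.1 m.2, MvPolynomial.monomial_zero]),
      zero_add]
  have hback : ∀ G : ↥W, MvPolynomial.aeval (GenericFibre.linSub T.toLinearMap) G.1.1 =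
      ∑ m : WMon n d r, MvPolynomial.monomial m.1.1 (toC G m) := fun G =>
    hsum _ (GenericFibre.isHomogeneous_linSub _ ((MvPolynomial.mem_homogeneousSubmodule d _).1 G.1.2))
      fun x hx => by
        rw [GenericFibre.eval_aeval_linSub]
        exact (hW G.1).1 G.2 _ (hTU x hx)
  have hinj : Function.Injective toC := by
    intro G H h
    have e := hback G
    rw [h, ← hback H] at e
    refine Subtype.ext (Subtype.ext (MvPolynomial.funext fun x => ?_))
    have := congrArg (MvPolynomial.eval (T.symm x)) e
    rw [GenericFibre.eval_aeval_linSub, GenericFibre.eval_aeval_linSub] at this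
    simpa using this
  have hsurj : Function.Surjective toC := by
    intro c
    let P := ∑ m : WMon n d r, MvPolynomial.monomial m.1.1 (c m)
    have hP : P.IsHomogeneous d :=
      MvPolynomial.IsHomogeneous.sum _ _ _ fun m _ => MvPolynomial.isHomogeneous_monomial _ m.1.2
    let G₀ : LefPen.Form n k d := ⟨MvPolynomial.aeval (GenericFibre.linSub T.symm.toLinearMap) P,
      (MvPolynomial.mem_homogeneousSubmodule d _).2 (GenericFibre.isHomogeneous_linSub _ hP)⟩
    have hG₀ : G₀ ∈ W := (hW G₀).2 fun u hu => by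
      have hz : ∀ l : Fin (n + 1), r ≤ (l : ℕ) → T.symm u l = 0 := (hT _).1 (by simpa using hu)
      simp only [G₀, GenericFibre.eval_aeval_linSub, P, map_sum]
      refine Finset.sum_eq_zero fun m _ => ?_
      obtain ⟨l, hl, hlr⟩ := not_supported m
      rw [MvPolynomial.eval_monomial]
      refine mul_eq_zero_of_right _ (Finset.prod_eq_zero hl ?_)
      change (T.symm u l) ^ _ = 0
      rw [hz l hlr]
      exact zero_pow (Finsupp.mem_support_iff.1 hl)
    refine ⟨⟨G₀, hG₀⟩, funext fun m => ?_⟩
    have e : MvPolynomial.aeval (GenericFibre.linSub T.toLinearMap) G₀.1 = P :=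
      MvPolynomial.funext fun x => by
        simp only [G₀, GenericFibre.eval_aeval_linSub]
        simp
    change MvPolynomial.coeff m.1.1 (MvPolynomial.aeval (GenericFibre.linSub T.toLinearMap) G₀.1) = c m
    rw [e, MvPolynomial.coeff_sum, Finset.sum_eq_single m]
    · simp
    · intro b _ hb
      rw [MvPolynomial.coeff_monomial, if_neg fun h => hb (Subtype.ext (Subtype.ext h))]
    · simp
  let e : ↥W ≃ₗ[k] (WMon n d r → k) := LinearEquiv.ofBijective toC ⟨hinj, hsurj⟩
  have key : ∀ j : Fin (n + 1), ∃ Q : MvPolynomial (WMon n d r) k, Q ≠ 0 ∧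
      ∀ z : PtVar n r j ⊕ FreeVar n d r hd j → k,
        MvPolynomial.eval (fun m => MvPolynomial.eval z (MvPolynomial.coeff m.1.1 (family k hd j))) Q = 0 :=
    fun j => GenericFibre.exists_relation _ (by
      have := card_param (n := n) (d := d) hd hU j
      convert this using 2)
  choose Q hQ hQz using key
  refine GenericFibre.isGeneric_of_poly e (Finset.prod_ne_zero_iff.2 fun j (_ : j ∈ Finset.univ) => hQ j)
    fun G hG => ?_
  rw [map_prod, Finset.prod_ne_zero_iff] at hG
  intro v hv0 hvG
  by_contra hd0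
  push Not at hd0
  set F := MvPolynomial.aeval (GenericFibre.linSub T.toLinearMap) G.1.1 with hFdef
  have hFh : F.IsHomogeneous d :=
    GenericFibre.isHomogeneous_linSub _ ((MvPolynomial.mem_homogeneousSubmodule d _).1 G.1.2)
  obtain ⟨j, hj0, hjU⟩ : ∃ j, T.symm v j ≠ 0 ∧
      ((j : ℕ) < r → ∀ l : Fin (n + 1), ¬ (l : ℕ) < r → T.symm v l = 0) := by
    by_cases h : ∃ j : Fin (n + 1), r ≤ (j : ℕ) ∧ T.symm v j ≠ 0
    · obtain ⟨j, hj, hj0⟩ := h
      exact ⟨j, hj0, fun h' => by omega⟩
    · push Not at h
      obtain ⟨j, hj⟩ := Function.ne_iff.1 (T.symm.map_ne_zero_iff.2 hv0)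
      exact ⟨j, hj, fun _ l hl => h l (by omega)⟩
  set c := (T.symm v j)⁻¹
  have hs : GenericFibre.SingAt G.1.1 (T (c • T.symm v)) := by
    rw [map_smul, T.apply_symm_apply]
    have hh := (MvPolynomial.mem_homogeneousSubmodule d _).1 G.1.2
    have hsc : ∀ {e : ℕ} {P : MvPolynomial (Fin (n + 1)) k}, P.IsHomogeneous e →
        MvPolynomial.eval v P = 0 → MvPolynomial.eval (c • v) P = 0 := by
      intro e P hP hPv
      rw [MvPolynomial.eval_eq'] at hPv ⊢
      have : ∀ a ∈ P.support, MvPolynomial.coeff a P * ∏ i, (c • v) i ^ a i =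
          c ^ e * (MvPolynomial.coeff a P * ∏ i, v i ^ a i) := by
        intro a ha
        have hdeg : ∑ i, a i = e := by
          rw [← Finsupp.degree_eq_sum]
          by_contra h'
          exact (MvPolynomial.mem_support_iff.1 ha) (hP.coeff_eq_zero h')
        simp only [Pi.smul_apply, smul_eq_mul, mul_pow, Finset.prod_mul_distrib,
          Finset.prod_pow_eq_pow_sum, hdeg]
        ring
      rw [Finset.sum_congr rfl this, ← Finset.mul_sum, hPv, mul_zero]
    exact ⟨hsc hh hvG, fun i => hsc hh.pderiv (hd0 i)⟩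
  obtain ⟨z, hz⟩ := mem_family hd F hFh (fun x hx => by
      rw [hFdef, GenericFibre.eval_aeval_linSub]
      exact (hW G.1).1 G.2 _ (hTU x hx)) j (c • T.symm v)
    (by simp [c, hj0]) (fun h l hl => by simp [hjU h l hl])
    (GenericFibre.singAt_linSub T.toLinearMap hs)
  refine hG j (Finset.mem_univ j) ?_
  have he : e G = fun m => MvPolynomial.eval z (MvPolynomial.coeff m.1.1 (family k hd j)) := by
    funext m
    rw [← MvPolynomial.coeff_map, hz]
    rfl
  rw [he]
  exact hQz j z

end Groth.Agent.S14373
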