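import Groth.Statements.S14374
import Groth.Agent.GenPt.Discriminant

set_option autoImplicit false
universe u
open Fano

namespace Groth.Agent.S14374

/-- Over an algebraically closed field k of arbitrary characteristic, let n ≥ 1 and d ≥ 2, and call a
degree-d form G in n + 1 variables singular when there is a nonzero vector v with G(v) = 0 and all
partial derivatives ∂G/∂x_i(v) = 0 (the hypersurface G = 0 in P^n has a singular point, or G = 0).
Then the singular forms are exactly the zero set of one irreducible polynomial function Δ on the
vector space of degree-d forms: the locus of singular hypersurfaces is an irreducible hypersurface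
in the parameter space. (The published statement concerns the reduced hypersurfaces in the
projective space of degree-d forms, where the singular ones form an irreducible closed subset of
codimension one, and allows every positive degree; for d = 1 no hyperplane is singular, so this row
assumes d ≥ 2, and it is stated on the affine space of all forms.) -/
theorem result (k : Type u) [Field k] [IsAlgClosed k]
    (n d : ℕ) (hn : 1 ≤ n) (hd : 2 ≤ d) :
    ∃ Δ : ↥(Algebra.adjoin k (Set.range (fun l : Module.Dual k (LefPen.Form n k d) => (l : LefPen.Form n k d → k)))),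
      Irreducible Δ ∧ ∀ G : LefPen.Form n k d,
        (∃ v : Fin (n + 1) → k, v ≠ 0 ∧ MvPolynomial.eval v G.1 = 0 ∧
          ∀ i : Fin (n + 1), MvPolynomial.eval v (MvPolynomial.pderiv i G.1) = 0) ↔ Δ.1 G = 0 := by
  classical
  obtain ⟨m, rfl⟩ : ∃ m, n = m + 1 := ⟨n - 1, by omega⟩
  obtain ⟨Δ₀, hirr, hspan⟩ := GenPt.Disc.exists_prime_generator (k := k) (m := m) hd
  let e := GenericFibre.coeffEquiv k (m + 1) d
  let Φ : MvPolynomial (GenericFibre.Mon (m + 1) d) k →+*
      ↥(Algebra.adjoin k (Set.range (fun l : Module.Dual k (LefPen.Form (m + 1) k d) =>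
        (l : LefPen.Form (m + 1) k d → k)))) :=
    { toFun := fun F => ⟨fun v => MvPolynomial.eval (e v) F,
        GenericFibre.isPolyFun_eval (fun i => (LinearMap.proj i).comp e.toLinearMap) F⟩
      map_one' := Subtype.ext (funext fun v => map_one _)
      map_mul' := fun F G => Subtype.ext (funext fun v => map_mul _ _ _)
      map_zero' := Subtype.ext (funext fun v => map_zero _)
      map_add' := fun F G => Subtype.ext (funext fun v => map_add _ _ _) }
  have hbij : Function.Bijective Φ := by
    refine ⟨fun F G hFG => MvPolynomial.funext fun y => ?_, fun f => ?_⟩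
    · have := congrFun (congrArg Subtype.val hFG) (e.symm y)
      simpa [Φ] using this
    · let b : Module.Basis (GenericFibre.Mon (m + 1) d) k (LefPen.Form (m + 1) k d) :=
        Module.Basis.ofEquivFun e
      obtain ⟨F, hF⟩ := GenericFibre.exists_eval_eq b f.2
      refine ⟨F, Subtype.ext (funext fun v => ?_)⟩
      have hb : (fun j => b.repr v j) = e v := funext fun j => by simp [b]
      rw [hF v, hb]
      rfl
  let Ψ := RingEquiv.ofBijective Φ hbij
  refine ⟨Ψ Δ₀, (MulEquiv.irreducible_iff Ψ.toMulEquiv).2 hirr, fun G => ?_⟩
  have hG := (MvPolynomial.mem_homogeneousSubmodule d _).1 G.2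
  have hae : ∀ p : MvPolynomial (GenericFibre.Mon (m + 1) d) k,
      MvPolynomial.aeval (fun q : GenericFibre.Mon (m + 1) d => MvPolynomial.coeff q.1 G.1) p =
        MvPolynomial.eval (e G) p := fun p => by
    rw [MvPolynomial.aeval_def, Algebra.algebraMap_self, MvPolynomial.eval₂_id]
    rfl
  refine (GenPt.Disc.singular_iff (k := k) hd hG).trans ⟨fun h => ?_, fun h p hp => ?_⟩
  · have h1 := h Δ₀ (by rw [hspan]; exact Ideal.subset_span rfl)
    rw [hae] at h1
    exact h1
  · rw [hspan] at hp
    obtain ⟨c, rfl⟩ := Ideal.mem_span_singleton.1 hp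
    rw [hae, map_mul]
    exact mul_eq_zero_of_left h _

end Groth.Agent.S14374
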