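import Groth.Statements.S14375
import Groth.Agent.FBase.BC

set_option autoImplicit false
universe u
open CategoryTheory CategoryTheory.Limits AlgebraicGeometry
open Variety

namespace Groth.Agent.S14375

/-- Let k be an algebraically closed field, F an irreducible scheme of finite type over k, and f : X → Y
a k-morphism of schemes of finite type over k with Y irreducible which is locally trivial with fibre
F: every point of Y has an open neighbourhood V such that f⁻¹(V) is isomorphic over V to V ×_k F.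
Then X is irreducible. (The published statement is for varieties, i.e. reduced separated schemes;
this row assumes neither.) -/
theorem result (k : Type u) [Field k] [IsAlgClosed k]
    {X Y F : Scheme.{u}} (qX : X ⟶ Spec (CommRingCat.of k)) (qY : Y ⟶ Spec (CommRingCat.of k))
    (qF : F ⟶ Spec (CommRingCat.of k))
    [LocallyOfFiniteType qX] [QuasiCompact qX] [LocallyOfFiniteType qY] [QuasiCompact qY]
    [LocallyOfFiniteType qF] [QuasiCompact qF] [IrreducibleSpace ↥F] [IrreducibleSpace ↥Y]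
    (f : X ⟶ Y) (hf : f ≫ qY = qX)
    (htriv : ∀ y : ↥Y, ∃ V : Y.Opens, y ∈ V ∧
      ∃ e : (↑(f ⁻¹ᵁ V) : Scheme.{u}) ≅ pullback (V.ι ≫ qY) qF, e.hom ≫ pullback.fst (V.ι ≫ qY) qF = f ∣_ V) :
    IrreducibleSpace ↥X := by
  have := Groth.Agent.FBase.BC.geometricallyIrreducible_of_isSepClosed (k := k) qF
  have hW : ∀ y : ↥Y, ∃ V : Y.Opens, y ∈ V ∧ IsIrreducible ((f ⁻¹ᵁ V : X.Opens) : Set X) ∧
      Function.Surjective (f ∣_ V).base := fun y => by
    obtain ⟨V, hyV, e, he⟩ := htriv y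
    refine ⟨V, hyV, ?_, ?_⟩
    · have hVirr : IrreducibleSpace (V : Scheme.{u}) :=
        { toPreirreducibleSpace := ⟨by
            rw [← Set.preimage_univ (f := V.ι)]
            exact PreirreducibleSpace.isPreirreducible_univ.preimage V.ι.isOpenEmbedding⟩
          toNonempty := ⟨⟨y, hyV⟩⟩ }
      have hP : IrreducibleSpace ↥(pullback (V.ι ≫ qY) qF) := inferInstance
      have h := (hP.isIrreducible_univ).image (e.inv ≫ (f ⁻¹ᵁ V).ι).base
        (e.inv ≫ (f ⁻¹ᵁ V).ι).continuous.continuousOn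
      rwa [Set.image_univ, Scheme.Hom.comp_base, TopCat.coe_comp, Set.range_comp,
        e.inv.surjective.range_eq, Set.image_univ, Scheme.Opens.range_ι] at h
    · have : Surjective qF := ⟨fun s => by
        obtain ⟨x⟩ := (inferInstance : Nonempty F)
        exact ⟨x, Subsingleton.elim _ _⟩⟩
      rw [← he]
      exact (e.hom ≫ pullback.fst (V.ι ≫ qY) qF).surjective
  choose V hyV hirr hsurj using hW
  have hne : Nonempty X := by
    obtain ⟨y⟩ := (inferInstance : Nonempty Y)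
    obtain ⟨x, -⟩ := hsurj y ⟨y, hyV y⟩
    exact ⟨x.1⟩
  refine { isPreirreducible_univ := ?_, toNonempty := hne }
  rintro A B hA hB ⟨a, -, ha⟩ ⟨b, -, hb⟩
  let Wa : Set X := f ⁻¹ᵁ V (f a)
  let Wb : Set X := f ⁻¹ᵁ V (f b)
  obtain ⟨w, hwa, hwb⟩ : (Wa ∩ Wb).Nonempty := by
    obtain ⟨z, hza, hzb⟩ := nonempty_preirreducible_inter (V (f a)).2 (V (f b)).2 ⟨_, hyV (f a)⟩ ⟨_, hyV (f b)⟩
    obtain ⟨x, hx⟩ := hsurj (f a) ⟨z, hza⟩
    have hxz : f x.1 = z := by
      have := congrArg (V (f a)).ι.base hx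
      rw [← Scheme.Hom.comp_apply, morphismRestrict_ι] at this
      exact this
    exact ⟨x.1, x.2, show f x.1 ∈ V (f b) from hxz ▸ hzb⟩
  obtain ⟨x₁, hx₁, hx₁A, hx₁b⟩ := (hirr (f a)).isPreirreducible A Wb hA (f ⁻¹ᵁ V (f b)).2
    ⟨a, hyV (f a), ha⟩ ⟨w, hwa, hwb⟩
  obtain ⟨x₂, -, hx₂A, hx₂B⟩ := (hirr (f b)).isPreirreducible A B hA hB ⟨x₁, hx₁b, hx₁A⟩ ⟨b, hyV (f b), hb⟩
  exact ⟨x₂, trivial, hx₂A, hx₂B⟩

end Groth.Agent.S14375
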