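import Groth.Prelude.Def_LefPen
import Mathlib.RingTheory.Polynomial.Resultant.Basic
import Mathlib.RingTheory.Polynomial.GaussLemma
import Mathlib.RingTheory.Polynomial.RationalRoot
import Mathlib.RingTheory.Polynomial.UniqueFactorization
import Mathlib.RingTheory.MvPolynomial.Homogeneous
import Mathlib.Algebra.MvPolynomial.PDeriv
import Mathlib.Algebra.MvPolynomial.Funext
import Mathlib.Algebra.MvPolynomial.NoZeroDivisors
import Mathlib.FieldTheory.Perfect
import Mathlib.FieldTheory.Separable
import Mathlib.FieldTheory.IsAlgClosed.Basic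

/-! Squarefree forms: the line criterion and openness. -/

namespace Groth.Agent.SqfreeForms

universe u

open MvPolynomial

variable {k : Type u} [Field k] {n : ℕ}

local notation "R" => MvPolynomial (Fin n) k

theorem totalDegree_pderiv_lt {p : R} {i : Fin n} (h : pderiv i p ≠ 0) :
    (pderiv i p).totalDegree < p.totalDegree := by
  classical
  obtain ⟨d, hd, hmax⟩ := Finset.exists_mem_eq_sup _ (support_nonempty.2 h)
    (fun s : Fin n →₀ ℕ => s.sum fun _ e => e)
  rw [totalDegree, hmax]
  have hd' : d + Finsupp.single i 1 ∈ p.support := by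
    rw [mem_support_iff] at hd ⊢
    rw [coeff_pderiv] at hd
    exact left_ne_zero_of_mul hd
  refine lt_of_lt_of_le ?_ (le_totalDegree hd')
  rw [Finsupp.sum_add_index' (fun _ => rfl) (fun _ _ _ => rfl), Finsupp.sum_single_index rfl]
  omega

theorem exists_pderiv_ne_zero [IsAlgClosed k] {p : R} (hp : Irreducible p) :
    ∃ i, pderiv i p ≠ 0 := by
  classical
  by_contra! h
  obtain ⟨ℓ, hℓ⟩ := CharP.exists k
  have hdvd : ∀ d ∈ p.support, ∀ i, ℓ ∣ d i := by
    intro d hd i
    by_contra hndvd
    have h0 : d i ≠ 0 := fun h0 => hndvd (h0 ▸ dvd_zero ℓ)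
    have := congrArg (coeff (d - Finsupp.single i 1)) (h i)
    rw [coeff_pderiv, tsub_add_cancel_of_le (Finsupp.single_le_iff.2 (Nat.one_le_iff_ne_zero.2 h0)),
      coeff_zero] at this
    rcases mul_eq_zero.1 this with h1 | h1
    · exact mem_support_iff.1 hd h1
    · refine hndvd ((CharP.cast_eq_zero_iff k ℓ _).1 ?_)
      rw [show d i = (d - Finsupp.single i 1 : Fin n →₀ ℕ) i + 1 by simp; omega]
      exact_mod_cast h1
  rcases CharP.char_is_prime_or_zero k ℓ with hℓp | rfl
  · haveI := Fact.mk hℓp
    have hr : ∀ d ∈ p.support, ∃ c : k, c ^ ℓ = p.coeff d := fun d _ =>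
      IsAlgClosed.exists_pow_nat_eq (p.coeff d) hℓp.pos
    choose c hc using hr
    let r : R := ∑ d ∈ p.support.attach,
      monomial (d.1.mapRange (· / ℓ) (Nat.zero_div ℓ)) (c d.1 d.2)
    have : p = r ^ ℓ := by
      conv_lhs => rw [p.as_sum, ← Finset.sum_attach]
      rw [sum_pow_char]
      refine Finset.sum_congr rfl fun d _ => ?_
      rw [monomial_pow, hc]
      rw [show ℓ • d.1.mapRange (· / ℓ) (Nat.zero_div ℓ) = d.1 from
        Finsupp.ext fun i => by simp [Nat.mul_div_cancel' (hdvd d.1 d.2 i)]]
    exact not_irreducible_pow hℓp.ne_one (this ▸ hp)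
  · have : p = C (p.coeff 0) := by
      ext d
      rw [coeff_C]
      split_ifs with h0
      · rw [h0]
      · by_contra hne
        obtain ⟨i, hi⟩ : ∃ i, d i ≠ 0 := by
          by_contra! hall
          exact h0 (Finsupp.ext fun i => (hall i).symm)
        exact hi (zero_dvd_iff.1 (hdvd d (mem_support_iff.2 hne) i))
    rw [this] at hp
    rcases eq_or_ne (p.coeff 0) 0 with h0 | h0
    · exact hp.ne_zero (by rw [h0, map_zero])
    · exact hp.not_isUnit ((isUnit_iff_ne_zero.2 h0).map _)

variable (w : Fin n → k)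

/-- directional derivative -/
noncomputable def D (F : R) : R := ∑ i, C (w i) * pderiv i F

/-- `F ↦ F(x + t w)` -/
noncomputable def shift : R →ₐ[k] Polynomial R :=
  aeval fun i => Polynomial.C (X i) + Polynomial.C (C (w i)) * Polynomial.X

/-- the translation by `t w` on `R[t]` -/
noncomputable def tr : Polynomial R →+* Polynomial R :=
  Polynomial.eval₂RingHom (shift w).toRingHom Polynomial.X

theorem tr_shift (F : R) : tr (-w) (shift w F) = Polynomial.C F := by
  induction F using MvPolynomial.induction_on with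
  | C a => simp [tr, shift]
  | add p q hp hq => simp [map_add, hp, hq]
  | mul_X p i hp =>
    rw [map_mul, map_mul, hp, map_mul]
    congr 1
    simp [tr, shift]
    ring

theorem tr_tr (q : Polynomial R) : tr w (tr (-w) q) = q := by
  induction q using Polynomial.induction_on' with
  | add a b ha hb => simp [ha, hb]
  | monomial m a =>
    have h := tr_shift (-w) a
    rw [neg_neg] at h
    have hX : ∀ v : Fin n → k, tr v Polynomial.X = Polynomial.X := fun v => by simp [tr]
    have hC : tr (-w) (Polynomial.C a) = shift (-w) a := by simp [tr]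
    rw [← Polynomial.C_mul_X_pow_eq_monomial, map_mul, map_mul, map_pow, map_pow, hX, hX, hC, h]

theorem derivative_shift (F : R) :
    Polynomial.derivative (shift w F) = shift w (D w F) := by
  induction F using MvPolynomial.induction_on with
  | C a => simp [shift, D]
  | add p q hp hq => simp [D, Finset.sum_add_distrib, mul_add] at *; simp [hp, hq]
  | mul_X p i hp =>
    classical
    have hD : D w (p * X i) = D w p * X i + p * C (w i) := by
      simp only [D, pderiv_mul, mul_add, Finset.sum_add_distrib, Finset.sum_mul]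
      congr 1
      · exact Finset.sum_congr rfl fun j _ => by ring
      · rw [Finset.sum_eq_single i]
        · simp; ring
        · intro j _ hj; simp [pderiv_X_of_ne (Ne.symm hj)]
        · simp
    rw [hD, map_mul, Polynomial.derivative_mul, hp, map_add, map_mul, map_mul]
    simp [shift]

variable {w}

theorem coeff_shift {d : ℕ} {F : R} (hF : F.IsHomogeneous d) :
    (shift w F).natDegree ≤ d ∧ (shift w F).coeff d = C (eval w F) := by
  classical
  have key : ∀ e : Fin n →₀ ℕ, (shift w (monomial e (1 : k))).natDegree ≤ (e.sum fun _ b => b) ∧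
      (shift w (monomial e (1 : k))).coeff (e.sum fun _ b => b) = C (e.prod fun i b => w i ^ b) := by
    intro e
    induction e using Finsupp.induction with
    | zero => simp [shift]
    | single_add i b e hi hb ih =>
      rw [monomial_single_add, map_mul, map_pow, Finsupp.sum_add_index' (fun _ => rfl) (fun _ _ _ => rfl),
        Finsupp.sum_single_index rfl, Finsupp.prod_add_index' (fun _ => pow_zero _) (fun _ _ _ => pow_add _ _ _),
        Finsupp.prod_single_index (h := fun j c => w j ^ c) (pow_zero _), map_mul]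
      have h1 : (shift w (X i)).natDegree ≤ 1 := by simp only [shift, aeval_X]; compute_degree
      have h2 : (shift w (X i)).coeff 1 = C (w i) := by simp [shift, Polynomial.coeff_C]
      have h3 : ((shift w (X i)) ^ b).natDegree ≤ b :=
        Polynomial.natDegree_pow_le.trans (by nlinarith)
      refine ⟨Polynomial.natDegree_mul_le.trans (add_le_add h3 ih.1), ?_⟩
      rw [Polynomial.coeff_mul_add_eq_of_natDegree_le h3 ih.1, ih.2]
      congr 1
      have := Polynomial.coeff_pow_of_natDegree_le (m := b) h1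
      rw [mul_one, h2] at this
      rw [this, map_pow]
  have hdeg : ∀ e ∈ F.support, (e.sum fun _ b => b) = d := fun e he => by
    show (∑ i ∈ e.support, e i) = d
    rw [← Finsupp.degree_apply e]
    by_contra h'
    exact (mem_support_iff.1 he) (hF.coeff_eq_zero h')
  have hexp : shift w F = ∑ e ∈ F.support, Polynomial.C (C (coeff e F)) * shift w (monomial e 1) := by
    conv_lhs => rw [F.as_sum, map_sum]
    refine Finset.sum_congr rfl fun e _ => ?_
    rw [show monomial e (coeff e F) = C (coeff e F) * monomial e 1 by simp [C_mul_monomial], map_mul]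
    congr 1
    simp [shift]
  constructor
  · rw [hexp]
    refine Polynomial.natDegree_sum_le_of_forall_le _ _ fun e he => ?_
    exact (Polynomial.natDegree_C_mul_le _ _).trans ((key e).1.trans (hdeg e he).le)
  · rw [hexp, Polynomial.finsetSum_coeff, eval_eq, map_sum]
    refine Finset.sum_congr rfl fun e he => ?_
    rw [Polynomial.coeff_C_mul, ← hdeg e he, (key e).2, map_mul]
    rfl

theorem exists_good_dir [IsAlgClosed k] {F : R} (hF : Squarefree F) :
    ∃ w : Fin n → k, eval w F ≠ 0 ∧ ∀ A, Irreducible A → A ∣ F → ¬ A ∣ D w F := by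
  classical
  have hF0 : F ≠ 0 := hF.ne_zero
  let Φ := (UniqueFactorizationMonoid.factors F).toFinset
  have hirr : ∀ A ∈ Φ, Irreducible A := fun A hA =>
    UniqueFactorizationMonoid.irreducible_of_factor A (Multiset.mem_toFinset.1 hA)
  have hl : ∀ A ∈ Φ, ∃ m : Fin n →₀ ℕ, (∑ i, C (coeff m (pderiv i A)) * X i : R) ≠ 0 := by
    intro A hA
    obtain ⟨i, hi⟩ := exists_pderiv_ne_zero (hirr A hA)
    obtain ⟨m, hm⟩ := support_nonempty.2 hi
    refine ⟨m, fun h => mem_support_iff.1 hm ?_⟩
    have := congrArg (eval (Pi.single i 1)) h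
    simpa [Pi.single_apply] using this
  choose m hm using hl
  have hne : F * ∏ A ∈ Φ.attach, (∑ i, C (coeff (m A.1 A.2) (pderiv i A.1)) * X i : R) ≠ 0 :=
    mul_ne_zero hF0 (Finset.prod_ne_zero_iff.2 fun A _ => hm A.1 A.2)
  obtain ⟨w, hw⟩ : ∃ w, eval w (F * ∏ A ∈ Φ.attach,
      (∑ i, C (coeff (m A.1 A.2) (pderiv i A.1)) * X i : R)) ≠ 0 := by
    by_contra! h
    exact hne (MvPolynomial.funext fun v => by rw [h v, map_zero])
  rw [map_mul, map_prod, mul_ne_zero_iff, Finset.prod_ne_zero_iff] at hw
  refine ⟨w, hw.1, fun A hA hAF hAD => ?_⟩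
  obtain ⟨A₀, hA₀, hass⟩ := UniqueFactorizationMonoid.exists_mem_factors_of_dvd hF0 hA hAF
  have hA₀' : A₀ ∈ Φ := Multiset.mem_toFinset.2 hA₀
  have hD0 : D w A₀ ≠ 0 := fun h => by
    apply hw.2 ⟨A₀, hA₀'⟩ (Finset.mem_attach _ _)
    have := congrArg (coeff (m A₀ hA₀')) h
    simp only [D, coeff_sum, coeff_C_mul, coeff_zero] at this
    simpa [map_sum, mul_comm] using this
  have hp : Prime A₀ := (UniqueFactorizationMonoid.irreducible_iff_prime).1 (hirr A₀ hA₀')
  obtain ⟨B, rfl⟩ := hass.symm.dvd.trans hAF
  have hB : ¬ A₀ ∣ B := fun h => hp.not_isUnit (hF A₀ (mul_dvd_mul_left A₀ h))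
  have hDmul : D w (A₀ * B) = D w A₀ * B + A₀ * D w B := by
    simp only [D, pderiv_mul, Finset.sum_mul, Finset.mul_sum, ← Finset.sum_add_distrib]
    exact Finset.sum_congr rfl fun i _ => by ring
  have h1 : A₀ ∣ D w A₀ * B := by
    have := hass.symm.dvd.trans hAD
    rw [hDmul] at this
    exact (dvd_add_left (dvd_mul_right A₀ _)).1 this
  rcases hp.dvd_or_dvd h1 with h | h
  · have hle : A₀.totalDegree ≤ (D w A₀).totalDegree :=
      totalDegree_le_of_dvd_of_isDomain h hD0
    have hlt : (D w A₀).totalDegree < A₀.totalDegree := by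
      have hpos : 0 < A₀.totalDegree := by
        obtain ⟨i, hi⟩ := exists_pderiv_ne_zero (hirr A₀ hA₀')
        exact lt_of_le_of_lt (Nat.zero_le _) (totalDegree_pderiv_lt hi)
      refine lt_of_le_of_lt (totalDegree_finsetSum _ _) ((Finset.sup_lt_iff hpos).2 fun i _ => ?_)
      by_cases h0 : pderiv i A₀ = 0
      · simpa [h0] using hpos
      · exact lt_of_le_of_lt ((totalDegree_mul _ _).trans (by simp)) (totalDegree_pderiv_lt h0)
    omega
  · exact hB h

/-- `F(u + t w)` -/
noncomputable def line (u w : Fin n → k) : R →ₐ[k] Polynomial k :=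
  aeval fun i => Polynomial.C (u i) + Polynomial.C (w i) * Polynomial.X

theorem line_eq (u w : Fin n → k) (F : R) : line u w F = (shift w F).map (eval u) := by
  induction F using MvPolynomial.induction_on with
  | C a => simp [line, shift]
  | add p q hp hq => simp [map_add, hp, hq]
  | mul_X p i hp => simp [map_mul, hp]; simp [line, shift]

theorem separable_of_resultant {d : ℕ} {p : Polynomial k} (hp : p.natDegree ≤ d)
    (hc : p.coeff d ≠ 0) (hr : Polynomial.resultant p p.derivative d (d - 1) ≠ 0) :
    p.Separable := by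
  have hdeg : p.natDegree = d := Polynomial.natDegree_eq_of_le_of_coeff_ne_zero hp hc
  have hd' : p.derivative.natDegree ≤ d - 1 :=
    (Polynomial.natDegree_derivative_le p).trans (by omega)
  obtain ⟨j, hj⟩ := Nat.exists_eq_add_of_le hd'
  rw [hj, Polynomial.resultant_add_right_deg _ _ _ _ _ le_rfl] at hr
  have h := right_ne_zero_of_mul hr
  rw [← hdeg] at h
  by_contra hs
  exact h (Polynomial.resultant_eq_zero_iff.2 ⟨Or.inl (fun h0 => hc (by simp [h0])), hs⟩)

theorem exists_separable_line [IsAlgClosed k] {d : ℕ} {F : R} (hF : F.IsHomogeneous d)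
    (hsq : Squarefree F) :
    ∃ u w : Fin n → k, eval w F ≠ 0 ∧
      Polynomial.resultant (line u w F) (line u w F).derivative d (d - 1) ≠ 0 := by
  classical
  obtain ⟨w, hw, hgood⟩ := exists_good_dir hsq
  obtain ⟨hdeg, hlead⟩ := coeff_shift (w := w) hF
  set p := shift w F with hp
  suffices hD : Polynomial.resultant p p.derivative d (d - 1) ≠ 0 by
    obtain ⟨u, hu⟩ : ∃ u, eval u (Polynomial.resultant p p.derivative d (d - 1)) ≠ 0 := by
      by_contra! h
      exact hD (MvPolynomial.funext fun v => by rw [h v, map_zero])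
    refine ⟨u, w, hw, ?_⟩
    rwa [line_eq, ← hp, Polynomial.derivative_map, Polynomial.resultant_map_map]
  intro hD
  let L := FractionRing R
  let ι := algebraMap R L
  have hι : Function.Injective ι := IsFractionRing.injective R L
  have hcne : p.coeff d ≠ 0 := by rw [hlead]; simpa using hw
  have hpdeg : p.natDegree = d := Polynomial.natDegree_eq_of_le_of_coeff_ne_zero hdeg hcne
  set P := p.map ι with hP
  have hPdeg : P.natDegree = d := by rw [hP, Polynomial.natDegree_map_eq_of_injective hι, hpdeg]
  have hres : Polynomial.resultant P P.derivative d (d - 1) = 0 := by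
    rw [hP, Polynomial.derivative_map, Polynomial.resultant_map_map, hD, map_zero]
  obtain ⟨j, hj⟩ := Nat.exists_eq_add_of_le
    ((Polynomial.natDegree_derivative_le P).trans (show P.natDegree - 1 ≤ d - 1 by omega))
  rw [hj, Polynomial.resultant_add_right_deg _ _ _ _ _ le_rfl] at hres
  have hPc : P.coeff d ≠ 0 := by
    rw [hP, Polynomial.coeff_map]
    exact fun h => hcne (hι (h.trans (map_zero ι).symm))
  have hres' := (mul_eq_zero.1 hres).resolve_left (pow_ne_zero _ hPc)
  rw [← hPdeg] at hres'
  have hnc := (Polynomial.resultant_eq_zero_iff.1 hres').2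
  obtain ⟨q, hq, hqP, hqP'⟩ : ∃ q, Irreducible q ∧ q ∣ P ∧ q ∣ P.derivative := by
    have hg : ¬ IsUnit (EuclideanDomain.gcd P P.derivative) := fun h =>
      hnc (EuclideanDomain.gcd_isUnit_iff.1 h)
    have hP0 : P ≠ 0 := fun h => hPc (by simp [h])
    have hg0 : EuclideanDomain.gcd P P.derivative ≠ 0 := fun h =>
      hP0 ((EuclideanDomain.gcd_eq_zero_iff.1 h).1)
    obtain ⟨q, hq, hqd⟩ := WfDvdMonoid.exists_irreducible_factor hg hg0
    exact ⟨q, hq, hqd.trans (EuclideanDomain.gcd_dvd_left _ _),
      hqd.trans (EuclideanDomain.gcd_dvd_right _ _)⟩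
  -- normalise
  set q' := q * Polynomial.C q.leadingCoeff⁻¹
  have hq'm : q'.Monic := Polynomial.monic_mul_leadingCoeff_inv hq.ne_zero
  have hass : Associated q q' :=
    associated_mul_unit_right q _ (Polynomial.isUnit_C.2 (isUnit_iff_ne_zero.2 (inv_ne_zero (Polynomial.leadingCoeff_ne_zero.2 hq.ne_zero))))
  set p₁ := Polynomial.C (C (eval w F)⁻¹) * p with hp₁
  have hu : IsUnit (Polynomial.C (C (eval w F)⁻¹) : Polynomial R) :=
    Polynomial.isUnit_C.2 ((isUnit_iff_ne_zero.2 (inv_ne_zero hw)).map C)
  have hp₁m : p₁.Monic := by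
    refine Polynomial.monic_of_natDegree_le_of_coeff_eq_one d
      ((Polynomial.natDegree_C_mul_le _ _).trans hdeg) ?_
    rw [hp₁, Polynomial.coeff_C_mul, hlead, ← map_mul, inv_mul_cancel₀ hw, map_one]
  have hq'P : q' ∣ p₁.map ι := by
    rw [hp₁, Polynomial.map_mul, ← hP]
    exact (hass.symm.dvd.trans hqP).mul_left _
  obtain ⟨g, hg⟩ := IsIntegrallyClosed.eq_map_mul_C_of_dvd L hp₁m hq'P
  rw [hq'm.leadingCoeff, map_one, mul_one] at hg
  have hgm : g.Monic := Polynomial.monic_of_injective hι (by rw [hg]; exact hq'm)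
  have hgp : g ∣ p := by
    have : g ∣ p₁ := (Polynomial.map_dvd_map ι hι hgm).1 (by rw [hg]; exact hq'P)
    exact hu.dvd_mul_left.1 this
  have hgp' : g ∣ p.derivative := by
    refine (Polynomial.map_dvd_map ι hι hgm).1 ?_
    rw [hg, ← Polynomial.derivative_map, ← hP]
    exact hass.symm.dvd.trans hqP'
  have hgu : ¬ IsUnit g := fun h => hq.not_isUnit (hass.symm.isUnit (hg ▸ h.map (Polynomial.mapRingHom ι)))
  -- translate back
  have h1 : tr (-w) g ∣ Polynomial.C F := by
    rw [← tr_shift w F]; exact map_dvd _ hgp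
  have h2 : tr (-w) g ∣ Polynomial.C (D w F) := by
    rw [← tr_shift w (D w F), ← derivative_shift]; exact map_dvd _ hgp'
  have hF0 : F ≠ 0 := hsq.ne_zero
  have hd0 : (tr (-w) g).natDegree ≤ 0 := by
    have := Polynomial.natDegree_le_of_dvd h1 (by simpa using hF0)
    simpa using this
  rw [Polynomial.eq_C_of_natDegree_le_zero hd0] at h1 h2
  rw [Polynomial.C_dvd_iff_dvd_coeff] at h1 h2
  have hA : ¬ IsUnit ((tr (-w) g).coeff 0) := fun h => hgu (by
    rw [← tr_tr w g, Polynomial.eq_C_of_natDegree_le_zero hd0]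
    exact (Polynomial.isUnit_C.2 h).map (tr w))
  have hA0 : (tr (-w) g).coeff 0 ≠ 0 := fun h => hF0 (by simpa [h] using h1 0)
  obtain ⟨A, hA1, hA2⟩ := WfDvdMonoid.exists_irreducible_factor hA hA0
  exact hgood A hA1 (hA2.trans (by simpa using h1 0)) (hA2.trans (by simpa using h2 0))

theorem squarefree_of_line {d : ℕ} {F : R} (hF : F.IsHomogeneous d) {u w : Fin n → k}
    (hw : eval w F ≠ 0)
    (hr : Polynomial.resultant (line u w F) (line u w F).derivative d (d - 1) ≠ 0) :
    Squarefree F := by
  obtain ⟨hdeg, hlead⟩ := coeff_shift (w := w) hF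
  have hle : (line u w F).natDegree ≤ d := by
    rw [line_eq]; exact Polynomial.natDegree_map_le.trans hdeg
  have hc : (line u w F).coeff d ≠ 0 := by
    rw [line_eq, Polynomial.coeff_map, hlead, eval_C]; exact hw
  have hsep := separable_of_resultant hle hc hr
  have hd : (line u w F).natDegree = d := Polynomial.natDegree_eq_of_le_of_coeff_ne_zero hle hc
  intro A hA
  obtain ⟨B, hB⟩ := hA
  have hF0 : F ≠ 0 := fun h => hw (by simp [h])
  have hA0 : A ≠ 0 := fun h => hF0 (by simp [hB, h])
  have hB0 : B ≠ 0 := fun h => hF0 (by simp [hB, h])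
  have hu : IsUnit (line u w A) := hsep.squarefree _ ⟨line u w B, by rw [hB, map_mul, map_mul]⟩
  have hbound : ∀ G : R, (line u w G).natDegree ≤ G.totalDegree := fun G => by
    have := aeval_natDegree_le (n := 1) G le_rfl
      (fun i => Polynomial.C (u i) + Polynomial.C (w i) * Polynomial.X)
      (fun i => by compute_degree)
    simpa [line] using this
  have h2 : d ≤ B.totalDegree := by
    have e : line u w F = line u w A * line u w A * line u w B := by rw [hB, map_mul, map_mul]
    have := e ▸ hd
    have h' := (Polynomial.natDegree_mul_le (p := line u w A * line u w A) (q := line u w B))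
    have h'' := Polynomial.natDegree_mul_le (p := line u w A) (q := line u w A)
    have h3 := Polynomial.natDegree_eq_zero_of_isUnit hu
    have h4 := hbound B
    omega
  have h3 : F.totalDegree = d := hF.totalDegree hF0
  rw [hB, totalDegree_mul_of_isDomain (mul_ne_zero hA0 hA0) hB0,
    totalDegree_mul_of_isDomain hA0 hA0] at h3
  have h4 : A.totalDegree = 0 := by omega
  rw [totalDegree_eq_zero_iff_eq_C] at h4
  rw [h4]
  exact (isUnit_iff_ne_zero.2 fun h => hA0 (by rw [h4, h, map_zero])).map C

end Groth.Agent.SqfreeForms
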