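import Groth.Statements.S14376
import Groth.Agent.SqfreeForms
-- import your own Groth.Agent.* helpers here

set_option autoImplicit false
universe u
open Fano

namespace Groth.Agent.S14376

/-- Over an algebraically closed field k, let n ≥ 1 and d ≥ 1. In the vector space of degree-d forms in
n + 1 variables, the forms F that are squarefree (equivalently, nonzero with (F) a radical ideal:
the reduced hypersurfaces of degree d in P^n) form a Zariski-open subset, and this subset is
nonempty. (The published statement allows projective space of every dimension n; for n = 0 and d ≥ 2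
there is no squarefree form of degree d, so this row assumes n ≥ 1.) -/
theorem result (k : Type u) [Field k] [IsAlgClosed k]
    (n d : ℕ) (hn : 1 ≤ n) (hd : 1 ≤ d) :
    LefPen.IsZOpen k {F : LefPen.Form n k d | Squarefree F.1} ∧
      ({F : LefPen.Form n k d | Squarefree F.1}).Nonempty := by
  classical
  constructor
  · intro G hG
    obtain ⟨u, w, hw, hr⟩ := Groth.Agent.SqfreeForms.exists_separable_line
      ((MvPolynomial.mem_homogeneousSubmodule d _).1 G.2) hG
    let L := Groth.Agent.SqfreeForms.line u w
    let S := Algebra.adjoin k (Set.range fun l : Module.Dual k (LefPen.Form n k d) =>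
      (l : LefPen.Form n k d → k))
    let c : ℕ → Module.Dual k (LefPen.Form n k d) := fun i =>
      ((Polynomial.lcoeff k i).comp L.toLinearMap).comp (Submodule.subtype _)
    let P : Polynomial S := ∑ i ∈ Finset.range (d + 1),
      Polynomial.monomial i ⟨(c i : LefPen.Form n k d → k), Algebra.subset_adjoin ⟨c i, rfl⟩⟩
    let res : S := Polynomial.resultant P P.derivative d (d - 1)
    let lead : S := ⟨(c d : LefPen.Form n k d → k), Algebra.subset_adjoin ⟨c d, rfl⟩⟩
    have hP : ∀ H : LefPen.Form n k d,
        P.map ((Pi.evalRingHom (fun _ : LefPen.Form n k d => k) H).comp S.val.toRingHom) = L H.1 := by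
      intro H
      have hle : (L H.1).natDegree ≤ d := by
        show (Groth.Agent.SqfreeForms.line u w H.1).natDegree ≤ d
        rw [Groth.Agent.SqfreeForms.line_eq]
        exact Polynomial.natDegree_map_le.trans (Groth.Agent.SqfreeForms.coeff_shift
          ((MvPolynomial.mem_homogeneousSubmodule d _).1 H.2)).1
      conv_rhs => rw [Polynomial.as_sum_range' (L H.1) (d + 1) (by omega)]
      rw [Polynomial.map_sum]
      exact Finset.sum_congr rfl fun i _ => by rw [Polynomial.map_monomial]; rfl
    have hlead : ∀ H : LefPen.Form n k d, c d H = MvPolynomial.eval w H.1 := by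
      intro H
      show (Groth.Agent.SqfreeForms.line u w H.1).coeff d = _
      rw [Groth.Agent.SqfreeForms.line_eq, Polynomial.coeff_map,
        (Groth.Agent.SqfreeForms.coeff_shift ((MvPolynomial.mem_homogeneousSubmodule d _).1 H.2)).2,
        MvPolynomial.eval_C]
    have hres : ∀ H : LefPen.Form n k d,
        res.1 H = Polynomial.resultant (L H.1) (L H.1).derivative d (d - 1) := by
      intro H
      rw [← hP H, Polynomial.derivative_map, Polynomial.resultant_map_map]
      rfl
    refine ⟨(lead * res).1, (lead * res).2, ?_, fun H hH => ?_⟩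
    · show c d G * res.1 G ≠ 0
      rw [hlead, hres]
      exact mul_ne_zero hw hr
    · have h : c d H * res.1 H ≠ 0 := hH
      rw [hlead, hres, mul_ne_zero_iff] at h
      exact Groth.Agent.SqfreeForms.squarefree_of_line
        ((MvPolynomial.mem_homogeneousSubmodule d _).1 H.2) h.1 h.2
  · haveI : Infinite k := IsAlgClosed.instInfinite
    obtain ⟨f⟩ : Nonempty (Fin d ↪ k) := ⟨(Fin.valEmbedding).trans (Infinite.natEmbedding k)⟩
    let z : Fin (n + 1) := ⟨0, by omega⟩
    let o : Fin (n + 1) := ⟨1, by omega⟩
    have hzo : z ≠ o := fun h => absurd (congrArg Fin.val h) Nat.zero_ne_one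
    let F : MvPolynomial (Fin (n + 1)) k :=
      ∏ i : Fin d, (MvPolynomial.X z - MvPolynomial.C (f i) * MvPolynomial.X o)
    have hF : F.IsHomogeneous d := by
      have := MvPolynomial.IsHomogeneous.prod (Finset.univ : Finset (Fin d))
        (fun i => MvPolynomial.X z - MvPolynomial.C (f i) * MvPolynomial.X o) (fun _ => 1)
        (fun i _ => (MvPolynomial.isHomogeneous_X k z).sub ((MvPolynomial.isHomogeneous_X k o).C_mul _))
      simpa using this
    refine ⟨⟨F, (MvPolynomial.mem_homogeneousSubmodule d _).2 hF⟩, ?_⟩
    have hL : Groth.Agent.SqfreeForms.line (Pi.single o 1) (Pi.single z 1) F =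
        ∏ i : Fin d, (Polynomial.X - Polynomial.C (f i)) := by
      simp [Groth.Agent.SqfreeForms.line, F, Ne.symm hzo, hzo]
    have hw : MvPolynomial.eval (Pi.single z (1 : k)) F ≠ 0 := by
      simp [F, Ne.symm hzo]
    refine Groth.Agent.SqfreeForms.squarefree_of_line hF (u := Pi.single o 1) hw ?_
    rw [hL]
    set p := ∏ i : Fin d, (Polynomial.X - Polynomial.C (f i)) with hp
    have hm : p.Monic := Polynomial.monic_prod_of_monic _ _ fun i _ => Polynomial.monic_X_sub_C _
    have hd' : p.natDegree = d := by simp [hp]
    have hs : p.Separable := Polynomial.separable_prod_X_sub_C_iff.2 f.injective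
    obtain ⟨j, hj⟩ := Nat.exists_eq_add_of_le
      ((Polynomial.natDegree_derivative_le p).trans (show p.natDegree - 1 ≤ d - 1 by omega))
    rw [hj, Polynomial.resultant_add_right_deg _ _ _ _ _ le_rfl, ← hd', hm.coeff_natDegree, one_pow,
      one_mul]
    exact fun h => (Polynomial.resultant_eq_zero_iff.1 h).2 hs

end Groth.Agent.S14376
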