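import Groth.Statements.S14377
import Groth.Agent.VarDim.Algebra
import Mathlib.RingTheory.Nullstellensatz
import Mathlib.Algebra.MvPolynomial.Funext
import Mathlib.RingTheory.MvPolynomial.Ideal
import Mathlib.LinearAlgebra.Matrix.Charpoly.Coeff
import Mathlib.LinearAlgebra.Matrix.MvPolynomial
import Mathlib.LinearAlgebra.Matrix.ToLin

set_option autoImplicit false
universe u
open Variety

namespace Groth.Agent.S14377

open MvPolynomial Matrix

theorem exists_step {k V : Type*} [Field k] [AddCommGroup V] [Module k V] (f : Module.End k V)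
    (hf : IsNilpotent f) (W : Submodule k V) (hW : W ≠ ⊤) : ∃ v, v ∉ W ∧ f v ∈ W := by
  classical
  obtain ⟨v0, hv0⟩ : ∃ v, v ∉ W := by
    by_contra h; push Not at h; exact hW (eq_top_iff.2 fun v _ => h v)
  obtain ⟨m, hm⟩ := hf
  have hex : ∃ j, (f ^ j) v0 ∈ W := ⟨m, by simp [hm]⟩
  cases hj : Nat.find hex with
  | zero =>
    have := Nat.find_spec hex
    rw [hj] at this
    exact absurd (by simpa using this) hv0
  | succ j =>
    refine ⟨(f ^ j) v0, Nat.find_min hex (by omega), ?_⟩
    have := Nat.find_spec hex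
    rw [hj, pow_succ'] at this
    exact this

theorem exists_triangular {k : Type*} [Field k] {n : ℕ} (N : Matrix (Fin n) (Fin n) k) (hN : IsNilpotent N) :
    ∃ G U : Matrix (Fin n) (Fin n) k, G.det ≠ 0 ∧ (∀ i j, ¬ i < j → U i j = 0) ∧ N * G = G * U := by
  classical
  let f : Module.End k (Fin n → k) := Matrix.toLinAlgEquiv' N
  have hf : IsNilpotent f := hN.map _
  have main : ∀ j, j ≤ n → ∃ b : Fin j → (Fin n → k), LinearIndependent k b ∧
      ∀ a, f (b a) ∈ Submodule.span k (b '' {a' | a' < a}) := by
    intro j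
    induction j with
    | zero => exact fun _ => ⟨Fin.elim0, linearIndependent_empty_type, fun a => a.elim0⟩
    | succ j ih =>
      intro hj
      obtain ⟨b, hb, hbf⟩ := ih (by omega)
      have hW : Submodule.span k (Set.range b) ≠ ⊤ := by
        intro h
        have h1 : Module.finrank k (Submodule.span k (Set.range b)) = j := by
          rw [finrank_span_eq_card hb, Fintype.card_fin]
        rw [h, finrank_top, Module.finrank_fin_fun] at h1
        omega
      obtain ⟨v, hv, hfv⟩ := exists_step f hf _ hW
      refine ⟨Fin.snoc b v, linearIndependent_finSnoc.2 ⟨hb, hv⟩, fun a => ?_⟩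
      induction a using Fin.lastCases with
      | last =>
        rw [Fin.snoc_last]
        refine Submodule.span_mono ?_ hfv
        rintro _ ⟨a, rfl⟩
        exact ⟨a.castSucc, Fin.castSucc_lt_last a, by simp⟩
      | cast a =>
        rw [Fin.snoc_castSucc]
        refine Submodule.span_mono ?_ (hbf a)
        rintro _ ⟨a', ha', rfl⟩
        exact ⟨a'.castSucc, by simpa using ha', by simp⟩
  obtain ⟨b, hb, hbf⟩ := main n le_rfl
  have hc : ∀ a, ∃ c : Fin n → k, (∀ i, ¬ i < a → c i = 0) ∧ ∑ i, c i • b i = f (b a) := by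
    intro a
    obtain ⟨l, hl, hl'⟩ := (Finsupp.mem_span_image_iff_linearCombination k).1 (hbf a)
    refine ⟨l, fun i hi => ?_, ?_⟩
    · by_contra h
      exact hi ((Finsupp.mem_supported k l).1 hl (Finsupp.mem_support_iff.2 h))
    · rw [← hl', Finsupp.linearCombination_apply]
      rw [Finsupp.sum_fintype]
      simp
  choose c hc0 hc1 using hc
  refine ⟨Matrix.of fun i a => b a i, Matrix.of fun i a => c a i, ?_, fun i a h => hc0 a i h, ?_⟩
  · intro h
    have h2 : LinearIndependent k (Matrix.of fun i a => b a i).col := hb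
    rw [Matrix.linearIndependent_cols_iff_isUnit, Matrix.isUnit_iff_isUnit_det, h] at h2
    simp at h2
  · ext i a
    have := congrFun (hc1 a) i
    simp only [f, Matrix.toLinAlgEquiv'_apply, Finset.sum_apply, Pi.smul_apply, smul_eq_mul] at this
    simp only [Matrix.mul_apply, Matrix.of_apply]
    rw [show (N *ᵥ b a) i = ∑ x, N i x * b a x from rfl] at this
    rw [← this]
    exact Finset.sum_congr rfl fun x _ => mul_comm _ _

theorem isNilpotent_conj {R : Type*} [CommRing R] {n : ℕ} (G U : Matrix (Fin n) (Fin n) R) (hn : 1 ≤ n)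
    (hU : U ^ n = 0) : (G * U * G.adjugate) ^ n = 0 := by
  have key : ∀ m : ℕ, (G * U * G.adjugate) ^ (m + 1) = G.det ^ m • (G * U ^ (m + 1) * G.adjugate) := by
    intro m
    induction m with
    | zero => simp
    | succ m ih =>
      rw [pow_succ (G * U * G.adjugate) (m + 1), ih, Matrix.smul_mul]
      have e : G * U ^ (m + 1) * G.adjugate * (G * U * G.adjugate) = G.det • (G * U ^ (m + 2) * G.adjugate) := by
        calc G * U ^ (m + 1) * G.adjugate * (G * U * G.adjugate)
            = G * U ^ (m + 1) * ((G.adjugate * G) * U) * G.adjugate := by simp only [Matrix.mul_assoc]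
          _ = _ := by
            rw [Matrix.adjugate_mul, Matrix.smul_mul, Matrix.one_mul, Matrix.mul_smul, Matrix.smul_mul,
              pow_succ U (m + 1), Matrix.mul_assoc G]
      rw [e, smul_smul, ← pow_succ]
  obtain ⟨m, rfl⟩ : ∃ m, n = m + 1 := ⟨n - 1, by omega⟩
  rw [key, hU]
  simp

theorem strictUpper_pow {R : Type*} [CommRing R] {n : ℕ} (U : Matrix (Fin n) (Fin n) R)
    (hU : ∀ i j, ¬ i < j → U i j = 0) : U ^ n = 0 := by
  have key : ∀ (m : ℕ) (i j : Fin n), (j : ℕ) < i + m → (U ^ m) i j = 0 := by
    intro m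
    induction m with
    | zero => intro i j h; rw [pow_zero, Matrix.one_apply_ne]; intro e; subst e; omega
    | succ m ih =>
      intro i j h
      rw [pow_succ, Matrix.mul_apply]
      refine Finset.sum_eq_zero fun l _ => ?_
      by_cases hl : (l : ℕ) < i + m
      · rw [ih i l hl, zero_mul]
      · rw [hU l j (by rw [Fin.lt_def]; omega), mul_zero]
  ext i j
  exact key n i j (by omega)

section
variable (k : Type u) [Field k] (n : ℕ)

local notation "σ" => Fin n × Fin n
local notation "P" => MvPolynomial (Fin n × Fin n) k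

/-- Generic strictly upper triangular matrix. -/
noncomputable def genU : Matrix (Fin n) (Fin n) (MvPolynomial (σ ⊕ σ) k) :=
  Matrix.of fun i j => if i < j then X (Sum.inr (i, j)) else 0

/-- Generic matrix. -/
noncomputable def genG : Matrix (Fin n) (Fin n) (MvPolynomial (σ ⊕ σ) k) :=
  Matrix.of fun i j => X (Sum.inl (i, j))

/-- Generic nilpotent matrix. -/
noncomputable def psi : P →ₐ[k] MvPolynomial (σ ⊕ σ) k :=
  aeval fun q => (genG k n * genU k n * (genG k n).adjugate) q.1 q.2

variable {k n}

theorem coeff_charpoly_aeval {S : Type*} [CommRing S] [Algebra k S] (x : σ → S) (i : ℕ) :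
    aeval x ((Matrix.mvPolynomialX (Fin n) (Fin n) k).charpoly.coeff i) =
      (Matrix.of fun a b => x (a, b)).charpoly.coeff i := by
  have e : (Matrix.mvPolynomialX (Fin n) (Fin n) k).map (aeval x).toRingHom = Matrix.of fun a b => x (a, b) := by
    ext a b; simp
  rw [← e, Matrix.charpoly_map, Polynomial.coeff_map]
  rfl

theorem mem_zeroLocus_iff [IsAlgClosed k] (I : Ideal P) (hI : I = Ideal.span (Set.range (fun i : Fin n =>
      (Matrix.charpoly (Matrix.mvPolynomialX (Fin n) (Fin n) k)).coeff (i : ℕ)))) (x : σ → k) :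
    x ∈ MvPolynomial.zeroLocus k I ↔ (Matrix.of fun a b => x (a, b)).charpoly = Polynomial.X ^ n := by
  rw [hI, MvPolynomial.zeroLocus_span]
  simp only [Set.mem_setOf_eq, Set.forall_mem_range, coeff_charpoly_aeval]
  constructor
  · intro h
    ext i
    rw [Polynomial.coeff_X_pow]
    by_cases hi : i = n
    · subst hi
      have := (Matrix.charpoly_monic (Matrix.of fun a b => x (a, b))).coeff_natDegree
      rw [Matrix.charpoly_natDegree_eq_dim, Fintype.card_fin] at this
      simp [this]
    · rw [if_neg hi]
      rcases lt_or_gt_of_ne hi with h' | h'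
      · exact h ⟨i, h'⟩
      · apply Polynomial.coeff_eq_zero_of_natDegree_lt
        rw [Matrix.charpoly_natDegree_eq_dim, Fintype.card_fin]; omega
  · intro h i
    rw [h, Polynomial.coeff_X_pow, if_neg (by have := i.2; omega)]

theorem radical_eq_ker [IsAlgClosed k] (hn : 1 ≤ n) (I : Ideal P) (hI : I = Ideal.span (Set.range (fun i : Fin n =>
      (Matrix.charpoly (Matrix.mvPolynomialX (Fin n) (Fin n) k)).coeff (i : ℕ)))) :
    I.radical = RingHom.ker (psi k n) := by
  classical
  rw [← MvPolynomial.vanishingIdeal_zeroLocus_eq_radical (K := k) I]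
  ext f
  rw [MvPolynomial.mem_vanishingIdeal_iff, RingHom.mem_ker]
  have hev : ∀ (e : σ ⊕ σ → k), aeval e (psi k n f) =
      aeval (fun q : σ => ((Matrix.of fun a b => e (Sum.inl (a, b))) *
        (Matrix.of fun a b => if a < b then e (Sum.inr (a, b)) else 0) *
        (Matrix.of fun a b => e (Sum.inl (a, b))).adjugate) q.1 q.2) f := by
    intro e
    rw [psi, ← AlgHom.comp_apply, MvPolynomial.comp_aeval]
    congr 1
    ext q
    have e1 : (aeval e).toRingHom.mapMatrix (genG k n) = Matrix.of fun a b => e (Sum.inl (a, b)) := by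
      ext a b; simp [genG]
    have e2 : (aeval e).toRingHom.mapMatrix (genU k n) =
        Matrix.of fun a b => if a < b then e (Sum.inr (a, b)) else 0 := by
      ext a b
      by_cases hab : a < b <;> simp [genU, hab]
    rw [← e1, ← e2, ← RingHom.map_adjugate, ← map_mul, ← map_mul]
    rfl
  constructor
  · intro h
    apply MvPolynomial.funext
    intro e
    rw [map_zero]
    have := hev e
    rw [h _ ((mem_zeroLocus_iff I hI _).2 ?_)] at this
    · exact this
    · have hnil : IsNilpotent ((Matrix.of fun a b => e (Sum.inl (a, b))) *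
          (Matrix.of fun a b => if a < b then e (Sum.inr (a, b)) else 0) *
          (Matrix.of fun a b => e (Sum.inl (a, b))).adjugate) :=
        ⟨n, isNilpotent_conj _ _ hn (strictUpper_pow _ fun a b hab => by simp [hab])⟩
      have := (Matrix.isNilpotent_charpoly_sub_pow_of_isNilpotent hnil).eq_zero
      rw [Fintype.card_fin] at this
      exact sub_eq_zero.1 this
  · intro h x hx
    have hx' := (mem_zeroLocus_iff I hI x).1 hx
    have hnil : IsNilpotent (Matrix.of fun a b => x (a, b)) :=
      ⟨n, by simpa [hx'] using Matrix.aeval_self_charpoly (Matrix.of fun a b => x (a, b))⟩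
    obtain ⟨G, U, hG, hU, hGU⟩ := exists_triangular _ hnil
    let e : σ ⊕ σ → k := Sum.elim (fun q => G q.1 q.2) (fun q => U q.1 q.2 / G.det)
    have := hev e
    rw [h, map_zero] at this
    rw [this]
    congr 2
    funext q
    have e1 : (Matrix.of fun a b => e (Sum.inl (a, b))) = G := rfl
    have e2 : (Matrix.of fun a b => if a < b then e (Sum.inr (a, b)) else 0) = G.det⁻¹ • U := by
      ext a b
      by_cases hab : a < b
      · simp [e, hab, div_eq_inv_mul]
      · simp [hab, hU a b hab]
    rw [e1, e2, Matrix.mul_smul, ← hGU, Matrix.smul_mul, Matrix.mul_assoc, Matrix.mul_adjugate,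
      Matrix.mul_smul, smul_smul, inv_mul_cancel₀ hG, one_smul, Matrix.mul_one]
    rfl

theorem le_dim (I : Ideal P) (hI : I = Ideal.span (Set.range (fun i : Fin n =>
      (Matrix.charpoly (Matrix.mvPolynomialX (Fin n) (Fin n) k)).coeff (i : ℕ)))) :
    ((n ^ 2 : ℕ) : WithBot ℕ∞) ≤ ringKrullDim (P ⧸ I) + (n : WithBot ℕ∞) := by
  let m0 : Ideal P := RingHom.ker (aeval (fun _ : σ => (0 : k)))
  have : m0.IsMaximal := RingHom.ker_isMaximal_of_surjective _ fun c => ⟨C c, by simp⟩
  have hle : I ≤ m0 := by
    rw [hI, Ideal.span_le]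
    rintro _ ⟨i, rfl⟩
    show aeval _ _ = 0
    rw [coeff_charpoly_aeval]
    rw [show (Matrix.of fun (_ : Fin n) (_ : Fin n) => (0 : k)) = 0 from rfl, Matrix.charpoly_zero,
      Fintype.card_fin, Polynomial.coeff_X_pow, if_neg (by have := i.2; omega)]
  have h1 := height_le_ringKrullDim_quotient_add_spanFinrank (p := m0) hle
  have h2 : (m0.height : WithBot ℕ∞) = ringKrullDim P :=
    Groth.Agent.VarDim.height_eq_ringKrullDim_of_isMaximal k P m0
  have h3 : I.spanFinrank ≤ n := by
    rw [hI]
    refine (Submodule.spanFinrank_span_le_ncard_of_finite (Set.finite_range _)).trans ?_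
    rw [← Set.image_univ]
    refine (Set.ncard_image_le Set.finite_univ).trans ?_
    simp [Set.ncard_univ]
  rw [h2, MvPolynomial.ringKrullDim_of_isNoetherianRing, ringKrullDim_eq_zero_of_field, zero_add,
    Nat.card_eq_fintype_card, Fintype.card_prod, Fintype.card_fin] at h1
  rw [pow_two]
  exact h1.trans (add_le_add le_rfl (by exact_mod_cast h3))

theorem dim_le (I : Ideal P) (hI : I = Ideal.span (Set.range (fun i : Fin n =>
      (Matrix.charpoly (Matrix.mvPolynomialX (Fin n) (Fin n) k)).coeff (i : ℕ)))) :
    ringKrullDim (P ⧸ I) ≤ ((n ^ 2 - n : ℕ) : WithBot ℕ∞) := by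
  classical
  let τ := {q : σ // q.1 ≠ q.2}
  let g : MvPolynomial τ k →+* P ⧸ I := (Ideal.Quotient.mk I).comp (rename Subtype.val).toRingHom
  letI : Algebra (MvPolynomial τ k) (P ⧸ I) := g.toAlgebra
  let mk := Ideal.Quotient.mk I
  let diag : (Fin n → Fin n) → P := fun e => monomial (∑ i, Finsupp.single (i, i) (e i : ℕ)) (1 : k)
  let M : Submodule (MvPolynomial τ k) (P ⧸ I) :=
    Submodule.span (MvPolynomial τ k) (Set.range fun e => mk (diag e))
  let off : Set σ := {q | q.1 ≠ q.2}
  have hC : ∀ (c : k) (y : P ⧸ I), y ∈ M → mk (C c) * y ∈ M := by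
    intro c y hy
    have := M.smul_mem (C c) hy
    rwa [Algebra.smul_def, show algebraMap (MvPolynomial τ k) (P ⧸ I) (C c) = mk (C c) by
      simp [RingHom.algebraMap_toAlgebra, g, mk]] at this
  have main : ∀ (d : ℕ) (m : σ →₀ ℕ), m.degree = d → mk (monomial m 1) ∈ M := by
    intro d
    induction d using Nat.strong_induction_on with
    | _ d ih =>
    intro m hm
    have case1 : ∀ m : σ →₀ ℕ, m.degree = d → (∃ q ∈ off, m q ≠ 0) → mk (monomial m 1) ∈ M := by
      rintro m hm ⟨q, hq, hmq⟩
      obtain ⟨m', rfl⟩ : ∃ m', m = Finsupp.single q 1 + m' := ⟨m - Finsupp.single q 1, by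
        rw [add_tsub_cancel_of_le]; exact Finsupp.single_le_iff.2 (Nat.one_le_iff_ne_zero.2 hmq)⟩
      rw [map_add, Finsupp.degree_single] at hm
      have := M.smul_mem (X ⟨q, hq⟩) (ih m'.degree (by omega) m' rfl)
      rw [Algebra.smul_def, show algebraMap (MvPolynomial τ k) (P ⧸ I) (X ⟨q, hq⟩) = mk (X q) by
        simp [RingHom.algebraMap_toAlgebra, g, mk], ← map_mul] at this
      rwa [monomial_single_add, pow_one]
    have case1' : ∀ f : P, f.IsHomogeneous d → f ∈ Ideal.span (X '' off : Set P) → mk f ∈ M := by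
      intro f hf hf'
      rw [f.as_sum, map_sum]
      refine M.sum_mem fun m hm => ?_
      rw [show monomial m (coeff m f) = C (coeff m f) * monomial m 1 by
        rw [C_mul_monomial, mul_one], map_mul]
      refine hC _ _ (case1 m ?_ (mem_ideal_span_X_image.1 hf' m hm))
      by_contra h
      exact mem_support_iff.1 hm (hf.coeff_eq_zero h)
    by_cases h1 : ∃ q ∈ off, m q ≠ 0
    · exact case1 m hm h1
    push Not at h1
    by_cases h2 : ∃ i, n ≤ m (i, i)
    · obtain ⟨i, hi⟩ := h2
      obtain ⟨m', rfl⟩ : ∃ m', m = Finsupp.single (i, i) n + m' := ⟨m - Finsupp.single (i, i) n, by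
        rw [add_tsub_cancel_of_le]; exact Finsupp.single_le_iff.2 hi⟩
      rw [map_add, Finsupp.degree_single] at hm
      let Q : P := (Matrix.scalar (Fin n) (X (i, i)) - Matrix.mvPolynomialX (Fin n) (Fin n) k).det
      have hQI : X (i, i) ^ n - Q ∈ I := by
        let x : P := X (i, i)
        let p := (Matrix.mvPolynomialX (Fin n) (Fin n) k).charpoly
        have hp : p.natDegree = n := by simp [p, Matrix.charpoly_natDegree_eq_dim]
        have hQ : Q = p.eval x := (Matrix.eval_charpoly _ _).symm
        rw [hQ, Polynomial.eval_eq_sum_range, hp, Finset.sum_range_succ]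
        rw [show p.coeff n = 1 by
          have h := (Matrix.charpoly_monic (Matrix.mvPolynomialX (Fin n) (Fin n) k)).coeff_natDegree
          rwa [hp] at h, one_mul, sub_add_cancel_right]
        refine I.neg_mem (I.sum_mem fun j hj => ?_)
        rw [Finset.mem_range] at hj
        refine I.mul_mem_right _ ?_
        rw [hI]; exact Ideal.subset_span ⟨⟨j, hj⟩, rfl⟩
      have hQh : Q.IsHomogeneous n := by
        simp only [Q, Matrix.det_apply']
        refine MvPolynomial.IsHomogeneous.sum _ _ _ fun s _ => ?_
        have hp : (∏ a : Fin n, (Matrix.scalar (Fin n) (X (i, i)) -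
            Matrix.mvPolynomialX (Fin n) (Fin n) k : Matrix (Fin n) (Fin n) P) (s a) a).IsHomogeneous n := by
          have := MvPolynomial.IsHomogeneous.prod Finset.univ
            (fun a : Fin n => (Matrix.scalar (Fin n) (X (i, i)) -
              Matrix.mvPolynomialX (Fin n) (Fin n) k : Matrix (Fin n) (Fin n) P) (s a) a) (fun _ => 1)
            fun a _ => by
              simp only [Matrix.sub_apply, Matrix.scalar_apply, Matrix.mvPolynomialX_apply, Matrix.diagonal_apply]
              refine MvPolynomial.IsHomogeneous.sub ?_ (isHomogeneous_X _ _)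
              split
              · exact isHomogeneous_X _ _
              · exact isHomogeneous_zero _ _ _
          simpa using this
        rw [show (((Equiv.Perm.sign s : ℤˣ) : ℤ) : P) = C (((Equiv.Perm.sign s : ℤˣ) : ℤ) : k) from (map_intCast (C : k →+* P) _).symm]
        exact hp.C_mul _
      have hQo : Q ∈ Ideal.span (X '' off : Set P) := by
        rw [← Ideal.Quotient.eq_zero_iff_mem]
        let q := Ideal.Quotient.mk (Ideal.span (X '' off : Set P))
        have e : q.mapMatrix (Matrix.scalar (Fin n) (X (i, i)) - Matrix.mvPolynomialX (Fin n) (Fin n) k) =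
            Matrix.diagonal fun a => q (X (i, i)) - q (X (a, a)) := by
          ext a b
          by_cases hab : a = b
          · subst hab; simp
          · have : q (X (a, b)) = 0 := Ideal.Quotient.eq_zero_iff_mem.2 (Ideal.subset_span ⟨(a, b), hab, rfl⟩)
            simp [hab, this]
        show q Q = 0
        rw [show q Q = (q.mapMatrix _).det from RingHom.map_det q _, e, Matrix.det_diagonal]
        exact Finset.prod_eq_zero (Finset.mem_univ i) (sub_self _)
      have hQm := case1' (Q * monomial m' 1) (hm ▸ hQh.mul (isHomogeneous_monomial _ rfl))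
        (Ideal.mul_mem_right _ _ hQo)
      rw [monomial_single_add]
      have : mk (X (i, i) ^ n * monomial m' 1) = mk (Q * monomial m' 1) := by
        rw [Ideal.Quotient.eq, ← sub_mul]; exact I.mul_mem_right _ hQI
      rwa [this]
    · push Not at h2
      refine Submodule.subset_span ⟨fun a => ⟨m (a, a), h2 a⟩, ?_⟩
      have : (∑ a, Finsupp.single ((a, a) : σ) (m (a, a))) = m := by
        ext ⟨a, b⟩
        rw [Finsupp.finsetSum_apply]
        by_cases hab : a = b
        · subst hab
          rw [Finset.sum_eq_single a]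
          · simp
          · intro c _ hc; simp [hc]
          · simp
        · rw [h1 (a, b) hab]
          refine Finset.sum_eq_zero fun c _ => ?_
          rw [Finsupp.single_eq_of_ne]
          intro e; simp only [Prod.mk.injEq] at e; exact hab (e.1.trans e.2.symm)
      simp only [diag, this]
  have hfin : Module.Finite (MvPolynomial τ k) (P ⧸ I) := by
    refine ⟨⟨(Set.finite_range fun e => mk (diag e)).toFinset, eq_top_iff.2 fun y _ => ?_⟩⟩
    rw [Set.Finite.coe_toFinset]
    obtain ⟨f, rfl⟩ := Ideal.Quotient.mk_surjective y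
    rw [f.as_sum, map_sum]
    refine M.sum_mem fun m _ => ?_
    rw [show monomial m (coeff m f) = C (coeff m f) * monomial m 1 by
      rw [C_mul_monomial, mul_one], map_mul]
    exact hC _ _ (main _ m rfl)
  let J : Ideal (MvPolynomial τ k) := RingHom.ker g
  letI : Algebra (MvPolynomial τ k ⧸ J) (P ⧸ I) := (RingHom.kerLift g).toAlgebra
  have : IsScalarTower (MvPolynomial τ k) (MvPolynomial τ k ⧸ J) (P ⧸ I) :=
    ⟨fun a b c => by
      obtain ⟨b, rfl⟩ := Ideal.Quotient.mk_surjective b
      show g (a * b) * c = g a * (g b * c)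
      rw [map_mul, mul_assoc]⟩
  have : Algebra.IsIntegral (MvPolynomial τ k ⧸ J) (P ⧸ I) :=
    Algebra.IsIntegral.tower_top (MvPolynomial τ k)
  have : FaithfulSMul (MvPolynomial τ k ⧸ J) (P ⧸ I) :=
    (faithfulSMul_iff_algebraMap_injective _ _).2 (RingHom.kerLift_injective g)
  rw [Groth.Agent.VarDim.ringKrullDim_eq_of_isIntegral (R := MvPolynomial τ k ⧸ J)]
  refine (ringKrullDim_quotient_le J).trans (le_of_eq ?_)
  rw [MvPolynomial.ringKrullDim_of_isNoetherianRing, ringKrullDim_eq_zero_of_field, zero_add]
  congr 1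
  rw [Nat.card_eq_fintype_card]
  rw [Fintype.card_subtype_compl, Fintype.card_prod, Fintype.card_fin, pow_two]
  congr 1
  refine (Fintype.card_congr ⟨fun q => q.1.1, fun a => ⟨(a, a), rfl⟩, ?_, fun a => rfl⟩).trans (Fintype.card_fin n)
  rintro ⟨⟨a, b⟩, h⟩
  simp only [Subtype.mk.injEq, Prod.mk.injEq, true_and]
  exact h

end

/-- Over an algebraically closed field k, let n ≥ 1 and let I be the ideal of the polynomial ring
k[x_ij] in the n² entries of the generic n × n matrix generated by the coefficients of t^0, …,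
t^(n−1) in its characteristic polynomial, so that the zero locus of I in the affine space of n × n
matrices is the set of nilpotent matrices. Then the spectrum of k[x_ij]/I is irreducible and
k[x_ij]/I has Krull dimension n² − n: the nilpotent matrices form an irreducible closed subvariety
of dimension n² − n of the space of all n × n matrices. -/
theorem result (k : Type u) [Field k] [IsAlgClosed k]
    (n : ℕ) (hn : 1 ≤ n) (I : Ideal (MvPolynomial (Fin n × Fin n) k))
    (hI : I = Ideal.span (Set.range (fun i : Fin n =>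
      (Matrix.charpoly (Matrix.mvPolynomialX (Fin n) (Fin n) k)).coeff (i : ℕ)))) :
    IrreducibleSpace (PrimeSpectrum (MvPolynomial (Fin n × Fin n) k ⧸ I)) ∧
      ringKrullDim (MvPolynomial (Fin n × Fin n) k ⧸ I) = ((n ^ 2 - n : ℕ) : WithBot ℕ∞) := by
  classical
  have hrad := radical_eq_ker hn I hI
  have hle := dim_le I hI
  have hge := le_dim I hI
  refine ⟨?_, le_antisymm hle ?_⟩
  · rw [PrimeSpectrum.irreducibleSpace_iff_isPrime_nilradical]
    have hp : I.radical.IsPrime := hrad ▸ RingHom.ker_isPrime _
    have e : nilradical (MvPolynomial (Fin n × Fin n) k ⧸ I) = I.radical.map (Ideal.Quotient.mk I) := by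
      ext x
      obtain ⟨f, rfl⟩ := Ideal.Quotient.mk_surjective x
      rw [mem_nilradical, ← Ideal.mem_comap (f := Ideal.Quotient.mk I),
        Ideal.comap_map_of_surjective _ Ideal.Quotient.mk_surjective, ← RingHom.ker_eq_comap_bot,
        Ideal.mk_ker, sup_eq_left.2 Ideal.le_radical, Ideal.mem_radical_iff]
      refine exists_congr fun j => ?_
      rw [← map_pow, Ideal.Quotient.eq_zero_iff_mem]
    rw [e]
    exact Ideal.map_isPrime_of_surjective Ideal.Quotient.mk_surjective (by rw [Ideal.mk_ker]; exact Ideal.le_radical)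
  · obtain h | ⟨d, h, -⟩ : ringKrullDim (MvPolynomial (Fin n × Fin n) k ⧸ I) = ⊥ ∨
        ∃ d : ℕ, ringKrullDim (MvPolynomial (Fin n × Fin n) k ⧸ I) = d ∧ d ≤ n ^ 2 - n := by
      generalize ringKrullDim (MvPolynomial (Fin n × Fin n) k ⧸ I) = x at hle
      induction x with
      | bot => exact Or.inl rfl
      | coe a =>
        induction a with
        | top => exact absurd (WithBot.coe_le_coe.1 hle) (not_le.2 (ENat.natCast_lt_top _))
        | coe a => exact Or.inr ⟨a, rfl, Nat.cast_le.1 (WithBot.coe_le_coe.1 hle)⟩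
    · rw [h, WithBot.bot_add, le_bot_iff] at hge
      exact absurd hge (WithBot.natCast_ne_bot _)
    · rw [h] at hge ⊢
      have : n ^ 2 ≤ d + n := by exact_mod_cast hge
      exact_mod_cast (show n ^ 2 - n ≤ d by omega)

end Groth.Agent.S14377
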