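import Groth.Statements.S14379
import Groth.Agent.CAlg76.NagataShift
import Mathlib
-- import your own Groth.Agent.* helpers here

set_option autoImplicit false
open scoped TensorProduct
universe u
open CAlg

namespace Groth.Agent.S14379


open TensorProduct in
/-- `F ⊗ R` is integral over the subalgebra generated by the images of `T`. -/
private def IntOver (V : Type u) [CommRing V] (R : Type u) [CommRing R] [Algebra V R]
    (F : Type u) [Field F] [Algebra V F] (T : Set R) : Prop :=
  Algebra.IsIntegral (Algebra.adjoin F ((fun r : R => (1 : F) ⊗ₜ[V] r) '' T)) (F ⊗[V] R)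

open TensorProduct in
private theorem shift (V : Type u) [CommRing V] (R : Type u) [CommRing R] [Algebra V R]
    (F : Type u) [Field F] [Algebra V F] (d m : ℕ) (hdim : ringKrullDim (F ⊗[V] R) ≤ d) (hdm : d ≤ m)
    (z : R) (b : Fin m → R) (h : IntOver V R F (insert z (Set.range b))) :
    ∃ B : ℕ, ∀ M, B < M → IntOver V R F (Set.range fun i => b i + z ^ M ^ ((i : ℕ) + 1)) := by
  rcases subsingleton_or_nontrivial (F ⊗[V] R) with hs | hn
  · exact ⟨0, fun M _ => ⟨fun x => by rw [Subsingleton.elim x 0]; exact isIntegral_zero⟩⟩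
  · have e : (fun r : R => (1 : F) ⊗ₜ[V] r) '' insert z (Set.range b) =
        Set.range (Fin.cons ((1 : F) ⊗ₜ[V] z) (fun i => (1 : F) ⊗ₜ[V] b i)) := by
      rw [Set.image_insert_eq, Fin.range_cons, ← Set.range_comp]
      rfl
    unfold IntOver at h
    rw [e] at h
    obtain ⟨B, hB⟩ := Groth.Agent.CAlg76.NagataShift.exists_bound hdim hdm _ _ h
    refine ⟨B, fun M hM => ?_⟩
    have e' : (fun r : R => (1 : F) ⊗ₜ[V] r) '' (Set.range fun i => b i + z ^ M ^ ((i : ℕ) + 1)) =
        Set.range (fun i => (1 : F) ⊗ₜ[V] b i + ((1 : F) ⊗ₜ[V] z) ^ M ^ ((i : ℕ) + 1)) := by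
      rw [← Set.range_comp]
      congr 1
      funext i
      simp [TensorProduct.tmul_add, Algebra.TensorProduct.tmul_pow]
    unfold IntOver
    rw [e']
    exact hB M hM

open TensorProduct in
private theorem intOver_powers (V : Type u) [CommRing V] (R : Type u) [CommRing R] [Algebra V R]
    (F : Type u) [Field F] [Algebra V F] (N : ℕ) (hN : 1 ≤ N) (s : Set R) (hs : Algebra.adjoin V s = ⊤)
    (T : Set R) (hT : ∀ r ∈ s, r ^ N ∈ T) : IntOver V R F T := by
  set S := Algebra.adjoin F ((fun r : R => (1 : F) ⊗ₜ[V] r) '' T)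
  let I : Subalgebra S (F ⊗[V] R) := integralClosure S (F ⊗[V] R)
  have h1 : ∀ r : R, (1 : F) ⊗ₜ[V] r ∈ I := by
    intro r
    have hr : r ∈ Algebra.adjoin V s := by rw [hs]; trivial
    induction hr using Algebra.adjoin_induction with
    | mem x hx =>
      refine IsIntegral.of_pow hN ?_
      rw [Algebra.TensorProduct.tmul_pow, one_pow]
      exact isIntegral_algebraMap (x := (⟨_, Algebra.subset_adjoin ⟨_, hT x hx, rfl⟩⟩ : S))
    | algebraMap v =>
      have : (1 : F) ⊗ₜ[V] algebraMap V R v = algebraMap F (F ⊗[V] R) (algebraMap V F v) := by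
        rw [Algebra.TensorProduct.algebraMap_apply, Algebra.algebraMap_eq_smul_one, Algebra.algebraMap_eq_smul_one,
          TensorProduct.tmul_smul, TensorProduct.smul_tmul']
        simp [Algebra.smul_def]
      rw [this]
      exact isIntegral_algebraMap (x := algebraMap F S (algebraMap V F v))
    | add x y _ _ hx hy => rw [TensorProduct.tmul_add]; exact I.add_mem hx hy
    | mul x y _ _ hx hy =>
      rw [show (1 : F) ⊗ₜ[V] (x * y) = ((1 : F) ⊗ₜ[V] x) * ((1 : F) ⊗ₜ[V] y) by simp]
      exact I.mul_mem hx hy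
  refine ⟨fun x => ?_⟩
  show x ∈ I
  induction x with
  | zero => exact I.zero_mem
  | add x y hx hy => exact I.add_mem hx hy
  | tmul a r =>
    rw [show a ⊗ₜ[V] r = algebraMap F (F ⊗[V] R) a * ((1 : F) ⊗ₜ[V] r) by
      simp [Algebra.TensorProduct.algebraMap_apply]]
    exact I.mul_mem (isIntegral_algebraMap (x := algebraMap F S a)) (h1 r)

open TensorProduct in
private theorem finite_of_intOver (V : Type u) [CommRing V] (R : Type u) [CommRing R] [Algebra V R]
    [Algebra.FiniteType V R] (F : Type u) [Field F] [Algebra V F] (d : ℕ) (x : Fin d → R)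
    (h : IntOver V R F (Set.range x)) :
    (MvPolynomial.aeval (fun i => (1 : F) ⊗ₜ[V] x i) : MvPolynomial (Fin d) F →ₐ[F] F ⊗[V] R).toRingHom.Finite := by
  set φ := (MvPolynomial.aeval (fun i => (1 : F) ⊗ₜ[V] x i) : MvPolynomial (Fin d) F →ₐ[F] F ⊗[V] R)
  refine RingHom.IsIntegral.to_finite (fun y => ?_) ?_
  · unfold IntOver at h
    rw [← Set.range_comp] at h
    rcases subsingleton_or_nontrivial (F ⊗[V] R) with hs | hn
    · exact ⟨1, Polynomial.monic_one, Subsingleton.elim _ _⟩
    obtain ⟨p, hp, hpy⟩ := h.isIntegral y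
    haveI : Nontrivial φ.range := ⟨0, 1, fun h01 => zero_ne_one (α := F ⊗[V] R) (congrArg Subtype.val h01)⟩
    let e := Subalgebra.equivOfEq _ _ (Algebra.adjoin_range_eq_range_aeval F (fun i => (1 : F) ⊗ₜ[V] x i))
    obtain ⟨q, hq, -, hqm⟩ := Polynomial.lifts_and_degree_eq_and_monic
      (f := φ.rangeRestrict.toRingHom) (p := p.map e.toRingEquiv.toRingHom)
      ((Polynomial.lifts_iff_coeff_lifts _).mpr fun n => φ.rangeRestrict_surjective _) (hp.map _)
    refine ⟨q, hqm, ?_⟩
    have h2 : Polynomial.eval₂ φ.toRingHom y q =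
        Polynomial.eval₂ φ.range.val.toRingHom y (q.map φ.rangeRestrict.toRingHom) := by
      rw [Polynomial.eval₂_map]
      rfl
    rw [h2, hq, Polynomial.eval₂_map]
    exact hpy
  · refine RingHom.FiniteType.of_comp_finiteType (f := (MvPolynomial.C : F →+* MvPolynomial (Fin d) F)) ?_
    rw [show φ.toRingHom.comp MvPolynomial.C = algebraMap F (F ⊗[V] R) from RingHom.ext fun a => φ.commutes a]
    exact RingHom.finiteType_algebraMap.mpr inferInstance

/-- Let V be a discrete valuation ring with residue field k and fraction field K, let R be a flat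
V-algebra of finite type such that both fibre rings k ⊗_V R and K ⊗_V R have Krull dimension at most
d, let x_1, …, x_d be elements of R and let N ≥ 1 be an integer. Then there are elements y_1, …, y_d
of the subring of R generated by the N-th powers of elements of R such that, setting f_i = x_i +
y_i, the fibre ring k ⊗_V R is finite over the polynomial ring k[T_1, …, T_d] via T_i ↦ 1 ⊗ f_i and
K ⊗_V R is finite over K[T_1, …, T_d] via T_i ↦ 1 ⊗ f_i; in other words the morphism (f_1, …, f_d)
to affine d-space over V is finite on both fibres. -/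
theorem result (V : Type u) [CommRing V] [IsDomain V]
    [IsDiscreteValuationRing V] (R : Type u) [CommRing R] [Algebra V R] [Module.Flat V R]
    [Algebra.FiniteType V R] (d : ℕ)
    (hs : ringKrullDim (IsLocalRing.ResidueField V ⊗[V] R) ≤ d)
    (hη : ringKrullDim (FractionRing V ⊗[V] R) ≤ d)
    (x : Fin d → R) (N : ℕ) (hN : 1 ≤ N) :
    ∃ y : Fin d → R, (∀ i, y i ∈ Subring.closure (Set.range fun r : R => r ^ N)) ∧
      (MvPolynomial.aeval (fun i => (1 : IsLocalRing.ResidueField V) ⊗ₜ[V] (x i + y i)) :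
          MvPolynomial (Fin d) (IsLocalRing.ResidueField V) →ₐ[IsLocalRing.ResidueField V]
            IsLocalRing.ResidueField V ⊗[V] R).toRingHom.Finite ∧
      (MvPolynomial.aeval (fun i => (1 : FractionRing V) ⊗ₜ[V] (x i + y i)) :
          MvPolynomial (Fin d) (FractionRing V) →ₐ[FractionRing V] FractionRing V ⊗[V] R).toRingHom.Finite := by
  classical
  let S := Subring.closure (Set.range fun r : R => r ^ N)
  have key : ∀ (s : ℕ) (z : Fin s → R) (x : Fin d → R), (∀ j, z j ∈ S) →
      IntOver V R (IsLocalRing.ResidueField V) (Set.range z ∪ Set.range x) →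
      IntOver V R (FractionRing V) (Set.range z ∪ Set.range x) →
      ∃ y : Fin d → R, (∀ i, y i ∈ S) ∧
        IntOver V R (IsLocalRing.ResidueField V) (Set.range fun i => x i + y i) ∧
        IntOver V R (FractionRing V) (Set.range fun i => x i + y i) := by
    intro s
    induction s with
    | zero =>
      intro z x _ h1 h2
      refine ⟨0, fun i => S.zero_mem, ?_, ?_⟩
      · simpa [Set.range_eq_empty z] using h1
      · simpa [Set.range_eq_empty z] using h2
    | succ s ih =>
      intro z x hz h1 h2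
      let b : Fin (s + d) → R := Fin.append (fun j => z j.succ) x
      have hset : insert (z 0) (Set.range b) = Set.range z ∪ Set.range x := by
        ext r
        simp only [Set.mem_insert_iff, Set.mem_range, Set.mem_union]
        constructor
        · rintro (rfl | ⟨i, rfl⟩)
          · exact Or.inl ⟨0, rfl⟩
          · refine Fin.addCases (fun j => Or.inl ⟨j.succ, by simp [b]⟩) (fun j => Or.inr ⟨j, by simp [b]⟩) i
        · rintro (⟨j, rfl⟩ | ⟨j, rfl⟩)
          · refine Fin.cases (Or.inl rfl) (fun l => Or.inr ⟨Fin.castAdd d l, by simp [b]⟩) j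
          · exact Or.inr ⟨Fin.natAdd s j, by simp [b]⟩
      rw [← hset] at h1 h2
      obtain ⟨B₁, hB₁⟩ := shift V R _ d (s + d) hs (Nat.le_add_left d s) (z 0) b h1
      obtain ⟨B₂, hB₂⟩ := shift V R _ d (s + d) hη (Nat.le_add_left d s) (z 0) b h2
      let M := max B₁ B₂ + 1
      let sh : Fin (s + d) → R := fun i => z 0 ^ M ^ ((i : ℕ) + 1)
      have hsh : ∀ i, sh i ∈ S := fun i => S.pow_mem (hz 0) _
      let z' : Fin s → R := fun j => z j.succ + sh (Fin.castAdd d j)
      let x' : Fin d → R := fun i => x i + sh (Fin.natAdd s i)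
      have hset' : (Set.range fun i => b i + z 0 ^ M ^ ((i : ℕ) + 1)) = Set.range z' ∪ Set.range x' := by
        ext r
        simp only [Set.mem_range, Set.mem_union]
        constructor
        · rintro ⟨i, rfl⟩
          refine Fin.addCases (fun j => Or.inl ⟨j, by simp [b, z', sh]⟩) (fun j => Or.inr ⟨j, by simp [b, x', sh]⟩) i
        · rintro (⟨j, rfl⟩ | ⟨j, rfl⟩)
          · exact ⟨Fin.castAdd d j, by simp [b, z', sh]⟩
          · exact ⟨Fin.natAdd s j, by simp [b, x', sh]⟩
      have g1 := hB₁ M (by omega)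
      have g2 := hB₂ M (by omega)
      rw [hset'] at g1 g2
      obtain ⟨y, hy, e1, e2⟩ := ih z' x' (fun j => S.add_mem (hz _) (hsh _)) g1 g2
      refine ⟨fun i => sh (Fin.natAdd s i) + y i, fun i => S.add_mem (hsh _) (hy i), ?_, ?_⟩
      · simpa [x', add_assoc] using e1
      · simpa [x', add_assoc] using e2
  obtain ⟨gens, hgens⟩ := (Algebra.FiniteType.out : (⊤ : Subalgebra V R).FG)
  let z : Fin gens.card → R := fun j => (gens.equivFin.symm j : R) ^ N
  have hmem : ∀ r ∈ (gens : Set R), r ^ N ∈ Set.range z ∪ Set.range x := fun r hr =>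
    Or.inl ⟨gens.equivFin ⟨r, hr⟩, by simp [z]⟩
  obtain ⟨y, hy, e1, e2⟩ := key gens.card z x (fun j => Subring.subset_closure ⟨_, rfl⟩)
    (intOver_powers V R _ N hN gens hgens _ hmem) (intOver_powers V R _ N hN gens hgens _ hmem)
  exact ⟨y, hy, finite_of_intOver V R _ d _ e1, finite_of_intOver V R _ d _ e2⟩

end Groth.Agent.S14379
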