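import Groth.Statements.S1438
import Mathlib.AlgebraicGeometry.IdealSheaf.Subscheme
import Mathlib.AlgebraicGeometry.Morphisms.Separated
-- import your own Groth.Agent.* helpers here

set_option autoImplicit false
universe u
open FlatMor

namespace Groth.Agent.S1438

open AlgebraicGeometry CategoryTheory Limits in
/-- A separated scheme with an open covering by n + 1 affine opens has affine stratification number at
most n: it admits an affine stratification with index set {0, …, n}. -/
theorem result (X : Scheme.{u}) [X.IsSeparated] (n : ℕ) (U : Fin (n + 1) → X.Opens)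
    (hU : ∀ i, IsAffineOpen (U i)) (hcov : ⨆ i, U i = ⊤) :
    MoreMor.HasAffineStratification X n := by
  classical
  have hex : ∀ x : X, ∃ i, x ∈ U i := fun x => TopologicalSpace.Opens.mem_iSup.mp (hcov.ge (Set.mem_univ x))
  let m : X → Fin (n + 1) := fun x => Fin.find _ (hex x)
  have hm : ∀ x, x ∈ U (m x) := fun x => Fin.find_spec (hex x)
  refine ⟨fun x => Fin.rev (m x), fun i => ?_, fun i => ?_⟩
  · have e : {x : X | Fin.rev (m x) ≤ i} = (⋃ k ∈ Set.Iio (Fin.rev i), (U k : Set X))ᶜ := by
      ext x
      simp only [Set.mem_ofPred_eq, Fin.rev_le_iff, Set.mem_compl_iff, Set.mem_iUnion, Set.mem_Iio,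
        not_exists, SetLike.mem_coe]
      exact ⟨fun h k hk hx => absurd ((Fin.find_le_of_pos (hex x) hx).trans_lt hk) (not_lt.mpr h),
        fun h => not_lt.mp fun hlt => h _ hlt (hm x)⟩
    rw [e]
    exact (isOpen_biUnion fun k _ => (U k).2).isClosed_compl
  · let k := Fin.rev i
    let Zs : TopologicalSpace.Closeds (U k : Scheme.{u}) :=
      ⟨(U k).ι ⁻¹' (⋃ l ∈ Set.Iio k, (U l : Set X))ᶜ,
        ((isOpen_biUnion fun l _ => (U l).2).isClosed_compl).preimage (U k).ι.continuous⟩
    let I := Scheme.IdealSheafData.vanishingIdeal Zs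
    have : IsAffine (U k : Scheme.{u}) := hU k
    have : IsAffine I.subscheme := isAffine_of_isAffineHom I.subschemeι
    have : IsAffineHom (U k).ι := by
      have : IsAffineHom ((U k).ι ≫ terminal.from X) := inferInstance
      exact IsAffineHom.of_comp _ (terminal.from X)
    refine ⟨I.subscheme, I.subschemeι ≫ (U k).ι, inferInstance, inferInstance, inferInstance, ?_⟩
    have hr : Set.range I.subschemeι = (Zs : Set (U k : Scheme.{u})) := by
      rw [Scheme.IdealSheafData.range_subschemeι]; rfl
    ext x
    constructor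
    · rintro ⟨z, rfl⟩
      have hz : I.subschemeι z ∈ (Zs : Set (U k : Scheme.{u})) := hr.le ⟨z, rfl⟩
      show Fin.rev (m _) = i
      rw [Fin.rev_eq_iff]
      refine le_antisymm (Fin.find_le_of_pos (hex _) (I.subschemeι z).2) (not_lt.mp fun hlt => hz ?_)
      exact Set.mem_iUnion₂.mpr ⟨_, hlt, hm _⟩
    · intro hx
      have hk : m x = k := Fin.rev_eq_iff.mp hx
      have hxk : x ∈ U k := hk ▸ hm x
      have : (⟨x, hxk⟩ : (U k : Scheme.{u})) ∈ Set.range I.subschemeι := by
        rw [hr]
        intro h
        obtain ⟨l, hl, hxl⟩ := Set.mem_iUnion₂.mp h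
        exact absurd ((Fin.find_le_of_pos (hex x) hxl).trans_lt hl) (not_lt.mpr (le_of_eq hk.symm))
      obtain ⟨z, hz⟩ := this
      exact ⟨z, congrArg Subtype.val hz⟩

end Groth.Agent.S1438
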