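import Groth.Statements.S14382
import Groth.Agent.EtAcDepth.Leray
import Groth.Agent.EtaleSite.HpullComp
import Groth.Agent.EtConsAb.PullTriv
import Groth.Agent.S0106
import Groth.Agent.S0071
-- import your own Groth.Agent.* helpers here

set_option autoImplicit false
open CategoryTheory CategoryTheory.Limits AlgebraicGeometry Opposite
universe u
open EtCoh

namespace Groth.Agent.S14382


open Groth.Agent

/-- A composite kills a class if the pullback of the pullback vanishes. -/
theorem Hpull_comp_eq_zero {A B C : Scheme.{u}} (g : A ⟶ B) (h : B ⟶ C)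
    [PreservesFiniteLimits (EtCoh.pull g)] [PreservesFiniteLimits (EtCoh.pull h)]
    [PreservesFiniteLimits (EtCoh.pull (g ≫ h))] {n : ℕ} {G : EtCoh.Ab C} (e : EtCoh.H C G n) :
    EtCore.Hpull (g ≫ h) G n e = 0 ↔
      EtCore.Hpull g ((EtCoh.pull h).obj G) n (EtCore.Hpull h G n e) = 0 := by
  rw [← EtaleSite.HpullComp.Hpull_comp g h n G e]
  refine ⟨fun h0 => by rw [h0, Abelian.Ext.zero_comp], fun h0 => ?_⟩
  exact (EtaleSite.HpullComp.HF_map_bijective (n := n) ((EtCore.pullComp g h).hom.app G)).1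
    (h0.trans (Abelian.Ext.zero_comp _ _ _ _ _).symm)

/-- Vanishing transports along equal morphisms. -/
theorem Hpull_eq_zero_congr {A B : Scheme.{u}} {h h' : A ⟶ B} (w : h = h')
    [PreservesFiniteLimits (EtCoh.pull h)] [PreservesFiniteLimits (EtCoh.pull h')]
    {n : ℕ} {G : EtCoh.Ab B} {e : EtCoh.H B G n} (h0 : EtCore.Hpull h G n e = 0) :
    EtCore.Hpull h' G n e = 0 := by
  subst w; exact h0

/-- Classes upstairs come from the direct image. -/
theorem exists_push_class {A B : Scheme.{u}} (f : A ⟶ B) [IsFinite f] {G : EtCoh.Ab A} {n : ℕ}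
    (e : EtCoh.H A G n) : ∃ e' : EtCoh.H B ((EtCoh.push f).obj G) n,
      (EtCore.Hpull f ((EtCoh.push f).obj G) n e').comp
        (Abelian.Ext.mk₀ ((EtCoh.pullPushAdj f).counit.app G)) (add_zero n) = e := by
  have hb := EtaleSite.AdjExt.toExt_bijective_le (EtCoh.pullPushAdj f) n (EtCoh.const B ℤ) G
    fun b hb _ => Groth.Agent.S0071.result f G b hb
  obtain ⟨e', he'⟩ := hb.2
    ((Abelian.Ext.mk₀ (EtCore.pullConst f ℤ).hom).comp e (zero_add n))
  refine ⟨e', ?_⟩
  change ((Abelian.Ext.mk₀ (EtCore.pullConst f ℤ).inv).comp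
    (e'.mapExactFunctor (EtCoh.pull f)) (zero_add n)).comp _ _ = _
  rw [Abelian.Ext.comp_assoc _ _ _ (zero_add n) (add_zero n) (by omega),
    show (e'.mapExactFunctor (EtCoh.pull f)).comp
      (Abelian.Ext.mk₀ ((EtCoh.pullPushAdj f).counit.app G)) (add_zero n) = _ from he',
    Abelian.Ext.mk₀_comp_mk₀_assoc, Iso.inv_hom_id, Abelian.Ext.mk₀_id_comp]

/-- Inverse images preserve being killed by an integer. -/
theorem killedBy_pull {A B : Scheme.{u}} (f : A ⟶ B) {G : EtCoh.Ab B} {n : ℕ}
    (h : EtCoh.KilledBy n G) : EtCoh.KilledBy n ((EtCoh.pull f).obj G) := by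
  have h0 : (n • 𝟙 G : G ⟶ G) = 0 := by
    ext U s
    exact h U.unop s
  intro U s
  have h1 : (n • 𝟙 ((EtCoh.pull f).obj G) : _ ⟶ _) = 0 := by
    rw [← (EtCoh.pull f).map_id, ← Functor.map_nsmul, h0, Functor.map_zero]
  exact congrArg (fun (q : (EtCoh.pull f).obj G ⟶ (EtCoh.pull f).obj G) => q.hom.app (op U) s) h1

/-- A scheme finite étale over a scheme with finitely many connected components has finitely many
connected components. -/
theorem finite_connectedComponents {A B : Scheme.{u}} (f : A ⟶ B) [IsFinite f] [Etale f]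
    (hB : Finite (_root_.ConnectedComponents ↥B)) : Finite (_root_.ConnectedComponents ↥A) := by
  classical
  let F : Set A := ⋃ c : _root_.ConnectedComponents ↥B, f.base ⁻¹' {c.out}
  have hF : F.Finite := Set.finite_iUnion fun c => f.finite_preimage_singleton _
  have hmeet : ∀ D : Set A, IsClopen D → D.Nonempty → (D ∩ F).Nonempty := by
    intro D hD ⟨x, hx⟩
    have hi : IsClopen (f.base '' D) := ⟨f.isClosedMap _ hD.1, f.isOpenMap _ hD.2⟩
    let c : _root_.ConnectedComponents ↥B := ConnectedComponents.mk (f.base x)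
    have hc : connectedComponent c.out = connectedComponent (f.base x) :=
      ConnectedComponents.coe_eq_coe.1 (Quotient.out_eq c)
    obtain ⟨y, hy, hy'⟩ := hi.connectedComponent_subset ⟨x, hx, rfl⟩
      (hc ▸ mem_connectedComponent)
    exact ⟨y, hy, Set.mem_iUnion.2 ⟨c, hy'⟩⟩
  have hinj : Function.Injective
      fun D : {D : Set A // IsClopen D} => ({z : F | (z : A) ∈ D.1} : Set F) := by
    intro D D' hDD
    apply Subtype.ext
    by_contra hne
    obtain ⟨x, hx⟩ : ((D.1 \ D'.1) ∪ (D'.1 \ D.1)).Nonempty := by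
      rw [Set.nonempty_iff_ne_empty]
      intro he
      simp only [Set.union_empty_iff, Set.sdiff_eq_empty] at he
      exact hne (le_antisymm he.1 he.2)
    obtain ⟨y, hy, hyF⟩ := hmeet _ ((D.2.diff D'.2).union (D'.2.diff D.2)) ⟨x, hx⟩
    have := Set.ext_iff.1 hDD ⟨y, hyF⟩
    rcases hy with ⟨h1, h2⟩ | ⟨h1, h2⟩
    · exact h2 (this.1 h1)
    · exact h2 (this.2 h1)
  haveI := hF.to_subtype
  haveI : Finite {D : Set A // IsClopen D} := Finite.of_injective _ hinj
  let K : A → Set A := fun x => ⋂ D : {D : {D : Set A // IsClopen D} // x ∈ D.1}, D.1.1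
  have hK : ∀ x, IsClopen (K x) := fun x => isClopen_iInter_of_finite fun D => D.1.2
  have hxK : ∀ x, x ∈ K x := fun x => Set.mem_iInter.2 fun D => D.2
  have hpre : ∀ x, _root_.IsPreconnected (K x) := by
    intro x u v hu hv hsub ⟨a, haK, hau⟩ ⟨b, hbK, hbv⟩
    by_contra hne
    rw [Set.not_nonempty_iff_eq_empty] at hne
    have hcl : ∀ s t : Set A, IsOpen s → IsOpen t → K x ⊆ s ∪ t → K x ∩ (s ∩ t) = ∅ →
        IsClopen (K x ∩ s) := fun s t hs ht hst he => by
      refine ⟨⟨?_⟩, (hK x).2.inter hs⟩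
      have : (K x ∩ s)ᶜ = (K x)ᶜ ∪ (K x ∩ t) := by
        ext z
        constructor
        · intro hz
          by_cases hzK : z ∈ K x
          · exact Or.inr ⟨hzK, (hst hzK).resolve_left fun hs' => hz ⟨hzK, hs'⟩⟩
          · exact Or.inl hzK
        · rintro (hz | ⟨hzK, hzt⟩) ⟨hzK', hzs⟩
          · exact hz hzK'
          · exact (Set.eq_empty_iff_forall_notMem.1 he z) ⟨hzK, hzs, hzt⟩
      rw [this]
      exact (hK x).1.isOpen_compl.union ((hK x).2.inter ht)
    have hu' := hcl u v hu hv hsub hne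
    have hv' := hcl v u hv hu (by rwa [Set.union_comm]) (by rwa [Set.inter_comm v u])
    rcases hsub (hxK x) with hxu | hxv
    · have := Set.mem_iInter.1 hbK ⟨⟨_, hu'⟩, hxK x, hxu⟩
      exact Set.eq_empty_iff_forall_notMem.1 hne b ⟨hbK, this.2, hbv⟩
    · have := Set.mem_iInter.1 haK ⟨⟨_, hv'⟩, hxK x, hxv⟩
      exact Set.eq_empty_iff_forall_notMem.1 hne a ⟨haK, hau, this.2⟩
  refine Finite.of_injective (fun c : _root_.ConnectedComponents ↥A =>
    {D : {D : Set A // IsClopen D} | c.out ∈ D.1}) fun c c' h => ?_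
  have hcc : c'.out ∈ K c.out := Set.mem_iInter.2 fun D => (Set.ext_iff.1 h D.1).1 D.2
  rw [← Quotient.out_eq c, ← Quotient.out_eq c']
  exact ConnectedComponents.coe_eq_coe.2
    (connectedComponent_eq ((hpre _).subset_connectedComponent (hxK _) hcc))

/-- Let P be a set of prime numbers and f : X → Y a finite étale surjective morphism of schemes, where Y
is quasi-compact and quasi-separated with finitely many connected components. Then X is
quasi-compact and quasi-separated with finitely many connected components, and Y is a K(π,1) for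
P-torsion coefficients if and only if X is; here a scheme Z is called a K(π,1) for P-torsion
coefficients when for every finite locally constant abelian sheaf F on the small étale site of Z
killed by some n ≥ 1 all of whose prime factors lie in P, every q > 0 and every class ζ in H^q(Z_ét,
F) there is a finite étale surjective g : Z' → Z with g^*ζ = 0. (Exactness of pullback of abelian
sheaves, which always holds, is carried as an instance hypothesis.) -/
theorem result (P : Set ℕ) {X Y : Scheme.{u}} (f : X ⟶ Y)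
    [IsFinite f] [Etale f] [Surjective f] [CompactSpace ↥Y] [QuasiSeparatedSpace ↥Y]
    (hconn : Finite (_root_.ConnectedComponents ↥Y)) :
    (CompactSpace ↥X ∧ QuasiSeparatedSpace ↥X ∧ Finite (_root_.ConnectedComponents ↥X)) ∧
    ((∀ (F : EtCoh.Ab Y), EtCoh.IsFiniteLocallyConstant F →
        (∃ n : ℕ, 0 < n ∧ (∀ p : ℕ, p.Prime → p ∣ n → p ∈ P) ∧ EtCoh.KilledBy n F) →
        ∀ q : ℕ, 0 < q → ∀ ζ : EtCoh.H Y F q,
          ∃ (Y' : Scheme.{u}) (g : Y' ⟶ Y), IsFinite g ∧ Etale g ∧ Surjective g ∧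
            ∀ [PreservesFiniteLimits (EtCoh.pull g)], EtCore.Hpull g F q ζ = 0) ↔
     (∀ (F : EtCoh.Ab X), EtCoh.IsFiniteLocallyConstant F →
        (∃ n : ℕ, 0 < n ∧ (∀ p : ℕ, p.Prime → p ∣ n → p ∈ P) ∧ EtCoh.KilledBy n F) →
        ∀ q : ℕ, 0 < q → ∀ ζ : EtCoh.H X F q,
          ∃ (X' : Scheme.{u}) (g : X' ⟶ X), IsFinite g ∧ Etale g ∧ Surjective g ∧
            ∀ [PreservesFiniteLimits (EtCoh.pull g)], EtCore.Hpull g F q ζ = 0)) := by
  have hX : CompactSpace ↥X := QuasiCompact.compactSpace_of_compactSpace f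
  refine ⟨⟨hX, quasiSeparatedSpace_of_quasiSeparated f, finite_connectedComponents f hconn⟩,
    fun H F hF hn q hq ζ => ?_, fun H F hF hn q hq ζ => ?_⟩
  · obtain ⟨n, hn0, hnP, hnk⟩ := hn
    obtain ⟨e, he⟩ := exists_push_class f ζ
    obtain ⟨Y', g, hg₁, hg₂, hg₃, hg⟩ := H ((EtCoh.push f).obj F) (Groth.Agent.S0106.result f F hF)
      ⟨n, hn0, hnP, fun U s => hnk _ s⟩ q hq e
    haveI := hg₁; haveI := hg₂; haveI := hg₃
    refine ⟨pullback f g, pullback.fst f g,
      MorphismProperty.pullback_fst (P := @IsFinite) f g hg₁,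
      MorphismProperty.pullback_fst (P := @Etale) f g hg₂,
      MorphismProperty.pullback_fst (P := @Surjective) f g hg₃, ?_⟩
    intro hlim
    rw [← he, EtaleSite.HpullSeq.Hpull_postcomp]
    have h1 : EtCore.Hpull (pullback.fst f g ≫ f) _ q e = 0 :=
      Hpull_eq_zero_congr pullback.condition.symm
        ((Hpull_comp_eq_zero (pullback.snd f g) g e).2 (by rw [hg, map_zero]))
    rw [(Hpull_comp_eq_zero (pullback.fst f g) f e).1 h1, Abelian.Ext.zero_comp]
  · obtain ⟨n, hn0, hnP, hnk⟩ := hn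
    obtain ⟨X', g, hg₁, hg₂, hg₃, hg⟩ := H ((EtCoh.pull f).obj F) (EtConsAb.isFLC_pull f hF)
      ⟨n, hn0, hnP, killedBy_pull f hnk⟩ q hq (EtCore.Hpull f F q ζ)
    haveI := hg₁; haveI := hg₂; haveI := hg₃
    refine ⟨X', g ≫ f, inferInstance, inferInstance, inferInstance, ?_⟩
    intro hlim
    exact (Hpull_comp_eq_zero g f ζ).2 hg

end Groth.Agent.S14382
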