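import Groth.Statements.S14383
import Groth.Agent.CAlg76.SmoothRelDim
import Mathlib
-- import your own Groth.Agent.* helpers here

set_option autoImplicit false
open scoped TensorProduct
open AlgebraicGeometry
universe u
open CAlg

namespace Groth.Agent.S14383


open TensorProduct in
attribute [local instance] Algebra.TensorProduct.rightAlgebra in
private theorem conv (V : Type u) [CommRing V] [IsDomain V] [IsDiscreteValuationRing V] [CharZero V]
    (ϖ : V) (hϖ : Irreducible ϖ) (p : ℕ) [Fact p.Prime]
    (A : Type u) [CommRing A] [Algebra V A] [Algebra.FiniteType V A]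
    (R : Type u) [CommRing R] [Algebra V R] [Algebra.FiniteType V R] [Algebra A R] [IsScalarTower V A R]
    (d n : ℕ) (r : R)
    (hA : SmoothOfRelativeDimension d
        (Spec.map (CommRingCat.ofHom (algebraMap (FractionRing V) (FractionRing V ⊗[V] A)))))
    (hR : SmoothOfRelativeDimension d
        (Spec.map (CommRingCat.ofHom (algebraMap (FractionRing V) (FractionRing V ⊗[V] R)))))
    (hr : ∀ z : Ω[R⁄A], (r * (p : R) ^ n) • z = 0) :
    ((algebraMap R (Localization.Away (r * algebraMap V R ϖ))).comp (algebraMap A R)).Etale := by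
  let K := FractionRing V
  haveI hKloc : IsLocalization.Away ϖ K := by
    refine (IsLocalization.iff_of_le_of_exists_dvd (Submonoid.powers ϖ) (nonZeroDivisors V)
      (by rw [Submonoid.powers_le]; exact mem_nonZeroDivisors_of_ne_zero hϖ.ne_zero) (fun x hx => ?_)).mpr inferInstance
    obtain ⟨m, hm⟩ := IsDiscreteValuationRing.associated_pow_irreducible (nonZeroDivisors.ne_zero hx) hϖ
    exact ⟨ϖ ^ m, ⟨m, rfl⟩, hm.dvd⟩
  have hp0 : IsUnit ((p : ℕ) : K) := by
    rw [isUnit_iff_ne_zero, ← map_natCast (algebraMap V K)]
    exact fun h => (Nat.cast_ne_zero.mpr (Fact.out (p := p.Prime)).ne_zero) ((map_eq_zero_iff _ (IsFractionRing.injective V K)).mp h)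
  let B := K ⊗[V] A
  let C0 := K ⊗[V] R
  haveI hBloc : IsLocalization.Away (algebraMap V A ϖ) B := by
    have : IsLocalization (Algebra.algebraMapSubmonoid A (Submonoid.powers ϖ)) B := inferInstance
    rwa [Algebra.algebraMapSubmonoid_powers] at this
  haveI hC0loc : IsLocalization.Away (algebraMap V R ϖ) C0 := by
    have : IsLocalization (Algebra.algebraMapSubmonoid R (Submonoid.powers ϖ)) C0 := inferInstance
    rwa [Algebra.algebraMapSubmonoid_powers] at this
  let C := Localization.Away (algebraMap R C0 r)
  haveI hCloc : IsLocalization.Away (r * algebraMap V R ϖ) C := by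
    rw [mul_comm]
    exact IsLocalization.Away.mul' C0 C (algebraMap V R ϖ) r
  let ψ : B →ₐ[K] C0 := Algebra.TensorProduct.map (AlgHom.id K K) (IsScalarTower.toAlgHom V A R)
  letI algBC : Algebra B C := ((algebraMap C0 C).comp ψ.toRingHom).toAlgebra
  haveI : IsScalarTower K B C := IsScalarTower.of_algebraMap_eq (R := K) (S := B) (A := C) fun x => by
    show algebraMap K C x = algebraMap C0 C (ψ (algebraMap K B x))
    rw [ψ.commutes, ← IsScalarTower.algebraMap_apply]
  letI algAC : Algebra A C := ((algebraMap R C).comp (algebraMap A R)).toAlgebra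
  haveI : IsScalarTower A R C := IsScalarTower.of_algebraMap_eq fun _ => rfl
  haveI : IsScalarTower A B C := IsScalarTower.of_algebraMap_eq fun x => by
    show algebraMap R C (algebraMap A R x) = algebraMap C0 C (ψ ((1 : K) ⊗ₜ[V] x))
    rw [IsScalarTower.algebraMap_apply R C0 C]
    rfl
  haveI hCsm0 : Algebra.Smooth K C0 := Groth.Agent.CAlg76.SmoothRelDim.smooth_of_rel hR
  haveI : Algebra.Etale C0 C := Algebra.Etale.of_isLocalizationAway (algebraMap R C0 r)
  haveI : Algebra.Smooth K C := Algebra.Smooth.comp K C0 C
  have hrank : ∀ Q : PrimeSpectrum C, Module.rankAtStalk (R := C) (Ω[C⁄K]) Q = d :=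
    fun Q => Groth.Agent.CAlg76.SmoothRelDim.rankAtStalk_kaehler_etale hR C Q
  haveI : Algebra.FormallyUnramified A C := by
    refine ⟨subsingleton_of_forall_eq 0 (fun y => ?_)⟩
    obtain ⟨⟨z, s⟩, hz⟩ := IsLocalizedModule.surj (Submonoid.powers (r * algebraMap V R ϖ))
      (KaehlerDifferential.map A A R C) y
    have h0 : KaehlerDifferential.map A A R C z = 0 := by
      have h1 := congrArg (KaehlerDifferential.map A A R C) (hr z)
      rw [map_smul, map_zero, ← algebraMap_smul C (r * (p : R) ^ n)] at h1
      have hu : IsUnit (algebraMap R C (r * (p : R) ^ n)) := by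
        rw [map_mul, map_pow, map_natCast]
        refine IsUnit.mul ?_ (IsUnit.pow n ?_)
        · rw [IsScalarTower.algebraMap_apply R C0 C]
          exact IsLocalization.Away.algebraMap_isUnit _
        · rw [← map_natCast (algebraMap K C)]
          exact hp0.map (algebraMap K C)
      exact hu.smul_eq_zero.mp h1
    rw [h0, Submonoid.smul_def, ← algebraMap_smul C (s : R) y] at hz
    exact (IsLocalization.map_units C s).smul_eq_zero.mp hz
  haveI : Algebra.FormallyUnramified B C := Algebra.FormallyUnramified.of_restrictScalars (R := A) (A := B) (B := C)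
  haveI : Algebra.Etale B C := Groth.Agent.CAlg76.SmoothRelDim.etale_of_unramified hA hrank
  haveI : Algebra.Etale A B := Algebra.Etale.of_isLocalizationAway (algebraMap V A ϖ)
  haveI : Algebra.Etale A C := Algebra.Etale.comp A B C
  let e := IsLocalization.algEquiv (Submonoid.powers (r * algebraMap V R ϖ)) C (Localization.Away (r * algebraMap V R ϖ))
  haveI : Algebra.Etale A (Localization.Away (r * algebraMap V R ϖ)) := Algebra.Etale.of_equiv (e.restrictScalars A)
  rw [← IsScalarTower.algebraMap_eq A R (Localization.Away (r * algebraMap V R ϖ))]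
  exact RingHom.etale_algebraMap.mpr inferInstance

/-- Let V be a discrete valuation ring of characteristic zero with uniformizer ϖ, whose residue field k
is perfect of characteristic p > 0, and let A → R be a homomorphism of V-algebras of finite type,
viewed as a morphism f : Spec R → Spec A of schemes of finite type over Spec V. Say f is η-étale
when there is an open neighbourhood of the closed fibre of Spec R on whose generic fibre f is étale;
for affine Spec R this means: some a ∈ R with (a) + (ϖ) = R has R[1/(aϖ)] étale over A. First: if f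
is η-étale then for some n ≥ 0 the submodule p^n Ω_{R/A} of the module of differentials is contained
in ϖ p^n Ω_{R/A} (that is, p^n Ω_{R/A} vanishes along the closed fibre). Conversely: if the generic
fibres Spec(K ⊗_V A) and Spec(K ⊗_V R) are both smooth over K of the same relative dimension d, K
the fraction field of V, then such an n forces f to be η-étale. (The published statement is for
arbitrary schemes X → Y of finite type over V and also lists an intermediate equivalent condition,
that the restriction of p^n Ω_{X/Y} to the closed fibre as an abelian sheaf vanishes for some n;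
this row is the case of affine schemes and states the other two conditions.) -/
theorem result (V : Type u) [CommRing V] [IsDomain V] [IsDiscreteValuationRing V] [CharZero V]
    (ϖ : V) (hϖ : Irreducible ϖ) (p : ℕ) [Fact p.Prime] [CharP (IsLocalRing.ResidueField V) p]
    [PerfectField (IsLocalRing.ResidueField V)]
    (A : Type u) [CommRing A] [Algebra V A] [Algebra.FiniteType V A]
    (R : Type u) [CommRing R] [Algebra V R] [Algebra.FiniteType V R] [Algebra A R] [IsScalarTower V A R] :
    ((∃ a : R, Ideal.span {a} ⊔ Ideal.span {algebraMap V R ϖ} = ⊤ ∧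
        ((algebraMap R (Localization.Away (a * algebraMap V R ϖ))).comp (algebraMap A R)).Etale) →
      ∃ n : ℕ, Ideal.span {((p : R)) ^ n} • (⊤ : Submodule R (Ω[R⁄A])) ≤
        Ideal.span {algebraMap V R ϖ * (p : R) ^ n} • (⊤ : Submodule R (Ω[R⁄A]))) ∧
    (∀ d : ℕ, SmoothOfRelativeDimension d
        (Spec.map (CommRingCat.ofHom (algebraMap (FractionRing V) (FractionRing V ⊗[V] A)))) →
      SmoothOfRelativeDimension d
        (Spec.map (CommRingCat.ofHom (algebraMap (FractionRing V) (FractionRing V ⊗[V] R)))) →
      (∃ n : ℕ, Ideal.span {((p : R)) ^ n} • (⊤ : Submodule R (Ω[R⁄A])) ≤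
        Ideal.span {algebraMap V R ϖ * (p : R) ^ n} • (⊤ : Submodule R (Ω[R⁄A]))) →
      ∃ a : R, Ideal.span {a} ⊔ Ideal.span {algebraMap V R ϖ} = ⊤ ∧
        ((algebraMap R (Localization.Away (a * algebraMap V R ϖ))).comp (algebraMap A R)).Etale) := by
  constructor
  · rintro ⟨a, ha, het⟩
    classical
    haveI : Algebra.FiniteType A R := Algebra.FiniteType.of_restrictScalars_finiteType V A R
    haveI : Module.Finite R (Ω[R⁄A]) := inferInstance
    rw [← IsScalarTower.algebraMap_eq A R (Localization.Away (a * algebraMap V R ϖ)), RingHom.etale_algebraMap] at het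
    haveI := het
    have hkill : ∀ z : Ω[R⁄A], ∃ k : ℕ, (a * algebraMap V R ϖ) ^ k • z = 0 := by
      intro z
      obtain ⟨⟨_, k, rfl⟩, hk⟩ := (IsLocalizedModule.eq_zero_iff (Submonoid.powers (a * algebraMap V R ϖ))
        (KaehlerDifferential.map A A R (Localization.Away (a * algebraMap V R ϖ))) (m := z)).mp (Subsingleton.elim _ _)
      exact ⟨k, hk⟩
    choose k hk using hkill
    obtain ⟨t, ht⟩ := (Module.Finite.fg_top : (⊤ : Submodule R (Ω[R⁄A])).FG)
    let N := t.sup k
    have hN : ∀ z : Ω[R⁄A], (a * algebraMap V R ϖ) ^ N • z = 0 := by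
      intro z
      have hz : z ∈ Submodule.span R (t : Set (Ω[R⁄A])) := by rw [ht]; trivial
      induction hz using Submodule.span_induction with
      | mem x hx =>
        obtain ⟨m, hm⟩ := Nat.exists_eq_add_of_le (Finset.le_sup (f := k) hx)
        rw [show N = k x + m from hm, pow_add, mul_comm, mul_smul, hk, smul_zero]
      | zero => exact smul_zero _
      | add x y _ _ hx hy => rw [smul_add, hx, hy, add_zero]
      | smul c x _ hx => rw [smul_comm, hx, smul_zero]
    obtain ⟨v, hv⟩ : ∃ v : R, (p : R) = algebraMap V R ϖ * v := by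
      have h : (p : V) ∈ IsLocalRing.maximalIdeal V := by
        rw [← IsLocalRing.residue_eq_zero_iff, map_natCast, CharP.cast_eq_zero]
      rw [hϖ.maximalIdeal_eq, Ideal.mem_span_singleton] at h
      obtain ⟨v, hv⟩ := h
      exact ⟨algebraMap V R v, by rw [← map_natCast (algebraMap V R), hv, map_mul]⟩
    obtain ⟨c, b, hcb⟩ := IsCoprime.pow_left (m := N) ((Ideal.isCoprime_span_singleton_iff a (algebraMap V R ϖ)).mp (Ideal.isCoprime_iff_sup_eq.mpr ha))
    refine ⟨N, ?_⟩
    rw [Submodule.smul_le]
    intro x hx z _
    obtain ⟨w, rfl⟩ := Ideal.mem_span_singleton'.mp hx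
    have h0 : (a ^ N * (p : R) ^ N) • z = 0 := by
      rw [hv, mul_pow, ← mul_assoc, ← mul_pow, mul_comm _ (v ^ N), mul_smul, hN, smul_zero]
    have e : (w * (p : R) ^ N) • z = (w * b * (algebraMap V R ϖ * (p : R) ^ N)) • z + (w * c) • ((a ^ N * (p : R) ^ N) • z) := by
      rw [smul_smul, ← add_smul]
      congr 1
      linear_combination -(w * (p : R) ^ N) * hcb
    rw [e, h0, smul_zero, add_zero]
    exact Submodule.smul_mem_smul (Ideal.mul_mem_left _ _ (Ideal.mem_span_singleton_self _)) Submodule.mem_top
  · intro d hA hR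
    rintro ⟨n, hn⟩
    haveI : Algebra.FiniteType A R := Algebra.FiniteType.of_restrictScalars_finiteType V A R
    haveI : Module.Finite R (Ω[R⁄A]) := inferInstance
    have hle : Ideal.span {((p : R)) ^ n} • (⊤ : Submodule R (Ω[R⁄A])) ≤
        Ideal.span {algebraMap V R ϖ} • (Ideal.span {((p : R)) ^ n} • (⊤ : Submodule R (Ω[R⁄A]))) := by
      rw [← Submodule.mul_smul, Ideal.span_singleton_mul_span_singleton]
      exact hn
    obtain ⟨r, hr1, hr⟩ := Submodule.exists_sub_one_mem_and_smul_eq_zero_of_fg_of_le_smul
      (Ideal.span {algebraMap V R ϖ}) (Ideal.span {((p : R)) ^ n} • (⊤ : Submodule R (Ω[R⁄A])))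
      (Submodule.FG.smul (Submodule.fg_span_singleton _) Module.Finite.fg_top) hle
    refine ⟨r, ?_, conv V ϖ hϖ p A R d n r hA hR (fun z => ?_)⟩
    · rw [Ideal.eq_top_iff_one, show (1 : R) = r - (r - 1) by ring]
      exact Submodule.sub_mem _ (Ideal.mem_sup_left (Ideal.mem_span_singleton_self r)) (Ideal.mem_sup_right hr1)
    · rw [mul_smul]
      exact hr _ (Submodule.smul_mem_smul (Ideal.mem_span_singleton_self _) Submodule.mem_top)

end Groth.Agent.S14383
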