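import Groth.Statements.S14384
import Mathlib
-- import your own Groth.Agent.* helpers here

set_option autoImplicit false
universe u
open CAlg

namespace Groth.Agent.S14384

/-- Let V be a discrete valuation ring of characteristic zero with uniformizer ϖ, whose residue field is
perfect of characteristic p > 0, let R be a V-algebra of finite type, x'_1, …, x'_d elements of R
defining a morphism f' from Spec R to affine d-space over V, and n ≥ 0 such that p^n Ω_{f'} vanishes
along the closed fibre, written inside Ω_{R/V} as p^n Ω_{R/V} ⊆ ϖ p^n Ω_{R/V} + Σ_i R dx'_i. If y_1,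
…, y_d lie in the subring of R generated by the p^(n+1)-th powers of elements of R, then the
morphism f = f' + (y_1, …, y_d) has the same property: p^n Ω_{R/V} ⊆ ϖ p^n Ω_{R/V} + Σ_i R d(x'_i +
y_i). -/
theorem result (V : Type u) [CommRing V] [IsDomain V] [IsDiscreteValuationRing V] [CharZero V]
    (ϖ : V) (hϖ : Irreducible ϖ) (p : ℕ) [Fact p.Prime] [CharP (IsLocalRing.ResidueField V) p]
    [PerfectField (IsLocalRing.ResidueField V)]
    (R : Type u) [CommRing R] [Algebra V R] [Algebra.FiniteType V R] (d n : ℕ) (x' : Fin d → R)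
    (hx' : Ideal.span {((p : R)) ^ n} • (⊤ : Submodule R (Ω[R⁄V])) ≤
      Ideal.span {algebraMap V R ϖ * (p : R) ^ n} • (⊤ : Submodule R (Ω[R⁄V])) ⊔
        Submodule.span R (Set.range fun i => KaehlerDifferential.D V R (x' i)))
    (y : Fin d → R) (hy : ∀ i, y i ∈ Subring.closure (Set.range fun r : R => r ^ (p ^ (n + 1)))) :
    Ideal.span {((p : R)) ^ n} • (⊤ : Submodule R (Ω[R⁄V])) ≤
      Ideal.span {algebraMap V R ϖ * (p : R) ^ n} • (⊤ : Submodule R (Ω[R⁄V])) ⊔
        Submodule.span R (Set.range fun i => KaehlerDifferential.D V R (x' i + y i)) := by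
  have hp : algebraMap V R ϖ ∣ (p : R) := by
    have h : (p : V) ∈ IsLocalRing.maximalIdeal V := by
      rw [← IsLocalRing.residue_eq_zero_iff, map_natCast, CharP.cast_eq_zero]
    rw [hϖ.maximalIdeal_eq, Ideal.mem_span_singleton] at h
    obtain ⟨v, hv⟩ := h
    exact ⟨algebraMap V R v, by rw [← map_natCast (algebraMap V R), hv, map_mul]⟩
  set J : Submodule R (Ω[R⁄V]) := Ideal.span {algebraMap V R ϖ * (p : R) ^ n} • (⊤ : Submodule R (Ω[R⁄V]))
  have hd : ∀ i, KaehlerDifferential.D V R (y i) ∈ J := by
    intro i
    have hy' := hy i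
    generalize y i = z at hy' ⊢
    induction hy' using Subring.closure_induction with
    | mem x hx =>
      obtain ⟨r, rfl⟩ := hx
      simp only [Derivation.leibniz_pow]
      rw [← Nat.cast_smul_eq_nsmul R, smul_smul]
      refine Submodule.smul_mem_smul ?_ Submodule.mem_top
      rw [Ideal.mem_span_singleton]
      refine dvd_mul_of_dvd_left ?_ _
      rw [Nat.cast_pow, pow_succ, mul_comm]
      exact mul_dvd_mul_left _ hp
    | zero => simp
    | one => simp
    | add a b _ _ ha hb => rw [map_add]; exact J.add_mem ha hb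
    | neg a _ ha => rw [map_neg]; exact J.neg_mem ha
    | mul a b _ _ ha hb => rw [Derivation.leibniz]; exact J.add_mem (J.smul_mem _ hb) (J.smul_mem _ ha)
  refine hx'.trans (sup_le le_sup_left ?_)
  rw [Submodule.span_le]
  rintro _ ⟨i, rfl⟩
  have e : KaehlerDifferential.D V R (x' i) = KaehlerDifferential.D V R (x' i + y i) - KaehlerDifferential.D V R (y i) := by
    simp
  show KaehlerDifferential.D V R (x' i) ∈ _
  rw [e]
  exact Submodule.sub_mem _ (Submodule.mem_sup_right (Submodule.subset_span ⟨i, rfl⟩))
    (Submodule.mem_sup_left (hd i))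

end Groth.Agent.S14384
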