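import Groth.Statements.S14385
import Groth.Agent.CAlg76.FibreDim
import Groth.Agent.S14384
import Groth.Agent.S14383
import Groth.Agent.S14379
import Mathlib
-- import your own Groth.Agent.* helpers here

set_option autoImplicit false
open scoped TensorProduct
open AlgebraicGeometry
universe u
open CAlg

namespace Groth.Agent.S14385


theorem stdSmooth_mvPolynomial (K : Type u) [CommRing K] (d : ℕ) :
    Algebra.IsStandardSmoothOfRelativeDimension d K (MvPolynomial (Fin d) K) := by
  let v : Fin 0 → MvPolynomial (Fin d) K := Fin.elim0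
  let P₀ : Algebra.PreSubmersivePresentation K (MvPolynomial (Fin d) K ⧸ Ideal.span (Set.range v)) (Fin d) (Fin 0) :=
    Algebra.PreSubmersivePresentation.naive Fin.elim0 (fun i => i.elim0)
  have hj : IsUnit P₀.jacobian := by
    classical
    rw [Algebra.PreSubmersivePresentation.jacobian_eq_jacobiMatrix_det, Matrix.det_fin_zero, map_one]
    exact isUnit_one
  let P : Algebra.SubmersivePresentation K (MvPolynomial (Fin d) K ⧸ Ideal.span (Set.range v)) (Fin d) (Fin 0) :=
    ⟨P₀, hj⟩
  haveI : Algebra.IsStandardSmoothOfRelativeDimension d K (MvPolynomial (Fin d) K ⧸ Ideal.span (Set.range v)) :=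
    ⟨⟨_, _, _, inferInstance, P, by simp [Algebra.Presentation.dimension]⟩⟩
  have hbot : Ideal.span (Set.range v) = ⊥ := by simp [Set.range_eq_empty]
  exact .of_algEquiv d ((Ideal.quotientEquivAlgOfEq K hbot).trans (AlgEquiv.quotientBot K _))

theorem smooth_generic_mvPolynomial (V : Type u) [CommRing V] [IsDomain V] (d : ℕ) :
    SmoothOfRelativeDimension d
      (Spec.map (CommRingCat.ofHom
        (algebraMap (FractionRing V) (FractionRing V ⊗[V] MvPolynomial (Fin d) V)))) := by
  haveI := stdSmooth_mvPolynomial (FractionRing V) d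
  haveI : Algebra.IsStandardSmoothOfRelativeDimension d (FractionRing V) (FractionRing V ⊗[V] MvPolynomial (Fin d) V) :=
    .of_algEquiv d (MvPolynomial.algebraTensorAlgEquiv V (FractionRing V) (σ := Fin d)).symm
  rw [HasRingHomProperty.Spec_iff (P := @SmoothOfRelativeDimension d)]
  exact RingHom.locally_of RingHom.isStandardSmoothOfRelativeDimension_respectsIso _
    ((RingHom.isStandardSmoothOfRelativeDimension_algebraMap d).mpr inferInstance)

theorem smul_top_le_iff {R M N : Type u} [CommRing R] [AddCommGroup M] [Module R M] [AddCommGroup N] [Module R N]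
    (f : M →ₗ[R] N) (hf : Function.Surjective f) (I J : Ideal R) :
    I • (⊤ : Submodule R N) ≤ J • (⊤ : Submodule R N) ↔
      I • (⊤ : Submodule R M) ≤ J • (⊤ : Submodule R M) ⊔ LinearMap.ker f := by
  have h : ∀ I : Ideal R, I • (⊤ : Submodule R N) = Submodule.map f (I • (⊤ : Submodule R M)) := fun I => by
    rw [Submodule.map_smul'', Submodule.map_top, LinearMap.range_eq_top.mpr hf]
  rw [h I, h J, Submodule.map_le_iff_le_comap, Submodule.comap_map_eq]

theorem ker_kaehlerMap {V R : Type u} [CommRing V] [CommRing R] [Algebra V R] {d : ℕ} (x : Fin d → R)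
    [Algebra (MvPolynomial (Fin d) V) R] [IsScalarTower V (MvPolynomial (Fin d) V) R]
    (hx : ∀ i, algebraMap (MvPolynomial (Fin d) V) R (MvPolynomial.X i) = x i) :
    LinearMap.ker (KaehlerDifferential.map V (MvPolynomial (Fin d) V) R R) =
      Submodule.span R (Set.range fun i => KaehlerDifferential.D V R (x i)) := by
  rw [LinearMap.exact_iff.mp (KaehlerDifferential.exact_mapBaseChange_map V (MvPolynomial (Fin d) V) R)]
  let b := (KaehlerDifferential.mvPolynomialBasis V (Fin d)).baseChange R
  rw [LinearMap.range_eq_map, ← b.span_eq, Submodule.map_span, ← Set.range_comp]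
  congr 2
  funext i
  have hi : KaehlerDifferential.mvPolynomialBasis V (Fin d) i =
      KaehlerDifferential.D V (MvPolynomial (Fin d) V) (MvPolynomial.X i) := by
    apply (KaehlerDifferential.mvPolynomialBasis V (Fin d)).repr.injective
    rw [Module.Basis.repr_self, KaehlerDifferential.mvPolynomialBasis_repr_D_X]
  simp [b, hi, hx]

theorem etaEtale_iff (V : Type u) [CommRing V] [IsDomain V] [IsDiscreteValuationRing V] [CharZero V]
    (ϖ : V) (hϖ : Irreducible ϖ) (p : ℕ) [Fact p.Prime] [CharP (IsLocalRing.ResidueField V) p]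
    [PerfectField (IsLocalRing.ResidueField V)]
    (R : Type u) [CommRing R] [Algebra V R] [Algebra.FiniteType V R] (d : ℕ)
    (hsm : SmoothOfRelativeDimension d
      (Spec.map (CommRingCat.ofHom (algebraMap (FractionRing V) (FractionRing V ⊗[V] R)))))
    (x : Fin d → R) :
    (∃ a : R, Ideal.span {a} ⊔ Ideal.span {algebraMap V R ϖ} = ⊤ ∧
        ((algebraMap R (Localization.Away (a * algebraMap V R ϖ))).comp
          (MvPolynomial.aeval x : MvPolynomial (Fin d) V →ₐ[V] R).toRingHom).Etale) ↔
    ∃ n : ℕ, Ideal.span {((p : R)) ^ n} • (⊤ : Submodule R (Ω[R⁄V])) ≤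
      Ideal.span {algebraMap V R ϖ * (p : R) ^ n} • (⊤ : Submodule R (Ω[R⁄V])) ⊔
        Submodule.span R (Set.range fun i => KaehlerDifferential.D V R (x i)) := by
  letI : Algebra (MvPolynomial (Fin d) V) R := (MvPolynomial.aeval x).toRingHom.toAlgebra
  haveI : IsScalarTower V (MvPolynomial (Fin d) V) R := IsScalarTower.of_algebraMap_eq fun v => by
    show _ = MvPolynomial.aeval x (algebraMap V _ v)
    rw [AlgHom.commutes]
  obtain ⟨h1, h2⟩ := Groth.Agent.S14383.result V ϖ hϖ p (MvPolynomial (Fin d) V) R
  have hk := ker_kaehlerMap (V := V) x (fun i => MvPolynomial.aeval_X x i)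
  have hcv := fun n : ℕ => smul_top_le_iff _ (KaehlerDifferential.map_surjective V (MvPolynomial (Fin d) V) R)
    (Ideal.span {((p : R)) ^ n}) (Ideal.span {algebraMap V R ϖ * (p : R) ^ n})
  simp only [hk] at hcv
  exact ⟨fun h => (h1 h).imp fun n => (hcv n).mp,
    fun h => h2 d (smooth_generic_mvPolynomial V d) hsm (h.imp fun n => (hcv n).mpr)⟩

/-- Let V be a discrete valuation ring of characteristic zero with uniformizer ϖ, whose residue field k
is perfect of characteristic p > 0, with fraction field K; let R be a flat V-algebra of finite type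
such that the generic fibre Spec(K ⊗_V R) → Spec K is smooth of relative dimension d; and suppose
some d-tuple x' of elements of R defines a morphism f' from Spec R to affine d-space over V which is
η-étale, meaning that for some a ∈ R with (a) + (ϖ) = R the localisation R[1/(aϖ)] is étale over
V[T_1, …, T_d] via T_i ↦ x'_i (f' is étale on the generic fibre of an open neighbourhood of the
closed fibre). Then there is a d-tuple x in R whose morphism f is η-étale in the same sense and
finite on each fibre: k ⊗_V R is finite over k[T_1, …, T_d] and K ⊗_V R is finite over K[T_1, …,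
T_d] via T_i ↦ 1 ⊗ x_i. -/
theorem result (V : Type u) [CommRing V] [IsDomain V] [IsDiscreteValuationRing V] [CharZero V]
    (ϖ : V) (hϖ : Irreducible ϖ) (p : ℕ) [Fact p.Prime] [CharP (IsLocalRing.ResidueField V) p]
    [PerfectField (IsLocalRing.ResidueField V)]
    (R : Type u) [CommRing R] [Algebra V R] [Module.Flat V R] [Algebra.FiniteType V R] (d : ℕ)
    (hsm : SmoothOfRelativeDimension d
      (Spec.map (CommRingCat.ofHom (algebraMap (FractionRing V) (FractionRing V ⊗[V] R)))))
    (x' : Fin d → R) (hx' : (∃ a : R, Ideal.span {a} ⊔ Ideal.span {algebraMap V R ϖ} = ⊤ ∧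
        ((algebraMap R (Localization.Away (a * algebraMap V R ϖ))).comp
          (MvPolynomial.aeval x' : MvPolynomial (Fin d) V →ₐ[V] R).toRingHom).Etale)) :
    ∃ x : Fin d → R, (∃ a : R, Ideal.span {a} ⊔ Ideal.span {algebraMap V R ϖ} = ⊤ ∧
        ((algebraMap R (Localization.Away (a * algebraMap V R ϖ))).comp
          (MvPolynomial.aeval x : MvPolynomial (Fin d) V →ₐ[V] R).toRingHom).Etale) ∧
      (MvPolynomial.aeval (fun i => (1 : IsLocalRing.ResidueField V) ⊗ₜ[V] x i) :
          MvPolynomial (Fin d) (IsLocalRing.ResidueField V) →ₐ[IsLocalRing.ResidueField V]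
            IsLocalRing.ResidueField V ⊗[V] R).toRingHom.Finite ∧
      (MvPolynomial.aeval (fun i => (1 : FractionRing V) ⊗ₜ[V] x i) :
          MvPolynomial (Fin d) (FractionRing V) →ₐ[FractionRing V] FractionRing V ⊗[V] R).toRingHom.Finite := by
  obtain ⟨n, hn⟩ := (etaEtale_iff V ϖ hϖ p R d hsm x').mp hx'
  have hs := CAlg76.FibreDim.ringKrullDim_closedFibre_le (V := V) (R := R)
    (fun P hP => CAlg76.FibreDim.trdeg_quotient_le_of_smooth hsm P)
  have hη := CAlg76.FibreDim.ringKrullDim_le_of_smooth hsm
  obtain ⟨y, hy, h1, h2⟩ := Groth.Agent.S14379.result V R d hs hη x' (p ^ (n + 1))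
    (Nat.one_le_pow _ _ (Fact.out : p.Prime).pos)
  exact ⟨fun i => x' i + y i, (etaEtale_iff V ϖ hϖ p R d hsm _).mpr
    ⟨n, Groth.Agent.S14384.result V ϖ hϖ p R d n x' hn y hy⟩, h1, h2⟩

end Groth.Agent.S14385
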