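import Groth.Statements.S14386
import Mathlib
-- import your own Groth.Agent.* helpers here

set_option autoImplicit false
universe u
open CAlg

namespace Groth.Agent.S14386


open TrivSqZeroExt

/-- A ring homomorphism into dual numbers lifting the structure map gives a derivation. -/
theorem derivation_of_hom {V S A : Type u} [CommRing V] [CommRing S] [Algebra V S] [CommRing A] [Algebra V A]
    [Algebra S A] [IsScalarTower V S A] (ψ : S →ₐ[V] DualNumber A) (h : ∀ s, (ψ s).fst = algebraMap S A s) :
    ∃ D : Derivation V S A, ∀ s, D s = (ψ s).snd := by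
  let L : S →ₗ[V] A :=
    { toFun := fun s => (ψ s).snd
      map_add' := fun a b => by simp
      map_smul' := fun r a => by simp }
  refine ⟨Derivation.mk' L (fun a b => ?_), fun s => rfl⟩
  show (ψ (a * b)).snd = a • (ψ b).snd + b • (ψ a).snd
  rw [map_mul, DualNumber.snd_mul, h, h, Algebra.smul_def, Algebra.smul_def]
  ring

variable {V : Type u} [CommRing V] [IsDomain V] [IsDiscreteValuationRing V] {ϖ : V}
  {Q : Type u} [CommRing Q] [Algebra V Q] {x y : Q}

/-- Maps on the two generators with `a * b = ϖ` extend. -/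
abbrev HasLift (ϖ : V) (x y : Q) : Prop :=
  ∀ (S : Type u) [CommRing S] [Algebra V S] (a b : S), a * b = algebraMap V S ϖ →
    ∃ φ : Q →ₐ[V] S, φ x = a ∧ φ y = b

theorem algHom_ext_gen (hgen : Algebra.adjoin V ({x, y} : Set Q) = ⊤) {S : Type u} [CommRing S] [Algebra V S]
    {f g : Q →ₐ[V] S} (hx : f x = g x) (hy : f y = g y) : f = g :=
  AlgHom.ext_of_adjoin_eq_top hgen (by rintro z (rfl | rfl); exacts [hx, hy])

theorem derivation_ext {h : Q} {B : Type u} [CommRing B] [Algebra V B] [Algebra Q B] [IsScalarTower V Q B]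
    [IsLocalization.Away h B] (hgen : Algebra.adjoin V ({x, y} : Set Q) = ⊤)
    {M : Type u} [AddCommGroup M] [Module B M] [Module V M] [IsScalarTower V B M]
    {d₁ d₂ : Derivation V B M} (hx : d₁ (algebraMap Q B x) = d₂ (algebraMap Q B x))
    (hy : d₁ (algebraMap Q B y) = d₂ (algebraMap Q B y)) : d₁ = d₂ := by
  have hz : ∀ z : Q, d₁ (algebraMap Q B z) = d₂ (algebraMap Q B z) := by
    intro z
    have hz : z ∈ Algebra.adjoin V ({x, y} : Set Q) := hgen ▸ Algebra.mem_top
    induction hz using Algebra.adjoin_induction with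
    | mem z hz => obtain rfl | rfl := hz <;> assumption
    | algebraMap r => rw [← IsScalarTower.algebraMap_apply, Derivation.map_algebraMap, Derivation.map_algebraMap]
    | add a b _ _ ha hb => rw [map_add, map_add, map_add, ha, hb]
    | mul a b _ _ ha hb => rw [map_mul, Derivation.leibniz, Derivation.leibniz, ha, hb]
  refine Derivation.ext fun b => ?_
  obtain ⟨⟨a, s⟩, hb⟩ := IsLocalization.surj (Submonoid.powers h) b
  have h1 := hz a
  rw [← hb, Derivation.leibniz, Derivation.leibniz, hz s, add_right_inj] at h1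
  exact (IsLocalization.map_units B s).smul_left_cancel.mp h1

theorem exists_dual_lift (hgen : Algebra.adjoin V ({x, y} : Set Q) = ⊤) (hxy : x * y = algebraMap V Q ϖ)
    (hlift : HasLift ϖ x y) {h : Q} {B : Type u} [CommRing B] [Algebra V B] [Algebra Q B]
    [IsScalarTower V Q B] [IsLocalization.Away h B] {A : Type u} [CommRing A] [Algebra V A]
    (ρ : B →ₐ[V] A) (a b : A) (hab : ρ (algebraMap Q B x) * b + ρ (algebraMap Q B y) * a = 0) :
    ∃ ψ : B →ₐ[V] DualNumber A, (∀ z, (ψ z).fst = ρ z) ∧
      (ψ (algebraMap Q B x)).snd = a ∧ (ψ (algebraMap Q B y)).snd = b := by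
  let X : DualNumber A := inl (ρ (algebraMap Q B x)) + inr a
  let Y : DualNumber A := inl (ρ (algebraMap Q B y)) + inr b
  have hXY : X * Y = algebraMap V (DualNumber A) ϖ := by
    refine TrivSqZeroExt.ext ?_ ?_
    · rw [algebraMap_eq_inl', fst_mul, fst_inl]
      simp only [X, Y, fst_add, fst_inl, fst_inr, add_zero]
      rw [← map_mul, ← map_mul, hxy, ← IsScalarTower.algebraMap_apply, AlgHom.commutes]
    · rw [algebraMap_eq_inl', DualNumber.snd_mul, snd_inl]
      simp only [X, Y, fst_add, fst_inl, fst_inr, add_zero, snd_add, snd_inl, snd_inr, zero_add]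
      rw [← hab]; ring
  obtain ⟨φ, hφx, hφy⟩ := hlift (DualNumber A) X Y hXY
  have hfst : (fstHom V A A).comp φ = ρ.comp (IsScalarTower.toAlgHom V Q B) := by
    apply algHom_ext_gen hgen <;> simp [hφx, hφy, X, Y]
  have hu : ∀ z : Submonoid.powers h, IsUnit (φ z) := fun z => by
    rw [isUnit_iff_isUnit_fst, show (φ z).fst = ρ (algebraMap Q B z) from AlgHom.congr_fun hfst z]
    exact (IsLocalization.map_units B z).map ρ
  refine ⟨IsLocalization.liftAlgHom (M := Submonoid.powers h) hu, fun z => ?_, ?_, ?_⟩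
  · refine AlgHom.congr_fun (?_ : (fstHom V A A).comp (IsLocalization.liftAlgHom (M := Submonoid.powers h) hu) = ρ) z
    refine IsLocalization.algHom_ext (Submonoid.powers h) ?_
    apply AlgHom.ext
    intro q
    show (IsLocalization.liftAlgHom (M := Submonoid.powers h) hu (algebraMap Q B q)).fst = ρ (algebraMap Q B q)
    rw [IsLocalization.liftAlgHom_apply, IsLocalization.lift_eq]
    exact AlgHom.congr_fun hfst q
  · simp [IsLocalization.lift_eq, hφx, X]
  · simp [IsLocalization.lift_eq, hφy, Y]

theorem ker_kaehlerMap_polynomial {V R : Type u} [CommRing V] [CommRing R] [Algebra V R] (f : R)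
    [Algebra (Polynomial V) R] [IsScalarTower V (Polynomial V) R]
    (hf : ∀ p, algebraMap (Polynomial V) R p = Polynomial.aeval f p) :
    LinearMap.ker (KaehlerDifferential.map V (Polynomial V) R R) ≤
      Submodule.span R {KaehlerDifferential.D V R f} := by
  rw [LinearMap.exact_iff.mp (KaehlerDifferential.exact_mapBaseChange_map V (Polynomial V) R)]
  rintro _ ⟨z, rfl⟩
  induction z with
  | zero => simp
  | add a b ha hb => rw [map_add]; exact add_mem ha hb
  | tmul r w =>
    rw [KaehlerDifferential.mapBaseChange_tmul]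
    refine Submodule.smul_mem _ r ?_
    have hw : w ∈ Submodule.span (Polynomial V) (Set.range (KaehlerDifferential.D V (Polynomial V))) := by
      rw [KaehlerDifferential.span_range_derivation]; trivial
    induction hw using Submodule.span_induction with
    | mem w hw =>
      obtain ⟨p, rfl⟩ := hw
      rw [KaehlerDifferential.map_D, hf, Derivation.map_aeval]
      exact Submodule.smul_mem _ _ (Submodule.mem_span_singleton_self _)
    | zero => simp
    | add a b _ _ ha hb => rw [map_add]; exact add_mem ha hb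
    | smul c a _ ha => rw [map_smul]; exact Submodule.smul_of_tower_mem _ c ha

theorem exists_repr (hgen : Algebra.adjoin V ({x, y} : Set Q) = ⊤) (z : Q) :
    ∃ p : Polynomial V, z - Polynomial.aeval y p ∈ Ideal.span {x} := by
  have hz : z ∈ Algebra.adjoin V ({x, y} : Set Q) := hgen ▸ Algebra.mem_top
  induction hz using Algebra.adjoin_induction with
  | mem z hz =>
    obtain rfl | rfl := hz
    · exact ⟨0, by simpa using Ideal.mem_span_singleton_self _⟩
    · exact ⟨Polynomial.X, by simp⟩
  | algebraMap r => exact ⟨Polynomial.C r, by simp⟩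
  | add a b _ _ ha hb =>
    obtain ⟨p, hp⟩ := ha; obtain ⟨q, hq⟩ := hb
    exact ⟨p + q, by rw [map_add, add_sub_add_comm]; exact add_mem hp hq⟩
  | mul a b _ _ ha hb =>
    obtain ⟨p, hp⟩ := ha; obtain ⟨q, hq⟩ := hb
    refine ⟨p * q, ?_⟩
    rw [map_mul, show a * b - Polynomial.aeval y p * Polynomial.aeval y q =
      (a - Polynomial.aeval y p) * b + Polynomial.aeval y p * (b - Polynomial.aeval y q) by ring]
    exact add_mem (Ideal.mul_mem_right _ _ hp) (Ideal.mul_mem_left _ _ hq)

/-- The ideal `(x)` is the kernel of the branch map to `k[Y]`. -/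
theorem exists_branch (hgen : Algebra.adjoin V ({x, y} : Set Q) = ⊤) (hϖ : Irreducible ϖ)
    (hxy : x * y = algebraMap V Q ϖ) (hlift : HasLift ϖ x y) :
    ∃ φ : Q →ₐ[V] Polynomial (IsLocalRing.ResidueField V), φ y = Polynomial.X ∧ φ x = 0 ∧
      RingHom.ker φ = Ideal.span {x} ∧
      RingHom.ker (((Polynomial.aeval (0 : IsLocalRing.ResidueField V)).restrictScalars V).comp φ) = Ideal.span {x, y} := by
  obtain ⟨φ, hφx, hφy⟩ := hlift (Polynomial (IsLocalRing.ResidueField V)) 0 Polynomial.X (by
    rw [zero_mul, IsScalarTower.algebraMap_apply V (IsLocalRing.ResidueField V),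
      IsLocalRing.ResidueField.algebraMap_eq, (IsLocalRing.residue_eq_zero_iff ϖ).mpr
        (hϖ.maximalIdeal_eq ▸ Ideal.mem_span_singleton_self ϖ), map_zero])
  have hϖx : ∀ v ∈ IsLocalRing.maximalIdeal V, algebraMap V Q v ∈ Ideal.span {x} := fun v hv => by
    rw [hϖ.maximalIdeal_eq, Ideal.mem_span_singleton] at hv
    obtain ⟨w, rfl⟩ := hv
    rw [map_mul, ← hxy, mul_assoc]
    exact Ideal.mul_mem_right _ _ (Ideal.mem_span_singleton_self x)
  have hφp : ∀ p : Polynomial V, φ (Polynomial.aeval y p) = p.map (IsLocalRing.residue V) := by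
    intro p
    rw [← Polynomial.aeval_algHom_apply, hφy, Polynomial.aeval_X_left_eq_map]
    rfl
  have hker : RingHom.ker φ = Ideal.span {x} := by
    refine le_antisymm (fun z hz => ?_) (by simp [Ideal.span_le, RingHom.mem_ker, hφx])
    obtain ⟨p, hp⟩ := exists_repr hgen z
    obtain ⟨c, hc⟩ := Ideal.mem_span_singleton.mp hp
    have h1 : p.map (IsLocalRing.residue V) = 0 := by
      rw [← hφp, ← sub_eq_zero.mp (show φ z - φ (Polynomial.aeval y p) = 0 by rw [← map_sub, hc, map_mul, hφx, zero_mul])]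
      exact hz
    have hp2 : Polynomial.aeval y p ∈ Ideal.span {x} := by
      rw [Polynomial.aeval_eq_sum_range]
      refine Ideal.sum_mem _ fun i _ => ?_
      rw [Algebra.smul_def]
      refine Ideal.mul_mem_right _ _ (hϖx _ ((IsLocalRing.residue_eq_zero_iff _).mp ?_))
      rw [← Polynomial.coeff_map, h1, Polynomial.coeff_zero]
    simpa using add_mem hp hp2
  refine ⟨φ, hφy, hφx, hker, le_antisymm (fun z hz => ?_) ?_⟩
  · obtain ⟨p, hp⟩ := exists_repr hgen z
    obtain ⟨c, hc⟩ := Ideal.mem_span_singleton.mp hp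
    have h1 : φ z = p.map (IsLocalRing.residue V) := by
      rw [← hφp, ← sub_eq_zero, ← map_sub, hc, map_mul, hφx, zero_mul]
    rw [RingHom.mem_ker, AlgHom.comp_apply, AlgHom.restrictScalars_apply, h1, Polynomial.aeval_def,
      Polynomial.eval₂_at_zero] at hz
    simp only [Polynomial.coeff_map, Algebra.algebraMap_self, RingHom.id_apply] at hz
    have h2 : Polynomial.aeval y p ∈ Ideal.span {x, y} := by
      rw [← Polynomial.X_mul_divX_add p, map_add, map_mul, Polynomial.aeval_X, Polynomial.aeval_C]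
      exact add_mem (Ideal.mul_mem_right _ _ (Ideal.subset_span (by simp)))
        (Ideal.span_mono (by simp) (hϖx _ ((IsLocalRing.residue_eq_zero_iff _).mp hz)))
    simpa using add_mem (Ideal.span_mono (t := {x, y}) (by simp) hp) h2
  · rw [Ideal.span_le]
    rintro z (rfl | rfl) <;> simp [RingHom.mem_ker, hφx, hφy]

theorem dvd_or_dvd_or_isUnit {B : Type u} [CommRing B] {a b : B} (ha : (Ideal.span {a}).IsPrime)
    (hb : (Ideal.span {b}).IsPrime) (ha0 : ∀ z, a * z = 0 → z = 0) (hb0 : ∀ z, b * z = 0 → z = 0) :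
    ∀ (m n : ℕ) (g c : B), g * c = a ^ m * b ^ n → a ∣ g ∨ b ∣ g ∨ IsUnit g := by
  intro m
  induction m with
  | zero =>
    intro n
    induction n with
    | zero => intro g c h; exact Or.inr (Or.inr (IsUnit.of_mul_eq_one c (by simpa using h)))
    | succ n ih =>
      intro g c h
      rcases hb.mem_or_mem (show g * c ∈ Ideal.span {b} from
        Ideal.mem_span_singleton.mpr ⟨b ^ n, by rw [h, pow_succ']; ring⟩) with h1 | h1
      · exact Or.inr (Or.inl (Ideal.mem_span_singleton.mp h1))
      · obtain ⟨c', rfl⟩ := Ideal.mem_span_singleton.mp h1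
        refine ih g c' (sub_eq_zero.mp (hb0 _ ?_))
        linear_combination h
  | succ m ih =>
    intro n g c h
    rcases ha.mem_or_mem (show g * c ∈ Ideal.span {a} from
      Ideal.mem_span_singleton.mpr ⟨a ^ m * b ^ n, by rw [h, pow_succ']; ring⟩) with h1 | h1
    · exact Or.inl (Ideal.mem_span_singleton.mp h1)
    · obtain ⟨c', rfl⟩ := Ideal.mem_span_singleton.mp h1
      refine ih n g c' (sub_eq_zero.mp (ha0 _ ?_))
      linear_combination h

/-- In characteristic zero the derivation `X d/dX` detects constants among fractions. -/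
theorem exists_smul_of_wronskian {k : Type u} [Field k] [CharZero k] {p q : Polynomial k} (hq : q ≠ 0)
    (h : Polynomial.X * Polynomial.derivative p * q = p * (Polynomial.X * Polynomial.derivative q)) :
    ∃ c : k, p = Polynomial.C c * q := by
  have key : ∀ p1 : Polynomial k, p1 ≠ 0 →
      Polynomial.X * Polynomial.derivative p1 * q = p1 * (Polynomial.X * Polynomial.derivative q) →
      p1.natDegree = q.natDegree := by
    intro p1 hp1 h1
    have hθ : ∀ (r : Polynomial k) (n : ℕ), (Polynomial.X * Polynomial.derivative r).coeff n = (n : k) * r.coeff n := by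
      intro r n
      cases n with
      | zero => simp
      | succ n => rw [Polynomial.coeff_X_mul, Polynomial.coeff_derivative]; push_cast; ring
    have hd : ∀ r : Polynomial k, (Polynomial.X * Polynomial.derivative r).natDegree ≤ r.natDegree := fun r => by
      refine Polynomial.natDegree_le_iff_coeff_eq_zero.mpr fun n hn => ?_
      rw [hθ, Polynomial.coeff_eq_zero_of_natDegree_lt hn, mul_zero]
    have h2 := congrArg (Polynomial.coeff · (p1.natDegree + q.natDegree)) h1
    rw [Polynomial.coeff_mul_add_eq_of_natDegree_le (hd p1) le_rfl,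
      Polynomial.coeff_mul_add_eq_of_natDegree_le le_rfl (hd q), hθ, hθ, mul_right_comm, ← mul_assoc,
      mul_comm (p1.coeff _) (q.natDegree : k), mul_assoc, mul_assoc] at h2
    have h3 : p1.coeff p1.natDegree * q.coeff q.natDegree ≠ 0 := mul_ne_zero
      (Polynomial.leadingCoeff_ne_zero.mpr hp1) (Polynomial.leadingCoeff_ne_zero.mpr hq)
    have h4 : (p1.natDegree : k) = q.natDegree := mul_right_cancel₀ h3 (by linear_combination h2)
    exact_mod_cast h4
  by_cases hp : p = 0
  · exact ⟨0, by simp [hp]⟩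
  refine ⟨p.leadingCoeff / q.leadingCoeff, by_contra fun hne => ?_⟩
  have hd := key p hp h
  have h0 : p - Polynomial.C (p.leadingCoeff / q.leadingCoeff) * q ≠ 0 := sub_ne_zero.mpr hne
  have h1 := key _ h0 (by
    rw [map_sub, Polynomial.derivative_C_mul]
    linear_combination h)
  have h2 : (p - Polynomial.C (p.leadingCoeff / q.leadingCoeff) * q).coeff q.natDegree = 0 := by
    rw [Polynomial.coeff_sub, Polynomial.coeff_C_mul, ← Polynomial.leadingCoeff, ← hd]
    rw [← Polynomial.leadingCoeff, div_mul_cancel₀ _ (Polynomial.leadingCoeff_ne_zero.mpr hq), sub_self]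
  rw [← h1] at h2
  exact Polynomial.leadingCoeff_ne_zero.mpr h0 h2

/-- What happens on a component along which `θ f` vanishes. -/
theorem branch (hgen : Algebra.adjoin V ({x, y} : Set Q) = ⊤) (hϖ : Irreducible ϖ)
    (hxy : x * y = algebraMap V Q ϖ) (hlift : HasLift ϖ x y) {h : Q} (hh : h ∉ Ideal.span {x, y})
    {B : Type u} [CommRing B] [Algebra V B] [Algebra Q B] [IsScalarTower V Q B] [IsLocalization.Away h B]
    (θ : Derivation V B B) (hθx : θ (algebraMap Q B x) = algebraMap Q B x)
    (hθy : θ (algebraMap Q B y) = -algebraMap Q B y) (f : B) (hf : algebraMap Q B x ∣ θ f) :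
    KaehlerDifferential.D V (B ⧸ Ideal.span {algebraMap Q B x}) (Ideal.Quotient.mk _ f) = 0 ∧
    (CharZero (IsLocalRing.ResidueField V) →
      ¬ (Polynomial.aeval f : Polynomial V →ₐ[V] B).toRingHom.QuasiFinite) := by
  obtain ⟨φ, hφy, hφx, hker, hkerM⟩ := exists_branch hgen hϖ hxy hlift
  have hxyM : Ideal.span {x} ≤ Ideal.span {x, y} := Ideal.span_mono (by simp)
  have hxP : (Ideal.span {x}).IsPrime := hker ▸ RingHom.ker_isPrime φ
  have hMP : (Ideal.span {x, y}).IsPrime := hkerM ▸ RingHom.ker_isPrime _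
  have hdM : Disjoint (Submonoid.powers h : Set Q) (Ideal.span {x, y}) :=
    Set.disjoint_left.mpr fun z hz hzM => hh (by obtain ⟨n, rfl⟩ := hz; exact hMP.mem_of_pow_mem n hzM)
  have hdx : Disjoint (Submonoid.powers h : Set Q) (Ideal.span {x}) := hdM.mono_right hxyM
  have hPB : (Ideal.span {algebraMap Q B x}).IsPrime := by
    rw [← Set.image_singleton, ← Ideal.map_span]
    exact IsLocalization.isPrime_of_isPrime_disjoint (Submonoid.powers h) B _ hxP hdx
  have hcx : (Ideal.span {algebraMap Q B x}).under Q = Ideal.span {x} := by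
    rw [← Set.image_singleton, ← Ideal.map_span]
    exact IsLocalization.under_map_of_isPrime_disjoint (Submonoid.powers h) B hxP hdx
  have hyB : algebraMap Q B y ∉ Ideal.span {algebraMap Q B x} := fun hy => by
    have : y ∈ Ideal.span {x} := hcx ▸ hy
    rw [← hker, RingHom.mem_ker, hφy] at this
    exact Polynomial.X_ne_zero this
  refine ⟨?_, fun _ hqf => ?_⟩
  · let A := B ⧸ Ideal.span {algebraMap Q B x}
    have hx0 : algebraMap B A (algebraMap Q B x) = 0 := Ideal.Quotient.eq_zero_iff_mem.mpr (Ideal.mem_span_singleton_self _)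
    obtain ⟨ψ, hψ, hψx, hψy⟩ := exists_dual_lift hgen hxy hlift (h := h) (IsScalarTower.toAlgHom V B A) 0 1
      (by rw [IsScalarTower.coe_toAlgHom', hx0]; simp)
    obtain ⟨D, hD⟩ := derivation_of_hom ψ hψ
    let dA : Derivation V B (Ω[A⁄V]) := (KaehlerDifferential.D V A).compAlgebraMap B
    let dy : A →ₗ[B] Ω[A⁄V] :=
      (LinearMap.toSpanSingleton A (Ω[A⁄V]) (KaehlerDifferential.D V A (algebraMap B A (algebraMap Q B y)))).restrictScalars B
    have e1 : dA = dy.compDer D := by
      refine derivation_ext (h := h) hgen ?_ ?_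
      · simp [dA, dy, hD, hψx, hx0]
      · simp [dA, dy, hD, hψy]
    have e2 : (algebraMap Q B y) • D = -((Algebra.linearMap B A).compDer θ) := by
      refine derivation_ext (h := h) hgen ?_ ?_
      · simp [hD, hψx, hθx, hx0]
      · simp [hD, hψy, hθy, Algebra.smul_def, ← IsScalarTower.algebraMap_apply Q B A]
        ring
    have h1 := Derivation.congr_fun e2 f
    have h2 : algebraMap B A (θ f) = 0 :=
      Ideal.Quotient.eq_zero_iff_mem.mpr (Ideal.mem_span_singleton.mpr hf)
    simp only [Derivation.smul_apply, Derivation.neg_apply, LinearMap.compDer, LinearMap.coe_mk, AddHom.coe_mk] at h1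
    change algebraMap Q B y • D f = -(algebraMap B A (θ f)) at h1
    rw [h2, neg_zero, Algebra.smul_def, mul_eq_zero] at h1
    have h3 : D f = 0 := h1.resolve_left (fun h0 => hyB (Ideal.Quotient.eq_zero_iff_mem.mp h0))
    have h4 := Derivation.congr_fun e1 f
    change KaehlerDifferential.D V A (algebraMap B A f) = dy (D f) at h4
    rwa [h3, map_zero] at h4
  · obtain ⟨⟨z, s⟩, hz⟩ := IsLocalization.surj (Submonoid.powers h) f
    let τ : Q →ₗ[V] Polynomial (IsLocalRing.ResidueField V) :=
      φ.toLinearMap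
    obtain ⟨ψ, hψ, hψx⟩ := hlift (DualNumber Q) (inl x + inr x) (inl y + inr (-y)) (by
      refine TrivSqZeroExt.ext ?_ ?_ <;>
        simp [algebraMap_eq_inl', hxy, mul_comm x y])
    have hψ1 : ∀ q, (ψ q).fst = q := fun q => AlgHom.congr_fun
      (algHom_ext_gen hgen (f := (fstHom V Q Q).comp ψ) (g := AlgHom.id V Q) (by simp [hψ]) (by simp [hψx])) q
    obtain ⟨T, hT⟩ := derivation_of_hom ψ hψ1
    have eT : ∀ q, φ (T q) = -(Polynomial.X * Polynomial.derivative (φ q)) := by
      intro q
      have hq : q ∈ Algebra.adjoin V ({x, y} : Set Q) := hgen ▸ Algebra.mem_top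
      induction hq using Algebra.adjoin_induction with
      | mem q hq => obtain rfl | rfl := hq <;> simp [hT, hψ, hψx, hφx, hφy]
      | algebraMap r =>
        rw [Derivation.map_algebraMap, map_zero, AlgHom.commutes,
          IsScalarTower.algebraMap_apply V (IsLocalRing.ResidueField V), Polynomial.algebraMap_eq,
          Polynomial.derivative_C, mul_zero, neg_zero]
      | add a b _ _ ha hb => simp only [map_add, ha, hb]; ring
      | mul a b _ _ ha hb =>
        rw [Derivation.leibniz, smul_eq_mul, smul_eq_mul, map_add, map_mul, map_mul, ha, hb, map_mul,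
          Polynomial.derivative_mul]
        ring
    have eθ : θ.compAlgebraMap Q = (Algebra.linearMap Q B).compDer T := by
      refine Derivation.ext_of_adjoin_eq_top _ hgen ?_
      rintro q (rfl | rfl)
      · simp [hθx, hT, hψ]
      · simp [hθy, hT, hψx]
    have hmem : T z * s - z * T s ∈ Ideal.span {x} := by
      rw [← hcx, Ideal.mem_comap, Ideal.mem_span_singleton, map_sub, map_mul, map_mul]
      have hθ : ∀ q, algebraMap Q B (T q) = θ (algebraMap Q B q) := fun q => (Derivation.congr_fun eθ q).symm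
      rw [hθ, hθ, ← hz, Derivation.leibniz, smul_eq_mul, smul_eq_mul]
      refine ⟨algebraMap Q B s * algebraMap Q B s * hf.choose, ?_⟩
      linear_combination algebraMap Q B s * algebraMap Q B s * hf.choose_spec
    have hq0 : φ s ≠ 0 := fun h0 => Set.disjoint_left.mp hdx s.2 (hker ▸ h0)
    have hw : Polynomial.X * Polynomial.derivative (φ z) * φ s = φ z * (Polynomial.X * Polynomial.derivative (φ s)) := by
      have h0 : φ (T z * s - z * T s) = 0 := by rw [← RingHom.mem_ker, hker]; exact hmem
      rw [map_sub, map_mul, map_mul, eT, eT] at h0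
      linear_combination -h0
    obtain ⟨c, hc⟩ := exists_smul_of_wronskian hq0 hw
    obtain ⟨v, rfl⟩ := IsLocalRing.residue_surjective c
    have hfv : f - algebraMap V B v ∈ Ideal.span {algebraMap Q B x} := by
      have h0 : z - algebraMap V Q v * s ∈ Ideal.span {x} := by
        rw [← hker, RingHom.mem_ker, map_sub, map_mul, AlgHom.commutes, hc]
        simp [IsScalarTower.algebraMap_apply V (IsLocalRing.ResidueField V) (Polynomial (IsLocalRing.ResidueField V))]
      have h1 : (f - algebraMap V B v) * algebraMap Q B s ∈ Ideal.span {algebraMap Q B x} := by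
        rw [sub_mul, hz, IsScalarTower.algebraMap_apply V Q B, ← map_mul, ← map_sub]
        exact (hcx.symm ▸ h0 : _ ∈ Ideal.under Q (Ideal.span {algebraMap Q B x}))
      exact (Ideal.mul_unit_mem_iff_mem _ (IsLocalization.map_units B s)).mp h1
    let P₀ := Ideal.span {algebraMap Q B x}
    let P₁ := Ideal.map (algebraMap Q B) (Ideal.span {x, y})
    haveI : P₀.IsPrime := hPB
    haveI hP₁ : P₁.IsPrime := IsLocalization.isPrime_of_isPrime_disjoint (Submonoid.powers h) B _ hMP hdM
    have hle : P₀ ≤ P₁ := by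
      rw [Ideal.span_le, Set.singleton_subset_iff]
      exact Ideal.mem_map_of_mem _ (Ideal.subset_span (by simp))
    letI := (Polynomial.aeval f : Polynomial V →ₐ[V] B).toRingHom.toAlgebra
    haveI : Algebra.QuasiFinite (Polynomial V) B := hqf
    have hu : P₀.under (Polynomial V) = P₁.under (Polynomial V) := by
      refine le_antisymm (Ideal.comap_mono hle) fun p hp => ?_
      change Polynomial.aeval f p ∈ P₁ at hp
      show Polynomial.aeval f p ∈ P₀
      have h1 : Polynomial.aeval f p - algebraMap V B (p.eval v) ∈ P₀ := by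
        obtain ⟨w, hw⟩ := Polynomial.sub_dvd_eval_sub f (algebraMap V B v) (p.map (algebraMap V B))
        rw [Polynomial.eval_map_apply, Polynomial.eval_map, ← Polynomial.aeval_def] at hw
        rw [hw]
        exact Ideal.mul_mem_right _ _ hfv
      have h2 : algebraMap V B (p.eval v) ∈ P₁ := by
        simpa using sub_mem hp (hle h1)
      have h3 : p.eval v ∈ IsLocalRing.maximalIdeal V := fun hu =>
        hP₁.ne_top (Ideal.eq_top_of_isUnit_mem _ h2 (hu.map _))
      have h4 : algebraMap V B (p.eval v) ∈ P₀ := by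
        rw [hϖ.maximalIdeal_eq, Ideal.mem_span_singleton] at h3
        obtain ⟨w, hw⟩ := h3
        rw [hw, map_mul, IsScalarTower.algebraMap_apply V Q B ϖ, ← hxy, map_mul, mul_assoc]
        exact Ideal.mul_mem_right _ _ (Ideal.mem_span_singleton_self _)
      simpa using add_mem h1 h4
    have he := Algebra.QuasiFinite.eq_of_le_of_under_eq (R := Polynomial V) P₀ P₁ hle hu
    exact hyB (show algebraMap Q B y ∈ P₀ from he ▸ Ideal.mem_map_of_mem _ (Ideal.subset_span (by simp)))

theorem main (hgen : Algebra.adjoin V ({x, y} : Set Q) = ⊤) (hϖ : Irreducible ϖ)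
    (hxy : x * y = algebraMap V Q ϖ) (hlift : HasLift ϖ x y)
    (hx0 : ∀ z, x * z = 0 → z = 0) (hy0 : ∀ z, y * z = 0 → z = 0)
    {h : Q} (hh : h ∉ Ideal.span {x, y})
    {B : Type u} [CommRing B] [Algebra V B] [Algebra Q B] [IsScalarTower V Q B] [IsLocalization.Away h B] (f : B)
    (hf : ((algebraMap B (Localization.Away (algebraMap V B ϖ))).comp
      (Polynomial.aeval f : Polynomial V →ₐ[V] B).toRingHom).Etale) :
    (KaehlerDifferential.D V (B ⧸ Ideal.span {algebraMap Q B x}) (Ideal.Quotient.mk _ f) = 0 ∨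
     KaehlerDifferential.D V (B ⧸ Ideal.span {algebraMap Q B y}) (Ideal.Quotient.mk _ f) = 0) ∧
    (CharZero (IsLocalRing.ResidueField V) →
      ¬ (Polynomial.aeval f : Polynomial V →ₐ[V] B).toRingHom.QuasiFinite) := by
  have hgen' : Algebra.adjoin V ({y, x} : Set Q) = ⊤ := by rwa [Set.pair_comm]
  have hxy' : y * x = algebraMap V Q ϖ := by rwa [mul_comm]
  have hlift' : HasLift ϖ y x := fun S _ _ a b hab => by
    obtain ⟨φ, h1, h2⟩ := hlift S b a (by rwa [mul_comm])
    exact ⟨φ, h2, h1⟩
  set X := algebraMap Q B x with hX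
  set Y := algebraMap Q B y with hY
  obtain ⟨ψ, hψ, hψx, hψy⟩ := exists_dual_lift hgen hxy hlift (h := h) (AlgHom.id V B) X (-Y) (by simp [hX, hY]; ring)
  obtain ⟨θ, hθ⟩ := derivation_of_hom ψ hψ
  -- `θ f` is invertible on the generic fibre
  let L := Localization.Away (algebraMap V B ϖ)
  let I : Ideal L := Ideal.span {algebraMap B L (θ f)}
  let ρ : B →ₐ[V] L ⧸ I := IsScalarTower.toAlgHom V B (L ⧸ I)
  obtain ⟨ψ', hψ', hψx', hψy'⟩ := exists_dual_lift hgen hxy hlift (h := h) ρ (ρ X) (-ρ Y) (by simp [hX, hY]; ring)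
  obtain ⟨D', hD'⟩ := derivation_of_hom ψ' hψ'
  have e1 : D' = ((Algebra.linearMap B (L ⧸ I)).compDer θ) := by
    refine derivation_ext (h := h) hgen ?_ ?_
    · simp [hD', hψx', hθ, hψx, ρ, hX]
    · simp [hD', hψy', hθ, hψy, ρ, hY]
  have hu : ∀ z : Submonoid.powers (algebraMap V B ϖ), IsUnit (ψ' z) := fun z => by
    rw [isUnit_iff_isUnit_fst, hψ']
    show IsUnit (algebraMap B (L ⧸ I) z)
    rw [IsScalarTower.algebraMap_apply B L (L ⧸ I)]
    exact (IsLocalization.map_units L z).map _
  let Ψ : L →ₐ[V] DualNumber (L ⧸ I) := IsLocalization.liftAlgHom (A := V) (S := L) (P := DualNumber (L ⧸ I)) (M := Submonoid.powers (algebraMap V B ϖ)) (f := ψ') hu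
  have hΨ : ∀ b, Ψ (algebraMap B L b) = ψ' b := fun b => by
    simp only [Ψ, IsLocalization.liftAlgHom_apply]
    exact IsLocalization.lift_eq _ b
  have hΨ1 : ∀ w, (Ψ w).fst = algebraMap L (L ⧸ I) w := fun w => by
    refine AlgHom.congr_fun (?_ : (fstHom V _ _).comp Ψ = IsScalarTower.toAlgHom V L (L ⧸ I)) w
    refine IsLocalization.algHom_ext (Submonoid.powers (algebraMap V B ϖ)) (AlgHom.ext fun b => ?_)
    show (Ψ (algebraMap B L b)).fst = algebraMap L (L ⧸ I) (algebraMap B L b)
    rw [hΨ, hψ']
    exact IsScalarTower.algebraMap_apply B L (L ⧸ I) b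
  obtain ⟨DL, hDL⟩ := derivation_of_hom Ψ hΨ1
  have hDf : DL (algebraMap B L f) = 0 := by
    rw [hDL, hΨ, ← hD', e1]
    show algebraMap B (L ⧸ I) (θ f) = 0
    rw [IsScalarTower.algebraMap_apply B L]
    exact Ideal.Quotient.eq_zero_iff_mem.mpr (Ideal.mem_span_singleton_self _)
  letI algT : Algebra (Polynomial V) L := ((algebraMap B L).comp (Polynomial.aeval f : Polynomial V →ₐ[V] B).toRingHom).toAlgebra
  haveI : IsScalarTower V (Polynomial V) L := IsScalarTower.of_algebraMap_eq fun v => by
    show _ = algebraMap B L (Polynomial.aeval f (algebraMap V _ v))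
    rw [AlgHom.commutes, ← IsScalarTower.algebraMap_apply]
  haveI : Algebra.Etale (Polynomial V) L := hf
  have hX' : DL (algebraMap B L X) = 0 := by
    have h1 : KaehlerDifferential.D V L (algebraMap B L X) ∈ Submodule.span L {KaehlerDifferential.D V L (algebraMap B L f)} := by
      refine ker_kaehlerMap_polynomial (V := V) (algebraMap B L f) (fun p => ?_) ?_
      · show algebraMap B L (Polynomial.aeval f p) = _
        rw [Polynomial.aeval_algebraMap_apply]
      · rw [LinearMap.mem_ker]; exact Subsingleton.elim _ _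
    obtain ⟨c, hc⟩ := Submodule.mem_span_singleton.mp h1
    have h2 := congrArg DL.liftKaehlerDifferential hc
    rw [map_smul, Derivation.liftKaehlerDifferential_comp_D, Derivation.liftKaehlerDifferential_comp_D, hDf, smul_zero] at h2
    exact h2.symm
  have hXI : algebraMap B L X ∈ I := by
    rw [hDL, hΨ, hψx'] at hX'
    exact Ideal.Quotient.eq_zero_iff_mem.mp hX'
  have hXu : IsUnit (algebraMap B L X) := by
    refine isUnit_of_mul_isUnit_left (y := algebraMap B L Y) ?_
    rw [← map_mul, hX, hY, ← map_mul, hxy, ← IsScalarTower.algebraMap_apply V Q B]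
    exact IsLocalization.Away.algebraMap_isUnit _
  have hgu : IsUnit (algebraMap B L (θ f)) :=
    Ideal.span_singleton_eq_top.mp (Ideal.eq_top_of_isUnit_mem _ hXI hXu)
  obtain ⟨w, hw⟩ := hgu.exists_right_inv
  obtain ⟨⟨c, ⟨_, m, rfl⟩⟩, hc⟩ := IsLocalization.surj (Submonoid.powers (algebraMap V B ϖ)) w
  have h1 : algebraMap B L (θ f * c) = algebraMap B L ((algebraMap V B ϖ) ^ m) := by
    rw [map_mul, ← hc, ← mul_assoc, hw, one_mul]
  obtain ⟨⟨_, k, rfl⟩, h2⟩ := (IsLocalization.eq_iff_exists (Submonoid.powers (algebraMap V B ϖ)) L).mp h1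
  have hϖB : algebraMap V B ϖ = X * Y := by
    rw [hX, hY, ← map_mul, hxy, ← IsScalarTower.algebraMap_apply]
  -- the primes `(x)`, `(y)` and their regularity
  have hprime : ∀ a b : Q, Algebra.adjoin V ({a, b} : Set Q) = ⊤ → a * b = algebraMap V Q ϖ → HasLift ϖ a b →
      h ∉ Ideal.span {a, b} → (Ideal.span {algebraMap Q B a}).IsPrime ∧
        (Ideal.map (algebraMap Q B) (Ideal.span {a, b})).IsPrime := by
    intro a b hg he hl hh'
    obtain ⟨φ, -, -, hk, hkM⟩ := exists_branch hg hϖ he hl
    have hMP : (Ideal.span {a, b}).IsPrime := hkM ▸ RingHom.ker_isPrime _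
    have hd : Disjoint (Submonoid.powers h : Set Q) (Ideal.span {a, b}) :=
      Set.disjoint_left.mpr fun z hz hzM => hh' (by obtain ⟨n, rfl⟩ := hz; exact hMP.mem_of_pow_mem n hzM)
    refine ⟨?_, IsLocalization.isPrime_of_isPrime_disjoint (Submonoid.powers h) B _ hMP hd⟩
    rw [← Set.image_singleton, ← Ideal.map_span]
    exact IsLocalization.isPrime_of_isPrime_disjoint (Submonoid.powers h) B _ (hk ▸ RingHom.ker_isPrime φ)
      (hd.mono_right (Ideal.span_mono (by simp)))
  have hh' : h ∉ Ideal.span {y, x} := by rwa [Set.pair_comm]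
  obtain ⟨hPx, hM⟩ := hprime x y hgen hxy hlift hh
  obtain ⟨hPy, -⟩ := hprime y x hgen' hxy' hlift' hh'
  have hreg : ∀ a : Q, (∀ z, a * z = 0 → z = 0) → ∀ z : B, algebraMap Q B a * z = 0 → z = 0 := by
    intro a ha z hz
    obtain ⟨⟨q, s⟩, hqs⟩ := IsLocalization.surj (Submonoid.powers h) z
    have h0 : algebraMap Q B (a * q) = algebraMap Q B 0 := by rw [map_mul, ← hqs, ← mul_assoc, hz, zero_mul, map_zero]
    obtain ⟨t, ht⟩ := (IsLocalization.eq_iff_exists (Submonoid.powers h) B).mp h0
    have h3 : (t : Q) * q = 0 := ha _ (by rw [mul_left_comm, ht, mul_zero])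
    have h4 : algebraMap Q B q = 0 := by
      rw [← map_zero (algebraMap Q B), IsLocalization.eq_iff_exists (Submonoid.powers h) B]
      exact ⟨t, by rw [h3, mul_zero]⟩
    exact ((IsLocalization.map_units B s).mul_left_eq_zero).mp (hqs.trans h4)
  have hnu : ¬ IsUnit (θ f) := by
    have hθM : (Submodule.mkQ (Ideal.map (algebraMap Q B) (Ideal.span {x, y}))).compDer θ = 0 := by
      refine derivation_ext (h := h) hgen ?_ ?_
      · simp [hθ, hψx, Submodule.Quotient.mk_eq_zero, hX]
        exact Ideal.Quotient.eq_zero_iff_mem.mpr (Ideal.mem_map_of_mem (algebraMap Q B) (Ideal.subset_span (Set.mem_insert x {y})))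
      · simp [hθ, hψy, Submodule.Quotient.mk_eq_zero, hY]
        exact Ideal.Quotient.eq_zero_iff_mem.mpr (Ideal.mem_map_of_mem (algebraMap Q B) (Ideal.subset_span (Set.mem_insert_of_mem x (Set.mem_singleton y))))
    intro hu
    exact hM.ne_top (Ideal.eq_top_of_isUnit_mem _
      ((Submodule.Quotient.mk_eq_zero _).mp (Derivation.congr_fun hθM f)) hu)
  have heq : θ f * ((X * Y) ^ k * c) = X ^ (k + m) * Y ^ (k + m) := by
    rw [← mul_pow, ← hϖB, pow_add]
    linear_combination h2
  rcases dvd_or_dvd_or_isUnit hPx hPy (hreg x hx0) (hreg y hy0) _ _ _ _ heq with h3 | h3 | h3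
  · obtain ⟨r1, r2⟩ := branch hgen hϖ hxy hlift hh θ (by simp [hθ, hψx, hX]) (by simp [hθ, hψy, hY]) f h3
    exact ⟨Or.inl r1, r2⟩
  · obtain ⟨r1, r2⟩ := branch hgen' hϖ hxy' hlift' hh' (-θ) (by simp [hθ, hψy, hY]) (by simp [hθ, hψx, hX]) f
      (by rw [Derivation.neg_apply]; exact dvd_neg.mpr h3)
    exact ⟨Or.inr r1, r2⟩
  · exact absurd h3 hnu

theorem regular_X (V : Type u) [CommRing V] [IsDomain V] (ϖ : V) (hϖ : ϖ ≠ 0) (i : Fin 2) (z)
    (hz : Ideal.Quotient.mk (Ideal.span {(MvPolynomial.X 0 * MvPolynomial.X 1 - MvPolynomial.C ϖ : MvPolynomial (Fin 2) V)})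
      (MvPolynomial.X i) * z = 0) : z = 0 := by
  obtain ⟨p, rfl⟩ := Ideal.Quotient.mk_surjective z
  rw [← map_mul, Ideal.Quotient.eq_zero_iff_mem, Ideal.mem_span_singleton] at hz
  obtain ⟨q, hq⟩ := hz
  have hdvd : (MvPolynomial.X i : MvPolynomial (Fin 2) V) ∣ q := by
    have h1 : (MvPolynomial.X i : MvPolynomial (Fin 2) V) ∣ MvPolynomial.C ϖ * q := by
      have h2 : MvPolynomial.C ϖ * q = MvPolynomial.X 0 * MvPolynomial.X 1 * q - MvPolynomial.X i * p := by
        linear_combination hq
      rw [h2]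
      refine dvd_sub (Dvd.dvd.mul_right ?_ q) (dvd_mul_right _ _)
      fin_cases i
      · exact dvd_mul_right _ _
      · exact dvd_mul_left _ _
    refine ((MvPolynomial.X_prime (i := i)).dvd_or_dvd h1).resolve_left fun h3 => hϖ ?_
    obtain ⟨r, hr⟩ := h3
    simpa using congrArg MvPolynomial.constantCoeff hr
  obtain ⟨q', rfl⟩ := hdvd
  rw [Ideal.Quotient.eq_zero_iff_mem, Ideal.mem_span_singleton]
  exact ⟨q', mul_left_cancel₀ (MvPolynomial.X_ne_zero i) (by rw [hq]; ring)⟩

/-- Let V be a discrete valuation ring of characteristic zero with uniformizer ϖ and perfect residue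
field k, let Q = V[x, y]/(xy − ϖ) be the coordinate ring of the standard semistable node over V and
P its closed point x = y = 0 of the closed fibre, let h ∈ Q with h ∉ (x, y), so that B = Q[1/h] is
the ring of an open neighbourhood of P, and let f ∈ B define a morphism to the affine line over V
which is étale on the generic fibre: B[1/ϖ] is étale over V[T] via T ↦ f. Then df vanishes
identically on one of the two components x = 0, y = 0 of the closed fibre of Spec B: the
differential of the image of f in Ω_{(B/xB)/V} is zero or the differential of the image of f in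
Ω_{(B/yB)/V} is zero. If moreover k has characteristic zero, then f contracts that component and the
morphism is not quasi-finite: V[T] → B, T ↦ f, is not a quasi-finite ring map. -/
theorem result (V : Type u) [CommRing V] [IsDomain V] [IsDiscreteValuationRing V] [CharZero V]
    [PerfectField (IsLocalRing.ResidueField V)] (ϖ : V) (hϖ : Irreducible ϖ)
    (h : (MvPolynomial (Fin 2) V ⧸ Ideal.span {(MvPolynomial.X 0 * MvPolynomial.X 1 - MvPolynomial.C ϖ : MvPolynomial (Fin 2) V)}))
    (hh : h ∉ Ideal.span ({(Ideal.Quotient.mk (Ideal.span {(MvPolynomial.X 0 * MvPolynomial.X 1 - MvPolynomial.C ϖ : MvPolynomial (Fin 2) V)}) (MvPolynomial.X 0 : MvPolynomial (Fin 2) V)), (Ideal.Quotient.mk (Ideal.span {(MvPolynomial.X 0 * MvPolynomial.X 1 - MvPolynomial.C ϖ : MvPolynomial (Fin 2) V)}) (MvPolynomial.X 1 : MvPolynomial (Fin 2) V))} : Set (MvPolynomial (Fin 2) V ⧸ Ideal.span {(MvPolynomial.X 0 * MvPolynomial.X 1 - MvPolynomial.C ϖ : MvPolynomial (Fin 2) V)})))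
    (f : Localization.Away h)
    (hf : ((algebraMap (Localization.Away h)
        (Localization.Away (algebraMap V (Localization.Away h) ϖ))).comp
          (Polynomial.aeval f : Polynomial V →ₐ[V] Localization.Away h).toRingHom).Etale) :
    (KaehlerDifferential.D V (Localization.Away h ⧸ Ideal.span
        ({algebraMap (MvPolynomial (Fin 2) V ⧸ Ideal.span {(MvPolynomial.X 0 * MvPolynomial.X 1 - MvPolynomial.C ϖ : MvPolynomial (Fin 2) V)}) (Localization.Away h) (Ideal.Quotient.mk (Ideal.span {(MvPolynomial.X 0 * MvPolynomial.X 1 - MvPolynomial.C ϖ : MvPolynomial (Fin 2) V)}) (MvPolynomial.X 0 : MvPolynomial (Fin 2) V))} : Set (Localization.Away h)))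
        (Ideal.Quotient.mk _ f) = 0 ∨
     KaehlerDifferential.D V (Localization.Away h ⧸ Ideal.span
        ({algebraMap (MvPolynomial (Fin 2) V ⧸ Ideal.span {(MvPolynomial.X 0 * MvPolynomial.X 1 - MvPolynomial.C ϖ : MvPolynomial (Fin 2) V)}) (Localization.Away h) (Ideal.Quotient.mk (Ideal.span {(MvPolynomial.X 0 * MvPolynomial.X 1 - MvPolynomial.C ϖ : MvPolynomial (Fin 2) V)}) (MvPolynomial.X 1 : MvPolynomial (Fin 2) V))} : Set (Localization.Away h)))
        (Ideal.Quotient.mk _ f) = 0) ∧
    (CharZero (IsLocalRing.ResidueField V) →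
      ¬ (Polynomial.aeval f : Polynomial V →ₐ[V] Localization.Away h).toRingHom.QuasiFinite) := by
  let Q := MvPolynomial (Fin 2) V ⧸ Ideal.span {(MvPolynomial.X 0 * MvPolynomial.X 1 - MvPolynomial.C ϖ : MvPolynomial (Fin 2) V)}
  let m : MvPolynomial (Fin 2) V →ₐ[V] Q := Ideal.Quotient.mkₐ V _
  have hxy : m (MvPolynomial.X 0) * m (MvPolynomial.X 1) = algebraMap V Q ϖ := by
    rw [← map_mul, ← AlgHom.commutes m ϖ]
    exact Ideal.Quotient.eq.mpr (Ideal.mem_span_singleton_self _)
  have hgen : Algebra.adjoin V ({m (MvPolynomial.X 0), m (MvPolynomial.X 1)} : Set Q) = ⊤ := by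
    rw [← Set.image_pair, ← AlgHom.map_adjoin,
      show ({MvPolynomial.X 0, MvPolynomial.X 1} : Set (MvPolynomial (Fin 2) V)) = Set.range MvPolynomial.X by
        ext a; simp [Fin.exists_fin_two, eq_comm],
      MvPolynomial.adjoin_range_X, Algebra.map_top, AlgHom.range_eq_top]
    exact Ideal.Quotient.mk_surjective
  have hlift : HasLift ϖ (m (MvPolynomial.X 0)) (m (MvPolynomial.X 1)) := fun S _ _ a b hab => by
    refine ⟨Ideal.Quotient.liftₐ _ (MvPolynomial.aeval ![a, b]) ?_, ?_, ?_⟩
    · intro z hz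
      obtain ⟨w, rfl⟩ := Ideal.mem_span_singleton.mp hz
      simp [hab]
    · show MvPolynomial.aeval ![a, b] (MvPolynomial.X 0) = a
      simp
    · show MvPolynomial.aeval ![a, b] (MvPolynomial.X 1) = b
      simp
  exact main hgen hϖ hxy hlift (regular_X V ϖ hϖ.ne_zero 0) (regular_X V ϖ hϖ.ne_zero 1) hh f hf

end Groth.Agent.S14386
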