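import Groth.Statements.S14387
import Groth.Agent.Milnor.Fibre
import Groth.Agent.S0540
-- import your own Groth.Agent.* helpers here

set_option autoImplicit false
open scoped TensorProduct
universe u
open Hensel

namespace Groth.Agent.S14387

/-- Let V be a strictly henselian discrete valuation ring (henselian with separably closed residue field
k) of characteristic zero with k perfect, L an algebraically closed field algebraic over the
fraction field of V, given as a V-algebra into which V embeds, A a V-algebra of finite type, 𝔭 a
prime ideal of A lying in the closed fibre (it contains the maximal ideal of V), and B a strict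
henselization of the local ring A_𝔭. Then the spectrum of L ⊗_V B, which is the algebraic Milnor
fibre of Spec A → Spec V at a geometric point over 𝔭, has finitely many connected components; being
affine it is also quasi-compact and quasi-separated. (The published statement is for a scheme of
finite type over a henselian discrete valuation ring; this row states the affine case over a
strictly henselian V, to which it reduces.) -/
theorem result (V : Type u) [CommRing V] [IsDomain V]
    [IsDiscreteValuationRing V] [HenselianLocalRing V] [IsSepClosed (IsLocalRing.ResidueField V)]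
    [PerfectField (IsLocalRing.ResidueField V)] [CharZero V]
    (L : Type u) [Field L] [IsAlgClosed L] [Algebra V L] [FaithfulSMul V L] [Algebra.IsAlgebraic V L]
    (A : Type u) [CommRing A] [Algebra V A] [Algebra.FiniteType V A]
    (𝔭 : Ideal A) [𝔭.IsPrime] (h𝔭 : (IsLocalRing.maximalIdeal V).map (algebraMap V A) ≤ 𝔭)
    (B : Type u) [CommRing B] [IsLocalRing B] [Algebra (Localization.AtPrime 𝔭) B]
    [IsLocalHom (algebraMap (Localization.AtPrime 𝔭) B)]
    [Hensel.IsStrictHenselization (Localization.AtPrime 𝔭) B]
    [Algebra V B] [IsScalarTower V (Localization.AtPrime 𝔭) B] :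
    Finite (ConnectedComponents (PrimeSpectrum (L ⊗[V] B))) := by
  haveI : IsNoetherianRing A := Algebra.FiniteType.isNoetherianRing V A
  haveI : IsNoetherianRing (Localization.AtPrime 𝔭) := IsLocalization.isNoetherianRing 𝔭.primeCompl _ inferInstance
  haveI : IsNoetherianRing B := (Groth.Agent.S0540.result (Localization.AtPrime 𝔭) B).1 inferInstance
  haveI : IsNoetherianRing (L ⊗[V] B) := Groth.Agent.Milnor.isNoetherianRing_milnorFibre V L B (by
    rw [IsScalarTower.algebraMap_eq V (Localization.AtPrime 𝔭) B, ← Ideal.map_map,
      IsScalarTower.algebraMap_eq V A (Localization.AtPrime 𝔭), ← Ideal.map_map]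
    refine (Ideal.map_mono (Ideal.map_mono h𝔭)).trans ?_
    rw [Localization.AtPrime.map_eq_maximalIdeal]
    exact IsLocalRing.map_maximalIdeal_le _)
  have hfin : (minimalPrimes (L ⊗[V] B)).Finite := minimalPrimes.finite_of_isNoetherianRing _
  haveI := hfin.to_subtype
  refine Finite.of_surjective (fun q : minimalPrimes (L ⊗[V] B) =>
    ((⟨q.1, Ideal.minimalPrimes_isPrime q.2⟩ : PrimeSpectrum (L ⊗[V] B)) :
      ConnectedComponents (PrimeSpectrum (L ⊗[V] B)))) fun c => ?_
  obtain ⟨x, rfl⟩ := ConnectedComponents.surjective_coe c
  obtain ⟨q, hq, hle⟩ := Ideal.exists_minimalPrimes_le (J := x.asIdeal) (I := ⊥) bot_le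
  refine ⟨⟨q, hq⟩, ?_⟩
  let y : PrimeSpectrum (L ⊗[V] B) := ⟨q, Ideal.minimalPrimes_isPrime hq⟩
  have hspec : x ∈ closure ({y} : Set (PrimeSpectrum (L ⊗[V] B))) :=
    specializes_iff_mem_closure.1 ((PrimeSpectrum.le_iff_specializes y x).1 hle)
  exact ConnectedComponents.coe_eq_coe.2 (connectedComponent_eq
    ((isPreconnected_singleton.closure.subset_connectedComponent (subset_closure rfl)) hspec))

end Groth.Agent.S14387
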