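import Groth.Statements.S14388
import Groth.Agent.DTrunc.WayOut
import Mathlib.Algebra.Homology.DerivedCategory.FullyFaithful
-- import your own Groth.Agent.* helpers here

set_option autoImplicit false
open CategoryTheory CategoryTheory.Limits
universe w v u
open CohDer

namespace Groth.Agent.S14388

open CategoryTheory.Pretriangulated DerivedCategory Groth.Agent.DTrunc

section

variable {C : Type u} [Category.{v} C] [Abelian C] [HasDerivedCategory.{w} C]

/-- a map between objects concentrated in one degree is detected on cohomology -/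
lemma pure_hom_eq_zero {Y Z : DerivedCategory C} (b : ℤ) [Y.IsGE b] [Y.IsLE b] [Z.IsGE b] [Z.IsLE b]
    (f : Y ⟶ Z) (hf : (homologyFunctor C b).map f = 0) : f = 0 := by
  obtain ⟨M, ⟨e⟩⟩ := exists_iso_singleFunctor_obj_of_isGE_of_isLE Y b
  obtain ⟨N, ⟨e'⟩⟩ := exists_iso_singleFunctor_obj_of_isGE_of_isLE Z b
  obtain ⟨h, hh⟩ := (singleFunctor C b).map_surjective (e.inv ≫ f ≫ e'.hom)
  have h0 : (singleFunctor C b ⋙ homologyFunctor C b).map h = 0 := by simp [hh, hf]
  have : h = 0 := by
    have hn := NatIso.naturality_1 (singleFunctorCompHomologyFunctorIso C b) h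
    rw [h0] at hn
    simpa using hn.symm
  rw [this, Functor.map_zero] at hh
  rw [← cancel_epi e.inv, ← cancel_mono e'.hom, Category.assoc, ← hh]
  simp

/-- isomorphisms between objects concentrated in one degree are detected on cohomology -/
lemma pure_isIso {Y Z : DerivedCategory C} (b : ℤ) [Y.IsGE b] [Y.IsLE b] [Z.IsGE b] [Z.IsLE b]
    (f : Y ⟶ Z) (hf : IsIso ((homologyFunctor C b).map f)) : IsIso f := by
  rw [DerivedCategory.isIso_iff]
  intro j
  rcases lt_trichotomy j b with h | rfl | h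
  · exact ⟨0, (isZero_of_isGE Y b j h).eq_of_src _ _, (isZero_of_isGE Z b j h).eq_of_src _ _⟩
  · exact hf
  · exact ⟨0, (isZero_of_isLE Y b j h).eq_of_src _ _, (isZero_of_isLE Z b j h).eq_of_src _ _⟩

lemma isIso_H_π (X : DerivedCategory C) (n j : ℤ) (h : n ≤ j) :
    IsIso ((homologyFunctor C j).map ((TStructure.t.truncGEπ n).app X)) := by
  have : ((TStructure.t.triangleLTGE n).obj X).obj₁.IsLE (n - 1) :=
    (inferInstance : TStructure.t.IsLE ((TStructure.t.triangleLTGE n).obj X).obj₁ (n - 1))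
  exact isIso_homology_mor₂ _ (TStructure.t.triangleLTGE_distinguished n X) (n - 1) j (by omega)

lemma isIso_H_ι (X : DerivedCategory C) (n j : ℤ) (h : j < n) :
    IsIso ((homologyFunctor C j).map ((TStructure.t.truncLTι n).app X)) := by
  have : ((TStructure.t.triangleLTGE n).obj X).obj₃.IsGE n :=
    (inferInstance : TStructure.t.IsGE ((TStructure.t.triangleLTGE n).obj X).obj₃ n)
  exact isIso_homology_mor₁ _ (TStructure.t.triangleLTGE_distinguished n X) n j h

lemma H_truncLT_map_eq_zero {X X' : DerivedCategory C} (f : X ⟶ X') (n j : ℤ) (h : j < n)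
    (hf : (homologyFunctor C j).map f = 0) :
    (homologyFunctor C j).map ((TStructure.t.truncLT n).map f) = 0 := by
  have := isIso_H_ι X' n j h
  rw [← cancel_mono ((homologyFunctor C j).map ((TStructure.t.truncLTι n).app X')), zero_comp]
  refine ((Functor.map_comp _ _ _).symm.trans (congrArg _ ((TStructure.t.truncLTι n).naturality f))).trans ?_
  refine (Functor.map_comp _ _ _).trans ?_
  exact (congrArg (_ ≫ ·) hf).trans comp_zero

lemma H_truncGE_map_eq_zero {X X' : DerivedCategory C} (f : X ⟶ X') (n j : ℤ) (h : n ≤ j)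
    (hf : (homologyFunctor C j).map f = 0) :
    (homologyFunctor C j).map ((TStructure.t.truncGE n).map f) = 0 := by
  have := isIso_H_π X n j h
  rw [← cancel_epi ((homologyFunctor C j).map ((TStructure.t.truncGEπ n).app X)), comp_zero]
  refine ((Functor.map_comp _ _ _).symm.trans
    (congrArg _ ((TStructure.t.truncGEπ n).naturality f).symm)).trans ?_
  refine (Functor.map_comp _ _ _).trans ?_
  exact (congrArg (· ≫ _) hf).trans zero_comp

/-- the factorization through truncations -/
lemma core {M M' : DerivedCategory C} (q : ℤ) [M.IsGE (q - 1)] [M'.IsGE (q - 1)] [M.IsLE q] [M'.IsLE q]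
    (Φ : M ⟶ M') (h₁ : (homologyFunctor C (q - 1)).map Φ = 0) (h₂ : (homologyFunctor C q).map Φ = 0) :
    ∃! L : (TStructure.t.truncGE q).obj M ⟶ (TStructure.t.truncLT q).obj M',
      Φ = (TStructure.t.truncGEπ q).app M ≫ L ≫ (TStructure.t.truncLTι q).app M' := by
  let t := TStructure.t (C := C)
  have : ∀ (X : DerivedCategory C), X.IsGE (q - 1) → ((t.truncLT q).obj X).IsGE (q - 1) :=
    fun X _ => (inferInstance : t.IsGE ((t.truncLT q).obj X) (q - 1))
  have : ∀ (X : DerivedCategory C), X.IsLE q → ((t.truncGE q).obj X).IsLE q :=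
    fun X _ => (inferInstance : t.IsLE ((t.truncGE q).obj X) q)
  have i1 : ((t.truncLT q).obj M).IsLE (q - 1) := (inferInstance : t.IsLE ((t.truncLT q).obj M) (q - 1))
  have i2 : ((t.truncLT q).obj M').IsLE (q - 1) := (inferInstance : t.IsLE ((t.truncLT q).obj M') (q - 1))
  have i3 : ((t.truncGE q).obj M).IsGE q := (inferInstance : t.IsGE ((t.truncGE q).obj M) q)
  have i4 : ((t.truncGE q).obj M').IsGE q := (inferInstance : t.IsGE ((t.truncGE q).obj M') q)
  have hGE : (t.truncGE q).map Φ = 0 := pure_hom_eq_zero q _ (H_truncGE_map_eq_zero Φ q q le_rfl h₂)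
  have hLT : (t.truncLT q).map Φ = 0 :=
    pure_hom_eq_zero (q - 1) _ (H_truncLT_map_eq_zero Φ q (q - 1) (by omega) h₁)
  obtain ⟨g, hg⟩ : ∃ g : M ⟶ (t.truncLT q).obj M', Φ = g ≫ (t.truncLTι q).app M' :=
    Triangle.coyoneda_exact₂ _ (t.triangleLTGE_distinguished q M') Φ (by
      show Φ ≫ (t.truncGEπ q).app M' = 0
      have hn : (t.truncGEπ q).app M ≫ (t.truncGE q).map Φ = Φ ≫ (t.truncGEπ q).app M' :=
        t.truncGEπ_naturality q Φ
      rw [← hn, hGE, comp_zero])
  have hg0 : (t.truncLTι q).app M ≫ g = 0 := by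
    refine t.to_truncLT_obj_ext ?_
    rw [zero_comp]
    refine (Category.assoc _ _ _).trans ((congrArg _ hg.symm).trans ?_)
    refine ((t.truncLTι q).naturality Φ).symm.trans ?_
    rw [hLT, zero_comp]
  obtain ⟨L, hL⟩ : ∃ L : (t.truncGE q).obj M ⟶ (t.truncLT q).obj M', g = (t.truncGEπ q).app M ≫ L :=
    Triangle.yoneda_exact₂ _ (t.triangleLTGE_distinguished q M) g hg0
  refine ⟨L, hg.trans ((congrArg (· ≫ _) hL).trans (Category.assoc _ _ _)), fun L' hL' => ?_⟩
  refine sub_eq_zero.1 ?_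
  let d : (t.truncGE q).obj M ⟶ (t.truncLT q).obj M' := L' - L
  obtain ⟨k, hk⟩ : ∃ k : ((t.truncLT q).obj M)⟦(1 : ℤ)⟧ ⟶ M',
      d ≫ (t.truncLTι q).app M' = (t.truncGEδLT q).app M ≫ k :=
    Triangle.yoneda_exact₃ _ (t.triangleLTGE_distinguished q M) (d ≫ (t.truncLTι q).app M') (by
      show (t.truncGEπ q).app M ≫ (L' - L) ≫ (t.truncLTι q).app M' = 0
      rw [Preadditive.sub_comp, Preadditive.comp_sub, sub_eq_zero]
      exact hL'.symm.trans (hg.trans ((congrArg (· ≫ _) hL).trans (Category.assoc _ _ _))))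
  have hk0 : k = 0 := by
    have : t.IsLE (((t.truncLT q).obj M)⟦(1 : ℤ)⟧) (q - 2) :=
      t.isLE_shift ((t.truncLT q).obj M) (q - 1) 1 (q - 2) (by omega)
    exact t.zero_of_isLE_of_isGE k (q - 2) (q - 1) (by omega) this (inferInstanceAs (M'.IsGE (q - 1)))
  rw [hk0, comp_zero] at hk
  show d = 0
  apply (shiftFunctor (DerivedCategory C) (1 : ℤ)).map_injective
  obtain ⟨k', hk'⟩ : ∃ k' : ((t.truncGE q).obj M)⟦(1 : ℤ)⟧ ⟶ (t.truncGE q).obj M',
      d⟦(1 : ℤ)⟧' = k' ≫ (t.truncGEδLT q).app M' :=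
    Triangle.coyoneda_exact₁ _ (t.triangleLTGE_distinguished q M') (d⟦(1 : ℤ)⟧') (by
      refine ((Functor.map_comp (shiftFunctor (DerivedCategory C) (1 : ℤ)) _ _).symm).trans ?_
      exact (congrArg _ hk).trans (Functor.map_zero _ _ _))
  have : k' = 0 := by
    have : t.IsLE (((t.truncGE q).obj M)⟦(1 : ℤ)⟧) (q - 1) :=
      t.isLE_shift ((t.truncGE q).obj M) q 1 (q - 1) (by omega)
    exact t.zero k' (q - 1) q (by omega)
  rw [hk', this, zero_comp, Functor.map_zero]

end


/-- Let A be an abelian category, D(A) its derived category with the canonical t-structure and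
truncation functors τ_{≥a}, τ_{<b}, and write τ_[a,b] = τ_{≥a} ∘ τ_{<b+1}, so that τ_[q,q] K is
H^q(K) placed in degree q. Let f : K → K' be a morphism in D(A) and q an integer such that the
induced maps H^(q-1)(K) → H^(q-1)(K') and H^q(K) → H^q(K') are both zero. Then there is a unique
morphism L : τ_[q,q] K → τ_[q-1,q-1] K' such that τ_[q-1,q](f) : τ_[q-1,q] K → τ_[q-1,q] K' is the
composite of the canonical projection τ_[q-1,q] K → τ_[q,q] K, the morphism L, and the canonical
inclusion τ_[q-1,q-1] K' → τ_[q-1,q] K'. (Under τ_[n,n] ≅ H^n(−)[−n] the morphism L corresponds to a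
morphism L_f[−q] : H^q(K)[−q] → H^(q-1)(K')[1−q].) -/
theorem result {C : Type u} [Category.{v} C] [Abelian C]
    [HasDerivedCategory.{w} C] {K K' : DerivedCategory C} (f : K ⟶ K') (q : ℤ)
    (h₁ : (DerivedCategory.homologyFunctor C (q - 1)).map f = 0)
    (h₂ : (DerivedCategory.homologyFunctor C q).map f = 0) :
    ∃! L : ((DerivedCategory.TStructure.t (C := C)).truncGELT q (q + 1)).obj K ⟶
        ((DerivedCategory.TStructure.t (C := C)).truncGELT (q - 1) q).obj K',
      ((DerivedCategory.TStructure.t (C := C)).truncGELT (q - 1) (q + 1)).map f =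
        ((DerivedCategory.TStructure.t (C := C)).natTransTruncGEOfLE (q - 1) q (sub_one_lt q).le).app
            (((DerivedCategory.TStructure.t (C := C)).truncLT (q + 1)).obj K) ≫ L ≫
          ((DerivedCategory.TStructure.t (C := C)).truncGE (q - 1)).map
            (((DerivedCategory.TStructure.t (C := C)).natTransTruncLTOfLE q (q + 1) (lt_add_one q).le).app K') := by
  let t := TStructure.t (C := C)
  let Y := (t.truncLT (q + 1)).obj K
  let Y' := (t.truncLT (q + 1)).obj K'
  let M := (t.truncGE (q - 1)).obj Y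
  let M' := (t.truncGE (q - 1)).obj Y'
  let Φ : M ⟶ M' := (t.truncGE (q - 1)).map ((t.truncLT (q + 1)).map f)
  have : t.IsLE Y q := by
    have : t.IsLE Y (q + 1 - 1) := inferInstance
    exact t.isLE_of_le _ (q + 1 - 1) q (by omega)
  have : t.IsLE Y' q := by
    have : t.IsLE Y' (q + 1 - 1) := inferInstance
    exact t.isLE_of_le _ (q + 1 - 1) q (by omega)
  have : M.IsGE (q - 1) := (inferInstance : t.IsGE M (q - 1))
  have : M'.IsGE (q - 1) := (inferInstance : t.IsGE M' (q - 1))
  have : M.IsLE q := (inferInstance : t.IsLE M q)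
  have : M'.IsLE q := (inferInstance : t.IsLE M' q)
  have hΦ₁ := H_truncGE_map_eq_zero ((t.truncLT (q + 1)).map f) (q - 1) (q - 1) le_rfl
    (H_truncLT_map_eq_zero f (q + 1) (q - 1) (by omega) h₁)
  have hΦ₂ := H_truncGE_map_eq_zero ((t.truncLT (q + 1)).map f) (q - 1) q (by omega)
    (H_truncLT_map_eq_zero f (q + 1) q (by omega) h₂)
  obtain ⟨L₀, hL₀, huniq⟩ := core q Φ hΦ₁ hΦ₂
  -- comparison on the source
  let ν : M ⟶ (t.truncGE q).obj Y := (t.natTransTruncGEOfLE (q - 1) q (sub_one_lt q).le).app Y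
  let εs : (t.truncGE q).obj Y ⟶ (t.truncGE q).obj M := (t.truncGE q).map ((t.truncGEπ (q - 1)).app Y)
  have hεs : IsIso εs := t.isIso_truncGE_map_truncGEπ_app q (q - 1) (by omega) Y
  have hν : ν ≫ εs = (t.truncGEπ q).app M := by
    have : t.IsGE ((t.truncGE q).obj M) (q - 1) := t.isGE_of_ge _ (q - 1) q (by omega)
    refine t.from_truncGE_obj_ext (n := q - 1) ?_
    refine (Category.assoc _ _ _).symm.trans ?_
    refine (congrArg (· ≫ εs) (t.π_natTransTruncGEOfLE_app (q - 1) q (sub_one_lt q).le Y)).trans ?_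
    exact t.truncGEπ_naturality q ((t.truncGEπ (q - 1)).app Y)
  -- comparison on the target
  let A' := (t.truncGE (q - 1)).obj ((t.truncLT q).obj K')
  let ν' : A' ⟶ M' := (t.truncGE (q - 1)).map
    ((t.natTransTruncLTOfLE q (q + 1) (lt_add_one q).le).app K')
  have hA' : t.IsLE A' (q - 1) := inferInstance
  let ℓ : A' ⟶ (t.truncLT q).obj M' := t.liftTruncLT ν' (q - 1) q (by omega)
  have hℓ : ℓ ≫ (t.truncLTι q).app M' = ν' := t.liftTruncLT_ι ν' (q - 1) q (by omega)
  have hℓiso : IsIso ℓ := by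
    have : A'.IsGE (q - 1) := (inferInstance : t.IsGE A' (q - 1))
    have : A'.IsLE (q - 1) := hA'
    have : ((t.truncLT q).obj M').IsGE (q - 1) := (inferInstance : t.IsGE ((t.truncLT q).obj M') (q - 1))
    have : ((t.truncLT q).obj M').IsLE (q - 1) := (inferInstance : t.IsLE ((t.truncLT q).obj M') (q - 1))
    refine pure_isIso (q - 1) ℓ ?_
    have j1 := isIso_H_ι M' q (q - 1) (by omega)
    suffices j2 : IsIso ((DerivedCategory.homologyFunctor C (q - 1)).map ν') by
      rw [← hℓ, Functor.map_comp] at j2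
      exact @IsIso.of_isIso_comp_right _ _ _ _ _ _ _ j1 j2
    have j3 := isIso_H_ι K' q (q - 1) (by omega)
    have j4 := isIso_H_ι K' (q + 1) (q - 1) (by omega)
    have j5 : IsIso ((DerivedCategory.homologyFunctor C (q - 1)).map
        ((t.natTransTruncLTOfLE q (q + 1) (lt_add_one q).le).app K')) := by
      rw [← t.natTransTruncLTOfLE_ι_app q (q + 1) (lt_add_one q).le K', Functor.map_comp] at j3
      exact @IsIso.of_isIso_comp_right _ _ _ _ _ _ _ j4 j3
    have j6 := isIso_H_π ((t.truncLT q).obj K') (q - 1) (q - 1) le_rfl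
    have j7 := isIso_H_π Y' (q - 1) (q - 1) le_rfl
    have hn := congrArg (DerivedCategory.homologyFunctor C (q - 1)).map
      (t.truncGEπ_naturality (q - 1) ((t.natTransTruncLTOfLE q (q + 1) (lt_add_one q).le).app K'))
    have j8 := @IsIso.comp_isIso _ _ _ _ _ _ _ j5 j7
    rw [← Functor.map_comp] at j8
    erw [← hn, Functor.map_comp] at j8
    exact @IsIso.of_isIso_comp_left _ _ _ _ _ _ _ j6 j8
  refine ⟨εs ≫ L₀ ≫ inv ℓ, ?_, fun L' hL' => ?_⟩
  · show Φ = ν ≫ (εs ≫ L₀ ≫ inv ℓ) ≫ ν'
    rw [Category.assoc, Category.assoc, ← hℓ, IsIso.inv_hom_id_assoc, ← Category.assoc ν, hν]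
    exact hL₀
  · have hL'' : Φ = ν ≫ L' ≫ ν' := hL'
    have := huniq (inv εs ≫ L' ≫ ℓ) (by
      show Φ = (t.truncGEπ q).app M ≫ (inv εs ≫ L' ≫ ℓ) ≫ (t.truncLTι q).app M'
      rw [← hν, Category.assoc, Category.assoc, Category.assoc, hℓ, IsIso.hom_inv_id_assoc]
      exact hL'')
    rw [← this]
    simp

end Groth.Agent.S14388
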