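import Groth.Statements.S14392
import Groth.Agent.LccRepLib.Trivialise
import Groth.Agent.EtAcDepth.Leray
import Groth.Agent.GalCohAux.EtDimVanA
import Groth.Agent.S0103
import Groth.Agent.S14381
-- import your own Groth.Agent.* helpers here

set_option autoImplicit false
open CategoryTheory CategoryTheory.Limits AlgebraicGeometry Opposite
universe u
open EtCoh

namespace Groth.Agent.S14392

/-- Let p be a prime number and X a connected affine scheme of characteristic p (p = 0 in the ring of
global sections). Then X is a K(π,1) for p-torsion coefficients: for every finite locally constant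
abelian sheaf F on the small étale site of X killed by some power p^h (h ≥ 0, equivalently by an
integer n ≥ 1 whose only prime factor is p), every q > 0 and every class ζ ∈ H^q(X_ét, F), there is
a finite étale surjective morphism g : X' → X such that g^*ζ = 0 in H^q(X'_ét, g⁻¹F). (Exactness of
pullback of abelian sheaves, which always holds, is carried as an instance hypothesis.) -/
theorem result (p : ℕ) [Fact p.Prime] (X : Scheme.{u}) [IsAffine X]
    [ConnectedSpace ↥X] [CharP Γ(X, ⊤) p] (F : EtCoh.Ab X) (hF : EtCoh.IsFiniteLocallyConstant F)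
    (htor : ∃ h : ℕ, EtCoh.KilledBy (p ^ h) F) (q : ℕ) (hq : 0 < q) (ζ : EtCoh.H X F q) :
    ∃ (X' : Scheme.{u}) (g : X' ⟶ X), IsFinite g ∧ Etale g ∧ Surjective g ∧
      ∀ [PreservesFiniteLimits (EtCoh.pull g)], EtCore.Hpull g F q ζ = 0 := by
  classical
  obtain ⟨h, hh⟩ := htor
  by_cases hq1 : q = 1
  · subst hq1
    have hconn : Finite (_root_.ConnectedComponents ↥X) := inferInstance
    exact Groth.Agent.S14381.result X hconn F hF
      ⟨p ^ h, pow_pos (Fact.out : p.Prime).pos h, hh⟩ ζ
  obtain ⟨W, hW, hWs, M, _, _, m, hm⟩ := LccRepLib.exists_finite_etale_triv hF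
  haveI := hW
  haveI := hWs
  haveI : Etale W.hom := W.prop
  obtain ⟨e⟩ := LccRepLib.exists_iso_const_pull m hm
  let g : W.left ⟶ X := W.hom
  haveI : IsFinite g := hW
  haveI : IsAffine W.left := isAffine_of_isAffineHom g
  obtain ⟨x₀⟩ : Nonempty X := inferInstance
  obtain ⟨w₀, -⟩ := W.hom.surjective x₀
  haveI : Nonempty W.left := ⟨w₀⟩
  haveI : Nontrivial Γ(W.left, ⊤) := by
    haveI : Nonempty (⊤ : W.left.Opens) := ⟨⟨w₀, trivial⟩⟩
    infer_instance
  haveI : CharP Γ(W.left, ⊤) p := by
    refine (CharP.charP_iff_prime_eq_zero (Fact.out : p.Prime)).2 ?_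
    rw [← map_natCast g.appTop.hom p, CharP.cast_eq_zero, map_zero]
  refine ⟨W.left, W.hom, hW, W.prop, hWs, ?_⟩
  intro hlim
  have hM : ∀ x : M, ∃ k : ℕ, p ^ k • x = 0 := by
    intro x
    refine ⟨h, ?_⟩
    obtain ⟨φ, -⟩ := EtaleSite.exists_fiber_point
      (EtaleSite.geomPointAt X (W.hom w₀)) W w₀
      (EtaleSite.geomPointAt_apply X (W.hom w₀) _).symm
    apply (hm _ _ φ).1
    show EtaleSite.germ _ F W φ (m (p ^ h • x)) = EtaleSite.germ _ F W φ (m 0)
    rw [map_nsmul, map_zero]
    exact congrArg _ (hh W (m x))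
  have hsub : Subsingleton (EtCoh.H W.left ((EtCoh.pull W.hom).obj F) q) :=
    GalCohAux.EtDimVanA.subsingleton_H_of_iso e.symm q
      (EtAcDepth.subsingleton_H_const_primary (Fact.out : p.Prime) q
        (Groth.Agent.S0103.result W.left p q (by omega)) _ hM)
  exact @Subsingleton.elim _ hsub _ _

end Groth.Agent.S14392
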