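import Groth.Statements.S14393
import Groth.Agent.LccRepLib.NormOpen
import Groth.Agent.LccRepLib.Extend
import Groth.Agent.FEtCat.Galois
import Mathlib.CategoryTheory.Galois.Decomposition
-- import your own Groth.Agent.* helpers here

set_option autoImplicit false
set_option linter.style.haveILetI false
set_option backward.isDefEq.respectTransparency.types false
set_option backward.isDefEq.respectTransparency false
open CategoryTheory CategoryTheory.Limits AlgebraicGeometry Opposite
universe u
open EtCoh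

namespace Groth.Agent.S14393

open Groth.Agent Groth.Agent.EtaleSite

variable {X : Scheme.{u}}

/-- Two sheaves on an empty scheme are isomorphic. -/
theorem nonempty_iso_of_isEmpty [IsEmpty X] (A B : EtCoh.Ab X) : Nonempty (A ≅ B) :=
  ⟨@asIso _ _ _ _ (0 : A ⟶ B)
    (EtaleSite.isIso_of_stalk _ fun Ω _ _ ξ => isEmptyElim (ξ (default : Spec (CommRingCat.of Ω))))⟩

/-- A cover trivialising a sheaf finite étale over a normal integral scheme is connected if it is a
connected object. -/
theorem connectedSpace_of_isConnected [ConnectedSpace X] {Ω : Type u} [Field Ω] [IsAlgClosed Ω]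
    (ξ : Spec (CommRingCat.of Ω) ⟶ X) (Z : FEt.Cat X) [PreGaloisCategory.IsConnected Z] :
    ConnectedSpace Z.left := by
  obtain ⟨z⟩ := PreGaloisCategory.nonempty_fiber_of_isConnected (FEtCat.Basic.fibre ξ) Z
  haveI : Nonempty Z.left := ⟨(z : FEt.fiberObj ξ Z).1 default⟩
  haveI : PreconnectedSpace Z.left := preconnectedSpace_iff_clopen.2 fun S hS => by
    rcases S.eq_empty_or_nonempty with hS0 | ⟨y, hy⟩
    · exact Or.inl hS0
    refine Or.inr ?_
    let O : Z.left.Opens := ⟨S, hS.isOpen⟩
    let i := FEtCat.Basic.subι Z O hS.isClosed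
    haveI : Mono i := ⟨fun a b h => FEtCat.Basic.hom_ext
      ((cancel_mono O.ι).1 (congrArg (fun q => q.left) h))⟩
    haveI : IsIso i := PreGaloisCategory.IsConnected.noTrivialComponent _ i fun hin => by
      have h0 : IsEmpty (FEtCat.Basic.sub Z O hS.isClosed).left :=
        Function.isEmpty (hin.to (FEtCat.Basic.empty X)).left
      exact h0.false (⟨y, hy⟩ : O)
    haveI := FEtCat.Basic.isIso_left i
    refine Set.eq_univ_of_forall fun x => ?_
    obtain ⟨o, rfl⟩ := i.left.surjective x
    exact o.2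
  exact ⟨inferInstance⟩

variable [IsIntegral X] (hX : Pi1.IsNormalScheme X) (U : X.Opens) [QuasiCompact U.ι]
  (F : EtCoh.Ab ↑U)

/-- The condition (b) of the statement. -/
def CondB : Prop :=
  ∃ (G : Type) (_ : Group G) (_ : Finite G) (P : FEt.Cat ↑U) (ρ : G →* Aut P),
    SGA1t.IsPrincipal G P ρ ∧
    (∃ (M : Type) (_ : AddCommGroup M) (_ : Finite M),
      Nonempty ((EtCoh.pull P.hom).obj F ≅ EtCoh.const P.left M)) ∧
    ∀ [QuasiCompact (P.hom ≫ U.ι)] [QuasiSeparated (P.hom ≫ U.ι)],
      Etale (P.hom ≫ U.ι).fromNormalization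

/-- The condition (a) of the statement. -/
def CondA : Prop :=
  ∃ F' : EtCoh.Ab X, EtCoh.IsFiniteLocallyConstant F' ∧ Nonempty ((EtCoh.pull U.ι).obj F' ≅ F)

theorem condB_of_empty (hU : IsEmpty (U : Scheme.{u})) : CondB U F := by
  haveI : IsEmpty ↥((𝟭 Scheme.{u}).obj (FEtCat.Basic.mk (𝟙 (U : Scheme.{u}))).left) := hU
  refine ⟨PUnit, inferInstance, inferInstance, FEtCat.Basic.mk (𝟙 (U : Scheme.{u})), 1,
    ⟨fun x => ⟨x, rfl⟩, fun Ω _ _ ξ => isEmptyElim (ξ default)⟩,
    ⟨PUnit, inferInstance, inferInstance, nonempty_iso_of_isEmpty _ _⟩, ?_⟩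
  have hgen : ∀ {Y : Scheme.{u}} [IsEmpty Y] (g : Y ⟶ X) [QuasiCompact g] [QuasiSeparated g],
      Etale g.fromNormalization := fun {Y} _ g _ _ => by
    haveI : IsEmpty g.normalization := by
      refine ⟨fun n => ?_⟩
      have h : n ∈ closure (Set.range g.toNormalization) := g.toNormalization.denseRange n
      rw [Set.range_eq_empty, closure_empty] at h
      exact h
    infer_instance
  intro _ _
  exact @hgen _ hU _ ‹_› ‹_›

theorem condA_of_empty (hU : IsEmpty (U : Scheme.{u})) : CondA U F := by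
  refine ⟨(EtCoh.push U.ι).obj F, EtConsAb.isFLC_of_isTriv fun Ω _ _ ξ => ?_,
    nonempty_iso_of_isEmpty _ _⟩
  obtain ⟨φ, -⟩ := exists_fiber_point ξ (EtCoh.top X) (ξ default) rfl
  refine ⟨EtCoh.top X, φ, PUnit.{u + 2}, inferInstance, inferInstance, 0, fun Ω' _ _ ξ' ψ =>
    ⟨fun a b _ => Subsingleton.elim a b, fun p => ?_⟩⟩
  obtain ⟨W, g, w, s, -, rfl⟩ := EtConsAb.exists_germ_eq_refine ψ ((EtCoh.push U.ι).obj F) p
  refine ⟨PUnit.unit, ?_⟩
  have hs : s = 0 := sect_ext (F := F) s 0 fun Ω'' _ _ ζ _ => isEmptyElim (ζ default)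
  simp [hs]

include hX in
theorem condB_of_condA (hU : (U : Set X).Nonempty) (h : CondA U F) : CondB U F := by
  obtain ⟨F', hF', ⟨e⟩⟩ := h
  obtain ⟨W, hW, hWs, M, _, _, m, hm⟩ := LccRepLib.exists_finite_etale_triv hF'
  haveI : Etale W.hom := W.prop
  let W₀ : FEt.Cat X := FEtCat.Basic.mk W.hom
  let x := genericPoint X
  let ξ : Spec (CommRingCat.of (AlgebraicClosure (X.residueField x))) ⟶ X :=
    Spec.map (CommRingCat.ofHom (algebraMap (X.residueField x)
      (AlgebraicClosure (X.residueField x)))) ≫ X.fromSpecResidueField x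
  obtain ⟨w, hw⟩ := W.hom.surjective (ξ default)
  obtain ⟨φ, -⟩ := exists_fiber_point ξ W w hw
  let t : FEt.fiberObj ξ W₀ := ⟨φ.left, Over.w φ⟩
  haveI : GaloisCategory (FEt.Cat X) := FEtCat.Galois.galoisCategory
  obtain ⟨Z, f, z, hZ, -⟩ :=
    PreGaloisCategory.exists_hom_from_galois_of_fiber (FEtCat.Basic.fibre ξ) W₀ t
  haveI := hZ
  haveI := connectedSpace_of_isConnected ξ Z
  haveI : IsIntegral Z.left := FEtCat.Normal.isIntegral hX Z
  haveI : Finite (Aut Z) := inferInstance
  obtain ⟨G, _, _, ⟨eG⟩⟩ := Finite.exists_type_univ_nonempty_mulEquiv.{u, 0} (Aut Z)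
  let ρ : G →* Aut ((FEt.restrict U.ι).obj Z) :=
    ((FEt.restrict U.ι).mapAut Z).comp eG.symm.toMonoidHom
  let P := (FEt.restrict U.ι).obj Z
  have hP : SGA1t.IsPrincipal G P ρ := by
    let hz : (Z.left : Scheme.{u}) ⟶ X := Z.hom
    haveI : IsFinite hz := Z.prop.1
    haveI : Etale hz := Z.prop.2
    have hs : Function.Surjective hz := fun y =>
      Set.range_eq_univ.1 (IsClopen.eq_univ (s := Set.range hz)
        ⟨hz.isClosedMap.isClosed_range, hz.isOpenMap.isOpen_range⟩
        (Set.range_nonempty _)) y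
    refine ⟨fun y => ?_, fun Ω _ _ ζ s s' => ?_⟩
    · obtain ⟨v, hv⟩ := hs (U.ι y)
      obtain ⟨p, -, hp⟩ := Scheme.Pullback.exists_preimage_pullback (f := Z.hom) (g := U.ι) v y hv
      exact ⟨p, hp⟩
    let E := (FEtCat.Basic.restrictFiberIso U.ι ζ).app Z
    let F₀ := FEtCat.Basic.fibre (ζ ≫ U.ι)
    haveI : PreGaloisCategory.FiberFunctor F₀ := FEtCat.Galois.fiberFunctor _
    let x₀ : (F₀.obj Z).obj := E.hom s
    have hbij : Function.Bijective fun σ : Aut Z => F₀.map σ.hom x₀ := by
      refine ⟨PreGaloisCategory.evaluation_aut_injective_of_isConnected F₀ Z x₀, fun q => ?_⟩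
      haveI := PreGaloisCategory.isPretransitive_of_isGalois F₀ Z
      obtain ⟨σ, hσ⟩ := MulAction.exists_smul_eq (Aut Z) x₀ (q : (F₀.obj Z).obj)
      exact ⟨σ, hσ⟩
    have key : ∀ g : G, E.hom ((FEt.fiber ζ).map (ρ g).hom s) =
        F₀.map (eG.symm g).hom x₀ := fun g =>
      ConcreteCategory.congr_hom
        ((FEtCat.Basic.restrictFiberIso U.ι ζ).hom.naturality (eG.symm g).hom) s
    obtain ⟨σ, hσ, hu⟩ := hbij.existsUnique (E.hom s' : F₀.obj Z)
    refine ⟨eG σ, ?_, fun g hg => ?_⟩
    · refine E.toEquiv.injective ((key _).trans ?_)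
      rw [eG.symm_apply_apply]
      exact hσ
    · rw [← eG.symm_apply_eq]
      exact hu _ ((key g).symm.trans (congrArg E.hom hg))
  haveI : Etale P.hom := P.prop.2
  haveI : IsFinite P.hom := P.prop.1
  let j : P.left ⟶ Z.left := pullback.fst Z.hom U.ι
  haveI : IsOpenImmersion j := inferInstanceAs (IsOpenImmersion (pullback.fst Z.hom U.ι))
  have hj : P.hom ≫ U.ι = j ≫ Z.hom := pullback.condition.symm
  refine ⟨G, inferInstance, inferInstance, P, ρ, hP, ?_, ?_⟩
  · let PX : X.Etale := Scheme.Etale.mk (P.hom ≫ U.ι)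
    let a : PX ⟶ W := MorphismProperty.Over.homMk (j ≫ f.left)
      (by
        show (j ≫ f.left) ≫ W.hom = P.hom ≫ U.ι
        rw [hj, Category.assoc]
        exact congrArg (j ≫ ·) (MorphismProperty.Over.w f)) trivial
    obtain ⟨i⟩ := LccRepLib.exists_iso_const_pull _ (hm.restrict a)
    haveI : Finite (Shrink.{0} M) := Finite.of_equiv M (equivShrink.{0} M)
    refine ⟨Shrink.{0} M, inferInstance, inferInstance,
      ⟨(EtCoh.pull P.hom).mapIso e.symm ≪≫ (EtConsAb.pullComp U.ι P.hom).app F' ≪≫ i ≪≫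
        (constantSheaf P.left.smallEtaleTopology AddCommGrpCat.{u + 1}).mapIso
          (AddEquiv.toAddCommGrpIso (Shrink.addEquiv.symm.trans AddEquiv.ulift.symm))⟩⟩
  · intro _ _
    let f₀ := P.hom ≫ U.ι
    haveI : Nonempty P.left := by
      obtain ⟨y, hy⟩ := hU
      obtain ⟨p, -⟩ := hP.1 ⟨y, hy⟩
      exact ⟨p⟩
    haveI : IsIntegral ((𝟭 Scheme.{u}).obj Z.left) := (inferInstance : IsIntegral (Z.left : Scheme.{u}))
    haveI : IsIntegral P.left := isIntegral_of_isOpenImmersion j
    haveI : IsIntegral ((𝟭 Scheme.{u}).obj P.left) := (inferInstance : IsIntegral (P.left : Scheme.{u}))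
    haveI : IsFinite Z.hom := Z.prop.1
    haveI : Etale Z.hom := Z.prop.2
    haveI := LccRepLib.isIso_normalizationDesc_of_open
      (EtNormal.isNormalScheme_of_etale Z.hom hX) f₀ j Z.hom hj
    rw [← f₀.normalizationDesc_comp j Z.hom hj]
    infer_instance

include hX in
theorem condA_of_condB (hU : (U : Set X).Nonempty) (h : CondB U F) : CondA U F := by
  obtain ⟨G, _, _, P, ρ, hP, ⟨M, _, _, ⟨e⟩⟩, hEt⟩ := h
  haveI : IsFinite P.hom := P.prop.1
  haveI : Etale P.hom := P.prop.2
  haveI : Etale (P.hom ≫ U.ι).fromNormalization := hEt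
  let f := P.hom ≫ U.ι
  let N : X.Etale := Scheme.Etale.mk f.fromNormalization
  let PU : (U : Scheme.{u}).Etale := Scheme.Etale.mk P.hom
  obtain ⟨m, hm⟩ := LccRepLib.exists_isTriv_of_pull_etale (F := F) PU (M := ULift.{u + 1} M) e
  let q := pullback.snd f U.ι
  have hq : q = pullback.fst f U.ι ≫ P.hom := by
    rw [← cancel_mono U.ι, Category.assoc]
    exact pullback.condition.symm
  haveI : IsIntegralHom q := by rw [hq]; infer_instance
  let r₀ : pullback f.fromNormalization U.ι ⟶ P.left :=
    inv (f.normalizationPullback U.ι) ≫ inv q.toNormalization ≫ pullback.fst f U.ι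
  let r : (EtCoh.bc U.ι).obj N ⟶ PU := MorphismProperty.Over.homMk r₀ (by
    show r₀ ≫ P.hom = pullback.snd f.fromNormalization U.ι
    simp only [r₀, Category.assoc, ← hq, IsIso.inv_comp_eq]
    exact q.toNormalization_fromNormalization.symm.trans
      (congrArg (q.toNormalization ≫ ·) (f.normalizationPullback_snd U.ι).symm)) trivial
  refine ⟨(EtCoh.push U.ι).obj F, EtConsAb.isFLC_of_isTriv fun Ω _ _ ξ => ?_,
    ⟨@asIso _ _ _ _ ((EtCoh.pullPushAdj U.ι).counit.app F) (isIso_counit_pullPush U.ι F)⟩⟩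
  have hsurj : Function.Surjective f.fromNormalization := by
    have hcl := f.fromNormalization.isClosedMap.isClosed_range
    have hd : Dense (U : Set X) := U.2.dense hU
    have hsub : (U : Set X) ⊆ Set.range f.fromNormalization := fun y hy => by
      obtain ⟨p, hp⟩ := hP.1 ⟨y, hy⟩
      refine ⟨f.toNormalization p, ?_⟩
      rw [← Scheme.Hom.comp_apply, f.toNormalization_fromNormalization]
      exact congrArg Subtype.val hp
    exact fun y => hcl.closure_subset_iff.2 hsub (hd y)
  obtain ⟨n, hn⟩ := hsurj (ξ default)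
  obtain ⟨φ, -⟩ := exists_fiber_point ξ N n hn
  exact ⟨N, φ, ULift.{u + 1} M, inferInstance, inferInstance, _,
    LccRepLib.isTriv_push (fun x => (hX x).2) U hU (hm.restrict r)⟩


/-- Let X be a normal integral scheme (all local rings integrally closed domains), j : U → X the
inclusion of an open subscheme and F a finite locally constant abelian sheaf on the small étale site
of U. The following are equivalent: (a) there is a finite locally constant abelian sheaf F' on X
whose restriction j⁻¹F' is isomorphic to F; (b) there are a finite group G and a principal G-cover f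
: V → U (a finite étale cover with an action of G by U-automorphisms which is simply transitive on
geometric fibres, f surjective) such that f⁻¹F is isomorphic to a constant sheaf with finite value
group and the relative normalization of X in V (for the composite V → U → X) is étale over X. (Here
j is assumed quasi-compact, i.e. U retrocompact in X, so that the relative normalization of the
library applies; the published statement allows any open U. The quasi-compactness and
quasi-separatedness of V → X, which follow, are carried as instance hypotheses. The published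
statement also lists a third equivalent condition, that j_*F is locally constant; it is not part of
this row.) -/
theorem result (X : Scheme.{u}) [IsIntegral X]
    (hX : Pi1.IsNormalScheme X) (U : X.Opens) [QuasiCompact U.ι] (F : EtCoh.Ab ↑U) (hF : EtCoh.IsFiniteLocallyConstant F) :
    (∃ F' : EtCoh.Ab X, EtCoh.IsFiniteLocallyConstant F' ∧ Nonempty ((EtCoh.pull U.ι).obj F' ≅ F)) ↔
    ∃ (G : Type) (_ : Group G) (_ : Finite G) (P : FEt.Cat ↑U) (ρ : G →* Aut P),
      SGA1t.IsPrincipal G P ρ ∧
      (∃ (M : Type) (_ : AddCommGroup M) (_ : Finite M),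
        Nonempty ((EtCoh.pull P.hom).obj F ≅ EtCoh.const P.left M)) ∧
      ∀ [QuasiCompact (P.hom ≫ U.ι)] [QuasiSeparated (P.hom ≫ U.ι)],
        Etale (P.hom ≫ U.ι).fromNormalization := by
  rcases (U : Set X).eq_empty_or_nonempty with hU | hU
  · have hU' : IsEmpty (U : Scheme.{u}) := ⟨fun y => (Set.ext_iff.mp hU y.1).mp y.2⟩
    exact ⟨fun _ => condB_of_empty U F hU', fun _ => condA_of_empty U F hU'⟩
  · exact ⟨condB_of_condA hX U F hU, condA_of_condB hX U F hU⟩

end Groth.Agent.S14393
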