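import Groth.Statements.S14397
-- import your own Groth.Agent.* helpers here

set_option autoImplicit false
universe u
open DualGr

namespace Groth.Agent.S14397

/-- Let (V, E) with endpoint map E → V × V be a finite multigraph (loops and parallel edges allowed; the
order of the two endpoints is an auxiliary orientation), and let D_1, …, D_n be finite sets of edges
such that every edge lies outside at least one D_i. For each i let Γ_i be the multigraph obtained by
contracting the edges of D_i, and let H₁(Γ, ℤ) → H₁(Γ_i, ℤ) be the map of cycle lattices (integer
edge vectors with zero boundary) given by restriction to the surviving edges. Then the map H₁(Γ, ℤ)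
→ ⊕_i H₁(Γ_i, ℤ) has torsion-free cokernel. (The published statement is about the connected labelled
dual graph of the closed fibre of a nodal curve, smooth outside a normal crossing divisor with
components D_1, …, D_n, over a Noetherian regular strictly local base; Γ_i is the dual graph of the
fibre over the generic point of D_i, the lattices are identified with the character groups of the
toric parts of the Picard schemes of these fibres, and the map is the generization map of character
groups; this row states the assertion about cycle lattices, for any finite multigraph, which is what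
the argument establishes.) -/
theorem result
    {V E : Type u} [Fintype V] [Fintype E] [DecidableEq V] [DecidableEq E]
    (ends : E → V × V) {n : ℕ} (D : Fin n → Finset E) (hcover : ∀ e : E, ∃ i : Fin n, e ∉ D i) :
    IsAddTorsionFree (((i : Fin n) → ↥(DualGr.cycleLattice (DualGr.ctrEnds ends (D i)))) ⧸
      LinearMap.range (LinearMap.pi fun i : Fin n => DualGr.genMap ends (D i))) := by
  classical
  refine ⟨fun k hk x y h => ?_⟩
  suffices H : ∀ z : ((i : Fin n) → ↥(DualGr.cycleLattice (DualGr.ctrEnds ends (D i)))) ⧸
      LinearMap.range (LinearMap.pi fun i : Fin n => DualGr.genMap ends (D i)), k • z = 0 → z = 0 by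
    exact sub_eq_zero.1 (H (x - y) (by rw [nsmul_sub]; exact sub_eq_zero.2 h))
  intro z hz
  obtain ⟨g, rfl⟩ := Submodule.Quotient.mk_surjective _ z
  rw [← Submodule.Quotient.mk_smul, Submodule.Quotient.mk_eq_zero] at hz
  obtain ⟨γ, hγ⟩ := hz
  have key : ∀ (i : Fin n) (e : E) (he : e ∉ D i), γ.1 e = (k : ℤ) * (g i).1 ⟨e, he⟩ := fun i e he => by
    have h := congrArg (fun v => ((v i).1 : DualGr.CtrEdge (D i) → ℤ) ⟨e, he⟩) hγ
    simpa [DualGr.genMap, DualGr.resE] using h
  choose ix hix using hcover
  let γ' : E → ℤ := fun e => (g (ix e)).1 ⟨e, hix e⟩
  have hγ' : γ.1 = (k : ℤ) • γ' := funext fun e => by simpa [γ'] using key (ix e) e (hix e)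
  have hk' : (k : ℤ) ≠ 0 := by exact_mod_cast hk
  have hmem : γ' ∈ DualGr.cycleLattice ends := by
    have h0 := γ.2
    simp only [DualGr.cycleLattice, LinearMap.mem_ker, hγ', map_smul] at h0 ⊢
    exact (smul_eq_zero.1 h0).resolve_left hk'
  refine (Submodule.Quotient.mk_eq_zero _).2 ⟨⟨γ', hmem⟩, ?_⟩
  funext i
  apply Subtype.ext
  funext e
  show γ' e.1 = (g i).1 e
  have h1 := key i e.1 e.2
  rw [hγ'] at h1
  exact mul_left_cancel₀ hk' (by simpa using h1)

end Groth.Agent.S14397
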