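import Groth.Statements.S1589
import Groth.Agent.StrictSSLib.NodalBaseChange
import Groth.Agent.S0342
import Groth.Agent.S0343
import Groth.Agent.S0344
import Groth.Agent.PSLoc.Basic
import Groth.Agent.FBase.BC

set_option linter.style.haveILetI false

set_option autoImplicit false
universe u
open CategoryTheory CategoryTheory.Limits AlgebraicGeometry
open Curves

namespace Groth.Agent.S1589

/-- Let X be locally of finite type over k with all irreducible components of dimension one and
at-worst-nodal singularities. Then every local ring of X is Gorenstein and X is geometrically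
reduced over k. -/
theorem result (k : Type u) [Field k] (X : Scheme.{u}) [X.Over (Spec (CommRingCat.of k))] [LocallyOfFiniteType (X ↘ (Spec (CommRingCat.of k)))]
    (hequi : ∀ Z ∈ irreducibleComponents (X : Type u), topologicalKrullDim Z = 1) (hX : Curv2.AtWorstNodal k X) :
    (∀ x : X, LocCoh.IsGorensteinLocalRing (X.presheaf.stalk x)) ∧ GeometricallyReduced (X ↘ (Spec (CommRingCat.of k))) := by
  let φ := X ↘ Spec (CommRingCat.of k)
  let K := AlgebraicClosure k
  let P := Curv2.bcFst k X K
  let π := Curv2.bcSnd k X K
  have h1 : IsPullback P π φ (Spec.map (CommRingCat.ofHom (algebraMap k K))) := IsPullback.of_hasPullback _ _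
  haveI hb : Flat (Spec.map (CommRingCat.ofHom (algebraMap k K))) := by
    rw [HasRingHomProperty.Spec_iff (P := @Flat)]
    exact RingHom.flat_algebraMap_iff.mpr inferInstance
  haveI : Flat P := MorphismProperty.of_isPullback (P := @Flat) h1.flip inferInstance
  haveI : LocallyOfFiniteType π := MorphismProperty.of_isPullback h1 inferInstance
  haveI : IsLocallyNoetherian X := LocallyOfFiniteType.isLocallyNoetherian φ
  haveI : IsLocallyNoetherian (Curv2.bc k X K) := LocallyOfFiniteType.isLocallyNoetherian π
  haveI : LocallyOfFinitePresentation φ := inferInstance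
  haveI : LocallyOfFinitePresentation π := inferInstance
  haveI := StrictSSLib.smooth_smoothLocus φ
  refine ⟨fun x => ?_, ?_⟩
  · by_cases hx : Curv2.IsNode k X x
    · obtain ⟨-, y, rfl, e, -⟩ := hx
      haveI : IsLocalHom e.toRingHom := ⟨fun a ha => (isLocalHom_equiv e).map_nonunit a ha⟩
      let B := (Curv2.bc k X (AlgebraicClosure k)).presheaf.stalk y
      let toN : B →+* _ := e.toRingHom.comp (algebraMap B (AdicCompletion (IsLocalRing.maximalIdeal B) B))
      haveI : IsLocalHom toN := RingHom.isLocalHom_comp _ _
      letI : Algebra (X.presheaf.stalk (P y)) (MvPowerSeries (Fin 2) (AlgebraicClosure k) ⧸ Ideal.span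
          {(MvPowerSeries.X 0 * MvPowerSeries.X 1 : MvPowerSeries (Fin 2) (AlgebraicClosure k))}) :=
        (toN.comp (P.stalkMap y).hom).toAlgebra
      haveI : IsLocalHom (algebraMap (X.presheaf.stalk (P y)) (MvPowerSeries (Fin 2) (AlgebraicClosure k) ⧸ Ideal.span
          {(MvPowerSeries.X 0 * MvPowerSeries.X 1 : MvPowerSeries (Fin 2) (AlgebraicClosure k))})) :=
        RingHom.isLocalHom_comp toN (P.stalkMap y).hom
      haveI : Module.Flat (X.presheaf.stalk (P y)) (MvPowerSeries (Fin 2) (AlgebraicClosure k) ⧸ Ideal.span
          {(MvPowerSeries.X 0 * MvPowerSeries.X 1 : MvPowerSeries (Fin 2) (AlgebraicClosure k))}) :=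
        RingHom.flat_algebraMap_iff.mp ((Flat.stalkMap P y).comp
          ((RingHom.flat_algebraMap_iff.mpr inferInstance).comp (RingHom.Flat.of_bijective e.bijective)))
      haveI : IsRegularLocalRing (MvPowerSeries (Fin 2) (AlgebraicClosure k)) := PSLoc.isRegularLocalRing _ 2
      have hN := (S0343.result (MvPowerSeries (Fin 2) (AlgebraicClosure k))
        (MvPowerSeries.X 0 * MvPowerSeries.X 1) ?_ ?_).mp (S0342.result _)
      · exact ((S0344.result _ _).mp hN).1
      · rw [IsLocalRing.mem_maximalIdeal, mem_nonunits_iff, MvPowerSeries.isUnit_iff_constantCoeff]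
        simp
      · refine (IsRegular.of_ne_zero ?_).left
        classical
        refine mul_ne_zero ?_ ?_ <;>
        · rw [MvPowerSeries.X]
          exact fun h => one_ne_zero ((MvPowerSeries.coeff_monomial_same _ (1 : AlgebraicClosure k)).symm.trans
            (by rw [h, map_zero]))
    · have hxs := StrictSSLib.mem_smoothLocus_of_atWorstNodal X (fun Z hZ => (hequi Z hZ).le) hX hx
      haveI := CurveDVR.isRegularLocalRing_stalk (φ.smoothLocus.ι ≫ φ) ⟨x, hxs⟩
      haveI : IsRegularLocalRing (X.presheaf.stalk x) :=
        IsRegularLocalRing.of_ringEquiv (φ.smoothLocus.stalkIso ⟨x, hxs⟩).commRingCatIsoToRingEquiv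
      exact S0342.result _
  · haveI : ∀ z, _root_.IsReduced ((Curv2.bc k X K).presheaf.stalk z) := fun z => by
      by_cases hz : Curv2.IsNode k X (P z)
      · obtain ⟨hc, y, hy, hord⟩ := hz
        obtain ⟨e, -⟩ := StrictSSLib.isOdpAt_of_over_same h1
          (StrictSSLib.isClosed_singleton_of_over_closed h1 (show IsClosed ({P y} : Set X) from hy ▸ hc))
          (StrictSSLib.isClosed_singleton_of_over_closed h1 hc) (show P y = P z from hy) hord
        haveI : _root_.IsReduced (StrictSSLib.FormalNode K) :=
          ⟨fun w ⟨n, hn⟩ => StrictSSLib.node_ext fun i =>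
            _root_.IsReduced.eq_zero _ ⟨n, by rw [← map_pow, hn, map_zero]⟩⟩
        exact isReduced_of_injective (e.toRingHom.comp (algebraMap _ (AdicCompletion (IsLocalRing.maximalIdeal
          ((Curv2.bc k X K).presheaf.stalk z)) _))) (e.injective.comp StrictSSLib.cpl_algebraMap_injective)
      · have hzs : z ∈ π.smoothLocus := by
          rw [S2155.result φ _ π P h1 (Or.inr hb)]
          exact StrictSSLib.mem_smoothLocus_of_atWorstNodal X (fun Z hZ => (hequi Z hZ).le) hX hz
        haveI := StrictSSLib.smooth_smoothLocus π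
        haveI := CurveDVR.isRegularLocalRing_stalk (π.smoothLocus.ι ≫ π) ⟨z, hzs⟩
        haveI : IsRegularLocalRing ((Curv2.bc k X K).presheaf.stalk z) :=
          IsRegularLocalRing.of_ringEquiv (π.smoothLocus.stalkIso ⟨z, hzs⟩).commRingCatIsoToRingEquiv
        haveI := RegLoc.isDomain ((Curv2.bc k X K).presheaf.stalk z)
        infer_instance
    haveI : AlgebraicGeometry.IsReduced (Curv2.bc k X K) := isReduced_of_isReduced_stalk _
    haveI : GeometricallyReduced π := FBase.BC.geometricallyReduced_of_isReduced_of_perfectField π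
    exact (FBase.BC.geometricallyReduced_iff (K := K) φ).mpr inferInstance

end Groth.Agent.S1589
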