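import Groth.Statements.S14399
import Groth.Agent.VertInter.DivField
import Groth.Agent.S13746
import Groth.Agent.S1589
import Groth.Agent.S4413
import Groth.Agent.AmpleLib.Open
import Groth.Agent.QCoh.Qcqs
import Groth.Agent.PerfSch.DescSec
-- import your own Groth.Agent.* helpers here

set_option autoImplicit false
universe u
open CategoryTheory AlgebraicGeometry
open SemiFact

namespace Groth.Agent.S14399

section Helpers

open Groth.Agent.QCoh Groth.Agent.Props.GenLocus TopologicalSpace Opposite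

variable {R : Type u} [CommRing R] [IsDomain R] [IsDiscreteValuationRing R]

/-- A closed irreducible one-dimensional subset of the closed fibre is a vertical prime divisor. -/
theorem exists_vertComp (X : Over (Spec (CommRingCat.of R))) (Z : Set X.left) (hZc : IsClosed Z)
    (hZ : IsIrreducible Z) (hsub : Z ⊆ Models.specialFibreSet R X) (hdim : topologicalKrullDim Z = 1) :
    ∃ Γ : ArSurf.VertComp R X, Set.range Γ.ι.base = Z := by
  let I := Scheme.IdealSheafData.vanishingIdeal (⟨Z, hZc⟩ : Closeds X.left)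
  have hrange : Set.range I.subschemeι.base = Z := by
    rw [Scheme.IdealSheafData.range_subschemeι]
    exact Scheme.IdealSheafData.coe_support_vanishingIdeal ⟨Z, hZc⟩
  haveI hred : IsReduced I.subscheme := inferInstance
  let h : (I.subscheme : Type u) ≃ₜ Z :=
    I.subschemeι.isEmbedding.toHomeomorph.trans (Homeomorph.setCongr hrange)
  haveI : IrreducibleSpace Z := Subtype.irreducibleSpace hZ
  haveI : IrreducibleSpace I.subscheme := h.irreducibleSpace_iff.mpr inferInstance
  haveI : IsIntegral I.subscheme := isIntegral_of_irreducibleSpace_of_isReduced _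
  let g : I.subscheme ⟶ Spec (CommRingCat.of R) := I.subschemeι ≫ X.hom
  have hker : ∀ r ∈ IsLocalRing.maximalIdeal R, Coh.toGlobal g r = 0 := fun r hr => by
    refine eq_zero_of_basicOpen_eq_bot _ (Opens.ext (Set.eq_empty_iff_forall_notMem.mpr fun c hc => ?_))
    have h1 : g ⁻¹ᵁ (Spec (CommRingCat.of R)).basicOpen ((Scheme.ΓSpecIso (CommRingCat.of R)).inv r) =
        I.subscheme.basicOpen (Coh.toGlobal g r) := Scheme.preimage_basicOpen _ _
    rw [← h1, basicOpen_eq_of_affine'] at hc
    have h2 : g.base c = IsLocalRing.closedPoint R := hsub (hrange ▸ ⟨c, rfl⟩)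
    simp only [Iso.inv_hom_id_apply] at hc
    change r ∉ (g.base c).asIdeal at hc
    rw [h2] at hc
    exact hc hr
  let σ : IsLocalRing.ResidueField R →+* Γ(I.subscheme, ⊤) := Ideal.Quotient.lift _ (Coh.toGlobal g) hker
  refine ⟨{ curve := Over.mk (I.subscheme.toSpecΓ ≫ Spec.map (CommRingCat.ofHom σ))
            ι := I.subschemeι
            isClosedImmersion := (inferInstance : IsClosedImmersion I.subschemeι)
            isIntegral := (inferInstance : IsIntegral I.subscheme)
            dim_eq := (h.isHomeomorph.topologicalKrullDim_eq _).trans hdim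
            w := ?_ }, hrange⟩
  show g = (I.subscheme.toSpecΓ ≫ Spec.map (CommRingCat.ofHom σ)) ≫ _
  have h3 : CommRingCat.ofHom (IsLocalRing.residue R) ≫ CommRingCat.ofHom σ =
      (Scheme.ΓSpecIso (CommRingCat.of R)).inv ≫ g.appTop := by
    ext r
    rfl
  rw [Category.assoc]
  refine Eq.trans ?_ (congrArg (I.subscheme.toSpecΓ ≫ ·)
    ((congrArg Spec.map h3).symm.trans (Spec.map_comp _ _)))
  rw [Spec.map_comp, ← Scheme.toSpecΓ_naturality_assoc, toSpecΓ_SpecMap_ΓSpecIso_inv, Category.comp_id]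

variable {X : Scheme.{u}} (f : X ⟶ Spec (CommRingCat.of R)) [Flat f] {L : X.Modules}

/-- Invertible modules have no torsion over a flat base. -/
theorem smul_cancel (hL : PicF.IsInvertible L) {r : R} (hr : r ≠ 0) {V : X.Opens} (t : Γ(L, V))
    (ht : S13746.str f V r • t = 0) : t = 0 := by
  have key : ∀ x : V, ∃ (W : X.Opens) (hW : W ≤ V), x.1 ∈ W ∧ res L hW t = 0 := by
    rintro ⟨x, hx⟩
    obtain ⟨U, e, hxU, he⟩ := exists_isGen hL x
    obtain ⟨W, hW, hxW, hWU⟩ := exists_isAffineOpen_mem_and_subset (U := U ⊓ V) (x := x) ⟨hxU, hx⟩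
    have hWV : W ≤ V := fun y hy => (hWU hy).2
    have hWU' : W ≤ U := fun y hy => (hWU hy).1
    refine ⟨W, hWV, hxW, ?_⟩
    obtain ⟨a, ha, -⟩ := he.exists_eq hWU' (res L hWV t)
    have h1 := congrArg (res L hWV) ht
    rw [map_zero, res_smul, ha, smul_smul] at h1
    have h2 := he.injective hWU' (h1.trans (zero_smul _ _).symm)
    rw [show rres hWV (S13746.str f V r) = S13746.str f W r from
      S13746.res_str f (homOfLE _) r] at h2
    rw [ha, S13746.isRegular_str f hW hr a h2, zero_smul]
  choose W hW hxW h using key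
  exact eq_zero_of_locally_eq_zero L hW (fun x hx => Opens.mem_iSup.mpr ⟨⟨x, hx⟩, hxW _⟩) t h

/-- A factor of a generating section generates. -/
theorem genLocus_le_of_smul (hL : PicF.IsInvertible L) (r : Γ(X, ⊤)) (t : Γ(L, ⊤)) :
    CohB1.genLocus L (homOfSec (r • t)) ≤ CohB1.genLocus L (homOfSec t) := fun x hx => by
  obtain ⟨U, e, hxU, he⟩ := exists_isGen hL x
  obtain ⟨b, hb, -⟩ := he.exists_eq le_rfl (res L (le_top : U ≤ ⊤) t)
  rw [res_self] at hb
  have h1 := genLocus_inf he (homOfSec (r • t)) (f := rres le_top r * b)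
    (by rw [sec_homOfSec, res_smul, hb, smul_smul])
  have h2 := genLocus_inf he (homOfSec t) (f := b) (by rw [sec_homOfSec, hb])
  have h3 : x ∈ X.basicOpen (rres (le_top : U ≤ ⊤) r * b) := h1 ▸ ⟨hx, hxU⟩
  rw [Scheme.basicOpen_mul] at h3
  exact (h2.symm ▸ h3.2 : x ∈ CohB1.genLocus L (homOfSec t) ⊓ U).1

/-- Over a reduced closed fibre, a section vanishing on the fibre is divisible by the uniformizer. -/
theorem exists_smul_eq (hL : PicF.IsInvertible L) {ϖ : R} (hϖ : Irreducible ϖ)
    [IsReduced (f.fiber (IsLocalRing.closedPoint R))] (s : Γ(L, ⊤))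
    (h : CohB1.genLocus L (homOfSec s) ≤ S13746.dOpen f ϖ) :
    ∃ t : Γ(L, ⊤), S13746.str f ⊤ ϖ • t = s := by
  haveI : IsReduced ((Over.mk f).hom.fiber (IsLocalRing.closedPoint R)) := ‹IsReduced (f.fiber _)›
  have key : ∀ x : X, ∃ (W : X.Opens) (t : Γ(L, W)), x ∈ W ∧
      S13746.str f W ϖ • t = res L le_top s := fun x => by
    obtain ⟨U, e, hxU, he⟩ := exists_isGen hL x
    obtain ⟨W, hW, hxW, hWU'⟩ := exists_isAffineOpen_mem_and_subset (U := U) (x := x) hxU
    have hWU : W ≤ U := fun y hy => hWU' hy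
    have heW := he.restrict hWU
    obtain ⟨a, ha, -⟩ := heW.exists_eq le_rfl (res L (le_top : W ≤ ⊤) s)
    rw [res_self] at ha
    have h1 := genLocus_inf heW (homOfSec s) (f := a) (by rw [sec_homOfSec, ha])
    obtain ⟨b, hb⟩ := S13746.exists_le_basicOpen_dvd (X := Over.mk f) hϖ hW a
      (h1 ▸ inf_le_left.trans h)
    refine ⟨W, b • res L hWU e, hxW, ?_⟩
    rw [smul_smul]
    exact (congrArg (fun z : Γ(X, W) => z • res L hWU e) hb.symm).trans ha.symm
  choose W t hxW ht using key
  have hcov : (⊤ : X.Opens) ≤ ⨆ x, W x := fun x _ => Opens.mem_iSup.mpr ⟨x, hxW x⟩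
  obtain ⟨u, hu⟩ := exists_glue L (U := W) (V := ⊤) (fun x => le_top) hcov t fun x y => by
    refine sub_eq_zero.mp (smul_cancel f hL hϖ.ne_zero _ ?_)
    have e1 := congrArg (res L (inf_le_left : W x ⊓ W y ≤ W x)) (ht x)
    have e2 := congrArg (res L (inf_le_right : W x ⊓ W y ≤ W y)) (ht y)
    simp only [res_smul, res_res] at e1 e2
    rw [show rres (inf_le_left : W x ⊓ W y ≤ W x) (S13746.str f (W x) ϖ) = S13746.str f _ ϖ from
      S13746.res_str f (homOfLE _) ϖ] at e1
    rw [show rres (inf_le_right : W x ⊓ W y ≤ W y) (S13746.str f (W y) ϖ) = S13746.str f _ ϖ from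
      S13746.res_str f (homOfLE _) ϖ] at e2
    rw [smul_sub, e1, e2, sub_self]
  refine ⟨u, eq_of_locally_eq L (U := W) (fun x => le_top) hcov _ _ fun x => ?_⟩
  rw [res_smul, hu]
  exact (congrArg (fun z : Γ(X, W x) => z • t x) (S13746.res_str f (homOfLE le_top) ϖ)).trans (ht x)

/-- A nonzero section is not infinitely divisible by the uniformizer. -/
theorem exists_not_dvd [IsLocallyNoetherian X] (hL : PicF.IsInvertible L) {ϖ : R} (hϖ : Irreducible ϖ)
    (s : Γ(L, ⊤)) (hs : S13746.dOpen f ϖ ≤ CohB1.genLocus L (homOfSec s)) {x : X}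
    (hx : x ∉ S13746.dOpen f ϖ) :
    ∃ n : ℕ, ¬ ∃ t : Γ(L, ⊤), S13746.str f ⊤ ϖ ^ n • t = s := by
  by_contra hall
  push Not at hall
  choose t ht using hall
  obtain ⟨U, e, hxU, he⟩ := exists_isGen hL x
  obtain ⟨a, ha, -⟩ := he.exists_eq le_rfl (res L (le_top : U ≤ ⊤) s)
  rw [res_self] at ha
  let p := X.presheaf.germ U x hxU (S13746.str f U ϖ)
  have hp : p ∈ IsLocalRing.maximalIdeal (X.presheaf.stalk x) := by
    intro hu
    have h1 : x ∈ X.basicOpen (S13746.str f U ϖ) := (X.mem_basicOpen _ x hxU).mpr hu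
    rw [S13746.basicOpen_str] at h1
    exact hx h1.2
  have hmem : ∀ n, X.presheaf.germ U x hxU a ∈ IsLocalRing.maximalIdeal (X.presheaf.stalk x) ^ n := by
    intro n
    obtain ⟨b, hb, -⟩ := he.exists_eq le_rfl (res L (le_top : U ≤ ⊤) (t n))
    rw [res_self] at hb
    have h1 := congrArg (res L (le_top : U ≤ ⊤)) (ht n)
    rw [res_smul, hb, smul_smul, ha, map_pow] at h1
    rw [show rres (le_top : U ≤ ⊤) (S13746.str f ⊤ ϖ) = S13746.str f U ϖ from
      S13746.res_str f (homOfLE _) ϖ] at h1
    have h2 : S13746.str f U ϖ ^ n * b = a := he.injective le_rfl (by rwa [res_self])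
    rw [← h2, map_mul, map_pow]
    exact Ideal.mul_mem_right _ _ (Ideal.pow_mem_pow hp n)
  have h0 : X.presheaf.germ U x hxU a = 0 := by
    have h1 := (Submodule.mem_iInf _).mpr hmem
    rwa [Ideal.iInf_pow_eq_bot_of_isLocalRing _ (IsLocalRing.maximalIdeal.isMaximal _).ne_top,
      Submodule.mem_bot] at h1
  obtain ⟨W, hxW, i, i', hW⟩ := X.presheaf.germ_eq x hxU hxU a 0 (by rw [h0, map_zero])
  rw [map_zero] at hW
  have hWU : W ≤ U := i.le
  let D := W ⊓ S13746.dOpen f ϖ
  have hg := (isGen_genLocus (homOfSec s)).restrict ((inf_le_right : D ≤ _).trans hs)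
  rw [sec_res, sec_homOfSec, ← res_res L (le_top : U ≤ ⊤) ((inf_le_left : D ≤ W).trans hWU) s, ha,
    res_smul] at hg
  have hzero : rres ((inf_le_left : D ≤ W).trans hWU) a = 0 := by
    have h1 : rres (inf_le_left : D ≤ W) (rres hWU a) = 0 := by
      rw [show rres hWU a = 0 from hW, map_zero]
    rwa [rres_rres] at h1
  rw [hzero, zero_smul] at hg
  have h10 : (1 : Γ(X, D)) = 0 := hg.injective le_rfl (by simp)
  have h1W : (1 : Γ(X, W)) = 0 :=
    S13746.eq_zero_of_res f hϖ.ne_zero W 1 (inf_le_left : D ≤ W) le_rfl ((map_one _).trans h10)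
  exact one_ne_zero (α := X.presheaf.stalk x) (by
    rw [← map_one (X.presheaf.germ W x hxW).hom, h1W, map_zero])

/-- A generically trivial invertible module has a section generating it generically. -/
theorem exists_gen_section [CompactSpace X] [QuasiSeparatedSpace X] (hL : PicF.IsInvertible L)
    {ϖ : R} (hϖ : Irreducible ϖ)
    (hgen : Nonempty ((Scheme.Modules.pullback (Limits.pullback.fst f (Neron.genPt R))).obj L ≅
      Coh.structureModule (Limits.pullback f (Neron.genPt R)))) :
    ∃ s : Γ(L, ⊤), S13746.dOpen f ϖ ≤ CohB1.genLocus L (homOfSec s) := by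
  haveI := S13746.isLocalization_away ϖ hϖ
  haveI : IsOpenImmersion (Neron.genPt R) := IsOpenImmersion.of_isLocalization ϖ
  let j := Limits.pullback.fst f (Neron.genPt R)
  have hrange : j.opensRange = S13746.dOpen f ϖ := by
    apply Opens.ext
    rw [Scheme.Hom.coe_opensRange, S13746.dOpen_eq_preimage, Scheme.Pullback.range_fst]
    congr 1
    exact PrimeSpectrum.localization_away_comap_range (FractionRing R) ϖ
  obtain ⟨e₀, he₀⟩ := PerfSch.DescSec.exists_isGen_of_iso
    (((Scheme.Modules.restrictFunctorIsoPullback j).app L ≪≫ hgen.some).symm)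
  obtain ⟨e, he⟩ : ∃ e : Γ(L, S13746.dOpen f ϖ), IsGen L _ e := by
    rw [← hrange, ← Scheme.Hom.image_top_eq_opensRange]
    exact ⟨_, AmpleLib.isGen_of_restrict j he₀⟩
  haveI : L.IsQuasicoherent := ProjTwist.isQCoh_of_isInvertible hL
  obtain ⟨n, s, hs⟩ := (isLocalizingAt_of_isCompact L (U := ⊤) isCompact_univ (S13746.str f ⊤ ϖ)).surj e
  refine ⟨s, le_genLocus ?_⟩
  have h1 : sec (homOfSec s) (S13746.dOpen f ϖ) =
      rres (le_top : S13746.dOpen f ϖ ≤ ⊤) (S13746.str f ⊤ ϖ) ^ n • e := by rw [sec_homOfSec]; exact hs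
  rw [h1]
  exact he.smul_unit ((RingedSpace.isUnit_res_basicOpen _ (S13746.str f ⊤ ϖ)).pow n)


end Helpers

open Groth.Agent.QCoh Groth.Agent.Props.GenLocus TopologicalSpace in
/-- Let R be a discrete valuation ring with perfect fraction field K and residue field k, and f : X →
Spec R a nodal curve (proper, flat, locally of finite presentation, geometric fibres connected with
one-dimensional irreducible components and at most ordinary double points) whose special fibre X_k
has split singularities: every closed point of X_k either has an open neighbourhood smooth over k or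
has completed local ring isomorphic over k to k[[u,v]]/(uv). Let L be an invertible O_X-module whose
pullback to the generic fibre X_K is isomorphic to the structure sheaf. If the degree over k of the
restriction of L to every irreducible component of X_k — each taken with its reduced structure, as
an integral curve over k closed-immersed in X over Spec R — is zero, then L is isomorphic to O_X.
(The published lemma states that the multidegree of generically trivial invertible modules is
computed by the multidegree operator on Cartier vertex labellings of the labelled dual graph, and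
its proof records that this multidegree map on generically trivial invertible modules is injective;
this row is that injectivity.) -/
theorem result
    (R : Type u) [CommRing R] [IsDomain R] [IsDiscreteValuationRing R]
    [PerfectField (FractionRing R)]
    {X : Scheme.{u}} (f : X ⟶ Spec (CommRingCat.of R)) [IsProper f]
    (hf : Curv2.IsNodalFamily f)
    (hconn : ∀ (L : Type u) [Field L] (t : Spec (CommRingCat.of L) ⟶ Spec (CommRingCat.of R)),
      ConnectedSpace ↑(Limits.pullback f t))
    (hsplit : ∀ y : ↥(f.fiber (IsLocalRing.closedPoint R)), IsClosed ({y} : Set ↥(f.fiber (IsLocalRing.closedPoint R))) →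
        (∃ W : (f.fiber (IsLocalRing.closedPoint R)).Opens, y ∈ W ∧ Smooth (W.ι ≫ f.fiberToSpecResidueField (IsLocalRing.closedPoint R))) ∨
        @Curv2.IsOrdDoublePt ((Spec (CommRingCat.of R)).residueField (IsLocalRing.closedPoint R)) _ ((f.fiber (IsLocalRing.closedPoint R)).presheaf.stalk y) _ (@Curv2.stalkAlgebra ((Spec (CommRingCat.of R)).residueField (IsLocalRing.closedPoint R)) _ (f.fiber (IsLocalRing.closedPoint R)) ⟨f.fiberToSpecResidueField (IsLocalRing.closedPoint R)⟩ y) _)
    (L : X.Modules) (hL : PicF.IsInvertible L)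
    (hgen : Nonempty ((Scheme.Modules.pullback (Limits.pullback.fst f (Neron.genPt R))).obj L ≅
      Coh.structureModule (Limits.pullback f (Neron.genPt R))))
    (hdeg : ∀ Γ : ArSurf.VertComp R (Over.mk f), ArSurf.inter R (Over.mk f) L Γ = 0) :
    Nonempty (L ≅ Coh.structureModule X) := by
  haveI hflat : Flat f := hf.1
  haveI : Flat (Over.mk f).hom := hflat
  haveI : IsProper (Over.mk f).hom := ‹IsProper f›
  haveI : IsLocallyNoetherian X := LocallyOfFiniteType.isLocallyNoetherian f
  haveI : CompactSpace X := QuasiCompact.compactSpace_of_compactSpace f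
  haveI : QuasiSeparatedSpace X := quasiSeparatedSpace_of_quasiSeparated f
  obtain ⟨ϖ, hϖ⟩ := IsDiscreteValuationRing.exists_irreducible R
  let x₀ : ↥(Spec (CommRingCat.of R)) := IsLocalRing.closedPoint R
  obtain ⟨hdim, hnod⟩ := hf.2.2 x₀
  letI : (f.fiber x₀).Over (Spec ((Spec (CommRingCat.of R)).residueField x₀)) := ⟨f.fiberToSpecResidueField x₀⟩
  haveI : IsReduced (f.fiber x₀) := by
    haveI : LocallyOfFiniteType
        (f.fiber x₀ ↘ Spec (CommRingCat.of ((Spec (CommRingCat.of R)).residueField x₀))) :=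
      MorphismProperty.pullback_snd f _ inferInstance
    haveI := (S1589.result ((Spec (CommRingCat.of R)).residueField x₀) (f.fiber x₀) hdim hnod).2
    haveI : Flat (f.fiber x₀ ↘ Spec (CommRingCat.of ((Spec (CommRingCat.of R)).residueField x₀))) :=
      MorphismProperty.pullback_snd f _ hflat
    exact GeometricallyReduced.isReduced_of_flat_of_isLocallyNoetherian
      (f.fiber x₀ ↘ Spec (CommRingCat.of ((Spec (CommRingCat.of R)).residueField x₀)))
  haveI : ConnectedSpace (f.fiber x₀) :=
    hconn ((Spec (CommRingCat.of R)).residueField x₀) ((Spec (CommRingCat.of R)).fromSpecResidueField x₀)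
  -- a section generating generically, not divisible by the uniformizer
  obtain ⟨s₀, hs₀⟩ := exists_gen_section f hL hϖ hgen
  obtain ⟨y₀⟩ := (inferInstance : Nonempty (f.fiber x₀))
  have hnotD : ∀ y : f.fiber x₀, f.fiberι x₀ y ∉ S13746.dOpen f ϖ := fun y hy => by
    have h1 : f.fiberι x₀ y ∈ (S13746.dOpen f ϖ : Set X) := hy
    have h2 : f.fiberι x₀ y ∈ f.base ⁻¹' {x₀} := by rw [← Scheme.Hom.range_fiberι]; exact ⟨y, rfl⟩
    rw [S13746.dOpen_eq_preimage, Set.mem_preimage, show f.base (f.fiberι x₀ y) = x₀ from h2] at h1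
    exact h1 ((IsLocalRing.mem_maximalIdeal _).mpr hϖ.not_isUnit)
  classical
  obtain ⟨N, hN⟩ := exists_not_dvd f hL hϖ s₀ hs₀ (hnotD y₀)
  have hN0 : Nat.find (⟨N, hN⟩ : ∃ n : ℕ, ¬ ∃ t : Γ(L, ⊤), S13746.str f ⊤ ϖ ^ n • t = s₀) ≠ 0 := fun h0 => by
    have := Nat.find_spec (⟨N, hN⟩ : ∃ n : ℕ, ¬ ∃ t : Γ(L, ⊤), S13746.str f ⊤ ϖ ^ n • t = s₀)
    rw [h0] at this
    exact this ⟨s₀, by simp⟩
  obtain ⟨n, hn⟩ := Nat.exists_eq_succ_of_ne_zero hN0
  obtain ⟨s, hsn⟩ : ∃ t : Γ(L, ⊤), S13746.str f ⊤ ϖ ^ n • t = s₀ :=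
    not_not.mp (Nat.find_min (⟨N, hN⟩ : ∃ n : ℕ, ¬ ∃ t : Γ(L, ⊤), S13746.str f ⊤ ϖ ^ n • t = s₀)
      (by omega : n < _))
  have hD : S13746.dOpen f ϖ ≤ CohB1.genLocus L (homOfSec s) := by
    refine hs₀.trans ?_
    rw [← hsn]
    exact genLocus_le_of_smul hL _ s
  have hnd : ¬ CohB1.genLocus L (homOfSec s) ≤ S13746.dOpen f ϖ := fun hle => by
    obtain ⟨t, ht⟩ := exists_smul_eq f hL hϖ s hle
    have hsucc := Nat.find_spec (⟨N, hN⟩ : ∃ n : ℕ, ¬ ∃ t : Γ(L, ⊤), S13746.str f ⊤ ϖ ^ n • t = s₀)
    rw [hn] at hsucc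
    exact hsucc ⟨t, by rw [pow_succ, mul_smul, ht, hsn]⟩
  set φ := homOfSec s
  -- on every component the section generates everywhere or nowhere
  have hcomp : ∀ Z ∈ irreducibleComponents (f.fiber x₀ : Type u),
      Z ⊆ (f.fiberι x₀ ⁻¹ᵁ CohB1.genLocus L φ : Set (f.fiber x₀)) ∨
      ∀ z ∈ Z, z ∉ (f.fiberι x₀ ⁻¹ᵁ CohB1.genLocus L φ : Set (f.fiber x₀)) := by
    intro Z hZ
    have hemb : Topology.IsClosedEmbedding (f.fiberι x₀).base :=
      ⟨(f.fiberι x₀).isEmbedding, by
        rw [Scheme.Hom.range_fiberι]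
        exact (IsLocalRing.isClosed_singleton_closedPoint R).preimage f.continuous⟩
    obtain ⟨Γ, hΓ⟩ := exists_vertComp (Over.mk f) ((f.fiberι x₀).base '' Z)
      (hemb.isClosedMap _ (isClosed_of_mem_irreducibleComponents _ hZ))
      (hZ.1.image _ hemb.continuous.continuousOn)
      (by
        rintro _ ⟨z, -, rfl⟩
        show f.fiberι x₀ z ∈ f.base ⁻¹' {x₀}
        rw [← Scheme.Hom.range_fiberι]
        exact ⟨z, rfl⟩)
      ((hemb.isEmbedding.homeomorphImage Z).isHomeomorph.topologicalKrullDim_eq _ ▸ hdim Z hZ)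
    let e := (QCoh.pullbackUnitIso Γ.ι).symm
    have hgl : CohB1.genLocus ((Scheme.Modules.pullback Γ.ι).obj L) (e.hom ≫ (Scheme.Modules.pullback Γ.ι).map φ) =
        Γ.ι ⁻¹ᵁ CohB1.genLocus L φ := S4413.result Γ.ι L hL φ e
    by_cases hψ : e.hom ≫ (Scheme.Modules.pullback Γ.ι).map φ = 0
    · right
      intro z hz hzg
      obtain ⟨c, hc⟩ : (f.fiberι x₀).base z ∈ Set.range Γ.ι.base := hΓ ▸ ⟨z, hz, rfl⟩
      have hc' : c ∈ CohB1.genLocus ((Scheme.Modules.pullback Γ.ι).obj L) (e.hom ≫ (Scheme.Modules.pullback Γ.ι).map φ) := by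
        rw [hgl]
        show Γ.ι.base c ∈ CohB1.genLocus L φ
        rw [hc]
        exact hzg
      obtain ⟨W, hcW, hW⟩ := (mem_genLocus_iff _ c).mp hc'
      rw [hψ] at hW
      have h10 : (1 : Γ(Γ.curve.left, W)) = 0 := hW.injective le_rfl (by simp [sec])
      exact one_ne_zero (α := Γ.curve.left.presheaf.stalk c) (by
        rw [← map_one (Γ.curve.left.presheaf.germ W c hcW).hom, h10, map_zero])
    · left
      intro z hz
      obtain ⟨c, hc⟩ : (f.fiberι x₀).base z ∈ Set.range Γ.ι.base := hΓ ▸ ⟨z, hz, rfl⟩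
      have h0 := hdeg Γ
      rw [VertInter.inter_eq_deg, Curv2.deg] at h0
      push_cast at h0
      haveI := (EulerChar.euler_le_of_ne_zero (PicLoc.isInvertible_structureModule Γ.curve.left)
        (VertInter.pullback_invertible (X := Over.mk f) Γ hL) _ hψ (IsLocalRing.ResidueField R) Γ.dim_eq).2
        (by linarith)
      have hc' : c ∈ CohB1.genLocus ((Scheme.Modules.pullback Γ.ι).obj L) (e.hom ≫ (Scheme.Modules.pullback Γ.ι).map φ) :=
        (mem_genLocus_iff _ c).mpr ⟨⊤, trivial, (isIso_restrict_iff _ ⊤).mp inferInstance⟩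
      rw [hgl] at hc'
      have hc'' : Γ.ι.base c ∈ CohB1.genLocus L φ := hc'
      rw [hc] at hc''
      exact hc''
  -- so it generates everywhere
  have hall : ∀ y : f.fiber x₀, f.fiberι x₀ y ∈ CohB1.genLocus L φ := by
    haveI : IsLocallyNoetherian (f.fiber x₀) := LocallyOfFiniteType.isLocallyNoetherian
      (f.fiberToSpecResidueField x₀)
    haveI : CompactSpace (f.fiber x₀) := inferInstance
    haveI : IsNoetherian (f.fiber x₀) := {}
    set G : Set (f.fiber x₀) := (f.fiberι x₀ ⁻¹ᵁ CohB1.genLocus L φ : Set (f.fiber x₀))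
    have hGc : IsClosed G := by
      have : G = ⋃ Z ∈ {Z ∈ irreducibleComponents (f.fiber x₀ : Type u) | Z ⊆ G}, Z := by
        refine Set.Subset.antisymm (fun y hy => ?_) (Set.iUnion₂_subset fun Z hZ => hZ.2)
        refine Set.mem_iUnion₂.mpr ⟨irreducibleComponent y, ⟨irreducibleComponent_mem_irreducibleComponents y, ?_⟩,
          mem_irreducibleComponent⟩
        exact (hcomp _ (irreducibleComponent_mem_irreducibleComponents y)).resolve_right
          fun h => h y mem_irreducibleComponent hy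
      rw [this]
      exact (TopologicalSpace.NoetherianSpace.finite_irreducibleComponents.subset fun Z hZ => hZ.1).isClosed_biUnion
        fun Z hZ => isClosed_of_mem_irreducibleComponents _ hZ.1
    have hne : G.Nonempty := by
      by_contra hne
      refine hnd fun x hx => ?_
      by_contra hxD
      have hxs : f.base x = x₀ := by
        by_contra hne'
        refine hxD ?_
        show x ∈ (S13746.dOpen f ϖ : Set X)
        rw [S13746.dOpen_eq_preimage]
        show ϖ ∉ (f.base x).asIdeal
        intro hmem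
        refine hne' (PrimeSpectrum.ext ?_)
        exact ((IsLocalRing.maximalIdeal.isMaximal R).eq_of_le (f.base x).isPrime.ne_top
          (hϖ.maximalIdeal_eq ▸ (Ideal.span_singleton_le_iff_mem _).mpr hmem)).symm
      obtain ⟨y, rfl⟩ : x ∈ Set.range (f.fiberι x₀).base := by
        rw [Scheme.Hom.range_fiberι]; exact hxs
      exact hne ⟨y, hx⟩
    have := (IsClopen.eq_univ ⟨hGc, (f.fiberι x₀ ⁻¹ᵁ CohB1.genLocus L φ).isOpen⟩ hne)
    exact fun y => (this ▸ Set.mem_univ y : y ∈ G)
  have htop : (⊤ : X.Opens) ≤ CohB1.genLocus L φ := fun x _ => by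
    by_cases hxD : x ∈ S13746.dOpen f ϖ
    · exact hD hxD
    · have hxs : f.base x = x₀ := by
        by_contra hne'
        refine hxD ?_
        show x ∈ (S13746.dOpen f ϖ : Set X)
        rw [S13746.dOpen_eq_preimage]
        show ϖ ∉ (f.base x).asIdeal
        intro hmem
        refine hne' (PrimeSpectrum.ext ?_)
        exact ((IsLocalRing.maximalIdeal.isMaximal R).eq_of_le (f.base x).isPrime.ne_top
          (hϖ.maximalIdeal_eq ▸ (Ideal.span_singleton_le_iff_mem _).mpr hmem)).symm
      obtain ⟨y, rfl⟩ : x ∈ Set.range (f.fiberι x₀).base := by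
        rw [Scheme.Hom.range_fiberι]; exact hxs
      exact hall y
  have hg := (isGen_genLocus φ).restrict htop
  rw [sec_res] at hg
  exact ⟨(PerfSch.DescSec.nonempty_iso_of_isGen (σ := s) (by
    rwa [sec_homOfSec, res_self] at hg)).some.symm⟩

end Groth.Agent.S14399
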