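import Groth.Statements.S14400
import Mathlib.AlgebraicGeometry.Morphisms.Etale
import Mathlib.AlgebraicGeometry.Morphisms.FlatMono
import Mathlib.AlgebraicGeometry.Sites.Fpqc
import Mathlib.RingTheory.Etale.Field
import Mathlib.FieldTheory.Galois.Basic

set_option autoImplicit false
universe u
open CategoryTheory CategoryTheory.Limits AlgebraicGeometry
open Desc

namespace Groth.Agent.S14400

lemma galAct_fst (k : Type u) [Field k] (X : Scheme.{u}) [X.Over (Spec (CommRingCat.of k))]
    (K : Type u) [Field K] [Algebra k K] (σ : K ≃ₐ[k] K) :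
    Curv2.galAct k X K σ ≫ Curv2.bcFst k X K = Curv2.bcFst k X K := by
  exact (pullback.lift_fst _ _ _).trans (Category.comp_id _)

lemma galAct_snd (k : Type u) [Field k] (X : Scheme.{u}) [X.Over (Spec (CommRingCat.of k))]
    (K : Type u) [Field K] [Algebra k K] (σ : K ≃ₐ[k] K) :
    Curv2.galAct k X K σ ≫ Curv2.bcSnd k X K =
      Curv2.bcSnd k X K ≫ Spec.map (CommRingCat.ofHom (σ : K →ₐ[k] K).toRingHom) := by
  exact pullback.lift_snd _ _ _


/-- Let K/k be a finite Galois extension of fields, X and Y schemes over k with base changes X_K and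
Y_K, and g : X_K ⟶ Y_K a morphism over Spec K. Then g is the base change of a k-morphism f : X ⟶ Y
(that is, g followed by the projection Y_K ⟶ Y is the projection X_K ⟶ X followed by f) if and only
if g commutes with the action of every k-automorphism σ of K on X_K and on Y_K (the identity on X,
resp. Y, and Spec σ on the factor Spec K). In other words the image of the k-morphisms X ⟶ Y among
the K-morphisms X_K ⟶ Y_K is exactly the set of Galois-invariant ones. -/
theorem result (k : Type u) [Field k] (K : Type u) [Field K]
    [Algebra k K] [FiniteDimensional k K] [IsGalois k K]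
    (X Y : Scheme.{u}) [X.Over (Spec (CommRingCat.of k))] [Y.Over (Spec (CommRingCat.of k))]
    (g : Curv2.bc k X K ⟶ Curv2.bc k Y K) (hg : g ≫ Curv2.bcSnd k Y K = Curv2.bcSnd k X K) :
    (∃ f : X ⟶ Y, f ≫ (Y ↘ Spec (CommRingCat.of k)) = X ↘ Spec (CommRingCat.of k) ∧
        g ≫ Curv2.bcFst k Y K = Curv2.bcFst k X K ≫ f) ↔
      ∀ σ : K ≃ₐ[k] K, Curv2.galAct k X K σ ≫ g = g ≫ Curv2.galAct k Y K σ := by
  set s := Spec.map (CommRingCat.ofHom (algebraMap k K)) with hs
  set p := Curv2.bcFst k X K with hp
  constructor
  · rintro ⟨f, hf, hgf⟩ σ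
    apply pullback.hom_ext
    · change (_ ≫ g) ≫ Curv2.bcFst k Y K = (_ ≫ Curv2.galAct k Y K σ) ≫ Curv2.bcFst k Y K
      rw [Category.assoc, Category.assoc, galAct_fst, hgf, ← Category.assoc, galAct_fst]
    · change (_ ≫ g) ≫ Curv2.bcSnd k Y K = (_ ≫ Curv2.galAct k Y K σ) ≫ Curv2.bcSnd k Y K
      rw [Category.assoc, Category.assoc, hg, galAct_snd, galAct_snd, ← Category.assoc g, hg]
  · intro hσ
    haveI : Algebra.FormallyEtale k K := Algebra.FormallyEtale.of_isSeparable k K
    haveI : Algebra.Etale k K := ⟨inferInstance, Algebra.FinitePresentation.of_finiteType.mp inferInstance⟩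
    haveI : Etale s := (HasRingHomProperty.Spec_iff (P := @Etale)).mpr
      ((RingHom.etale_algebraMap).mpr inferInstance)
    haveI : Etale p := inferInstanceAs (Etale (pullback.fst _ s))
    haveI : Surjective s := ⟨fun x => ⟨(inferInstance : Nonempty (PrimeSpectrum K)).some,
      Subsingleton.elim (α := PrimeSpectrum k) _ _⟩⟩
    haveI : IsAffineHom s := inferInstance
    haveI : Surjective p := inferInstanceAs (Surjective (pullback.fst _ s))
    haveI : QuasiCompact p := inferInstanceAs (QuasiCompact (pullback.fst _ s))
    haveI : EffectiveEpi p := inferInstance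
    set h := g ≫ Curv2.bcFst k Y K with hh
    have hinv : ∀ σ : K ≃ₐ[k] K, Curv2.galAct k X K σ ≫ h = h := fun σ => by
      rw [hh, ← Category.assoc, hσ σ, Category.assoc, galAct_fst]
    have key : pullback.fst p p ≫ h = pullback.snd p p ≫ h := by
      let j : (K ≃ₐ[k] K) → (Curv2.bc k X K ⟶ pullback p p) := fun σ =>
        pullback.lift (𝟙 _) (Curv2.galAct k X K σ) (by rw [Category.id_comp, galAct_fst])
      have hj : ∀ σ, IsOpenImmersion (j σ) := fun σ => by
        haveI : Etale (j σ ≫ pullback.fst p p) := by rw [pullback.lift_fst]; infer_instance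
        haveI : Etale (j σ) := Etale.of_comp (j σ) (pullback.fst p p)
        haveI : Mono (j σ) := mono_of_mono_fac (pullback.lift_fst (W := Curv2.bc k X K) _ _ _)
        exact IsOpenImmersion.of_flat_of_mono (j σ)
      have hcov : ∀ t, ∃ σ x, j σ x = t := fun t => by
        let F := (pullback p p).residueField t
        let τ := (pullback p p).fromSpecResidueField t
        obtain ⟨α, hα⟩ := Spec.map_surjective (τ ≫ pullback.fst p p ≫ Curv2.bcSnd k X K)
        obtain ⟨β, hβ⟩ := Spec.map_surjective (τ ≫ pullback.snd p p ≫ Curv2.bcSnd k X K)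
        have hab : CommRingCat.ofHom (algebraMap k K) ≫ α = CommRingCat.ofHom (algebraMap k K) ≫ β := by
          apply Spec.map_injective
          rw [Spec.map_comp, Spec.map_comp, hα, hβ, Category.assoc, Category.assoc, Category.assoc,
            Category.assoc, Curv2.bcSnd, ← pullback.condition]
          exact congrArg (τ ≫ ·) (pullback.condition_assoc _)
        letI : Algebra k F := (α.hom.comp (algebraMap k K)).toAlgebra
        let a : K →ₐ[k] F := { α.hom with commutes' := fun r => rfl }
        let b : K →ₐ[k] F := { β.hom with commutes' := fun r => (ConcreteCategory.congr_hom hab r).symm }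
        have hr : ∀ x : K, ∃ y, a y = b x := fun x => by
          have hm : b x ∈ (minpoly k x).rootSet F := by
            rw [Polynomial.mem_rootSet_of_ne (minpoly.ne_zero (Algebra.IsIntegral.isIntegral x))]
            rw [Polynomial.aeval_algHom_apply, minpoly.aeval, map_zero]
          rw [← (Normal.splits inferInstance x).image_rootSet a] at hm
          obtain ⟨y, -, hy⟩ := hm
          exact ⟨y, hy⟩
        have hinj : Function.Injective a := a.toRingHom.injective
        choose y hy using hr
        let σ₀ : K →ₐ[k] K :=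
          { toFun := y
            map_one' := hinj (by rw [hy, map_one, map_one])
            map_mul' := fun u v => hinj (by rw [hy, map_mul, map_mul, hy, hy])
            map_zero' := hinj (by rw [hy, map_zero, map_zero])
            map_add' := fun u v => hinj (by rw [hy, map_add, map_add, hy, hy])
            commutes' := fun r => hinj (by rw [hy, b.commutes, a.commutes]) }
        let σ : K ≃ₐ[k] K := AlgEquiv.ofBijective σ₀ (Algebra.IsAlgebraic.algHom_bijective σ₀)
        have hσab : CommRingCat.ofHom (σ : K →ₐ[k] K).toRingHom ≫ α = β := by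
          ext u
          exact hy u
        have hfac : (τ ≫ pullback.fst p p) ≫ j σ = τ := by
          apply pullback.hom_ext
          · rw [Category.assoc, pullback.lift_fst, Category.comp_id]
          · rw [Category.assoc, pullback.lift_snd]
            apply pullback.hom_ext
            · change (_ ≫ _) ≫ p = (τ ≫ pullback.snd p p) ≫ p
              rw [Category.assoc, galAct_fst, Category.assoc, Category.assoc, pullback.condition]
            · change (_ ≫ _) ≫ Curv2.bcSnd k X K = (τ ≫ pullback.snd p p) ≫ Curv2.bcSnd k X K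
              rw [Category.assoc, galAct_snd, ← Category.assoc _ (Curv2.bcSnd k X K), Category.assoc τ, ← hα,
                Category.assoc τ (pullback.snd p p), ← hβ, ← Spec.map_comp, hσab]
        refine ⟨σ, (τ ≫ pullback.fst p p) (IsLocalRing.closedPoint F), ?_⟩
        rw [← Scheme.Hom.comp_apply, hfac]
        exact Scheme.fromSpecResidueField_apply _ _
      let 𝒰 : (pullback p p).OpenCover := Scheme.Cover.mkOfCovers (K ≃ₐ[k] K)
        (fun _ => Curv2.bc k X K) j hcov hj
      refine Scheme.Cover.hom_ext 𝒰 _ _ fun σ => ?_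
      change j σ ≫ _ = j σ ≫ _
      rw [pullback.lift_fst_assoc, pullback.lift_snd_assoc, Category.id_comp, hinv]
    have hd : ∀ {Z : Scheme.{u}} (g₁ g₂ : Z ⟶ Curv2.bc k X K), g₁ ≫ p = g₂ ≫ p → g₁ ≫ h = g₂ ≫ h :=
      fun g₁ g₂ e => by
        rw [← pullback.lift_fst (f := p) (g := p) g₁ g₂ e, Category.assoc, key, pullback.lift_snd_assoc]
    refine ⟨EffectiveEpi.desc p h hd, ?_, (EffectiveEpi.fac p h hd).symm⟩
    rw [← cancel_epi p, EffectiveEpi.fac_assoc, hh, Category.assoc, hp, Curv2.bcFst, Curv2.bcFst,
      pullback.condition, pullback.condition, ← Category.assoc]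
    exact congrArg (· ≫ s) hg


end Groth.Agent.S14400
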