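import Groth.Statements.S14404
import Groth.Agent.FlatOpen.EquiDim

set_option autoImplicit false
set_option linter.style.haveILetI false
universe u
open CategoryTheory AlgebraicGeometry
open FlatMor

namespace Groth.Agent.S14404

/-- Let k be a field, X and Y irreducible schemes of finite type over k and f : X ⟶ Y a flat k-morphism.
Then dim Y ≤ dim X, and for every point y of Y every irreducible component Z of the scheme-theoretic
fibre of f over y has dim Z + dim Y = dim X; that is, every non-empty fibre has all its irreducible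
components of dimension dim X − dim Y. -/
theorem result (k : Type u) [Field k]
    {X Y : Scheme.{u}} (qX : X ⟶ Spec (CommRingCat.of k)) (qY : Y ⟶ Spec (CommRingCat.of k))
    [LocallyOfFiniteType qX] [QuasiCompact qX] [LocallyOfFiniteType qY] [QuasiCompact qY]
    [IrreducibleSpace X] [IrreducibleSpace Y] (f : X ⟶ Y) (hf : f ≫ qY = qX) [Flat f] :
    topologicalKrullDim Y ≤ topologicalKrullDim X ∧
      ∀ (y : Y), ∀ Z ∈ irreducibleComponents (f.fiber y : Type u),
        topologicalKrullDim Z + topologicalKrullDim Y = topologicalKrullDim X := by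
  letI : X.Over (Spec (CommRingCat.of k)) := ⟨qX⟩
  letI : Y.Over (Spec (CommRingCat.of k)) := ⟨qY⟩
  haveI : LocallyOfFiniteType (X ↘ Spec (CommRingCat.of k)) := ‹LocallyOfFiniteType qX›
  haveI : LocallyOfFiniteType (Y ↘ Spec (CommRingCat.of k)) := ‹LocallyOfFiniteType qY›
  have hY : ∀ y : Y, FlatOpen.EquiDim.Max y → VarDim.dimPt k Y y = VarDim.dimPt k Y (genericPoint Y) :=
    fun y hy => by rw [hy _ (genericPoint_specializes y)]
  have hX : ∀ x : X, FlatOpen.EquiDim.Max x → x = genericPoint X :=
    fun x hx => (hx _ (genericPoint_specializes x)).symm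
  have hη : FlatOpen.EquiDim.Max (genericPoint X) := fun z hz =>
    ((genericPoint_specializes z).antisymm hz).eq.symm
  haveI : LocallyOfFiniteType f := by
    haveI : LocallyOfFiniteType (f ≫ qY) := by rw [hf]; infer_instance
    exact locallyOfFiniteType_of_comp f qY
  obtain ⟨j, -, hj⟩ := CycLib.deltaCompat_fdelta k f qX qY hf (genericPoint X)
  have hj' : VarDim.dimPt k X (genericPoint X) = VarDim.dimPt k Y (genericPoint Y) + j := by
    rw [← hY _ (FlatOpen.EquiDim.max_image f hη)]
    have hj'' : ((VarDim.dimPt k X (genericPoint X) : ℕ) : ℤ) =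
        (VarDim.dimPt k Y (f (genericPoint X)) : ℕ) + (j : ℕ) := hj
    exact_mod_cast hj''
  have h := (FlatOpen.EquiDim.dimPt_iff_hasRelDim k qX qY f hf _ j hY).1
    (fun x hx => by rw [hX x hx, hj'])
  rw [VarDim.topologicalKrullDim_eq_of_irreducible k (X := X),
    VarDim.topologicalKrullDim_eq_of_irreducible k (X := Y), hj']
  refine ⟨by exact_mod_cast Nat.le_add_right _ j, fun y Z hZ => ?_⟩
  rw [h y Z hZ, Nat.cast_add, add_comm]

end Groth.Agent.S14404
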