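import Groth.Statements.S14408
import Groth.Agent.ProjTwist.Pn.TopCohom
import Groth.Agent.S0022

open Groth.Agent Groth.Agent.ProjTwist Groth.Agent.ProjTwist.Pn TopologicalSpace

set_option autoImplicit false
universe u
open CategoryTheory CategoryTheory.Limits AlgebraicGeometry
open HilbNum

namespace Groth.Agent.S14408

/-- Let k be an algebraically closed field, n a positive integer, F a nonzero coherent O-module on
projective n-space P over k (quasi-coherent of finite type), and P_F a polynomial with rational
coefficients such that P_F(m) = χ(F(m)) = Σ_{j ≤ n} (-1)^j dim_k H^j(P, F ⊗ O(m)) for every integer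
m. Then the degree of P_F equals the dimension of the support of F (the closed set of points where
the stalk of F is nonzero, with the subspace topology). The existence of such a polynomial is not
part of this statement; it enters through the hypothesis on P_F. -/
theorem result (k : Type u) [Field k] [IsAlgClosed k] (n : ℕ) (hn : 0 < n)
    (F : (CohB1.ProjSpace n k).Modules) (hF : Coh.IsCoh F) (hF0 : ¬ IsZero F) (P : Polynomial ℚ)
    (hP : ∀ m : ℤ,
      ((Finset.range (n + 1)).sum fun j => (-1 : ℚ) ^ j *
        (Module.finrank k (Coh.HH (CohB1.ProjSpace n k) (CohB1.tensorMod F (Twist.twistProjSpace n k m)) j) : ℚ)) =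
      P.eval (m : ℚ)) :
    topologicalKrullDim ↥(CohB1.support F) = (P.natDegree : WithBot ℕ∞) := by
  have : IsProper (CohB1.ProjSpace n k ↘ Spec (CommRingCat.of k)) := ProjProper.Basic.isProper_toSpec n k
  haveI := EulerChar.isNoetherian k (X := CohB1.ProjSpace n k)
  -- the dimension of the support is a natural number
  obtain ⟨D, hD⟩ := HilbPolyX.exists_dim_le k (CohB1.ProjSpace n k)
  obtain ⟨d, hd⟩ : ∃ d : ℕ, topologicalKrullDim ↥(CohB1.support F) = (d : WithBot ℕ∞) := by
    have hle := EulerChar.dim_support_le (G := F) hD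
    have hne : CohB1.support F ≠ ∅ := fun h => hF0 (CohDev.isZero_of_support_eq_empty h)
    haveI : Nonempty ↥(CohB1.support F) := (Set.nonempty_iff_ne_empty.2 hne).to_subtype
    have h0 : (0 : WithBot ℕ∞) ≤ topologicalKrullDim ↥(CohB1.support F) := by
      haveI : Nonempty (IrreducibleCloseds ↥(CohB1.support F)) :=
        ⟨⟨closure {Classical.arbitrary _}, isIrreducible_singleton.closure, isClosed_closure⟩⟩
      exact Order.krullDim_nonneg
    revert hle h0
    cases topologicalKrullDim ↥(CohB1.support F) with
    | bot => simp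
    | coe a =>
      intro hle _
      have : a ≤ (D : ℕ∞) := WithBot.coe_le_coe.1 hle
      obtain ⟨d, rfl⟩ := ENat.ne_top_iff_exists.1 (ne_top_of_le_ne_top (ENat.coe_ne_top D) this)
      exact ⟨d, rfl⟩
  obtain ⟨Q, hQ⟩ := HilbPolyX.exists_hilbPoly k isAmple_one.1 hF
  have hlead := HilbPolyX.coeff_pos k isAmple_one d hF hQ hd
  have hdeg : Q.natDegree = d :=
    le_antisymm (HilbPolyX.natDegree_le k isAmple_one.1 hF hQ hd.le)
      (Polynomial.le_natDegree_of_ne_zero hlead.ne')
  have hPQ : P = Q := by
    refine HilbPolyX.poly_ext fun m => ?_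
    have hvan : ∀ i, n + 1 ≤ i → Subsingleton (Coh.HH (CohB1.ProjSpace n k) (twF F (m : ℤ)) i) := fun i hi =>
      haveI := (isCoh_tw hF (m : ℤ)).1
      S0022.result n k _ i hi
    have h := hP (m : ℤ)
    rw [Int.cast_natCast] at h
    rw [← h, ← chi_eq_hilb hQ, chi, EulerChar.euler_eq_sum k hvan]
    push_cast
    rfl
  rw [hd, hPQ, hdeg]

end Groth.Agent.S14408
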