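import Groth.Statements.S14413
import Mathlib
-- import your own Groth.Agent.* helpers here

set_option autoImplicit false
universe u
open CategoryTheory CategoryTheory.Limits
open CAlg

namespace Groth.Agent.S14413

theorem exists_resolution_of_le {R : Type u} [CommRing R] : ∀ (d : ℕ) (M : ModuleCat.{u} R), HasProjectiveDimensionLE M d →
    ∃ P : ProjectiveResolution M, ∀ i : ℕ, d < i → IsZero (P.complex.X i) := by
  intro d
  induction d with
  | zero =>
    intro M h
    haveI : Projective M := (projective_iff_hasProjectiveDimensionLE_zero M).2 h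
    exact ⟨ProjectiveResolution.self M, fun i hi ↦ HomologicalComplex.isZero_single_obj_X _ _ _ _ (by omega)⟩
  | succ d ih =>
    intro M h
    let F := Projective.over M
    let g : F ⟶ M := Projective.π M
    let S : ShortComplex (ModuleCat.{u} R) := ShortComplex.mk (kernel.ι g) g (kernel.condition g)
    have hS : S.ShortExact :=
      { exact := ShortComplex.exact_of_f_is_kernel _ (kernelIsKernel g) }
    haveI : Projective S.X₂ := inferInstanceAs (Projective F)
    have hK : HasProjectiveDimensionLE S.X₁ d :=
      hS.hasProjectiveDimensionLT_X₁ (d + 1) (hasProjectiveDimensionLT_of_ge _ 1 (d + 1) (by omega)) h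
    obtain ⟨P, hP⟩ := ih _ hK
    let aug : P.complex.X 0 ⟶ F := P.π.f 0 ≫ S.f
    have w : P.complex.d 1 0 ≫ aug = 0 := by
      exact (Category.assoc _ _ _).symm.trans ((congrArg (· ≫ S.f) P.complex_d_comp_π_f_zero).trans zero_comp)
    let C := P.complex.augment aug w
    have hw : C.d 1 0 ≫ g = 0 := by
      show aug ≫ g = 0
      exact (Category.assoc _ _ _).trans ((congrArg (P.π.f 0 ≫ ·) S.zero).trans comp_zero)
    let π : C ⟶ (ChainComplex.single₀ (ModuleCat.{u} R)).obj M := (ChainComplex.toSingle₀Equiv C M).symm ⟨g, hw⟩
    have hinj : Function.Injective S.f.hom := hS.moduleCat_injective_f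
    have hsur : Function.Surjective (P.π.f 0).hom := (ModuleCat.epi_iff_surjective _).1 inferInstance
    have hexS := (ShortComplex.ShortExact.moduleCat_exact_iff_function_exact _).1 hS.exact
    have hq : QuasiIso π := ⟨fun n => by
      cases n with
      | zero =>
        rw [ChainComplex.quasiIsoAt₀_iff, ShortComplex.quasiIso_iff_of_zeros']
        · have hτ : ((HomologicalComplex.shortComplexFunctor' _ (ComplexShape.down ℕ) 1 0 0).map π).τ₂ = g :=
            ChainComplex.toSingle₀Equiv_symm_apply_f_zero _ _
          refine ⟨?_, ?_⟩
          · refine (ShortComplex.exact_iff_of_iso (S₂ := ShortComplex.mk (C.d 1 0) g hw)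
              (ShortComplex.isoMk (Iso.refl (C.X 1)) (Iso.refl (C.X 0)) (Iso.refl M) ?_ ?_)).2 ?_
            · exact (Category.id_comp _).trans (Category.comp_id _).symm
            · exact (Category.id_comp _).trans (hτ.symm.trans (Category.comp_id _).symm)
            rw [ShortComplex.moduleCat_exact_iff]
            intro x hx
            obtain ⟨z, hz⟩ := (hexS x).1 hx
            obtain ⟨p, rfl⟩ := hsur z
            exact ⟨p, hz⟩
          · rw [hτ]; exact hS.epi_g
        all_goals rfl
      | succ n =>
        rw [quasiIsoAt_iff_exactAt']
        · rw [C.exactAt_iff' (n + 2) (n + 1) n (by simp) (by simp), ShortComplex.moduleCat_exact_iff]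
          intro x hx
          cases n with
          | zero =>
            change S.f.hom ((P.π.f 0).hom x) = 0 at hx
            have hx' : (P.π.f 0).hom x = 0 := hinj (hx.trans (map_zero _).symm)
            have hex : (ShortComplex.mk _ _ P.complex_d_comp_π_f_zero).Exact :=
              ShortComplex.exact_of_g_is_cokernel _ P.isColimitCokernelCofork
            exact ((ShortComplex.moduleCat_exact_iff _).1 hex) x hx'
          | succ n =>
            exact ((ShortComplex.moduleCat_exact_iff _).1 (P.exact_succ n)) x hx
        · exact ChainComplex.exactAt_succ_single_obj _ _⟩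
    refine ⟨{ complex := C, projective := ?_, π := π, quasiIso := hq }, ?_⟩
    · intro n; cases n with
      | zero => exact inferInstanceAs (Projective F)
      | succ n => exact inferInstanceAs (Projective (P.complex.X n))
    · intro i hi
      cases i with
      | zero => omega
      | succ i => exact hP i (by omega)

theorem le_of_resolution {R : Type u} [CommRing R] {M : ModuleCat.{u} R} (P : ProjectiveResolution M) (d : ℕ)
    (hP : ∀ i : ℕ, d < i → IsZero (P.complex.X i)) : HasProjectiveDimensionLE M d := by
  let K := fun n : ℕ ↦ ModuleCat.of R (LinearMap.range (P.complex.d (n + 1) n).hom)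
  have key : ∀ j n, n + j = d → HasProjectiveDimensionLT (K n) j := by
    intro j
    induction j with
    | zero =>
      intro n hn
      rw [hasProjectiveDimensionLT_zero_iff_isZero]
      have : Subsingleton (LinearMap.range (P.complex.d (n + 1) n).hom) := by
        have := ModuleCat.subsingleton_of_isZero (hP (n + 1) (by omega))
        constructor
        rintro ⟨_, a, rfl⟩ ⟨_, b, rfl⟩
        exact Subtype.ext (congrArg (P.complex.d (n + 1) n).hom (Subsingleton.elim a b))
      exact ModuleCat.isZero_of_subsingleton (K n)
    | succ j ih =>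
      intro n hn
      let S : ShortComplex (ModuleCat.{u} R) := ShortComplex.mk
        (ModuleCat.ofHom (LinearMap.range (P.complex.d (n + 1 + 1) (n + 1)).hom).subtype)
        (ModuleCat.ofHom (P.complex.d (n + 1) n).hom.rangeRestrict)
        (ModuleCat.hom_ext (LinearMap.ext fun v ↦ by
          obtain ⟨a, ha⟩ := v.2
          refine Subtype.ext ?_
          show (P.complex.d (n + 1) n).hom v.1 = 0
          rw [← ha, ← LinearMap.comp_apply, ← ModuleCat.hom_comp, P.complex.d_comp_d]; rfl))
      have hS : S.ShortExact :=
        { exact := (ShortComplex.moduleCat_exact_iff _).2 fun v hv ↦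
            ⟨⟨v, ((ShortComplex.moduleCat_exact_iff _).1 (P.exact_succ n)) v (congrArg Subtype.val hv)⟩, rfl⟩
          mono_f := (ModuleCat.mono_iff_injective _).2 Subtype.val_injective
          epi_g := (ModuleCat.epi_iff_surjective _).2 (LinearMap.surjective_rangeRestrict _) }
      haveI : Projective S.X₂ := P.projective (n + 1)
      exact hS.hasProjectiveDimensionLT_X₃ j (ih (n + 1) (by omega)) (hasProjectiveDimensionLT_of_ge _ 1 (j + 1) (by omega))
  let S : ShortComplex (ModuleCat.{u} R) := ShortComplex.mk
    (ModuleCat.ofHom (LinearMap.range (P.complex.d 1 0).hom).subtype) (P.π.f 0)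
    (ModuleCat.hom_ext (LinearMap.ext fun v ↦ by
      obtain ⟨a, ha⟩ := v.2
      show (P.π.f 0).hom v.1 = 0
      rw [← ha, ← LinearMap.comp_apply, ← ModuleCat.hom_comp, P.complex_d_comp_π_f_zero]; rfl))
  have hex : (ShortComplex.mk _ _ P.complex_d_comp_π_f_zero).Exact :=
    ShortComplex.exact_of_g_is_cokernel _ P.isColimitCokernelCofork
  have hS : S.ShortExact :=
    { exact := (ShortComplex.moduleCat_exact_iff _).2 fun v hv ↦
        ⟨⟨v, ((ShortComplex.moduleCat_exact_iff _).1 hex) v hv⟩, rfl⟩
      mono_f := (ModuleCat.mono_iff_injective _).2 Subtype.val_injective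
      epi_g := inferInstanceAs (Epi (P.π.f 0)) }
  haveI : Projective S.X₂ := P.projective 0
  exact hS.hasProjectiveDimensionLT_X₃ d (key d 0 (by omega)) (hasProjectiveDimensionLT_of_ge _ 1 (d + 1) (by omega))

/-- Let R be a commutative ring, M an R-module and d ≥ 0. Then M has projective dimension at most d in
the sense that Ext^i_R(M, N) = 0 for every i > d and every R-module N (Mathlib's Ext-vanishing
definition) if and only if M has a projective resolution of length at most d, i.e. a projective
resolution P whose terms P_i are zero for all i > d (the definition of pd_R(M) ≤ d by resolutions). -/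
theorem result (R : Type u) [CommRing R]
    (M : ModuleCat.{u} R) (d : ℕ) :
    HasProjectiveDimensionLE M d ↔
      ∃ P : ProjectiveResolution M, ∀ i : ℕ, d < i → IsZero (P.complex.X i) := by
  exact ⟨exists_resolution_of_le d M, fun ⟨P, hP⟩ ↦ le_of_resolution P d hP⟩

end Groth.Agent.S14413
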