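import Groth.Statements.S14415
import Groth.Agent.S9716
import Groth.Agent.FlatMor.DimOne
import Groth.Agent.WeakAssSch.Basic

set_option autoImplicit false
universe u
open CategoryTheory AlgebraicGeometry
open FlatMor

namespace Groth.Agent.S14415

/-- Let f : C → C' be a finite morphism of schemes, with C' locally Noetherian and all local rings of C'
regular of dimension at most one, such that every associated point x of C (a point whose maximal
ideal is an associated prime of O_{C,x}) maps to a point of C' whose local ring is zero-dimensional,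
that is, to a generic point of an irreducible component of C'. Then f_* O_C is finite locally free.
(The published statement takes C' regular Noetherian of pure dimension one and C Noetherian of pure
dimension one without embedded points; these hypotheses imply that every associated point of C maps
to a generic point of C'. This row assumes only that condition, allows C' locally Noetherian with
regular local rings of dimension at most one, and puts no condition on the dimension of C; the
argument is local on C'.) -/
theorem result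
    (C C' : Scheme.{u}) (f : C ⟶ C') [IsFinite f] [IsLocallyNoetherian C']
    (hreg : ∀ y : C', IsRegularLocalRing (C'.presheaf.stalk y))
    (hdim : ∀ y : C', ringKrullDim (C'.presheaf.stalk y) ≤ 1)
    (hass : ∀ x : C, Curv2.IsAssPoint (Coh.structureModule C) x →
      ringKrullDim (C'.presheaf.stalk (f.base x)) = 0) :
    FlatMod.IsFinLocFree ((Coh.push f).obj (Coh.structureModule C)) := by
  haveI : IsLocallyNoetherian C := LocallyOfFiniteType.isLocallyNoetherian f
  have hass' := hass
  haveI : Flat f := by
    refine Groth.Agent.FlatMor.DimOne.flat_of_stalk_regular f hreg hdim fun x b hb a hba => ?_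
    by_contra ha
    have := hreg (f x)
    haveI : IsDomain (C'.presheaf.stalk (f x)) := Groth.Agent.RegLoc.isDomain _
    have hne : (Submodule.span (C.presheaf.stalk x) {a}).annihilator ≠ ⊤ := fun he => ha (by
      simpa using Groth.Agent.WeakAss.mem_ann.mp (he.symm ▸ Submodule.mem_top :
        (1 : C.presheaf.stalk x) ∈ (Submodule.span (C.presheaf.stalk x) {a}).annihilator))
    obtain ⟨q, hq⟩ := Ideal.nonempty_minimalPrimes hne
    haveI := hq.1.1
    have hbq : (f.stalkMap x).hom b ∈ q := hq.1.2 (Groth.Agent.WeakAss.mem_ann.mpr hba)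
    have hqA : q ∈ FlatCA.weakAss (C.presheaf.stalk x) (C.presheaf.stalk x) := ⟨a, hq⟩
    obtain ⟨_, ⟨V, hV', rfl⟩, hxV', -⟩ :=
      C.isBasis_affineOpens.exists_subset_of_mem_open (Set.mem_univ x) isOpen_univ
    have hV : IsAffineOpen V := hV'
    have hxV : x ∈ V := hxV'
    letI := C.presheaf.algebra_section_stalk ⟨x, hxV⟩
    let P := (hV.primeIdealOf ⟨x, hxV⟩).asIdeal
    haveI : IsLocalization.AtPrime (C.presheaf.stalk x) P := hV.isLocalization_stalk ⟨x, hxV⟩
    have hq' : q.comap (algebraMap Γ(C, V) (C.presheaf.stalk x)) ∈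
        FlatCA.weakAss Γ(C, V) (C.presheaf.stalk x) :=
      (Groth.Agent.WeakAss.mem_weakAss_comap_iff P.primeCompl q).2 hqA
    let p := q.comap (algebraMap Γ(C, V) (C.presheaf.stalk x))
    have hpP : p ≤ P := by
      rw [show P = (IsLocalRing.maximalIdeal (C.presheaf.stalk x)).comap (algebraMap Γ(C, V) _) from
        (IsLocalization.AtPrime.under_maximalIdeal (C.presheaf.stalk x) P).symm]
      exact Ideal.comap_mono (IsLocalRing.le_maximalIdeal ‹q.IsPrime›.ne_top)
    let pt : PrimeSpectrum Γ(C, V) := ⟨p, inferInstance⟩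
    let z := hV.fromSpec pt
    have hzV : z ∈ V := by rw [← SetLike.mem_coe, ← hV.range_fromSpec]; exact ⟨pt, rfl⟩
    have hzp : (hV.primeIdealOf ⟨z, hzV⟩) = pt :=
      hV.fromSpec.isOpenEmbedding.injective (hV.fromSpec_primeIdealOf ⟨z, hzV⟩)
    have hass : Curv2.IsAssPoint (Coh.structureModule C) z := by
      haveI : (Coh.structureModule C).IsQuasicoherent := inferInstance
      rw [Groth.Agent.WeakAssSch.isAssPoint_iff_isWeakAssPoint,
        Groth.Agent.WeakAssSch.isWeakAssPoint_iff_mem _ hV z hzV, hzp]
      obtain ⟨m, hm, hm'⟩ := Groth.Agent.WeakAss.mem_weakAss_iff.1 hq'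
      obtain ⟨⟨r, t⟩, hrt⟩ := IsLocalization.surj P.primeCompl m
      refine Groth.Agent.WeakAss.mem_weakAss_iff.2 ⟨(r : Γ(C, V)), fun c hc => hm c ?_, fun g hg => ?_⟩
      · have hc' : c * r = 0 := hc
        have h1 : algebraMap Γ(C, V) (C.presheaf.stalk x) c * (m * algebraMap Γ(C, V) _ t.1) = 0 := by
          rw [hrt, ← map_mul, hc', map_zero]
        rw [← mul_assoc, (IsLocalization.map_units (C.presheaf.stalk x) t).mul_left_eq_zero] at h1
        rwa [Algebra.smul_def]
      · obtain ⟨s, hs, n, hn⟩ := hm' g hg
        have h1 : algebraMap Γ(C, V) (C.presheaf.stalk x) (s * g ^ n * r) = 0 := by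
          rw [map_mul, ← hrt, ← mul_assoc, ← Algebra.smul_def, hn, zero_mul]
        obtain ⟨t', ht'⟩ := (IsLocalization.map_eq_zero_iff P.primeCompl _ _).1 h1
        refine ⟨t'.1 * s, fun h => ?_, n, ?_⟩
        · exact ((Ideal.IsPrime.mem_or_mem (inferInstance : p.IsPrime) h).elim (fun h => t'.2 (hpP h)) hs)
        · show (t'.1 * s * g ^ n) * r = 0
          rw [mul_assoc t'.1, mul_assoc t'.1, ht']
    have hzq : C.fromSpecStalk x ⟨q, inferInstance⟩ = z :=
      congrArg (fun m : Spec (C.presheaf.stalk x) ⟶ C => m ⟨q, inferInstance⟩) (hV.fromSpecStalk_eq_fromSpecStalk hxV).symm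
    let p' : PrimeSpectrum (C'.presheaf.stalk (f x)) := PrimeSpectrum.comap (f.stalkMap x).hom ⟨q, inferInstance⟩
    have hfz : f z = C'.fromSpecStalk (f x) p' := by
      rw [← hzq]; exact Groth.Agent.FlatMor.DimOne.apply_fromSpecStalk f x _
    have hp' : p' = IsLocalRing.closedPoint _ := by
      haveI := Groth.Agent.FlatMor.DimOne.isPrincipalIdealRing _ (hdim (f x))
      exact PrimeSpectrum.ext (IsLocalRing.eq_maximalIdeal (IsPrime.to_maximal_ideal (hpi := p'.isPrime)
        fun h => hb ((Submodule.mem_bot _).1 (h.le (show b ∈ p'.asIdeal from hbq)))))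
    have h0 := hass' z hass
    rw [hfz, hp'] at h0
    have hclosed : C'.fromSpecStalk (f x) (IsLocalRing.closedPoint (C'.presheaf.stalk (f x))) = f x :=
      Scheme.fromSpecStalk_closedPoint
    rw [hclosed] at h0
    haveI : Ring.KrullDimLE 0 (C'.presheaf.stalk (f x)) := ⟨le_of_eq h0⟩
    have hF : IsField (C'.presheaf.stalk (f x)) := Ring.KrullDimLE.isField_of_isDomain
    obtain ⟨c, hc⟩ := hF.mul_inv_cancel hb
    exact ‹q.IsPrime›.ne_top (Ideal.eq_top_of_isUnit_mem _ hbq
      ((IsUnit.of_mul_eq_one c hc).map (f.stalkMap x).hom))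
  haveI : LocallyOfFinitePresentation f := inferInstance
  exact ((Groth.Agent.S9716.result f).2 ⟨inferInstance, inferInstance, inferInstance⟩).2

end Groth.Agent.S14415
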