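import Groth.Statements.S14416
import Mathlib
-- import your own Groth.Agent.* helpers here

set_option autoImplicit false
universe u
open scoped TensorProduct
open CAlg

namespace Groth.Agent.S14416

/-- Let B → A be a ring map with A a finitely generated B-module such that for every prime ideal p of B
the fibre κ(p) ⊗_B A has dimension at most one over the residue field κ(p). Then B → A is
surjective. In scheme language: a finite morphism whose degree at every point of the target is 0 or
1 is a closed immersion. (The published statement assumes the two schemes Noetherian; that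
hypothesis plays no role and is dropped here.) -/
theorem result
    (B A : Type u) [CommRing B] [CommRing A] [Algebra B A] [Module.Finite B A]
    (h : ∀ p : PrimeSpectrum B,
      Module.finrank p.asIdeal.ResidueField (p.asIdeal.ResidueField ⊗[B] A) ≤ 1) :
    Function.Surjective (algebraMap B A) := by
  let N : Submodule B A := LinearMap.range (Algebra.linearMap B A)
  suffices hQ : Subsingleton (A ⧸ N) by
    intro a
    have : a ∈ N := by rw [Submodule.Quotient.subsingleton_iff.mp hQ]; trivial
    exact this
  by_contra hQ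
  rw [not_subsingleton_iff_nontrivial] at hQ
  have hann : Module.annihilator B (A ⧸ N) ≠ ⊤ := by
    rw [Ne, Module.annihilator_eq_top_iff]
    exact not_subsingleton _
  obtain ⟨m, hm, hle⟩ := Ideal.exists_le_maximal _ hann
  let p : PrimeSpectrum B := ⟨m, hm.isPrime⟩
  let κ := m.ResidueField
  have hspan : Submodule.span κ ({(1 : κ ⊗[B] A)} : Set (κ ⊗[B] A)) = ⊤ := by
    rcases subsingleton_or_nontrivial (κ ⊗[B] A) with h' | h'
    · exact Subsingleton.elim _ _
    · apply Submodule.eq_top_of_finrank_eq
      rw [finrank_span_singleton one_ne_zero]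
      exact le_antisymm Module.finrank_pos (h p)
  have htop : m • (⊤ : Submodule B (A ⧸ N)) = ⊤ := by
    rw [eq_top_iff]
    intro q _
    obtain ⟨a, rfl⟩ := N.mkQ_surjective q
    let L : κ ⊗[B] A →ₗ[B] κ ⊗[B] (A ⧸ N) := LinearMap.lTensor κ N.mkQ
    obtain ⟨c, hc⟩ := Submodule.mem_span_singleton.mp (hspan ▸ Submodule.mem_top : ((1:κ) ⊗ₜ[B] a) ∈ _)
    have h1 : (1 : κ) ⊗ₜ[B] (N.mkQ a) = 0 := by
      have h2 := congrArg L hc
      rw [Algebra.TensorProduct.one_def, TensorProduct.smul_tmul'] at h2
      simp only [L, LinearMap.lTensor_tmul] at h2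
      rw [← h2, show N.mkQ 1 = 0 from (Submodule.Quotient.mk_eq_zero N).mpr ⟨1, by simp⟩,
        TensorProduct.tmul_zero]
    have hsurj : Function.Surjective (algebraMap B κ) := Ideal.algebraMap_residueField_surjective m
    let e : (B ⧸ m) →ₗ[B] κ := (IsScalarTower.toAlgHom B (B ⧸ m) κ).toLinearMap
    have he : Function.Bijective e :=
      ⟨Ideal.injective_algebraMap_quotient_residueField m, fun z => by
        obtain ⟨b, rfl⟩ := hsurj z; exact ⟨algebraMap B (B ⧸ m) b, (IsScalarTower.toAlgHom B (B ⧸ m) κ).commutes b⟩⟩
    let e' := TensorProduct.congr (LinearEquiv.ofBijective e he).symm (LinearEquiv.refl B (A ⧸ N))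
    have h3 := congrArg (e'.trans (TensorProduct.quotTensorEquivQuotSMul (A ⧸ N) m)) h1
    have h4 : (LinearEquiv.ofBijective e he).symm 1 = 1 := by
      rw [LinearEquiv.symm_apply_eq]; exact (map_one (IsScalarTower.toAlgHom B (B ⧸ m) κ)).symm
    have h5 : (1 : B ⧸ m) = Ideal.Quotient.mk m 1 := rfl
    simp [e', h4, h5, -map_one] at h3
    exact h3
  obtain ⟨r, hr, hr'⟩ := Submodule.exists_sub_one_mem_and_smul_eq_zero_of_fg_of_le_smul m
    (⊤ : Submodule B (A ⧸ N)) Module.Finite.fg_top htop.ge
  have : r ∈ m := hle (Module.mem_annihilator.mpr fun q => hr' q trivial)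
  exact hm.ne_top ((Ideal.eq_top_iff_one m).mpr (by simpa using m.sub_mem this hr))

end Groth.Agent.S14416
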