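import Groth.Statements.S14417
import Groth.Agent.CVar22.GenSmooth

set_option autoImplicit false
universe u
open CategoryTheory AlgebraicGeometry
open Variety

namespace Groth.Agent.S14417

/-- Generic smoothness on the source: let π : X → Y be a dominant morphism of finite type between
integral Noetherian schemes, sending the generic point of X to that of Y, such that the function
field K(Y) (equivalently K(X)) has characteristic zero, and let n be the transcendence degree of
K(X) over K(Y). Then there is a nonempty (equivalently dense) open subscheme U of X on which π
restricts to a smooth morphism U → Y of relative dimension n. -/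
theorem result
    (X Y : Scheme.{u}) [IsIntegral X] [IsIntegral Y] [IsNoetherian X] [IsNoetherian Y]
    (π : X ⟶ Y) [LocallyOfFiniteType π] [QuasiCompact π]
    (hdom : π.base (genericPoint X) = genericPoint Y) [CharZero Y.functionField]
    (n : ℕ) (hn : @Algebra.trdeg (Y.presheaf.stalk (π.base (genericPoint X))) X.functionField _ _
      (π.stalkMap (genericPoint X)).hom.toAlgebra = n) :
    ∃ U : X.Opens, (U : Set X).Nonempty ∧ SmoothOfRelativeDimension n (U.ι ≫ π) := by
  haveI : LocallyOfFinitePresentation π :=
    LocallyOfFinitePresentation.iff_locallyOfFiniteType.mpr inferInstance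
  haveI := CVar22.charZero_stalk_of_eq_genericPoint hdom
  obtain ⟨V, hxV, hV⟩ := CVar22.exists_smoothOfRelativeDimension π (genericPoint X)
    (CVar22.isField_stalk_of_eq_genericPoint hdom) (CVar22.isField_stalk_of_eq_genericPoint rfl) n hn
  exact ⟨V, ⟨_, hxV⟩, hV⟩

end Groth.Agent.S14417
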