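import Groth.Statements.S14418
import Mathlib
-- import your own Groth.Agent.* helpers here

set_option autoImplicit false
universe u
open CategoryTheory
open CAlg

namespace Groth.Agent.S14418


open CategoryTheory in
private theorem middle {B A : Type u} [CommRing B] [CommRing A] [IsNoetherianRing B]
    (T : ModuleCat.{u} B ⥤ ModuleCat.{u} A) [T.Additive]
    (hex : ∀ S : ShortComplex (ModuleCat.{u} B), S.ShortExact → Module.Finite B S.X₁ →
      Module.Finite B S.X₂ → Module.Finite B S.X₃ → (S.map T).Exact)
    {M₁ M₂ M₃ : Type u} [AddCommGroup M₁] [Module B M₁] [AddCommGroup M₂] [Module B M₂]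
    [AddCommGroup M₃] [Module B M₃] [Module.Finite B M₂]
    (f : M₁ →ₗ[B] M₂) (g : M₂ →ₗ[B] M₃) (hf : Function.Injective f) (hg : Function.Surjective g)
    (hfg : Function.Exact f g) (h3 : Limits.IsZero (T.obj (ModuleCat.of B M₃))) :
    Function.Surjective (T.map (ModuleCat.ofHom f)).hom := by
  haveI : Module.Finite B M₁ := Module.Finite.of_injective f hf
  haveI : Module.Finite B M₃ := Module.Finite.of_surjective g hg
  let S : ShortComplex (ModuleCat.{u} B) :=
    ShortComplex.mk (ModuleCat.ofHom f) (ModuleCat.ofHom g) (by
      ext x; exact hfg.apply_apply_eq_zero x)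
  have hS : S.ShortExact :=
    { exact := (ShortComplex.ShortExact.moduleCat_exact_iff_function_exact S).mpr hfg
      mono_f := (ModuleCat.mono_iff_injective _).mpr hf
      epi_g := (ModuleCat.epi_iff_surjective _).mpr hg }
  have h := hex S hS ‹_› ‹_› ‹_›
  rw [ShortComplex.moduleCat_exact_iff] at h
  intro x
  haveI : Subsingleton (T.obj (ModuleCat.of B M₃)) := ModuleCat.subsingleton_of_isZero h3
  exact h x (Subsingleton.elim (α := T.obj (ModuleCat.of B M₃)) _ _)

open CategoryTheory in
private theorem isZero_middle {B A : Type u} [CommRing B] [CommRing A] [IsNoetherianRing B]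
    (T : ModuleCat.{u} B ⥤ ModuleCat.{u} A) [T.Additive]
    (hex : ∀ S : ShortComplex (ModuleCat.{u} B), S.ShortExact → Module.Finite B S.X₁ →
      Module.Finite B S.X₂ → Module.Finite B S.X₃ → (S.map T).Exact)
    {M₁ M₂ M₃ : Type u} [AddCommGroup M₁] [Module B M₁] [AddCommGroup M₂] [Module B M₂]
    [AddCommGroup M₃] [Module B M₃] [Module.Finite B M₂]
    (f : M₁ →ₗ[B] M₂) (g : M₂ →ₗ[B] M₃) (hf : Function.Injective f) (hg : Function.Surjective g)
    (hfg : Function.Exact f g) (h1 : Limits.IsZero (T.obj (ModuleCat.of B M₁)))
    (h3 : Limits.IsZero (T.obj (ModuleCat.of B M₃))) :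
    Limits.IsZero (T.obj (ModuleCat.of B M₂)) := by
  haveI : Subsingleton (T.obj (ModuleCat.of B M₁)) := ModuleCat.subsingleton_of_isZero h1
  haveI : Subsingleton (T.obj (ModuleCat.of B M₂)) := (middle T hex f g hf hg hfg h3).subsingleton
  exact ModuleCat.isZero_of_subsingleton _

/-- Let B → A be a local homomorphism of Noetherian local rings, n the maximal ideal of B, and T an
additive functor from B-modules to A-modules which is B-linear (T applied to multiplication by b ∈ B
is multiplication by the image of b in A), carries finitely generated B-modules to finitely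
generated A-modules, and is half-exact on finitely generated modules (every short exact sequence of
finitely generated B-modules goes to a sequence exact at its middle term). If T(B/n) = 0 then T(N) =
0 for every finitely generated B-module N. (The published statement takes T defined on finitely
generated modules only; here T is defined on all B-modules while every hypothesis and the conclusion
concern finitely generated modules.) -/
theorem result {B A : Type u} [CommRing B] [CommRing A]
    [IsNoetherianRing B] [IsLocalRing B] [IsNoetherianRing A] [IsLocalRing A] [Algebra B A]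
    [IsLocalHom (algebraMap B A)] (T : ModuleCat.{u} B ⥤ ModuleCat.{u} A) [T.Additive]
    (hlin : ∀ (N : ModuleCat.{u} B) (b : B),
      T.map (ModuleCat.ofHom (b • (LinearMap.id : N →ₗ[B] N))) =
        ModuleCat.ofHom (algebraMap B A b • (LinearMap.id : T.obj N →ₗ[A] T.obj N)))
    (hfin : ∀ N : ModuleCat.{u} B, Module.Finite B N → Module.Finite A (T.obj N))
    (hex : ∀ S : ShortComplex (ModuleCat.{u} B), S.ShortExact → Module.Finite B S.X₁ →
      Module.Finite B S.X₂ → Module.Finite B S.X₃ → (S.map T).Exact)
    (h0 : Limits.IsZero (T.obj (ModuleCat.of B (B ⧸ IsLocalRing.maximalIdeal B))))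
    (N : ModuleCat.{u} B) [Module.Finite B N] : Limits.IsZero (T.obj N) := by
  have hiso : ∀ {M M' : Type u} [AddCommGroup M] [Module B M] [AddCommGroup M'] [Module B M'],
      (M ≃ₗ[B] M') → Limits.IsZero (T.obj (ModuleCat.of B M)) → Limits.IsZero (T.obj (ModuleCat.of B M')) :=
    fun e h => h.of_iso (T.mapIso e.toModuleIso).symm
  -- cyclic modules
  have hcyc : ∀ I : Ideal B, Limits.IsZero (T.obj (ModuleCat.of B (B ⧸ I))) := by
    intro I
    induction I using IsNoetherian.induction with
    | hgt I ih =>
      by_cases hI : IsLocalRing.maximalIdeal B ≤ I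
      · rcases (IsLocalRing.maximalIdeal.isMaximal B).out.le_iff.mp hI with h | h
        · subst h
          haveI : Subsingleton (B ⧸ (⊤ : Ideal B)) := inferInstance
          refine Limits.IsZero.of_iso ?_ (T.mapIso (ModuleCat.isZero_of_subsingleton
            (ModuleCat.of B (B ⧸ (⊤ : Ideal B)))).isoZero ≪≫ T.mapZeroObject)
          exact Limits.isZero_zero _
        · subst h; exact h0
      · obtain ⟨x, hxm, hxI⟩ := SetLike.not_le_iff_exists.mp hI
        let J : Ideal B := LinearMap.ker (LinearMap.toSpanSingleton B (B ⧸ I) (Ideal.Quotient.mk I x))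
        let f : (B ⧸ J) →ₗ[B] B ⧸ I := J.liftQ (LinearMap.toSpanSingleton B (B ⧸ I) (Ideal.Quotient.mk I x)) le_rfl
        let g : (B ⧸ I) →ₗ[B] B ⧸ (I ⊔ Ideal.span {x}) := Submodule.factor le_sup_left
        have hf : Function.Injective f := LinearMap.ker_eq_bot.mp (Submodule.ker_liftQ_eq_bot _ _ _ le_rfl)
        have hg : Function.Surjective g := Submodule.factor_surjective _
        have hfg : Function.Exact f g := by
          intro y
          obtain ⟨y, rfl⟩ := Ideal.Quotient.mk_surjective y
          constructor
          · intro hy
            obtain ⟨a, ha, b, hb, hab⟩ := Submodule.mem_sup.mp (Ideal.Quotient.eq_zero_iff_mem.mp hy)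
            obtain ⟨c, rfl⟩ := Ideal.mem_span_singleton'.mp hb
            refine ⟨Ideal.Quotient.mk J c, ?_⟩
            simp only [LinearMap.id_apply] at hab
            show Ideal.Quotient.mk I (c * x) = Ideal.Quotient.mk I y
            rw [← hab, map_add, Ideal.Quotient.eq_zero_iff_mem.mpr ha, zero_add]
          · rintro ⟨z, hz⟩
            obtain ⟨c, rfl⟩ := Ideal.Quotient.mk_surjective z
            rw [← hz]
            show Ideal.Quotient.mk (I ⊔ Ideal.span {x}) (c * x) = 0
            exact Ideal.Quotient.eq_zero_iff_mem.mpr
              (Ideal.mem_sup_right (Ideal.mul_mem_left _ c (Ideal.mem_span_singleton_self x)))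
        have h3 : Limits.IsZero (T.obj (ModuleCat.of B (B ⧸ (I ⊔ Ideal.span {x})))) :=
          ih _ (lt_of_le_of_ne le_sup_left (fun h => hxI (by
            rw [h]; exact Ideal.mem_sup_right (Ideal.mem_span_singleton_self x))))
        have hIJ : I ≤ J := fun c hc => by
          show Ideal.Quotient.mk I (c * x) = 0
          exact Ideal.Quotient.eq_zero_iff_mem.mpr (Ideal.mul_mem_right x I hc)
        rcases hIJ.eq_or_lt with hJ | hJ
        · -- `x` is a non-zero-divisor on `B ⧸ I`: Nakayama
          let φ : (B ⧸ I) →ₗ[B] B ⧸ I := x • LinearMap.id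
          have hφ : φ = f ∘ₗ (Submodule.quotEquivOfEq I J hJ).toLinearMap := by
            refine Submodule.linearMap_qext _ (LinearMap.ext_ring ?_)
            show x • Ideal.Quotient.mk I 1 = Ideal.Quotient.mk I (1 * x)
            rw [Algebra.smul_def, Ideal.Quotient.algebraMap_eq, ← map_mul, mul_one, one_mul]
          have hφinj : Function.Injective φ := by
            rw [hφ]; exact hf.comp (Submodule.quotEquivOfEq I J hJ).injective
          have hφg : Function.Exact φ g := by
            intro y
            rw [hfg y, hφ, LinearMap.coe_comp, Set.range_comp]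
            simp
          have hs := middle T hex φ g hφinj hg hφg h3
          have hid : ModuleCat.ofHom φ =
              ModuleCat.ofHom (x • (LinearMap.id : ModuleCat.of B (B ⧸ I) →ₗ[B] ModuleCat.of B (B ⧸ I))) := rfl
          rw [hid, hlin] at hs
          haveI := hfin (ModuleCat.of B (B ⧸ I)) inferInstance
          have hxA : algebraMap B A x ∈ IsLocalRing.maximalIdeal A := by
            rw [IsLocalRing.mem_maximalIdeal, mem_nonunits_iff]
            intro hu
            exact (IsLocalRing.mem_maximalIdeal x).mp hxm (isUnit_of_map_unit (algebraMap B A) x hu)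
          have htop : (⊤ : Submodule A (T.obj (ModuleCat.of B (B ⧸ I)))) = ⊥ := by
            refine Submodule.eq_bot_of_le_smul_of_le_jacobson_bot (IsLocalRing.maximalIdeal A) _
              Module.Finite.fg_top ?_ (IsLocalRing.maximalIdeal_le_jacobson _)
            intro y _
            obtain ⟨z, rfl⟩ := hs y
            exact Submodule.smul_mem_smul hxA Submodule.mem_top
          haveI : Subsingleton (T.obj (ModuleCat.of B (B ⧸ I))) := by
            refine subsingleton_of_forall_eq 0 (fun y => ?_)
            have : y ∈ (⊤ : Submodule A (T.obj (ModuleCat.of B (B ⧸ I)))) := Submodule.mem_top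
            rwa [htop, Submodule.mem_bot] at this
          exact ModuleCat.isZero_of_subsingleton _
        · exact isZero_middle T hex f g hf hg hfg (ih J hJ) h3
  -- arbitrary finitely generated modules
  have hspan : ∀ s : Finset N, Limits.IsZero (T.obj (ModuleCat.of B ↥(Submodule.span B (s : Set N)))) := by
    classical
    intro s
    induction s using Finset.induction with
    | empty =>
      haveI : Subsingleton ↥(Submodule.span B ((∅ : Finset N) : Set N)) := by
        simp only [Finset.coe_empty, Submodule.span_empty]; infer_instance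
      refine Limits.IsZero.of_iso ?_ (T.mapIso (ModuleCat.isZero_of_subsingleton
        (ModuleCat.of B ↥(Submodule.span B ((∅ : Finset N) : Set N)))).isoZero ≪≫ T.mapZeroObject)
      exact Limits.isZero_zero _
    | @insert a s _ ih =>
      have hle : Submodule.span B (s : Set N) ≤ Submodule.span B ((insert a s : Finset N) : Set N) :=
        Submodule.span_mono (by simp)
      let P := Submodule.span B ((insert a s : Finset N) : Set N)
      haveI : Module.Finite B P := Module.Finite.iff_fg.mpr ⟨insert a s, rfl⟩
      let i : ↥(Submodule.span B (s : Set N)) →ₗ[B] P := Submodule.inclusion hle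
      let a' : P := ⟨a, Submodule.subset_span (by simp)⟩
      let c : B →ₗ[B] P ⧸ LinearMap.range i := (LinearMap.range i).mkQ ∘ₗ LinearMap.toSpanSingleton B P a'
      have hc : Function.Surjective c := by
        intro y
        obtain ⟨⟨y, hy⟩, rfl⟩ := Submodule.Quotient.mk_surjective _ y
        have hy' : y ∈ Submodule.span B (insert a (s : Set N)) := by simpa [P] using hy
        obtain ⟨r, z, hz, rfl⟩ := Submodule.mem_span_insert.mp hy'
        refine ⟨r, ?_⟩
        show Submodule.Quotient.mk (r • a') = Submodule.Quotient.mk _
        rw [Submodule.Quotient.eq]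
        refine ⟨-⟨z, hz⟩, Subtype.ext ?_⟩
        simp [i, a']
      exact isZero_middle T hex i (LinearMap.range i).mkQ (Submodule.inclusion_injective hle)
        (Submodule.mkQ_surjective _) (LinearMap.exact_map_mkQ_range i) ih
        (hiso (c.quotKerEquivOfSurjective hc) (hcyc _))
  obtain ⟨s, hs⟩ := (Module.Finite.fg_top : (⊤ : Submodule B N).FG)
  exact hiso ((LinearEquiv.ofEq _ _ hs).trans Submodule.topEquiv) (hspan s)

end Groth.Agent.S14418
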