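import Groth.Statements.S1442
import Mathlib.AlgebraicGeometry.Morphisms.Integral
import Mathlib.AlgebraicGeometry.Morphisms.ClosedImmersion
-- import your own Groth.Agent.* helpers here

set_option autoImplicit false
universe u
open FlatMor

namespace Groth.Agent.S1442

section
open AlgebraicGeometry CategoryTheory TopologicalSpace

variable {Y Z : Scheme.{u}}

/-- A section over `W` can be multiplied into one over the affine `Z₀` with the expected non-vanishing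
locus inside `D(g) ⊆ W`. -/
theorem exists_extension {Z₀ W : Z.Opens} (hZ₀ : IsAffineOpen Z₀) (g : Γ(Z, Z₀))
    (hg : Z.basicOpen g ≤ W) (x : Γ(Z, W)) :
    ∃ a : Γ(Z, Z₀), Z.basicOpen a = Z.basicOpen g ⊓ Z.basicOpen x := by
  have := hZ₀.isLocalization_basicOpen g
  obtain ⟨⟨a, _, n, rfl⟩, ha⟩ := IsLocalization.surj (Submonoid.powers g)
    (Z.presheaf.map (homOfLE hg).op x)
  refine ⟨a * g, ?_⟩
  have h := congrArg Z.basicOpen ha
  have hu : IsUnit (algebraMap Γ(Z, Z₀) Γ(Z, Z.basicOpen g) (g ^ n)) :=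
    IsLocalization.map_units _ (⟨_, n, rfl⟩ : Submonoid.powers g)
  rw [Scheme.basicOpen_mul, Scheme.basicOpen_of_isUnit _ hu] at h
  have h2 : Z.basicOpen (algebraMap Γ(Z, Z₀) Γ(Z, Z.basicOpen g) a) = Z.basicOpen g ⊓ Z.basicOpen a :=
    Scheme.basicOpen_res _ _ _
  have h3 : Z.basicOpen (Z.presheaf.map (homOfLE hg).op x) = Z.basicOpen g ⊓ Z.basicOpen x :=
    Scheme.basicOpen_res _ _ _
  rw [Scheme.basicOpen_mul, inf_comm, ← h2, ← h, h3]
  exact inf_eq_left.mpr inf_le_left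

/-- Finitely many basic opens inside `j ⁻¹ V` covering the fibre over `y` can be replaced by one. -/
theorem exists_single (j : Z ⟶ Y) [IsIntegralHom j] {Z₀ : Z.Opens} (hZ₀ : IsAffineOpen Z₀)
    {V : Y.Opens} (hV : IsAffineOpen V) (hVZ : j ⁻¹ᵁ V ≤ Z₀) {y : Y} (hy : y ∈ V)
    (s : Finset Γ(Z, Z₀)) (hs : ∀ g ∈ s, Z.basicOpen g ≤ j ⁻¹ᵁ V) :
    ∃ g : Γ(Z, Z₀), Z.basicOpen g ≤ j ⁻¹ᵁ V ∧
      ∀ z : Z, j z = y → (∃ g' ∈ s, z ∈ Z.basicOpen g') → z ∈ Z.basicOpen g := by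
  classical
  induction s using Finset.induction with
  | empty => exact ⟨0, by simp, fun z _ ⟨_, h, _⟩ => absurd h (Finset.notMem_empty _)⟩
  | insert g₂ t _ ih =>
    obtain ⟨g₁, hg₁, hg₁'⟩ := ih fun g hg => hs g (Finset.mem_insert_of_mem hg)
    have hg₂ := hs g₂ (Finset.mem_insert_self _ _)
    let W := j ⁻¹ᵁ V
    let φ := (j.app V).hom
    let β : Γ(Z, W) := Z.presheaf.map (homOfLE hVZ).op g₁
    obtain ⟨P, hPm, hP⟩ := j.isIntegral_app V hV β
    have hex : ∃ k, y ∈ Y.basicOpen (P.coeff k) := ⟨P.natDegree, by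
      rw [hPm.coeff_natDegree, Scheme.basicOpen_of_isUnit _ isUnit_one]; exact hy⟩
    let r := Nat.find hex
    let Pr := P /ₘ Polynomial.X ^ r
    let x : Γ(Z, W) := Polynomial.eval₂ φ β Pr
    obtain ⟨G, hG⟩ := exists_extension hZ₀ g₂ hg₂ x
    refine ⟨g₁ + G, fun z hz => ?_, fun z hzy ⟨g', hg', hz⟩ => ?_⟩
    · rcases Z.basicOpen_add_le g₁ G hz with h | h
      · exact hg₁ h
      · exact hg₂ ((hG.le h).1)
    subst hzy
    have hzW : z ∈ W := hy
    have hzZ : z ∈ Z₀ := hVZ hzW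
    let ev := (Z.evaluation W z hzW).hom
    let ψ := ev.comp φ
    have hψ : ∀ a, ψ a = 0 ↔ j z ∉ Y.basicOpen a := fun a => by
      show Z.evaluation W z hzW (j.app V a) = 0 ↔ _
      rw [Scheme.evaluation_eq_zero_iff_notMem_basicOpen, ← Scheme.preimage_basicOpen]
      rfl
    have hdvd : Polynomial.X ^ r ∣ P.map ψ := Polynomial.X_pow_dvd_iff.mpr fun d hd => by
      rw [Polynomial.coeff_map, hψ]
      exact Nat.find_min hex hd
    obtain ⟨q, hq⟩ := hdvd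
    have hqPr : q = Pr.map ψ := by
      rw [Polynomial.map_divByMonic _ (Polynomial.monic_X_pow r), Polynomial.map_pow,
        Polynomial.map_X, hq, Polynomial.mul_divByMonic_cancel_left _ (Polynomial.monic_X_pow r)]
    have hx : ev x = q.eval (ev β) := by
      rw [hqPr, Polynomial.eval_map, Polynomial.hom_eval₂]
    have hprod : (ev β) ^ r * ev x = 0 := by
      rw [hx, show ev β ^ r * q.eval (ev β) = (Polynomial.X ^ r * q).eval (ev β) by simp]
      rw [← hq, Polynomial.eval_map, ← Polynomial.hom_eval₂, hP, map_zero]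
    have hβ : z ∈ Z.basicOpen β ↔ z ∈ Z.basicOpen g₁ := by
      show z ∈ Z.basicOpen (Z.presheaf.map _ g₁) ↔ _
      rw [Scheme.basicOpen_res]
      exact ⟨fun h => h.2, fun h => ⟨hzW, h⟩⟩
    have key : z ∈ Z.basicOpen g₁ ∧ z ∉ Z.basicOpen G ∨
        z ∉ Z.basicOpen g₁ ∧ (z ∈ Z.basicOpen g₂ → z ∈ Z.basicOpen G) := by
      by_cases h₁ : z ∈ Z.basicOpen g₁
      · refine Or.inl ⟨h₁, fun hzG => ?_⟩
        have hb : ev β ≠ 0 := (Z.evaluation_ne_zero_iff_mem_basicOpen z hzW β).mpr (hβ.mpr h₁)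
        have : ev x = 0 := (mul_eq_zero.mp hprod).resolve_left (pow_ne_zero _ hb)
        exact (Z.evaluation_eq_zero_iff_notMem_basicOpen z hzW x).mp this (hG.le hzG).2
      · refine Or.inr ⟨h₁, fun h₂ => hG.ge ⟨h₂, ?_⟩⟩
        have hb : ev β = 0 :=
          (Z.evaluation_eq_zero_iff_notMem_basicOpen z hzW β).mpr (fun h => h₁ (hβ.mp h))
        refine (Z.evaluation_ne_zero_iff_mem_basicOpen z hzW x).mp ?_
        show ev x ≠ 0
        rw [hx, hb, ← Polynomial.coeff_zero_eq_eval_zero]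
        have hc : q.coeff 0 = ψ (P.coeff r) := by
          rw [← Polynomial.coeff_map, hq, Polynomial.coeff_X_pow_mul', if_pos le_rfl, Nat.sub_self]
        rw [hc]
        exact fun h => (hψ _).mp h (Nat.find_spec hex)
    simp only [← Z.evaluation_ne_zero_iff_mem_basicOpen z hzZ, not_not] at key ⊢
    rcases key with ⟨h₁, h₂⟩ | ⟨h₁, h₂⟩
    · rwa [map_add, h₂, add_zero]
    · rw [map_add, h₁, zero_add]
      apply h₂
      rw [Z.evaluation_ne_zero_iff_mem_basicOpen]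
      rcases Finset.mem_insert.mp hg' with rfl | hg'
      · exact hz
      · exact absurd (hg₁' z rfl ⟨g', hg', hz⟩)
          ((Z.evaluation_eq_zero_iff_notMem_basicOpen z hzZ g₁).mp h₁)

theorem exists_opens_nbhd (j : Z ⟶ Y) [IsIntegralHom j] (y : Y) {W : Z.Opens}
    (h : j ⁻¹' {y} ⊆ (W : Set Z)) :
    ∃ O : Y.Opens, y ∈ O ∧ j ⁻¹ᵁ O ≤ W := by
  refine ⟨⟨(j '' (W : Set Z)ᶜ)ᶜ, (j.isClosedMap _ W.2.isClosed_compl).isOpen_compl⟩, ?_, ?_⟩
  · rintro ⟨z, hz, hzy⟩; exact hz (h hzy)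
  · intro z hz
    by_contra hzW
    exact hz ⟨z, hzW, rfl⟩

end

open AlgebraicGeometry CategoryTheory Limits in
/-- Let i : Z → X be a closed immersion and j : Z → Y an integral morphism such that for each point y of
Y the fibre of j over y is contained in the preimage of some affine open of X. Then for each y there
are affine opens U of X and V of Y with y ∈ V and with the same preimage in Z. -/
theorem result {X Y Z : Scheme.{u}} (i : Z ⟶ X) [IsClosedImmersion i] (j : Z ⟶ Y) [IsIntegralHom j]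
    (h : ∀ y : Y, ∃ U : X.Opens, IsAffineOpen U ∧ j ⁻¹' {y} ⊆ (i ⁻¹ᵁ U : Set ↑Z)) (y : Y) :
    ∃ (U : X.Opens) (V : Y.Opens), IsAffineOpen U ∧ IsAffineOpen V ∧ y ∈ V ∧ i ⁻¹ᵁ U = j ⁻¹ᵁ V := by
  obtain ⟨U₀, hU₀, hfib⟩ := h y
  obtain ⟨O, hyO, hO⟩ := exists_opens_nbhd j y hfib
  obtain ⟨_, ⟨V, hV, rfl⟩, hyV, hVO⟩ :=
    Y.isBasis_affineOpens.exists_subset_of_mem_open hyO O.2
  have hZ₀ : IsAffineOpen (i ⁻¹ᵁ U₀) := hU₀.preimage i
  have hW : IsAffineOpen (j ⁻¹ᵁ V) := hV.preimage j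
  have hVZ : j ⁻¹ᵁ V ≤ i ⁻¹ᵁ U₀ := fun z hz => hO (hVO hz)
  obtain ⟨s, hs⟩ := hW.isCompact.elim_finite_subcover
    (fun g : { g : Γ(Z, i ⁻¹ᵁ U₀) // Z.basicOpen g ≤ j ⁻¹ᵁ V } => (Z.basicOpen g.1 : Set Z))
    (fun g => (Z.basicOpen g.1).2) (fun z hz => by
      obtain ⟨g, hg, hzg⟩ := hZ₀.exists_basicOpen_le ⟨z, hz⟩ (hVZ hz)
      exact Set.mem_iUnion.mpr ⟨⟨g, hg⟩, hzg⟩)
  classical
  obtain ⟨g, hgW, hgF⟩ := exists_single j hZ₀ hV hVZ hyV (s.image Subtype.val)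
    (fun g hg => by obtain ⟨⟨g, hg'⟩, -, rfl⟩ := Finset.mem_image.mp hg; exact hg')
  obtain ⟨O', hyO', hO'⟩ := exists_opens_nbhd j y (W := Z.basicOpen g) (by
    intro z (hz : j z = y)
    obtain ⟨g', hg', hzg⟩ := Set.mem_iUnion₂.mp (hs (show j z ∈ V from hz.symm ▸ hyV))
    exact hgF z hz ⟨g'.1, Finset.mem_image.mpr ⟨g', hg', rfl⟩, hzg⟩)
  obtain ⟨t, htO, hyt⟩ := hV.exists_basicOpen_le ⟨y, hyO'⟩ hyV
  obtain ⟨a, ha⟩ := exists_extension hZ₀ g hgW (j.app V t)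
  obtain ⟨G, hG⟩ := i.app_surjective U₀ hU₀ a
  refine ⟨X.basicOpen G, Y.basicOpen t, hU₀.basicOpen G, hV.basicOpen t, hyt, ?_⟩
  rw [Scheme.preimage_basicOpen, hG, ha, ← Scheme.preimage_basicOpen, inf_eq_right]
  exact fun z hz => hO' (htO hz)

end Groth.Agent.S1442
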