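import Groth.Statements.S14421
import Mathlib
-- import your own Groth.Agent.* helpers here

set_option autoImplicit false
universe u v
open CategoryTheory
open HomAlg

namespace Groth.Agent.S14421

open CategoryTheory ZeroObject

/-- Let φ : K → J be a morphism of cochain complexes of modules over a ring which is surjective in
degree p − 1. Then the map induced on cohomology in degree p is surjective if and only if the map
induced on cocycles in degree p is surjective. (Stated for cochain complexes indexed by the
integers; the published statement is for three-term complexes in degrees p − 1, p, p + 1, which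
embed as such complexes.) -/
theorem result {R : Type u} [Ring R]
    (K J : CochainComplex (ModuleCat.{v} R) ℤ) (φ : K ⟶ J) (p : ℤ) [Epi (φ.f (p - 1))] :
    Epi (HomologicalComplex.homologyMap φ p) ↔ Epi (HomologicalComplex.cyclesMap φ p) := by
  constructor
  · intro h
    rw [ModuleCat.epi_iff_surjective] at h ⊢
    intro z
    obtain ⟨a, ha⟩ := h (J.homologyπ p z)
    obtain ⟨w, rfl⟩ := (ModuleCat.epi_iff_surjective (K.homologyπ p)).1 inferInstance a
    have hn := congrArg (fun f => f.hom w) (HomologicalComplex.homologyπ_naturality φ p)
    simp only [ModuleCat.hom_comp, LinearMap.comp_apply] at hn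
    have h0 : J.homologyπ p (z - HomologicalComplex.cyclesMap φ p w) = 0 := by
      rw [map_sub, ← hn, ha, sub_self]
    have hex : (ShortComplex.mk (J.toCycles (p - 1) p) (J.homologyπ p) (by simp)).Exact :=
      ShortComplex.exact_of_g_is_cokernel _ (J.homologyIsCokernel (p - 1) p (by simp))
    obtain ⟨y, hy⟩ := (ShortComplex.moduleCat_exact_iff _).1 hex _ h0
    obtain ⟨x, rfl⟩ := (ModuleCat.epi_iff_surjective (φ.f (p - 1))).1 inferInstance y
    refine ⟨K.toCycles (p - 1) p x + w, ?_⟩
    rw [map_add]
    have : HomologicalComplex.cyclesMap φ p (K.toCycles (p - 1) p x) =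
        J.toCycles (p - 1) p (φ.f (p - 1) x) := by
      have e : K.toCycles (p - 1) p ≫ HomologicalComplex.cyclesMap φ p =
          φ.f (p - 1) ≫ J.toCycles (p - 1) p := by
        rw [← cancel_mono (J.iCycles p)]
        simp
      exact congrArg (fun f => f.hom x) e
    rw [this, hy, sub_add_cancel]
  · intro h
    have e := HomologicalComplex.homologyπ_naturality φ p
    have : Epi (HomologicalComplex.cyclesMap φ p ≫ J.homologyπ p) := epi_comp _ _
    rw [← e] at this
    exact epi_of_epi (K.homologyπ p) _


end Groth.Agent.S14421
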