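import Groth.Statements.S14422
import Groth.Agent.HTor95.Tor
import Mathlib
-- import your own Groth.Agent.* helpers here

set_option autoImplicit false
universe u
open CategoryTheory
open CAlg

namespace Groth.Agent.S14422

open MonoidalCategory in
theorem main {A : Type u} [CommRing A] (M : ModuleCat.{u} A)
    (S : ShortComplex (ModuleCat.{u} A)) (hS : S.ShortExact) (i : ℕ) :
    (∃ w₀ : ((Tor (ModuleCat.{u} A) i).obj M).map S.f ≫ ((Tor (ModuleCat.{u} A) i).obj M).map S.g = 0,
        (ShortComplex.mk (((Tor (ModuleCat.{u} A) i).obj M).map S.f) (((Tor (ModuleCat.{u} A) i).obj M).map S.g) w₀).Exact) ∧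
      Epi (((Tor (ModuleCat.{u} A) 0).obj M).map S.g) ∧
      ∃ (δ : ((Tor (ModuleCat.{u} A) (i + 1)).obj M).obj S.X₃ ⟶ ((Tor (ModuleCat.{u} A) i).obj M).obj S.X₁)
        (w₁ : ((Tor (ModuleCat.{u} A) (i + 1)).obj M).map S.g ≫ δ = 0)
        (w₂ : δ ≫ ((Tor (ModuleCat.{u} A) i).obj M).map S.f = 0),
        (ShortComplex.mk (((Tor (ModuleCat.{u} A) (i + 1)).obj M).map S.g) δ w₁).Exact ∧
          (ShortComplex.mk δ (((Tor (ModuleCat.{u} A) i).obj M).map S.f) w₂).Exact := by
  let P := projectiveResolution M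
  let L := P.cochainComplex
  let e := fun n ↦ HTor95.Tor.objIso P n
  let S0' := S.map (CochainComplex.singleFunctor (ModuleCat.{u} A) 0)
  have hS0 : S0'.ShortExact := by
    have : S0' = S.map (HomologicalComplex.single (ModuleCat.{u} A) (ComplexShape.up ℤ) 0) := rfl
    rw [this]
    exact hS.map_of_exact _
  have hflat : ∀ p, Module.Flat A (L.X p) := fun p ↦
    have : Module.Projective A (L.X p) :=
      (IsProjective.iff_projective _).2 (inferInstanceAs (Projective (P.cochainComplex.X p)))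
    inferInstance
  have hT : (S0'.map (DRing.Tensor.TL L)).ShortExact :=
    DRing.Tensor.shortExact_map (L := L) S0' hS0 fun p q ↦ by
      haveI := hflat p
      have hq := hS0.map_of_exact (HomologicalComplex.eval (ModuleCat.{u} A) (.up ℤ) q)
      exact Module.Flat.lTensor_preserves_injective_linearMap _ hq.moduleCat_injective_f
  have key : ∀ (n : ℕ) {X Y : ModuleCat.{u} A} (f : X ⟶ Y),
      ((Tor (ModuleCat.{u} A) n).obj M).map f ≫ (e n).hom.app Y =
        (e n).hom.app X ≫ (HTor95.Tor.singleH L (-(n : ℤ))).map f := fun n X Y f ↦ (e n).hom.naturality f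
  refine ⟨?_, ?_, ?_⟩
  · have hz : ((Tor (ModuleCat.{u} A) i).obj M).map S.f ≫ ((Tor (ModuleCat.{u} A) i).obj M).map S.g = 0 := by
      have h0 : (HTor95.Tor.singleH L (-(i : ℤ))).map (0 : S.X₁ ⟶ S.X₃) = 0 := by
        show (HomologicalComplex.homologyFunctor _ _ _).map ((DRing.Tensor.TL L).map ((CochainComplex.singleFunctor (ModuleCat.{u} A) 0).map 0)) = 0
        rw [Functor.map_zero, Functor.map_zero, Functor.map_zero]
      have h := key i (0 : S.X₁ ⟶ S.X₃)
      rw [h0, Limits.comp_zero] at h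
      rw [← Functor.map_comp, S.zero]
      calc ((Tor (ModuleCat.{u} A) i).obj M).map (0 : S.X₁ ⟶ S.X₃)
          = ((Tor (ModuleCat.{u} A) i).obj M).map (0 : S.X₁ ⟶ S.X₃) ≫ (e i).hom.app S.X₃ ≫ (e i).inv.app S.X₃ := by
            rw [Iso.hom_inv_id_app, Category.comp_id]
        _ = 0 := by rw [← Category.assoc, h, Limits.zero_comp]
    refine ⟨hz, (ShortComplex.exact_iff_of_iso ?_).2 (hT.homology_exact₂ (-(i : ℤ)))⟩
    exact ShortComplex.isoMk ((e i).app _) ((e i).app _) ((e i).app _) (key i S.f).symm (key i S.g).symm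
  · haveI : Epi S.g := hS.epi_g
    let F := (tensoringLeft (ModuleCat.{u} A)).obj M
    haveI : Limits.PreservesFiniteColimits F := inferInstanceAs (Limits.PreservesFiniteColimits (tensorLeft M))
    show Epi ((F.leftDerived 0).map S.g)
    have h := (F.leftDerivedZeroIsoSelf).hom.naturality S.g
    have : (F.leftDerived 0).map S.g = F.leftDerivedZeroIsoSelf.hom.app _ ≫ F.map S.g ≫ F.leftDerivedZeroIsoSelf.inv.app _ := by
      rw [← Category.assoc, ← h, Category.assoc, Iso.hom_inv_id_app, Category.comp_id]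
    rw [this]
    haveI : Epi (F.map S.g) := (ModuleCat.epi_iff_surjective _).2
      (LinearMap.lTensor_surjective M ((ModuleCat.epi_iff_surjective S.g).1 inferInstance))
    exact epi_comp _ _
  · have hij : (ComplexShape.up ℤ).Rel (-((i + 1 : ℕ) : ℤ)) (-(i : ℤ)) := by
      show -((i + 1 : ℕ) : ℤ) + 1 = -(i : ℤ)
      omega
    let δ' : (HTor95.Tor.singleH L (-((i + 1 : ℕ) : ℤ))).obj S.X₃ ⟶ (HTor95.Tor.singleH L (-(i : ℤ))).obj S.X₁ :=
      hT.δ (-((i + 1 : ℕ) : ℤ)) (-(i : ℤ)) hij
    refine ⟨(e (i + 1)).hom.app _ ≫ δ' ≫ (e i).inv.app _, ?_, ?_, ?_, ?_⟩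
    · rw [← Category.assoc, key (i + 1) S.g, Category.assoc]
      have h : (HTor95.Tor.singleH L (-((i + 1 : ℕ) : ℤ))).map S.g ≫ δ' = 0 := hT.comp_δ _ _ hij
      rw [reassoc_of% h, Limits.zero_comp, Limits.comp_zero]
    · simp only [Category.assoc]
      have h2 : (e i).inv.app S.X₁ ≫ ((Tor (ModuleCat.{u} A) i).obj M).map S.f =
          (HTor95.Tor.singleH L (-(i : ℤ))).map S.f ≫ (e i).inv.app S.X₂ := ((e i).inv.naturality S.f).symm
      rw [h2]
      have h : δ' ≫ (HTor95.Tor.singleH L (-(i : ℤ))).map S.f = 0 := hT.δ_comp _ _ hij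
      rw [reassoc_of% h, Limits.zero_comp, Limits.comp_zero]
    · refine (ShortComplex.exact_iff_of_iso ?_).2 (hT.homology_exact₃ (-((i + 1 : ℕ) : ℤ)) (-(i : ℤ)) hij)
      refine ShortComplex.isoMk ((e (i + 1)).app _) ((e (i + 1)).app _) ((e i).app _) (key (i + 1) S.g).symm ?_
      show (e (i + 1)).hom.app _ ≫ δ' = ((e (i + 1)).hom.app _ ≫ δ' ≫ (e i).inv.app _) ≫ (e i).hom.app _
      rw [Category.assoc, Category.assoc, Iso.inv_hom_id_app, Category.comp_id]
    · refine (ShortComplex.exact_iff_of_iso ?_).2 (hT.homology_exact₁ (-((i + 1 : ℕ) : ℤ)) (-(i : ℤ)) hij)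
      refine ShortComplex.isoMk ((e (i + 1)).app _) ((e i).app _) ((e i).app _) ?_ (key i S.f).symm
      show (e (i + 1)).hom.app _ ≫ δ' = ((e (i + 1)).hom.app _ ≫ δ' ≫ (e i).inv.app _) ≫ (e i).hom.app _
      rw [Category.assoc, Category.assoc, Iso.inv_hom_id_app, Category.comp_id]

/-- Long exact sequence for Tor: let A be a ring, M an A-module and 0 → N' → N → N'' → 0 a short exact
sequence of A-modules; write Tor_i(M, ·) for the i-th left derived functor of M ⊗_A ·. Then for
every i the composite Tor_i(M, N') → Tor_i(M, N) → Tor_i(M, N'') is zero and the sequence is exact,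
Tor_0(M, N) → Tor_0(M, N'') is surjective, and there is a connecting map δ_i : Tor_{i+1}(M, N'') →
Tor_i(M, N') such that Tor_{i+1}(M, N) → Tor_{i+1}(M, N'') → Tor_i(M, N') and Tor_{i+1}(M, N'') →
Tor_i(M, N') → Tor_i(M, N) are exact. (Only the existence of connecting maps with these exactness
properties is asserted; the published statement refers to the natural connecting homomorphisms.) -/
theorem result (A : Type u) [CommRing A] (M : ModuleCat.{u} A)
    (S : ShortComplex (ModuleCat.{u} A)) (hS : S.ShortExact) (i : ℕ) :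
    (∃ w₀ : ((Tor (ModuleCat.{u} A) i).obj M).map S.f ≫ ((Tor (ModuleCat.{u} A) i).obj M).map S.g = 0,
        (ShortComplex.mk (((Tor (ModuleCat.{u} A) i).obj M).map S.f) (((Tor (ModuleCat.{u} A) i).obj M).map S.g) w₀).Exact) ∧
      Epi (((Tor (ModuleCat.{u} A) 0).obj M).map S.g) ∧
      ∃ (δ : ((Tor (ModuleCat.{u} A) (i + 1)).obj M).obj S.X₃ ⟶ ((Tor (ModuleCat.{u} A) i).obj M).obj S.X₁)
        (w₁ : ((Tor (ModuleCat.{u} A) (i + 1)).obj M).map S.g ≫ δ = 0)
        (w₂ : δ ≫ ((Tor (ModuleCat.{u} A) i).obj M).map S.f = 0),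
        (ShortComplex.mk (((Tor (ModuleCat.{u} A) (i + 1)).obj M).map S.g) δ w₁).Exact ∧
          (ShortComplex.mk δ (((Tor (ModuleCat.{u} A) i).obj M).map S.f) w₂).Exact := by
  exact main M S hS i

end Groth.Agent.S14422
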