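import Groth.Statements.S14442
import Mathlib.RingTheory.GradedAlgebra.Homogeneous.Ideal

set_option autoImplicit false
universe u
open GrNak

namespace Groth.Agent.S14442

/-- Let R be a commutative ℕ-graded ring with irrelevant ideal R_+ = ⊕_{i>0} R_i, M an ℕ-graded R-module
and N a graded submodule of M (closed under taking homogeneous components). If M = R_+ M + N then N
= M. (The published statement is for finitely generated ℤ-graded modules over a graded quotient of a
polynomial ring, whose degrees are then bounded below; stated here for non-negatively graded modules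
over any ℕ-graded commutative ring, where the same lowest-degree argument applies without finite
generation.) -/
theorem result {R : Type u} [CommRing R] {σ : Type u} [SetLike σ R] [AddSubmonoidClass σ R]
    (𝒜 : ℕ → σ) [GradedRing 𝒜]
    {M : Type u} [AddCommGroup M] [Module R M] {τ : Type u} [SetLike τ M] [AddSubmonoidClass τ M]
    (ℳ : ℕ → τ) [DirectSum.Decomposition ℳ] [SetLike.GradedSMul 𝒜 ℳ]
    (N : Submodule R M) (hN : ∀ x ∈ N, ∀ i : ℕ, (DirectSum.decompose ℳ x i : M) ∈ N)
    (h : (HomogeneousIdeal.irrelevant 𝒜).toIdeal • (⊤ : Submodule R M) ⊔ N = ⊤) :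
    N = ⊤ := by
  classical
  suffices H : ∀ i, ∀ x ∈ ℳ i, x ∈ N by
    rw [eq_top_iff]
    intro x _
    rw [← DirectSum.sum_support_decompose ℳ x]
    exact sum_mem fun i _ => H i _ (DirectSum.decompose ℳ x i).2
  intro i
  induction i using Nat.strong_induction_on with
  | _ i ih =>
    intro x hx
    have key : ∀ y ∈ (HomogeneousIdeal.irrelevant 𝒜).toIdeal • (⊤ : Submodule R M),
        (DirectSum.decompose ℳ y i : M) ∈ N := by
      intro y hy
      refine Submodule.smul_induction_on hy ?_ ?_
      rotate_left
      · intro a b ha hb
        rw [DirectSum.decompose_add, DirectSum.add_apply, AddMemClass.coe_add]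
        exact add_mem ha hb
      · intro r hr m _
        rw [← DirectSum.sum_support_decompose 𝒜 r, Finset.sum_smul, DirectSum.decompose_sum,
          DFinsupp.finset_sum_apply, AddSubmonoidClass.coe_finsetSum]
        refine sum_mem fun j _ => ?_
        by_cases hj : j = 0
        · subst hj
          have h0 : (DirectSum.decompose 𝒜 r 0 : R) = 0 := hr
          simp [h0]
        · rw [← DirectSum.sum_support_decompose ℳ m, Finset.smul_sum, DirectSum.decompose_sum,
            DFinsupp.finset_sum_apply, AddSubmonoidClass.coe_finsetSum]
          refine sum_mem fun k _ => ?_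
          have hmem : (DirectSum.decompose 𝒜 r j : R) • (DirectSum.decompose ℳ m k : M) ∈ ℳ (j + k) :=
            SetLike.GradedSMul.smul_mem (A := 𝒜) (B := ℳ) (DirectSum.decompose 𝒜 r j).2
              (DirectSum.decompose ℳ m k).2
          by_cases hjk : j + k = i
          · subst hjk
            rw [DirectSum.decompose_of_mem_same ℳ hmem]
            exact N.smul_mem _ (ih k (by omega) _ (DirectSum.decompose ℳ m k).2)
          · rw [DirectSum.decompose_of_mem_ne ℳ hmem hjk]
            exact zero_mem _
    obtain ⟨a, ha, b, hb, hab⟩ := Submodule.mem_sup.1 (h.symm ▸ Submodule.mem_top :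
      x ∈ (HomogeneousIdeal.irrelevant 𝒜).toIdeal • (⊤ : Submodule R M) ⊔ N)
    rw [← DirectSum.decompose_of_mem_same ℳ hx, ← hab, DirectSum.decompose_add, DirectSum.add_apply,
      AddMemClass.coe_add]
    exact add_mem (key a ha) (hN b hb i)

end Groth.Agent.S14442
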