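import Groth.Statements.S14423
import Groth.Agent.TorOne.Basic
import Groth.Agent.S14442
import Mathlib
-- import your own Groth.Agent.* helpers here

set_option autoImplicit false
universe u
open CategoryTheory
open CAlg

namespace Groth.Agent.S14423

/-- Graded freeness criterion: let k be a field, S = k[x_0, …, x_n] with its standard grading by degree,
and M a finitely generated graded S-module. If Tor_1^S(M, k) = 0, where k = S/S_+ (S modulo the
ideal of polynomials with zero constant term) and Tor_1^S(M, ·) is the first left derived functor of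
M ⊗_S ·, then M is free with a basis of homogeneous elements, i.e. M is isomorphic as a graded
module to a finite direct sum of shifted copies S(−d_i). (Here the module is graded in non-negative
degrees; the published statement allows any integer degrees.) -/
theorem result (k : Type u) [Field k] (n : ℕ)
    (M : Type u) [AddCommGroup M] [Module (MvPolynomial (Fin (n + 1)) k) M]
    [Module.Finite (MvPolynomial (Fin (n + 1)) k) M]
    (ℳ : ℕ → AddSubgroup M)
    [SetLike.GradedSMul (MvPolynomial.homogeneousSubmodule (Fin (n + 1)) k) ℳ]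
    [DirectSum.Decomposition ℳ]
    (h : Limits.IsZero (((Tor (ModuleCat.{u} (MvPolynomial (Fin (n + 1)) k)) 1).obj
      (ModuleCat.of (MvPolynomial (Fin (n + 1)) k) M)).obj
      (ModuleCat.of (MvPolynomial (Fin (n + 1)) k)
        (MvPolynomial (Fin (n + 1)) k ⧸
          RingHom.ker (MvPolynomial.constantCoeff : MvPolynomial (Fin (n + 1)) k →+* k))))) :
    ∃ (ι : Type u) (b : Module.Basis ι (MvPolynomial (Fin (n + 1)) k) M),
      ∀ i, SetLike.IsHomogeneousElem ℳ (b i) := by
  classical
  letI := MvPolynomial.gradedAlgebra (σ := Fin (n + 1)) (R := k)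
  let cc : MvPolynomial (Fin (n + 1)) k →+* k := MvPolynomial.constantCoeff
  set I := RingHom.ker cc with hI
  -- Nakayama for homogeneously generated submodules
  have hIle : I ≤ (HomogeneousIdeal.irrelevant (MvPolynomial.homogeneousSubmodule (Fin (n + 1)) k)).toIdeal := by
    intro x hx
    show GradedRing.proj (MvPolynomial.homogeneousSubmodule (Fin (n + 1)) k) 0 x = 0
    rw [GradedRing.proj_apply]
    show (MvPolynomial.decomposition.decompose' x 0 : MvPolynomial (Fin (n + 1)) k) = 0
    rw [MvPolynomial.decomposition.decompose'_apply, MvPolynomial.homogeneousComponent_zero]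
    rw [RingHom.mem_ker] at hx
    change MvPolynomial.coeff 0 x = 0 at hx
    rw [hx, map_zero]
  have hnak : ∀ t : Finset M, (∀ x ∈ t, SetLike.IsHomogeneousElem ℳ x) →
      I • (⊤ : Submodule (MvPolynomial (Fin (n + 1)) k) M) ⊔ Submodule.span _ (t : Set M) = ⊤ →
      Submodule.span (MvPolynomial (Fin (n + 1)) k) (t : Set M) = ⊤ := by
    intro t ht hsup
    refine S14442.result (MvPolynomial.homogeneousSubmodule (Fin (n + 1)) k) ℳ _ ?_ ?_
    · intro x hx i
      induction hx using Submodule.span_induction generalizing i with
      | mem y hy =>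
        obtain ⟨d, hd⟩ := ht y hy
        by_cases hdi : d = i
        · subst hdi
          rw [DirectSum.decompose_of_mem_same ℳ hd]
          exact Submodule.subset_span hy
        · rw [DirectSum.decompose_of_mem_ne ℳ hd hdi]
          exact Submodule.zero_mem _
      | zero => simp
      | add a b _ _ ha hb =>
        rw [DirectSum.decompose_add, DirectSum.add_apply, AddMemClass.coe_add]
        exact add_mem (ha i) (hb i)
      | smul r a _ ha =>
        rw [← DirectSum.sum_support_decompose (MvPolynomial.homogeneousSubmodule (Fin (n + 1)) k) r,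
          ← DirectSum.sum_support_decompose ℳ a, Finset.sum_smul, DirectSum.decompose_sum,
          DFinsupp.finset_sum_apply, AddSubmonoidClass.coe_finsetSum]
        refine sum_mem fun j _ => ?_
        rw [Finset.smul_sum, DirectSum.decompose_sum, DFinsupp.finset_sum_apply,
          AddSubmonoidClass.coe_finsetSum]
        refine sum_mem fun l _ => ?_
        have hmem : (DirectSum.decompose (MvPolynomial.homogeneousSubmodule (Fin (n + 1)) k) r j : MvPolynomial (Fin (n + 1)) k) •
            (DirectSum.decompose ℳ a l : M) ∈ ℳ (j + l) :=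
          SetLike.GradedSMul.smul_mem (A := MvPolynomial.homogeneousSubmodule (Fin (n + 1)) k) (B := ℳ)
            (DirectSum.decompose (MvPolynomial.homogeneousSubmodule (Fin (n + 1)) k) r j).2
            (DirectSum.decompose ℳ a l).2
        by_cases hjl : j + l = i
        · subst hjl
          rw [DirectSum.decompose_of_mem_same ℳ hmem]
          exact Submodule.smul_mem _ _ (ha l)
        · rw [DirectSum.decompose_of_mem_ne ℳ hmem hjl]
          exact zero_mem _
    · exact top_le_iff.mp (hsup.symm.le.trans (sup_le_sup_right (Submodule.smul_mono_left hIle) _))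
  -- minimal homogeneous generators
  have hex : ∃ N : ℕ, ∃ t : Finset M, t.card = N ∧ (∀ x ∈ t, SetLike.IsHomogeneousElem ℳ x) ∧
      Submodule.span (MvPolynomial (Fin (n + 1)) k) (t : Set M) = ⊤ := by
    obtain ⟨g, hg⟩ := (Module.Finite.fg_top : (⊤ : Submodule (MvPolynomial (Fin (n + 1)) k) M).FG)
    refine ⟨_, g.biUnion (fun x => (DirectSum.decompose ℳ x).support.image (fun i => (DirectSum.decompose ℳ x i : M))), rfl, ?_, ?_⟩
    · intro x hx
      simp only [Finset.mem_biUnion, Finset.mem_image] at hx
      obtain ⟨y, -, i, -, rfl⟩ := hx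
      exact ⟨i, (DirectSum.decompose ℳ y i).2⟩
    · rw [← top_le_iff, ← hg, Submodule.span_le]
      intro x hx
      rw [SetLike.mem_coe, ← DirectSum.sum_support_decompose ℳ x]
      refine Submodule.sum_mem _ (fun i hi => Submodule.subset_span ?_)
      exact Finset.mem_biUnion.mpr ⟨x, hx, Finset.mem_image.mpr ⟨i, hi, rfl⟩⟩
  obtain ⟨t, htc, hthom, htop⟩ := Nat.find_spec hex
  let f : (↥t → MvPolynomial (Fin (n + 1)) k) →ₗ[MvPolynomial (Fin (n + 1)) k] M :=
    Fintype.linearCombination (MvPolynomial (Fin (n + 1)) k) (fun a : ↥t => (a : M))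
  have hf : Function.Surjective f := by
    rw [← LinearMap.range_eq_top, Fintype.range_linearCombination]
    rw [Subtype.range_coe_subtype]
    exact htop
  -- relations have coefficients in `I`
  have hK : ∀ c ∈ LinearMap.ker f, ∀ a, c a ∈ I := by
    intro c hc a
    by_contra ha
    have hcc : cc (c a) ≠ 0 := fun h => ha (RingHom.mem_ker.mpr h)
    have herase : Submodule.span (MvPolynomial (Fin (n + 1)) k) ((t.erase (a : M) : Finset M) : Set M) = ⊤ := by
      refine hnak _ (fun x hx => hthom x (Finset.mem_of_mem_erase hx)) ?_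
      refine top_le_iff.mp (htop.symm.le.trans (Submodule.span_le.mpr fun x hx => ?_))
      by_cases hxa : x = (a : M)
      · subst hxa
        rw [LinearMap.mem_ker] at hc
        simp only [f, Fintype.linearCombination_apply] at hc
        rw [← Finset.add_sum_erase _ _ (Finset.mem_univ a)] at hc
        have hu : IsUnit (MvPolynomial.C (cc (c a)) : MvPolynomial (Fin (n + 1)) k) := (isUnit_iff_ne_zero.mpr hcc).map MvPolynomial.C
        rw [SetLike.mem_coe, ← Submodule.smul_mem_iff_of_isUnit _ hu]
        have hdiff : c a - MvPolynomial.C (cc (c a)) ∈ I := by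
          rw [hI, RingHom.mem_ker, map_sub]
          simp [cc]
        rw [show MvPolynomial.C (cc (c a)) • (a : M) = c a • (a : M) - (c a - MvPolynomial.C (cc (c a))) • (a : M) by
          rw [sub_smul]; abel]
        refine Submodule.sub_mem _ ?_ (Submodule.mem_sup_left (Submodule.smul_mem_smul hdiff Submodule.mem_top))
        rw [eq_neg_of_add_eq_zero_left hc]
        refine Submodule.neg_mem _ (Submodule.sum_mem _ (fun b hb => Submodule.mem_sup_right (Submodule.smul_mem _ _ (Submodule.subset_span ?_))))
        exact Finset.mem_erase.mpr ⟨fun h => (Finset.ne_of_mem_erase hb) (Subtype.ext h), b.2⟩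
      · exact Submodule.mem_sup_right (Submodule.subset_span (Finset.mem_erase.mpr ⟨hxa, hx⟩))
    have hlt : (t.erase (a : M)).card < Nat.find hex := by
      rw [← htc, Finset.card_erase_of_mem a.2]
      have := Finset.card_pos.mpr ⟨(a : M), a.2⟩
      omega
    exact Nat.find_min hex hlt ⟨_, rfl, fun x hx => hthom x (Finset.mem_of_mem_erase hx), herase⟩
  -- the Tor hypothesis
  have hTor := (TorOne.isZero_tor_one_iff (M := MvPolynomial (Fin (n + 1)) k ⧸ I) M
    (Submodule.mkQ I) (Submodule.mkQ_surjective I)).mp h
  have hinj : Function.Injective ((LinearMap.ker f).subtype.lTensor (MvPolynomial (Fin (n + 1)) k ⧸ I)) := by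
    refine TorOne.injective_of_quotient (M := M) f hf rfl (Submodule.subtype I) (Submodule.mkQ I)
      (LinearMap.exact_subtype_mkQ I) (Submodule.mkQ_surjective I) ?_ ?_
    · intro x y hxy
      obtain ⟨x, rfl⟩ := (TensorProduct.comm _ M ↥I).surjective x
      obtain ⟨y, rfl⟩ := (TensorProduct.comm _ M ↥I).surjective y
      have hcomm : ∀ z, (Submodule.subtype I).rTensor M (TensorProduct.comm _ M ↥I z) =
          TensorProduct.comm _ M _ ((Submodule.subtype I).lTensor M z) := fun z => by
        induction z with
        | zero => simp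
        | tmul a b => rfl
        | add a b ha hb => simp only [map_add, ha, hb]
      rw [hcomm, hcomm] at hxy
      have hxy' := (TensorProduct.comm _ M _).injective hxy
      congr 1
      have hk : LinearMap.ker (Submodule.mkQ I) = I := Submodule.ker_mkQ I
      let e : ↥I ≃ₗ[MvPolynomial (Fin (n + 1)) k] ↥(LinearMap.ker (Submodule.mkQ I)) := LinearEquiv.ofEq _ _ hk.symm
      have hcomp : (LinearMap.ker (Submodule.mkQ I)).subtype ∘ₗ e.toLinearMap = Submodule.subtype I := LinearMap.ext fun _ => rfl
      rw [← hcomp, LinearMap.lTensor_comp] at hxy'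
      exact (LinearEquiv.lTensor M e).injective (hTor hxy')
    · exact Module.Flat.lTensor_preserves_injective_linearMap _ (LinearMap.ker f).injective_subtype
  have hzero : ∀ v : ↥t → MvPolynomial (Fin (n + 1)) k, (∀ a, v a ∈ I) →
      (Ideal.Quotient.mk I 1) ⊗ₜ[MvPolynomial (Fin (n + 1)) k] v = 0 := by
    intro v hv
    rw [pi_eq_sum_univ' v, TensorProduct.tmul_sum]
    refine Finset.sum_eq_zero (fun a _ => ?_)
    rw [TensorProduct.tmul_smul, TensorProduct.smul_tmul', Algebra.smul_def, Ideal.Quotient.algebraMap_eq,
      ← map_mul, mul_one, Ideal.Quotient.eq_zero_iff_mem.mpr (hv a), TensorProduct.zero_tmul]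
  have hKle : LinearMap.ker f ≤ I • LinearMap.ker f := by
    intro c hc
    have h0 : (LinearMap.ker f).subtype.lTensor (MvPolynomial (Fin (n + 1)) k ⧸ I) (Ideal.Quotient.mk I 1 ⊗ₜ ⟨c, hc⟩) = 0 := by
      rw [LinearMap.lTensor_tmul, Submodule.subtype_apply]
      exact hzero c (hK c hc)
    have h1 := hinj (h0.trans (map_zero _).symm)
    have h2 := congrArg (TensorProduct.quotTensorEquivQuotSMul (LinearMap.ker f) I) h1
    erw [TensorProduct.quotTensorEquivQuotSMul_mk_one_tmul, map_zero, Submodule.Quotient.mk_eq_zero] at h2
    have := Submodule.mem_map_of_mem (f := (LinearMap.ker f).subtype) h2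
    rw [Submodule.map_smul'', Submodule.map_top, Submodule.range_subtype] at this
    exact this
  have hK0 : LinearMap.ker f = ⊥ := by
    obtain ⟨r, hr, hr'⟩ := Submodule.exists_sub_one_mem_and_smul_eq_zero_of_fg_of_le_smul I (LinearMap.ker f)
      (IsNoetherian.noetherian _) hKle
    rw [Submodule.eq_bot_iff]
    intro c hc
    have hr0 : r ≠ 0 := by
      rintro rfl
      rw [hI, RingHom.mem_ker, zero_sub, map_neg, map_one, neg_eq_zero] at hr
      exact one_ne_zero hr
    funext a
    have := congrFun (hr' c hc) a
    simp only [Pi.smul_apply, smul_eq_mul, Pi.zero_apply, mul_eq_zero] at this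
    exact this.resolve_left hr0
  refine ⟨↥t, (Pi.basisFun _ _).map (LinearEquiv.ofBijective f ⟨LinearMap.ker_eq_bot.mp hK0, hf⟩), fun a => ?_⟩
  rw [Module.Basis.map_apply, Pi.basisFun_apply]
  show SetLike.IsHomogeneousElem ℳ (f (Pi.single a 1))
  simp only [f, Fintype.linearCombination_apply_single, one_smul]
  exact hthom _ a.2

end Groth.Agent.S14423
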