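import Groth.Statements.S14426
import Groth.Agent.KoszulCech.Extra

set_option autoImplicit false
universe u
open Koszul3

namespace Groth.Agent.S14426

open Groth.Agent.KoszulCech

open CategoryTheory CategoryTheory.Limits in
/-- Let (R, m) be a Noetherian local ring, M a nonzero finitely generated R-module and x_1, …, x_n
elements of m generating the ideal a. Then depth(a, M) ≤ n; the Koszul cohomology H^p(x; M) vanishes
for every p < depth(a, M); and H^r(x; M) is nonzero for r = depth(a, M). (Cohomological indexing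
with H^n(x; M) = M/(x)M; in homological indexing this reads H_i = 0 for i > n − r and H_{n−r} ≠ 0.
Koszul complex realised by iterated mapping cones, as in the prelude.) -/
theorem result {R : Type u} [CommRing R] [IsNoetherianRing R] [IsLocalRing R]
    (M : Type u) [AddCommGroup M] [Module R M] [Module.Finite R M] [Nontrivial M]
    (xs : List R) (hxs : ∀ x ∈ xs, x ∈ IsLocalRing.maximalIdeal R) :
    LocCoh.idealDepth (Ideal.span {x | x ∈ xs}) M ≤ xs.length ∧
      (∀ p : ℕ, (p : ℕ∞) < LocCoh.idealDepth (Ideal.span {x | x ∈ xs}) M → IsZero (CohIII.koszulH xs (ModuleCat.of R M) p)) ∧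
      (∀ r : ℕ, LocCoh.idealDepth (Ideal.span {x | x ∈ xs}) M = r → ¬ IsZero (CohIII.koszulH xs (ModuleCat.of R M) r)) := by
  have hle : Ideal.span {x | x ∈ xs} ≤ IsLocalRing.maximalIdeal R := Ideal.span_le.mpr hxs
  have hne := Groth.Agent.Depth.smul_top_ne_top_of_le_maximalIdeal (M := M) hle
  obtain ⟨d, hd⟩ : ∃ d : ℕ, LocCoh.idealDepth (Ideal.span {x | x ∈ xs}) M = d :=
    ⟨_, (ENat.coe_toNat (Groth.Agent.Depth.idealDepth_lt_top hne).ne).symm⟩
  obtain ⟨h₁, h₂⟩ := depth_sensitivity xs hle d M hd
  rw [hd]
  refine ⟨?_, fun p hp => ?_, fun r hr hz => ?_⟩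
  · by_contra hlt
    have : xs.length < d := by exact_mod_cast not_le.mp hlt
    exact h₂ (subsingleton_homology _ xs _ (Or.inl (by omega)))
  · have hp' : p < d := by exact_mod_cast hp
    have := h₁ ((p : ℤ) - xs.length) (by omega)
    exact ModuleCat.isZero_of_subsingleton _
  · obtain rfl : d = r := by exact_mod_cast hr
    exact h₂ (ModuleCat.subsingleton_of_isZero hz)

end Groth.Agent.S14426
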