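import Groth.Statements.S14427
import Groth.Agent.PlanePts.Sep

set_option autoImplicit false
universe u
open CAlgX

namespace Groth.Agent.S14427

/-- Let k be a field and Λ a set of n ≥ 3 nonzero vectors of k^3 which are pairwise linearly
independent, i.e. n distinct k-rational points of the projective plane. Then the space of
homogeneous forms of degree n − 1 in k[x_0, x_1, x_2] vanishing at every point of Λ — the global
sections of I_Λ(n − 1) — has dimension C(n+1, 2) − n over k, the same for all such Λ. (The published
statement is over an algebraically closed field; this row allows any field and k-rational points,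
which is all its argument uses.) -/
theorem result (k : Type u) [Field k] (n : ℕ) (hn : 3 ≤ n)
    (Λ : Finset (Fin 3 → k)) (hcard : Λ.card = n) (h0 : ∀ v ∈ Λ, v ≠ 0)
    (hdist : ∀ v ∈ Λ, ∀ w ∈ Λ, v ≠ w → LinearIndependent k ![v, w]) :
    Module.finrank k ↥(MvPolynomial.homogeneousSubmodule (Fin 3) k (n - 1) ⊓ ⨅ v ∈ Λ, LinearMap.ker (MvPolynomial.aeval v).toLinearMap) = Nat.choose (n + 1) 2 - n := by
  classical
  set F := MvPolynomial.homogeneousSubmodule (Fin 3) k (n - 1)
  let ev : MvPolynomial (Fin 3) k →ₗ[k] (Λ → k) := LinearMap.pi fun v => (MvPolynomial.aeval (v : Fin 3 → k)).toLinearMap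
  have hker : (⨅ v ∈ Λ, LinearMap.ker (MvPolynomial.aeval v).toLinearMap) = LinearMap.ker ev := by
    ext g
    simp [ev, Submodule.mem_iInf, funext_iff]
  rw [hker]
  have h1 := (ev.domRestrict F).finrank_range_add_finrank_ker
  have h2 : LinearMap.range (ev.domRestrict F) = ⊤ := by
    rw [eq_top_iff]
    intro c _
    choose F' hF hv hw using fun v : Λ => Groth.Agent.PlanePts.exists_sep Λ hdist v.2
    refine ⟨⟨∑ v : Λ, (c v / MvPolynomial.eval (v : Fin 3 → k) (F' v)) • F' v,
      Submodule.sum_mem _ fun v _ => Submodule.smul_mem _ _ (show F' v ∈ F from by have := hF v; rwa [hcard] at this)⟩, funext fun w => ?_⟩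
    show MvPolynomial.aeval (w : Fin 3 → k) (∑ v : Λ, _) = c w
    rw [map_sum, Finset.sum_eq_single w]
    · simp [MvPolynomial.aeval_eq_eval, MvPolynomial.smul_eval, hv w]
    · intro v _ hne
      simp [MvPolynomial.aeval_eq_eval, MvPolynomial.smul_eval,
        hw v w w.2 (fun h => hne (Subtype.ext h.symm))]
    · simp
  rw [h2, finrank_top, Module.finrank_fintype_fun_eq_card, Fintype.card_coe, hcard,
    Groth.Agent.PlanePts.finrank_forms, LinearMap.ker_domRestrict,
    LinearEquiv.finrank_eq ((Submodule.equivMapOfInjective F.subtype F.injective_subtype _).trans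
      (LinearEquiv.ofEq _ _ (Submodule.map_comap_subtype _ _))),
    show 2 + (n - 1) = n + 1 by omega] at h1
  omega

end Groth.Agent.S14427
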