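import Groth.Statements.S14429
import Groth.Agent.ProjTwist.Pn.LinearRes
import Groth.Agent.CohDev.K0
import Groth.Agent.EulerChar.Deg
import Groth.Agent.PlanePts.Forms
-- import your own Groth.Agent.* helpers here

set_option autoImplicit false
universe u
open CategoryTheory CategoryTheory.Limits AlgebraicGeometry
open KZero

namespace Groth.Agent.S14429

open CategoryTheory CategoryTheory.Limits AlgebraicGeometry
open Groth.Agent.ProjTwist.Pn Groth.Agent.CohDev Twist

variable {n : ℕ} {k : Type u} [Field k]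

/-- The class of a finite free twist. -/
theorem kcl_copies {X : Scheme.{u}} {A : X.Modules} (hA : Coh.IsCoh A) : ∀ b : ℕ,
    Coh.IsCoh (∐ fun _ : Fin b => A) ∧ kcl (∐ fun _ : Fin b => A) = (b : ℤ) • kcl A := by
  intro b
  induction b with
  | zero =>
    have hz : IsZero (∐ fun _ : Fin 0 => A) :=
      (IsZero.iff_id_eq_zero _).2 (Sigma.hom_ext _ _ fun i => i.elim0)
    exact ⟨isCoh_of_isZero hz, by rw [kcl_of_isZero hz, Nat.cast_zero, zero_smul]⟩
  | succ b ih =>
    let e : (∐ fun _ : Fin b => A) ⊞ A ≅ ∐ fun _ : Fin (b + 1) => A :=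
      { hom := biprod.desc (Sigma.desc fun i => Sigma.ι (fun _ : Fin (b + 1) => A) i.castSucc)
          (Sigma.ι (fun _ : Fin (b + 1) => A) (Fin.last b))
        inv := Sigma.desc (Fin.lastCases biprod.inr fun i => Sigma.ι (fun _ : Fin b => A) i ≫ biprod.inl)
        hom_inv_id := by
          apply biprod.hom_ext'
          · refine Sigma.hom_ext _ _ fun i => ?_
            simp
          · simp
        inv_hom_id := by
          refine Sigma.hom_ext _ _ fun i => ?_
          refine Fin.lastCases ?_ (fun j => ?_) i <;> simp }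
    refine ⟨CohDev.isCoh_of_iso e (isCoh_biprod ih.1 hA), ?_⟩
    rw [← kcl_iso e (isCoh_biprod ih.1 hA), kcl_biprod ih.1 hA, ih.2, Nat.cast_succ, add_smul, one_smul]

/-- The class of a regular module in terms of `n + 1` consecutive twists. -/
theorem res_step : ∀ (c : ℕ), c ≤ n + 1 → ∀ (F : (CohB1.ProjSpace n k).Modules), Coh.IsCoh F →
    ∀ m : ℤ, Curv2.IsMRegular k n F m →
    (∀ i, i < n + 1 - c → Subsingleton (Coh.HH (CohB1.ProjSpace n k) (twF F (m - 1 - i)) i)) →
    ∃ a : ℕ → ℤ, kcl F = ∑ i ∈ Finset.range c, a i • kcl (twistProjSpace n k (-(m + i))) := by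
  haveI := isLocallyNoetherian_projSpace n k
  intro c
  induction c with
  | zero =>
    intro _ F hF m _ hv
    have hr : Curv2.IsMRegular k n F (m - 1) := fun i _ hin => hv i (by omega)
    obtain ⟨b, φ, hφ, -, -, hb⟩ := exists_min_epi_of_isMRegular hF hr
    haveI := hφ
    have hb0 : b = 0 := by
      rw [hb, h0Tw]
      haveI : Subsingleton (Coh.HH (CohB1.ProjSpace n k) (twF F (m - 1)) 0) := by
        have h0 := hv 0 (by omega)
        simpa using h0
      exact Module.finrank_zero_of_subsingleton
    subst hb0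
    have hzero : φ = 0 := Sigma.hom_ext _ _ fun i => i.elim0
    have hz : IsZero F := (IsZero.iff_id_eq_zero _).2 (by rw [← cancel_epi φ]; simp [hzero])
    exact ⟨0, by rw [kcl_of_isZero hz, Finset.sum_range_zero]⟩
  | succ c ih =>
    intro hc F hF m hr hv
    obtain ⟨b, φ, hφ, hK, hK0, hb⟩ := exists_min_epi_of_isMRegular hF hr
    haveI := hφ
    obtain ⟨hS₂, hsum⟩ := kcl_copies (isCoh_twistProjSpace n k (-m)) b
    have hKc : Coh.IsCoh (kernel φ) := CohDev.isCoh_kernel φ hS₂ hF.1
    have hS := shortExact_kernel φ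
    have hv' : ∀ i, i < n + 1 - c →
        Subsingleton (Coh.HH (CohB1.ProjSpace n k) (twF (kernel φ) (m + 1 - 1 - i)) i) := by
      intro i hi
      rcases i with _ | q
      · haveI := finite_hh (isCoh_tw hKc m) 0
        have h0 : Subsingleton (Coh.HH (CohB1.ProjSpace n k) (twF (kernel φ) m) 0) :=
          (Module.finrank_zero_iff (R := k)).1 hK0
        simpa using h0
      · have hT := shortExact_tw hS (m + 1 - 1 - ((q + 1 : ℕ) : ℤ))
        refine subsingleton_of_forall_eq 0 fun x => ?_
        have hmid := subsingleton_sum_twist (n := n) (k := k) b m (m + 1 - 1 - ((q + 1 : ℕ) : ℤ)) (q + 1)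
          (by omega) (by push_cast; omega)
        obtain ⟨y, hy⟩ := CohLin.exists_hδ_eq hT x (hmid.elim _ _)
        have hq : Subsingleton (Coh.HH (CohB1.ProjSpace n k) (twF F (m + 1 - 1 - ((q + 1 : ℕ) : ℤ))) q) := by
          rw [show m + 1 - 1 - ((q + 1 : ℕ) : ℤ) = m - 1 - q by push_cast; ring]
          exact hv q (by omega)
        rw [← hy, hq.elim y 0]
        exact map_zero _
    obtain ⟨a, ha⟩ := ih (by omega) (kernel φ) hKc (m + 1) hK hv'
    refine ⟨fun i => if i = 0 then (b : ℤ) else -a (i - 1), ?_⟩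
    have hadd := kcl_add hS hKc hS₂ hF
    change kcl (∐ fun _ : Fin b => twistProjSpace n k (-m)) = kcl (kernel φ) + kcl F at hadd
    rw [hsum, ha] at hadd
    rw [Finset.sum_range_succ', eq_sub_of_add_eq' hadd.symm, sub_eq_add_neg, ← Finset.sum_neg_distrib, add_comm]
    congr 1
    · refine Finset.sum_congr rfl fun i _ => ?_
      simp only [Nat.succ_ne_zero, if_false, Nat.add_sub_cancel, neg_smul]
      congr 4
      push_cast
      ring
    · simp

theorem reg_twist (d m : ℤ) (h : -m ≤ d) : Curv2.IsMRegular k n (twistProjSpace n k d) m := by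
  intro i hi hin
  haveI := subsingleton_twist_of_le (n := n) (k := k) i hi (d := d + (m - i)) (by omega)
  exact subsingleton_of_iso (ProjTwist.nonempty_twistProjSpace_tensor n k d (m - i)).some.symm i

theorem res_full {F : (CohB1.ProjSpace n k).Modules} (hF : Coh.IsCoh F) {m : ℤ}
    (hr : Curv2.IsMRegular k n F m) :
    ∃ a : ℕ → ℤ, kcl F = ∑ i ∈ Finset.range (n + 1), a i • kcl (twistProjSpace n k (-(m + i))) :=
  res_step (n + 1) le_rfl F hF m hr fun i hi => absurd hi (by omega)

/-- `χ(O(e))` away from the top degree. -/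
theorem chi_ge (e : ℤ) (he : -(n : ℤ) ≤ e) :
    Curv2.euler k (CohB1.ProjSpace n k) (twistProjSpace n k e) = if e < 0 then 0 else ((n + e.toNat).choose n : ℤ) := by
  haveI : IsProper (CohB1.ProjSpace n k ↘ Spec (CommRingCat.of k)) := ProjProper.Basic.isProper_toSpec n k
  rw [EulerChar.euler_eq_sum k (t := 1) fun i hi => subsingleton_twist_of_le i hi he]
  split_ifs with h
  · haveI := ProjTwist.Pn.subsingleton_H0 (n := n) (R := k) (d := e) (by omega) h
    simp [Module.finrank_zero_of_subsingleton]
  · obtain ⟨d, rfl⟩ := Int.eq_ofNat_of_zero_le (not_lt.1 h)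
    simp [(h0Equiv n k d).finrank_eq.symm, PlanePts.finrank_forms]

theorem isCoh_twist' (d : ℤ) : Coh.IsCoh (twistProjSpace n k d) := isCoh_twistProjSpace n k d

/-- `F ↦ χ(F(t))` on `K₀`. -/
theorem exists_chiHom (t : ℤ) : ∃ φ : SGA6.Kcoh (CohB1.ProjSpace n k) →+ ℤ,
    ∀ d : ℤ, φ (kcl (twistProjSpace n k d)) = Curv2.euler k (CohB1.ProjSpace n k) (twistProjSpace n k (d + t)) := by
  haveI : IsProper (CohB1.ProjSpace n k ↘ Spec (CommRingCat.of k)) := ProjProper.Basic.isProper_toSpec n k
  refine ⟨EulerChar.liftK (fun F => chi F t) fun S hS h₁ h₂ h₃ => chi_add hS h₁ h₂ h₃ t, fun d => ?_⟩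
  rw [EulerChar.liftK_kcl _ _ (isCoh_twistProjSpace n k d)]
  exact EulerChar.euler_iso k (ProjTwist.nonempty_twistProjSpace_tensor n k d t).some

theorem mem_span (d : ℤ) : kcl (twistProjSpace n k d) ∈
    AddSubgroup.closure (Set.range fun i : Fin (n + 1) => kcl (twistProjSpace n k (-((i : ℕ) : ℤ)))) := by
  classical
  set S := AddSubgroup.closure (Set.range fun i : Fin (n + 1) => kcl (twistProjSpace n k (-((i : ℕ) : ℤ))))
  have hbase : ∀ {F : (CohB1.ProjSpace n k).Modules}, Coh.IsCoh F → Curv2.IsMRegular k n F 0 → kcl F ∈ S := by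
    intro F hF hr
    obtain ⟨a, ha⟩ := res_full hF hr
    rw [ha]
    refine sum_mem fun i hi => ?_
    have hi' : kcl (twistProjSpace n k (-((0 : ℤ) + i))) ∈ S :=
      AddSubgroup.subset_closure ⟨(⟨i, Finset.mem_range.1 hi⟩ : Fin (n + 1)), by simp⟩
    exact zsmul_mem hi' _
  rcases Nat.eq_zero_or_pos n with rfl | hn
  · exact hbase (isCoh_twist' d) fun i hi hin => absurd hin (by omega)
  suffices H : ∀ q : ℕ, ∀ e : ℤ, -((n : ℤ) + q) ≤ e → kcl (twistProjSpace n k e) ∈ S from
    H (-(d + n)).toNat d (by omega)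
  intro q
  induction q with
  | zero =>
    intro e he
    rcases le_or_gt 0 e with h | h
    · exact hbase (isCoh_twist' e) (reg_twist e 0 (by omega))
    · refine AddSubgroup.subset_closure ⟨⟨(-e).toNat, by omega⟩, ?_⟩
      simp only
      congr 2
      omega
  | succ q ih =>
    intro e he
    rcases lt_or_ge e (-((n : ℤ) + q)) with h | h
    swap
    · exact ih e h
    obtain ⟨a, ha⟩ := res_full (isCoh_twist' (n := n) (k := k) (e + n + 1)) (m := -(e + n))
      (fun i hi hin => reg_twist (e + n + 1) (-(e + n)) (by omega) i hi hin)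
    obtain ⟨φ, hφ⟩ := exists_chiHom (n := n) (k := k) (-(e + n + 1))
    have hev := congrArg φ ha
    rw [hφ, map_sum, Finset.sum_range_succ] at hev
    have hz : ∑ i ∈ Finset.range n, φ (a i • kcl (twistProjSpace n k (-(-(e + n) + (i : ℤ))))) = 0 := by
      refine Finset.sum_eq_zero fun i hi => ?_
      have := Finset.mem_range.1 hi
      rw [map_zsmul, hφ, chi_ge _ (by omega), if_pos (by omega), smul_zero]
    rw [hz, zero_add, map_zsmul, hφ, show e + n + 1 + -(e + n + 1) = (0 : ℤ) by ring, chi_ge 0 (by omega)] at hev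
    simp only [lt_self_iff_false, if_false, Int.toNat_zero, Nat.add_zero, Nat.choose_self, Nat.cast_one, smul_eq_mul] at hev
    have hunit : IsUnit (a n) := IsUnit.of_mul_eq_one _ hev.symm
    have hmem : a n • kcl (twistProjSpace n k e) ∈ S := by
      rw [Finset.sum_range_succ, show (-(-(e + n) + (n : ℤ))) = e by ring] at ha
      rw [eq_sub_of_add_eq' ha.symm]
      refine sub_mem (ih _ (by omega)) (sum_mem fun i hi => zsmul_mem (ih _ ?_) _)
      have := Finset.mem_range.1 hi
      omega
    rcases Int.isUnit_iff.1 hunit with h1 | h1 <;> rw [h1] at hmem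
    · simpa using hmem
    · simpa using hmem


/-- Let k be an algebraically closed field and n ≥ 0. The Grothendieck group of coherent sheaves on
P^n_k (K_0 of the full subcategory of O-modules on the coherent ones, with relations from short
exact sequences) is freely generated by the classes of O, O(−1), …, O(−n): the homomorphism ℤ^{n+1}
→ K_0 sending (a_0, …, a_n) to Σ a_i [O(−i)] is bijective. -/
theorem result (k : Type u) [Field k] [IsAlgClosed k] (n : ℕ) :
    Function.Bijective (fun a : Fin (n + 1) → ℤ =>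
      ∑ i : Fin (n + 1), a i • KZero.clSub (fun M : (CohB1.ProjSpace n k).Modules => Coh.IsCoh M)
        (Twist.twistProjSpace n k (-((i : ℕ) : ℤ)))) := by
  classical
  constructor
  · intro a b hab
    have key : ∀ c : Fin (n + 1) → ℤ,
        (∑ i : Fin (n + 1), c i • kcl (twistProjSpace n k (-((i : ℕ) : ℤ)))) = 0 → c = 0 := by
      intro c hc
      suffices H : ∀ j : ℕ, ∀ h : j < n + 1, c ⟨j, h⟩ = 0 from funext fun i => H i i.2
      intro j
      induction j using Nat.strong_induction_on with
      | _ j ih =>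
        intro h
        obtain ⟨φ, hφ⟩ := exists_chiHom (n := n) (k := k) j
        have hev := congrArg φ hc
        rw [map_sum, map_zero, Finset.sum_eq_single ⟨j, h⟩ (fun i _ hi => ?_) (fun hh => absurd (Finset.mem_univ _) hh)] at hev
        · rw [map_zsmul, hφ, show -((j : ℕ) : ℤ) + j = 0 by ring, chi_ge 0 (by omega)] at hev
          simpa using hev
        · rw [map_zsmul, hφ]
          rcases lt_trichotomy (i : ℕ) j with hlt | heq | hgt
          · rw [show c i = 0 from ih i hlt i.2, zero_smul]
          · exact absurd (Fin.ext heq) hi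
          · rw [chi_ge _ (by omega), if_pos (by omega), smul_zero]
    refine sub_eq_zero.1 (key (a - b) ?_)
    simp only [Pi.sub_apply, sub_smul, Finset.sum_sub_distrib]
    exact sub_eq_zero.2 hab
  · intro x
    suffices H : x ∈ AddSubgroup.closure
        (Set.range fun i : Fin (n + 1) => kcl (twistProjSpace n k (-((i : ℕ) : ℤ)))) by
      induction H using AddSubgroup.closure_induction with
      | mem y hy =>
        obtain ⟨i, rfl⟩ := hy
        refine ⟨Pi.single i 1, ?_⟩
        beta_reduce
        rw [Finset.sum_eq_single i]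
        · simp
        · intro j _ hj; simp [Pi.single_eq_of_ne hj]
        · simp
      | zero => exact ⟨0, by simp⟩
      | add y z _ _ hy hz =>
        obtain ⟨a, rfl⟩ := hy
        obtain ⟨b, rfl⟩ := hz
        exact ⟨a + b, by simp [add_smul, Finset.sum_add_distrib]⟩
      | neg y _ hy =>
        obtain ⟨a, rfl⟩ := hy
        exact ⟨-a, by simp [Finset.sum_neg_distrib]⟩
    refine kcl_induction (motive := fun x => x ∈ _) (zero_mem _) (fun F hF => ?_) (fun _ => neg_mem)
      (fun _ _ => add_mem) x
    obtain ⟨d₀, hd₀⟩ := ProjTwist.Pn.serre_vanishing F hF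
    have hm : Curv2.IsMRegular k n F (d₀ + n) := fun i hi hin => hd₀ _ (by omega) i (by omega)
    obtain ⟨a, ha⟩ := res_full hF hm
    rw [ha]
    exact sum_mem fun i _ => zsmul_mem (mem_span _) _

end Groth.Agent.S14429
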