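import Groth.Statements.S1443
import Groth.Agent.VanQC.Model
import Groth.Agent.S7411
import Groth.Agent.CohTop.CechBasic
import Groth.Agent.CohTop.Restrict
import Groth.Agent.LocCoh.Punctured

set_option autoImplicit false
universe u
open FlatMor

namespace Groth.Agent.S1443

open AlgebraicGeometry CategoryTheory Limits in
/-- Let f : X → Y be a proper morphism with Y affine such that every fibre X_y has dimension ≤ 1 and
H¹(X_y, O_{X_y}) = 0. Then H^p(X, F) = 0 for every quasi-coherent O_X-module F and every p ≥ 2. -/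
theorem result {X Y : Scheme.{u}} (f : X ⟶ Y) [IsProper f] [IsAffine Y]
    (hdim : ∀ y : Y, topologicalKrullDim ↑(f.fiber y) ≤ 1) (hH1 : ∀ y : Y, Subsingleton (Coh.HH (f.fiber y) (Coh.structureModule (f.fiber y)) 1))
    (F : X.Modules) (hF : Coh.IsQCoh F) (p : ℕ) (hp : 2 ≤ p) : Subsingleton (Coh.HH X F p) := by
  haveI : F.IsQuasicoherent := hF
  haveI : Coh.IsQCoh F := hF
  obtain ⟨n, rfl⟩ : ∃ n, p = n + 1 := ⟨p - 1, by omega⟩
  obtain ⟨D⟩ := Groth.Agent.CBC.nonempty_model f (isAffineOpen_top Y)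
  have hcov : iSup D.U = ⊤ := top_le_iff.mp D.cov
  have hvan : Subsingleton Γ((Coh.Rpush f (n + 1)).obj F, ⊤) :=
    Groth.Agent.VanQC.subsingleton_rpush_sections f F (n + 1) ⊤ fun y _ =>
      Groth.Agent.S7411.result f y 1 (hdim y) F (n + 1) (by omega)
  have hex := Groth.Agent.VanQC.cechExact_of_subsingleton_rpush D F (isAffineOpen_top Y) n hvan
  obtain ⟨c⟩ := Groth.Agent.CohTop.CechBasic.cech_eq_HU D.U (n + 1) (Coh.toAb F)
    (fun m x q => Groth.Agent.LocCoh.Punctured.subsingleton_HU_of_isAffineOpen F (D.aff x) q)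
  have h1 : Subsingleton (CohTop.cechH (Coh.toAb F).obj D.U (n + 1)) :=
    AddCommGrpCat.subsingleton_of_isZero
      ((Groth.Agent.CohAff.isZero_homology_iff_cechExact _ D.U n).mpr hex)
  have h2 : Subsingleton (CohTop.HU (Coh.toAb F) (n + 1) ⊤) :=
    hcov ▸ c.symm.toEquiv.subsingleton
  exact (Groth.Agent.CohTop.Basic.HEquivHUTop (Coh.toAb F) (n + 1)).toEquiv.subsingleton

end Groth.Agent.S1443
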