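import Groth.Statements.S3746
import Groth.Agent.ResK0.Resolution
import Groth.Agent.RegLoc.Homological

set_option autoImplicit false
universe v u
open CategoryTheory CategoryTheory.Limits AlgebraicGeometry
attribute [local instance] HasDerivedCategory.standard
open KRR

namespace Groth.Agent.S3746

/-- Let X be a Noetherian scheme all of whose local rings are regular, on which every coherent module is
a quotient of a finite locally free module (the source assumes an ample invertible module, which it
uses only through this property). Then the homomorphism δ : K₀(finite locally free O_X-modules) ⟶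
K₀(coherent O_X-modules) induced by the inclusion (recorded by the argument h) is bijective. -/
theorem result (X : Scheme.{u}) [IsNoetherian X]
    (hreg : ∀ x : X, IsRegularLocalRing (X.presheaf.stalk x)) (hX : KRR.HasEnoughLocFree X)
    (h : ∀ M : X.Modules, FlatMod.IsFinLocFree M → Coh.IsCoh M) :
    Function.Bijective (SGA6.mapSub (𝟭 X.Modules) (KRR.vbP X) (fun M : X.Modules => Coh.IsCoh M) h) := by
  haveI : ∀ x : X, IsNoetherianRing (X.presheaf.stalk x) := fun x => inferInstance
  have H := Groth.Agent.ResK0.PdSyz.hyp hX
  refine Groth.Agent.ResK0.Resolution.bijective_mapSub hX _ (fun M hM => hM)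
    (fun L M p hp hL hM => H.kernel₁ p (H.le _ hL) hM) (fun M hM => ?_) h
  refine Groth.Agent.ResK0.PdSyz.exists_syzP hX hM fun x => ?_
  haveI := hreg x
  exact ⟨_, Groth.Agent.RegLoc.Homological.pd_le_dim (R := X.presheaf.stalk x)
    ((IsRegularLocalRing.iff_finrank_cotangentSpace _).1 (hreg x)).symm _⟩

end Groth.Agent.S3746
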