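import Groth.Statements.S14430
import Groth.Agent.S3746
import Groth.Agent.S1109
import Groth.Agent.CurveDVR.Stalk
import Groth.Agent.ProjTwist.Pn.Finite
import Groth.Agent.ProjProper.Basic
import Groth.Agent.KRR49.CohCompat
-- import your own Groth.Agent.* helpers here

set_option autoImplicit false
universe u
open CategoryTheory CategoryTheory.Limits AlgebraicGeometry
open KZero

namespace Groth.Agent.S14430

/-- Let k be an algebraically closed field and X a smooth quasi-projective variety over k — here a
k-scheme smooth over k admitting an immersion into some P^N_k over k. Write K^0(X) for the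
Grothendieck group of finite locally free O_X-modules and K_0(X) for that of coherent O_X-modules
(K_0 of the corresponding full subcategories of O_X-modules, with relations from short exact
sequences all of whose terms lie in the subcategory). Then there is a homomorphism K^0(X) → K_0(X)
sending the class of each finite locally free E to its class as a coherent module (the canonical
one, determined by this), and it is bijective. (The published statement is for smooth
quasi-projective varieties; this row takes a k-scheme smooth over k with an immersion into some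
P^N_k, reduced since smooth; irreducibility is not assumed.) -/
theorem result (k : Type u) [Field k] [IsAlgClosed k] (N : ℕ)
    (X : Scheme.{u}) [X.Over (Spec (CommRingCat.of k))] [Smooth (X ↘ Spec (CommRingCat.of k))]
    (ι : X ⟶ CohB1.ProjSpace N k) [IsImmersion ι] (hι : ι ≫ CohB1.ProjSpace.toSpec N k = X ↘ Spec (CommRingCat.of k)) :
    ∃ α : KZero.K0sub (fun M : X.Modules => FlatMod.IsFinLocFree M) →+ KZero.K0sub (fun M : X.Modules => Coh.IsCoh M),
      (∀ E : X.Modules, FlatMod.IsFinLocFree E →
        α (KZero.clSub (fun M : X.Modules => FlatMod.IsFinLocFree M) E) = KZero.clSub (fun M : X.Modules => Coh.IsCoh M) E) ∧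
      Function.Bijective α := by
  haveI : IsSeparated (X ↘ Spec (CommRingCat.of k)) := by
    haveI : IsProper (CohB1.ProjSpace.toSpec N k) := ProjProper.Basic.isProper_toSpec N k
    rw [← hι]; infer_instance
  haveI : X.IsSeparated := ⟨by
    rw [← terminalIsTerminal.hom_ext ((X ↘ Spec (CommRingCat.of k)) ≫ terminal.from _) (terminal.from X)]
    infer_instance⟩
  haveI : IsLocallyNoetherian (CohB1.ProjSpace N k) := ProjTwist.Pn.isLocallyNoetherian_projSpace N k
  haveI : CompactSpace (CohB1.ProjSpace N k) := by
    haveI : IsProper (CohB1.ProjSpace.toSpec N k) := ProjProper.Basic.isProper_toSpec N k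
    exact QuasiCompact.compactSpace_of_compactSpace (CohB1.ProjSpace.toSpec N k)
  haveI : IsNoetherian (CohB1.ProjSpace N k) := ⟨⟩
  haveI : IsLocallyNoetherian X := LocallyOfFiniteType.isLocallyNoetherian ι
  haveI : TopologicalSpace.NoetherianSpace X := ι.isEmbedding.isInducing.noetherianSpace
  haveI : CompactSpace X := inferInstance
  haveI : IsNoetherian X := ⟨⟩
  have hreg := fun x => CurveDVR.isRegularLocalRing_stalk (X ↘ Spec (CommRingCat.of k)) x
  have hR := Groth.Agent.S1109.result X hreg fun U V hU hV => IsAffineOpen.inf hU hV
  have hX : KRR.HasEnoughLocFree X := fun F hF => hR F hF.1 hF.2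
  have h : ∀ M : X.Modules, FlatMod.IsFinLocFree M → Coh.IsCoh M := fun M hM =>
    VBLib.isCoh_of_isFinLocFree hM
  exact ⟨SGA6.mapSub (𝟭 X.Modules) (KRR.vbP X) (fun M : X.Modules => Coh.IsCoh M) h,
    fun E hE => KRR49.mapSubCoh_cl h hE, Groth.Agent.S3746.result X hreg hX h⟩

end Groth.Agent.S14430
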