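import Groth.Statements.S14431
import Groth.Agent.BertiniPn.CharZero
import Groth.Agent.ZeroSchemeLib.Basic
import Groth.Agent.FormalFun.Powers

set_option autoImplicit false
universe u
open CategoryTheory CategoryTheory.Limits AlgebraicGeometry
open Variety

namespace Groth.Agent.S14431

open Groth.Agent.Props.GenLocus Groth.Agent.QCoh

theorem smooth_subscheme {k : Type u} [Field k] {X : Scheme.{u}} (f : X ⟶ Spec (CommRingCat.of k))
    (I : X.IdealSheafData) {κ : Type*} (U : κ → X.affineOpens) (hU : ⨆ j, (U j).1 = ⊤)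
    (h : ∀ j, ((Ideal.Quotient.mk (I.ideal (U j))).comp
      ((f.appLE ⊤ (U j).1 le_top).hom.comp (Scheme.ΓSpecIso (CommRingCat.of k)).inv.hom)).Smooth) :
    Smooth (I.subschemeι ≫ f) := by
  let V : κ → I.subscheme.affineOpens := fun j => ⟨I.subschemeι ⁻¹ᵁ (U j).1, (U j).2.preimage _⟩
  refine (HasRingHomProperty.iff_of_iSup_eq_top (P := @Smooth) V ?_).2 fun j => ?_
  · show ⨆ j, I.subschemeι ⁻¹ᵁ (U j).1 = ⊤
    rw [← Scheme.Hom.preimage_iSup, hU, Scheme.Hom.preimage_top]
  refine (RingHom.Smooth.respectsIso.cancel_left_isIso (Scheme.ΓSpecIso (CommRingCat.of k)).inv _).1 ?_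
  refine (RingHom.Smooth.respectsIso.cancel_right_isIso _ (I.subschemeObjIso (U j)).hom).1 ?_
  have e : ((Scheme.ΓSpecIso (CommRingCat.of k)).inv ≫ (I.subschemeι ≫ f).appLE ⊤ (V j).1 le_top) ≫
      (I.subschemeObjIso (U j)).hom =
      CommRingCat.ofHom ((Ideal.Quotient.mk (I.ideal (U j))).comp
        ((f.appLE ⊤ (U j).1 le_top).hom.comp (Scheme.ΓSpecIso (CommRingCat.of k)).inv.hom)) := by
    have e1 : (I.subschemeι ≫ f).appLE ⊤ (V j).1 le_top = f.appLE ⊤ (U j).1 le_top ≫ I.subschemeι.app (U j).1 := by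
      rw [Scheme.Hom.app_eq_appLE, Scheme.Hom.appLE_comp_appLE]
    rw [e1, I.subschemeι_app (U j)]
    simp only [Category.assoc, Iso.inv_hom_id, Category.comp_id]
    rfl
  exact (congrArg RingHom.Smooth (congrArg CommRingCat.Hom.hom e)).mpr (h j)

theorem isInvertible_of_rankOne {X : Scheme.{u}} {L : X.Modules} (hL : FlatMod.IsFinLocFreeOfRank 1 L) :
    PicF.IsInvertible L := fun x =>
  let ⟨U, hx, ⟨φ⟩⟩ := hL x
  ⟨U, hx, ⟨φ ≪≫ Limits.coproductUniqueIso _⟩⟩

/-- The value over `W` as an additive function of the section. -/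
noncomputable def secHom {X : Scheme.{u}} (L : X.Modules) (W : X.Opens) :
    (Coh.structureModule X ⟶ L) →+ Γ(L, W) :=
  AddMonoidHom.mk' (fun s => sec s W) fun _ _ => rfl

theorem sec_smul_comp {k : Type u} [Field k] {Y : Scheme.{u}} [Y.Over (Spec (CommRingCat.of k))] {L : Y.Modules}
    (s : Coh.structureModule Y ⟶ L) (c : k) (W : Y.Opens) :
    sec (Formal.smulMod k (Coh.structureModule Y) c ≫ s) W = Groth.Agent.FormalFun.gA (A := k) W c • sec s W := by
  show s.app W ((Formal.smulMod k (Coh.structureModule Y) c).app W (one' W)) = _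
  rw [Groth.Agent.FormalFun.smulMod_app]
  exact Scheme.Modules.Hom.app_smul s _ _

/-- Let k be an algebraically closed field of characteristic zero, X an integral k-scheme of finite type
which is smooth over k, L an invertible O_X-module and s_0, …, s_m global sections of L (morphisms
O_X → L) generating L, i.e. their zero schemes have empty intersection (the sum of their zero ideal
sheaves is the unit ideal). Then the members of the linear system spanned by the s_i corresponding
to a nonempty Zariski-open set of parameters are smooth: there is a nonzero polynomial p in m + 1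
variables over k such that for every c ∈ k^{m+1} with p(c) ≠ 0 the zero scheme of the section Σ c_i
s_i is smooth over k (equivalently, the corresponding divisor is reduced with smooth support). (The
published statement is for varieties, which are separated; this row does not assume X separated.) -/
theorem result (k : Type u) [Field k] [IsAlgClosed k] [CharZero k]
    (X : Scheme.{u}) [X.Over (Spec (CommRingCat.of k))] [IsIntegral X]
    [Smooth (X ↘ Spec (CommRingCat.of k))] [QuasiCompact (X ↘ Spec (CommRingCat.of k))]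
    (L : X.Modules) (hL : FlatMod.IsFinLocFreeOfRank 1 L) (m : ℕ)
    (s : Fin (m + 1) → (Coh.structureModule X ⟶ L))
    (hgen : ⨆ i : Fin (m + 1), PicF2.zeroScheme L (s i) = ⊤) :
    ∃ p : MvPolynomial (Fin (m + 1)) k, p ≠ 0 ∧ ∀ c : Fin (m + 1) → k, MvPolynomial.eval c p ≠ 0 →
      Smooth ((PicF2.zeroScheme L (∑ i : Fin (m + 1), Formal.smulMod k (Coh.structureModule X) (c i) ≫ s i)).subschemeι ≫
        (X ↘ Spec (CommRingCat.of k))) := by
  classical
  have hinv : PicF.IsInvertible L := isInvertible_of_rankOne hL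
  let q := X ↘ Spec (CommRingCat.of k)
  haveI : CompactSpace X := QuasiCompact.compactSpace_of_compactSpace q
  have hloc : ∀ y : X, ∃ (W : X.affineOpens) (e : Γ(L, W.1)), y ∈ W.1 ∧ IsGen L W.1 e := fun y => by
    obtain ⟨U, e, hy, he⟩ := exists_isGen hinv y
    obtain ⟨W, hW, hyW, hle⟩ := exists_isAffineOpen_mem_and_subset (show y ∈ U from hy)
    exact ⟨⟨W, hW⟩, res L hle e, hyW, he.restrict hle⟩
  choose W e hyW he using hloc
  have key : ∀ y, ∃ g : MvPolynomial (Fin (m + 1)) k, g ≠ 0 ∧ ∀ c : Fin (m + 1) → k, MvPolynomial.eval c g ≠ 0 →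
      ((Ideal.Quotient.mk ((PicF2.zeroScheme L (∑ i : Fin (m + 1), Formal.smulMod k (Coh.structureModule X) (c i) ≫ s i)).ideal (W y))).comp
        ((q.appLE ⊤ (W y).1 le_top).hom.comp (Scheme.ΓSpecIso (CommRingCat.of k)).inv.hom)).Smooth := by
    intro y
    let A := Γ(X, (W y).1)
    let φk : k →+* A := (q.appLE ⊤ (W y).1 le_top).hom.comp (Scheme.ΓSpecIso (CommRingCat.of k)).inv.hom
    letI : Algebra k A := φk.toAlgebra
    haveI hsm : Algebra.Smooth k A := by
      have h0 : (q.appLE ⊤ (W y).1 le_top).hom.Smooth :=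
        HasRingHomProperty.appLE (P := @Smooth) q inferInstance ⟨⊤, isAffineOpen_top _⟩ (W y) _
      exact RingHom.smooth_algebraMap.1
        ((RingHom.Smooth.respectsIso.cancel_left_isIso (Scheme.ΓSpecIso (CommRingCat.of k)).inv _).2 h0)
    have hx : ∀ t : Coh.structureModule X ⟶ L, ∃ a : A, sec t (W y).1 = a • e y := fun t => by
      obtain ⟨a, ha, -⟩ := (he y).exists_eq le_rfl (sec t (W y).1)
      exact ⟨a, by rwa [res_self] at ha⟩
    choose x hx using fun i => hx (s i)
    have hsum : ∀ c : Fin (m + 1) → k, sec (∑ i : Fin (m + 1), Formal.smulMod k (Coh.structureModule X) (c i) ≫ s i) (W y).1 =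
        (∑ i, algebraMap k A (c i) * x i) • e y := fun c => by
      change secHom L (W y).1 _ = _
      rw [map_sum, Finset.sum_smul]
      refine Finset.sum_congr rfl fun i _ => ?_
      rw [mul_smul, ← hx i]
      exact sec_smul_comp (s i) (c i) (W y).1
    have hgen' : Ideal.span (Set.range x) = ⊤ := by
      have h1 := congrArg (fun I : X.IdealSheafData => I.ideal (W y)) hgen
      simp only [Scheme.IdealSheafData.ideal_iSup, iSup_apply, Scheme.IdealSheafData.ideal_top, Pi.top_apply] at h1
      rw [eq_top_iff, ← h1]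
      refine iSup_le fun i => ?_
      rw [Groth.Agent.ZeroSchemeLib.zeroScheme_ideal_eq_span hinv _ (W y) (he y) (f := x i) (hx i)]
      exact Ideal.span_mono (Set.singleton_subset_iff.2 ⟨i, rfl⟩)
    obtain ⟨g, hg0, hg⟩ := Groth.Agent.BertiniPn.exists_smooth_poly_charZero (k := k) x hgen'
    refine ⟨g, hg0, fun c hc => ?_⟩
    haveI := hg c hc
    haveI : Algebra.FinitePresentation k (A ⧸ Ideal.span {∑ i, algebraMap k A (c i) * x i}) :=
      Algebra.FinitePresentation.of_finiteType.1 inferInstance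
    have hsmq : Algebra.Smooth k (A ⧸ Ideal.span {∑ i, algebraMap k A (c i) * x i}) := ⟨inferInstance, inferInstance⟩
    rw [Groth.Agent.ZeroSchemeLib.zeroScheme_ideal_eq_span hinv _ (W y) (he y)
      (f := ∑ i, algebraMap k A (c i) * x i) (hsum c)]
    exact RingHom.smooth_algebraMap.2 hsmq
  choose g hg0 hg using key
  obtain ⟨t, ht⟩ := isCompact_univ.elim_finite_subcover (fun y : X => ((W y).1 : Set X)) (fun y => (W y).1.2)
    (fun y _ => Set.mem_iUnion.2 ⟨y, hyW y⟩)
  refine ⟨∏ y ∈ t, g y, Finset.prod_ne_zero_iff.2 fun y _ => hg0 y, fun c hc => ?_⟩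
  rw [map_prod, Finset.prod_ne_zero_iff] at hc
  refine smooth_subscheme q _ (fun y : {y // y ∈ t} => W y.1) ?_ fun y => hg y.1 c (hc y.1 y.2)
  refine top_le_iff.1 fun z _ => ?_
  obtain ⟨y, hy, hz⟩ := Set.mem_iUnion₂.1 (ht (Set.mem_univ z))
  exact TopologicalSpace.Opens.mem_iSup.2 ⟨⟨y, hy⟩, hz⟩

end Groth.Agent.S14431
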