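import Groth.Statements.S14434
import Groth.Agent.TorOne.Basic
import Groth.Agent.S14414
import Mathlib
-- import your own Groth.Agent.* helpers here

set_option autoImplicit false
universe u
open CAlg

namespace Groth.Agent.S14434

open CategoryTheory

/-- Let R be a commutative ring, M an R-module and x ∈ R a non-zero-divisor on R and on M. Then
Tor_i^R(M, R/(x)) = 0 for all i ≥ 1 (Tor computed as the left derived functors of the tensor product
on R-modules). -/
theorem result {R : Type u} [CommRing R] (M : Type u) [AddCommGroup M] [Module R M]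
    (x : R) (hxR : IsSMulRegular R x) (hxM : IsSMulRegular M x) (i : ℕ) (hi : 1 ≤ i) :
    Subsingleton (DRing.Tor R i M (R ⧸ Ideal.span {x})) := by
  let I : Ideal R := Ideal.span {x}
  let S : ShortComplex (ModuleCat.{u} R) := ShortComplex.mk (ModuleCat.ofHom (LinearMap.lsmul R R x))
    (ModuleCat.ofHom (I : Submodule R R).mkQ)
    (ModuleCat.hom_ext (LinearMap.ext fun v ↦ (Submodule.Quotient.mk_eq_zero _).2
      (Ideal.mem_span_singleton'.2 ⟨v, mul_comm _ _⟩)))
  have hS : S.ShortExact :=
    { exact := (ShortComplex.moduleCat_exact_iff _).2 fun v hv ↦ by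
        obtain ⟨w, hw⟩ := Ideal.mem_span_singleton'.1 ((Submodule.Quotient.mk_eq_zero _).1 hv)
        exact ⟨w, (mul_comm x w).trans hw⟩
      mono_f := (ModuleCat.mono_iff_injective _).2 hxR
      epi_g := (ModuleCat.epi_iff_surjective _).2 (Submodule.mkQ_surjective _) }
  rcases Nat.eq_or_lt_of_le hi with rfl | hi2
  · refine ModuleCat.subsingleton_of_isZero ((TorOne.isZero_tor_one_iff (M := R ⧸ (I : Submodule R R)) M (I : Submodule R R).mkQ (Submodule.mkQ_surjective _)).2 ?_)
    let e : R →ₗ[R] LinearMap.ker (I : Submodule R R).mkQ := (LinearMap.lsmul R R x).codRestrict _ fun v ↦ by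
      rw [Submodule.ker_mkQ]; exact Ideal.mem_span_singleton'.2 ⟨v, mul_comm _ _⟩
    have he : Function.Surjective e := fun ⟨v, hv⟩ ↦ by
      rw [Submodule.ker_mkQ] at hv
      obtain ⟨w, hw⟩ := Ideal.mem_span_singleton'.1 hv
      exact ⟨w, Subtype.ext ((mul_comm x w).trans hw)⟩
    intro a b hab
    obtain ⟨a, rfl⟩ := LinearMap.lTensor_surjective M he a
    obtain ⟨b, rfl⟩ := LinearMap.lTensor_surjective M he b
    rw [← LinearMap.comp_apply, ← LinearMap.comp_apply, ← LinearMap.lTensor_comp,
      show (LinearMap.ker (I : Submodule R R).mkQ).subtype ∘ₗ e = x • LinearMap.id from LinearMap.ext fun v ↦ rfl,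
      LinearMap.lTensor_smul, LinearMap.lTensor_id] at hab
    exact congrArg _ ((IsSMulRegular.rTensor R hxM) hab)
  · have : Projective (ModuleCat.of R R) := inferInstance
    haveI : HasProjectiveDimensionLE (ModuleCat.of R (R ⧸ (I : Submodule R R))) 1 :=
      hS.hasProjectiveDimensionLT_X₃ 1 (inferInstanceAs (HasProjectiveDimensionLT (ModuleCat.of R R) 1))
        (hasProjectiveDimensionLT_of_ge (ModuleCat.of R R) 1 2 (by omega))
    exact ModuleCat.subsingleton_of_isZero (S14414.result R (ModuleCat.of R M) (ModuleCat.of R (R ⧸ (I : Submodule R R))) 1 i hi2)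

end Groth.Agent.S14434
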