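import Groth.Statements.S14435
import Groth.Agent.Depth.Local

set_option autoImplicit false
universe u
open LocCoh

namespace Groth.Agent.S14435

/-- Let (A, m) be a Noetherian local ring, φ : A → B a finite homomorphism of commutative rings, a ⊆ m
an ideal and M a finitely generated B-module. Then depth(a, M), computed over A, equals depth(aB,
M), computed over B (depths by regular sequences, ⊤ when aM = M). -/
theorem result {A B : Type u} [CommRing A] [IsNoetherianRing A] [IsLocalRing A]
    [CommRing B] [Algebra A B] [Module.Finite A B] (a : Ideal A) (ha : a ≤ IsLocalRing.maximalIdeal A)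
    (M : Type u) [AddCommGroup M] [Module B M] [Module A M] [IsScalarTower A B M] [Module.Finite B M] :
    LocCoh.idealDepth a M = LocCoh.idealDepth (a.map (algebraMap A B)) M := by
  haveI : IsNoetherianRing B := IsNoetherianRing.of_finite A B
  haveI : Module.Finite A M := Module.Finite.trans B M
  have hset : ∀ (J : Ideal A), ((J.map (algebraMap A B)) • (⊤ : Submodule B M)).restrictScalars A =
      (J • ⊤ : Submodule A M) := fun J => by
    rw [Ideal.smul_restrictScalars J (⊤ : Submodule B M), Submodule.restrictScalars_top]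
  by_cases htop : a • (⊤ : Submodule A M) = ⊤
  · rw [Groth.Agent.Depth.idealDepth_eq_top_of_smul_top_eq_top htop,
      Groth.Agent.Depth.idealDepth_eq_top_of_smul_top_eq_top]
    apply Submodule.restrictScalars_injective A B M
    rw [hset, htop, Submodule.restrictScalars_top]
  haveI : Nontrivial M := by
    by_contra hn
    rw [not_nontrivial_iff_subsingleton] at hn
    exact htop Groth.Agent.Depth.smul_top_eq_top_of_subsingleton
  obtain ⟨n, hn⟩ := ENat.ne_top_iff_exists.1 (Groth.Agent.Depth.idealDepth_lt_top (M := M) htop).ne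
  obtain ⟨rs, hreg, hmem, hlen⟩ :=
    Groth.Agent.Depth.exists_isWeaklyRegular_of_le_idealDepth htop (n := n) hn.le
  have h1 := Groth.Agent.Depth.idealDepth_quotient_add_length rs M hreg hmem
  rw [hlen, ← hn] at h1
  have hregB : RingTheory.Sequence.IsWeaklyRegular M (rs.map (algebraMap A B)) :=
    (RingTheory.Sequence.isWeaklyRegular_map_algebraMap_iff B M rs).2 hreg
  have hmemB : ∀ r ∈ rs.map (algebraMap A B), r ∈ a.map (algebraMap A B) := by
    intro r hr
    obtain ⟨s, hs, rfl⟩ := List.mem_map.1 hr
    exact Ideal.mem_map_of_mem _ (hmem s hs)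
  have h2 := Groth.Agent.Depth.idealDepth_quotient_add_length (rs.map (algebraMap A B)) M hregB hmemB
  set SA : Submodule A M := Ideal.ofList rs • ⊤ with hSA
  set SB : Submodule B M := Ideal.ofList (rs.map (algebraMap A B)) • ⊤ with hSB
  have hS : SB.restrictScalars A = SA := by
    rw [hSB, hSA, ← Ideal.map_ofList, hset]
  let e : (M ⧸ SA) ≃ₗ[A] (M ⧸ SB) :=
    (Submodule.quotEquivOfEq _ _ hS.symm).trans (Submodule.Quotient.restrictScalarsEquiv A SB)
  have hzero : LocCoh.idealDepth a (M ⧸ SA) = 0 := by
    have h1' : LocCoh.idealDepth a (M ⧸ SA) + (n : ℕ∞) = 0 + n := by rw [h1, zero_add]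
    exact ENat.add_left_injective_of_ne_top (ENat.natCast_ne_top n) h1'
  rw [Groth.Agent.Depth.idealDepth_congr e, Groth.Agent.Depth.idealDepth_eq_zero_iff] at hzero
  obtain ⟨p, hp, hap⟩ := hzero
  obtain ⟨hpp, x, hx⟩ := isAssociatedPrime_iff.1 hp
  have hxne : x ≠ 0 := by
    rintro rfl
    exact hpp.ne_top (hx ▸ by simp)
  obtain ⟨Q, hQ, hQle⟩ := exists_le_isAssociatedPrime_of_isNoetherianRing B x hxne
  have hB0 : LocCoh.idealDepth (a.map (algebraMap A B)) (M ⧸ SB) = 0 := by
    rw [Groth.Agent.Depth.idealDepth_eq_zero_iff]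
    refine ⟨Q, hQ, Ideal.map_le_iff_le_comap.2 fun r hr => hQle ?_⟩
    rw [Submodule.mem_colon_singleton, Submodule.mem_bot, algebraMap_smul]
    have := hap hr
    rw [hx, Submodule.mem_colon_singleton, Submodule.mem_bot] at this
    exact this
  rw [← h2, List.length_map, hlen, hB0, zero_add]
  exact hn.symm

end Groth.Agent.S14435
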