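import Groth.Statements.S14437
import Mathlib
-- import your own Groth.Agent.* helpers here

set_option autoImplicit false
universe u
open CAlg

namespace Groth.Agent.S14437

open TensorProduct IsLocalRing

theorem one_tmul_eq_zero_iff {B : Type u} [CommRing B] [IsLocalRing B] {N : Type u} [AddCommGroup N]
    [Module B N] (x : N) :
    (1 : ResidueField B) ⊗ₜ[B] x = 0 ↔ x ∈ maximalIdeal B • (⊤ : Submodule B N) := by
  have h : ((Ideal.Quotient.mk (maximalIdeal B) 1) ⊗ₜ[B] x : (B ⧸ maximalIdeal B) ⊗[B] N) = 0 ↔
      x ∈ maximalIdeal B • (⊤ : Submodule B N) := by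
    rw [← (TensorProduct.quotTensorEquivQuotSMul N (maximalIdeal B)).map_eq_zero_iff,
      TensorProduct.quotTensorEquivQuotSMul_mk_tmul, one_smul, Submodule.Quotient.mk_eq_zero]
  exact h


/-- Let k be a field and A → B a local homomorphism of Noetherian local k-algebras with residue fields k
(k → A/m_A and k → B/m_B bijective) — for instance the local rings at a closed point x and at its
image y under a morphism of schemes of finite type over an algebraically closed k. Then dim_k
(Ω_{B/A} ⊗_B B/m_B) + rank(m_A/m_A² → m_B/m_B²) = dim_k (m_B/m_B²): the fibre at x of the sheaf of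
relative differentials is dual to the kernel of the tangent map T_x X → T_y Y. (The published
statement is the canonical isomorphism (Ω_{X/Y})_(x)^∨ ≅ ker(df_x); stated here as the resulting
equality of dimensions. Its second assertion, dim (Ω_{X/Y})_(x) ≥ r when the fibre has an
r-dimensional component through x, is not included.) -/
theorem result (k : Type u) [Field k]
    (A B : Type u) [CommRing A] [CommRing B] [IsLocalRing A] [IsLocalRing B] [IsNoetherianRing A] [IsNoetherianRing B]
    [Algebra k A] [Algebra k B] [Algebra A B] [IsScalarTower k A B]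
    (hle : IsLocalRing.maximalIdeal A ≤ Ideal.comap (IsScalarTower.toAlgHom k A B) (IsLocalRing.maximalIdeal B))
    (hA : Function.Bijective (algebraMap k (IsLocalRing.ResidueField A)))
    (hB : Function.Bijective (algebraMap k (IsLocalRing.ResidueField B))) :
    Module.finrank (IsLocalRing.ResidueField B) (TensorProduct B (IsLocalRing.ResidueField B) (Ω[B⁄A])) +
      Module.finrank k ↥(LinearMap.range (Ideal.mapCotangent (IsLocalRing.maximalIdeal A) (IsLocalRing.maximalIdeal B)
        (IsScalarTower.toAlgHom k A B) hle)) =
      Module.finrank k (IsLocalRing.CotangentSpace B) := by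
  let eB : k ≃+* IsLocalRing.ResidueField B := RingEquiv.ofBijective _ hB
  let c : B →+* k := eB.symm.toRingHom.comp (IsLocalRing.residue B)
  have hcr : ∀ b, algebraMap k (IsLocalRing.ResidueField B) (c b) = IsLocalRing.residue B b := fun b =>
    eB.apply_symm_apply _
  have hck : ∀ r : k, c (algebraMap k B r) = r := fun r => hB.1 (by
    rw [hcr, IsScalarTower.algebraMap_apply k B (IsLocalRing.ResidueField B)]; rfl)
  have hcm : ∀ b, b - algebraMap k B (c b) ∈ IsLocalRing.maximalIdeal B := fun b => by
    rw [← IsLocalRing.residue_eq_zero_iff, map_sub, sub_eq_zero]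
    exact (hcr b).symm.trans (IsScalarTower.algebraMap_apply k B (IsLocalRing.ResidueField B) (c b))
  let C0 := IsLocalRing.CotangentSpace B
  let W := LinearMap.range (Ideal.mapCotangent (IsLocalRing.maximalIdeal A) (IsLocalRing.maximalIdeal B)
    (IsScalarTower.toAlgHom k A B) hle)
  let T := TensorProduct B (IsLocalRing.ResidueField B) (Ω[B⁄A])
  -- the map `m → T`
  let D := KaehlerDifferential.D A B
  let θ₀ : IsLocalRing.maximalIdeal B →ₗ[k] T :=
    (((TensorProduct.mk B (IsLocalRing.ResidueField B) (Ω[B⁄A]) 1).restrictScalars k).comp
      (D.toLinearMap.restrictScalars k)).comp ((IsLocalRing.maximalIdeal B).subtype.restrictScalars k)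
  have hθ₀ : ∀ x, θ₀ x = (1 : IsLocalRing.ResidueField B) ⊗ₜ[B] D x := fun x => rfl
  let θ : C0 →ₗ[k] T := ((IsLocalRing.maximalIdeal B • ⊤ : Submodule B (IsLocalRing.maximalIdeal B)).restrictScalars k).liftQ θ₀ (by
    intro x hx
    rw [Submodule.restrictScalars_mem] at hx
    rw [LinearMap.mem_ker, hθ₀, one_tmul_eq_zero_iff]
    refine Submodule.smul_induction_on hx (fun a ha y _ => ?_) (fun y z hy hz => ?_)
    · rw [show D ((a • y : IsLocalRing.maximalIdeal B) : B) = a • D y + (y : B) • D a from D.leibniz a y]
      exact add_mem (Submodule.smul_mem_smul ha trivial) (Submodule.smul_mem_smul y.2 trivial)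
    · rw [Submodule.coe_add, map_add]; exact add_mem hy hz)
  have hθ : ∀ x, θ ((IsLocalRing.maximalIdeal B).toCotangent x) = (1 : IsLocalRing.ResidueField B) ⊗ₜ[B] D x :=
    fun x => rfl
  have hsurj : Function.Surjective θ := by
    intro z
    suffices z ∈ LinearMap.range θ from this
    induction z using TensorProduct.induction_on with
    | zero => exact zero_mem _
    | add a b ha hb => exact add_mem ha hb
    | tmul s w =>
      obtain ⟨b, rfl⟩ := IsLocalRing.residue_surjective s
      have hw : w ∈ Submodule.span B (Set.range D) := by rw [KaehlerDifferential.span_range_derivation]; trivial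
      induction hw using Submodule.span_induction generalizing b with
      | zero => rw [TensorProduct.tmul_zero]; exact zero_mem _
      | add x y _ _ hx hy => rw [TensorProduct.tmul_add]; exact add_mem (hx b) (hy b)
      | smul r x _ hx =>
        rw [← TensorProduct.smul_tmul]
        have : r • IsLocalRing.residue B b = IsLocalRing.residue B (r * b) := by
          rw [Algebra.smul_def, map_mul]; rfl
        rw [this]; exact hx _
      | mem x hx =>
        obtain ⟨y, rfl⟩ := hx
        refine ⟨c b • (IsLocalRing.maximalIdeal B).toCotangent ⟨_, hcm y⟩, ?_⟩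
        rw [map_smul, hθ]
        simp only [map_sub]
        rw [show D (algebraMap k B (c y)) = 0 by
          rw [IsScalarTower.algebraMap_apply k A B]; exact D.map_algebraMap _, sub_zero,
          TensorProduct.smul_tmul', Algebra.smul_def, mul_one, hcr]
  have hker : LinearMap.ker θ = W := by
    refine le_antisymm (fun x hx => ?_) ?_
    · let : Module B (C0 ⧸ W) := Module.compHom (C0 ⧸ W) c
      let : Module A (C0 ⧸ W) := Module.compHom (C0 ⧸ W) (c.comp (algebraMap A B))
      have : IsScalarTower A B (C0 ⧸ W) := ⟨fun a b m => by
        show c (a • b) • m = c (algebraMap A B a) • c b • m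
        rw [Algebra.smul_def, map_mul, mul_smul]⟩
      let φ : B → C0 ⧸ W := fun b => Submodule.Quotient.mk ((IsLocalRing.maximalIdeal B).toCotangent ⟨_, hcm b⟩)
      have hφadd : ∀ a b, φ (a + b) = φ a + φ b := fun a b => by
        simp only [φ, ← Submodule.Quotient.mk_add, ← map_add]
        congr 2
        ext
        simp [add_sub_add_comm]
      have hφmul : ∀ a b, φ (a * b) = c a • φ b + c b • φ a := fun a b => by
        simp only [φ, ← Submodule.Quotient.mk_smul, ← Submodule.Quotient.mk_add]
        congr 1
        rw [← algebraMap_smul B (c a) ((IsLocalRing.maximalIdeal B).toCotangent _),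
          ← algebraMap_smul B (c b) ((IsLocalRing.maximalIdeal B).toCotangent _), ← map_smul, ← map_smul,
          ← map_add, Ideal.toCotangent_eq, pow_two]
        have : (a * b - algebraMap k B (c (a * b))) - (algebraMap k B (c a) * (b - algebraMap k B (c b)) +
            algebraMap k B (c b) * (a - algebraMap k B (c a))) =
            (a - algebraMap k B (c a)) * (b - algebraMap k B (c b)) := by rw [map_mul c, map_mul]; ring
        simp only [Submodule.coe_add, Submodule.coe_smul, smul_eq_mul]
        rw [this]
        exact Ideal.mul_mem_mul (hcm a) (hcm b)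
      have hφA : ∀ a, φ (algebraMap A B a) = 0 := fun a => by
        obtain ⟨r, hr⟩ := hA.2 (IsLocalRing.residue A a)
        have ha : a - algebraMap k A r ∈ IsLocalRing.maximalIdeal A := by
          rw [← IsLocalRing.residue_eq_zero_iff, map_sub, ← hr,
            IsScalarTower.algebraMap_apply k A (IsLocalRing.ResidueField A)]
          exact sub_self _
        rw [Submodule.Quotient.mk_eq_zero]
        refine ⟨(IsLocalRing.maximalIdeal A).toCotangent ⟨_, ha⟩, ?_⟩
        rw [Ideal.mapCotangent_toCotangent]
        congr 1
        ext
        have hca : c (algebraMap A B a) = r := by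
          have h1 : algebraMap A B (a - algebraMap k A r) ∈ IsLocalRing.maximalIdeal B := hle ha
          rw [← IsLocalRing.residue_eq_zero_iff, map_sub, map_sub, sub_eq_zero, ← hcr,
            ← IsScalarTower.algebraMap_apply k A B, ← hcr, hck] at h1
          exact hB.1 h1
        simp [hca, ← IsScalarTower.algebraMap_apply k A B]
      let φl : B →ₗ[A] C0 ⧸ W :=
        { toFun := φ
          map_add' := hφadd
          map_smul' := fun a b => by
            show φ (a • b) = c (algebraMap A B a) • φ b
            rw [Algebra.smul_def, hφmul, hφA, smul_zero, add_zero] }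
      let Dφ : Derivation A B (C0 ⧸ W) := Derivation.mk' φl hφmul
      obtain ⟨y, rfl⟩ := (IsLocalRing.maximalIdeal B).toCotangent_surjective x
      rw [LinearMap.mem_ker, hθ, one_tmul_eq_zero_iff] at hx
      have h0 : Dφ.liftKaehlerDifferential (D y) = 0 := by
        refine Submodule.smul_induction_on hx (fun b hb w _ => ?_) (fun u v hu hv => by rw [map_add, hu, hv, add_zero])
        rw [map_smul]
        show c b • Dφ.liftKaehlerDifferential w = 0
        rw [show c b = 0 from hB.1 (by rw [hcr, map_zero]; exact (IsLocalRing.residue_eq_zero_iff b).mpr hb), zero_smul]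
      rw [Derivation.liftKaehlerDifferential_comp_D] at h0
      have hy : c (y : B) = 0 := hB.1 (by rw [hcr, map_zero]; exact (IsLocalRing.residue_eq_zero_iff _).mpr y.2)
      have h1 : φ (y : B) = Submodule.Quotient.mk ((IsLocalRing.maximalIdeal B).toCotangent y) := by
        simp only [φ]
        congr 2
        ext
        simp [hy]
      exact (Submodule.Quotient.mk_eq_zero W).mp (h1.symm.trans h0)
    · rintro _ ⟨x, rfl⟩
      obtain ⟨a, rfl⟩ := (IsLocalRing.maximalIdeal A).toCotangent_surjective x
      rw [LinearMap.mem_ker, Ideal.mapCotangent_toCotangent, hθ]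
      show _ ⊗ₜ[B] D (algebraMap A B a) = 0
      rw [D.map_algebraMap, TensorProduct.tmul_zero]
  have hfr : Module.finrank k (IsLocalRing.ResidueField B) = 1 := by
    rw [← LinearEquiv.finrank_eq (LinearEquiv.ofBijective (Algebra.linearMap k (IsLocalRing.ResidueField B)) hB)]
    exact Module.finrank_self k
  have hT : Module.finrank (IsLocalRing.ResidueField B) T = Module.finrank k T := by
    rw [← Module.finrank_mul_finrank k (IsLocalRing.ResidueField B) T, hfr, one_mul]
  have : Module.Finite k (IsLocalRing.ResidueField B) :=
    Module.Finite.equiv (LinearEquiv.ofBijective (Algebra.linearMap k (IsLocalRing.ResidueField B)) hB)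
  have : IsScalarTower k (IsLocalRing.ResidueField B) C0 := IsScalarTower.of_algebraMap_smul fun r x => by
    rw [IsScalarTower.algebraMap_apply k B (IsLocalRing.ResidueField B), algebraMap_smul, algebraMap_smul]
  have : Module.Finite k C0 := Module.Finite.trans (IsLocalRing.ResidueField B) C0
  show Module.finrank (IsLocalRing.ResidueField B) T + Module.finrank k W = Module.finrank k C0
  rw [hT, ← hker, ← LinearMap.finrank_range_add_finrank_ker θ, LinearMap.range_eq_top.mpr hsurj, finrank_top]

end Groth.Agent.S14437
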