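import Groth.Statements.S14438
import Groth.Agent.LenLib.Localized
import Mathlib
-- import your own Groth.Agent.* helpers here

set_option autoImplicit false
universe u
open CAlg

namespace Groth.Agent.S14438


private theorem length_piece (A B : Type u) [CommRing A] [IsLocalRing A] [CommRing B] [Algebra A B]
    (I : Ideal B) (hI : Ideal.map (algebraMap A B) (IsLocalRing.maximalIdeal A) ≤ I)
    (hres : ∀ (n : Ideal B) [n.IsMaximal] (h : Ideal.map (algebraMap A B) (IsLocalRing.maximalIdeal A) ≤ n),
      Function.Bijective (Ideal.quotientMap n (algebraMap A B) (Ideal.map_le_iff_le_comap.mp h)))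
    [Fintype {n : MaximalSpectrum B // Ideal.map (algebraMap A B) (IsLocalRing.maximalIdeal A) ≤ n.asIdeal}]
    (M : Type u) [AddCommGroup M] [Module B M] (hM : IsFiniteLength B M) :
    ∀ [Module A M] [IsScalarTower A B M], (∀ b ∈ I, ∀ x : M, b • x = 0) →
    Module.length A M =
      ∑ n : {n : MaximalSpectrum B // Ideal.map (algebraMap A B) (IsLocalRing.maximalIdeal A) ≤ n.asIdeal},
        Module.length (Localization.AtPrime n.1.asIdeal) (LocalizedModule n.1.asIdeal.primeCompl M) := by
  induction hM with
  | of_subsingleton =>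
    intro _ _ _
    simp [Module.length_eq_zero]
  | @of_simple_quotient M _ _ N _ hN ih =>
    intro _ _ hann
    have hadd : Module.length A M = Module.length A N + Module.length A (M ⧸ N) :=
      Module.length_eq_add_of_exact (N.subtype.restrictScalars A) (N.mkQ.restrictScalars A)
        N.injective_subtype N.mkQ_surjective (LinearMap.exact_subtype_mkQ N)
    have hloc : ∀ n : {n : MaximalSpectrum B // Ideal.map (algebraMap A B) (IsLocalRing.maximalIdeal A) ≤ n.asIdeal},
        Module.length (Localization.AtPrime n.1.asIdeal) (LocalizedModule n.1.asIdeal.primeCompl M) =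
        Module.length (Localization.AtPrime n.1.asIdeal) (LocalizedModule n.1.asIdeal.primeCompl N) +
        Module.length (Localization.AtPrime n.1.asIdeal) (LocalizedModule n.1.asIdeal.primeCompl (M ⧸ N)) :=
      fun n => Groth.Agent.LenLib.length_localized_add _ N.subtype N.mkQ
        N.injective_subtype N.mkQ_surjective (LinearMap.exact_subtype_mkQ N)
    rw [hadd, ih (fun b hb x => Subtype.ext (hann b hb x)), Finset.sum_congr rfl (fun n _ => hloc n),
      Finset.sum_add_distrib]
    congr 1
    -- the simple quotient
    obtain ⟨n₀, hn₀, ⟨e⟩⟩ := isSimpleModule_iff_quot_maximal.mp ‹IsSimpleModule B (M ⧸ N)›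
    haveI := hn₀
    have hle : Ideal.map (algebraMap A B) (IsLocalRing.maximalIdeal A) ≤ n₀ := by
      intro b hb
      have h1 : b • e.symm (Ideal.Quotient.mk n₀ 1) = 0 := by
        obtain ⟨x, hx⟩ := Submodule.Quotient.mk_surjective N (e.symm (Ideal.Quotient.mk n₀ 1))
        rw [← hx, ← Submodule.Quotient.mk_smul, hann b (hI hb) x, Submodule.Quotient.mk_zero]
      have h2 := congrArg e h1
      rw [map_smul, LinearEquiv.apply_symm_apply, map_zero, Algebra.smul_def,
        Ideal.Quotient.algebraMap_eq, map_one, mul_one] at h2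
      exact Ideal.Quotient.eq_zero_iff_mem.mp h2
    have hsum : (∑ n : {n : MaximalSpectrum B // Ideal.map (algebraMap A B) (IsLocalRing.maximalIdeal A) ≤ n.asIdeal},
        Module.length (Localization.AtPrime n.1.asIdeal) (LocalizedModule n.1.asIdeal.primeCompl (M ⧸ N))) = 1 := by
      rw [Finset.sum_eq_single ⟨⟨n₀, hn₀⟩, hle⟩]
      · exact Groth.Agent.LenLib.length_localized_quotient_eq_one n₀ e
      · intro n _ hn
        refine Groth.Agent.LenLib.length_localized_quotient_eq_zero n.1.asIdeal n₀ e (fun h => hn ?_)
        exact Subtype.ext (MaximalSpectrum.ext (hn₀.eq_of_le n.1.isMaximal.ne_top h).symm)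
      · intro h
        exact absurd (Finset.mem_univ _) h
    rw [hsum, (e.restrictScalars A).length_eq]
    -- B ⧸ n₀ is simple over A
    obtain ⟨-, hsurj⟩ := hres n₀ hle
    let g : A →ₗ[A] B ⧸ n₀ := (Algebra.linearMap A (B ⧸ n₀))
    have hg : Function.Surjective g := by
      intro y
      obtain ⟨x, hx⟩ := hsurj y
      obtain ⟨a, rfl⟩ := Ideal.Quotient.mk_surjective x
      exact ⟨a, hx⟩
    have hk : LinearMap.ker g = IsLocalRing.maximalIdeal A := by
      refine ((IsLocalRing.maximalIdeal.isMaximal A).eq_of_le ?_ ?_).symm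
      · intro h
        have h1 : g 1 = 0 := by
          rw [← LinearMap.mem_ker, h]; trivial
        simp [g] at h1
      · intro a ha
        show g a = 0
        exact Ideal.Quotient.eq_zero_iff_mem.mpr (hle (Ideal.mem_map_of_mem _ ha))
    rw [← (g.quotKerEquivOfSurjective hg).length_eq, (Submodule.quotEquivOfEq _ _ hk).length_eq]
    rw [Module.length_eq_one_iff, isSimpleModule_iff_isCoatom]
    exact (IsLocalRing.maximalIdeal.isMaximal A).out

/-- Let (A, m) be a local ring, B a commutative A-algebra which is free of finite rank d as an A-module,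
and assume that for every maximal ideal n of B containing mB the induced map of residue fields A/m →
B/n is bijective (as for the points of a fibre of a finite flat morphism of varieties over an
algebraically closed field). Then the multiplicities of the points of the fibre add up to the
degree: the sum over all such n of the length of the B_n-module (B/mB)_n equals d. -/
theorem result (A B : Type u) [CommRing A] [IsLocalRing A] [CommRing B] [Algebra A B]
    [Module.Free A B] [Module.Finite A B] (d : ℕ) (hd : Module.finrank A B = d)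
    (hres : ∀ (n : Ideal B) [n.IsMaximal] (h : Ideal.map (algebraMap A B) (IsLocalRing.maximalIdeal A) ≤ n),
      Function.Bijective (Ideal.quotientMap n (algebraMap A B) (Ideal.map_le_iff_le_comap.mp h))) :
    finsum (fun n : {n : MaximalSpectrum B // Ideal.map (algebraMap A B) (IsLocalRing.maximalIdeal A) ≤ n.asIdeal} =>
      Module.length (Localization.AtPrime n.1.asIdeal)
        (LocalizedModule n.1.asIdeal.primeCompl (B ⧸ Ideal.map (algebraMap A B) (IsLocalRing.maximalIdeal A)))) = (d : ℕ∞) := by
  classical
  let b : Module.Basis (Fin d) A B :=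
    (Module.finBasisOfFinrankEq A B hd)
  let m := IsLocalRing.maximalIdeal A
  let I := Ideal.map (algebraMap A B) m
  let π : B →ₗ[A] (Fin d → A ⧸ m) := LinearMap.pi (fun i => (Submodule.mkQ m).comp (b.coord i))
  have hπ : Function.Surjective π := by
    intro y
    choose x hx using fun i => Submodule.mkQ_surjective m (y i)
    refine ⟨b.equivFun.symm x, funext fun i => ?_⟩
    simp only [π, LinearMap.pi_apply, LinearMap.comp_apply, Module.Basis.coord_apply]
    rw [← b.equivFun_apply, LinearEquiv.apply_symm_apply]
    exact hx i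
  have hker : LinearMap.ker π = I.restrictScalars A := by
    show LinearMap.ker π = (Ideal.map (algebraMap A B) m).restrictScalars A
    rw [← Ideal.smul_top_eq_map]
    refine le_antisymm ?_ ?_
    · intro x hx
      rw [← b.sum_repr x]
      refine Submodule.sum_mem _ (fun i _ => Submodule.smul_mem_smul ?_ Submodule.mem_top)
      have := congrFun (LinearMap.mem_ker.mp hx) i
      simpa [π, Ideal.Quotient.eq_zero_iff_mem] using this
    · rw [Submodule.smul_le]
      intro a ha x _
      rw [LinearMap.mem_ker]
      funext i
      simp only [π, LinearMap.pi_apply, LinearMap.comp_apply, map_smul, Pi.zero_apply]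
      exact Ideal.Quotient.eq_zero_iff_mem.mpr (m.mul_mem_right _ ha)
  have hlen : Module.length A (B ⧸ I) = d := by
    have h1 : Module.length A (B ⧸ I) = Module.length A (Fin d → A ⧸ m) := by
      refine LinearEquiv.length_eq ?_
      exact (Submodule.Quotient.restrictScalarsEquiv A I).symm.trans
        ((Submodule.quotEquivOfEq _ _ hker.symm).trans (π.quotKerEquivOfSurjective hπ))
    haveI : IsSimpleModule A (A ⧸ m) :=
      isSimpleModule_iff_isCoatom.mpr (IsLocalRing.maximalIdeal.isMaximal A).out
    rw [h1, Module.length_pi_of_fintype]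
    simp [Module.length_eq_one]
  haveI : IsFiniteLength A (B ⧸ I) := Module.length_ne_top_iff.mp (by rw [hlen]; exact ENat.coe_ne_top d)
  obtain ⟨hNoeth, hArt⟩ := isFiniteLength_iff_isNoetherian_isArtinian.mp ‹IsFiniteLength A (B ⧸ I)›
  haveI : IsNoetherian B (B ⧸ I) := isNoetherian_of_tower A hNoeth
  haveI hArtB : IsArtinian B (B ⧸ I) := isArtinian_of_tower A hArt
  have hFL : IsFiniteLength B (B ⧸ I) :=
    isFiniteLength_iff_isNoetherian_isArtinian.mpr ⟨inferInstance, inferInstance⟩
  haveI : IsArtinianRing (B ⧸ I) := isArtinian_of_tower B hArtB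
  haveI : Finite {n : MaximalSpectrum B // Ideal.map (algebraMap A B) (IsLocalRing.maximalIdeal A) ≤ n.asIdeal} := by
    haveI : Finite {J : Ideal (B ⧸ I) // J.IsMaximal} := (IsArtinianRing.setOfPred_isMaximal_finite (B ⧸ I)).to_subtype
    have hsur : Function.Surjective (Ideal.Quotient.mk I) := Ideal.Quotient.mk_surjective
    refine Finite.of_injective (β := {J : Ideal (B ⧸ I) // J.IsMaximal})
      (fun n => ⟨n.1.asIdeal.map (Ideal.Quotient.mk I),
        haveI := n.1.isMaximal; Ideal.IsMaximal.map_of_surjective_of_ker_le hsur (by rw [Ideal.mk_ker]; exact n.2)⟩) ?_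
    intro n n' h
    have h' : n.1.asIdeal.map (Ideal.Quotient.mk I) = n'.1.asIdeal.map (Ideal.Quotient.mk I) :=
      congrArg Subtype.val h
    have h2 := congrArg (Ideal.comap (Ideal.Quotient.mk I)) h'
    rw [Ideal.comap_map_of_surjective _ hsur, Ideal.comap_map_of_surjective _ hsur,
      ← RingHom.ker_eq_comap_bot, Ideal.mk_ker, sup_eq_left.mpr n.2, sup_eq_left.mpr n'.2] at h2
    exact Subtype.ext (MaximalSpectrum.ext h2)
  letI := Fintype.ofFinite {n : MaximalSpectrum B // Ideal.map (algebraMap A B) (IsLocalRing.maximalIdeal A) ≤ n.asIdeal}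
  rw [finsum_eq_sum_of_fintype, ← hlen]
  refine (length_piece A B I le_rfl hres (B ⧸ I) hFL ?_).symm
  intro c hc x
  obtain ⟨y, rfl⟩ := Ideal.Quotient.mk_surjective x
  exact Ideal.Quotient.eq_zero_iff_mem.mpr (I.mul_mem_right y hc)

end Groth.Agent.S14438
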