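import Groth.Statements.S14439
import Groth.Agent.ProjTwist.Pn.LinearRes
import Groth.Agent.ProjTwist.Pn.TopCohom
import Groth.Agent.S10829

set_option autoImplicit false
universe u
open CategoryTheory CategoryTheory.Limits AlgebraicGeometry
open Variety

namespace Groth.Agent.S14439

section

open CategoryTheory CategoryTheory.Limits AlgebraicGeometry TopologicalSpace Polynomial
open Groth.Agent.ProjTwist Groth.Agent.ProjTwist.Pn Twist

set_option linter.style.haveILetI false

variable {n : ℕ} {k : Type u} [Field k]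

/-- The invariant of the `j`-th syzygy of an `m`-regular module. -/
structure Good (m : ℤ) (j : ℕ) (K : (CohB1.ProjSpace n k).Modules) : Prop where
  coh : Coh.IsCoh K
  reg : Curv2.IsMRegular k n K (m + j)
  vanish : ∀ (i : ℕ) (t : ℤ), 1 ≤ i → m ≤ t →
    Subsingleton (Coh.HH (CohB1.ProjSpace n k) (twF K t) i)
  h0 : 1 ≤ j → ∀ t : ℤ, t ≤ m + j - 1 → h0Tw K t = 0

theorem h0Tw_anti [Infinite k] {K : (CohB1.ProjSpace n k).Modules} (hK : Coh.IsCoh K) (t : ℤ) :
    h0Tw K (t - 1) ≤ h0Tw K t := by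
  obtain ⟨τ, hmono, -⟩ := exists_hyperSection (fun _ : Unit => K) (fun _ => hK)
  have hS : (ShortComplex.mk (τ.app K) (cokernel.π (τ.app K)) (cokernel.condition _)).ShortExact :=
    ShortComplex.ShortExact.mk' (ShortComplex.exact_cokernel _) (hmono ())
      (inferInstanceAs (Epi (cokernel.π (τ.app K))))
  refine le_trans (le_of_eq ?_) (h0Tw_le_of_mono hS hK t)
  exact (finrank_iso (twTw K (-1) t (t - 1) (by ring)) 0).symm

theorem h0Tw_eq_zero_of_le [Infinite k] {K : (CohB1.ProjSpace n k).Modules} (hK : Coh.IsCoh K)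
    {a : ℤ} (ha : h0Tw K a = 0) : ∀ c : ℕ, h0Tw K (a - c) = 0
  | 0 => by simpa using ha
  | c + 1 => by
    have h := h0Tw_anti hK (a - c)
    rw [h0Tw_eq_zero_of_le hK ha c] at h
    rw [show a - ((c + 1 : ℕ) : ℤ) = a - c - 1 by push_cast; ring]
    omega

theorem subsingleton_of_h0Tw {K : (CohB1.ProjSpace n k).Modules} (hK : Coh.IsCoh K) {t : ℤ}
    (h : h0Tw K t = 0) : Subsingleton (Coh.HH (CohB1.ProjSpace n k) (twF K t) 0) := by
  have := finite_hh (isCoh_tw hK t) 0
  exact Module.finrank_zero_iff.mp h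

theorem subsingleton_X₁_succ {X : Scheme.{u}} {S : ShortComplex X.Modules} (hS : S.ShortExact) (i : ℕ)
    (h₃ : Subsingleton (Coh.HH X S.X₃ i)) (h₂ : Subsingleton (Coh.HH X S.X₂ (i + 1))) :
    Subsingleton (Coh.HH X S.X₁ (i + 1)) := by
  refine subsingleton_of_forall_eq 0 fun x => ?_
  obtain ⟨y, rfl⟩ := CohLin.exists_hδ_eq hS x (Subsingleton.elim _ _)
  rw [Subsingleton.elim y 0, map_zero]

theorem step [Infinite k] {m : ℤ} {j : ℕ} (hj : j ≤ n) {K : (CohB1.ProjSpace n k).Modules}
    (h : Good m j K) :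
    ∃ (b : ℕ) (φ : (∐ fun _ : Fin b => twistProjSpace n k (-(m + j))) ⟶ K),
      Epi φ ∧ Good m (j + 1) (kernel φ) := by
  have := isLocallyNoetherian_projSpace n k
  obtain ⟨b, φ, hφ, hreg, hh0, -⟩ := exists_min_epi_of_isMRegular h.coh h.reg
  have hcoh : Coh.IsCoh (kernel φ) :=
    Pn.isCoh_kernel φ (isCoh_sum _ fun _ => isCoh_twistProjSpace n k _) h.coh.1
  have hreg' : Curv2.IsMRegular k n (kernel φ) (m + ((j + 1 : ℕ) : ℤ)) := by
    rwa [Nat.cast_succ, ← add_assoc]
  refine ⟨b, φ, hφ, hcoh, hreg', fun i t hi ht => ?_, fun _ t ht => ?_⟩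
  · obtain ⟨q, rfl⟩ := Nat.exists_eq_add_of_le' hi
    rcases Nat.eq_zero_or_pos q with rfl | hq
    · by_cases hmt : m + j ≤ t
      · exact subsingleton_of_le hcoh.1 hreg' le_rfl (by push_cast; omega)
      · have hz := h.h0 (by omega) t (by omega)
        refine subsingleton_X₁_succ (shortExact_tw (shortExact_kernel φ) t) 0 ?_
          (subsingleton_sum_twist b (m + j) t 1 le_rfl (by omega))
        exact subsingleton_of_h0Tw h.coh hz
    · exact subsingleton_X₁_succ (shortExact_tw (shortExact_kernel φ) t) q (h.vanish q t hq ht)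
        (subsingleton_sum_twist b (m + j) t (q + 1) hi (by omega))
  · obtain ⟨c, rfl⟩ : ∃ c : ℕ, t = m + j - c :=
      ⟨(m + j - t).toNat, by rw [Int.toNat_of_nonneg (by omega)]; ring⟩
    exact h0Tw_eq_zero_of_le hcoh hh0 c

theorem isZero_of_good [Infinite k] {m : ℤ} {K : (CohB1.ProjSpace n k).Modules} (h : Good m (n + 1) K) :
    IsZero K := by
  have hp : IsProper (CohB1.ProjSpace n k ↘ Spec (CommRingCat.of k)) := ProjProper.Basic.isProper_toSpec n k
  let G := twF K m
  have hG : Coh.IsCoh G := isCoh_tw h.coh m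
  suffices hz : IsZero G by
    exact ((twFun n k (-m)).map_isZero hz).of_iso (twTw K m (-m) 0 (add_neg_cancel m) ≪≫ twZero K).symm
  obtain ⟨P, hP⟩ := HilbPolyX.exists_hilbPoly k isAmple_one.1 hG
  have hdimX : topologicalKrullDim (CohB1.ProjSpace n k) ≤ (n : WithBot ℕ∞) :=
    (Groth.Agent.S10829.result k n).le
  have hdim : topologicalKrullDim (CohB1.support G) ≤ (n : WithBot ℕ∞) :=
    EulerChar.dim_support_le hdimX
  have hdeg : P.natDegree ≤ n := HilbPolyX.natDegree_le k isAmple_one.1 hG hP hdim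
  have hP0 : P = 0 := by
    refine Polynomial.eq_zero_of_natDegree_lt_card_of_eval_eq_zero P
      (f := fun s : Fin (n + 1) => ((s : ℕ) : ℚ)) (fun a b hab => Fin.ext (by simpa using hab))
      (fun s => ?_) (by rw [Fintype.card_fin]; omega)
    rw [← chi_eq_hilb hP, Int.cast_eq_zero, chi_tw, chi,
      EulerChar.euler_eq_sum k (t := 1) fun i hi => h.vanish i _ (by omega) (by omega)]
    have hz := h.h0 (by omega) (m + (s : ℕ)) (by have := s.2; push_cast; omega)
    simp only [h0Tw] at hz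
    simp [hz]
  by_contra hz
  have hne : (CohB1.support G).Nonempty := Set.nonempty_iff_ne_empty.mpr fun he =>
    hz (CohDev.isZero_of_support_eq_empty he)
  obtain ⟨d, hd⟩ : ∃ d : ℕ, topologicalKrullDim (CohB1.support G) = (d : WithBot ℕ∞) := by
    have : Nonempty (CohB1.support G) := hne.to_subtype
    have : Nonempty (IrreducibleCloseds (CohB1.support G)) :=
      ⟨⟨closure {this.some}, isIrreducible_singleton.closure, isClosed_closure⟩⟩
    have h0 : (0 : WithBot ℕ∞) ≤ topologicalKrullDim (CohB1.support G) := Order.krullDim_nonneg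
    generalize topologicalKrullDim (CohB1.support G) = D at h0 hdim
    cases D with
    | bot => simp at h0
    | coe a =>
      cases a with
      | top => exact absurd (top_le_iff.mp (WithBot.coe_le_coe.mp hdim)) (ENat.coe_ne_top n)
      | coe b => exact ⟨b, rfl⟩
  have hpos := HilbPolyX.coeff_pos k isAmple_one d hG hP hd
  rw [hP0, Polynomial.coeff_zero] at hpos
  exact lt_irrefl _ hpos

/-- Past the `n`-th step the syzygy vanishes. -/
def Inv (m : ℤ) (j : ℕ) (K : (CohB1.ProjSpace n k).Modules) : Prop :=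
  (j ≤ n + 1 → Good m j K) ∧ (n + 1 ≤ j → IsZero K)

theorem step' [Infinite k] (m : ℤ) (j : ℕ) (K : (CohB1.ProjSpace n k).Modules) (h : Inv m j K) :
    ∃ (b : ℕ) (φ : (∐ fun _ : Fin b => twistProjSpace n k (-(m + j))) ⟶ K),
      Epi φ ∧ (n + 1 ≤ j → b = 0) ∧ Inv m (j + 1) (kernel φ) := by
  by_cases hj : j ≤ n
  · obtain ⟨b, φ, hφ, hg⟩ := step hj (h.1 (by omega))
    refine ⟨b, φ, hφ, fun hn => absurd hn (by omega), fun _ => hg, fun hn => ?_⟩
    have : j = n := by omega
    subst this
    exact isZero_of_good hg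
  · have hK := h.2 (by omega)
    have hzero : IsZero (∐ fun _ : Fin 0 => twistProjSpace n k (-(m + j))) := by
      rw [IsZero.iff_id_eq_zero]
      exact Sigma.hom_ext _ _ fun i => i.elim0
    refine ⟨0, 0, ?_, fun _ => rfl, fun hn => absurd hn (by omega), fun _ => ?_⟩
    · exact ⟨fun g g' _ => hK.eq_of_src g g'⟩
    · exact IsZero.of_mono (kernel.ι _) hzero

theorem exists_good [Infinite k] {F : (CohB1.ProjSpace n k).Modules} (hF : Coh.IsCoh F) :
    ∃ m : ℤ, Inv m 0 F := by
  obtain ⟨d₀, hd₀⟩ := Pn.serre_vanishing F hF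
  refine ⟨d₀ + n, fun _ => ⟨hF, fun i hi hin => hd₀ _ (by push_cast; omega) i hi,
    fun i t hi ht => hd₀ t (by omega) i hi, fun hh => absurd hh (by omega)⟩, fun hh => absurd hh (by omega)⟩

section Chain

variable [Infinite k] (m : ℤ) (F : (CohB1.ProjSpace n k).Modules) (hF : Inv m 0 F)

/-- The syzygies. -/
noncomputable def syz : (j : ℕ) → {K : (CohB1.ProjSpace n k).Modules // Inv m j K}
  | 0 => ⟨F, hF⟩
  | j + 1 => ⟨kernel (step' m j (syz j).1 (syz j).2).choose_spec.choose,
      (step' m j (syz j).1 (syz j).2).choose_spec.choose_spec.2.2⟩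

noncomputable def rk (j : ℕ) : ℕ := (step' m j (syz m F hF j).1 (syz m F hF j).2).choose

noncomputable def term (j : ℕ) : (CohB1.ProjSpace n k).Modules :=
  ∐ fun _ : Fin (rk m F hF j) => twistProjSpace n k (-(m + j))

noncomputable def proj (j : ℕ) : term m F hF j ⟶ (syz m F hF j).1 :=
  (step' m j (syz m F hF j).1 (syz m F hF j).2).choose_spec.choose

instance epi_proj (j : ℕ) : Epi (proj m F hF j) :=
  (step' m j (syz m F hF j).1 (syz m F hF j).2).choose_spec.choose_spec.1

noncomputable def incl (j : ℕ) : (syz m F hF (j + 1)).1 ⟶ term m F hF j := kernel.ι (proj m F hF j)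

instance mono_incl (j : ℕ) : Mono (incl m F hF j) :=
  inferInstanceAs (Mono (kernel.ι (proj m F hF j)))

theorem incl_proj (j : ℕ) : incl m F hF j ≫ proj m F hF j = 0 := kernel.condition _

noncomputable def diff (j : ℕ) : term m F hF (j + 1) ⟶ term m F hF j := proj m F hF (j + 1) ≫ incl m F hF j

theorem diff_proj (j : ℕ) : diff m F hF j ≫ proj m F hF j = 0 := by
  rw [diff, Category.assoc, incl_proj, Limits.comp_zero]

theorem diff_diff (j : ℕ) : diff m F hF (j + 1) ≫ diff m F hF j = 0 := by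
  rw [diff, diff, ← Category.assoc (proj m F hF (j + 2) ≫ incl m F hF (j + 1)),
    Category.assoc (proj m F hF (j + 2)), incl_proj, Limits.comp_zero, Limits.zero_comp]

theorem exact_proj (j : ℕ) :
    (ShortComplex.mk (diff m F hF j) (proj m F hF j) (diff_proj m F hF j)).Exact := by
  let S₀ := ShortComplex.mk (incl m F hF j) (proj m F hF j) (incl_proj m F hF j)
  have h0 : S₀.Exact := ShortComplex.exact_of_f_is_kernel S₀ (kernelIsKernel (proj m F hF j))
  let f : ShortComplex.mk (diff m F hF j) (proj m F hF j) (diff_proj m F hF j) ⟶ S₀ :=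
    { τ₁ := proj m F hF (j + 1), τ₂ := 𝟙 _, τ₃ := 𝟙 _
      comm₁₂ := by simp [S₀, diff]
      comm₂₃ := by simp [S₀] }
  have : Epi f.τ₁ := epi_proj m F hF (j + 1)
  exact (ShortComplex.exact_iff_of_epi_of_isIso_of_mono f).mpr h0

theorem exact_diff (j : ℕ) :
    (ShortComplex.mk (diff m F hF (j + 1)) (diff m F hF j) (diff_diff m F hF j)).Exact := by
  let f : ShortComplex.mk (diff m F hF (j + 1)) (proj m F hF (j + 1)) (diff_proj m F hF (j + 1)) ⟶
      ShortComplex.mk (diff m F hF (j + 1)) (diff m F hF j) (diff_diff m F hF j) :=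
    { τ₁ := 𝟙 _, τ₂ := 𝟙 _, τ₃ := incl m F hF j
      comm₁₂ := by simp
      comm₂₃ := by simp [diff] }
  exact (ShortComplex.exact_iff_of_epi_of_isIso_of_mono f).mp (exact_proj m F hF (j + 1))

theorem isZero_term {j : ℕ} (hj : n + 1 ≤ j) : IsZero (term m F hF j) := by
  have h0 : rk m F hF j = 0 :=
    (step' m j (syz m F hF j).1 (syz m F hF j).2).choose_spec.choose_spec.2.1 hj
  haveI : IsEmpty (Fin (rk m F hF j)) := by rw [h0]; exact Fin.isEmpty
  rw [term, IsZero.iff_id_eq_zero]
  exact Sigma.hom_ext _ _ fun i => isEmptyElim i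

include hF in
theorem main :
    ∃ (C : ChainComplex (CohB1.ProjSpace n k).Modules ℕ) (π : C.X 0 ⟶ F) (w : C.d 1 0 ≫ π = 0),
      (∀ i : ℕ, n + 1 < i → IsZero (C.X i)) ∧
      (∀ i : ℕ, ∃ (m : ℕ) (d : Fin m → ℤ),
        Nonempty (C.X i ≅ ∐ fun j : Fin m => Twist.twistProjSpace n k (d j))) ∧
      (∀ i : ℕ, 1 ≤ i → IsZero (C.homology i)) ∧ Epi π ∧
      (ShortComplex.mk (C.d 1 0) π w).Exact := by
  let C := ChainComplex.of (term m F hF) (diff m F hF) (diff_diff m F hF)
  have hd : ∀ j, C.d (j + 1) j = diff m F hF j := fun j => ChainComplex.of_d _ _ _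
  refine ⟨C, proj m F hF 0, by rw [hd]; exact diff_proj m F hF 0,
    fun i hi => isZero_term m F hF (by omega), fun i => ⟨_, _, ⟨Iso.refl _⟩⟩, fun i hi => ?_,
    epi_proj m F hF 0, ?_⟩
  · obtain ⟨j, rfl⟩ := Nat.exists_eq_add_of_le' hi
    rw [← HomologicalComplex.exactAt_iff_isZero_homology,
      HomologicalComplex.exactAt_iff' C (j + 2) (j + 1) j (by simp) (by simp)]
    refine ShortComplex.exact_of_iso ?_ (exact_diff m F hF j)
    exact ShortComplex.isoMk (Iso.refl _) (Iso.refl _) (Iso.refl _)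
      (by simp [hd] <;> exact (Category.id_comp _).trans (Category.comp_id _).symm)
      (by simp [hd] <;> exact (Category.id_comp _).trans (Category.comp_id _).symm)
  · refine ShortComplex.exact_of_iso ?_ (exact_proj m F hF 0)
    exact ShortComplex.isoMk (Iso.refl _) (Iso.refl _) (Iso.refl _)
      (by simp [hd] <;> exact (Category.id_comp _).trans (Category.comp_id _).symm)
      (by simp <;> first | rfl | exact (Category.comp_id (proj m F hF 0)).symm | exact (Category.id_comp _).trans (Category.comp_id (proj m F hF 0)).symm)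

end Chain

end


/-- Let k be an algebraically closed field, n ≥ 0 and F a coherent sheaf on P^n_k. Then F has a locally
free resolution 0 → E_{n+1} → ⋯ → E_1 → E_0 → F → 0 of length at most n + 1 in which every E_i is a
finite direct sum of twisting sheaves O(d): there are a chain complex C of O-modules with C_i = 0
for i > n + 1, each C_i isomorphic to a finite coproduct of twisting sheaves, exact in positive
degrees, and an epimorphism C_0 → F whose kernel is the image of C_1 → C_0. -/
theorem result (k : Type u) [Field k] [IsAlgClosed k] (n : ℕ)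
    (F : (CohB1.ProjSpace n k).Modules) (hF : Coh.IsCoh F) :
    ∃ (C : ChainComplex (CohB1.ProjSpace n k).Modules ℕ) (π : C.X 0 ⟶ F) (w : C.d 1 0 ≫ π = 0),
      (∀ i : ℕ, n + 1 < i → IsZero (C.X i)) ∧
      (∀ i : ℕ, ∃ (m : ℕ) (d : Fin m → ℤ), Nonempty (C.X i ≅ ∐ fun j : Fin m => Twist.twistProjSpace n k (d j))) ∧
      (∀ i : ℕ, 1 ≤ i → IsZero (C.homology i)) ∧ Epi π ∧ (ShortComplex.mk (C.d 1 0) π w).Exact := by
  obtain ⟨m, hm⟩ := exists_good hF
  exact main m F hm

end Groth.Agent.S14439
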