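import Groth.Statements.S1444
import Groth.Agent.FlatMor.CechH1.Global
import Groth.Agent.S7411

set_option autoImplicit false
universe u
open FlatMor

namespace Groth.Agent.S1444

open AlgebraicGeometry CategoryTheory Limits in
/-- Let f : X → Y be proper with Y affine, all fibres of f of dimension at most 1, and H¹(X_y, O_{X_y})
= 0 for every point y of Y. Then H¹(X, F) = 0 for every quasi-coherent O_X-module F which is
globally generated (a quotient of a direct sum of copies of the structure sheaf). -/
theorem result {X Y : Scheme.{u}} (f : X ⟶ Y) [IsProper f] [IsAffine Y]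
    (hdim : ∀ y : Y, topologicalKrullDim ↑(f.fiber y) ≤ 1) (hH1 : ∀ y : Y, Subsingleton (Coh.HH (f.fiber y) (Coh.structureModule (f.fiber y)) 1))
    (F : X.Modules) (hF : Coh.IsQCoh F) (ι : Type u) (e : (∐ fun _ : ι => Coh.structureModule X) ⟶ F) [Epi e] :
    Subsingleton (Coh.HH X F 1) := by
  classical
  haveI : F.IsQuasicoherent := hF
  haveI : (Coh.structureModule X).IsQuasicoherent := Groth.Agent.WeakAssSch.isQuasicoherent_unit X
  obtain ⟨D⟩ := Groth.Agent.CBC.nonempty_model f (isAffineOpen_top Y)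
  haveI : Fintype D.ι := Fintype.ofFinite _
  have hcov : iSup D.U = ⊤ := top_le_iff.mp D.cov
  have hO1 := Groth.Agent.FlatMor.CechH1.exact1_global f hdim hH1 D
  have hvan : Groth.Agent.VanQC.Van D.U 1 := fun M hM n hn => by
    haveI := hM
    haveI : Coh.IsQCoh M := hM
    refine Groth.Agent.VanQC.cechExact_of_subsingleton_rpush D M (isAffineOpen_top Y) n ?_
    exact Groth.Agent.VanQC.subsingleton_rpush_sections f M (n + 1) ⊤ fun y _ =>
      Groth.Agent.S7411.result f y 1 (hdim y) M (n + 1) (Nat.lt_succ_of_le hn)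
  have hex : Groth.Agent.CohAff.CechExact (X := X.toPresheafedSpace.carrier) F.presheaf D.U 0 := by
    intro z hz
    choose S a hza using fun x => Groth.Agent.FlatMor.CechH1.exists_finset_sum e (D.aff (n := 1) x) (z x)
    let T := Finset.univ.biUnion S
    let s : Fin T.card → Γ(F, (⊤ : X.Opens)) := fun j =>
      (Sigma.ι (fun _ : ι => Coh.structureModule X) (T.equivFin.symm j).1 ≫ e).app ⊤ (1 : Γ(X, ⊤))
    obtain ⟨c, hc, hzc⟩ := Groth.Agent.FlatMor.CechH1.exists_cocycle_lift hvan F s z hz fun x => by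
      refine ⟨fun j => if (T.equivFin.symm j).1 ∈ S x then a x (T.equivFin.symm j).1 else 0, ?_⟩
      let g : ι → Γ(F, Groth.Agent.FlatMor.CechH1.iO D.U x) := fun i => (if i ∈ S x then a x i else 0) •
        F.presheaf.map (homOfLE le_top).op
          ((Sigma.ι (fun _ : ι => Coh.structureModule X) i ≫ e).app ⊤ (1 : Γ(X, ⊤)))
      refine (hza x).trans (Eq.trans ?_ ((T.equivFin.symm.sum_comp fun i => g i.1).symm))
      rw [Finset.sum_coe_sort T g]
      refine (Finset.sum_congr rfl fun i hi => ?_).trans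
        (Finset.sum_subset (Finset.subset_biUnion_of_mem S (Finset.mem_univ x)) fun i _ hi => ?_)
      · show _ = (if i ∈ S x then a x i else 0) • _
        rw [if_pos hi]
      · show (if i ∈ S x then a x i else 0) • _ = 0
        rw [if_neg hi]
        exact zero_smul _ _
    choose t ht using fun j => show ∃ t : Groth.Agent.FlatMor.CechH1.Coch (Coh.structureModule X) D.U 0,
      Groth.Agent.CohAff.cd (Coh.structureModule X).presheaf D.U 0 t = c j from hO1 (c j) (hc j)
    let g' : Fin T.card → (Coh.structureModule X ⟶ F) := fun j => Groth.Agent.Props.GenLocus.homOfSec (s j)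
    refine ⟨∑ j, Groth.Agent.CohAff.cmap (g' j).mapPresheaf D.U 0 (t j), ?_⟩
    funext x
    rw [map_sum, Finset.sum_apply, hzc x]
    refine Finset.sum_congr rfl fun j _ => ?_
    rw [Groth.Agent.CohAff.cd_cmap, ht j]
    refine (Groth.Agent.Props.GenLocus.app_eq (g' j) _ (c j x)).trans ?_
    rw [Groth.Agent.Props.GenLocus.sec_homOfSec]
  obtain ⟨c⟩ := Groth.Agent.CohTop.CechBasic.cech_eq_HU D.U 1 (Coh.toAb F)
    (fun m x q => Groth.Agent.LocCoh.Punctured.subsingleton_HU_of_isAffineOpen F (D.aff x) q)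
  have h1 : Subsingleton (CohTop.cechH (Coh.toAb F).obj D.U 1) :=
    AddCommGrpCat.subsingleton_of_isZero
      ((Groth.Agent.CohAff.isZero_homology_iff_cechExact _ D.U 0).mpr hex)
  have h2 : Subsingleton (CohTop.HU (Coh.toAb F) 1 ⊤) := hcov ▸ c.symm.toEquiv.subsingleton
  exact (Groth.Agent.CohTop.Basic.HEquivHUTop (Coh.toAb F) 1).toEquiv.subsingleton

end Groth.Agent.S1444
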