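import Groth.Statements.S14440
import Groth.Agent.S10915
import Groth.Agent.GrCI.Hilbert
import Groth.Agent.GrCI.Regular

set_option autoImplicit false
universe u
open ProjDeg

namespace Groth.Agent.S14440

/-- Let k be an algebraically closed field and H_1, …, H_n hypersurfaces in P^n given by homogeneous
polynomials f_1, …, f_n of degrees d_1, …, d_n ≥ 1 in S = k[x_0, …, x_n], meeting in finitely many
points, i.e. S/(f_1, …, f_n) has Krull dimension one. Then the intersection multiplicities of the
H_i at the points of H_1 ∩ ⋯ ∩ H_n add up to d_1 ⋯ d_n; stated here in the form established in the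
proof: the Hilbert function of S/(f_1, …, f_n) is eventually the constant Π d_i, i.e. for all large
m, dim_k S_m − dim_k ((f_1, …, f_n) ∩ S_m) = Π d_i (this constant is the degree of O_{H_1} ⊗ ⋯ ⊗
O_{H_n}, the sum of the lengths of its stalks). -/
theorem result (k : Type u) [Field k] [IsAlgClosed k] (n : ℕ)
    (f : Fin n → MvPolynomial (Fin (n + 1)) k) (d : Fin n → ℕ) (hd : ∀ i, 1 ≤ d i)
    (hf : ∀ i, (f i).IsHomogeneous (d i))
    (hdim : ringKrullDim (MvPolynomial (Fin (n + 1)) k ⧸ Ideal.span (Set.range f)) = 1) :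
    ∃ m₀ : ℕ, ∀ m : ℕ, m₀ ≤ m →
      Module.finrank k ↥(MvPolynomial.homogeneousSubmodule (Fin (n + 1)) k m) -
        Module.finrank k ↥((Ideal.span (Set.range f)).restrictScalars k ⊓ MvPolynomial.homogeneousSubmodule (Fin (n + 1)) k m) =
      ∏ i : Fin n, d i := by
  classical
  set J : Ideal (MvPolynomial (Fin (n + 1)) k) := Ideal.span (Set.range f)
  set M' : Ideal (MvPolynomial (Fin (n + 1)) k) := Ideal.span (Set.range (MvPolynomial.X : Fin (n + 1) → (MvPolynomial (Fin (n + 1)) k)))
  haveI := S10915.irr_isMaximal (k := k) (n := n)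
  have hJh : J.IsHomogeneous (CohB1.polyGrading n k) :=
    Ideal.homogeneous_span _ _ (by rintro x ⟨i, rfl⟩; exact ⟨d i, hf i⟩)
  have hJne : J ≠ ⊤ := fun h => by
    rw [h] at hdim
    haveI : Subsingleton ((MvPolynomial (Fin (n + 1)) k) ⧸ (⊤ : Ideal (MvPolynomial (Fin (n + 1)) k))) := Ideal.Quotient.subsingleton_iff.mpr rfl
    rw [ringKrullDim_eq_bot_of_subsingleton] at hdim
    exact absurd hdim.symm (by simp)
  have hJM : J ≤ M' := S10915.le_irr_of_isHomogeneous hJh hJne
  have hD : S10915.DimLE J (0 + 1) := by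
    intro l hl
    have hcomap : ∀ i, J ≤ (l i).asIdeal := fun i => hl.trans (l.monotone (Fin.zero_le i))
    let g : Fin (l.length + 1) → PrimeSpectrum ((MvPolynomial (Fin (n + 1)) k) ⧸ J) := fun i =>
      ⟨(l i).asIdeal.map (Ideal.Quotient.mk J),
        Ideal.map_isPrime_of_surjective Ideal.Quotient.mk_surjective (by rw [Ideal.mk_ker]; exact hcomap i)⟩
    have hg : StrictMono g := fun i j hij => by
      refine lt_of_le_of_ne (Ideal.map_mono (l.monotone hij.le)) fun heq => (l.strictMono hij).ne ?_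
      apply PrimeSpectrum.ext
      have := congrArg (fun q : PrimeSpectrum ((MvPolynomial (Fin (n + 1)) k) ⧸ J) => q.asIdeal.comap (Ideal.Quotient.mk J)) heq
      simp only [g] at this
      rw [Ideal.comap_map_of_surjective _ Ideal.Quotient.mk_surjective,
        Ideal.comap_map_of_surjective _ Ideal.Quotient.mk_surjective] at this
      simpa [← RingHom.ker_eq_comap_bot, Ideal.mk_ker, sup_of_le_left, hcomap] using this
    have := Order.LTSeries.length_le_krullDim (LTSeries.mk _ g hg)
    change (l.length : WithBot ℕ∞) ≤ ringKrullDim ((MvPolynomial (Fin (n + 1)) k) ⧸ J) at this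
    rw [hdim] at this
    exact_mod_cast this
  obtain ⟨h, hh, hcase⟩ := S10915.step hJh hJM hD
  have hhM : h ∈ M' := by
    have h' : h ∈ Submodule.span k (Set.range (MvPolynomial.X : Fin (n + 1) → (MvPolynomial (Fin (n + 1)) k))) := by
      rw [← MvPolynomial.homogeneousSubmodule_one_eq_span_X]; exact hh
    exact (Submodule.span_le (p := M'.restrictScalars k)).mpr Ideal.subset_span h'
  have hrad : M' ≤ (J ⊔ Ideal.span {h}).radical := by
    rcases hcase with hrad | hd'
    · exact hrad.trans (Ideal.radical_mono le_sup_left)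
    have hJ' : (J ⊔ Ideal.span {h}).IsHomogeneous (CohB1.polyGrading n k) :=
      hJh.sup (Ideal.homogeneous_span _ _ (by rintro x rfl; exact ⟨1, hh⟩))
    rw [← Ideal.sInf_minimalPrimes]
    refine le_sInf fun P hP => ?_
    have hPM := S10915.le_irr_of_isHomogeneous (S10915.isHomogeneous_of_mem_minimalPrimes hJ' hP) hP.1.1.ne_top
    by_contra hne
    have hlt : (⟨P, hP.1.1⟩ : PrimeSpectrum (MvPolynomial (Fin (n + 1)) k)) < ⟨M', (S10915.irr_isMaximal (k := k) (n := n)).isPrime⟩ :=
      lt_of_le_not_ge hPM hne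
    have := hd' ((RelSeries.singleton _ (⟨M', (S10915.irr_isMaximal (k := k) (n := n)).isPrime⟩ :
      PrimeSpectrum (MvPolynomial (Fin (n + 1)) k))).cons ⟨P, hP.1.1⟩ hlt) (hP.1.2.trans_eq rfl)
    change 0 + 1 ≤ 0 at this
    omega
  -- the complete intersection with the linear form
  let g : Fin (n + 1) → (MvPolynomial (Fin (n + 1)) k) := Fin.snoc f h
  let ε : Fin (n + 1) → ℕ := Fin.snoc d 1
  let δ : Fin (n + 1) → ℕ := fun _ => 1
  have hδ : ∀ i, 0 < δ i := fun _ => one_pos
  have hgε : ∀ i, MvPolynomial.IsWeightedHomogeneous δ (g i) (ε i) := by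
    intro i
    refine Fin.lastCases ?_ (fun j => ?_) i
    · simp only [g, ε, Fin.snoc_last]; exact hh
    · simp only [g, ε, Fin.snoc_castSucc]; exact hf j
  have hε : ∀ i, 0 < ε i := by
    intro i
    refine Fin.lastCases ?_ (fun j => ?_) i
    · simp [ε]
    · simp only [ε, Fin.snoc_castSucc]; exact hd j
  have hrange : Ideal.span (Set.range g) = J ⊔ Ideal.span {h} := by
    simp only [g, Fin.range_snoc, Ideal.span_insert]
    exact sup_comm _ _
  have hirr : (GrCI.irr : Ideal (MvPolynomial (Fin (n + 1)) k)) = M' := by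
    rw [show M' = _ from S10915.irr_eq_ker, GrCI.irr, MvPolynomial.eval_zero]
  have hreg := GrCI.isWeaklyRegular_of_radical hδ g ε hε hgε (by rw [hirr, hrange]; exact hrad)
  have hregf : ∀ (i : Fin n) x, f i * x ∈ Ideal.span (f '' {j | j.val < i.val}) →
      x ∈ Ideal.span (f '' {j | j.val < i.val}) := by
    intro i x hx
    have := (GrCI.isWeaklyRegular_iff g).mp hreg i.castSucc x
    have himg : g '' {j | j.val < i.castSucc.val} = f '' {j | j.val < i.val} := by
      ext y
      constructor
      · rintro ⟨j, hj, rfl⟩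
        have hj' : j.val < n := lt_trans hj i.isLt
        refine ⟨⟨j.val, hj'⟩, hj, ?_⟩
        simp [g, Fin.snoc, hj', Fin.castLT]
      · rintro ⟨j, hj, rfl⟩
        exact ⟨j.castSucc, hj, by simp [g]⟩
    rw [himg] at this
    exact this (by simpa [g] using hx)
  have hH : GrCI.H δ J * ∏ _i : Fin (n + 1), (1 - PowerSeries.X ^ 1) =
      ∏ i : Fin n, (1 - PowerSeries.X ^ d i) := by
    rw [show J = Ideal.span (Set.range f) from rfl, GrCI.H_seq hδ f d (fun i => hf i) hregf,
      mul_right_comm, GrCI.H_bot hδ, one_mul]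
  let Q : Polynomial ℤ := ∏ i : Fin n, ∑ j ∈ Finset.range (d i), Polynomial.X ^ j
  have hQ1 : Q.eval 1 = ∏ i : Fin n, (d i : ℤ) := by simp [Q, Polynomial.eval_prod, Polynomial.eval_finset_sum]
  have hfac : ∀ m : ℕ, (1 - PowerSeries.X ^ m : PowerSeries ℤ) =
      (1 - PowerSeries.X) * (∑ j ∈ Finset.range m, PowerSeries.X ^ j) :=
    fun m => (mul_neg_geom_sum _ _).symm
  have hH1 : GrCI.H δ J * (1 - PowerSeries.X) = (Q : PowerSeries ℤ) := by
    have h1 : (1 - PowerSeries.X : PowerSeries ℤ) ≠ 0 := fun h0 => by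
      have := congrArg PowerSeries.constantCoeff h0
      simp at this
    have hQc : (Q : PowerSeries ℤ) = ∏ i : Fin n, ∑ j ∈ Finset.range (d i), PowerSeries.X ^ j := by
      rw [← Polynomial.coeToPowerSeries.ringHom_apply, map_prod]
      simp [map_sum]
    simp only [pow_one, Finset.prod_const, Finset.card_univ, Fintype.card_fin] at hH
    rw [Finset.prod_congr rfl (fun i _ => hfac (d i)), Finset.prod_mul_distrib, Finset.prod_const,
      Finset.card_univ, Fintype.card_fin, ← hQc, pow_succ', ← mul_assoc] at hH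
    exact mul_right_cancel₀ (pow_ne_zero n h1) (hH.trans (mul_comm _ _))
  refine ⟨Q.natDegree, fun m hm => ?_⟩
  have hcoef : ∀ u, (PowerSeries.coeff u) (GrCI.H δ J) = ∑ j ∈ Finset.range (u + 1), Q.coeff j := by
    intro u
    induction u with
    | zero =>
      have := congrArg (PowerSeries.coeff 0) hH1
      simpa using this
    | succ u ih =>
      have := congrArg (PowerSeries.coeff (u + 1)) hH1
      rw [mul_sub, mul_one, map_sub, PowerSeries.coeff_succ_mul_X, ih, Polynomial.coeff_coe] at this
      rw [Finset.sum_range_succ _ (u + 1)]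
      linarith
  have hm1 := hcoef m
  rw [← show ∑ j ∈ Finset.range (m + 1), Q.coeff j * (1 : ℤ) ^ j = ∑ j ∈ Finset.range (m + 1), Q.coeff j from
      Finset.sum_congr rfl (fun j _ => by simp),
    ← Polynomial.eval_eq_sum_range' (Nat.lt_succ_of_le hm) 1, hQ1, GrCI.H, PowerSeries.coeff_mk] at hm1
  have hV : Module.finrank k ↥(GrCI.V δ J m) = ∏ i : Fin n, d i := by exact_mod_cast hm1
  rw [← hV]
  set W := MvPolynomial.homogeneousSubmodule (Fin (n + 1)) k m
  haveI : Module.Finite k W := Module.Finite.iff_fg.mpr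
    (MvPolynomial.weightedHomogeneousSubmodule_fg k δ (fun i => (hδ i).ne') m)
  let π : W →ₗ[k] (MvPolynomial (Fin (n + 1)) k) ⧸ J := (Ideal.Quotient.mkₐ k J).toLinearMap.comp W.subtype
  have hrk := π.finrank_range_add_finrank_ker
  have hr : LinearMap.range π = GrCI.V δ J m := by
    rw [LinearMap.range_comp, Submodule.range_subtype]
    rfl
  have hk : LinearMap.ker π = ((J.restrictScalars k) ⊓ W).comap W.subtype := by
    ext w
    simp [π, Ideal.Quotient.eq_zero_iff_mem]
  rw [hr, hk, (Submodule.comapSubtypeEquivOfLe (inf_le_right : (J.restrictScalars k) ⊓ W ≤ W)).finrank_eq] at hrk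
  omega

end Groth.Agent.S14440
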