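import Groth.Statements.S14441
import Mathlib
-- import your own Groth.Agent.* helpers here

set_option autoImplicit false
universe u
open Variety

namespace Groth.Agent.S14441

/-- Let k be an algebraically closed field and f : X → Y a dominant morphism of irreducible varieties
over k such that the extension of function fields k(X)/k(Y) is separable (has a separating
transcendence basis); then f is smooth on some nonempty open subset of X. Affine form: A → B an
injective k-algebra homomorphism of integral domains of finite type over k, K = Frac A ⊆ L = Frac B,
a_1, …, a_n a transcendence basis of L over K with L separable over K(a_1, …, a_n); then there is g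
≠ 0 in B such that every localization B[1/g] is a smooth A-algebra. -/
theorem result (k : Type u) [Field k] [IsAlgClosed k]
    (A B : Type u) [CommRing A] [CommRing B] [IsDomain A] [IsDomain B] [Algebra k A] [Algebra k B] [Algebra A B] [IsScalarTower k A B]
    [Algebra.FiniteType k A] [Algebra.FiniteType k B] (hinj : Function.Injective (algebraMap A B))
    (K L : Type u) [Field K] [Field L] [Algebra A K] [IsFractionRing A K] [Algebra B L] [IsFractionRing B L]
    [Algebra K L] [Algebra A L] [IsScalarTower A B L] [IsScalarTower A K L]
    (n : ℕ) (a : Fin n → L) (ha : IsTranscendenceBasis K a)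
    (hsep : Algebra.IsSeparable ↥(IntermediateField.adjoin K (Set.range a)) L) :
    ∃ g : B, g ≠ 0 ∧ ∀ (C : Type u) [CommRing C] [Algebra B C] [IsLocalization.Away g C] [Algebra A C] [IsScalarTower A B C],
      Algebra.Smooth A C := by

  have := Algebra.FiniteType.isNoetherianRing k A
  have : Algebra.FiniteType A B := Algebra.FiniteType.of_restrictScalars_finiteType k A B
  have : Algebra.FinitePresentation A B := Algebra.FinitePresentation.of_finiteType.mp inferInstance
  have : Algebra.FormallySmooth A K := Algebra.FormallySmooth.of_isLocalization (nonZeroDivisors A)
  have : Algebra.FormallySmooth K L :=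
    Algebra.FormallySmooth.of_algebraicIndependent_of_isSeparable ha.1
  have hAL : Algebra.FormallySmooth A L := Algebra.FormallySmooth.comp A K L
  have : IsLocalization.AtPrime L (⊥ : Ideal B) := by
    have h : (⊥ : Ideal B).primeCompl = nonZeroDivisors B := by
      ext x
      simp
    show IsLocalization (⊥ : Ideal B).primeCompl L
    rw [h]
    infer_instance
  have : Algebra.IsSmoothAt A (⊥ : Ideal B) :=
    Algebra.FormallySmooth.of_equiv
      ((IsLocalization.algEquiv (⊥ : Ideal B).primeCompl L (Localization.AtPrime (⊥ : Ideal B))).restrictScalars A)
  obtain ⟨g, hg, hsm⟩ := Algebra.IsSmoothAt.exists_notMem_smooth (R := A) (⊥ : Ideal B)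
  refine ⟨g, by simpa using hg, ?_⟩
  intro C _ _ _ _ _
  exact Algebra.Smooth.of_equiv
    ((IsLocalization.algEquiv (Submonoid.powers g) (Localization.Away g) C).restrictScalars A)

end Groth.Agent.S14441
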