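import Groth.Statements.S14443
import Groth.Agent.CVar22.OmegaFibre
import Groth.Agent.CycLib.FieldDelta
import Groth.Agent.CycLib.DimFun
import Groth.Agent.S16188
import Groth.Agent.Omega.DiagUniv
import Groth.Agent.StrictSSLib.OdpEtale

set_option autoImplicit false
universe u
open CategoryTheory CategoryTheory.Limits AlgebraicGeometry
attribute [local instance] FixPt.fiberModule
open Variety

namespace Groth.Agent.S14443

/-- Let k be an algebraically closed field, f : X → Y a morphism of k-schemes of finite type, x a closed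
point of X and Z an irreducible closed subset of the fibre f⁻¹(f(x)) passing through x, of dimension
r. Then dim_k (Ω_{X/Y})_(x) ≥ r, where (Ω_{X/Y})_(x) = Ω_{X/Y,x} ⊗ k(x) is the fibre of the sheaf of
relative differentials at x, a vector space over k(x) = k (x is closed and k algebraically closed),
regarded as a k-module through k → O_{X,x}. (The published statement is for varieties, i.e. X and Y
reduced and separated; this row assumes neither. Since X is locally of finite type over a field it
is locally Noetherian, so f is quasi-separated; the argument, T_x Z ⊆ ker(df_x) and dim T_x Z ≥ dim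
Z, uses neither reducedness nor separatedness.) -/
theorem result (k : Type u) [Field k] [IsAlgClosed k]
    {X Y : Scheme.{u}} [X.Over (Spec (CommRingCat.of k))] [Y.Over (Spec (CommRingCat.of k))]
    [LocallyOfFiniteType (X ↘ Spec (CommRingCat.of k))] [QuasiCompact (X ↘ Spec (CommRingCat.of k))]
    [LocallyOfFiniteType (Y ↘ Spec (CommRingCat.of k))] [QuasiCompact (Y ↘ Spec (CommRingCat.of k))]
    (f : X ⟶ Y) (hf : f ≫ (Y ↘ Spec (CommRingCat.of k)) = X ↘ Spec (CommRingCat.of k))
    (x : X) (hx : IsClosed ({x} : Set X)) (Z : Set X) (hZ : IsIrreducible Z) (hZc : IsClosed Z) (hxZ : x ∈ Z)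
    (hZf : Z ⊆ f.base ⁻¹' {f.base x}) (r : ℕ) (hr : topologicalKrullDim ↥Z = (r : WithBot ℕ∞)) :
    r ≤ Module.finrank k (FixPt.fiber (Omega.sheaf f) x) := by
  haveI : IsLocallyNoetherian X := LocallyOfFiniteType.isLocallyNoetherian (X ↘ Spec (CommRingCat.of k))
  let I := Scheme.IdealSheafData.vanishingIdeal (⟨Z, hZc⟩ : TopologicalSpace.Closeds X)
  haveI : IsIntegral I.subscheme := Groth.Agent.S16188.isIntegral_subscheme _ hZ
  have hrange : Set.range I.subschemeι = Z := by
    rw [Scheme.IdealSheafData.range_subschemeι]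
    exact Scheme.IdealSheafData.coe_support_vanishingIdeal _
  obtain ⟨z, rfl⟩ : x ∈ Set.range I.subschemeι := hrange.ge hxZ
  -- dimension of the local ring of `Z`
  let c : I.subscheme ⟶ Spec (CommRingCat.of k) := I.subschemeι ≫ (X ↘ Spec (CommRingCat.of k))
  haveI : LocallyOfFiniteType c := inferInstance
  have hzc : IsClosed ({z} : Set I.subscheme) := by
    have : ({z} : Set I.subscheme) = I.subschemeι ⁻¹' {I.subschemeι z} :=
      Set.ext fun w => ⟨fun h => congrArg _ h, fun h => I.subschemeι.isClosedEmbedding.injective h⟩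
    rw [this]
    exact hx.preimage I.subschemeι.continuous
  have hdimC : ringKrullDim (I.subscheme.presheaf.stalk z) = (r : WithBot ℕ∞) := by
    letI : I.subscheme.Over (Spec (CommRingCat.of k)) := ⟨c⟩
    haveI : LocallyOfFiniteType (I.subscheme ↘ Spec (CommRingCat.of k)) := ‹LocallyOfFiniteType c›
    obtain ⟨n, hn, hn'⟩ := CycLib.ringKrullDim_stalk (CycLib.isDimFun_fdelta k c) z
    rw [(CycLib.fdelta_eq_zero_iff k c z).mpr hzc, zero_add] at hn
    have hn2 : VarDim.dimPt k I.subscheme (genericPoint I.subscheme) = n := Nat.cast_inj.mp hn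
    have hd : topologicalKrullDim I.subscheme = (n : WithBot ℕ∞) := by
      rw [VarDim.topologicalKrullDim_eq_iSup k]
      refine le_antisymm (iSup_le fun y => ?_) ?_
      · rcases eq_or_ne y (genericPoint I.subscheme) with rfl | hne
        · rw [hn2]
        · have h := VarDim.dimPt_lt_of_lt k (CycLib.lt_iff.mpr ⟨genericPoint_specializes y, hne.symm⟩)
          rw [hn2] at h
          exact_mod_cast h.le
      · refine le_iSup_of_le (genericPoint I.subscheme) ?_
        rw [hn2]
    have he : topologicalKrullDim I.subscheme = topologicalKrullDim ↥Z :=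
      ((I.subschemeι.isEmbedding.toHomeomorph).trans (Homeomorph.setCongr hrange)).isHomeomorph.topologicalKrullDim_eq
    rw [hn', ← hd, he, hr]
  -- the maps
  let κ := Curv2.stalkMap k X (I.subschemeι z)
  let κy := Curv2.stalkMap k Y (f (I.subschemeι z))
  have hκ : Function.Surjective ((IsLocalRing.residue _).comp κ) :=
    StrictSSLib.residue_surjective_of_isClosed (X ↘ Spec (CommRingCat.of k)) hx
  have hκy : ∀ a, f.stalkMap (I.subschemeι z) (κy a) = κ a := by
    intro a
    show f.stalkMap _ (Y.presheaf.germ ⊤ _ trivial (Coh.toGlobal (Y ↘ Spec (CommRingCat.of k)) a)) =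
      X.presheaf.germ ⊤ _ trivial (Coh.toGlobal (X ↘ Spec (CommRingCat.of k)) a)
    erw [Scheme.Hom.germ_stalkMap_apply]
    rw [← hf]
    rfl
  have hψ : ∀ a, ∃ c₀ : k, I.subschemeι.stalkMap z (f.stalkMap (I.subschemeι z) a) =
      I.subschemeι.stalkMap z (κ c₀) := by
    intro a
    obtain ⟨c₀, hc₀⟩ := hκ (IsLocalRing.residue _ (f.stalkMap (I.subschemeι z) a))
    refine ⟨c₀, ?_⟩
    set a₀ := a - κy c₀ with ha₀
    have hm : ¬ IsUnit a₀ := fun hu => by
      have h1 := hu.map (f.stalkMap (I.subschemeι z)).hom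
      have h2 : IsLocalRing.residue _ (f.stalkMap (I.subschemeι z) a₀) = 0 := by
        rw [ha₀, map_sub, map_sub, hκy, ← hc₀]
        exact sub_self _
      exact (IsLocalRing.residue_ne_zero_iff_isUnit _).mpr h1 h2
    suffices h0 : I.subschemeι.stalkMap z (f.stalkMap (I.subschemeι z) a₀) = 0 by
      rw [ha₀, map_sub, map_sub, hκy, sub_eq_zero] at h0
      exact h0
    obtain ⟨U, hyU, s, hs⟩ := Y.presheaf.exists_germ_eq (x := f (I.subschemeι z)) a₀
    rw [← hs]
    erw [Scheme.Hom.germ_stalkMap_apply, Scheme.Hom.germ_stalkMap_apply]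
    suffices hg : I.subschemeι.app (f ⁻¹ᵁ U) (f.app U s) = 0 by
      rw [hg, map_zero]
    apply (basicOpen_eq_bot_iff _).mp
    rw [← Scheme.preimage_basicOpen, ← Scheme.preimage_basicOpen, eq_bot_iff]
    intro w hw
    have hwy : f (I.subschemeι w) = f (I.subschemeι z) := hZf (hrange ▸ ⟨w, rfl⟩)
    have hw' : f (I.subschemeι w) ∈ Y.basicOpen s := hw
    rw [hwy] at hw'
    have hu := (Scheme.mem_basicOpen Y s _ hyU).mp hw'
    rw [← hs] at hm
    exact (hm hu).elim
  obtain ⟨δ, hmul, hzero, -, huniv⟩ := Groth.Agent.Omega.DiagUniv.exists_universal_stalk f (I.subschemeι z)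
  exact CVar22.le_finrank_fibre κ hκ (I.subschemeι.stalkMap z).hom (I.subschemeι.stalkMap_surjective z)
    (f.stalkMap (I.subschemeι z)).hom hψ δ hmul (fun a => (hκy a) ▸ hzero _)
    huniv hzero r hdimC

end Groth.Agent.S14443
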