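import Groth.Statements.S14447
import Mathlib.CategoryTheory.Limits.Preserves.Shapes.Terminal
import Mathlib.CategoryTheory.Limits.Preserves.Shapes.BinaryProducts
import Mathlib.CategoryTheory.Limits.Types.Products
import Mathlib.CategoryTheory.Limits.Constructions.FiniteProductsOfBinaryProducts

set_option autoImplicit false
universe w v u
open AlgGrp

namespace Groth.Agent.S14447

open CategoryTheory CategoryTheory.Limits in
/-- Let C be a category with finite products and with all coproducts indexed by sets, and assume that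
for every set I and every object U the canonical arrow ∐_{i∈I} U → (∐_{i∈I} pt) × U, whose i-th
component pairs U → pt → ∐_{i∈I} pt (i-th coprojection) with the identity of U, is an isomorphism.
Then the discrete-object functor from sets to C, I ↦ ∐_{i∈I} pt, preserves finite products. (Sets
are the types of one fixed universe, the one indexing the coproducts. The published statement asks
only for the coproducts of copies of one object; this row assumes that C has all coproducts indexed
by sets, which Mathlib's discrete-object functor sigmaConst requires.) -/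
theorem result {C : Type u} [Category.{v} C]
    [HasFiniteProducts C] [HasCoproducts.{w} C]
    (h : ∀ (I : Type w) (U : C), IsIso (Sigma.desc fun i : I =>
      prod.lift (terminal.from U ≫ Sigma.ι (fun _ : I => ⊤_ C) i) (𝟙 U))) :
    PreservesFiniteProducts (sigmaConst.{w}.obj (⊤_ C)) := by
  let F : Type w ⥤ C := sigmaConst.{w}.obj (⊤_ C)
  have hmap : ∀ {n m : Type w} (f : n ⟶ m) (x : n),
      Sigma.ι (fun _ : n => ⊤_ C) x ≫ F.map f = Sigma.ι (fun _ : m => ⊤_ C) (f x) := fun f x =>
    (Sigma.ι_comp_map' _ _ _).trans (Category.id_comp _)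
  have : PreservesLimit (Functor.empty.{0} (Type w)) F := by
    let e : F.obj PUnit.{w + 1} ≅ ⊤_ C :=
      { hom := terminal.from _
        inv := Sigma.ι (fun _ : PUnit.{w + 1} => ⊤_ C) PUnit.unit
        hom_inv_id := by
          refine Sigma.hom_ext _ _ fun x => ?_
          rw [← Category.assoc]
          refine (congrArg (fun f : (⊤_ C) ⟶ ⊤_ C => f ≫ _) (Subsingleton.elim _ (𝟙 (⊤_ C)))).trans ?_
          exact (Category.id_comp _).trans (Category.comp_id _).symm
        inv_hom_id := Subsingleton.elim _ _ }
    exact preservesTerminal_of_iso F (F.mapIso Types.terminalIso ≪≫ e)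
  have hpair : ∀ I J : Type w, PreservesLimit (pair I J) F := fun I J => by
    let Φ : (∐ fun _ : I => F.obj J) ⟶ F.obj I ⨯ F.obj J := Sigma.desc fun i : I =>
      prod.lift (terminal.from (F.obj J) ≫ Sigma.ι (fun _ : I => ⊤_ C) i) (𝟙 (F.obj J))
    have : IsIso Φ := h I (F.obj J)
    let Ψ : (∐ fun _ : I => F.obj J) ⟶ F.obj (I × J) :=
      Sigma.desc fun i => F.map (↾fun j => (i, j))
    let Ψ' : F.obj (I × J) ⟶ ∐ fun _ : I => F.obj J :=
      Sigma.desc fun ij : I × J =>
        Sigma.ι (fun _ : J => ⊤_ C) ij.2 ≫ Sigma.ι (fun _ : I => F.obj J) ij.1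
    let ψ : (∐ fun _ : I => F.obj J) ≅ F.obj (I × J) :=
      { hom := Ψ
        inv := Ψ'
        hom_inv_id := by
          refine Sigma.hom_ext _ _ fun i => ?_
          rw [Category.comp_id, Sigma.ι_desc_assoc]
          refine Sigma.hom_ext _ _ fun j => ?_
          rw [reassoc_of% hmap]
          exact Sigma.ι_desc _ _
        inv_hom_id := by
          refine Sigma.hom_ext _ _ fun ij => ?_
          refine (Sigma.ι_desc_assoc _ _ _).trans ?_
          rw [Category.assoc, Sigma.ι_desc]
          exact (hmap _ _).trans (Category.comp_id _).symm }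
    let e : F.obj (I × J) ≅ F.obj I ⨯ F.obj J := ψ.symm ≪≫ asIso Φ
    have h₁ : F.map (↾Prod.fst) = e.hom ≫ prod.fst := by
      refine Sigma.hom_ext _ _ fun ij => ?_
      rw [hmap]
      show _ = Sigma.ι _ ij ≫ (Ψ' ≫ Φ) ≫ prod.fst
      rw [Category.assoc, Sigma.ι_desc_assoc, Category.assoc, Sigma.ι_desc_assoc, prod.lift_fst,
        ← Category.assoc]
      exact ((congrArg (fun f : (⊤_ C) ⟶ ⊤_ C => f ≫ _) (Subsingleton.elim _ (𝟙 (⊤_ C)))).trans
        (Category.id_comp _)).symm
    have h₂ : F.map (↾Prod.snd) = e.hom ≫ prod.snd := by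
      refine Sigma.hom_ext _ _ fun ij => ?_
      rw [hmap]
      show _ = Sigma.ι _ ij ≫ (Ψ' ≫ Φ) ≫ prod.snd
      rw [Category.assoc, Sigma.ι_desc_assoc, Category.assoc, Sigma.ι_desc_assoc, prod.lift_snd]
      exact (Category.comp_id _).symm
    refine preservesLimit_of_preserves_limit_cone (Types.binaryProductLimit I J) ?_
    exact (isLimitMapConeBinaryFanEquiv F _ _).symm
      (IsLimit.ofIsoLimit (prodIsProd (F.obj I) (F.obj J)) (BinaryFan.ext e h₁ h₂).symm)
  have : PreservesLimitsOfShape (Discrete PEmpty.{1}) F :=
    preservesLimitsOfShape_pempty_of_preservesTerminal F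
  have : PreservesLimitsOfShape (Discrete WalkingPair) F :=
    ⟨fun {K} => preservesLimit_of_iso_diagram F (diagramIsoPair K).symm⟩
  exact Limits.PreservesFiniteProducts.of_preserves_binary_and_terminal F

end Groth.Agent.S14447
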