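import Groth.Statements.S14448
-- import your own Groth.Agent.* helpers here

set_option autoImplicit false
universe u
open Coherent

namespace Groth.Agent.S14448

open AlgebraicGeometry CategoryTheory Scheme.Modules Opposite in
lemma key {X Y : Scheme.{u}} (f : X ⟶ Y) (B : Y.Modules) {P Q : X.Modules} (u : B ⟶ (pushforward f).obj P)
    (c : P ⟶ Q) {V₁ V₂ : Y.Opens} (e : V₂ = V₁) {W : X.Opens} (e₁ : W = f ⁻¹ᵁ V₁) (e₂ : W = f ⁻¹ᵁ V₂)
    (x : B.presheaf.obj (op V₁)) :
    Q.presheaf.map (eqToHom e₁).op (c.app (f ⁻¹ᵁ V₁) (u.app V₁ x)) =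
      c.app W (P.presheaf.map (eqToHom e₂).op (u.app V₂ (B.presheaf.map (eqToHom e).op x))) := by
  subst e e₁
  simp only [eqToHom_refl, op_id, CategoryTheory.Functor.map_id]
  rfl

open AlgebraicGeometry CategoryTheory Scheme.Modules in
lemma homEquiv_comp {A B C : Scheme.{u}} (φ : A ⟶ B) (ψ : B ⟶ C) (M : C.Modules) (N : A.Modules)
    (a : (pullback φ).obj ((pullback ψ).obj M) ⟶ N) :
    (pullbackPushforwardAdjunction ψ).homEquiv M _ ((pullbackPushforwardAdjunction φ).homEquiv _ N a) ≫
        (pushforwardComp φ ψ).hom.app N =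
      (pullbackPushforwardAdjunction (φ ≫ ψ)).homEquiv M N ((pullbackComp φ ψ).inv.app M ≫ a) := by
  have h := unit_conjugateEquiv ((pullbackPushforwardAdjunction ψ).comp (pullbackPushforwardAdjunction φ))
    (pullbackPushforwardAdjunction (φ ≫ ψ)) (pullbackComp φ ψ).inv M
  rw [conjugateEquiv_pullbackComp_inv] at h
  simp only [Adjunction.homEquiv_unit]
  have hn := (pushforwardComp φ ψ).hom.naturality a
  simp only [Adjunction.comp_unit_app, Functor.comp_obj, Category.assoc] at h
  rw [Functor.map_comp (pushforward ψ), Category.assoc, Category.assoc]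
  erw [hn]
  erw [reassoc_of% h]
  rw [← Functor.map_comp]

open AlgebraicGeometry CategoryTheory Scheme.Modules in
/-- Take two commutative squares of schemes side by side, f : X → Y over φ : U → V (vertical maps ξ : X
→ U and η : Y → V, f ≫ η = ξ ≫ φ) and g : Y → Z over ψ : V → W (vertical map ζ : Z → W, g ≫ ζ = η ≫
ψ), and an O_Z-module L. For a commutative square the base change map β_{f,φ}(M) : φ^* η_* M → ξ_*
f^* M is the adjoint of η_*(unit) : η_* M → η_* f_* f^* M = φ_* ξ_* f^* M, and α denotes the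
composition isomorphisms of module pullbacks. Then the composite of α_{φ,ψ}(ζ_* L) : φ^* ψ^* ζ_* L →
(φ ≫ ψ)^* ζ_* L with β_{f ≫ g, φ ≫ ψ}(L) equals the composite of φ^* β_{g,ψ}(L), β_{f,φ}(g^* L) and
ξ_* α_{f,g}(L), as maps φ^* ψ^* ζ_* L → ξ_* (f ≫ g)^* L. No cartesian or finiteness hypothesis is
made; the outer square is used through any proof hw of its commutativity. -/
theorem result {X Y Z U V W : Scheme.{u}} (f : X ⟶ Y) (g : Y ⟶ Z)
    (ξ : X ⟶ U) (η : Y ⟶ V) (ζ : Z ⟶ W) (φ : U ⟶ V) (ψ : V ⟶ W)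
    (h₁ : f ≫ η = ξ ≫ φ) (h₂ : g ≫ ζ = η ≫ ψ) (hw : (f ≫ g) ≫ ζ = ξ ≫ (φ ≫ ψ)) (L : Z.Modules) :
    (pullbackComp φ ψ).hom.app ((pushforward ζ).obj L) ≫
        (((pullbackPushforwardAdjunction (φ ≫ ψ)).homEquiv ((pushforward ζ).obj L)
            ((pushforward ξ).obj ((pullback (f ≫ g)).obj L))).symm
          ((pushforward ζ).map ((pullbackPushforwardAdjunction (f ≫ g)).unit.app L) ≫
            (pushforwardComp (f ≫ g) ζ).hom.app ((pullback (f ≫ g)).obj L) ≫
            (pushforwardCongr hw).hom.app ((pullback (f ≫ g)).obj L) ≫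
            (pushforwardComp ξ (φ ≫ ψ)).inv.app ((pullback (f ≫ g)).obj L))) =
      (pullback φ).map (((pullbackPushforwardAdjunction ψ).homEquiv ((pushforward ζ).obj L)
            ((pushforward η).obj ((pullback g).obj L))).symm
          ((pushforward ζ).map ((pullbackPushforwardAdjunction g).unit.app L) ≫
            (pushforwardComp g ζ).hom.app ((pullback g).obj L) ≫
            (pushforwardCongr h₂).hom.app ((pullback g).obj L) ≫
            (pushforwardComp η ψ).inv.app ((pullback g).obj L))) ≫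
        (((pullbackPushforwardAdjunction φ).homEquiv ((pushforward η).obj ((pullback g).obj L))
            ((pushforward ξ).obj ((pullback f).obj ((pullback g).obj L)))).symm
          ((pushforward η).map ((pullbackPushforwardAdjunction f).unit.app ((pullback g).obj L)) ≫
            (pushforwardComp f η).hom.app ((pullback f).obj ((pullback g).obj L)) ≫
            (pushforwardCongr h₁).hom.app ((pullback f).obj ((pullback g).obj L)) ≫
            (pushforwardComp ξ φ).inv.app ((pullback f).obj ((pullback g).obj L)))) ≫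
        (pushforward ξ).map ((pullbackComp f g).hom.app L) := by
  rw [← cancel_epi ((pullbackComp φ ψ).inv.app ((pushforward ζ).obj L)), Iso.inv_hom_id_app_assoc]
  apply ((pullbackPushforwardAdjunction (φ ≫ ψ)).homEquiv ((pushforward ζ).obj L)
    ((pushforward ξ).obj ((pullback (f ≫ g)).obj L))).injective
  rw [Equiv.apply_symm_apply]
  rw [← homEquiv_comp]
  erw [Adjunction.homEquiv_naturality_left, Adjunction.homEquiv_naturality_right]
  simp only [Equiv.apply_symm_apply]
  have hu : (pullbackPushforwardAdjunction (f ≫ g)).unit.app L =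
      (pullbackPushforwardAdjunction g).unit.app L ≫
        (pushforward g).map ((pullbackPushforwardAdjunction f).unit.app ((pullback g).obj L) ≫
          (pushforward f).map ((pullbackComp f g).hom.app L)) ≫ (pushforwardComp f g).hom.app _ := by
    have h := homEquiv_comp f g L _ ((pullbackComp f g).hom.app L)
    simp only [Adjunction.homEquiv_unit, Functor.comp_obj] at h
    erw [Iso.inv_hom_id_app] at h
    rw [CategoryTheory.Functor.map_id, Category.comp_id] at h
    rw [← h]
    simp only [Functor.map_comp, Category.assoc]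
  erw [Adjunction.homEquiv_naturality_right]
  simp only [Equiv.apply_symm_apply]
  rw [hu]
  ext U x
  simp only [Functor.map_comp, Category.assoc, Functor.comp_map]
  have he : η ⁻¹ᵁ (ψ ⁻¹ᵁ U) = g ⁻¹ᵁ (ζ ⁻¹ᵁ U) := by
    rw [← Scheme.Hom.comp_preimage, ← h₂, Scheme.Hom.comp_preimage]
  have he₁ : ξ ⁻¹ᵁ (φ ⁻¹ᵁ (ψ ⁻¹ᵁ U)) = f ⁻¹ᵁ (g ⁻¹ᵁ (ζ ⁻¹ᵁ U)) := by
    simp only [← Scheme.Hom.comp_preimage]
    rw [← hw, Category.assoc]
  have he₂ : ξ ⁻¹ᵁ (φ ⁻¹ᵁ (ψ ⁻¹ᵁ U)) = f ⁻¹ᵁ (η ⁻¹ᵁ (ψ ⁻¹ᵁ U)) := by rw [he, he₁]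
  exact key f ((pullback g).obj L) (P := (pullback f).obj ((pullback g).obj L))
    ((pullbackPushforwardAdjunction f).unit.app ((pullback g).obj L)) ((pullbackComp f g).hom.app L)
    he he₁ he₂ (((pullbackPushforwardAdjunction g).unit.app L).app (ζ ⁻¹ᵁ U) x)

end Groth.Agent.S14448
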