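import Groth.Statements.S14449
import Groth.Agent.EtaleSite.Recollement
-- import your own Groth.Agent.* helpers here

set_option autoImplicit false
universe u
open CategoryTheory CategoryTheory.Limits AlgebraicGeometry
open EtCore

namespace Groth.Agent.S14449

open Groth.Agent

variable {X Z U : Scheme.{u}} (i : Z ⟶ X) [IsClosedImmersion i] (j : U ⟶ X) [IsOpenImmersion j]
  (hZU : Set.range j.base = (Set.range i.base)ᶜ)

include hZU in
/-- Restrictions to the two pieces detect isomorphisms. -/
theorem isIso_of_pieces {F G : EtCoh.Ab X} (a : F ⟶ G) (hi : IsIso ((EtCoh.pull i).map a))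
    (hj : IsIso ((EtCoh.pull j).map a)) : IsIso a := by
  refine EtaleSite.isIso_of_stalk _ fun Ω _ _ ξ => ?_
  let L := AlgebraicClosure Ω
  let σ : Spec (CommRingCat.of L) ⟶ Spec (CommRingCat.of Ω) :=
    Spec.map (CommRingCat.ofHom (algebraMap Ω L))
  rcases EtSupp.exists_lift_or_notMem j ξ with ⟨ζ, rfl⟩ | hξ
  · exact (NatIso.isIso_map_iff (EtaleSite.stalkPullIso j ζ) _).mp
      (inferInstanceAs (IsIso ((EtCoh.stalk ζ).map ((EtCoh.pull j).map a))))
  · obtain ⟨x, hx⟩ : ξ default ∈ Set.range i := by_contra fun hc => hξ (hZU.ge hc)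
    obtain ⟨ζ, hζ, -⟩ := EtaleSite.exists_point_over i (σ ≫ ξ) x
      (hx.trans (congrArg ξ (Subsingleton.elim (α := Spec (CommRingCat.of Ω)) _ _)))
    have h1 : IsIso ((EtCoh.stalk (ζ ≫ i)).map a) :=
      (NatIso.isIso_map_iff (EtaleSite.stalkPullIso i ζ) _).mp
        (inferInstanceAs (IsIso ((EtCoh.stalk ζ).map ((EtCoh.pull i).map a))))
    rw [hζ] at h1
    exact (NatIso.isIso_map_iff (EtaleSite.stalkExtIso σ ξ) _).2 h1

include hZU in
/-- Nothing on `Z` meets `U`. -/
theorem isZero_pull_push (G : EtCoh.Ab Z) :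
    IsZero ((EtCoh.pull j).obj ((EtCoh.push i).obj G)) := by
  rw [EtaleSite.isZero_iff_stalk]
  intro Ω _ _ ζ
  exact (EtaleSite.isZero_stalk_push i (ζ ≫ j) (hZU.le ⟨ζ default, rfl⟩) G).of_iso
    ((EtaleSite.stalkPullIso j ζ).app _)

section Glue

variable (T : Comma (𝟭 (EtCoh.Ab Z)) (EtCoh.push j ⋙ EtCoh.pull i))

/-- The glued sheaf. -/
noncomputable abbrev glue : EtCoh.Ab X :=
  pullback ((EtCoh.pullPushAdj i).unit.app ((EtCoh.push j).obj T.right)) ((EtCoh.push i).map T.hom)

/-- The restriction of the glued sheaf to `Z`. -/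
noncomputable def glueLeft : (EtCoh.pull i).obj (glue i j T) ⟶ T.left :=
  (EtCoh.pull i).map (pullback.snd _ _) ≫ (EtCoh.pullPushAdj i).counit.app T.left

/-- The restriction of the glued sheaf to `U`. -/
noncomputable def glueRight : (EtCoh.pull j).obj (glue i j T) ⟶ T.right :=
  (EtCoh.pull j).map (pullback.fst _ _) ≫ (EtCoh.pullPushAdj j).counit.app T.right

theorem isIso_glueLeft : IsIso (glueLeft i j T) := by
  haveI : IsIso ((EtCoh.pullPushAdj i).counit.app T.left) := EtaleSite.isIso_counit i _
  haveI : IsIso ((EtCoh.pull i).map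
      ((EtCoh.pullPushAdj i).unit.app ((EtCoh.push j).obj T.right))) := by
    haveI := EtaleSite.isIso_counit i ((EtCoh.pull i).obj ((EtCoh.push j).obj T.right))
    rw [← IsIso.inv_eq_of_inv_hom_id ((EtCoh.pullPushAdj i).left_triangle_components
      ((EtCoh.push j).obj T.right))]
    infer_instance
  haveI := ((IsPullback.of_hasPullback _ _).map (EtCoh.pull i) :
    IsPullback ((EtCoh.pull i).map (pullback.fst _ _)) ((EtCoh.pull i).map (pullback.snd _ _))
      ((EtCoh.pull i).map ((EtCoh.pullPushAdj i).unit.app ((EtCoh.push j).obj T.right)))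
      ((EtCoh.pull i).map ((EtCoh.push i).map T.hom))).isIso_snd_of_isIso
  exact IsIso.comp_isIso

include hZU in
theorem isIso_glueRight : IsIso (glueRight i j T) := by
  haveI : IsIso ((EtCoh.pullPushAdj j).counit.app T.right) := EtaleSite.isIso_counit_pullPush j _
  haveI : IsIso ((EtCoh.pull j).map ((EtCoh.push i).map T.hom)) :=
    (isZero_pull_push i j hZU _).isIso (isZero_pull_push i j hZU _) _
  haveI := ((IsPullback.of_hasPullback _ _).map (EtCoh.pull j) :
    IsPullback ((EtCoh.pull j).map (pullback.fst _ _)) ((EtCoh.pull j).map (pullback.snd _ _))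
      ((EtCoh.pull j).map ((EtCoh.pullPushAdj i).unit.app ((EtCoh.push j).obj T.right)))
      ((EtCoh.pull j).map ((EtCoh.push i).map T.hom))).isIso_fst_of_isIso
  exact IsIso.comp_isIso

theorem glue_w :
    (EtCoh.pull i).map ((EtCoh.pullPushAdj j).unit.app (glue i j T)) ≫
        (EtCoh.pull i).map ((EtCoh.push j).map (glueRight i j T)) =
      glueLeft i j T ≫ T.hom := by
  have h1 : (EtCoh.pullPushAdj j).unit.app (glue i j T) ≫ (EtCoh.push j).map (glueRight i j T) =
      pullback.fst _ _ := by
    exact ((EtCoh.pullPushAdj j).homEquiv_unit _ _ _).symm.trans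
      ((congrArg ((EtCoh.pullPushAdj j).homEquiv (glue i j T) T.right)
        ((EtCoh.pullPushAdj j).homEquiv_counit (glue i j T) T.right (pullback.fst _ _)).symm).trans
        (Equiv.apply_symm_apply _ _))
  refine ((Functor.map_comp _ _ _).symm.trans (congrArg ((EtCoh.pull i).map ·) h1)).trans ?_
  let c := (EtCoh.pullPushAdj i).counit
  let p := pullback.snd ((EtCoh.pullPushAdj i).unit.app ((EtCoh.push j).obj T.right))
    ((EtCoh.push i).map T.hom)
  let q := pullback.fst ((EtCoh.pullPushAdj i).unit.app ((EtCoh.push j).obj T.right))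
    ((EtCoh.push i).map T.hom)
  let N := (EtCoh.pull i).obj ((EtCoh.push j).obj T.right)
  have n1 : c.app T.left ≫ T.hom = (EtCoh.pull i).map ((EtCoh.push i).map T.hom) ≫ c.app N :=
    ((EtCoh.pullPushAdj i).counit_naturality T.hom).symm
  have n2 : (EtCoh.pull i).map p ≫ (EtCoh.pull i).map ((EtCoh.push i).map T.hom) =
      (EtCoh.pull i).map q ≫
        (EtCoh.pull i).map ((EtCoh.pullPushAdj i).unit.app ((EtCoh.push j).obj T.right)) :=
    (Functor.map_comp _ _ _).symm.trans
      ((congrArg ((EtCoh.pull i).map ·) pullback.condition.symm).trans (Functor.map_comp _ _ _))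
  refine Eq.symm ?_
  refine (Category.assoc _ _ _).trans ((congrArg ((EtCoh.pull i).map p ≫ ·) n1).trans ?_)
  refine (Category.assoc _ _ _).symm.trans ((congrArg (· ≫ c.app N) n2).trans ?_)
  refine (Category.assoc _ _ _).trans ((congrArg ((EtCoh.pull i).map q ≫ ·)
    ((EtCoh.pullPushAdj i).left_triangle_components _)).trans (Category.comp_id _))

end Glue

/-- The comparison of a sheaf with the glue of its restrictions. -/
noncomputable def cmpGlue (F : EtCoh.Ab X) : F ⟶ glue i j ((EtCore.recollTriple i j).obj F) :=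
  pullback.lift ((EtCoh.pullPushAdj j).unit.app F) ((EtCoh.pullPushAdj i).unit.app F)
    ((EtCoh.pullPushAdj i).unit.naturality ((EtCoh.pullPushAdj j).unit.app F))

theorem comp_cmpGlue_fst {F G : EtCoh.Ab X} (a : F ⟶ G) :
    (a ≫ cmpGlue i j G) ≫ pullback.fst _ _ =
      (EtCoh.pullPushAdj j).unit.app F ≫ (EtCoh.push j).map ((EtCoh.pull j).map a) :=
  (Category.assoc _ _ _).trans ((congrArg (a ≫ ·) (pullback.lift_fst _ _ _)).trans
    ((EtCoh.pullPushAdj j).unit.naturality a))

theorem comp_cmpGlue_snd {F G : EtCoh.Ab X} (a : F ⟶ G) :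
    (a ≫ cmpGlue i j G) ≫ pullback.snd _ _ =
      (EtCoh.pullPushAdj i).unit.app F ≫ (EtCoh.push i).map ((EtCoh.pull i).map a) :=
  (Category.assoc _ _ _).trans ((congrArg (a ≫ ·) (pullback.lift_snd _ _ _)).trans
    ((EtCoh.pullPushAdj i).unit.naturality a))

include hZU in
theorem isIso_cmpGlue (F : EtCoh.Ab X) : IsIso (cmpGlue i j F) := by
  refine isIso_of_pieces i j hZU _ ?_ ?_
  · haveI := isIso_glueLeft i j ((EtCore.recollTriple i j).obj F)
    have h : (EtCoh.pull i).map (cmpGlue i j F) ≫ glueLeft i j ((EtCore.recollTriple i j).obj F) =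
        𝟙 ((EtCoh.pull i).obj F) :=
      (Category.assoc _ _ _).symm.trans ((congrArg (· ≫ _)
        (((EtCoh.pull i).map_comp _ _).symm.trans
          (congrArg ((EtCoh.pull i).map ·) (pullback.lift_snd _ _ _)))).trans
        ((EtCoh.pullPushAdj i).left_triangle_components F))
    haveI : IsIso ((EtCoh.pull i).map (cmpGlue i j F) ≫
        glueLeft i j ((EtCore.recollTriple i j).obj F)) := h.symm ▸ IsIso.id _
    exact IsIso.of_isIso_comp_right _ (glueLeft i j ((EtCore.recollTriple i j).obj F))
  · haveI := isIso_glueRight i j hZU ((EtCore.recollTriple i j).obj F)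
    have h : (EtCoh.pull j).map (cmpGlue i j F) ≫ glueRight i j ((EtCore.recollTriple i j).obj F) =
        𝟙 ((EtCoh.pull j).obj F) :=
      (Category.assoc _ _ _).symm.trans ((congrArg (· ≫ _)
        (((EtCoh.pull j).map_comp _ _).symm.trans
          (congrArg ((EtCoh.pull j).map ·) (pullback.lift_fst _ _ _)))).trans
        ((EtCoh.pullPushAdj j).left_triangle_components F))
    haveI : IsIso ((EtCoh.pull j).map (cmpGlue i j F) ≫
        glueRight i j ((EtCore.recollTriple i j).obj F)) := h.symm ▸ IsIso.id _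
    exact IsIso.of_isIso_comp_right _ (glueRight i j ((EtCore.recollTriple i j).obj F))

/-- Let X be a scheme, i : Z ⟶ X a closed immersion and j : U ⟶ X an open immersion whose image is the
complement of the image of i. Then the functor from abelian sheaves on the small étale site of X to
the category of triples (G on Z, H on U, φ : G ⟶ i⁻¹ j_* H), sending F to (i⁻¹ F, j⁻¹ F, i⁻¹ of the
unit F ⟶ j_* j⁻¹ F), is an equivalence of categories. The category of triples is the comma category
of the identity functor of Ab(Z) over j_* ⋙ i⁻¹. -/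
theorem result {X Z U : Scheme.{u}}
    (i : Z ⟶ X) [IsClosedImmersion i] (j : U ⟶ X) [IsOpenImmersion j]
    (hZU : Set.range j.base = (Set.range i.base)ᶜ) :
    (EtCore.recollTriple i j).IsEquivalence := by
  haveI hF : (EtCore.recollTriple i j).Faithful := ⟨fun {F G} a b h => by
    haveI := isIso_cmpGlue i j hZU G
    rw [← cancel_mono (cmpGlue i j G)]
    refine pullback.hom_ext ?_ ?_
    · exact (comp_cmpGlue_fst i j a).trans ((congrArg
        (fun t => (EtCoh.pullPushAdj j).unit.app F ≫ (EtCoh.push j).map t)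
        (congrArg CommaMorphism.right h)).trans (comp_cmpGlue_fst i j b).symm)
    · exact (comp_cmpGlue_snd i j a).trans ((congrArg
        (fun t => (EtCoh.pullPushAdj i).unit.app F ≫ (EtCoh.push i).map t)
        (congrArg CommaMorphism.left h)).trans (comp_cmpGlue_snd i j b).symm)⟩
  haveI hS : (EtCore.recollTriple i j).EssSurj := ⟨fun T => ⟨glue i j T, ⟨
    haveI := isIso_glueLeft i j T
    haveI := isIso_glueRight i j hZU T
    Comma.isoMk (@asIso _ _ _ _ (glueLeft i j T) (isIso_glueLeft i j T)) (@asIso _ _ _ _ (glueRight i j T) (isIso_glueRight i j hZU T)) (glue_w i j T).symm⟩⟩⟩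
  haveI hFull : (EtCore.recollTriple i j).Full := ⟨fun {F G} t => by
    haveI := isIso_cmpGlue i j hZU G
    obtain ⟨g, hg⟩ : ∃ g : F ⟶ G, g ≫ cmpGlue i j G =
        pullback.lift ((EtCoh.pullPushAdj j).unit.app F ≫ (EtCoh.push j).map t.right)
          ((EtCoh.pullPushAdj i).unit.app F ≫ (EtCoh.push i).map t.left) (by
            refine (Category.assoc _ _ _).trans ((congrArg ((EtCoh.pullPushAdj j).unit.app F ≫ ·)
              ((EtCoh.pullPushAdj i).unit.naturality ((EtCoh.push j).map t.right))).trans ?_)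
            refine (Category.assoc _ _ _).symm.trans ((congrArg (· ≫ _)
              ((EtCoh.pullPushAdj i).unit.naturality ((EtCoh.pullPushAdj j).unit.app F))).trans ?_)
            refine (Category.assoc _ _ _).trans (Eq.trans ?_ (Category.assoc _ _ _).symm)
            refine congrArg ((EtCoh.pullPushAdj i).unit.app F ≫ ·) ?_
            exact ((EtCoh.push i).map_comp _ _).symm.trans
              ((congrArg ((EtCoh.push i).map ·) t.w.symm).trans ((EtCoh.push i).map_comp _ _))) :=
      ⟨_ ≫ inv (cmpGlue i j G), (Category.assoc _ _ _).trans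
        ((congrArg (_ ≫ ·) (IsIso.inv_hom_id _)).trans (Category.comp_id _))⟩
    refine ⟨g, CommaMorphism.ext ?_ ?_⟩
    · refine ((EtCoh.pullPushAdj i).homEquiv F ((EtCoh.pull i).obj G)).injective ?_
      exact ((EtCoh.pullPushAdj i).homEquiv_unit _ _ _).trans
        (((comp_cmpGlue_snd i j g).symm.trans ((congrArg (· ≫ pullback.snd _ _) hg).trans
          (pullback.lift_snd _ _ _))).trans
          ((EtCoh.pullPushAdj i).homEquiv_unit _ _ _).symm)
    · refine ((EtCoh.pullPushAdj j).homEquiv F ((EtCoh.pull j).obj G)).injective ?_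
      exact ((EtCoh.pullPushAdj j).homEquiv_unit _ _ _).trans
        (((comp_cmpGlue_fst i j g).symm.trans ((congrArg (· ≫ pullback.fst _ _) hg).trans
          (pullback.lift_fst _ _ _))).trans
          ((EtCoh.pullPushAdj j).homEquiv_unit _ _ _).symm)⟩
  exact ⟨hF, hFull, hS⟩

end Groth.Agent.S14449
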