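import Groth.Statements.S1445
import Groth.Agent.Wt.UnivOpen

set_option autoImplicit false
universe u
open FlatMor

namespace Groth.Agent.S1445

section
open AlgebraicGeometry CategoryTheory Limits TensorProduct

/-- Maps out of a pullback commute with the base change of a map on the first factor. -/
theorem map_comm {X Z Y W₁ W₂ : Scheme.{u}} (f : X ⟶ Y) (q : Z ⟶ Y) (j : X ⟶ Z) (hj : j ≫ q = f)
    (b : W₁ ⟶ Y) (a : W₂ ⟶ Y) (c : W₁ ⟶ W₂) (hc : c ≫ a = b) :
    pullback.map f b f a (𝟙 X) c (𝟙 Y) (by simp) (by simp [hc]) ≫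
        pullback.map f a q a j (𝟙 W₂) (𝟙 Y) (by simp [hj]) (by simp) =
      pullback.map f b q b j (𝟙 W₁) (𝟙 Y) (by simp [hj]) (by simp) ≫
        pullback.map q b q a (𝟙 Z) c (𝟙 Y) (by simp) (by simp [hc]) := by
  apply pullback.hom_ext <;> simp only [pullback.map, Category.assoc, pullback.lift_fst, pullback.lift_fst_assoc, pullback.lift_snd, pullback.lift_snd_assoc, Category.id_comp, Category.comp_id]

end

open scoped TensorProduct in
open AlgebraicGeometry CategoryTheory Limits in
/-- Let f : X → Y be quasi-finite and of finite presentation with X and Y affine. Then there are a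
morphism Y_u → Y of finite presentation and an open U_u of Y_u ×_Y X finite over Y_u such that for
every morphism Y' → Y with Y' affine and every open U' of Y' ×_Y X finite over Y', some morphism Y'
→ Y_u over Y pulls U_u back to U'. -/
theorem result {X Y : Scheme.{u}} (f : X ⟶ Y) [IsAffine X] [IsAffine Y] [LocallyQuasiFinite f] [LocallyOfFinitePresentation f] :
    ∃ (Yu : Scheme.{u}) (a : Yu ⟶ Y) (Uu : (pullback f a).Opens), LocallyOfFinitePresentation a ∧ QuasiCompact a ∧ QuasiSeparated a ∧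
      IsFinite (Uu.ι ≫ pullback.snd f a) ∧
      ∀ (Y' : Scheme.{u}) (b : Y' ⟶ Y) (U' : (pullback f b).Opens), IsAffine Y' → IsFinite (U'.ι ≫ pullback.snd f b) →
        ∃ (c : Y' ⟶ Yu) (hc : c ≫ a = b),
          (pullback.map f b f a (𝟙 X) c (𝟙 Y) ((Category.comp_id f).trans (Category.id_comp f).symm) ((Category.comp_id b).trans hc.symm)) ⁻¹ᵁ Uu = U' := by
  let A := Γ(Y, ⊤)
  let B := Γ(X, ⊤)
  letI : Algebra A B := f.appTop.hom.toAlgebra
  haveI : Algebra.QuasiFinite A B :=
    RingHom.quasiFinite_algebraMap.mp ((HasRingHomProperty.iff_of_isAffine (P := @LocallyQuasiFinite)).mp ‹_›)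
  haveI : Algebra.FinitePresentation A B :=
    (HasRingHomProperty.iff_of_isAffine (P := @LocallyOfFinitePresentation)).mp ‹_›
  obtain ⟨C, _, _, hCfp, π, s, hs, hbij⟩ := Groth.Agent.Wt.FinFactor.exists_finite_fp_factor A B
  obtain ⟨Q, _, _, hQ, e, he, hemem, huniv⟩ :=
    Groth.Agent.Wt.UnivIdem.exists_universal_idempotent A C s
  let sp : ∀ (D : Type u) [CommRing D] [Algebra A D], Spec (CommRingCat.of D) ⟶ Y := fun D _ _ =>
    Spec.map (CommRingCat.ofHom (algebraMap A D)) ≫ Y.isoSpec.inv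
  let q := sp C
  obtain ⟨hopen, hrange⟩ := Groth.Agent.Wt.UnivOpen.isOpenImmersion_specMap π.toRingHom s hs hbij
  let j : X ⟶ Spec (CommRingCat.of C) :=
    X.isoSpec.hom ≫ Spec.map (CommRingCat.ofHom π.toRingHom)
  haveI : IsOpenImmersion j := inferInstance
  have hjrange : Set.range j = ⋃ r ∈ (s : Set C), (PrimeSpectrum.basicOpen r : Set (PrimeSpectrum C)) := by
    rw [← hrange]
    ext y
    exact ⟨fun ⟨x, hx⟩ => ⟨X.isoSpec.hom x, hx⟩, fun ⟨x, hx⟩ => by
      obtain ⟨z, rfl⟩ := X.isoSpec.hom.surjective x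
      exact ⟨z, hx⟩⟩
  have hj : j ≫ q = f := by
    have h1 : CommRingCat.ofHom (algebraMap A C) ≫ CommRingCat.ofHom π.toRingHom = f.appTop := by
      ext x
      exact π.commutes x
    simp only [j, q, sp, Category.assoc, ← Spec.map_comp_assoc]
    erw [h1]
    rw [Scheme.isoSpec_hom_naturality_assoc, Iso.hom_inv_id, Category.comp_id]
  haveI : IsFinite q := by
    have : (CommRingCat.ofHom (algebraMap A C)).hom.Finite := by
      have : Module.Finite A C := inferInstance
      exact RingHom.finite_algebraMap.mpr this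
    have : IsFinite (Spec.map (CommRingCat.ofHom (algebraMap A C))) := (IsFinite.SpecMap_iff _).mpr this
    exact inferInstanceAs (IsFinite (_ ≫ _))
  let k : ∀ {W : Scheme.{u}} (b : W ⟶ Y), pullback f b ⟶ pullback q b := fun {W} b =>
    pullback.map f b q b j (𝟙 W) (𝟙 Y) (by simp [hj]) (by simp)
  have hk : ∀ {W : Scheme.{u}} (b : W ⟶ Y), IsOpenImmersion (k b) := fun {W} b => inferInstance
  have hksnd : ∀ {W : Scheme.{u}} (b : W ⟶ Y), k b ≫ pullback.snd q b = pullback.snd f b := by
    intro W b; simp only [k, pullback.map, pullback.lift_snd, Category.comp_id]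
  have hkrange : ∀ {W : Scheme.{u}} (b : W ⟶ Y),
      Set.range (k b) = pullback.fst q b ⁻¹' Set.range j := by
    intro W b
    rw [Scheme.Pullback.range_map]
    simp [Set.range_id]
  -- the affine models
  have hpb : ∀ (D : Type u) [CommRing D] [Algebra A D],
      IsPullback (Spec.map (CommRingCat.ofHom (Algebra.TensorProduct.includeRight.toRingHom : C →+* D ⊗[A] C)))
        (Spec.map (CommRingCat.ofHom (Algebra.TensorProduct.includeLeftRingHom : D →+* D ⊗[A] C))) q (sp D) := by
    intro D _ _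
    refine IsPullback.of_iso ((isPullback_SpecMap_of_isPushout _ _ _ _
      (CommRingCat.isPushout_tensorProduct A D C)).flip)
      (Iso.refl _) (Iso.refl _) (Iso.refl _) Y.isoSpec.symm ?_ ?_ ?_ ?_ <;> simp [q, sp] <;> rfl
  let θ : ∀ (D : Type u) [CommRing D] [Algebra A D],
      Spec (CommRingCat.of (D ⊗[A] C)) ≅ pullback q (sp D) := fun D _ _ => (hpb D).isoPullback
  have hθrange : ∀ (D : Type u) [CommRing D] [Algebra A D],
      (θ D).hom ⁻¹' Set.range (k (sp D)) =
        ⋃ r ∈ (fun r => (1 : D) ⊗ₜ[A] r) '' (s : Set C),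
          (PrimeSpectrum.basicOpen r : Set (PrimeSpectrum (D ⊗[A] C))) := by
    intro D _ _
    ext x
    rw [hkrange, Set.mem_preimage, Set.mem_preimage, ← Scheme.Hom.comp_apply]
    simp only [θ, IsPullback.isoPullback_hom_fst, hjrange, Set.biUnion_image]
    change PrimeSpectrum.comap (Algebra.TensorProduct.includeRight : C →ₐ[A] D ⊗[A] C).toRingHom x ∈ _ ↔ _
    refine ⟨fun h => ?_, fun h => ?_⟩ <;> obtain ⟨r, hr, hx⟩ := Set.mem_iUnion₂.mp h <;>
      exact Set.mem_iUnion₂.mpr ⟨r, hr, hx⟩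
  let a := sp Q
  let V : (pullback q a).Opens :=
    (θ Q).inv ⁻¹ᵁ (PrimeSpectrum.basicOpen e : (Spec (CommRingCat.of (Q ⊗[A] C))).Opens)
  have hVrange : (V : Set (pullback q a : Scheme.{u})) ⊆ Set.range (k a) := by
    intro z hz
    have := (hθrange Q).ge (Groth.Agent.Wt.UnivOpen.basicOpen_subset_of_mem_span _ hemem hz)
    rwa [Set.mem_preimage, ← Scheme.Hom.comp_apply, Iso.inv_hom_id] at this
  haveI : LocallyOfFinitePresentation a := by
    have h : (CommRingCat.ofHom (algebraMap A Q)).hom.FinitePresentation :=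
      RingHom.finitePresentation_algebraMap.mpr hQ
    have : LocallyOfFinitePresentation (Spec.map (CommRingCat.ofHom (algebraMap A Q))) :=
      (HasRingHomProperty.Spec_iff (P := @LocallyOfFinitePresentation)).mpr h
    exact inferInstanceAs (LocallyOfFinitePresentation (_ ≫ _))
  refine ⟨_, a, k a ⁻¹ᵁ V, inferInstance, inferInstance, inferInstance, ?_, ?_⟩
  · have hclosed : IsClosed (V : Set (pullback q a : Scheme.{u})) :=
      ((PrimeSpectrum.isClopen_iff.mpr ⟨e, he, rfl⟩).isClosed).preimage (θ Q).inv.continuous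
    haveI : IsClosedImmersion ((k a ⁻¹ᵁ V).ι ≫ k a) := by
      refine IsClosedImmersion.of_isPreimmersion _ ?_
      convert hclosed
      ext z
      constructor
      · rintro ⟨x, rfl⟩; exact x.2
      · intro hz
        obtain ⟨x, rfl⟩ := hVrange hz
        exact ⟨⟨x, hz⟩, rfl⟩
    rw [← hksnd a, ← Category.assoc]
    infer_instance
  · intro Y' b U' _ hU'
    let A' := Γ(Y', ⊤)
    letI : Algebra A A' := b.appTop.hom.toAlgebra
    have hb : Y'.isoSpec.hom ≫ sp A' = b := by
      show _ ≫ Spec.map b.appTop ≫ Y.isoSpec.inv = b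
      rw [Scheme.isoSpec_hom_naturality_assoc, Iso.hom_inv_id, Category.comp_id]
    let m := pullback.map q (sp A') q b (𝟙 _) Y'.isoSpec.inv (𝟙 Y) (by simp)
      (by rw [← hb, Iso.inv_hom_id_assoc, Category.comp_id])
    haveI : IsFinite (U'.ι ≫ pullback.snd f b) := hU'
    have hfin : IsFinite (U'.ι ≫ k b) := by
      have : IsFinite ((U'.ι ≫ k b) ≫ pullback.snd q b) := by
        rwa [Category.assoc, hksnd]
      exact IsFinite.of_comp _ (pullback.snd q b)
    let T : Set (PrimeSpectrum (A' ⊗[A] C)) := ((θ A').hom ≫ m) ⁻¹' Set.range (U'.ι ≫ k b)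
    have hT : IsClopen T :=
      ⟨(U'.ι ≫ k b).isClosedMap.isClosed_range.preimage ((θ A').hom ≫ m).continuous,
        (U'.ι ≫ k b).isOpenEmbedding.isOpen_range.preimage ((θ A').hom ≫ m).continuous⟩
    obtain ⟨e', he', hTe⟩ := PrimeSpectrum.isClopen_iff.mp hT
    have hmfst : m ≫ pullback.fst q b = pullback.fst q (sp A') := by
      simp only [m, pullback.map, pullback.lift_fst, Category.comp_id]
    have he'mem : e' ∈ Ideal.span ((fun r => (1 : A') ⊗ₜ[A] r) '' (s : Set C)) := by
      refine Groth.Agent.Wt.UnivOpen.mem_span_of_basicOpen_subset he' _ (hTe ▸ ?_)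
      rw [← hθrange A', hkrange]
      rintro x ⟨u, hu⟩
      show pullback.fst q (sp A') ((θ A').hom x) ∈ Set.range j
      rw [← hmfst]
      show pullback.fst q b (((θ A').hom ≫ m) x) ∈ Set.range j
      rw [← hu]
      exact (hkrange b).le ⟨U'.ι u, rfl⟩
    obtain ⟨ψ, hψ⟩ := huniv A' e' he' he'mem
    have hψsp : Spec.map (CommRingCat.ofHom ψ.toRingHom) ≫ a = sp A' := by
      simp only [a, sp, ← Spec.map_comp_assoc]
      congr 2
      ext x
      exact ψ.commutes x
    let c : Y' ⟶ Spec (CommRingCat.of Q) :=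
      Y'.isoSpec.hom ≫ Spec.map (CommRingCat.ofHom ψ.toRingHom)
    have hc : c ≫ a = b := by
      simp only [c, Category.assoc, hψsp, hb]
    refine ⟨c, hc, ?_⟩
    let m' := pullback.map q b q a (𝟙 _) c (𝟙 Y) (by simp) (by simp [hc])
    have hsq : (θ A').hom ≫ m ≫ m' = Spec.map (CommRingCat.ofHom
        (Algebra.TensorProduct.map ψ (AlgHom.id A C)).toRingHom) ≫ (θ Q).hom := by
      apply pullback.hom_ext
      · simp only [θ, m, m', Category.assoc, pullback.lift_fst, pullback.map, Category.comp_id,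
          IsPullback.isoPullback_hom_fst]
        erw [IsPullback.isoPullback_hom_fst, ← Spec.map_comp]
        congr 1
        ext x
        simp
      · simp only [θ, m, m', c, Category.assoc, pullback.lift_snd, pullback.map, pullback.lift_snd_assoc,
          Iso.inv_hom_id_assoc, IsPullback.isoPullback_hom_snd_assoc,
          ← Spec.map_comp]
        erw [IsPullback.isoPullback_hom_snd, ← Spec.map_comp]
        rfl
    ext x
    have hcomm := map_comm f q j hj b a c hc
    obtain ⟨w, hw⟩ := ((θ A').hom ≫ m).surjective (k b x)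
    show k a (pullback.map f b f a (𝟙 X) c (𝟙 Y) _ _ x) ∈ V ↔ x ∈ U'
    rw [← Scheme.Hom.comp_apply, hcomm, Scheme.Hom.comp_apply]
    show (θ Q).inv (m' (k b x)) ∈ PrimeSpectrum.basicOpen e ↔ x ∈ U'
    rw [← hw, ← Scheme.Hom.comp_apply, ← Scheme.Hom.comp_apply, Category.assoc, reassoc_of% hsq,
      Iso.hom_inv_id, Category.comp_id]
    have h1 : w ∈ T ↔ x ∈ U' := by
      change ((θ A').hom ≫ m) w ∈ Set.range (U'.ι ≫ k b) ↔ x ∈ U'
      rw [hw]
      refine ⟨fun ⟨u, hu⟩ => ?_, fun hx => ⟨⟨x, hx⟩, rfl⟩⟩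
      rw [← (k b).isOpenEmbedding.injective hu]
      exact u.2
    rw [← h1, hTe, ← hψ]
    rfl

end Groth.Agent.S1445
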