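import Groth.Statements.S14454
import Groth.Agent.EtSupp.EtaleBC
import Groth.Agent.EtSupp.OffClosed
import Groth.Agent.EtaleSite.Clopen

set_option autoImplicit false
universe u
open CategoryTheory CategoryTheory.Limits AlgebraicGeometry Opposite
open EtDual

namespace Groth.Agent.S14454

/-- Geometric points with the same image are separated by `f` where residue extensions are trivial. -/
theorem point_ext {X X' : Scheme.{u}} (f : X' ⟶ X) {Ω : Type u} [Field Ω]
    (a b : Spec (CommRingCat.of Ω) ⟶ X') (hab : a ≫ f = b ≫ f)
    (hpt : a.base default = b.base default)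
    (hκ : Function.Surjective (f.residueFieldMap (a.base default))) : a = b := by
  obtain ⟨⟨x, α⟩, ha⟩ := (Scheme.SpecToEquivOfField Ω X').symm.surjective a
  obtain ⟨⟨y, β⟩, hb⟩ := (Scheme.SpecToEquivOfField Ω X').symm.surjective b
  replace ha : Spec.map α ≫ X'.fromSpecResidueField x = a := ha
  replace hb : Spec.map β ≫ X'.fromSpecResidueField y = b := hb
  have hxa : a.base default = x := by
    rw [← ha, Scheme.Hom.comp_apply]; exact Scheme.fromSpecResidueField_apply _ _
  have hxb : b.base default = y := by
    rw [← hb, Scheme.Hom.comp_apply]; exact Scheme.fromSpecResidueField_apply _ _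
  obtain rfl : x = y := hxa.symm.trans (hpt.trans hxb)
  rw [hxa] at hκ
  rw [← ha, ← hb, Category.assoc, Category.assoc, ← f.SpecMap_residueFieldMap_fromSpecResidueField,
    ← Category.assoc, ← Category.assoc, cancel_mono, ← Spec.map_comp, ← Spec.map_comp, Spec.map_inj] at hab
  have : α = β := by
    ext1
    exact RingHom.ext fun z => by
      obtain ⟨w, rfl⟩ := hκ z
      exact congr($hab w)
  rw [← ha, ← hb, this]

/-- Let X be a scheme, j : U ⟶ X an open immersion with closed complement Z, f : X' ⟶ X an étale
morphism and j' : U' ⟶ X' an open immersion with image f⁻¹(U), such that f maps Z' = X' − U'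
bijectively onto Z with trivial residue field extensions at the points of Z' (f restricts to an
isomorphism from (f⁻¹Z)_red onto Z_red). Then for every abelian sheaf F on the small étale site of X
and every r, the groups H^r_Z(X, F) and H^r_{Z'}(X', f⁻¹F) are isomorphic; existence of an
isomorphism only, the canonical one being restriction along f. No Noetherian hypothesis on X is
made. -/
theorem result {X X' U U' : Scheme.{u}}
    (f : X' ⟶ X) [AlgebraicGeometry.Etale f] (j : U ⟶ X) [IsOpenImmersion j]
    (j' : U' ⟶ X') [IsOpenImmersion j']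
    (hU' : Set.range j'.base = f.base ⁻¹' Set.range j.base)
    (hZ : Set.BijOn f.base (Set.range j'.base)ᶜ (Set.range j.base)ᶜ)
    (hκ : ∀ x' : ↥X', x' ∉ Set.range j'.base → Function.Surjective (f.residueFieldMap x'))
    (F : EtCoh.Ab X) (r : ℕ) :
    Nonempty ((EtDual.HY j r).obj F ≅ (EtDual.HY j' r).obj ((EtCoh.pull f).obj F)) := by
  haveI : EtShriek.JCont f := inferInstance
  let T' := (EtShriek.compEtale f).obj (EtCoh.top X')
  let UU : X.Etale := Scheme.Etale.mk j
  let toTop : ∀ V : X.Etale, V ⟶ EtCoh.top X := fun V => (EtCore.topIsTerminal X).from V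
  -- restriction to `X'` is bijective on sheaves supported off `U`
  have key : ∀ (G : EtCoh.Ab X),
      (∀ (V : X.Etale), Set.range V.hom.base ⊆ Set.range j.base → ∀ s : G.obj.obj (op V), s = 0) →
      Function.Bijective (G.obj.map (toTop T').op) := by
    intro G hG
    let Z : Bool → X.Etale := fun b => cond b T' UU
    let P := G.obj ⋙ forget AddCommGrpCat.{u + 1}
    have hP : (Presieve.ofArrows Z fun b => toTop (Z b)).IsSheafFor P := by
      rw [Presieve.isSheafFor_iff_generate]
      refine EtaleSite.isSheaf_forget G _ (EtaleSite.mem_topology_of_forall_exists _ fun x => ?_)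
      by_cases hx : (x : X) ∈ Set.range j.base
      · obtain ⟨u, hu⟩ := hx
        exact ⟨UU, toTop UU, u, Sieve.le_generate _ _ _ (Presieve.ofArrows.mk false), (congrArg (fun φ => φ.base u) (MorphismProperty.Over.w (toTop UU) : (toTop UU).left ≫ 𝟙 X = j)).trans hu⟩
      · obtain ⟨x', -, hx'⟩ := hZ.surjOn hx
        exact ⟨T', toTop T', x', Sieve.le_generate _ _ _ (Presieve.ofArrows.mk true), (congrArg (fun φ => φ.base x') (MorphismProperty.Over.w (toTop T') : (toTop T').left ≫ 𝟙 X = 𝟙 X' ≫ f)).trans hx'⟩
    refine ⟨fun s t hst => ?_, fun t => ?_⟩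
    · refine hP.isSeparatedFor.ext fun V g hg => ?_
      obtain ⟨⟨⟩⟩ := hg
      · exact (hG UU subset_rfl _).trans (hG UU subset_rfl _).symm
      · exact hst
    · rw [Presieve.isSheafFor_arrows_iff] at hP
      obtain ⟨s, hs, -⟩ := hP (fun b => match b with | true => t | false => 0) fun a b W ga gb h => by
        rcases a with _ | _ <;> rcases b with _ | _
        · show G.obj.map ga.op 0 = G.obj.map gb.op 0
          rw [map_zero, map_zero]
        · refine (hG W ?_ _).trans (hG W ?_ _).symm <;>
          · rw [← MorphismProperty.Over.w ga]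
            rintro _ ⟨p, rfl⟩
            exact ⟨_, rfl⟩
        · refine (hG W ?_ _).trans (hG W ?_ _).symm <;>
          · rw [← MorphismProperty.Over.w gb]
            rintro _ ⟨p, rfl⟩
            exact ⟨_, rfl⟩
        · refine EtaleSite.sect_ext _ _ fun Ω _ _ ξ w => ?_
          show EtaleSite.germ ξ G W w (G.obj.map ga.op t) = EtaleSite.germ ξ G W w (G.obj.map gb.op t)
          let w₁ := (Scheme.pointSmallEtale ξ).fiber.map ga w
          let w₂ := (Scheme.pointSmallEtale ξ).fiber.map gb w
          by_cases hw : ξ.base default ∈ Set.range j.base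
          · let W' := EtaleSite.piece W (W.hom ⁻¹ᵁ j.opensRange)
            let ι' : W' ⟶ W := EtaleSite.pieceHom W (W.hom ⁻¹ᵁ j.opensRange)
            let wl : Spec (CommRingCat.of Ω) ⟶ W.left := w.left
            have hwl : wl ≫ W.hom = ξ := Over.w w
            have hwW : ∀ p, wl p ∈ W.hom ⁻¹ᵁ j.opensRange := fun p => by
              show W.hom (wl p) ∈ Set.range j.base
              rw [Subsingleton.elim p default, ← Scheme.Hom.comp_apply, hwl]
              exact hw
            let S : Scheme.{u} := W.left
            let O : S.Opens := W.hom ⁻¹ᵁ j.opensRange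
            let l := IsOpenImmersion.lift O.ι wl (by
              rintro _ ⟨p, rfl⟩
              exact ⟨⟨_, hwW p⟩, rfl⟩)
            let w' : (Scheme.pointSmallEtale ξ).fiber.obj W' :=
              (Over.homMk l (by
                show l ≫ _ ≫ W.hom = ξ
                exact (Category.assoc _ _ _).symm.trans ((congrArg (· ≫ W.hom) (IsOpenImmersion.lift_fac O.ι wl _)).trans hwl)) :
                Over.mk ξ ⟶ (Scheme.Etale.forget X).obj W')
            have hw' : (Scheme.pointSmallEtale ξ).fiber.map ι' w' = w :=
              Over.OverMorphism.ext (IsOpenImmersion.lift_fac O.ι wl _)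
            have hW' : Set.range W'.hom.base ⊆ Set.range j.base := by
              rintro _ ⟨p, rfl⟩
              exact p.2
            rw [← hw', ← EtaleSite.germ_res, ← EtaleSite.germ_res]
            exact congrArg _ ((hG W' hW' _).trans (hG W' hW' _).symm)
          · have : w₁ = w₂ := by
              refine Over.OverMorphism.ext ?_
              let l₁ : Spec (CommRingCat.of Ω) ⟶ X' := w₁.left
              let l₂ : Spec (CommRingCat.of Ω) ⟶ X' := w₂.left
              show l₁ = l₂
              have e₁ : l₁ ≫ f = ξ := (congrArg (l₁ ≫ ·) (Category.id_comp f).symm).trans (Over.w w₁)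
              have e₂ : l₂ ≫ f = ξ := (congrArg (l₂ ≫ ·) (Category.id_comp f).symm).trans (Over.w w₂)
              have o₁ : l₁.base default ∉ Set.range j'.base := fun h0 => hw (by
                rw [hU'] at h0; rw [← e₁]; exact h0)
              have o₂ : l₂.base default ∉ Set.range j'.base := fun h0 => hw (by
                rw [hU'] at h0; rw [← e₂]; exact h0)
              refine point_ext f _ _ (e₁.trans e₂.symm) (hZ.injOn o₁ o₂ ?_) (hκ _ o₁)
              exact congrArg (fun φ => φ.base default) (e₁.trans e₂.symm)
            rw [EtaleSite.germ_res, EtaleSite.germ_res]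
            exact congrArg (fun q => EtaleSite.germ ξ G T' q t) this
      exact ⟨s, hs true⟩
  have hsupp : ∀ (F : EtCoh.Ab X) (V : X.Etale), Set.range V.hom.base ⊆ Set.range j.base →
      ∀ s : ((EtDual.secSupp j).obj F).obj.obj (op V), s = 0 := by
    intro F V hV s
    have hmono : Mono ((kernel.ι (EtDual.unitApp j F)).hom.app (op V)) := by
      have : Mono ((sheafToPresheaf X.smallEtaleTopology AddCommGrpCat.{u + 1}).map (kernel.ι (EtDual.unitApp j F))) := inferInstance
      exact inferInstanceAs (Mono (((sheafToPresheaf _ _).map (kernel.ι (EtDual.unitApp j F))).app (op V)))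
    refine (AddCommGrpCat.mono_iff_injective _).mp hmono ?_
    rw [map_zero]
    have h0 := (EtSupp.EtaleBC.unitApp_eq_zero_iff j F V _).mp
      (congrArg (fun φ => φ.hom.app (op V) s) (kernel.condition (EtDual.unitApp j F))) V (𝟙 V) hV
    rw [op_id, F.obj.map_id] at h0
    exact h0
  let Γ' := EtSupp.OffClosed.gSec X'
  let β : EtDual.secSupp j ⋙ EtSupp.OffClosed.gSec X ⟶ (EtDual.secSupp j ⋙ EtShriek.restrAlong f) ⋙ Γ' :=
    { app := fun G => ((EtDual.secSupp j).obj G).obj.map (toTop T').op
      naturality := fun _ _ a => (((EtDual.secSupp j).map a).hom.naturality (toTop T').op).symm }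
  have : ∀ G, IsIso (β.app G) := fun G =>
    (ConcreteCategory.isIso_iff_bijective _).mpr (key _ (hsupp G))
  let e : EtDual.gammaSupp j ≅ EtShriek.restrAlong f ⋙ EtDual.gammaSupp j' :=
    (@asIso _ _ _ _ β (NatIso.isIso_of_isIso_app β)) ≪≫ Functor.isoWhiskerRight (EtSupp.EtaleBC.secSuppRestrIso f j j' hU') Γ' ≪≫
      Functor.associator _ _ _
  let P := injectiveResolution F
  exact ⟨P.isoRightDerivedObj (EtDual.gammaSupp j) r ≪≫
    (HomologicalComplex.homologyFunctor _ _ r).mapIso
      ((NatIso.mapHomologicalComplex e _).app P.cocomplex) ≪≫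
    (P.isoRightDerivedObj (EtShriek.restrAlong f ⋙ EtDual.gammaSupp j') r).symm ≪≫
    DerFun.rightDerivedCompIso (EtShriek.restrAlong f) (EtDual.gammaSupp j') r F ≪≫
    (EtDual.HY j' r).mapIso ((EtaleSite.pullIsoRestrAlong f).app F).symm⟩

end Groth.Agent.S14454
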