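import Groth.Statements.S14456
import Groth.Agent.LocFlat.Basic
import Mathlib
-- import your own Groth.Agent.* helpers here

set_option autoImplicit false
universe u
open CAlg

namespace Groth.Agent.S14456

open TensorProduct

theorem tmul_mem {A B : Type u} [CommRing A] [CommRing B] [Algebra A B] {M : Type u} [AddCommGroup M]
    [Module B M] [Module A M] [IsScalarTower A B M] {Q : Type u} [AddCommGroup Q] [Module A Q]
    (I : Ideal B) {m : M} (hm : m ∈ I • (⊤ : Submodule B M)) (j : Q) :
    m ⊗ₜ[A] j ∈ I • (⊤ : Submodule B (M ⊗[A] Q)) := by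
  induction hm using Submodule.smul_induction_on' with
  | smul b hb z _ =>
    rw [← TensorProduct.smul_tmul']
    exact Submodule.smul_mem_smul hb trivial
  | add a ha b hb iha ihb =>
    rw [TensorProduct.add_tmul]; exact Submodule.add_mem _ iha ihb


/-- Take a local homomorphism A → B between Noetherian local rings, M a finitely generated B-module and
f an element of the maximal ideal of B. If M/f^(n+1)M is flat over A for every n ≥ 0, then M is flat
over A. -/
theorem result {A B : Type u} [CommRing A] [CommRing B]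
    [IsNoetherianRing A] [IsNoetherianRing B] [IsLocalRing A] [IsLocalRing B] [Algebra A B]
    [IsLocalHom (algebraMap A B)] (M : Type u) [AddCommGroup M] [Module B M] [Module A M]
    [IsScalarTower A B M] [Module.Finite B M] (f : B) (hf : f ∈ IsLocalRing.maximalIdeal B)
    (hflat : ∀ n : ℕ, Module.Flat A (M ⧸ (Ideal.span {f ^ (n + 1)} • (⊤ : Submodule B M)))) :
    Module.Flat A M := by
  rw [Module.Flat.iff_lTensor_injective]
  intro J _
  rw [injective_iff_map_eq_zero]
  intro x hx
  have : Module.Finite A J := Module.Finite.iff_fg.mpr (IsNoetherian.noetherian J)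
  have : Module.Finite B (M ⊗[A] J) := Groth.Agent.LocFlat.finite_tensor M J
  have hjac : Ideal.span {f} ≤ (⊥ : Ideal B).jacobson := by
    rw [IsLocalRing.jacobson_eq_maximalIdeal ⊥ bot_ne_top, Ideal.span_le, Set.singleton_subset_iff]
    exact hf
  rw [← Submodule.mem_bot B, ← Ideal.iInf_pow_smul_eq_bot_of_le_jacobson (M := M ⊗[A] J) _ hjac,
    Submodule.mem_iInf]
  intro n
  refine Submodule.smul_mono_left (Ideal.pow_le_pow_right (Nat.le_succ n)) ?_
  rw [Ideal.span_singleton_pow]
  let N : Submodule B M := Ideal.span {f ^ (n + 1)} • ⊤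
  let q : M →ₗ[A] M ⧸ N := N.mkQ.restrictScalars A
  have := hflat n
  have h1 : q.rTensor J x = 0 := by
    apply Module.Flat.lTensor_preserves_injective_linearMap (M := M ⧸ N) J.subtype J.injective_subtype
    rw [← LinearMap.comp_apply, LinearMap.lTensor_comp_rTensor, ← LinearMap.rTensor_comp_lTensor,
      LinearMap.comp_apply, hx, map_zero, map_zero]
  have hq : Function.Exact ((N.restrictScalars A).subtype) q := fun m =>
    ⟨fun h => ⟨⟨m, (Submodule.Quotient.mk_eq_zero N).mp h⟩, rfl⟩, fun ⟨y, hy⟩ => hy ▸ (Submodule.Quotient.mk_eq_zero N).mpr y.2⟩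
  obtain ⟨y, rfl⟩ := (rTensor_exact J hq N.mkQ_surjective x).mp h1
  clear h1 hx
  induction y with
  | zero => rw [map_zero]; exact Submodule.zero_mem _
  | add a b ha hb => rw [map_add]; exact Submodule.add_mem _ ha hb
  | tmul m j =>
    obtain ⟨m, hm⟩ := m
    rw [LinearMap.rTensor_tmul]
    exact tmul_mem (Ideal.span {f ^ (n + 1)}) hm j

end Groth.Agent.S14456
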