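import Groth.Statements.S14457
import Mathlib
-- import your own Groth.Agent.* helpers here

set_option autoImplicit false
universe u
open CAlg

namespace Groth.Agent.S14457

open Polynomial in
/-- Let A be a commutative ring, a an element of A and n ≥ 1 an integer. The A-algebra A[T]/(T^n − a) is
etale exactly when either n = 1 or the product n·a is a unit of A. (The exponent n is a positive
integer here; for n = 0 the quotient is (A/(1 − a))[T] and the equivalence fails.) -/
theorem result (A : Type u) [CommRing A] (a : A) (n : ℕ) (hn : 1 ≤ n) :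
    Algebra.Etale A (AdjoinRoot ((X : A[X]) ^ n - C a)) ↔ n = 1 ∨ IsUnit ((n : A) * a) := by
  classical
  constructor
  · intro het
    by_contra hcon
    simp only [not_or] at hcon
    obtain ⟨hn1, hu⟩ := hcon
    obtain ⟨m, hm, hle⟩ := Ideal.exists_le_maximal (Ideal.span {(n : A) * a})
      (fun h ↦ hu (Ideal.span_singleton_eq_top.1 h))
    have hmem : (n : A) * a ∈ m := hle (Ideal.mem_span_singleton_self _)
    let k := A ⧸ m
    letI : Field k := Ideal.Quotient.field m
    let K := AlgebraicClosure k
    obtain ⟨x, hx, hdx⟩ : ∃ x : K, x ^ n = algebraMap A K a ∧ (n : K) * x ^ (n - 1) = 0 := by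
      have hcast : algebraMap A K n = (n : K) := map_natCast _ n
      rcases (hm.isPrime.mem_or_mem hmem) with h | h
      · obtain ⟨x, hx⟩ := IsAlgClosed.exists_pow_nat_eq (algebraMap A K a) hn
        refine ⟨x, hx, ?_⟩
        rw [← hcast, IsScalarTower.algebraMap_apply A k K, Ideal.Quotient.algebraMap_eq,
          Ideal.Quotient.eq_zero_iff_mem.2 h, map_zero, zero_mul]
      · refine ⟨0, ?_, ?_⟩
        · rw [zero_pow (by omega), IsScalarTower.algebraMap_apply A k K, Ideal.Quotient.algebraMap_eq,
            Ideal.Quotient.eq_zero_iff_mem.2 h, map_zero]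
        · rw [zero_pow (by omega), mul_zero]
    have hlift : ∀ c : K, ((X : A[X]) ^ n - C a).eval₂ (Algebra.ofId A (DualNumber K))
        (TrivSqZeroExt.inl x + TrivSqZeroExt.inr c) = 0 := by
      intro c
      have hp : ((TrivSqZeroExt.inl x + TrivSqZeroExt.inr c : DualNumber K)) ^ n =
          TrivSqZeroExt.inl (x ^ n) + TrivSqZeroExt.inr ((n : K) * x ^ (n - 1) * c) := by
        ext <;> simp [TrivSqZeroExt.fst_pow, TrivSqZeroExt.snd_pow, Nat.pred_eq_sub_one, mul_assoc]
      rw [hdx, zero_mul, TrivSqZeroExt.inr_zero, add_zero, hx] at hp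
      simp [hp, TrivSqZeroExt.algebraMap_eq_inl']
    let φ : ∀ c : K, AdjoinRoot ((X : A[X]) ^ n - C a) →ₐ[A] DualNumber K := fun c ↦
      AdjoinRoot.liftAlgHom _ (Algebra.ofId A (DualNumber K)) _ (hlift c)
    have : φ 0 = φ 1 := by
      refine Algebra.FormallyUnramified.ext' ((TrivSqZeroExt.fstHom A K K).toRingHom) ?_ (φ 0) (φ 1) ?_
      · refine ⟨2, le_antisymm ?_ bot_le⟩
        rw [pow_two, Ideal.mul_le]
        intro r hr s hs
        rw [RingHom.mem_ker] at hr hs
        have hr' : r.fst = 0 := hr
        have hs' : s.fst = 0 := hs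
        show r * s = 0
        ext <;> simp [hr', hs']
      · intro z
        have h := AlgHom.congr_fun (AdjoinRoot.algHom_ext (f := (X : A[X]) ^ n - C a)
          (g₁ := (TrivSqZeroExt.fstHom A K K).comp (φ 0)) (g₂ := (TrivSqZeroExt.fstHom A K K).comp (φ 1)) (by simp [φ])) z
        exact h
    have := congrArg TrivSqZeroExt.snd (AlgHom.congr_fun this (AdjoinRoot.root _))
    simp [φ] at this
    exact zero_ne_one this
  · intro h
    obtain ⟨p₁, p₂, hp⟩ : ∃ p₁ p₂ : A[X], derivative ((X : A[X]) ^ n - C a) * p₁ + ((X : A[X]) ^ n - C a) * p₂ = 1 := by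
      rcases h with rfl | hu
      · exact ⟨1, 0, by simp⟩
      · obtain ⟨u, hu'⟩ := hu.exists_left_inv
        refine ⟨C u * X, -(C ((n : A) * u)), ?_⟩
        rw [derivative_sub, derivative_C, sub_zero, derivative_X_pow]
        have hX : (X : A[X]) ^ (n - 1) * X = X ^ n := by rw [← pow_succ, Nat.sub_add_cancel hn]
        have hC : C u * (C (n : A) * C a) = (1 : A[X]) := by rw [← C_mul, ← C_mul, hu', C_1]
        rw [C_mul]
        linear_combination (C (n : A) * C u) * hX + hC
    let P : StandardEtalePair A :=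
      { f := (X : A[X]) ^ n - C a
        monic_f := monic_X_pow_sub_C a (by omega)
        g := 1
        cond := ⟨p₁, p₂, 0, by rw [pow_zero]; exact hp⟩ }
    exact Algebra.Etale.of_equiv (P.equivAwayAdjoinRoot.trans
      ((IsLocalization.atUnit _ _ (AdjoinRoot.mk P.f P.g) (by rw [show P.g = 1 from rfl, map_one]; exact isUnit_one)).symm.restrictScalars A))

end Groth.Agent.S14457
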