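import Groth.Statements.S1446
import Groth.Agent.Wt.RelAssGeneric

set_option autoImplicit false
universe u
open AlgebraicGeometry CategoryTheory CategoryTheory.Limits TopologicalSpace
open Groth.Agent.AssSch.Stalk Groth.Agent.AssSch.Basic Groth.Agent.QCoh Groth.Agent.PullStalk.Sky
open FlatMor

namespace Groth.Agent.S1446

/-- Let f : X → S be locally of finite type, F a quasi-coherent O_X-module of finite type, and ξ a point
of the relative assassin of F with closure Z. Then there is a nonempty subset V of Z, open in Z,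
such that for every point x of V, if x is a generic point of an irreducible component of the fibre
of V through x then x lies in the relative assassin of F. -/
theorem result {X S : Scheme.{u}} (f : X ⟶ S) [LocallyOfFiniteType f]
    (F : X.Modules) (hF : Coh.IsCoh F) (ξ : X) (hξ : ξ ∈ MoreMor.relAss f F) :
    ∃ V : Set ↑X, V ⊆ closure {ξ} ∧ IsOpen (Subtype.val ⁻¹' V : Set ↑(closure ({ξ} : Set ↑X))) ∧ V.Nonempty ∧
      ∀ (x : X) (hx : x ∈ V), (∃ C ∈ irreducibleComponents ↑(V ∩ f ⁻¹' {f x}), IsGenericPoint (⟨x, hx, rfl⟩ : ↑(V ∩ f ⁻¹' {f x})) C) →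
        x ∈ MoreMor.relAss f F := by
  haveI : F.IsQuasicoherent := hF.1
  obtain ⟨W, hW, hξW, -⟩ := exists_isAffineOpen_mem_and_subset (x := f ξ) (U := ⊤) trivial
  obtain ⟨V, hV, hξV, hVW⟩ := exists_isAffineOpen_mem_and_subset (x := ξ) (U := f ⁻¹ᵁ W) hξW
  let := (f.appLE W V hVW).hom.toAlgebra
  let : Module Γ(S, W) Γ(F, V) := Module.compHom _ (f.appLE W V hVW).hom
  have : IsScalarTower Γ(S, W) Γ(X, V) Γ(F, V) := IsScalarTower.of_algebraMap_smul fun _ _ ↦ rfl
  have : Algebra.FiniteType Γ(S, W) Γ(X, V) := f.finiteType_appLE hW hV hVW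
  have : Module.Finite Γ(X, V) Γ(F, V) := CohDev.finite_sections hF hV
  obtain ⟨m, hm⟩ := (Wt.RelAssRing.mem_relAss_iff f F hW hV hVW ξ hξV).mp hξ
  obtain ⟨a, ha, hall⟩ := Wt.RelAssRing.forall_fibre_prime (primeOf hW (f ξ) hξW) (primeOf hV ξ hξV)
    (Wt.RelAssRing.comap_primeOf f hW hV hVW ξ hξV) m hm
  let O : Set X := (V : Set X) ∩ f ⁻¹' (S.basicOpen a : Set S)
  have hO : IsOpen O := V.2.inter ((S.basicOpen a).2.preimage f.continuous)
  refine ⟨closure {ξ} ∩ O, Set.inter_subset_left, ?_, ⟨ξ, subset_closure rfl, hξV, ?_⟩, ?_⟩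
  · have : (Subtype.val ⁻¹' (closure {ξ} ∩ O) : Set ↑(closure ({ξ} : Set ↑X))) = Subtype.val ⁻¹' O := by
      ext z; exact ⟨fun h => h.2, fun h => ⟨z.2, h⟩⟩
    rw [this]
    exact hO.preimage continuous_subtype_val
  · exact (mem_basicOpen_iff hW _ hξW _).mpr ha
  intro x hx ⟨C, hC, hgen⟩
  have hxV : x ∈ V := hx.2.1
  have hxW : f x ∈ W := hVW hxV
  have hsp : ξ ⤳ x := specializes_iff_mem_closure.mpr hx.1
  let q := primeOf hV ξ hξV
  let p := primeOf hW (f x) hxW
  let q' := primeOf hV x hxV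
  have hqq' : q ≤ q' := (primeOf_le_iff hV ξ x hξV hxV).mpr hsp
  have hq'c : q'.comap (algebraMap Γ(S, W) Γ(X, V)) = p := Wt.RelAssRing.comap_primeOf f hW hV hVW x hxV
  have hp0 : primeOf hW (f ξ) hξW ≤ p := (primeOf_le_iff hW (f ξ) (f x) hξW hxW).mpr (hsp.map f.continuous)
  have hfp : a ∉ p := (mem_basicOpen_iff hW _ hxW _).mp hx.2.2
  have hmin : q' ∈ (q ⊔ p.map (algebraMap Γ(S, W) Γ(X, V))).minimalPrimes := by
    refine ⟨⟨inferInstance, sup_le hqq' (Ideal.map_le_iff_le_comap.mpr hq'c.ge)⟩, fun I hI hle => ?_⟩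
    haveI := hI.1
    obtain ⟨z, hz, hzI⟩ := exists_point hV I
    subst hzI
    have hzc : (primeOf hV z hz).comap (algebraMap Γ(S, W) Γ(X, V)) = p :=
      le_antisymm ((Ideal.comap_mono hle).trans hq'c.le) (Ideal.map_le_iff_le_comap.mp (le_sup_right.trans hI.2))
    rw [Wt.RelAssRing.comap_primeOf f hW hV hVW z hz] at hzc
    have hfz : f z = f x := eq_of_primeOf_eq hW _ hxW hzc
    have hzx : z ⤳ x := (primeOf_le_iff hV z x hz hxV).mp hle
    have hξz : ξ ⤳ z := (primeOf_le_iff hV ξ z hξV hz).mp (le_sup_left.trans hI.2)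
    let T := ↑(closure ({ξ} : Set X) ∩ O ∩ f ⁻¹' {f x})
    let zT : T := ⟨z, ⟨hξz.mem_closure, hz, by show f z ∈ S.basicOpen a; rw [hfz]; exact hx.2.2⟩, hfz⟩
    let xT : T := ⟨x, hx, rfl⟩
    have hzxT : zT ⤳ xT := subtype_specializes_iff _ _ |>.mpr hzx
    have hCz : C ⊆ closure {zT} := by
      rw [← hgen.def]
      exact closure_minimal (Set.singleton_subset_iff.mpr hzxT.mem_closure) isClosed_closure
    have heq : closure {zT} = C := hC.eq_of_ge (isIrreducible_singleton.closure) hCz |>.symm |>.symm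
    have hxzT : xT ⤳ zT := by
      rw [specializes_iff_mem_closure, hgen.def, ← heq]
      exact subset_closure rfl
    have hzx' : z = x := (hzx.antisymm (subtype_specializes_iff _ _ |>.mp hxzT)).eq
    subst hzx'
    exact le_rfl
  obtain ⟨m', hm'⟩ := (hall p inferInstance hp0 hfp).2 q' hmin hq'c
  exact (Wt.RelAssRing.mem_relAss_iff f F hW hV hVW x hxV).mpr ⟨m', hm'⟩

end Groth.Agent.S1446
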