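import Groth.Statements.S14460
import Groth.Agent.FEtCat.Sigma

set_option autoImplicit false
universe u
open CategoryTheory CategoryTheory.Limits AlgebraicGeometry
open Pi1

namespace Groth.Agent.S14460
set_option backward.isDefEq.respectTransparency.types false

/-- Let Y → X be finite étale with Y nonempty and all geometric fibres of the same cardinality n, and
let a finite group G act on Y over X without fixed points (no point of Y with values in a field is
fixed by a non-identity element). Then G has at most n elements, and it has exactly n elements if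
and only if the morphism from the disjoint union of copies of Y indexed by G to Y ×_X Y, given on
the copy indexed by g by the identity and g, is an isomorphism. (For Y empty the bound fails, since
every finite group acts without fixed points on the empty cover, whose fibres have cardinality 0;
this row assumes Y nonempty.) -/
theorem result {X : Scheme.{u}} (Y : FEt.Cat X)
    [Nonempty ↥Y.left] (n : ℕ)
    (hn : ∀ (Ω : Type u) [Field Ω] [IsSepClosed Ω] (ξ : Spec (CommRingCat.of Ω) ⟶ X), Nat.card (FEt.fiberObj ξ Y) = n)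
    (G : Type u) [Group G] [Finite G] (ρ : G →* Aut Y)
    (hfree : ∀ g : G, g ≠ 1 → ∀ (K : Type u) [Field K] (y : Spec (CommRingCat.of K) ⟶ Y.left),
      y ≫ (ρ g).hom.left ≠ y) :
    Nat.card G ≤ n ∧
      (Nat.card G = n ↔ IsIso (Limits.Sigma.desc fun g : G =>
        pullback.lift (𝟙 Y.left) (ρ g).hom.left
          ((Category.id_comp Y.hom).trans (Over.w (ρ g).hom.hom).symm) : (∐ fun _ : G => Y.left) ⟶ pullback Y.hom Y.hom)) := by
  have hw : ∀ g : G, (ρ g).hom.left ≫ Y.hom = Y.hom := fun g => MorphismProperty.Over.w (ρ g).hom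
  let σ : G → (Y.left ⟶ pullback Y.hom Y.hom) := fun g =>
    pullback.lift (𝟙 Y.left) (ρ g).hom.left ((Category.id_comp Y.hom).trans (Over.w (ρ g).hom.hom).symm)
  have hσ₁ : ∀ g, σ g ≫ pullback.fst Y.hom Y.hom = 𝟙 Y.left := fun g => pullback.lift_fst _ _ _
  have hσ₂ : ∀ g, σ g ≫ pullback.snd Y.hom Y.hom = (ρ g).hom.left := fun g => pullback.lift_snd _ _ _
  have hfix : ∀ {Ω : Type u} [Field Ω] (η : Spec (CommRingCat.of Ω) ⟶ Y.left),
      Function.Injective fun g : G => η ≫ (ρ g).hom.left := by
    intro Ω _ η g h hgh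
    by_contra hne
    refine hfree (g * h⁻¹) (fun e => hne (mul_inv_eq_one.mp e)) Ω (η ≫ (ρ h).hom.left) ?_
    have key : (ρ h).hom.left ≫ (ρ (g * h⁻¹)).hom.left = (ρ g).hom.left := by
      change ((ρ h).hom ≫ (ρ (g * h⁻¹)).hom).left = _
      rw [show (ρ h).hom ≫ (ρ (g * h⁻¹)).hom = (ρ (g * h⁻¹) * ρ h).hom from rfl, ← map_mul, inv_mul_cancel_right]
    rw [Category.assoc, key]
    exact hgh
  let toFib : ∀ {Ω : Type u} [Field Ω] (η : Spec (CommRingCat.of Ω) ⟶ Y.left), G → FEt.fiberObj (η ≫ Y.hom) Y :=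
    fun η g => ⟨η ≫ (ρ g).hom.left, by rw [Category.assoc, hw]⟩
  have hinj : ∀ {Ω : Type u} [Field Ω] (η : Spec (CommRingCat.of Ω) ⟶ Y.left),
      Function.Injective (toFib η) := fun η g h e => hfix η (congrArg Subtype.val e)
  obtain ⟨η₀, -⟩ := Groth.Agent.FEtCat.Sigma.exists_geomPoint (Classical.arbitrary ↥Y.left)
  have hle : Nat.card G ≤ n := by
    have := Groth.Agent.FEtCat.Basic.finite_fiberObj (η₀ ≫ Y.hom) Y
    exact (Nat.card_le_card_of_injective _ (hinj η₀)).trans_eq (hn _ (η₀ ≫ Y.hom))
  refine ⟨hle, ?_⟩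
  refine Iff.trans ?_ (Groth.Agent.FEtCat.Sigma.isIso_desc_iff (pullback.fst Y.hom Y.hom) σ hσ₁).symm
  have hbij : ∀ {Ω : Type u} [Field Ω] (η : Spec (CommRingCat.of Ω) ⟶ Y.left),
      Function.Bijective (fun g : G => (⟨η ≫ σ g, by rw [Category.assoc, hσ₁, Category.comp_id]⟩ :
        Groth.Agent.FEtCat.Count.Sec (pullback.fst Y.hom Y.hom) η)) ↔ Function.Bijective (toFib η) := by
    intro Ω _ η
    let e : Groth.Agent.FEtCat.Count.Sec (pullback.fst Y.hom Y.hom) η ≃ FEt.fiberObj (η ≫ Y.hom) Y :=
      { toFun := fun s => ⟨s.1 ≫ pullback.snd Y.hom Y.hom, by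
          rw [Category.assoc, ← pullback.condition, ← Category.assoc, s.2]⟩
        invFun := fun t => ⟨pullback.lift η t.1 t.2.symm, pullback.lift_fst _ _ _⟩
        left_inv := fun s => Subtype.ext (pullback.hom_ext ((pullback.lift_fst _ _ _).trans s.2.symm)
          (pullback.lift_snd _ _ _))
        right_inv := fun t => Subtype.ext (pullback.lift_snd _ _ _) }
    have he : (e ∘ fun g : G => (⟨η ≫ σ g, by rw [Category.assoc, hσ₁, Category.comp_id]⟩ :
        Groth.Agent.FEtCat.Count.Sec (pullback.fst Y.hom Y.hom) η)) = toFib η := funext fun g =>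
      Subtype.ext ((Category.assoc η _ _).trans (congrArg (η ≫ ·) (hσ₂ g)))
    rw [← he]
    exact (e.bijective.of_comp_iff' _).symm
  constructor
  · intro hG Ω _ _ η
    refine (hbij η).mpr ?_
    have := Groth.Agent.FEtCat.Basic.finite_fiberObj (η ≫ Y.hom) Y
    exact (Nat.bijective_iff_injective_and_card _).mpr ⟨hinj η, hG.trans (hn _ (η ≫ Y.hom)).symm⟩
  · intro h
    exact (Nat.card_eq_of_bijective _ ((hbij η₀).mp (h _ inferInstance inferInstance η₀))).trans (hn _ (η₀ ≫ Y.hom))

end Groth.Agent.S14460
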