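import Groth.Statements.S14461
import Groth.Agent.FEtCat.Full
import Mathlib.AlgebraicGeometry.Noetherian

set_option autoImplicit false
universe u
open CategoryTheory CategoryTheory.Limits AlgebraicGeometry
open Pi1

namespace Groth.Agent.S14461

open TopologicalSpace in
theorem discrete_components (T : Type*) [TopologicalSpace T] [NoetherianSpace T] :
    DiscreteTopology (ConnectedComponents T) := by
  have : Finite (irreducibleComponents T) := NoetherianSpace.finite_irreducibleComponents.to_subtype
  have : Finite (ConnectedComponents T) := by
    refine Finite.of_surjective (fun Z : irreducibleComponents T => ConnectedComponents.mk Z.2.1.nonempty.some) ?_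
    intro c
    obtain ⟨x, rfl⟩ := ConnectedComponents.surjective_coe c
    refine ⟨⟨irreducibleComponent x, irreducibleComponent_mem_irreducibleComponents x⟩, ?_⟩
    refine ConnectedComponents.coe_eq_coe'.2 ?_
    exact isIrreducible_irreducibleComponent.isConnected.isPreconnected.subset_connectedComponent
      mem_irreducibleComponent (Set.Nonempty.some_mem _)
  have : T1Space (ConnectedComponents T) := ⟨fun c => by
    obtain ⟨x, rfl⟩ := ConnectedComponents.surjective_coe c
    rw [← ConnectedComponents.isQuotientMap_coe.isClosed_preimage, connectedComponents_preimage_singleton]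
    exact isClosed_connectedComponent⟩
  infer_instance

/-- Let X be a Noetherian scheme and X₀ → X a closed immersion such that, for every finite étale Y → X,
the projection Y ×_X X₀ → Y induces a bijection on connected components. Then restriction of finite
étale covers from X to X₀ is full and faithful. -/
theorem result {X X₀ : Scheme.{u}} [IsNoetherian X]
    (i : X₀ ⟶ X) [IsClosedImmersion i]
    (h : ∀ Y : FEt.Cat X, Function.Bijective (pullback.fst Y.hom i).continuous.connectedComponentsMap) :
    (FEt.restrict i).Full ∧ (FEt.restrict i).Faithful := by
  refine Groth.Agent.FEtCat.Full.full_faithful i (fun Y W hW hp => ?_) (fun Y W' hW' => ?_)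
  · by_contra hne
    obtain ⟨w, hw⟩ := Set.nonempty_iff_ne_empty.mpr hne
    obtain ⟨c, hc⟩ := (h Y).2 (ConnectedComponents.mk w)
    obtain ⟨z, rfl⟩ := ConnectedComponents.surjective_coe c
    have hc : pullback.fst Y.hom i z ∈ connectedComponent w := ConnectedComponents.coe_eq_coe'.1 hc
    exact Set.notMem_empty z (hp ▸ hW.connectedComponent_subset hw hc)
  · have : IsFinite Y.hom := Y.prop.1
    have : IsLocallyNoetherian Y.left := LocallyOfFiniteType.isLocallyNoetherian (Y := X) Y.hom
    have : CompactSpace Y.left := QuasiCompact.compactSpace_of_compactSpace (Y := X) Y.hom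
    have : IsNoetherian Y.left := {}
    let F := (pullback.fst Y.hom i).continuous.connectedComponentsMap
    have hd : DiscreteTopology (ConnectedComponents Y.left) := discrete_components Y.left
    refine ⟨ConnectedComponents.mk ⁻¹' (F '' (ConnectedComponents.mk '' W')),
      (isClopen_discrete _).preimage ConnectedComponents.continuous_coe, ?_⟩
    ext z
    refine ⟨fun hz => ?_, fun hz => ⟨_, ⟨z, hz, rfl⟩, rfl⟩⟩
    obtain ⟨_, ⟨z', hz', rfl⟩, e⟩ := hz
    have : ConnectedComponents.mk z' = ConnectedComponents.mk z := (h Y).1 e
    exact hW'.connectedComponent_subset hz' (ConnectedComponents.coe_eq_coe'.1 this.symm)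

end Groth.Agent.S14461
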