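import Groth.Statements.S14462
import Mathlib
import Groth.Agent.TraceEtale.Basic
import Groth.Agent.UnramFib.Basic

set_option autoImplicit false
universe u
set_option linter.style.haveILetI false
set_option backward.isDefEq.respectTransparency false
open CategoryTheory AlgebraicGeometry
open Unram

namespace Groth.Agent.S14462

open Limits
open scoped TensorProduct

theorem discr_baseChange {A : Type u} [CommRing A] {B : Type u} [CommRing B] [Algebra A B]
    {ι : Type*} [Fintype ι] [DecidableEq ι] (b : Module.Basis ι A B) (S : Type u) [CommRing S]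
    [Algebra A S] :
    Algebra.discr S (Algebra.TensorProduct.basis S b) = algebraMap A S (Algebra.discr A b) := by
  have := Module.Free.of_basis b
  have := Module.Finite.of_basis b
  rw [Algebra.discr_def, Algebra.discr_def, RingHom.map_det]
  congr 1
  ext i j
  rw [RingHom.mapMatrix_apply, Matrix.map_apply, Algebra.traceMatrix_apply, Algebra.traceMatrix_apply,
    Algebra.traceForm_apply, Algebra.traceForm_apply, Algebra.TensorProduct.basis_apply,
    Algebra.TensorProduct.basis_apply, Algebra.TensorProduct.tmul_mul_tmul, one_mul,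
    Algebra.trace_apply, Algebra.trace_apply, ← LinearMap.trace_baseChange]
  congr 1
  refine TensorProduct.AlgebraTensorModule.ext fun s v => ?_
  simp [Algebra.TensorProduct.tmul_mul_tmul]

/-- A finite flat algebra over a Noetherian local ring with étale fibres at all primes of height at
most one is étale. -/
theorem etale_of_fibres_height_le_one (R B : Type u) [CommRing R] [IsLocalRing R] [IsNoetherianRing R]
    [CommRing B] [Algebra R B] [Module.Finite R B] [Module.Flat R B]
    (h : ∀ (Q : Ideal R) [Q.IsPrime], Q.height ≤ 1 →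
      Algebra.Etale Q.ResidueField (Q.ResidueField ⊗[R] B)) :
    Algebra.Etale R B := by
  classical
  have : Module.Free R B := Module.free_of_flat_of_isLocalRing
  let b := Module.Free.chooseBasis R B
  refine Groth.Agent.TraceEtale.Basic.etale_of_bijective R B
    ((Groth.Agent.TraceEtale.Basic.isUnit_discr_iff b).mp (by_contra fun hD => ?_))
  obtain ⟨Q, hQ⟩ := Ideal.nonempty_minimalPrimes (I := Ideal.span {Algebra.discr R b})
    (fun e => hD (Ideal.span_singleton_eq_top.1 e))
  haveI : Q.IsPrime := hQ.1.1
  haveI := h Q (Ideal.height_le_one_of_isPrincipal_of_mem_minimalPrimes _ Q hQ)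
  have hu := (Groth.Agent.TraceEtale.Basic.isUnit_discr_iff
    (Algebra.TensorProduct.basis Q.ResidueField b)).mpr
      (Groth.Agent.TraceEtale.Basic.bijective_traceForm Q.ResidueField (Q.ResidueField ⊗[R] B))
  rw [discr_baseChange, isUnit_iff_ne_zero, Ne, Ideal.algebraMap_residueField_eq_zero] at hu
  exact hu (hQ.1.2 (Ideal.mem_span_singleton_self _))

/-- If `f` is étale over `U`, its base change along a map landing in `U` is étale. -/
theorem etale_snd_of_range_subset {X Y T : Scheme.{u}} (f : X ⟶ Y) (U : Y.Opens) [Etale (f ∣_ U)]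
    (h : T ⟶ Y) (hh : Set.range h ⊆ (U : Set Y)) : Etale (pullback.snd f h) := by
  have hsub : Set.range h ⊆ Set.range U.ι := by rwa [Scheme.Opens.range_ι]
  have hl := IsOpenImmersion.lift_fac U.ι h hsub
  have H : IsPullback (pullback.fst (f ∣_ U) (IsOpenImmersion.lift U.ι h hsub) ≫ (f ⁻¹ᵁ U).ι)
      (pullback.snd (f ∣_ U) (IsOpenImmersion.lift U.ι h hsub)) f h := by
    have h1 := (IsPullback.of_hasPullback (f ∣_ U) (IsOpenImmersion.lift U.ι h hsub)).paste_horiz
      (isPullback_morphismRestrict f U).flip
    rwa [hl] at h1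
  rw [← H.isoPullback_inv_snd]
  infer_instance

/-- Over the spectrum of a local ring of `Y`, the pullback of `f` is étale. -/
theorem etale_snd_fromSpecStalk {X Y : Scheme.{u}} [IsLocallyNoetherian Y]
    (f : X ⟶ Y) [IsFinite f] [Flat f] (U : Y.Opens)
    (hU : ∀ y : Y, y ∉ U → (2 : WithBot ℕ∞) ≤ ringKrullDim (Y.presheaf.stalk y))
    [Etale (f ∣_ U)] (y : Y) : Etale (pullback.snd f (Y.fromSpecStalk y)) := by
  let R := Y.presheaf.stalk y
  let g := pullback.snd f (Y.fromSpecStalk y)
  haveI : IsFinite g := MorphismProperty.pullback_snd (P := @IsFinite) f (Y.fromSpecStalk y) inferInstance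
  haveI : Flat g := MorphismProperty.pullback_snd (P := @Flat) f (Y.fromSpecStalk y) inferInstance
  haveI : IsAffine (pullback f (Y.fromSpecStalk y)) := isAffine_of_isAffineHom g
  let φ : R ⟶ Γ(pullback f (Y.fromSpecStalk y), ⊤) :=
    Spec.preimage ((pullback f (Y.fromSpecStalk y)).isoSpec.inv ≫ g)
  have hφ : (pullback f (Y.fromSpecStalk y)).isoSpec.hom ≫ Spec.map φ = g := by
    simp [φ]
  haveI : IsFinite (Spec.map φ) := by
    rw [Spec.map_preimage]
    infer_instance
  haveI : Flat (Spec.map φ) := by
    rw [Spec.map_preimage]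
    infer_instance
  suffices hB : φ.hom.Etale by
    have : Etale (Spec.map φ) := (HasRingHomProperty.Spec_iff (P := @Etale)).2 hB
    change Etale g
    rw [← hφ]
    infer_instance
  algebraize [φ.hom]
  let B := Γ(pullback f (Y.fromSpecStalk y), ⊤)
  haveI : Module.Finite R B := RingHom.finite_algebraMap.1 ((IsFinite.SpecMap_iff φ).1 inferInstance)
  haveI : Module.Flat R B :=
    RingHom.flat_algebraMap_iff.1 ((HasRingHomProperty.Spec_iff (P := @Flat)).1 inferInstance)
  rw [← RingHom.algebraMap_toAlgebra φ.hom, RingHom.etale_algebraMap]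
  refine etale_of_fibres_height_le_one R B fun Q hQ hQh => ?_
  let ψ : R ⟶ CommRingCat.of Q.ResidueField := CommRingCat.ofHom (algebraMap R Q.ResidueField)
  have hrange : Set.range (Spec.map ψ ≫ Y.fromSpecStalk y) ⊆ (U : Set Y) := by
    rintro _ ⟨t, rfl⟩
    by_contra hn
    have h2 := hU _ hn
    obtain ⟨_, ⟨V, hV, rfl⟩, hyV, -⟩ :=
      Y.isBasis_affineOpens.exists_subset_of_mem_open (Set.mem_univ y) isOpen_univ
    let ρ : Γ(Y, V) ⟶ R := Y.presheaf.germ V y hyV
    have he : Y.fromSpecStalk y = Spec.map ρ ≫ hV.fromSpec :=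
      (hV.fromSpecStalk_eq_fromSpecStalk hyV).symm
    let P := (Spec.map ρ).base ((Spec.map ψ).base t)
    have hP : (Spec.map ψ ≫ Y.fromSpecStalk y).base t = hV.fromSpec.base P := by rw [he]; rfl
    have hPV : hV.fromSpec.base P ∈ V := hV.range_fromSpec.le ⟨P, rfl⟩
    have hprime : hV.primeIdealOf ⟨hV.fromSpec.base P, hPV⟩ = P :=
      hV.fromSpec.isOpenEmbedding.injective (hV.fromSpec_primeIdealOf ⟨_, hPV⟩)
    have hQt : ((Spec.map ψ).base t).asIdeal = Q := by
      have : t.asIdeal = ⊥ := (Ideal.eq_bot_or_top t.asIdeal).resolve_right t.isPrime.ne_top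
      change t.asIdeal.comap (algebraMap R Q.ResidueField) = Q
      rw [this, ← RingHom.ker_eq_comap_bot, Ideal.ker_algebraMap_residueField]
    rw [hP] at h2
    letI := TopCat.Presheaf.algebra_section_stalk Y.presheaf (⟨hV.fromSpec.base P, hPV⟩ : V)
    haveI := hV.isLocalization_stalk ⟨hV.fromSpec.base P, hPV⟩
    rw [IsLocalization.AtPrime.ringKrullDim_eq_height
      (hV.primeIdealOf ⟨hV.fromSpec.base P, hPV⟩).asIdeal, hprime] at h2
    letI := TopCat.Presheaf.algebra_section_stalk Y.presheaf (⟨y, hyV⟩ : V)
    haveI := hV.isLocalization_stalk ⟨y, hyV⟩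
    have h3 : P.asIdeal.height = Q.height := by
      have h4 := IsLocalization.height_comap (A := R)
        (hV.primeIdealOf ⟨y, hyV⟩).asIdeal.primeCompl Q
      exact (congrArg Ideal.height (show P.asIdeal = Q.comap ρ.hom by rw [← hQt]; rfl)).trans h4
    rw [h3] at h2
    exact absurd ((WithBot.coe_le_coe.mp h2).trans hQh) (by decide)
  haveI h1 := etale_snd_of_range_subset f U _ hrange
  have h2 : Etale (pullback.snd g (Spec.map ψ)) := by
    rw [← pullbackLeftPullbackSndIso_hom_snd f (Y.fromSpecStalk y) (Spec.map ψ)]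
    infer_instance
  have h3 : Etale (pullback.snd (Spec.map φ) (Spec.map ψ)) := by
    have : Etale (pullback.snd (Spec.map φ) (Spec.map ψ)) ↔ Etale (pullback.snd g (Spec.map ψ)) := by
      have hsq : IsPullback (pullback.fst g (Spec.map ψ) ≫ (pullback f (Y.fromSpecStalk y)).isoSpec.hom)
          (pullback.snd g (Spec.map ψ)) (Spec.map φ) (Spec.map ψ) :=
        (IsPullback.of_hasPullback g (Spec.map ψ)).paste_horiz
          (IsPullback.of_horiz_isIso ⟨by rw [hφ, Category.comp_id]⟩) |>.of_iso (Iso.refl _)
            (Iso.refl _) (Iso.refl _) (Iso.refl _) (by simp) (by simp) (by simp) (by simp)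
      rw [← hsq.isoPullback_hom_snd]
      exact (MorphismProperty.cancel_left_of_respectsIso @Etale _ _).symm
    exact this.2 h2
  have h4 : Etale (pullback.fst (Spec.map ψ) (Spec.map φ)) := by
    rw [← pullbackSymmetry_hom_comp_snd (Spec.map ψ) (Spec.map φ)]
    infer_instance
  have h5 : Etale (Spec.map (CommRingCat.ofHom
      (Algebra.TensorProduct.includeLeftRingHom : Q.ResidueField →+* Q.ResidueField ⊗[R] B))) := by
    rw [← pullbackSpecIso_inv_fst R Q.ResidueField B]
    exact (MorphismProperty.cancel_left_of_respectsIso @Etale _ _).2 h4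
  exact RingHom.etale_algebraMap.1 ((HasRingHomProperty.Spec_iff (P := @Etale)).1 h5)

/-- Let f : X → Y be finite and flat with Y locally Noetherian, and let U ⊆ Y be open with every point
of the complement having a local ring of Krull dimension at least 2. If f is étale over U, then f is
étale. -/
theorem result {X Y : Scheme.{u}} [IsLocallyNoetherian Y]
    (f : X ⟶ Y) [IsFinite f] [Flat f] (U : Y.Opens)
    (hU : ∀ y : Y, y ∉ U → (2 : WithBot ℕ∞) ≤ ringKrullDim (Y.presheaf.stalk y))
    [Etale (f ∣_ U)] : Etale f := by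
  haveI : LocallyOfFinitePresentation f :=
    LocallyOfFinitePresentation.iff_locallyOfFiniteType.2 inferInstance
  haveI : FormallyUnramified f := by
    refine Groth.Agent.UnramFib.formallyUnramified_of_fibers f fun y => ?_
    haveI := etale_snd_fromSpecStalk f U hU y
    haveI : Etale (f.fiberToSpecResidueField y) := by
      have hy : Spec.map (Y.residue y) ≫ Y.fromSpecStalk y = Y.fromSpecResidueField y := rfl
      change Etale (pullback.snd f (Y.fromSpecResidueField y))
      rw [← hy, ← pullbackLeftPullbackSndIso_inv_snd_snd f (Y.fromSpecStalk y) (Spec.map (Y.residue y))]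
      infer_instance
    infer_instance
  exact Etale.of_formallyUnramified_of_flat f

end Groth.Agent.S14462
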