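import Groth.Statements.S14469
import Groth.Agent.CBC.CurveVA

set_option autoImplicit false
universe u
open CategoryTheory CategoryTheory.Limits AlgebraicGeometry
open Curves

namespace Groth.Agent.S14469

/-- Let f : C → S be a proper smooth morphism of schemes whose fibres are geometrically connected, of
dimension one and of genus g ≥ 2 (g the dimension of H¹ of the structure sheaf of each fibre over
its residue field), i.e. a family of smooth curves of genus g, and let n ≥ 2. Then f_*(Ω_{C/S}^{⊗n})
is finite locally free of rank (2n - 1)(g - 1) and R^i f_*(Ω_{C/S}^{⊗n}) = 0 for every i ≥ 1. (The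
published statement also asserts that the formation of f_*(Ω_{C/S}^{⊗n}) commutes with every base
change S' → S; this row does not restate that clause.) -/
theorem result {C S : Scheme.{u}} (f : C ⟶ S)
    [IsProper f] [Smooth f] [GeometricallyConnected f]
    (hdim : ∀ s : S, topologicalKrullDim ↥(f.fiber s) = 1) (g : ℕ) (hg : 2 ≤ g)
    (hgen : ∀ s : S, letI : (f.fiber s).Over (Spec (S.residueField s)) := ⟨f.fiberToSpecResidueField s⟩
      Curv2.genus (S.residueField s) (f.fiber s) = g)
    [HasInjectiveResolutions C.Modules] (n : ℕ) (hn : 2 ≤ n) :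
    FlatMod.IsFinLocFreeOfRank ((2 * n - 1) * (g - 1)) ((Coh.push f).obj (CohB1.tensorPow (Omega.sheaf f) n)) ∧
      ∀ i : ℕ, 1 ≤ i → IsZero ((Coh.Rpush f i).obj (CohB1.tensorPow (Omega.sheaf f) n)) := by
  have hL := AmpleLib.isInvertible_tensorPow (CBC.CurveVA.isInvertible_omega f hdim) n
  have hd : 2 * (g : ℤ) - 1 ≤ (n : ℤ) * (2 * g - 2) := by
    have : (2 : ℤ) * (2 * g - 2) ≤ n * (2 * (g : ℤ) - 2) :=
      mul_le_mul_of_nonneg_right (by exact_mod_cast hn) (by omega)
    omega
  refine ⟨CBC.CurveVA.push_finLocFree f hdim g hgen hL hd (CBC.CurveVA.deg_fibre_omega_pow f hdim g hgen n) ?_,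
    fun i hi => CBC.CurveVA.Rpush_isZero f hdim g hgen hL hd (CBC.CurveVA.deg_fibre_omega_pow f hdim g hgen n) hi⟩
  rw [Nat.cast_mul, Nat.cast_sub (by omega), Nat.cast_sub (by omega)]
  push_cast
  ring

end Groth.Agent.S14469
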