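import Groth.Statements.S1447
import Groth.Agent.Wt.Degree
-- import your own Groth.Agent.* helpers here

set_option autoImplicit false
universe u
open FlatMor

namespace Groth.Agent.S1447

open AlgebraicGeometry CategoryTheory Limits in
/-- For a separated, flat, locally quasi-finite morphism f : X → S which is locally of finite
presentation, assume the fibres of f over all field-valued points have rank (of their ring of global
functions) at most n. Then there is a function deg : S → ℕ bounded by n with every sublevel set {deg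
≤ r} closed (equivalently a chain of closed subsets ∅ ⊂ Z_0 ⊂ ... ⊂ Z_n = S with strata {deg = r})
such that for every morphism g : T → S and every r, deg ∘ g is constant with value r exactly when
the base change of f along g is finite locally free of degree r. -/
theorem result {X S : Scheme.{u}} (f : X ⟶ S) [Flat f] [LocallyOfFinitePresentation f] [IsSeparated f] [LocallyQuasiFinite f]
    (n : ℕ) (hn : ∀ (K : Type u) [Field K] (g : Spec (CommRingCat.of K) ⟶ S), (letI := ((Scheme.ΓSpecIso (CommRingCat.of K)).inv ≫ (pullback.snd f g).appTop).hom.toAlgebra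
        Module.rank K (Γ(pullback f g, ⊤) : Type u)) ≤ (n : Cardinal.{u})) :
    ∃ deg : ↑S → ℕ, (∀ s, deg s ≤ n) ∧ (∀ r : ℕ, IsClosed {s : ↑S | deg s ≤ r}) ∧
      ∀ (T : Scheme.{u}) (g : T ⟶ S) (r : ℕ), Mor2.IsFinLocFreeOfDeg r (pullback.snd f g) ↔ ∀ t : T, deg (g t) = r := by
  let w := Wt.FlatWt.wt f
  have hw : MoreMor.IsWeighting f w := Wt.FlatWt.isWeighting_wt f
  have hpos : ∀ x, 0 < w x := Wt.FlatWt.wt_pos f
  have hfin : ∀ s : S, (f ⁻¹' {s}).Finite := fun s => (Wt.Degree.finite_and_le f n hn s).1
  let I := MoreMor.fibreIntegral f w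
  have hI0 : ∀ s, 0 ≤ I s := fun s => finsum_nonneg fun x =>
    mul_nonneg (hpos _).le (Nat.cast_nonneg _)
  refine ⟨fun s => (I s).toNat, fun s => ?_, fun r => ?_, fun T g r => ⟨fun h t => ?_, fun h => ?_⟩⟩
  · have : I s ≤ n := (Wt.Degree.finite_and_le f n hn s).2
    show (I s).toNat ≤ n
    omega
  · have h := Wt.LSC.lowerSemicontinuous_fibreIntegral f hfin hw hpos
    have : {s : ↑S | (I s).toNat ≤ r} = I ⁻¹' Set.Iic (r : ℤ) := by
      ext s
      simp [Int.toNat_le]
    rw [this]
    exact lowerSemicontinuous_iff_isClosed_preimage.mp h _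
  · obtain ⟨⟨hfinite, -, -⟩, hdeg⟩ := h
    show (I (g t)).toNat = r
    rw [← hdeg t, ← Int.toNat_natCast ((pullback.snd f g).finrank t),
      Wt.Degree.finrank_snd_eq f hfin g t]
  · have hfin' : ∀ t : T, ((pullback.snd f g) ⁻¹' {t}).Finite := fun t => by
      refine ((hfin (g t)).biUnion fun x _ => Wt.Pure.finite_points_over f g x t
        (Wt.Split.residueFieldMap_finite_of_quasiFiniteAt f x (f.quasiFiniteAt x))).subset ?_
      intro p hp
      refine Set.mem_iUnion₂.mpr ⟨pullback.fst f g p, ?_, rfl, hp⟩
      show f _ = g t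
      rw [← Scheme.Hom.comp_apply, pullback.condition, Scheme.Hom.comp_apply]
      exact congrArg g hp
    have hw' := Wt.Apply.isWeighting_baseChange hw (IsPullback.of_hasPullback f g)
    have hI : ∀ t : T, MoreMor.fibreIntegral (pullback.snd f g) (w ∘ pullback.fst f g) t = (r : ℤ) :=
      fun t => by
      obtain ⟨tb, htb⟩ := Wt.GeomPts.exists_geomPt t
      obtain ⟨-, h'⟩ := Wt.LSC.fibreIntegral_eq_geomInt f hfin w g tb
      have : Finite {p // pullback.snd f g p = Wt.GeomPts.pt tb} := by
        rw [htb]; exact (hfin' t).to_subtype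
      rw [← htb, ← Wt.GeomPts.geomInt_eq_fibreIntegral (pullback.snd f g) tb]
      refine h'.symm.trans ?_
      rw [htb, ← h t]
      exact (Int.toNat_of_nonneg (hI0 _)).symm
    have htop : IsFinite (pullback.snd f g ∣_ ⊤) :=
      Wt.LSC.isFinite_morphismRestrict (pullback.snd f g) hfin' hw' (fun p => hpos _) r ⊤
        (fun t _ => hI t)
    have hfinite : IsFinite (pullback.snd f g) := by
      let q := pullback.snd f g
      have : IsIso (⊤ : T.Opens).ι := inferInstanceAs (IsIso T.topIso.hom)
      have : IsIso (q ⁻¹ᵁ ⊤).ι := inferInstanceAs (IsIso (pullback f g).topIso.hom)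
      have e : q = inv (q ⁻¹ᵁ ⊤).ι ≫ (q ∣_ ⊤) ≫ (⊤ : T.Opens).ι := by
        rw [morphismRestrict_ι, IsIso.inv_hom_id_assoc]
      change IsFinite q
      rw [e]
      infer_instance
    refine ⟨⟨hfinite, inferInstance, inferInstance⟩, fun t => ?_⟩
    have := Wt.Degree.finrank_snd_eq f hfin g t
    show (pullback.snd f g).finrank t = r
    rw [← h t]
    exact congrArg Int.toNat this

end Groth.Agent.S1447
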