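import Groth.Statements.S14471
import Groth.Agent.CurveDVR.Values
import Groth.Agent.CurveDVR.Stalk
import Groth.Agent.LinSerLib.RatPoint
import Mathlib.AlgebraicGeometry.AlgClosed.Basic
import Mathlib.AlgebraicGeometry.FunctionField

set_option autoImplicit false
universe u
open CategoryTheory CategoryTheory.Limits AlgebraicGeometry
open Curves

namespace Groth.Agent.S14471

set_option backward.isDefEq.respectTransparency false
set_option backward.isDefEq.respectTransparency.types false

open Groth.Agent.PullStalk.Sky Groth.Agent.LFFrame in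
theorem core (k : Type u) [Field k] [IsAlgClosed k]
    (C : Scheme.{u}) [C.Over (Spec (CommRingCat.of k))] [IsIntegral C]
    {q : C} [IsDiscreteValuationRing (C.presheaf.stalk q)] (L : C.Modules) (r : ℕ) (s : Fin (r + 1) → LinSer.Sect C L)
    (hind : LinSer.LinIndep k C L s) (hL : PicF.IsInvertible L)
    (P : Spec (CommRingCat.of k) ⟶ C) (hP : P ≫ (C ↘ Spec (CommRingCat.of k)) = 𝟙 _)
    (hq : P (IsLocalRing.closedPoint k) = q) :
    Set.ncard ((fun c : Fin (r + 1) → k =>
        Module.length (C.presheaf.stalk q)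
          (↥(L.presheaf.stalk q) ⧸ Submodule.span (C.presheaf.stalk q)
            {(L.presheaf.germ ⊤ q trivial) (∑ i, (Coh.toGlobal (C ↘ Spec (CommRingCat.of k)) (c i)) • s i)})) ''
        {c : Fin (r + 1) → k | c ≠ 0}) = r + 1 := by
  subst hq
  set q := P (IsLocalRing.closedPoint k) with hqdef
  obtain ⟨U, hU, e, he⟩ := LinSerLib.exists_bijective_stalkComb L hL q
  let E : C.presheaf.stalk q ≃ₗ[C.presheaf.stalk q] L.presheaf.stalk q :=
    (LinearEquiv.funUnique (Fin 1) (C.presheaf.stalk q) (C.presheaf.stalk q)).symm.trans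
      (LinearEquiv.ofBijective (stalkComb L e q hU) he)
  let ι : k →+* C.presheaf.stalk q :=
    (C.presheaf.germ ⊤ q trivial).hom.comp (Coh.toGlobal (C ↘ Spec (CommRingCat.of k)))
  have hres : ∀ z : C.presheaf.stalk q, ∃ c : k, z - ι c ∈ IsLocalRing.maximalIdeal (C.presheaf.stalk q) := by
    intro z
    refine ⟨LinSerLib.chi P z, (IsLocalRing.mem_maximalIdeal _).mpr fun hu => ?_⟩
    have h0 : LinSerLib.chi P (z - ι (LinSerLib.chi P z)) = 0 := by
      rw [map_sub, sub_eq_zero]
      exact (LinSerLib.chi_global P hP _).symm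
    exact not_isUnit_zero (h0 ▸ hu.map (LinSerLib.chi P))
  let σ : (Fin (r + 1) → k) →+ LinSer.Sect C L :=
    AddMonoidHom.mk' (fun c => ∑ i, (Coh.toGlobal (C ↘ Spec (CommRingCat.of k)) (c i)) • s i)
      (fun c d => by simp only [Pi.add_apply, map_add, add_smul, Finset.sum_add_distrib])
  let G : LinSer.Sect C L →+ L.presheaf.stalk q := (L.presheaf.germ ⊤ q trivial).hom
  let φ : (Fin (r + 1) → k) →+ C.presheaf.stalk q := (E.symm.toLinearMap.toAddMonoidHom.comp G).comp σ
  have hsmul : ∀ (c : k) v, φ (c • v) = ι c * φ v := by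
    intro c v
    have h1 : σ (c • v) = Coh.toGlobal (C ↘ Spec (CommRingCat.of k)) c • σ v := by
      simp only [σ, AddMonoidHom.mk'_apply, Pi.smul_apply, smul_eq_mul, map_mul, mul_smul, Finset.smul_sum]
    show E.symm (G (σ (c • v))) = ι c * E.symm (G (σ v))
    rw [h1]
    have h2 : G (Coh.toGlobal (C ↘ Spec (CommRingCat.of k)) c • σ v) = ι c • G (σ v) :=
      germM_smul L ⊤ q trivial _ _
    rw [h2, map_smul, smul_eq_mul]
  have hinj : Function.Injective φ := by
    rw [injective_iff_map_eq_zero]
    intro c hc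
    apply hind c
    have h1 : G (σ c) = 0 := E.symm.map_eq_zero_iff.mp hc
    show σ c = 0
    generalize σ c = t at h1 ⊢
    -- a section with zero germ vanishes
    let Lf : TopCat.Sheaf Ab.{u} C := ⟨L.presheaf, L.isSheaf⟩
    refine TopCat.Presheaf.section_ext Lf ⊤ t 0 fun x _ => ?_
    show L.presheaf.germ ⊤ x trivial t = L.presheaf.germ ⊤ x trivial 0
    rw [map_zero]
    obtain ⟨W, hqW, i₁, i₂, hW⟩ := L.presheaf.germ_eq (U := (⊤ : C.Opens)) (V := (⊤ : C.Opens)) q trivial trivial t 0 (h1.trans (map_zero (L.presheaf.germ ⊤ q trivial).hom).symm)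
    obtain ⟨V, n, e', hxV, he'⟩ := LFFrame.exists_isFrame_of_isInvertible hL x
    obtain ⟨a, ha⟩ := (he' V le_rfl).2 (L.presheaf.map (homOfLE le_top).op t)
    obtain ⟨y, hyW, hyV⟩ := nonempty_preirreducible_inter W.isOpen V.isOpen ⟨q, hqW⟩ ⟨x, hxV⟩
    have h2 : comb L e' (inf_le_right : W ⊓ V ≤ V)
        (fun i => C.presheaf.map (homOfLE (inf_le_right : W ⊓ V ≤ V)).op (a i)) =
        comb L e' (inf_le_right : W ⊓ V ≤ V) 0 := by
      have h3 := (res_comb L e' le_rfl (inf_le_right : W ⊓ V ≤ V) a).symm.trans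
        (congrArg (L.presheaf.map (homOfLE (inf_le_right : W ⊓ V ≤ V)).op) ha)
      refine h3.trans ?_
      rw [res_res, show comb L e' (inf_le_right : W ⊓ V ≤ V) 0 = 0 by simp [comb],
        ← res_res L (le_top : W ≤ ⊤) (inf_le_left : W ⊓ V ≤ W),
        show L.presheaf.map (homOfLE (le_top : W ≤ ⊤)).op t = L.presheaf.map i₂.op 0 from hW,
        map_zero, map_zero]
    have h4 : ∀ i, a i = 0 := by
      intro i
      have h5 : C.presheaf.map (homOfLE (inf_le_right : W ⊓ V ≤ V)).op (a i) = 0 :=
        congrFun ((he' _ inf_le_right).1 h2) i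
      apply germ_injective_of_isIntegral C y hyV
      rw [map_zero, ← C.presheaf.germ_res_apply (homOfLE (inf_le_right : W ⊓ V ≤ V)) y ⟨hyW, hyV⟩ (a i),
        h5, map_zero]
    have h6 : L.presheaf.map (homOfLE (le_top : V ≤ ⊤)).op t = 0 := by
      rw [← ha]; simp [comb, h4]
    rw [← L.presheaf.germ_res_apply (homOfLE (le_top : V ≤ ⊤)) x hxV t, h6, map_zero]
  have hlen : ∀ c, Module.length (C.presheaf.stalk q)
      (↥(L.presheaf.stalk q) ⧸ Submodule.span (C.presheaf.stalk q) {G (σ c)}) = Ring.ord _ (φ c) := by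
    intro c
    refine (LinearEquiv.length_eq (Submodule.Quotient.equiv _ _ E ?_)).symm
    rw [Submodule.map_span, Set.image_singleton]
    show Submodule.span _ {E (E.symm (G (σ c)))} = _
    rw [LinearEquiv.apply_symm_apply]
  have key := (CurveDVR.ncard_values ι hres (r + 1) (Fin (r + 1) → k) φ hinj hsmul (by simp)).2
  simp only [← hlen] at key
  exact key

/-- Let k be an algebraically closed field, C a smooth proper curve over k (proper and smooth over k,
integral, of dimension one), (L, s_0, …, s_r) a linear series g^r_d on C (L an invertible module of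
degree d with k-linearly independent global sections s_0, …, s_r spanning a subspace V of Γ(C, L))
and p a closed point of C. For a nonzero σ ∈ V write ord_p σ for the length of the O_{C,p}-module
L_p/(σ_p), the order of vanishing of σ at p. Then σ ↦ ord_p σ takes exactly r + 1 distinct values on
V minus 0. (The published statement is for a smooth projective curve over the complex numbers and a
complex point p; this row states it over any algebraically closed field.) -/
theorem result (k : Type u) [Field k] [IsAlgClosed k]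
    (C : Scheme.{u}) [C.Over (Spec (CommRingCat.of k))] (hC : Curve.IsSmoothProperCurve k C (C ↘ (Spec (CommRingCat.of k))))
    (L : C.Modules) (d r : ℕ) (s : Fin (r + 1) → LinSer.Sect C L) (hL : LinSer.IsLinSer k C L d r s)
    (p : C) (hp : IsClosed ({p} : Set C)) :
    Set.ncard ((fun c : Fin (r + 1) → k =>
        Module.length (C.presheaf.stalk p)
          (↥(L.presheaf.stalk p) ⧸ Submodule.span (C.presheaf.stalk p)
            {(L.presheaf.germ ⊤ p trivial) (∑ i, (Coh.toGlobal (C ↘ Spec (CommRingCat.of k)) (c i)) • s i)})) ''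
        {c : Fin (r + 1) → k | c ≠ 0}) = r + 1 := by
  obtain ⟨hprop, hsm, hint, hdim⟩ := hC
  have : LocallyOfFiniteType (C ↘ Spec (CommRingCat.of k)) := inferInstance
  have : IsDiscreteValuationRing (C.presheaf.stalk p) :=
    CurveDVR.isDiscreteValuationRing_stalk (C ↘ Spec (CommRingCat.of k)) hdim hp
  exact core k C L r s hL.2.2 hL.1 (pointOfClosedPoint _ p hp) (pointOfClosedPoint_comp _ _ _)
    (pointOfClosedPoint_apply _ _ _ _)

end Groth.Agent.S14471
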