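import Groth.Statements.S14473
import Groth.Agent.FFCurve.Aut
import Groth.Agent.FFCurve.GenusOneAut

set_option autoImplicit false
universe u
open CategoryTheory CategoryTheory.Limits AlgebraicGeometry
open Curves

set_option linter.style.haveILetI false

namespace Groth.Agent.S14473

/-- Let k be an algebraically closed field and C a smooth proper connected curve over k (proper and
smooth over k, integral, of dimension one) of genus 1, the genus being the dimension of H¹(C, O_C).
Then the group of k-automorphisms of C is infinite: there are infinitely many automorphisms of the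
scheme C over Spec k. -/
theorem result (k : Type u) [Field k] [IsAlgClosed k]
    (C : Scheme.{u}) [C.Over (Spec (CommRingCat.of k))] (hC : Curve.IsSmoothProperCurve k C (C ↘ (Spec (CommRingCat.of k))))
    (hg : Curv2.genus k C = 1) :
    Infinite {e : C ≅ C // e.hom ≫ (C ↘ (Spec (CommRingCat.of k))) = C ↘ (Spec (CommRingCat.of k))} := by
  obtain ⟨hp, hs, hint, hdim⟩ := hC
  haveI := Groth.Agent.FFCurve.regCurve_of_smooth k hdim (X := C)
  have hK := Groth.Agent.FFCurve.isFunctionField_of_isAlgClosed (X := C) k hdim
  rw [Groth.Agent.FFCurve.genus_eq_genus k hdim hK] at hg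
  haveI := Groth.Agent.FFCurve.infinite_aut hK hg
  exact Groth.Agent.FFCurve.infinite_autCurve k

end Groth.Agent.S14473
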