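import Groth.Statements.S14474
import Groth.Agent.S19559

set_option backward.isDefEq.respectTransparency.types false

set_option autoImplicit false
universe u
open CategoryTheory CategoryTheory.Limits AlgebraicGeometry
open Curves

namespace Groth.Agent.S14474

/-- Let π : C → S be a proper, flat morphism of finite presentation all of whose fibres have every
irreducible component of dimension one (every geometric fibre is a curve). Then the set of points s
of S such that the fibre C_s, as a scheme over κ(s), has at-worst-nodal singularities (each closed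
point has a smooth open neighbourhood or is a node) is open in S. -/
theorem result {C S : Scheme.{u}} (π : C ⟶ S)
    [IsProper π] [Flat π] [LocallyOfFinitePresentation π]
    (hfib : ∀ s : S, ∀ Z ∈ irreducibleComponents (↥(π.fiber s) : Type u), topologicalKrullDim Z = 1) :
    IsOpen {s : S | letI : (π.fiber s).Over (Spec (S.residueField s)) := ⟨π.fiberToSpecResidueField s⟩
      Curv2.AtWorstNodal (S.residueField s) (π.fiber s)} := by
  have hG := S19559.result π hfib
  have hfp : ∀ s, LocallyOfFinitePresentation (π.fiberToSpecResidueField s) := fun s =>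
    MorphismProperty.pullback_snd (P := @LocallyOfFinitePresentation) _ _ inferInstance
  refine isOpen_iff_forall_mem_open.mpr fun s hs => ?_
  refine ⟨(π.base '' {p : C | ¬ ((∃ U : C.Opens, p ∈ U ∧ Smooth (U.ι ≫ π)) ∨ NodeStruct.IsNodeFib π p)})ᶜ, ?_,
    (π.isClosedMap _ hG.isClosed_compl).isOpen_compl, ?_⟩
  · intro t ht
    haveI := hfp t
    refine (@StrictSSLib.atWorstNodal_iff (S.residueField t) _ _ (π.fiberToSpecResidueField t) (hfp t)).mpr fun z _ => ?_
    have hgood : (∃ U : C.Opens, π.fiberι t z ∈ U ∧ Smooth (U.ι ≫ π)) ∨ NodeStruct.IsNodeFib π (π.fiberι t z) :=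
      not_not.mp fun hbad => ht ⟨π.fiberι t z, hbad, (π.range_fiberι t).le ⟨z, rfl⟩⟩
    rcases hgood with ⟨U, hzU, hU⟩ | hn
    · haveI := hU
      obtain ⟨V, hV, hVs⟩ := StrictSSLib.fibre_smooth π t z (StrictSSLib.mem_smoothLocus_of_comp U.ι π ⟨_, hzU⟩)
      haveI := hVs
      exact Or.inl (StrictSSLib.mem_smoothLocus_of_comp V.ι _ ⟨z, hV⟩)
    · exact Or.inr ((NodeStruct.isNodeFib_iff π t z).mp hn)
  · rintro ⟨p, hp, hps⟩
    obtain ⟨z, hz⟩ := (π.range_fiberι s).ge (show p ∈ π ⁻¹' {s} from hps)
    subst hz
    letI : (π.fiber s).Over (Spec (CommRingCat.of (S.residueField s))) := ⟨π.fiberToSpecResidueField s⟩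
    haveI : LocallyOfFiniteType ((π.fiber s) ↘ Spec (CommRingCat.of (S.residueField s))) :=
      MorphismProperty.pullback_snd (P := @LocallyOfFiniteType) _ _ inferInstance
    haveI := hfp s
    by_cases hn : Curv2.IsNode (S.residueField s) (π.fiber s) z
    · exact hp (Or.inr ((NodeStruct.isNodeFib_iff π s z).mpr hn))
    · exact hp (Or.inl ⟨π.smoothLocus, NodeStruct.mem_smoothLocus_of_fibre π s z
        (StrictSSLib.mem_smoothLocus_of_atWorstNodal (π.fiber s) (fun Z hZ => (hfib s Z hZ).le) hs hn),
        StrictSSLib.smooth_smoothLocus π⟩)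

end Groth.Agent.S14474
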