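import Groth.Statements.S14477
import Groth.Agent.CanonExt.Wedge

set_option autoImplicit false
universe u
open KaehlerDifferential
open LocInt

namespace Groth.Agent.S14477

section
open scoped TensorProduct

namespace Groth.Agent.AnnExt88

variable {A B R : Type u} [CommRing A] [CommRing B] [CommRing R]
    [Algebra A B] [Algebra B R] [Algebra A R] [IsScalarTower A B R]

/-- `φ ↦` its base change `R ⊗ Ω → R`. -/
noncomputable def bcForm {M : Type u} [AddCommGroup M] [Module B M] (φ : M →ₗ[B] B) :
    R ⊗[B] M →ₗ[R] R :=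
  (TensorProduct.AlgebraTensorModule.rid B R R).toLinearMap ∘ₗ φ.baseChange R

lemma bcForm_tmul {M : Type u} [AddCommGroup M] [Module B M] (φ : M →ₗ[B] B) (r : R) (x : M) :
    bcForm φ (r ⊗ₜ[B] x) = algebraMap B R (φ x) * r := by
  simp [bcForm, Algebra.smul_def]

/-- restriction of scalars for the determinant -/
noncomputable def detR (I : Ideal R) (n : ℕ) :
    (Fin n → R ⧸ I) [⋀^Fin n]→ₗ[R] (R ⧸ I) where
  toMultilinearMap :=
    (Matrix.detRowAlternating (n := Fin n) (R := R ⧸ I)).toMultilinearMap.restrictScalars R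
  map_eq_zero_of_eq' v i j h hij :=
    (Matrix.detRowAlternating (n := Fin n) (R := R ⧸ I)).map_eq_zero_of_eq v h hij

lemma detR_apply (I : Ideal R) (n : ℕ) (v : Fin n → Fin n → R ⧸ I) :
    detR I n v = Matrix.det (Matrix.of v) := rfl

/-- minors of a finite projective module of constant rank generate the unit ideal -/
theorem det_mem_of_forall {Ω : Type u} [AddCommGroup Ω] [Module B Ω] [Module.Finite B Ω]
    [Module.Projective B Ω] (n : ℕ) (hn : ∀ p, Module.rankAtStalk (R := B) Ω p = n) (D : Ideal B)
    (h : ∀ (s : Fin n → Ω →ₗ[B] B) (x : Fin n → Ω),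
      Matrix.det (Matrix.of fun i j => s i (x j)) ∈ D) : D = ⊤ := by
  by_contra hD
  obtain ⟨M, hM, hDM⟩ := Ideal.exists_le_maximal D hD
  letI : Field (B ⧸ M) := Ideal.Quotient.field M
  have hr : Module.finrank (B ⧸ M) ((B ⧸ M) ⊗[B] Ω) = n := by
    have h1 := Module.rankAtStalk_eq_finrank_of_free (R := B ⧸ M) (M := (B ⧸ M) ⊗[B] Ω)
    have h2 := Module.rankAtStalk_baseChange (R := B) (M := Ω) (S := B ⧸ M)
      (Classical.arbitrary (PrimeSpectrum (B ⧸ M)))
    rw [h1, hn] at h2
    exact h2
  let b : Module.Basis (Fin n) (B ⧸ M) ((B ⧸ M) ⊗[B] Ω) :=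
    Module.finBasisOfFinrankEq _ _ hr
  have hs : Function.Surjective (TensorProduct.mk B (B ⧸ M) Ω 1) :=
    TensorProduct.mk_surjective B Ω (B ⧸ M) Ideal.Quotient.mk_surjective
  choose x hx using fun j => hs (b j)
  have hl : ∀ i, ∃ s : Ω →ₗ[B] B, (Algebra.linearMap B (B ⧸ M)) ∘ₗ s =
      ((b.coord i).restrictScalars B) ∘ₗ TensorProduct.mk B (B ⧸ M) Ω 1 := fun i =>
    Module.projective_lifting_property _ _ Ideal.Quotient.mk_surjective
  choose s hs using hl
  have hd := hDM (h s x)
  rw [← Ideal.Quotient.eq_zero_iff_mem, RingHom.map_det] at hd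
  have h1 : (Ideal.Quotient.mk M).mapMatrix (Matrix.of fun i j => s i (x j)) = 1 := by
    ext i j
    have := congrArg (fun f => f (x j)) (hs i)
    simp only [LinearMap.comp_apply, Algebra.linearMap_apply, LinearMap.coe_restrictScalars] at this
    rw [RingHom.mapMatrix_apply, Matrix.map_apply, Matrix.of_apply]
    refine this.trans ?_
    rw [hx j, Module.Basis.coord_apply, Module.Basis.repr_self, Finsupp.single_apply,
      Matrix.one_apply]
    simp only [eq_comm]
  rw [h1, Matrix.det_one] at hd
  exact one_ne_zero hd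

end Groth.Agent.AnnExt88

end

open scoped TensorProduct

/-- Let A → B be a smooth ring map with Ω_{B/A} of rank n at every prime of B, g ∈ B a nonzerodivisor
and R = B/gB, a hypersurface of virtual relative dimension n - 1 over A; let J ⊆ R be the
annihilator of the n-th exterior power of Ω_{R/A} and Z = Spec R/J. Then J is the ideal of R
generated by the classes of the elements φ(dg), φ ranging over the B-linear forms on Ω_{B/A}; where
Ω_{B/A} is free on dt_1, …, dt_n this says that Z is cut out by the partial derivatives ∂g/∂t_1, …,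
∂g/∂t_n. In particular every φ(dg) vanishes in R/J; since Ω_{B/A} is finite projective this says
that dg ⊗ 1 = 0 in Ω_{B/A} ⊗_B R/J, i.e. the map from the conormal module gB/g²B ⊗ R/J to Ω_{B/A}
⊗_B R/J induced by d vanishes, and with the cotangent complex of R over A represented by the
two-term complex (gB/g²B → Ω_{B/A} ⊗_B R) this is the statement that the canonical map from L_Z =
L_1 i^* L_{R/A} to the conormal module restricted to Z is an isomorphism. (The published statement
also asserts that, for a regular immersion of any codimension into a smooth scheme, this map from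
L_Z is a locally split injection; that part is not stated here. The published statement is the
isomorphism alone, which amounts to the inclusion of the ideal generated by the φ(dg) in J; this row
states the equality, whose other inclusion is the local description of Z by the partial derivatives
given with the definition of Z.) -/
theorem result (A B R : Type u) [CommRing A] [CommRing B] [CommRing R]
    [Algebra A B] [Algebra B R] [Algebra A R] [IsScalarTower A B R] [Algebra.Smooth A B] (n : ℕ)
    (hn : ∀ p : PrimeSpectrum B, Module.rankAtStalk (Ω[B⁄A]) p = n)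
    (g : B) (hg : IsSMulRegular B g) (hsurj : Function.Surjective (algebraMap B R))
    (hker : RingHom.ker (algebraMap B R) = Ideal.span {g}) :
    (⋀[R]^n (Ω[R⁄A])).annihilator =
      Ideal.span (Set.range fun φ : Ω[B⁄A] →ₗ[B] B => algebraMap B R (φ (KaehlerDifferential.D A B g))) := by
  classical
  have hfs : Algebra.FormallySmooth A B := inferInstance
  have : Module.Projective B (Ω[B⁄A]) := inferInstance
  have : Module.Finite B (Ω[B⁄A]) := inferInstance
  set q := KaehlerDifferential.mapBaseChange A B R with hq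
  have hqs : Function.Surjective q := KaehlerDifferential.mapBaseChange_surjective A B R hsurj
  set I : Ideal R := Ideal.span (Set.range fun φ : Ω[B⁄A] →ₗ[B] B =>
    algebraMap B R (φ (KaehlerDifferential.D A B g))) with hI
  have hg0 : algebraMap B R g = 0 := by
    rw [← RingHom.mem_ker, hker]; exact Ideal.mem_span_singleton_self g
  apply le_antisymm
  · intro r hr
    -- the lifted forms
    have hkill : ∀ (φ : Ω[B⁄A] →ₗ[B] B), LinearMap.ker q ≤
        LinearMap.ker ((Submodule.mkQ I) ∘ₗ Groth.Agent.AnnExt88.bcForm (R := R) φ) := by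
      intro φ t ht
      obtain ⟨c, rfl⟩ :=
        ((KaehlerDifferential.exact_kerCotangentToTensor_mapBaseChange A B R hsurj) t).1 ht
      obtain ⟨⟨b, hb⟩, rfl⟩ := Ideal.toCotangent_surjective _ c
      rw [LinearMap.mem_ker, LinearMap.comp_apply,
        KaehlerDifferential.kerCotangentToTensor_toCotangent, Submodule.mkQ_apply,
        Submodule.Quotient.mk_eq_zero, Groth.Agent.AnnExt88.bcForm_tmul, mul_one]
      rw [hker, Ideal.mem_span_singleton'] at hb
      obtain ⟨c, rfl⟩ := hb
      rw [Derivation.leibniz, map_add, map_smul, map_smul, smul_eq_mul, smul_eq_mul, map_add,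
        map_mul, map_mul, hg0, zero_mul, add_zero]
      exact Ideal.mul_mem_left _ _ (Ideal.subset_span ⟨φ, rfl⟩)
    let lift : (Ω[B⁄A] →ₗ[B] B) → (Ω[R⁄A] →ₗ[R] R ⧸ I) := fun φ =>
      Submodule.liftQ _ ((Submodule.mkQ I) ∘ₗ Groth.Agent.AnnExt88.bcForm (R := R) φ) (hkill φ) ∘ₗ
        (LinearMap.quotKerEquivOfSurjective q hqs).symm.toLinearMap
    have hlift : ∀ φ x, lift φ (q x) = Ideal.Quotient.mk I (Groth.Agent.AnnExt88.bcForm φ x) := by
      intro φ x
      have e : (LinearMap.quotKerEquivOfSurjective q hqs).symm (q x) = Submodule.Quotient.mk x := by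
        rw [LinearEquiv.symm_apply_eq]; rfl
      simp only [lift, LinearMap.comp_apply, LinearEquiv.coe_coe, e]
      rfl
    let D : Ideal B :=
      (I.colon ({r} : Set R)).comap (algebraMap B R)
    have hD : D = ⊤ := by
      refine Groth.Agent.AnnExt88.det_mem_of_forall n hn D fun s x => ?_
      let al : Ω[R⁄A] [⋀^Fin n]→ₗ[R] (R ⧸ I) :=
        (Groth.Agent.AnnExt88.detR I n).compLinearMap (LinearMap.pi fun i => lift (s i))
      have h1 := congrArg (exteriorPower.alternatingMapLinearEquiv al) (Module.mem_annihilator.1 hr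
        (exteriorPower.ιMulti R n fun j => q (1 ⊗ₜ[B] x j)))
      rw [map_smul, exteriorPower.alternatingMapLinearEquiv_apply_ιMulti, map_zero] at h1
      have h2 : al (fun j => q (1 ⊗ₜ[B] x j)) = Ideal.Quotient.mk I
          (algebraMap B R (Matrix.det (Matrix.of fun i j => s i (x j)))) := by
        rw [← Matrix.det_transpose (Matrix.of fun i j => s i (x j)), RingHom.map_det,
          RingHom.map_det]
        show Groth.Agent.AnnExt88.detR I n _ = _
        rw [Groth.Agent.AnnExt88.detR_apply]
        congr 1
        ext j i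
        simp [hlift, Groth.Agent.AnnExt88.bcForm_tmul]
      rw [h2] at h1
      rw [Ideal.mem_comap, Submodule.mem_colon_singleton, smul_eq_mul,
        ← Ideal.Quotient.eq_zero_iff_mem, mul_comm, map_mul]
      exact h1
    have h1 : (1 : B) ∈ D := by rw [hD]; exact Submodule.mem_top
    rw [Ideal.mem_comap, map_one, Submodule.mem_colon_singleton, one_smul] at h1
    exact h1
  · rw [hI, Ideal.span_le]
    rintro _ ⟨φ, rfl⟩
    rw [SetLike.mem_coe, Module.mem_annihilator]
    intro z
    obtain ⟨w, rfl⟩ := exteriorPower.map_surjective (n := n) hqs z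
    set ψ : Module.Dual R (R ⊗[B] Ω[B⁄A]) := Groth.Agent.AnnExt88.bcForm φ with hψ
    set v : R ⊗[B] Ω[B⁄A] := 1 ⊗ₜ[B] KaehlerDifferential.D A B g with hv
    have hψv : ψ v = algebraMap B R (φ (KaehlerDifferential.D A B g)) := by
      rw [hψ, hv, Groth.Agent.AnnExt88.bcForm_tmul, mul_one]
    have hrank : ∀ p, Module.rankAtStalk (R := R) (R ⊗[B] Ω[B⁄A]) p = n := fun p => by
      rw [Module.rankAtStalk_baseChange]; exact hn _
    have hz : ExteriorAlgebra.ι R v * (w : ExteriorAlgebra R (R ⊗[B] Ω[B⁄A])) = 0 := by
      apply Groth.Agent.CanonExt.van_of_rank hrank (n + 1) (Nat.lt_succ_self n)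
      show _ ∈ LinearMap.range _ ^ (n + 1)
      rw [pow_succ']
      exact Submodule.mul_mem_mul ⟨v, rfl⟩ w.2
    have h2 := CliffordAlgebra.contractLeft_ι_mul (Q := (0 : QuadraticForm R _)) ψ v
      (w : ExteriorAlgebra R (R ⊗[B] Ω[B⁄A]))
    erw [hz, map_zero] at h2
    have h3 := congrArg (ExteriorAlgebra.map q) (sub_eq_zero.1 h2.symm)
    have hqv : ExteriorAlgebra.map q (ExteriorAlgebra.ι R v) = 0 := by
      rw [ExteriorAlgebra.map_apply_ι, hv, hq, KaehlerDifferential.mapBaseChange_tmul, one_smul,
        KaehlerDifferential.map_D, hg0, map_zero, map_zero]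
    apply Subtype.ext
    dsimp only
    rw [← hψv]
    have h4 : ((exteriorPower.map n q w : ⋀[R]^n (Ω[R⁄A])) : ExteriorAlgebra R (Ω[R⁄A])) =
        ExteriorAlgebra.map q (w : ExteriorAlgebra R (R ⊗[B] Ω[B⁄A])) := by
      have e : (Submodule.subtype _) ∘ₗ exteriorPower.map n q =
          (ExteriorAlgebra.map q).toLinearMap ∘ₗ Submodule.subtype _ := by
        ext m
        simp [exteriorPower.map_apply_ιMulti, exteriorPower.ιMulti_apply_coe,
          ExteriorAlgebra.map_apply_ιMulti, Function.comp_def]
      exact LinearMap.congr_fun e w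
    rw [Submodule.coe_smul, h4, Submodule.coe_zero, ← map_smul]
    erw [h3]
    erw [map_mul, hqv, zero_mul]

end Groth.Agent.S14477
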