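import Groth.Statements.S14478


set_option autoImplicit false
universe u
open CharCyc

namespace Groth.Agent.S14478

/-- Two subspaces of the same dimension have a common complement. -/
lemma exists_common_compl {k V : Type u} [Field k] [AddCommGroup V] [Module k V] [FiniteDimensional k V] :
    ∀ (c : ℕ) (A B : Submodule k V), Module.finrank k V - Module.finrank k A = c →
      Module.finrank k A = Module.finrank k B → ∃ C : Submodule k V, IsCompl A C ∧ IsCompl B C := by
  intro c
  induction c with
  | zero =>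
    intro A B h1 h2
    have hA : A = ⊤ := Submodule.eq_top_of_finrank_eq (by have := A.finrank_le; omega)
    have hB : B = ⊤ := Submodule.eq_top_of_finrank_eq (by have := A.finrank_le; omega)
    exact ⟨⊥, hA ▸ isCompl_top_bot, hB ▸ isCompl_top_bot⟩
  | succ c ih =>
    intro A B h1 h2
    have hA : A ≠ ⊤ := fun h => by rw [h, finrank_top] at h1; omega
    have hB : B ≠ ⊤ := fun h => by rw [h2, h, finrank_top] at h1; omega
    obtain ⟨a, ha⟩ := SetLike.exists_not_mem_of_ne_top A hA rfl
    obtain ⟨b, hb⟩ := SetLike.exists_not_mem_of_ne_top B hB rfl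
    obtain ⟨x, hxA, hxB⟩ : ∃ x, x ∉ A ∧ x ∉ B := by
      by_cases haB : a ∈ B
      · by_cases hbA : b ∈ A
        · exact ⟨a + b, fun h => ha ((add_mem_cancel_right hbA).mp h),
            fun h => hb ((add_mem_cancel_left haB).mp h)⟩
        · exact ⟨b, hbA, hb⟩
      · exact ⟨a, ha, haB⟩
    have hx0 : x ≠ 0 := fun h => hxA (h ▸ A.zero_mem)
    have hdA : Disjoint A (k ∙ x) := (Submodule.disjoint_span_singleton' hx0).mpr hxA
    have hdB : Disjoint B (k ∙ x) := (Submodule.disjoint_span_singleton' hx0).mpr hxB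
    have e1 := Submodule.finrank_sup_add_finrank_inf_eq A (k ∙ x)
    have e2 := Submodule.finrank_sup_add_finrank_inf_eq B (k ∙ x)
    rw [hdA.eq_bot, finrank_bot, finrank_span_singleton hx0] at e1
    rw [hdB.eq_bot, finrank_bot, finrank_span_singleton hx0] at e2
    obtain ⟨C, hC1, hC2⟩ := ih (A ⊔ (k ∙ x)) (B ⊔ (k ∙ x)) (by omega) (by omega)
    refine ⟨(k ∙ x) ⊔ C, ⟨?_, ?_⟩, ⟨?_, ?_⟩⟩
    · exact hdA.disjoint_sup_right_of_disjoint_sup_left hC1.disjoint
    · rw [codisjoint_iff, ← sup_assoc]; exact codisjoint_iff.mp hC1.codisjoint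
    · exact hdB.disjoint_sup_right_of_disjoint_sup_left hC2.disjoint
    · rw [codisjoint_iff, ← sup_assoc]; exact codisjoint_iff.mp hC2.codisjoint


/-- Let V be a finite-dimensional vector space over a field k, let W = V × V^∨ with V^∨ the dual space,
and let T ⊆ W be a subspace with dim T = dim V; put V₁ = V ∩ T, where V sits in W as V × 0. Then
there is a complement V₂ of V₁ in V with the following property: for every injective linear map A₁ :
V₁ → V₁^∨, the map A : V → V^∨ extending A₁ by zero along the decompositions V = V₁ ⊕ V₂ and V^∨ =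
V₁^∨ ⊕ V₂^∨ (so A v = A₁(p v) ∘ p, with p : V → V₁ the projection along V₂) has graph Γ ⊆ W with Γ ∩
T = 0. -/
theorem result (k V : Type u) [Field k] [AddCommGroup V] [Module k V]
    [FiniteDimensional k V] (T : Submodule k (V × Module.Dual k V))
    (hT : Module.finrank k T = Module.finrank k V) :
    ∃ (V₂ : Submodule k V) (h : IsCompl (T.comap (LinearMap.inl k V (Module.Dual k V))) V₂),
      ∀ A₁ : T.comap (LinearMap.inl k V (Module.Dual k V)) →ₗ[k]
          Module.Dual k (T.comap (LinearMap.inl k V (Module.Dual k V))),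
        Function.Injective A₁ →
          LinearMap.graph ((Submodule.projectionOnto _ V₂ h).dualMap ∘ₗ A₁ ∘ₗ
              Submodule.projectionOnto _ V₂ h) ⊓ T = ⊥ := by
  set V₁ := T.comap (LinearMap.inl k V (Module.Dual k V)) with hV₁
  let K : Submodule k (Module.Dual k V) := T.map (LinearMap.snd k V (Module.Dual k V))
  have hK : Module.finrank k V₁ + Module.finrank k K = Module.finrank k V := by
    have e1 := LinearMap.finrank_range_add_finrank_ker (K := k) (V := T) ((LinearMap.snd k V (Module.Dual k V)).domRestrict T)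
    rw [LinearMap.range_domRestrict] at e1
    let e : V₁ ≃ₗ[k] LinearMap.ker ((LinearMap.snd k V (Module.Dual k V)).domRestrict T) :=
      { toFun := fun v => ⟨⟨((v : V), 0), v.2⟩, by simp⟩
        invFun := fun t => ⟨(t.1 : V × Module.Dual k V).1, by
          obtain ⟨⟨⟨v, φ⟩, ht⟩, h2⟩ := t
          simp at h2
          subst h2
          exact ht⟩
        map_add' := fun v w => by ext <;> simp
        map_smul' := fun r w => by ext <;> simp
        left_inv := fun v => rfl
        right_inv := fun t => by
          obtain ⟨⟨⟨v, φ⟩, ht⟩, h2⟩ := t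
          simp at h2
          subst h2
          rfl }
    rw [e.finrank_eq, ← hT, ← e1, add_comm]
  have hW := Subspace.finrank_add_finrank_dualCoannihilator_eq K
  obtain ⟨C, hC1, hC2⟩ := exists_common_compl _ V₁ K.dualCoannihilator rfl (by omega)
  refine ⟨C, hC1, fun A₁ hA => ?_⟩
  rw [Submodule.eq_bot_iff]
  rintro ⟨v, φ⟩ ⟨h1, h2⟩
  simp only [SetLike.mem_coe, LinearMap.mem_graph_iff] at h1
  have hφK : φ ∈ K := ⟨(v, φ), h2, rfl⟩
  have hφC : ∀ c ∈ C, φ c = 0 := fun c hc => by
    rw [h1]
    simp [(Submodule.projectionOnto_apply_eq_zero_iff hC1).mpr hc]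
  have hφ : φ = 0 := by
    ext x
    obtain ⟨w, hw, c, hc, rfl⟩ := Submodule.mem_sup.mp
      (show x ∈ K.dualCoannihilator ⊔ C from hC2.codisjoint.eq_top ▸ Submodule.mem_top)
    rw [map_add, hφC c hc, (Submodule.mem_dualCoannihilator _).mp hw φ hφK, add_zero, LinearMap.zero_apply]
  subst hφ
  have hv1 : v ∈ V₁ := h2
  have hv : Submodule.projectionOnto V₁ C hC1 v = 0 := by
    apply hA
    rw [map_zero]
    apply LinearMap.dualMap_injective_of_surjective (Submodule.projectionOnto_surjective hC1)
    rw [map_zero]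
    exact h1.symm
  rw [show v = ((⟨v, hv1⟩ : V₁) : V) from rfl, Submodule.projectionOnto_apply_left] at hv
  simp [Subtype.ext_iff] at hv
  simp [hv]


end Groth.Agent.S14478
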