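import Groth.Statements.S14479
import Mathlib.LinearAlgebra.Matrix.BilinearForm
import Mathlib.LinearAlgebra.Matrix.Permutation
import Mathlib.Algebra.CharP.Basic


set_option autoImplicit false
universe u
open CharCyc

namespace Groth.Agent.S14479

/-- Let V be a finite-dimensional vector space over a field k. If dim V is even or the characteristic of
k is different from 2, there is a bilinear form B on V such that the bilinear form (v, w) ↦ B(v, w)
+ B(w, v) (B plus its transpose, as a map V → V^∨) is nondegenerate. -/
theorem result (k V : Type u) [Field k] [AddCommGroup V] [Module k V]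
    [FiniteDimensional k V] (h : Even (Module.finrank k V) ∨ ringChar k ≠ 2) :
    ∃ B : LinearMap.BilinForm k V, (B + B.flip).Nondegenerate := by
  set n := Module.finrank k V with hn
  let b : Module.Basis (Fin n) k V := Module.finBasis k V
  have key : ∃ M : Matrix (Fin n) (Fin n) k, (M + M.transpose).det ≠ 0 := by
    by_cases h2 : (2 : k) = 0
    · have hev : Even n := by
        rcases h with h | h
        · exact h
        · exact absurd h2 (Ring.two_ne_zero h)
      obtain ⟨m, hm⟩ := hev
      let M : Matrix (Fin n) (Fin n) k := Matrix.of fun i j => if j = Fin.rev i ∧ i < j then 1 else 0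
      refine ⟨M, ?_⟩
      have e : M + M.transpose = (Equiv.Perm.permMatrix k (Fin.revPerm : Equiv.Perm (Fin n))) := by
        ext i j
        have h3 : (j = Fin.rev i) ↔ i = Fin.rev j := by constructor <;> rintro rfl <;> simp
        simp only [Matrix.add_apply, Matrix.transpose_apply, Matrix.of_apply, M,
          Equiv.Perm.permMatrix, PEquiv.toMatrix_apply, Equiv.toPEquiv_apply, Fin.revPerm_apply,
          Option.mem_some_iff]
        by_cases hij : j = Fin.rev i
        · have hne : i ≠ j := by
            intro h4
            have h5 := congrArg Fin.val hij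
            rw [Fin.val_rev, h4] at h5
            omega
          have hji : i = Fin.rev j := h3.mp hij
          rw [if_pos hij.symm]
          rcases lt_or_gt_of_ne hne with h6 | h6
          · rw [if_pos ⟨hij, h6⟩, if_neg (fun h => absurd h.2 (not_lt.mpr h6.le)), add_zero]
          · rw [if_neg (fun h => absurd h.2 (not_lt.mpr h6.le)), if_pos ⟨hji, h6⟩, zero_add]
        · rw [if_neg (fun h => hij h.1), if_neg (fun h => hij (h3.mpr h.1)), if_neg (fun h => hij h.symm),
            add_zero]
      rw [e, Matrix.det_permutation]
      rcases Int.units_eq_one_or (Equiv.Perm.sign (Fin.revPerm : Equiv.Perm (Fin n))) with h4 | h4 <;>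
        simp [h4]
    · refine ⟨1, ?_⟩
      rw [Matrix.transpose_one, show (1 + 1 : Matrix (Fin n) (Fin n) k) = (2 : k) • 1 from (two_smul k 1).symm,
        Matrix.det_smul, Matrix.det_one, mul_one]
      exact pow_ne_zero _ h2
  obtain ⟨M, hM⟩ := key
  refine ⟨Matrix.toBilin b M, ?_⟩
  have e : Matrix.toBilin b M + (Matrix.toBilin b M).flip = Matrix.toBilin b (M + M.transpose) := by
    refine LinearMap.BilinForm.ext_basis b fun i j => ?_
    simp [Matrix.toBilin_apply, Finsupp.single_apply]
  rw [e, Matrix.nondegenerate_toBilin_iff, Matrix.nondegenerate_iff_det_ne_zero]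
  exact hM


end Groth.Agent.S14479
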