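import Groth.Statements.S14486
import Groth.Agent.SurfRR.Surface
import Groth.Agent.CohLES.Basic
import Groth.Agent.SerrePn.ExtDual
import Groth.Agent.NegVan.Twist
-- import your own Groth.Agent.* helpers here

set_option autoImplicit false
universe u
open CategoryTheory CategoryTheory.Limits AlgebraicGeometry
open Surf

namespace Groth.Agent.S14486

open Groth.Agent in
/-- `H^0(I_C) = 0 = H^1(I_C)` for an integral curve `C` when `H^1(O_X) = 0`. -/
theorem h_ideal (k : Type u) [Field k] [IsAlgClosed k] {X : Scheme.{u}} [X.Over (Spec (CommRingCat.of k))]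
    [IsIntegral X] [IsProper (X ↘ Spec (CommRingCat.of k))]
    {C : Scheme.{u}} (i : C ⟶ X) [IsClosedImmersion i] [IsIntegral C]
    (hH1 : Subsingleton (Coh.HH X (Coh.structureModule X) 1)) :
    Module.finrank k (Coh.HH X (ClSub.idealMod i.ker) 0) = 0 ∧
      Module.finrank k (Coh.HH X (ClSub.idealMod i.ker) 1) = 0 := by
  letI : C.Over (Spec (CommRingCat.of k)) := ⟨i ≫ (X ↘ (Spec (CommRingCat.of k)))⟩
  haveI : IsProper (C ↘ Spec (CommRingCat.of k)) :=
    inferInstanceAs (IsProper (i ≫ (X ↘ Spec (CommRingCat.of k))))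
  have hO : Coh.IsQCoh (Coh.structureModule C) := (inferInstance : (Coh.structureModule C).IsQuasicoherent)
  obtain ⟨E⟩ := EulerChar.nonempty_pushEquiv i (A := k) rfl _ hO 0
  have hQ : Module.finrank k (Coh.HH X (ClSub.quotMod i.ker) 0) = 1 := by
    rw [((SurfRR.hhEquiv k (HilbLoc.quotModIso i) 0) ≪≫ₗ E).finrank_eq]
    exact VBLib.finrank_H0_structure_eq_one VBLib.bijective_toGlobal_of_isAlgClosed
  haveI : Nontrivial Γ(i.ker.subscheme, ⊤) := by
    haveI : IsIso i.toImage := inferInstance
    haveI : IsIntegral i.ker.subscheme := IsIntegral.of_isIso i.toImage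
    haveI : Nonempty (⊤ : i.ker.subscheme.Opens) := ⟨⟨Nonempty.some inferInstance, trivial⟩⟩
    infer_instance
  let eX : Coh.HH X (Coh.structureModule X) 0 ≃+ Γ(Coh.structureModule X, ⊤) :=
    Sheaf.H.equiv₀ (Coh.toAb (Coh.structureModule X)) isTerminalTop
  let y := eX.symm (1 : Γ(X, ⊤))
  let g := CohLES.mapL k (ClSub.toSubscheme i.ker) 0
  have hgy : g y ≠ 0 := fun h => by
    have h1 := Sheaf.H.equiv₀_naturality
      (f := (ModShf.toAbFunctor X).map (ClSub.toSubscheme i.ker)) isTerminalTop y
    set ap := ((ModShf.toAbFunctor X).map (ClSub.toSubscheme i.ker)).hom.app (Opposite.op ⊤)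
    have h2 : (i.ker.subschemeι.app ⊤).hom 1 = 0 :=
      ((congrArg ap.hom (eX.apply_symm_apply (1 : Γ(X, ⊤)))).symm.trans h1).trans
        ((congrArg _ h).trans (map_zero _))
    rw [map_one] at h2
    exact one_ne_zero (α := Γ(i.ker.subscheme, ⊤)) h2
  have hX0 : Module.finrank k (Coh.HH X (Coh.structureModule X) 0) = 1 :=
    VBLib.finrank_H0_structure_eq_one VBLib.bijective_toGlobal_of_isAlgClosed
  have hgs : Function.Surjective g := fun z => by
    obtain ⟨c, hc⟩ := exists_smul_eq_of_finrank_eq_one hQ hgy z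
    exact ⟨c • y, by rw [map_smul, hc]⟩
  have hy : y ≠ 0 := fun h => hgy (by rw [h, map_zero])
  have hgi : Function.Injective g := (injective_iff_map_eq_zero _).2 fun z hz => by
    obtain ⟨c, rfl⟩ := exists_smul_eq_of_finrank_eq_one hX0 hy z
    rw [map_smul, smul_eq_zero] at hz
    rw [hz.resolve_right hgy, zero_smul]
  have hS := EulerChar.shortExact_ideal i.ker
  haveI : Mono (ClSub.idealModι i.ker) := hS.mono_f
  haveI s0 : Subsingleton (Coh.HH X (ClSub.idealMod i.ker) 0) := subsingleton_of_forall_eq 0 fun x => by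
    apply SerrePn.mapL_zero_injective (k := k) (ClSub.idealModι i.ker)
    apply hgi
    rw [map_zero, map_zero]
    exact CohLES.mapL_comp_eq_zero k (S := ShortComplex.mk (ClSub.idealModι i.ker) (ClSub.toSubscheme i.ker) (kernel.condition _)) x
  haveI s1 : Subsingleton (Coh.HH X (ClSub.idealMod i.ker) 1) := subsingleton_of_forall_eq 0 fun x => by
    obtain ⟨z, rfl⟩ := CohLES.exact₁ k hS (zero_add 1) x (Subsingleton.elim _ _)
    obtain ⟨w, rfl⟩ := hgs z
    exact CohLES.δL_mapL k hS (zero_add 1) w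
  exact ⟨Module.finrank_zero_of_subsingleton, Module.finrank_zero_of_subsingleton⟩

/-- Let k be an algebraically closed field and X a projective K3 surface over k: an integral scheme of
dimension two with all local rings regular, admitting a closed immersion into some P^n_k over k,
whose structure sheaf O_X is a second exterior power of Ω_{X/k} (the canonical sheaf is trivial) and
with H^1(X, O_X) = 0. Let C be a nonsingular curve of genus g on X: an integral closed subscheme of
dimension one with all local rings regular, with ideal sheaf I ⊆ O_X and g = dim_k H^1(C, O_C); let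
M be an inverse of I for the tensor product (M = O_X(C)). Then C² = 2g - 2 and h^0(X, O_X(C)) = g +
1. Writing (L·L') for the intersection number χ(O_X) - χ(L) - χ(L') + χ(L ⊗ L') of two invertible
modules (packaged as FGA.intNum), C² = (I·I), so the assertion reads (I·I) = 2g - 2 and dim_k H^0(X,
M) = g + 1. (A K3 surface is only required to be proper; this row assumes the projective embedding.) -/
theorem result (k : Type u) [Field k] [IsAlgClosed k] (X : Scheme.{u})
    [X.Over (Spec (CommRingCat.of k))] [IsIntegral X] (hdim : topologicalKrullDim X = 2)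
    (hreg : ∀ x : X, IsRegularLocalRing (X.presheaf.stalk x))
    (hproj : ∃ (n : ℕ) (ι : X ⟶ CohB1.ProjSpace n k), IsClosedImmersion ι ∧
      ι ≫ CohB1.ProjSpace.toSpec n k = (X ↘ (Spec (CommRingCat.of k))))
    (hK : ExtPow.IsExtPow 2 (Omega.sheaf (X ↘ (Spec (CommRingCat.of k)))) (Coh.structureModule X))
    (hH1 : Subsingleton (Coh.HH X (Coh.structureModule X) 1))
    (C : Scheme.{u}) (i : C ⟶ X) [IsClosedImmersion i] [IsIntegral C] (hC : topologicalKrullDim C = 1)
    (hCreg : ∀ c : C, IsRegularLocalRing (C.presheaf.stalk c))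
    (M : X.Modules) (hM : ClSub.IsInverseOf M (ClSub.idealMod i.ker)) :
    letI : C.Over (Spec (CommRingCat.of k)) := ⟨i ≫ (X ↘ (Spec (CommRingCat.of k)))⟩
    FGA.intNum k X 2 ![ClSub.idealMod i.ker, ClSub.idealMod i.ker] (Coh.structureModule X) =
        2 * (Curv2.genus k C : ℤ) - 2 ∧
      Module.finrank k (Coh.HH X M 0) = Curv2.genus k C + 1 := by
  obtain ⟨n, ι, hι', hι⟩ := hproj
  haveI := hι'
  haveI := Groth.Agent.SurfRR.isProper_of_closedImmersion k ι hι
  haveI : SmoothOfRelativeDimension 2 (X ↘ (Spec (CommRingCat.of k))) :=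
    Groth.Agent.SurfRR.smoothRelDim_of_regular k (r := 2) hdim hreg
  have hd : topologicalKrullDim X ≤ (2 : ℕ) := hdim.le
  letI : C.Over (Spec (CommRingCat.of k)) := ⟨i ≫ (X ↘ (Spec (CommRingCat.of k)))⟩
  haveI : IsProper (C ↘ Spec (CommRingCat.of k)) :=
    inferInstanceAs (IsProper (i ≫ (X ↘ Spec (CommRingCat.of k))))
  haveI : Smooth (C ↘ Spec (CommRingCat.of k)) := Groth.Agent.FFCurve.smooth_of_regular _ hCreg
  haveI := Groth.Agent.EulerChar.isLocallyNoetherian k (X := X)
  have hI := Groth.Agent.SurfRR.isInvertible_curve k (i := i) hdim hreg hC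
  have hO : PicF.IsInvertible (Coh.structureModule X) := GenAt.isInvertible_structureModule X
  have hχC := (Groth.Agent.VBLib.goodCurve_of_smooth (k := k) (X := C) hC).euler_structure
    Groth.Agent.VBLib.bijective_toGlobal_of_isAlgClosed
  have hadj := Groth.Agent.SurfRR.adjunction k ι hι _ hK i rfl hI
  have hIW : SurfRR.pr k (ClSub.idealMod i.ker) (Coh.structureModule X) = 0 := by
    rw [SurfRR.pr_comm, SurfRR.pr_one]
  obtain ⟨e⟩ := hM
  have e' : CohB1.tensorMod (ClSub.idealMod i.ker) M ≅ Coh.structureModule X :=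
    ProjTwist.tensComm _ _ ≪≫ e
  have hMi : PicF.IsInvertible M := NegVan.isInvertible_of_inverse hI ⟨e'⟩
  have h1O : Module.finrank k (Coh.HH X (Coh.structureModule X) 1) = 0 :=
    haveI := hH1
    Module.finrank_zero_of_subsingleton
  have h0O : Module.finrank k (Coh.HH X (Coh.structureModule X) 0) = 1 :=
    VBLib.finrank_H0_structure_eq_one VBLib.bijective_toGlobal_of_isAlgClosed
  have h2O : Module.finrank k (Coh.HH X (Coh.structureModule X) 2) = 1 := by
    rw [← h0O, ← SurfRR.finrank_dual k ι hι _ hK hO (ProjTwist.oneTens (Coh.structureModule X)) 2 le_rfl]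
    exact (SurfRR.hhEquiv k (ProjTwist.oneTens (Coh.structureModule X)) 0).finrank_eq
  obtain ⟨h0I, h1I⟩ := h_ideal k i hH1
  have h1M : Module.finrank k (Coh.HH X M 1) = 0 := by
    rw [← SurfRR.finrank_dual k ι hι _ hK hMi e 1 (by omega)]
    exact (SurfRR.hhEquiv k (ProjTwist.tensOne (ClSub.idealMod i.ker)) 1).finrank_eq.trans h1I
  have h2M : Module.finrank k (Coh.HH X M 2) = 0 := by
    rw [← SurfRR.finrank_dual k ι hι _ hK hMi e 2 le_rfl]
    exact (SurfRR.hhEquiv k (ProjTwist.tensOne (ClSub.idealMod i.ker)) 0).finrank_eq.trans h0I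
  have hII : SurfRR.pr k (ClSub.idealMod i.ker) (ClSub.idealMod i.ker) =
      2 * (Curv2.genus k C : ℤ) - 2 := by linarith
  refine ⟨by rw [SurfRR.pr_eq_intNum k hd hI hI, hII], ?_⟩
  have hrr := SurfRR.riemann_roch k ι hι _ hK hMi
  have hMM : SurfRR.pr k M M = SurfRR.pr k (ClSub.idealMod i.ker) (ClSub.idealMod i.ker) := by
    rw [SurfRR.pr_inv k hd hI hMi hMi e', SurfRR.pr_comm k (ClSub.idealMod i.ker) M,
      SurfRR.pr_inv k hd hI hMi hI e', neg_neg]
  rw [hMM, hII, SurfRR.pr_comm k M, SurfRR.pr_one, SurfRR.euler_eq_three k hd M,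
    SurfRR.euler_eq_three k hd (Coh.structureModule X), h1M, h2M, h1O, h0O, h2O] at hrr
  push_cast at hrr
  omega

end Groth.Agent.S14486
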