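import Groth.Statements.S1449
import Groth.Agent.Wt.Degree

set_option autoImplicit false
universe u
open FlatMor

namespace Groth.Agent.S1449

open AlgebraicGeometry CategoryTheory Limits

variable {X S : Scheme.{u}} (f : X ⟶ S)

theorem finite_fibre [LocallyQuasiFinite f] [CompactSpace X] (y : S) : (f ⁻¹' {y}).Finite := by
  have : QuasiCompact (S.fromSpecResidueField y) := by
    refine (quasiCompact_iff _).mpr fun U _ _ ↦ ?_
    exact (Set.toFinite _).isCompact
  have : QuasiCompact (f.fiberι y) := MorphismProperty.pullback_fst _ _ inferInstance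
  have : CompactSpace (f.fiber y) := QuasiCompact.compactSpace_of_compactSpace (f.fiberι y)
  have : IsArtinianScheme (f.fiber y) :=
    { toIsLocallyArtinian := inferInstance, toCompactSpace := inferInstance }
  simpa [Scheme.Hom.range_fiberι] using Set.finite_univ.image (f.fiberι y)

/-- The degree of the part of the fibre lying in `W`. -/
noncomputable abbrev deg [Flat f] [LocallyOfFinitePresentation f] [LocallyQuasiFinite f] (W : X.Opens) (s : S) : ℤ :=
  MoreMor.fibreIntegral (W.ι ≫ f) (Wt.FlatWt.wt (W.ι ≫ f)) s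

variable [Flat f] [LocallyOfFinitePresentation f] [IsSeparated f] [LocallyQuasiFinite f]

theorem isOpen_deg_ge (W : X.Opens) (hW : IsCompact (W : Set X)) (d : ℤ) : IsOpen {s | d ≤ deg f W s} := by
  have : CompactSpace W.toScheme := isCompact_iff_compactSpace.mp hW
  have h := Wt.LSC.lowerSemicontinuous_fibreIntegral (W.ι ≫ f) (finite_fibre _)
    (Wt.FlatWt.isWeighting_wt _) (Wt.FlatWt.wt_pos _)
  have hset : {s | d ≤ deg f W s} = (deg f W ⁻¹' Set.Iic (d - 1))ᶜ := by
    ext s
    simp only [Set.mem_setOf_eq, Set.mem_compl_iff, Set.mem_preimage, Set.mem_Iic]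
    omega
  rw [hset]
  exact (lowerSemicontinuous_iff_isClosed_preimage.mp h _).isOpen_compl

/-- Finitely many points of a fibre are counted by the degree. -/
theorem card_le_deg (W : X.Opens) (hW : IsCompact (W : Set X)) (s : S) (A : Finset X)
    (hA : ∀ a ∈ A, f a = s ∧ a ∈ W) : (A.card : ℤ) ≤ deg f W s := by
  classical
  have : CompactSpace W.toScheme := isCompact_iff_compactSpace.mp hW
  let f₀ := W.ι ≫ f
  have : Finite {x // f₀ x = s} := (finite_fibre f₀ s).to_subtype
  cases nonempty_fintype {x // f₀ x = s}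
  change (A.card : ℤ) ≤ MoreMor.fibreIntegral f₀ (Wt.FlatWt.wt f₀) s
  unfold MoreMor.fibreIntegral
  rw [finsum_eq_sum_of_fintype]
  refine le_trans ?_ (Finset.card_nsmul_le_sum Finset.univ _ (1 : ℤ) fun x _ => ?_)
  · rw [nsmul_one, Finset.card_univ, Nat.cast_le, ← Fintype.card_coe]
    let ι : A → {x // f₀ x = s} := fun a => ⟨⟨a.1, (hA a.1 a.2).2⟩, (hA a.1 a.2).1⟩
    exact Fintype.card_le_of_injective ι fun a b h => Subtype.ext
      (congrArg (fun x : {x // f₀ x = s} => W.ι x.1) h)
  · letI := (f₀.residueFieldMap x.1).hom.toAlgebra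
    have : Module.Finite (S.residueField (f₀ x.1)) (W.toScheme.residueField x.1) :=
      Wt.Split.residueFieldMap_finite_of_quasiFiniteAt f₀ x.1 (f₀.quasiFiniteAt x.1)
    exact one_le_mul_of_one_le_of_one_le (Wt.FlatWt.wt_pos f₀ x.1)
      (by exact_mod_cast Nat.one_le_iff_ne_zero.mpr (NeZero.ne
        (Field.finSepDegree (S.residueField (f₀ x.1)) (W.toScheme.residueField x.1))))

/-- The part of the fibre in `W` against the whole fibre. -/
theorem deg_le_rank (W : X.Opens) (hW : IsCompact (W : Set X)) {K : Type u} [Field K]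
    (g : Spec (CommRingCat.of K) ⟶ S) (v : Spec (CommRingCat.of K)) (d : ℕ) (hd : (d : ℤ) ≤ deg f W (g v)) :
    (d : Cardinal.{u}) ≤ (letI := ((Scheme.ΓSpecIso (CommRingCat.of K)).inv ≫ (pullback.snd f g).appTop).hom.toAlgebra
      Module.rank K (Γ(pullback f g, ⊤) : Type u)) ∧
    (f ⁻¹' {g v} ⊆ (W : Set X) →
      (letI := ((Scheme.ΓSpecIso (CommRingCat.of K)).inv ≫ (pullback.snd f g).appTop).hom.toAlgebra
      Module.rank K (Γ(pullback f g, ⊤) : Type u)) = ((deg f W (g v)).toNat : Cardinal.{u})) := by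
  have : CompactSpace W.toScheme := isCompact_iff_compactSpace.mp hW
  let f₀ := W.ι ≫ f
  have : QuasiCompact g := by
    refine (quasiCompact_iff _).mpr fun U _ _ ↦ ?_
    exact (Set.toFinite _).isCompact
  have : QuasiCompact (pullback.fst f₀ g) := MorphismProperty.pullback_fst _ _ inferInstance
  have : CompactSpace ↥(pullback f₀ g) := QuasiCompact.compactSpace_of_compactSpace (pullback.fst f₀ g)
  have : QuasiCompact (pullback.snd f₀ g) := quasiCompact_iff_compactSpace (pullback.snd f₀ g) |>.mpr inferInstance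
  have hfinite : IsFinite (pullback.snd f₀ g) := IsFinite.of_locallyQuasiFinite _
  have hrk := Wt.Degree.finrank_snd_eq f₀ (finite_fibre f₀) g v
  let j : pullback f₀ g ⟶ pullback f g :=
    pullback.map f₀ g f g W.ι (𝟙 _) (𝟙 _) (Category.comp_id _) (by simp)
  have hj : j ≫ pullback.snd f g = pullback.snd f₀ g := (pullback.lift_snd _ _ _).trans (Category.comp_id _)
  have : IsFinite (j ≫ pullback.snd f g) := hj ▸ hfinite
  have : IsFinite j := IsFinite.of_comp j (pullback.snd f g)
  have hsurj : Function.Surjective j.appTop := by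
    have hcl : IsClosed (j.opensRange : Set ↥(pullback f g)) := j.isClosedMap.isClosed_range
    let V := j.opensRange
    have h1 : Function.Surjective V.ι.appTop := by
      rw [Scheme.Opens.ι_appTop]
      exact Wt.Degree.surjective_res_of_isClosed (V.ι ''ᵁ ⊤) (by rwa [Scheme.Opens.ι_image_top])
    have h2 : j.appTop = V.ι.appTop ≫ j.isoOpensRange.hom.appTop := by
      rw [← Scheme.Hom.comp_appTop, Scheme.Hom.isoOpensRange_hom_ι]
    rw [h2]
    have : IsIso j.isoOpensRange.hom.appTop := inferInstanceAs (IsIso (Scheme.Γ.map j.isoOpensRange.hom.op))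
    intro b
    obtain ⟨b', rfl⟩ := (ConcreteCategory.bijective_of_isIso j.isoOpensRange.hom.appTop).2 b
    obtain ⟨c, rfl⟩ := h1 b'
    exact ⟨c, rfl⟩
  letI := ((Scheme.ΓSpecIso (CommRingCat.of K)).inv ≫ (pullback.snd f g).appTop).hom.toAlgebra
  letI := ((Scheme.ΓSpecIso (CommRingCat.of K)).inv ≫ (pullback.snd f₀ g).appTop).hom.toAlgebra
  let jₗ : Γ(pullback f g, ⊤) →ₐ[K] Γ(pullback f₀ g, ⊤) :=
    { j.appTop.hom with
      commutes' := fun k => by
        show (((Scheme.ΓSpecIso (CommRingCat.of K)).inv ≫ (pullback.snd f g).appTop) ≫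
          j.appTop).hom k = ((Scheme.ΓSpecIso (CommRingCat.of K)).inv ≫ (pullback.snd f₀ g).appTop).hom k
        rw [Category.assoc, ← Scheme.Hom.comp_appTop, hj] }
  have hdeg : ((deg f W (g v)).toNat : Cardinal.{u}) = Module.rank K (Γ(pullback f₀ g, ⊤) : Type u) := by
    rw [Wt.Degree.rank_eq_finrank (pullback.snd f₀ g) v, show deg f W (g v) = _ from hrk.symm, Int.toNat_natCast]
  refine ⟨le_trans ?_ (LinearMap.rank_le_of_surjective jₗ.toLinearMap hsurj), fun hsub ↦ ?_⟩
  · rw [← hdeg, Nat.cast_le]; omega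
  · have hsj : Function.Surjective j := fun p ↦ by
      have hp : p ∈ Set.range j := by
        rw [Scheme.Pullback.range_map]
        refine ⟨?_, ?_⟩
        · rw [Set.mem_preimage, Scheme.Opens.range_ι]
          refine hsub ?_
          change f (pullback.fst f g p) = g v
          rw [← Scheme.Hom.comp_apply, pullback.condition, Scheme.Hom.comp_apply, Subsingleton.elim (pullback.snd f g p) v]
        · exact ⟨pullback.snd f g p, rfl⟩
      exact hp
    have : IsIso j := by
      have : Epi j.base := (TopCat.epi_iff_surjective _).mpr hsj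
      exact IsOpenImmersion.isIso j
    have : IsIso j.appTop := inferInstanceAs (IsIso (Scheme.Γ.map j.op))
    rw [hdeg]
    exact LinearEquiv.rank_eq (LinearEquiv.ofBijective jₗ.toLinearMap (ConcreteCategory.bijective_of_isIso j.appTop))

theorem exists_compact_nhd (A : Finset X) : ∃ W : X.Opens, IsCompact (W : Set X) ∧ ∀ a ∈ A, a ∈ W := by
  classical
  induction A using Finset.induction_on with
  | empty => exact ⟨⊥, isCompact_empty, fun a ha ↦ absurd ha (Finset.notMem_empty a)⟩
  | @insert a A _ ih =>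
    obtain ⟨W, hW, hWA⟩ := ih
    obtain ⟨_, ⟨V, hV, rfl⟩, haV, -⟩ := X.isBasis_affineOpens.exists_subset_of_mem_open (Set.mem_univ a) isOpen_univ
    refine ⟨V ⊔ W, hV.isCompact.union hW, fun b hb ↦ ?_⟩
    rcases Finset.mem_insert.mp hb with rfl | hb
    · exact Or.inl haV
    · exact Or.inr (hWA b hb)

open AlgebraicGeometry CategoryTheory Limits in
theorem result {X S : Scheme.{u}} (f : X ⟶ S) [Flat f] [LocallyOfFinitePresentation f] [IsSeparated f] [LocallyQuasiFinite f] :
    ∃ U : ℕ → S.Opens, Antitone U ∧ U 0 = ⊤ ∧ ∀ (K : Type u) [Field K] (g : Spec (CommRingCat.of K) ⟶ S) (d : ℕ),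
      Set.range ⇑g ⊆ (U d : Set ↑S) ↔ (d : Cardinal.{u}) ≤ (letI := ((Scheme.ΓSpecIso (CommRingCat.of K)).inv ≫ (pullback.snd f g).appTop).hom.toAlgebra
        Module.rank K (Γ(pullback f g, ⊤) : Type u)) := by
  classical
  let U : ℕ → S.Opens := fun d ↦ ⟨{s | ∃ W : X.Opens, IsCompact (W : Set X) ∧ (d : ℤ) ≤ deg f W s}, by
    rw [show {s | ∃ W : X.Opens, IsCompact (W : Set X) ∧ (d : ℤ) ≤ deg f W s} =
      ⋃ W : {W : X.Opens // IsCompact (W : Set X)}, {s | (d : ℤ) ≤ deg f W.1 s} by ext s; simp]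
    exact isOpen_iUnion fun W ↦ isOpen_deg_ge f W.1 W.2 _⟩
  refine ⟨U, fun d e hde s ⟨W, hW, h⟩ ↦ ⟨W, hW, le_trans (by exact_mod_cast hde) h⟩,
    TopologicalSpace.Opens.ext (Set.eq_univ_of_forall fun s ↦
      ⟨⊥, isCompact_empty, by simpa using card_le_deg f ⊥ isCompact_empty s ∅ (by simp)⟩),
    fun K _ g d ↦ ?_⟩
  let v : Spec (CommRingCat.of K) := IsLocalRing.closedPoint K
  refine ⟨fun h ↦ ?_, fun hd ↦ ?_⟩
  · obtain ⟨W, hW, hWd⟩ := h ⟨v, rfl⟩
    exact (deg_le_rank f W hW g v d hWd).1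
  rintro _ ⟨w, rfl⟩
  rw [Subsingleton.elim w v]
  by_cases hfin : (f ⁻¹' {g v}).Finite
  · obtain ⟨W, hW, hsub⟩ := exists_compact_nhd hfin.toFinset
    have h0 : ((0 : ℕ) : ℤ) ≤ deg f W (g v) := by simpa using card_le_deg f W hW (g v) ∅ (by simp)
    have := (deg_le_rank f W hW g v 0 h0).2 fun x hx ↦ hsub x (hfin.mem_toFinset.mpr hx)
    rw [this, Nat.cast_le] at hd
    exact ⟨W, hW, by omega⟩
  · obtain ⟨A, hA, hcard⟩ := Set.Infinite.exists_subset_card_eq hfin d
    obtain ⟨W, hW, hsub⟩ := exists_compact_nhd A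
    exact ⟨W, hW, hcard ▸ card_le_deg f W hW (g v) A fun a ha ↦ ⟨hA ha, hsub a ha⟩⟩

end Groth.Agent.S1449
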