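import Groth.Statements.S14491

-- import your own Groth.Agent.* helpers here

set_option autoImplicit false
universe w v u
open DerTri

namespace Groth.Agent.S14491

open CategoryTheory CategoryTheory.Limits Pretriangulated

open CategoryTheory Pretriangulated in
/-- In the derived category D(C) of an abelian category C, let E ⟶ F ⟶ G be two morphisms with E
concentrated in non-positive degrees and G concentrated in non-negative degrees for the canonical
t-structure. If two morphisms G ⟶ E⟦1⟧ both complete E ⟶ F ⟶ G to a distinguished triangle, then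
they are equal. (The published statement is phrased with the morphism G⟦-1⟧ ⟶ E of the triangle
G⟦-1⟧ ⟶ E ⟶ F ⟶ G; this row uses the equivalent connecting morphism G ⟶ E⟦1⟧ of the rotated
triangle.) -/
theorem result {C : Type u} [Category.{v} C] [Abelian C]
    [HasDerivedCategory.{w} C] {E F G : DerivedCategory C} (u : E ⟶ F) (v : F ⟶ G)
    [E.IsLE 0] [G.IsGE 0] (w w' : G ⟶ E⟦(1 : ℤ)⟧)
    (hw : Triangle.mk u v w ∈ distTriang (DerivedCategory C))
    (hw' : Triangle.mk u v w' ∈ distTriang (DerivedCategory C)) :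
    w = w' := by
  obtain ⟨(h : G ⟶ G), (h1 : v ≫ h = 𝟙 F ≫ v), (h2 : w ≫ (shiftFunctor (DerivedCategory C) (1 : ℤ)).map (𝟙 E) = h ≫ w')⟩ := complete_distinguished_triangle_morphism (Triangle.mk u v w) (Triangle.mk u v w') hw hw'
    (𝟙 E) (𝟙 F) (by exact (Category.comp_id u).trans (Category.id_comp u).symm)
  obtain ⟨(k : (shiftFunctor (DerivedCategory C) (1 : ℤ)).obj E ⟶ G), (hk : h - 𝟙 G = w ≫ k)⟩ := Triangle.yoneda_exact₃ _ hw (h - 𝟙 G) (by
    change v ≫ (h - 𝟙 G) = 0
    rw [Preadditive.comp_sub, h1, Category.comp_id, Category.id_comp]; exact sub_self v)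
  have hk0 : k = 0 :=
    haveI : (E⟦(1 : ℤ)⟧).IsLE (-1) := DerivedCategory.TStructure.t.isLE_shift E 0 1 (-1) (by lia)
    DerivedCategory.TStructure.t.zero k (-1) 0 (by lia)
  rw [hk0, comp_zero, sub_eq_zero] at hk
  rw [hk, Category.id_comp, CategoryTheory.Functor.map_id, Category.comp_id] at h2
  exact h2

end Groth.Agent.S14491
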