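import Groth.Statements.S14494
import Groth.Agent.IndCofLib.Div

set_option autoImplicit false
universe v
open IndCof

namespace Groth.Agent.S14494

open CategoryTheory CategoryTheory.Limits in
/-- Let C be a small abelian category all of whose objects are Artinian and killed by some power of a
prime p, and let A be an ind-object of C of cofinite type (every A[p^n] is isomorphic to an object
of C). Then the decreasing sequence of sub-objects ⋯ ⊆ p²A ⊆ pA ⊆ A stabilizes: the image of
multiplication by p^n on A is the same sub-object for all large n. -/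
theorem result {C : Type v} [SmallCategory C] [Abelian C]
    (hart : ∀ X : C, IsArtinianObject X) (p : ℕ) (hp : p.Prime)
    (htor : ∀ X : C, ∃ n : ℕ, (p ^ n) • 𝟙 X = 0)
    (A : Ind C) (hA : ∀ n : ℕ, (Ind.yoneda (C := C)).essImage (kernel ((p ^ n) • 𝟙 A))) :
    ∃ N : ℕ, ∀ n : ℕ, N ≤ n →
      imageSubobject ((p ^ n) • 𝟙 A) = imageSubobject ((p ^ N) • 𝟙 A) := by
  have htor' : ∀ X : C, ∃ m : ℕ, 0 < m ∧ m • 𝟙 X = 0 := fun X =>
    ⟨p ^ (htor X).choose, pow_pos hp.pos _, (htor X).choose_spec⟩
  obtain ⟨N, hN⟩ :=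
    IndCofLib.exists_stabAt htor' (fun k => IndCofLib.Tor.ofEssImage (hA k)) hart hp.pos
  exact ⟨N, fun n hn => IndCofLib.StabAt.imageSubobject_eq hN hn⟩

end Groth.Agent.S14494
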