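import Groth.Statements.S14496
import Groth.Agent.IndCofLib.Div

set_option autoImplicit false
universe v
open IndCof

namespace Groth.Agent.S14496

open CategoryTheory CategoryTheory.Limits in
/-- Let C be a small abelian category all of whose objects are Artinian and killed by some power of a
prime p, and A an ind-object of C of cofinite type. Let N be such that p^n A = p^N A for all n ≥ N,
so that the divisible part A_div = ⋂ p^n A equals p^N A. Then A_div is of cofinite type and
divisible (multiplication by p on it is an epimorphism; integers prime to p act invertibly on every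
ind-object here, so this is divisibility by all positive integers); it is the largest divisible
sub-object of A; and A / A_div is the largest quotient of A lying in C: every epimorphism from A
onto an object isomorphic to an object of C vanishes on A_div. (The row takes the stabilization
index N as a hypothesis instead of forming the intersection; that A / A_div itself lies in C is the
statement about A / p^N A and is not repeated here.) -/
theorem result {C : Type v} [SmallCategory C] [Abelian C]
    (hart : ∀ X : C, IsArtinianObject X) (p : ℕ) (hp : p.Prime)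
    (htor : ∀ X : C, ∃ n : ℕ, (p ^ n) • 𝟙 X = 0)
    (A : Ind C) (hA : ∀ n : ℕ, (Ind.yoneda (C := C)).essImage (kernel ((p ^ n) • 𝟙 A))) (N : ℕ)
    (hN : ∀ n : ℕ, N ≤ n → imageSubobject ((p ^ n) • 𝟙 A) = imageSubobject ((p ^ N) • 𝟙 A)) :
    (∀ n : ℕ, (Ind.yoneda (C := C)).essImage
        (kernel ((p ^ n) • 𝟙 ((imageSubobject ((p ^ N) • 𝟙 A) : Subobject A) : Ind C)))) ∧
      Epi (p • 𝟙 ((imageSubobject ((p ^ N) • 𝟙 A) : Subobject A) : Ind C)) ∧
      (∀ D : Subobject A, Epi (p • 𝟙 (D : Ind C)) → D ≤ imageSubobject ((p ^ N) • 𝟙 A)) ∧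
      (∀ (Q : Ind C) (q : A ⟶ Q), Epi q → (Ind.yoneda (C := C)).essImage Q →
        (imageSubobject ((p ^ N) • 𝟙 A)).arrow ≫ q = 0) := by
  have htor' : ∀ X : C, ∃ m : ℕ, 0 < m ∧ m • 𝟙 X = 0 := fun X =>
    ⟨p ^ (htor X).choose, pow_pos hp.pos _, (htor X).choose_spec⟩
  let T := fun k => IndCofLib.Tor.ofEssImage (hA k)
  obtain ⟨N₀, hN₀⟩ := IndCofLib.exists_stabAt htor' T hart hp.pos
  have hst : IndCofLib.StabAt A p N := fun {X} x => by
    obtain ⟨X', q, hq, l, hl⟩ :=
      IndCofLib.exists_of_imageSubobject_le (hN (N + 1) (Nat.le_succ N)).ge x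
    refine ⟨X', q, hq, l, ?_⟩
    rw [IndCofLib.nsmul_eq, IndCofLib.nsmul_eq, Preadditive.comp_nsmul] at hl
    exact hl.symm
  refine ⟨fun n => ?_, hst.epi_image dvd_rfl, fun D hD => ?_, fun Q q hq hQ => ?_⟩
  · have h := IndCofLib.essImage_cokernel T hN₀ N
    let π : A ⟶ IndCofLib.Y.obj h.witness := cokernel.π ((p ^ N) • 𝟙 A) ≫ h.getIso.inv
    refine IndCofLib.essImage_kernel_of_mono
      (imageSubobject ((p ^ N) • 𝟙 A)).arrow (T n) π ?_ fun X x hx => ?_
    · simp only [π, ← Category.assoc]
      rw [imageSubobject_arrow_comp_eq_zero (cokernel.condition _), zero_comp]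
    · obtain ⟨X', r, hr, l, hl⟩ := IndCofLib.exists_of_comp_cokernel ((p ^ N) • 𝟙 A) x (by
        rw [← cancel_mono h.getIso.inv, zero_comp, Category.assoc]; exact hx)
      refine IndCofLib.exists_factor_of_comp_cokernel x
        (IndCofLib.comp_cokernel_eq_zero _ x r
          (l ≫ factorThruImageSubobject ((p ^ N) • 𝟙 A)) ?_)
      rw [Category.assoc, imageSubobject_arrow_comp, hl]
  · have hk : ∀ k, Epi ((p ^ k) • 𝟙 (D : Ind C)) := fun k => by
      induction k with
      | zero => rw [pow_zero, one_smul]; infer_instance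
      | succ k ih =>
        have e : (p ^ (k + 1)) • 𝟙 (D : Ind C) = ((p ^ k) • 𝟙 (D : Ind C)) ≫ (p • 𝟙 _) := by
          rw [IndCofLib.comp_nsmul_id, ← mul_smul, pow_succ']
        rw [e]
        exact epi_comp _ _
    exact IndCofLib.le_of_divisible _ IndCofLib.nsmul_cokernel_imageSubobject D (hk N)
  · obtain ⟨a, ha⟩ := htor hQ.witness
    have hQ0 : (p ^ a) • 𝟙 Q = 0 := by
      rw [← cancel_epi hQ.getIso.hom, comp_zero, IndCofLib.comp_nsmul_id]
      rw [← IndCofLib.nsmul_id_comp, ← (Ind.yoneda (C := C)).map_id, ← Functor.map_nsmul, ha,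
        Functor.map_zero, zero_comp]
    rw [← hN (N + a) (Nat.le_add_right N a)]
    refine imageSubobject_arrow_comp_eq_zero ?_
    rw [IndCofLib.nsmul_id_comp, ← IndCofLib.comp_nsmul_id, pow_add, mul_smul, hQ0, smul_zero,
      comp_zero]

end Groth.Agent.S14496
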