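import Groth.Statements.S14498
import Mathlib
-- import your own Groth.Agent.* helpers here

set_option autoImplicit false
universe v u
open AbDiag

namespace Groth.Agent.S14498

open CategoryTheory

open CategoryTheory CategoryTheory.Limits in
/-- In an abelian category, let 0 → F → W → E' → 0 (maps a, b) and 0 → E → W → F' → G → G' → 0 (maps c,
d, e, g) be exact sequences such that the composite F → W → F' is a monomorphism. Then the composite
E → W → E' is a monomorphism, and there is a short exact sequence 0 → Coker(E → E') → Coker(F → F')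
→ Ker(G → G') → 0 whose first map is induced by d (through the quotient map b) and whose second map
is induced by e. -/
theorem result
    {V : Type u} [Category.{v} V] [Abelian V] {F W E' E F' G G' : V}
    (a : F ⟶ W) (b : W ⟶ E') (c : E ⟶ W) (d : W ⟶ F') (e : F' ⟶ G) (g : G ⟶ G')
    [Mono a] [Epi b] (wab : a ≫ b = 0) (hab : (ShortComplex.mk a b wab).Exact)
    [Mono c] (wcd : c ≫ d = 0) (hcd : (ShortComplex.mk c d wcd).Exact)
    (wde : d ≫ e = 0) (hde : (ShortComplex.mk d e wde).Exact)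
    (weg : e ≫ g = 0) (heg : (ShortComplex.mk e g weg).Exact) [Epi g]
    (hmono : Mono (a ≫ d)) :
    Mono (c ≫ b) ∧
      ∃ (φ : cokernel (c ≫ b) ⟶ cokernel (a ≫ d)) (ψ : cokernel (a ≫ d) ⟶ kernel g)
        (w : φ ≫ ψ = 0),
        b ≫ cokernel.π (c ≫ b) ≫ φ = d ≫ cokernel.π (a ≫ d) ∧
        cokernel.π (a ≫ d) ≫ ψ ≫ kernel.ι g = e ∧
        (ShortComplex.mk φ ψ w).ShortExact := by
  refine ⟨?_, ?_⟩
  · rw [Preadditive.mono_iff_cancel_zero]
    intro Z z hz
    rw [← Category.assoc] at hz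
    have : Mono (ShortComplex.mk a b wab).f := ‹Mono a›
    obtain ⟨l, hl⟩ := hab.lift' (z ≫ c) hz
    have h1 : l ≫ a ≫ d = 0 := by
      have := congrArg (· ≫ d) hl
      simpa [wcd] using this
    have h2 : l = 0 := by rwa [← cancel_mono (a ≫ d), zero_comp]
    rw [← cancel_mono c, zero_comp, ← hl, h2]; simp
  let S₁ := ShortComplex.mk a b wab
  have : Epi S₁.g := ‹Epi b›
  let φ₀ : E' ⟶ cokernel (a ≫ d) := hab.desc (d ≫ cokernel.π (a ≫ d)) (by simp [S₁, ← Category.assoc])
  have hφ₀ : b ≫ φ₀ = d ≫ cokernel.π (a ≫ d) := hab.g_desc _ _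
  let φ : cokernel (c ≫ b) ⟶ cokernel (a ≫ d) := cokernel.desc _ φ₀ (by
    rw [Category.assoc, hφ₀, reassoc_of% wcd, zero_comp])
  let ψ : cokernel (a ≫ d) ⟶ kernel g := cokernel.desc _ (kernel.lift g e weg) (by
    rw [← cancel_mono (kernel.ι g)]; simp [wde])
  have hbφ : b ≫ cokernel.π (c ≫ b) ≫ φ = d ≫ cokernel.π (a ≫ d) := by simp [φ, hφ₀]
  have hψ : cokernel.π (a ≫ d) ≫ ψ ≫ kernel.ι g = e := by simp [ψ]
  have w : φ ≫ ψ = 0 := by
    rw [← cancel_epi (cokernel.π (c ≫ b)), ← cancel_epi b, reassoc_of% hbφ, ← cancel_mono (kernel.ι g)]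
    simp [hψ, wde]
  refine ⟨φ, ψ, w, hbφ, hψ, ?_⟩
  have : Epi (b ≫ cokernel.π (c ≫ b)) := epi_comp _ _
  have hmonoφ : Mono φ := by
    rw [Preadditive.mono_iff_cancel_zero]
    intro Z x hx
    obtain ⟨A₁, π₁, _, x₁, hx₁⟩ := surjective_up_to_refinements_of_epi (b ≫ cokernel.π (c ≫ b)) x
    have h0 : (x₁ ≫ d) ≫ cokernel.π (a ≫ d) = 0 := by
      rw [Category.assoc, ← hbφ]
      have := congrArg (· ≫ φ) hx₁
      simp only [Category.assoc, hx, comp_zero] at this
      exact this.symm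
    obtain ⟨A₂, π₂, _, f₂, hf₂⟩ := (ShortComplex.exact_of_g_is_cokernel
      (ShortComplex.mk (a ≫ d) (cokernel.π (a ≫ d)) (cokernel.condition _))
      (cokernelIsCokernel _)).exact_up_to_refinements _ h0
    obtain ⟨A₃, π₃, _, f₃, hf₃⟩ := hcd.exact_up_to_refinements (π₂ ≫ x₁ - f₂ ≫ a) (by
      simp only [Preadditive.sub_comp, Category.assoc, sub_eq_zero]
      exact hf₂)
    rw [← cancel_epi π₁, comp_zero, hx₁, ← cancel_epi π₂, comp_zero, ← cancel_epi π₃, comp_zero]
    have h3 := congrArg (· ≫ b ≫ cokernel.π (c ≫ b)) hf₃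
    simp only [Preadditive.sub_comp, Preadditive.comp_sub, Category.assoc] at h3
    rw [reassoc_of% wab, zero_comp, comp_zero, comp_zero, sub_zero] at h3
    rw [h3]
    have := cokernel.condition (c ≫ b)
    rw [Category.assoc] at this
    simp [this]
  have : Epi (kernel.lift g e weg) := heg.epi_kernelLift
  have : Epi (cokernel.π (a ≫ d) ≫ ψ) := by simp only [ψ, cokernel.π_desc]; infer_instance
  have hepiψ : Epi ψ := epi_of_epi (cokernel.π (a ≫ d)) ψ
  refine { exact := ?_, mono_f := hmonoφ, epi_g := hepiψ }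
  rw [ShortComplex.exact_iff_exact_up_to_refinements]
  intro Z y hy
  obtain ⟨A₁, π₁, _, z, hz⟩ := surjective_up_to_refinements_of_epi (cokernel.π (a ≫ d)) y
  have h0 : z ≫ e = 0 := by
    rw [← hψ, ← Category.assoc, ← hz]
    simp only at hy
    simp [reassoc_of% hy]
  obtain ⟨A₂, π₂, _, x, hx⟩ := hde.exact_up_to_refinements z h0
  refine ⟨A₂, π₂ ≫ π₁, epi_comp _ _, x ≫ b ≫ cokernel.π (c ≫ b), ?_⟩
  simp only at hx ⊢
  rw [Category.assoc, hz, reassoc_of% hx]
  simp [hbφ]


end Groth.Agent.S14498
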