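import Groth.Statements.S14502
import Groth.Agent.LenLib.Lattice
-- import your own Groth.Agent.* helpers here

set_option autoImplicit false
universe u
open IntTh

namespace Groth.Agent.S14502

/-- Let A be a Noetherian local domain of Krull dimension one with fraction field K, V a
finite-dimensional K-vector space, M a lattice in V (a finitely generated A-submodule spanning V
over K) and φ a K-linear automorphism of V. Then φ(M) is a lattice, the A-modules M/(M ∩ φ(M)) and
φ(M)/(M ∩ φ(M)) have finite length, and the distance length_A(M/(M ∩ φ(M))) − length_A(φ(M)/(M ∩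
φ(M))) equals the order of det φ at the closed point, i.e. length_A(A/(a)) − length_A(A/(b)) for det
φ = a/b. -/
theorem result (A : Type u) [CommRing A] [IsDomain A] [IsNoetherianRing A]
    [IsLocalRing A] (hA : ringKrullDim A = 1) (K : Type u) [Field K] [Algebra A K]
    [IsFractionRing A K] (V : Type u) [AddCommGroup V] [Module K V] [Module A V]
    [IsScalarTower A K V] [FiniteDimensional K V]
    (M : Submodule A V) [Submodule.IsLattice K M] (φ : V ≃ₗ[K] V) :
    Submodule.IsLattice K (M.map (φ.toLinearMap.restrictScalars A)) ∧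
      Module.length A (↥M ⧸ (M ⊓ M.map (φ.toLinearMap.restrictScalars A)).submoduleOf M) < ⊤ ∧
      Module.length A (↥(M.map (φ.toLinearMap.restrictScalars A)) ⧸
          (M ⊓ M.map (φ.toLinearMap.restrictScalars A)).submoduleOf
            (M.map (φ.toLinearMap.restrictScalars A))) < ⊤ ∧
      ((Module.length A (↥M ⧸ (M ⊓ M.map (φ.toLinearMap.restrictScalars A)).submoduleOf M)).toNat : ℤ) -
          ((Module.length A (↥(M.map (φ.toLinearMap.restrictScalars A)) ⧸
            (M ⊓ M.map (φ.toLinearMap.restrictScalars A)).submoduleOf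
              (M.map (φ.toLinearMap.restrictScalars A)))).toNat : ℤ) =
        CycAlg.ordFrac A K (LinearMap.det φ.toLinearMap) := by
  haveI : Ring.KrullDimLE 1 A := Ring.krullDimLE_iff.2 hA.le
  have hM : M.FG := Submodule.IsLattice.fg (A := K)
  have hMs : Submodule.span K (M : Set V) = ⊤ := Submodule.IsLattice.span_eq_top
  have hφM : (M.map (φ.toLinearMap.restrictScalars A)).FG := hM.map _
  have hφs : Submodule.span K ((M.map (φ.toLinearMap.restrictScalars A) : Submodule A V) : Set V) = ⊤ := by
    rw [Submodule.map_coe, LinearMap.coe_restrictScalars, ← Submodule.map_span, hMs,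
      Submodule.map_top, LinearEquiv.range]
  have hi : Submodule.span K ((M ⊓ M.map (φ.toLinearMap.restrictScalars A) : Submodule A V) : Set V) = ⊤ := by
    obtain ⟨a, ha, hle⟩ := Groth.Agent.LenLib.exists_smul_le (K := K) hM hφs
    have haK : algebraMap A K a ≠ 0 := IsFractionRing.to_map_ne_zero_of_mem_nonZeroDivisors
      (mem_nonZeroDivisors_iff_ne_zero.2 ha)
    rw [eq_top_iff, ← hMs, Submodule.span_le]
    intro x hx
    have h := Submodule.smul_mem (Submodule.span K
      ((M ⊓ M.map (φ.toLinearMap.restrictScalars A) : Submodule A V) : Set V)) (algebraMap A K a)⁻¹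
      (Submodule.subset_span (show a • x ∈ M ⊓ M.map (φ.toLinearMap.restrictScalars A) from
        ⟨M.smul_mem a hx, hle x hx⟩))
    rwa [← algebraMap_smul K a x, smul_smul, inv_mul_cancel₀ haK, one_smul] at h
  exact ⟨⟨hφM, hφs⟩,
    (Groth.Agent.LenLib.length_quot_ne_top hM hi).lt_top,
    (Groth.Agent.LenLib.length_quot_ne_top hφM hi).lt_top,
    Groth.Agent.LenLib.latDist_map K hM hMs φ⟩

end Groth.Agent.S14502
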