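import Groth.Statements.S14504
import Mathlib

set_option autoImplicit false
universe u
open IntTh

namespace Groth.Agent.S14504

/-- Let K be a field, d ≤ n, λ = (λ₁ ≥ ⋯ ≥ λ_d) a non-increasing sequence of natural numbers, d_i = n −
d + i − λ_i, and V_j ⊆ K^n the span of the first j standard basis vectors. For a d × n matrix A over
K with linearly independent rows spanning the subspace W: one has dim(W ∩ V_{d_i}) ≥ i for every i =
1, …, d if and only if every d × d minor of A taken on strictly increasing columns j₁ < ⋯ < j_d
(1-indexed) with j_i > d_i for some i vanishes. (Indices are 0-based in the formal statement: row i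
: Fin d stands for i + 1 and column l : Fin n for l + 1.) -/
theorem result (K : Type u) [Field K] (n d : ℕ)
    (hdn : d ≤ n) (V : ℕ → Submodule K (Fin n → K))
    (hV : ∀ (j : ℕ) (v : Fin n → K), v ∈ V j ↔ ∀ l : Fin n, j ≤ (l : ℕ) → v l = 0)
    (lam : Fin d → ℕ) (hlam : Antitone lam) (A : Matrix (Fin d) (Fin n) K)
    (hA : LinearIndependent K (fun i : Fin d => A i)) :
    (∀ i : Fin d, (i : ℕ) + 1 ≤
        Module.finrank K ↥(Submodule.span K (Set.range fun i : Fin d => A i) ⊓
          V (n - d + ((i : ℕ) + 1) - lam i))) ↔
      ∀ J : Fin d → Fin n, StrictMono J →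
        (∃ i : Fin d, n - d + ((i : ℕ) + 1) - lam i < (J i : ℕ) + 1) →
          (A.submatrix id J).det = 0 := by
  classical
  let W := Submodule.span K (Set.range fun i : Fin d => A i)
  show (∀ i : Fin d, (i : ℕ) + 1 ≤ Module.finrank K ↥(W ⊓ V (n - d + ((i : ℕ) + 1) - lam i))) ↔ _
  let L : (Fin d → K) →ₗ[K] (Fin n → K) := Fintype.linearCombination K (fun i : Fin d => A i)
  have hLinj : Function.Injective L :=
    (linearIndependent_iff_injective_fintypeLinearCombination).1 hA
  have hLr : LinearMap.range L = W := Fintype.range_linearCombination _ _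
  have hLap : ∀ y l, L y l = ∑ i, y i * A i l := fun y l => by
    simp [L, Fintype.linearCombination_apply]

  refine ⟨fun h J hJ => ?_, fun h i => ?_⟩
  · rintro ⟨i, hi⟩
    let c := n - d + ((i : ℕ) + 1) - lam i
    let S : Submodule K (Fin d → K) := (W ⊓ V c).comap L
    have hS : (i : ℕ) + 1 ≤ Module.finrank K S := by
      have hmap : S.map L = W ⊓ V c := Submodule.map_comap_eq_of_le (hLr ▸ inf_le_left)
      rw [(Submodule.equivMapOfInjective L hLinj S).finrank_eq, hmap]
      exact h i
    let φ : S →ₗ[K] (Fin i → K) :=
      { toFun := fun y m => L y.1 (J (Fin.castLE i.2.le m))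
        map_add' := fun a b => funext fun m => by simp
        map_smul' := fun a b => funext fun m => by simp }
    have hker : LinearMap.ker φ ≠ ⊥ := by
      intro hb
      have := LinearMap.finrank_le_finrank_of_injective (LinearMap.ker_eq_bot.1 hb)
      rw [Module.finrank_fintype_fun_eq_card, Fintype.card_fin] at this
      omega
    obtain ⟨y, hy, hy0⟩ := Submodule.exists_mem_ne_zero_of_ne_bot hker
    refine Matrix.exists_vecMul_eq_zero_iff.1 ⟨y.1, fun e => hy0 (Subtype.ext e), funext fun m => ?_⟩
    show ∑ r, y.1 r * A r (J m) = 0
    rw [← hLap]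
    by_cases hm : m < i
    · exact congrFun (hy : φ y = 0) ⟨m, hm⟩
    · refine (hV c _).1 y.2.2 _ ?_
      have : (J i : ℕ) ≤ (J m : ℕ) := hJ.monotone (not_lt.1 hm)
      show c ≤ (J m : ℕ)
      simp only [c] at hi ⊢
      omega
  · let c := n - d + ((i : ℕ) + 1) - lam i
    show (i : ℕ) + 1 ≤ Module.finrank K ↥(W ⊓ V c)
    by_contra hlt
    let col : Fin n → (Fin d → K) := fun l r => A r l
    let T : Set (Fin n) := {l | c ≤ (l : ℕ)}
    -- the column space beyond c
    let C := Submodule.span K (col '' T)
    let π : (Fin d → K) →ₗ[K] Module.Dual K (Fin d → K) :=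
      { toFun := fun y => Fintype.linearCombination K y
        map_add' := fun a b => by
          ext x; simp [Fintype.linearCombination_apply, mul_add, Finset.sum_add_distrib]
        map_smul' := fun a b => by
          refine LinearMap.ext fun x => ?_
          simp only [Fintype.linearCombination_apply, LinearMap.smul_apply, RingHom.id_apply, smul_eq_mul,
            Finset.mul_sum, Pi.smul_apply]
          exact Finset.sum_congr rfl fun _ _ => by ring }
    have hπ : ∀ y l, π y (col l) = L y l := fun y l => by
      simp only [π, LinearMap.coe_mk, AddHom.coe_mk, Fintype.linearCombination_apply, col, smul_eq_mul, hLap]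
      exact Finset.sum_congr rfl fun r _ => mul_comm _ _
    have hπinj : Function.Injective π := fun a b e => funext fun r => by
      simpa [π, Fintype.linearCombination_apply, Pi.single_apply] using
        congrArg (fun f : Module.Dual K (Fin d → K) => f (Pi.single r 1)) e
    -- annihilator of C is W ⊓ V c
    have hann : C.dualAnnihilator.comap π = (W ⊓ V c).comap L := by
      ext y
      rw [Submodule.mem_comap, Submodule.mem_comap, Submodule.mem_dualAnnihilator, Submodule.mem_inf]
      constructor
      · intro hy
        refine ⟨hLr ▸ LinearMap.mem_range_self L y, (hV c _).2 fun l hl => ?_⟩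
        rw [← hπ]
        exact hy _ (Submodule.subset_span ⟨l, hl, rfl⟩)
      · intro hy x hx
        induction hx using Submodule.span_induction with
        | mem x hx => obtain ⟨l, hl, rfl⟩ := hx; rw [hπ]; exact (hV c _).1 hy.2 l hl
        | zero => simp
        | add a b _ _ ha hb => rw [map_add, ha, hb, add_zero]
        | smul t a _ ha => rw [map_smul, ha, smul_zero]
    have hπsurj : Function.Surjective π :=
      (LinearMap.injective_iff_surjective_of_finrank_eq_finrank (Subspace.dual_finrank_eq).symm).1 hπinj
    have hdimC : Module.finrank K C + Module.finrank K ↥(W ⊓ V c) = d := by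
      have h1 := Subspace.finrank_add_finrank_dualAnnihilator_eq C
      have h2 : Module.finrank K (C.dualAnnihilator.comap π) = Module.finrank K C.dualAnnihilator :=
        ((Submodule.equivMapOfInjective π hπinj _).finrank_eq).trans
          (by rw [Submodule.map_comap_eq_of_surjective hπsurj])
      have h3 : Module.finrank K ((W ⊓ V c).comap L) = Module.finrank K ↥(W ⊓ V c) := by
        rw [(Submodule.equivMapOfInjective L hLinj _).finrank_eq,
          Submodule.map_comap_eq_of_le (hLr ▸ inf_le_left)]
      rw [← h3, ← hann, h2, h1, Module.finrank_fintype_fun_eq_card, Fintype.card_fin]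
    have htop : Submodule.span K (col '' Set.univ) = ⊤ := by
      have hbot : (Submodule.span K (col '' Set.univ)).dualAnnihilator = ⊥ := by
        rw [Submodule.eq_bot_iff]
        intro f hf
        obtain ⟨y, rfl⟩ := hπsurj f
        have : y = 0 := hLinj (funext fun l => by
          rw [map_zero, ← hπ]
          exact (Submodule.mem_dualAnnihilator _).1 hf _ (Submodule.subset_span ⟨l, trivial, rfl⟩))
        rw [this, map_zero]
      refine Submodule.eq_top_of_finrank_eq ?_
      have h1 := Subspace.finrank_add_finrank_dualAnnihilator_eq (Submodule.span K (col '' Set.univ))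
      rwa [hbot, finrank_bot, add_zero] at h1
    -- an independent set of columns inside, extended
    obtain ⟨S, hST, hSspan, hSind⟩ := exists_linearIndepOn_extension (linearIndepOn_empty K col) (Set.empty_subset T) |>.imp
      fun S hS => (⟨hS.1, hS.2.2.1, hS.2.2.2⟩ : S ⊆ T ∧ col '' T ⊆ Submodule.span K (col '' S) ∧ LinearIndepOn K col S)
    obtain ⟨B', -, hSB, hBspan, hBind⟩ := exists_linearIndepOn_extension hSind (Set.subset_univ S)
    have hcardS : Module.finrank K C = S.ncard := by
      have : C = Submodule.span K (col '' S) :=
        le_antisymm (Submodule.span_le.2 hSspan) (Submodule.span_mono (Set.image_mono hST))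
      rw [this, Set.ncard_eq_toFinset_card', Set.toFinset_card]
      have hr := finrank_span_eq_card (R := K) hSind
      rw [Set.range_comp', Subtype.range_coe_subtype] at hr
      exact hr
    have hcardB : B'.ncard = d := by
      have : Submodule.span K (col '' B') = ⊤ := eq_top_iff.2 (htop ▸ Submodule.span_le.2 hBspan)
      rw [Set.ncard_eq_toFinset_card', Set.toFinset_card]
      have hr := finrank_span_eq_card (R := K) hBind
      rw [Set.range_comp', Subtype.range_coe_subtype] at hr
      rw [show {x | x ∈ B'} = B' from rfl, this, finrank_top, Module.finrank_fintype_fun_eq_card,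
        Fintype.card_fin] at hr
      exact hr.symm
    let F := B'.toFinset
    have hF : F.card = d := by rw [← hcardB, Set.ncard_eq_toFinset_card']
    let J : Fin d → Fin n := F.orderEmbOfFin hF
    have hJ : StrictMono J := (F.orderEmbOfFin hF).strictMono
    have hJc : c ≤ (J i : ℕ) := by
      by_contra hc
      have hsub : S.toFinset ⊆ (Finset.univ.filter fun m : Fin d => i < m).image J := by
        intro l hl
        have hlB : l ∈ Set.range J := by
          rw [Finset.range_orderEmbOfFin]
          exact Set.mem_toFinset.2 (hSB (Set.mem_toFinset.1 hl))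
        obtain ⟨m, rfl⟩ := hlB
        refine Finset.mem_image.2 ⟨m, Finset.mem_filter.2 ⟨Finset.mem_univ _, ?_⟩, rfl⟩
        by_contra hm
        have h2 : c ≤ (J m : ℕ) := hST (Set.mem_toFinset.1 hl)
        have h3 : (J m : ℕ) ≤ (J i : ℕ) := hJ.monotone (not_lt.1 hm)
        omega
      have := (Finset.card_le_card hsub).trans Finset.card_image_le
      rw [← Set.ncard_eq_toFinset_card', ← hcardS,
        show Finset.univ.filter (fun m : Fin d => i < m) = Finset.Ioi i by ext; simp, Fin.card_Ioi] at this
      have := i.2
      omega
    have hdet := h J hJ ⟨i, by simp only [c] at hJc; omega⟩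
    obtain ⟨y, hy0, hy⟩ := Matrix.exists_mulVec_eq_zero_iff.2 hdet
    have hind : LinearIndependent K (fun m : Fin d => col (J m)) :=
      hBind.linearIndependent.comp (fun m => (⟨J m, by
        have := Finset.orderEmbOfFin_mem F hF m
        exact Set.mem_toFinset.1 this⟩ : B')) fun a b e => hJ.injective (congrArg Subtype.val e :)
    refine hy0 (funext fun m => Fintype.linearIndependent_iff.1 hind y ?_ m)
    funext r
    rw [Finset.sum_apply]
    simpa [Matrix.mulVec, dotProduct, col, mul_comm] using congrFun hy r

end Groth.Agent.S14504
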