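import Groth.Statements.S14505
import Mathlib

set_option autoImplicit false
universe u
open IntTh

namespace Groth.Agent.S14505

section
open PowerSeries Finset

variable {R : Type u} [CommRing R]

lemma geom_mul (x : R) : PowerSeries.mk (fun m => (-x) ^ m) * (1 + C x * X) = 1 := by
  ext m
  rw [mul_add, mul_one, map_add, ← mul_assoc]
  rcases m with _ | m
  · simp
  · rw [coeff_succ_mul_X, coeff_mul_C, coeff_mk, coeff_mk, coeff_one, if_neg (Nat.succ_ne_zero m), pow_succ]
    ring

lemma deg_prod {ι : Type*} [DecidableEq ι] (s : Finset ι) (f : ι → R) :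
    ∀ m, s.card < m → coeff m (∏ l ∈ s, (1 + C (f l) * X : PowerSeries R)) = 0 := by
  induction s using Finset.induction_on with
  | empty => intro m hm; rw [Finset.prod_empty, coeff_one, if_neg (by simpa using hm.ne')]
  | insert a s ha ih =>
    intro m hm
    rw [Finset.card_insert_of_notMem ha] at hm
    obtain ⟨m, rfl⟩ := Nat.exists_eq_succ_of_ne_zero (by omega : m ≠ 0)
    rw [Finset.prod_insert ha, add_mul, one_mul, map_add, mul_assoc, coeff_C_mul, coeff_succ_X_mul,
      ih _ (by omega), ih _ (by omega), mul_zero, add_zero]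

lemma coeff_deg_mul_geom {e : ℕ} (β : Fin e → R) (x : R) :
    coeff e ((∏ j : Fin e, (1 + C (β j) * X)) * PowerSeries.mk (fun m => (-x) ^ m)) = ∏ j, (β j - x) := by
  induction e with
  | zero => simp
  | succ e ih =>
    rw [Fin.prod_univ_castSucc, Fin.prod_univ_castSucc]
    let b : PowerSeries R := ∏ j : Fin e, (1 + C (β j.castSucc) * X)
    let g : PowerSeries R := PowerSeries.mk (fun m => (-x) ^ m)
    have hg : g = 1 - C x * X * g := by
      rw [eq_sub_iff_add_eq]
      calc g + C x * X * g = g * (1 + C x * X) := by ring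
        _ = 1 := geom_mul x
    show coeff (e + 1) (b * (1 + C (β (Fin.last e)) * X) * g) = _
    have h1 : coeff (e + 1) (b * g) = - x * coeff e (b * g) := by
      conv_lhs => rw [hg]
      rw [mul_sub, mul_one, map_sub, deg_prod _ _ _ (by simp),
        show b * (C x * X * g) = X * (C x * (b * g)) by ring, coeff_succ_X_mul, coeff_C_mul]
      ring
    rw [show b * (1 + C (β (Fin.last e)) * X) * g = b * g + X * (C (β (Fin.last e)) * (b * g)) by ring,
      map_add, coeff_succ_X_mul, coeff_C_mul, h1, ih (fun j => β j.castSucc)]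
    ring

end

/-- Let R be a commutative ring, α₁, …, α_d, β₁, …, β_e ∈ R, b(t) = ∏ (1 + β_j t), and for k = 1, …, d
let P_k(t) = b(t)/∏_{i ≤ k} (1 + α_i t) ∈ R⟦t⟧, each factor 1 + α_i t being inverted by its
geometric series; write (P_k)_m for the coefficient of t^m, with (P_k)_m = 0 for m < 0. Then ∏_{i,j}
(β_j − α_i) = det((P_i)_{e+j−i})_{1 ≤ i,j ≤ d}, the d × d determinant whose i-th row is built from
the coefficients of the i-th partial quotient. (Rows and columns are 0-based in the formal
statement, which does not change j − i; the row of index i inverts the factors of index at most i.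
The companion form with every row built from the full quotient b/a is stated separately.) -/
theorem result (R : Type u) [CommRing R] (d e : ℕ)
    (α : Fin d → R) (β : Fin e → R) :
    ∏ i : Fin d, ∏ j : Fin e, (β j - α i) =
      (Matrix.of fun i j : Fin d =>
        if (i : ℕ) ≤ e + (j : ℕ) then
          PowerSeries.coeff (e + (j : ℕ) - (i : ℕ))
            ((∏ j : Fin e, (1 + PowerSeries.C (β j) * PowerSeries.X)) *
              ∏ l : Fin d, if l ≤ i then PowerSeries.mk (fun m => (-α l) ^ m) else 1)
        else 0).det := by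
  classical
  open PowerSeries Finset in
  let P : Fin d → PowerSeries R := fun i => (∏ j : Fin e, (1 + C (β j) * X)) *
      ∏ l : Fin d, if l ≤ i then PowerSeries.mk (fun m => (-α l) ^ m) else 1
  let Q : Fin d → PowerSeries R := fun j => ∏ l ∈ Finset.univ.filter (fun l : Fin d => l < j),
    (1 + PowerSeries.C (α l) * PowerSeries.X)
  let M : Matrix (Fin d) (Fin d) R := Matrix.of fun i j : Fin d =>
    if (i : ℕ) ≤ e + (j : ℕ) then PowerSeries.coeff (e + (j : ℕ) - (i : ℕ)) (P i) else 0
  show _ = M.det
  let U : Matrix (Fin d) (Fin d) R := Matrix.of fun m j : Fin d =>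
    if (m : ℕ) ≤ (j : ℕ) then PowerSeries.coeff ((j : ℕ) - (m : ℕ)) (Q j) else 0
  have hU : U.det = 1 := by
    rw [Matrix.det_of_upperTriangular]
    · refine Finset.prod_eq_one fun j _ => ?_
      simp [U, Q, map_prod]
    · intro m j hjm
      simp only [id_eq] at hjm
      simp only [U, Matrix.of_apply]
      rw [if_neg (not_le.2 (Fin.lt_def.1 hjm))]
  have hcard : ∀ j : Fin d, (Finset.univ.filter (fun l : Fin d => l < j)).card = j := fun j => by
    rw [show Finset.univ.filter (fun l : Fin d => l < j) = Finset.Iio j by ext; simp, Fin.card_Iio]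
  have hentry : ∀ i j : Fin d, (M * U) i j =
      if (i : ℕ) ≤ e + (j : ℕ) then PowerSeries.coeff (e + (j : ℕ) - (i : ℕ)) (P i * Q j) else 0 := by
    intro i j
    rw [Matrix.mul_apply]
    split_ifs with hij
    · let N := e + (j : ℕ) - (i : ℕ)
      let g : ℕ → R := fun q => if q ≤ N then PowerSeries.coeff (N - q) (P i) * PowerSeries.coeff q (Q j) else 0
      have h1 : PowerSeries.coeff N (P i * Q j) = ∑ q ∈ Finset.range ((j : ℕ) + 1), g q := by
        rw [mul_comm, PowerSeries.coeff_mul, Finset.Nat.sum_antidiagonal_eq_sum_range_succ_mk]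
        rw [← Finset.sum_subset (s₁ := (Finset.range (N + 1)).filter (· ≤ (j : ℕ))) (Finset.filter_subset _ _)]
        · have hs : (Finset.range (N + 1)).filter (· ≤ (j : ℕ)) =
              (Finset.range ((j : ℕ) + 1)).filter (· ≤ N) := by
            ext q; simp only [Finset.mem_filter, Finset.mem_range]; omega
          rw [hs, Finset.sum_filter]
          refine Finset.sum_congr rfl fun q _ => ?_
          simp only [g]
          split_ifs <;> ring
        · intro q hq hq'
          have : (j : ℕ) < q := not_le.1 fun h => hq' (Finset.mem_filter.2 ⟨hq, h⟩)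
          rw [deg_prod _ _ q (by rw [hcard]; exact this), zero_mul]
      show _ = PowerSeries.coeff N (P i * Q j)
      rw [h1, ← Finset.sum_range_reflect, Nat.add_sub_cancel,
        Fin.sum_univ_eq_sum_range (fun m => if hm : m < d then M i ⟨m, hm⟩ * U ⟨m, hm⟩ j else 0) d |>.symm.trans
          (Finset.sum_congr rfl fun m _ => dif_pos m.2) |>.symm]
      rw [← Finset.sum_subset (s₁ := Finset.range ((j : ℕ) + 1)) (Finset.range_subset_range.2 j.2)]
      · refine Finset.sum_congr rfl fun m hm => ?_
        have hmj : m ≤ (j : ℕ) := Nat.le_of_lt_succ (Finset.mem_range.1 hm)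
        rw [dif_pos (lt_of_le_of_lt hmj j.2)]
        simp only [M, U, g, Matrix.of_apply, if_pos hmj]
        by_cases him : (i : ℕ) ≤ e + m
        · rw [if_pos him, if_pos (by omega), show N - ((j : ℕ) - m) = e + m - (i : ℕ) by omega]
        · rw [if_neg him, if_neg (by omega), zero_mul]
      · intro m hm hm'
        simp only [Finset.mem_range, not_lt] at hm hm'
        rw [dif_pos hm]
        simp only [U, Matrix.of_apply]
        rw [if_neg (show ¬ m ≤ (j : ℕ) by omega), mul_zero]
    · refine Finset.sum_eq_zero fun m _ => ?_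
      simp only [M, U, Matrix.of_apply]
      by_cases hmj : (m : ℕ) ≤ j
      · rw [if_neg (by omega), zero_mul]
      · rw [if_neg hmj, mul_zero]
  rw [← mul_one M.det, ← hU, ← Matrix.det_mul, Matrix.det_of_lowerTriangular]
  · refine Finset.prod_congr rfl fun i _ => ?_
    rw [hentry, if_pos (Nat.le_add_left _ _), Nat.add_sub_cancel]
    have hsplit : (∏ l : Fin d, if l ≤ i then PowerSeries.mk (fun m => (-α l) ^ m) else 1) * Q i =
        PowerSeries.mk (fun m => (-α i) ^ m) := by
      rw [← Finset.prod_filter, show Finset.univ.filter (fun l : Fin d => l ≤ i) =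
        insert i (Finset.univ.filter (fun l : Fin d => l < i)) by ext; simp [le_iff_eq_or_lt],
        Finset.prod_insert (by simp), mul_assoc, ← Finset.prod_mul_distrib,
        Finset.prod_eq_one (fun l _ => geom_mul (α l)), mul_one]
    simp only [P]
    rw [mul_assoc, hsplit, coeff_deg_mul_geom]
  · intro i j hij
    have hij : i < j := hij
    rw [hentry, if_pos (by omega)]
    have hsplit : (∏ l : Fin d, if l ≤ i then PowerSeries.mk (fun m => (-α l) ^ m) else 1) * Q j =
        ∏ l ∈ Finset.univ.filter (fun l : Fin d => i < l ∧ l < j), (1 + PowerSeries.C (α l) * PowerSeries.X) := by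
      simp only [Q]
      rw [← Finset.prod_filter_mul_prod_filter_not (Finset.univ.filter (fun l : Fin d => l < j)) (fun l => l ≤ i),
        Finset.filter_filter, Finset.filter_filter, ← mul_assoc, ← Finset.prod_filter,
        show Finset.univ.filter (fun l : Fin d => l < j ∧ l ≤ i) = Finset.univ.filter (fun l : Fin d => l ≤ i) by
          ext l; simp only [Finset.mem_filter, Finset.mem_univ, true_and]; exact ⟨fun h => h.2, fun h => ⟨lt_of_le_of_lt h hij, h⟩⟩,
        ← Finset.prod_mul_distrib, Finset.prod_eq_one (fun l _ => geom_mul (α l)), one_mul]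
      exact Finset.prod_congr (by ext l; simp [not_le, and_comm]) fun _ _ => rfl
    simp only [P]
    rw [mul_assoc, hsplit]
    have hjoin : (∏ b : Fin e, (1 + PowerSeries.C (β b) * PowerSeries.X)) *
        ∏ l ∈ Finset.univ.filter (fun l : Fin d => i < l ∧ l < j), (1 + PowerSeries.C (α l) * PowerSeries.X) =
        ∏ o ∈ (Finset.univ : Finset (Fin e)).disjSum (Finset.univ.filter (fun l : Fin d => i < l ∧ l < j)),
          (1 + PowerSeries.C (Sum.elim β α o) * PowerSeries.X) := by
      rw [Finset.prod_disjSum]
      rfl
    rw [hjoin]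
    refine deg_prod _ _ _ ?_
    rw [Finset.card_disjSum, Finset.card_univ, Fintype.card_fin,
      show Finset.univ.filter (fun l : Fin d => i < l ∧ l < j) = Finset.Ioo i j by ext; simp, Fin.card_Ioo]
    have := Fin.lt_def.1 hij
    omega

end Groth.Agent.S14505
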