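import Groth.Statements.S14509
import Mathlib

set_option autoImplicit false
open IntTh

namespace Groth.Agent.S14509

open PowerSeries in
theorem riccati (f : PowerSeries ℚ) (hf : f * (exp ℚ - 1) = X * exp ℚ) :
    X * derivative ℚ f = f - f ^ 2 + X * f := by
  have h := congrArg (derivative ℚ) hf
  rw [Derivation.leibniz, Derivation.leibniz, map_sub, derivative_exp, derivative_one, derivative_X] at h
  simp only [smul_eq_mul, sub_zero, mul_one] at h
  have hE : exp ℚ - 1 ≠ 0 := fun e => by
    have := congrArg (coeff 1) e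
    simp at this
  refine mul_right_cancel₀ hE ?_
  linear_combination X * h + (f - 1 - X) * hf

open PowerSeries in
theorem step (f : PowerSeries ℚ) (hf : f * (exp ℚ - 1) = X * exp ℚ) (m : ℚ) (n : ℕ) :
    ((n : ℚ) + 1) * coeff (n + 1) (rescale m (exp ℚ) * f ^ (n + 2)) =
      (m + n + 1) * coeff n (rescale m (exp ℚ) * f ^ (n + 1)) := by
  have hE : derivative ℚ (rescale m (exp ℚ)) = C m * rescale m (exp ℚ) := by
    ext j
    rw [coeff_derivative, coeff_C_mul, coeff_rescale, coeff_rescale, coeff_exp, coeff_exp,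
      Nat.factorial_succ, pow_succ]
    simp only [Algebra.algebraMap_self, RingHom.id_apply, Nat.cast_mul, Nat.cast_add, Nat.cast_one]
    field_simp
  have h := congrArg (coeff (n + 1)) (show X * derivative ℚ (rescale m (exp ℚ) * f ^ (n + 1)) =
      C (m + n + 1) * (X * (rescale m (exp ℚ) * f ^ (n + 1))) +
      C ((n : ℚ) + 1) * (rescale m (exp ℚ) * f ^ (n + 1)) - C ((n : ℚ) + 1) * (rescale m (exp ℚ) * f ^ (n + 2)) by
    rw [Derivation.leibniz, derivative_pow, hE, smul_eq_mul, smul_eq_mul, Nat.add_sub_cancel,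
      map_add, map_add, map_add, map_natCast, map_one, Nat.cast_add, Nat.cast_one]
    linear_combination (rescale m (exp ℚ) * ((n : PowerSeries ℚ) + 1) * f ^ n) * riccati f hf)
  rw [map_sub, map_add, coeff_succ_X_mul, coeff_C_mul, coeff_C_mul, coeff_C_mul, coeff_succ_X_mul,
    coeff_derivative] at h
  linear_combination h

/-- Let f(t) ∈ ℚ⟦t⟧ be the Todd series, characterised by f(t)·(e^t − 1) = t·e^t, i.e. f(t) = t/(1 −
e^(−t)). Then for every m ∈ ℤ and n ∈ ℕ the coefficient of t^n in e^(mt)·f(t)^(n+1) is the binomial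
coefficient C(m+n, n), understood as the polynomial (m+n)(m+n−1)⋯(m+1)/n! in m (so for all integers
m). (The published statement is the Hirzebruch–Riemann–Roch formula χ(E) = ∫ ch(E)·td for vector
bundles on projective n-space; this row is the identity of formal power series to which its proof
reduces it for E = O(m): the degree-n part of ch(O(m))·td(P^n) = e^(mζ)(ζ/(1 − e^(−ζ)))^(n+1)
against χ(P^n, O(m)) = C(m+n, n).) -/
theorem result (f : PowerSeries ℚ)
    (hf : f * (PowerSeries.exp ℚ - 1) = PowerSeries.X * PowerSeries.exp ℚ) (m : ℤ) (n : ℕ) :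
    PowerSeries.coeff n (PowerSeries.rescale (m : ℚ) (PowerSeries.exp ℚ) * f ^ (n + 1)) =
      ((Ring.choose (m + n : ℤ) n : ℤ) : ℚ) := by
  induction n with
  | zero =>
    have h0 := congrArg (PowerSeries.coeff 1) hf
    simp [PowerSeries.coeff_mul, Finset.Nat.antidiagonal_succ] at h0
    have h1 : PowerSeries.constantCoeff (PowerSeries.rescale (m : ℚ) (PowerSeries.exp ℚ)) = 1 := by
      rw [← PowerSeries.coeff_zero_eq_constantCoeff_apply, PowerSeries.coeff_rescale, pow_zero, one_mul,
        PowerSeries.coeff_zero_eq_constantCoeff_apply, PowerSeries.constantCoeff_exp]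
    simp [h0, h1]
  | succ n ih =>
    have h := step f hf (m : ℚ) n
    rw [ih] at h
    have hc : ((n : ℤ) + 1) * Ring.choose (m + (n + 1 : ℕ) : ℤ) (n + 1) = (m + n + 1) * Ring.choose (m + n : ℤ) n := by
      have := Ring.choose_smul_choose (m + (n + 1 : ℕ) : ℤ) (show 1 ≤ n + 1 by omega)
      rw [Nat.choose_one_right, Ring.choose_one_right, nsmul_eq_mul, Nat.add_sub_cancel] at this
      push_cast at this ⊢
      rw [add_sub_assoc, add_sub_cancel_right] at this
      linear_combination this
    refine mul_left_cancel₀ (show ((n : ℚ) + 1) ≠ 0 by positivity) ?_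
    rw [h]
    exact_mod_cast hc.symm

end Groth.Agent.S14509
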