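import Groth.Statements.S14506
import Groth.Agent.S14509

set_option autoImplicit false
open IntTh

namespace Groth.Agent.S14506

/-- A formal power series f(t) ∈ ℚ⟦t⟧ satisfies, for every n ≥ 0, that the coefficient of t^n in
f(t)^(n+1) is 1, if and only if f(t)·(e^t − 1) = t·e^t, that is f(t) = t/(1 − e^(−t)) = 1 + t/2 +
t²/12 − ⋯. (The published statement is the existence and uniqueness of the Todd class of vector
bundles normalised by multiplicativity, td(O) = 1 and the Riemann–Roch identity for the structure
sheaf of every projective space; this row is the power-series fact its proof establishes: the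
normalisation forces exactly these coefficient conditions on the one-variable series.) -/
theorem result (f : PowerSeries ℚ) :
    (∀ n : ℕ, PowerSeries.coeff n (f ^ (n + 1)) = 1) ↔
      f * (PowerSeries.exp ℚ - 1) = PowerSeries.X * PowerSeries.exp ℚ := by
  open PowerSeries in
  have hmain : ∀ g : PowerSeries ℚ, g * (exp ℚ - 1) = X * exp ℚ → ∀ n, coeff n (g ^ (n + 1)) = 1 := by
    intro g hg n
    have := S14509.result g hg 0 n
    simpa [Ring.choose_natCast] using this
  refine ⟨fun h => ?_, hmain f⟩
  obtain ⟨u, hu⟩ : (PowerSeries.X : PowerSeries ℚ) ∣ PowerSeries.exp ℚ - 1 :=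
    PowerSeries.X_dvd_iff.2 (by simp)
  have hu0 : PowerSeries.constantCoeff u ≠ 0 := by
    have := congrArg (PowerSeries.coeff 1) hu
    simp [PowerSeries.coeff_succ_X_mul] at this
    rw [← this]; exact one_ne_zero
  set g := PowerSeries.exp ℚ * u⁻¹ with hg
  have hgeq : g * (PowerSeries.exp ℚ - 1) = PowerSeries.X * PowerSeries.exp ℚ := by
    have := PowerSeries.inv_mul_cancel u hu0
    rw [hg, hu]
    linear_combination PowerSeries.X * PowerSeries.exp ℚ * this
  suffices f = g by rw [this]; exact hgeq
  have f0 : PowerSeries.constantCoeff f = 1 := by simpa using h 0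
  have g0 : PowerSeries.constantCoeff g = 1 := by simpa using hmain g hgeq 0
  ext n
  induction n using Nat.strong_induction_on with
  | _ n ih =>
  obtain ⟨q, hq⟩ : PowerSeries.X ^ n ∣ f - g := PowerSeries.X_pow_dvd_iff.2 fun i hi => by rw [map_sub, ih i hi, sub_self]
  have e1 : PowerSeries.coeff n (f - g) = PowerSeries.constantCoeff q := by
    rw [hq, PowerSeries.coeff_X_pow_mul', if_pos le_rfl, Nat.sub_self, PowerSeries.coeff_zero_eq_constantCoeff]
  have e2 := congrArg (PowerSeries.coeff n) (Commute.geom_sum₂_mul (Commute.all f g) (n + 1))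
  rw [hq, mul_left_comm, PowerSeries.coeff_X_pow_mul', if_pos le_rfl, Nat.sub_self,
    PowerSeries.coeff_zero_eq_constantCoeff, map_mul, map_sum] at e2
  simp only [map_mul, map_pow, f0, g0, one_pow, mul_one, Finset.sum_const, Finset.card_range, nsmul_eq_mul,
    map_sub, h n, hmain g hgeq n, sub_self] at e2
  have : PowerSeries.constantCoeff q = 0 := by
    simpa [Nat.cast_add_one_ne_zero] using e2
  rw [this, map_sub, sub_eq_zero] at e1
  exact e1

end Groth.Agent.S14506
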