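import Groth.Statements.S14507
import Groth.Agent.EulerSeq.Hom
import Groth.Agent.ProjMorph.Glue
import Mathlib.LinearAlgebra.Eigenspace.Triangularizable

set_option autoImplicit false
universe u
open CategoryTheory CategoryTheory.Limits AlgebraicGeometry
open IntTh

noncomputable section

namespace Groth.Agent.S14507

set_option backward.isDefEq.respectTransparency false
set_option backward.isDefEq.respectTransparency.types false
set_option maxHeartbeats 1000000

open TopologicalSpace Opposite MvPolynomial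
open Groth.Agent.EulerSeq Twist Groth.Agent.ProjTwist

section lineEvalCopy

variable {k : Type u} [Field k] {m : ℕ}

theorem X_mem_polyGrading (m : ℕ) (k : Type u) [CommRing k] (a : Fin (m + 1)) :
    (X a : MvPolynomial (Fin (m + 1)) k) ∈ CohB1.polyGrading m k 1 := MvPolynomial.isHomogeneous_X k a

/-- `aeval` at a multiple of `v` -/
def lineEval (v : Fin (m + 1) → k) : MvPolynomial (Fin (m + 1)) k →ₐ[k] Polynomial k :=
  aeval fun a => Polynomial.C (v a) * Polynomial.X

theorem lineEval_homogeneous (v : Fin (m + 1) → k) {d : ℕ} {p : MvPolynomial (Fin (m + 1)) k}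
    (hp : p.IsHomogeneous d) : lineEval v p = Polynomial.C (eval v p) * Polynomial.X ^ d := by
  rw [lineEval, aeval_def, eval₂_eq, eval_eq, map_sum, Finset.sum_mul]
  refine Finset.sum_congr rfl fun e he => ?_
  have hdeg : ∑ l ∈ e.support, e l = d := by
    rw [← hp (mem_support_iff.mp he)]
    simp [Finsupp.weight_apply, Finsupp.sum]
  rw [map_mul, map_prod, ← hdeg, ← Finset.prod_pow_eq_pow_sum, mul_assoc, ← Finset.prod_mul_distrib]
  refine congrArg (_ * ·) (Finset.prod_congr rfl fun l _ => ?_)
  rw [map_pow, mul_pow]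

/-- the rational point `[v]` -/
def ratPoint (v : Fin (m + 1) → k) (hv : v ≠ 0) : ProjectiveSpectrum (CohB1.polyGrading m k) where
  asHomogeneousIdeal := ⟨RingHom.ker (lineEval v), fun i r hr => by
    have e : (DirectSum.decompose (CohB1.polyGrading m k) r i : MvPolynomial (Fin (m + 1)) k) =
        homogeneousComponent i r := decomposition.decompose'_apply r i
    rw [RingHom.mem_ker] at hr ⊢
    rw [e, lineEval_homogeneous v (homogeneousComponent_isHomogeneous i r)]
    have h2 := congrArg (Polynomial.coeff · i) hr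
    simp only [Polynomial.coeff_zero] at h2
    rw [← sum_homogeneousComponent r, map_sum, Polynomial.finsetSum_coeff] at h2
    simp only [lineEval_homogeneous v (homogeneousComponent_isHomogeneous _ r), Polynomial.coeff_C_mul_X_pow] at h2
    rw [Finset.sum_ite_eq] at h2
    split_ifs at h2 with h
    · rw [h2, map_zero, zero_mul]
    · rw [homogeneousComponent_eq_zero i r (by simpa using h), map_zero, map_zero, zero_mul]⟩
  isPrime := RingHom.ker_isPrime _
  not_irrelevant_le h := by
    obtain ⟨a, ha⟩ := Function.ne_iff.mp hv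
    have hX : (X a : MvPolynomial (Fin (m + 1)) k) ∈ HomogeneousIdeal.irrelevant (CohB1.polyGrading m k) :=
      HomogeneousIdeal.mem_irrelevant_of_mem _ zero_lt_one (X_mem_polyGrading m k a)
    have h2 : lineEval v (X a) = 0 := h hX
    rw [lineEval, aeval_X, mul_eq_zero, Polynomial.C_eq_zero] at h2
    rcases h2 with h2 | h2
    · exact ha h2
    · exact Polynomial.X_ne_zero h2

end lineEvalCopy

/-- A point at which `∑ a, A l a * X a` is proportional to the coordinates. -/
theorem exists_eigenPoint {k : Type u} [Field k] {n : ℕ} (A : Matrix (Fin (n + 1)) (Fin (n + 1)) k) :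
    ∃ x : ProjectiveSpectrum (CohB1.polyGrading n k), ∀ l i,
      (∑ a, C (A l a) * X a) * X i - (∑ a, C (A i a) * X a) * X l ∈ x.asHomogeneousIdeal.toIdeal := by
  classical
  let K := AlgebraicClosure k
  let M : Matrix (Fin (n + 1)) (Fin (n + 1)) K := A.map (algebraMap k K)
  obtain ⟨c, hc⟩ := Module.End.exists_eigenvalue (Matrix.toLin' M)
  obtain ⟨v, hv, hv0⟩ := hc.exists_hasEigenvector
  have hMv : ∀ l, ∑ a, algebraMap k K (A l a) * v a = c * v l := fun l => by
    have h := congrFun (Module.End.mem_eigenspace_iff.mp hv) l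
    rw [Matrix.toLin'_apply, Pi.smul_apply, smul_eq_mul] at h
    exact h
  let φ : MvPolynomial (Fin (n + 1)) k →+* Polynomial K :=
    (lineEval v).toRingHom.comp (MvPolynomial.map (algebraMap k K))
  let P := ratPoint v hv0
  refine ⟨⟨⟨Ideal.comap (MvPolynomial.map (algebraMap k K)) P.asHomogeneousIdeal.toIdeal, fun i r hr => ?_⟩,
    P.isPrime.comap _, fun h => ?_⟩, fun l i => ?_⟩
  · have e : (DirectSum.decompose (CohB1.polyGrading n k) r i : MvPolynomial (Fin (n + 1)) k) =
        homogeneousComponent i r := MvPolynomial.decomposition.decompose'_apply r i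
    have e' : (DirectSum.decompose (CohB1.polyGrading n K) (MvPolynomial.map (algebraMap k K) r) i :
        MvPolynomial (Fin (n + 1)) K) = homogeneousComponent i (MvPolynomial.map (algebraMap k K) r) :=
      MvPolynomial.decomposition.decompose'_apply _ i
    have e2 : MvPolynomial.map (algebraMap k K) (homogeneousComponent i r) =
        homogeneousComponent i (MvPolynomial.map (algebraMap k K) r) := by
      ext d
      simp only [coeff_map, coeff_homogeneousComponent]
      split_ifs <;> simp
    rw [Ideal.mem_comap, e, e2, ← e']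
    exact P.asHomogeneousIdeal.isHomogeneous i hr
  · obtain ⟨a, ha⟩ := Function.ne_iff.mp hv0
    have hX : (X a : MvPolynomial (Fin (n + 1)) k) ∈ HomogeneousIdeal.irrelevant (CohB1.polyGrading n k) :=
      HomogeneousIdeal.mem_irrelevant_of_mem _ zero_lt_one (MvPolynomial.isHomogeneous_X k a)
    have h2 : lineEval v (MvPolynomial.map (algebraMap k K) (X a)) = 0 := h hX
    rw [map_X, lineEval, aeval_X, mul_eq_zero, Polynomial.C_eq_zero] at h2
    rcases h2 with h2 | h2
    · exact ha h2
    · exact Polynomial.X_ne_zero h2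
  · show lineEval v (MvPolynomial.map (algebraMap k K) _) = 0
    have e : ∀ l, lineEval v (MvPolynomial.map (algebraMap k K) (∑ a, C (A l a) * X a)) =
        Polynomial.C (c * v l) * Polynomial.X := fun l => by
      rw [← hMv l, map_sum, map_sum, map_sum, Finset.sum_mul]
      refine Finset.sum_congr rfl fun a _ => ?_
      simp [lineEval, mul_assoc]
    rw [map_sub, map_sub, map_mul, map_mul, map_mul, map_mul, e, e, map_X, map_X]
    simp [lineEval]
    ring

section

variable {k : Type u} [Field k] {n : ℕ}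

local instance : (CohB1.ProjSpace n k).Over (Spec (CommRingCat.of k)) := ⟨CohB1.ProjSpace.toSpec n k⟩

section

variable {m : ℕ}

/-- `O(-1)^q` -/
abbrev EQ (m : ℕ) (k : Type u) [Field k] (q : ℕ) : (CohB1.ProjSpace m k).Modules :=
  ∐ fun _ : Fin q => Twist.twistProjSpace m k (-1)

/-- the map `O(-1)^q ⟶ O` given by linear forms -/
def formsMap {q : ℕ} (A : Matrix (Fin q) (Fin (m + 1)) k) : EQ m k q ⟶ Twist.twistProjSpace m k 0 :=
  Sigma.desc fun l => ∑ a, A l a • mulVar m k a

theorem exists_formsMap {q : ℕ} (σ : EQ m k q ⟶ Twist.twistProjSpace m k 0) : ∃ A, σ = formsMap A := by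
  classical
  choose p hp e using fun l => SerrePn.exists_mulHom_eq
    (Sigma.ι (fun _ : Fin q => Twist.twistProjSpace m k (-1)) l ≫ σ) (show ((1 : ℕ) : ℤ) + -1 = 0 by norm_num)
  refine ⟨fun l a => coeff (Finsupp.single a 1) (p l), Sigma.hom_ext _ _ fun l => ?_⟩
  rw [e l, formsMap, Sigma.ι_desc]
  have hsum : p l = ∑ a, C (coeff (Finsupp.single a 1) (p l)) * X a := by
    ext d
    simp only [coeff_sum, coeff_C_mul, coeff_X']
    by_cases hd : d.degree = 1
    · obtain ⟨a, rfl⟩ := (Finsupp.range_single_one (σ := Fin (m + 1))).ge hd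
      simp [Finsupp.single_left_inj]
    · rw [((mem_homogeneousSubmodule 1 (p l)).mp (hp l)).coeff_eq_zero hd]
      symm
      refine Finset.sum_eq_zero fun a _ => ?_
      rw [if_neg (fun h => hd (by rw [← h]; simp)), mul_zero]
  have hmem : (∑ a, C (coeff (Finsupp.single a 1) (p l)) * X a) ∈ CohB1.polyGrading m k 1 := hsum ▸ hp l
  rw [← sum_smul_mulVar _ hmem]
  congr 1

end

theorem evN_scalar_comp {d d' : ℤ} (r : k) (φ : twistProjSpace n k d ⟶ twistProjSpace n k d')
    {U : (CohB1.ProjSpace n k).Opens} (s : Γ(twistProjSpace n k d, U))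
    (x : ProjectiveSpectrum (CohB1.polyGrading n k)) (hx : x ∈ U) :
    evN x hx ((r • φ).app U s) =
      algebraMap (MvPolynomial (Fin (n + 1)) k) (Loc (CohB1.polyGrading n k) x) (C r) * evN x hx (φ.app U s) := by
  rw [show r • φ = φ ≫ (r • 𝟙 _) by rw [Linear.comp_smul, Category.comp_id]]
  show evN x hx ((r • 𝟙 (twistProjSpace n k d')).app U (φ.app U s)) = _
  rw [KLin.smul_id, evN_smulMod]

/-- The value of a map given by linear forms on a section of the kernel. -/
theorem evN_forms (A : Matrix (Fin (n + 1)) (Fin (n + 1)) k) {U : (CohB1.ProjSpace n k).Opens}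
    (x : ProjectiveSpectrum (CohB1.polyGrading n k)) (hx : x ∈ U) (z : Γ(KK n k, U)) :
    evN x hx ((kernel.ι (eulerMap n k) ≫ formsMap A).app U z) =
      ∑ l, algebraMap (MvPolynomial (Fin (n + 1)) k) (Loc (CohB1.polyGrading n k) x) (∑ a, C (A l a) * X a) *
        cpt l x hx z := by
  show evN x hx ((formsMap A).app U ((kernel.ι (eulerMap n k)).app U z)) = _
  rw [EE_decomp ((kernel.ι (eulerMap n k)).app U z), map_sum, map_sum]
  refine Finset.sum_congr rfl fun l _ => ?_
  have e : ∀ s, (formsMap A).app U ((Sigma.ι (fun _ : Fin (n + 1) => twistProjSpace n k (-1)) l).app U s) =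
      (∑ a, A l a • mulVar n k a).app U s := fun s => by
    rw [← Sigma.ι_desc (fun l => ∑ a, A l a • mulVar n k a) l]
    rfl
  rw [e, map_sum, Finset.sum_mul]
  let w := (prE n k l).app U ((kernel.ι (eulerMap n k)).app U z)
  let ev : (twistProjSpace n k (-1) ⟶ twistProjSpace n k 0) →+ Loc (CohB1.polyGrading n k) x :=
    AddMonoidHom.mk' (fun φ => evN x hx (φ.app U w)) fun φ ψ => map_add (evN x hx) (φ.app U w) (ψ.app U w)
  refine (map_sum ev _ Finset.univ).trans (Finset.sum_congr rfl fun a _ => ?_)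
  show evN x hx ((A l a • mulVar n k a).app U w) = _
  rw [evN_scalar_comp, evN_mulVar, map_mul]
  exact (mul_assoc _ _ _).symm

theorem exists_zero (ξ : Omega.sheaf (CohB1.ProjSpace.toSpec n k) ⟶ Coh.structureModule (CohB1.ProjSpace n k)) :
    ∃ x : ↥(CohB1.ProjSpace n k), ∀ (U : (CohB1.ProjSpace n k).Opens) (hx : x ∈ U)
      (s : Γ(Omega.sheaf (CohB1.ProjSpace.toSpec n k), U)),
      (CohB1.ProjSpace n k).presheaf.germ U x hx (OmegaSh.fnSect (CohB1.ProjSpace n k) U (ξ.app U s)) ∈
        IsLocalRing.maximalIdeal ((CohB1.ProjSpace n k).presheaf.stalk x) := by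
  classical
  have : HasExt.{u} (CohB1.ProjSpace n k).Modules := Groth.Agent.ModShf.schemeModulesHasExt _
  let ξ0 : KK n k ⟶ twistProjSpace n k 0 :=
    (omegaIsoKK n k).inv ≫ ξ ≫ (twistZeroIso (CohB1.polyGrading n k)).hom
  have h : Subsingleton (Abelian.Ext (eulerCx n k).X₃ (twistProjSpace n k 0) 1) :=
    SerrePn.subsingleton_ext_twist 0 0 1 (Pn.subsingleton_twist _ 0 (by omega))
  obtain ⟨χ, hχ⟩ := Abelian.Ext.contravariant_sequence_exact₁ (shortExact_eulerCx n k) _
    (Abelian.Ext.mk₀ ξ0) (show 1 + 0 = 1 from rfl) (Subsingleton.elim _ _)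
  obtain ⟨χ', rfl⟩ := (Abelian.Ext.mk₀_bijective _ _).2 χ
  rw [Abelian.Ext.mk₀_comp_mk₀] at hχ
  have hχ' : kernel.ι (eulerMap n k) ≫ χ' = ξ0 := (Abelian.Ext.mk₀_bijective _ _).1 hχ
  obtain ⟨A, rfl⟩ := exists_formsMap χ'
  obtain ⟨x, hxA⟩ := exists_eigenPoint A
  refine ⟨x, fun U hx s => ?_⟩
  let z := (omegaIsoKK n k).hom.app U s
  let c : Γ(CohB1.ProjSpace n k, U) := OmegaSh.fnSect (CohB1.ProjSpace n k) U (ξ.app U s)
  have h1 : valAt c x hx = evN x hx (ξ0.app U z) := by
    have e : ξ0.app U z = (twistZeroIso (CohB1.polyGrading n k)).hom.app U (ξ.app U s) := by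
      have h3 : (omegaIsoKK n k).hom ≫ ξ0 = ξ ≫ (twistZeroIso (CohB1.polyGrading n k)).hom := by
        simp [ξ0]
      exact congrArg (fun φ => φ.app U s) h3
    rw [e]
    refine Eq.symm ?_
    refine (Groth.Agent.ProjTwist.smul_coe _ _ _).trans ?_
    exact (congrArg (_ * ·) (Groth.Agent.ProjTwist.oneSec_coe _ _ _)).trans (mul_one _)
  obtain ⟨i, hi⟩ : ∃ i : Fin (n + 1), (X i : MvPolynomial (Fin (n + 1)) k) ∉ x.asHomogeneousIdeal.toIdeal := by
    by_contra hcon
    push Not at hcon
    obtain ⟨j, hj⟩ := Opens.mem_iSup.mp ((ProjMorph.iSup_basicOpen_gen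
      (𝒜 := CohB1.polyGrading n k) (fun j => (X j : MvPolynomial (Fin (n + 1)) k))
      (fun j => MvPolynomial.isHomogeneous_X k j) MvPolynomial.adjoin_range_X).ge (Opens.mem_top x))
    exact hj (hcon j)
  let L := Loc (CohB1.polyGrading n k) x
  let α := algebraMap (MvPolynomial (Fin (n + 1)) k) L
  have hm : ∀ p ∈ x.asHomogeneousIdeal.toIdeal, α p ∈ IsLocalRing.maximalIdeal L := fun p hp =>
    (IsLocalization.AtPrime.to_map_mem_maximal_iff L x.asHomogeneousIdeal.toIdeal p).mpr hp
  have hmem : valAt c x hx * α (X i) ∈ IsLocalRing.maximalIdeal L := by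
    have h0 := sum_X_mul_cpt x hx z
    rw [h1, ← hχ', evN_forms, Finset.sum_mul]
    have e : ∑ l, α (∑ a, C (A l a) * X a) * cpt l x hx z * α (X i) =
        ∑ l, α ((∑ a, C (A l a) * X a) * X i - (∑ a, C (A i a) * X a) * X l) * cpt l x hx z := by
      have : ∑ l, α ((∑ a, C (A i a) * X a) * X l) * cpt l x hx z = 0 := by
        simp only [map_mul, mul_assoc, ← Finset.mul_sum]
        rw [h0, mul_zero]
      simp only [map_sub, sub_mul, Finset.sum_sub_distrib, this, sub_zero]
      exact Finset.sum_congr rfl fun l _ => by rw [map_mul]; ring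
    refine e ▸ Ideal.sum_mem _ fun l _ => Ideal.mul_mem_right _ _ (hm _ (hxA l i))
  have hu : IsUnit (α (X i)) :=
    IsLocalization.map_units L (⟨X i, hi⟩ : x.asHomogeneousIdeal.toIdeal.primeCompl)
  intro hunit
  refine (IsLocalRing.mem_maximalIdeal _).mp (Ideal.mul_mem_right (↑hu.unit⁻¹ : L) _ hmem) ?_
  rw [mul_assoc, IsUnit.mul_val_inv, mul_one]
  have h2 := hunit.map (Proj.stalkIso' (CohB1.polyGrading n k) x)
  erw [Proj.stalkIso'_germ] at h2
  exact (HomogeneousLocalization.isUnit_iff_isUnit_val _ _ _).mpr h2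

end

/-- Let k be a field, n ≥ 0, P = P^n_k and Ω = Ω_{P/k} its sheaf of differentials (the conormal sheaf of
the diagonal). Every global vector field on P, that is every O_P-linear map ξ : Ω → O_P (a global
section of the tangent sheaf, the dual of Ω), vanishes at some point: there is x ∈ P such that ξ
maps every local section of Ω over an open neighbourhood of x to a function whose germ at x lies in
the maximal ideal of O_{P,x}. -/
theorem result (k : Type u) [Field k] (n : ℕ)
    (ξ : Omega.sheaf (CohB1.ProjSpace.toSpec n k) ⟶ Coh.structureModule (CohB1.ProjSpace n k)) :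
    ∃ x : ↥(CohB1.ProjSpace n k), ∀ (U : (CohB1.ProjSpace n k).Opens) (hx : x ∈ U)
      (s : Γ(Omega.sheaf (CohB1.ProjSpace.toSpec n k), U)),
      (CohB1.ProjSpace n k).presheaf.germ U x hx (OmegaSh.fnSect (CohB1.ProjSpace n k) U (ξ.app U s)) ∈
        IsLocalRing.maximalIdeal ((CohB1.ProjSpace n k).presheaf.stalk x) := exists_zero ξ

end Groth.Agent.S14507
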