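import Groth.Statements.S14510
import Mathlib.RingTheory.Nullstellensatz
import Mathlib.RingTheory.Ideal.KrullsHeightTheorem
import Mathlib.LinearAlgebra.Dimension.Finrank
import Mathlib.LinearAlgebra.FreeModule.Finite.Basic

set_option autoImplicit false
universe u v
open CAlgX

namespace Groth.Agent.S14510

/-- Let k be an algebraically closed field, U, V, W finite-dimensional k-vector spaces with U and V
nonzero, and φ : U ⊗ V → W a linear map which is 1-generic, i.e. φ(u ⊗ v) ≠ 0 for all nonzero u and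
v (φ is given here as a bilinear map). Then dim W ≥ dim U + dim V − 1. (Algebraic closedness
matters: complex multiplication ℂ ⊗ ℂ → ℂ over the reals is 1-generic with 2 + 2 − 1 > 2.) -/
theorem result (k : Type u) [Field k] [IsAlgClosed k]
    (U V W : Type v) [AddCommGroup U] [Module k U] [AddCommGroup V] [Module k V] [AddCommGroup W] [Module k W]
    [Module.Finite k U] [Module.Finite k V] [Module.Finite k W] [Nontrivial U] [Nontrivial V]
    (φ : U →ₗ[k] V →ₗ[k] W) (hφ : ∀ (a : U) (b : V), a ≠ 0 → b ≠ 0 → φ a b ≠ 0) :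
    Module.finrank k U + Module.finrank k V ≤ Module.finrank k W + 1 := by
  classical
  obtain ⟨a, ha⟩ : ∃ a, Module.finrank k U = a + 1 :=
    Nat.exists_eq_succ_of_ne_zero (Nat.pos_iff_ne_zero.1 Module.finrank_pos)
  obtain ⟨b, hb⟩ : ∃ b, Module.finrank k V = b + 1 :=
    Nat.exists_eq_succ_of_ne_zero (Nat.pos_iff_ne_zero.1 Module.finrank_pos)
  set w := Module.finrank k W
  let bU := Module.finBasisOfFinrankEq k U ha
  let bV := Module.finBasisOfFinrankEq k V hb
  let bW := Module.finBasis k W
  let σ := Fin (a + 1) × Fin (b + 1)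
  let T := MvPolynomial (Fin (a + 1) ⊕ Fin (b + 1)) k
  let Ψ : MvPolynomial σ k →ₐ[k] T := MvPolynomial.aeval fun ij =>
    MvPolynomial.X (Sum.inl ij.1) * MvPolynomial.X (Sum.inr ij.2)
  -- the linear forms of the map
  let z : Fin w → MvPolynomial σ k := fun l =>
    ∑ ij : σ, MvPolynomial.C (bW.repr (φ (bU ij.1) (bV ij.2)) l) * MvPolynomial.X ij
  let m₀ : Ideal (MvPolynomial σ k) := MvPolynomial.vanishingIdeal k {(0 : σ → k)}
  let J : Ideal (MvPolynomial σ k) := RingHom.ker Ψ ⊔ Ideal.span (Set.range z)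
  have hJm : J ≤ m₀ := by
    refine sup_le (fun p hp => ?_) (Ideal.span_le.2 ?_)
    · rw [MvPolynomial.mem_vanishingIdeal_singleton_iff]
      have h1 := congrArg (MvPolynomial.aeval (R := k) (0 : Fin (a + 1) ⊕ Fin (b + 1) → k))
        (RingHom.mem_ker.1 hp)
      rw [map_zero, ← AlgHom.comp_apply, MvPolynomial.comp_aeval] at h1
      convert h1 using 3
      simp
      rfl
    · rintro _ ⟨l, rfl⟩
      rw [SetLike.mem_coe, MvPolynomial.mem_vanishingIdeal_singleton_iff]
      simp [z]
  have hzero : MvPolynomial.zeroLocus k J ⊆ {(0 : σ → k)} := by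
    intro M hM
    rw [MvPolynomial.mem_zeroLocus_iff] at hM
    have hrel : ∀ i j i' j', M (i, j) * M (i', j') = M (i, j') * M (i', j) := by
      intro i j i' j'
      have := hM (MvPolynomial.X (i, j) * MvPolynomial.X (i', j') -
        MvPolynomial.X (i, j') * MvPolynomial.X (i', j))
        (Ideal.mem_sup_left (by simp [RingHom.mem_ker, Ψ]; ring))
      simpa [sub_eq_zero] using this
    show M = 0
    by_contra hne
    obtain ⟨⟨i₀, j₀⟩, h₀⟩ := Function.ne_iff.1 hne
    have h₀' : M (i₀, j₀) ≠ 0 := h₀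
    set u := ∑ i, M (i, j₀) • bU i with hu
    set v := ∑ j, M (i₀, j) • bV j with hv
    have hune : u ≠ 0 := fun h =>
      h₀' (by simpa [hu, Finsupp.single_apply] using congrArg (fun x => bU.repr x i₀) h)
    have hvne : v ≠ 0 := fun h =>
      h₀' (by simpa [hv, Finsupp.single_apply] using congrArg (fun x => bV.repr x j₀) h)
    refine hφ u v hune hvne (bW.ext_elem fun l => ?_)
    rw [map_zero, Finsupp.zero_apply]
    have hl := hM (z l) (Ideal.mem_sup_right (Ideal.subset_span ⟨l, rfl⟩))
    simp only [z, map_sum, map_mul, MvPolynomial.aeval_C, MvPolynomial.aeval_X, Algebra.algebraMap_self,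
      RingHom.id_apply] at hl
    simp only [hu, hv, map_sum, map_smul, LinearMap.sum_apply, LinearMap.smul_apply, Finsupp.finsetSum_apply,
      Finsupp.smul_apply, smul_eq_mul]
    rw [show (0 : k) = M (i₀, j₀) * ∑ ij : σ, bW.repr (φ (bU ij.1) (bV ij.2)) l * M ij by rw [hl, mul_zero],
      Fintype.sum_prod_type]
    simp only [Finset.mul_sum]
    rw [Finset.sum_comm]
    refine Finset.sum_congr rfl fun i _ => Finset.sum_congr rfl fun j _ => ?_
    linear_combination (bW.repr (φ (bU i) (bV j)) l) * (hrel i j₀ i₀ j)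
  have hrad : m₀ ≤ J.radical := by
    rw [← MvPolynomial.vanishingIdeal_zeroLocus_eq_radical (K := k) J]
    exact MvPolynomial.vanishingIdeal_anti_mono hzero
  -- pass to the coordinate ring of the rank one matrices
  let Q := MvPolynomial σ k ⧸ RingHom.ker Ψ
  let q : MvPolynomial σ k →+* Q := Ideal.Quotient.mk _
  have hker : RingHom.ker q ≤ m₀ := by rw [Ideal.mk_ker]; exact le_sup_left.trans hJm
  haveI hm₀ : m₀.IsPrime := inferInstance
  haveI hmQ : (m₀.map q).IsPrime := Ideal.map_isPrime_of_surjective Ideal.Quotient.mk_surjective hker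
  have hcomap : ∀ {I : Ideal (MvPolynomial σ k)}, RingHom.ker q ≤ I → (I.map q).comap q = I := fun hI => by
    rw [Ideal.comap_map_of_surjective q Ideal.Quotient.mk_surjective, ← RingHom.ker_eq_comap_bot,
      sup_eq_left.2 hI]
  have hmin : m₀.map q ∈ ((Ideal.span (Set.range z)).map q).minimalPrimes := by
    refine ⟨⟨hmQ, Ideal.map_mono (le_sup_right.trans hJm)⟩, fun P hP _ => ?_⟩
    haveI := hP.1
    refine Ideal.map_le_iff_le_comap.2 (hrad.trans ((hP.1.comap q).radical_le_iff.2 (sup_le ?_ ?_)))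
    · intro x hx
      rw [Ideal.mem_comap, show q x = 0 from Ideal.Quotient.eq_zero_iff_mem.2 hx]
      exact P.zero_mem
    · exact Ideal.map_le_iff_le_comap.1 hP.2
  have hup : (m₀.map q).height ≤ w := by
    have h1 := hmin
    rw [Ideal.map_span, ← Set.range_comp, ← Set.image_univ, ← Finset.coe_univ, ← Finset.coe_image] at h1
    refine (Ideal.height_le_card_of_mem_minimalPrimes_span_finset h1).trans ?_
    exact_mod_cast Finset.card_image_le.trans (by simp)
  -- a chain of primes: specialise the variables one after another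
  let pos : Fin (a + 1) ⊕ Fin (b + 1) → ℕ :=
    Sum.elim (fun i => if i = 0 then a + b else (i : ℕ) - 1) (fun j => if j = 0 then a + b + 1 else a + (j : ℕ) - 1)
  let ev : ℕ → (T →ₐ[k] T) := fun t => MvPolynomial.aeval fun s => if pos s < t then 0 else MvPolynomial.X s
  let K : ℕ → Ideal (MvPolynomial σ k) := fun t => RingHom.ker ((ev t).comp Ψ)
  haveI hK : ∀ t, (K t).IsPrime := fun t => RingHom.ker_isPrime _
  have hKker : ∀ t, RingHom.ker q ≤ K t := fun t => by
    rw [Ideal.mk_ker]
    intro x hx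
    simp only [K, RingHom.mem_ker, AlgHom.comp_apply, RingHom.mem_ker.1 hx, map_zero]
  have hKmono : ∀ t, K t ≤ K (t + 1) := by
    intro t x hx
    simp only [K, RingHom.mem_ker, AlgHom.comp_apply] at hx ⊢
    have : ev (t + 1) = (ev (t + 1)).comp (ev t) := MvPolynomial.algHom_ext fun s => by
      simp only [ev, AlgHom.comp_apply, MvPolynomial.aeval_X]
      split_ifs with h1 h2
      · simp
      · rw [MvPolynomial.aeval_X, if_pos h1]
      · omega
      · rw [MvPolynomial.aeval_X, if_neg h1]
    rw [this, AlgHom.comp_apply, hx, map_zero]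
  have hwit : ∀ t ≤ a + b, ∃ i j, pos (Sum.inl i) ≥ t ∧ pos (Sum.inr j) ≥ t ∧
      (pos (Sum.inl i) = t ∨ pos (Sum.inr j) = t) := by
    intro t ht
    have hl : pos (Sum.inl 0) = a + b := by simp only [pos, Sum.elim_inl, if_true]
    have hr : pos (Sum.inr 0) = a + b + 1 := by simp only [pos, Sum.elim_inr, if_true]
    have hl' : ∀ i : Fin (a + 1), (i : ℕ) ≠ 0 → pos (Sum.inl i) = (i : ℕ) - 1 := fun i hi =>
      by simp only [pos, Sum.elim_inl]; rw [if_neg fun h => hi (by rw [h]; rfl)]
    have hr' : ∀ j : Fin (b + 1), (j : ℕ) ≠ 0 → pos (Sum.inr j) = a + (j : ℕ) - 1 := fun j hj =>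
      by simp only [pos, Sum.elim_inr]; rw [if_neg fun h => hj (by rw [h]; rfl)]
    by_cases h1 : t < a
    · refine ⟨⟨t + 1, by omega⟩, 0, ?_, ?_, Or.inl ?_⟩ <;>
        (try rw [hl' ⟨t + 1, by omega⟩ (Nat.succ_ne_zero t)]) <;> (try simp only [hr]) <;> omega
    by_cases h2 : t < a + b
    · refine ⟨0, ⟨t - a + 1, by omega⟩, ?_, ?_, Or.inr ?_⟩ <;>
        (try rw [hr' ⟨t - a + 1, by omega⟩ (Nat.succ_ne_zero _)]) <;> (try simp only [hl]) <;> omega
    · exact ⟨0, 0, by omega, by omega, Or.inl (by omega)⟩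
  have hlt : ∀ t ≤ a + b, K t < K (t + 1) := by
    intro t ht
    refine lt_of_le_of_ne (hKmono t) fun h => ?_
    obtain ⟨i, j, hi, hj, hij⟩ := hwit t ht
    have h1 : MvPolynomial.X (i, j) ∈ K (t + 1) := by
      have e1 : ∀ s, ev (t + 1) (MvPolynomial.X s) = if pos s < t + 1 then 0 else MvPolynomial.X s :=
        fun s => MvPolynomial.aeval_X _ s
      simp only [K, RingHom.mem_ker, AlgHom.comp_apply]
      rw [show Ψ (MvPolynomial.X (i, j)) = MvPolynomial.X (Sum.inl i) * MvPolynomial.X (Sum.inr j) from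
        MvPolynomial.aeval_X _ _, map_mul, e1, e1]
      rcases hij with hij | hij
      · rw [if_pos (by omega : pos (Sum.inl i) < t + 1), zero_mul]
      · rw [if_pos (by omega : pos (Sum.inr j) < t + 1), mul_zero]
    rw [← h] at h1
    have e1 : ∀ s, ev t (MvPolynomial.X s) = if pos s < t then 0 else MvPolynomial.X s :=
      fun s => MvPolynomial.aeval_X _ s
    simp only [K, RingHom.mem_ker, AlgHom.comp_apply] at h1
    rw [show Ψ (MvPolynomial.X (i, j)) = MvPolynomial.X (Sum.inl i) * MvPolynomial.X (Sum.inr j) from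
        MvPolynomial.aeval_X _ _, map_mul, e1, e1, if_neg (not_lt.2 hi), if_neg (not_lt.2 hj)] at h1
    exact mul_ne_zero (MvPolynomial.X_ne_zero _) (MvPolynomial.X_ne_zero _) h1
  haveI hKQ : ∀ t, ((K t).map q).IsPrime := fun t =>
    Ideal.map_isPrime_of_surjective Ideal.Quotient.mk_surjective (hKker t)
  have hheight : ∀ t ≤ a + b + 1, (t : ℕ∞) ≤ ((K t).map q).height := by
    intro t
    induction t with
    | zero => simp
    | succ t ih =>
      intro ht
      have hlt' : (K t).map q < (K (t + 1)).map q := by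
        refine lt_of_le_of_ne (Ideal.map_mono (hKmono t)) fun h => (hlt t (by omega)).ne ?_
        rw [← hcomap (hKker t), h, hcomap (hKker _)]
      have h2 := Ideal.height_strict_mono_of_isPrime_of_isPrime hlt'
      push_cast
      exact (add_le_add (ih (by omega)) le_rfl).trans (Order.add_one_le_of_lt h2)
  have hKm : K (a + b + 1) ≤ m₀ := by
    intro x hx
    rw [MvPolynomial.mem_vanishingIdeal_singleton_iff]
    have h1 := congrArg (MvPolynomial.aeval (R := k) (0 : Fin (a + 1) ⊕ Fin (b + 1) → k))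
      (RingHom.mem_ker.1 hx)
    rw [map_zero, AlgHom.comp_apply, ← AlgHom.comp_apply, ← AlgHom.comp_apply, AlgHom.comp_assoc] at h1
    rw [show (MvPolynomial.aeval (0 : σ → k)) =
      (MvPolynomial.aeval (R := k) (0 : Fin (a + 1) ⊕ Fin (b + 1) → k)).comp ((ev (a + b + 1)).comp Ψ) from
        MvPolynomial.algHom_ext fun ij => by
          rw [AlgHom.comp_apply, AlgHom.comp_apply,
            show Ψ (MvPolynomial.X ij) = MvPolynomial.X (Sum.inl ij.1) * MvPolynomial.X (Sum.inr ij.2) from
              MvPolynomial.aeval_X _ _, map_mul,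
            show ev (a + b + 1) (MvPolynomial.X (Sum.inl ij.1)) =
              if pos (Sum.inl ij.1) < a + b + 1 then 0 else MvPolynomial.X (Sum.inl ij.1) from
              MvPolynomial.aeval_X _ _, map_mul, MvPolynomial.aeval_X]
          split_ifs <;> simp]
    exact h1
  have := ((hheight _ le_rfl).trans (Ideal.height_mono (Ideal.map_mono hKm))).trans hup
  have h' : a + b + 1 ≤ w := by exact_mod_cast this
  omega

end Groth.Agent.S14510
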