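import Groth.Statements.S14511
import Mathlib.Data.Nat.Choose.Sum
import Mathlib.Algebra.MvPolynomial.Degrees

set_option autoImplicit false
universe u
open CAlgX

namespace Groth.Agent.S14511

/-- Let R be a commutative ring and P ∈ R[x_1, …, x_r] a polynomial of total degree at most r. Then the
coefficient of the monomial x_1 ⋯ x_r in P equals Σ_J (−1)^{|J|} P(δ_J), the sum over all subsets J
⊆ {1, …, r} (the empty one included), where δ_J is the point with coordinate −1 at the indices in J
and 0 at the others. -/
theorem result (R : Type u) [CommRing R] (r : ℕ)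
    (P : MvPolynomial (Fin r) R) (hP : P.totalDegree ≤ r) :
    MvPolynomial.coeff (∑ i : Fin r, Finsupp.single i 1) P =
      ∑ J : Finset (Fin r), (-1 : R) ^ J.card * MvPolynomial.eval (fun j => if j ∈ J then (-1 : R) else 0) P := by
  classical
  conv_rhs =>
    enter [2, J, 2, 2]
    rw [P.as_sum]
  simp only [map_sum, Finset.mul_sum]
  rw [Finset.sum_comm]
  set e₁ : Fin r →₀ ℕ := ∑ i : Fin r, Finsupp.single i 1 with he₁
  have he₁' : ∀ i, e₁ i = 1 := fun i => by simp [he₁, Finsupp.finsetSum_apply, Finsupp.single_apply]
  have key : ∀ e ∈ P.support,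
      ∑ J : Finset (Fin r), (-1 : R) ^ J.card *
        MvPolynomial.eval (fun j => if j ∈ J then (-1 : R) else 0) (MvPolynomial.monomial e (P.coeff e)) =
      if e = e₁ then P.coeff e else 0 := by
    intro e he
    have hval : ∀ J : Finset (Fin r),
        MvPolynomial.eval (fun j => if j ∈ J then (-1 : R) else 0) (MvPolynomial.monomial e (P.coeff e)) =
          if e.support ⊆ J then P.coeff e * (-1) ^ (e.sum fun _ d => d) else 0 := by
      intro J
      rw [MvPolynomial.eval_monomial, Finsupp.prod]
      split_ifs with hsub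
      · rw [Finset.prod_congr rfl (fun i hi => by rw [if_pos (hsub hi)]), Finset.prod_pow_eq_pow_sum]
        rfl
      · obtain ⟨i, hi, hiJ⟩ := Finset.not_subset.1 hsub
        rw [Finset.prod_eq_zero hi (by rw [if_neg hiJ, zero_pow (Finsupp.mem_support_iff.1 hi)]), mul_zero]
    simp only [hval, mul_ite, mul_zero]
    rw [← Finset.sum_filter, ← Finset.sum_mul]
    have hbij : ∑ J ∈ Finset.univ.filter (fun J : Finset (Fin r) => e.support ⊆ J), (-1 : R) ^ J.card =
        (-1) ^ e.support.card * ∑ J ∈ (e.supportᶜ).powerset, (-1 : R) ^ J.card := by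
      rw [Finset.mul_sum]
      refine Finset.sum_bij' (fun J _ => J \ e.support) (fun J _ => J ∪ e.support) ?_ ?_ ?_ ?_ ?_
      · exact fun J _ => Finset.mem_powerset.2 fun i hi => by simp_all
      · exact fun J _ => by simp
      · exact fun J hJ => Finset.sdiff_union_of_subset (Finset.mem_filter.1 hJ).2
      · exact fun J hJ => Finset.union_sdiff_cancel_right (Finset.disjoint_left.2 fun i hi =>
          Finset.mem_compl.1 (Finset.mem_powerset.1 hJ hi))
      · intro J hJ
        rw [← pow_add, ← Finset.card_sdiff_add_card_eq_card (Finset.mem_filter.1 hJ).2, add_comm]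
    rw [hbij]
    have hsum : ∑ J ∈ (e.supportᶜ).powerset, (-1 : R) ^ J.card =
        if e.supportᶜ = ∅ then 1 else 0 := by
      have h := congrArg (Int.cast : ℤ → R) (Finset.sum_powerset_neg_one_pow_card (x := e.supportᶜ))
      push_cast at h
      exact h
    rw [hsum]
    by_cases hE : e = e₁
    · have hsupp : e.support = Finset.univ := Finset.eq_univ_iff_forall.2 fun i => by
        simp [hE, he₁']
      have hdeg : (e.sum fun _ d => d) = r := by
        rw [Finsupp.sum, hsupp, hE]
        simp [he₁']
      rw [if_pos hE, hdeg, hsupp, Finset.compl_univ, if_pos rfl, Finset.card_univ, Fintype.card_fin,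
        mul_one, mul_left_comm, ← pow_add, ← two_mul, pow_mul, neg_one_sq, one_pow, mul_one]
    · rw [if_neg hE, if_neg, mul_zero, zero_mul]
      intro hc
      apply hE
      have hu : e.support = Finset.univ := Finset.compl_eq_empty_iff _ |>.1 hc
      have hpos : ∀ i, 1 ≤ e i := fun i =>
        Nat.one_le_iff_ne_zero.2 (Finsupp.mem_support_iff.1 (hu ▸ Finset.mem_univ i))
      have hle : ∑ i, e i ≤ ∑ _i : Fin r, 1 := by
        rw [Finset.sum_const, Finset.card_univ, Fintype.card_fin, smul_eq_mul, mul_one]
        refine le_trans (le_of_eq ?_) ((MvPolynomial.le_totalDegree he).trans hP)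
        rw [Finsupp.sum, hu]
      have heq := (Finset.sum_eq_sum_iff_of_le (fun i _ => hpos i)).1
        (le_antisymm (Finset.sum_le_sum fun i _ => hpos i) hle)
      ext i
      rw [he₁', ← heq i (Finset.mem_univ i)]
  rw [Finset.sum_congr rfl key, Finset.sum_ite_eq']
  split_ifs with h
  · rfl
  · rw [MvPolynomial.notMem_support_iff.1 h]

end Groth.Agent.S14511
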