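import Groth.Statements.S14513
import Groth.Agent.VBLib.PushTrace
import Groth.Agent.VBLib.RR

set_option autoImplicit false
universe u
open CategoryTheory CategoryTheory.Limits AlgebraicGeometry
open Curves

namespace Groth.Agent.S14513

/-- Let k be an algebraically closed field and f : X → Y a finite, separable morphism of smooth
projective curves over k (X, Y integral, proper and smooth over k, of dimension one; f sends the
generic point to the generic point and the extension K(X)/K(Y) is separable). If X and Y have the
same genus g = dim_k H^1(O) and g ≥ 2, then f is an isomorphism. (The published statement also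
asserts g(X) ≥ g(Y) and that equality holds exactly when f is an isomorphism, both curves are
projective lines, or both have genus one; this row states the equality case for genus at least two.) -/
theorem result (k : Type u) [Field k] [IsAlgClosed k]
    (X : Scheme.{u}) [X.Over (Spec (CommRingCat.of k))] [IsIntegral X] [IsProper (X ↘ (Spec (CommRingCat.of k)))] [Smooth (X ↘ (Spec (CommRingCat.of k)))] (hdimX : topologicalKrullDim X = 1)
    (Y : Scheme.{u}) [Y.Over (Spec (CommRingCat.of k))] [IsIntegral Y] [IsProper (Y ↘ (Spec (CommRingCat.of k)))] [Smooth (Y ↘ (Spec (CommRingCat.of k)))] (hdimY : topologicalKrullDim Y = 1)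
    (f : X ⟶ Y) [IsFinite f] (hf : f ≫ (Y ↘ (Spec (CommRingCat.of k))) = (X ↘ (Spec (CommRingCat.of k))))
    (e : f (genericPoint X) = genericPoint Y)
    (hg : Curv2.genus k X = Curv2.genus k Y) (h2 : 2 ≤ Curv2.genus k Y) :
    letI := ((Y.presheaf.stalkSpecializes (specializes_of_eq e) ≫ f.stalkMap (genericPoint X)).hom).toAlgebra
    Algebra.IsSeparable Y.functionField X.functionField → IsIso f := by
  intro hsep
  have hY := VBLib.goodCurve_of_smooth (k := k) hdimY
  have hX := VBLib.goodCurve_of_smooth (k := k) hdimX
  haveI : IsLocallyNoetherian X := hX.isLocallyNoetherian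
  obtain ⟨hA, hn⟩ := VBLib.PushTrace.isFinLocFree_pushO f hY e
  have hd := VBLib.PushTrace.dg_pushO_nonpos f hY e hA hsep
  have he := VBLib.PushTrace.euler_pushO f hf
  have hcY := hY.euler_structure VBLib.bijective_toGlobal_of_isAlgClosed
  have hcX := hX.euler_structure VBLib.bijective_toGlobal_of_isAlgClosed
  simp only [VBLib.dg, Curv2.deg, he] at hd
  rw [hcX, hcY, hg] at hd
  refine VBLib.PushTrace.isIso_of_rk_eq_one f hA ?_
  have hn' : (1 : ℤ) ≤ VBLib.rk (VBLib.PushTrace.pushO f) := by exact_mod_cast hn
  have h2' : (2 : ℤ) ≤ Curv2.genus k Y := by exact_mod_cast h2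
  have : (VBLib.rk (VBLib.PushTrace.pushO f) : ℤ) ≤ 1 := by nlinarith
  omega


end Groth.Agent.S14513
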