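import Groth.Statements.S14514
import Groth.Agent.CycLib.FibreDim
import Groth.Agent.VarDim.Scheme
import Mathlib.AlgebraicGeometry.Noetherian

set_option autoImplicit false
universe u
open CategoryTheory CategoryTheory.Limits AlgebraicGeometry
open Variety

namespace Groth.Agent.S14514

open AlgebraicGeometry Limits TopologicalSpace

attribute [local instance] Curv2.resAlgebra

theorem residueFieldMap_comp_resMap {k : Type u} [Field k] {X Y : Scheme.{u}} [X.Over (Spec (CommRingCat.of k))]
    [Y.Over (Spec (CommRingCat.of k))] (f : X ⟶ Y)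
    (hf : f ≫ (Y ↘ (Spec (CommRingCat.of k))) = (X ↘ (Spec (CommRingCat.of k)))) (x : X) (c : k) :
    f.residueFieldMap x (Curv2.resMap k Y (f x) c) = Curv2.resMap k X x c := by
  show f.residueFieldMap x (Y.residue (f x) (Y.presheaf.germ ⊤ (f x) trivial (Coh.toGlobal (Y ↘ Spec (CommRingCat.of k)) c))) =
    X.residue x (X.presheaf.germ ⊤ x trivial (Coh.toGlobal (X ↘ Spec (CommRingCat.of k)) c))
  rw [← CommRingCat.comp_apply, Scheme.residue_residueFieldMap, CommRingCat.comp_apply]
  erw [Scheme.Hom.germ_stalkMap_apply]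
  rw [← hf]
  rfl

/-- Let k be an algebraically closed field and f : X → Y a morphism of algebraic varieties over k (X, Y
reduced, separated and of finite type over k) such that Y is irreducible and the image f(X) is dense
in Y. Then X contains an irreducible closed subset Z with dim Z = dim Y such that f(Z) is dense in
Y. -/
theorem result (k : Type u) [Field k] [IsAlgClosed k]
    (X Y : Scheme.{u}) [X.Over (Spec (CommRingCat.of k))] [Y.Over (Spec (CommRingCat.of k))]
    [IsReduced X] [IsSeparated (X ↘ (Spec (CommRingCat.of k)))] [LocallyOfFiniteType (X ↘ (Spec (CommRingCat.of k)))] [QuasiCompact (X ↘ (Spec (CommRingCat.of k)))]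
    [IsReduced Y] [IsSeparated (Y ↘ (Spec (CommRingCat.of k)))] [LocallyOfFiniteType (Y ↘ (Spec (CommRingCat.of k)))] [QuasiCompact (Y ↘ (Spec (CommRingCat.of k)))] [IrreducibleSpace Y]
    (f : X ⟶ Y) (hf : f ≫ (Y ↘ (Spec (CommRingCat.of k))) = (X ↘ (Spec (CommRingCat.of k)))) [IsDominant f] :
    ∃ Z : Set X, IsClosed Z ∧ IsIrreducible Z ∧ topologicalKrullDim ↥Z = topologicalKrullDim Y ∧
      Dense (f '' Z) := by
  haveI : QuasiCompact (Y ↘ Spec (CommRingCat.of k)) := inferInstance
  haveI : LocallyOfFiniteType (f ≫ (Y ↘ Spec (CommRingCat.of k))) := by rw [hf]; infer_instance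
  haveI : LocallyOfFiniteType f := locallyOfFiniteType_of_comp f (Y ↘ Spec (CommRingCat.of k))
  haveI : IsLocallyNoetherian X := LocallyOfFiniteType.isLocallyNoetherian (X ↘ Spec (CommRingCat.of k))
  haveI : CompactSpace X := QuasiCompact.compactSpace_of_compactSpace (X ↘ Spec (CommRingCat.of k))
  haveI : IsNoetherian X := {}
  let η := genericPoint Y
  obtain ⟨x₀, hx₀⟩ : ∃ x₀, f x₀ = η := by
    classical
    have hfin := NoetherianSpace.finite_irreducibleComponents (α := X)
    have hcov : (Set.univ : Set Y) ⊆ ⋃₀ ((fun C => closure (f '' C)) '' irreducibleComponents X) := by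
      rw [← f.denseRange.closure_range]
      refine closure_minimal ?_ ?_
      · rintro _ ⟨x, rfl⟩
        exact ⟨_, ⟨irreducibleComponent x, irreducibleComponent_mem_irreducibleComponents x, rfl⟩,
          subset_closure ⟨x, mem_irreducibleComponent, rfl⟩⟩
      · rw [Set.sUnion_eq_biUnion]
        refine (hfin.image _).isClosed_biUnion fun C hC => ?_
        obtain ⟨C', -, rfl⟩ := hC
        exact isClosed_closure
    obtain ⟨C', hC', hη⟩ := hcov (Set.mem_univ η)
    obtain ⟨C, hC, rfl⟩ := hC'
    obtain ⟨x, hx⟩ : ∃ x, IsGenericPoint x C :=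
      QuasiSober.sober hC.1 (isClosed_of_mem_irreducibleComponents C hC)
    refine ⟨x, ((hx.image f.continuous).eq ?_)⟩
    refine isGenericPoint_def.mpr (subset_antisymm ?_ ?_)
    · exact closure_minimal (Set.singleton_subset_iff.mpr hη) isClosed_closure
    · rw [genericPoint_closure]; exact Set.subset_univ _
  let z₀ : f.fiber η := hx₀ ▸ f.asFiber x₀
  letI := f.fiberOverSpecResidueField η
  haveI : LocallyOfFiniteType ((f.fiber η) ↘ Spec (CommRingCat.of (Y.residueField η))) :=
    CycLib.locallyOfFiniteType_fiberToSpecResidueField f η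
  obtain ⟨z, -, -, hz⟩ := VarDim.exists_le_dimPt_eq_zero (Y.residueField η) z₀ ⊤ trivial
  have hx : f (f.fiberι η z) = η := by
    have := Set.mem_range_self (f := f.fiberι η) z
    rwa [Scheme.Hom.range_fiberι] at this
  have ht := CycLib.trdeg_fibre f η z
  rw [hz, Nat.cast_zero] at ht
  let x : X := f.fiberι η z
  letI := (f.residueFieldMap x).hom.toAlgebra
  haveI : IsScalarTower k (Y.residueField (f x)) (X.residueField x) :=
    IsScalarTower.of_algebraMap_eq fun c => (residueFieldMap_comp_resMap f hf x c).symm
  haveI : FaithfulSMul (Y.residueField (f x)) (X.residueField x) :=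
    (faithfulSMul_iff_algebraMap_injective _ _).2 (RingHom.injective _)
  have hadd := trdeg_add_eq k (Y.residueField (f x)) (A := X.residueField x)
  rw [ht, add_zero] at hadd
  refine ⟨closure {x}, isClosed_closure, isIrreducible_singleton.closure, ?_, ?_⟩
  · rw [CycLib.topologicalKrullDim_closure, VarDim.height_eq_dimPt k,
      VarDim.topologicalKrullDim_eq_of_irreducible k, VarDim.dimPt, VarDim.dimPt, ← hadd]
    rw [show f x = genericPoint Y from hx]
    rfl
  · rw [dense_iff_closure_eq, Set.eq_univ_iff_forall]
    exact fun y => closure_mono (Set.singleton_subset_iff.mpr (show genericPoint Y ∈ f '' closure {x} from ⟨x, subset_closure rfl, hx⟩))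
      (specializes_iff_mem_closure.mp (genericPoint_specializes y))

end Groth.Agent.S14514
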