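import Groth.Statements.S14515
import Groth.Agent.S2852
import Groth.Agent.S15544
import Groth.Agent.SmoothNormal.Basic
import Groth.Agent.S9791
import Groth.Agent.RegLoc.UFD
import Groth.Agent.CurveDVR.Stalk
import Groth.Agent.FibBound.Basic
import Groth.Agent.FlatOpen.EquiDim

set_option autoImplicit false
universe u
open CategoryTheory CategoryTheory.Limits AlgebraicGeometry
open Variety TopologicalSpace

namespace Groth.Agent.S14515

/-- A proper map with connected fibres which is an open immersion near `x` is an isomorphism over a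
neighbourhood of the image of `x`. -/
theorem exists_isIso_morphismRestrict {X Y : Scheme.{u}} (f : X ⟶ Y) [IsProper f]
    (hc : ∀ y : Y, ConnectedSpace ↥(f.fiber y)) (x : X) (W : X.Opens) (hxW : x ∈ W)
    [IsOpenImmersion (W.ι ≫ f)] : ∃ V : Y.Opens, f x ∈ V ∧ IsIso (f ∣_ V) := by
  haveI := hc (f x)
  have hinj : ∀ a b : X, a ∈ W → b ∈ W → f a = f b → a = b := fun a b ha hb h => by
    have := (W.ι ≫ f).isOpenEmbedding.injective (a₁ := ⟨a, ha⟩) (a₂ := ⟨b, hb⟩) h
    exact congrArg Subtype.val this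
  have hval : ∀ z : f.fiber (f x), f (f.fiberι (f x) z) = f x := fun z => by
    have : f.fiberι (f x) z ∈ Set.range (f.fiberι (f x)) := ⟨z, rfl⟩
    rwa [Scheme.Hom.range_fiberι] at this
  have hsing : (f.fiberι (f x)) ⁻¹' (W : Set X) = {f.asFiber x} := by
    ext z
    constructor
    · intro hz
      refine (f.fiberι (f x)).isEmbedding.injective ?_
      rw [f.fiberι_asFiber]
      exact hinj _ _ hz hxW (hval z)
    · rintro rfl
      rw [Set.mem_preimage, f.fiberι_asFiber]
      exact hxW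
  have hopen : IsOpen ({f.asFiber x} : Set ↥(f.fiber (f x))) :=
    hsing ▸ W.2.preimage (f.fiberι (f x)).continuous
  have hclosed : IsClosed ({f.asFiber x} : Set ↥(f.fiber (f x))) :=
    isClosed_singleton_of_isLocallyClosed_singleton hopen.isLocallyClosed
  have huniv : ({f.asFiber x} : Set ↥(f.fiber (f x))) = Set.univ :=
    (isClopen_iff.mp ⟨hclosed, hopen⟩).resolve_left (Set.singleton_ne_empty _)
  have hfib : ∀ x' : X, f x' = f x → x' = x := fun x' hx' => by
    obtain ⟨z, rfl⟩ : x' ∈ Set.range (f.fiberι (f x)) := by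
      rw [Scheme.Hom.range_fiberι]; exact hx'
    have : z ∈ ({f.asFiber x} : Set ↥(f.fiber (f x))) := huniv ▸ Set.mem_univ z
    rw [this, f.fiberι_asFiber]
  have hVopen : IsOpen (Set.range (W.ι ≫ f) \ f '' (W : Set X)ᶜ) :=
    (W.ι ≫ f).isOpenEmbedding.isOpen_range.sdiff (f.isClosedMap _ W.2.isClosed_compl)
  let V : Y.Opens := ⟨_, hVopen⟩
  have hle : f ⁻¹ᵁ V ≤ W := fun a ha => by
    by_contra h
    exact ha.2 ⟨a, h, rfl⟩
  refine ⟨V, ⟨⟨⟨x, hxW⟩, rfl⟩, fun ⟨x', hx', he⟩ => hx' (hfib x' he ▸ hxW)⟩, ?_⟩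
  haveI : IsOpenImmersion ((f ∣_ V) ≫ V.ι) := by
    rw [morphismRestrict_ι, ← X.homOfLE_ι hle, Category.assoc]
    infer_instance
  haveI : IsOpenImmersion (f ∣_ V) := IsOpenImmersion.of_comp (f ∣_ V) V.ι
  haveI : Surjective (f ∣_ V) := ⟨fun v => by
    obtain ⟨w, hw⟩ := v.2.1
    refine ⟨⟨W.ι w, show f (W.ι w) ∈ V from (show f (W.ι w) = v.1 from hw) ▸ v.2⟩, ?_⟩
    refine Subtype.ext ?_
    rw [morphismRestrict_base]
    exact hw⟩
  exact (isIso_iff_isOpenImmersion_and_surjective _).mpr ⟨inferInstance, inferInstance⟩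

/-- Let k be an algebraically closed field and f : X → Y a proper, birational morphism over k between
smooth, irreducible varieties (X, Y integral, separated, of finite type and smooth over k; f
restricts to an isomorphism over some nonempty open subset of Y). Let Exc(f) ⊆ X be the exceptional
locus: the points x such that f restricts to an isomorphism over no open neighbourhood of f(x). Then
Exc(f) has pure codimension one: every irreducible component of Exc(f) has dimension dim X − 1. -/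
theorem result (k : Type u) [Field k] [IsAlgClosed k]
    (X Y : Scheme.{u}) [X.Over (Spec (CommRingCat.of k))] [Y.Over (Spec (CommRingCat.of k))]
    [IsIntegral X] [IsSeparated (X ↘ (Spec (CommRingCat.of k)))] [LocallyOfFiniteType (X ↘ (Spec (CommRingCat.of k)))] [QuasiCompact (X ↘ (Spec (CommRingCat.of k)))] [Smooth (X ↘ (Spec (CommRingCat.of k)))]
    [IsIntegral Y] [IsSeparated (Y ↘ (Spec (CommRingCat.of k)))] [LocallyOfFiniteType (Y ↘ (Spec (CommRingCat.of k)))] [QuasiCompact (Y ↘ (Spec (CommRingCat.of k)))] [Smooth (Y ↘ (Spec (CommRingCat.of k)))]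
    (f : X ⟶ Y) (hf : f ≫ (Y ↘ (Spec (CommRingCat.of k))) = (X ↘ (Spec (CommRingCat.of k)))) [IsProper f]
    (hbir : ∃ V : Y.Opens, (V : Set Y).Nonempty ∧ IsIso (f ∣_ V)) :
    ∀ Z ∈ irreducibleComponents ↥{x : X | ∀ V : Y.Opens, f x ∈ V → ¬ IsIso (f ∣_ V)},
      topologicalKrullDim ↥Z + 1 = topologicalKrullDim X := by
  obtain ⟨V₀, hV₀, hV₀iso⟩ := hbir
  haveI : IsLocallyNoetherian Y := LocallyOfFiniteType.isLocallyNoetherian (Y ↘ Spec (CommRingCat.of k))
  haveI : IsLocallyNoetherian X := LocallyOfFiniteType.isLocallyNoetherian (X ↘ Spec (CommRingCat.of k))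
  let U : X.Opens := f ⁻¹ᵁ V₀
  haveI hUf : IsOpenImmersion (U.ι ≫ f) := by
    rw [← morphismRestrict_ι]; infer_instance
  obtain ⟨u₀, -⟩ : ∃ u : U, True := by
    obtain ⟨v, hv⟩ := hV₀
    obtain ⟨u, -⟩ := (f ∣_ V₀).surjective ⟨v, hv⟩
    exact ⟨u, trivial⟩
  haveI : Nonempty U := ⟨u₀⟩
  haveI : IsIntegral (U : Scheme.{u}) := isIntegral_of_isOpenImmersion U.ι
  have hgX : U.ι (genericPoint U) = genericPoint X := genericPoint_eq_of_isOpenImmersion U.ι
  have hgen : f (genericPoint X) = genericPoint Y := by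
    rw [← hgX, ← genericPoint_eq_of_isOpenImmersion (U.ι ≫ f)]; rfl
  have hst : IsIso (f.stalkMap (genericPoint X)) := by
    rw [← hgX]
    have h : IsIso ((U.ι ≫ f).stalkMap (genericPoint U)) := inferInstance
    rw [Scheme.Hom.stalkMap_comp] at h
    exact @IsIso.of_isIso_comp_right _ _ _ _ _ (f.stalkMap (U.ι (genericPoint U))) (U.ι.stalkMap (genericPoint U)) inferInstance h
  have hnormY : Pi1.IsNormalScheme Y := S9791.isNormalScheme_of_smooth_field (Y ↘ Spec (CommRingCat.of k))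
  have hconn : ∀ y : Y, ConnectedSpace ↥(f.fiber y) := fun y =>
    S15544.result hnormY f hgen hst y
  have hY : ∀ y : ↥Y, UniqueFactorizationMonoid (Y.presheaf.stalk y) := fun y => by
    haveI := CurveDVR.isRegularLocalRing_stalk (Y ↘ Spec (CommRingCat.of k)) y
    exact RegLoc.UFD.uniqueFactorizationMonoid _
  set T : Set X := {x : X | ∀ V : Y.Opens, f x ∈ V → ¬ IsIso (f ∣_ V)} with hT
  have hTiff : ∀ x : X, x ∈ T ↔ ¬ ∃ W : X.Opens, x ∈ W ∧ IsOpenImmersion (W.ι ≫ f) := fun x => by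
    constructor
    · rintro hx ⟨W, hxW, hW⟩
      obtain ⟨V, hV, hVi⟩ := exists_isIso_morphismRestrict f hconn x W hxW
      exact hx V hV hVi
    · intro hx V hV hVi
      refine hx ⟨f ⁻¹ᵁ V, hV, ?_⟩
      rw [← morphismRestrict_ι]
      infer_instance
  have hTc : IsClosed T := by
    rw [← isOpen_compl_iff, isOpen_iff_forall_mem_open]
    intro x hx
    obtain ⟨W, hxW, hW⟩ := not_not.mp (mt (hTiff x).mpr hx)
    exact ⟨W, fun a ha h => (hTiff a).mp h ⟨W, ha, hW⟩, W.2, hxW⟩
  intro Z hZ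
  have hZc : IsClosed Z := isClosed_of_mem_irreducibleComponents Z hZ
  have hZ'c : IsClosed (Subtype.val '' Z) := hTc.isClosedEmbedding_subtypeVal.isClosedMap _ hZc
  have hZ'i : IsIrreducible (Subtype.val '' Z) := hZ.1.image _ continuous_subtype_val.continuousOn
  obtain ⟨ξ, hξ⟩ := QuasiSober.sober hZ'i hZ'c
  obtain ⟨ξ', hξ'Z, hξ'⟩ := hξ.mem
  have hξT : ξ ∈ T := hξ' ▸ ξ'.2
  have hmax : ∀ η : X, (¬ ∃ W : X.Opens, η ∈ W ∧ IsOpenImmersion (W.ι ≫ f)) → η ⤳ ξ → η = ξ := by
    intro η hη hηξ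
    have hηT : η ∈ T := (hTiff η).mpr hη
    have hle : Z ⊆ closure ({⟨η, hηT⟩} : Set T) := fun z hz => by
      rw [← specializes_iff_mem_closure, subtype_specializes_iff]
      exact hηξ.trans (hξ.specializes ⟨z, hz, rfl⟩)
    have heq := hle.antisymm (hZ.2 isIrreducible_singleton.closure hle)
    have hηZ : η ∈ Subtype.val '' Z := ⟨⟨η, hηT⟩, heq ▸ subset_closure rfl, rfl⟩
    exact (hηξ.antisymm (hξ.specializes hηZ)).eq
  have hdim := S2852.result f hY ⟨U, ⟨u₀.1, u₀.2⟩, hUf⟩ ξ ((hTiff ξ).mp hξT) hmax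
  have hc : ∀ η : X, FlatOpen.EquiDim.Max η →
      VarDim.dimPt k X η = VarDim.dimPt k X (genericPoint X) := fun η hη => by
    rw [hη (genericPoint X) (genericPoint_specializes η)]
  obtain ⟨n, hn, hnc, -⟩ := FlatOpen.EquiDim.coheight_add_dimPt k hc ξ
  have hn1 : n = 1 := by
    rw [ringKrullDim_stalk_eq_coheight, hn] at hdim
    exact_mod_cast hdim
  have hZdim : topologicalKrullDim ↥Z = (VarDim.dimPt k X ξ : WithBot ℕ∞) := by
    rw [← FibBound.topDim_closure_singleton k ξ, hξ]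
    exact IsHomeomorph.topologicalKrullDim_eq _
      (Topology.IsEmbedding.subtypeVal.homeomorphImage Z).isHomeomorph
  rw [hZdim, VarDim.topologicalKrullDim_eq_of_irreducible k, ← hnc, hn1]
  push_cast
  rw [add_comm]

end Groth.Agent.S14515
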