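import Groth.Statements.S14518
import Groth.Agent.BigVol.HopfLemma
import Groth.Agent.KFlat.StalkTensor
import Groth.Agent.KFlat.TensorLocFree
import Groth.Agent.EulerChar.Curve
import Groth.Agent.ProperFin.Descend
import Groth.Agent.Props.QProj
import Groth.Agent.VBLib.Basic
-- import your own Groth.Agent.* helpers here

set_option autoImplicit false
set_option linter.style.haveILetI false
universe u
open CategoryTheory CategoryTheory.Limits AlgebraicGeometry
open Variety

namespace Groth.Agent.S14518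
open Groth.Agent.PullStalk.Sky Groth.Agent.KFlat.StalkTensor Groth.Agent.BigVol

theorem eq_zero_of_germ_generic {X : Scheme.{u}} [IsIntegral X] {L : X.Modules} (hL : FlatMod.IsFinLocFree L)
    {U : X.Opens} (hξ : genericPoint X ∈ U) (m : Γ(L, U)) (h : germM L U (genericPoint X) hξ m = 0) : m = 0 := by
  choose V n hxV φ using fun x : U => hL x.1
  refine TopCat.Sheaf.eq_of_locally_eq' (⟨L.presheaf, L.isSheaf⟩ : TopCat.Sheaf Ab X)
    (fun x : U => U ⊓ V x) U (fun x => homOfLE inf_le_left)
    (fun x hx => TopologicalSpace.Opens.mem_iSup.mpr ⟨⟨x, hx⟩, hx, hxV ⟨x, hx⟩⟩) _ _ fun x => ?_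
  refine Eq.trans ?_ (map_zero (L.presheaf.map (homOfLE inf_le_left).op).hom).symm
  obtain ⟨e, he⟩ := VBLib.exists_isFrame_of_iso (φ x).some
  obtain ⟨a, ha⟩ := (he (U ⊓ V x) inf_le_right).2 (L.presheaf.map (homOfLE inf_le_left).op m)
  refine ha.symm.trans ?_
  have hξ' : genericPoint X ∈ U ⊓ V x := VBLib.genericPoint_mem_of_mem (x := x.1) ⟨x.2, hxV x⟩
  haveI : Nonempty ((U ⊓ V x : X.Opens) : Scheme.{u}) := ⟨⟨x.1, x.2, hxV x⟩⟩
  have h0 : LFFrame.stalkComb L e (genericPoint X) hξ'.2
      (fun i => X.presheaf.germ (U ⊓ V x) (genericPoint X) hξ' (a i)) = 0 := by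
    refine Eq.trans ?_ (Eq.trans (L.presheaf.germ_res_apply (homOfLE inf_le_left) _ hξ' m) h)
    refine Eq.trans ?_ (congrArg (L.presheaf.germ (U ⊓ V x) _ hξ') ha)
    exact (LFFrame.germ_comb L e inf_le_right a _ hξ').symm
  have ha0 : a = 0 := funext fun i => by
    refine (germ_injective_of_isIntegral X (genericPoint X) hξ') ?_
    refine Eq.trans ?_ (map_zero _).symm
    exact congrFun ((he.stalkComb_bijective (genericPoint X) hξ'.2).1 (h0.trans (map_zero _).symm)) i
  simp [ha0, LFFrame.comb]

/-- The scalars at the generic point. -/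
noncomputable def genScal (k : Type u) [Field k] (X : Scheme.{u}) [X.Over (Spec (CommRingCat.of k))]
    [IsIntegral X] : k →+* X.functionField :=
  (X.presheaf.germ ⊤ (genericPoint X) trivial).hom.comp
    (Coh.toGlobal (X ↘ Spec (CommRingCat.of k)))

theorem germ_h0Sec_smul {k : Type u} [Field k] {X : Scheme.{u}} [X.Over (Spec (CommRingCat.of k))]
    [IsIntegral X] (M : X.Modules) (c : k) (x : Coh.HH X M 0) :
    germM M ⊤ (genericPoint X) trivial (ProperFin.h0Sec M (c • x)) =
      (show X.presheaf.stalk (genericPoint X) from genScal k X c) •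
        germM M ⊤ (genericPoint X) trivial (ProperFin.h0Sec M x) := by
  rw [show c • x = Coh.toGlobal (X ↘ Spec (CommRingCat.of k)) c • x from rfl, ProperFin.h0Sec_smul]
  exact germM_smul _ ⊤ _ trivial _ _


/-- Let k be an algebraically closed field, X an irreducible variety over k, taken here complete (X
integral and proper over k, so that spaces of global sections are finite-dimensional), and E_1, E_2
vector bundles (finite locally free O_X-modules) on X with H^0(X, E_1) ≠ 0 and H^0(X, E_2) ≠ 0. Then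
dim_k H^0(X, E_1 ⊗ E_2) ≥ dim_k H^0(X, E_1) + dim_k H^0(X, E_2) − 1. (The published statement allows
any irreducible variety; for non-complete X the spaces of sections may be infinite-dimensional and
the inequality carries no content, so X is taken complete here.) -/
theorem result (k : Type u) [Field k] [IsAlgClosed k]
    (X : Scheme.{u}) [X.Over (Spec (CommRingCat.of k))] [IsIntegral X] [IsProper (X ↘ (Spec (CommRingCat.of k)))]
    (E₁ E₂ : X.Modules) (h₁ : FlatMod.IsFinLocFree E₁) (h₂ : FlatMod.IsFinLocFree E₂)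
    [Nontrivial (Coh.HH X E₁ 0)] [Nontrivial (Coh.HH X E₂ 0)] :
    Module.finrank k (Coh.HH X E₁ 0) + Module.finrank k (Coh.HH X E₂ 0) ≤
      Module.finrank k (Coh.HH X (CohB1.tensorMod E₁ E₂) 0) + 1 := by
  classical
  letI : Field (X.presheaf.stalk (genericPoint X)) := inferInstanceAs (Field X.functionField)
  letI : Algebra k (X.presheaf.stalk (genericPoint X)) := (genScal k X).toAlgebra
  haveI := EulerChar.isNoetherian k (X := X)
  have c₁ := VBLib.isCoh_of_isFinLocFree h₁
  have c₂ := VBLib.isCoh_of_isFinLocFree h₂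
  haveI := c₁.1
  haveI := c₂.1
  obtain ⟨-, f₁⟩ := Props.QProj.free_stalk E₁ h₁ (genericPoint X)
  obtain ⟨-, f₂⟩ := Props.QProj.free_stalk E₂ h₂ (genericPoint X)
  haveI := f₁
  haveI := f₂
  haveI := EulerChar.finite_HH k _ c₁ 0
  haveI := EulerChar.finite_HH k _ c₂ 0
  haveI := EulerChar.finite_HH k _ (VBLib.isCoh_of_isFinLocFree
    (KFlat.TensorLocFree.isFinLocFree_tensM h₁ h₂) : Coh.IsCoh (CohB1.tensorMod E₁ E₂)) 0
  let η := genericPoint X
  let B₁ := Module.finBasis (X.presheaf.stalk η) (E₁.presheaf.stalk η)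
  let B₂ := Module.finBasis (X.presheaf.stalk η) (E₂.presheaf.stalk η)
  let φ : ∀ (E : X.Modules) {ι : Type} (B : Module.Basis ι (X.presheaf.stalk η) (E.presheaf.stalk η)),
      Coh.HH X E 0 →ₗ[k] ι → X.presheaf.stalk η := fun E {ι} B =>
    { toFun := fun x i => B.repr (germM E ⊤ η trivial (ProperFin.h0Sec E x)) i
      map_add' := fun x y => funext fun i => by
        rw [map_add]
        refine (congrArg (fun z => B.repr z i) (map_add (E.presheaf.germ ⊤ η trivial).hom _ _)).trans ?_
        rw [map_add, Finsupp.add_apply]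
        rfl
      map_smul' := fun c x => funext fun i => by
        rw [germ_h0Sec_smul, map_smul, Finsupp.smul_apply]
        rfl }
  have hinj : ∀ (E : X.Modules) (hE : FlatMod.IsFinLocFree E) {ι : Type}
      (B : Module.Basis ι (X.presheaf.stalk η) (E.presheaf.stalk η)), Function.Injective (φ E B) := by
    intro E hE ι B
    refine (injective_iff_map_eq_zero _).mpr fun x hx => (ProperFin.h0Sec E).injective ?_
    rw [map_zero]
    exact eq_zero_of_germ_generic hE (U := ⊤) trivial _
      (B.repr.injective ((Finsupp.ext fun i => congrFun hx i).trans (map_zero B.repr).symm))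
  let B := (B₁.tensorProduct B₂).map (stalkTensorEquiv E₁ E₂ η).symm
  let χ : Coh.HH X (CohB1.tensorMod E₁ E₂) 0 →ₗ[k]
      Fin (Module.finrank (X.presheaf.stalk η) (E₁.presheaf.stalk η)) →
      Fin (Module.finrank (X.presheaf.stalk η) (E₂.presheaf.stalk η)) → X.presheaf.stalk η :=
    (LinearEquiv.curry k (X.presheaf.stalk η) _ _).toLinearMap.comp (φ (CohB1.tensorMod E₁ E₂) B)
  refine HopfLemma.finrank_add_le_of_coord (φ E₁ B₁) (φ E₂ B₂) χ (hinj _ h₁ B₁) (hinj _ h₂ B₂) fun v w => ?_
  refine ⟨(ProperFin.h0Sec (CohB1.tensorMod E₁ E₂)).symm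
    (tmulSec ⊤ (ProperFin.h0Sec E₁ v) (ProperFin.h0Sec E₂ w)), fun i j => ?_⟩
  show B.repr (germM _ ⊤ η trivial (ProperFin.h0Sec _ ((ProperFin.h0Sec _).symm _))) (i, j) = _
  rw [AddEquiv.apply_symm_apply, Module.Basis.map_repr, LinearEquiv.trans_apply, LinearEquiv.symm_symm,
    show stalkTensorEquiv E₁ E₂ η (germM _ ⊤ η trivial (tmulSec ⊤ _ _)) = _ from
      toTensor_tgerm ⊤ trivial _ _, Module.Basis.tensorProduct_repr_tmul_apply, smul_eq_mul, mul_comm]
  rfl


end Groth.Agent.S14518
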