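import Groth.Statements.S4809
import Groth.Agent.BiratZMT.Local
import Mathlib.AlgebraicGeometry.Morphisms.LocalIso

set_option autoImplicit false
universe u
open CategoryTheory AlgebraicGeometry
open Lim8

namespace Groth.Agent.S4809

/-- Let Y be an integral normal scheme (every local ring integrally closed), X an integral scheme, and f
: X ⟶ Y a locally quasi-finite morphism (locally of finite type with discrete fibres) which is
birational: f maps the generic point of X to that of Y and its stalk map at the generic point of X,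
the induced homomorphism of function fields, is an isomorphism. Then f is a local isomorphism, and f
is an open immersion as soon as it is separated. -/
theorem result {X Y : Scheme.{u}} [IsIntegral X] [IsIntegral Y]
    (hN : ∀ y : Y, IsIntegrallyClosed (Y.presheaf.stalk y)) (f : X ⟶ Y) [LocallyQuasiFinite f]
    [LocallyOfFiniteType f] (hgen : f (genericPoint X) = genericPoint Y)
    (hbir : IsIso (f.stalkMap (genericPoint X))) :
    IsLocalIso f ∧ (IsSeparated f → IsOpenImmersion f) := by
  have key : ∀ x : X, ∃ O : X.Opens, x ∈ O ∧ ∀ z ∈ O, f z = f x → z = x := by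
    intro x
    have hd : _root_.IsDiscrete (f ⁻¹' {f x}) := f.isDiscrete_preimage_singleton _
    haveI := hd.1
    obtain ⟨O, hO, hO'⟩ := isOpen_induced_iff.1 (isOpen_discrete ({⟨x, rfl⟩} : Set ↥(f ⁻¹' {f x})))
    refine ⟨⟨O, hO⟩, (Set.ext_iff.1 hO' ⟨x, rfl⟩).2 rfl, fun z hz hzx => ?_⟩
    exact congrArg Subtype.val ((Set.ext_iff.1 hO' ⟨z, hzx⟩).1 hz)
  refine ⟨⟨fun x => ?_⟩, fun hsep => ?_⟩
  · obtain ⟨O, hxO, hO⟩ := key x
    exact BiratZMT.exists_isOpenImmersion f hgen hbir x (hN _) hxO hO
  · have hU : ∀ x : X, ∃ U : Y.Opens, f x ∈ U ∧ IsIso (f ∣_ U) := fun x => by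
      obtain ⟨O, hxO, hO⟩ := key x
      exact BiratZMT.exists_isIso_restrict f hgen hbir x (hN _) hxO hO
    choose U hxU hU using hU
    refine IsZariskiLocalAtTarget.of_range_subset_iSup (P := @IsOpenImmersion) U ?_ fun x => ?_
    · rintro _ ⟨x, rfl⟩
      exact TopologicalSpace.Opens.mem_iSup.2 ⟨x, hxU x⟩
    · haveI := hU x
      infer_instance

end Groth.Agent.S4809
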