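import Groth.Statements.S14519
import Groth.Agent.S4809
import Groth.Agent.VarDim.Curve
import Groth.Agent.CurveCoh.Integral
import Groth.Agent.FFCurve.P1Rank

set_option autoImplicit false
universe u
open CategoryTheory CategoryTheory.Limits AlgebraicGeometry
open Curves

set_option linter.style.haveILetI false
namespace Groth.Agent.S14519

/-- Let k be an algebraically closed field and f : X → Y a birational morphism over k between smooth
curves (X, Y integral, separated, of finite type and smooth over k, of dimension one; f sends the
generic point of X to that of Y and the induced map of function fields K(Y) → K(X) is bijective).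
Then f is an open immersion. -/
theorem result (k : Type u) [Field k] [IsAlgClosed k]
    (X Y : Scheme.{u}) [X.Over (Spec (CommRingCat.of k))] [Y.Over (Spec (CommRingCat.of k))]
    [IsIntegral X] [IsSeparated (X ↘ (Spec (CommRingCat.of k)))] [LocallyOfFiniteType (X ↘ (Spec (CommRingCat.of k)))] [QuasiCompact (X ↘ (Spec (CommRingCat.of k)))] [Smooth (X ↘ (Spec (CommRingCat.of k)))] (hdimX : topologicalKrullDim X = 1)
    [IsIntegral Y] [IsSeparated (Y ↘ (Spec (CommRingCat.of k)))] [LocallyOfFiniteType (Y ↘ (Spec (CommRingCat.of k)))] [QuasiCompact (Y ↘ (Spec (CommRingCat.of k)))] [Smooth (Y ↘ (Spec (CommRingCat.of k)))] (hdimY : topologicalKrullDim Y = 1)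
    (f : X ⟶ Y) (hf : f ≫ (Y ↘ (Spec (CommRingCat.of k))) = (X ↘ (Spec (CommRingCat.of k))))
    (e : f (genericPoint X) = genericPoint Y)
    (hbir : Function.Bijective (Y.presheaf.stalkSpecializes (specializes_of_eq e) ≫ f.stalkMap (genericPoint X)).hom) :
    IsOpenImmersion f := by
  haveI : LocallyOfFiniteType (f ≫ (Y ↘ Spec (CommRingCat.of k))) := by rw [hf]; infer_instance
  haveI : LocallyOfFiniteType f := locallyOfFiniteType_of_comp f (Y ↘ Spec (CommRingCat.of k))
  haveI : IsSeparated (f ≫ (Y ↘ Spec (CommRingCat.of k))) := by rw [hf]; infer_instance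
  haveI : IsSeparated f := IsSeparated.of_comp f (Y ↘ Spec (CommRingCat.of k))
  haveI : JacobsonSpace X := LocallyOfFiniteType.jacobsonSpace (X ↘ Spec (CommRingCat.of k))
  haveI : JacobsonSpace Y := LocallyOfFiniteType.jacobsonSpace (Y ↘ Spec (CommRingCat.of k))
  haveI : CompactSpace X := QuasiCompact.compactSpace_of_compactSpace (X ↘ Spec (CommRingCat.of k))
  have hN : ∀ y : Y, IsIntegrallyClosed (Y.presheaf.stalk y) := fun y => by
    haveI := CurveCoh.isDomain_stalk k Y y
    haveI := CurveCoh.valuationRing_stalk k Y hdimY y
    infer_instance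
  have hbir' : IsIso (f.stalkMap (genericPoint X)) := by
    haveI : IsIso (Y.presheaf.stalkSpecializes (specializes_of_eq e) ≫ f.stalkMap (genericPoint X)) :=
      (ConcreteCategory.isIso_iff_bijective _).2 hbir
    haveI : IsIso (Y.presheaf.stalkSpecializes (specializes_of_eq e)) :=
      (Y.presheaf.stalkCongr (Inseparable.of_eq e)).isIso_inv
    exact IsIso.of_isIso_comp_left (Y.presheaf.stalkSpecializes (specializes_of_eq e)) _
  have hnc : ¬ IsClosed ({genericPoint Y} : Set Y) := fun h => by
    haveI : Subsingleton Y := ⟨fun a b => by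
      have key : ∀ c : Y, c = genericPoint Y := fun c => (genericPoint_specializes c).mem_closed h rfl
      rw [key a, key b]⟩
    have h0 : topologicalKrullDim Y ≤ 0 := topologicalKrullDim_zero_of_discreteTopology Y
    rw [hdimY] at h0
    exact absurd h0 (by norm_num)
  have hcl : ∀ x : X, x ≠ genericPoint X → IsClosed ({f x} : Set Y) := fun x hx =>
    f.closePoints_subset_preimage_closedPoints
      (VarDim.isClosed_singleton_of_ne_genericPoint k hdimX hx)
  have hfin : ∀ y : Y, (f ⁻¹' {y}).Finite := fun y => by
    by_cases hy : y = genericPoint Y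
    · refine (Set.finite_singleton (genericPoint X)).subset fun x hx => ?_
      by_contra hne
      have := hcl x hne
      rw [show f x = y from hx, hy] at this
      exact hnc this
    · exact VarDim.finite_of_isClosed k hdimX
        ((VarDim.isClosed_singleton_of_ne_genericPoint k hdimY hy).preimage f.continuous)
        fun h => hy (h.symm.trans e)
  haveI : LocallyQuasiFinite f := LocallyQuasiFinite.of_finite_preimage_singleton f hfin
  exact (Groth.Agent.S4809.result hN f e hbir').2 inferInstance

end Groth.Agent.S14519
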