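import Groth.Statements.S1452
import Groth.Agent.EtStruct.UnibranchGlobal
import Groth.Agent.AlgSpCov.Instances
-- import your own Groth.Agent.* helpers here

set_option autoImplicit false
universe u
open FlatMor

namespace Groth.Agent.S1452

set_option backward.isDefEq.respectTransparency false in

open AlgebraicGeometry CategoryTheory Limits in
/-- Let f : X → Y and g : Y → Z with Y integral and the local ring of Y at y = f x geometrically
unibranch; assume g ∘ f is étale on an open neighbourhood of x and some generization of x maps to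
the generic point of Y. Then f is étale on an open neighbourhood of x and g is étale on an open
neighbourhood of y. -/
theorem result {X Y Z : Scheme.{u}} (f : X ⟶ Y) (g : Y ⟶ Z) [IsIntegral Y] (x : X)
    (hY : CAlg2.IsGeomUnibranch (Y.presheaf.stalk (f x))) (het : ∃ U : X.Opens, x ∈ U ∧ Etale (U.ι ≫ f ≫ g))
    (hsp : ∃ x' : X, x' ⤳ x ∧ f x' = genericPoint ↑Y) :
    (∃ U : X.Opens, x ∈ U ∧ Etale (U.ι ≫ f)) ∧ ∃ V : Y.Opens, f x ∈ V ∧ Etale (V.ι ≫ g) := by
  obtain ⟨U, hxU, hU⟩ := het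
  have hft : LocallyOfFiniteType (U.ι ≫ f) := by
    have : LocallyOfFiniteType ((U.ι ≫ f) ≫ g) := by rw [Category.assoc]; infer_instance
    exact locallyOfFiniteType_of_comp (U.ι ≫ f) g
  have hfu : FormallyUnramified (U.ι ≫ f) := by
    have : FormallyUnramified ((U.ι ≫ f) ≫ g) := by rw [Category.assoc]; infer_instance
    exact FormallyUnramified.of_comp (U.ι ≫ f) g
  obtain ⟨x', hx', hη⟩ := hsp
  obtain ⟨N, hxN, hN | hN⟩ := EtStruct.exists_nhd_etale_or_disjoint (U.ι ≫ f) ⟨x, hxU⟩ hY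
    (FormallyUnramified.stalkMap _ _)
  swap
  · have hxU' : x' ∈ U := hx'.mem_open U.2 hxU
    refine absurd hη (hN ⟨x', hxU'⟩ ?_)
    have h : (⟨x', hxU'⟩ : U.toScheme) ⤳ ⟨x, hxU⟩ := by
      rw [← U.ι.isEmbedding.isInducing.specializes_iff]; exact hx'
    exact h.mem_open N.2 hxN
  let W : X.Opens := U.ι ''ᵁ N
  have hWU : W ≤ U := by rintro _ ⟨z, -, rfl⟩; exact z.2
  have hxW : x ∈ W := ⟨⟨x, hxU⟩, hxN, rfl⟩
  have hWf : Etale (W.ι ≫ f) := by
    rw [show W.ι ≫ f = (U.ι.isoImage N).inv ≫ N.ι ≫ U.ι ≫ f by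
      rw [Scheme.Hom.isoImage_inv_ι_assoc]]
    infer_instance
  have hWgf : Etale (W.ι ≫ f ≫ g) := by
    rw [← X.homOfLE_ι hWU, Category.assoc]
    infer_instance
  let V : Y.Opens := ⟨Set.range (W.ι ≫ f), (W.ι ≫ f).isOpenMap.isOpen_range⟩
  refine ⟨⟨W, hxW, hWf⟩, V, ⟨⟨x, hxW⟩, rfl⟩, ?_⟩
  let e : W.toScheme ⟶ V.toScheme := IsOpenImmersion.lift V.ι (W.ι ≫ f) (by
    rw [Scheme.Opens.range_ι]; rfl)
  have he : e ≫ V.ι = W.ι ≫ f := IsOpenImmersion.lift_fac _ _ _
  have : Etale (e ≫ V.ι) := he ▸ hWf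
  have : Etale e := Etale.of_comp e V.ι
  have : Surjective e := ⟨fun v ↦ by
    obtain ⟨w, hw⟩ := v.2
    exact ⟨w, V.ι.isOpenEmbedding.injective ((congr($he w)).trans hw)⟩⟩
  refine AlgSpCov.etale_of_comp_smooth e (V.ι ≫ g) ?_
  rw [reassoc_of% he]
  exact hWgf

end Groth.Agent.S1452
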