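import Groth.Statements.S14522
import Groth.Agent.IntProd70.Rules
import Groth.Agent.NegVan.MulTheta
import Groth.Agent.IdealSh.IdealMod

set_option autoImplicit false
universe u
open CategoryTheory CategoryTheory.Limits AlgebraicGeometry
open Variety

namespace Groth.Agent.S14522
open Groth.Agent.QCoh Groth.Agent.Props.GenLocus Groth.Agent.Props.GenTensor Groth.Agent.ProjTwist
open Groth.Agent.PullStalk.Sky Groth.Agent.PullStalk.Exact Groth.Agent.NegVan Opposite MonoidalCategory
open scoped TensorProduct

set_option linter.style.haveILetI false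
set_option backward.isDefEq.respectTransparency false
set_option backward.isDefEq.respectTransparency.types false

variable {X : Scheme.{u}}

/-- `G ⊗ φ`. -/
noncomputable def mapR (G : X.Modules) {N N' : X.Modules} (φ : N ⟶ N') :
    CohB1.tensorMod G N ⟶ CohB1.tensorMod G N' := (DCoh.tensorBi.obj G).map φ

theorem map_tmul (G : X.Modules) {N N' : X.Modules} (φ : N ⟶ N') {U : X.Opens} (g : Γ(G, U))
    (a : Γ(N, U)) : (mapR G φ).app U (tmul g a) = tmul g (φ.app U a) := by
  have h := (PresheafOfModules.sheafificationAdjunction (𝟙 X.ringCatSheaf.obj)).unit.naturality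
    (CohB1.toPMod G ◁ (show CohB1.toPMod N ⟶ CohB1.toPMod N' from φ.val))
  exact congr((PresheafOfModules.Hom.app $h (op U)).hom (g ⊗ₜ[Γ(X, U)] a)).symm

theorem map_mulθ_one (G : X.Modules) {N : X.Modules} (θ : N ⟶ Coh.structureModule X) :
    mapR G θ ≫ mulθ (𝟙 (Coh.structureModule X)) G = mulθ θ G := by
  refine hom_ext_tmul _ _ fun U g a => ?_
  exact (congrArg ((mulθ (𝟙 (Coh.structureModule X)) G).app U) (map_tmul G θ g a)).trans
    ((mulθ_tmul (𝟙 (Coh.structureModule X)) G g (θ.app U a)).trans (mulθ_tmul θ G g a).symm)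

theorem isUnitAt_idealModι (D : X.IdealSheafData) {x : X} (hx : x ∉ (D.support : Set X)) :
    IsUnitAt (ClSub.idealModι D) x := by
  intro t
  have h : x ∉ CohB1.support (ClSub.quotMod D) := fun h => hx (EulerChar.support_quotMod_subset D h)
  haveI : Subsingleton ((ClSub.quotMod D).presheaf.stalk x) := not_not.1 h
  exact ((stalk_exact (EulerChar.shortExact_ideal D) x).2.1 t).1
    (@Subsingleton.elim ((ClSub.quotMod D).presheaf.stalk x) _ _ _)

variable [IsLocallyNoetherian X]

theorem shortExact_tens (D : X.IdealSheafData) (hI : PicF.IsInvertible (ClSub.idealMod D))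
    (F : X.Modules) [F.IsQuasicoherent] (h : ∀ x ∈ D.support, ¬ Curv2.IsAssPoint F x) :
    ((ShortComplex.mk (ClSub.idealModι D) (ClSub.toSubscheme D) (kernel.condition _)).map
      (DCoh.tensorBi.obj F)).ShortExact := by
  have hS := EulerChar.shortExact_ideal D
  let T := (DCoh.tensorBi (X := X)).obj F
  haveI : PreservesColimitsOfSize.{0, 0} T := KFlat.TensorLocFree.preservesColimits_tensorBi_obj F
  haveI : PreservesFiniteColimits T := PreservesColimitsOfSize.preservesFiniteColimits T
  haveI := hS.epi_g
  haveI : Mono (mulθ (ClSub.idealModι D) F) :=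
    mono_mulθ hI fun x hx => isUnitAt_idealModι D fun hD => h x hD hx
  haveI hm : Mono (mapR F (ClSub.idealModι D)) := mono_of_mono_fac (map_mulθ_one F (ClSub.idealModι D))
  exact
    { exact := ShortComplex.exact_of_g_is_cokernel _
        (CokernelCofork.mapIsColimit (CokernelCofork.ofπ _ (kernel.condition _)) hS.gIsCokernel T)
      mono_f := hm
      epi_g := inferInstanceAs (Epi (T.map (ClSub.toSubscheme D))) }

omit [IsLocallyNoetherian X] in
/-- The recursion of `intE` at the last slot. -/
theorem intE_snoc (k : Type u) [Field k] [X.Over (Spec (CommRingCat.of k))]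
    [IsProper (X ↘ Spec (CommRingCat.of k))] {r : ℕ} (M : Fin r → X.Modules)
    (A G : X.Modules) :
    Snapper.intE k (Fin.snoc M A) G = Snapper.intE k M G - Snapper.intE k M (CohB1.tensorMod A G) := by
  classical
  unfold Snapper.intE
  have e0 : ∀ s : Finset (Fin r), Fin.last r ∉ s.map Fin.castSuccEmb := fun s h => by
    obtain ⟨j, -, hj⟩ := Finset.mem_map.1 h
    exact (Fin.castSucc_lt_last j).ne hj
  have hsort : ∀ s : Finset (Fin r),
      (s.map Fin.castSuccEmb).sort (· ≤ ·) = (s.sort (· ≤ ·)).map Fin.castSucc := fun s => by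
    refine List.Perm.eq_of_pairwise' (r := (· ≤ ·)) (Finset.pairwise_sort _ _) ?_ ?_
    · exact (Finset.pairwise_sort s _).map _ fun a b h => Fin.castSucc_le_castSucc_iff.2 h
    · refine (List.perm_ext_iff_of_nodup (Finset.sort_nodup _ _)
        ((Finset.sort_nodup s _).map (Fin.castSucc_injective _))).2 fun a => ?_
      simp
  have hsort' : ∀ s : Finset (Fin r), (insert (Fin.last r) (s.map Fin.castSuccEmb)).sort (· ≤ ·) =
      (s.sort (· ≤ ·)).map Fin.castSucc ++ [Fin.last r] := fun s => by
    refine List.Perm.eq_of_pairwise' (r := (· ≤ ·)) (Finset.pairwise_sort _ _) ?_ ?_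
    · refine List.pairwise_append.2 ⟨(Finset.pairwise_sort s _).map _ fun a b h =>
        Fin.castSucc_le_castSucc_iff.2 h, List.pairwise_singleton _ _, fun a _ b hb => ?_⟩
      rw [List.mem_singleton.1 hb]
      exact Fin.le_last a
    · refine (List.perm_ext_iff_of_nodup (Finset.sort_nodup _ _) ?_).2 fun a => ?_
      · exact List.nodup_append.2 ⟨(Finset.sort_nodup s _).map (Fin.castSucc_injective _),
          List.nodup_singleton _, fun a ha b hb hab => by
            obtain ⟨j, -, rfl⟩ := List.mem_map.1 ha
            rw [List.mem_singleton.1 hb] at hab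
            exact (Fin.castSucc_lt_last j).ne hab⟩
      · simp [or_comm]
  have hu : (Finset.univ : Finset (Fin (r + 1))) =
      insert (Fin.last r) ((Finset.univ : Finset (Fin r)).map Fin.castSuccEmb) := by
    ext a
    induction a using Fin.lastCases <;> simp
  rw [← Finset.powerset_univ, hu, Finset.sum_powerset_insert (e0 _), Finset.map_eq_image,
    Finset.powerset_image, Finset.sum_image (by
      intro a _ b _ h
      exact Finset.image_injective Fin.castSuccEmb.injective h),
    Finset.sum_image (by
      intro a _ b _ h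
      exact Finset.image_injective Fin.castSuccEmb.injective h),
    Finset.powerset_univ, sub_eq_add_neg, ← Finset.sum_neg_distrib]
  refine congrArg₂ (· + ·) (Finset.sum_congr rfl fun s _ => ?_) (Finset.sum_congr rfl fun s _ => ?_)
  · rw [← Finset.map_eq_image, Finset.card_map, hsort, List.map_map]
    simp [Function.comp_def]
  · obtain ⟨e⟩ := IntProd70.tensorList_concat ((s.sort (· ≤ ·)).map M) A
    rw [← Finset.map_eq_image, Finset.card_insert_of_notMem (e0 s), Finset.card_map, hsort',
      List.map_append, List.map_map, List.map_singleton, Fin.snoc_last, pow_succ, mul_neg_one,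
      neg_mul, neg_inj]
    simp only [Function.comp_def, Fin.snoc_castSucc]
    exact congrArg _ (EulerChar.euler_iso k (tensCongr e (Iso.refl G) ≪≫ tensAssoc _ A G))

/-- Let k be an algebraically closed field, X an irreducible complete variety over k (integral and
proper over k) of dimension at most d, L_1, …, L_r line bundles with tensor inverses M_1, …, M_r, F
a coherent O_X-module with dim Supp F ≤ r + 1, and D an effective Cartier divisor on X (a
quasi-coherent ideal I_D locally generated by one nonzerodivisor) whose support contains no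
associated point of F. Then (L_1⋯L_r·O_X(D); F) = (L_1⋯L_r; F ⊗ O_D): with intersection numbers
written as the alternating Euler-characteristic sums in the inverses (the prelude's FGA.intNum), the
(r+1)-fold number of F in M_1, …, M_r, I_D equals the r-fold number of F ⊗ O_D in M_1, …, M_r (for r
= 0 the right side is χ(F ⊗ O_D) = h^0(F ⊗ O_D)). -/
theorem result (k : Type u) [Field k] [IsAlgClosed k]
    (X : Scheme.{u}) [X.Over (Spec (CommRingCat.of k))] [IsIntegral X] [IsProper (X ↘ (Spec (CommRingCat.of k)))] (d : ℕ) (hd : topologicalKrullDim X ≤ d)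
    {r : ℕ} (M : Fin r → X.Modules) (hM : ∀ i, PicF.IsInvertible (M i))
    (F : X.Modules) (hF : Coh.IsCoh F) (hsupp : topologicalKrullDim ↥(CohB1.support F) ≤ r + 1)
    (D : X.IdealSheafData) (hD : BlowUp.IsEffCartierIdeal D) (hass : ∀ x ∈ D.support, ¬ Curv2.IsAssPoint F x) :
    FGA.intNum k X d (Fin.snoc M (ClSub.idealMod D)) F = FGA.intNum k X d M (CohB1.tensorMod F (ClSub.quotMod D)) := by
  haveI := EulerChar.isNoetherian k (X := X)
  have hI := IdealSh.IdealMod.isInvertible_of_isEffCartierIdeal D hD
  haveI : F.IsQuasicoherent := hF.1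
  have hS := shortExact_tens D hI F hass
  have h1 : Coh.IsCoh (CohB1.tensorMod F (ClSub.idealMod D)) := ProjTwist.isCoh_tensor hI hF
  have h2 : Coh.IsCoh (CohB1.tensorMod F (Coh.structureModule X)) :=
    ProjTwist.isCoh_tensor (LFFrame.isInvertible_structureModule X) hF
  have h3 : Coh.IsCoh (CohB1.tensorMod F (ClSub.quotMod D)) :=
    CohDev.isCoh_of_iso ((cokernelIsCokernel _).coconePointUniqueUpToIso hS.gIsCokernel)
      (CohDev.isCoh_cokernel _ h1.1 h2)
  have hk : CohDev.kcl (CohB1.tensorMod F (Coh.structureModule X)) =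
      CohDev.kcl (CohB1.tensorMod F (ClSub.idealMod D)) + CohDev.kcl (CohB1.tensorMod F (ClSub.quotMod D)) :=
    CohDev.kcl_add hS h1 h2 h3
  rw [CohDev.kcl_iso (ProjTwist.tensOne F) h2,
    ← CohDev.kcl_iso (ProjTwist.tensComm (ClSub.idealMod D) F) (Snapper.isCoh_tensorMod k hI hF)] at hk
  have hk' := congrArg (Snapper.intK k hM) hk
  rw [map_add, Snapper.intK_kcl k hM hF, Snapper.intK_kcl k hM (Snapper.isCoh_tensorMod k hI hF),
    Snapper.intK_kcl k hM h3] at hk'
  rw [Snapper.intNum_eq k hd, Snapper.intNum_eq k hd, intE_snoc]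
  omega

end Groth.Agent.S14522
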