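import Groth.Statements.S1608
import Groth.Agent.CartDiv.QFCodimOne

set_option autoImplicit false
universe u
open CategoryTheory CategoryTheory.Limits AlgebraicGeometry
open Variety

namespace Groth.Agent.S1608

/-- Let f : X → Y be locally of finite type, and let y ∈ Y be a point whose local ring is Noetherian of
dimension at most one. Suppose f is quasi-finite at the generic point of each irreducible component
of X. Then f is quasi-finite at each point x of X with f(x) = y. -/
theorem result {X Y : Scheme.{u}} (f : X ⟶ Y) [LocallyOfFiniteType f]
    (y : Y) [IsNoetherianRing (Y.presheaf.stalk y)] (hy : ringKrullDim (Y.presheaf.stalk y) ≤ 1)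
    (hgen : ∀ Z ∈ irreducibleComponents (X : Type u), ∀ η : X, IsGenericPoint η Z → f.QuasiFiniteAt η)
    (x : X) (hx : f.base x = y) : f.QuasiFiniteAt x := by
  refine Groth.Agent.CartDiv.QFCodimOne.quasiFiniteAt_over f y hy (fun η hmax => ?_) x hx
  obtain ⟨ξ, hξ⟩ := QuasiSober.sober (isIrreducible_irreducibleComponent (x := η))
    isClosed_irreducibleComponent
  rw [hmax ξ (hξ.specializes mem_irreducibleComponent)] at hξ
  exact hgen _ (irreducibleComponent_mem_irreducibleComponents η) η hξ

end Groth.Agent.S1608
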