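import Groth.Statements.S14523
import Groth.Agent.S1608
import Groth.Agent.S1655

set_option autoImplicit false
universe u
open CategoryTheory CategoryTheory.Limits AlgebraicGeometry
open Variety

namespace Groth.Agent.S14523

/-- Let k be an algebraically closed field and f : X → Y a proper, birational morphism over k of
irreducible varieties (X, Y integral, separated and of finite type over k; f restricts to an
isomorphism over some nonempty open subset of Y), with Y normal (all local rings integrally closed).
Let U ⊆ Y be the largest open subset over which f is an isomorphism (the domain of f^{-1}). Then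
codim_Y(Y ∖ U) ≥ 2: for every point y of Y whose local ring has Krull dimension at most one, f
restricts to an isomorphism over some open neighbourhood of y. -/
theorem result (k : Type u) [Field k] [IsAlgClosed k]
    (X Y : Scheme.{u}) [X.Over (Spec (CommRingCat.of k))] [Y.Over (Spec (CommRingCat.of k))]
    [IsIntegral X] [IsSeparated (X ↘ (Spec (CommRingCat.of k)))] [LocallyOfFiniteType (X ↘ (Spec (CommRingCat.of k)))] [QuasiCompact (X ↘ (Spec (CommRingCat.of k)))]
    [IsIntegral Y] [IsSeparated (Y ↘ (Spec (CommRingCat.of k)))] [LocallyOfFiniteType (Y ↘ (Spec (CommRingCat.of k)))] [QuasiCompact (Y ↘ (Spec (CommRingCat.of k)))] (hY : ∀ y : Y, IsIntegrallyClosed (Y.presheaf.stalk y))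
    (f : X ⟶ Y) (hf : f ≫ (Y ↘ (Spec (CommRingCat.of k))) = (X ↘ (Spec (CommRingCat.of k)))) [IsProper f]
    (hbir : ∃ V : Y.Opens, (V : Set Y).Nonempty ∧ IsIso (f ∣_ V))
    (y : Y) (hy : ringKrullDim (Y.presheaf.stalk y) ≤ 1) :
    ∃ V : Y.Opens, y ∈ V ∧ IsIso (f ∣_ V) := by
  obtain ⟨V, hV, hiso⟩ := hbir
  haveI : IsLocallyNoetherian Y :=
    LocallyOfFiniteType.isLocallyNoetherian (Y ↘ (Spec (CommRingCat.of k)))
  haveI : CompactSpace Y := QuasiCompact.compactSpace_of_compactSpace (Y ↘ (Spec (CommRingCat.of k)))
  haveI : IsNoetherian Y := {}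
  -- stalk maps over `V` are isomorphisms
  have hst : ∀ x : X, f.base x ∈ V → IsIso (f.stalkMap x) := by
    intro x hx
    have h := ((MorphismProperty.isomorphisms CommRingCat.{u}).arrow_mk_iso_iff
      (morphismRestrictStalkMap f V ⟨x, hx⟩)).mp
      (inferInstanceAs (IsIso ((f ∣_ V).stalkMap ⟨x, hx⟩)))
    exact h
  have hqV : ∀ x : X, f.base x ∈ V → f.QuasiFiniteAt x := by
    intro x hx
    haveI := hst x hx
    exact RingHom.QuasiFinite.of_finite (RingHom.Finite.of_surjective _
      (asIso (f.stalkMap x)).commRingCatIsoToRingEquiv.surjective)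
  -- the image is closed and contains `V`, hence everything
  have hVr : (V : Set Y) ⊆ Set.range f.base := by
    intro z hz
    obtain ⟨w, hw⟩ := (f ∣_ V).homeomorph.surjective ⟨z, hz⟩
    refine ⟨w.1, ?_⟩
    have := congrArg Subtype.val hw
    simpa [morphismRestrict_base] using this
  have hsurj : Set.range f.base = Set.univ := by
    refine Set.eq_univ_of_univ_subset ?_
    rw [← (IsOpen.dense V.isOpen hV).closure_eq]
    exact closure_minimal hVr (IsClosedMap.isClosed_range f.isClosedMap)
  obtain ⟨x, hx⟩ : y ∈ Set.range f.base := hsurj ▸ Set.mem_univ y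
  have hq : f.QuasiFiniteAt x := by
    refine Groth.Agent.S1608.result f y hy (fun Z hZ η hη => hqV η ?_) x hx
    rw [irreducibleComponents_eq_singleton, Set.mem_singleton_iff] at hZ
    subst hZ
    obtain ⟨z, hz⟩ := hV
    obtain ⟨w, hw⟩ := hsurj ▸ Set.mem_univ z
    exact (hη.specializes (Set.mem_univ w)).mem_open (f ⁻¹ᵁ V).isOpen
      (show f.base w ∈ V from hw ▸ hz)
  exact Groth.Agent.S1655.result f V hV hiso y (hY y) x hx hq

end Groth.Agent.S14523
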