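import Groth.Statements.S14525
import Groth.Agent.HodgeIdx81.Growth

set_option autoImplicit false
universe u
open CategoryTheory CategoryTheory.Limits AlgebraicGeometry
open Surf

namespace Groth.Agent.S14525

/-- Let k be an algebraically closed field, X a smooth projective surface over k (integral, smooth over
k, of dimension two, with a closed immersion over k into some projective space), L an invertible
O_X-module with tensor inverse L' such that (L·L) > 0, and M an ample invertible module with tensor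
inverse M'; intersection numbers are the alternating Euler-characteristic sums in the inverses (the
prelude's FGA.intNum, so (L·L) is computed in L', L' and (L·M) in L', M'). Then (L·M) ≠ 0; if (L·M)
> 0 there is c > 0 with dim_k H^0(X, L^{⊗m}) > c·m² for all large m, and if (L·M) < 0 the same holds
for L' in place of L. -/
theorem result (k : Type u) [Field k] [IsAlgClosed k]
    (X : Scheme.{u}) [X.Over (Spec (CommRingCat.of k))] [IsIntegral X] [Smooth (X ↘ (Spec (CommRingCat.of k)))] (hdim : topologicalKrullDim X = 2)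
    (hprojX : ∃ (N : ℕ) (ι : X ⟶ CohB1.ProjSpace N k), IsClosedImmersion ι ∧ ι ≫ CohB1.ProjSpace.toSpec N k = (X ↘ (Spec (CommRingCat.of k))))
    (L L' : X.Modules) (hL : PicF.IsInvertible L) (hLL' : ClSub.IsInverseOf L L')
    (hpos : 0 < FGA.intNum k X 2 ![L', L'] (Coh.structureModule X))
    (M M' : X.Modules) (hM : CohB1.IsAmple M) (hMM' : ClSub.IsInverseOf M M') :
    FGA.intNum k X 2 ![L', M'] (Coh.structureModule X) ≠ 0 ∧
    (0 < FGA.intNum k X 2 ![L', M'] (Coh.structureModule X) →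
      ∃ c : ℚ, 0 < c ∧ ∃ m₀ : ℕ, ∀ m : ℕ, m₀ ≤ m →
        c * (m : ℚ) ^ 2 < (Module.finrank k (Coh.HH X (CohB1.tensorPow L m) 0) : ℚ)) ∧
    (FGA.intNum k X 2 ![L', M'] (Coh.structureModule X) < 0 →
      ∃ c : ℚ, 0 < c ∧ ∃ m₀ : ℕ, ∀ m : ℕ, m₀ ≤ m →
        c * (m : ℚ) ^ 2 < (Module.finrank k (Coh.HH X (CohB1.tensorPow L' m) 0) : ℚ)) := by
  have hd : topologicalKrullDim X = ((2 : ℕ) : WithBot ℕ∞) := by rw [hdim]; norm_num
  obtain ⟨N, ι, hι, hw⟩ := hprojX
  haveI := hι
  haveI : IsProper (X ↘ Spec (CommRingCat.of k)) := by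
    haveI := ProjProper.Basic.isProper_toSpec N k
    rw [← hw]
    infer_instance
  obtain ⟨e⟩ := hLL'
  obtain ⟨e'⟩ := hMM'
  have hL' := AmpCrit.NegVan.isInvertible_of_inverse hL e
  rw [HodgeIdx81.intNum_inv_eq_pr k hd hL hL e e] at hpos
  rw [HodgeIdx81.intNum_inv_eq_pr k hd hL hM.1 e e']
  have key : ∀ L : X.Modules, PicF.IsInvertible L → 0 ≤ HodgeIdx81.pr k L M →
      0 < HodgeIdx81.pr k L L → ∃ c : ℚ, 0 < c ∧ ∃ m₀ : ℕ, ∀ m : ℕ, m₀ ≤ m →
        c * (m : ℚ) ^ 2 < (Module.finrank k (Coh.HH X (CohB1.tensorPow L m) 0) : ℚ) := by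
    intro L hL hnn hpos
    obtain ⟨K, hK⟩ := HodgeIdx81.exists_growth k hd hM hL hnn hpos
    refine ⟨1 / 4, by norm_num, 4 * K + 4, fun m hm => ?_⟩
    have h : ((m * m : ℕ) : ℚ) ≤
        ((2 * HodgeIdx81.hd k (CohB1.tensorPow L m) 0 + K * (m + 1) : ℕ) : ℚ) := by exact_mod_cast hK m
    have h' : ((4 * K + 4 : ℕ) : ℚ) ≤ (m : ℚ) := by exact_mod_cast hm
    push_cast at h h'
    have hK0 : (0 : ℚ) ≤ K := Nat.cast_nonneg K
    show _ < ((HodgeIdx81.hd k (CohB1.tensorPow L m) 0 : ℕ) : ℚ)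
    nlinarith [mul_le_mul_of_nonneg_left h' (Nat.cast_nonneg (α := ℚ) m)]
  refine ⟨HodgeIdx81.pr_ne_zero k hd hM hL hpos, fun h => key L hL h.le hpos, fun h => key L' hL' ?_ ?_⟩
  · rw [HodgeIdx81.pr_inv_left k hd.le hL hL' hM.1 e]
    omega
  · rwa [HodgeIdx81.pr_inv_both k hd.le hL hL' hL hL' e e]

end Groth.Agent.S14525
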