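import Groth.Statements.S1453
import Groth.Agent.FlatMor.GeomConnSpreadFlat

set_option autoImplicit false
universe u
open FlatMor

namespace Groth.Agent.S1453

open AlgebraicGeometry CategoryTheory Limits in
/-- Let f : X → Y be flat and of finite presentation with all fibres geometrically reduced, let Z → Y be
finite locally free with a Y-morphism σ : Z → X, and let y be a point with Z_y nonempty and X_y
geometrically connected. Then there is a quasi-compact open X⁰ of X containing the whole fibre X_y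
such that every nonempty fibre of X⁰ → Y is geometrically connected. -/
theorem result {X Y Z : Scheme.{u}} (f : X ⟶ Y) [Flat f] [LocallyOfFinitePresentation f] [QuasiCompact f] [QuasiSeparated f]
    [GeometricallyReduced f] (g : Z ⟶ Y) (hg : Mor2.IsFinLocFree g) (σ : Z ⟶ X) (hσ : σ ≫ f = g) (y : Y) (hZy : y ∈ Set.range ⇑g)
    (hXy : GeometricallyConnected (f.fiberToSpecResidueField y)) :
    ∃ U : X.Opens, IsCompact (U : Set ↑X) ∧ f ⁻¹' {y} ⊆ (U : Set ↑X) ∧
      ∀ y' : Y, (∃ x ∈ U, f x = y') → GeometricallyConnected ((U.ι ≫ f).fiberToSpecResidueField y') := by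
  haveI := hg.1
  haveI := hg.2.1
  haveI := hg.2.2
  obtain ⟨_, ⟨(U0 : Y.Opens), hU0, rfl⟩, hyU0, -⟩ :=
    Y.isBasis_affineOpens.exists_subset_of_mem_open (Set.mem_univ y) isOpen_univ
  haveI : IsAffine (U0 : Scheme.{u}) := hU0
  let A := (f ⁻¹ᵁ U0).toScheme
  let ι := (f ⁻¹ᵁ U0).ι
  let kU : A ⟶ U0 := f ∣_ U0
  have hsq : IsPullback ι kU f U0.ι := (isPullback_morphismRestrict f U0).flip
  haveI : GeometricallyReduced kU := MorphismProperty.of_isPullback hsq inferInstance
  haveI : Flat kU := MorphismProperty.of_isPullback hsq inferInstance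
  haveI : LocallyOfFinitePresentation kU := MorphismProperty.of_isPullback hsq inferInstance
  haveI : QuasiCompact kU := MorphismProperty.of_isPullback hsq inferInstance
  haveI : QuasiSeparated kU := MorphismProperty.of_isPullback hsq inferInstance
  let p := g ∣_ U0
  have hgsq := (isPullback_morphismRestrict g U0).flip
  haveI : IsFinite p := MorphismProperty.of_isPullback hgsq inferInstance
  haveI : Flat p := MorphismProperty.of_isPullback hgsq inferInstance
  haveI : LocallyOfFinitePresentation p := MorphismProperty.of_isPullback hgsq inferInstance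
  let σ0 : (g ⁻¹ᵁ U0).toScheme ⟶ A := hsq.lift ((g ⁻¹ᵁ U0).ι ≫ σ) p (by
    rw [Category.assoc, hσ]; exact hgsq.w)
  let σP : (g ⁻¹ᵁ U0).toScheme ⟶ pullback kU p := pullback.lift σ0 (𝟙 _) (by
    rw [Category.id_comp]; exact hsq.lift_snd _ _ _)
  obtain ⟨z, hz⟩ := hZy
  let v0 : (g ⁻¹ᵁ U0).toScheme := ⟨z, show g z ∈ U0 from hz ▸ hyU0⟩
  let u0 : U0.toScheme := ⟨y, hyU0⟩
  have hkU : ∀ a, (kU a).1 = f a.1 := fun a => morphismRestrict_base_coe f U0 a
  have hp : ∀ w, (p w).1 = g w.1 := fun w => morphismRestrict_base_coe g U0 w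
  have hne : ∃ a : A, kU a = u0 := ⟨σ0 v0, by
    rw [← Scheme.Hom.comp_apply, hsq.lift_snd]; exact Subtype.ext ((hp v0).trans hz)⟩
  have hconn : ∀ v, p v = u0 → _root_.IsPreconnected (pullback.snd kU p ⁻¹' {v}) := by
    intro v hv
    let kP := pullback.snd kU p
    let c := (g ⁻¹ᵁ U0).toScheme.fromSpecResidueField v
    have h1 := ((IsPullback.of_hasPullback kP c).paste_horiz
      (IsPullback.of_hasPullback kU p)).paste_horiz hsq
    haveI : ConnectedSpace ↥(kP.fiber v) :=
      Groth.Agent.FlatMor.GeomConnSpread.connectedSpace_of_fiber f y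
        ((g ⁻¹ᵁ U0).toScheme.residueField v) _ (by
          show (p (c _)).1 = y
          rw [show c _ = v from Scheme.fromSpecResidueField_apply _ _, hv]) h1
    rw [show pullback.snd kU p ⁻¹' {v} = Set.range (kP.fiberι v) from (kP.range_fiberι v).symm]
    exact (isConnected_range (kP.fiberι v).continuous).isPreconnected
  obtain ⟨U', V, huU', hU', hVU', hVc, huV, hV⟩ :=
    Groth.Agent.FlatMor.GeomConnSpread.exists_open_of_flat_multisection kU p σP
      (pullback.lift_snd _ _ _) u0 ⟨v0, Subtype.ext ((hp v0).trans hz)⟩ hne hconn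
  refine ⟨ι ''ᵁ V, ?_, fun x hx => ?_, fun y' hy' => ?_⟩
  · rw [Scheme.Hom.coe_image]
    exact hVc.image ι.continuous
  · have hx0 : x ∈ f ⁻¹ᵁ U0 := by
      show f x ∈ U0
      rw [show f x = y from hx]; exact hyU0
    exact ⟨⟨x, hx0⟩, huV (Subtype.ext ((hkU ⟨x, hx0⟩).trans hx)), rfl⟩
  obtain ⟨_, ⟨a, ha, rfl⟩, hay⟩ := hy'
  have hy'U0 : y' ∈ U0 := hay ▸ a.2
  have hy'U' : (⟨y', hy'U0⟩ : U0.toScheme) ∈ U' := by
    have := hVU' ha
    rwa [show (⟨y', hy'U0⟩ : U0.toScheme) = kU a from Subtype.ext (((hkU a).trans hay).symm)]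
  refine ⟨fun K _ yK Z fst snd hZ => ?_⟩
  let m0 := yK ≫ Y.fromSpecResidueField y'
  have hm0 : ∀ t, m0 t = y' := fun t => by
    have := Set.mem_range_self (f := Y.fromSpecResidueField y') (yK t)
    rw [Scheme.range_fromSpecResidueField] at this
    exact this
  let y0 := IsOpenImmersion.lift U0.ι m0 (by
    rintro _ ⟨t, rfl⟩
    exact ⟨⟨y', hy'U0⟩, (hm0 t).symm⟩)
  have hy0 : y0 ≫ U0.ι = m0 := IsOpenImmersion.lift_fac _ _ _
  have hy0pt : y0 (IsLocalRing.closedPoint K) = ⟨y', hy'U0⟩ := Subtype.ext (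
    (congrArg (fun q : Spec (CommRingCat.of K) ⟶ Y => q (IsLocalRing.closedPoint K)) hy0).trans (hm0 _))
  let fst' := fst ≫ ((ι ''ᵁ V).ι ≫ f).fiberι y'
  have hZ' : IsPullback fst' snd ((ι ''ᵁ V).ι ≫ f) m0 :=
    hZ.paste_horiz (IsPullback.of_hasPullback _ _)
  let b := fst' ≫ (ι.isoImage V).inv
  have hb : IsPullback b snd (V.ι ≫ kU ≫ U0.ι) (y0 ≫ U0.ι) := by
    rw [hy0]
    refine IsPullback.of_iso hZ' (Iso.refl _) (ι.isoImage V).symm (Iso.refl _) (Iso.refl _) ?_ ?_ ?_ ?_
    · simp [b]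
    · simp
    · rw [Iso.refl_hom, Category.comp_id, Iso.symm_hom, ← hsq.w]
      simp [ι]
    · simp
  let ψ : Z ⟶ pullback kU y0 := pullback.lift (b ≫ V.ι) snd (by
    rw [← cancel_mono U0.ι]
    simp only [Category.assoc]
    exact hb.w)
  have hψ : IsPullback b ψ V.ι (pullback.fst kU y0) := by
    refine IsPullback.of_bot (v₂₁ := pullback.snd kU y0) (v₂₂ := kU ≫ U0.ι) (h₃₁ := y0 ≫ U0.ι) ?_
      (pullback.lift_fst _ _ _).symm
      (Groth.Agent.FlatMor.GeomConnSpread.isPullback_comp_mono (IsPullback.of_hasPullback kU y0) U0.ι)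
    rw [pullback.lift_snd]
    exact hb
  haveI : IsOpenImmersion ψ := MorphismProperty.of_isPullback hψ inferInstance
  have hr : Set.range ψ = pullback.fst kU y0 ⁻¹' (V : Set A) := by
    ext x
    refine ⟨?_, fun hx => ?_⟩
    · rintro ⟨w, rfl⟩
      show pullback.fst kU y0 (ψ w) ∈ V
      rw [← Scheme.Hom.comp_apply, pullback.lift_fst]
      exact (b w).2
    · obtain ⟨w, -, hw⟩ := Scheme.exists_preimage_of_isPullback hψ ⟨_, hx⟩ x rfl
      exact ⟨w, hw⟩
  have := hV K y0 (hy0pt ▸ hy'U')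
  rw [← hr] at this
  haveI := Subtype.connectedSpace this
  exact ψ.isEmbedding.toHomeomorph.symm.surjective.connectedSpace
    ψ.isEmbedding.toHomeomorph.symm.continuous

end Groth.Agent.S1453
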