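import Groth.Statements.S14536
import Groth.Agent.AffGrp.Bridge
import Groth.Agent.GrpdLib.MonoClosedField
import Groth.Agent.HopfPts.Extend

set_option autoImplicit false
universe u
open CategoryTheory MonoidalCategory CartesianMonoidalCategory MonObj GrpObj AlgebraicGeometry
open PrincBund

namespace Groth.Agent.S14536

/-- Let k be an algebraically closed field and h : G → G' a homomorphism of affine group schemes over k
(not necessarily of finite type) which is surjective on underlying spaces. Then h is surjective on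
k-points: every k-point of G' is the image of a k-point of G. -/
theorem result (k : Type u) [Field k] [IsAlgClosed k]
    (G G' : Over (Spec (CommRingCat.of k))) [GrpObj G] [GrpObj G'] [IsAffine G.left] [IsAffine G'.left]
    (h : G ⟶ G') [IsMonHom h] (hs : Surjective h.left) (x : 𝟙_ (Over (Spec (CommRingCat.of k))) ⟶ G') :
    ∃ g : 𝟙_ (Over (Spec (CommRingCat.of k))) ⟶ G, g ≫ h = x := by
  obtain ⟨A, hA, eG, hG⟩ := Groth.Agent.AffGrp.Bridge.exists_iso (R := CommRingCat.of k) G
  obtain ⟨A', hA', eG', hG'⟩ := Groth.Agent.AffGrp.Bridge.exists_iso (R := CommRingCat.of k) G'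
  let Sk := Spec (CommRingCat.of k)
  let φ : (Spec A).asOver Sk ⟶ (Spec A').asOver Sk := eG.hom ≫ h ≫ eG'.inv
  have : IsMonHom φ := inferInstance
  obtain ⟨v, hv⟩ : ∃ v : Opposite.op (CommHopfAlgCat.of k A) ⟶ Opposite.op (CommHopfAlgCat.of k A'),
      ((hopfSpec (CommRingCat.of k)).map v).hom.hom = φ := by
    let ψ : (hopfSpec (CommRingCat.of k)).obj (Opposite.op (CommHopfAlgCat.of k A)) ⟶
        (hopfSpec (CommRingCat.of k)).obj (Opposite.op (CommHopfAlgCat.of k A')) := Grp.homMk' (@Mon.Hom.mk _ _ _ _ _ φ ⟨IsMonHom.one_hom φ, IsMonHom.mul_hom φ⟩)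
    obtain ⟨v, hv⟩ : ∃ v, (hopfSpec (CommRingCat.of k)).map v = ψ :=
      ⟨_, hopfSpec.fullyFaithful.map_preimage ψ⟩
    exact ⟨v, by rw [hv]; rfl⟩
  let π : A' →ₐc[k] A := v.unop.hom
  have hπ : Spec.map (CommRingCat.ofHom (π : A' →+* A)) = φ.left := congrArg CommaMorphism.left hv
  have hsurj : Function.Surjective φ.left.base := by
    have h1 : Function.Surjective eG.hom.left.base :=
      (haveI : IsIso eG.hom.left := (Over.forget _).map_isIso eG.hom; eG.hom.left.homeomorph.surjective)
    have h2 : Function.Surjective eG'.inv.left.base :=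
      (haveI : IsIso eG'.inv.left := (Over.forget _).map_isIso eG'.inv; eG'.inv.left.homeomorph.surjective)
    show Function.Surjective (eG.hom.left ≫ h.left ≫ eG'.inv.left).base
    rw [Scheme.Hom.comp_base, Scheme.Hom.comp_base, TopCat.coe_comp, TopCat.coe_comp]
    exact (h2.comp hs.surj).comp h1
  let p : A' →ₐ[k] A := (π : A' →ₐ[k] A)
  let xA : A' →ₐ[k] k :=
    { (Spec.preimage (x.left ≫ eG'.inv.left)).hom with
      commutes' := fun r => by
        have e : Spec.map (CommRingCat.ofHom (algebraMap k A') ≫ Spec.preimage (x.left ≫ eG'.inv.left)) = Spec.map (𝟙 _) := by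
          rw [Spec.map_comp, Spec.map_preimage, Spec.map_id, Category.assoc]
          erw [Over.w eG'.inv, Over.w x]
          rfl
        exact congrArg (fun f : CommRingCat.of k ⟶ CommRingCat.of k => f.hom r) (Spec.map_injective e) }
  have hker : ∀ a, p a = 0 → xA a = 0 := by
    intro a ha
    have hnil : IsNilpotent a := by
      rw [nilpotent_iff_mem_prime]
      intro q hq
      obtain ⟨P, hP⟩ := hsurj ⟨q, hq⟩
      rw [← hπ] at hP
      have hq' : q = P.asIdeal.comap (π : A' →+* A) := (congrArg PrimeSpectrum.asIdeal hP).symm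
      rw [hq']
      show p a ∈ P.asIdeal
      rw [ha]
      exact P.asIdeal.zero_mem
    exact (hnil.map xA).eq_zero
  have hB : SGA3.IsHopfSubalgebra k A p.range :=
    Groth.Agent.GrpdLib.MonoClosedField.isHopfSubalgebra_range π
  let xB : ↥p.range →ₐ[k] k := (Ideal.Quotient.liftₐ (RingHom.ker p) xA
    fun a ha => hker a ha).comp (Ideal.quotientKerEquivRange p).symm.toAlgHom
  obtain ⟨y, hy⟩ := Groth.Agent.HopfPts.exists_extend hB xB
  have hyp : y.comp p = xA := by
    refine AlgHom.ext fun a => ?_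
    have h1 := hy ⟨p a, a, rfl⟩
    refine h1.trans ?_
    have h2 : (Ideal.quotientKerEquivRange p).symm ⟨p a, a, rfl⟩ = Ideal.Quotient.mk _ a :=
      (AlgEquiv.symm_apply_eq _).2 rfl
    show Ideal.Quotient.liftₐ (RingHom.ker p) xA (fun a ha => hker a ha) ((Ideal.quotientKerEquivRange p).symm ⟨p a, a, rfl⟩) = _
    rw [h2]
    rfl
  let q : Spec A ⟶ G.left := eG.hom.left
  refine ⟨Over.homMk (U := 𝟙_ (Over Sk))
    (Spec.map (CommRingCat.ofHom y.toRingHom) ≫ q) ?_, ?_⟩
  · show (Spec.map (CommRingCat.ofHom y.toRingHom) ≫ q) ≫ G.hom = 𝟙 _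
    rw [Category.assoc, show q ≫ G.hom = _ from Over.w eG.hom]
    show Spec.map (CommRingCat.ofHom y.toRingHom) ≫ Spec.map (CommRingCat.ofHom (algebraMap k A)) = _
    rw [← Spec.map_comp, ← CommRingCat.ofHom_comp]
    erw [y.comp_algebraMap]
    exact Spec.map_id _
  · ext1
    have : IsIso eG'.inv.left := (Over.forget _).map_isIso eG'.inv
    rw [← cancel_mono eG'.inv.left]
    show (Spec.map (CommRingCat.ofHom y.toRingHom) ≫ q) ≫ h.left ≫ eG'.inv.left = _
    rw [Category.assoc, show q ≫ h.left ≫ eG'.inv.left = Spec.map (CommRingCat.ofHom (π : A' →+* A)) from hπ.symm]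
    refine (Spec.map_comp _ _).symm.trans (Eq.trans (congrArg Spec.map ?_) (Spec.map_preimage _))
    exact CommRingCat.hom_ext (RingHom.ext fun a => AlgHom.congr_fun hyp a)

end Groth.Agent.S14536
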