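import Groth.Statements.S14537
import Groth.Agent.AffGrp.Bridge
import Groth.Agent.HopfPts.Extend

set_option autoImplicit false
universe u
open CategoryTheory MonoidalCategory CartesianMonoidalCategory MonObj GrpObj AlgebraicGeometry
open PrincBund

namespace Groth.Agent.S14537

/-- Let k be an algebraically closed field and G an affine group scheme over k, not necessarily of
finite type. Then the set of k-rational points of G is dense in the underlying space of G. -/
theorem result (k : Type u) [Field k] [IsAlgClosed k]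
    (G : Over (Spec (CommRingCat.of k))) [GrpObj G] [IsAffine G.left] :
    Dense {x : ↥G.left | ∃ g : 𝟙_ (Over (Spec (CommRingCat.of k))) ⟶ G, g.left.base (IsLocalRing.closedPoint k) = x} := by
  obtain ⟨A, hA, e, -⟩ := Groth.Agent.AffGrp.Bridge.exists_iso G
  have hd : Dense {p : ↥(Spec A) | ∃ y : A →ₐ[k] k, p = (Spec.map (CommRingCat.ofHom y.toRingHom)).base (IsLocalRing.closedPoint k)} := by
    refine (PrimeSpectrum.isTopologicalBasis_basic_opens (R := A)).dense_iff.2 ?_
    rintro _ ⟨f, rfl⟩ ⟨p, hp⟩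
    have hf : ¬ IsNilpotent f := fun hn => hp (nilpotent_iff_mem_prime.1 hn p.asIdeal p.2)
    obtain ⟨y, hy⟩ := Groth.Agent.HopfPts.exists_point_ne_zero (k := k) hf
    refine ⟨_, ?_, y, rfl⟩
    show y f ∉ IsLocalRing.maximalIdeal k
    rw [IsLocalRing.maximalIdeal_eq_bot, Ideal.mem_bot]
    exact hy
  let φ : Spec A ⟶ G.left := e.hom.left
  have : IsIso φ := (Over.forget _).map_isIso e.hom
  have hs : Function.Surjective φ.base := φ.homeomorph.surjective
  have h2 := hs.denseRange.dense_image φ.continuous hd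
  refine h2.mono ?_
  rintro _ ⟨_, ⟨y, rfl⟩, rfl⟩
  refine ⟨Over.homMk (U := 𝟙_ (Over (Spec (CommRingCat.of k))))
    (Spec.map (CommRingCat.ofHom y.toRingHom) ≫ φ) ?_, rfl⟩
  show (Spec.map (CommRingCat.ofHom y.toRingHom) ≫ φ) ≫ G.hom = 𝟙 _
  rw [Category.assoc, show φ ≫ G.hom = _ from Over.w e.hom]
  show Spec.map (CommRingCat.ofHom y.toRingHom) ≫ Spec.map (CommRingCat.ofHom (algebraMap k A)) = _
  rw [← Spec.map_comp, ← CommRingCat.ofHom_comp]
  erw [y.comp_algebraMap]
  exact Spec.map_id _

end Groth.Agent.S14537
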