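import Groth.Statements.S14538
import Groth.Agent.DenseFG.Gamma
import Groth.Agent.GrpScheme.Cartier
-- import your own Groth.Agent.* helpers here

set_option autoImplicit false
universe u
open CategoryTheory MonoidalCategory CartesianMonoidalCategory MonObj GrpObj AlgebraicGeometry
open PrincBund

namespace Groth.Agent.S14538

open Groth.Agent.Borel50.Pts Groth.Agent.Borel50.Lin Groth.Agent.Borel50.Density Groth.Agent.Borel50

attribute [local instance] ptTop

/-- In a connected affine group over an algebraically closed field of characteristic zero, a closed subgroup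
containing a power of every point contains every point. -/
lemma eq_top_of_pow {k : Type u} [Field k] [IsAlgClosed k] [CharZero k] {G : Over (Spec (CommRingCat.of k))}
    [GrpObj G] [IsAffine G.left] [Smooth G.hom] [ConnectedSpace G.left] (H : Subgroup (Pt G))
    (hH : IsClosed (H : Set (Pt G))) (hpow : ∀ x : Pt G, ∃ m : ℕ, 0 < m ∧ x ^ m ∈ H) : H = ⊤ := by
  have := FixedPt.qc_G G
  have := GrpScheme.HomFlat.isReduced_of_smooth G.hom
  obtain ⟨N, ⟨Φ⟩⟩ := exists_rep (G := G)
  have key : ∀ {B : Over (Spec (CommRingCat.of k))} [GrpObj B] (iB : B ⟶ G), Red.IsBorelOver k iB →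
      ∀ b : Pt B, b ≫ iB ∈ H := by
    intro B _ iB hB b
    have := hB.1
    have := hB.2.1
    have := hB.2.2.1
    have := hB.2.2.2.1
    obtain ⟨n, hn⟩ := Solvable.points_of_isSolvableGrp hB.2.2.2.2.1
    have hsol : derivedSeries (ptHom iB).range n = ⊥ := by
      rw [eq_bot_iff, ← map_derivedSeries_eq (MonoidHom.rangeRestrict_surjective (ptHom iB)) n, hn, Subgroup.map_bot]
    exact DenseFG.le_of_solvable Φ (ptHom iB).range (Density.isClosed_range iB) (Density.isPreconnected_range iB)
      hsol H hH hpow ⟨b, rfl⟩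
  obtain ⟨B, _, iB, hB⟩ := Conj.exists_borel G
  have := hB.1
  have := hB.2.1
  have := hB.2.2.1
  have hsurj := surjective_conj_borel iB hB
  have : Surjective (fst G B * (snd G B ≫ iB) * (fst G B)⁻¹).left := ⟨hsurj⟩
  refine eq_top_iff.2 fun g _ => ?_
  have : LocallyOfFiniteType B.hom := by rw [← Over.w iB]; infer_instance
  have : LocallyOfFiniteType (G ⊗ B).hom :=
    inferInstanceAs (LocallyOfFiniteType (Limits.pullback.fst G.hom B.hom ≫ G.hom))
  obtain ⟨z, hz⟩ := Conj.surjective_pts (fst G B * (snd G B ≫ iB) * (fst G B)⁻¹) g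
  have h := key (AGF.conjBy (z ≫ fst G B) iB) (Conj.isBorelOver_conjBy iB hB _) (z ≫ snd G B)
  have e : (z ≫ snd G B) ≫ AGF.conjBy (z ≫ fst G B) iB = g := by
    rw [← hz]
    simp only [AGF.conjBy, MonObj.comp_mul, GrpObj.comp_inv, Category.assoc]
    simp only [← Category.assoc, toUnit_comp, Category.id_comp]
  exact e ▸ h

/-- Let k be an algebraically closed field of characteristic 0 and G an affine group scheme of finite
type over k. Then the group G(k) of k-rational points has a finitely generated subgroup whose points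
are dense in the underlying space of G. -/
theorem result (k : Type u) [Field k] [IsAlgClosed k] [CharZero k]
    (G : Over (Spec (CommRingCat.of k))) [GrpObj G] [IsAffine G.left] [LocallyOfFiniteType G.hom] :
    ∃ Φ : Subgroup (𝟙_ (Over (Spec (CommRingCat.of k))) ⟶ G), Φ.FG ∧
      Dense {x : ↥G.left | ∃ g ∈ Φ, g.left.base (IsLocalRing.closedPoint k) = x} := by
  classical
  have : Smooth G.hom := GrpScheme.Cartier.smooth_of_charZero (G := G)
  have := FixedPt.qc_G G
  have := GrpScheme.HomFlat.isReduced_of_smooth G.hom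
  obtain ⟨N, ⟨Φ⟩⟩ := exists_rep (G := G)
  obtain ⟨F, H, hHc, hHF, hpow⟩ := DenseFG.exists_fg_power Φ
  let G0 := Φ.identityComponent
  have hG0 : G0 ≤ H := by
    obtain ⟨K, _, iK, _, _, _, _, hmem, hconn⟩ := exists_sub G0 Φ.isClosed_identityComponent
    have := hconn isPreconnected_connectedComponent
    have : IsAffine K.left := isAffine_of_isAffineHom iK.left
    have hcont : Continuous fun x : Pt K => x ≫ iK := continuous_comp iK
    have h := eq_top_of_pow (H.comap (ptHom iK)) (hHc.preimage hcont) fun x => by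
      obtain ⟨m, hm, hx⟩ := hpow (x ≫ iK)
      exact ⟨m, hm, show ptHom iK (x ^ m) ∈ H by rw [map_pow]; exact hx⟩
    intro y hy
    obtain ⟨x, rfl⟩ := (hmem y).1 hy
    exact (h ▸ Subgroup.mem_top x : x ∈ H.comap (ptHom iK))
  have := Φ.finiteIndex_identityComponent
  let R : Finset (Pt G) := (Set.toFinite (Set.range fun q : Pt G ⧸ G0 => q.out)).toFinset
  refine ⟨Subgroup.closure ((F ∪ R : Finset (Pt G)) : Set (Pt G)), ⟨F ∪ R, rfl⟩, ?_⟩
  obtain ⟨C, hC⟩ := Φ.exists_closure_subgroup (Subgroup.closure ((F ∪ R : Finset (Pt G)) : Set (Pt G)))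
  have hall : ∀ g : Pt G, g ∈ C := fun g => by
    let q : Pt G ⧸ G0 := g
    have h1 : q.out⁻¹ * g ∈ G0 := QuotientGroup.eq.1 (QuotientGroup.out_eq' q)
    have h2 : q.out⁻¹ * g ∈ C := by
      rw [← SetLike.mem_coe, hC]
      exact closure_mono (Subgroup.closure_mono (by simp)) (hHF (hG0 h1))
    have h3 : q.out ∈ C := by
      rw [← SetLike.mem_coe, hC]
      exact subset_closure (Subgroup.subset_closure (Finset.mem_coe.2 (Finset.mem_union_right _
        ((Set.Finite.mem_toFinset _).2 ⟨q, rfl⟩))))
    simpa using C.mul_mem h3 h2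
  have : JacobsonSpace G.left := LocallyOfFiniteType.jacobsonSpace G.hom
  have hcl : closedPoints G.left ⊆ closure {x : G.left | ∃ g ∈ Subgroup.closure ((F ∪ R : Finset (Pt G)) : Set (Pt G)),
      g.left.base (IsLocalRing.closedPoint k) = x} := fun y hy => by
    obtain ⟨g, rfl⟩ := Pts.exists_pt hy
    exact mem_closure_iff_pt.1 (hC ▸ hall g : g ∈ closure (Subgroup.closure ((F ∪ R : Finset (Pt G)) : Set (Pt G)) : Set (Pt G)))
  rw [dense_iff_closure_eq, Set.eq_univ_iff_forall]
  intro y
  exact closure_minimal hcl isClosed_closure (by rw [closure_closedPoints]; trivial)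

end Groth.Agent.S14538
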