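import Groth.Statements.S14539
import Groth.Agent.HopfPts.CharZero

set_option autoImplicit false
universe u v w
open TensorProduct
open PrincBund

namespace Groth.Agent.S14539

/-- Let k be an algebraically closed field of characteristic 0, A a commutative Hopf algebra over k (the
coordinate ring of an affine group scheme G over k, not necessarily of finite type) and V a right
A-comodule, of any dimension. If a k-subspace W of V is mapped into itself by the action of every
k-rational point of G (every k-algebra homomorphism A → k, acting on V through the coaction), then W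
is a subcomodule of V. -/
theorem result (k : Type u) (A : Type v) [Field k] [IsAlgClosed k]
    [CharZero k] [CommRing A] [HopfAlgebra k A]
    (V : Type w) [AddCommGroup V] [Module k V] [HopfRep.Comod k A V] (W : Submodule k V)
    (hW : ∀ g : A →ₐ[k] k, W.map (HopfRep.Comod.act k A V g) ≤ W) :
    HopfRep.IsSubcomod (k := k) (A := A) W := by
  classical
  intro w hw
  let y : (V ⧸ W) ⊗[k] A := W.mkQ.rTensor A (HopfRep.Comod.coact (k := k) (A := A) w)
  suffices hy : y = 0 by
    exact (rTensor_exact A (f := W.subtype) (g := W.mkQ)
      (LinearMap.exact_subtype_mkQ W) W.mkQ_surjective _).1 hy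
  let b := Module.Basis.ofVectorSpace k (V ⧸ W)
  let E := TensorProduct.equivFinsuppOfBasisLeft (N := A) b
  apply E.injective
  rw [map_zero]
  ext i
  by_contra hne
  obtain ⟨g, hg⟩ := Groth.Agent.HopfPts.exists_point_ne_zero_of_charZero (k := k) hne
  apply hg
  have key : ∀ z : (V ⧸ W) ⊗[k] A,
      b.repr (TensorProduct.rid k (V ⧸ W) (LinearMap.lTensor (V ⧸ W) g.toLinearMap z)) i = g (E z i) := by
    intro z
    induction z using TensorProduct.induction_on with
    | zero => simp
    | tmul v a => simp [E, mul_comm]
    | add p q hp hq => simp only [map_add, Finsupp.add_apply, hp, hq]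
  rw [← key]
  have nat : ∀ z : V ⊗[k] A, TensorProduct.rid k (V ⧸ W) (LinearMap.lTensor (V ⧸ W) g.toLinearMap
      (W.mkQ.rTensor A z)) = W.mkQ (TensorProduct.rid k V (LinearMap.lTensor V g.toLinearMap z)) := by
    intro z
    induction z using TensorProduct.induction_on with
    | zero => simp
    | tmul v a => simp
    | add p q hp hq => simp only [map_add, hp, hq]
  have hact : W.mkQ (HopfRep.Comod.act k A V g w) = 0 :=
    (Submodule.Quotient.mk_eq_zero W).2 (hW g ⟨w, hw, rfl⟩)
  show b.repr (TensorProduct.rid k (V ⧸ W) (LinearMap.lTensor (V ⧸ W) g.toLinearMap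
      (W.mkQ.rTensor A (HopfRep.Comod.coact (k := k) (A := A) w)))) i = 0
  rw [nat]
  rw [show (TensorProduct.rid k V) (LinearMap.lTensor V g.toLinearMap
      (HopfRep.Comod.coact (k := k) (A := A) w)) = HopfRep.Comod.act k A V g w from rfl, hact]
  simp

end Groth.Agent.S14539
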