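import Groth.Statements.S14545
import Groth.Agent.AGFQuot.Basic
import Groth.Agent.GrpScheme.HomFlat
import Groth.Agent.GrpScheme.Cartier
import Groth.Agent.GrpScheme.FlatFib.Scheme
import Groth.Agent.GrpdLib.FppfSourceDescentScheme
import Groth.Agent.FpqcDesc.Props
-- import your own Groth.Agent.* helpers here

set_option autoImplicit false
universe u
open CategoryTheory MonoidalCategory CartesianMonoidalCategory MonObj GrpObj AlgebraicGeometry
open PrincBund

set_option backward.isDefEq.respectTransparency false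
set_option synthInstance.maxHeartbeats 400000
set_option linter.style.haveILetI false

namespace Groth.Agent.S14545

open CategoryTheory.Limits Groth.Agent.AGFQuot.Basic

section

variable {S : Scheme.{u}}

theorem isCover_of_isPullback {A B C D : Over S} {a : A ⟶ B} {b : A ⟶ C} {c : B ⟶ D} {d : C ⟶ D}
    (h : IsPullback a b c d) (hd : IsCover d) : IsCover a := by
  have h' := (h.map (Over.forget S)).flip
  exact ⟨MorphismProperty.of_isPullback (P := @Surjective) h' hd.surj,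
    MorphismProperty.of_isPullback (P := @Flat) h' hd.flat,
    MorphismProperty.of_isPullback (P := @LocallyOfFinitePresentation) h' hd.lfp⟩

/-- A monomorphism through which an fppf cover factors is an isomorphism. -/
theorem isIso_left_of_mono_of_cover {Z X P : Over S} (σ : Z ⟶ X) (θ : X ⟶ P) [Mono θ] (h : IsCover (σ ≫ θ)) :
    IsIso θ.left := by
  haveI := h.effectiveEpi
  haveI : RegularEpi (σ.left ≫ θ.left) := by
    exact regularEpiOfEffectiveEpi (σ ≫ θ).left
  haveI : StrongEpi θ.left := strongEpi_of_strongEpi σ.left θ.left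
  exact isIso_of_mono_of_strongEpi θ.left

end

theorem main {k : Type u} [Field k] [CharZero k]
    {G : Over (Spec (CommRingCat.of k))} [GrpObj G] [IsAffine G.left] [LocallyOfFiniteType G.hom]
    {G' : Over (Spec (CommRingCat.of k))} [GrpObj G'] (i' : G' ⟶ G) [IsMonHom i'] [IsClosedImmersion i'.left]
    {G₀ : Over (Spec (CommRingCat.of k))} [GrpObj G₀] (i₀ : G₀ ⟶ G) [IsMonHom i₀] [IsClosedImmersion i₀.left]
    {G₁ : Over (Spec (CommRingCat.of k))} [GrpObj G₁] (q₁ : G ⟶ G₁) [IsMonHom q₁] (hq₁ : RedSub.IsQuotient i₀ q₁)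
    {G₀' : Over (Spec (CommRingCat.of k))} [GrpObj G₀'] (j : G₀' ⟶ G₀) [IsMonHom j] (j' : G₀' ⟶ G')
    (hj : IsPullback j j' i₀ i')
    {G₁' : Over (Spec (CommRingCat.of k))} [GrpObj G₁'] (i₁' : G₁' ⟶ G₁) [IsMonHom i₁'] [IsClosedImmersion i₁'.left]
    (p : G' ⟶ G₁') (hp : p ≫ i₁' = i' ≫ q₁) [Surjective p.left]
    {Qa : Over (Spec (CommRingCat.of k))} (qa : G₀ ⟶ Qa) (hqa : RedSub.IsQuotient j qa) [IsAffine Qa.left]
    {Qb : Over (Spec (CommRingCat.of k))} (qb : G₁ ⟶ Qb) (hqb : RedSub.IsQuotient i₁' qb) [IsAffine Qb.left]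
    {Q : Over (Spec (CommRingCat.of k))} (q : G ⟶ Q) (hq : RedSub.IsQuotient i' q) :
    IsAffine Q.left := by
  haveI : Mono i₁' := (Over.forget _).mono_of_mono_map (inferInstanceAs (Mono i₁'.left))
  haveI : Mono i₀ := (Over.forget _).mono_of_mono_map (inferInstanceAs (Mono i₀.left))
  haveI : IsMonHom p := ⟨(cancel_mono i₁').1 (by rw [Category.assoc, hp, IsMonHom.one_hom_assoc, IsMonHom.one_hom, IsMonHom.one_hom]),
    (cancel_mono i₁').1 (by
      rw [Category.assoc, hp, IsMonHom.mul_hom_assoc, IsMonHom.mul_hom, Category.assoc, IsMonHom.mul_hom,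
        MonoidalCategory.tensorHom_comp_tensorHom_assoc, MonoidalCategory.tensorHom_comp_tensorHom_assoc, hp])⟩
  have hc₁ := IsCover.of_isQuotient hq₁
  have hca := IsCover.of_isQuotient hqa
  have hcb := IsCover.of_isQuotient hqb
  have hcq := IsCover.of_isQuotient hq
  haveI : LocallyOfFiniteType G₁.hom := by
    haveI := hc₁.flat; haveI := hc₁.lfp; haveI := hc₁.surj
    haveI : LocallyOfFiniteType (q₁.left ≫ G₁.hom) := by rw [Over.w]; infer_instance
    exact GrpdLib.FppfSourceDescent.locallyOfFiniteType_of_comp_fppf q₁.left G₁.hom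
  haveI : LocallyOfFiniteType G₁'.hom := by rw [← Over.w i₁']; infer_instance
  haveI : LocallyOfFiniteType G'.hom := by rw [← Over.w i']; infer_instance
  haveI : Smooth G₁'.hom := GrpScheme.Cartier.smooth_of_charZero G₁'
  haveI : IsReduced G₁'.left := GrpScheme.HomFlat.isReduced_of_smooth G₁'.hom
  haveI : Flat p.left := GrpScheme.HomFlat.flat_of_surjective p
  haveI : Smooth G'.hom := GrpScheme.Cartier.smooth_of_charZero G'
  haveI : LocallyOfFinitePresentation G'.hom := inferInstance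
  haveI : LocallyOfFinitePresentation p.left := by
    haveI : LocallyOfFinitePresentation (p.left ≫ G₁'.hom) := by rw [Over.w]; infer_instance
    exact GrpScheme.FlatFib.locallyOfFinitePresentation_of_comp p.left G₁'.hom
  have hcp : IsCover p := ⟨inferInstance, inferInstance, inferInstance⟩
  have hcc : IsCover (q₁ ≫ qb) := hc₁.comp hcb
  have h1 : ∀ {T : Over (Spec (CommRingCat.of k))} (n : T ⟶ G₀), (n ≫ i₀) ≫ q₁ = 1 := fun {T} n => by
    have := ((comp_eq_iff hq₁.2.2.2 1 (n ≫ i₀)).2 ⟨n, _root_.one_mul _⟩).symm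
    rwa [MonObj.one_comp] at this
  have hpp : ∀ {T : Over (Spec (CommRingCat.of k))} (h : T ⟶ G'), (h ≫ i') ≫ q₁ = (h ≫ p) ≫ i₁' := fun {T} h => by
    rw [Category.assoc, Category.assoc, hp]
  -- the projection
  obtain ⟨π, hπ, -⟩ := existsUnique_desc hcq hq.2.2.2 (q₁ ≫ qb) fun T a h => by
    rw [← Category.assoc, ← Category.assoc]
    refine ((comp_eq_iff hqb.2.2.2 (a ≫ q₁) _).2 ⟨h ≫ p, ?_⟩).symm
    rw [MonObj.mul_comp, hpp]
  -- the map from the fibre
  let φ₀ : G ⊗ G₀ ⟶ Q := (fst G G₀ * (snd G G₀ ≫ i₀)) ≫ q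
  haveI := (hca.whiskerLeft G).effectiveEpi
  obtain ⟨ρ, hρ, -⟩ := GrpdLib.GrpOver.existsUnique_desc (G ◁ qa) φ₀ fun T a b e => by
    have ef : a ≫ fst G G₀ = b ≫ fst G G₀ := by
      have := e =≫ fst G Qa
      simpa using this
    have es : (a ≫ snd G G₀) ≫ qa = (b ≫ snd G G₀) ≫ qa := by
      have := e =≫ snd G Qa
      simpa using this
    obtain ⟨h, hh⟩ := (comp_eq_iff hqa.2.2.2 _ _).1 es
    show a ≫ _ ≫ q = b ≫ _ ≫ q
    rw [← Category.assoc, ← Category.assoc, MonObj.comp_mul, MonObj.comp_mul, ← Category.assoc, ← Category.assoc]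
    refine (comp_eq_iff hq.2.2.2 _ _).2 ⟨h ≫ j', ?_⟩
    rw [← ef, ← hh, MonObj.mul_comp, _root_.mul_assoc, Category.assoc, Category.assoc, Category.assoc, hj.w]
  let Θ : G ⊗ Qa ⟶ pullback (q₁ ≫ qb) π := pullback.lift (fst G Qa) ρ ((hca.whiskerLeft G).cancel (by
    rw [whiskerLeft_fst_assoc, reassoc_of% hρ]
    show _ = ((fst G G₀ * (snd G G₀ ≫ i₀)) ≫ q) ≫ π
    rw [Category.assoc, hπ, ← Category.assoc _ q₁, ← Category.assoc _ q₁, MonObj.mul_comp, h1, _root_.mul_one]))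
  haveI : Mono Θ := ⟨fun {T} x x' e => by
    have ef : x ≫ fst G Qa = x' ≫ fst G Qa := by
      have := e =≫ pullback.fst _ _
      simpa [Θ] using this
    have er : x ≫ ρ = x' ≫ ρ := by
      have := e =≫ pullback.snd _ _
      simpa [Θ] using this
    obtain ⟨T₁, c₁, n, hc₁', hn⟩ := hca.exists_lift (x ≫ snd G Qa)
    obtain ⟨T₂, c₂, n', hc₂', hn'⟩ := hca.exists_lift (c₁ ≫ x' ≫ snd G Qa)
    apply hc₁'.cancel
    apply hc₂'.cancel
    let g := c₂ ≫ c₁ ≫ x ≫ fst G Qa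
    have hx : c₂ ≫ c₁ ≫ x = lift g (c₂ ≫ n) ≫ (G ◁ qa) := by
      refine CartesianMonoidalCategory.hom_ext _ _ (by simp [g]) ?_
      simp [hn]
    have hx' : c₂ ≫ c₁ ≫ x' = lift g n' ≫ (G ◁ qa) := by
      refine CartesianMonoidalCategory.hom_ext _ _ (by simp [g, ef]) ?_
      simp [hn']
    have e2 : (g * ((c₂ ≫ n) ≫ i₀)) ≫ q = (g * (n' ≫ i₀)) ≫ q := by
      have := c₂ ≫= c₁ ≫= er
      rw [← Category.assoc c₁, ← Category.assoc c₂, hx, ← Category.assoc c₁, ← Category.assoc c₂, hx', Category.assoc,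
        Category.assoc, hρ] at this
      simpa [φ₀, MonObj.comp_mul_assoc] using this
    obtain ⟨h, hh⟩ := (comp_eq_iff hq.2.2.2 _ _).1 e2
    have hd : ((c₂ ≫ n)⁻¹ * n') ≫ i₀ = h ≫ i' := by
      rw [MonObj.mul_comp, GrpObj.inv_comp]
      rw [_root_.mul_assoc] at hh
      rw [← mul_left_cancel hh, inv_mul_cancel_left]
    have hq' : (c₂ ≫ n) ≫ qa = n' ≫ qa := (comp_eq_iff hqa.2.2.2 _ _).2 ⟨hj.lift _ h hd, by
      rw [hj.lift_fst, mul_inv_cancel_left]⟩
    rw [hx, hx', lift_whiskerLeft, lift_whiskerLeft, hq']⟩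
  -- the cover
  let R := pullback (q₁ ≫ qb) (q₁ ≫ qb)
  let r : R ⟶ pullback (q₁ ≫ qb) π := pullback.lift (pullback.fst _ _) (pullback.snd _ _ ≫ q) (by
    rw [pullback.condition, Category.assoc, hπ])
  have hr : IsCover r := by
    refine isCover_of_isPullback (b := pullback.snd (q₁ ≫ qb) (q₁ ≫ qb)) (c := pullback.snd (q₁ ≫ qb) π) (d := q) ?_ hcq
    refine IsPullback.of_right ?_ (pullback.lift_snd _ _ _) (IsPullback.of_hasPullback (q₁ ≫ qb) π)
    rw [pullback.lift_fst, hπ]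
    exact IsPullback.of_hasPullback _ _
  let b : R ⟶ G₁' := hqb.2.2.2.lift (pullback.fst _ _ ≫ q₁) (pullback.snd _ _ ≫ q₁)
    (by simp only [Category.assoc]; exact pullback.condition) ≫ snd G₁ G₁'
  have hb : (pullback.fst (q₁ ≫ qb) (q₁ ≫ qb) ≫ q₁) * (b ≫ i₁') = pullback.snd _ _ ≫ q₁ := by
    let l := hqb.2.2.2.lift (pullback.fst (q₁ ≫ qb) (q₁ ≫ qb) ≫ q₁) (pullback.snd _ _ ≫ q₁)
      (by simp only [Category.assoc]; exact pullback.condition)
    have e1 : l ≫ fst G₁ G₁' = _ := hqb.2.2.2.lift_fst _ _ _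
    have e2 : l ≫ (G₁ ◁ i₁') ≫ μ[G₁] = _ := hqb.2.2.2.lift_snd _ _ _
    rw [← lift_comp_fst_snd l, lift_whiskerLeft_assoc, e1] at e2
    exact e2
  let gg : (G ⊗ G₀) ⊗ G' ⟶ G := fst _ _ ≫ fst G G₀
  let nn : (G ⊗ G₀) ⊗ G' ⟶ G₀ := fst _ _ ≫ snd G G₀
  let hh : (G ⊗ G₀) ⊗ G' ⟶ G' := snd _ _
  let ψ : (G ⊗ G₀) ⊗ G' ⟶ R := pullback.lift gg (gg * (nn ≫ i₀) * (hh ≫ i')) (by
    rw [← Category.assoc, ← Category.assoc]
    refine (comp_eq_iff hqb.2.2.2 _ _).2 ⟨hh ≫ p, ?_⟩
    rw [MonObj.mul_comp, MonObj.mul_comp, h1, hpp, _root_.mul_one])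
  have hψb : ψ ≫ b = hh ≫ p := by
    rw [← cancel_mono i₁']
    have e := congrArg (fun z => ψ ≫ z) hb
    beta_reduce at e
    rw [MonObj.comp_mul, ← Category.assoc ψ, ← Category.assoc ψ (pullback.snd _ _),
      pullback.lift_fst, pullback.lift_snd, MonObj.mul_comp, MonObj.mul_comp, h1, hpp, _root_.mul_one] at e
    rw [Category.assoc, mul_left_cancel e]
  have hker : ∀ {T : Over (Spec (CommRingCat.of k))} (d : T ⟶ G), d ≫ q₁ = 1 → ∃ n : T ⟶ G₀, n ≫ i₀ = d :=
    fun {T} d w => by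
      obtain ⟨n, hn⟩ := (comp_eq_iff hq₁.2.2.2 1 d).1 (by rw [w, MonObj.one_comp])
      exact ⟨n, by rwa [_root_.one_mul] at hn⟩
  let δ : R ⟶ G := (pullback.fst _ _)⁻¹ * pullback.snd _ _
  have hδ : δ ≫ q₁ = b ≫ i₁' := by
    rw [MonObj.mul_comp, GrpObj.inv_comp, ← hb, inv_mul_cancel_left]
  have hψδ : ψ ≫ δ = (nn ≫ i₀) * (hh ≫ i') := by
    rw [MonObj.comp_mul, GrpObj.comp_inv, pullback.lift_fst, pullback.lift_snd, _root_.mul_assoc, inv_mul_cancel_left]
  have hfs : ∀ {T : Over (Spec (CommRingCat.of k))} (x : T ⟶ R),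
      x ≫ pullback.snd _ _ = (x ≫ pullback.fst _ _) * (x ≫ δ) := fun {T} x => by
    rw [MonObj.comp_mul, GrpObj.comp_inv, mul_inv_cancel_left]
  have hdd : ∀ {T : Over (Spec (CommRingCat.of k))} (x : T ⟶ R) (h : T ⟶ G'), x ≫ b = h ≫ p →
      ∃ n : T ⟶ G₀, n ≫ i₀ = (x ≫ δ) * (h ≫ i')⁻¹ := fun {T} x h w => hker _ (by
    rw [MonObj.mul_comp, GrpObj.inv_comp, hpp, Category.assoc, hδ, ← Category.assoc, w, mul_inv_cancel])
  have hψ : IsPullback ψ hh b p := by
    refine ⟨⟨hψb⟩, ⟨PullbackCone.IsLimit.mk _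
      (fun s => lift (lift (s.fst ≫ pullback.fst _ _) (hdd s.fst s.snd s.condition).choose) s.snd)
      (fun s => ?_) (fun s => ?_) (fun s m hm1 hm2 => ?_)⟩⟩
    · have hn := (hdd s.fst s.snd s.condition).choose_spec
      generalize (hdd s.fst s.snd s.condition).choose = n at hn ⊢
      apply pullback.hom_ext
      · simp [ψ, gg]
      · rw [hfs, hfs, Category.assoc _ ψ, pullback.lift_fst, Category.assoc _ ψ δ, hψδ, MonObj.comp_mul]
        simp only [gg, nn, hh, Category.assoc, lift_fst_assoc, lift_fst, lift_snd_assoc]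
        rw [hn, inv_mul_cancel_right]
    · simp [hh]
    · have e0 := hm1 =≫ pullback.fst _ _
      have e1 := hm1 =≫ δ
      rw [Category.assoc, pullback.lift_fst] at e0
      rw [Category.assoc, hψδ, MonObj.comp_mul] at e1
      refine CartesianMonoidalCategory.hom_ext _ _ ?_ (by simpa [hh] using hm2)
      refine CartesianMonoidalCategory.hom_ext _ _ (by simpa [gg] using e0) ?_
      rw [← cancel_mono i₀, lift_fst, lift_snd, (hdd s.fst s.snd s.condition).choose_spec, ← e1, ← hm2]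
      simp [nn, hh]
  let σ : (G ⊗ G₀) ⊗ G' ⟶ G ⊗ Qa := fst _ _ ≫ (G ◁ qa)
  have hw : σ ≫ Θ = ψ ≫ r := by
    apply pullback.hom_ext
    · simp [σ, Θ, ψ, r, gg]
    · simp only [σ, Θ, ψ, r, Category.assoc, pullback.lift_snd, hρ, pullback.lift_snd_assoc, φ₀]
      rw [← Category.assoc, MonObj.comp_mul]
      refine (comp_eq_iff hq.2.2.2 _ _).2 ⟨hh, ?_⟩
      simp [gg, nn]
  haveI : IsIso Θ.left := isIso_left_of_mono_of_cover σ Θ (hw ▸ (isCover_of_isPullback hψ hcp).comp hr)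
  -- descent
  have hP : IsPullback (pullback.fst (q₁ ≫ qb) π).left (pullback.snd (q₁ ≫ qb) π).left (q₁ ≫ qb).left π.left :=
    (IsPullback.of_hasPullback (q₁ ≫ qb) π).map (Over.forget _)
  have haff : IsAffineHom (pullback.fst (q₁ ≫ qb) π).left := by
    have e : (pullback.fst (q₁ ≫ qb) π).left = inv Θ.left ≫ (fst G Qa).left := by
      rw [IsIso.eq_inv_comp, ← Over.comp_left, pullback.lift_fst]
    have : IsAffineHom (fst G Qa).left := by
      show IsAffineHom (Limits.pullback.fst G.hom Qa.hom)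
      infer_instance
    rw [e]
    infer_instance
  haveI := FpqcDesc.descendsAlong_isAffineHom.{u}
  haveI : QuasiCompact (q₁ ≫ qb).left := inferInstance
  haveI : IsAffineHom π.left := MorphismProperty.of_isPullback_of_descendsAlong
    (P := @IsAffineHom) (Q := FpqcDesc.FPQC) hP ⟨⟨hcc.surj, hcc.flat⟩, inferInstance⟩ haff
  exact isAffine_of_isAffineHom π.left


/-- Let k be a field of characteristic 0 and G an affine group scheme of finite type over k; let G' be a
closed subgroup of G and G₀ a closed normal subgroup of G with quotient q₁ : G → G₁ (so G₁ = G/G₀),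
let G₀' = G₀ ∩ G' and let G₁' be the image of G' in G₁, a closed subgroup of G₁ through which G' →
G₁ factors by a surjective morphism. Suppose that the quotients G₀/G₀' and G₁/G₁' (fppf quotient
sheaves represented by schemes) are affine. Then every scheme Q representing the quotient G/G' is
affine. -/
theorem result (k : Type u) [Field k] [CharZero k]
    (G : Over (Spec (CommRingCat.of k))) [GrpObj G] [IsAffine G.left] [LocallyOfFiniteType G.hom]
    (G' : Over (Spec (CommRingCat.of k))) [GrpObj G'] (i' : G' ⟶ G) [IsMonHom i'] (hi' : IsClosedImmersion i'.left)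
    (G₀ : Over (Spec (CommRingCat.of k))) [GrpObj G₀] (i₀ : G₀ ⟶ G) [IsMonHom i₀] (hi₀ : IsClosedImmersion i₀.left)
    (hn : AlgGrp.IsNormalHom i₀)
    (G₁ : Over (Spec (CommRingCat.of k))) [GrpObj G₁] (q₁ : G ⟶ G₁) [IsMonHom q₁] (hq₁ : RedSub.IsQuotient i₀ q₁)
    (G₀' : Over (Spec (CommRingCat.of k))) [GrpObj G₀'] (j : G₀' ⟶ G₀) [IsMonHom j] (j' : G₀' ⟶ G')
    (hj : IsPullback j j' i₀ i')
    (G₁' : Over (Spec (CommRingCat.of k))) [GrpObj G₁'] (i₁' : G₁' ⟶ G₁) [IsMonHom i₁'] (hi₁' : IsClosedImmersion i₁'.left)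
    (p : G' ⟶ G₁') (hp : p ≫ i₁' = i' ≫ q₁) (hps : Surjective p.left)
    (Qa : Over (Spec (CommRingCat.of k))) (qa : G₀ ⟶ Qa) (hqa : RedSub.IsQuotient j qa) (ha : IsAffine Qa.left)
    (Qb : Over (Spec (CommRingCat.of k))) (qb : G₁ ⟶ Qb) (hqb : RedSub.IsQuotient i₁' qb) (hb : IsAffine Qb.left)
    (Q : Over (Spec (CommRingCat.of k))) (q : G ⟶ Q) (hq : RedSub.IsQuotient i' q) :
    IsAffine Q.left := by
  exact main i' i₀ q₁ hq₁ j j' hj i₁' p hp qa hqa qb hqb q hq

end Groth.Agent.S14545
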