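import Groth.Statements.S14556
import Groth.Agent.AdelePts.Basic
import Groth.Agent.AdelePts.H0Pts

set_option autoImplicit false
universe u
open TateGlob

namespace Groth.Agent.S14556

open CategoryTheory AlgebraicGeometry in
/-- Let K be a global function field with finite constant field Fq (every element of K having finitely
many poles), A_K its ring of adeles, S a finite nonempty set of places, O_S the ring of S-integers
and 𝒢 a flat, separated commutative O_S-group scheme of finite type. Then the map H^0(A_K, 𝒢) → ∏_v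
H^0(K_v, 𝒢) induced by the projections A_K → K_v is injective, and its image consists of the
restricted product of the H^0(K_v, 𝒢), taken relative to the images of H^0(O_v, 𝒢) → H^0(K_v, 𝒢), v
∉ S: the families almost all of whose components come from O_v. Here H^0 is the degree-0 cohomology
of the sheaf of points of 𝒢 on the big fppf site of Spec O_S, restricted to Spec A_K, Spec K_v and
Spec O_v. -/
theorem result (Fq : Type u) [Field Fq] [Finite Fq] (K : Type u) [Field K] [Algebra (RatFunc Fq) K] [FunctionField Fq K]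
    [Algebra Fq K] [IsScalarTower Fq (RatFunc Fq) K] [AdFn.HasFinitePoles Fq K]
    (S : Set (FunFld.Place Fq K)) (hS : S.Finite) (hne : S.Nonempty)
    (𝒢 : Over (Spec (CommRingCat.of (AdFn.SInt S)))) [GrpObj 𝒢] [IsCommMonObj 𝒢]
    [Flat 𝒢.hom] [IsSeparated 𝒢.hom] [LocallyOfFiniteType 𝒢.hom] [QuasiCompact 𝒢.hom] :
    Function.Injective (AdFn.locProdS Scheme.fppfPrecoverage S (CGrpSh.pts Scheme.fppfPrecoverage 𝒢) 0) ∧
      Set.range (AdFn.locProdS Scheme.fppfPrecoverage S (CGrpSh.pts Scheme.fppfPrecoverage 𝒢) 0) =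
        Set.range (fun y : AdFn.LocRP Scheme.fppfPrecoverage S (CGrpSh.pts Scheme.fppfPrecoverage 𝒢) 0 => (⇑y : (v : FunFld.Place Fq K) → AdFn.HLocS Scheme.fppfPrecoverage S (CGrpSh.pts Scheme.fppfPrecoverage 𝒢) 0 v)) := by
  refine ⟨?_, Set.ext fun y => ⟨?_, ?_⟩⟩
  · intro x x' h
    apply HResFun.point_injective Scheme.fppfPrecoverage 𝒢
    refine AdelePts.over_ext (AdFn.SInt.toAd S) (fun v => AdFn.AdeleRing.proj v)
      (fun r hr => RestrictedProduct.ext _ _ hr) _ _ fun v => ?_
    have h1 := congrFun h v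
    rw [AdelePts.locProdS_apply, AdelePts.locProdS_apply] at h1
    have h2 := congrArg (HResFun.point Scheme.fppfPrecoverage 𝒢) h1
    rw [HResFun.point_resHU, HResFun.point_resHU] at h2
    exact congrArg CommaMorphism.left h2
  · rintro ⟨x, rfl⟩
    have hev := AdelePts.eventually_integral hS 𝒢 (HResFun.point Scheme.fppfPrecoverage 𝒢 x)
    refine ⟨⟨AdFn.locProdS Scheme.fppfPrecoverage S (CGrpSh.pts Scheme.fppfPrecoverage 𝒢) 0 x, ?_⟩, rfl⟩
    filter_upwards [hev] with v ⟨hv, z, hz⟩
    obtain ⟨w, hw⟩ := HResFun.exists_point_eq Scheme.fppfPrecoverage 𝒢 z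
    rw [SetLike.mem_coe, AdelePts.locProdS_apply]
    convert AdelePts.intRes_mem_locSub Scheme.fppfPrecoverage S _ 0 hv w using 1
    apply HResFun.point_injective Scheme.fppfPrecoverage 𝒢
    rw [HResFun.point_resHU, HResFun.point_resHU, hw, hz]
  · rintro ⟨⟨y, hy⟩, rfl⟩
    obtain ⟨f, hf⟩ := AdelePts.exists_point hS 𝒢
      (fun v => HResFun.point Scheme.fppfPrecoverage 𝒢 (y v)) (by
        filter_upwards [hy, hS.compl_mem_cofinite] with v hyv hvS
        obtain ⟨w, hw⟩ := AdelePts.exists_intRes_eq Scheme.fppfPrecoverage S _ 0 hvS hyv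
        refine ⟨hvS, HResFun.point Scheme.fppfPrecoverage 𝒢 w, ?_⟩
        rw [← hw, HResFun.point_resHU])
    obtain ⟨x, hx⟩ := HResFun.exists_point_eq Scheme.fppfPrecoverage 𝒢 f
    refine ⟨x, funext fun v => ?_⟩
    apply HResFun.point_injective Scheme.fppfPrecoverage 𝒢
    rw [AdelePts.locProdS_apply, HResFun.point_resHU, hx, hf v]
    rfl

end Groth.Agent.S14556
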