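import Groth.Statements.S7632
import Groth.Agent.S1629
import Groth.Agent.S1549
import Groth.Agent.RedSub.Basic
import Groth.Agent.GrpScheme.HomFlat
import Mathlib.AlgebraicGeometry.Morphisms.UniversallyInjective
-- import your own Groth.Agent.* helpers here

set_option autoImplicit false
set_option linter.style.haveILetI false
set_option backward.isDefEq.respectTransparency false
universe u
open CategoryTheory CategoryTheory.Limits AlgebraicGeometry
open Variety

namespace Groth.Agent.S7632

open TopologicalSpace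
open scoped TensorProduct

/-- A purely inseparable field extension is universally injective on spectra. -/
lemma universallyInjective_specMap (k K : Type u) [Field k] [Field K] [Algebra k K] [IsPurelyInseparable k K] :
    UniversallyInjective (Spec.map (CommRingCat.ofHom (algebraMap k K))) := by
  refine ((tfae_universallyInjective (Spec.map (CommRingCat.ofHom (algebraMap k K)))).out 0 1).mpr ?_
  intro L instL g₁ g₂ hg
  obtain ⟨φ₁, rfl⟩ := Spec.map_surjective g₁
  obtain ⟨φ₂, rfl⟩ := Spec.map_surjective g₂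
  simp only [← Spec.map_comp] at hg
  exact congrArg Spec.map (CommRingCat.hom_ext
    (IsPurelyInseparable.injective_comp_algebraMap k K L (congrArg CommRingCat.Hom.hom (Spec.map_injective hg))))

/-- A finite purely inseparable extension containing two given ones. -/
lemma exists_compositum (k K₁ K₂ : Type u) [Field k] [Field K₁] [Field K₂] [Algebra k K₁] [Algebra k K₂]
    [FiniteDimensional k K₁] [IsPurelyInseparable k K₁] [FiniteDimensional k K₂] [IsPurelyInseparable k K₂] :
    ∃ (L : Type u) (_ : Field L) (_ : Algebra k L) (_ : K₁ →ₐ[k] L) (_ : K₂ →ₐ[k] L),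
      FiniteDimensional k L ∧ IsPurelyInseparable k L := by
  have : Nontrivial (K₁ ⊗[k] K₂) :=
    Algebra.TensorProduct.includeLeft_injective (R := k) (S := k) (A := K₁) (B := K₂)
      (RingHom.injective _) |>.nontrivial
  obtain ⟨m, hm⟩ := Ideal.exists_maximal (K₁ ⊗[k] K₂)
  let q := ringExpChar k
  letI : Field ((K₁ ⊗[k] K₂) ⧸ m) := Ideal.Quotient.field m
  let φ := (Ideal.Quotient.mkₐ k m).comp (Algebra.TensorProduct.includeLeft : K₁ →ₐ[k] K₁ ⊗[k] K₂)
  refine ⟨(K₁ ⊗[k] K₂) ⧸ m, inferInstance, inferInstance, φ,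
    (Ideal.Quotient.mkₐ k m).comp Algebra.TensorProduct.includeRight,
    Module.Finite.of_surjective (Ideal.Quotient.mkₐ k m).toLinearMap (Ideal.Quotient.mkₐ_surjective k m), ?_⟩
  rw [isPurelyInseparable_iff_pow_mem k q]
  intro x
  obtain ⟨y, rfl⟩ := Ideal.Quotient.mkₐ_surjective k m x
  obtain ⟨n, r, hr⟩ := IsPurelyInseparable.exists_pow_pow_mem_range_tensorProduct_of_expChar (k := k) q y
  obtain ⟨n', c, hc⟩ := (isPurelyInseparable_iff_pow_mem k q).1 (inferInstanceAs (IsPurelyInseparable k K₁)) r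
  refine ⟨n + n', c, ?_⟩
  rw [pow_add, pow_mul, ← map_pow, ← hr, show Ideal.Quotient.mkₐ k m (algebraMap K₁ (K₁ ⊗[k] K₂) r) = φ r from rfl,
    ← map_pow φ, ← hc, AlgHom.commutes]

section

variable (k : Type u) [Field k] (X : Scheme.{u}) [X.Over (Spec (CommRingCat.of k))]

/-- A smooth scheme over `K` immersed in `X_K` with range the preimage of `W`. -/
def Good (K : Type u) [Field K] [Algebra k K] (W : Set X) : Prop :=
  ∃ (S : Scheme.{u}) (j : S ⟶ Curv2.bc k X K), IsImmersion j ∧ Smooth (j ≫ Curv2.bcSnd k X K) ∧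
    Set.range j = Curv2.bcFst k X K ⁻¹' W

/-- Good strata stay good after a field extension. -/
lemma Good.extend {K L : Type u} [Field K] [Field L] [Algebra k K] [Algebra k L] (φ : K →ₐ[k] L) {W : Set X}
    (h : Good k X K W) : Good k X L W := by
  obtain ⟨S, j, hj, hs, hr⟩ := h
  letI := φ.toRingHom.toAlgebra
  let σ := Spec.map (CommRingCat.ofHom (algebraMap K L))
  have hσ : σ ≫ Spec.map (CommRingCat.ofHom (algebraMap k K)) = Spec.map (CommRingCat.ofHom (algebraMap k L)) := by
    rw [← Spec.map_comp, ← CommRingCat.ofHom_comp]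
    congr 2
    exact φ.comp_algebraMap
  let g : Curv2.bc k X L ⟶ Curv2.bc k X K :=
    pullback.map _ _ _ _ (𝟙 X) σ (𝟙 _) (by simp) (by rw [hσ, Category.comp_id])
  have hg1 : g ≫ Curv2.bcFst k X K = Curv2.bcFst k X L := by
    show g ≫ pullback.fst _ _ = _
    simp [g]
  have hg2 : g ≫ Curv2.bcSnd k X K = Curv2.bcSnd k X L ≫ σ := by
    show g ≫ pullback.snd _ _ = _
    simp [g]
  have H : IsPullback g (Curv2.bcSnd k X L) (Curv2.bcSnd k X K) σ := by
    refine IsPullback.of_right ?_ hg2 (IsPullback.of_hasPullback _ _)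
    show IsPullback (g ≫ Curv2.bcFst k X K) _ _ _
    rw [hg1, hσ]
    exact IsPullback.of_hasPullback _ _
  have := hj
  refine ⟨pullback j g, pullback.snd j g, inferInstance, ?_, ?_⟩
  · exact MorphismProperty.of_isPullback (P := @Smooth) ((IsPullback.of_hasPullback j g).paste_vert H) hs
  · rw [Scheme.Pullback.range_snd, hr]
    ext x
    show Curv2.bcFst k X K (g x) ∈ W ↔ _
    rw [← Scheme.Hom.comp_apply, hg1]
    rfl

/-- The stratification, by Noetherian induction on closed subsets. -/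
lemma exists_chain [LocallyOfFiniteType (X ↘ Spec (CommRingCat.of k))]
    [QuasiCompact (X ↘ Spec (CommRingCat.of k))] (T : Closeds X) :
    ∃ (K : Type u) (_ : Field K) (_ : Algebra k K) (_ : FiniteDimensional k K) (_ : IsPurelyInseparable k K)
      (t : ℕ) (C : Fin (t + 1) → Closeds X), Antitone C ∧ C 0 = T ∧ C (Fin.last t) = ⊥ ∧
        ∀ i : Fin t, Good k X K ((C i.castSucc : Set X) \ C i.succ) := by
  haveI : IsLocallyNoetherian X := LocallyOfFiniteType.isLocallyNoetherian (X ↘ Spec (CommRingCat.of k))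
  haveI : CompactSpace X := (quasiCompact_iff_compactSpace (X ↘ Spec (CommRingCat.of k))).mp inferInstance
  haveI : IsNoetherian X := ⟨⟩
  induction T using WellFoundedLT.induction with
  | _ T IH =>
  by_cases hT : T = ⊥
  · exact ⟨k, inferInstance, inferInstance, inferInstance, inferInstance, 0, fun _ => ⊥,
      fun _ _ _ => le_rfl, hT.symm, rfl, fun i => i.elim0⟩
  -- the reduced subscheme on `T`
  let Xt := (Scheme.IdealSheafData.vanishingIdeal T).subscheme
  let ι : Xt ⟶ X := (Scheme.IdealSheafData.vanishingIdeal T).subschemeι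
  have hι : Set.range ι = T := RedSub.range_vanishingIdeal_subschemeι T
  letI : Xt.Over (Spec (CommRingCat.of k)) := ⟨ι ≫ (X ↘ Spec (CommRingCat.of k))⟩
  haveI : LocallyOfFiniteType (Xt ↘ Spec (CommRingCat.of k)) :=
    inferInstanceAs (LocallyOfFiniteType (ι ≫ (X ↘ Spec (CommRingCat.of k))))
  haveI : QuasiCompact (Xt ↘ Spec (CommRingCat.of k)) :=
    inferInstanceAs (QuasiCompact (ι ≫ (X ↘ Spec (CommRingCat.of k))))
  haveI : IsLocallyNoetherian Xt := LocallyOfFiniteType.isLocallyNoetherian (Xt ↘ Spec (CommRingCat.of k))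
  haveI : CompactSpace Xt := (quasiCompact_iff_compactSpace (Xt ↘ Spec (CommRingCat.of k))).mp inferInstance
  haveI : IsNoetherian Xt := ⟨⟩
  obtain ⟨K₁, _, _, hf₁, hp₁, hgr⟩ := Groth.Agent.S1629.result k Xt
    TopologicalSpace.NoetherianSpace.finite_irreducibleComponents
  let Y := (Curv2.bc k Xt K₁).nilradical.subscheme
  let νY : Y ⟶ Curv2.bc k Xt K₁ := (Curv2.bc k Xt K₁).nilradical.subschemeι
  letI : Y.Over (Spec (CommRingCat.of K₁)) := ⟨νY ≫ Curv2.bcSnd k Xt K₁⟩
  haveI : IsReduced Y := by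
    show IsReduced (Curv2.bc k Xt K₁).nilradical.subscheme
    infer_instance
  haveI : LocallyOfFiniteType (Y ↘ Spec (CommRingCat.of K₁)) :=
    inferInstanceAs (LocallyOfFiniteType (νY ≫ Curv2.bcSnd k Xt K₁))
  obtain ⟨U, hUd, hUs⟩ := (Groth.Agent.S1549.result K₁ Y).1 hgr
  -- compare the spaces
  haveI := universallyInjective_specMap k K₁
  haveI : IsFinite (Spec.map (CommRingCat.ofHom (algebraMap k K₁))) :=
    (IsFinite.SpecMap_iff _).mpr (RingHom.finite_algebraMap.mpr hf₁)
  haveI : Surjective (Spec.map (CommRingCat.ofHom (algebraMap k K₁))) := Groth.Agent.FBase.BC.surjective_specMap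
  let π : Y ⟶ Xt := νY ≫ Curv2.bcFst k Xt K₁
  have hνs : Function.Surjective νY := Groth.Agent.FBase.LenBC.surjective_nilradical_subschemeι
  have hπsurj : Function.Surjective π := fun x => by
    haveI hs : Surjective (pullback.fst (Xt ↘ Spec (CommRingCat.of k))
      (Spec.map (CommRingCat.ofHom (algebraMap k K₁)))) := inferInstance
    obtain ⟨z, hz⟩ := hs.surj x
    obtain ⟨w, rfl⟩ := hνs z
    exact ⟨w, hz⟩
  haveI : UniversallyClosed (Curv2.bcFst k Xt K₁) := inferInstanceAs (UniversallyClosed (pullback.fst _ _))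
  have hπcl : IsClosedMap π := by
    show IsClosedMap (Curv2.bcFst k Xt K₁ ∘ νY)
    exact (Scheme.Hom.isClosedMap _).comp νY.isClosedEmbedding.isClosedMap
  let T' : Closeds X := ⟨ι '' (π '' (U : Set Y)ᶜ), ι.isClosedEmbedding.isClosedMap _ (hπcl _ U.2.isClosed_compl)⟩
  have hT'le : T' ≤ T := by
    rintro _ ⟨x, -, rfl⟩
    exact hι.le ⟨x, rfl⟩
  haveI : UniversallyInjective (Curv2.bcFst k Xt K₁) := MorphismProperty.pullback_fst _ _ ‹_›
  have hπinj : Function.Injective π := fun a b h =>
    νY.isClosedEmbedding.injective ((Curv2.bcFst k Xt K₁).injective h)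
  have hT'ne : T' ≠ T := by
    intro e
    have hne : Nonempty Y := by
      by_contra hY
      refine hT (SetLike.coe_injective (Set.eq_empty_of_forall_notMem fun x hx => hY ?_))
      obtain ⟨z, -⟩ := hι.ge hx
      exact ⟨(hπsurj z).choose⟩
    obtain ⟨y, hy⟩ := hUd.nonempty
    have : ι (π y) ∈ T' := e.ge (hι.le ⟨π y, rfl⟩)
    obtain ⟨z, ⟨y', hy', rfl⟩, hz⟩ := this
    exact hy' (hπinj (ι.isClosedEmbedding.injective hz) ▸ hy)
  obtain ⟨K₂, _, _, hf₂, hp₂, t, C, hanti, hC0, hClast, hgood⟩ := IH T' (lt_of_le_of_ne hT'le hT'ne)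
  -- the open stratum
  have hgood₁ : Good k X K₁ ((T : Set X) \ T') := by
    let ι' : Curv2.bc k Xt K₁ ⟶ Curv2.bc k X K₁ :=
      pullback.map _ _ _ _ ι (𝟙 _) (𝟙 _) (by rw [Category.comp_id]; rfl) (by simp)
    have h1 : ι' ≫ Curv2.bcFst k X K₁ = Curv2.bcFst k Xt K₁ ≫ ι := by
      show ι' ≫ pullback.fst _ _ = _
      simp [ι']
    have h2 : ι' ≫ Curv2.bcSnd k X K₁ = Curv2.bcSnd k Xt K₁ := by
      show ι' ≫ pullback.snd _ _ = _
      simp [ι']
    haveI : UniversallyInjective (Curv2.bcFst k X K₁) := MorphismProperty.pullback_fst _ _ ‹_›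
    haveI : IsClosedImmersion ι' := by
      have H : IsPullback (Curv2.bcFst k Xt K₁) ι' ι (Curv2.bcFst k X K₁) := by
        refine IsPullback.of_bot ?_ h1.symm (IsPullback.of_hasPullback (X ↘ Spec (CommRingCat.of k)) _)
        rw [h2]
        exact IsPullback.of_hasPullback _ _
      exact MorphismProperty.of_isPullback (P := @IsClosedImmersion) H inferInstance
    refine ⟨U, U.ι ≫ νY ≫ ι', inferInstance, ?_, ?_⟩
    · rw [Category.assoc, Category.assoc, h2]
      exact hUs
    · have hcomp : ∀ y : Y, Curv2.bcFst k X K₁ (ι' (νY y)) = ι (π y) := fun y => by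
        rw [← Scheme.Hom.comp_apply ι', h1, Scheme.Hom.comp_apply]
        rfl
      ext z
      simp only [Set.mem_range, Scheme.Hom.comp_apply, Set.mem_preimage, Set.mem_sdiff, SetLike.mem_coe]
      constructor
      · rintro ⟨y, rfl⟩
        rw [hcomp]
        refine ⟨hι.le ⟨_, rfl⟩, fun ⟨x, ⟨y', hy', hx⟩, he⟩ => ?_⟩
        have : π y' = π (U.ι y) := hx.trans (ι.isClosedEmbedding.injective he)
        exact hy' (hπinj this ▸ y.2)
      · rintro ⟨hz, hz'⟩
        obtain ⟨x, hx⟩ := hι.ge hz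
        obtain ⟨y, rfl⟩ := hπsurj x
        have hyU : y ∈ U := by
          by_contra hy
          exact hz' ⟨π y, ⟨y, hy, rfl⟩, hx⟩
        exact ⟨⟨y, hyU⟩, (Curv2.bcFst k X K₁).injective ((hcomp y).trans hx)⟩
  obtain ⟨L, _, _, φ₁, φ₂, hfL, hpL⟩ := exists_compositum k K₁ K₂
  refine ⟨L, inferInstance, inferInstance, hfL, hpL, t + 1, Fin.cons T C, ?_, rfl, ?_, fun i => ?_⟩
  · refine Fin.antitone_iff_succ_le.2 fun i => ?_
    induction i using Fin.cases with
    | zero => rw [Fin.castSucc_zero, Fin.cons_zero, Fin.cons_succ, hC0]; exact hT'le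
    | succ i => rw [Fin.castSucc_succ, Fin.cons_succ, Fin.cons_succ]; exact hanti (Fin.castSucc_le_succ i)
  · rw [← Fin.succ_last, Fin.cons_succ, hClast]
  · induction i using Fin.cases with
    | zero => rw [Fin.castSucc_zero, Fin.cons_zero, Fin.cons_succ, hC0]; exact hgood₁.extend k X φ₁
    | succ i => rw [Fin.castSucc_succ, Fin.cons_succ, Fin.cons_succ]; exact (hgood i).extend k X φ₂

end

/-- Let X be a scheme of finite type over a field k. Then one can find a finite purely inseparable field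
extension k'/k, some t ≥ 0, and a descending chain Z_0 ⊇ … ⊇ Z_t = ∅ of closed subschemes of X_{k'},
given by an increasing chain of quasi-coherent ideal sheaves I_0 ≤ … ≤ I_t = O on X_{k'}, such that
Z_0 = (X_{k'})_red (I_0 is the ideal of nilpotents) and the open subscheme Z_i ∖ Z_{i+1} of Z_i is
smooth over k' for every i < t. -/
theorem result (k : Type u) [Field k] (X : Scheme.{u}) [X.Over (Spec (CommRingCat.of k))] [LocallyOfFiniteType (X ↘ (Spec (CommRingCat.of k)))] [QuasiCompact (X ↘ (Spec (CommRingCat.of k)))] :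
    ∃ (k' : Type u) (_ : Field k') (_ : Algebra k k') (_ : FiniteDimensional k k') (_ : IsPurelyInseparable k k')
      (t : ℕ) (I : Fin (t + 1) → (Curv2.bc k X k').IdealSheafData),
      Monotone I ∧ I 0 = Scheme.IdealSheafData.vanishingIdeal ⊤ ∧ I (Fin.last t) = ⊤ ∧
        ∀ i : Fin t,
          Smooth (((I i.castSucc).subschemeι ⁻¹ᵁ (I i.succ).support.compl).ι ≫ (I i.castSucc).subschemeι ≫ Curv2.bcSnd k X k') := by
  obtain ⟨K, _, _, hf, hp, t, C, hanti, hC0, hClast, hgood⟩ := exists_chain k X ⊤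
  let pC : Fin (t + 1) → Closeds (Curv2.bc k X K) := fun i =>
    ⟨Curv2.bcFst k X K ⁻¹' C i, (C i).2.preimage (Curv2.bcFst k X K).continuous⟩
  refine ⟨K, inferInstance, inferInstance, hf, hp, t,
    fun i => Scheme.IdealSheafData.vanishingIdeal (pC i),
    fun i j hij => Scheme.IdealSheafData.vanishingIdeal_antimono fun x hx => hanti hij hx, ?_, ?_, fun i => ?_⟩
  · show Scheme.IdealSheafData.vanishingIdeal (pC 0) = _
    congr 1
    exact SetLike.coe_injective (by simp [pC, hC0])
  · show Scheme.IdealSheafData.vanishingIdeal (pC (Fin.last t)) = ⊤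
    rw [show pC (Fin.last t) = ⊥ from SetLike.coe_injective (by simp [pC, hClast]),
      Scheme.IdealSheafData.vanishingIdeal_bot]
  obtain ⟨S, j, hj, hs, hr⟩ := hgood i
  haveI := hj
  haveI : IsReduced S := Groth.Agent.GrpScheme.HomFlat.isReduced_of_smooth (j ≫ Curv2.bcSnd k X K)
  let I := Scheme.IdealSheafData.vanishingIdeal (pC i.castSucc)
  let V : I.subscheme.Opens := I.subschemeι ⁻¹ᵁ (Scheme.IdealSheafData.vanishingIdeal (pC i.succ)).support.compl
  haveI : IsReduced I.subscheme := RedSub.isReduced_vanishingIdeal _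
  haveI : IsReduced (V : Scheme.{u}) := isReduced_of_isOpenImmersion V.ι
  have hrange : Set.range (V.ι ≫ I.subschemeι) = Set.range j := by
    rw [hr, Scheme.Hom.comp_base, TopCat.coe_comp, Set.range_comp, Scheme.Opens.range_ι]
    ext z
    constructor
    · rintro ⟨w, hw, rfl⟩
      refine ⟨(RedSub.range_vanishingIdeal_subschemeι (pC i.castSucc)).le ⟨w, rfl⟩, fun hmem => hw ?_⟩
      exact (Scheme.IdealSheafData.coe_support_vanishingIdeal (Z := pC i.succ)).ge hmem
    · rintro ⟨h1, h2⟩
      obtain ⟨w, rfl⟩ := (RedSub.range_vanishingIdeal_subschemeι (pC i.castSucc)).ge h1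
      exact ⟨w, fun hw => h2 ((Scheme.IdealSheafData.coe_support_vanishingIdeal (Z := pC i.succ)).le hw), rfl⟩
  obtain ⟨e, he⟩ := RedSub.exists_iso (V.ι ≫ I.subschemeι) j hrange
  show Smooth (V.ι ≫ I.subschemeι ≫ Curv2.bcSnd k X K)
  rw [← Category.assoc, ← he, Category.assoc]
  haveI := hs
  infer_instance

end Groth.Agent.S7632
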