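import Groth.Agent.FlatMor62.LocalStruct
import Groth.Statements.S1457

set_option autoImplicit false
universe u
open FlatMor

namespace Groth.Agent.S1457

set_option backward.isDefEq.respectTransparency.types false in
set_option backward.isDefEq.respectTransparency false in
open AlgebraicGeometry CategoryTheory Limits in
/-- Omitting the assertion on pure transcendence of a residue field and the addendum on finite
presentation of π: let f : X → S be locally of finite type, x a point with image s and n the local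
dimension of the fibre at x. Then there are affine schemes S', Y', X', an elementary étale
neighbourhood e : (S', s') → (S, s), a morphism h : Y' → S' smooth of relative dimension n with
geometrically integral fibres, a finite morphism π : X' → Y' and an elementary étale neighbourhood g
: (X', x') → (X, x) with g ≫ f = π ≫ h ≫ e, such that x' is the only point of X' over y' = π x' and
h y' = s'. -/
theorem result {X S : Scheme.{u}} (f : X ⟶ S) [LocallyOfFiniteType f] (x : X) (n : ℕ) (hn : FlatMor.fibreDimAt f x = n) :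
    ∃ (S' Y' X' : Scheme.{u}) (e : S' ⟶ S) (h : Y' ⟶ S') (π : X' ⟶ Y') (g : X' ⟶ X) (s' : S') (x' : X'),
      IsAffine S' ∧ IsAffine Y' ∧ IsAffine X' ∧ Hens2.IsEtaleNbhd e s' (f x) ∧ Hens2.IsEtaleNbhd g x' x ∧
      g ≫ f = π ≫ h ≫ e ∧ SmoothOfRelativeDimension n h ∧ GeometricallyIntegral h ∧ IsFinite π ∧ h (π x') = s' ∧
      ∀ z : X', π z = π x' → z = x' := by
  obtain ⟨_, ⟨V, hV, rfl⟩, hxV, -⟩ :=
    S.isBasis_affineOpens.exists_subset_of_mem_open (Set.mem_univ (f x)) isOpen_univ
  obtain ⟨_, ⟨U, hU, rfl⟩, hxU, hUV⟩ := X.isBasis_affineOpens.exists_subset_of_mem_open hxV (f ⁻¹ᵁ V).2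
  replace hV : IsAffineOpen V := hV
  replace hU : IsAffineOpen U := hU
  algebraize [(f.appLE V U hUV).hom]
  haveI : Algebra.FiniteType Γ(S, V) Γ(X, U) := f.finiteType_appLE hV hU hUV
  have hsq : Spec.map (CommRingCat.ofHom (algebraMap Γ(S, V) Γ(X, U))) ≫ hV.fromSpec = hU.fromSpec ≫ f :=
    IsAffineOpen.SpecMap_appLE_fromSpec f hV hU hUV
  have hcomm : ∀ Q : PrimeSpectrum Γ(X, U), f (hU.fromSpec Q) =
      hV.fromSpec (PrimeSpectrum.comap (algebraMap Γ(S, V) Γ(X, U)) Q) := fun Q =>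
    (congr($hsq Q)).symm
  obtain ⟨P, rfl⟩ : x ∈ Set.range hU.fromSpec := by rw [hU.range_fromSpec]; exact hxU
  let pp : PrimeSpectrum Γ(S, V) := PrimeSpectrum.comap (algebraMap Γ(S, V) Γ(X, U)) P
  haveI : P.asIdeal.IsPrime := P.isPrime
  haveI : P.asIdeal.LiesOver pp.asIdeal := ⟨rfl⟩
  let ee := PrimeSpectrum.preimageHomeomorphFiber Γ(S, V) Γ(X, U) pp
  let Q := ee ⟨P, rfl⟩
  have hQ : Q.asIdeal.comap Algebra.TensorProduct.includeRight.toRingHom = P.asIdeal :=
    congr($((PrimeSpectrum.preimageEquivFiber Γ(S, V) Γ(X, U) pp).symm_apply_apply ⟨P, rfl⟩).1.asIdeal)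
  let ι : PrimeSpectrum (pp.asIdeal.Fiber Γ(X, U)) → ↥(f ⁻¹' {f (hU.fromSpec P)}) := fun q =>
    ⟨hU.fromSpec (ee.symm q).1, (hcomm (ee.symm q).1).trans ((congrArg hV.fromSpec
      (show PrimeSpectrum.comap _ (ee.symm q).1 = pp from (ee.symm q).2)).trans (hcomm P).symm)⟩
  have hι : Topology.IsInducing ι := Topology.IsInducing.of_comp
    ((hU.fromSpec.continuous.comp (continuous_subtype_val.comp ee.symm.continuous)).subtype_mk _)
    continuous_subtype_val
    (hU.fromSpec.isOpenEmbedding.isInducing.comp (Topology.IsInducing.subtypeVal.comp ee.symm.isInducing))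
  have hιQ : ι Q = ⟨hU.fromSpec P, rfl⟩ := Subtype.ext (by simp [ι, Q])
  have hdim : FlatMor.localDim (PrimeSpectrum (pp.asIdeal.Fiber Γ(X, U))) Q ≤ (n : WithBot ℕ∞) := by
    refine (Groth.Agent.S0442.localDim_le_of_isInducing ι hι Q).trans ?_
    rw [hιQ, ← Groth.Agent.FlatMisc.FibreDimScheme.fibreDimAt_eq, hn]
  obtain ⟨d⟩ := Groth.Agent.FlatMor62.LocalStruct.exists_data Γ(S, V) Γ(X, U) pp.asIdeal P.asIdeal Q hQ n hdim
  obtain ⟨R', D, C, comm, p', y, z, zOverY, ⟨hetR, hoR, hbR⟩, ⟨hetS, hoS, hbS⟩, hfin, huniq, hsm, hgi, -⟩ := d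
  let eR : Spec (CommRingCat.of R') ⟶ Spec Γ(S, V) := Spec.map (CommRingCat.ofHom (algebraMap Γ(S, V) R'))
  let eS : Spec (CommRingCat.of C) ⟶ Spec Γ(X, U) := Spec.map (CommRingCat.ofHom (algebraMap Γ(X, U) C))
  let h : Spec (CommRingCat.of D) ⟶ Spec (CommRingCat.of R') := Spec.map (CommRingCat.ofHom (algebraMap R' D))
  let π : Spec (CommRingCat.of C) ⟶ Spec (CommRingCat.of D) := Spec.map (CommRingCat.ofHom (algebraMap D C))
  let s' : Spec (CommRingCat.of R') := ⟨p', inferInstance⟩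
  let x' : Spec (CommRingCat.of C) := ⟨z, inferInstance⟩
  haveI : Etale eR := HasRingHomProperty.Spec_iff.mpr (RingHom.etale_algebraMap.mpr hetR)
  haveI : Etale eS := HasRingHomProperty.Spec_iff.mpr (RingHom.etale_algebraMap.mpr hetS)
  have hs' : eR s' = pp := PrimeSpectrum.ext hoR.over.symm
  have hx' : eS x' = P := PrimeSpectrum.ext hoS.over.symm
  refine ⟨Spec (CommRingCat.of R'), Spec (CommRingCat.of D), Spec (CommRingCat.of C), eR ≫ hV.fromSpec, h, π,
    eS ≫ hU.fromSpec, s', x', inferInstance, inferInstance, inferInstance, ⟨inferInstance, ?_, ?_⟩,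
    ⟨inferInstance, ?_, ?_⟩, ?_, hsm, hgi, ?_, ?_, ?_⟩
  · show hV.fromSpec (eR s') = _
    rw [hs']
    exact (hcomm P).symm
  · exact Groth.Agent.Wt.EtNbhd.residueFieldMap_bijective_comp _ _ _
      ((Groth.Agent.FlatMor62.LocalStruct.bijective_residueFieldMap_iff _ s' pp.asIdeal hoR.over).mpr hbR)
      (ConcreteCategory.bijective_of_isIso _)
  · show hU.fromSpec (eS x') = _
    rw [hx']
  · exact Groth.Agent.Wt.EtNbhd.residueFieldMap_bijective_comp _ _ _
      ((Groth.Agent.FlatMor62.LocalStruct.bijective_residueFieldMap_iff _ x' P.asIdeal hoS.over).mpr hbS)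
      (ConcreteCategory.bijective_of_isIso _)
  · have e : eS ≫ Spec.map (CommRingCat.ofHom (algebraMap Γ(S, V) Γ(X, U))) = π ≫ h ≫ eR := by
      simp only [eS, π, h, eR, ← Spec.map_comp]
      exact congrArg Spec.map (CommRingCat.hom_ext (comm.symm.trans (RingHom.comp_assoc _ _ _)))
    calc (eS ≫ hU.fromSpec) ≫ f = eS ≫ Spec.map (CommRingCat.ofHom (algebraMap Γ(S, V) Γ(X, U))) ≫ hV.fromSpec := by
          rw [Category.assoc, hsq]
      _ = (π ≫ h ≫ eR) ≫ hV.fromSpec := by rw [← Category.assoc, e]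
      _ = _ := by simp only [Category.assoc]
  · exact (AlgebraicGeometry.IsFinite.SpecMap_iff _).mpr (RingHom.finite_algebraMap.mpr hfin)
  · refine PrimeSpectrum.ext ?_
    show (z.comap (algebraMap D C)).comap (algebraMap R' D) = p'
    rw [zOverY]
    exact (y.over_def p').symm
  · intro w hw
    exact PrimeSpectrum.ext (huniq w.asIdeal w.isPrime ((congrArg PrimeSpectrum.asIdeal hw).trans zOverY))



end Groth.Agent.S1457
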