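import Groth.Statements.S14576
import Groth.Agent.GrpScheme.QuasiAffine
import Groth.Agent.GrpdLib.GrpOver
import Groth.Agent.S0385

set_option autoImplicit false
universe u
open CategoryTheory MonoidalCategory CartesianMonoidalCategory MonObj GrpObj AlgebraicGeometry CategoryTheory.Limits
open AlgGrp

namespace Groth.Agent.S14576

/-- Let k be a field and G a k-group scheme of finite type acting on an affine k-scheme X. If the action
is faithful, in the sense that for every k-scheme T a T-valued point of G acting as the identity on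
X_T is the unit, then G is affine. -/
theorem result (k : Type u) [Field k]
    (G X : Over (Spec (CommRingCat.of k))) [GrpObj G] [LocallyOfFiniteType G.hom] [QuasiCompact G.hom] [IsAffine X.left]
    (a : AlgGrp.Action G X)
    (hf : ∀ (T : Over (Spec (CommRingCat.of k))) (g : T ⟶ G),
      (∀ (T' : Over (Spec (CommRingCat.of k))) (t : T' ⟶ T) (x : T' ⟶ X), lift (t ≫ g) x ≫ a.act = x) → g = 1) :
    IsAffine G.left := by
  have : CompactSpace G.left := (quasiCompact_iff_compactSpace G.hom).1 inferInstance
  have : IsSeparated G.hom := GrpdLib.GrpOver.isSeparated_hom G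
  have : QuasiSeparated X.hom := inferInstance
  let H : Over (Spec (CommRingCat.of k)) :=
    Over.mk (Spec.map ((Scheme.ΓSpecIso (CommRingCat.of k)).inv ≫ G.hom.appTop))
  let j : G ⟶ H := Over.homMk G.left.toSpecΓ (by
    simp only [H, Over.mk_hom]
    rw [Spec.map_comp, ← Scheme.toSpecΓ_naturality_assoc, toSpecΓ_SpecMap_ΓSpecIso_inv,
      Category.comp_id])
  have : IsIso j.left.appTop := by
    show IsIso G.left.toSpecΓ.appTop
    rw [Scheme.toSpecΓ_appTop]
    infer_instance
  have : IsAffine H.left := inferInstanceAs (IsAffine (Spec Γ(G.left, ⊤)))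
  have : IsIso (𝟙 X : X ⟶ X).left.appTop := by
    rw [Over.id_left, Scheme.Hom.id_appTop]; infer_instance
  have : IsIso (j ⊗ₘ 𝟙 X).left.appTop := GrpScheme.QuasiAffine.isIso_appTop_tensorHom j (𝟙 X)
  let b : H ⊗ X ⟶ X := GrpScheme.QuasiAffine.extend (j ⊗ₘ 𝟙 X) a.act
  have hb : (j ⊗ₘ 𝟙 X) ≫ b = a.act := GrpScheme.QuasiAffine.comp_extend _ _
  have hsm : ∀ {T : Over (Spec (CommRingCat.of k))} (g : T ⟶ G) (z : T ⟶ X),
      GrpScheme.Basic.smul a g z = lift (g ≫ j) z ≫ b := fun g z => by
    show lift g z ≫ a.act = _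
    rw [← hb, lift_map_assoc, Category.comp_id]
  have hmono : Mono j := ⟨fun {T} x y h => by
    have h1 : x⁻¹ * y = 1 := hf T _ fun T' t z => by
      show GrpScheme.Basic.smul a (t ≫ (x⁻¹ * y)) z = z
      rw [MonObj.comp_mul, GrpObj.comp_inv, GrpScheme.Basic.mul_smul',
        show GrpScheme.Basic.smul a (t ≫ y) z = GrpScheme.Basic.smul a (t ≫ x) z by
          rw [hsm, hsm, Category.assoc, Category.assoc, h],
        GrpScheme.Basic.inv_smul_smul']
    exact inv_mul_eq_one.1 h1⟩
  have : Mono j.left := inferInstanceAs (Mono ((Over.forget _).map j))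
  have : IsAffineHom H.hom := isAffineHom_of_isAffine _
  have : QuasiCompact (j.left ≫ H.hom) := by rw [Over.w j]; infer_instance
  have : QuasiCompact j.left := QuasiCompact.of_comp j.left H.hom
  have : LocallyOfFiniteType (j.left ≫ H.hom) := by rw [Over.w j]; infer_instance
  have : LocallyOfFiniteType j.left := locallyOfFiniteType_of_comp j.left H.hom
  obtain ⟨T, jT, π, _, _, _, -⟩ := Groth.Agent.S0385.result j.left
  have : IsAffine T := isAffine_of_isAffineHom π
  have : G.left.IsQuasiAffine := Scheme.IsQuasiAffine.of_isImmersion jT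
  exact GrpScheme.QuasiAffine.isAffine G

end Groth.Agent.S14576
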