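import Groth.Statements.S14577
import Groth.Agent.GrpdLib.AntiAffineRigid

set_option autoImplicit false
universe u
open CategoryTheory MonoidalCategory CartesianMonoidalCategory MonObj GrpObj AlgebraicGeometry CategoryTheory.Limits
open AlgGrp

namespace Groth.Agent.S14577

/-- Let k be a field, X a quasi-compact separated k-scheme with O(X) = k, Y a separated, reduced and
irreducible locally Noetherian k-scheme, Z a separated k-scheme, and x₀, y₀ rational points of X, Y.
If a k-morphism f : X × Y → Z satisfies f(x, y₀) = f(x₀, y₀) identically (as morphisms from X), then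
f(x, y) = f(x₀, y) identically on X × Y. (The published statement does not ask Y to be reduced; the
final density step of its proof uses that the infinitesimal neighbourhoods of y₀ are schematically
dense in Y, which holds when Y is moreover reduced, so Y is taken reduced, hence integral, here.) -/
theorem result (k : Type u) [Field k]
    (X Y Z : Over (Spec (CommRingCat.of k))) [QuasiCompact X.hom] [IsSeparated X.hom]
    (hX : Function.Bijective ((Scheme.ΓSpecIso (CommRingCat.of k)).inv ≫ X.hom.appTop).hom)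
    [IsSeparated Y.hom] [IsLocallyNoetherian Y.left] [IrreducibleSpace ↥Y.left] [IsReduced Y.left] [IsSeparated Z.hom]
    (x₀ : 𝟙_ (Over (Spec (CommRingCat.of k))) ⟶ X) (y₀ : 𝟙_ (Over (Spec (CommRingCat.of k))) ⟶ Y) (f : X ⊗ Y ⟶ Z)
    (hf : (X ◁ y₀) ≫ f = toUnit _ ≫ lift x₀ y₀ ≫ f) :
    f = snd X Y ≫ lift (toUnit Y ≫ x₀) (𝟙 Y) ≫ f := by
  have := GrpdLib.AntiAffineRigid.isIso_appTop hX
  have : CompactSpace X.left := (quasiCompact_iff_compactSpace X.hom).1 inferInstance
  have : IsIntegral Y.left := isIntegral_of_irreducibleSpace_of_isReduced _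
  have : IsClosedImmersion (y₀.left ≫ Y.hom) := by
    rw [Over.w y₀]; exact inferInstanceAs (IsClosedImmersion (𝟙 _))
  have : IsClosedImmersion y₀.left := IsClosedImmersion.of_comp y₀.left Y.hom
  have h : GrpdLib.AntiAffineRigid.Agree f (GrpdLib.AntiAffineRigid.cst x₀ f)
      (GrpdLib.AntiAffineRigid.unitPt ≫ y₀) := by
    refine GrpdLib.AntiAffineRigid.Agree.precomp ?_ _
    have e : y₀ ≫ lift (toUnit Y ≫ x₀) (𝟙 Y) = lift x₀ y₀ := by
      rw [comp_lift, comp_toUnit_assoc, Category.comp_id, toUnit_unique (toUnit (𝟙_ _)) (𝟙 _), Category.id_comp]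
    rw [GrpdLib.AntiAffineRigid.Agree, hf, GrpdLib.AntiAffineRigid.cst, whiskerLeft_snd_assoc,
      reassoc_of% e, toUnit_unique (snd X (𝟙_ _)) (toUnit _)]
  refine GrpdLib.AntiAffineRigid.eq_cst_of_isIntegral _ h fun s => ?_
  have : Subsingleton (𝟙_ (Over (Spec (CommRingCat.of k)))).left :=
    inferInstanceAs (Subsingleton (PrimeSpectrum k))
  convert y₀.left.isClosedEmbedding.isClosed_range using 1
  ext q
  refine ⟨fun hq => ⟨GrpdLib.AntiAffineRigid.unitPt.left s, ((Set.mem_singleton_iff.1 hq).trans rfl).symm⟩, ?_⟩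
  rintro ⟨w, rfl⟩
  exact congrArg y₀.left (Subsingleton.elim w _)

end Groth.Agent.S14577
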