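import Groth.Statements.S1458
import Mathlib.RingTheory.Finiteness.ModuleFinitePresentation
import Mathlib.LinearAlgebra.TensorProduct.Pi
import Mathlib.LinearAlgebra.TensorProduct.RightExactness

set_option autoImplicit false
universe u
open FlatMor

namespace Groth.Agent.S1458

open TensorProduct in
/-- Let A → B be a finite ring map of finite presentation. Then there are a finitely presented A-algebra
A_u and an idempotent e_u of B ⊗_A A_u such that for every A-algebra A' and every idempotent e of B
⊗_A A' there is an A-algebra map A_u → A' whose induced map B ⊗ A_u → B ⊗ A' sends e_u to e. -/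
theorem result {A B : Type u} [CommRing A] [CommRing B] [Algebra A B] [Module.Finite A B] [Algebra.FinitePresentation A B] :
    ∃ (Au : Type u) (_ : CommRing Au) (_ : Algebra A Au) (eu : B ⊗[A] Au), Algebra.FinitePresentation A Au ∧ IsIdempotentElem eu ∧
      ∀ (A' : Type u) [CommRing A'] [Algebra A A'] (e : B ⊗[A] A'), IsIdempotentElem e →
        ∃ φ : Au →ₐ[A] A', Algebra.TensorProduct.map (AlgHom.id A B) φ eu = e := by
  classical
  have : Module.FinitePresentation A B := Module.FinitePresentation.of_finite_of_finitePresentation A B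
  obtain ⟨n, π, hπ⟩ := Module.Finite.exists_fin' A B
  obtain ⟨s, hs⟩ := Module.FinitePresentation.fg_ker π hπ
  let ι := {x // x ∈ s}
  let r : ι → (Fin n → A) := fun j ↦ j.1
  let R : (ι → A) →ₗ[A] (Fin n → A) := Fintype.linearCombination A r
  have hR : Function.Exact R π := by
    rw [LinearMap.exact_iff, ← hs]
    show _ = LinearMap.range (Fintype.linearCombination A r)
    rw [Fintype.range_linearCombination]
    congr 1
    exact (Subtype.range_coe (s := (s : Set (Fin n → A)))).symm
  let b : Fin n → B := fun i ↦ π (Pi.single i 1)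
  choose c hc using fun p : Fin n × Fin n ↦ hπ (b p.1 * b p.2)
  have hbasis : ∀ z : Fin n → A, π z = ∑ i, z i • b i := fun z ↦ by
    conv_lhs => rw [pi_eq_sum_univ' z]
    simp [map_sum, map_smul, b]
  let σ := Fin n ⊕ ι
  let v : Fin n → MvPolynomial σ A := fun l ↦
    (∑ p : Fin n × Fin n, MvPolynomial.C (c p l) * MvPolynomial.X (Sum.inl p.1) * MvPolynomial.X (Sum.inl p.2)) -
      MvPolynomial.X (Sum.inl l) - ∑ j, MvPolynomial.C (r j l) * MvPolynomial.X (Sum.inr j)
  let I : Ideal (MvPolynomial σ A) := Ideal.span (Set.range v)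
  have hsum : ∀ (T : Type u) [CommRing T] [Algebra A T] (x : Fin n → T),
      (∑ i, b i ⊗ₜ[A] x i) * (∑ i, b i ⊗ₜ[A] x i) =
        ∑ l, b l ⊗ₜ[A] (∑ p : Fin n × Fin n, algebraMap A T (c p l) * x p.1 * x p.2) := by
    intro T _ _ x
    rw [Finset.sum_mul_sum, ← Finset.sum_product', Finset.univ_product_univ]
    simp only [Algebra.TensorProduct.tmul_mul_tmul]
    have h1 : ∀ p : Fin n × Fin n, (b p.1 * b p.2) ⊗ₜ[A] (x p.1 * x p.2) =
        ∑ l, b l ⊗ₜ[A] (algebraMap A T (c p l) * x p.1 * x p.2) := fun p ↦ by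
      rw [← hc p, hbasis, TensorProduct.sum_tmul]
      refine Finset.sum_congr rfl fun l _ ↦ ?_
      rw [TensorProduct.smul_tmul, Algebra.smul_def, mul_assoc]
    simp only [h1]
    rw [Finset.sum_comm]
    simp only [TensorProduct.tmul_sum]
  have hrel : ∀ (T : Type u) [CommRing T] [Algebra A T] (j : ι) (y : T),
      ∑ l, b l ⊗ₜ[A] (algebraMap A T (r j l) * y) = 0 := by
    intro T _ _ j y
    simp only [← Algebra.smul_def, ← TensorProduct.smul_tmul]
    rw [← TensorProduct.sum_tmul, ← hbasis, LinearMap.mem_ker.mp (hs ▸ Submodule.subset_span j.2), TensorProduct.zero_tmul]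
  let Au := MvPolynomial σ A ⧸ I
  let xu : Fin n → Au := fun l ↦ Ideal.Quotient.mk I (MvPolynomial.X (Sum.inl l))
  let eu : B ⊗[A] Au := ∑ l, b l ⊗ₜ[A] xu l
  refine ⟨Au, inferInstance, inferInstance, eu,
    Algebra.FinitePresentation.quotient ⟨Finset.univ.image v, by simp [I]⟩, ?_, ?_⟩
  · have h2 : ∀ l, (∑ p : Fin n × Fin n, algebraMap A Au (c p l) * xu p.1 * xu p.2) =
        xu l + ∑ j, algebraMap A Au (r j l) * Ideal.Quotient.mk I (MvPolynomial.X (Sum.inr j)) := fun l ↦ by
      have := Ideal.Quotient.eq_zero_iff_mem.mpr (show v l ∈ I from Ideal.subset_span ⟨l, rfl⟩)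
      simp only [v, map_sub, map_sum, map_mul, sub_eq_zero, sub_eq_iff_eq_add] at this
      rw [zero_add] at this
      rw [add_comm]
      exact this
    show eu * eu = eu
    simp only [eu]
    rw [hsum]
    simp only [h2, TensorProduct.tmul_add, TensorProduct.tmul_sum, Finset.sum_add_distrib]
    rw [Finset.sum_comm, Finset.sum_eq_zero (fun j _ ↦ hrel Au j _), add_zero]
  · intro A' _ _ e he
    have hex := rTensor_exact A' hR hπ
    have hφ : ∀ z : (Fin n → A) ⊗[A] A', π.rTensor A' z =
        ∑ l, b l ⊗ₜ[A] (TensorProduct.piScalarRight A A A' (Fin n) (TensorProduct.comm A _ _ z) l) := by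
      intro z
      induction z using TensorProduct.induction_on with
      | zero => simp
      | tmul f a =>
        rw [LinearMap.rTensor_tmul, hbasis, TensorProduct.sum_tmul]
        refine Finset.sum_congr rfl fun l _ ↦ ?_
        simp [TensorProduct.smul_tmul]
      | add z₁ z₂ h₁ h₂ => simp [map_add, h₁, h₂, TensorProduct.tmul_add, Finset.sum_add_distrib]
    obtain ⟨z, rfl⟩ := LinearMap.rTensor_surjective A' hπ e
    let x : Fin n → A' := TensorProduct.piScalarRight A A A' (Fin n) (TensorProduct.comm A _ _ z)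
    let w : Fin n → A' := fun l ↦ (∑ p : Fin n × Fin n, algebraMap A A' (c p l) * x p.1 * x p.2) - x l
    let wz : (Fin n → A) ⊗[A] A' :=
      (TensorProduct.comm A _ _).symm ((TensorProduct.piScalarRight A A A' (Fin n)).symm w)
    have hwz : π.rTensor A' wz = 0 := by
      rw [hφ]
      simp only [wz, LinearEquiv.apply_symm_apply, w, TensorProduct.tmul_sub, Finset.sum_sub_distrib]
      rw [sub_eq_zero, ← hsum, ← hφ]
      exact he
    obtain ⟨u, hu⟩ := (hex wz).mp hwz
    let y : ι → A' := TensorProduct.piScalarRight A A A' ι (TensorProduct.comm A _ _ u)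
    have hRu : ∀ (u : (ι → A) ⊗[A] A') (l : Fin n),
        TensorProduct.piScalarRight A A A' (Fin n) (TensorProduct.comm A _ _ (R.rTensor A' u)) l =
          ∑ j, algebraMap A A' (r j l) * TensorProduct.piScalarRight A A A' ι (TensorProduct.comm A _ _ u) j := by
      intro u l
      induction u using TensorProduct.induction_on with
      | zero => simp
      | tmul f a =>
        rw [LinearMap.rTensor_tmul, TensorProduct.comm_tmul, TensorProduct.comm_tmul]
        simp [R, Fintype.linearCombination_apply, Algebra.smul_def]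
        rw [Finset.sum_mul]
        exact Finset.sum_congr rfl fun j _ ↦ by ring
      | add u₁ u₂ h₁ h₂ =>
        simp only [map_add, Pi.add_apply, h₁, h₂, mul_add, Finset.sum_add_distrib]
    let φ₀ : MvPolynomial σ A →ₐ[A] A' := MvPolynomial.aeval (Sum.elim x y)
    have hI : ∀ a ∈ I, φ₀ a = 0 := by
      intro a ha
      refine RingHom.mem_ker.mp ((Ideal.span_le (I := RingHom.ker φ₀.toRingHom)).mpr ?_ ha)
      rintro _ ⟨l, rfl⟩
      have h3 := hRu u l
      rw [hu] at h3
      simp only [wz, LinearEquiv.apply_symm_apply, w] at h3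
      show φ₀ (v l) = 0
      simp only [v, φ₀, map_sub, map_sum, map_mul, MvPolynomial.aeval_C, MvPolynomial.aeval_X, Sum.elim_inl, Sum.elim_inr]
      rw [sub_eq_zero]
      exact h3
    refine ⟨Ideal.Quotient.liftₐ I φ₀ hI, ?_⟩
    rw [hφ]
    simp only [eu, map_sum, Algebra.TensorProduct.map_tmul, AlgHom.coe_id, id_eq, xu]
    refine Finset.sum_congr rfl fun l _ ↦ ?_
    congr 1
    show φ₀ (MvPolynomial.X (Sum.inl l)) = x l
    simp [φ₀]

end Groth.Agent.S1458
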