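import Groth.Statements.S9633
-- import your own Groth.Agent.* helpers here

set_option autoImplicit false
universe u
open CAlg

namespace Groth.Agent.S9633

/-- For a ring R with spectrum X the following are equivalent: (1) X is profinite, i.e. compact,
Hausdorff and totally disconnected; (2) X is Hausdorff; (3) X is totally disconnected; (4) every
quasi-compact open subset of X is closed; (5) there are no nontrivial inclusions among prime ideals
of R; (6) every prime ideal of R is maximal; (7) every prime ideal of R is a minimal prime; (8)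
every standard open D(f) is closed. -/
theorem result {R : Type u} [CommRing R] :
    [CompactSpace (PrimeSpectrum R) ∧ T2Space (PrimeSpectrum R) ∧ TotallyDisconnectedSpace (PrimeSpectrum R),
      T2Space (PrimeSpectrum R),
      TotallyDisconnectedSpace (PrimeSpectrum R),
      ∀ W : Set (PrimeSpectrum R), IsOpen W → IsCompact W → IsClosed W,
      ∀ p q : PrimeSpectrum R, p ≤ q → p = q,
      ∀ p : Ideal R, p.IsPrime → p.IsMaximal,
      ∀ p : Ideal R, p.IsPrime → p ∈ minimalPrimes R,
      ∀ f : R, IsClosed (PrimeSpectrum.basicOpen f : Set (PrimeSpectrum R))].TFAE := by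
  tfae_have 1 → 2 := fun h => h.2.1
  tfae_have 2 → 5 := by
    intro h p q hpq
    exact ((PrimeSpectrum.le_iff_specializes p q).1 hpq).eq
  tfae_have 5 → 6 := by
    intro h p hp
    obtain ⟨m, hm, hpm⟩ := Ideal.exists_le_maximal p hp.ne_top
    have := h ⟨p, hp⟩ ⟨m, hm.isPrime⟩ hpm
    rw [show p = m from congrArg PrimeSpectrum.asIdeal this]; exact hm
  tfae_have 6 → 7 := fun h p hp => ⟨⟨hp, bot_le⟩, fun q hq hqp => ((h q hq.1).eq_of_le hp.ne_top hqp).ge⟩
  tfae_have 7 → 5 := fun h p q hpq => PrimeSpectrum.ext (le_antisymm hpq ((h q.asIdeal q.isPrime).2 ⟨p.isPrime, bot_le⟩ hpq))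
  tfae_have 5 → 8 := by
    intro h f
    rw [← isOpen_compl_iff, isOpen_iff_forall_mem_open]
    intro x hx
    have hfx : f ∈ x.asIdeal := not_not.1 hx
    obtain ⟨g, hgx, n, hn⟩ : ∃ g ∉ x.asIdeal, ∃ n : ℕ, g * f ^ n = 0 := by
      by_contra hcon
      push Not at hcon
      let T : Submonoid R := x.asIdeal.primeCompl ⊔ Submonoid.powers f
      obtain ⟨q, hq, -, hdis⟩ := Ideal.exists_le_prime_disjoint (⊥ : Ideal R) T (by
        rw [Set.disjoint_left]; rintro z hz hz'
        obtain ⟨a, ha, b, ⟨n, rfl⟩, hab⟩ := Submonoid.mem_sup.1 hz'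
        exact hcon a ha n (hab.trans (Ideal.mem_bot.1 hz)))
      have hqp : q ≤ x.asIdeal := fun z hz => by
        by_contra hzp
        exact Set.disjoint_left.1 hdis hz ((le_sup_left : x.asIdeal.primeCompl ≤ T) hzp)
      have : (⟨q, hq⟩ : PrimeSpectrum R) = x := h _ _ hqp
      exact Set.disjoint_left.1 hdis (show f ∈ q by rw [← this] at hfx; exact hfx) ((le_sup_right : _ ≤ T) (Submonoid.mem_powers f))
    refine ⟨PrimeSpectrum.basicOpen g, fun z hz hzf => ?_, PrimeSpectrum.isOpen_basicOpen, hgx⟩
    exact (z.isPrime.mem_or_mem (hn ▸ z.asIdeal.zero_mem)).elim hz fun hfn => hzf (z.isPrime.mem_of_pow_mem n hfn)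
  tfae_have 8 → 3 := by
    intro h
    rw [totallyDisconnectedSpace_iff_connectedComponent_singleton]
    intro x
    refine Set.Subset.antisymm (fun y hy => ?_) (by simp [mem_connectedComponent])
    apply PrimeSpectrum.ext
    ext f
    have hcl : IsClopen (PrimeSpectrum.basicOpen f : Set (PrimeSpectrum R)) := ⟨h f, PrimeSpectrum.isOpen_basicOpen⟩
    constructor
    · intro hf
      by_contra hfx
      exact (hcl.connectedComponent_subset hfx hy) hf
    · intro hf
      by_contra hfy
      exact (hcl.compl.connectedComponent_subset (x := x) (fun hh => hh hf) hy) hfy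
  tfae_have 3 → 5 := by
    intro h p q hpq
    have hq : q ∈ closure ({p} : Set (PrimeSpectrum R)) := ((PrimeSpectrum.le_iff_specializes p q).1 hpq).mem_closure
    have : q ∈ connectedComponent p := isPreconnected_singleton.closure.subset_connectedComponent (subset_closure rfl) hq
    rw [connectedComponent_eq_singleton] at this
    exact this.symm
  tfae_have 4 → 8 := fun h f => h _ PrimeSpectrum.isOpen_basicOpen (PrimeSpectrum.isCompact_basicOpen f)
  tfae_have 8 → 4 := by
    intro h W hWo hWc
    have hcov : ∀ x ∈ W, ∃ g : R, x ∈ (PrimeSpectrum.basicOpen g : Set (PrimeSpectrum R)) ∧ (PrimeSpectrum.basicOpen g : Set (PrimeSpectrum R)) ⊆ W := fun x hx => by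
      obtain ⟨_, ⟨g, rfl⟩, h1, h2⟩ := PrimeSpectrum.isTopologicalBasis_basic_opens.exists_subset_of_mem_open hx hWo
      exact ⟨g, h1, h2⟩
    choose! g hg1 hg2 using hcov
    obtain ⟨t, htW, ht⟩ := hWc.elim_nhds_subcover (fun x => (PrimeSpectrum.basicOpen (g x) : Set (PrimeSpectrum R)))
      (fun x hx => (PrimeSpectrum.basicOpen (g x)).2.mem_nhds (hg1 x hx))
    rw [Set.Subset.antisymm ht (Set.iUnion₂_subset fun x hx => hg2 x (htW x hx))]
    exact isClosed_biUnion_finset fun x _ => h _
  tfae_have 8 → 1 := by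
    intro h
    refine ⟨inferInstance, ⟨fun x y hxy => ?_⟩, tfae_8_to_3 h⟩
    obtain ⟨f, hf⟩ : ∃ f, (f ∈ x.asIdeal) ≠ (f ∈ y.asIdeal) := by
      by_contra hcon
      push Not at hcon
      exact hxy (PrimeSpectrum.ext (Ideal.ext fun f => (hcon f).to_iff))
    have hcl : IsClopen (PrimeSpectrum.basicOpen f : Set (PrimeSpectrum R)) := ⟨h f, PrimeSpectrum.isOpen_basicOpen⟩
    by_cases hfx : f ∈ x.asIdeal
    · exact ⟨_, _, hcl.compl.isOpen, hcl.isOpen, fun hh => hh hfx, fun hfy => hf (by simp [hfx, hfy]), disjoint_compl_left⟩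
    · exact ⟨_, _, hcl.isOpen, hcl.compl.isOpen, hfx, fun hh => hf (by simp [hfx]; exact hh), disjoint_compl_right⟩
  tfae_finish

end Groth.Agent.S9633
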