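import Groth.Statements.S14580
import Groth.Agent.FEtCat.Idem
import Groth.Agent.S9633
import Groth.Agent.SchPoints.Basic
import Mathlib.AlgebraicGeometry.Morphisms.Proper
-- import your own Groth.Agent.* helpers here

set_option autoImplicit false
universe u
open CategoryTheory MonoidalCategory CartesianMonoidalCategory MonObj GrpObj AlgebraicGeometry CategoryTheory.Limits
open AlgGrp

namespace Groth.Agent.S14580

set_option backward.isDefEq.respectTransparency.types false

/-- The fibres of the affinization of a proper scheme over a field are the connected components. -/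
theorem preimage_toSpecΓ_eq (k : Type u) [Field k] {X : Scheme.{u}} (p : X ⟶ Spec (CommRingCat.of k))
    [IsProper p] (x : X) : X.toSpecΓ ⁻¹' {X.toSpecΓ x} = connectedComponent x := by
  have : IsLocallyNoetherian X := LocallyOfFiniteType.isLocallyNoetherian p
  have : LocallyConnectedSpace X :=
    Groth.Agent.SchPoints.locallyConnectedSpace Groth.Agent.SchPoints.exists_noetherian_nhd
  let φ : k →+* Γ(X, ⊤) := p.appTop.hom.comp (Scheme.ΓSpecIso (CommRingCat.of k)).inv.hom
  let := φ.toAlgebra
  have : Algebra.IsIntegral k Γ(X, ⊤) := ⟨fun z => by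
    obtain ⟨q, hq, hqz⟩ := isIntegral_appTop_of_universallyClosed p z
    refine ⟨q.map (Scheme.ΓSpecIso (CommRingCat.of k)).hom.hom, hq.map _, ?_⟩
    rw [Polynomial.eval₂_map]
    refine Eq.trans ?_ hqz
    congr 1
    ext a
    show p.appTop ((Scheme.ΓSpecIso (CommRingCat.of k)).inv ((Scheme.ΓSpecIso (CommRingCat.of k)).hom a)) = _
    rw [Iso.hom_inv_id_apply]⟩
  have htd : TotallyDisconnectedSpace (PrimeSpectrum Γ(X, ⊤)) :=
    ((Groth.Agent.S9633.result (R := Γ(X, ⊤))).out 5 2).mp fun I hI => by
      haveI := hI
      exact Ideal.isMaximal_of_isIntegral_of_isMaximal_comap (R := k) I (by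
        rw [(Ideal.eq_bot_or_top (I.comap (algebraMap k Γ(X, ⊤)))).resolve_right
          (Ideal.comap_ne_top _ hI.ne_top)]
        exact Ideal.bot_isMaximal)
  have : TotallyDisconnectedSpace ↥(Spec Γ(X, ⊤)) := htd
  refine Set.Subset.antisymm (fun z hz => ?_) fun z hz => ?_
  · obtain ⟨e, -, he⟩ := Groth.Agent.FEtCat.Idem.exists_idem
      (W := connectedComponent x) ⟨isClosed_connectedComponent, isOpen_connectedComponent⟩
    have key : ∀ w : X, w ∈ connectedComponent x ↔ X.toSpecΓ w ∈ PrimeSpectrum.basicOpen e := fun w => by
      rw [← he, ← Scheme.toSpecΓ_preimage_basicOpen]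
      rfl
    rw [key, Set.mem_singleton_iff.1 hz, ← key]
    exact mem_connectedComponent
  · exact (isPreconnected_connectedComponent.image _ X.toSpecΓ.continuous.continuousOn).subsingleton
      ⟨z, hz, rfl⟩ ⟨x, mem_connectedComponent, rfl⟩

open CategoryTheory.Limits in

/-- Let k be a field, G a proper k-group scheme of finite type and N ⊆ G the kernel of the affinization
morphism G → Spec O(G), i.e. the fibre over the image of the unit section (the largest anti-affine
subgroup scheme of G). Then the image of N in G is the connected component of the identity: as N is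
smooth, N is the reduced neutral component G⁰_red, which is therefore a smooth connected algebraic
group. -/
theorem result (k : Type u) [Field k]
    (G : Over (Spec (CommRingCat.of k))) [GrpObj G] [IsProper G.hom] (t : ↥((𝟙_ (Over (Spec (CommRingCat.of k)))).left)) :
    Set.range ⇑(pullback.fst G.left.toSpecΓ (η[G].left ≫ G.left.toSpecΓ)).base = connectedComponent ((η[G]).left.base t) := by
  rw [← preimage_toSpecΓ_eq k G.hom, Scheme.Pullback.range_fst]
  congr 1
  ext z
  constructor
  · rintro ⟨w, rfl⟩
    rw [Set.mem_singleton_iff, ← Scheme.Hom.comp_apply]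
    exact congrArg _ (Subsingleton.elim (α := PrimeSpectrum k) w t)
  · rintro rfl
    exact ⟨t, Scheme.Hom.comp_apply _ _ _⟩

end Groth.Agent.S14580
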