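import Groth.Statements.S14584
import Groth.Agent.AbRigid.Product.General
import Groth.Agent.AbVarLib.Basics
import Mathlib.AlgebraicGeometry.Group.Abelian

set_option autoImplicit false
universe u
open CategoryTheory MonoidalCategory CartesianMonoidalCategory MonObj GrpObj AlgebraicGeometry CategoryTheory.Limits
open AlgGrp

namespace Groth.Agent.S14584

set_option backward.isDefEq.respectTransparency.types false

/-- Let k be a field, X and Y varieties over k (separated, geometrically integral k-schemes of finite
type) with rational points x₀ and y₀, A an abelian variety (a proper, smooth, connected k-group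
scheme) and f : X × Y → A a k-morphism. Then, in the group of morphisms X × Y → A, f(x, y) = f(x₀,
y₀)⁻¹ · f(x₀, y) · f(x, y₀) identically; additively, f(x, y) − f(x₀, y) − f(x, y₀) + f(x₀, y₀) = 0.
Neither smoothness nor properness of X, Y is assumed. -/
theorem result (k : Type u) [Field k]
    (X Y A : Over (Spec (CommRingCat.of k)))
    [LocallyOfFiniteType X.hom] [QuasiCompact X.hom] [IsSeparated X.hom] [GeometricallyIntegral X.hom]
    [LocallyOfFiniteType Y.hom] [QuasiCompact Y.hom] [IsSeparated Y.hom] [GeometricallyIntegral Y.hom]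
    [GrpObj A] [IsProper A.hom] [Smooth A.hom] [ConnectedSpace ↥A.left]
    (x₀ : 𝟙_ (Over (Spec (CommRingCat.of k))) ⟶ X) (y₀ : 𝟙_ (Over (Spec (CommRingCat.of k))) ⟶ Y) (f : X ⊗ Y ⟶ A) :
    f = (toUnit (X ⊗ Y) ≫ lift x₀ y₀ ≫ f)⁻¹ * (snd X Y ≫ lift (toUnit Y ≫ x₀) (𝟙 Y) ≫ f) *
      (fst X Y ≫ lift (𝟙 X) (toUnit X ≫ y₀) ≫ f) := by
  have := Groth.Agent.AbVarLib.Basics.irreducibleSpace_of_connectedSpace A
  have := Groth.Agent.AbVarLib.Basics.geometricallyReduced_of_smooth A.hom
  have := Groth.Agent.GrpScheme.Component.geometricallyIrreducible_of_irreducibleSpace A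
  have : GeometricallyIntegral A.hom :=
    GeometricallyIntegral.of_geometricallyReduced_of_geometricallyIrreducible _
  have := isCommMonObj_of_isProper_of_geometricallyIntegral A
  have hx := Groth.Agent.AbRigid.Product.point_slice (P := Y) f x₀ y₀
  have hy := Groth.Agent.AbRigid.Product.point_slice (P := X) f x₀ y₀
  refine Groth.Agent.AbRigid.Product.eq_of_field _ _ x₀ y₀ ?_ ?_
  · simp only [MonObj.comp_mul, GrpObj.comp_inv, lift_fst_assoc, lift_snd_assoc, comp_toUnit_assoc,
      Category.id_comp, Category.assoc]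
    rw [hx.2, _root_.mul_right_comm, inv_mul_cancel, _root_.one_mul]
  · simp only [MonObj.comp_mul, GrpObj.comp_inv, lift_fst_assoc, lift_snd_assoc, comp_toUnit_assoc,
      Category.id_comp, Category.assoc]
    rw [← hy.1, hy.2, inv_mul_cancel, _root_.one_mul]

end Groth.Agent.S14584
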