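import Groth.Statements.S14587
import Groth.Agent.GrpScheme.Basic
import Mathlib.RingTheory.Etale.Field
import Mathlib.AlgebraicGeometry.Morphisms.FlatMono
import Mathlib.FieldTheory.Perfect
import Mathlib.Topology.Separation.Connected

set_option autoImplicit false
universe u
open CategoryTheory MonoidalCategory CartesianMonoidalCategory MonObj GrpObj AlgebraicGeometry CategoryTheory.Limits
open AlgGrp

namespace Groth.Agent.S14587

attribute [local instance] IsArtinianRing.fieldOfSubtypeIsMaximal in
/-- A finite reduced algebra over a perfect field is étale. -/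
theorem etale_of_finite_reduced (k A : Type u) [Field k] [PerfectField k] [CommRing A] [Algebra k A]
    [Module.Finite k A] [_root_.IsReduced A] : Algebra.Etale k A := by
  classical
  have : IsArtinianRing A := isArtinian_of_tower k inferInstance
  refine (Algebra.Etale.iff_exists_algEquiv_prod (K := k) (A := A)).mpr
    ⟨MaximalSpectrum A, inferInstance, fun I => A ⧸ I.asIdeal, fun I => inferInstance, fun I => inferInstance,
      (IsArtinianRing.equivPi A).restrictScalars k, fun I => ?_⟩
  have : Module.Finite k (A ⧸ I.asIdeal) := inferInstance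
  exact ⟨this, inferInstance⟩

/-- A finite scheme over a field is discrete. -/
theorem discreteTopology_of_finite (k : Type u) [Field k] (X : Over (Spec (CommRingCat.of k)))
    [IsFinite X.hom] : DiscreteTopology X.left := by
  have h : X.hom ⁻¹' {IsLocalRing.closedPoint k} = Set.univ :=
    Set.eq_univ_of_forall fun x => Subsingleton.elim (α := PrimeSpectrum k) _ _
  exact isDiscrete_univ_iff.mp (h ▸ X.hom.isDiscrete_preimage_singleton (IsLocalRing.closedPoint k))

/-- A finite reduced scheme over a perfect field is étale. -/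
theorem etale_hom (k : Type u) [Field k] [PerfectField k] (X : Over (Spec (CommRingCat.of k)))
    [IsFinite X.hom] [IsReduced X.left] : Etale X.hom := by
  have : IsAffine X.left := isAffine_of_isAffineHom X.hom
  obtain ⟨φ, hφ⟩ := Spec.map_surjective (X.left.isoSpec.inv ≫ X.hom)
  let φ' : k →+* Γ(X.left, ⊤) := φ.hom
  letI := φ'.toAlgebra
  have hfin : IsFinite (Spec.map φ) := hφ ▸ inferInstance
  have : Module.Finite k Γ(X.left, ⊤) := (IsFinite.SpecMap_iff φ).mp hfin
  have : _root_.IsReduced Γ(X.left, ⊤) := inferInstance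
  have h : Etale (Spec.map φ) :=
    HasRingHomProperty.Spec_iff.mpr (RingHom.etale_algebraMap.mpr (etale_of_finite_reduced k Γ(X.left, ⊤)))
  rw [hφ] at h
  exact (MorphismProperty.cancel_left_of_respectsIso @Etale _ _).mp h

/-- Let k be a perfect field and G a finite k-group scheme, r : G_red → G its reduced subgroup scheme (a
homomorphism and closed immersion from a reduced k-group scheme, surjective on underlying spaces)
and i₀ : G⁰ → G its neutral component (a homomorphism and open immersion from a connected k-group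
scheme). Then the multiplication morphism G_red × G⁰ → G is an isomorphism, exhibiting G as the
semi-direct product of G⁰ by G_red. -/
theorem result (k : Type u) [Field k] [PerfectField k]
    (G Gr G₀ : Over (Spec (CommRingCat.of k))) [GrpObj G] [GrpObj Gr] [GrpObj G₀] [IsFinite G.hom]
    (r : Gr ⟶ G) [IsMonHom r] [IsClosedImmersion r.left] [IsReduced Gr.left] [Surjective r.left]
    (i₀ : G₀ ⟶ G) [IsMonHom i₀] [IsOpenImmersion i₀.left] [ConnectedSpace ↥G₀.left] :
    IsIso ((r ⊗ₘ i₀) ≫ μ[G]) := by
  have : IsSeparated G.hom := inferInstance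
  have : IsFinite Gr.hom := by rw [← Over.w r]; infer_instance
  have hetr : Etale Gr.hom := etale_hom k Gr
  have : IsFinite G₀.hom := by
    have : Subsingleton ↥(Spec (CommRingCat.of k)) := inferInstanceAs (Subsingleton (PrimeSpectrum k))
    have : IsFinite (i₀.left ≫ G.hom) := by
      have hrange : IsClosed (Set.range i₀.left.base) := by
        have := discreteTopology_of_finite k G
        exact isClosed_discrete _
      have : IsClosedImmersion i₀.left := IsClosedImmersion.of_isPreimmersion _ hrange
      infer_instance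
    rwa [Over.w i₀] at this
  have hsub : Subsingleton G₀.left := by
    have := discreteTopology_of_finite k G₀
    exact PreconnectedSpace.trivial_of_discrete
  have : Mono r := Over.mono_of_mono_left r
  have : Mono i₀ := Over.mono_of_mono_left i₀
  -- the two subgroups meet in the unit only
  have hmeet : ∀ {T : Over (Spec (CommRingCat.of k))} (u : T ⟶ Gr) (v : T ⟶ G₀), u ≫ r = v ≫ i₀ → u = 1 := by
    intro T u v huv
    let W : Over (Spec (CommRingCat.of k)) := Over.mk (Limits.pullback.fst r.left i₀.left ≫ Gr.hom)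
    let w : W ⟶ Gr := Over.homMk (Limits.pullback.fst r.left i₀.left)
    let eW : 𝟙_ (Over (Spec (CommRingCat.of k))) ⟶ W :=
      Over.homMk (Limits.pullback.lift η[Gr].left η[G₀].left (by
        rw [← Over.comp_left, ← Over.comp_left, IsMonHom.one_hom, IsMonHom.one_hom])) (by
        show Limits.pullback.lift _ _ _ ≫ Limits.pullback.fst r.left i₀.left ≫ Gr.hom = _
        rw [Limits.pullback.lift_fst_assoc]
        exact Over.w η[Gr])
    have hw : eW ≫ w = η[Gr] := by ext1; exact Limits.pullback.lift_fst _ _ _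
    have : IsReduced W.left := isReduced_of_isOpenImmersion (Limits.pullback.fst r.left i₀.left)
    have : Subsingleton W.left := ⟨fun a b =>
      (Limits.pullback.snd r.left i₀.left).isClosedEmbedding.injective (Subsingleton.elim _ _)⟩
    have hid : eW.left ≫ W.hom = 𝟙 _ := Over.w eW
    have : IsClosedImmersion eW.left := by
      have : IsClosedImmersion (eW.left ≫ W.hom) := by rw [hid]; infer_instance
      exact IsClosedImmersion.of_comp eW.left W.hom
    have : Surjective eW.left := ⟨fun x => ⟨IsLocalRing.closedPoint k, Subsingleton.elim _ _⟩⟩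
    have : IsIso eW.left := isIso_of_isClosedImmersion_of_surjective _
    have : IsIso ((Over.forget (Spec (CommRingCat.of k))).map eW) := this
    have : IsIso eW := isIso_of_reflects_iso eW (Over.forget _)
    let l : T ⟶ W := Over.homMk (Limits.pullback.lift u.left v.left (congrArg CommaMorphism.left huv)) (by
      show Limits.pullback.lift _ _ _ ≫ Limits.pullback.fst r.left i₀.left ≫ Gr.hom = _
      rw [Limits.pullback.lift_fst_assoc]
      exact Over.w u)
    have hl : l ≫ w = u := by ext1; exact Limits.pullback.lift_fst _ _ _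
    rw [← hl, ← IsIso.inv_hom_id_assoc eW w, hw, Hom.one_def, ← Category.assoc]
    exact congrArg (· ≫ η[Gr]) (toUnit_unique _ _)
  have hm : (r ⊗ₘ i₀) ≫ μ[G] = (fst Gr G₀ ≫ r) * (snd Gr G₀ ≫ i₀) := by
    rw [Hom.mul_def]
    congr 1
  have hmono : Mono ((r ⊗ₘ i₀) ≫ μ[G]) := ⟨fun {T} a b h => by
    simp only [hm, MonObj.comp_mul, ← Category.assoc] at h
    have key : ((b ≫ fst Gr G₀)⁻¹ * (a ≫ fst Gr G₀)) ≫ r = ((b ≫ snd Gr G₀) * (a ≫ snd Gr G₀)⁻¹) ≫ i₀ := by
      rw [MonObj.mul_comp, MonObj.mul_comp, GrpObj.inv_comp, GrpObj.inv_comp, inv_mul_eq_iff_eq_mul,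
        ← _root_.mul_assoc, eq_mul_inv_iff_mul_eq]
      exact h
    have h1 : a ≫ fst Gr G₀ = b ≫ fst Gr G₀ := (inv_mul_eq_one.mp (hmeet _ _ key)).symm
    refine CartesianMonoidalCategory.hom_ext _ _ h1 ?_
    rw [← cancel_mono i₀]
    rwa [h1, mul_right_inj] at h⟩
  let a : Gr ⊗ G ⟶ G := fst Gr G ≫ r
  let φ : Gr ⊗ G ⟶ Gr ⊗ G := lift (fst Gr G) (a * snd Gr G)
  have : IsIso φ := ⟨lift (fst Gr G) (a⁻¹ * snd Gr G), by
    constructor <;> ext1 <;> simp [φ, a, MonObj.comp_mul, GrpObj.comp_inv]⟩
  have hfac : (r ⊗ₘ i₀) ≫ μ[G] = (Gr ◁ i₀) ≫ φ ≫ snd Gr G := by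
    rw [hm]
    simp [φ, a, MonObj.comp_mul]
  have : IsOpenImmersion (Gr ◁ i₀).left := by
    rw [Over.whiskerLeft_left]
    infer_instance
  have : IsIso φ.left := GrpScheme.Basic.isIso_left φ
  have : Etale (snd Gr G).left := GrpScheme.Basic.snd_left_mem @Etale hetr
  have : Etale ((r ⊗ₘ i₀) ≫ μ[G]).left := by
    rw [hfac, Over.comp_left, Over.comp_left]
    infer_instance
  have : Mono ((r ⊗ₘ i₀) ≫ μ[G]).left := Functor.map_mono (Over.forget _) ((r ⊗ₘ i₀) ≫ μ[G])
  have : IsOpenImmersion ((r ⊗ₘ i₀) ≫ μ[G]).left := IsOpenImmersion.of_flat_of_mono _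
  have : Surjective ((r ⊗ₘ i₀) ≫ μ[G]).left := ⟨fun x => by
    obtain ⟨y, rfl⟩ := r.left.surjective x
    refine ⟨(lift (𝟙 Gr) (1 : Gr ⟶ G₀)).left.base y, ?_⟩
    rw [← Scheme.Hom.comp_apply, ← Over.comp_left, hm, MonObj.comp_mul, lift_fst_assoc, lift_snd_assoc,
      MonObj.one_comp, _root_.mul_one, Category.id_comp]⟩
  have : IsIso ((r ⊗ₘ i₀) ≫ μ[G]).left := (isIso_iff_isOpenImmersion_and_surjective _).mpr ⟨inferInstance, inferInstance⟩
  have : IsIso ((Over.forget (Spec (CommRingCat.of k))).map ((r ⊗ₘ i₀) ≫ μ[G])) := this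
  exact isIso_of_reflects_iso _ (Over.forget _)

end Groth.Agent.S14587
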