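import Groth.Statements.S14588
import Groth.Agent.GrpScheme.Smooth
import Groth.Agent.S2259

set_option autoImplicit false
universe u
open CategoryTheory MonoidalCategory CartesianMonoidalCategory MonObj GrpObj AlgebraicGeometry CategoryTheory.Limits
open AlgGrp

namespace Groth.Agent.S14588

/-- Let k be a field with algebraic closure K and G a k-group scheme locally of finite type. If the
local ring of G_K at its unit point is reduced, then G is smooth over k. -/
theorem result (k : Type u) [Field k]
    (G : Over (Spec (CommRingCat.of k))) [GrpObj G] [LocallyOfFiniteType G.hom]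
    (t : ↥((𝟙_ (Over (Spec (CommRingCat.of (AlgebraicClosure k))))).left))
    (h : _root_.IsReduced ↑((Red.bc (Spec.map (CommRingCat.ofHom (algebraMap k (AlgebraicClosure k)))) G).left.presheaf.stalk ((η[Red.bc (Spec.map (CommRingCat.ofHom (algebraMap k (AlgebraicClosure k)))) G]).left.base t))) :
    Smooth G.hom := by
  let f : Spec (CommRingCat.of (AlgebraicClosure k)) ⟶ Spec (CommRingCat.of k) :=
    Spec.map (CommRingCat.ofHom (algebraMap k (AlgebraicClosure k)))
  let GK : Over (Spec (CommRingCat.of (AlgebraicClosure k))) := Red.bc f G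
  have : LocallyOfFiniteType GK.hom := inferInstanceAs (LocallyOfFiniteType (pullback.snd G.hom f))
  have : IsLocallyNoetherian GK.left := LocallyOfFiniteType.isLocallyNoetherian GK.hom
  let x : GK.left := (η[GK]).left.base t
  have : _root_.IsReduced (GK.left.presheaf.stalk x) := h
  obtain ⟨U, hxU, hU⟩ := Groth.Agent.S2259.result GK.left x
  have : Nonempty (U : Scheme.{u}) := ⟨⟨x, hxU⟩⟩
  obtain ⟨p, hp⟩ := (U.ι ≫ GK.hom).dense_smoothLocus_of_perfectField.nonempty
  have hsm : Smooth GK.hom := by
    refine GrpScheme.Smooth.smooth_of_nonempty_smoothLocus GK ⟨U.ι p, ?_⟩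
    rw [← Scheme.Hom.preimage_smoothLocus_eq] at hp
    exact hp
  apply MorphismProperty.of_pullback_snd_of_descendsAlong (Q := @Surjective ⊓ @Flat ⊓ @QuasiCompact) (g := f)
  · exact ⟨⟨inferInstance, inferInstance⟩, inferInstance⟩
  · exact hsm

end Groth.Agent.S14588
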