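import Groth.Statements.S14589
import Groth.Agent.GrpScheme.AntiAffineProd
import Groth.Agent.GrpScheme.SubgroupObj

set_option autoImplicit false
universe u
open CategoryTheory MonoidalCategory CartesianMonoidalCategory MonObj GrpObj AlgebraicGeometry CategoryTheory.Limits
open AlgGrp

open Limits Groth.Agent Groth.Agent.GrpAff Groth.Agent.GrpScheme.AntiAffineProd

namespace Groth.Agent.S14589

set_option backward.isDefEq.respectTransparency false

/-- Let k be a field, G a k-group scheme of finite type, i : N → G a closed normal subgroup scheme and q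
: G → Q a flat surjective homomorphism of k-group schemes of finite type with kernel N (Q = G/N).
Let j : M → G and j' : M' → Q be the largest anti-affine subgroup schemes of G and of Q (closed
subgroup schemes of finite type with only constant global functions through which every other such
subgroup scheme factors). Then q maps M onto M': the image of M → G → Q equals the underlying set of
M'. Since M' is smooth, this is the statement that G_ant/(G_ant ∩ N) → (G/N)_ant is an isomorphism. -/
theorem result (k : Type u) [Field k]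
    (G : Over (Spec (CommRingCat.of k))) [GrpObj G] [LocallyOfFiniteType G.hom] [QuasiCompact G.hom]
    (N : Over (Spec (CommRingCat.of k))) [GrpObj N] (i : N ⟶ G) [IsMonHom i] [IsClosedImmersion i.left] (hN : AlgGrp.IsNormalHom i)
    (Q : Over (Spec (CommRingCat.of k))) [GrpObj Q] [LocallyOfFiniteType Q.hom] [QuasiCompact Q.hom]
    (q : G ⟶ Q) [IsMonHom q] [Surjective q.left] [Flat q.left] (hq : AlgGrp.IsKernel i q)
    (M : Over (Spec (CommRingCat.of k))) [GrpObj M] [LocallyOfFiniteType M.hom] [QuasiCompact M.hom] (j : M ⟶ G) [IsMonHom j] [IsClosedImmersion j.left]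
    (hM : Function.Bijective ((Scheme.ΓSpecIso (CommRingCat.of k)).inv ≫ M.hom.appTop).hom)
    (hMmax : ∀ (M₁ : Over (Spec (CommRingCat.of k))) [GrpObj M₁] [LocallyOfFiniteType M₁.hom] [QuasiCompact M₁.hom] (j₁ : M₁ ⟶ G) [IsMonHom j₁] [IsClosedImmersion j₁.left],
      Function.Bijective ((Scheme.ΓSpecIso (CommRingCat.of k)).inv ≫ M₁.hom.appTop).hom → ∃ g : M₁ ⟶ M, g ≫ j = j₁)
    (M' : Over (Spec (CommRingCat.of k))) [GrpObj M'] [LocallyOfFiniteType M'.hom] [QuasiCompact M'.hom] (j' : M' ⟶ Q) [IsMonHom j'] [IsClosedImmersion j'.left]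
    (hM' : Function.Bijective ((Scheme.ΓSpecIso (CommRingCat.of k)).inv ≫ M'.hom.appTop).hom)
    (hM'max : ∀ (M₁ : Over (Spec (CommRingCat.of k))) [GrpObj M₁] [LocallyOfFiniteType M₁.hom] [QuasiCompact M₁.hom] (j₁ : M₁ ⟶ Q) [IsMonHom j₁] [IsClosedImmersion j₁.left],
      Function.Bijective ((Scheme.ΓSpecIso (CommRingCat.of k)).inv ≫ M₁.hom.appTop).hom → ∃ g : M₁ ⟶ M', g ≫ j' = j₁) :
    Set.range ⇑(j ≫ q).left.base = Set.range ⇑j'.left.base := by
  haveI hM' : IsIso M'.hom.appTop := (GrpScheme.AntiAffine.bijective_iff_isIso M').mp hM'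
  haveI : IsSeparated Q.hom := GrpdLib.GrpOver.isSeparated_hom Q
  haveI : Mono j' := Over.mono_of_mono_left j'
  haveI : Mono i := Over.mono_of_mono_left i
  have hqc : UnipLib.Cover q := by
    haveI : QuasiCompact (q.left ≫ Q.hom) := by rw [Over.w q]; infer_instance
    exact ⟨inferInstance, inferInstance, QuasiCompact.of_comp q.left Q.hom⟩
  -- the image of `M` lies in `M'`
  obtain ⟨QI, hQI, pI, ιI, hpI, hιI, hpIc, hιIc, hQIl, hQIq, hpιI⟩ := exists_image (j ≫ q)
  haveI : IsIso M.hom.appTop := (GrpScheme.AntiAffine.bijective_iff_isIso M).mp hM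
  haveI := antiAffine_of_cover pI hpIc
  obtain ⟨gI, hgI⟩ := hM'max QI ιI ((GrpScheme.AntiAffine.bijective_iff_isIso QI).mpr inferInstance)
  -- the inverse image of `M'`
  let G' := pullback q j'
  let incl : G' ⟶ G := pullback.fst q j'
  let q' : G' ⟶ M' := pullback.snd q j'
  have hpb : IsPullback incl q' q j' := IsPullback.of_hasPullback q j'
  have hpbl : IsPullback incl.left q'.left q.left j'.left := GrpdLib.GrpOver.isPullback_left hpb
  haveI : IsClosedImmersion incl.left :=
    MorphismProperty.of_isPullback (P := @IsClosedImmersion) hpbl.flip inferInstance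
  haveI : Mono incl := Over.mono_of_mono_left incl
  have hw : incl ≫ q = q' ≫ j' := hpb.w
  obtain ⟨_, hincl⟩ : ∃ _ : GrpObj G', IsMonHom incl := by
    refine GrpScheme.SubgroupObj.exists_grpObj incl ⟨hpb.lift ((incl ⊗ₘ incl) ≫ μ[G]) ((q' ⊗ₘ q') ≫ μ[M']) ?_,
      hpb.lift_fst _ _ _⟩ ⟨hpb.lift η[G] η[M'] (by simp), hpb.lift_fst _ _ _⟩
      ⟨hpb.lift (incl ≫ ι[G]) (q' ≫ ι[M']) ?_, hpb.lift_fst _ _ _⟩
    · rw [Category.assoc, IsMonHom.mul_hom, ← Category.assoc, MonoidalCategory.tensorHom_comp_tensorHom, hw,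
        ← MonoidalCategory.tensorHom_comp_tensorHom, Category.assoc, Category.assoc, IsMonHom.mul_hom]
    · rw [Category.assoc, GrpObj.inv_hom q, ← Category.assoc, hw, Category.assoc, Category.assoc, GrpObj.inv_hom j']
  haveI := hincl
  haveI : LocallyOfFiniteType G'.hom := by rw [← Over.w incl]; infer_instance
  haveI : QuasiCompact G'.hom := by rw [← Over.w incl]; infer_instance
  haveI : IsMonHom q' := WittLib.Basic.isMonHom_of_points _ fun T x y => by
    rw [← cancel_mono j', MonObj.mul_comp _ _ j', Category.assoc, Category.assoc, Category.assoc, ← hw,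
      ← Category.assoc, ← Category.assoc, ← Category.assoc, MonObj.mul_comp x y incl, MonObj.mul_comp _ _ q]
  have hq'c : UnipLib.Cover q' := by
    haveI := hqc.qc
    exact ⟨MorphismProperty.of_isPullback hpbl (inferInstance : Flat q.left),
      MorphismProperty.of_isPullback hpbl (inferInstance : Surjective q.left),
      MorphismProperty.of_isPullback hpbl hqc.qc⟩
  have hiq : i ≫ q = (toUnit N ≫ η[M']) ≫ j' := by rw [Category.assoc, IsMonHom.one_hom]; exact hq.w
  let i' : N ⟶ G' := hpb.lift i (toUnit N ≫ η[M']) hiq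
  have hi' : i' ≫ incl = i := hpb.lift_fst _ _ _
  haveI : IsMonHom i' := WittLib.Basic.isMonHom_of_points _ fun T x y => by
    rw [← cancel_mono incl, Category.assoc, hi', MonObj.mul_comp x y i, MonObj.mul_comp _ _ incl, Category.assoc,
      Category.assoc, hi']
  haveI : IsClosedImmersion (i'.left ≫ incl.left) := by rw [← Over.comp_left, hi']; infer_instance
  haveI : IsClosedImmersion i'.left := IsClosedImmersion.of_comp i'.left incl.left
  have hnorm : AlgGrp.IsNormalHom i' := fun T g n => by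
    obtain ⟨n', hn'⟩ := hN T (g ≫ incl) n
    refine ⟨n', ?_⟩
    rw [← cancel_mono incl, MonObj.mul_comp _ _ incl, MonObj.mul_comp _ _ incl, GrpObj.inv_comp, Category.assoc,
      Category.assoc, hi', hn']
  have hker : AlgGrp.IsKernel i' q' :=
    IsPullback.of_right (h₁₂ := incl) (h₂₂ := j') (v₁₃ := q)
      (by rw [hi', IsMonHom.one_hom]; exact hq) (hpb.lift_snd _ _ _) hpb
  obtain ⟨MG, hMG, jG, hjG, hjGc, hpbM, hMGc⟩ := exists_antiAffine_kernel G'
  haveI : LocallyOfFiniteType MG.hom := by rw [← Over.w jG]; infer_instance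
  haveI : QuasiCompact MG.hom := by rw [← Over.w jG]; infer_instance
  have hliftM : ∀ {T : Over (Spec (CommRingCat.of k))} (z : T ⟶ G'), z ≫ toHull G' = 1 → ∃ m : T ⟶ MG, m ≫ jG = z :=
    fun {T} z hz => ⟨Over.homMk (hpbM.lift z.left (toUnit T).left ((killed_toHull_iff z).1 hz))
      (by rw [← Over.w jG, ← Category.assoc, hpbM.lift_fst, Over.w]), Over.OverMorphism.ext (hpbM.lift_fst _ _ _)⟩
  haveI : IsClosedImmersion (jG ≫ incl).left := by rw [Over.comp_left]; infer_instance
  obtain ⟨ρ, hρ⟩ := hMmax MG (jG ≫ incl) ((GrpScheme.AntiAffine.bijective_iff_isIso MG).mpr hMGc)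
  apply Set.Subset.antisymm
  · rintro _ ⟨x, rfl⟩
    refine ⟨(pI ≫ gI).left x, ?_⟩
    show j'.left ((pI ≫ gI).left x) = (j ≫ q).left x
    rw [← hpιI, ← hgI]
    simp only [Over.comp_left, Scheme.Hom.comp_apply]
  · rintro _ ⟨x, rfl⟩
    obtain ⟨x₀, rfl⟩ := hq'c.surj.surj x
    obtain ⟨T', r, n, m, hr, he⟩ := exists_decomp i' hnorm q' hq'c hker
      (fun P _ _ h hc => subsingleton_of_antiAffine h hc) jG hliftM (ptOf x₀)
    obtain ⟨t, ht⟩ := hr.surj (IsLocalRing.closedPoint (G'.left.residueField x₀) :)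
    refine ⟨(m ≫ ρ).left t, ?_⟩
    have e : (m ≫ ρ) ≫ j ≫ q = r ≫ ptOf x₀ ≫ q' ≫ j' := by
      rw [← Category.assoc r, he, MonObj.mul_comp _ _ (q' ≫ j'), Category.assoc n, ← hw, reassoc_of% hi',
        show i ≫ q = toUnit N ≫ η[Q] from hq.w, ← Category.assoc n, toUnit_unique (n ≫ toUnit N) (toUnit T'),
        ← Hom.one_def, _root_.one_mul, Category.assoc m, reassoc_of% hρ, Category.assoc]
    calc (j ≫ q).left ((m ≫ ρ).left t) = ((m ≫ ρ) ≫ j ≫ q).left t := by
          simp only [Over.comp_left, Scheme.Hom.comp_apply]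
      _ = (r ≫ ptOf x₀ ≫ q' ≫ j').left t := by rw [e]
      _ = j'.left (q'.left x₀) := by
        simp only [Over.comp_left, Scheme.Hom.comp_apply]
        rw [ht]
        exact congrArg (fun z => j'.left (q'.left z)) (Scheme.fromSpecResidueField_apply x₀ _)

end Groth.Agent.S14589
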