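import Groth.Statements.S14590
import Groth.Agent.GrpdLib.TorsAV.Main
import Groth.Agent.GrpScheme.Basic

set_option autoImplicit false
universe u
open CategoryTheory MonoidalCategory CartesianMonoidalCategory MonObj GrpObj AlgebraicGeometry CategoryTheory.Limits
open AlgGrp

set_option backward.isDefEq.respectTransparency false
set_option linter.style.haveILetI false

namespace Groth.Agent.S14590
open Groth.Agent

/-- Let k be a field, A an abelian variety (proper, smooth, connected k-group scheme), X and Y smooth
varieties over k (smooth, separated, geometrically integral k-schemes of finite type) and f : X → Y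
an A-torsor: an action of A on X with f invariant, flat and surjective and A × X → X ×_Y X, (a, x) ↦
(a·x, x), an isomorphism. Then there exist a k-morphism φ : X → A and a positive integer n such that
φ(a·x) = φ(x) · aⁿ identically (multiplicative notation for the group law of A). -/
theorem result (k : Type u) [Field k]
    (A X Y : Over (Spec (CommRingCat.of k))) [GrpObj A] [IsProper A.hom] [Smooth A.hom] [ConnectedSpace ↥A.left]
    [Smooth X.hom] [IsSeparated X.hom] [QuasiCompact X.hom] [GeometricallyIntegral X.hom]
    [Smooth Y.hom] [IsSeparated Y.hom] [QuasiCompact Y.hom] [GeometricallyIntegral Y.hom]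
    (a : AlgGrp.Action A X) (f : X ⟶ Y) [Flat f.left] [Surjective f.left]
    (hinv : a.act ≫ f = snd A X ≫ f) (htors : IsIso (pullback.lift a.act (snd A X) hinv)) :
    ∃ (φ : X ⟶ A) (n : ℕ), 0 < n ∧
      ∀ (T : Over (Spec (CommRingCat.of k))) (b : T ⟶ A) (x : T ⟶ X), lift b x ≫ a.act ≫ φ = (x ≫ φ) * b ^ n := by
  haveI : GeometricallyIntegral A.hom := by
    haveI := AbVarLib.Basics.irreducibleSpace_of_connectedSpace A
    haveI := AbVarLib.Basics.geometricallyReduced_of_smooth A.hom
    haveI := GrpScheme.Component.geometricallyIrreducible_of_irreducibleSpace A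
    exact GeometricallyIntegral.of_geometricallyReduced_of_geometricallyIrreducible _
  haveI := GrpScheme.AVComm.isCommMonObj A
  haveI : IsIntegral X.left := GeometricallyIntegral.isIntegral_of_subsingleton X.hom
  haveI : UniversallyOpen A.hom := inferInstance
  haveI : IsIntegral (A ⊗ X).left := by
    haveI : IrreducibleSpace ↥(pullback A.hom X.hom) :=
      GeometricallyIrreducible.irreducibleSpace (pullback.snd A.hom X.hom) (pullback.snd A.hom X.hom).isOpenMap
    haveI : IrreducibleSpace (A ⊗ X).left := inferInstanceAs (IrreducibleSpace ↥(pullback A.hom X.hom))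
    haveI : IsReduced (A ⊗ X).left := GrpScheme.HomFlat.isReduced_of_smooth (pullback.fst A.hom X.hom ≫ A.hom)
    exact isIntegral_of_irreducibleSpace_of_isReduced _
  haveI : QuasiCompact f.left := by
    haveI : QuasiCompact (f.left ≫ Y.hom) := by rw [Over.w f]; infer_instance
    exact QuasiCompact.of_comp f.left Y.hom
  haveI : Smooth f.left := by
    haveI : IsIso (pullback.lift a.act (snd A X) hinv).left := inferInstanceAs (IsIso ((Over.forget _).map _))
    have hsq := (IsPullback.of_hasPullback f f).map (Over.forget _)
    have h1 : Smooth ((pullback.lift a.act (snd A X) hinv).left ≫ (pullback.snd f f).left) := by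
      rw [← Over.comp_left, pullback.lift_snd]
      exact GrpScheme.Basic.snd_left_mem @Smooth ‹_›
    have h2 : Smooth (pullback.snd f f).left := (MorphismProperty.cancel_left_of_respectsIso @Smooth _ _).mp h1
    exact MorphismProperty.of_isPullback_of_descendsAlong (P := @Smooth) (Q := @Surjective ⊓ @Flat ⊓ @QuasiCompact)
      hsq.flip ⟨⟨‹Surjective f.left›, ‹Flat f.left›⟩, ‹QuasiCompact f.left›⟩ h2
  exact GrpdLib.TorsAV.exists_map A X Y a f hinv htors

end Groth.Agent.S14590
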