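import Groth.Statements.S14595
import Groth.Agent.GrpdLib.Seesaw.SemiabelianField

set_option autoImplicit false
universe u
open CategoryTheory MonoidalCategory CartesianMonoidalCategory MonObj GrpObj AlgebraicGeometry CategoryTheory.Limits
open AlgGrp

namespace Groth.Agent.S14595

/-- Let k be a field, X and Y varieties over k (separated, geometrically integral, of finite type) with
rational points x₀, y₀, G a semi-abelian variety (an extension of a proper smooth connected k-group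
scheme by a torus) and f : X × Y → G a k-morphism. Then f(x, y) f(x, y₀)⁻¹ f(x₀, y)⁻¹ f(x₀, y₀) = e
identically, in the group of morphisms X × Y → G. -/
theorem result (k : Type u) [Field k]
    (X Y G : Over (Spec (CommRingCat.of k)))
    [LocallyOfFiniteType X.hom] [QuasiCompact X.hom] [IsSeparated X.hom] [GeometricallyIntegral X.hom]
    [LocallyOfFiniteType Y.hom] [QuasiCompact Y.hom] [IsSeparated Y.hom] [GeometricallyIntegral Y.hom]
    [GrpObj G] [LocallyOfFiniteType G.hom] [QuasiCompact G.hom] (hG : (∃ (T : Over (Spec (CommRingCat.of k))) (_ : GrpObj T) (i : T ⟶ G) (A : Over (Spec (CommRingCat.of k))) (_ : GrpObj A) (q : G ⟶ A),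
        IsMonHom i ∧ IsClosedImmersion i.left ∧ Red.IsTorus T ∧ IsMonHom q ∧ Surjective q.left ∧ Flat q.left ∧
        AlgGrp.IsKernel i q ∧ IsProper A.hom ∧ Smooth A.hom ∧ ConnectedSpace ↥A.left))
    (x₀ : 𝟙_ (Over (Spec (CommRingCat.of k))) ⟶ X) (y₀ : 𝟙_ (Over (Spec (CommRingCat.of k))) ⟶ Y) (f : X ⊗ Y ⟶ G) :
    f * (fst X Y ≫ lift (𝟙 X) (toUnit X ≫ y₀) ≫ f)⁻¹ * (snd X Y ≫ lift (toUnit Y ≫ x₀) (𝟙 Y) ≫ f)⁻¹ *
      (toUnit (X ⊗ Y) ≫ lift x₀ y₀ ≫ f) = 1 := by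
  obtain ⟨T, _, i, A, _, q, _, _, hT, _, _, _, hk, _, _, _⟩ := hG
  obtain ⟨hc, H⟩ := GrpdLib.Seesaw.semiabelian_field hk hT
  set c : X ⊗ Y ⟶ G := toUnit (X ⊗ Y) ≫ lift x₀ y₀ ≫ f with hcdef
  set g₁ : X ⟶ G := lift (𝟙 X) (toUnit X ≫ y₀) ≫ f with hg₁
  set g₂ : Y ⟶ G := lift (toUnit Y ≫ x₀) (𝟙 Y) ≫ f with hg₂
  have hu : ∀ {P Q : Over (Spec (CommRingCat.of k))} (a : P ⟶ Q), a ≫ toUnit Q = toUnit P :=
    fun a => toUnit_unique _ _
  have hx : x₀ ≫ g₁ = lift x₀ y₀ ≫ f := by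
    rw [hg₁, ← Category.assoc, comp_lift, Category.comp_id, ← Category.assoc, hu x₀,
      toUnit_unique (toUnit (𝟙_ _)) (𝟙 _), Category.id_comp]
  have hy : y₀ ≫ g₂ = lift x₀ y₀ ≫ f := by
    rw [hg₂, ← Category.assoc, comp_lift, Category.comp_id, ← Category.assoc, hu y₀,
      toUnit_unique (toUnit (𝟙_ _)) (𝟙 _), Category.id_comp]
  refine H X Y x₀ y₀ _ ?_ ?_
  · rw [MonObj.comp_mul, MonObj.comp_mul, MonObj.comp_mul, GrpObj.comp_inv, GrpObj.comp_inv,
      lift_snd_assoc, Category.id_comp, lift_fst_assoc, Category.assoc, hx, hcdef, ← Category.assoc,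
      ← Category.assoc (lift (toUnit Y ≫ x₀) (𝟙 Y)) (toUnit (X ⊗ Y)),
      hu (lift (toUnit Y ≫ x₀) (𝟙 Y)), ← hg₂, mul_inv_cancel_comm, Category.assoc, inv_mul_cancel]
  · rw [MonObj.comp_mul, MonObj.comp_mul, MonObj.comp_mul, GrpObj.comp_inv, GrpObj.comp_inv,
      lift_fst_assoc, Category.id_comp, lift_snd_assoc, Category.assoc, hy, hcdef,
      ← Category.assoc (lift (𝟙 X) (toUnit X ≫ y₀)) (toUnit (X ⊗ Y)),
      hu (lift (𝟙 X) (toUnit X ≫ y₀)), ← hg₁, mul_inv_cancel, _root_.one_mul, inv_mul_cancel]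

end Groth.Agent.S14595
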