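import Groth.Statements.S14599
import Groth.Agent.GrpdLib.AbQuot.Main

set_option autoImplicit false
set_option backward.isDefEq.respectTransparency.types false
universe u
open CategoryTheory MonoidalCategory CartesianMonoidalCategory MonObj GrpObj AlgebraicGeometry CategoryTheory.Limits
open AlgGrp

namespace Groth.Agent.S14599

/-- Let k be a field and G a smooth connected k-group scheme of finite type. Then G has a smallest
normal subgroup scheme N whose quotient is an abelian variety, N is connected, and the quotient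
homomorphism α : G → G/N is universal: there are a connected closed normal subgroup scheme i : N →
G, a proper smooth connected k-group scheme A and a flat surjective homomorphism α : G → A with
kernel N such that every k-morphism from G to a proper smooth connected k-group scheme sending e to
e factors uniquely through α, and every flat surjective homomorphism from G onto a proper smooth
connected k-group scheme kills N. -/
theorem result (k : Type u) [Field k]
    (G : Over (Spec (CommRingCat.of k))) [GrpObj G] [Smooth G.hom] [QuasiCompact G.hom] [ConnectedSpace ↥G.left] :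
    ∃ (N : Over (Spec (CommRingCat.of k))) (_ : GrpObj N) (i : N ⟶ G) (A : Over (Spec (CommRingCat.of k))) (_ : GrpObj A) (α : G ⟶ A),
      IsMonHom i ∧ IsClosedImmersion i.left ∧ AlgGrp.IsNormalHom i ∧ ConnectedSpace ↥N.left ∧
      IsProper A.hom ∧ Smooth A.hom ∧ ConnectedSpace ↥A.left ∧ IsMonHom α ∧ Surjective α.left ∧ Flat α.left ∧
      AlgGrp.IsKernel i α ∧
      (∀ (B : Over (Spec (CommRingCat.of k))) [GrpObj B] [IsProper B.hom] [Smooth B.hom] [ConnectedSpace ↥B.left] (f : G ⟶ B),
        η[G] ≫ f = η[B] → ∃! g : A ⟶ B, α ≫ g = f) ∧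
      (∀ (B : Over (Spec (CommRingCat.of k))) [GrpObj B] [IsProper B.hom] [Smooth B.hom] [ConnectedSpace ↥B.left] (q : G ⟶ B)
        [IsMonHom q] [Surjective q.left] [Flat q.left], i ≫ q = 1) := by
  obtain ⟨c, hc⟩ := GrpdLib.AbQuot.exists_minimal (G := G)
  have hn : AlgGrp.IsNormalHom c.j := fun T g n => by
    obtain ⟨n', hn'⟩ := GrpdLib.GrpOver.kernel_factor c.ker (g * (n ≫ c.j) * g⁻¹) (by
      rw [MonObj.mul_comp, MonObj.mul_comp, GrpdLib.GrpOver.comp_kernel_comp c.ker, _root_.mul_one, GrpObj.inv_comp,
        mul_inv_cancel])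
    exact ⟨n', hn'.symm⟩
  have kill : ∀ (B : Over (Spec (CommRingCat.of k))) [GrpObj B] [IsProper B.hom] (f : G ⟶ B) [IsMonHom f], c.j ≫ f = 1 := by
    intro B _ _ f _
    obtain ⟨d, i, _, _, hdi⟩ := GrpdLib.AbQuot.exists_quo_of_hom (G := G) f
    rw [← hdi, ← Category.assoc, hc d, MonObj.one_comp]
  haveI : QuasiCompact c.q.left := GrpdLib.GrpOver.quasiCompact_left c.q
  have hcov : UnipLib.Cover c.q := ⟨inferInstance, inferInstance, inferInstance⟩
  refine ⟨c.K, c.grpK, c.j, c.B, c.grpB, c.q, c.homj, c.closed, hn, GrpdLib.AbQuot.connected_of_minimal c hc,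
    c.proper, c.smooth, c.conn, c.hom, c.surj, c.flat, c.ker, fun B _ _ _ _ f hf => ?_,
    fun B _ _ _ _ q _ _ _ => kill B q⟩
  haveI := GrpdLib.AbQuot.geometricallyIntegral G
  haveI := GrpdLib.AbQuot.geometricallyIntegral B
  haveI : IsSeparated G.hom := GrpdLib.GrpOver.isSeparated_hom G
  haveI : IsMonHom f := S11994.result k G B f hf
  obtain ⟨g, hg⟩ := hcov.exists_desc f fun {T} u v huv => by
    obtain ⟨n, hn'⟩ := GrpdLib.GrpOver.kernel_factor c.ker (u⁻¹ * v) (by
      rw [MonObj.mul_comp, GrpObj.inv_comp, huv, inv_mul_cancel])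
    have e : (u⁻¹ * v) ≫ f = 1 := by rw [← hn', Category.assoc, kill B f, MonObj.comp_one]
    rwa [MonObj.mul_comp, GrpObj.inv_comp, inv_mul_eq_one] at e
  haveI := hcov.epi
  exact ⟨g, hg, fun g' hg' => by rw [← cancel_epi c.q, hg, hg']⟩

end Groth.Agent.S14599
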