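import Groth.Statements.S1460
import Mathlib.RingTheory.Extension.Presentation.Core
import Mathlib.AlgebraicGeometry.Pullbacks
import Mathlib.AlgebraicGeometry.Morphisms.FinitePresentation

set_option autoImplicit false
universe u
open FlatMor

namespace Groth.Agent.S1460

open scoped TensorProduct

open AlgebraicGeometry CategoryTheory Limits in
/-- Let f : X → S be a morphism of finite presentation between affine schemes. Then f is the base change
of a morphism of finite type f₀ : X₀ → S₀ between affine schemes with S₀ of finite type over ℤ. -/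
theorem result {X S : Scheme.{u}} (f : X ⟶ S) [IsAffine X] [IsAffine S] [LocallyOfFinitePresentation f] :
    ∃ (X₀ S₀ : Scheme.{u}) (f₀ : X₀ ⟶ S₀) (g : S ⟶ S₀) (g' : X ⟶ X₀), IsAffine X₀ ∧ IsAffine S₀ ∧ IsPullback g' f f₀ g ∧
      Algebra.FiniteType ℤ Γ(S₀, ⊤) ∧ LocallyOfFiniteType f₀ := by
  let _ : Algebra Γ(S, ⊤) Γ(X, ⊤) := f.appTop.hom.toAlgebra
  have : Algebra.FinitePresentation Γ(S, ⊤) Γ(X, ⊤) :=
    (HasRingHomProperty.iff_of_isAffine (P := @LocallyOfFinitePresentation)).mp ‹_›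
  let P := Algebra.Presentation.ofFinitePresentation Γ(S, ⊤) Γ(X, ⊤)
  let A₀ := P.Core
  let B₀ := P.ModelOfHasCoeffs A₀
  let e := P.tensorModelOfHasCoeffsEquiv A₀
  have hpo := CommRingCat.isPushout_tensorProduct A₀ Γ(S, ⊤) B₀
  let f₀ : Spec (CommRingCat.of B₀) ⟶ Spec (CommRingCat.of A₀) := Spec.map (CommRingCat.ofHom (algebraMap A₀ B₀))
  let g : S ⟶ Spec (CommRingCat.of A₀) := S.isoSpec.hom ≫ Spec.map (CommRingCat.ofHom (algebraMap A₀ Γ(S, ⊤)))
  let j : Γ(S, ⊤) ⊗[A₀] B₀ →+* Γ(X, ⊤) := e.toAlgHom.toRingHom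
  let g' : X ⟶ Spec (CommRingCat.of B₀) := X.isoSpec.hom ≫ Spec.map (CommRingCat.ofHom
    (j.comp (Algebra.TensorProduct.includeRight : B₀ →ₐ[A₀] Γ(S, ⊤) ⊗[A₀] B₀).toRingHom))
  refine ⟨_, _, f₀, g, g', inferInstance, inferInstance, ?_, ?_, ?_⟩
  · have h1 := (isPullback_SpecMap_of_isPushout _ _ _ _ hpo).flip
    let eI : CommRingCat.of (Γ(S, ⊤) ⊗[A₀] B₀) ≅ Γ(X, ⊤) := e.toRingEquiv.toCommRingCatIso
    refine IsPullback.of_iso h1 (asIso (Spec.map eI.inv) ≪≫ X.isoSpec.symm)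
      (Iso.refl _) S.isoSpec.symm (Iso.refl _) ?_ ?_ ?_ ?_
    · simp only [Iso.trans_hom, asIso_hom, Iso.symm_hom, Iso.refl_hom]
      simp only [g', Category.comp_id, Category.assoc, Iso.inv_hom_id_assoc]
      rw [← Spec.map_comp]
      congr 1
      refine CommRingCat.hom_ext (RingHom.ext fun b ↦ ?_)
      exact (e.symm_apply_apply _).symm
    · simp only [Iso.trans_hom, asIso_hom, Iso.symm_hom]
      rw [Category.assoc, ← Scheme.isoSpec_inv_naturality f, ← Category.assoc, ← Spec.map_comp]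
      congr 2
      ext a
      show _ = e.symm (algebraMap Γ(S, ⊤) Γ(X, ⊤) a)
      rw [e.symm.commutes]
      rfl
    · simp [f₀]
    · simp [g]
  · let eΓ := (Scheme.ΓSpecIso (CommRingCat.of A₀)).commRingCatIsoToRingEquiv
    exact Algebra.FiniteType.equiv (inferInstance : Algebra.FiniteType ℤ A₀) eΓ.symm.toIntAlgEquiv
  · rw [HasRingHomProperty.Spec_iff (P := @LocallyOfFiniteType), CommRingCat.hom_ofHom, RingHom.finiteType_algebraMap]
    infer_instance

end Groth.Agent.S1460
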