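import Groth.Statements.S14606
import Groth.Agent.GeomRedPI.Basic
-- import your own Groth.Agent.* helpers here

set_option autoImplicit false
universe u
open FrobAlg
open scoped TensorProduct

namespace Groth.Agent.S14606

/-- Let k be a field of characteristic p > 0 and R a finitely generated commutative k-algebra. The
scheme-theoretic image of the n-th relative Frobenius morphism of Spec R is the spectrum of the
k-subalgebra k[R^(p^n)] generated by all p^n-th powers; for n large enough this image is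
geometrically reduced: there is an n such that k[R^(p^n)] is a geometrically reduced k-algebra.
(Stated in affine, ring-theoretic form.) -/
theorem result (k : Type u) [Field k] (p : ℕ) [Fact p.Prime] [CharP k p]
    (R : Type u) [CommRing R] [Algebra k R] [Algebra.FiniteType k R] :
    ∃ n : ℕ, Algebra.IsGeometricallyReduced k ↥(Algebra.adjoin k (Set.range (fun x : R => x ^ (p ^ n)))) := by
  classical
  rcases subsingleton_or_nontrivial R with hR | hR
  · refine ⟨0, ?_⟩
    rw [Algebra.isGeometricallyReduced_field_iff]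
    haveI : Subsingleton (AlgebraicClosure k ⊗[k]
        Algebra.adjoin k (Set.range fun x : R => x ^ p ^ 0)) := subsingleton_of_zero_eq_one (by
        rw [Algebra.TensorProduct.one_def, Subsingleton.elim (1 : Algebra.adjoin k
          (Set.range fun x : R => x ^ p ^ 0)) 0, TensorProduct.tmul_zero])
    infer_instance
  haveI : ExpChar k p := ExpChar.prime Fact.out
  obtain ⟨k', _, _, hfin, hpi, hred⟩ :=
    Groth.Agent.GeomRedPI.exists_isGeometricallyReduced (k := k) R
  haveI : IsNoetherianRing (k' ⊗[k] R) := Algebra.FiniteType.isNoetherianRing k' (k' ⊗[k] R)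
  obtain ⟨N, hN⟩ := IsNoetherianRing.isNilpotent_nilradical (k' ⊗[k] R)
  refine ⟨N, (Algebra.isGeometricallyReduced_field_iff _ _).2 ?_⟩
  set A := Algebra.adjoin k (Set.range fun x : R => x ^ p ^ N)
  refine ⟨fun z hz => ?_⟩
  let Ω := AlgebraicClosure k
  haveI : Nontrivial (Ω ⊗[k] R) :=
    (Algebra.TensorProduct.includeRight_injective (R := k) (A := Ω) (B := R)
      (algebraMap k Ω).injective).nontrivial
  haveI : ExpChar (Ω ⊗[k] R) p := expChar_of_injective_algebraMap (algebraMap k _).injective p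
  haveI : ExpChar Ω p := expChar_of_injective_algebraMap (algebraMap k Ω).injective p
  let ι : Ω ⊗[k] A →ₐ[k] Ω ⊗[k] R := Algebra.TensorProduct.map (AlgHom.id k Ω) A.val
  have hι : Function.Injective ι :=
    Module.Flat.lTensor_preserves_injective_linearMap A.val.toLinearMap Subtype.val_injective
  let Q := (iterateFrobenius (Ω ⊗[k] R) p N).range
  have hΩ : ∀ ω : Ω, ω ⊗ₜ[k] (1 : R) ∈ Q := fun ω => by
    obtain ⟨v, rfl⟩ := IsAlgClosed.exists_pow_nat_eq ω (pow_pos (Fact.out : p.Prime).pos N)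
    refine ⟨v ⊗ₜ 1, ?_⟩
    rw [iterateFrobenius_def, Algebra.TensorProduct.tmul_pow, one_pow]
  have hA : ∀ a ∈ A, (1 : Ω) ⊗ₜ[k] a ∈ Q := fun a ha => by
    induction ha using Algebra.adjoin_induction with
    | mem x hx =>
      obtain ⟨y, rfl⟩ := hx
      exact ⟨1 ⊗ₜ y, by rw [iterateFrobenius_def, Algebra.TensorProduct.tmul_pow, one_pow]⟩
    | algebraMap c =>
      rw [Algebra.algebraMap_eq_smul_one, ← TensorProduct.smul_tmul]
      exact hΩ _
    | add x y _ _ hx hy => rw [TensorProduct.tmul_add]; exact add_mem hx hy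
    | mul x y _ _ hx hy =>
      rw [show (1 : Ω) ⊗ₜ[k] (x * y) = ((1 : Ω) ⊗ₜ[k] x) * ((1 : Ω) ⊗ₜ[k] y) by simp]
      exact mul_mem hx hy
  have hrange : ∀ y, ι y ∈ Q := fun y => by
    induction y with
    | zero => rw [map_zero]; exact zero_mem _
    | tmul ω a =>
      rw [show ι (ω ⊗ₜ a) = (ω ⊗ₜ[k] (1 : R)) * ((1 : Ω) ⊗ₜ[k] (a : R)) by simp [ι]]
      exact mul_mem (hΩ ω) (hA _ a.2)
    | add x y hx hy => rw [map_add]; exact add_mem hx hy
  obtain ⟨w, hw⟩ := hrange z
  have hwnil : IsNilpotent w := by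
    refine IsNilpotent.of_pow (m := p ^ N) ?_
    rw [← iterateFrobenius_def, hw]
    exact hz.map ι
  haveI : Algebra.IsAlgebraic k k' := Algebra.IsAlgebraic.of_finite k k'
  let j : k' →ₐ[k] Ω := IsAlgClosed.lift
  letI : Algebra k' Ω := j.toRingHom.toAlgebra
  haveI : IsScalarTower k k' Ω := IsScalarTower.of_algebraMap_eq fun c => (j.commutes c).symm
  haveI : Algebra.IsAlgebraic k' Ω := Algebra.IsAlgebraic.tower_top (K := k) k'
  let e : Ω ⊗[k'] (k' ⊗[k] R) ≃ₐ[Ω] Ω ⊗[k] R := Algebra.TensorProduct.cancelBaseChange k k' Ω Ω R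
  haveI : IsReduced (Ω ⊗[k'] ((k' ⊗[k] R) ⧸ nilradical (k' ⊗[k] R))) := inferInstance
  have hmem : e.symm w ∈ RingHom.ker (Algebra.TensorProduct.map (AlgHom.id k' Ω)
      (Ideal.Quotient.mkₐ k' (nilradical (k' ⊗[k] R)))) := RingHom.mem_ker.2
    (((hwnil.map e.symm).map _).eq_zero)
  rw [Algebra.TensorProduct.lTensor_ker _ Ideal.Quotient.mk_surjective] at hmem
  have hker : (RingHom.ker (Ideal.Quotient.mkₐ k' (nilradical (k' ⊗[k] R)))).map
      (Algebra.TensorProduct.includeRight : k' ⊗[k] R →ₐ[k'] Ω ⊗[k'] (k' ⊗[k] R)) ≤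
      RingHom.ker ((iterateFrobenius (Ω ⊗[k] R) p N).comp e.toRingHom) := by
    rw [Ideal.map_le_iff_le_comap]
    intro y hy
    have hy0 : y ∈ nilradical (k' ⊗[k] R) := Ideal.Quotient.eq_zero_iff_mem.1 hy
    have hyN : y ^ p ^ N = 0 := by
      have h1 : y ^ N ∈ (nilradical (k' ⊗[k] R)) ^ N := Ideal.pow_mem_pow hy0 N
      rw [hN] at h1
      exact pow_eq_zero_of_le (Nat.lt_pow_self (Fact.out : p.Prime).one_lt).le (Ideal.mem_bot.1 h1)
    rw [Ideal.mem_comap, RingHom.mem_ker, RingHom.comp_apply, iterateFrobenius_def, ← map_pow,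
      ← map_pow, hyN, map_zero, map_zero]
  have hz0 := hker hmem
  rw [RingHom.mem_ker, RingHom.comp_apply] at hz0
  refine hι ?_
  rw [map_zero, ← hw, ← hz0]
  exact congrArg _ (e.apply_symm_apply w).symm

end Groth.Agent.S14606
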