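import Groth.Statements.S14608
import Groth.Agent.LeftInv.Basic
import Mathlib
-- import your own Groth.Agent.* helpers here

set_option autoImplicit false
universe u v
open CAlg

namespace Groth.Agent.S14608


open TensorProduct in
private theorem projective_localized {A : Type u} [CommRing A] {N P : Type v} [AddCommGroup N] [Module A N]
    [AddCommGroup P] [Module A P] [Module.Free A N] [Module.Finite A N] (p : Ideal A) [p.IsPrime]
    (i : P →ₗ[A] N) (r : N →ₗ[A] P) {f : A} (hf : f ∉ p) (h : ∀ x, r (i x) = f • x) [Module.Finite A P] :
    Module.Free (Localization.AtPrime p) (LocalizedModule p.primeCompl P) := by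
  have hcomp : ((Localization.mk 1 ⟨f, hf⟩ : Localization p.primeCompl) • LocalizedModule.map p.primeCompl r) ∘ₗ
      LocalizedModule.map p.primeCompl i = LinearMap.id := by
    refine LinearMap.ext fun z => ?_
    induction z using LocalizedModule.induction_on with
    | h m s =>
      simp only [LinearMap.comp_apply, LinearMap.smul_apply, LocalizedModule.map_mk, h,
        LocalizedModule.mk_smul_mk, LinearMap.id_apply, one_smul]
      rw [LocalizedModule.mk_eq]
      refine ⟨1, ?_⟩
      simp only [Submonoid.smul_def, OneMemClass.coe_one, one_smul, Submonoid.coe_mul]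
      rw [mul_comm, mul_smul]
  haveI : Module.Projective (Localization.AtPrime p) (LocalizedModule p.primeCompl N) := inferInstance
  haveI : Module.Finite (Localization.AtPrime p) (LocalizedModule p.primeCompl P) := inferInstance
  haveI : Module.Projective (Localization.AtPrime p) (LocalizedModule p.primeCompl P) :=
    Module.Projective.of_split _ _ hcomp
  exact Module.free_of_flat_of_isLocalRing

open TensorProduct in
/-- Let A be a Noetherian ring, M a finitely generated A-module, F a finitely generated free A-module, δ
: M → F an A-linear map and p a prime of A with residue field κ(p). The following are equivalent: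
(a) the natural map (ker δ) ⊗ κ(p) → ker(δ ⊗ κ(p)) is surjective (its image is the whole kernel);
(b) that map is bijective; (c) (F / im δ) localized at p is a free module over the local ring A_p.
Moreover, if these hold then (im δ) localized at p is free over A_p. (The published statement takes
M to be the cokernel of a map of finitely generated free modules; over a Noetherian ring this is
every finitely generated M, which is what this row takes.) -/
theorem result (A : Type u) [CommRing A] [IsNoetherianRing A]
    (M : Type v) (F : Type v) [AddCommGroup M] [Module A M] [Module.Finite A M]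
    [AddCommGroup F] [Module A F] [Module.Finite A F] [Module.Free A F]
    (δ : M →ₗ[A] F) (p : Ideal A) [p.IsPrime] :
    [ Function.Exact (LinearMap.lTensor p.ResidueField (LinearMap.ker δ).subtype)
        (LinearMap.lTensor p.ResidueField δ),
      Function.Exact (LinearMap.lTensor p.ResidueField (LinearMap.ker δ).subtype)
        (LinearMap.lTensor p.ResidueField δ) ∧
        Function.Injective (LinearMap.lTensor p.ResidueField (LinearMap.ker δ).subtype),
      Module.Free (Localization.AtPrime p)
        (LocalizedModule p.primeCompl (F ⧸ LinearMap.range δ)) ].TFAE ∧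
    (Function.Exact (LinearMap.lTensor p.ResidueField (LinearMap.ker δ).subtype)
        (LinearMap.lTensor p.ResidueField δ) →
      Module.Free (Localization.AtPrime p)
        (LocalizedModule p.primeCompl (LinearMap.range δ))) := by
  set ι := (LinearMap.ker δ).subtype with hι
  set i := (LinearMap.range δ).subtype with hi
  -- a left inverse up to an element outside `p`
  let P : Prop := ∃ f ∉ p, ∃ w : F →ₗ[A] LinearMap.range δ, ∀ z, w (i z) = f • z
  have ha : Function.Exact (ι.lTensor p.ResidueField) (δ.lTensor p.ResidueField) → P := by
    intro hex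
    refine Groth.Agent.LeftInv.Basic.exists_smul_eq i p ?_
    refine (injective_iff_map_eq_zero _).mpr (fun x hx => ?_)
    obtain ⟨z, rfl⟩ := LinearMap.lTensor_surjective p.ResidueField δ.surjective_rangeRestrict x
    rw [← LinearMap.comp_apply, ← LinearMap.lTensor_comp,
      show i ∘ₗ δ.rangeRestrict = δ from rfl] at hx
    obtain ⟨y, rfl⟩ := (hex z).mp hx
    rw [← LinearMap.comp_apply, ← LinearMap.lTensor_comp,
      show δ.rangeRestrict ∘ₗ ι = 0 from LinearMap.ext fun y => Subtype.ext y.2]
    simp
  have hb : P → Function.Exact (ι.lTensor p.ResidueField) (δ.lTensor p.ResidueField) ∧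
      Function.Injective (ι.lTensor p.ResidueField) := by
    rintro ⟨f, hf, w, hw⟩
    obtain ⟨h, hh⟩ := Module.projective_lifting_property δ.rangeRestrict w δ.surjective_rangeRestrict
    have hh' : ∀ x, δ (h x) = (w x : F) := fun x => congrArg Subtype.val (LinearMap.congr_fun hh x)
    let r : M →ₗ[A] LinearMap.ker δ := LinearMap.codRestrict _ (f • LinearMap.id - h ∘ₗ δ) (fun m => by
      rw [LinearMap.mem_ker]
      simp only [LinearMap.sub_apply, LinearMap.smul_apply, LinearMap.id_apply, LinearMap.comp_apply,
        map_sub, map_smul, hh']
      have := congrArg Subtype.val (hw ⟨δ m, LinearMap.mem_range_self δ m⟩)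
      simp only [hi, Submodule.subtype_apply, SetLike.val_smul] at this
      rw [this, sub_self])
    have hr : r ∘ₗ ι = f • LinearMap.id := by
      refine LinearMap.ext fun y => Subtype.ext ?_
      show f • (y : M) - h (δ (y : M)) = f • (y : M)
      rw [show δ (y : M) = 0 from y.2, map_zero, sub_zero]
    have hsum : ι ∘ₗ r + h ∘ₗ δ = f • LinearMap.id := by
      refine LinearMap.ext fun m => ?_
      show f • m - h (δ m) + h (δ m) = f • m
      rw [sub_add_cancel]
    have hfu : IsUnit (algebraMap A p.ResidueField f) :=
      isUnit_iff_ne_zero.mpr (fun h0 => hf (Ideal.algebraMap_residueField_eq_zero.mp h0))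
    constructor
    · intro z
      constructor
      · intro hz
        have h1 := LinearMap.congr_fun (congrArg (LinearMap.lTensor p.ResidueField) hsum) z
        simp only [LinearMap.lTensor_add, LinearMap.lTensor_comp, LinearMap.lTensor_smul, LinearMap.lTensor_id,
          LinearMap.add_apply, LinearMap.comp_apply, hz, map_zero, add_zero, LinearMap.smul_apply, LinearMap.id_apply] at h1
        refine ⟨(↑hfu.unit⁻¹ : p.ResidueField) • r.lTensor p.ResidueField z, ?_⟩
        show (ι.baseChange p.ResidueField) _ = z
        rw [map_smul]
        show (↑hfu.unit⁻¹ : p.ResidueField) • ι.lTensor p.ResidueField (r.lTensor p.ResidueField z) = z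
        rw [h1, ← algebraMap_smul p.ResidueField f z, smul_smul, IsUnit.val_inv_mul, one_smul]
      · rintro ⟨y, rfl⟩
        rw [← LinearMap.comp_apply, ← LinearMap.lTensor_comp,
          show δ ∘ₗ ι = 0 from LinearMap.ext fun y => y.2]
        simp
    · refine (injective_iff_map_eq_zero _).mpr (fun y hy => ?_)
      have h1 := LinearMap.congr_fun (congrArg (LinearMap.lTensor p.ResidueField) hr) y
      simp only [LinearMap.lTensor_comp, LinearMap.lTensor_smul, LinearMap.lTensor_id,
        LinearMap.comp_apply, hy, map_zero, LinearMap.smul_apply, LinearMap.id_apply] at h1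
      rw [← algebraMap_smul p.ResidueField f y] at h1
      exact hfu.smul_eq_zero.mp h1.symm
  have hc : P → Module.Free (Localization.AtPrime p)
      (LocalizedModule p.primeCompl (F ⧸ LinearMap.range δ)) := by
    rintro ⟨f, hf, w, hw⟩
    let s : (F ⧸ LinearMap.range δ) →ₗ[A] F := (LinearMap.range δ).liftQ (f • LinearMap.id - i ∘ₗ w) (fun x hx => by
      rw [LinearMap.mem_ker]
      simp only [LinearMap.sub_apply, LinearMap.smul_apply, LinearMap.id_apply, LinearMap.comp_apply]
      have := congrArg Subtype.val (hw ⟨x, hx⟩)
      simp only [hi, Submodule.subtype_apply, SetLike.val_smul] at this ⊢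
      rw [this, sub_self])
    refine projective_localized p s (LinearMap.range δ).mkQ hf (fun c => ?_)
    obtain ⟨x, rfl⟩ := Submodule.Quotient.mk_surjective _ c
    show Submodule.Quotient.mk (f • x - i (w x)) = f • Submodule.Quotient.mk x
    rw [Submodule.Quotient.mk_sub, Submodule.Quotient.mk_smul]
    simp [hi]
  have hcP : Module.Free (Localization.AtPrime p)
      (LocalizedModule p.primeCompl (F ⧸ LinearMap.range δ)) → P := by
    intro hF
    haveI := Module.finitePresentation_of_finite A (F ⧸ LinearMap.range δ)
    let π := (LinearMap.range δ).mkQ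
    obtain ⟨s, hs⟩ := Module.projective_lifting_property (LocalizedModule.map p.primeCompl π) LinearMap.id
      (LocalizedModule.map_surjective _ π (Submodule.mkQ_surjective _))
    let g : (F ⧸ LinearMap.range δ) →ₗ[A] LocalizedModule p.primeCompl F :=
      (s.restrictScalars A) ∘ₗ LocalizedModule.mkLinearMap p.primeCompl (F ⧸ LinearMap.range δ)
    obtain ⟨h, t, ht⟩ := Module.FinitePresentation.exists_lift_of_isLocalizedModule p.primeCompl
      (LocalizedModule.mkLinearMap p.primeCompl F) g
    have h2 : LocalizedModule.mkLinearMap p.primeCompl (F ⧸ LinearMap.range δ) ∘ₗ (π ∘ₗ h) =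
        LocalizedModule.mkLinearMap p.primeCompl (F ⧸ LinearMap.range δ) ∘ₗ (t • LinearMap.id) := by
      refine LinearMap.ext fun c => ?_
      have h3 := LinearMap.congr_fun ht c
      simp only [LinearMap.comp_apply, LinearMap.smul_apply, LinearMap.id_apply] at h3 ⊢
      have h4 := congrArg (LocalizedModule.map p.primeCompl π) h3
      rw [Submonoid.smul_def, LinearMap.map_smul_of_tower] at h4
      have h5 := LinearMap.congr_fun hs (LocalizedModule.mkLinearMap p.primeCompl _ c)
      rw [Submonoid.smul_def, map_smul]
      simp only [g, LinearMap.comp_apply, LinearMap.restrictScalars_apply, LinearMap.id_apply] at h4 h5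
      rw [h5] at h4
      rw [← h4]
      simp only [LocalizedModule.mkLinearMap_apply, LocalizedModule.map_mk]
    obtain ⟨t', ht'⟩ := Module.Finite.exists_smul_of_comp_eq_of_isLocalizedModule p.primeCompl
      (LocalizedModule.mkLinearMap p.primeCompl (F ⧸ LinearMap.range δ)) (π ∘ₗ h) (t • LinearMap.id) h2
    refine ⟨(t' : A) * t, fun hmem => (‹p.IsPrime›.mem_or_mem hmem).elim t'.2 t.2,
      LinearMap.codRestrict _ (((t' : A) * t) • LinearMap.id - ((t' : A) • h) ∘ₗ π) (fun x => ?_), fun z => ?_⟩
    · rw [← Submodule.Quotient.mk_eq_zero]
      show π (((t' : A) * t) • x - (t' : A) • h (π x)) = 0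
      have h6 := LinearMap.congr_fun ht' (π x)
      simp only [LinearMap.smul_apply, LinearMap.comp_apply, Submonoid.smul_def, LinearMap.id_apply] at h6
      rw [map_sub, map_smul, map_smul, h6, mul_smul, sub_self]
    · refine Subtype.ext ?_
      show ((t' : A) * t) • (z : F) - (t' : A) • h (π (z : F)) = ((t' : A) * t) • (z : F)
      rw [show π (z : F) = 0 from (Submodule.Quotient.mk_eq_zero _).mpr z.2, map_zero, smul_zero, sub_zero]
  constructor
  · tfae_have 1 → 2 := fun h => hb (ha h)
    tfae_have 2 → 1 := fun h => h.1
    tfae_have 1 → 3 := fun h => hc (ha h)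
    tfae_have 3 → 2 := fun h => hb (hcP h)
    tfae_finish
  · intro h
    obtain ⟨f, hf, w, hw⟩ := ha h
    exact projective_localized p i w hf hw

end Groth.Agent.S14608
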