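import Groth.Statements.S14609
import Groth.Agent.FlatCx.Fib
import Mathlib
-- import your own Groth.Agent.* helpers here

set_option autoImplicit false
universe u v
open CAlg

namespace Groth.Agent.S14609


open TensorProduct Filter Groth.Agent.FlatCx in
private theorem ker_eventually_le {B K K' : Type u} [CommRing B] [IsNoetherianRing B] [AddCommGroup K] [Module B K]
    [Module.Finite B K] [AddCommGroup K'] [Module B K'] [Module.Finite B K'] [Module.Flat B K']
    (φ : K →ₗ[B] K') (y : PrimeSpectrum B) :
    ∀ᶠ z in nhds y, Module.finrank z.asIdeal.ResidueField ↥(LinearMap.ker (φ.baseChange z.asIdeal.ResidueField)) ≤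
      Module.finrank y.asIdeal.ResidueField ↥(LinearMap.ker (φ.baseChange y.asIdeal.ResidueField)) := by
  haveI := Module.finitePresentation_of_finite B K'
  have hconst := (IsLocallyConstant.iff_eventually_eq _).mp (isLocallyConstant_fib (A := B) K') y
  have key : ∀ w : PrimeSpectrum B,
      Module.finrank w.asIdeal.ResidueField ↥(LinearMap.ker (φ.baseChange w.asIdeal.ResidueField)) + fib K' w =
        fib K w + fib (K' ⧸ LinearMap.range φ) w := by
    intro w
    let q := (LinearMap.range φ).mkQ.baseChange w.asIdeal.ResidueField
    have hq : Function.Surjective q := LinearMap.lTensor_surjective _ (Submodule.mkQ_surjective _)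
    have hk : LinearMap.ker q = LinearMap.range (φ.baseChange w.asIdeal.ResidueField) := by
      ext z
      exact lTensor_exact w.asIdeal.ResidueField (LinearMap.exact_map_mkQ_range φ) (Submodule.mkQ_surjective _) z
    have h := LinearMap.finrank_range_add_finrank_ker q
    rw [LinearMap.range_eq_top.mpr hq, finrank_top, hk] at h
    have h' := LinearMap.finrank_range_add_finrank_ker (φ.baseChange w.asIdeal.ResidueField)
    unfold fib
    omega
  filter_upwards [hconst, fib_le_eventually K y, fib_le_eventually (K' ⧸ LinearMap.range φ) y] with z h1 h2 h3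
  have := key y
  have := key z
  omega

open TensorProduct in
/-- Let A be a Noetherian ring, M a finitely generated A-module, F a finitely generated free A-module
and δ : M → F an A-linear map. Then the function on Spec A sending a prime p with residue field κ(p)
to the κ(p)-dimension of the kernel of δ ⊗ κ(p) : M ⊗ κ(p) → F ⊗ κ(p) is upper semicontinuous. -/
theorem result (A : Type u) [CommRing A]
    [IsNoetherianRing A] (M : Type v) (F : Type v) [AddCommGroup M] [Module A M] [Module.Finite A M]
    [AddCommGroup F] [Module A F] [Module.Finite A F] [Module.Free A F] (δ : M →ₗ[A] F) :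
    UpperSemicontinuous (fun x : PrimeSpectrum A =>
      Module.finrank x.asIdeal.ResidueField
        (LinearMap.ker (δ.baseChange x.asIdeal.ResidueField))) := by
  obtain ⟨n, f, hf⟩ := Module.Finite.exists_fin' A M
  let e₁ : ((Fin n → A) ⧸ LinearMap.ker f) ≃ₗ[A] M := f.quotKerEquivOfSurjective hf
  let e₂ : F ≃ₗ[A] (Module.Free.ChooseBasisIndex A F → A) := (Module.Free.chooseBasis A F).equivFun
  let g := (Module.Free.chooseBasis A F).reindex (Fintype.equivFin (Module.Free.ChooseBasisIndex A F))
  let δ' : ((Fin n → A) ⧸ LinearMap.ker f) →ₗ[A] (Fin _ → A) :=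
    g.equivFun.toLinearMap ∘ₗ δ ∘ₗ e₁.toLinearMap
  have heq : ∀ x : PrimeSpectrum A,
      Module.finrank x.asIdeal.ResidueField (LinearMap.ker (δ.baseChange x.asIdeal.ResidueField)) =
      Module.finrank x.asIdeal.ResidueField (LinearMap.ker (δ'.baseChange x.asIdeal.ResidueField)) := by
    intro x
    let E₁ := e₁.baseChange A x.asIdeal.ResidueField _ _
    let E₂ := g.equivFun.baseChange A x.asIdeal.ResidueField _ _
    have h : δ'.baseChange x.asIdeal.ResidueField =
        E₂.toLinearMap ∘ₗ δ.baseChange x.asIdeal.ResidueField ∘ₗ E₁.toLinearMap := by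
      ext; simp [δ', E₁, E₂]
    refine (LinearEquiv.ofSubmodules E₁ _ _ ?_).finrank_eq.symm
    ext z
    rw [Submodule.mem_map_equiv, LinearMap.mem_ker, LinearMap.mem_ker, h]
    simp
  intro y a ha
  filter_upwards [ker_eventually_le δ' y] with z hz
  simp only [heq] at ha ⊢
  omega

end Groth.Agent.S14609
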