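import Groth.Statements.S1461
import Groth.Agent.ProperConn.Approx
import Groth.Agent.ProperConn.Integral

set_option autoImplicit false
universe u
open FlatMor

namespace Groth.Agent.S1461

open AlgebraicGeometry CategoryTheory Limits in
/-- Let f : X → S be a morphism of finite presentation between affine schemes whose fibres are
geometrically reduced. Then f is the base change of a morphism of finite type f₀ : X₀ → S₀ between
affine schemes with S₀ of finite type over ℤ, where f₀ can be chosen with the same property. -/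
theorem result {X S : Scheme.{u}} (f : X ⟶ S) [IsAffine X] [IsAffine S] [LocallyOfFinitePresentation f] [GeometricallyReduced f] :
    ∃ (X₀ S₀ : Scheme.{u}) (f₀ : X₀ ⟶ S₀) (g : S ⟶ S₀) (g' : X ⟶ X₀), IsAffine X₀ ∧ IsAffine S₀ ∧ IsPullback g' f f₀ g ∧
      Algebra.FiniteType ℤ Γ(S₀, ⊤) ∧ LocallyOfFiniteType f₀ ∧ GeometricallyReduced f₀ := by
  obtain ⟨X₀, S₀, f₀, g, g', h₁, h₂, h₃, h₄, h₅, h₆⟩ := Groth.Agent.ProperConn.exists_model_of_locus f
    (fun {_ Y} u => {y : Y | GeometricallyReduced (u.fiberToSpecResidueField y)})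
    (fun u _ _ _ => Groth.Agent.S1301.result u)
    (fun hc y' => Groth.Agent.ProperConn.geometricallyReduced_fibre_baseChange_iff hc y')
    (fun y => inferInstanceAs (GeometricallyReduced (f.fiberToSpecResidueField y)))
  exact ⟨X₀, S₀, f₀, g, g', h₁, h₂, h₃, h₄, h₅, (geometricallyReduced_iff _).2
      (geometrically_iff_forall_fiberToSpecResidueField.2 fun y => (geometricallyReduced_iff _).1 (h₆ y))⟩

end Groth.Agent.S1461
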