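import Groth.Statements.S14610
import Groth.Agent.FlatCx.Semicont
import Mathlib
-- import your own Groth.Agent.* helpers here

set_option autoImplicit false
universe u v
open CAlg

namespace Groth.Agent.S14610


open TensorProduct Filter Groth.Agent.FlatCx in
private theorem key {A K K' : Type u} [CommRing A] [IsNoetherianRing A] [IsReduced A]
    [AddCommGroup K] [Module A K] [Module.Finite A K] [AddCommGroup K'] [Module A K']
    [Module.Finite A K'] [Module.Flat A K'] (φ : K →ₗ[A] K')
    (h : IsLocallyConstant (fun x : PrimeSpectrum A =>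
      Module.finrank x.asIdeal.ResidueField (LinearMap.ker (φ.baseChange x.asIdeal.ResidueField)))) :
    Module.Flat A K ∧ Module.Flat A (K' ⧸ LinearMap.range φ) := by
  haveI := Module.finitePresentation_of_finite A K'
  have key : ∀ w : PrimeSpectrum A,
      Module.finrank w.asIdeal.ResidueField ↥(LinearMap.ker (φ.baseChange w.asIdeal.ResidueField)) + fib K' w =
        fib K w + fib (K' ⧸ LinearMap.range φ) w := by
    intro w
    let q := (LinearMap.range φ).mkQ.baseChange w.asIdeal.ResidueField
    have hq : Function.Surjective q := LinearMap.lTensor_surjective _ (Submodule.mkQ_surjective _)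
    have hk : LinearMap.ker q = LinearMap.range (φ.baseChange w.asIdeal.ResidueField) := by
      ext z
      exact lTensor_exact w.asIdeal.ResidueField (LinearMap.exact_map_mkQ_range φ) (Submodule.mkQ_surjective _) z
    have h := LinearMap.finrank_range_add_finrank_ker q
    rw [LinearMap.range_eq_top.mpr hq, finrank_top, hk] at h
    have h' := LinearMap.finrank_range_add_finrank_ker (φ.baseChange w.asIdeal.ResidueField)
    unfold fib
    omega
  have hz : ∀ z : PrimeSpectrum A, (∀ᶠ x in nhds z, fib K x = fib K z) ∧
      ∀ᶠ x in nhds z, fib (K' ⧸ LinearMap.range φ) x = fib (K' ⧸ LinearMap.range φ) z := by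
    intro z
    refine eventually_eq_of_add (fib_le_eventually K z) (fib_le_eventually (K' ⧸ LinearMap.range φ) z) ?_
    filter_upwards [(IsLocallyConstant.iff_eventually_eq _).mp (isLocallyConstant_fib (A := A) K') z,
      (IsLocallyConstant.iff_eventually_eq _).mp h z] with x h1 h2
    have := key x
    have := key z
    omega
  exact ⟨flat_of_isLocallyConstant_fib K ((IsLocallyConstant.iff_eventually_eq _).mpr fun z => (hz z).1),
    flat_of_isLocallyConstant_fib _ ((IsLocallyConstant.iff_eventually_eq _).mpr fun z => (hz z).2)⟩

open TensorProduct in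
/-- Let A be a reduced Noetherian ring, M a finitely generated A-module, F a finitely generated free
A-module and δ : M → F an A-linear map such that the function p ↦ dim_{κ(p)} ker(δ ⊗ κ(p)) is
locally constant on Spec A. Then M, ker δ and coker δ = F / im δ are projective A-modules, and for
every A-module N the natural map (ker δ) ⊗ N → M ⊗ N is injective with image equal to the kernel of
δ ⊗ N. -/
theorem result (A : Type u) [CommRing A]
    [IsNoetherianRing A] [IsReduced A] (M : Type v) (F : Type v) [AddCommGroup M] [Module A M]
    [Module.Finite A M] [AddCommGroup F] [Module A F] [Module.Finite A F] [Module.Free A F]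
    (δ : M →ₗ[A] F)
    (h : IsLocallyConstant (fun x : PrimeSpectrum A =>
      Module.finrank x.asIdeal.ResidueField
        (LinearMap.ker (δ.baseChange x.asIdeal.ResidueField)))) :
    Module.Projective A M ∧ Module.Projective A (LinearMap.ker δ) ∧
      Module.Projective A (F ⧸ LinearMap.range δ) ∧
      ∀ (N : Type v) [AddCommGroup N] [Module A N],
        Function.Injective (LinearMap.rTensor N (LinearMap.ker δ).subtype) ∧
        Function.Exact (LinearMap.rTensor N (LinearMap.ker δ).subtype) (LinearMap.rTensor N δ) := by
  classical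
  obtain ⟨n, f, hf⟩ := Module.Finite.exists_fin' A M
  let e₁ : ((Fin n → A) ⧸ LinearMap.ker f) ≃ₗ[A] M := f.quotKerEquivOfSurjective hf
  let g := (Module.Free.chooseBasis A F).reindex (Fintype.equivFin (Module.Free.ChooseBasisIndex A F))
  let δ' : ((Fin n → A) ⧸ LinearMap.ker f) →ₗ[A] (Fin _ → A) :=
    g.equivFun.toLinearMap ∘ₗ δ ∘ₗ e₁.toLinearMap
  have heq : ∀ x : PrimeSpectrum A,
      Module.finrank x.asIdeal.ResidueField (LinearMap.ker (δ.baseChange x.asIdeal.ResidueField)) =
      Module.finrank x.asIdeal.ResidueField (LinearMap.ker (δ'.baseChange x.asIdeal.ResidueField)) := by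
    intro x
    let E₁ := e₁.baseChange A x.asIdeal.ResidueField _ _
    let E₂ := g.equivFun.baseChange A x.asIdeal.ResidueField _ _
    have h : δ'.baseChange x.asIdeal.ResidueField =
        E₂.toLinearMap ∘ₗ δ.baseChange x.asIdeal.ResidueField ∘ₗ E₁.toLinearMap := by
      ext; simp [δ', E₁, E₂]
    refine (LinearEquiv.ofSubmodules E₁ _ _ ?_).finrank_eq.symm
    ext z
    rw [Submodule.mem_map_equiv, LinearMap.mem_ker, LinearMap.mem_ker, h]
    simp
  simp only [heq] at h
  obtain ⟨hK, hC⟩ := key δ' h
  have hmap : (LinearMap.range δ).map g.equivFun.toLinearMap = LinearMap.range δ' := by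
    rw [← LinearMap.range_comp]
    exact (LinearEquiv.range_comp e₁ (g.equivFun.toLinearMap ∘ₗ δ)).symm
  let eC : (F ⧸ LinearMap.range δ) ≃ₗ[A] ((Fin _ → A) ⧸ LinearMap.range δ') :=
    Submodule.Quotient.equiv _ _ g.equivFun hmap
  haveI : Module.Flat A M := Module.Flat.of_linearEquiv e₁.symm
  haveI : Module.Flat A (F ⧸ LinearMap.range δ) := Module.Flat.of_linearEquiv eC
  haveI := Module.finitePresentation_of_finite A M
  haveI := Module.finitePresentation_of_finite A (F ⧸ LinearMap.range δ)
  haveI hM : Module.Projective A M := Module.Flat.projective_of_finitePresentation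
  haveI hCp : Module.Projective A (F ⧸ LinearMap.range δ) := Module.Flat.projective_of_finitePresentation
  -- the image is a direct summand of `F`
  obtain ⟨s, hs⟩ := Module.projective_lifting_property (LinearMap.range δ).mkQ LinearMap.id (Submodule.mkQ_surjective _)
  have hs' : ∀ c, Submodule.Quotient.mk (s c) = c := fun c => LinearMap.congr_fun hs c
  let r : F →ₗ[A] LinearMap.range δ :=
    LinearMap.codRestrict _ (LinearMap.id - s ∘ₗ (LinearMap.range δ).mkQ) (fun x => by
      rw [← Submodule.Quotient.mk_eq_zero]
      simp [hs'])
  have hr : r ∘ₗ (LinearMap.range δ).subtype = LinearMap.id := by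
    ext x
    show (x : F) - s ((LinearMap.range δ).mkQ (x : F)) = x
    rw [show (LinearMap.range δ).mkQ (x : F) = 0 from (Submodule.Quotient.mk_eq_zero _).mpr x.2]
    simp
  haveI : Module.Projective A (LinearMap.range δ) := Module.Projective.of_split (LinearMap.range δ).subtype r hr
  -- the kernel is a direct summand of `M`
  obtain ⟨t, ht⟩ := Module.projective_lifting_property δ.rangeRestrict LinearMap.id δ.surjective_rangeRestrict
  have ht' : ∀ c, δ.rangeRestrict (t c) = c := fun c => LinearMap.congr_fun ht c
  let q : M →ₗ[A] LinearMap.ker δ :=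
    LinearMap.codRestrict _ (LinearMap.id - t ∘ₗ δ.rangeRestrict) (fun x => by
      have := congrArg Subtype.val (ht' (δ.rangeRestrict x))
      rw [LinearMap.mem_ker, LinearMap.sub_apply, map_sub]
      simp only [LinearMap.comp_apply, LinearMap.id_apply]
      exact sub_eq_zero.mpr this.symm)
  have hq : q ∘ₗ (LinearMap.ker δ).subtype = LinearMap.id := by
    ext x
    show (x : M) - t (δ.rangeRestrict (x : M)) = x
    rw [show δ.rangeRestrict (x : M) = 0 from Subtype.ext x.2]
    simp
  refine ⟨hM, Module.Projective.of_split (LinearMap.ker δ).subtype q hq, hCp, ?_⟩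
  intro N _ _
  refine ⟨Function.LeftInverse.injective (g := q.rTensor N) (fun z => ?_), ?_⟩
  · rw [← LinearMap.comp_apply, ← LinearMap.rTensor_comp, hq, LinearMap.rTensor_id]
    rfl
  · have hex : Function.Exact ((LinearMap.ker δ).subtype.rTensor N) (δ.rangeRestrict.rTensor N) :=
      rTensor_exact N (LinearMap.exact_iff.mpr (by
        rw [LinearMap.ker_rangeRestrict, Submodule.range_subtype])) δ.surjective_rangeRestrict
    have hinj : Function.Injective ((LinearMap.range δ).subtype.rTensor N) :=
      Function.LeftInverse.injective (g := r.rTensor N) (fun z => by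
        rw [← LinearMap.comp_apply, ← LinearMap.rTensor_comp, hr, LinearMap.rTensor_id]
        rfl)
    intro z
    have hd : δ.rTensor N z = (LinearMap.range δ).subtype.rTensor N (δ.rangeRestrict.rTensor N z) := by
      rw [← LinearMap.comp_apply, ← LinearMap.rTensor_comp]
      rfl
    rw [hd, ← hex z]
    constructor
    · intro h0
      exact hinj (h0.trans (map_zero _).symm)
    · intro h0
      rw [h0, map_zero]

end Groth.Agent.S14610
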