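import Groth.Statements.S14613
import Groth.Agent.FlatCx.More
import Groth.Agent.KFlat.Homological
import Mathlib.Algebra.Category.ModuleCat.Biproducts

set_option autoImplicit false
universe u
open FlatCx

namespace Groth.Agent.S14613

open TensorProduct in
theorem flat_prod {A : Type u} [CommRing A] (M N : Type u) [AddCommGroup M] [Module A M] [AddCommGroup N]
    [Module A N] [Module.Flat A M] [Module.Flat A N] : Module.Flat A (M × N) := by
  rw [Module.Flat.iff_rTensor_preserves_injective_linearMap]
  intro U V _ _ _ _ g hg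
  have h : (TensorProduct.prodRight A A V M N).toLinearMap ∘ₗ g.rTensor (M × N) =
      ((g.rTensor M).prodMap (g.rTensor N)) ∘ₗ (TensorProduct.prodRight A A U M N).toLinearMap := by
    ext <;> simp
  refine Function.Injective.of_comp (f := TensorProduct.prodRight A A V M N) ?_
  rw [← LinearEquiv.coe_coe, ← LinearMap.coe_comp, h, LinearMap.coe_comp, LinearMap.coe_prodMap]
  exact ((Module.Flat.rTensor_preserves_injective_linearMap g hg).prodMap
    (Module.Flat.rTensor_preserves_injective_linearMap g hg)).comp (LinearEquiv.injective _)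

open CategoryTheory CategoryTheory.Limits in
theorem acyclic_tensor {A : Type u} [CommRing A] (F : CochainComplex (ModuleCat.{u} A) ℤ)
    (hF : ∀ i, Module.Flat A (F.X i)) (hb : ∃ b : ℤ, ∀ i, b < i → IsZero (F.X i)) (hac : F.Acyclic)
    (M : ModuleCat.{u} A) :
    HomologicalComplex.Acyclic (((MonoidalCategory.tensorRight M).mapHomologicalComplex (ComplexShape.up ℤ)).obj F) := by
  have hz : ∀ p, IsZero (F.homology p) := (Groth.Agent.KFlat.acyclic_iff_isZero F).mp hac
  have hker : ∀ d, Module.Flat A (LinearMap.ker (F.d d (d + 1)).hom) := fun d => by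
    have := Groth.Agent.FlatCx.flat_cycles A F hF hb d fun p _ => hz p
    exact Module.Flat.of_linearEquiv (LinearEquiv.ofInjective (F.iCycles d).hom
      ((ModuleCat.mono_iff_injective _).mp inferInstance) ≪≫ₗ LinearEquiv.ofEq _ _
      (ShortComplex.exact_of_f_is_kernel (ShortComplex.mk _ _ (F.iCycles_d d (d + 1)))
        (F.cyclesIsKernel d (d + 1) (by simp))).moduleCat_range_eq_ker).symm
  have hex : ∀ d, Function.Exact (F.d (d - 1) d).hom (F.d d (d + 1)).hom := fun d =>
    (ShortComplex.ShortExact.moduleCat_exact_iff_function_exact _).mp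
      ((F.exactAt_iff' (d - 1) d (d + 1) (by simp) (by simp)).mp (hac d))
  intro i
  rw [HomologicalComplex.exactAt_iff' _ (i - 1) i (i + 1) (by simp) (by simp)]
  refine (ShortComplex.ShortExact.moduleCat_exact_iff_function_exact _).mpr ?_
  change Function.Exact ((F.d (i - 1) i).hom.rTensor M) ((F.d i (i + 1)).hom.rTensor M)
  obtain ⟨j, rfl⟩ : ∃ j, i = j + 1 := ⟨i - 1, by omega⟩
  rw [show j + 1 - 1 = j by omega]
  have := hF (j + 1 + 1)
  let f := (F.d (j + 1) (j + 1 + 1)).hom
  let g := (F.d (j + 1 + 1) (j + 1 + 1 + 1)).hom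
  have h2 : LinearMap.range f = LinearMap.ker g := by
    have := hex (j + 1 + 1)
    rw [show j + 1 + 1 - 1 = j + 1 by omega] at this
    exact (LinearMap.exact_iff.mp this).symm
  have h1 : LinearMap.ker f = LinearMap.range (F.d j (j + 1)).hom := by
    have := hex (j + 1)
    rw [show j + 1 - 1 = j by omega] at this
    exact LinearMap.exact_iff.mp this
  have : Module.Flat A (LinearMap.range g) := by
    have h3 : LinearMap.range g = LinearMap.ker (F.d (j + 1 + 1 + 1) (j + 1 + 1 + 1 + 1)).hom := by
      have := hex (j + 1 + 1 + 1)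
      rw [show j + 1 + 1 + 1 - 1 = j + 1 + 1 by omega] at this
      exact (LinearMap.exact_iff.mp this).symm
    rw [h3]; exact hker _
  have h := Groth.Agent.FlatCx.exact_ker_rTensor (f := f) (π := g.rangeRestrict)
    (LinearMap.exact_iff.mpr (by rw [LinearMap.ker_rangeRestrict]; exact h2.symm))
    g.surjective_rangeRestrict M
  rw [LinearMap.exact_iff] at h ⊢
  rw [h, h1]
  have e : (F.d j (j + 1)).hom = (LinearMap.range (F.d j (j + 1)).hom).subtype ∘ₗ
      (F.d j (j + 1)).hom.rangeRestrict := rfl
  conv_rhs => rw [e, LinearMap.rTensor_comp, LinearMap.range_comp,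
    LinearMap.range_eq_top.mpr (LinearMap.rTensor_surjective M (LinearMap.surjective_rangeRestrict _)),
    Submodule.map_top]

open CategoryTheory CategoryTheory.Limits in
/-- Let A be a commutative ring (not necessarily Noetherian), C and D cochain complexes of flat
A-modules that are bounded above (zero in all large degrees), φ : C → D a quasi-isomorphism and M an
arbitrary A-module. Then φ ⊗ id_M : C ⊗_A M → D ⊗_A M, the tensor product taken degreewise, is a
quasi-isomorphism. Boundedness cannot be dropped. -/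
theorem result (A : Type u) [CommRing A]
    (C D : CochainComplex (ModuleCat.{u} A) ℤ)
    (hC : ∀ i, Module.Flat A (C.X i)) (hD : ∀ i, Module.Flat A (D.X i))
    (bC : ∃ b : ℤ, ∀ i, b < i → IsZero (C.X i)) (bD : ∃ b : ℤ, ∀ i, b < i → IsZero (D.X i))
    (φ : C ⟶ D) [QuasiIso φ] (M : ModuleCat.{u} A) :
    QuasiIso (((MonoidalCategory.tensorRight M).mapHomologicalComplex (ComplexShape.up ℤ)).map φ) := by
  obtain ⟨b, hb⟩ := bC
  obtain ⟨b', hb'⟩ := bD
  let e : ∀ i, (CochainComplex.mappingCone φ).X i ≅ C.X (i + 1) ⊞ D.X i := fun i =>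
    HomologicalComplex.homotopyCofiber.XIsoBiprod φ i (i + 1) rfl
  have hF : ∀ i, Module.Flat A ((CochainComplex.mappingCone φ).X i) := fun i => by
    have := hC (i + 1)
    have := hD i
    have : Module.Flat A (↥(C.X (i + 1)) × ↥(D.X i)) := flat_prod _ _
    exact Module.Flat.of_linearEquiv (M := (↥(C.X (i + 1)) × ↥(D.X i))) (e i ≪≫ ModuleCat.biprodIsoProd _ _).toLinearEquiv
  have hbF : ∃ b : ℤ, ∀ i, b < i → IsZero ((CochainComplex.mappingCone φ).X i) :=
    ⟨max b b', fun i hi => IsZero.of_iso (biprod_isZero_iff _ _ |>.mpr ⟨hb _ (by omega), hb' _ (by omega)⟩) (e i)⟩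
  refine Groth.Agent.KFlat.quasiIso_of_acyclic_mappingCone _ ?_
  exact @Groth.Agent.KFlat.acyclic_of_quasiIso_left _ _ _ _ _
    (CochainComplex.mappingCone.mapHomologicalComplexIso φ (MonoidalCategory.tensorRight M)).hom inferInstance
    (acyclic_tensor _ hF hbF (Groth.Agent.KFlat.acyclic_mappingCone_of_quasiIso φ) M)

end Groth.Agent.S14613
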