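import Groth.Statements.S14614
import Mathlib.AlgebraicGeometry.Morphisms.FlatMono
import Mathlib.AlgebraicGeometry.Morphisms.ClosedImmersion
import Mathlib.AlgebraicGeometry.Noetherian
import Mathlib.AlgebraicGeometry.ResidueField
import Mathlib.RingTheory.Filtration
import Mathlib.RingTheory.Artinian.Module
import Mathlib.RingTheory.HopkinsLevitzki
-- import your own Groth.Agent.* helpers here

set_option autoImplicit false
universe u
open Mor

namespace Groth.Agent.S14614
set_option backward.isDefEq.respectTransparency.types false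

section
open CategoryTheory AlgebraicGeometry IsLocalRing

/-- Functions killed on `Z` die in every ring through which a thickening lifts. -/
lemma map_eq_zero_of_lift {S Z : Scheme.{u}} (i : Z ⟶ S) {z : Z} {A : CommRingCat.{u}}
    (φ : S.presheaf.stalk (i z) ⟶ A) (g' : Spec A ⟶ Z)
    (hg : g' ≫ i = Spec.map φ ≫ S.fromSpecStalk (i z))
    (hemb : Topology.IsInducing i) (a : S.presheaf.stalk (i z)) (ha : i.stalkMap z a = 0) :
    φ a = 0 := by
  obtain ⟨U, hU, s, rfl⟩ := S.presheaf.exists_germ_eq (x := i z) a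
  rw [← ConcreteCategory.comp_apply, Scheme.Hom.germ_stalkMap, ConcreteCategory.comp_apply] at ha
  obtain ⟨V, hzV, i₁, i₂, e⟩ := Z.presheaf.germ_eq z hU hU _ 0
    (ha.trans (map_zero (Z.presheaf.germ (i ⁻¹ᵁ U) z hU).hom).symm)
  obtain ⟨W, hW, hWV⟩ := hemb.isOpen_iff.mp V.isOpen
  let O : S.Opens := U ⊓ ⟨W, hW⟩
  have hzO : i z ∈ O := ⟨hU, by show z ∈ i ⁻¹' W; rw [hWV]; exact hzV⟩
  have hO : O ≤ U := inf_le_left
  have hpre : i ⁻¹ᵁ O ≤ V := fun w hw => by
    have : w ∈ i ⁻¹' W := hw.2
    rwa [hWV] at this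
  let s' : Γ(S, O) := S.presheaf.map (homOfLE hO).op s
  have h0 : i.app O s' = 0 := by
    show (S.presheaf.map (homOfLE hO).op ≫ i.app O) s = 0
    rw [Scheme.Hom.naturality, Subsingleton.elim
      ((TopologicalSpace.Opens.map i.base).map (homOfLE hO).op.unop).op
      (i₁.op ≫ (homOfLE hpre).op), Functor.map_comp]
    simp only [ConcreteCategory.comp_apply]
    rw [e, map_zero, map_zero]
  have htop : ⊤ ≤ (Spec.map φ ≫ S.fromSpecStalk (i z)) ⁻¹ᵁ O := fun w _ => by
    show S.fromSpecStalk (i z) (Spec.map φ w) ∈ O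
    have : S.fromSpecStalk (i z) (Spec.map φ w) ⤳ i z :=
      (Scheme.range_fromSpecStalk (X := S) (x := i z)).le (Set.mem_range_self _)
    exact this.mem_open O.isOpen hzO
  have htop' : ⊤ ≤ g' ⁻¹ᵁ (i ⁻¹ᵁ O) := by
    rw [← Scheme.Hom.comp_preimage, hg]; exact htop
  have h1 : (Spec.map φ ≫ S.fromSpecStalk (i z)).appLE O ⊤ htop s' = 0 := by
    have h2 : (g' ≫ i).appLE O ⊤ htop' s' = 0 := by
      rw [← Scheme.Hom.appLE_comp_appLE g' i O (i ⁻¹ᵁ O) ⊤ le_rfl htop']
      show g'.appLE (i ⁻¹ᵁ O) ⊤ htop' (i.appLE O (i ⁻¹ᵁ O) le_rfl s') = 0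
      rw [Scheme.Hom.appLE_eq_app, h0, map_zero]
    simpa only [hg] using h2
  have key : (Spec.map φ ≫ S.fromSpecStalk (i z)).appLE O ⊤ htop =
      S.presheaf.germ O (i z) hzO ≫ φ ≫ (Scheme.ΓSpecIso A).inv := by
    rw [← Scheme.Hom.appLE_comp_appLE (Spec.map φ) (S.fromSpecStalk (i z)) O ⊤ ⊤ (fun w _ => by
      have : S.fromSpecStalk (i z) w ⤳ i z :=
        (Scheme.range_fromSpecStalk (X := S) (x := i z)).le (Set.mem_range_self _)
      exact this.mem_open O.isOpen hzO) (fun w _ => trivial)]
    rw [Scheme.Hom.appLE, Scheme.fromSpecStalk_app hzO]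
    simp only [Category.assoc]
    rw [Scheme.ΓSpecIso_inv_naturality, ← Functor.map_comp_assoc, ← op_comp]
    simp [Scheme.Hom.appLE, Scheme.Hom.appTop]
  rw [key] at h1
  simp only [ConcreteCategory.comp_apply] at h1
  have h3 := (ConcreteCategory.bijective_of_isIso (Scheme.ΓSpecIso A).inv).1 (h1.trans (map_zero _).symm)
  rwa [TopCat.Presheaf.germ_res_apply] at h3

end

open CategoryTheory AlgebraicGeometry in
/-- Let S be a locally Noetherian scheme and i : Z → S a closed immersion with the following property: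
for every Artinian local ring A with residue field k and every morphism g : Spec A → S, if the
restriction Spec k → Spec A → S of g factors through i then so does g. Then i is also an open
immersion, i.e. the closed subscheme Z is open in S as a subscheme. (The published hypothesis is an
equivalence; its other direction always holds, so this row assumes only the implication.) -/
theorem result (S : Scheme.{u}) [IsLocallyNoetherian S]
    {Z : Scheme.{u}} (i : Z ⟶ S) [IsClosedImmersion i]
    (h : ∀ (A : Type u) [CommRing A] [IsArtinianRing A] [IsLocalRing A] (g : Spec (CommRingCat.of A) ⟶ S),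
      (∃ t : Spec (CommRingCat.of (IsLocalRing.ResidueField A)) ⟶ Z,
          t ≫ i = Spec.map (CommRingCat.ofHom (IsLocalRing.residue A)) ≫ g) →
        ∃ g' : Spec (CommRingCat.of A) ⟶ Z, g' ≫ i = g) :
    IsOpenImmersion i := by
  have hbij : ∀ z : Z, Function.Bijective (i.stalkMap z) := by
    intro z
    refine ⟨(injective_iff_map_eq_zero _).mpr fun a ha => ?_, i.stalkMap_surjective z⟩
    let O := S.presheaf.stalk (i z)
    let m := IsLocalRing.maximalIdeal O
    suffices a ∈ (⨅ n : ℕ, m ^ n) by
      rw [Ideal.iInf_pow_eq_bot_of_isLocalRing _ (IsLocalRing.maximalIdeal.isMaximal O).ne_top] at this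
      exact this
    refine Ideal.mem_iInf.mpr fun n => ?_
    suffices a ∈ m ^ (n + 1) from Ideal.pow_le_pow_right (Nat.le_succ n) this
    haveI : Nontrivial (O ⧸ m ^ (n + 1)) := Ideal.Quotient.nontrivial_iff.mpr
      (ne_top_of_le_ne_top (IsLocalRing.maximalIdeal.isMaximal O).ne_top
        (Ideal.pow_le_self (Nat.succ_ne_zero n)))
    let π : O →+* O ⧸ m ^ (n + 1) := Ideal.Quotient.mk _
    haveI : IsLocalRing (O ⧸ m ^ (n + 1)) := .of_surjective' π Ideal.Quotient.mk_surjective
    haveI : IsArtinianRing (O ⧸ m ^ (n + 1)) := by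
      rw [isArtinianRing_iff_isNilpotent_maximalIdeal]
      refine ⟨n + 1, ?_⟩
      have hm : IsLocalRing.maximalIdeal (O ⧸ m ^ (n + 1)) = m.map π := by
        refine (IsLocalRing.eq_maximalIdeal ?_).symm
        refine (Ideal.map_eq_top_or_isMaximal_of_surjective π Ideal.Quotient.mk_surjective
          (IsLocalRing.maximalIdeal.isMaximal O)).resolve_left fun h => ?_
        have := (Ideal.comap_map_of_surjective π Ideal.Quotient.mk_surjective m).symm.trans
          (congrArg (Ideal.comap π) h)
        rw [Ideal.comap_top, show Ideal.comap π ⊥ = m ^ (n + 1) from Ideal.mk_ker,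
          sup_eq_left.mpr (Ideal.pow_le_self (Nat.succ_ne_zero n))] at this
        exact (IsLocalRing.maximalIdeal.isMaximal O).ne_top this
      rw [hm, ← Ideal.map_pow, Ideal.map_quotient_self]
      rfl
    obtain ⟨g', hg'⟩ := h (O ⧸ m ^ (n + 1)) (Spec.map (CommRingCat.ofHom π) ≫ S.fromSpecStalk (i z)) (by
      -- the closed point lifts to `z`
      have hκ : IsIso (i.residueFieldMap z) := (ConcreteCategory.isIso_iff_bijective _).mpr
        ⟨(i.residueFieldMap z).hom.injective, fun t => by
          obtain ⟨t, rfl⟩ := IsLocalRing.residue_surjective t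
          obtain ⟨t, rfl⟩ := i.stalkMap_surjective z t
          exact ⟨IsLocalRing.residue _ t, rfl⟩⟩
      haveI : IsLocalHom π := .of_surjective π Ideal.Quotient.mk_surjective
      let ψ : S.residueField (i z) ⟶ CommRingCat.of (IsLocalRing.ResidueField (O ⧸ m ^ (n + 1))) :=
        CommRingCat.ofHom (IsLocalRing.ResidueField.map π)
      refine ⟨Spec.map (inv (i.residueFieldMap z) ≫ ψ) ≫ Z.fromSpecResidueField z, ?_⟩
      rw [Category.assoc, ← Scheme.Hom.SpecMap_residueFieldMap_fromSpecResidueField, ← Spec.map_comp_assoc,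
        ← Category.assoc (i.residueFieldMap z), IsIso.hom_inv_id, Category.id_comp,
        Scheme.fromSpecResidueField, ← Spec.map_comp_assoc, ← Spec.map_comp_assoc]
      rfl)
    exact Ideal.Quotient.eq_zero_iff_mem.mp
      (map_eq_zero_of_lift i (CommRingCat.ofHom π) g' hg' i.isEmbedding.isInducing a ha)
  haveI : Flat i := (Flat.iff_flat_stalkMap i).mpr fun z => RingHom.Flat.of_bijective (hbij z)
  haveI : LocallyOfFinitePresentation i := LocallyOfFinitePresentation.iff_locallyOfFiniteType.mpr inferInstance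
  exact IsOpenImmersion.of_flat_of_mono i

end Groth.Agent.S14614
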