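import Groth.Statements.S14615


set_option autoImplicit false
universe u
open Formal2

namespace Groth.Agent.S14615

/-- Let … → G_2 → G_1 → G_0 be an inverse system of abelian groups with transition maps t_n : G_{n+1} →
G_n, and suppose that for every i there is j ≥ i such that the composite transition map G_j → G_i is
zero; this is expressed by asking that every sequence (x_n) ∈ ∏ G_n satisfying x_n = t_n(x_{n+1})
for i ≤ n < j has x_i = 0. Then both lim G_n and lim¹ G_n vanish: the map (x_n) ↦ (x_n −
t_n(x_{n+1})) on ∏ G_n, whose kernel is lim and whose cokernel is lim¹, is injective and surjective. -/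
theorem result (G : ℕ → Type u)
    [∀ n, AddCommGroup (G n)] (t : ∀ n, G (n + 1) →+ G n)
    (h : ∀ i : ℕ, ∃ j : ℕ, i ≤ j ∧
      ∀ x : ∀ n, G n, (∀ n, i ≤ n → n < j → x n = t n (x (n + 1))) → x i = 0) :
    Formal2.limZero G t = ⊥ ∧ Function.Surjective (Formal2.towerDiff G t) := by
  have hT : ∀ i, ∃ j, i ≤ j ∧ ∀ x : ∀ n, G n, (∀ n, i ≤ n → n < j → x n = t n (x (n + 1))) → x i = 0 := h
  constructor
  · rw [eq_bot_iff]
    intro x hx
    rw [AddSubgroup.mem_bot]
    ext i
    obtain ⟨j, _, hj⟩ := h i
    exact hj x fun n _ _ => sub_eq_zero.1 (congrFun hx n)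
  · choose j hj hvan using h
    intro y
    let T : ∀ (m n : ℕ), G n := fun m => Nat.rec (motive := fun _ => ∀ n, G n) (fun _ => 0) (fun _ r n => y n + t n (r (n + 1))) m
    have hT0 : ∀ n, T 0 n = 0 := fun n => rfl
    have hTs : ∀ m n, T (m + 1) n = y n + t n (T m (n + 1)) := fun m n => rfl
    have hstab : ∀ n m, j n - n ≤ m → T (m + 1) n = T m n := by
      intro n m hm
      have := hvan n (fun k => T (m + n - k + 1) k - T (m + n - k) k) (fun k hk1 hk2 => by
        have e : m + n - k = (m + n - (k + 1)) + 1 := by omega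
        rw [e, map_sub, hTs (m + n - (k + 1) + 1) k, hTs (m + n - (k + 1)) k]
        abel)
      simpa [sub_eq_zero] using this
    have hst : ∀ n a b, j n - n ≤ a → a ≤ b → T b n = T a n := by
      intro n a b ha hab
      induction b, hab using Nat.le_induction with
      | base => rfl
      | succ b hb ih => rw [hstab n b (ha.trans hb), ih]
    refine ⟨fun n => T (j n - n) n, funext fun n => ?_⟩
    change T (j n - n) n - t n (T (j (n + 1) - (n + 1)) (n + 1)) = y n
    obtain ⟨m, hm1, hm2⟩ : ∃ m, j n - n ≤ m + 1 ∧ j (n + 1) - (n + 1) ≤ m :=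
      ⟨(j n - n) + (j (n + 1) - (n + 1)), by omega, by omega⟩
    rw [← hst n _ (m + 1) le_rfl hm1, ← hst (n + 1) _ m le_rfl hm2, hTs]
    abel

end Groth.Agent.S14615
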