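import Groth.Statements.S14617
-- import your own Groth.Agent.* helpers here

set_option autoImplicit false
universe u
open Formal2

namespace Groth.Agent.S14617

/-- Let 0 → (G'_n) → (G_n) → (G''_n) → 0 be a short exact sequence of inverse systems of abelian groups
indexed by ℕ: maps u_n : G'_n → G_n and v_n : G_n → G''_n commuting with the transition maps, with
u_n injective, v_n surjective and ker v_n = im u_n for every n. Writing lim and lim¹ for the kernel
and cokernel of (x_n) ↦ (x_n − t_n(x_{n+1})) on the product, there is an exact sequence 0 → lim G' →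
lim G → lim G'' → lim¹ G' → lim¹ G → lim¹ G'' → 0 in which the four outer maps are the ones induced
by u and v on products and the connecting map δ sends a compatible sequence (z_n) to the class of
the unique (w_n) with u_n(w_n) = y_n − t_n(y_{n+1}), for any levelwise lift (y_n) of (z_n). -/
theorem result (G' G G'' : ℕ → Type u)
    [∀ n, AddCommGroup (G' n)] [∀ n, AddCommGroup (G n)] [∀ n, AddCommGroup (G'' n)]
    (t' : ∀ n, G' (n + 1) →+ G' n) (t : ∀ n, G (n + 1) →+ G n) (t'' : ∀ n, G'' (n + 1) →+ G'' n)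
    (u : ∀ n, G' n →+ G n) (v : ∀ n, G n →+ G'' n)
    (hu : ∀ n x, t n (u (n + 1) x) = u n (t' n x)) (hv : ∀ n x, t'' n (v (n + 1) x) = v n (t n x))
    (hinj : ∀ n, Function.Injective (u n)) (hsurj : ∀ n, Function.Surjective (v n))
    (hex : ∀ n, (v n).ker = (u n).range) :
    ∃ (α : Formal2.limZero G' t' →+ Formal2.limZero G t) (β : Formal2.limZero G t →+ Formal2.limZero G'' t'')
      (δ : Formal2.limZero G'' t'' →+ Formal2.limOne G' t')
      (ε : Formal2.limOne G' t' →+ Formal2.limOne G t) (ζ : Formal2.limOne G t →+ Formal2.limOne G'' t''),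
      (∀ (x : Formal2.limZero G' t') (n : ℕ), (α x : ∀ n, G n) n = u n ((x : ∀ n, G' n) n)) ∧
      (∀ (x : Formal2.limZero G t) (n : ℕ), (β x : ∀ n, G'' n) n = v n ((x : ∀ n, G n) n)) ∧
      (∀ (z : Formal2.limZero G'' t'') (y : ∀ n, G n) (w : ∀ n, G' n),
          (∀ n, v n (y n) = (z : ∀ n, G'' n) n) → (∀ n, u n (w n) = Formal2.towerDiff G t y n) →
            δ z = (QuotientAddGroup.mk w : Formal2.limOne G' t')) ∧
      (∀ y : ∀ n, G' n, ε (QuotientAddGroup.mk y : Formal2.limOne G' t') =
          (QuotientAddGroup.mk (fun n => u n (y n)) : Formal2.limOne G t)) ∧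
      (∀ y : ∀ n, G n, ζ (QuotientAddGroup.mk y : Formal2.limOne G t) =
          (QuotientAddGroup.mk (fun n => v n (y n)) : Formal2.limOne G'' t'')) ∧
      Function.Injective α ∧ α.range = β.ker ∧ β.range = δ.ker ∧ δ.range = ε.ker ∧ ε.range = ζ.ker ∧
      Function.Surjective ζ := by
  classical
  let U : (∀ n, G' n) →+ (∀ n, G n) :=
    { toFun := fun x n => u n (x n), map_zero' := funext fun n => map_zero _,
      map_add' := fun a b => funext fun n => map_add (u n) _ _ }
  let V : (∀ n, G n) →+ (∀ n, G'' n) :=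
    { toFun := fun x n => v n (x n), map_zero' := funext fun n => map_zero _,
      map_add' := fun a b => funext fun n => map_add (v n) _ _ }
  let D' := Formal2.towerDiff G' t'
  let D := Formal2.towerDiff G t
  let D'' := Formal2.towerDiff G'' t''
  have hDU : ∀ x, D (U x) = U (D' x) := fun x => funext fun n => by
    change u n (x n) - t n (u (n + 1) (x (n + 1))) = u n (x n - t' n (x (n + 1)))
    rw [hu, map_sub]
  have hDV : ∀ x, D'' (V x) = V (D x) := fun x => funext fun n => by
    change v n (x n) - t'' n (v (n + 1) (x (n + 1))) = v n (x n - t n (x (n + 1)))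
    rw [hv, map_sub]
  have hUinj : Function.Injective U := fun a b hab => funext fun n => hinj n (congrFun hab n)
  have hVsurj : Function.Surjective V := fun z =>
    ⟨fun n => (hsurj n (z n)).choose, funext fun n => (hsurj n (z n)).choose_spec⟩
  have hUV : ∀ y, V y = 0 ↔ ∃ x, U x = y := fun y => by
    constructor
    · intro hy
      have : ∀ n, y n ∈ (u n).range := fun n => (hex n).le (congrFun hy n)
      exact ⟨fun n => (this n).choose, funext fun n => (this n).choose_spec⟩
    · rintro ⟨x, rfl⟩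
      exact funext fun n => AddMonoidHom.mem_ker.1 ((hex n).ge ⟨x n, rfl⟩)
  let mk' : (∀ n, G' n) →+ Formal2.limOne G' t' := QuotientAddGroup.mk' _
  have hpre : ∀ z : Formal2.limZero G'' t'', ∀ y, V y = (z : ∀ n, G'' n) → ∃ w, U w = D y := by
    intro z y hy
    refine (hUV _).1 ?_
    rw [← hDV, hy]
    exact z.2
  choose Y hY using fun z : Formal2.limZero G'' t'' => hVsurj (z : ∀ n, G'' n)
  choose W hW using fun z => hpre z (Y z) (hY z)
  have hwd : ∀ (z : Formal2.limZero G'' t'') y w, V y = (z : ∀ n, G'' n) → U w = D y →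
      mk' w = mk' (W z) := by
    intro z y w hy hw
    obtain ⟨x, hx⟩ := (hUV (y - Y z)).1 (by rw [map_sub, hy, hY, sub_self])
    rw [← sub_eq_zero, ← map_sub]
    refine (QuotientAddGroup.eq_zero_iff _).2 ⟨x, hUinj ?_⟩
    rw [← hDU, hx, map_sub, map_sub, hw, hW]
  let δ : Formal2.limZero G'' t'' →+ Formal2.limOne G' t' :=
    AddMonoidHom.mk' (fun z => mk' (W z)) fun a b => by
      rw [← map_add]
      refine (hwd (a + b) (Y a + Y b) (W a + W b) ?_ ?_).symm
      · rw [map_add, hY, hY]; rfl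
      · rw [map_add, map_add, hW, hW]
  let α : Formal2.limZero G' t' →+ Formal2.limZero G t :=
    (U.comp (AddSubgroup.subtype _)).codRestrict _ fun x => by
      change D (U x.1) = 0
      rw [hDU, show D' x.1 = 0 from x.2, map_zero]
  let β : Formal2.limZero G t →+ Formal2.limZero G'' t'' :=
    (V.comp (AddSubgroup.subtype _)).codRestrict _ fun x => by
      change D'' (V x.1) = 0
      rw [hDV, show D x.1 = 0 from x.2, map_zero]
  let ε : Formal2.limOne G' t' →+ Formal2.limOne G t :=
    QuotientAddGroup.map _ _ U (by rintro _ ⟨x, rfl⟩; exact ⟨U x, hDU x⟩)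
  let ζ : Formal2.limOne G t →+ Formal2.limOne G'' t'' :=
    QuotientAddGroup.map _ _ V (by rintro _ ⟨x, rfl⟩; exact ⟨V x, hDV x⟩)
  refine ⟨α, β, δ, ε, ζ, fun x n => rfl, fun x n => rfl, fun z y w hy hw => ?_,
    fun y => rfl, fun y => rfl, ?_, ?_, ?_, ?_, ?_, ?_⟩
  · exact (hwd z y w (funext hy) (funext hw)).symm
  · exact fun a b hab => Subtype.ext (hUinj (congrArg Subtype.val hab))
  · ext y
    constructor
    · rintro ⟨x, rfl⟩
      exact AddMonoidHom.mem_ker.2 (Subtype.ext ((hUV _).2 ⟨x.1, rfl⟩))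
    · intro hy
      obtain ⟨x, hx⟩ := (hUV y.1).1 (congrArg Subtype.val (AddMonoidHom.mem_ker.1 hy))
      refine ⟨⟨x, hUinj ?_⟩, Subtype.ext hx⟩
      rw [← hDU, hx, map_zero]
      exact y.2
  · ext z
    constructor
    · rintro ⟨y, rfl⟩
      refine AddMonoidHom.mem_ker.2 ?_
      refine (hwd (β y) y.1 0 rfl ?_).symm.trans (map_zero _)
      rw [map_zero]
      exact y.2.symm
    · intro hz
      obtain ⟨x, hx⟩ := (QuotientAddGroup.eq_zero_iff _).1 (AddMonoidHom.mem_ker.1 hz)
      refine ⟨⟨Y z - U x, ?_⟩, Subtype.ext ?_⟩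
      · change D (Y z - U x) = 0
        rw [map_sub, hDU, show D' x = W z from hx, hW, sub_self]
      · change V (Y z - U x) = _
        rw [map_sub, hY, (hUV _).2 ⟨x, rfl⟩, sub_zero]
  · ext c
    constructor
    · rintro ⟨z, rfl⟩
      refine AddMonoidHom.mem_ker.2 ((QuotientAddGroup.eq_zero_iff _).2 ⟨Y z, (hW z).symm⟩)
    · intro hc
      obtain ⟨w, rfl⟩ := QuotientAddGroup.mk'_surjective _ c
      obtain ⟨y, hy⟩ := (QuotientAddGroup.eq_zero_iff _).1 (AddMonoidHom.mem_ker.1 hc)
      have hz : D'' (V y) = 0 := by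
        rw [hDV, show D y = U w from hy]
        exact (hUV _).2 ⟨w, rfl⟩
      exact ⟨⟨V y, hz⟩, (hwd ⟨V y, hz⟩ y w rfl hy.symm).symm⟩
  · ext c
    constructor
    · rintro ⟨a, rfl⟩
      obtain ⟨w, rfl⟩ := QuotientAddGroup.mk'_surjective _ a
      exact AddMonoidHom.mem_ker.2 ((QuotientAddGroup.eq_zero_iff _).2
        ⟨0, by rw [map_zero, (hUV _).2 ⟨w, rfl⟩]⟩)
    · intro hc
      obtain ⟨y, rfl⟩ := QuotientAddGroup.mk'_surjective _ c
      obtain ⟨z, hz⟩ := (QuotientAddGroup.eq_zero_iff _).1 (AddMonoidHom.mem_ker.1 hc)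
      obtain ⟨y', rfl⟩ := hVsurj z
      obtain ⟨w, hw⟩ := (hUV (y - D y')).1 (by rw [map_sub, ← hDV, hz, sub_self])
      refine ⟨mk' w, ?_⟩
      change QuotientAddGroup.mk (U w) = QuotientAddGroup.mk y
      rw [hw, QuotientAddGroup.eq_iff_sub_mem]
      exact ⟨-y', by rw [map_neg, sub_sub_cancel_left]⟩
  · intro c
    obtain ⟨z, rfl⟩ := QuotientAddGroup.mk'_surjective _ c
    obtain ⟨y, rfl⟩ := hVsurj z
    exact ⟨QuotientAddGroup.mk y, rfl⟩

end Groth.Agent.S14617
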