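import Groth.Statements.S14618
import Groth.Agent.SplitMono3.Basic
-- import your own Groth.Agent.* helpers here

set_option autoImplicit false
universe u
open FlatMor

namespace Groth.Agent.S14618

open CategoryTheory CategoryTheory.Limits AlgebraicGeometry in
/-- Let f : X → S be a morphism of schemes and u : F → V a morphism of O_X-modules with F quasi-coherent
of finite type and V finite locally free. The following are equivalent: (a) u is a locally split
monomorphism, i.e. every point of X has an open neighbourhood U such that the restriction of u to U
has a left inverse; (b) for every point s of S the pullback of u to the fibre X_s = X ×_S Spec κ(s)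
is a locally split monomorphism on X_s; (c) for every point s of S the pullback of u to the
geometric fibre X ×_S Spec k̄, k̄ an algebraic closure of κ(s), is a locally split monomorphism.
Restrictions to opens and to fibres are written as module pullbacks along the corresponding
immersions/projections. (In the published statement X and S are schemes in a terminology where
schemes are separated preschemes; the proof is local on X and on S, so this row assumes no
separatedness.) -/
theorem result {X S : Scheme.{u}} (f : X ⟶ S) {F V : X.Modules} (u : F ⟶ V)
    (hF : Coh.IsQCoh F) (hFt : CohB1.IsFT F) (hV : FlatMod.IsFinLocFree V) :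
    [ ∀ x : X, ∃ U : X.Opens, x ∈ U ∧
        ∃ r : (Scheme.Modules.pullback U.ι).obj V ⟶ (Scheme.Modules.pullback U.ι).obj F,
          (Scheme.Modules.pullback U.ι).map u ≫ r = 𝟙 _,
      ∀ (s : S) (x : f.fiber s), ∃ U : (f.fiber s).Opens, x ∈ U ∧
        ∃ r : (Scheme.Modules.pullback U.ι).obj ((Scheme.Modules.pullback (f.fiberι s)).obj V) ⟶
            (Scheme.Modules.pullback U.ι).obj ((Scheme.Modules.pullback (f.fiberι s)).obj F),
          (Scheme.Modules.pullback U.ι).map ((Scheme.Modules.pullback (f.fiberι s)).map u) ≫ r = 𝟙 _,
      ∀ (s : S) (x : ↑(pullback f (Spec.map (CommRingCat.ofHom (algebraMap (S.residueField s)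
            (AlgebraicClosure (S.residueField s)))) ≫ S.fromSpecResidueField s))),
        ∃ U : Scheme.Opens _, x ∈ U ∧
        ∃ r : (Scheme.Modules.pullback U.ι).obj ((Scheme.Modules.pullback (pullback.fst f
              (Spec.map (CommRingCat.ofHom (algebraMap (S.residueField s) (AlgebraicClosure (S.residueField s)))) ≫
                S.fromSpecResidueField s))).obj V) ⟶
            (Scheme.Modules.pullback U.ι).obj ((Scheme.Modules.pullback (pullback.fst f
              (Spec.map (CommRingCat.ofHom (algebraMap (S.residueField s) (AlgebraicClosure (S.residueField s)))) ≫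
                S.fromSpecResidueField s))).obj F),
          (Scheme.Modules.pullback U.ι).map ((Scheme.Modules.pullback (pullback.fst f
              (Spec.map (CommRingCat.ofHom (algebraMap (S.residueField s) (AlgebraicClosure (S.residueField s)))) ≫
                S.fromSpecResidueField s))).map u) ≫ r = 𝟙 _ ].TFAE := by
  haveI : F.IsQuasicoherent := hF
  have fwd : ∀ {Z : Scheme.{u}} (q : Z ⟶ X) (z : Z), (∀ x, SplitMono3.SplitNear u x) →
      SplitMono3.SplitNear ((Scheme.Modules.pullback q).map u) z :=
    fun q z h => SplitMono3.splitNear_pullback q u z (h (q z))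
  have back : ∀ {Z : Scheme.{u}} (q : Z ⟶ X) (z : Z),
      SplitMono3.SplitNear ((Scheme.Modules.pullback q).map u) z → SplitMono3.SplitNear u (q z) :=
    fun q z h => SplitMono3.splitNear_of_splitAt hFt hV u _
      (SplitMono3.splitAt_of_pullback q z hFt hV u (SplitMono3.splitAt_of_near _ z h))
  tfae_have 1 → 2 := fun h s x => fwd _ x h
  tfae_have 1 → 3 := fun h s x => fwd _ x h
  tfae_have 2 → 1 := fun h x => by
    obtain ⟨z, hz⟩ : x ∈ Set.range (f.fiberι (f x)) := by rw [f.range_fiberι]; rfl
    exact hz ▸ back _ z (h (f x) z)
  tfae_have 3 → 1 := fun h x => by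
    let a := S.fromSpecResidueField (f x)
    let b := Spec.map (CommRingCat.ofHom (algebraMap (S.residueField (f x))
      (AlgebraicClosure (S.residueField (f x)))))
    let t := IsLocalRing.closedPoint (AlgebraicClosure (S.residueField (f x)))
    obtain ⟨z, hz, -⟩ := Scheme.Pullback.exists_preimage_pullback (f := f) (g := b ≫ a) x t
      (show f x = (b ≫ a) t by rw [Scheme.Hom.comp_apply, Scheme.fromSpecResidueField_apply])
    exact hz ▸ back _ z (h (f x) z)
  tfae_finish

end Groth.Agent.S14618
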