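import Groth.Statements.S14619
import Groth.Agent.CBC.FinThms
import Groth.Agent.S0002

set_option autoImplicit false
universe u
open Coherent

namespace Groth.Agent.S14619

open CategoryTheory CategoryTheory.Limits AlgebraicGeometry in
/-- Let A be a Noetherian ring, X a proper scheme over Spec A and F a coherent O_X-module flat over Spec
A. Suppose H^p(X, F) = 0 for all p > d and H^p(X_y, F|X_y) = 0 for every point y of Spec A and every
p < d'. Then there is a cochain complex L of finitely generated projective A-modules, with L^i = 0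
unless d' ≤ i ≤ d and with L = 0 when all H^p(X, F) vanish, such that for every A-algebra B and
every p the cohomology H^p(X ×_A Spec B, ξ^*F) of the pulled-back module is isomorphic to H^p(L ⊗_A
B). Only the existence of these isomorphisms of abelian groups is asserted (no naturality in B). -/
theorem result (A : Type u) [CommRing A] [IsNoetherianRing A] (X : Scheme.{u}) [X.Over (Spec (CommRingCat.of A))]
    [IsProper (X ↘ Spec (CommRingCat.of A))] (F : X.Modules) (hF : Coh.IsCoh F)
    (hfl : FlatMod.IsFlatOver (X ↘ Spec (CommRingCat.of A)) F) (d' d : ℕ)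
    (hd : ∀ p : ℕ, d < p → Subsingleton (Coh.HH X F p))
    (hd' : ∀ (y : ↑(Spec (CommRingCat.of A))) (p : ℕ), p < d' →
      Subsingleton (CohIII.fiberH (X ↘ Spec (CommRingCat.of A)) F y p)) :
    ∃ L : CochainComplex (ModuleCat.{u} A) ℤ,
      (∀ i, Module.Finite A (L.X i) ∧ Module.Projective A (L.X i)) ∧
      (∀ i : ℤ, i < (d' : ℤ) ∨ (d : ℤ) < i → IsZero (L.X i)) ∧
      ((∀ p : ℕ, Subsingleton (Coh.HH X F p)) → ∀ i, IsZero (L.X i)) ∧
      ∀ (B : Type u) [CommRing B] [Algebra A B] (p : ℕ),
        Nonempty (Coh.HH (pullback (X ↘ Spec (CommRingCat.of A)) (Spec.map (CommRingCat.ofHom (algebraMap A B))))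
            ((Scheme.Modules.pullback (pullback.fst (X ↘ Spec (CommRingCat.of A))
              (Spec.map (CommRingCat.ofHom (algebraMap A B))))).obj F) p ≃+
          CohIII.T L (p : ℤ) (ModuleCat.of A B)) := by
  haveI : F.IsQuasicoherent := hF.1
  obtain ⟨D, hw⟩ := Groth.Agent.CBC.exists_model_win hF hfl
    (fun A _ _ Z _ _ M hM n => Groth.Agent.S0002.result A Z M hM n)
    (isAffineOpen_top (Spec (CommRingCat.of A)))
  let R := Groth.Agent.CBC.Rep.ofModel F D (Groth.Agent.CBC.flat_KA F D hfl)
  obtain ⟨L, hP, -, ⟨c, hc⟩, hH⟩ := R.K.exists_finCx R.flat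
    (fun n => have := Groth.Agent.S0002.result A X F hF n; Module.Finite.equiv (R.e₀ n).symm) R.van
  have hflat : ∀ n, Module.Flat A (L.X n) := fun n => by
    have := (hP n).2
    exact Module.Flat.of_projective
  have hHA : ∀ n, Subsingleton (Coh.HH X F n) → Subsingleton (L.H A n) := fun n h => by
    haveI : Subsingleton (R.K.H₀ n) := (R.e₀ n).toEquiv.subsingleton
    haveI : Subsingleton (R.K.H A n) := (R.K.hA n).toEquiv.subsingleton
    exact (hH A n).some.toEquiv.subsingleton
  have hlo : ∀ (M : Type u) [AddCommGroup M] [Module A M] (n : ℕ), n < d' →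
      Subsingleton (L.H M n) := fun M _ _ n hn => by
    obtain ⟨w⟩ := hw n
    haveI : Subsingleton (R.K.H M n) :=
      Groth.Agent.CBC.subsingleton_H_of_fibres D F w (fun y => hd' y n hn) M
    exact (hH M n).some.toEquiv.subsingleton
  obtain ⟨a, b, ha, hb, hab, hlo', hhi'⟩ : ∃ a b : ℕ, d' ≤ a ∧ b ≤ d ∧
      ((∀ p : ℕ, Subsingleton (Coh.HH X F p)) → b < a) ∧
      (∀ (M : Type u) [AddCommGroup M] [Module A M] (n : ℕ), n < a → Subsingleton (L.H M n)) ∧
      ∀ (M : Type u) [AddCommGroup M] [Module A M] (n : ℕ), b < n → Subsingleton (L.H M n) := by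
    have hhi := fun k (h : ∀ p, k ≤ p → Subsingleton (Coh.HH X F p)) =>
      fun (M : Type u) [AddCommGroup M] [Module A M] (n : ℕ) (hn : k ≤ n) =>
        Groth.Agent.CBC.SCx.van_above hflat k hc (fun p hp => hHA p (h p hp)) M n hn
    by_cases hall : ∀ p : ℕ, Subsingleton (Coh.HH X F p)
    · exact ⟨max d' (d + 1), d, le_max_left _ _, le_rfl, fun _ => by omega,
        fun M _ _ n _ => hhi 0 (fun p _ => hall p) M n n.zero_le,
        fun M _ _ n _ => hhi 0 (fun p _ => hall p) M n n.zero_le⟩
    · exact ⟨d', d, le_rfl, le_rfl, fun h => absurd h hall, hlo,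
        fun M _ _ n hn => hhi (d + 1) (fun p hp => hd p hp) M n hn⟩
  obtain ⟨L', hP', hzero, hH'⟩ :=
    Groth.Agent.CBC.SCx.exists_amplitude (fun n => (hP n).1) hflat a b hlo' hhi'
  let Z : ModuleCat.{u} A := ModuleCat.of A PUnit.{u + 1}
  have hZ : IsZero Z := @ModuleCat.isZero_of_subsingleton _ _ Z inferInstance
  refine ⟨Groth.Agent.CBC.zCx (ModuleCat.of A (L'.X 0)) L' LinearMap.id (fun _ => Z) (fun _ => 0) 0
    (fun _ => Limits.zero_comp) Limits.zero_comp ?_, ?_, ?_, ?_, fun B _ _ p => ⟨?_⟩⟩
  · rw [ModuleCat.hom_zero, LinearMap.range_zero, LinearMap.ker_id]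
  · rintro ((_ | n) | n)
    · exact hP' 0
    · exact hP' (n + 1)
    · exact ⟨inferInstanceAs (Module.Finite A PUnit.{u + 1}), inferInstanceAs (Module.Projective A PUnit.{u + 1})⟩
  · rintro ((_ | n) | n) hi
    · haveI := hzero 0 (by simp at hi; omega)
      exact @ModuleCat.isZero_of_subsingleton _ _ (ModuleCat.of A (L'.X 0)) ‹_›
    · haveI := hzero (n + 1) (by simp at hi; omega)
      exact @ModuleCat.isZero_of_subsingleton _ _ (ModuleCat.of A (L'.X (n + 1))) ‹_›
    · exact hZ
  · intro hall
    have hba := hab hall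
    rintro ((_ | n) | n)
    · haveI := hzero 0 (by omega)
      exact @ModuleCat.isZero_of_subsingleton _ _ (ModuleCat.of A (L'.X 0)) ‹_›
    · haveI := hzero (n + 1) (by omega)
      exact @ModuleCat.isZero_of_subsingleton _ _ (ModuleCat.of A (L'.X (n + 1))) ‹_›
    · exact hZ
  · exact (Groth.Agent.CBC.nonempty_HH_pullback D F B p).some.symm.trans
      (((hH B p).some.symm.trans (hH' B p).some.symm).toAddEquiv.trans
        (Groth.Agent.CBC.zCxT (ModuleCat.of A (L'.X 0)) L' LinearMap.id _ _ _ _ _ _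
          Function.surjective_id B p).symm.toAddEquiv)

end Groth.Agent.S14619
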