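import Groth.Statements.S14621
import Groth.Agent.SiteCoh.CovColim
import Mathlib.CategoryTheory.Limits.Constructions.Over.Basic

set_option autoImplicit false
open CategoryTheory CategoryTheory.Limits
universe u
open CohSite

namespace Groth.Agent.S14621

/-- Let C be a small category with pullbacks and J a Grothendieck topology on C in which every object is
quasi-compact in the site sense (every covering sieve contains finitely many morphisms which already
generate a covering sieve). Then for every small filtered category I the inclusion of sheaves of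
sets on (C, J) into presheaves preserves colimits of shape I: filtered colimits of sheaves are
computed objectwise. (Only sheaves of sets are stated; the same holds for sheaves of abelian groups
or modules. All pullbacks in C are assumed.) -/
theorem result {C : Type u} [SmallCategory C]
    [HasPullbacks C] (J : GrothendieckTopology C) (hJ : ∀ U : C, ToposFin.IsQCSite J U)
    (I : Type u) [SmallCategory I] [IsFiltered I] :
    PreservesColimitsOfShape I (sheafToPresheaf J (Type u)) := by
  let Cov : ∀ (U : C) (ι : Type u), (ι → Over U) → Prop := fun U ι Y =>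
    Finite ι ∧ Sieve.ofArrows (fun i => (Y i).left) (fun i => (Y i).hom) ∈ J U
  have h1 : ∀ (U : C) (ι : Type u) (Y : ι → Over U), Cov U ι Y → Finite ι ∧ U ∈ (Set.univ : Set C) ∧
      Sieve.ofArrows (fun i => (Y i).left) (fun i => (Y i).hom) ∈ J U ∧
      ∀ (p : ℕ) (a : Fin (p + 1) → ι), (∏ᶜ fun k => Y (a k)).left ∈ (Set.univ : Set C) :=
    fun U ι Y h => ⟨h.1, trivial, h.2, fun _ _ => trivial⟩
  have h2 : ∀ U ∈ (Set.univ : Set C), ∀ T ∈ J U, ∃ (ι : Type u) (Y : ι → Over U),
      Cov U ι Y ∧ ∀ i, T.arrows (Y i).hom := fun U _ T hT => by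
    obtain ⟨n, V, g, hg, hgen⟩ := hJ U T hT
    refine ⟨ULift.{u} (Fin n), fun k => Over.mk (g k.down), ⟨inferInstance, J.superset_covering ?_ hgen⟩,
      fun k => hg k.down⟩
    rw [Sieve.ofArrows, Sieve.generate_le_iff]
    rintro W f ⟨i⟩
    exact Sieve.ofArrows_mk _ _ (ULift.up i)
  refine ⟨fun {D} => ?_⟩
  suffices IsIso (colimit.post D (sheafToPresheaf J (Type u))) from preservesColimit_of_isIso_post _ _
  rw [NatTrans.isIso_iff_isIso_app]
  rintro ⟨U⟩
  rw [isIso_iff_bijective]
  have hι : ∀ (i : I) (x : (D.obj i).obj.obj (Opposite.op U)),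
      (colimit.post D (sheafToPresheaf J (Type u))).app (Opposite.op U)
        ((colimit.ι (D ⋙ sheafToPresheaf J (Type u)) i).app (Opposite.op U) x) =
      Topos.Gen.homEquiv J ((Topos.Gen.homEquiv J).symm x ≫ colimit.ι D i) := fun i x => by
    rw [Topos.Gen.homEquiv_comp, Equiv.apply_symm_apply, ← ConcreteCategory.comp_apply, ← NatTrans.comp_app,
      colimit.ι_post]
    rfl
  have hjs : ∀ z, ∃ (i : I) (x : (D.obj i).obj.obj (Opposite.op U)),
      (colimit.ι (D ⋙ sheafToPresheaf J (Type u)) i).app (Opposite.op U) x = z := fun z =>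
    Types.jointly_surjective _ (isColimitOfPreserves ((evaluation Cᵒᵖ (Type u)).obj (Opposite.op U))
      (colimit.isColimit (D ⋙ sheafToPresheaf J (Type u)))) z
  have hg : Groth.Agent.SiteCoh.SheafColim.Good (ToposFin.eps J U) :=
    Groth.Agent.SiteCoh.CovColim.good_eps (Set.univ : Set C) Cov h1 h2 trivial
  have hq : ToposFin.IsQC (ToposFin.eps J U) :=
    Groth.Agent.SiteCoh.CovColim.isQC_eps (Set.univ : Set C) Cov h1 h2 trivial
  refine ⟨fun z z' h => ?_, fun y => ?_⟩
  · obtain ⟨i, x, rfl⟩ := hjs z
    obtain ⟨i', x', rfl⟩ := hjs z'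
    rw [hι, hι] at h
    have h' := (Topos.Gen.homEquiv J).injective h
    let k := IsFiltered.max i i'
    obtain ⟨m, φ, hm⟩ := Groth.Agent.TopFin.Colim.exists_eq_stage hq D
      ((Topos.Gen.homEquiv J).symm x ≫ D.map (IsFiltered.leftToMax i i'))
      ((Topos.Gen.homEquiv J).symm x' ≫ D.map (IsFiltered.rightToMax i i'))
      (by rw [Category.assoc, Category.assoc, colimit.w, colimit.w]; exact h')
    have hw : ∀ (a : I) (ψ : a ⟶ m) (w : (D.obj a).obj.obj (Opposite.op U)),
        (colimit.ι (D ⋙ sheafToPresheaf J (Type u)) a).app (Opposite.op U) w =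
        (colimit.ι (D ⋙ sheafToPresheaf J (Type u)) m).app (Opposite.op U)
          (Topos.Gen.homEquiv J ((Topos.Gen.homEquiv J).symm w ≫ D.map ψ)) := fun a ψ w => by
      rw [← colimit.w (D ⋙ sheafToPresheaf J (Type u)) ψ, Topos.Gen.homEquiv_comp, Equiv.apply_symm_apply]
      rfl
    rw [hw i (IsFiltered.leftToMax i i' ≫ φ), hw i' (IsFiltered.rightToMax i i' ≫ φ), Functor.map_comp,
      Functor.map_comp, ← Category.assoc, ← Category.assoc, hm]
  · obtain ⟨i, a, ha⟩ := Groth.Agent.SiteCoh.SheafColim.exists_hom_stage hg D ((Topos.Gen.homEquiv J).symm y)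
    refine ⟨(colimit.ι (D ⋙ sheafToPresheaf J (Type u)) i).app (Opposite.op U) (Topos.Gen.homEquiv J a), ?_⟩
    rw [hι, Equiv.symm_apply_apply, ha, Equiv.apply_symm_apply]

end Groth.Agent.S14621
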