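import Groth.Statements.S14623
import Mathlib.Algebra.Homology.DerivedCategory.RightDerivedFunctorPlus
import Mathlib.CategoryTheory.Functor.Derived.Adjunction
import Mathlib.CategoryTheory.Functor.Derived.PointwiseLeftDerived
-- import your own Groth.Agent.* helpers here

set_option autoImplicit false
open CategoryTheory CategoryTheory.Limits
universe w v u
open CohDer

namespace Groth.Agent.S14623

open HomotopyCategory in
lemma plus_hom_ext {A : Type u} [Category.{v} A] [Abelian A] {X Y : HomotopyCategory.Plus A}
    {f g : X ⟶ Y} (h : f.hom = g.hom) : f = g := ObjectProperty.hom_ext _ h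

section

variable {A B : Type u} [Category.{v} A] [Category.{v} B] [Abelian A] [Abelian B]
  {L : A ⥤ B} {R : B ⥤ A} (adj : L ⊣ R) [L.Additive] [R.Additive]

/-- adjunction on bounded below homotopy categories -/
noncomputable def adjPlus : L.mapHomotopyCategoryPlus ⊣ R.mapHomotopyCategoryPlus :=
  Adjunction.mkOfUnitCounit
    { unit :=
        { app := fun X => ObjectProperty.homMk ((HomotopyCategory.quotient A (ComplexShape.up ℤ)).map
            (Y := (R.mapHomologicalComplex (ComplexShape.up ℤ)).obj
              ((L.mapHomologicalComplex (ComplexShape.up ℤ)).obj X.obj.as))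
            { f := fun n => adj.unit.app (X.obj.as.X n)
              comm' := fun i j _ => (adj.unit.naturality (X.obj.as.d i j)).symm })
          naturality := by
            intro X Y f
            obtain ⟨g, hg⟩ := (HomotopyCategory.quotient A (ComplexShape.up ℤ)).map_surjective
              (show (HomotopyCategory.quotient A (ComplexShape.up ℤ)).obj X.obj.as ⟶
                (HomotopyCategory.quotient A (ComplexShape.up ℤ)).obj Y.obj.as from f.hom)
            apply plus_hom_ext
            show f.hom ≫ _ = _ ≫ (R.mapHomotopyCategory _).map ((L.mapHomotopyCategory _).map f.hom)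
            rw [show f.hom = (HomotopyCategory.quotient A (ComplexShape.up ℤ)).map g from hg.symm]
            refine ((Functor.map_comp (HomotopyCategory.quotient A (ComplexShape.up ℤ)) _ _).symm.trans
              (congrArg (HomotopyCategory.quotient A (ComplexShape.up ℤ)).map ?_)).trans
              (Functor.map_comp (HomotopyCategory.quotient A (ComplexShape.up ℤ)) _ _)
            ext n
            exact adj.unit.naturality (g.f n) }
      counit :=
        { app := fun X => ObjectProperty.homMk ((HomotopyCategory.quotient B (ComplexShape.up ℤ)).map
            (X := (L.mapHomologicalComplex (ComplexShape.up ℤ)).obj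
              ((R.mapHomologicalComplex (ComplexShape.up ℤ)).obj X.obj.as))
            { f := fun n => adj.counit.app (X.obj.as.X n)
              comm' := fun i j _ => (adj.counit.naturality (X.obj.as.d i j)).symm })
          naturality := by
            intro X Y f
            obtain ⟨g, hg⟩ := (HomotopyCategory.quotient B (ComplexShape.up ℤ)).map_surjective
              (show (HomotopyCategory.quotient B (ComplexShape.up ℤ)).obj X.obj.as ⟶
                (HomotopyCategory.quotient B (ComplexShape.up ℤ)).obj Y.obj.as from f.hom)
            apply plus_hom_ext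
            show (L.mapHomotopyCategory _).map ((R.mapHomotopyCategory _).map f.hom) ≫ _ = _ ≫ f.hom
            rw [show f.hom = (HomotopyCategory.quotient B (ComplexShape.up ℤ)).map g from hg.symm]
            refine ((Functor.map_comp (HomotopyCategory.quotient B (ComplexShape.up ℤ)) _ _).symm.trans
              (congrArg (HomotopyCategory.quotient B (ComplexShape.up ℤ)).map ?_)).trans
              (Functor.map_comp (HomotopyCategory.quotient B (ComplexShape.up ℤ)) _ _)
            ext n
            exact adj.counit.naturality (g.f n) }
      left_triangle := by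
        ext X
        dsimp
        erw [Category.id_comp]
        refine ((Functor.map_comp (HomotopyCategory.quotient B (ComplexShape.up ℤ)) _ _).symm.trans
          (congrArg _ ?_)).trans (CategoryTheory.Functor.map_id _ _)
        ext n
        exact adj.left_triangle_components (X.obj.as.X n)
      right_triangle := by
        ext X
        dsimp
        erw [Category.id_comp]
        refine ((Functor.map_comp (HomotopyCategory.quotient A (ComplexShape.up ℤ)) _ _).symm.trans
          (congrArg _ ?_)).trans (CategoryTheory.Functor.map_id _ _)
        ext n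
        exact adj.right_triangle_components (X.obj.as.X n) }

lemma inverts [HasDerivedCategory.{w} B] [PreservesFiniteLimits L] [PreservesFiniteColimits L] :
    (HomotopyCategory.Plus.quasiIso A).IsInvertedBy
      (L.mapHomotopyCategoryPlus ⋙ (DerivedCategory.Plus.Qh : _ ⥤ DerivedCategory.Plus B)) := by
  intro X Y f hf
  obtain ⟨g, hg⟩ := (HomotopyCategory.quotient A (ComplexShape.up ℤ)).map_surjective
    (show (HomotopyCategory.quotient A (ComplexShape.up ℤ)).obj X.obj.as ⟶
      (HomotopyCategory.quotient A (ComplexShape.up ℤ)).obj Y.obj.as from f.hom)
  have hg' : HomotopyCategory.quasiIso A (ComplexShape.up ℤ)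
      ((HomotopyCategory.quotient A (ComplexShape.up ℤ)).map g) := by
    rw [hg]; exact hf
  rw [HomotopyCategory.quotient_map_mem_quasiIso_iff, HomologicalComplex.mem_quasiIso_iff] at hg'
  have : QuasiIso g := hg'
  have : L.PreservesHomology := inferInstance
  have : QuasiIso ((L.mapHomologicalComplex (ComplexShape.up ℤ)).map g) :=
    HomologicalComplex.quasiIso_map_of_preservesHomology g L
  have h1 : IsIso (DerivedCategory.Qh.map ((HomotopyCategory.quotient B (ComplexShape.up ℤ)).map
      ((L.mapHomologicalComplex (ComplexShape.up ℤ)).map g))) :=
    (NatIso.isIso_map_iff (DerivedCategory.quotientCompQhIso B) _).2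
      ((DerivedCategory.isIso_Q_map_iff_quasiIso _ _).2 ‹_›)
  have e : DerivedCategory.Plus.ι.map ((L.mapHomotopyCategoryPlus ⋙ DerivedCategory.Plus.Qh).map f) =
      DerivedCategory.Qh.map ((HomotopyCategory.quotient B (ComplexShape.up ℤ)).map
        ((L.mapHomologicalComplex (ComplexShape.up ℤ)).map g)) := by
    show DerivedCategory.Qh.map ((L.mapHomotopyCategory _).map f.hom) = _
    rw [show f.hom = (HomotopyCategory.quotient A (ComplexShape.up ℤ)).map g from hg.symm]
    rfl
  have : IsIso (DerivedCategory.Plus.ι.map
      ((L.mapHomotopyCategoryPlus ⋙ DerivedCategory.Plus.Qh).map f)) := by rw [e]; exact h1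
  exact isIso_of_fully_faithful DerivedCategory.Plus.ι _

end


/-- Let A and B be abelian categories with enough injectives, L : A ⥤ B an exact additive functor and R
: B ⥤ A an additive right adjoint of L. Then on bounded below derived categories the functor induced
by L (written as its total right derived functor, L being exact) is left adjoint to the right
derived functor of R; the existence of an adjunction is asserted. -/
theorem result {A B : Type u} [Category.{v} A] [Category.{v} B]
    [Abelian A] [Abelian B] [HasDerivedCategory.{w} A] [HasDerivedCategory.{w} B]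
    [EnoughInjectives A] [EnoughInjectives B] {L : A ⥤ B} {R : B ⥤ A} (adj : L ⊣ R)
    [L.Additive] [R.Additive] [PreservesFiniteLimits L] [PreservesFiniteColimits L] :
    Nonempty (L.rightDerivedFunctorPlus ⊣ R.rightDerivedFunctorPlus) := by
  let Q₁ : HomotopyCategory.Plus A ⥤ DerivedCategory.Plus A := DerivedCategory.Plus.Qh
  let Q₂ : HomotopyCategory.Plus B ⥤ DerivedCategory.Plus B := DerivedCategory.Plus.Qh
  have hu : IsIso L.rightDerivedFunctorPlusUnit :=
    Functor.isIso_of_isRightDerivedFunctor_of_inverts _ _ (inverts (L := L))
  let α := inv L.rightDerivedFunctorPlusUnit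
  have hα : L.rightDerivedFunctorPlus.IsLeftDerivedFunctor α (HomotopyCategory.Plus.quasiIso A) :=
    Functor.isLeftDerivedFunctor_of_inverts _ _ (asIso L.rightDerivedFunctorPlusUnit).symm
  have hα' : (L.rightDerivedFunctorPlus ⋙ R.rightDerivedFunctorPlus).IsLeftDerivedFunctor
      ((Functor.associator _ _ _).inv ≫ Functor.whiskerRight α R.rightDerivedFunctorPlus)
      (HomotopyCategory.Plus.quasiIso A) :=
    Functor.isLeftDerivedFunctor_of_inverts _ _ ((Functor.associator _ _ _).symm ≪≫
      Functor.isoWhiskerRight (asIso L.rightDerivedFunctorPlusUnit).symm R.rightDerivedFunctorPlus)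
  let G' := L.rightDerivedFunctorPlus
  let β := R.rightDerivedFunctorPlusUnit
  have hR : (HomotopyCategory.Plus.localizerMorphism B).Derives
      ((R.mapHomotopyCategoryPlus ⋙ Q₁) ⋙ G') := fun _ _ f hf => by
    have : IsIso f := hf
    infer_instance
  have hβ : (R.rightDerivedFunctorPlus ⋙ G').IsRightDerivedFunctor
      (Functor.whiskerRight β G' ≫ (Functor.associator _ _ _).hom) (HomotopyCategory.Plus.quasiIso B) :=
    hR.isRightDerivedFunctor_of_isIso (L₂ := Q₂) _ (fun Y => by
      have : IsIso (β.app ((InjectiveObject.ι B).mapHomotopyCategoryPlus.obj Y)) := inferInstance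
      rw [NatTrans.comp_app, Functor.whiskerRight_app]
      infer_instance)
  exact ⟨Adjunction.derived (adjPlus adj) (HomotopyCategory.Plus.quasiIso A)
    (HomotopyCategory.Plus.quasiIso B) α β⟩

end Groth.Agent.S14623
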