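import Groth.Statements.S14628
import Groth.Agent.EtaleSite.CechSect
import Mathlib.CategoryTheory.Sites.EpiMono


set_option autoImplicit false
open CategoryTheory CategoryTheory.Limits AlgebraicGeometry
universe u
open EtBase

namespace Groth.Agent.S14628

/-- On the small étale site of a scheme, let 0 → F' → F → F'' → 0 be a short exact sequence of abelian
étale sheaves on a scheme X. If F' and F are flasque in the Čech sense (for every étale U over X and
every jointly surjective family of étale U-schemes, Čech cohomology in positive degrees vanishes),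
then so is F''. The finite products of the over categories (the fibre products entering the Čech
complexes) are carried as instance hypotheses. -/
theorem result {X : Scheme.{u}}
    [∀ U : X.Etale, HasFiniteProducts (Over U)] (S : ShortComplex (EtCoh.Ab X)) (hS : S.ShortExact)
    (h1 : (∀ (U : X.Etale) (ι : Type (u + 1)) (Uf : ι → Over U),
      (∀ x : ↥(U.left), ∃ (i : ι) (y : ↥((Uf i).left.left)), (Uf i).hom.left.base y = x) →
      ∀ p : ℕ, 0 < p → IsZero (EtCech.cechH Uf S.X₁.obj p)))
    (h2 : (∀ (U : X.Etale) (ι : Type (u + 1)) (Uf : ι → Over U),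
      (∀ x : ↥(U.left), ∃ (i : ι) (y : ↥((Uf i).left.left)), (Uf i).hom.left.base y = x) →
      ∀ p : ℕ, 0 < p → IsZero (EtCech.cechH Uf S.X₂.obj p)))
    (U : X.Etale) (ι : Type (u + 1)) (Uf : ι → Over U)
    (hU : ∀ x : ↥(U.left), ∃ (i : ι) (y : ↥((Uf i).left.left)), (Uf i).hom.left.base y = x)
    (p : ℕ) (hp : 0 < p) :
    IsZero (EtCech.cechH Uf S.X₃.obj p) := by
  let T := S.map (sheafToPresheaf X.smallEtaleTopology AddCommGrpCat.{u + 1})
  have := hS.mono_f
  have := hS.epi_g
  have hloc : Presheaf.IsLocallySurjective X.smallEtaleTopology T.g :=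
    (Sheaf.isLocallySurjective_iff_epi' AddCommGrpCat.{u + 1} S.g).2 inferInstance
  have hmono : Mono T.f := (sheafToPresheaf X.smallEtaleTopology AddCommGrpCat.{u + 1}).map_mono S.f
  have hexT : T.Exact := hS.exact.map_of_mono_of_preservesKernel _ hS.mono_f inferInstance
  have hinj : ∀ W, Function.Injective (T.f.app W) := fun W =>
    (AddCommGrpCat.mono_iff_injective _).1 (((evaluation _ AddCommGrpCat.{u + 1}).obj W).map_mono T.f)
  have hex : ∀ (W) (x : T.X₂.obj W), T.g.app W x = 0 → ∃ y, T.f.app W y = x := fun W x hx =>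
    (ShortComplex.ab_exact_iff _).1
      (hexT.map_of_mono_of_preservesKernel ((evaluation _ AddCommGrpCat.{u + 1}).obj W) hmono
        inferInstance) x hx
  have hsur : ∀ V : X.Etale, Function.Surjective (T.g.app (Opposite.op V)) := fun V => by
    have hjs : ∀ R ∈ X.smallEtaleTopology V, ∀ v : ↥(V.left),
        ∃ (i : Σ W : X.Etale, {g : W ⟶ V // R.arrows g}) (y : ↥(i.1.left)), i.2.1.left.base y = v := by
      intro R hR v
      have e : X.smallEtaleTopology = (X.smallPretopology (P := EtCoh.etaleMP) (Q := EtCoh.etaleMP)).toGrothendieck :=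
        Scheme.smallGrothendieckTopology_eq_toGrothendieck_smallPretopology X le_rfl
      obtain ⟨W, g, w, hg, -, hw⟩ := (Scheme.mem_toGrothendieck_smallPretopology V R).1 (e ▸ hR) v
      exact ⟨⟨W, g, hg⟩, w, hw⟩
    have hH : ∀ R ∈ X.smallEtaleTopology V,
        IsZero (EtCech.cechH (EtaleSite.CechPre.sieveFam.{u, u + 1} R) T.X₁ 1) := fun R hR =>
      h1 V (Σ W : X.Etale, {g : W ⟶ V // R.arrows g}) (EtaleSite.CechPre.sieveFam.{u, u + 1} R) (hjs R hR) 1 one_pos
    exact EtaleSite.CechPre.surjective_sections.{u, u + 1} (C := X.Etale) (U := V)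
      (J := X.smallEtaleTopology) T S.X₂.property S.X₃.property hinj hex
      (fun s => hloc.imageSieve_mem s) hH
  have hT : T.ShortExact :=
    { exact := hexT
      mono_f := hmono
      epi_g := by
        have : ∀ W, Epi (T.g.app W) := fun W =>
          (AddCommGrpCat.epi_iff_surjective _).2 (hsur W.unop)
        exact NatTrans.epi_of_epi_app T.g }
  exact ((EtaleSite.CechPre.cechDelta Uf).exact₃ T hT p (p + 1) rfl).isZero_of_both_zeros
    ((h2 U ι Uf hU p hp).eq_of_src _ _) ((h1 U ι Uf hU (p + 1) (by omega)).eq_of_tgt _ _)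

end Groth.Agent.S14628
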