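import Groth.Statements.S14630
import Groth.Agent.EtColim.CechColim
import Groth.Agent.EtColim.AbColim

set_option autoImplicit false
open CategoryTheory CategoryTheory.Limits AlgebraicGeometry
universe u
set_option backward.isDefEq.respectTransparency false
open EtBase

namespace Groth.Agent.S14630

/-- On the small étale site of a quasi-compact quasi-separated scheme, let X be a quasi-compact
quasi-separated scheme, U an étale X-scheme quasi-compact and quasi-separated over X, and (U_i → U)
a finite family of étale U-schemes each quasi-compact and quasi-separated over X. Then for every q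
and every small filtered category I, the functor F ↦ Ȟ^q((U_i → U), F) on abelian étale sheaves on X
preserves colimits of shape I. The finite products of the over category (the fibre products entering
the Čech complex) are carried as an instance hypothesis. (The published statement is for an
arbitrary covering family, reduced to a finite one without argument; this row takes a finite family,
which need not cover U.) -/
theorem result (X : Scheme.{u}) [CompactSpace ↥X]
    [QuasiSeparatedSpace ↥X] (U : X.Etale) [QuasiCompact U.hom] [QuasiSeparated U.hom]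
    [HasFiniteProducts (Over U)] (ι : Type (u + 1)) [Finite ι] (Uf : ι → Over U)
    [∀ i, QuasiCompact (Uf i).left.hom] [∀ i, QuasiSeparated (Uf i).left.hom]
    (q : ℕ) (I : Type (u + 1)) [SmallCategory I] [IsFiltered I] :
    PreservesColimitsOfShape I
      (sheafToPresheaf X.smallEtaleTopology AddCommGrpCat.{u + 1} ⋙ EtCech.cechHFunctor Uf q) := by
  haveI : CompactSpace ↥U.left := @QuasiCompact.compactSpace_of_compactSpace U.left X U.hom ‹_› ‹_›
  haveI : QuasiSeparatedSpace ↥U.left := @quasiSeparatedSpace_of_quasiSeparated U.left X U.hom ‹_› ‹_›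
  have hc : ∀ i, CompactSpace (Uf i).left.left := fun i =>
    @QuasiCompact.compactSpace_of_compactSpace (Uf i).left.left X (Uf i).left.hom inferInstance inferInstance
  have hq : ∀ i, QuasiSeparatedSpace (Uf i).left.left := fun i =>
    @quasiSeparatedSpace_of_quasiSeparated (Uf i).left.left X (Uf i).left.hom inferInstance inferInstance
  refine ⟨fun {D} => ⟨fun {c} hD => Groth.Agent.EtColim.AbColim.nonempty_isColimit _ (fun z => ?_)
    fun i z hz => ?_⟩⟩
  · obtain ⟨x, rfl⟩ := Groth.Agent.EtColim.AbColim.exists_class
      (K := EtCech.cechComplex Uf c.pt.obj) q z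
    obtain ⟨i, x', hx', hdx'⟩ := Groth.Agent.EtColim.CechColim.exists_cocycle_rep Uf hD hc hq q (q + 1)
      ((EtCech.cechComplex Uf c.pt.obj).iCycles q x) (Groth.Agent.EtColim.AbColim.d_iCycles q x _)
    obtain ⟨x'', rfl⟩ := Groth.Agent.EtColim.AbColim.exists_cycles q x' hdx'
    refine ⟨i, (EtCech.cechComplex Uf (D.obj i).obj).homologyπ q x'', ?_⟩
    refine (Groth.Agent.EtColim.AbColim.homologyMap_π q
      ((Groth.Agent.EtaleSite.CechPre.cx Uf).map (c.ι.app i).hom) x'').trans (congrArg _ ?_)
    apply (AddCommGrpCat.mono_iff_injective ((EtCech.cechComplex Uf c.pt.obj).iCycles q)).1 inferInstance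
    exact (Groth.Agent.EtColim.AbColim.iCycles_map q _ x'').trans hx'
  · obtain ⟨x, rfl⟩ := Groth.Agent.EtColim.AbColim.exists_class
      (K := EtCech.cechComplex Uf (D.obj i).obj) q z
    have h := (Groth.Agent.EtColim.AbColim.homologyMap_π q
      ((Groth.Agent.EtaleSite.CechPre.cx Uf).map (c.ι.app i).hom) x).symm.trans hz
    rw [Groth.Agent.EtColim.AbColim.homologyπ_eq_zero_iff, Groth.Agent.EtColim.AbColim.iCycles_map] at h
    obtain ⟨y, hy⟩ := h
    obtain ⟨j, φ, y', hy'⟩ := Groth.Agent.EtColim.CechColim.exists_coboundary_rep Uf hD hc hq _ q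
      ((EtCech.cechComplex Uf (D.obj i).obj).iCycles q x) y hy
    refine ⟨j, φ, (Groth.Agent.EtColim.AbColim.homologyMap_π q
      ((Groth.Agent.EtaleSite.CechPre.cx Uf).map (D.map φ).hom) x).trans ?_⟩
    rw [Groth.Agent.EtColim.AbColim.homologyπ_eq_zero_iff, Groth.Agent.EtColim.AbColim.iCycles_map]
    exact ⟨y', hy'⟩

end Groth.Agent.S14630
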