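import Groth.Statements.S14631
-- import your own Groth.Agent.* helpers here

set_option autoImplicit false
open CategoryTheory AlgebraicGeometry
universe u
open EtBase

namespace Groth.Agent.S14631

/-- Let X be a quasi-separated scheme and U an étale X-scheme. Then there is a jointly surjective family
of étale U-schemes each of which is quasi-compact and quasi-separated, hence of finite presentation,
over X. (Sheaves on the small étale site are therefore determined by their values on étale X-schemes
of finite presentation; that equivalence is not stated here.) -/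
theorem result (X : Scheme.{u})
    [QuasiSeparatedSpace ↥X] (U : X.Etale) :
    ∃ (ι : Type u) (V : ι → Over U), (∀ i, QuasiCompact (V i).left.hom ∧ QuasiSeparated (V i).left.hom) ∧
      ∀ x : ↥(U.left), ∃ (i : ι) (y : ↥((V i).left.left)), (V i).hom.left.base y = x := by
  let c := U.left.affineCover
  haveI : AlgebraicGeometry.Etale U.hom := U.prop
  haveI : ∀ i, IsOpenImmersion (c.f i) := fun i => inferInstance
  let W : c.I₀ → X.Etale := fun i => Scheme.Etale.mk (c.f i ≫ U.hom)
  refine ⟨c.I₀, fun i => Over.mk (Y := W i)
      (MorphismProperty.Over.homMk (c.f i) rfl trivial : W i ⟶ U),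
    fun i => ⟨?_, ?_⟩, fun x => ?_⟩
  · show QuasiCompact (c.f i ≫ U.hom)
    haveI : IsAffine (c.X i) := inferInstanceAs (IsAffine (Spec _))
    exact quasiCompact_of_compactSpace (Y := X) (c.f i ≫ U.hom)
  · show QuasiSeparated (c.f i ≫ U.hom)
    haveI : IsAffine (c.X i) := inferInstanceAs (IsAffine (Spec _))
    exact QuasiSeparated.of_quasiSeparatedSpace _
  · obtain ⟨i, y, hy⟩ := c.exists_eq x
    exact ⟨i, y, hy⟩

end Groth.Agent.S14631
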