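import Groth.Statements.S14633
import Groth.Agent.GrpdLib.SepExt
import Groth.Agent.GrpdLib.BcPts
import Groth.Agent.GrpScheme.Basic
import Groth.Agent.AbVarLib.Basics
import Mathlib.AlgebraicGeometry.Artinian
open CategoryTheory.Limits

set_option autoImplicit false
universe u
open CategoryTheory MonoidalCategory CartesianMonoidalCategory MonObj GrpObj AlgebraicGeometry CategoryTheory.Limits
open AlgGrp

namespace Groth.Agent.S14633

/-- Over a field k, let G be a smooth connected k-group scheme of finite type and let Z be a reduced
k-scheme of finite type of dimension at most 0 (for Z empty the conclusion is immediate). Then every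
action of G on Z is trivial: the action morphism G × Z → Z is the second projection. -/
theorem result (k : Type u) [Field k]
    (G Z : Over (Spec (CommRingCat.of k))) [GrpObj G] [Smooth G.hom] [QuasiCompact G.hom] [ConnectedSpace ↥G.left]
    [LocallyOfFiniteType Z.hom] [QuasiCompact Z.hom] [IsReduced Z.left] (hdim : topologicalKrullDim ↥Z.left ≤ 0)
    (a : AlgGrp.Action G Z) : a.act = CartesianMonoidalCategory.snd G Z := by
  let K := AlgebraicClosure k
  let φ := Spec.map (CommRingCat.ofHom (algebraMap k K))
  have : IsLocallyNoetherian Z.left := LocallyOfFiniteType.isLocallyNoetherian Z.hom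
  have : IsLocallyArtinian Z.left := IsLocallyArtinian.of_topologicalKrullDim_le_zero hdim
  have : CompactSpace Z.left := QuasiCompact.compactSpace_of_compactSpace Z.hom
  have : IsArtinianScheme Z.left := { }
  have : LocallyQuasiFinite Z.hom :=
    LocallyQuasiFinite.of_finite_preimage_singleton _ fun _ => Set.toFinite _
  have : IsSeparated Z.hom := by
    have : IsAffine Z.left := inferInstance
    infer_instance
  have : DiscreteTopology ↑(Red.bc φ Z).left := by
    show DiscreteTopology (pullback Z.hom φ : Scheme.{u})
    exact isDiscrete_univ_iff.mp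
      (((pullback.snd Z.hom φ).isDiscrete_preimage_singleton (IsLocalRing.closedPoint K)).mono
        fun _ _ => Subsingleton.elim (α := PrimeSpectrum K) _ _)
  have : Smooth (snd G Z).left := MorphismProperty.pullback_snd G.hom Z.hom inferInstance
  have := GrpScheme.Homogeneous.isReduced_of_smooth (snd G Z).left
  have : IrreducibleSpace G.left := AbVarLib.Basics.irreducibleSpace_of_connectedSpace G
  have : GeometricallyIrreducible G.hom :=
    GrpScheme.Component.geometricallyIrreducible_of_irreducibleSpace G
  have : IrreducibleSpace (Red.bc φ G).left :=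
    GeometricallyIrreducible.irreducibleSpace_of_subsingleton (pullback.snd G.hom φ)
  have := GrpdLib.SepExt.tensor_lft k G Z
  have : IsClosedImmersion (lift (𝟙 Z) (𝟙 Z)).left :=
    inferInstanceAs (IsClosedImmersion (pullback.diagonal Z.hom))
  obtain ⟨l, hl⟩ := GrpdLib.SepExt.exists_factor_algClosed k K (lift a.act (snd G Z))
    (lift (𝟙 Z) (𝟙 Z)) fun x => by
      refine ⟨x ≫ snd G Z, ?_⟩
      rw [comp_lift, comp_lift, Category.comp_id]
      suffices x ≫ a.act = x ≫ snd G Z by rw [this]
      let X := Red.bc φ G
      let z₀ : GrpdLib.BcPts.res φ X ⟶ Z :=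
        Over.homMk (U := GrpdLib.BcPts.res φ X) (X.hom ≫ (x ≫ snd G Z).left) (by
          rw [Category.assoc, Over.w (x ≫ snd G Z)]; rfl)
      obtain ⟨g₀, -⟩ := GrpdLib.BcPts.lf_surjective φ (𝟙 X)
      let pr : GrpdLib.BcPts.res φ X ⟶ G := Over.homMk (pullback.fst G.hom φ) pullback.condition
      let m := GrpdLib.BcPts.lf φ (lift pr z₀ ≫ a.act)
      let pt (g : Over.mk φ ⟶ G) : Spec (CommRingCat.of K) ⟶ X.left :=
        pullback.lift g.left (𝟙 _) (by rw [Category.id_comp]; exact Over.w g)
      let q (g : Over.mk φ ⟶ G) : Over.mk φ ⟶ GrpdLib.BcPts.res φ X := Over.homMk (pt g) (by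
        show pullback.lift _ _ _ ≫ pullback.snd G.hom φ ≫ φ = φ
        rw [pullback.lift_snd_assoc, Category.id_comp])
      have hq : ∀ g, pt g ≫ m.left ≫ pullback.fst Z.hom φ =
          (lift g (x ≫ snd G Z) ≫ a.act).left := fun g => by
        rw [GrpdLib.BcPts.lf_fst]
        have e : q g ≫ lift pr z₀ = lift g (x ≫ snd G Z) := by
          refine CartesianMonoidalCategory.hom_ext _ _ ?_ ?_
          · rw [Category.assoc, lift_fst, lift_fst]
            exact Over.OverMorphism.ext (pullback.lift_fst _ _ _)
          · rw [Category.assoc, lift_snd, lift_snd]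
            refine Over.OverMorphism.ext ?_
            show pullback.lift _ _ _ ≫ pullback.snd G.hom φ ≫ _ = _
            rw [pullback.lift_snd_assoc]
            exact Category.id_comp _
        rw [← e, Category.assoc]
        rfl
      have h1 : lift (1 : Over.mk φ ⟶ G) (x ≫ snd G Z) ≫ a.act = x ≫ snd G Z :=
        GrpScheme.Basic.one_smul' a _
      have hx : x = lift (x ≫ fst G Z) (x ≫ snd G Z) := by
        rw [← comp_lift, lift_fst_snd, Category.comp_id]
      have hsnd : ∀ g, (pt g ≫ m.left) ≫ pullback.snd Z.hom φ = 𝟙 _ := fun g => by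
        rw [Category.assoc, show m.left ≫ pullback.snd Z.hom φ = X.hom from Over.w m]
        exact pullback.lift_snd _ _ _
      have key : pt (x ≫ fst G Z) ≫ m.left = pt 1 ≫ m.left :=
        ext_of_apply_closedPoint_eq (pullback.snd Z.hom φ) (hsnd _) (hsnd _) (by
          rw [Scheme.Hom.comp_apply, Scheme.Hom.comp_apply]
          exact PreconnectedSpace.constant inferInstance m.left.continuous)
      refine Over.OverMorphism.ext ?_
      have h2 := congr(($h1).left)
      have h3 := congr($key ≫ pullback.fst Z.hom φ)
      simp only [Category.assoc] at h3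
      rw [hq, hq, h2, ← hx] at h3
      exact h3
  have h₁ := congr($hl ≫ fst Z Z)
  have h₂ := congr($hl ≫ snd Z Z)
  rw [Category.assoc, lift_fst, lift_fst, Category.comp_id] at h₁
  rw [Category.assoc, lift_snd, lift_snd, Category.comp_id] at h₂
  exact h₁.symm.trans h₂

end Groth.Agent.S14633
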