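import Groth.Statements.S14634
import Groth.Agent.AbVarLib.Basics
import Groth.Agent.ConsPairLib.DimCons
import Groth.Agent.DimLift.Basic
import Mathlib.AlgebraicGeometry.Fiber

set_option autoImplicit false
set_option backward.isDefEq.respectTransparency false
set_option backward.isDefEq.respectTransparency.types false
universe u
open CategoryTheory MonoidalCategory CartesianMonoidalCategory MonObj GrpObj AlgebraicGeometry CategoryTheory.Limits
open AlgGrp

namespace Groth.Agent.S14634

/-- Over a field k, let G be a smooth connected k-group scheme of finite type acting on a curve C, i.e.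
a separated, geometrically integral k-scheme of finite type of dimension 1. Then C is almost
homogeneous under G, meaning that the graph morphism G × C → C × C, (g, x) ↦ (x, g·x), is dominant,
if and only if the action is not the trivial one (the action morphism is not the second projection). -/
theorem result (k : Type u) [Field k]
    (G C : Over (Spec (CommRingCat.of k))) [GrpObj G] [Smooth G.hom] [QuasiCompact G.hom] [ConnectedSpace ↥G.left]
    [IsSeparated C.hom] [LocallyOfFiniteType C.hom] [QuasiCompact C.hom] [GeometricallyIntegral C.hom] (hdim : topologicalKrullDim ↥C.left = 1)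
    (a : AlgGrp.Action G C) :
    IsDominant (CartesianMonoidalCategory.lift (CartesianMonoidalCategory.snd G C) a.act).left ↔
      a.act ≠ CartesianMonoidalCategory.snd G C := by
  classical
  have : IsIntegral C.left := by
    have h := GeometricallyIntegral.geometrically_isIntegral (f := C.hom)
    exact h (Spec.map (𝟙 (CommRingCat.of k))) (𝟙 C.left) C.hom (by simpa using IsPullback.of_horiz_isIso ⟨by simp⟩)
  have : IrreducibleSpace G.left := AbVarLib.Basics.irreducibleSpace_of_connectedSpace G
  have : GeometricallyIrreducible G.hom := GrpScheme.Component.geometricallyIrreducible_of_irreducibleSpace G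
  have : GeometricallyReduced G.hom := AbVarLib.Basics.geometricallyReduced_of_smooth G.hom
  have : IrreducibleSpace (G ⊗ C).left := inferInstanceAs (IrreducibleSpace ↥(pullback G.hom C.hom))
  have : IsReduced (G ⊗ C).left := FBase.BC.isReduced_pullback G.hom C.hom
  have : IrreducibleSpace (C ⊗ C).left := inferInstanceAs (IrreducibleSpace ↥(pullback C.hom C.hom))
  let ψ := CartesianMonoidalCategory.lift (CartesianMonoidalCategory.snd G C) a.act
  let Δ : C ⟶ C ⊗ C := CartesianMonoidalCategory.lift (𝟙 C) (𝟙 C)
  have : IsSeparated (fst C C).left := inferInstanceAs (IsSeparated (pullback.fst C.hom C.hom))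
  have : IsClosedImmersion Δ.left := by
    have h : IsClosedImmersion (Δ.left ≫ (fst C C).left) := by
      rw [← Over.comp_left, show Δ ≫ fst C C = 𝟙 C from lift_fst _ _, Over.id_left]; infer_instance
    exact IsClosedImmersion.of_comp Δ.left (fst C C).left
  -- the generic fibre of the first projection
  set ηC : C.left := genericPoint C.left with hηC
  let q : (C ⊗ C).left ⟶ C.left := (fst C C).left
  have : LocallyOfFiniteType q := inferInstanceAs (LocallyOfFiniteType (pullback.fst C.hom C.hom))
  have : QuasiCompact q := inferInstanceAs (QuasiCompact (pullback.fst C.hom C.hom))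
  have hsq : IsPullback (q.fiberι ηC ≫ (snd C C).left) (q.fiberToSpecResidueField ηC) C.hom
      (C.left.fromSpecResidueField ηC ≫ C.hom) :=
    (IsPullback.of_hasPullback q (C.left.fromSpecResidueField ηC)).paste_horiz
      (IsPullback.of_hasPullback C.hom C.hom).flip
  have hdimF : topologicalKrullDim ↥(q.fiber ηC) = 1 := by
    rw [← hdim]
    exact ConsPairLib.topDim_baseChange C.hom hsq
  have hΔq : ∀ c, q (Δ.left c) = c := fun c => by
    rw [← Scheme.Hom.comp_apply, ← Over.comp_left, show Δ ≫ fst C C = 𝟙 C from lift_fst _ _]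
    rfl
  letI : Preorder ↥(q.fiber ηC) := specializationPreorder _
  constructor
  · intro hdom hact
    have hψ : ψ = snd G C ≫ Δ := by
      apply CartesianMonoidalCategory.hom_ext <;> simp [ψ, Δ, hact]
    have hsub : Set.range ψ.left ⊆ Set.range Δ.left := by
      rintro _ ⟨z, rfl⟩
      refine ⟨(snd G C).left z, ?_⟩
      rw [hψ, Over.comp_left, Scheme.Hom.comp_apply]
    have huniv : ∀ z, z ∈ Set.range Δ.left := fun z =>
      (hdom.denseRange.mono hsub).closure_eq.ge.trans
        (Δ.left.isClosedEmbedding.isClosed_range.closure_eq.le) (Set.mem_univ z)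
    have : Subsingleton ↥(q.fiber ηC) := ⟨fun u v => (q.fiberι ηC).isEmbedding.injective (by
      obtain ⟨c, hc⟩ := huniv (q.fiberι ηC u)
      obtain ⟨d, hd⟩ := huniv (q.fiberι ηC v)
      have h1 : q (q.fiberι ηC u) = ηC := (q.range_fiberι ηC).le (Set.mem_range_self (f := q.fiberι ηC) u)
      have h2 : q (q.fiberι ηC v) = ηC := (q.range_fiberι ηC).le (Set.mem_range_self (f := q.fiberι ηC) v)
      rw [← hc, hΔq] at h1
      rw [← hd, hΔq] at h2
      rw [← hc, ← hd, h1, h2])⟩
    have h0 : topologicalKrullDim ↥(q.fiber ηC) ≤ 0 := by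
      rw [DimLift.topDim_eq_krullDim_points]
      exact @Order.krullDim_nonpos_of_subsingleton _ _ this
    rw [hdimF] at h0
    exact absurd h0 (by simp)
  · intro hact
    show IsDominant ψ.left
    have hirr : IsIrreducible (closure (Set.range ψ.left)) := by
      rw [← Set.image_univ]
      exact ((IrreducibleSpace.isIrreducible_univ _).image _ ψ.left.continuous.continuousOn).closure
    obtain ⟨ζ, hζ⟩ := QuasiSober.sober hirr isClosed_closure
    have hsec : CartesianMonoidalCategory.lift (toUnit C ≫ η[G]) (𝟙 C) ≫ ψ = Δ := by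
      have h1 : CartesianMonoidalCategory.lift (toUnit C ≫ η[G]) (𝟙 C) ≫ a.act = 𝟙 C := by
        rw [show CartesianMonoidalCategory.lift (toUnit C ≫ η[G]) (𝟙 C) = (λ_ C).inv ≫ (η[G] ▷ C) by
          apply CartesianMonoidalCategory.hom_ext <;> simp, Category.assoc, a.one_act, Iso.inv_hom_id]
      apply CartesianMonoidalCategory.hom_ext <;> simp [ψ, Δ, h1]
    have hδ : ζ ⤳ Δ.left ηC := hζ.specializes (subset_closure ⟨_, by
      rw [← hsec, Over.comp_left, Scheme.Hom.comp_apply]⟩)
    set g : (C ⊗ C).left := genericPoint (C ⊗ C).left with hg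
    have hgζ : g ⤳ ζ := (genericPoint_spec _).specializes trivial
    have hqeq : ∀ p, p ⤳ Δ.left ηC → q p = ηC := fun p hp =>
      ((hΔq ηC ▸ hp.map q.continuous).antisymm ((genericPoint_spec C.left).specializes trivial)).eq
    have hlift : ∀ p, p ⤳ Δ.left ηC → ∃ p' : ↥(q.fiber ηC), q.fiberι ηC p' = p := fun p hp => by
      have : p ∈ Set.range (q.fiberι ηC) := (q.range_fiberι ηC).ge (hqeq p hp)
      exact this
    obtain ⟨g', hg'⟩ := hlift g (hgζ.trans hδ)
    obtain ⟨ζ', hζ'⟩ := hlift ζ hδ
    obtain ⟨δ', hδ'⟩ := hlift (Δ.left ηC) (specializes_refl _)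
    have hkey : g = ζ ∨ ζ = Δ.left ηC := by
      by_contra! hne
      letI : PartialOrder ↥(q.fiber ηC) := specializationOrder _
      have h1 : δ' < ζ' := lt_of_le_of_ne
        ((q.fiberι ηC).isEmbedding.isInducing.specializes_iff.1 (by rw [hζ', hδ']; exact hδ))
        (fun h => hne.2 (by rw [← hζ', ← hδ', h]))
      have h2 : ζ' < g' := lt_of_le_of_ne
        ((q.fiberι ηC).isEmbedding.isInducing.specializes_iff.1 (by rw [hg', hζ']; exact hgζ))
        (fun h => hne.1 (by rw [← hζ', ← hg', h]))
      let l : LTSeries ↥(q.fiber ηC) := ((RelSeries.singleton _ δ').snoc ζ' h1).snoc g' (by simpa using h2)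
      have h3 := Order.LTSeries.length_le_krullDim l
      rw [← DimLift.topDim_eq_krullDim_points, hdimF] at h3
      simp [l] at h3
    rcases hkey with hgz | hζδ
    · refine ⟨?_⟩
      rw [DenseRange, dense_iff_closure_eq, ← hζ.def, ← hgz]
      exact genericPoint_spec (C ⊗ C).left
    · exfalso
      refine hact ?_
      have hrange : Set.range ψ.left ⊆ Set.range Δ.left := by
        refine subset_closure.trans ?_
        rw [← hζ.def, hζδ]
        exact Δ.left.isClosedEmbedding.isClosed_range.closure_subset_iff.2 (by simp)
      let π₁ := pullback.fst ψ.left Δ.left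
      have : Surjective π₁ := ⟨fun z => by
        obtain ⟨c, hc⟩ := hrange ⟨z, rfl⟩
        obtain ⟨p, hp, -⟩ := Scheme.Pullback.exists_preimage_pullback z c hc.symm
        exact ⟨p, hp⟩⟩
      have : IsIso π₁ := isIso_of_isClosedImmersion_of_surjective π₁
      have hfac : ψ.left = (inv π₁ ≫ pullback.snd ψ.left Δ.left) ≫ Δ.left := by
        rw [Category.assoc, ← pullback.condition, IsIso.inv_hom_id_assoc]
      have h1 : Δ.left ≫ (fst C C).left = 𝟙 C.left := by
        rw [← Over.comp_left, show Δ ≫ fst C C = 𝟙 C from lift_fst _ _]; rfl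
      have h2 : Δ.left ≫ (snd C C).left = 𝟙 C.left := by
        rw [← Over.comp_left, show Δ ≫ snd C C = 𝟙 C from lift_snd _ _]; rfl
      apply Over.OverMorphism.ext
      calc a.act.left = ψ.left ≫ (snd C C).left := by rw [← Over.comp_left]; simp [ψ]
        _ = inv π₁ ≫ pullback.snd ψ.left Δ.left := (congrArg (· ≫ (snd C C).left) hfac).trans (by simp only [Category.assoc, h2, Category.comp_id])
        _ = ψ.left ≫ (fst C C).left := ((congrArg (· ≫ (fst C C).left) hfac).trans (by simp only [Category.assoc, h1, Category.comp_id])).symm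
        _ = (snd G C).left := by rw [← Over.comp_left]; simp [ψ]

end Groth.Agent.S14634
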