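import Groth.Statements.S14636
import Groth.Agent.S1585
import Groth.Agent.GrpScheme.HomFlat
import Mathlib.AlgebraicGeometry.Morphisms.UniversallyOpen
import Mathlib.AlgebraicGeometry.PullbackCarrier

set_option autoImplicit false
universe u
open CategoryTheory MonoidalCategory CartesianMonoidalCategory MonObj GrpObj AlgebraicGeometry CategoryTheory.Limits
open AlgGrp

set_option backward.isDefEq.respectTransparency false
set_option linter.style.haveILetI false

namespace Groth.Agent.S14636

/-- Over a field k, let G be a smooth connected k-group scheme of finite type acting on a variety X (a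
separated, geometrically integral k-scheme of finite type), let ν : X̃ → X be the normalization of
X, and let G act on X̃ so that ν is equivariant (such an action exists and is unique). Then X is
almost homogeneous, i.e. the graph morphism G × X → X × X, (g, x) ↦ (x, g·x), is dominant, if and
only if X̃ is almost homogeneous for the lifted action. (The quasi-compactness and
quasi-separatedness binders on the morphism from the generic point always hold; they are only needed
to form the normalization.) -/
theorem result (k : Type u) [Field k]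
    (G X : Over (Spec (CommRingCat.of k))) [GrpObj G] [Smooth G.hom] [QuasiCompact G.hom] [ConnectedSpace ↥G.left]
    [IsSeparated X.hom] [LocallyOfFiniteType X.hom] [QuasiCompact X.hom] [GeometricallyIntegral X.hom] [IsIntegral X.left] [QuasiCompact (X.left.fromSpecStalk (genericPoint ↥X.left))] [QuasiSeparated (X.left.fromSpecStalk (genericPoint ↥X.left))]
    (a : AlgGrp.Action G X)
    (b : AlgGrp.Action G (Over.mk (Curv2.normalizationι X.left ≫ X.hom)))
    (hb : (G ◁ (Over.homMk (Curv2.normalizationι X.left) rfl : Over.mk (Curv2.normalizationι X.left ≫ X.hom) ⟶ X)) ≫ a.act =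
      b.act ≫ Over.homMk (Curv2.normalizationι X.left) rfl) :
    IsDominant (CartesianMonoidalCategory.lift (CartesianMonoidalCategory.snd G X) a.act).left ↔
      IsDominant (CartesianMonoidalCategory.lift
        (CartesianMonoidalCategory.snd G (Over.mk (Curv2.normalizationι X.left ≫ X.hom))) b.act).left := by
  letI : X.left.Over (Spec (CommRingCat.of k)) := ⟨X.hom⟩
  haveI : LocallyOfFiniteType (X.left ↘ Spec (CommRingCat.of k)) := ‹LocallyOfFiniteType X.hom›
  obtain ⟨hfin, hdom, ⟨V, hV, hiso⟩, hint, -⟩ := Groth.Agent.S1585.result k X.left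
  haveI := hfin; haveI := hdom; haveI := hint
  let ν := Curv2.normalizationι X.left
  haveI : Surjective ν := by
    refine ⟨fun x => ?_⟩
    have h1 : Set.range ν = Set.univ := by
      have h := hdom.denseRange.closure_range
      rwa [ν.isClosedMap.isClosed_range.closure_eq] at h
    exact h1.ge trivial
  let N : Over (Spec (CommRingCat.of k)) := Over.mk (ν ≫ X.hom)
  let j : N ⟶ X := Over.homMk ν rfl
  let Ψ := CartesianMonoidalCategory.lift (CartesianMonoidalCategory.snd G X) a.act
  let Φ := CartesianMonoidalCategory.lift (CartesianMonoidalCategory.snd G N) b.act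
  have e : (G ◁ j) ≫ Ψ = Φ ≫ (j ⊗ₘ j) := by
    apply CartesianMonoidalCategory.hom_ext
    · simp [Ψ, Φ, N]
    · rw [Category.assoc, Category.assoc, lift_snd, tensorHom_snd, lift_snd_assoc]
      exact hb
  have ej : (j ⊗ₘ j).left = pullback.map N.hom N.hom X.hom X.hom ν ν (𝟙 _) (by simp [N]) (by simp [N]) := by
    apply pullback.hom_ext <;> simp [j, pullback.map]
  haveI : Surjective (j ⊗ₘ j).left := by
    refine ⟨fun z => ?_⟩
    show z ∈ Set.range (j ⊗ₘ j).left
    rw [ej]
    erw [Scheme.Pullback.range_map]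
    exact ⟨ν.surjective _, ν.surjective _⟩
  haveI : Surjective (G ◁ j).left := by
    refine ⟨fun z => ?_⟩
    show z ∈ Set.range (G ◁ j).left
    rw [show (G ◁ j).left = pullback.map G.hom N.hom G.hom X.hom (𝟙 _) ν (𝟙 _) (by simp) (by simp [N]) by
      apply pullback.hom_ext <;> simp [j, pullback.map]]
    erw [Scheme.Pullback.range_map]
    exact ⟨⟨_, rfl⟩, ν.surjective _⟩
  constructor
  swap
  · intro h
    have : IsDominant Φ.left := h
    have : IsDominant ((j ⊗ₘ j).left) := inferInstance
    have : IsDominant ((G ◁ j).left ≫ Ψ.left) := by rw [← Over.comp_left, e, Over.comp_left]; infer_instance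
    exact IsDominant.of_comp (G ◁ j).left Ψ.left
  · intro h
    show IsDominant Φ.left
    let V' : N.left.Opens := ν ⁻¹ᵁ V
    haveI : UniversallyOpen N.hom := inferInstance
    haveI : UniversallyOpen (fst N N).left := inferInstanceAs (UniversallyOpen (pullback.fst N.hom N.hom))
    haveI : UniversallyOpen (snd N N).left := inferInstanceAs (UniversallyOpen (pullback.snd N.hom N.hom))
    have hV' : Dense (V' : Set N.left) := by
      haveI : IsIntegral N.left := hint
      obtain ⟨x, hx⟩ := hV
      obtain ⟨y, hy⟩ := ν.surjective x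
      exact V'.2.dense ⟨y, show ν y ∈ V from hy ▸ hx⟩
    have hW : Dense (((fst N N).left ⁻¹' (V' : Set N.left)) ∩ ((snd N N).left ⁻¹' (V' : Set N.left))) :=
      (hV'.preimage (fst N N).left.isOpenMap).inter_of_isOpen_left (hV'.preimage (snd N N).left.isOpenMap)
        (V'.2.preimage (fst N N).left.continuous)
    haveI : IsOpenImmersion (V'.ι ≫ ν) := by
      rw [← morphismRestrict_ι ν V]; infer_instance
    let m₁ : pullback (V'.ι ≫ N.hom) (V'.ι ≫ N.hom) ⟶ (N ⊗ N).left :=
      pullback.map _ _ N.hom N.hom V'.ι V'.ι (𝟙 _) (by simp) (by simp)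
    have hm₁ : Set.range m₁ = ((fst N N).left ⁻¹' (V' : Set N.left)) ∩ ((snd N N).left ⁻¹' (V' : Set N.left)) := by
      erw [Scheme.Pullback.range_map]
      simp only [Scheme.Opens.range_ι]
      rfl
    haveI : IsOpenImmersion m₁ := by simp only [m₁]; infer_instance
    haveI : IsOpenImmersion (m₁ ≫ (j ⊗ₘ j).left) := by
      have : m₁ ≫ (j ⊗ₘ j).left = pullback.map (V'.ι ≫ N.hom) (V'.ι ≫ N.hom) X.hom X.hom (V'.ι ≫ ν) (V'.ι ≫ ν) (𝟙 _)
          (by simp [N]) (by simp [N]) := by
        rw [ej]; apply pullback.hom_ext <;> simp [m₁, pullback.map]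
      rw [this]; infer_instance
    refine ⟨dense_iff_inter_open.2 fun O hO hne => ?_⟩
    obtain ⟨o, ho, hoW⟩ := hW.inter_open_nonempty O hO hne
    rw [← hm₁] at hoW
    obtain ⟨o', rfl⟩ := hoW
    let Q := (m₁ ≫ (j ⊗ₘ j).left) '' (m₁ ⁻¹' O)
    have hd : DenseRange (Ψ.left ∘ (G ◁ j).left) := h.denseRange.comp (Function.Surjective.denseRange (G ◁ j).left.surjective) Ψ.left.continuous
    obtain ⟨_, ⟨o'', ho'', rfl⟩, w, hw⟩ := hd.inter_open_nonempty Q
      ((m₁ ≫ (j ⊗ₘ j).left).isOpenEmbedding.isOpenMap _ (hO.preimage m₁.continuous)) ⟨_, o', ho, rfl⟩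
    have hw' : (j ⊗ₘ j).left (Φ.left w) = (j ⊗ₘ j).left (m₁ o'') := by
      rw [← Scheme.Hom.comp_apply, ← Over.comp_left, ← e, Over.comp_left, Scheme.Hom.comp_apply]
      exact hw.trans (Scheme.Hom.comp_apply _ _ _)
    have hc : ∀ q : ↥(N ⊗ N).left, (fst X X).left ((j ⊗ₘ j).left q) = ν ((fst N N).left q) ∧
        (snd X X).left ((j ⊗ₘ j).left q) = ν ((snd N N).left q) := fun q => by
      constructor
      · rw [← Scheme.Hom.comp_apply, ← Over.comp_left, tensorHom_fst, Over.comp_left, Scheme.Hom.comp_apply]; rfl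
      · rw [← Scheme.Hom.comp_apply, ← Over.comp_left, tensorHom_snd, Over.comp_left, Scheme.Hom.comp_apply]; rfl
    have hin : Φ.left w ∈ Set.range m₁ := by
      have h1 : m₁ o'' ∈ Set.range m₁ := ⟨o'', rfl⟩
      rw [hm₁] at h1 ⊢
      refine ⟨?_, ?_⟩
      · show ν ((fst N N).left (Φ.left w)) ∈ V
        rw [← (hc _).1, hw', (hc _).1]; exact h1.1
      · show ν ((snd N N).left (Φ.left w)) ∈ V
        rw [← (hc _).2, hw', (hc _).2]; exact h1.2
    obtain ⟨p, hp⟩ := hin
    have hpo : p = o'' := (m₁ ≫ (j ⊗ₘ j).left).isOpenEmbedding.injective (by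
      rw [Scheme.Hom.comp_apply, Scheme.Hom.comp_apply, hp, hw'])
    exact ⟨Φ.left w, by rw [← hp, hpo]; exact ho'', w, rfl⟩

end Groth.Agent.S14636
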