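import Groth.Statements.S8709
import Groth.Agent.GrpScheme.Rosenlicht.Axes
import Groth.Agent.RedPts.Basic
-- import your own Groth.Agent.* helpers here

set_option autoImplicit false
universe u
open CategoryTheory CategoryTheory.Limits MonoidalCategory CartesianMonoidalCategory MonObj AlgebraicGeometry
open SGA7 Groth.Agent.GrpScheme.Rosenlicht Groth.Agent

namespace Groth.Agent.S8709

set_option backward.isDefEq.respectTransparency false in
theorem core (k : Type u) [Field k] (X Y : Over (Spec (CommRingCat.of k)))
    [LocallyOfFiniteType X.hom] [QuasiCompact X.hom] [GeometricallyReduced X.hom] [GeometricallyConnected X.hom]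
    [LocallyOfFiniteType Y.hom] [QuasiCompact Y.hom] [GeometricallyReduced Y.hom] [GeometricallyConnected Y.hom]
    (eX : 𝟙_ (Over (Spec (CommRingCat.of k))) ⟶ X) (eY : 𝟙_ (Over (Spec (CommRingCat.of k))) ⟶ Y)
    (f : Γ((X ⊗ Y).left, ⊤)) (hf : IsUnit f) (hR : (sliceR X eY).left.appTop f = 1)
    (hL : (sliceL Y eX).left.appTop f = 1) : f = 1 := by
  let K := AlgebraicClosure k
  let g : Spec (CommRingCat.of K) ⟶ Spec (CommRingCat.of k) :=
    Spec.map (CommRingCat.ofHom (algebraMap k K))
  let X' : Over (Spec (CommRingCat.of K)) := Over.mk (pullback.snd X.hom g)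
  let Y' : Over (Spec (CommRingCat.of K)) := Over.mk (pullback.snd Y.hom g)
  let eX' : 𝟙_ _ ⟶ X' := Over.homMk (pullback.lift (g ≫ eX.left) (𝟙 _)
    (by rw [Category.assoc, Over.w eX]; simp)) (pullback.lift_snd _ _ _)
  let eY' : 𝟙_ _ ⟶ Y' := Over.homMk (pullback.lift (g ≫ eY.left) (𝟙 _)
    (by rw [Category.assoc, Over.w eY]; simp)) (pullback.lift_snd _ _ _)
  have : IsReduced X'.left :=
    GeometricallyReduced.geometrically_isReduced (f := X.hom) g (pullback.fst X.hom g) (pullback.snd X.hom g) (IsPullback.of_hasPullback _ _)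
  have : IsReduced Y'.left :=
    GeometricallyReduced.geometrically_isReduced (f := Y.hom) g (pullback.fst Y.hom g) (pullback.snd Y.hom g) (IsPullback.of_hasPullback _ _)
  have : ConnectedSpace X'.left :=
    GeometricallyConnected.geometrically_connectedSpace (f := X.hom) g (pullback.fst X.hom g) (pullback.snd X.hom g) (IsPullback.of_hasPullback _ _)
  have : ConnectedSpace Y'.left :=
    GeometricallyConnected.geometrically_connectedSpace (f := Y.hom) g (pullback.fst Y.hom g) (pullback.snd Y.hom g) (IsPullback.of_hasPullback _ _)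
  have : LocallyOfFiniteType X'.hom := inferInstanceAs (LocallyOfFiniteType (pullback.snd X.hom g))
  have : LocallyOfFiniteType Y'.hom := inferInstanceAs (LocallyOfFiniteType (pullback.snd Y.hom g))
  have : QuasiCompact X'.hom := inferInstanceAs (QuasiCompact (pullback.snd X.hom g))
  have : QuasiCompact Y'.hom := inferInstanceAs (QuasiCompact (pullback.snd Y.hom g))
  let q : (X' ⊗ Y').left ⟶ (X ⊗ Y).left :=
    pullback.map X'.hom Y'.hom X.hom Y.hom (pullback.fst X.hom g) (pullback.fst Y.hom g) g
      pullback.condition.symm pullback.condition.symm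
  have hfK : q.appTop f = 1 := by
    refine eq_one_of_axes X' Y' eX' eY' _ (hf.map q.appTop.hom) ?_ ?_
    · have h : (sliceR X' eY').left ≫ q = pullback.fst X.hom g ≫ (sliceR X eY).left := by
        apply pullback.hom_ext
        · simp [q, sliceR, X']
          exact Category.id_comp _
        · simp [q, sliceR, X', Y', eY', pullback.condition_assoc]
      show ((sliceR X' eY').left ≫ q).appTop.hom f = 1
      rw [h, Scheme.Hom.comp_appTop, CommRingCat.hom_comp, RingHom.comp_apply]
      rw [show (sliceR X eY).left.appTop.hom f = 1 from hR, map_one]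
    · have h : (sliceL Y' eX').left ≫ q = pullback.fst Y.hom g ≫ (sliceL Y eX).left := by
        apply pullback.hom_ext
        · simp [q, sliceL, X', Y', eX', pullback.condition_assoc]
        · simp [q, sliceL, Y']
          exact Category.id_comp _
      show ((sliceL Y' eX').left ≫ q).appTop.hom f = 1
      rw [h, Scheme.Hom.comp_appTop, CommRingCat.hom_comp, RingHom.comp_apply]
      rw [show (sliceL Y eX).left.appTop.hom f = 1 from hL, map_one]
  have hred : IsReduced (X ⊗ Y).left := by
    have : IsReduced Y.left := Groth.Agent.FBase.BC.isReduced_of_isReduced_pullback_specMap (K := K) Y.hom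
    exact FBase.BC.isReduced_pullback X.hom Y.hom
  have hqs : Surjective q := by
    constructor
    intro z
    let a : ↥X.left := pullback.fst X.hom Y.hom z
    have hg : Surjective g := ⟨fun x => ⟨IsLocalRing.closedPoint K, Subsingleton.elim (α := PrimeSpectrum k) _ _⟩⟩
    have : Surjective (pullback.fst (pullback.fst X.hom Y.hom ≫ X.hom) g) := inferInstance
    obtain ⟨w, hw⟩ := (pullback.fst (pullback.fst X.hom Y.hom ≫ X.hom) g).surjective z
    let s : pullback (pullback.fst X.hom Y.hom ≫ X.hom) g ⟶ (X' ⊗ Y').left :=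
      pullback.lift
        (pullback.lift (pullback.fst _ _ ≫ pullback.fst X.hom Y.hom) (pullback.snd _ _)
          ((Category.assoc _ _ _).trans pullback.condition))
        (pullback.lift (pullback.fst _ _ ≫ pullback.snd X.hom Y.hom) (pullback.snd _ _)
          (((Category.assoc _ _ _).trans (congrArg _ (pullback.condition (f := X.hom) (g := Y.hom)).symm)).trans pullback.condition))
        (by simp [X', Y'])
    refine ⟨s w, ?_⟩
    have hs : s ≫ q = pullback.fst (pullback.fst X.hom Y.hom ≫ X.hom) g := by
      apply pullback.hom_ext <;> simp [s, q, X', Y']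
    rw [← Scheme.Hom.comp_apply, hs]
    exact hw
  rw [← sub_eq_zero, ← basicOpen_eq_bot_iff]
  ext z
  simp only [TopologicalSpace.Opens.coe_bot, Set.mem_empty_iff_false, iff_false]
  intro hz
  obtain ⟨w, rfl⟩ := hqs.1 z
  have hw : w ∈ q ⁻¹ᵁ (X ⊗ Y).left.basicOpen (f - 1) := hz
  rw [Scheme.preimage_basicOpen] at hw
  change w ∈ (X' ⊗ Y').left.basicOpen (q.appTop.hom (f - 1)) at hw
  rw [map_sub, map_one, show q.appTop.hom f = 1 from hfK, sub_self, Scheme.basicOpen_zero] at hw
  exact hw


/-- Let k be a field and X, Y two k-schemes of finite type which are geometrically reduced and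
geometrically connected, with rational points e_X and e_Y. Then every k-morphism u from X ×_k Y to
the multiplicative group whose restrictions to X × e_Y and to e_X × Y are trivial is trivial.
(Morphisms to the multiplicative group over k form a group; trivial means equal to its unit
element.) -/
theorem result (k : Type u) [Field k]
    (X Y : Over (Spec (CommRingCat.of k)))
    [LocallyOfFiniteType X.hom] [QuasiCompact X.hom] [GeometricallyReduced X.hom] [GeometricallyConnected X.hom]
    [LocallyOfFiniteType Y.hom] [QuasiCompact Y.hom] [GeometricallyReduced Y.hom] [GeometricallyConnected Y.hom]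
    (eX : 𝟙_ (Over (Spec (CommRingCat.of k))) ⟶ X) (eY : 𝟙_ (Over (Spec (CommRingCat.of k))) ⟶ Y)
    (u : X ⊗ Y ⟶ Red.Gm (Spec (CommRingCat.of k)))
    (huX : lift (𝟙 X) (toUnit X ≫ eY) ≫ u = 1) (huY : lift (toUnit Y ≫ eX) (𝟙 Y) ≫ u = 1) :
    u = 1 := by
  have hone : ∀ T : Over (Spec (CommRingCat.of k)),
      Red.gmFn (1 : T ⟶ Red.Gm (Spec (CommRingCat.of k))) = 1 := by
    intro T
    have h := RedPts.gm_mul (1 : T ⟶ Red.Gm (Spec (CommRingCat.of k))) 1
    have h' := (congrArg Red.gmFn (_root_.one_mul (1 : T ⟶ Red.Gm (Spec (CommRingCat.of k))))).symm.trans h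
    exact (RedPts.gm_isUnit (1 : T ⟶ Red.Gm (Spec (CommRingCat.of k)))).mul_right_injective
      (h'.symm.trans (_root_.mul_one _).symm)
  apply RedPts.gm_injective
  rw [hone]
  refine core k X Y eX eY _ (RedPts.gm_isUnit u) ?_ ?_
  · rw [← RedPts.gm_comp, sliceR, huX, hone]
  · rw [← RedPts.gm_comp, sliceL, huY, hone]

end Groth.Agent.S8709
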