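import Groth.Statements.S14637
import Groth.Agent.S8709
import Groth.Agent.FBase.BC
import Groth.Agent.RedPts.Basic
import Groth.Agent.DiagRig.DSQuot
import Mathlib.RingTheory.TensorProduct.MonoidAlgebra
import Mathlib.Algebra.MonoidAlgebra.NoZeroDivisors

set_option autoImplicit false
universe u
open CategoryTheory MonoidalCategory CartesianMonoidalCategory MonObj GrpObj AlgebraicGeometry CategoryTheory.Limits
open AlgGrp

namespace Groth.Agent.S14637

set_option backward.isDefEq.respectTransparency.types false
open scoped TensorProduct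

/-- Over a field k, the only structure of algebraic group on the punctured affine line Spec k[T, T⁻¹]
with unit element the point T = 1 is the multiplicative group. Precisely: let G be a k-group scheme
and e an isomorphism of k-schemes from the underlying scheme of G to Spec k[T, T⁻¹] under which the
unit section has T-coordinate 1; then for every k-scheme S and all S-valued points g, h of G, the
T-coordinate of g · h (the pull-back of the global function T along the point composed with e) is
the product of the T-coordinates of g and of h. -/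
theorem result (k : Type u) [Field k]
    (G : Over (Spec (CommRingCat.of k))) [GrpObj G]
    (e : G.left ≅ Spec (CommRingCat.of (LaurentPolynomial k)))
    (he : e.hom ≫ Spec.map (CommRingCat.ofHom (algebraMap k (LaurentPolynomial k))) = G.hom)
    (hunit : ((η[G]).left ≫ e.hom).appTop.hom ((Scheme.ΓSpecIso (CommRingCat.of (LaurentPolynomial k))).inv.hom (LaurentPolynomial.T 1)) = 1)
    (S : Over (Spec (CommRingCat.of k))) (g h : S ⟶ G) :
    ((g * h).left ≫ e.hom).appTop.hom ((Scheme.ΓSpecIso (CommRingCat.of (LaurentPolynomial k))).inv.hom (LaurentPolynomial.T 1)) =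
      (g.left ≫ e.hom).appTop.hom ((Scheme.ΓSpecIso (CommRingCat.of (LaurentPolynomial k))).inv.hom (LaurentPolynomial.T 1)) * (h.left ≫ e.hom).appTop.hom ((Scheme.ΓSpecIso (CommRingCat.of (LaurentPolynomial k))).inv.hom (LaurentPolynomial.T 1)) := by
  have hp : ∀ L : Type u, ∀ [Field L] [Algebra k L], IsDomain (LaurentPolynomial k ⊗[k] L) := fun L _ _ =>
    ((Algebra.TensorProduct.comm k (LaurentPolynomial k) L).toRingEquiv.trans
      (AddMonoidAlgebra.scalarTensorEquiv k L (M := ℤ)).toRingEquiv).toMulEquiv.isDomain (AddMonoidAlgebra L ℤ)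
  have : GeometricallyIntegral (Spec.map (CommRingCat.ofHom (algebraMap k (LaurentPolynomial k)))) := by
    have : ObjectProperty.IsClosedUnderIsomorphisms (C := Scheme.{u}) IsIntegral :=
      ⟨fun e h => IsIntegral.of_isIso e.hom⟩
    refine ⟨geometrically_iff_of_commRing_of_isClosedUnderIsomorphisms.mpr fun L _ _ => ?_⟩
    have := hp L
    exact IsIntegral.of_isIso (pullbackSpecIso k (LaurentPolynomial k) L).inv
  have : GeometricallyIntegral G.hom := by
    rw [← he]
    exact (MorphismProperty.cancel_left_of_respectsIso @GeometricallyIntegral e.hom _).mpr inferInstance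
  have : LocallyOfFiniteType G.hom := by
    have : Algebra.FiniteType k (LaurentPolynomial k) := inferInstanceAs (Algebra.FiniteType k (AddMonoidAlgebra k ℤ))
    rw [← he]
    have : LocallyOfFiniteType (Spec.map (CommRingCat.ofHom (algebraMap k (LaurentPolynomial k)))) :=
      (HasRingHomProperty.Spec_iff (P := @LocallyOfFiniteType)).mpr
        (RingHom.finiteType_algebraMap.mpr ‹_›)
    infer_instance
  have : QuasiCompact G.hom := by rw [← he]; infer_instance
  have := Groth.Agent.FBase.BC.geometricallyConnected_of_geometricallyIrreducible G.hom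
  have hTu : IsUnit ((Scheme.ΓSpecIso (CommRingCat.of (LaurentPolynomial k))).inv.hom (LaurentPolynomial.T 1)) :=
    (LaurentPolynomial.isUnit_T 1).map _
  obtain ⟨ε, hε⟩ := Groth.Agent.RedPts.gm_surjective (S := Spec (CommRingCat.of k)) (X := G) (hTu.map e.hom.appTop.hom)
  have hval : ∀ {Z : Over (Spec (CommRingCat.of k))} (z : Z ⟶ G), Red.gmFn (z ≫ ε) =
      (z.left ≫ e.hom).appTop.hom ((Scheme.ΓSpecIso (CommRingCat.of (LaurentPolynomial k))).inv.hom (LaurentPolynomial.T 1)) :=
    fun z => by
      rw [Groth.Agent.RedPts.gm_comp, hε, Scheme.Hom.comp_appTop]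
      rfl
  have hone : η[G] ≫ ε = 1 := by
    apply Groth.Agent.RedPts.gm_injective
    rw [hval, hunit]
    exact (DiagRig.DSQuot.d_one (1 : ℤ)).symm
  have h1 : ∀ {Z : Over (Spec (CommRingCat.of k))}, (1 : Z ⟶ G) ≫ ε = 1 := fun {Z} => by
    rw [Hom.one_def, Category.assoc, hone, MonObj.comp_one]
  have key := S8709.result k G G η[G] η[G] (((fst G G * snd G G) ≫ ε) / ((fst G G ≫ ε) * (snd G G ≫ ε)))
    (by
      rw [GrpObj.comp_div, div_eq_one]
      simp only [← Category.assoc, MonObj.comp_mul, lift_fst, lift_snd, Category.id_comp, ← Hom.one_def,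
        _root_.mul_one, h1]
      apply Groth.Agent.RedPts.gm_injective
      rw [Groth.Agent.RedPts.gm_mul, Groth.Agent.RedPts.gmFn_eq_dFn (1 : G ⟶ Red.Gm _), DiagRig.DSQuot.d_one, _root_.mul_one])
    (by
      rw [GrpObj.comp_div, div_eq_one]
      simp only [← Category.assoc, MonObj.comp_mul, lift_fst, lift_snd, Category.id_comp, ← Hom.one_def,
        _root_.one_mul, h1]
      apply Groth.Agent.RedPts.gm_injective
      rw [Groth.Agent.RedPts.gm_mul, Groth.Agent.RedPts.gmFn_eq_dFn (1 : G ⟶ Red.Gm _), DiagRig.DSQuot.d_one, _root_.one_mul])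
  rw [div_eq_one] at key
  have hk2 := congrArg (fun z => Red.gmFn (lift g h ≫ z)) key
  simp only [← Category.assoc, MonObj.comp_mul, lift_fst, lift_snd, lift_fst_assoc, lift_snd_assoc,
    Groth.Agent.RedPts.gm_mul, hval] at hk2
  exact hk2

end Groth.Agent.S14637
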