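import Groth.Statements.S14638
import Groth.Agent.GrpdLib.OpenOrbit.Main

set_option autoImplicit false
universe u
open CategoryTheory MonoidalCategory CartesianMonoidalCategory MonObj GrpObj AlgebraicGeometry CategoryTheory.Limits
open AlgGrp

set_option backward.isDefEq.respectTransparency false

namespace Groth.Agent.S14638

/-- Over a field k, let G be a smooth k-group scheme of finite type acting on a variety X (a separated,
geometrically integral k-scheme of finite type). Then X is almost homogeneous, i.e. the graph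
morphism G × X → X × X, (g, x) ↦ (x, g·x), is dominant, if and only if there is a nonempty open
subscheme U of X which is G-stable (the action restricts to an action on U) and homogeneous (the
graph morphism G × U → U × U is surjective). Moreover there is at most one such open subscheme U
(the open orbit). -/
theorem result (k : Type u) [Field k]
    (G X : Over (Spec (CommRingCat.of k))) [GrpObj G] [Smooth G.hom] [QuasiCompact G.hom]
    [IsSeparated X.hom] [LocallyOfFiniteType X.hom] [QuasiCompact X.hom] [GeometricallyIntegral X.hom]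
    (a : AlgGrp.Action G X) :
    (IsDominant (CartesianMonoidalCategory.lift (CartesianMonoidalCategory.snd G X) a.act).left ↔
      ∃ U : X.left.Opens, (U : Set ↥X.left).Nonempty ∧
        ∃ b : AlgGrp.Action G (Over.mk (U.ι ≫ X.hom)),
          (G ◁ (Over.homMk U.ι rfl : Over.mk (U.ι ≫ X.hom) ⟶ X)) ≫ a.act = b.act ≫ Over.homMk U.ι rfl ∧
          Surjective (CartesianMonoidalCategory.lift (CartesianMonoidalCategory.snd G (Over.mk (U.ι ≫ X.hom))) b.act).left) ∧
    ∀ U U' : X.left.Opens,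
      ((U : Set ↥X.left).Nonempty ∧ ∃ b : AlgGrp.Action G (Over.mk (U.ι ≫ X.hom)),
          (G ◁ (Over.homMk U.ι rfl : Over.mk (U.ι ≫ X.hom) ⟶ X)) ≫ a.act = b.act ≫ Over.homMk U.ι rfl ∧
          Surjective (CartesianMonoidalCategory.lift (CartesianMonoidalCategory.snd G (Over.mk (U.ι ≫ X.hom))) b.act).left) →
      ((U' : Set ↥X.left).Nonempty ∧ ∃ b' : AlgGrp.Action G (Over.mk (U'.ι ≫ X.hom)),
          (G ◁ (Over.homMk U'.ι rfl : Over.mk (U'.ι ≫ X.hom) ⟶ X)) ≫ a.act = b'.act ≫ Over.homMk U'.ι rfl ∧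
          Surjective (CartesianMonoidalCategory.lift (CartesianMonoidalCategory.snd G (Over.mk (U'.ι ≫ X.hom))) b'.act).left) →
      U = U' := by
  have hd : ∀ U : X.left.Opens, ∀ b : AlgGrp.Action G (Over.mk (U.ι ≫ X.hom)),
      (G ◁ (Over.homMk U.ι rfl : Over.mk (U.ι ≫ X.hom) ⟶ X)) ≫ a.act = b.act ≫ Over.homMk U.ι rfl →
      Surjective (CartesianMonoidalCategory.lift (CartesianMonoidalCategory.snd G (Over.mk (U.ι ≫ X.hom))) b.act).left →
      (∀ z : (G ⊗ X).left, (snd G X).left z ∈ U → a.act.left z ∈ U) ∧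
      ∀ x y : GrpdLib.OpenOrbit.Kbar k ⟶ X, GrpdLib.OpenOrbit.pt x ∈ U → GrpdLib.OpenOrbit.pt y ∈ U →
        ∃ g : GrpdLib.OpenOrbit.Kbar k ⟶ G, lift g x ≫ a.act = y := by
    intro U b hb hs
    let j : Over.mk (U.ι ≫ X.hom) ⟶ X := Over.homMk U.ι rfl
    refine ⟨fun z hz => ?_, fun x y hx hy => ?_⟩
    · obtain ⟨v, hv⟩ : z ∈ Set.range (G ◁ j).left := by
        rw [show (G ◁ j).left = pullback.map G.hom (U.ι ≫ X.hom) G.hom X.hom (𝟙 _) U.ι (𝟙 _) (by simp) (by simp) by
          apply pullback.hom_ext <;> simp [j, pullback.map]]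
        erw [Scheme.Pullback.range_map]
        refine ⟨?_, ⟨⟨_, hz⟩, rfl⟩⟩
        exact ⟨_, rfl⟩
      rw [← hv, ← Scheme.Hom.comp_apply, ← Over.comp_left, hb]
      exact Subtype.prop (b.act.left v)
    · have hl : ∀ x : GrpdLib.OpenOrbit.Kbar k ⟶ X, GrpdLib.OpenOrbit.pt x ∈ U →
          ∃ x' : GrpdLib.OpenOrbit.Kbar k ⟶ Over.mk (U.ι ≫ X.hom), x' ≫ j = x := fun x hx => by
        have hr : Set.range x.left ⊆ Set.range U.ι := by
          rintro _ ⟨s, rfl⟩
          rw [Scheme.Opens.range_ι]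
          rw [Subsingleton.elim (α := PrimeSpectrum (AlgebraicClosure k)) s (IsLocalRing.closedPoint _)]
          exact hx
        exact ⟨Over.homMk (IsOpenImmersion.lift U.ι x.left hr) (by
          show _ ≫ U.ι ≫ X.hom = _
          rw [IsOpenImmersion.lift_fac_assoc, Over.w x]), Over.OverMorphism.ext (IsOpenImmersion.lift_fac _ _ _)⟩
      obtain ⟨x', rfl⟩ := hl x hx
      obtain ⟨y', rfl⟩ := hl y hy
      haveI : LocallyOfFiniteType (Over.mk (U.ι ≫ X.hom)).hom := inferInstanceAs (LocallyOfFiniteType (U.ι ≫ X.hom))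
      haveI : CompactSpace X.left := QuasiCompact.compactSpace_of_compactSpace X.hom
      haveI : IsLocallyNoetherian X.left := LocallyOfFiniteType.isLocallyNoetherian X.hom
      haveI : QuasiCompact (Over.mk (U.ι ≫ X.hom)).hom := inferInstanceAs (QuasiCompact (U.ι ≫ X.hom))
      obtain ⟨g, hg⟩ := (S14645.surjective_graph_iff b (AlgebraicClosure k)).1 hs x' y'
      refine ⟨g, ?_⟩
      rw [← hg, Category.assoc, ← hb, lift_whiskerLeft_assoc]
  refine ⟨⟨fun h => ?_, ?_⟩, fun U U' ⟨hne, b, hb, hs⟩ ⟨hne', b', hb', hs'⟩ => ?_⟩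
  · obtain ⟨U, hne, hst, htr⟩ := GrpdLib.OpenOrbit.exists_open a h
    let j : Over.mk (U.ι ≫ X.hom) ⟶ X := Over.homMk U.ι rfl
    have hr : Set.range ((G ◁ j) ≫ a.act).left ⊆ Set.range U.ι := by
      rintro _ ⟨v, rfl⟩
      rw [Scheme.Opens.range_ι, Over.comp_left, Scheme.Hom.comp_apply]
      refine hst _ ?_
      rw [← Scheme.Hom.comp_apply, ← Over.comp_left, whiskerLeft_snd, Over.comp_left, Scheme.Hom.comp_apply]
      exact Subtype.prop ((snd G (Over.mk (U.ι ≫ X.hom))).left v)
    let act : G ⊗ Over.mk (U.ι ≫ X.hom) ⟶ Over.mk (U.ι ≫ X.hom) :=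
      Over.homMk (IsOpenImmersion.lift U.ι ((G ◁ j) ≫ a.act).left hr) (by
        show _ ≫ U.ι ≫ X.hom = _
        rw [IsOpenImmersion.lift_fac_assoc, Over.w])
    have hact : act ≫ j = (G ◁ j) ≫ a.act := Over.OverMorphism.ext (IsOpenImmersion.lift_fac _ _ _)
    haveI : Mono j := (Over.forget _).mono_of_mono_map (show Mono U.ι from inferInstance)
    let b : AlgGrp.Action G (Over.mk (U.ι ≫ X.hom)) :=
      { act := act
        one_act := by
          rw [← cancel_mono j, Category.assoc, hact, ← whisker_exchange_assoc, a.one_act, leftUnitor_naturality]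
        mul_act := by
          rw [← cancel_mono j]
          simp only [Category.assoc, hact]
          rw [← whisker_exchange_assoc, a.mul_act, associator_naturality_right_assoc, ← whiskerLeft_comp_assoc, ← hact,
            whiskerLeft_comp_assoc, hact] }
    refine ⟨U, hne, b, hact.symm, ?_⟩
    haveI : LocallyOfFiniteType (Over.mk (U.ι ≫ X.hom)).hom := inferInstanceAs (LocallyOfFiniteType (U.ι ≫ X.hom))
    haveI : CompactSpace X.left := QuasiCompact.compactSpace_of_compactSpace X.hom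
    haveI : IsLocallyNoetherian X.left := LocallyOfFiniteType.isLocallyNoetherian X.hom
    haveI : QuasiCompact (Over.mk (U.ι ≫ X.hom)).hom := inferInstanceAs (QuasiCompact (U.ι ≫ X.hom))
    refine (S14645.surjective_graph_iff b (AlgebraicClosure k)).2 fun x y => ?_
    obtain ⟨g, hg⟩ := htr (x ≫ j) (y ≫ j) (by rw [GrpdLib.OpenOrbit.pt_comp]; exact Subtype.prop (GrpdLib.OpenOrbit.pt x))
      (by rw [GrpdLib.OpenOrbit.pt_comp]; exact Subtype.prop (GrpdLib.OpenOrbit.pt y))
    refine ⟨g, ?_⟩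
    rw [← cancel_mono j, Category.assoc]
    show lift g x ≫ act ≫ j = _
    rw [hact, lift_whiskerLeft_assoc, hg]
  · rintro ⟨U, hne, b, hb, hs⟩
    haveI := GrpdLib.OpenOrbit.irreducible_tensor (X := X)
    let j : Over.mk (U.ι ≫ X.hom) ⟶ X := Over.homMk U.ι rfl
    have e : (G ◁ j) ≫ lift (snd G X) a.act = lift (snd G _) b.act ≫ (j ⊗ₘ j) := by
      apply CartesianMonoidalCategory.hom_ext <;> simp [hb, j]
    obtain ⟨x, hx⟩ := hne
    let O : Set (X ⊗ X).left := ((fst X X).left ⁻¹ᵁ U : Set (X ⊗ X).left) ∩ ((snd X X).left ⁻¹ᵁ U : Set (X ⊗ X).left)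
    have hOne : O.Nonempty := by
      obtain ⟨z, hz₁, hz₂⟩ := Scheme.Pullback.exists_preimage_pullback (f := X.hom) (g := X.hom) x x rfl
      exact ⟨z, show (fst X X).left z ∈ U by erw [hz₁]; exact hx, show (snd X X).left z ∈ U by erw [hz₂]; exact hx⟩
    have hsub : O ⊆ Set.range (j ⊗ₘ j).left := by
      rintro z ⟨h₁, h₂⟩
      rw [show (j ⊗ₘ j).left = pullback.map _ _ X.hom X.hom U.ι U.ι (𝟙 _) (by simp) (by simp) by
        ext1 <;> simp [j, pullback.map]]
      erw [Scheme.Pullback.range_map]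
      exact ⟨⟨⟨_, h₁⟩, rfl⟩, ⟨⟨_, h₂⟩, rfl⟩⟩
    have hOr : O ⊆ Set.range (lift (snd G X) a.act).left := fun z hz => by
      obtain ⟨v, rfl⟩ := hsub hz
      obtain ⟨w, rfl⟩ := hs.surj v
      refine ⟨(G ◁ j).left w, ?_⟩
      rw [← Scheme.Hom.comp_apply, ← Scheme.Hom.comp_apply, ← Over.comp_left, ← Over.comp_left, e]
    exact ⟨(((fst X X).left ⁻¹ᵁ U).2.inter ((snd X X).left ⁻¹ᵁ U).2 |>.dense hOne).mono hOr⟩
  · exact le_antisymm (GrpdLib.OpenOrbit.le_of_stable a (hd U b hb hs).2 (hd U' b' hb' hs').1 hne hne')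
      (GrpdLib.OpenOrbit.le_of_stable a (hd U' b' hb' hs').2 (hd U b hb hs).1 hne' hne)

end Groth.Agent.S14638
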