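import Groth.Statements.S14639
import Mathlib

set_option autoImplicit false
universe u
open Polynomial
open AlgGrp

namespace Groth.Agent.S14639

section

open Finset

variable {k : Type u} [Field k] {R : Type u} [CommRing R] [Algebra k R]

theorem coeffs_mem [CharZero k] (A : Submodule k R) : ∀ (N : ℕ) (v : ℕ → R),
    (∀ a : k, ∑ j ∈ range N, a ^ j • v j ∈ A) → ∀ j < N, v j ∈ A := by
  intro N v h
  let V := Matrix.vandermonde fun i : Fin N => ((i : ℕ) : k)
  have hV : V.det ≠ 0 := Matrix.det_vandermonde_ne_zero_iff.2 fun a b e => Fin.ext (Nat.cast_injective e)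
  intro j hj
  have e : (∑ i : Fin N, V⁻¹ ⟨j, hj⟩ i • ∑ l ∈ range N, ((i : ℕ) : k) ^ l • v l) = v j := by
    simp only [smul_sum, smul_smul]
    rw [sum_comm, sum_eq_single j]
    · rw [← sum_smul]
      have := congrFun (congrFun (Matrix.nonsing_inv_mul V (isUnit_iff_ne_zero.2 hV)) ⟨j, hj⟩) ⟨j, hj⟩
      simp only [Matrix.mul_apply, V, Matrix.vandermonde_apply, Matrix.one_apply_eq] at this
      rw [this, one_smul]
    · intro l hl hne
      rw [← sum_smul]
      have := congrFun (congrFun (Matrix.nonsing_inv_mul V (isUnit_iff_ne_zero.2 hV)) ⟨j, hj⟩) ⟨l, mem_range.1 hl⟩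
      simp only [Matrix.mul_apply, V, Matrix.vandermonde_apply] at this
      rw [this, Matrix.one_apply_ne (fun e => hne (congrArg Fin.val e).symm), zero_smul]
    · simp [hj]
  rw [← e]
  exact sum_mem fun i _ => A.smul_mem _ (h _)

end

/-- Classification of the subalgebras of a truncated polynomial ring that are stable under the unipotent
substitutions, which is the algebraic step behind the classification of curves almost homogeneous
under the additive group in characteristic zero. Let k be a field of characteristic zero, N ≥ 0 and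
R = k[u]/(u^(N+1)). The additive group acts on R through the substitutions u ↦ u/(1 + a u), a in k.
If A is a k-subalgebra of R stable under all these substitutions (stated for every k-algebra
endomorphism σ of R with σ(u)(1 + a u) = u for some a in k), then there is an integer n with 1 ≤ n ≤
N + 1 such that A = k ⊕ (u^n): as a k-subspace, A is the span of 1 plus the ideal generated by u^n.
(In positive characteristic p and for N ≥ p + 1, the subalgebra generated by u^p is stable and not
of this form.) -/
theorem result (k : Type u) [Field k] [CharZero k]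
    (N : ℕ) (A : Subalgebra k (AdjoinRoot ((Polynomial.X : Polynomial k) ^ (N + 1))))
    (hA : ∀ (a : k) (σ : AdjoinRoot ((Polynomial.X : Polynomial k) ^ (N + 1)) →ₐ[k] AdjoinRoot ((Polynomial.X : Polynomial k) ^ (N + 1))),
      σ (AdjoinRoot.root ((Polynomial.X : Polynomial k) ^ (N + 1))) * (1 + algebraMap k (AdjoinRoot ((Polynomial.X : Polynomial k) ^ (N + 1))) a * AdjoinRoot.root ((Polynomial.X : Polynomial k) ^ (N + 1))) = AdjoinRoot.root ((Polynomial.X : Polynomial k) ^ (N + 1)) →
        A.map σ ≤ A) :
    ∃ n : ℕ, 1 ≤ n ∧ n ≤ N + 1 ∧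
      Subalgebra.toSubmodule A =
        Submodule.span k {1} ⊔ (Ideal.span {AdjoinRoot.root ((Polynomial.X : Polynomial k) ^ (N + 1)) ^ n}).restrictScalars k := by
  classical
  let f : Polynomial k := Polynomial.X ^ (N + 1)
  let u : AdjoinRoot f := AdjoinRoot.root f
  have hu : u ^ (N + 1) = 0 := by
    have := AdjoinRoot.eval₂_root f
    simpa [f] using this
  have hbasis : ∀ x : AdjoinRoot f, ∃ c : ℕ → k, x = ∑ i ∈ Finset.range (N + 1), c i • u ^ i := fun x => by
    obtain ⟨P, rfl⟩ := AdjoinRoot.mk_surjective x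
    refine ⟨fun i => P.coeff i, ?_⟩
    rw [← AdjoinRoot.aeval_eq, Polynomial.aeval_eq_sum_range' (n := max (P.natDegree + 1) (N + 1)) (by omega)]
    refine (Finset.sum_subset (Finset.range_subset_range.2 (le_max_right _ _)) fun i _ hi => ?_).symm
    rw [show u ^ i = 0 from pow_eq_zero_of_le (by simpa using hi) hu, smul_zero]
  -- the derivation `u² d/du`
  let v : ℕ → ℕ → AdjoinRoot f := fun i j => (((-1) ^ j * ((i + j - 1).choose j) : ℤ) : k) • u ^ (i + j)
  have hσ : ∀ a : k, ∃ σ : AdjoinRoot f →ₐ[k] AdjoinRoot f, A.map σ ≤ A ∧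
      σ u = u * ∑ l ∈ Finset.range (N + 1), (-a) ^ l • u ^ l := fun a => by
    let w := u * ∑ l ∈ Finset.range (N + 1), (-a) ^ l • u ^ l
    have hw : Polynomial.aeval w f = 0 := by simp [f, w, mul_pow, hu]
    refine ⟨AdjoinRoot.liftAlgHom f (Algebra.ofId k _) w hw, hA a _ ?_, AdjoinRoot.liftAlgHom_root ..⟩
    rw [AdjoinRoot.liftAlgHom_root]
    have hg := geom_sum_mul_neg (-(algebraMap k (AdjoinRoot f) a * u)) (N + 1)
    rw [neg_pow (algebraMap k (AdjoinRoot f) a * u), mul_pow, hu, mul_zero, mul_zero, sub_zero, sub_neg_eq_add] at hg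
    show w * (1 + algebraMap k (AdjoinRoot f) a * u) = u
    conv_rhs => rw [← mul_one u, ← hg]
    simp only [w, mul_assoc, Algebra.smul_def, map_pow, map_neg, ← mul_pow, neg_mul]

  -- modulo higher powers, `σ u^i = u^i - i a u^(i+1) + ...`
  have hstep : ∀ x ∈ A, ∀ c : ℕ → k, x = ∑ i ∈ Finset.range (N + 1), c i • u ^ i →
      ∑ i ∈ Finset.range (N + 1), (c i * i) • u ^ (i + 1) ∈ A := by
    intro x hx c hc
    let G : Polynomial (AdjoinRoot f) := ∑ l ∈ Finset.range (N + 1), Polynomial.C ((-1) ^ l * u ^ l) * Polynomial.X ^ l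
    let P : Polynomial (AdjoinRoot f) := ∑ i ∈ Finset.range (N + 1), Polynomial.C (c i • u ^ i) * G ^ i
    have hev : ∀ a : k, P.eval (algebraMap k _ a) ∈ A.toSubmodule := fun a => by
      obtain ⟨σ, hle, hσu⟩ := hσ a
      have e : P.eval (algebraMap k _ a) = σ x := by
        rw [hc]
        simp only [P, G, Polynomial.eval_finsetSum, Polynomial.eval_mul, Polynomial.eval_C, Polynomial.eval_pow,
          Polynomial.eval_X, map_sum, map_smul, map_pow, hσu, mul_pow, smul_mul_assoc]
        refine Finset.sum_congr rfl fun i _ => congrArg _ (congrArg _ (congrArg (· ^ i) (Finset.sum_congr rfl fun l _ => ?_)))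
        rw [Algebra.smul_def, map_pow, map_neg, neg_pow (algebraMap k (AdjoinRoot f) a)]
        ring
      rw [e]
      exact hle ⟨x, hx, rfl⟩
    have hsum : ∀ a : k, ∑ j ∈ Finset.range (P.natDegree + 2), a ^ j • P.coeff j ∈ A.toSubmodule := fun a => by
      have h := hev a
      rw [Polynomial.eval_eq_sum_range' (n := P.natDegree + 2) (by omega)] at h
      convert h using 2 with j _
      rw [Algebra.smul_def, map_pow, mul_comm]
    have h1 := coeffs_mem A.toSubmodule _ _ hsum 1 (by omega)
    have hG1 : G.coeff 1 = -u ∨ N = 0 := by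
      by_cases hN : N = 0
      · exact Or.inr hN
      refine Or.inl ?_
      simp only [G, Polynomial.finsetSum_coeff, Polynomial.coeff_C_mul_X_pow]
      rw [Finset.sum_ite_eq, if_pos (Finset.mem_range.2 (by omega))]
      simp
    have hG0 : G.coeff 0 = 1 := by
      simp only [G, Polynomial.finsetSum_coeff, Polynomial.coeff_C_mul_X_pow]
      rw [Finset.sum_ite_eq, if_pos (Finset.mem_range.2 (by omega))]
      simp
    have hpow : ∀ i : ℕ, (G ^ i).coeff 1 = (i : AdjoinRoot f) * G.coeff 1 ∧ (G ^ i).coeff 0 = 1 := by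
      intro i
      induction i with
      | zero => simp [Polynomial.coeff_one]
      | succ i ih =>
        rw [pow_succ, Polynomial.mul_coeff_one, Polynomial.mul_coeff_zero, ih.1, ih.2, hG0]
        exact ⟨by push_cast; ring, one_mul _⟩
    have e1 : P.coeff 1 = -∑ i ∈ Finset.range (N + 1), (c i * i) • u ^ (i + 1) := by
      simp only [P, Polynomial.finsetSum_coeff, Polynomial.coeff_C_mul, (hpow _).1, ← Finset.sum_neg_distrib]
      refine Finset.sum_congr rfl fun i hi => ?_
      rcases hG1 with h | h
      · rw [h, Algebra.smul_def, Algebra.smul_def, map_mul, map_natCast]; ring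
      · have : i = 0 := by have := Finset.mem_range.1 hi; omega
        simp [this]
    rw [e1] at h1
    simpa using h1
  -- least order
  let S : Finset ℕ := (Finset.Icc 1 N).filter fun m => ∃ x ∈ A, ∃ c : ℕ → k,
    x = ∑ i ∈ Finset.range (N + 1), c i • u ^ i ∧ c m ≠ 0
  by_cases hS : S.Nonempty
  · set n := S.min' hS with hn
    obtain ⟨hnI, x, hx, c, hc, hcn⟩ := Finset.mem_filter.1 (S.min'_mem hS)
    obtain ⟨hn1, hnN⟩ := Finset.mem_Icc.1 hnI
    have hlow : ∀ y ∈ A, ∀ d : ℕ → k, y = ∑ i ∈ Finset.range (N + 1), d i • u ^ i → ∀ i, 1 ≤ i → i < n → d i = 0 := by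
      intro y hy d hd i hi hin
      by_contra hne
      have hm : i ∈ S := Finset.mem_filter.2 ⟨Finset.mem_Icc.2 ⟨hi, by omega⟩, y, hy, d, hd, hne⟩
      exact absurd (S.min'_le i hm) (by omega)
    have hlead : ∀ j, n + j ≤ N → ∃ e : ℕ → k, (∀ i < n + j, e i = 0) ∧ e (n + j) ≠ 0 ∧
        ∑ i ∈ Finset.range (N + 1), e i • u ^ i ∈ A := by
      intro j
      induction j with
      | zero =>
        intro _
        refine ⟨fun i => if i = 0 then 0 else c i, fun i hi => ?_, ?_, ?_⟩
        · by_cases h : i = 0
          · simp [h]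
          · simp only [h, if_false]; exact hlow x hx c hc i (by omega) (by omega)
        · simpa [show n ≠ 0 by omega] using hcn
        · have e : ∑ i ∈ Finset.range (N + 1), (if i = 0 then 0 else c i) • u ^ i = x - algebraMap k _ (c 0) := by
            rw [hc, Finset.sum_range_succ', Finset.sum_range_succ' (fun i => c i • u ^ i)]
            simp [Algebra.smul_def, AdjoinRoot.algebraMap_eq]
          rw [e]
          exact A.sub_mem hx (A.algebraMap_mem _)
      | succ j ih =>
        intro hj
        obtain ⟨e, he0, hen, heA⟩ := ih (by omega)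
        refine ⟨fun i => if i = 0 then 0 else e (i - 1) * ((i - 1 : ℕ) : k), fun i hi => ?_, ?_, ?_⟩
        · by_cases h : i = 0
          · simp [h]
          · simp [h, he0 (i - 1) (by omega)]
        · simp only [show n + (j + 1) ≠ 0 by omega, if_false, show n + (j + 1) - 1 = n + j by omega]
          exact mul_ne_zero hen (Nat.cast_ne_zero.2 (by omega))
        · convert hstep _ heA e rfl using 1
          rw [Finset.sum_range_succ', Finset.sum_range_succ (fun i => (e i * (i : k)) • u ^ (i + 1)), hu]
          simp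
    have hpows : ∀ t m, N + 1 ≤ m + t → n ≤ m → u ^ m ∈ A := by
      intro t
      induction t with
      | zero => intro m hm _; rw [show u ^ m = 0 from pow_eq_zero_of_le (by omega) hu]; exact A.zero_mem
      | succ t ih =>
        intro m hm hnm
        by_cases hmN : N + 1 ≤ m
        · rw [show u ^ m = 0 from pow_eq_zero_of_le hmN hu]; exact A.zero_mem
        obtain ⟨e, he0, hem, heA⟩ := hlead (m - n) (by omega)
        rw [Nat.add_sub_cancel' hnm] at he0 hem
        rw [← Finset.add_sum_erase _ _ (Finset.mem_range.2 (by omega : m < N + 1))] at heA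
        have hrest : ∑ i ∈ (Finset.range (N + 1)).erase m, e i • u ^ i ∈ A := by
          refine sum_mem fun i hi => ?_
          by_cases h : i < m
          · simp [he0 i h]
          · exact A.toSubmodule.smul_mem _ (ih i (by have := (Finset.mem_erase.1 hi).1; omega) (by omega))
        have := A.toSubmodule.smul_mem (e m)⁻¹ (A.sub_mem heA hrest : _ ∈ A.toSubmodule)
        simpa [smul_smul, inv_mul_cancel₀ hem] using this
    refine ⟨n, hn1, by omega, le_antisymm ?_ (sup_le ?_ ?_)⟩
    · intro y hy
      obtain ⟨d, hd⟩ := hbasis y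
      rw [hd]
      refine sum_mem fun i _ => ?_
      rcases Nat.eq_zero_or_pos i with rfl | hi
      · exact Submodule.smul_mem _ _ (Submodule.mem_sup_left (Submodule.subset_span (by simp)))
      · by_cases hin : i < n
        · simp [hlow y hy d hd i hi hin]
        · exact Submodule.smul_mem _ _ (Submodule.mem_sup_right (Ideal.mem_span_singleton.2 (pow_dvd_pow _ (by omega))))
    · rw [Submodule.span_le]; rintro _ rfl; exact A.one_mem
    · intro y hy
      obtain ⟨z, rfl⟩ := Ideal.mem_span_singleton.1 hy
      obtain ⟨d, rfl⟩ := hbasis z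
      rw [Finset.mul_sum]
      refine sum_mem fun i _ => ?_
      rw [mul_smul_comm, ← pow_add]
      exact A.toSubmodule.smul_mem _ (hpows (N + 1) (n + i) (by omega) (by omega))
  · refine ⟨N + 1, by omega, le_rfl, le_antisymm ?_ (sup_le ?_ ?_)⟩
    · intro y hy
      obtain ⟨d, hd⟩ := hbasis y
      rw [hd]
      refine Submodule.mem_sup_left (sum_mem fun i hi => ?_)
      rcases Nat.eq_zero_or_pos i with rfl | hi'
      · exact Submodule.smul_mem _ _ (Submodule.subset_span (by simp))
      · have : d i = 0 := by
          by_contra hne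
          exact hS ⟨i, Finset.mem_filter.2 ⟨Finset.mem_Icc.2 ⟨hi', by have := Finset.mem_range.1 hi; omega⟩, y, hy, d, hd, hne⟩⟩
        simp [this]
    · rw [Submodule.span_le]; rintro _ rfl; exact A.one_mem
    · intro y hy
      obtain ⟨z, rfl⟩ := Ideal.mem_span_singleton.1 hy
      rw [show AdjoinRoot.root f ^ (N + 1) = 0 from hu, zero_mul]
      exact A.zero_mem

end Groth.Agent.S14639
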