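import Groth.Statements.S14640
import Groth.Agent.GrpScheme.ClosedImage

set_option autoImplicit false
universe u
open CategoryTheory MonoidalCategory CartesianMonoidalCategory MonObj GrpObj AlgebraicGeometry CategoryTheory.Limits
open AlgGrp

namespace Groth.Agent.S14640

open CategoryTheory.Limits Groth.Agent.GrpScheme
set_option backward.isDefEq.respectTransparency false

variable {k : Type u} [Field k] {G G0 X : Over (Spec (CommRingCat.of k))} [GrpObj G] [GrpObj G0]

/-- If the generic point of `X ⊗ S` is hit by `G`, then it is hit by an open subgroup. -/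
lemma key [LocallyOfFiniteType G.hom] (i : G0 ⟶ G) [IsMonHom i] [IsOpenImmersion i.left]
    (a : AlgGrp.Action G X) (a0 : AlgGrp.Action G0 X) (ha0 : a0.act = (i ▷ X) ≫ a.act)
    (S : Over (Spec (CommRingCat.of k))) (σ : S ⟶ X) [IrreducibleSpace (X ⊗ S).left]
    (h : genericPoint (X ⊗ S).left ∈ Set.range (lift (Basic.smul a (fst G S) (snd G S ≫ σ)) (snd G S)).left) :
    genericPoint (X ⊗ S).left ∈ Set.range (lift (Basic.smul a0 (fst G0 S) (snd G0 S ≫ σ)) (snd G0 S)).left := by
  set Ψ := lift (Basic.smul a (fst G S) (snd G S ≫ σ)) (snd G S)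
  set Ψ₀ := lift (Basic.smul a0 (fst G0 S) (snd G0 S ≫ σ)) (snd G0 S)
  have hG0 : ∀ {T : Over (Spec (CommRingCat.of k))} (g : T ⟶ G0) (x : T ⟶ X),
      Basic.smul a (g ≫ i) x = Basic.smul a0 g x := by
    intro T g x
    simp only [Basic.smul, ha0, lift_whiskerRight_assoc]
  haveI : JacobsonSpace G.left := LocallyOfFiniteType.jacobsonSpace G.hom
  obtain ⟨q, hq⟩ := h
  set g := (fst G S).left q
  -- translates of the open subgroup by closed points cover `G`
  obtain ⟨c, hc, r, hr⟩ : ∃ (c : G.left), IsClosed ({c} : Set G.left) ∧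
      g ∈ Set.range ((fst (Points.pointObj G c) G0 ≫ Points.pointHom G c) * (snd (Points.pointObj G c) G0 ≫ i)).left := by
    let M : ∀ c : G.left, Points.pointObj G c ⊗ G0 ⟶ G := fun c =>
      (fst (Points.pointObj G c) G0 ≫ Points.pointHom G c) * (snd (Points.pointObj G c) G0 ≫ i)
    let O : Set G.left := ⋃ c ∈ closedPoints G.left, Set.range (M c).left
    have hO : IsOpen O := isOpen_biUnion fun c _ => by
      have e : M c = (Points.pointObj G c ◁ i) ≫
          (Basic.shear (Basic.leftAction G) (Points.pointHom G c)).hom ≫ snd _ G := by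
        simp only [M, Basic.shear, Basic.smul, Basic.leftAction, Hom.mul_def, lift_snd, ← Category.assoc]
        congr 1
        refine CartesianMonoidalCategory.hom_ext _ _ ?_ ?_ <;> simp
      haveI := Basic.isIso_left (Basic.shear (Basic.leftAction G) (Points.pointHom G c)).hom
      haveI : UniversallyOpen (snd (Points.pointObj G c) G).left := Basic.snd_left_mem @UniversallyOpen inferInstance
      haveI : IsOpenImmersion (Points.pointObj G c ◁ i).left := Basic.whiskerLeft_mem @IsOpenImmersion i _ inferInstance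
      rw [e, Over.comp_left, Over.comp_left]
      exact (Scheme.Hom.isOpenMap _).isOpen_range
    have hgO : g ∈ O := by
      by_contra hg
      obtain ⟨c, hc, hc'⟩ := nonempty_inter_closedPoints (Z := Oᶜ) ⟨g, hg⟩ hO.isClosed_compl.isLocallyClosed
      refine hc (Set.mem_biUnion hc' ?_)
      obtain ⟨t⟩ := (inferInstance : Nonempty (Points.pointObj G c).left)
      refine ⟨(lift (𝟙 (Points.pointObj G c)) 1).left t, ?_⟩
      rw [← Points.comp_apply, MonObj.comp_mul, lift_fst_assoc, lift_snd_assoc, Category.id_comp,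
        MonObj.one_comp, _root_.mul_one, Points.pointHom_apply]
    obtain ⟨c, hc, hc'⟩ := Set.mem_iUnion₂.1 hgO
    exact ⟨c, hc, hc'⟩
  let T := Points.pointObj G c
  let γ : T ⟶ G := Points.pointHom G c
  let m : T ⊗ G0 ⟶ G := (fst T G0 ≫ γ) * (snd T G0 ≫ i)
  obtain ⟨r', hr', -⟩ := Scheme.exists_preimage_of_isPullback
    ((Basic.isPullback_whiskerRight (R := S) m).map (Over.forget _)) q r hr.symm
  -- the translation of `T ⊗ (X ⊗ S)`
  let Φ : T ⊗ (X ⊗ S) ≅ T ⊗ (X ⊗ S) :=
  { hom := lift (fst _ _) (lift (Basic.smul a (fst _ _ ≫ γ) (snd _ _ ≫ fst X S)) (snd _ _ ≫ snd X S))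
    inv := lift (fst _ _) (lift (Basic.smul a (fst _ _ ≫ γ)⁻¹ (snd _ _ ≫ fst X S)) (snd _ _ ≫ snd X S))
    hom_inv_id := by
      refine CartesianMonoidalCategory.hom_ext _ _ (by simp) (CartesianMonoidalCategory.hom_ext _ _ ?_ (by simp))
      simp only [Category.assoc, lift_snd, lift_fst, Basic.comp_smul, GrpObj.comp_inv, lift_fst_assoc,
        lift_snd_assoc, Category.id_comp, Basic.inv_smul_smul']
    inv_hom_id := by
      refine CartesianMonoidalCategory.hom_ext _ _ (by simp) (CartesianMonoidalCategory.hom_ext _ _ ?_ (by simp))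
      simp only [Category.assoc, lift_snd, lift_fst, Basic.comp_smul, lift_fst_assoc,
        lift_snd_assoc, Category.id_comp, Basic.smul_inv_smul'] }
  let p := snd T (X ⊗ S)
  have hF : (m ▷ S) ≫ Ψ = (α_ T G0 S).hom ≫ (T ◁ Ψ₀) ≫ Φ.hom ≫ p := by
    refine CartesianMonoidalCategory.hom_ext _ _ ?_ ?_
    · simp only [Φ, p, Ψ, Ψ₀, m, Category.assoc, lift_snd, lift_fst, Basic.comp_smul, lift_fst_assoc,
        whiskerRight_fst, whiskerRight_snd_assoc, whiskerLeft_fst_assoc, whiskerLeft_snd_assoc,
        associator_hom_fst_assoc, associator_hom_snd_fst_assoc, associator_hom_snd_snd_assoc]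
      rw [MonObj.comp_mul, Basic.mul_smul', ← hG0]
      simp
    · simp [Φ, p, Ψ, Ψ₀]
  -- `p` is finite
  haveI : IsClosedImmersion (G.left.fromSpecResidueField c) := isClosed_singleton_iff_isClosedImmersion.mp hc
  haveI : IsFinite T.hom := by
    haveI : LocallyOfFiniteType T.hom :=
      inferInstanceAs (LocallyOfFiniteType (G.left.fromSpecResidueField c ≫ G.hom))
    haveI : Subsingleton T.left := inferInstanceAs (Subsingleton (Spec (G.left.residueField c)))
    haveI : AlgebraicGeometry.IsReduced T.left := inferInstanceAs (AlgebraicGeometry.IsReduced (Spec (G.left.residueField c)))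
    exact (isFinite_iff_locallyOfFiniteType_of_jacobsonSpace (f := T.hom)).2 inferInstance
  haveI : IsFinite p.left := Basic.snd_left_mem @IsFinite inferInstance
  haveI : Flat p.left := Basic.snd_left_mem @Flat inferInstance
  set w := (T ◁ Ψ₀).left ((α_ T G0 S).hom.left r') with hw
  set η' := genericPoint (X ⊗ S).left with hη
  have h1 : p.left (Φ.hom.left w) = η' := by
    rw [hw, ← Points.comp_apply, ← Points.comp_apply, ← Points.comp_apply, ← hF, Points.comp_apply,
      show (m ▷ S).left r' = q from hr']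
    exact hq
  obtain ⟨w', hw', hw''⟩ := Flat.generalizingMap p.left (genericPoint_specializes (p.left w))
  have h2 : p.left (Φ.hom.left w') = η' := by
    have hsp : (Φ.hom ≫ p).left w' ⤳ (Φ.hom ≫ p).left w := hw'.map (Φ.hom ≫ p).left.continuous
    rw [Points.comp_apply, Points.comp_apply, h1] at hsp
    exact hsp.antisymm (genericPoint_specializes _) |>.eq
  haveI := (p.left.isDiscrete_preimage_singleton η').to_subtype
  have h3 : Φ.hom.left w' = Φ.hom.left w := by
    have h4 : (⟨_, h2⟩ : p.left ⁻¹' {η'}) ⤳ ⟨_, h1⟩ :=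
      (subtype_specializes_iff _ _).2 (hw'.map Φ.hom.left.continuous)
    exact congrArg Subtype.val h4.eq
  haveI : IsIso Φ.hom := ⟨Φ.inv, Φ.hom_inv_id, Φ.inv_hom_id⟩
  haveI := Basic.isIso_left Φ.hom
  rw [(Φ.hom.left.homeomorph).injective h3, hw, ← Points.comp_apply] at hw''
  refine ⟨(snd T (G0 ⊗ S)).left ((α_ T G0 S).hom.left r'), ?_⟩
  rw [← Points.comp_apply, ← whiskerLeft_snd]
  exact hw''

/-- Over a field k, let G be a smooth k-group scheme of finite type acting on a variety X (a separated,
geometrically integral k-scheme of finite type), and let i : G° → G be its identity component: a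
homomorphism which is an open immersion from a connected k-group scheme whose image is the connected
component of the unit element of G. Let G° act on X through i. Then X is homogeneous under G (the
graph morphism G × X → X × X, (g, x) ↦ (x, g·x), is surjective) if and only if it is homogeneous
under G°, and X is almost homogeneous under G (the graph morphism is dominant) if and only if it is
almost homogeneous under G°. -/
theorem result (k : Type u) [Field k]
    (G G0 X : Over (Spec (CommRingCat.of k))) [GrpObj G] [Smooth G.hom] [QuasiCompact G.hom]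
    [GrpObj G0] (i : G0 ⟶ G) [IsMonHom i] [IsOpenImmersion i.left] [ConnectedSpace ↥G0.left]
    (hi : Set.range i.left.base = connectedComponent ((η[G]).left.base (IsLocalRing.closedPoint k)))
    [IsSeparated X.hom] [LocallyOfFiniteType X.hom] [QuasiCompact X.hom] [GeometricallyIntegral X.hom]
    (a : AlgGrp.Action G X) (a0 : AlgGrp.Action G0 X) (ha0 : a0.act = (i ▷ X) ≫ a.act) :
    (Surjective (CartesianMonoidalCategory.lift (CartesianMonoidalCategory.snd G X) a.act).left ↔
      Surjective (CartesianMonoidalCategory.lift (CartesianMonoidalCategory.snd G0 X) a0.act).left) ∧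
    (IsDominant (CartesianMonoidalCategory.lift (CartesianMonoidalCategory.snd G X) a.act).left ↔
      IsDominant (CartesianMonoidalCategory.lift (CartesianMonoidalCategory.snd G0 X) a0.act).left) := by
  haveI hXi : IsIntegral X.left := GeometricallyIntegral.isIntegral_of_subsingleton X.hom
  haveI : IrreducibleSpace (X ⊗ X).left :=
    GeometricallyIrreducible.irreducibleSpace (pullback.snd X.hom X.hom) (pullback.snd X.hom X.hom).isOpenMap
  let g := lift (snd G X) a.act
  let g₀ := lift (snd G0 X) a0.act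
  have hg₀ : g₀ = (i ▷ X) ≫ g := by simp [g₀, g, ha0]
  have hg : g = lift (Basic.smul a (fst G X) (snd G X ≫ 𝟙 X)) (snd G X) ≫ (β_ X X).hom := by
    refine CartesianMonoidalCategory.hom_ext _ _ ?_ ?_ <;> simp [g, Basic.smul]
  have hg0 : g₀ = lift (Basic.smul a0 (fst G0 X) (snd G0 X ≫ 𝟙 X)) (snd G0 X) ≫ (β_ X X).hom := by
    refine CartesianMonoidalCategory.hom_ext _ _ ?_ ?_ <;> simp [g₀, Basic.smul]
  refine ⟨⟨fun hs => ⟨fun z => ?_⟩, fun hs => ⟨fun z => ?_⟩⟩, ⟨fun hd => ⟨?_⟩, fun hd => ⟨?_⟩⟩⟩
  · -- homogeneity for the open subgroup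
    let P := Points.pointHom (X ⊗ X) z
    let T := Points.pointObj (X ⊗ X) z
    haveI : IrreducibleSpace T.left := inferInstanceAs (IrreducibleSpace (Spec ((X ⊗ X).left.residueField z)))
    haveI : IrreducibleSpace (X ⊗ T).left :=
      GeometricallyIrreducible.irreducibleSpace (pullback.snd X.hom T.hom) (pullback.snd X.hom T.hom).isOpenMap
    let e := genericPoint (X ⊗ T).left
    let E := Points.pointHom (X ⊗ T) e
    have horb : ∀ x : T ⟶ X, e ∈ Set.range (lift (Basic.smul a0 (fst G0 T) (snd G0 T ≫ x)) (snd G0 T)).left := by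
      intro x
      refine key i a a0 ha0 T x ?_
      obtain ⟨T', ⟨t⟩, π, m, hm⟩ := Points.exists_lift g (E ≫ lift (snd X T ≫ x) (fst X T)) (fun s => hs.surj _)
      refine ⟨(lift (m ≫ fst G X) (π ≫ E ≫ snd X T)).left t, ?_⟩
      have e1 : m ≫ snd G X = π ≫ E ≫ snd X T ≫ x := by
        simpa [g] using congrArg (fun f => f ≫ fst X X) hm
      have e2 : m ≫ a.act = π ≫ E ≫ fst X T := by
        simpa [g] using congrArg (fun f => f ≫ snd X X) hm
      have e3 : lift (m ≫ fst G X) (π ≫ E ≫ snd X T) ≫ lift (Basic.smul a (fst G T) (snd G T ≫ x)) (snd G T) = π ≫ E := by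
        refine CartesianMonoidalCategory.hom_ext _ _ ?_ (by simp)
        rw [Category.assoc, Category.assoc, lift_fst, Basic.comp_smul, lift_fst, lift_snd_assoc,
          Category.assoc, Category.assoc, ← e1, ← e2, Basic.smul, ← comp_lift, lift_fst_snd, Category.comp_id]
      rw [← Points.comp_apply, e3, Points.comp_apply, Points.pointHom_apply]
    obtain ⟨T₁, _, π₁, m₁, hm₁⟩ := Points.exists_lift _ E (fun s => by
      rw [Points.pointHom_apply]; exact horb (P ≫ fst X X))
    obtain ⟨T₂, ⟨t⟩, π₂, m₂, hm₂⟩ := Points.exists_lift _ (π₁ ≫ E) (fun s => by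
      rw [Points.comp_apply, Points.pointHom_apply]; exact horb (P ≫ snd X X))
    let τ : T₂ ⟶ T := π₂ ≫ π₁ ≫ E ≫ snd X T
    have a1 : Basic.smul a0 (π₂ ≫ m₁ ≫ fst G0 T) (τ ≫ P ≫ fst X X) = π₂ ≫ π₁ ≫ E ≫ fst X T := by
      have u1 : m₁ ≫ snd G0 T = π₁ ≫ E ≫ snd X T := by
        simpa using congrArg (fun f => f ≫ snd X T) hm₁
      have u2 := congrArg (fun f => π₂ ≫ f ≫ fst X T) hm₁
      simp only [Category.assoc, lift_fst, Basic.comp_smul] at u2
      rw [← u2]
      simp only [τ, Category.assoc, reassoc_of% u1]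
    have a2 : Basic.smul a0 (m₂ ≫ fst G0 T) (τ ≫ P ≫ snd X X) = π₂ ≫ π₁ ≫ E ≫ fst X T := by
      have u1 : m₂ ≫ snd G0 T = π₂ ≫ π₁ ≫ E ≫ snd X T := by
        simpa using congrArg (fun f => f ≫ snd X T) hm₂
      have u2 := congrArg (fun f => f ≫ fst X T) hm₂
      simp only [Category.assoc, lift_fst, Basic.comp_smul] at u2
      rw [← u2]
      simp only [τ, Category.assoc, reassoc_of% u1]
    let γ := (m₂ ≫ fst G0 T)⁻¹ * (π₂ ≫ m₁ ≫ fst G0 T)
    have hγ : Basic.smul a0 γ (τ ≫ P ≫ fst X X) = τ ≫ P ≫ snd X X := by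
      rw [Basic.mul_smul', a1, ← a2, Basic.inv_smul_smul']
    refine ⟨(lift γ (τ ≫ P ≫ fst X X)).left t, ?_⟩
    have e4 : lift γ (τ ≫ P ≫ fst X X) ≫ g₀ = τ ≫ P := by
      refine CartesianMonoidalCategory.hom_ext _ _ (by simp [g₀]) ?_
      simp only [g₀, Category.assoc, lift_snd]
      exact hγ
    show g₀.left _ = z
    rw [← Points.comp_apply, e4, Points.comp_apply, Points.pointHom_apply]
  · obtain ⟨q, hq⟩ := hs.surj z
    refine ⟨(i ▷ X).left q, ?_⟩
    show g.left _ = z
    rw [← Points.comp_apply, ← hg₀]; exact hq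
  · -- almost homogeneity
    haveI : LocallyOfFiniteType (G ⊗ X).hom :=
      inferInstanceAs (LocallyOfFiniteType (pullback.fst G.hom X.hom ≫ G.hom))
    haveI : LocallyOfFiniteType (X ⊗ X).hom :=
      inferInstanceAs (LocallyOfFiniteType (pullback.fst X.hom X.hom ≫ X.hom))
    haveI : QuasiCompact (G ⊗ X).hom := inferInstanceAs (QuasiCompact (pullback.fst G.hom X.hom ≫ G.hom))
    haveI : IsSeparated (X ⊗ X).hom := inferInstanceAs (IsSeparated (pullback.fst X.hom X.hom ≫ X.hom))
    haveI := GrpdLib.GrpOver.lfp_left g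
    haveI : QuasiCompact (g.left ≫ (X ⊗ X).hom) := by rw [Over.w g]; infer_instance
    haveI : QuasiCompact g.left := QuasiCompact.of_comp g.left (X ⊗ X).hom
    have hd' : DenseRange g.left := hd.1
    haveI : Nonempty (X ⊗ X).left := inferInstance
    have hne : (Set.range g.left).Nonempty := by
      rw [Set.nonempty_iff_ne_empty]; intro h
      have h1 := hd'.closure_range
      rw [h, closure_empty] at h1
      exact Set.empty_ne_univ h1
    obtain ⟨O, hO, ⟨o, ho, -⟩, hsub⟩ := ClosedImage.exists_open_inter_closure_subset' (U := Set.range g.left)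
      (by simpa using g.left.isLocallyConstructible_image (s := Set.univ) Topology.IsConstructible.univ.isLocallyConstructible)
      hne
    rw [hd'.closure_range, Set.inter_univ] at hsub
    haveI := Basic.isIso_left (β_ X X).hom
    have hβ : (β_ X X).hom.left (genericPoint (X ⊗ X).left) = genericPoint (X ⊗ X).left :=
      ((genericPoint_spec (X ⊗ X).left).image (β_ X X).hom.left.continuous).eq (by
        rw [Set.image_univ, Function.Surjective.range_eq ((β_ X X).hom.left).surjective, closure_univ]
        exact genericPoint_spec _)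
    obtain ⟨q, hq⟩ := hsub ((genericPoint_specializes o).mem_open hO ho)
    have h := key i a a0 ha0 X (𝟙 X) ⟨q, by
      apply (Scheme.Hom.homeomorph (β_ X X).hom.left).injective
      show (β_ X X).hom.left _ = (β_ X X).hom.left _
      rw [← Points.comp_apply, ← hg, hq, hβ]⟩
    obtain ⟨r, hr⟩ := h
    show DenseRange g₀.left
    refine dense_iff_closure_eq.2 (Set.eq_univ_of_forall fun x => ?_)
    refine (genericPoint_specializes x).mem_closed isClosed_closure (subset_closure ⟨r, ?_⟩)
    rw [hg0, Points.comp_apply, hr, hβ]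
  · have hd' : DenseRange g₀.left := hd.1
    show DenseRange g.left
    refine Dense.mono ?_ hd'
    rintro _ ⟨q, rfl⟩
    exact ⟨(i ▷ X).left q, by rw [← Points.comp_apply, ← hg₀]⟩

end Groth.Agent.S14640
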