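import Groth.Statements.S14641
import Groth.Agent.GrpdLib.GrpLocal

set_option autoImplicit false
universe u
open CategoryTheory MonoidalCategory CartesianMonoidalCategory MonObj GrpObj AlgebraicGeometry CategoryTheory.Limits
open AlgGrp

namespace Groth.Agent.S14641

open Groth.Agent.GrpdLib.GrpOver Groth.Agent.GrpdLib.GrpLocal Groth.Agent.GrpScheme.Basic

/-- Over a field k, let G be a k-group scheme of finite type, i : H → G a closed subgroup scheme, and
(Q, o) the quotient G/H: a k-scheme with a G-action and a rational point o exhibiting it as the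
quotient (orbit map flat and surjective, G × H ≅ G ×_Q G). Let n : N → G be a closed subgroup scheme
which is the kernel of the action of G on Q, i.e. for every k-scheme T, a T-point g of G factors
through N exactly when g acts as the identity on Q_T (on all points of Q over T-schemes). Then N is
normal in G and contained in H, and N is the largest such subgroup: every closed subgroup scheme N'
of G which is normal in G and factors through H factors through N. -/
theorem result (k : Type u) [Field k]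
    (G H Q N : Over (Spec (CommRingCat.of k))) [GrpObj G] [LocallyOfFiniteType G.hom] [QuasiCompact G.hom]
    [GrpObj H] (i : H ⟶ G) [IsMonHom i] [IsClosedImmersion i.left]
    (a : AlgGrp.Action G Q) (o : 𝟙_ (Over (Spec (CommRingCat.of k))) ⟶ Q) (hQ : AGF.IsQuotient i Q a o)
    [GrpObj N] (n : N ⟶ G) [IsMonHom n] [IsClosedImmersion n.left]
    (hN : ∀ (T : Over (Spec (CommRingCat.of k))) (g : T ⟶ G),
      (∃ m : T ⟶ N, m ≫ n = g) ↔
        ∀ (T' : Over (Spec (CommRingCat.of k))) (s : T' ⟶ T) (x : T' ⟶ Q),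
          CartesianMonoidalCategory.lift (s ≫ g) x ≫ a.act = x) :
    AlgGrp.IsNormalHom n ∧ (∃ f : N ⟶ H, f ≫ i = n) ∧
      ∀ (N' : Over (Spec (CommRingCat.of k))) [GrpObj N'] (n' : N' ⟶ G) [IsMonHom n'] [IsClosedImmersion n'.left],
        AlgGrp.IsNormalHom n' → (∃ f : N' ⟶ H, f ≫ i = n') → ∃ f' : N' ⟶ N, f' ≫ n = n' := by
  obtain ⟨hQft, _, _, hsq⟩ := hQ
  have := quasiCompact_left (a.orbitMap o)
  have hmN : Mono n := ⟨fun x y e ↦ Over.OverMorphism.ext
    ((cancel_mono n.left).1 (congrArg Over.Hom.left e))⟩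
  have horb : ∀ {T : Over (Spec (CommRingCat.of k))} (g : T ⟶ G),
      g ≫ a.orbitMap o = smul a g (toUnit T ≫ o) := by
    intro T g; simp [AlgGrp.Action.orbitMap, smul, comp_lift_assoc]
  have hsq' : ∀ {T : Over (Spec (CommRingCat.of k))} (g g' : T ⟶ G),
      g ≫ a.orbitMap o = g' ≫ a.orbitMap o → ∃ h : T ⟶ H, g' = g * (h ≫ i) := by
    intro T g g' e
    obtain ⟨z, hz₁, hz₂⟩ : ∃ z : T ⟶ G ⊗ H, z ≫ fst G H = g ∧ z ≫ (G ◁ i) ≫ μ[G] = g' :=
      ⟨hsq.lift g g' e, hsq.lift_fst _ _ e, hsq.lift_snd _ _ e⟩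
    refine ⟨z ≫ snd G H, ?_⟩
    rw [← hz₂, mul_eq_mul, MonObj.comp_mul, MonObj.comp_mul, whiskerLeft_fst, whiskerLeft_snd,
      hz₁, Category.assoc]
  have hfix : ∀ {T : Over (Spec (CommRingCat.of k))} (h : T ⟶ H),
      smul a (h ≫ i) (toUnit T ≫ o) = toUnit T ≫ o := by
    intro T h
    have e := lift (1 : T ⟶ G) h ≫= hsq.w
    simp only [lift_fst_assoc, Category.assoc, lift_whiskerLeft_assoc] at e
    rw [← Category.assoc (lift (1 : T ⟶ G) (h ≫ i))] at e
    rw [show lift (1 : T ⟶ G) (h ≫ i) ≫ μ[G] = h ≫ i by rw [← Hom.mul_def, _root_.one_mul]] at e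
    rw [horb, horb, one_smul'] at e
    exact e.symm
  refine ⟨fun T g m ↦ ?_, ?_, ?_⟩
  · obtain ⟨m', hm'⟩ := (hN T (g * (m ≫ n) * g⁻¹)).2 fun T' s x ↦ by
      have := (hN T (m ≫ n)).1 ⟨m, rfl⟩ T' s (smul a (s ≫ g)⁻¹ x)
      change smul a _ _ = _ at this ⊢
      rw [MonObj.comp_mul, MonObj.comp_mul, GrpObj.comp_inv, mul_smul', mul_smul', this,
        ← mul_smul', mul_inv_cancel, one_smul']
    exact ⟨m', hm'.symm⟩
  · have := (hN N n).1 ⟨𝟙 N, Category.id_comp n⟩ N (𝟙 N) (toUnit N ≫ o)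
    obtain ⟨h, hh⟩ := hsq' 1 n (by rw [horb, horb, one_smul']; simpa [smul] using this.symm)
    exact ⟨h, by rw [hh, _root_.one_mul]⟩
  · intro N' _ n' _ _ hN' ⟨f, hf⟩
    refine (hN N' n').2 fun T' s x ↦ ?_
    change smul a _ x = x
    obtain ⟨T'', c, g, _, _, _, _, hg⟩ := exists_lift (a.orbitMap o) x
    apply cancel_left c
    obtain ⟨m, hm⟩ := hN' T'' g⁻¹ (c ≫ s)
    rw [_root_.inv_inv] at hm
    have hm' : (c ≫ s) ≫ n' = g * (m ≫ n') * g⁻¹ := by rw [← hm]; group
    have h1 : smul a (m ≫ n') (toUnit T'' ≫ o) = toUnit T'' ≫ o := by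
      rw [← hf, ← Category.assoc]; exact hfix _
    rw [comp_smul, ← Category.assoc, hm', ← hg, horb, ← mul_smul', inv_mul_cancel_right,
      mul_smul', h1]

end Groth.Agent.S14641
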