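import Groth.Statements.S14643
import Groth.Agent.GrpdLib.GrpOver

set_option autoImplicit false
universe u
open CategoryTheory MonoidalCategory CartesianMonoidalCategory MonObj GrpObj AlgebraicGeometry CategoryTheory.Limits
open AlgGrp

namespace Groth.Agent.S14643

/-- Over a field k, let G be a smooth k-group scheme of finite type acting on a variety X (a separated,
geometrically integral k-scheme of finite type). Let n : N → G be the kernel of the action: a closed
subgroup scheme such that, for every k-scheme T, a T-point of G factors through N exactly when it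
acts as the identity on all points of X over T-schemes. Let π : G → Q be a homomorphism onto a
k-group scheme of finite type which is flat and surjective with kernel N (the quotient G/N). Then
there is a unique action of Q on X inducing the given one along π; this action of Q is faithful (a
T-point of Q acting as the identity on all points of X over T-schemes is the unit); and X is
homogeneous under G (surjective graph morphism (g, x) ↦ (x, g·x)) if and only if it is homogeneous
under Q, and almost homogeneous under G (dominant graph morphism) if and only if it is almost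
homogeneous under Q. -/
theorem result (k : Type u) [Field k]
    (G N Q X : Over (Spec (CommRingCat.of k))) [GrpObj G] [Smooth G.hom] [QuasiCompact G.hom]
    [IsSeparated X.hom] [LocallyOfFiniteType X.hom] [QuasiCompact X.hom] [GeometricallyIntegral X.hom] (a : AlgGrp.Action G X)
    [GrpObj N] (n : N ⟶ G) [IsMonHom n] [IsClosedImmersion n.left]
    (hN : ∀ (T : Over (Spec (CommRingCat.of k))) (g : T ⟶ G),
      (∃ m : T ⟶ N, m ≫ n = g) ↔
        ∀ (T' : Over (Spec (CommRingCat.of k))) (s : T' ⟶ T) (x : T' ⟶ X), CartesianMonoidalCategory.lift (s ≫ g) x ≫ a.act = x)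
    [GrpObj Q] [LocallyOfFiniteType Q.hom] [QuasiCompact Q.hom] (π : G ⟶ Q) [IsMonHom π] [Flat π.left] [Surjective π.left]
    (hker : AlgGrp.IsKernel n π) :
    (∃! b : AlgGrp.Action Q X, (π ▷ X) ≫ b.act = a.act) ∧
    ∀ b : AlgGrp.Action Q X, (π ▷ X) ≫ b.act = a.act →
      (∀ (T : Over (Spec (CommRingCat.of k))) (q : T ⟶ Q),
        (∀ (T' : Over (Spec (CommRingCat.of k))) (s : T' ⟶ T) (x : T' ⟶ X), CartesianMonoidalCategory.lift (s ≫ q) x ≫ b.act = x) → q = 1) ∧
      (Surjective (CartesianMonoidalCategory.lift (CartesianMonoidalCategory.snd G X) a.act).left ↔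
        Surjective (CartesianMonoidalCategory.lift (CartesianMonoidalCategory.snd Q X) b.act).left) ∧
      (IsDominant (CartesianMonoidalCategory.lift (CartesianMonoidalCategory.snd G X) a.act).left ↔
        IsDominant (CartesianMonoidalCategory.lift (CartesianMonoidalCategory.snd Q X) b.act).left) := by
  have : IsMonHom π := inferInstance
  have : QuasiCompact π.left := GrpdLib.GrpOver.quasiCompact_left π
  have hπX : ∀ {A B : Over (Spec (CommRingCat.of k))} (f : A ⟶ B), Flat f.left → Surjective f.left →
      QuasiCompact f.left → ∀ R : Over (Spec (CommRingCat.of k)),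
      Flat (f ▷ R).left ∧ Surjective (f ▷ R).left ∧ QuasiCompact (f ▷ R).left :=
    fun f h₁ h₂ h₃ R => ⟨GrpScheme.Basic.whiskerRight_mem _ f R h₁, GrpScheme.Basic.whiskerRight_mem _ f R h₂,
      GrpScheme.Basic.whiskerRight_mem _ f R h₃⟩
  obtain ⟨_, _, _⟩ := hπX π inferInstance inferInstance inferInstance X
  have : EffectiveEpi (π ▷ X).left := inferInstance
  obtain ⟨b₀, hb₀, huniq⟩ := GrpdLib.GrpOver.existsUnique_desc (π ▷ X) a.act fun T p q e => by
    have e1 : (p ≫ fst G X) ≫ π = (q ≫ fst G X) ≫ π := by
      simpa [whiskerRight_fst] using e =≫ fst Q X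
    have e2 : p ≫ snd G X = q ≫ snd G X := by
      simpa [whiskerRight_snd] using e =≫ snd Q X
    have h1 : ((q ≫ fst G X)⁻¹ * (p ≫ fst G X)) ≫ π = 1 := by
      rw [MonObj.mul_comp, GrpObj.inv_comp, e1, inv_mul_cancel]
    obtain ⟨m, hm⟩ := GrpdLib.GrpOver.kernel_factor hker _ h1
    have h2 := (hN T _).1 ⟨m, hm⟩ T (𝟙 T) (p ≫ snd G X)
    rw [Category.id_comp] at h2
    have h3 : ∀ (r : T ⟶ G ⊗ X), r ≫ a.act = GrpScheme.Basic.smul a (r ≫ fst G X) (r ≫ snd G X) :=
      fun r => by rw [GrpScheme.Basic.smul, ← CartesianMonoidalCategory.comp_lift, lift_fst_snd, Category.comp_id]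
    rw [h3, h3, ← e2, ← mul_inv_cancel_left (q ≫ fst G X) (p ≫ fst G X), GrpScheme.Basic.mul_smul']
    exact congrArg _ h2
  let b : AlgGrp.Action Q X :=
    { act := b₀
      one_act := by
        rw [← show η[G] ≫ π = η[Q] from IsMonHom.one_hom π, comp_whiskerRight, Category.assoc, hb₀, a.one_act]
      mul_act := by
        obtain ⟨_, _, _⟩ := hπX π inferInstance inferInstance inferInstance G
        have h₁ : Flat (Q ◁ π).left ∧ Surjective (Q ◁ π).left ∧ QuasiCompact (Q ◁ π).left :=
          ⟨GrpScheme.Basic.whiskerLeft_mem _ π Q inferInstance, GrpScheme.Basic.whiskerLeft_mem _ π Q inferInstance,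
            GrpScheme.Basic.whiskerLeft_mem _ π Q inferInstance⟩
        obtain ⟨_, _, _⟩ := h₁
        have : Flat (π ⊗ₘ π).left ∧ Surjective (π ⊗ₘ π).left ∧ QuasiCompact (π ⊗ₘ π).left := by
          rw [MonoidalCategory.tensorHom_def, Over.comp_left]
          exact ⟨inferInstance, inferInstance, inferInstance⟩
        obtain ⟨_, _, _⟩ := this
        obtain ⟨_, _, _⟩ := hπX (π ⊗ₘ π) inferInstance inferInstance inferInstance X
        apply GrpdLib.GrpOver.cancel_left ((π ⊗ₘ π) ▷ X)
        rw [← comp_whiskerRight_assoc, ← IsMonHom.mul_hom, comp_whiskerRight, Category.assoc, hb₀, a.mul_act,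
          ← MonoidalCategory.tensorHom_id, associator_naturality_assoc, MonoidalCategory.tensorHom_id,
          ← MonoidalCategory.id_tensorHom Q b₀, tensorHom_comp_tensorHom_assoc, hb₀, Category.comp_id,
          MonoidalCategory.tensorHom_def', Category.assoc, hb₀] }
  refine ⟨⟨b, hb₀, fun b' hb' => ?_⟩, fun b' hb' => ?_⟩
  · obtain ⟨act', _, _⟩ := b'
    cases huniq act' hb'
    rfl
  have hgraph : lift (snd G X) a.act = (π ▷ X) ≫ lift (snd Q X) b'.act := by
    rw [CartesianMonoidalCategory.comp_lift, whiskerRight_snd, hb']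
  refine ⟨fun T q hq => ?_, ?_, ?_⟩
  · obtain ⟨T', c, g, _, _, _, _, hg⟩ := GrpdLib.GrpOver.exists_lift π q
    obtain ⟨m, hm⟩ := (hN T' g).2 fun T'' s x => by
      rw [← hb', lift_whiskerRight_assoc, Category.assoc, hg, ← Category.assoc]
      exact hq T'' (s ≫ c) x
    refine GrpdLib.GrpOver.cancel_left c ?_
    rw [MonObj.comp_one, ← hg, ← hm, GrpdLib.GrpOver.comp_kernel_comp hker]
  · rw [hgraph, Over.comp_left]
    exact ⟨fun h => Surjective.of_comp (π ▷ X).left _, fun h => inferInstance⟩
  · rw [hgraph, Over.comp_left]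
    exact ⟨fun h => IsDominant.of_comp (π ▷ X).left _, fun h => inferInstance⟩

end Groth.Agent.S14643
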