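import Groth.Statements.S14645
import Groth.Agent.GeomPts.Basic
import Groth.Agent.GrpScheme.ClosedImage

set_option autoImplicit false
universe u
open CategoryTheory MonoidalCategory CartesianMonoidalCategory MonObj GrpObj AlgebraicGeometry CategoryTheory.Limits
open AlgGrp

namespace Groth.Agent.S14645

open MonoidalCategory CartesianMonoidalCategory MonObj Limits Topology

lemma exists_point {k : Type u} [Field k] {A : Scheme.{u}} (p : A ⟶ Spec (CommRingCat.of k))
    [LocallyOfFiniteType p] (K : Type u) [Field K] [Algebra k K] [IsAlgClosure k K] (z : A)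
    (hz : IsClosed ({z} : Set A)) :
    ∃ y : Spec (CommRingCat.of K) ⟶ A, y (IsLocalRing.closedPoint K) = z ∧
      y ≫ p = Spec.map (CommRingCat.ofHom (algebraMap k K)) := by
  have : IsAlgClosed K := IsAlgClosure.isAlgClosed k
  let ip := A.fromSpecResidueField z
  have := isClosed_singleton_iff_isClosedImmersion.mp hz
  have : JacobsonSpace (Spec (CommRingCat.of k)) :=
    LocallyOfFiniteType.jacobsonSpace (𝟙 (Spec (CommRingCat.of k)))
  have hfin : IsFinite (ip ≫ p) :=
    (isFinite_iff_locallyOfFiniteType_of_jacobsonSpace).mpr inferInstance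
  have : Surjective (ip ≫ p) :=
    ⟨fun w => ⟨IsLocalRing.closedPoint _, Subsingleton.elim (α := PrimeSpectrum k) _ w⟩⟩
  obtain ⟨x, hx⟩ := GeomPts.exists_lift_algClosed (ip ≫ p) (Spec.map (CommRingCat.ofHom (algebraMap k K)))
  exact ⟨x ≫ ip, (Scheme.Hom.comp_apply _ _ _).trans (Scheme.fromSpecResidueField_apply z _),
    (Category.assoc _ _ _).trans hx⟩

theorem surjective_graph_iff {k : Type u} [Field k] {G X : Over (Spec (CommRingCat.of k))} [GrpObj G]
    [LocallyOfFiniteType G.hom] [QuasiCompact G.hom] [LocallyOfFiniteType X.hom] [QuasiCompact X.hom]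
    (a : AlgGrp.Action G X) (K : Type u) [Field K] [Algebra k K] [IsAlgClosure k K] :
    Surjective (lift (snd G X) a.act).left ↔
      ∀ x y : Over.mk (Spec.map (CommRingCat.ofHom (algebraMap k K))) ⟶ X,
        ∃ g : Over.mk (Spec.map (CommRingCat.ofHom (algebraMap k K))) ⟶ G, lift g x ≫ a.act = y := by
  have : IsAlgClosed K := IsAlgClosure.isAlgClosed k
  let P := Over.mk (Spec.map (CommRingCat.ofHom (algebraMap k K)))
  let Ψ := lift (snd G X) a.act
  have : LocallyOfFiniteType (X ⊗ X).hom :=
    inferInstanceAs (LocallyOfFiniteType (pullback.fst X.hom X.hom ≫ X.hom))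
  have : LocallyOfFiniteType (G ⊗ X).hom :=
    inferInstanceAs (LocallyOfFiniteType (pullback.fst G.hom X.hom ≫ G.hom))
  have : LocallyOfFiniteType (Ψ.left ≫ (X ⊗ X).hom) := by rw [Over.w]; infer_instance
  have : LocallyOfFiniteType Ψ.left := locallyOfFiniteType_of_comp Ψ.left (X ⊗ X).hom
  constructor
  · intro hs x y
    obtain ⟨w, hw⟩ := GeomPts.exists_lift_algClosed Ψ.left (lift x y).left
    let w' : P ⟶ G ⊗ X := Over.homMk w (by
      rw [← Over.w Ψ, reassoc_of% hw]; exact Over.w (lift x y))
    have e : w' ≫ Ψ = lift x y := Over.OverMorphism.ext hw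
    refine ⟨w' ≫ fst G X, ?_⟩
    have e1 : w' ≫ snd G X = x := by simpa [Ψ] using congrArg (· ≫ fst X X) e
    have e2 : w' ≫ a.act = y := by simpa [Ψ] using congrArg (· ≫ snd X X) e
    rw [← e1, ← comp_lift, lift_fst_snd, Category.comp_id, e2]
  · intro h
    change Surjective Ψ.left
    have : JacobsonSpace (X ⊗ X).left := LocallyOfFiniteType.jacobsonSpace (X ⊗ X).hom
    have : IsLocallyNoetherian (X ⊗ X).left := LocallyOfFiniteType.isLocallyNoetherian (X ⊗ X).hom
    have : QuasiCompact (G ⊗ X).hom :=
      inferInstanceAs (QuasiCompact (pullback.fst G.hom X.hom ≫ G.hom))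
    have : QuasiCompact (Ψ.left ≫ (X ⊗ X).hom) := by rw [Over.w]; infer_instance
    have : QuasiCompact Ψ.left := QuasiCompact.of_comp Ψ.left (X ⊗ X).hom
    refine ⟨fun z => ?_⟩
    by_contra hz
    have hc : IsLocallyConstructible (Set.range Ψ.left) := by
      have h0 : LocallyOfFinitePresentation Ψ.left := inferInstance
      simpa using Ψ.left.isLocallyConstructible_image (IsConstructible.univ.isLocallyConstructible)
    obtain ⟨O, hO, hne, hsub⟩ := GrpScheme.ClosedImage.exists_open_inter_closure_subset'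
      (U := (Set.range Ψ.left)ᶜ) (fun x => let ⟨U, hx, hU, hc'⟩ := hc x; ⟨U, hx, hU, hc'.compl⟩)
      ⟨z, hz⟩
    obtain ⟨w, ⟨hw, hwR⟩, hwc⟩ := nonempty_inter_closedPoints (Z := O ∩ closure (Set.range Ψ.left)ᶜ)
      (hne.mono fun v hv => ⟨hv.1, subset_closure hv.2⟩)
      (hO.isLocallyClosed.inter isClosed_closure.isLocallyClosed)
    obtain ⟨y, hy, hyp⟩ := exists_point (X ⊗ X).hom K w hwc
    let y' : P ⟶ X ⊗ X := Over.homMk y hyp
    obtain ⟨g, hg⟩ := h (y' ≫ fst X X) (y' ≫ snd X X)
    have e : lift g (y' ≫ fst X X) ≫ Ψ = y' := by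
      apply CartesianMonoidalCategory.hom_ext <;> simp [Ψ, hg]
    refine hsub ⟨hw, hwR⟩ ⟨(lift g (y' ≫ fst X X)).left (IsLocalRing.closedPoint K), ?_⟩
    rw [← hy]
    exact (Scheme.Hom.comp_apply _ _ _).symm.trans
      (congrArg (fun φ : P ⟶ X ⊗ X => φ.left (IsLocalRing.closedPoint K)) e)

/-- Over a field k with algebraic closure K, let G be a smooth k-group scheme of finite type acting on a
variety X (a separated, geometrically integral k-scheme of finite type). Then X is homogeneous under
G, i.e. the graph morphism G × X → X × X, (g, x) ↦ (x, g·x), is surjective, if and only if the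
abstract group G(K) of K-points over k acts transitively on the set X(K): for all K-points x, y of X
there is a K-point g of G with g · x = y. -/
theorem result (k : Type u) [Field k]
    (G X : Over (Spec (CommRingCat.of k))) [GrpObj G] [Smooth G.hom] [QuasiCompact G.hom]
    [IsSeparated X.hom] [LocallyOfFiniteType X.hom] [QuasiCompact X.hom] [GeometricallyIntegral X.hom] (a : AlgGrp.Action G X)
    (K : Type u) [Field K] [Algebra k K] [IsAlgClosure k K] :
    Surjective (CartesianMonoidalCategory.lift (CartesianMonoidalCategory.snd G X) a.act).left ↔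
      ∀ x y : Over.mk (Spec.map (CommRingCat.ofHom (algebraMap k K))) ⟶ X, ∃ g : Over.mk (Spec.map (CommRingCat.ofHom (algebraMap k K))) ⟶ G, CartesianMonoidalCategory.lift g x ≫ a.act = y := by
  exact surjective_graph_iff a K

end Groth.Agent.S14645
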