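import Groth.Statements.S14646
import Groth.Agent.Chow.Coords
import Groth.Agent.ProperFin.PnBase
import Mathlib.RingTheory.Spectrum.Prime.Homeomorph
import Mathlib.AlgebraicGeometry.Morphisms.UniversallyInjective
-- import your own Groth.Agent.* helpers here

set_option autoImplicit false
set_option backward.isDefEq.respectTransparency false
set_option backward.isDefEq.respectTransparency.types false
set_option linter.style.haveILetI false
universe u
open CategoryTheory CategoryTheory.Limits AlgebraicGeometry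
open AlgGrp

namespace Groth.Agent.S14646

open CategoryTheory CategoryTheory.Limits AlgebraicGeometry MvPolynomial Groth.Agent.Chow

noncomputable section

theorem universallyInjective_specMap (L N : Type u) [Field L] [Field N] [Algebra L N]
    [IsPurelyInseparable L N] : UniversallyInjective (Spec.map (CommRingCat.ofHom (algebraMap L N))) := by
  rw [UniversallyInjective.iff_diagonal]
  let f := Spec.map (CommRingCat.ofHom (algebraMap L N))
  have h1 : Subsingleton (PrimeSpectrum (TensorProduct L N N)) :=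
    ((PrimeSpectrum.comapEquiv (Algebra.TensorProduct.comm L N N).toRingEquiv).toEquiv.subsingleton_congr).2
      (PrimeSpectrum.isHomeomorph_comap_of_isPurelyInseparable L N N).bijective.injective.subsingleton
  have : Subsingleton ↥(Spec (CommRingCat.of (TensorProduct L N N))) := h1
  have h2 : Subsingleton ↥(pullback f f) := (pullbackSpecIso L N N).hom.homeomorph.injective.subsingleton
  exact ⟨fun y => ⟨IsLocalRing.closedPoint N, Subsingleton.elim _ _⟩⟩

variable {K : Type u} [Field K]

/-- The linear form `a X₀ + b X₁`. -/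
def lin (a b : K) : MvPolynomial (Fin (1 + 1)) K := C a * X 0 + C b * X 1

theorem lin_mem (a b : K) : lin a b ∈ CohB1.polyGrading 1 K 1 := by
  have h : ∀ (c : K) (i : Fin (1 + 1)), C c * X i ∈ CohB1.polyGrading 1 K 1 := fun c i => by
    simpa using SetLike.mul_mem_graded (Chow.C_mem c) (Chow.X_mem i)
  exact add_mem (h a 0) (h b 1)

theorem dehom_C (a b r : K) :
    ZetaLib.dehom (CohB1.polyGrading 1 K) (lin_mem a b) (C r) = scal 1 K (lin a b) r := by
  rw [ZetaLib.dehom_of_mem _ _ (Chow.C_mem r)]
  refine HomogeneousLocalization.val_injective _ ?_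
  simp [scal, HomogeneousLocalization.fromZeroRingHom]
  all_goals rfl

theorem dehom_lin (a b : K) : ZetaLib.dehom (CohB1.polyGrading 1 K) (lin_mem a b) (lin a b) = 1 := by
  rw [ZetaLib.dehom_of_mem _ _ (lin_mem a b)]
  refine HomogeneousLocalization.val_injective _ ?_
  simp [Localization.mk_self ⟨lin a b, Submonoid.mem_powers _⟩]

/-- The chart of a linear form is the affine line with coordinate a second linear form. -/
theorem exists_coord (a b c d : K) (h : a * d - b * c ≠ 0) :
    ∃ φ : HomogeneousLocalization.Away (CohB1.polyGrading 1 K) (lin a b) →+* Polynomial K,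
      Function.Bijective φ ∧ φ.comp (scal 1 K (lin a b)) = Polynomial.C ∧
      φ (ZetaLib.dehom (CohB1.polyGrading 1 K) (lin_mem a b) (lin c d)) = Polynomial.X := by
  let D := (a * d - b * c)⁻¹
  have hD : D * (a * d - b * c) = 1 := inv_mul_cancel₀ h
  let ev : MvPolynomial (Fin (1 + 1)) K →+* Polynomial K := MvPolynomial.eval₂Hom Polynomial.C
    ![Polynomial.C D * (Polynomial.C d - Polynomial.C b * Polynomial.X),
      Polynomial.C D * (Polynomial.C a * Polynomial.X - Polynomial.C c)]
  have hC : Polynomial.C D * (Polynomial.C a * Polynomial.C d - Polynomial.C b * Polynomial.C c) = 1 := by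
    rw [← map_mul, ← map_mul, ← map_sub, ← map_mul, hD, map_one]
  have hev0 : ev (lin a b) = 1 := by
    simp [ev, lin]
    linear_combination hC
  have hev1 : ev (lin c d) = Polynomial.X := by
    simp [ev, lin]
    linear_combination Polynomial.X * hC
  have hu : IsUnit (ev (lin a b)) := by rw [hev0]; exact isUnit_one
  let φ := away ev (lin a b) hu
  let dh' := ZetaLib.dehom (CohB1.polyGrading 1 K) (lin_mem a b)
  let ψ : Polynomial K →+* HomogeneousLocalization.Away (CohB1.polyGrading 1 K) (lin a b) :=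
    Polynomial.eval₂RingHom (scal 1 K _) (dh' (lin c d))
  have hdC : ∀ r : K, dh' (C r) = scal 1 K (lin a b) r := dehom_C a b
  have hd0 : dh' (lin a b) = 1 := dehom_lin a b
  have hψev : ψ.comp ev = dh' := by
    have e0 : (X 0 : MvPolynomial (Fin (1 + 1)) K) = C D * (C d * lin a b - C b * lin c d) := by
      have h' : (C D : MvPolynomial (Fin (1 + 1)) K) * (C a * C d - C b * C c) = 1 := by
        rw [← map_mul, ← map_mul, ← map_sub, ← map_mul, hD, map_one]
      simp only [lin]; linear_combination -(X 0) * h'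
    have e1 : (X 1 : MvPolynomial (Fin (1 + 1)) K) = C D * (C a * lin c d - C c * lin a b) := by
      have h' : (C D : MvPolynomial (Fin (1 + 1)) K) * (C a * C d - C b * C c) = 1 := by
        rw [← map_mul, ← map_mul, ← map_sub, ← map_mul, hD, map_one]
      simp only [lin]; linear_combination -(X 1) * h'
    refine MvPolynomial.ringHom_ext (fun r => ?_) fun i => ?_
    · rw [hdC]; simp [ψ, ev]
    · fin_cases i
      · show ψ (ev (X 0)) = dh' (X 0)
        rw [e0]; simp [map_mul, map_sub, hev0, hev1, hd0, hdC, ψ, ev]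
      · show ψ (ev (X 1)) = dh' (X 1)
        rw [e1]; simp [map_mul, map_sub, hev0, hev1, hd0, hdC, ψ, ev]
  have hφdh : ∀ p, φ (dh' p) = ev p := by
    intro p
    refine RingHom.congr_fun (MvPolynomial.ringHom_ext (f := φ.comp dh') (g := ev) (fun r => ?_) fun i => ?_) p
    · rw [RingHom.comp_apply, hdC]
      exact RingHom.congr_fun (away_scal ev (lin a b) hu (lin_mem a b)) r
    · rw [RingHom.comp_apply]
      show away ev _ hu (ZetaLib.dehom _ _ _) = _
      rw [ZetaLib.dehom_of_mem _ _ (Chow.X_mem i)]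
      simpa [hev0] using away_mk ev (lin a b) hu (lin_mem a b) 1 (X i) (by simpa using Chow.X_mem i)
  have hl : ∀ y, ψ (φ y) = y := fun y => by
    obtain ⟨z, rfl⟩ := ZetaLib.dehom_surjective (CohB1.polyGrading 1 K) (lin_mem a b) y
    exact (congrArg ψ (hφdh z)).trans (RingHom.congr_fun hψev z)
  refine ⟨φ, ⟨Function.LeftInverse.injective hl, fun p => ?_⟩, away_scal ev _ hu (lin_mem a b) |>.trans ?_,
    (hφdh _).trans hev1⟩
  · refine ⟨ψ p, ?_⟩
    refine RingHom.congr_fun (Polynomial.ringHom_ext (f := φ.comp ψ) (g := RingHom.id _) (fun r => ?_) ?_) p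
    · show φ (ψ (Polynomial.C r)) = _
      simp only [ψ, Polynomial.coe_eval₂RingHom, Polynomial.eval₂_C]
      exact (RingHom.congr_fun (away_scal ev _ hu (lin_mem a b)) r).trans (by simp [ev])
    · show φ (ψ Polynomial.X) = _
      simp only [ψ, Polynomial.coe_eval₂RingHom, Polynomial.eval₂_X]
      exact (hφdh _).trans hev1
  · exact RingHom.ext fun r => by simp [ev]

theorem exists_mem_chart' (x : Pr 1 K) : ∃ i, X i ∉ x.asHomogeneousIdeal := by
  by_contra h
  push Not at h
  refine x.not_irrelevant_le ?_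
  show (HomogeneousIdeal.irrelevant (CohB1.polyGrading 1 K)).toIdeal ≤ x.asHomogeneousIdeal.toIdeal
  refine le_trans (Groth.Agent.ProperFin.irrelevant_le_span (A := K) 1) (Ideal.span_le.2 ?_)
  rintro _ ⟨i, rfl⟩
  exact h i

/-- Off the chart of a linear form, membership in the prime is vanishing at the zero of the form. -/
theorem mem_iff_eval (a b : K) (h : a ≠ 0 ∨ b ≠ 0) (x : Pr 1 K) (hx : lin a b ∈ x.asHomogeneousIdeal.toIdeal)
    (f : MvPolynomial (Fin (1 + 1)) K) (m : ℕ) (hf : f.IsHomogeneous m) :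
    f ∈ x.asHomogeneousIdeal.toIdeal ↔ eval ![b, -a] f = 0 := by
  let Q := Ideal.Quotient.mk x.asHomogeneousIdeal.toIdeal
  let ρ : K →+* MvPolynomial (Fin (1 + 1)) K ⧸ x.asHomogeneousIdeal.toIdeal := Q.comp C
  have hl : Q (C a) * Q (X 0) + Q (C b) * Q (X 1) = 0 := by
    have := Ideal.Quotient.eq_zero_iff_mem.2 hx
    simpa [lin] using this
  obtain ⟨t, ht⟩ : ∃ t, ∀ i, Q (X i) = t * ρ (![b, -a] i) := by
    by_cases hb : b = 0
    · obtain ha | ha := h
      · refine ⟨-(ρ a⁻¹ * Q (X 1)), fun i => ?_⟩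
        have hi : Q (C a) * ρ a⁻¹ = 1 := by
          show Q (C a) * Q (C a⁻¹) = 1
          rw [← map_mul, ← map_mul, mul_inv_cancel₀ ha, map_one, map_one]
        have hX : Q (X 0) = 0 := by
          rw [hb, map_zero, map_zero, zero_mul, add_zero] at hl
          linear_combination ρ a⁻¹ * hl - Q (X 0) * hi
        fin_cases i
        · simpa [hb] using hX
        · simp [hb, ρ] at hi ⊢
          linear_combination -(Q (X 1)) * hi
      · exact absurd hb ha
    · refine ⟨ρ b⁻¹ * Q (X 0), fun i => ?_⟩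
      have hi : Q (C b) * ρ b⁻¹ = 1 := by
        show Q (C b) * Q (C b⁻¹) = 1
        rw [← map_mul, ← map_mul, mul_inv_cancel₀ hb, map_one, map_one]
      fin_cases i
      · simp [ρ] at hi ⊢
        linear_combination -(Q (X 0)) * hi
      · simp [ρ] at hi ⊢
        linear_combination Q (C b⁻¹) * hl - Q (X 1) * hi
  have ht0 : t ≠ 0 := by
    intro h0
    obtain ⟨i, hi⟩ := exists_mem_chart' x
    exact hi (Ideal.Quotient.eq_zero_iff_mem.1 (by rw [ht, h0, zero_mul]))
  have hQ : Q f = t ^ m * ρ (eval ![b, -a] f) := by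
    have e : Q = eval₂Hom ρ (fun i => t * ρ (![b, -a] i)) :=
      MvPolynomial.ringHom_ext (fun r => by simp [ρ]) (fun i => by simp [ht])
    rw [e]
    refine (eval₂_smul_of_isHomogeneous ρ _ t hf).trans ?_
    rw [eval₂_comp]
    rfl
  haveI : Nontrivial (MvPolynomial (Fin (1 + 1)) K ⧸ x.asHomogeneousIdeal.toIdeal) :=
    Ideal.Quotient.nontrivial_iff.2 x.isPrime.ne_top
  rw [← Ideal.Quotient.eq_zero_iff_mem, show Ideal.Quotient.mk _ f = Q f from rfl, hQ, mul_eq_zero,
    or_iff_right (pow_ne_zero m ht0), map_eq_zero_iff ρ ρ.injective]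

/-- A homogeneous prime of the projective line has at most one point off a chart. -/
theorem subsingleton_compl (a b : K) (h : a ≠ 0 ∨ b ≠ 0) (x y : Pr 1 K)
    (hx : x ∉ Proj.basicOpen (CohB1.polyGrading 1 K) (lin a b))
    (hy : y ∉ Proj.basicOpen (CohB1.polyGrading 1 K) (lin a b)) : x = y := by
  rw [Proj.mem_basicOpen, not_not] at hx hy
  refine ProjectiveSpectrum.ext (HomogeneousIdeal.ext (Ideal.ext fun f => ?_))
  rw [x.asHomogeneousIdeal.isHomogeneous.mem_iff, y.asHomogeneousIdeal.isHomogeneous.mem_iff]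
  refine forall_congr' fun m => ?_
  have hm := (mem_homogeneousSubmodule m _).1 (DirectSum.decompose (CohB1.polyGrading 1 K) f m).2
  rw [mem_iff_eval a b h x hx _ m hm, mem_iff_eval a b h y hy _ m hm]

theorem exists_affineLine (q : Pr 1 K) [IsAlgClosed K]
    (hq : IsClosed ({q} : Set (Pr 1 K))) (V : (Pr 1 K).Opens)
    (hV : (V : Set (Pr 1 K)) = {q}ᶜ) :
    ∃ e : Spec (CommRingCat.of (Polynomial K)) ≅ (V : Scheme.{u}),
      e.hom ≫ V.ι ≫ str 1 K = Spec.map (CommRingCat.ofHom Polynomial.C) := by
  obtain ⟨a, b, c, d, hne, hm⟩ : ∃ a b c d : K, a * d - b * c ≠ 0 ∧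
      q ∈ Proj.basicOpen (CohB1.polyGrading 1 K) (lin a b) := by
    obtain ⟨i, hi⟩ := exists_mem_chart' q
    fin_cases i
    · exact ⟨1, 0, 0, 1, by simp, by simpa [lin, Proj.mem_basicOpen] using hi⟩
    · exact ⟨0, 1, 1, 0, by simp, by simpa [lin, Proj.mem_basicOpen] using hi⟩
  obtain ⟨φ, hφb, hφC, hφX⟩ := exists_coord a b c d hne
  let j := Proj.awayι (CohB1.polyGrading 1 K) (lin a b) (lin_mem a b) one_pos
  obtain ⟨y, hy⟩ : q ∈ Set.range j := by
    show q ∈ j.opensRange
    rw [Proj.opensRange_awayι]; exact hm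
  have hyc : IsClosed ({y} : Set _) := by
    have : ({y} : Set _) = j ⁻¹' {q} := by
      ext z; simp only [Set.mem_singleton_iff, Set.mem_preimage, ← hy]
      exact j.isOpenEmbedding.injective.eq_iff.symm
    rw [this]; exact hq.preimage j.continuous
  have hmax : y.asIdeal.IsMaximal := (PrimeSpectrum.isClosed_singleton_iff_isMaximal y).1 hyc
  let φe := RingEquiv.ofBijective φ hφb
  let M : Ideal (Polynomial K) := y.asIdeal.map φe.toRingHom
  haveI : M.IsMaximal := by haveI := hmax; exact Ideal.map_isMaximal_of_equiv φe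
  obtain ⟨g, hg⟩ := (IsPrincipalIdealRing.principal M).principal
  have hg0 : g ≠ 0 := by
    rintro rfl
    refine Polynomial.not_isField K ?_
    refine Ring.isField_iff_maximal_bot.2 ?_
    have hb : M = ⊥ := hg.trans (Ideal.span_singleton_eq_bot.2 rfl)
    exact hb ▸ ‹M.IsMaximal›
  have hgu : ¬ IsUnit g := fun hu => ‹M.IsMaximal›.ne_top (hg.trans (Ideal.span_singleton_eq_top.2 hu))
  obtain ⟨r, hr⟩ := IsAlgClosed.exists_root g (fun h0 => hgu (Polynomial.isUnit_iff_degree_eq_zero.2 h0))
  have hle : M ≤ Ideal.span {Polynomial.X - Polynomial.C r} := by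
    rw [hg, Ideal.span_singleton_le_span_singleton]
    exact Polynomial.dvd_iff_isRoot.2 hr
  have hmem : Polynomial.X - Polynomial.C r ∈ M := by
    rw [‹M.IsMaximal›.eq_of_le (fun h => Polynomial.not_isUnit_X_sub_C r (Ideal.span_singleton_eq_top.1 h)) hle]
    exact Ideal.mem_span_singleton_self _
  have hl : φ (ZetaLib.dehom (CohB1.polyGrading 1 K) (lin_mem a b) (lin (c - r * a) (d - r * b))) =
      Polynomial.X - Polynomial.C r := by
    have e : lin (c - r * a) (d - r * b) = lin c d - C r * lin a b := by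
      simp only [lin, map_sub, map_mul]; ring
    rw [e, map_sub, map_sub, hφX, map_mul, map_mul]
    congr 1
    rw [dehom_C, dehom_lin, map_one, mul_one, ← RingHom.comp_apply, hφC]
  have hne' : (c - r * a) * b - (d - r * b) * a ≠ 0 := by
    intro h0; exact hne (by linear_combination -h0)
  have hqn : q ∉ Proj.basicOpen (CohB1.polyGrading 1 K) (lin (c - r * a) (d - r * b)) := by
    rw [← hy]
    change ¬ (y ∈ j ⁻¹ᵁ Proj.basicOpen (CohB1.polyGrading 1 K) (lin (c - r * a) (d - r * b)))
    rw [Proj.awayι_preimage_basicOpen (CohB1.polyGrading 1 K) (lin_mem a b) one_pos (lin_mem _ _) one_pos]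
    show ¬ (_ ∉ y.asIdeal)
    rw [not_not]
    obtain ⟨w, hw, hw'⟩ := (Ideal.mem_map_iff_of_surjective φe.toRingHom φe.surjective).1 hmem
    have : HomogeneousLocalization.Away.isLocalizationElem (lin_mem a b) (lin_mem (c - r * a) (d - r * b)) = w := by
      apply φe.injective
      refine Eq.trans ?_ hw'.symm
      rw [← hl, ZetaLib.dehom_of_mem _ _ (lin_mem _ _)]
      simp [φe, HomogeneousLocalization.Away.isLocalizationElem]
    rw [this]; exact hw
  obtain ⟨φ', hφ'b, hφ'C, -⟩ := exists_coord (c - r * a) (d - r * b) a b hne'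
  let j' := Proj.awayι (CohB1.polyGrading 1 K) (lin (c - r * a) (d - r * b)) (lin_mem _ _) one_pos
  haveI : IsIso (CommRingCat.ofHom φ') := (RingEquiv.ofBijective φ' hφ'b).toCommRingCatIso.isIso_hom
  let J := Spec.map (CommRingCat.ofHom φ') ≫ j'
  have hVe : V = Proj.basicOpen (CohB1.polyGrading 1 K) (lin (c - r * a) (d - r * b)) := by
    ext z
    rw [hV]
    refine ⟨fun hz => by_contra fun hz' => hz ?_, fun hz hzq => hqn ?_⟩
    · exact subsingleton_compl _ _ (by by_contra h'; push Not at h'; exact hne' (by simp [h'.1, h'.2])) z q hz' hqn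
    · rw [Set.mem_singleton_iff] at hzq; exact hzq ▸ hz
  have hJ : J.opensRange = V := by
    rw [hVe, ← Proj.opensRange_awayι _ _ (lin_mem _ _) one_pos]
    exact Scheme.Hom.opensRange_comp_of_isIso _ _
  let e : Spec (CommRingCat.of (Polynomial K)) ≅ (V : Scheme.{u}) := IsOpenImmersion.isoOfRangeEq J V.ι
    (by rw [Scheme.Opens.range_ι, ← hJ]; rfl)
  refine ⟨e, ?_⟩
  rw [IsOpenImmersion.isoOfRangeEq_hom_fac_assoc, Category.assoc,
    show j' ≫ str 1 K = _ from chart_toSpec _ (lin_mem _ _) one_pos, ← Spec.map_comp,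
    ← CommRingCat.ofHom_comp, hφ'C]

/-- Over a field k, let P be a closed point of the projective line P¹_k whose residue field κ(P) is
purely inseparable over k, and let C = P¹_k ∖ {P} be its open complement. Then C is a form of the
affine line: for an algebraic closure K of k, the base change C ×_k Spec K is isomorphic over K to
Spec K[T]. (The published statement assumes moreover that k is imperfect and [κ(P) : k] ≥ 3; this
row assumes only that κ(P) is purely inseparable over k.) -/
theorem result (k : Type u) [Field k]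
    (P : ↥(CohB1.ProjSpace 1 k)) (hP : IsClosed ({P} : Set ↥(CohB1.ProjSpace 1 k)))
    (hpi : letI := ((CohB1.ProjSpace.toSpec 1 k).residueFieldMap P).hom.toAlgebra
      IsPurelyInseparable ↑((Spec (CommRingCat.of k)).residueField ((CohB1.ProjSpace.toSpec 1 k) P)) ↑((CohB1.ProjSpace 1 k).residueField P))
    (K : Type u) [Field K] [Algebra k K] [IsAlgClosure k K] :
    ∃ e : pullback (@Scheme.Opens.ι (CohB1.ProjSpace 1 k) ⟨{P}ᶜ, hP.isOpen_compl⟩ ≫ CohB1.ProjSpace.toSpec 1 k) (Spec.map (CommRingCat.ofHom (algebraMap k K))) ≅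
        Spec (CommRingCat.of (Polynomial K)),
      e.hom ≫ Spec.map (CommRingCat.ofHom (algebraMap K (Polynomial K))) = pullback.snd _ _ := by
  obtain ⟨q, hq, hpre⟩ : ∃ q : ↥(CohB1.ProjSpace 1 K), IsClosed ({q} : Set ↥(CohB1.ProjSpace 1 K)) ∧
      Groth.Agent.ProperFin.pnMap 1 (algebraMap k K) ⁻¹' {P} = {q} := by
    have hpb := Groth.Agent.ProperFin.isPullback_pnMap 1 (algebraMap k K)
    set m := Groth.Agent.ProperFin.pnMap 1 (algebraMap k K)
    haveI : Surjective (Spec.map (CommRingCat.ofHom (algebraMap k K))) :=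
      ⟨fun z => ⟨IsLocalRing.closedPoint K, Subsingleton.elim _ _⟩⟩
    haveI : Surjective m := MorphismProperty.of_isPullback hpb.flip inferInstance
    obtain ⟨q, hq⟩ := m.surjective P
    let iP := (CohB1.ProjSpace 1 k).fromSpecResidueField P
    haveI : UniversallyInjective (iP ≫ CohB1.ProjSpace.toSpec 1 k) := by
      rw [← Scheme.Hom.SpecMap_residueFieldMap_fromSpecResidueField]
      letI := ((CohB1.ProjSpace.toSpec 1 k).residueFieldMap P).hom.toAlgebra
      haveI := hpi
      refine MorphismProperty.comp_mem @UniversallyInjective _ _ ?_ inferInstance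
      exact
        @universallyInjective_specMap ↑((Spec (CommRingCat.of k)).residueField ((CohB1.ProjSpace.toSpec 1 k) P))
          ↑((CohB1.ProjSpace 1 k).residueField P) _ _ ((CohB1.ProjSpace.toSpec 1 k).residueFieldMap P).hom.toAlgebra hpi
    have huniq : ∀ z, m z = P → z = q := by
      intro z hz
      obtain ⟨w₁, hw₁, -⟩ := Scheme.Pullback.exists_preimage_pullback (f := m) (g := iP) z (IsLocalRing.closedPoint _)
        (by rw [Scheme.fromSpecResidueField_apply, hz])
      obtain ⟨w₂, hw₂, -⟩ := Scheme.Pullback.exists_preimage_pullback (f := m) (g := iP) q (IsLocalRing.closedPoint _)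
        (by rw [Scheme.fromSpecResidueField_apply, hq])
      have hbig : IsPullback (pullback.snd m iP) (pullback.fst m iP ≫ CohB1.ProjSpace.toSpec 1 K)
          (iP ≫ CohB1.ProjSpace.toSpec 1 k) (Spec.map (CommRingCat.ofHom (algebraMap k K))) :=
        (IsPullback.of_hasPullback m iP).flip.paste_vert hpb
      haveI : UniversallyInjective (pullback.fst m iP ≫ CohB1.ProjSpace.toSpec 1 K) :=
        MorphismProperty.of_isPullback hbig inferInstance
      have : w₁ = w₂ := (pullback.fst m iP ≫ CohB1.ProjSpace.toSpec 1 K).injective (Subsingleton.elim _ _)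
      rw [← hw₁, ← hw₂, this]
    have hpre : m ⁻¹' ({P} : Set _) = {q} := Set.ext fun z => ⟨fun hz => huniq z hz, fun hz => by
      rw [Set.mem_singleton_iff.1 hz]; exact hq⟩
    exact ⟨q, hpre ▸ hP.preimage m.continuous, hpre⟩
  let U : (CohB1.ProjSpace 1 k).Opens := ⟨{P}ᶜ, hP.isOpen_compl⟩
  let m := Groth.Agent.ProperFin.pnMap 1 (algebraMap k K)
  haveI : IsAlgClosed K := IsAlgClosure.isAlgClosed k
  obtain ⟨e, he⟩ := exists_affineLine q hq (m ⁻¹ᵁ U) (by
    show m ⁻¹' ({P}ᶜ) = _
    rw [Set.preimage_compl, hpre])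
  have hU : IsPullback (m ∣_ U) ((m ⁻¹ᵁ U).ι ≫ CohB1.ProjSpace.toSpec 1 K) (U.ι ≫ CohB1.ProjSpace.toSpec 1 k)
      (Spec.map (CommRingCat.ofHom (algebraMap k K))) :=
    (isPullback_morphismRestrict m U).paste_vert (Groth.Agent.ProperFin.isPullback_pnMap 1 (algebraMap k K))
  refine ⟨hU.isoPullback.symm ≪≫ e.symm, ?_⟩
  have he' : e.inv ≫ Spec.map (CommRingCat.ofHom (algebraMap K (Polynomial K))) =
      (m ⁻¹ᵁ U).ι ≫ CohB1.ProjSpace.toSpec 1 K := by
    rw [Iso.inv_comp_eq]
    exact he.symm
  exact (Category.assoc _ _ _).trans ((congrArg (fun z => hU.isoPullback.inv ≫ z) he').trans hU.isoPullback_inv_snd)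

end

end Groth.Agent.S14646
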