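import Groth.Statements.S14647
import Groth.Agent.S14646
import Groth.Agent.ProjProper.Basic
import Mathlib.AlgebraicGeometry.Morphisms.ClosedImmersion
-- import your own Groth.Agent.* helpers here

set_option autoImplicit false
set_option backward.isDefEq.respectTransparency false
set_option backward.isDefEq.respectTransparency.types false
set_option linter.style.haveILetI false
set_option maxHeartbeats 800000
universe u
open CategoryTheory CategoryTheory.Limits AlgebraicGeometry
open AlgGrp

namespace Groth.Agent.S14647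

open CategoryTheory CategoryTheory.Limits AlgebraicGeometry MvPolynomial Groth.Agent.Chow Groth.Agent.S14646

noncomputable section

variable {K : Type u} [Field K]

/-- The affine line attached to a pair of linear forms. -/
theorem exists_chart (a b c d : K) (h : a * d - b * c ≠ 0) :
    ∃ (φ : HomogeneousLocalization.Away (CohB1.polyGrading 1 K) (lin a b) →+* Polynomial K)
      (j : Spec (CommRingCat.of (Polynomial K)) ⟶ Pr 1 K) (_ : IsOpenImmersion j),
      φ (ZetaLib.dehom (CohB1.polyGrading 1 K) (lin_mem a b) (lin c d)) = Polynomial.X ∧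
      j = Spec.map (CommRingCat.ofHom φ) ≫ Proj.awayι (CohB1.polyGrading 1 K) (lin a b) (lin_mem a b) one_pos ∧
      j.opensRange = Proj.basicOpen (CohB1.polyGrading 1 K) (lin a b) ∧
      j ≫ str 1 K = Spec.map (CommRingCat.ofHom Polynomial.C) := by
  obtain ⟨φ, hb, hC, hX⟩ := exists_coord a b c d h
  haveI : IsIso (CommRingCat.ofHom φ) := (RingEquiv.ofBijective φ hb).toCommRingCatIso.isIso_hom
  refine ⟨φ, Spec.map (CommRingCat.ofHom φ) ≫ Proj.awayι (CohB1.polyGrading 1 K) (lin a b) (lin_mem a b) one_pos,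
    inferInstance, hX, rfl, ?_, ?_⟩
  · rw [← Proj.opensRange_awayι _ _ (lin_mem a b) one_pos]
    exact Scheme.Hom.opensRange_comp_of_isIso _ _
  · rw [Category.assoc, chart_toSpec _ (lin_mem a b) one_pos, ← Spec.map_comp, ← CommRingCat.ofHom_comp, hC]

theorem ringHom_eq_of_spec {A B : Type u} [CommRing A] [CommRing B] {f g : A →+* B}
    (h : Spec.map (CommRingCat.ofHom f) = Spec.map (CommRingCat.ofHom g)) : f = g :=
  congrArg CommRingCat.Hom.hom (Spec.map_injective h)

/-- On the overlap of two charts the coordinates are inverse to each other. -/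
theorem mul_eq_one (l₀ l₁ : MvPolynomial (Fin (1 + 1)) K) (h₀ : l₀ ∈ CohB1.polyGrading 1 K 1)
    (h₁ : l₁ ∈ CohB1.polyGrading 1 K 1) {R : Type u} [CommRing R]
    (α : HomogeneousLocalization.Away (CohB1.polyGrading 1 K) l₀ →+* R)
    (β : HomogeneousLocalization.Away (CohB1.polyGrading 1 K) l₁ →+* R)
    (h : Spec.map (CommRingCat.ofHom α) ≫ Proj.awayι (CohB1.polyGrading 1 K) l₀ h₀ one_pos =
      Spec.map (CommRingCat.ofHom β) ≫ Proj.awayι (CohB1.polyGrading 1 K) l₁ h₁ one_pos) :
    α (ZetaLib.dehom (CohB1.polyGrading 1 K) h₀ l₁) * β (ZetaLib.dehom (CohB1.polyGrading 1 K) h₁ l₀) = 1 := by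
  let γ := pullback.lift _ _ h ≫ (Proj.pullbackAwayιIso (CohB1.polyGrading 1 K) h₀ one_pos h₁ one_pos (x := l₀ * l₁) rfl).hom
  let γ₀ := (Spec.preimage γ).hom
  have e₀ : α = γ₀.comp (HomogeneousLocalization.awayMap (CohB1.polyGrading 1 K) h₁ (x := l₀ * l₁) rfl) := by
    refine ringHom_eq_of_spec ?_
    rw [CommRingCat.ofHom_comp, Spec.map_comp, CommRingCat.ofHom_hom, Spec.map_preimage]
    simp [γ, Proj.pullbackAwayιIso_hom_SpecMap_awayMap_left]
  have e₁ : β = γ₀.comp (HomogeneousLocalization.awayMap (CohB1.polyGrading 1 K) h₀ (x := l₀ * l₁) (mul_comm _ _)) := by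
    refine ringHom_eq_of_spec ?_
    rw [CommRingCat.ofHom_comp, Spec.map_comp, CommRingCat.ofHom_hom, Spec.map_preimage]
    simp [γ, Proj.pullbackAwayιIso_hom_SpecMap_awayMap_right]
  rw [e₀, e₁, RingHom.comp_apply, RingHom.comp_apply, ← map_mul]
  refine Eq.trans (congrArg γ₀ ?_) (map_one γ₀)
  rw [ZetaLib.dehom_of_mem _ _ h₁, ZetaLib.dehom_of_mem _ _ h₀, HomogeneousLocalization.awayMap_mk,
    HomogeneousLocalization.awayMap_mk]
  refine HomogeneousLocalization.val_injective _ ?_
  simp only [HomogeneousLocalization.val_mul, HomogeneousLocalization.Away.val_mk, HomogeneousLocalization.val_one,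
    Localization.mk_mul]
  rw [← Localization.mk_one, Localization.mk_eq_mk_iff, Localization.r_iff_exists]
  refine ⟨1, ?_⟩
  simp
  ring

/-- An automorphism of the affine line over `K` is affine linear. -/
theorem exists_linear (σ τ : Polynomial K →+* Polynomial K) (hσ : σ.comp Polynomial.C = Polynomial.C)
    (hτ : τ.comp Polynomial.C = Polynomial.C) (hστ : σ.comp τ = RingHom.id _) :
    ∃ u v : K, σ Polynomial.X = Polynomial.C u * Polynomial.X + Polynomial.C v := by
  have hc : ∀ p : Polynomial K, σ p = p.comp (σ Polynomial.X) := fun p => by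
    refine RingHom.congr_fun (Polynomial.ringHom_ext (f := σ) (g := Polynomial.compRingHom (σ Polynomial.X))
      (fun r => ?_) ?_) p
    · exact (RingHom.congr_fun hσ r).trans (by simp)
    · simp
  have h1 : (τ Polynomial.X).natDegree * (σ Polynomial.X).natDegree = 1 := by
    rw [← Polynomial.natDegree_comp, ← hc, ← RingHom.comp_apply, hστ]
    exact Polynomial.natDegree_X
  exact Polynomial.exists_eq_X_add_C_of_natDegree_le_one (Nat.eq_one_of_mul_eq_one_left h1).le

/-- A closed point of the projective line in adapted coordinates. -/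
theorem exists_frame (q : Pr 1 K) [IsAlgClosed K] (hq : IsClosed ({q} : Set (Pr 1 K))) :
    ∃ a b c d : K, a * d - b * c ≠ 0 ∧ q ∉ Proj.basicOpen (CohB1.polyGrading 1 K) (lin a b) ∧
      q ∈ Proj.basicOpen (CohB1.polyGrading 1 K) (lin c d) ∧
      ∀ x, x ∉ Proj.basicOpen (CohB1.polyGrading 1 K) (lin a b) → x = q := by
  obtain ⟨a, b, c, d, hne, hm⟩ : ∃ a b c d : K, a * d - b * c ≠ 0 ∧
      q ∈ Proj.basicOpen (CohB1.polyGrading 1 K) (lin a b) := by
    obtain ⟨i, hi⟩ := exists_mem_chart' q
    fin_cases i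
    · exact ⟨1, 0, 0, 1, by simp, by simpa [lin, Proj.mem_basicOpen] using hi⟩
    · exact ⟨0, 1, 1, 0, by simp, by simpa [lin, Proj.mem_basicOpen] using hi⟩
  obtain ⟨φ, hφb, hφC, hφX⟩ := exists_coord a b c d hne
  let j := Proj.awayι (CohB1.polyGrading 1 K) (lin a b) (lin_mem a b) one_pos
  obtain ⟨y, hy⟩ : q ∈ Set.range j := by
    show q ∈ j.opensRange
    rw [Proj.opensRange_awayι]; exact hm
  have hyc : IsClosed ({y} : Set _) := by
    have : ({y} : Set _) = j ⁻¹' {q} := by
      ext z; simp only [Set.mem_singleton_iff, Set.mem_preimage, ← hy]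
      exact j.isOpenEmbedding.injective.eq_iff.symm
    rw [this]; exact hq.preimage j.continuous
  have hmax : y.asIdeal.IsMaximal := (PrimeSpectrum.isClosed_singleton_iff_isMaximal y).1 hyc
  let φe := RingEquiv.ofBijective φ hφb
  let M : Ideal (Polynomial K) := y.asIdeal.map φe.toRingHom
  haveI : M.IsMaximal := by haveI := hmax; exact Ideal.map_isMaximal_of_equiv φe
  obtain ⟨g, hg⟩ := (IsPrincipalIdealRing.principal M).principal
  have hgu : ¬ IsUnit g := fun hu => ‹M.IsMaximal›.ne_top (hg.trans (Ideal.span_singleton_eq_top.2 hu))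
  obtain ⟨r, hr⟩ := IsAlgClosed.exists_root g (fun h0 => hgu (Polynomial.isUnit_iff_degree_eq_zero.2 h0))
  have hle : M ≤ Ideal.span {Polynomial.X - Polynomial.C r} := by
    rw [hg, Ideal.span_singleton_le_span_singleton]
    exact Polynomial.dvd_iff_isRoot.2 hr
  have hmem : Polynomial.X - Polynomial.C r ∈ M := by
    rw [‹M.IsMaximal›.eq_of_le (fun h => Polynomial.not_isUnit_X_sub_C r (Ideal.span_singleton_eq_top.1 h)) hle]
    exact Ideal.mem_span_singleton_self _
  have hl : φ (ZetaLib.dehom (CohB1.polyGrading 1 K) (lin_mem a b) (lin (c - r * a) (d - r * b))) =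
      Polynomial.X - Polynomial.C r := by
    have e : lin (c - r * a) (d - r * b) = lin c d - C r * lin a b := by
      simp only [lin, map_sub, map_mul]; ring
    rw [e, map_sub, map_sub, hφX, map_mul, map_mul, dehom_C, dehom_lin, map_one, mul_one,
      ← RingHom.comp_apply, hφC]
  have hne' : (c - r * a) * b - (d - r * b) * a ≠ 0 := by
    intro h0; exact hne (by linear_combination -h0)
  have hqn : q ∉ Proj.basicOpen (CohB1.polyGrading 1 K) (lin (c - r * a) (d - r * b)) := by
    rw [← hy]
    change ¬ (y ∈ j ⁻¹ᵁ Proj.basicOpen (CohB1.polyGrading 1 K) (lin (c - r * a) (d - r * b)))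
    rw [Proj.awayι_preimage_basicOpen (CohB1.polyGrading 1 K) (lin_mem a b) one_pos (lin_mem _ _) one_pos]
    show ¬ (_ ∉ y.asIdeal)
    rw [not_not]
    obtain ⟨w, hw, hw'⟩ := (Ideal.mem_map_iff_of_surjective φe.toRingHom φe.surjective).1 hmem
    have : HomogeneousLocalization.Away.isLocalizationElem (lin_mem a b) (lin_mem (c - r * a) (d - r * b)) = w := by
      apply φe.injective
      refine Eq.trans ?_ hw'.symm
      rw [← hl, ZetaLib.dehom_of_mem _ _ (lin_mem _ _)]
      simp [φe, HomogeneousLocalization.Away.isLocalizationElem]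
    rw [this]; exact hw
  exact ⟨_, _, a, b, hne', hqn, hm, fun x hx => subsingleton_compl _ _
    (by by_contra h'; push Not at h'; exact hne' (by simp [h'.1, h'.2])) x q hx hqn⟩

/-- An automorphism fixing the second infinitesimal neighbourhood of a point and the point is trivial. -/
theorem eq_id_of_fixes (a b c d : K) (hne : a * d - b * c ≠ 0) (q : Pr 1 K)
    (hqn : q ∉ Proj.basicOpen (CohB1.polyGrading 1 K) (lin a b))
    (huniq : ∀ x, x ∉ Proj.basicOpen (CohB1.polyGrading 1 K) (lin a b) → x = q)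
    (hqm : q ∈ Proj.basicOpen (CohB1.polyGrading 1 K) (lin c d))
    (e : Pr 1 K ≅ Pr 1 K) (he : e.hom ≫ str 1 K = str 1 K)
    (hfix : ∀ (jS : Spec (CommRingCat.of (Polynomial K)) ⟶ Pr 1 K), IsOpenImmersion jS →
      jS ≫ str 1 K = Spec.map (CommRingCat.ofHom Polynomial.C) → (∀ y, jS y = q ↔ Polynomial.X ∈ y.asIdeal) →
      Spec.map (CommRingCat.ofHom (Ideal.Quotient.mk (Ideal.span {(Polynomial.X : Polynomial K) ^ 3}))) ≫ jS ≫ e.hom =
      Spec.map (CommRingCat.ofHom (Ideal.Quotient.mk (Ideal.span {(Polynomial.X : Polynomial K) ^ 3}))) ≫ jS) :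
    e.hom = 𝟙 _ := by
  obtain ⟨φT, jT, hjTi, hTX, hjT, hTr, hTs⟩ := exists_chart a b c d hne
  obtain ⟨φS, jS, hjSi, hSX, hjS, hSr, hSs⟩ := exists_chart c d a b (by intro h0; exact hne (by linear_combination -h0))
  have rel : ∀ (R : Type u) [CommRing R] (α β : Polynomial K →+* R),
      Spec.map (CommRingCat.ofHom α) ≫ jT = Spec.map (CommRingCat.ofHom β) ≫ jS →
      α Polynomial.X * β Polynomial.X = 1 := by
    intro R _ α β h
    have := mul_eq_one _ _ (lin_mem a b) (lin_mem c d) (α.comp φT) (β.comp φS) (by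
      simpa [hjT, hjS, CommRingCat.ofHom_comp, Spec.map_comp] using h)
    simpa [hTX, hSX] using this
  have hT_iff : ∀ x, x ∈ jT.opensRange ↔ x ≠ q := fun x => by
    rw [hTr]
    exact ⟨fun hx hxq => hqn (hxq ▸ hx), fun hx => by_contra fun h => hx (huniq x h)⟩
  -- the point `q` in the second chart
  have hqy : ∀ y, jS y = q ↔ Polynomial.X ∈ y.asIdeal := by
    intro y
    have hpre : Proj.awayι (CohB1.polyGrading 1 K) (lin c d) (lin_mem c d) one_pos ⁻¹ᵁ
        Proj.basicOpen (CohB1.polyGrading 1 K) (lin a b) = _ :=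
      Proj.awayι_preimage_basicOpen (CohB1.polyGrading 1 K) (lin_mem c d) one_pos (lin_mem a b) one_pos
    have hmem : jS y ∈ Proj.basicOpen (CohB1.polyGrading 1 K) (lin a b) ↔ Polynomial.X ∉ y.asIdeal := by
      rw [hjS]
      rw [Scheme.Hom.comp_apply]
      change (Spec.map (CommRingCat.ofHom φS)) y ∈ Proj.awayι (CohB1.polyGrading 1 K) (lin c d) (lin_mem c d) one_pos ⁻¹ᵁ
        Proj.basicOpen (CohB1.polyGrading 1 K) (lin a b) ↔ _
      rw [hpre]
      show φS _ ∉ y.asIdeal ↔ _
      rw [← hSX, ZetaLib.dehom_of_mem _ _ (lin_mem a b)]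
      simp [HomogeneousLocalization.Away.isLocalizationElem]
    constructor
    · intro h; by_contra h'; exact hqn (h ▸ hmem.2 h')
    · intro h; exact huniq _ (fun h' => hmem.1 h' h)
  obtain ⟨y₀, hy₀⟩ : q ∈ Set.range jS := by
    show q ∈ jS.opensRange
    rw [hSr]; exact hqm
  have hz := hfix jS hjSi hSs hqy
  let mk3 := Ideal.Quotient.mk (Ideal.span {(Polynomial.X : Polynomial K) ^ 3})
  obtain ⟨p₀⟩ : Nonempty (PrimeSpectrum (Polynomial K ⧸ Ideal.span {(Polynomial.X : Polynomial K) ^ 3})) := by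
    haveI : Nontrivial (Polynomial K ⧸ Ideal.span {(Polynomial.X : Polynomial K) ^ 3}) :=
      Ideal.Quotient.nontrivial_iff.2 fun h => by
        simp [Ideal.span_singleton_eq_top, isUnit_pow_iff, Polynomial.not_isUnit_X] at h
    infer_instance
  have hXp : jS (Spec.map (CommRingCat.ofHom mk3) p₀) = q := by
    refine (hqy _).2 (p₀.isPrime.mem_of_pow_mem 3 ?_)
    show mk3 (Polynomial.X ^ 3) ∈ p₀.asIdeal
    rw [Ideal.Quotient.eq_zero_iff_mem.2 (Ideal.mem_span_singleton_self _)]
    exact zero_mem _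
  have heq : e.hom q = q := by
    have := congrArg (fun f => f p₀) hz
    simp only [Scheme.Hom.comp_apply] at this
    rwa [hXp] at this
  have hinv : e.inv q = q := by
    conv_lhs => rw [← heq]
    rw [← Scheme.Hom.comp_apply, Iso.hom_inv_id]; rfl
  -- the restriction to the first chart
  have hres : ∀ f g : Pr 1 K ⟶ Pr 1 K, f ≫ g = 𝟙 _ → g q = q → f ≫ str 1 K = str 1 K →
      ∃ σ : Polynomial K →+* Polynomial K, Spec.map (CommRingCat.ofHom σ) ≫ jT = jT ≫ f ∧
        σ.comp Polynomial.C = Polynomial.C := by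
    intro f g hfg hgq hf
    have hr : Set.range (jT ≫ f) ⊆ Set.range jT := by
      rintro _ ⟨x, rfl⟩
      refine (hT_iff _).2 fun hx => (hT_iff (jT x)).1 ⟨x, rfl⟩ ?_
      have := congrArg g hx
      rw [← Scheme.Hom.comp_apply, Category.assoc, hfg, hgq] at this
      simpa using this
    let l := IsOpenImmersion.lift jT (jT ≫ f) hr
    have hl : Spec.map (CommRingCat.ofHom (Spec.preimage l).hom) ≫ jT = jT ≫ f := by
      rw [CommRingCat.ofHom_hom, Spec.map_preimage]
      exact IsOpenImmersion.lift_fac _ _ _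
    refine ⟨(Spec.preimage l).hom, hl, ringHom_eq_of_spec ?_⟩
    rw [CommRingCat.ofHom_comp, Spec.map_comp, ← hTs, ← Category.assoc, hl, Category.assoc, hf, hTs]
  obtain ⟨σ, hσ, hσC⟩ := hres e.hom e.inv e.hom_inv_id hinv he
  obtain ⟨τ, hτ, hτC⟩ := hres e.inv e.hom e.inv_hom_id heq (by rw [Iso.inv_comp_eq, he])
  have hστ : σ.comp τ = RingHom.id _ := by
    refine ringHom_eq_of_spec ((cancel_mono jT).1 ?_)
    rw [CommRingCat.ofHom_comp, Spec.map_comp, Category.assoc, hτ, ← Category.assoc, hσ, Category.assoc,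
      Iso.hom_inv_id]
    simp
  obtain ⟨u, v, huv⟩ := exists_linear σ τ hσC hτC hστ
  -- the second chart near `q`
  obtain ⟨h, hh0, hhU⟩ : ∃ h : Polynomial K, h ∉ y₀.asIdeal ∧
      ∀ y : Spec (CommRingCat.of (Polynomial K)), h ∉ y.asIdeal → e.hom (jS y) ∈ jS.opensRange := by
    obtain ⟨_, ⟨h, rfl⟩, hh, hsub⟩ := PrimeSpectrum.isTopologicalBasis_basic_opens.exists_subset_of_mem_open
      (show y₀ ∈ (jS ≫ e.hom) ⁻¹ᵁ jS.opensRange by
        show e.hom (jS y₀) ∈ jS.opensRange
        rw [hy₀, heq]; exact ⟨y₀, hy₀⟩) ((jS ≫ e.hom) ⁻¹ᵁ jS.opensRange).2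
    exact ⟨h, hh, fun y hy => hsub hy⟩
  let loc := algebraMap (Polynomial K) (Localization.Away h)
  have hr : Set.range (Spec.map (CommRingCat.ofHom loc) ≫ jS ≫ e.hom) ⊆ Set.range jS := by
    rintro _ ⟨y, rfl⟩
    exact hhU _ fun hy => y.isPrime.ne_top
      (Ideal.eq_top_of_isUnit_mem _ hy (IsLocalization.Away.algebraMap_isUnit h))
  let l := IsOpenImmersion.lift jS _ hr
  let β := (Spec.preimage l).hom
  have hβ : Spec.map (CommRingCat.ofHom β) ≫ jS = Spec.map (CommRingCat.ofHom loc) ≫ jS ≫ e.hom := by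
    rw [CommRingCat.ofHom_hom, Spec.map_preimage]
    exact IsOpenImmersion.lift_fac _ _ _
  have hhu : IsUnit (mk3 h) := by
    have hy₀X : Polynomial.X ∈ y₀.asIdeal := (hqy y₀).1 hy₀
    have h00 : h.eval 0 ≠ 0 := fun h0 => hh0 <| by
      obtain ⟨p, rfl⟩ := Polynomial.X_dvd_iff.2 (Polynomial.coeff_zero_eq_eval_zero h ▸ h0)
      exact Ideal.mul_mem_right _ _ hy₀X
    have h1 : IsUnit (mk3 (Polynomial.C (h.eval 0))) := ((isUnit_iff_ne_zero.2 h00).map Polynomial.C).map mk3
    obtain ⟨p, hp⟩ := Polynomial.X_dvd_sub_C (p := h)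
    have h2 : IsNilpotent (mk3 (h - Polynomial.C (h.coeff 0))) := by
      refine ⟨3, ?_⟩
      rw [hp, ← map_pow, mul_pow, map_mul, Ideal.Quotient.eq_zero_iff_mem.2 (Ideal.mem_span_singleton_self _), zero_mul]
    have : mk3 h = mk3 (h - Polynomial.C (h.coeff 0)) + mk3 (Polynomial.C (h.eval 0)) := by
      rw [← map_add, ← Polynomial.coeff_zero_eq_eval_zero, sub_add_cancel]
    rw [this, add_comm]
    exact h2.isUnit_add_left_of_commute h1 (Commute.all _ _)
  let ψ := IsLocalization.Away.lift (S := Localization.Away h) h hhu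
  have hψ : ψ.comp loc = mk3 := IsLocalization.Away.lift_comp (S := Localization.Away h) h hhu
  have hψβ : ψ.comp β = mk3 := by
    refine ringHom_eq_of_spec ((cancel_mono jS).1 ?_)
    rw [CommRingCat.ofHom_comp, Spec.map_comp, Category.assoc, hβ, ← Category.assoc, ← Spec.map_comp,
      ← CommRingCat.ofHom_comp, hψ, hz]
  obtain ⟨n, g, hg⟩ := IsLocalization.Away.surj (S := Localization.Away h) h (β Polynomial.X)
  let R₂ := Localization.Away (h * Polynomial.X)
  let loc₂ := algebraMap (Polynomial K) R₂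
  have hu2 : IsUnit (loc₂ h * loc₂ Polynomial.X) := by
    rw [← map_mul]; exact IsLocalization.Away.algebraMap_isUnit _
  let ι := IsLocalization.Away.lift (S := Localization.Away h) h (g := loc₂) (isUnit_of_mul_isUnit_left hu2)
  have hι : ι.comp loc = loc₂ := IsLocalization.Away.lift_comp (S := Localization.Away h) h _
  have hr₂ : Set.range (Spec.map (CommRingCat.ofHom loc₂) ≫ jS) ⊆ Set.range jT := by
    rintro _ ⟨y, rfl⟩
    refine (hT_iff _).2 fun hy => y.isPrime.ne_top (Ideal.eq_top_of_isUnit_mem _ ((hqy _).1 hy)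
      (isUnit_of_mul_isUnit_right hu2))
  let l₂ := IsOpenImmersion.lift jT _ hr₂
  let α := (Spec.preimage l₂).hom
  have hα : Spec.map (CommRingCat.ofHom α) ≫ jT = Spec.map (CommRingCat.ofHom loc₂) ≫ jS := by
    rw [CommRingCat.ofHom_hom, Spec.map_preimage]
    exact IsOpenImmersion.lift_fac _ _ _
  have hαX := rel R₂ α loc₂ hα
  have hαC : α.comp Polynomial.C = loc₂.comp Polynomial.C := by
    refine ringHom_eq_of_spec ?_
    rw [CommRingCat.ofHom_comp, CommRingCat.ofHom_comp, Spec.map_comp, Spec.map_comp]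
    conv_lhs => rw [← hTs, ← Category.assoc, hα, Category.assoc, hSs]
  have hαC' : ∀ r, α (Polynomial.C r) = loc₂ (Polynomial.C r) := RingHom.congr_fun hαC
  have hkey := rel R₂ (α.comp σ) (ι.comp β) (by
    rw [CommRingCat.ofHom_comp, CommRingCat.ofHom_comp, Spec.map_comp, Spec.map_comp, Category.assoc,
      Category.assoc, hσ, hβ, reassoc_of% hα]
    rw [← Category.assoc (Spec.map (CommRingCat.ofHom ι)), ← Spec.map_comp, ← CommRingCat.ofHom_comp, hι])
  have hg' : ι (β Polynomial.X) * loc₂ h ^ n = loc₂ g := by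
    have := congrArg ι hg
    rw [map_mul, map_pow] at this
    rw [← hι]; exact this
  have hpoly : (Polynomial.C u + Polynomial.C v * Polynomial.X) * g = Polynomial.X * h ^ n := by
    have hX0 : h * Polynomial.X ≠ 0 := mul_ne_zero (fun h0 => hh0 (h0 ▸ zero_mem _)) Polynomial.X_ne_zero
    refine IsLocalization.injective R₂ (powers_le_nonZeroDivisors_of_noZeroDivisors hX0) ?_
    show loc₂ _ = loc₂ _
    rw [RingHom.comp_apply, huv, map_add, map_mul, hαC', hαC', RingHom.comp_apply] at hkey
    simp only [map_mul, map_add, map_pow, ← hg']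
    linear_combination loc₂ Polynomial.X * loc₂ h ^ n * hkey - loc₂ (Polynomial.C u) * ι (β Polynomial.X) * loc₂ h ^ n * hαX
  have hmk : mk3 g = mk3 Polynomial.X * mk3 h ^ n := by
    have := congrArg ψ hg
    rw [map_mul, map_pow, ← RingHom.comp_apply, hψβ, ← RingHom.comp_apply ψ loc, hψ] at this
    exact (RingHom.congr_fun hψ g).symm.trans this.symm
  have hdiv : (Polynomial.X : Polynomial K) ^ 3 ∣ (Polynomial.C u - 1 + Polynomial.C v * Polynomial.X) * Polynomial.X := by
    rw [← Ideal.mem_span_singleton, ← Ideal.Quotient.eq_zero_iff_mem]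
    refine (hhu.pow n).mul_left_injective ?_
    have := congrArg mk3 hpoly
    simp only [map_mul, map_add, map_pow, hmk] at this
    simp only [map_mul, map_add, map_sub, map_one, zero_mul]
    linear_combination this
  rw [Polynomial.X_pow_dvd_iff] at hdiv
  have hu1 : u = 1 := by
    have := hdiv 1 (by norm_num)
    simpa [Polynomial.coeff_one, sub_eq_zero] using this
  have hv0 : v = 0 := by
    have := hdiv 2 (by norm_num)
    simpa [Polynomial.coeff_one, Polynomial.coeff_C] using this
  have hσid : σ = RingHom.id _ := Polynomial.ringHom_ext (fun r => RingHom.congr_fun hσC r) (by simp [huv, hu1, hv0])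
  have hTid : jT ≫ e.hom = jT := by rw [← hσ, hσid]; simp
  refine Scheme.hom_ext_of_forall _ _ fun x => ?_
  have hcase : ∀ (j : Spec (CommRingCat.of (Polynomial K)) ⟶ Pr 1 K) [IsOpenImmersion j], j ≫ e.hom = j →
      j.opensRange.ι ≫ e.hom = j.opensRange.ι ≫ 𝟙 _ := by
    intro j _ hj
    rw [← cancel_epi j.isoOpensRange.hom, Scheme.Hom.isoOpensRange_hom_ι_assoc,
      Scheme.Hom.isoOpensRange_hom_ι_assoc, hj, Category.comp_id]
  by_cases hx : x = q
  · refine ⟨jS.opensRange, hx ▸ ⟨y₀, hy₀⟩, hcase jS ?_⟩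
    let locX := algebraMap (Polynomial K) (Localization.Away (Polynomial.X : Polynomial K))
    have hrX : Set.range (Spec.map (CommRingCat.ofHom locX) ≫ jS) ⊆ Set.range jT := by
      rintro _ ⟨y, rfl⟩
      refine (hT_iff _).2 fun hy => y.isPrime.ne_top (Ideal.eq_top_of_isUnit_mem _ ((hqy _).1 hy)
        (IsLocalization.Away.algebraMap_isUnit _))
    haveI : IsDominant (Spec.map (CommRingCat.ofHom locX)) := by
      refine ⟨(PrimeSpectrum.denseRange_comap_iff_ker_le_nilRadical _).2 ?_⟩
      show RingHom.ker locX ≤ _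
      rw [(RingHom.injective_iff_ker_eq_bot locX).1 (IsLocalization.injective _
        (powers_le_nonZeroDivisors_of_noZeroDivisors Polynomial.X_ne_zero))]
      exact bot_le
    haveI : IsProper (str 1 K) := Groth.Agent.ProjProper.Basic.isProper_toSpec 1 K
    refine ext_of_isDominant_of_isSeparated (str 1 K) (by rw [Category.assoc, he])
      (Spec.map (CommRingCat.ofHom locX)) ?_
    have := IsOpenImmersion.lift_fac jT _ hrX
    rw [← reassoc_of% this, hTid]
    exact this
  · exact ⟨jT.opensRange, (hT_iff x).2 hx, hcase jT hTid⟩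

/-- A polynomial all whose roots are zero. -/
theorem X_pow_three_dvd [IsAlgClosed K] (g : Polynomial K) (hd : 3 ≤ g.natDegree)
    (hroot : ∀ r : K, g.IsRoot r → r = 0) : (Polynomial.X : Polynomial K) ^ 3 ∣ g := by
  have hg : g ≠ 0 := by rintro rfl; simp at hd
  obtain ⟨p, hp, hnd⟩ := Polynomial.exists_eq_pow_rootMultiplicity_mul_and_not_dvd g hg 0
  rw [map_zero, sub_zero] at hp hnd
  have hp0 : p ≠ 0 := by rintro rfl; exact hnd (dvd_zero _)
  have hdeg : p.natDegree = 0 := by
    by_contra hne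
    obtain ⟨r, hr⟩ := IsAlgClosed.exists_root p (fun h0 => hne (Polynomial.natDegree_eq_zero_iff_degree_le_zero.2 h0.le))
    have hr0 : r = 0 := hroot r (by rw [hp, Polynomial.IsRoot.def, Polynomial.eval_mul, hr.eq_zero, mul_zero])
    subst hr0
    exact hnd (by simpa using Polynomial.dvd_iff_isRoot.2 hr)
  have hn : g.rootMultiplicity 0 = g.natDegree := by
    conv_rhs => rw [hp, Polynomial.natDegree_mul (pow_ne_zero _ Polynomial.X_ne_zero) hp0, hdeg,
      Polynomial.natDegree_X_pow, add_zero]
  rw [hp, hn]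
  exact dvd_mul_of_dvd_left (pow_dvd_pow _ hd) _

/-- Over a field k, let P be a closed point of the projective line P¹_k whose residue field κ(P) is
purely inseparable over k with [κ(P) : k] ≥ 3 (this forces k to be imperfect). Then the centraliser
of P (with its reduced structure) in the automorphism group of P¹ is infinitesimal; on geometric
points: for an algebraic closure K of k, every automorphism φ of P¹_k ×_k Spec K over Spec K which
induces the identity on the closed subscheme Spec κ(P) ×_k Spec K — meaning φ ∘ z = z for every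
scheme T and every T-point z of P¹_k ×_k Spec K whose image in P¹_k factors through Spec κ(P) → P¹_k
— is the identity. -/
theorem result (k : Type u) [Field k]
    (P : ↥(CohB1.ProjSpace 1 k))
    (hpi : letI := ((CohB1.ProjSpace.toSpec 1 k).residueFieldMap P).hom.toAlgebra
      IsPurelyInseparable ↑((Spec (CommRingCat.of k)).residueField ((CohB1.ProjSpace.toSpec 1 k) P)) ↑((CohB1.ProjSpace 1 k).residueField P))
    (hdeg : letI := ((CohB1.ProjSpace.toSpec 1 k).residueFieldMap P).hom.toAlgebra
      3 ≤ Module.finrank ↑((Spec (CommRingCat.of k)).residueField ((CohB1.ProjSpace.toSpec 1 k) P)) ↑((CohB1.ProjSpace 1 k).residueField P))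
    (K : Type u) [Field K] [Algebra k K] [IsAlgClosure k K]
    (φ : pullback (CohB1.ProjSpace.toSpec 1 k) (Spec.map (CommRingCat.ofHom (algebraMap k K))) ≅ pullback (CohB1.ProjSpace.toSpec 1 k) (Spec.map (CommRingCat.ofHom (algebraMap k K))))
    (hφ : φ.hom ≫ pullback.snd (CohB1.ProjSpace.toSpec 1 k) (Spec.map (CommRingCat.ofHom (algebraMap k K))) = pullback.snd (CohB1.ProjSpace.toSpec 1 k) (Spec.map (CommRingCat.ofHom (algebraMap k K))))
    (hfix : ∀ (T : Scheme.{u}) (z : T ⟶ pullback (CohB1.ProjSpace.toSpec 1 k) (Spec.map (CommRingCat.ofHom (algebraMap k K)))) (w : T ⟶ Spec ((CohB1.ProjSpace 1 k).residueField P)),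
      z ≫ pullback.fst (CohB1.ProjSpace.toSpec 1 k) (Spec.map (CommRingCat.ofHom (algebraMap k K))) = w ≫ (CohB1.ProjSpace 1 k).fromSpecResidueField P → z ≫ φ.hom = z) :
    φ.hom = 𝟙 _ := by
  have hpb := Groth.Agent.ProperFin.isPullback_pnMap 1 (algebraMap k K)
  let m := Groth.Agent.ProperFin.pnMap 1 (algebraMap k K)
  let X₁ := CohB1.ProjSpace 1 K
  haveI : IsAlgClosed K := IsAlgClosure.isAlgClosed k
  let iP := (CohB1.ProjSpace 1 k).fromSpecResidueField P
  let N := (CohB1.ProjSpace 1 k).residueField P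
  let pt := (CohB1.ProjSpace.toSpec 1 k) P
  let L := (Spec (CommRingCat.of k)).residueField pt
  haveI : IsIso ((Spec (CommRingCat.of k)).fromSpecResidueField pt) := by
    haveI : Surjective ((Spec (CommRingCat.of k)).fromSpecResidueField pt) :=
      ⟨fun z => ⟨IsLocalRing.closedPoint _, Subsingleton.elim _ _⟩⟩
    haveI : IsClosedImmersion ((Spec (CommRingCat.of k)).fromSpecResidueField pt) :=
      IsClosedImmersion.of_isPreimmersion _ (by rw [Scheme.range_fromSpecResidueField]; exact isClosed_singleton)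
    exact isIso_of_isClosedImmersion_of_surjective _
  let ρ := Spec.preimage ((Spec (CommRingCat.of k)).fromSpecResidueField pt)
  haveI : IsIso ρ := by
    have : IsIso (Scheme.Spec.map ρ.op) := by
      show IsIso (Spec.map (Spec.preimage _))
      rw [Spec.map_preimage]; infer_instance
    haveI := isIso_of_reflects_iso ρ.op Scheme.Spec
    exact isIso_of_op ρ
  letI algL : Algebra L N := ((CohB1.ProjSpace.toSpec 1 k).residueFieldMap P).hom.toAlgebra
  letI algN : Algebra k N := (ρ ≫ (CohB1.ProjSpace.toSpec 1 k).residueFieldMap P).hom.toAlgebra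
  have hiP : iP ≫ CohB1.ProjSpace.toSpec 1 k = Spec.map (CommRingCat.ofHom (algebraMap k N)) := by
    show _ = Spec.map (ρ ≫ _)
    rw [Spec.map_comp, Spec.map_preimage]
    exact (Scheme.Hom.SpecMap_residueFieldMap_fromSpecResidueField _ _).symm
  have hfr : 3 ≤ Module.finrank k N := by
    refine le_of_le_of_eq hdeg ?_
    exact Algebra.finrank_eq_of_equiv_equiv (asIso ρ).commRingCatIsoToRingEquiv.symm (RingEquiv.refl N) (by
      ext x
      show ((CohB1.ProjSpace.toSpec 1 k).residueFieldMap P).hom (ρ.hom ((inv ρ).hom x)) =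
        ((CohB1.ProjSpace.toSpec 1 k).residueFieldMap P).hom x
      rw [← CommRingCat.comp_apply (inv ρ) ρ, IsIso.inv_hom_id]
      rfl)
  have hP : IsClosed ({P} : Set ↥(CohB1.ProjSpace 1 k)) := by
    haveI : IsProper (CohB1.ProjSpace.toSpec 1 k) := Groth.Agent.ProjProper.Basic.isProper_toSpec 1 k
    haveI : Module.Finite k N := Module.finite_of_finrank_pos (by omega)
    haveI : IsFinite (Spec.map (CommRingCat.ofHom (algebraMap k N))) :=
      (IsFinite.SpecMap_iff _).2 (RingHom.finite_algebraMap.2 inferInstance)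
    haveI : IsProper (iP ≫ CohB1.ProjSpace.toSpec 1 k) := by rw [hiP]; infer_instance
    haveI : IsProper iP := IsProper.of_comp iP (CohB1.ProjSpace.toSpec 1 k)
    rw [← Scheme.range_fromSpecResidueField]
    exact iP.isClosedMap.isClosed_range
  haveI : IsClosedImmersion iP :=
    IsClosedImmersion.of_isPreimmersion _ (by rw [Scheme.range_fromSpecResidueField]; exact hP)
  have hbig : IsPullback (pullback.fst m iP ≫ CohB1.ProjSpace.toSpec 1 K) (pullback.snd m iP)
      (Spec.map (CommRingCat.ofHom (algebraMap k K))) (Spec.map (CommRingCat.ofHom (algebraMap k N))) := by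
    rw [← hiP]
    exact ((IsPullback.of_hasPullback m iP).flip.paste_vert hpb).flip
  let eF := hbig.isoPullback ≪≫ pullbackSpecIso k K N
  have heF : eF.inv ≫ pullback.fst m iP ≫ CohB1.ProjSpace.toSpec 1 K =
      Spec.map (CommRingCat.ofHom Algebra.TensorProduct.includeLeftRingHom) := by
    rw [Iso.trans_inv, Category.assoc, hbig.isoPullback_inv_fst, pullbackSpecIso_inv_fst]
  haveI : Nontrivial (TensorProduct k K N) := by
    refine Module.nontrivial_of_finrank_pos (R := K) ?_
    rw [Module.finrank_baseChange]; omega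
  haveI : UniversallyInjective (Spec.map (CommRingCat.ofHom (algebraMap k N))) := by
    rw [← hiP, ← Scheme.Hom.SpecMap_residueFieldMap_fromSpecResidueField]
    refine MorphismProperty.comp_mem @UniversallyInjective _ _ ?_ inferInstance
    exact @universallyInjective_specMap ↑((Spec (CommRingCat.of k)).residueField ((CohB1.ProjSpace.toSpec 1 k) P))
      ↑((CohB1.ProjSpace 1 k).residueField P) _ _ ((CohB1.ProjSpace.toSpec 1 k).residueFieldMap P).hom.toAlgebra hpi
  haveI : UniversallyInjective (pullback.fst m iP ≫ CohB1.ProjSpace.toSpec 1 K) :=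
    MorphismProperty.of_isPullback hbig.flip inferInstance
  haveI : Subsingleton ↥(pullback m iP) :=
    (pullback.fst m iP ≫ CohB1.ProjSpace.toSpec 1 K).injective.subsingleton
  obtain ⟨f₀⟩ : Nonempty ↥(Spec (CommRingCat.of (TensorProduct k K N))) :=
    inferInstanceAs (Nonempty (PrimeSpectrum (TensorProduct k K N)))
  let q : Pr 1 K := pullback.fst m iP (eF.inv f₀)
  haveI : IsClosedImmersion (pullback.fst m iP) := inferInstance
  have hqc : IsClosed ({q} : Set (Pr 1 K)) := by
    rw [show ({q} : Set (Pr 1 K)) = Set.range (pullback.fst m iP) from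
      Set.ext fun x => ⟨fun hx => ⟨eF.inv f₀, hx.symm⟩, by rintro ⟨z, rfl⟩; exact congrArg _ (Subsingleton.elim _ _)⟩]
    exact (pullback.fst m iP).isClosedEmbedding.isClosed_range
  obtain ⟨a, b, c, d, hne, hqn, hqm, huniq⟩ := exists_frame q hqc
  let eX := hpb.isoPullback
  let e : Pr 1 K ≅ Pr 1 K := eX ≪≫ φ ≪≫ eX.symm
  have hsnd : eX.hom ≫ pullback.snd _ _ = CohB1.ProjSpace.toSpec 1 K := hpb.isoPullback_hom_snd
  have he : e.hom ≫ str 1 K = str 1 K := by
    show (eX.hom ≫ φ.hom ≫ eX.inv) ≫ CohB1.ProjSpace.toSpec 1 K = CohB1.ProjSpace.toSpec 1 K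
    rw [Category.assoc, Category.assoc, hpb.isoPullback_inv_snd, hφ, hsnd]
  have hid : e.hom = 𝟙 _ := eq_id_of_fixes a b c d hne q hqn huniq hqm e he fun jS hjSi hSs hqy => by
    haveI := hjSi
    obtain ⟨y₀, hy₀⟩ : q ∈ Set.range jS := by
      have := hqy ⟨Ideal.span {Polynomial.X}, (Ideal.span_singleton_prime Polynomial.X_ne_zero).2 Polynomial.prime_X⟩
      exact ⟨_, this.2 (Ideal.mem_span_singleton_self _)⟩
    have hr : Set.range (eF.inv ≫ pullback.fst m iP) ⊆ Set.range jS := by
      rintro _ ⟨z, rfl⟩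
      refine ⟨y₀, hy₀.trans ?_⟩
      exact congrArg _ (Subsingleton.elim _ _)
    let l := IsOpenImmersion.lift jS _ hr
    have hl : l ≫ jS = eF.inv ≫ pullback.fst m iP := IsOpenImmersion.lift_fac _ _ _
    haveI : IsClosedImmersion (l ≫ jS) := by rw [hl]; infer_instance
    haveI : IsClosedImmersion l := IsClosedImmersion.of_comp l jS
    let θ := (Spec.preimage l).hom
    have hθl : Spec.map (CommRingCat.ofHom θ) = l := by rw [CommRingCat.ofHom_hom, Spec.map_preimage]
    have hθs : Function.Surjective θ := by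
      have : IsClosedImmersion (Spec.map (CommRingCat.ofHom θ)) := by rw [hθl]; infer_instance
      have h' := ((HasAffineProperty.iff_of_isAffine (P := @IsClosedImmersion)).1 this).2
      intro z
      obtain ⟨w, hw⟩ := h' ((Scheme.ΓSpecIso (CommRingCat.of (TensorProduct k K N))).inv z)
      refine ⟨(Scheme.ΓSpecIso (CommRingCat.of (Polynomial K))).hom w, ?_⟩
      have e := CategoryTheory.congr_fun (Scheme.ΓSpecIso_naturality (CommRingCat.ofHom θ)) w
      change (Scheme.ΓSpecIso _).hom ((Spec.map (CommRingCat.ofHom θ)).appTop w) =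
        θ ((Scheme.ΓSpecIso (CommRingCat.of (Polynomial K))).hom w) at e
      erw [hw] at e
      exact e.symm.trans (CategoryTheory.congr_fun (Scheme.ΓSpecIso _).inv_hom_id z)
    have hθC : θ.comp Polynomial.C = Algebra.TensorProduct.includeLeftRingHom := by
      refine ringHom_eq_of_spec ?_
      rw [CommRingCat.ofHom_comp, Spec.map_comp, hθl, ← hSs, reassoc_of% hl]
      exact heF
    let θa : Polynomial K →ₐ[K] TensorProduct k K N := { θ with commutes' := fun r => RingHom.congr_fun hθC r }
    obtain ⟨g, hg⟩ := (IsPrincipalIdealRing.principal (RingHom.ker θ)).principal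
    have hdim : 3 ≤ g.natDegree := by
      refine le_of_le_of_eq hfr ?_
      rw [← Module.finrank_baseChange (R := K) (S := k) (M' := N), ← finrank_quotient_span_eq_natDegree (f := g)]
      exact (Ideal.quotientKerAlgEquivOfSurjective (f := θa) hθs).toLinearEquiv.finrank_eq.symm.trans
        (Ideal.quotientEquivAlgOfEq K hg).toLinearEquiv.finrank_eq
    have hroot : ∀ r : K, g.IsRoot r → r = 0 := by
      intro r hr
      have hker : RingHom.ker θ ≤ RingHom.ker (Polynomial.evalRingHom r) := by
        rw [hg, Ideal.span_singleton_le_iff_mem]; exact hr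
      let ev := RingHom.liftOfSurjective θ hθs ⟨Polynomial.evalRingHom r, hker⟩
      have hev : ev.comp θ = Polynomial.evalRingHom r := RingHom.liftOfRightInverse_comp θ _ _ _
      let y : Spec (CommRingCat.of (Polynomial K)) := Spec.map (CommRingCat.ofHom (Polynomial.evalRingHom r))
        (IsLocalRing.closedPoint K)
      have hyq : jS y = q := by
        have hy : y = l (Spec.map (CommRingCat.ofHom ev) (IsLocalRing.closedPoint K)) := by
          show _ = _
          rw [← hθl, ← Scheme.Hom.comp_apply, ← Spec.map_comp, ← CommRingCat.ofHom_comp, hev]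
        rw [hy, ← Scheme.Hom.comp_apply, hl]
        exact congrArg (pullback.fst m iP) (Subsingleton.elim _ (eF.inv f₀))
      have := (hqy y).1 hyq
      change Polynomial.evalRingHom r Polynomial.X ∈ IsLocalRing.maximalIdeal K at this
      simpa [IsLocalRing.maximalIdeal_eq_bot] using this
    have hker3 : RingHom.ker θ ≤ RingHom.ker (Ideal.Quotient.mk (Ideal.span {(Polynomial.X : Polynomial K) ^ 3})) := by
      rw [hg, Ideal.span_singleton_le_iff_mem, Ideal.mk_ker, Ideal.mem_span_singleton]
      exact X_pow_three_dvd g hdim hroot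
    let ψ := RingHom.liftOfSurjective θ hθs ⟨_, hker3⟩
    have hψ : ψ.comp θ = Ideal.Quotient.mk (Ideal.span {(Polynomial.X : Polynomial K) ^ 3}) :=
      RingHom.liftOfRightInverse_comp θ _ _ _
    rw [← hψ, CommRingCat.ofHom_comp, Spec.map_comp, hθl, Category.assoc, Category.assoc, reassoc_of% hl, hl]
    have hz := hfix _ (Spec.map (CommRingCat.ofHom ψ) ≫ eF.inv ≫ pullback.fst m iP ≫ eX.hom)
      (Spec.map (CommRingCat.ofHom ψ) ≫ eF.inv ≫ pullback.snd m iP) (by
        simp only [Category.assoc]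
        rw [hpb.isoPullback_hom_fst, pullback.condition])
    simp only [Category.assoc] at hz
    show Spec.map _ ≫ eF.inv ≫ pullback.fst m iP ≫ eX.hom ≫ φ.hom ≫ eX.inv = _
    rw [reassoc_of% hz, Iso.hom_inv_id, Category.comp_id]
  have h2 : eX.hom ≫ φ.hom ≫ eX.inv = 𝟙 _ := hid
  rw [← cancel_epi eX.hom, ← cancel_mono eX.inv, Category.assoc, h2]
  simp

end

end Groth.Agent.S14647
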