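import Groth.Statements.S14648
import Groth.Agent.GrpScheme.Basic
import Groth.Agent.GrpScheme.Ext
import Groth.Agent.S1585
-- import your own Groth.Agent.* helpers here

set_option autoImplicit false
universe u
open CategoryTheory MonoidalCategory CartesianMonoidalCategory MonObj GrpObj AlgebraicGeometry CategoryTheory.Limits
open AlgGrp

namespace Groth.Agent.S14648

open Groth.Agent.GrpScheme Groth.Agent.GrpScheme.Basic in
/-- The action square of an equivariant map is cartesian. -/
theorem isPullback_act {S : Scheme.{u}} {G X Y : Over S} [GrpObj G] (a : AlgGrp.Action G X)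
    (b : AlgGrp.Action G Y) (f : Y ⟶ X) (h : (G ◁ f) ≫ a.act = b.act ≫ f) :
    IsPullback b.act (G ◁ f) f a.act where
  w := h.symm
  isLimit' := ⟨PullbackCone.IsLimit.mk _
    (fun s => lift (s.snd ≫ fst G X) (lift ((s.snd ≫ fst G X)⁻¹) s.fst ≫ b.act))
    (fun s => smul_inv_smul' b (s.snd ≫ fst G X) s.fst)
    (fun s => by
      ext1
      · simp
      · rw [Category.assoc, whiskerLeft_snd, lift_snd_assoc, Category.assoc, ← h, lift_whiskerLeft_assoc,
          s.condition]
        have e : s.snd ≫ a.act = smul a (s.snd ≫ fst G X) (s.snd ≫ snd G X) := by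
          simp [smul, ← comp_lift_assoc]
        rw [e]
        exact inv_smul_smul' a _ _)
    (fun s m h₁ h₂ => by
      have hg : m ≫ fst G Y = s.snd ≫ fst G X := by rw [← h₂, Category.assoc, whiskerLeft_fst]
      have e : s.fst = smul b (s.snd ≫ fst G X) (m ≫ snd G Y) := by
        rw [← h₁, ← hg]
        simp [smul, ← comp_lift_assoc]
      ext1
      · rw [lift_fst, hg]
      · rw [lift_snd, e]
        exact (inv_smul_smul' b _ _).symm)⟩

open Groth.Agent.GrpScheme Groth.Agent.GrpScheme.Basic in
/-- The actions along a birational finite equivariant map of varieties have the same kernel. -/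
theorem kernel_iff {k : Type u} [Field k] {G X Y : Over (Spec (CommRingCat.of k))} [GrpObj G]
    (a : AlgGrp.Action G X) (b : AlgGrp.Action G Y) (f : Y ⟶ X) [IsSeparated X.hom] [IsSeparated Y.hom]
    [IsIntegral X.left] [IsIntegral Y.left] [QuasiCompact f.left] [IsDominant f.left] [IsLocallyNoetherian Y.left]
    (V : X.left.Opens) (hV : (f.left ⁻¹ᵁ V : Set Y.left).Nonempty) [IsIso (f.left ∣_ V)]
    (h : (G ◁ f) ≫ a.act = b.act ≫ f) (T : Over (Spec (CommRingCat.of k))) (g : T ⟶ G) :
    (∀ (T' : Over (Spec (CommRingCat.of k))) (s : T' ⟶ T) (x : T' ⟶ X), lift (s ≫ g) x ≫ a.act = x) ↔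
      (∀ (T' : Over (Spec (CommRingCat.of k))) (s : T' ⟶ T) (y : T' ⟶ Y), lift (s ≫ g) y ≫ b.act = y) := by
  constructor
  · intro H T' s y
    let ψ : T' ⊗ Y ⟶ Y := lift (fst T' Y ≫ s ≫ g) (snd T' Y) ≫ b.act
    have hψ : ψ ≫ f = snd T' Y ≫ f := by
      rw [show ψ ≫ f = lift ((fst T' Y ≫ s) ≫ g) (snd T' Y ≫ f) ≫ a.act by
        simp only [ψ, Category.assoc, ← h, lift_whiskerLeft_assoc]]
      exact H _ _ _
    have hψl : ψ.left ≫ f.left = (snd T' Y).left ≫ f.left := congrArg CommaMorphism.left hψ
    suffices ψ = snd T' Y by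
      have := lift (𝟙 T') y ≫= this
      simpa [ψ, comp_lift_assoc] using this
    let W : Y.left.Opens := f.left ⁻¹ᵁ V
    have : IsDominant W.ι := ⟨by
      rw [DenseRange, Scheme.Opens.range_ι]
      exact W.isOpen.dense hV⟩
    have : IsSchemeTheoreticallyDominant W.ι := .of_isDominant _
    have : Flat (snd T' Y).left := inferInstanceAs (Flat (pullback.snd T'.hom Y.hom))
    refine Over.OverMorphism.ext (Ext.ext_of_schematicallyDominant
      (pullback.snd W.ι (snd T' Y).left) Y.hom ((Over.w ψ).trans (Over.w (snd T' Y)).symm) ?_)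
    set i := pullback.snd W.ι (snd T' Y).left
    let u := pullback.fst W.ι (snd T' Y).left
    have hu : i ≫ (snd T' Y).left = u ≫ W.ι := pullback.condition.symm
    have hm : Set.range (i ≫ ψ.left) ⊆ Set.range W.ι := by
      rw [Scheme.Opens.range_ι]
      rintro _ ⟨p, rfl⟩
      have e : (i ≫ ψ.left) ≫ f.left = u ≫ (f.left ∣_ V) ≫ V.ι := by
        rw [Category.assoc, hψl, morphismRestrict_ι, reassoc_of% hu]
      show f.left ((i ≫ ψ.left) p) ∈ V
      rw [← Scheme.Hom.comp_apply, e, Scheme.Hom.comp_apply, Scheme.Hom.comp_apply]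
      exact ((f.left ∣_ V) (u p)).2
    let v := IsOpenImmersion.lift W.ι (i ≫ ψ.left) hm
    have hv : v ≫ W.ι = i ≫ ψ.left := IsOpenImmersion.lift_fac _ _ _
    rw [← hv, hu]
    congr 1
    rw [← cancel_mono (f.left ∣_ V), ← cancel_mono V.ι, Category.assoc, Category.assoc,
      morphismRestrict_ι, reassoc_of% hv, hψl, reassoc_of% hu]
  · intro H T' s x
    let φ : T' ⊗ X ⟶ X := lift (fst T' X ≫ s ≫ g) (snd T' X) ≫ a.act
    have hφ : (T' ◁ f) ≫ φ = (T' ◁ f) ≫ snd T' X := by
      rw [show (T' ◁ f) ≫ φ = (lift ((fst T' Y ≫ s) ≫ g) (snd T' Y) ≫ b.act) ≫ f by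
        simp only [φ, Category.assoc, ← h, lift_whiskerLeft_assoc, comp_lift_assoc,
          whiskerLeft_fst_assoc, whiskerLeft_snd]]
      rw [H, whiskerLeft_snd]
    suffices φ = snd T' X by
      have := lift (𝟙 T') x ≫= this
      simpa [φ, comp_lift_assoc] using this
    have : IsSchemeTheoreticallyDominant f.left := .of_isDominant _
    have : Flat (snd T' X).left := inferInstanceAs (Flat (pullback.snd T'.hom X.hom))
    have H' : IsPullback (T' ◁ f).left (snd T' Y).left (snd T' X).left f.left :=
      (isPullback_whiskerLeft f).map (Over.forget _)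
    have : IsSchemeTheoreticallyDominant (T' ◁ f).left := .of_isPullback H'.flip
    exact Over.OverMorphism.ext (Ext.ext_of_schematicallyDominant (T' ◁ f).left X.hom
      ((Over.w φ).trans (Over.w (snd T' X)).symm) (congrArg CommaMorphism.left hφ))

/-- Over a field k, let G be a smooth connected k-group scheme of finite type acting on a variety X (a
separated, geometrically integral k-scheme of finite type), let ν : X̃ → X be the normalization of X
and let G act on X̃ so that ν is equivariant (such a lifted action exists and is unique; here it is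
given). Then the commutative square with the action maps G × X̃ → X̃ and G × X → X as horizontal
sides and id_G × ν, ν as vertical sides is cartesian, and the two actions have the same kernel: for
every k-scheme T, a T-point g of G acts as the identity on all points of X over T-schemes if and
only if it acts as the identity on all points of X̃ over T-schemes. (The quasi-compactness and
quasi-separatedness binders on the morphism from the generic point always hold; they are only needed
to form the normalization.) -/
theorem result (k : Type u) [Field k]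
    (G X : Over (Spec (CommRingCat.of k))) [GrpObj G] [Smooth G.hom] [QuasiCompact G.hom] [ConnectedSpace ↥G.left]
    [IsSeparated X.hom] [LocallyOfFiniteType X.hom] [QuasiCompact X.hom] [GeometricallyIntegral X.hom] [IsIntegral X.left] [QuasiCompact (X.left.fromSpecStalk (genericPoint ↥X.left))] [QuasiSeparated (X.left.fromSpecStalk (genericPoint ↥X.left))]
    (a : AlgGrp.Action G X) (b : AlgGrp.Action G (Over.mk (Curv2.normalizationι X.left ≫ X.hom)))
    (hb : (G ◁ (Over.homMk (Curv2.normalizationι X.left) rfl : Over.mk (Curv2.normalizationι X.left ≫ X.hom) ⟶ X)) ≫ a.act = b.act ≫ Over.homMk (Curv2.normalizationι X.left) rfl) :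
    IsPullback b.act (G ◁ (Over.homMk (Curv2.normalizationι X.left) rfl : Over.mk (Curv2.normalizationι X.left ≫ X.hom) ⟶ X)) (Over.homMk (Curv2.normalizationι X.left) rfl : Over.mk (Curv2.normalizationι X.left ≫ X.hom) ⟶ X) a.act ∧
    ∀ (T : Over (Spec (CommRingCat.of k))) (g : T ⟶ G),
      (∀ (T' : Over (Spec (CommRingCat.of k))) (s : T' ⟶ T) (x : T' ⟶ X), CartesianMonoidalCategory.lift (s ≫ g) x ≫ a.act = x) ↔
      (∀ (T' : Over (Spec (CommRingCat.of k))) (s : T' ⟶ T) (y : T' ⟶ Over.mk (Curv2.normalizationι X.left ≫ X.hom)), CartesianMonoidalCategory.lift (s ≫ g) y ≫ b.act = y) := by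
  let : X.left.Over (Spec (CommRingCat.of k)) := ⟨X.hom⟩
  have : LocallyOfFiniteType (X.left ↘ Spec (CommRingCat.of k)) := ‹LocallyOfFiniteType X.hom›
  obtain ⟨hfin, hdom, ⟨V, hne, hiso⟩, hint, -⟩ := S1585.result k X.left
  set f : Over.mk (Curv2.normalizationι X.left ≫ X.hom) ⟶ X := Over.homMk (Curv2.normalizationι X.left) rfl
  refine ⟨isPullback_act a b f hb, ?_⟩
  have : IsFinite f.left := hfin
  have : IsDominant f.left := hdom
  have : IsIntegral (Over.mk (Curv2.normalizationι X.left ≫ X.hom)).left := hint
  have : IsIso (f.left ∣_ V) := hiso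
  have : IsSeparated (Over.mk (Curv2.normalizationι X.left ≫ X.hom)).hom :=
    inferInstanceAs (IsSeparated (Curv2.normalizationι X.left ≫ X.hom))
  have : IsLocallyNoetherian X.left := LocallyOfFiniteType.isLocallyNoetherian X.hom
  have : IsLocallyNoetherian (Over.mk (Curv2.normalizationι X.left ≫ X.hom)).left :=
    LocallyOfFiniteType.isLocallyNoetherian (Curv2.normalizationι X.left)
  exact kernel_iff a b f V (f.left.denseRange.exists_mem_open V.isOpen hne |>.imp fun _ h => h) hb

end Groth.Agent.S14648
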