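import Groth.Statements.S14651
import Groth.Agent.FiltRees.Laurent

set_option autoImplicit false
universe u
open FiltBl

namespace Groth.Agent.S14651

/-- Let A be a Noetherian local ring that is a quotient of a Gorenstein ring, and F a filtration of
ideals on A (F^0 = A ⊇ F^1 ⊇ ⋯, F^i F^j ⊆ F^{i+j}) with every F^n nonzero and ⋂ F^n = 0, whose Rees
algebra ⊕_{n ≥ 0} F^n X^n is finitely generated over A and with F^1 of height at least 2
(equivalently, every F^n with n ≥ 1 has height at least 2, all F^n having the same radical). Then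
the extended Rees algebra R' = ⊕_{n ∈ ℤ} F^n T^n ⊆ A[T, T⁻¹] satisfies Serre's condition (S_2) if
and only if the associated graded ring G = ⊕ F^n/F^{n+1}, realised as R'/uR' with u = T⁻¹, satisfies
(S_1) and A satisfies (S_2). (The published statement is made under the further standing assumption
that no nonzero element of the Rees algebra ⊕_{n ≥ 0} F^n T^n is annihilated by a power of the ideal
generated by its homogeneous elements of positive degree; this row does not assume it, and the
assertion holds without it.) -/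
theorem result (A : Type u) [CommRing A] [IsNoetherianRing A] [IsLocalRing A]
    (S : Type u) [CommRing S] [LocCoh.IsGorensteinRing S] (π : S →+* A) (hπ : Function.Surjective π)
    (𝓕 : FiltBl.IdealFiltration A) (hne : ∀ n, 𝓕.F n ≠ ⊥) (hsep : ⨅ n, 𝓕.F n = ⊥)
    (hfg : Algebra.FiniteType A 𝓕.rees) (hht : 2 ≤ (𝓕.F 1).height) :
    LocCoh.HasSk 2 𝓕.extRees 𝓕.extRees ↔ (LocCoh.HasSk 1 𝓕.Gr 𝓕.Gr ∧ LocCoh.HasSk 2 A A) := by
  haveI := Groth.Agent.FiltRees.isNoetherianRing_extRees 𝓕 hfg
  have hreg := Groth.Agent.FiltRees.isSMulRegular_u 𝓕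
  simp only [Groth.Agent.FiltRees.hasSk_self_iff]
  constructor
  · intro h
    refine ⟨fun q _ => ?_, fun q _ => ?_⟩
    · obtain ⟨h1, h2⟩ := Groth.Agent.FiltRees.dp_ds_quotient hreg q
      have h3 := h (q.comap (Ideal.Quotient.mk _))
      rw [h1, h2] at h3
      exact (Groth.Agent.FiltRees.min_add_one_le_iff 1 _ _).1 h3
    · obtain ⟨Q, -, h1, h2⟩ := Groth.Agent.FiltRees.exists_laurent_over q
      obtain ⟨h3, h4⟩ := Groth.Agent.FiltRees.dp_ds_comap (LaurentPolynomial A)
        (Submonoid.powers 𝓕.u) Q.asIdeal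
      rw [← h1, ← h2, ← h3, ← h4]
      exact h _
  · rintro ⟨hG, hA⟩ P _
    by_cases hu : 𝓕.u ∈ P
    · haveI := Groth.Agent.FiltRees.isPrime_map_mk (P := P) hu
      obtain ⟨h1, h2⟩ := Groth.Agent.FiltRees.dp_ds_quotient hreg
        (P.map (Ideal.Quotient.mk (Ideal.span {𝓕.u})))
      have h3 := (Groth.Agent.FiltRees.min_add_one_le_iff 1 _ _).2
        (hG (P.map (Ideal.Quotient.mk (Ideal.span {𝓕.u}))))
      rw [← h1, ← h2] at h3
      exact (Groth.Agent.FiltRees.iff_of_eq_prime (Groth.Agent.FiltRees.comap_map_mk hu)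
        (fun J _ => min ((2 : ℕ) : WithBot ℕ∞) (Groth.Agent.FiltRees.ds J) ≤
          ((Groth.Agent.FiltRees.dp J : ℕ∞) : WithBot ℕ∞))).1 h3
    · obtain ⟨Q, -, h1, h2⟩ := Groth.Agent.FiltRees.exists_laurent_prime 𝓕 P hu
      obtain ⟨c, h3, h4⟩ := Groth.Agent.FiltRees.exists_dp_ds_laurent Q.asIdeal
      rw [h1, h2, h3, h4]
      exact Groth.Agent.EGA4Lib.min_add_le 2 (hA _) (min_le_right _ _)

end Groth.Agent.S14651
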