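import Groth.Statements.S14653
import Groth.Agent.FiltRees.UFD

set_option autoImplicit false
universe u
open FiltBl

namespace Groth.Agent.S14653

/-- Let A be a Noetherian local ring that is a quotient of a Gorenstein ring, and F a filtration of
ideals on A (F^0 = A ⊇ F^1 ⊇ ⋯, F^i F^j ⊆ F^{i+j}) with every F^n nonzero and ⋂ F^n = 0, whose Rees
algebra ⊕_{n ≥ 0} F^n X^n is finitely generated over A and with F^1 of height at least 2
(equivalently, every F^n with n ≥ 1 has height at least 2, all F^n having the same radical); assume
moreover that the extended Rees algebra R' = ⊕_{n ∈ ℤ} F^n T^n ⊆ A[T, T⁻¹] is an integrally closed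
domain. Then R' is a unique factorization domain exactly when A is one and the associated graded
ring G = ⊕ F^n/F^{n+1}, realised as R'/uR' with u = T⁻¹, is an integral domain. (The published
statement is made under the further standing assumption that no nonzero element of the Rees algebra
⊕_{n ≥ 0} F^n T^n is annihilated by a power of the ideal generated by its homogeneous elements of
positive degree; this row does not assume it, and the assertion holds without it.) -/
theorem result (A : Type u) [CommRing A] [IsNoetherianRing A] [IsLocalRing A]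
    (S : Type u) [CommRing S] [LocCoh.IsGorensteinRing S] (π : S →+* A) (hπ : Function.Surjective π)
    (𝓕 : FiltBl.IdealFiltration A) (hne : ∀ n, 𝓕.F n ≠ ⊥) (hsep : ⨅ n, 𝓕.F n = ⊥)
    (hfg : Algebra.FiniteType A 𝓕.rees) (hht : 2 ≤ (𝓕.F 1).height) [IsDomain A]
    [IsDomain 𝓕.extRees] (hnor : IsIntegrallyClosed 𝓕.extRees) :
    UniqueFactorizationMonoid 𝓕.extRees ↔ (UniqueFactorizationMonoid A ∧ IsDomain 𝓕.Gr) := by
  haveI := Groth.Agent.FiltRees.isNoetherianRing_extRees 𝓕 hfg
  haveI := Groth.Agent.FiltRees.isDomain_laurent (A := A)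
  have hirr := Groth.Agent.FiltRees.irreducible_u 𝓕 hsep
  have hdom : IsDomain 𝓕.Gr ↔ Prime 𝓕.u :=
    (Ideal.Quotient.isDomain_iff_prime (Ideal.span {𝓕.u})).trans
      (Ideal.span_singleton_prime hirr.ne_zero)
  rw [hdom]
  constructor
  · intro h
    have hp : Prime 𝓕.u := UniqueFactorizationMonoid.irreducible_iff_prime.1 hirr
    exact ⟨Groth.Agent.FiltRees.ufm_laurent_iff.1
      ((UniqueFactorizationMonoid.iff_of_isLocalizationAway_of_prime hp (LaurentPolynomial A)).1 h), hp⟩
  · rintro ⟨hA, hp⟩
    exact (UniqueFactorizationMonoid.iff_of_isLocalizationAway_of_prime hp (LaurentPolynomial A)).2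
      (Groth.Agent.FiltRees.ufm_laurent_iff.2 hA)

end Groth.Agent.S14653
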