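import Groth.Statements.S14655
import Groth.Agent.FiltRees.ProjStalk
import Groth.Agent.FlatMor.CMFlat

set_option autoImplicit false
universe u
open FiltBl

namespace Groth.Agent.S14655

open AlgebraicGeometry in
/-- Let A be a Noetherian ℕ-graded commutative ring which is a Cohen–Macaulay ring. Then the scheme Proj
A is Cohen–Macaulay: every local ring of Proj A is a Cohen–Macaulay local ring. -/
theorem result (A : Type u) [CommRing A]
    (𝒜 : ℕ → AddSubgroup A) [GradedRing 𝒜] [LocCoh.IsCohenMacaulayRing A] (x : Proj 𝒜) :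
    LocCoh.IsCohenMacaulayLocalRing ((Proj 𝒜).presheaf.stalk x) := by
  obtain ⟨d, f, hd, hf, hfP⟩ := Groth.Agent.FiltRees.exists_relevant x
  let e := (AlgebraicGeometry.Proj.stalkIso 𝒜 x).commRingCatIsoToRingEquiv
  exact Groth.Agent.FlatMor.CMFlat.isCM_of_ringEquiv e.symm
    (Groth.Agent.FiltRees.isCohenMacaulayLocalRing_deg0 x.asHomogeneousIdeal.isHomogeneous hf hd hfP
      (LocCoh.IsCohenMacaulayRing.isCohenMacaulayLocalRing_localization _))

end Groth.Agent.S14655
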