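import Groth.Statements.S14660
import Groth.Agent.FiltRees.Laurent

set_option autoImplicit false
universe u
open FiltBl

namespace Groth.Agent.S14660

/-- (ii) ⇔ (iii): let A be a Noetherian local ring that is a quotient of a Gorenstein ring, and F a
filtration of ideals on A (F^0 = A ⊇ F^1 ⊇ ⋯, F^i F^j ⊆ F^{i+j}) with every F^n nonzero and ⋂ F^n =
0, whose Rees algebra ⊕_{n ≥ 0} F^n X^n is finitely generated over A and with F^1 of height at least
2 (equivalently, every F^n with n ≥ 1 has height at least 2, all F^n having the same radical). Let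
R' = ⊕_{n ∈ ℤ} F^n T^n ⊆ A[T, T⁻¹] be the extended Rees algebra, R_+R' its ideal generated by the
elements a T^n with n ≥ 1 and a ∈ F^n, u = T⁻¹, and G the associated graded ring, given here as any
ring with a surjection φ : R' → G whose kernel is uR', with G_+ = φ(R_+R'). Then the open subscheme
Spec R' − V(R_+R') is Cohen–Macaulay (every localization of R' at a prime not containing R_+R' is a
Cohen–Macaulay local ring) if and only if the localization G_p is Cohen–Macaulay for every prime p
of G with G_+ ⊄ p and the localization A_q is Cohen–Macaulay for every prime q of A with F^1 ⊄ q.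
(The published statement phrases the first condition for the scheme Spec_X ⊕_{n ∈ ℤ} O_X(n) over the
filtered blowing-up X = Proj ⊕_{n ≥ 0} F^n T^n, which is identified with this open subscheme of Spec
R'; it asks the condition on G only at homogeneous primes not containing G_+, which for the graded
ring G is equivalent to asking it at all such primes; it states the condition on A at the primes not
containing a fixed F^N with F^{nN} = (F^N)^n for all n, an ideal with the same radical as F^1; and
it is made under the further standing assumption that no nonzero element of ⊕_{n ≥ 0} F^n T^n is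
annihilated by a power of the ideal generated by its homogeneous elements of positive degree, which
this row does not assume and which is not needed.) -/
theorem result (A : Type u) [CommRing A] [IsNoetherianRing A] [IsLocalRing A]
    (S : Type u) [CommRing S] [LocCoh.IsGorensteinRing S] (π : S →+* A) (hπ : Function.Surjective π)
    (𝓕 : FiltBl.IdealFiltration A) (hne : ∀ n, 𝓕.F n ≠ ⊥) (hsep : ⨅ n, 𝓕.F n = ⊥)
    (hfg : Algebra.FiniteType A 𝓕.rees) (hht : 2 ≤ (𝓕.F 1).height)
    (G : Type u) [CommRing G] (φ : 𝓕.extRees →+* G) (hφ : Function.Surjective φ)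
    (hker : RingHom.ker φ = Ideal.span {𝓕.u}) (Rp : Ideal 𝓕.extRees)
    (hRp : Rp = Ideal.span {x : 𝓕.extRees | ∃ n : ℕ, 0 < n ∧ ∃ a ∈ 𝓕.F n,
      (x : LaurentPolynomial A) = LaurentPolynomial.C a * LaurentPolynomial.T (n : ℤ)}) :
    (∀ (P : Ideal 𝓕.extRees) [P.IsPrime], ¬ Rp ≤ P →
        LocCoh.IsCohenMacaulayLocalRing (Localization.AtPrime P)) ↔
      ((∀ (p : Ideal G) [p.IsPrime], ¬ Ideal.map φ Rp ≤ p →
          LocCoh.IsCohenMacaulayLocalRing (Localization.AtPrime p)) ∧
        (∀ (q : Ideal A) [q.IsPrime], ¬ 𝓕.F 1 ≤ q →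
            LocCoh.IsCohenMacaulayLocalRing (Localization.AtPrime q))) := by
  haveI := Groth.Agent.FiltRees.isNoetherianRing_extRees 𝓕 hfg
  have hreg := Groth.Agent.FiltRees.isSMulRegular_u 𝓕
  have hT : ∀ (n : ℕ) (a : A), a ∈ 𝓕.F n → a ∈ 𝓕.F ((n : ℤ)).toNat := fun n a h => by simpa using h
  have hRpQ : ∀ (Q : Ideal (LaurentPolynomial A)) [Q.IsPrime],
      Rp ≤ Q.comap (algebraMap 𝓕.extRees (LaurentPolynomial A)) ↔
        𝓕.F 1 ≤ Q.comap (algebraMap A (LaurentPolynomial A)) := by
    intro Q _
    constructor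
    · intro h a ha
      have h1 := h (show Groth.Agent.FiltRees.mon 𝓕 _ a (hT 1 a ha) ∈ Rp by
        rw [hRp]; exact Ideal.subset_span ⟨1, one_pos, a, ha, rfl⟩)
      have h2 := Q.mul_mem_right (LaurentPolynomial.T (-((1 : ℕ) : ℤ))) h1
      rw [show (algebraMap 𝓕.extRees (LaurentPolynomial A) (Groth.Agent.FiltRees.mon 𝓕 _ a (hT 1 a ha)))
        = LaurentPolynomial.C a * LaurentPolynomial.T ((1 : ℕ) : ℤ) from rfl, mul_assoc,
        ← LaurentPolynomial.T_add, add_neg_cancel, LaurentPolynomial.T_zero, mul_one] at h2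
      exact h2
    · intro h
      rw [hRp, Ideal.span_le]
      rintro x ⟨n, hn, a, ha, hx⟩
      change (x : LaurentPolynomial A) ∈ Q
      rw [hx]
      exact Q.mul_mem_right _ (h (𝓕.antitone hn ha))
  constructor
  · intro h
    refine ⟨fun p _ hp => ?_, fun q _ hq => ?_⟩
    · have h1 := h (p.comap φ) (fun hle => hp (Ideal.map_le_iff_le_comap.2 hle))
      exact (Groth.Agent.FiltRees.cm_comap_surjective_iff hreg φ hφ hker p).1 h1
    · obtain ⟨Q, hQ, h1, h2⟩ := Groth.Agent.FiltRees.exists_laurent_over q
      obtain ⟨h3, h4⟩ := Groth.Agent.FiltRees.dp_ds_comap (LaurentPolynomial A)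
        (Submonoid.powers 𝓕.u) Q.asIdeal
      rw [Groth.Agent.FiltRees.cm_iff, ← h1, ← h2, ← h3, ← h4, ← Groth.Agent.FiltRees.cm_iff]
      exact h _ (by rw [hRpQ, hQ]; exact hq)
  · rintro ⟨hG, hA⟩ P _ hP
    by_cases hu : 𝓕.u ∈ P
    · have hle : RingHom.ker φ ≤ P := hker ▸ (Ideal.span_singleton_le_iff_mem _).2 hu
      haveI : (P.map φ).IsPrime := Ideal.map_isPrime_of_surjective hφ hle
      have hc : (P.map φ).comap φ = P := by
        rw [Ideal.comap_map_of_surjective _ hφ, ← RingHom.ker_eq_comap_bot, sup_eq_left.2 hle]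
      refine (Groth.Agent.FiltRees.iff_of_eq_prime hc
        (fun J _ => LocCoh.IsCohenMacaulayLocalRing (Localization.AtPrime J))).1 ?_
      refine (Groth.Agent.FiltRees.cm_comap_surjective_iff hreg φ hφ hker _).2 (hG _ fun h => hP ?_)
      exact (Ideal.map_le_iff_le_comap.1 h).trans hc.le
    · obtain ⟨Q, hQ, h1, h2⟩ := Groth.Agent.FiltRees.exists_laurent_prime 𝓕 P hu
      obtain ⟨c, h3, h4⟩ := Groth.Agent.FiltRees.exists_dp_ds_laurent Q.asIdeal
      have h5 := (Groth.Agent.FiltRees.cm_iff _).1
        (hA (Q.asIdeal.comap (algebraMap A (LaurentPolynomial A)))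
          (fun hle => hP (hQ ▸ (hRpQ Q.asIdeal).2 hle)))
      rw [Groth.Agent.FiltRees.cm_iff, h1, h2, h3, h4, h5, WithBot.coe_add]

end Groth.Agent.S14660
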