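import Groth.Statements.S14665
import Groth.Agent.SymBC.Compare

set_option autoImplicit false
universe u
open CategoryTheory CategoryTheory.Limits AlgebraicGeometry
open SymProd

namespace Groth.Agent.S14665

/-- Let f : X ⟶ S be a flat morphism such that every finite set of points of X lying over a single point
of S is contained in an affine open of X, let n ≥ 0 and let (Y, q, g) be an n-th symmetric power of
X over S (q : X ×_S ⋯ ×_S X ⟶ Y a quotient of the n-fold fibre power by the symmetric group
permuting the factors: affine, invariant, identifying sections of O_Y with invariant sections; q ≫ g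
= the structure map). Then the formation of the symmetric power commutes with arbitrary base change:
for any b : S' ⟶ S, with X' = X ×_S S' and f' its projection to S', let c be the morphism from the
n-fold fibre power of X' over S' to that of X over S whose components are the first projections X' ⟶
X and which lies over b, and let q' be the morphism from the fibre power of X' to Y ×_S S' with
components c ≫ q and the structure map to S'. Then q' together with the projection Y ×_S S' ⟶ S' is
an n-th symmetric power of X' over S'. -/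
theorem result {X S S' Y : Scheme.{u}} (f : X ⟶ S) [Flat f]
    (hAF : SymProd.IsAF f) (n : ℕ) (q : SymProd.fibPow f n ⟶ Y) (g : Y ⟶ S) (hq : SymProd.IsSymProd f n q g)
    (b : S' ⟶ S)
    (c : SymProd.fibPow (pullback.snd f b) n ⟶ SymProd.fibPow f n)
    (hcπ : ∀ i : Fin n, c ≫ WidePullback.π (fun _ => f) i = WidePullback.π (fun _ => pullback.snd f b) i ≫ pullback.fst f b)
    (hcb : c ≫ WidePullback.base (fun _ => f) = WidePullback.base (fun _ => pullback.snd f b) ≫ b)
    (q' : SymProd.fibPow (pullback.snd f b) n ⟶ pullback g b)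
    (hq'₁ : q' ≫ pullback.fst g b = c ≫ q)
    (hq'₂ : q' ≫ pullback.snd g b = WidePullback.base (fun _ => pullback.snd f b)) :
    SymProd.IsSymProd (pullback.snd f b) n q' (pullback.snd g b) := by
  classical
  haveI := hq.isQuot.affine
  have hP := SymBC.isPullback_fibPow f b c hcπ hcb
  have hid : fibPowMap f n f (𝟙 X) (Category.id_comp f) = 𝟙 _ := by
    refine WidePullback.hom_ext _ _ _ (fun j => ?_) ?_ <;> simp
  have hρc : ∀ σ : ULift.{u} (Equiv.Perm (Fin n)),
      (permActU (pullback.snd f b) n σ).hom ≫ c = c ≫ permHom f n σ.down := fun σ => by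
    refine WidePullback.hom_ext _ _ _ (fun j => ?_) ?_
    · simp [hcπ]
    · simp [hcb]
  have hρb : ∀ σ : ULift.{u} (Equiv.Perm (Fin n)),
      (permActU (pullback.snd f b) n σ).hom ≫ WidePullback.base (fun _ : Fin n => pullback.snd f b) =
        WidePullback.base (fun _ : Fin n => pullback.snd f b) := fun σ => by simp
  have hinv : ∀ σ : ULift.{u} (Equiv.Perm (Fin n)), (permActU (pullback.snd f b) n σ).hom ≫ q' = q' := fun σ => by
    refine pullback.hom_ext ?_ ?_
    · rw [Category.assoc, hq'₁, reassoc_of% hρc σ]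
      exact congrArg (c ≫ ·) (hq.isQuot.inv σ)
    · rw [Category.assoc, hq'₂, hρb]
  have hu1 : q' ≫ pullback.fst g b = (c ≫ fibPowMap f n f (𝟙 X) (Category.id_comp f)) ≫ q := by
    rw [hq'₁, hid, Category.comp_id]
  obtain ⟨pr', D⟩ := SymCmp.exists_setup (u := q') (pT := pullback.fst g b) (pS := pullback.snd g b)
    hq (𝟙 X) (Category.id_comp f) hP (permActU (pullback.snd f b) n) hρc hρb hinv hu1 hq'₂
  have chart : ∀ t : (pullback g b : Scheme.{u}), ∃ U : (pullback g b).Opens, IsAffineOpen U ∧ t ∈ U ∧
      IsAffineOpen (q' ⁻¹ᵁ U) ∧ SGA1Quot.Good (permActU (pullback.snd f b) n) q' hinv U := by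
    intro t
    obtain ⟨S0, hS0, hs, -⟩ := exists_isAffineOpen_mem_and_subset
      (x := b (pullback.snd g b t)) (U := ⊤) trivial
    obtain ⟨S0', hS0', hs', hle⟩ := exists_isAffineOpen_mem_and_subset
      (x := pullback.snd g b t) (U := b ⁻¹ᵁ S0) hs
    obtain ⟨V, hV, hv, hVS⟩ := exists_isAffineOpen_mem_and_subset
      (x := pullback.fst g b t) (U := g ⁻¹ᵁ S0) (by
        change g (pullback.fst g b t) ∈ S0
        rw [← Scheme.Hom.comp_apply, pullback.condition]
        exact hs)
    obtain ⟨haff, hrange⟩ := D.mem_range hV hS0 hVS hS0' hle (V' := pullback.fst g b ⁻¹ᵁ V ⊓ pullback.snd g b ⁻¹ᵁ S0') rfl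
    refine ⟨_, SymCmp.isAffineOpen_pullback (IsPullback.of_hasPullback g b) hS0 hS0' hV hle hVS, ⟨hv, hs'⟩,
      haff, SymBC.injective_app hq hP hq'₁ hq'₂ hV hS0 hVS hS0' hle, hrange⟩
  haveI : IsAffineHom q' := isAffineHom_of_forall_exists_isAffineOpen q' fun t => by
    obtain ⟨U, hU, ht, ha, -⟩ := chart t
    exact ⟨U, ht, hU, ha⟩
  exact ⟨SGA1Quot.isQuot_of_affine_cover fun t => by
    obtain ⟨U, hU, ht, -, hg⟩ := chart t
    exact ⟨U, hU, ht, hg⟩, hq'₂⟩

end Groth.Agent.S14665
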