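import Groth.Statements.S14666
import Groth.Agent.GITLib.RigidProper
-- import your own Groth.Agent.* helpers here

set_option autoImplicit false
universe u
open CategoryTheory CategoryTheory.Limits AlgebraicGeometry
open AbSch

namespace Groth.Agent.S14666

/-- A surjective morphism injective on functions is epimorphic. -/
theorem eq_of_comp_eq {X Y Z : Scheme.{u}} (q : X ⟶ Z) [Surjective q]
    (hq : ∀ U : Z.Opens, Function.Injective (q.app U).hom) {r r' : Z ⟶ Y} (h : q ≫ r = q ≫ r') : r = r' := by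
  refine Scheme.hom_ext_of_forall _ _ fun z => ?_
  obtain ⟨x, rfl⟩ := q.surjective z
  obtain ⟨V, hV, hxV, -⟩ := exists_isAffineOpen_mem_and_subset (x := r.base (q.base x)) (U := (⊤ : Y.Opens)) trivial
  have hxV' : r'.base (q.base x) ∈ V := by
    rw [← Scheme.Hom.comp_apply, ← h, Scheme.Hom.comp_apply]
    exact hxV
  have : IsAffine V := hV
  let U : Z.Opens := r ⁻¹ᵁ V ⊓ r' ⁻¹ᵁ V
  refine ⟨U, ⟨hxV, hxV'⟩, ?_⟩
  have h1 : Set.range (U.ι ≫ r).base ⊆ Set.range V.ι.base := by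
    rintro _ ⟨y, rfl⟩
    rw [Scheme.Opens.range_ι]
    exact y.2.1
  have h2 : Set.range (U.ι ≫ r').base ⊆ Set.range V.ι.base := by
    rintro _ ⟨y, rfl⟩
    rw [Scheme.Opens.range_ι]
    exact y.2.2
  let a := IsOpenImmersion.lift V.ι (U.ι ≫ r) h1
  let a' := IsOpenImmersion.lift V.ι (U.ι ≫ r') h2
  have e : (q ∣_ U) ≫ a = (q ∣_ U) ≫ a' := by
    rw [← cancel_mono V.ι, Category.assoc, Category.assoc, IsOpenImmersion.lift_fac, IsOpenImmersion.lift_fac,
      morphismRestrict_ι_assoc, morphismRestrict_ι_assoc, h]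
  have e' : a = a' := by
    refine ext_of_isAffine (CommRingCat.hom_ext (RingHom.ext fun c => ?_))
    have hi : Function.Injective (q ∣_ U).appTop := by
      rw [morphismRestrict_appTop]
      exact (ConcreteCategory.bijective_of_isIso (X.presheaf.map (eqToHom (image_morphismRestrict_preimage q U ⊤)).op)).1.comp
        (hq _)
    refine hi ?_
    have := congr(($e).appTop c)
    simpa using this
  rw [← IsOpenImmersion.lift_fac V.ι (U.ι ≫ r) h1, ← IsOpenImmersion.lift_fac V.ι (U.ι ≫ r') h2]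
  exact congrArg (· ≫ V.ι) e'


/-- Let S be a locally Noetherian scheme, ξ : X ⟶ S a proper morphism all of whose geometric fibres are
integral and for which O_S ⟶ ξ_*O_X is an isomorphism (the map Γ(U, O_S) → Γ(ξ⁻¹U, O_X) is bijective
for every open U of S), v : Y ⟶ S an arbitrary S-scheme and f : X ⟶ Y a morphism over S. Let U be
the set of points s of S such that f sends every point of the fibre ξ⁻¹(s) to one and the same point
of Y. Then U is open in S, and for every morphism τ : T ⟶ S the base change of f to T factors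
through the projection X ×_S T ⟶ T — that is, there is r : T ⟶ Y with r ≫ v = τ and fst ≫ f = snd ≫
r on X ×_S T — if and only if τ maps every point of T into U. -/
theorem result {X Y S : Scheme.{u}} [IsLocallyNoetherian S]
    (ξ : X ⟶ S) [IsProper ξ] [GeometricallyIntegral ξ]
    (h0 : ∀ U : S.Opens, Function.Bijective (ξ.app U).hom)
    (v : Y ⟶ S) (f : X ⟶ Y) (hf : f ≫ v = ξ) :
    IsOpen {s : ↥S | ∃ y : ↥Y, ∀ x : ↥X, ξ.base x = s → f.base x = y} ∧
    ∀ (T : Scheme.{u}) (τ : T ⟶ S),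
      ((∃ r : T ⟶ Y, r ≫ v = τ ∧ pullback.fst ξ τ ≫ f = pullback.snd ξ τ ≫ r) ↔
        ∀ t : ↥T, τ.base t ∈ {s : ↥S | ∃ y : ↥Y, ∀ x : ↥X, ξ.base x = s → f.base x = y}) := by
  let Uset := {s : ↥S | ∃ y : ↥Y, ∀ x : ↥X, ξ.base x = s → f.base x = y}
  have hres : ∀ W : S.Opens, ∀ U, Function.Injective ((ξ ∣_ W).app U).hom := fun W U => by
    rw [morphismRestrict_app]
    exact (ConcreteCategory.bijective_of_isIso (X.presheaf.map (eqToHom (image_morphismRestrict_preimage ξ W U)).op)).1.comp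
      (h0 _).1
  have : Surjective ξ := inferInstance
  have hloc : ∀ s : S, s ∈ Uset → ∃ W : S.Opens, s ∈ W ∧ ∃ r : (W : Scheme.{u}) ⟶ Y, (ξ ⁻¹ᵁ W).ι ≫ f = (ξ ∣_ W) ≫ r := by
    rintro s ⟨y, hy⟩
    obtain ⟨V, hV, hyV, -⟩ := exists_isAffineOpen_mem_and_subset (x := y) (U := (⊤ : Y.Opens)) trivial
    have : IsAffine V := hV
    let W : S.Opens := ⟨(ξ.base '' (f.base ⁻¹' (V : Set Y))ᶜ)ᶜ,
      (ξ.isClosedMap _ (V.2.preimage f.base.hom.continuous).isClosed_compl).isOpen_compl⟩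
    have hsW : s ∈ W := by
      rintro ⟨x, hx, hxs⟩
      exact hx (show f.base x ∈ V from (hy x hxs).symm ▸ hyV)
    have hr : Set.range ((ξ ⁻¹ᵁ W).ι ≫ f).base ⊆ Set.range V.ι.base := by
      rintro _ ⟨⟨x, hx⟩, rfl⟩
      rw [Scheme.Opens.range_ι]
      by_contra hc
      exact hx ⟨x, hc, rfl⟩
    have : IsIso (ξ ∣_ W).appTop := by
      rw [morphismRestrict_appTop]
      have : IsIso (ξ.app (W.ι ''ᵁ ⊤)) := (ConcreteCategory.isIso_iff_bijective _).2 (h0 _)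
      exact @IsIso.comp_isIso _ _ _ _ _ (ξ.app (W.ι ''ᵁ ⊤)) _ this (by apply Functor.map_isIso)
    obtain ⟨τ, hτ⟩ := Groth.Agent.GITLib.Rigid.exists_factor (ξ ∣_ W) (IsOpenImmersion.lift V.ι _ hr)
    exact ⟨W, hsW, τ ≫ V.ι, by rw [← Category.assoc, ← hτ, IsOpenImmersion.lift_fac]⟩
  have hsub : ∀ (W : S.Opens) (r : (W : Scheme.{u}) ⟶ Y), (ξ ⁻¹ᵁ W).ι ≫ f = (ξ ∣_ W) ≫ r →
      ∀ s ∈ W, s ∈ Uset := by
    intro W r hr s hs
    refine ⟨r.base ⟨s, hs⟩, fun x hx => ?_⟩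
    have hxW : x ∈ ξ ⁻¹ᵁ W := show ξ.base x ∈ W from hx ▸ hs
    have := congr(($hr).base ⟨x, hxW⟩)
    rw [Scheme.Hom.comp_apply, Scheme.Hom.comp_apply] at this
    refine this.trans (congrArg r.base (Subtype.ext ?_))
    rw [morphismRestrict_base_coe]
    exact hx
  have hopen : IsOpen Uset := isOpen_iff_forall_mem_open.2 fun s hs => by
    obtain ⟨W, hsW, r, hr⟩ := hloc s hs
    exact ⟨W, fun t ht => hsub W r hr t ht, W.2, hsW⟩
  refine ⟨hopen, fun T τ => ⟨?_, fun hτ => ?_⟩⟩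
  · rintro ⟨r, -, hr⟩ t
    refine ⟨r.base t, fun x hx => ?_⟩
    obtain ⟨z, hz, hz'⟩ := Scheme.Pullback.exists_preimage_pullback (f := ξ) (g := τ) x t hx
    have := congr(($hr).base z)
    rw [Scheme.Hom.comp_apply, Scheme.Hom.comp_apply, hz, hz'] at this
    exact this
  let UO : S.Opens := ⟨Uset, hopen⟩
  choose W hW r hr using fun s : UO => hloc s.1 s.2
  have hWU : ∀ s, W s ≤ UO := fun s => hsub _ _ (hr s)
  let Wsub : UO → (UO : Scheme.{u}).Opens := fun s => UO.ι ⁻¹ᵁ W s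
  have hcov : TopologicalSpace.IsOpenCover Wsub := TopologicalSpace.IsOpenCover.mk (top_le_iff.1 fun s _ => TopologicalSpace.Opens.mem_iSup.2 ⟨s, hW s⟩)
  let 𝒰 := (UO : Scheme.{u}).openCoverOfIsOpenCover Wsub hcov
  let toW : ∀ s : UO, (Wsub s : Scheme.{u}) ⟶ W s := fun s =>
    IsOpenImmersion.lift (W s).ι ((Wsub s).ι ≫ UO.ι) (by
      rintro _ ⟨y, rfl⟩
      rw [Scheme.Opens.range_ι]
      exact y.2)
  have htoW : ∀ s, toW s ≫ (W s).ι = (Wsub s).ι ≫ UO.ι := fun s => IsOpenImmersion.lift_fac _ _ _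
  have key : ∀ (i : UO) (Z : S.Opens) (hZ : Z ≤ W i),
      (ξ ⁻¹ᵁ Z).ι ≫ f = (ξ ∣_ Z) ≫ S.homOfLE hZ ≫ r i := by
    intro i Z hZ
    have h1 : (ξ ∣_ Z) ≫ S.homOfLE hZ = X.homOfLE (ξ.preimage_mono hZ) ≫ (ξ ∣_ W i) := by
      rw [← cancel_mono (W i).ι]
      simp
    rw [reassoc_of% h1, ← hr i, Scheme.homOfLE_ι_assoc]
  have hcompat : ∀ i j : UO, pullback.fst (Wsub i).ι (Wsub j).ι ≫ toW i ≫ r i =
      pullback.snd (Wsub i).ι (Wsub j).ι ≫ toW j ≫ r j := fun i j => by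
    let p : pullback ((Wsub i).ι) ((Wsub j).ι) ⟶ S := pullback.fst ((Wsub i).ι) ((Wsub j).ι) ≫ (Wsub i).ι ≫ UO.ι
    have : IsOpenImmersion p := by
      have h1 : IsOpenImmersion (pullback.fst ((Wsub i).ι) ((Wsub j).ι)) := inferInstance
      have h2 : IsOpenImmersion ((Wsub i).ι ≫ UO.ι) := inferInstance
      exact @IsOpenImmersion.comp _ _ _ _ _ h1 h2
    have hpi : p.opensRange ≤ W i := by
      rintro _ ⟨y, rfl⟩
      exact ((pullback.fst ((Wsub i).ι) ((Wsub j).ι)).base y).2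
    have hpj : p.opensRange ≤ W j := by
      rintro _ ⟨y, rfl⟩
      rw [show p = pullback.snd ((Wsub i).ι) ((Wsub j).ι) ≫ (Wsub j).ι ≫ UO.ι from pullback.condition_assoc _]
      exact ((pullback.snd ((Wsub i).ι) ((Wsub j).ι)).base y).2
    have hi : pullback.fst ((Wsub i).ι) ((Wsub j).ι) ≫ toW i = p.isoOpensRange.hom ≫ S.homOfLE hpi := by
      rw [← cancel_mono (W i).ι, Category.assoc, htoW, Category.assoc, Scheme.homOfLE_ι, Scheme.Hom.isoOpensRange_hom_ι]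
    have hj : pullback.snd ((Wsub i).ι) ((Wsub j).ι) ≫ toW j = p.isoOpensRange.hom ≫ S.homOfLE hpj := by
      rw [← cancel_mono (W j).ι, Category.assoc, htoW, Category.assoc, Scheme.homOfLE_ι, Scheme.Hom.isoOpensRange_hom_ι]
      exact (pullback.condition_assoc _).symm
    rw [reassoc_of% hi, reassoc_of% hj]
    congr 1
    have : Surjective (ξ ∣_ p.opensRange) := IsZariskiLocalAtTarget.restrict ‹Surjective ξ› _
    exact eq_of_comp_eq (ξ ∣_ p.opensRange) (hres _) ((key i _ hpi).symm.trans (key j _ hpj))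
  let rU : (UO : Scheme.{u}) ⟶ Y := 𝒰.glueMorphisms (fun s => toW s ≫ r s) hcompat
  have hrU : (ξ ⁻¹ᵁ UO).ι ≫ f = (ξ ∣_ UO) ≫ rU := by
    refine Scheme.hom_ext_of_forall _ _ fun x => ?_
    let i : UO := (ξ ∣_ UO).base x
    refine ⟨(ξ ∣_ UO) ⁻¹ᵁ Wsub i, hW i, ?_⟩
    rw [← morphismRestrict_ι_assoc (ξ ∣_ UO) (Wsub i), show (Wsub i).ι ≫ rU = toW i ≫ r i from 𝒰.ι_glueMorphisms _ _ i]
    let l : ((ξ ∣_ UO) ⁻¹ᵁ Wsub i : Scheme.{u}) ⟶ ξ ⁻¹ᵁ W i :=
      IsOpenImmersion.lift (ξ ⁻¹ᵁ W i).ι (((ξ ∣_ UO) ⁻¹ᵁ Wsub i).ι ≫ (ξ ⁻¹ᵁ UO).ι) (by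
        rintro _ ⟨y, rfl⟩
        rw [Scheme.Opens.range_ι]
        have := y.2
        show ξ.base y.1.1 ∈ W i
        rw [← morphismRestrict_base_coe ξ UO y.1]
        exact this)
    have hl : l ≫ (ξ ∣_ W i) = ((ξ ∣_ UO) ∣_ Wsub i) ≫ toW i := by
      rw [← cancel_mono (W i).ι, Category.assoc, Category.assoc, htoW, morphismRestrict_ι, morphismRestrict_ι_assoc,
        morphismRestrict_ι, IsOpenImmersion.lift_fac_assoc, Category.assoc]
    rw [← reassoc_of% hl, ← hr i, IsOpenImmersion.lift_fac_assoc, Category.assoc]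
  have hrv : rU ≫ v = UO.ι := by
    have : Surjective (ξ ∣_ UO) := IsZariskiLocalAtTarget.restrict ‹Surjective ξ› _
    refine eq_of_comp_eq (ξ ∣_ UO) (hres _) ?_
    rw [← reassoc_of% hrU, hf, morphismRestrict_ι]
  let t : T ⟶ UO := IsOpenImmersion.lift UO.ι τ (by
    rintro _ ⟨y, rfl⟩
    rw [Scheme.Opens.range_ι]
    exact hτ y)
  refine ⟨t ≫ rU, by rw [Category.assoc, hrv, IsOpenImmersion.lift_fac], ?_⟩
  let l : pullback ξ τ ⟶ ξ ⁻¹ᵁ UO := IsOpenImmersion.lift (ξ ⁻¹ᵁ UO).ι (pullback.fst ξ τ) (by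
    rintro _ ⟨y, rfl⟩
    rw [Scheme.Opens.range_ι]
    show ξ.base ((pullback.fst ξ τ).base y) ∈ UO
    rw [← Scheme.Hom.comp_apply, pullback.condition, Scheme.Hom.comp_apply]
    exact hτ _)
  have hl : l ≫ (ξ ∣_ UO) = pullback.snd ξ τ ≫ t := by
    rw [← cancel_mono UO.ι, Category.assoc, Category.assoc, morphismRestrict_ι, IsOpenImmersion.lift_fac_assoc,
      IsOpenImmersion.lift_fac, pullback.condition]
  rw [← show l ≫ (ξ ⁻¹ᵁ UO).ι = pullback.fst ξ τ from IsOpenImmersion.lift_fac _ _ _, Category.assoc, hrU, reassoc_of% hl]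

end Groth.Agent.S14666
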