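import Groth.Statements.S14667
import Groth.Agent.GITLib.RigidProper
import Groth.Agent.AbVarLib.Rigidity
-- import your own Groth.Agent.* helpers here

set_option autoImplicit false
universe u
open CategoryTheory CategoryTheory.Limits AlgebraicGeometry
open AbSch

namespace Groth.Agent.S14667

/-- Let S be a locally Noetherian scheme, ξ : X ⟶ S a proper flat morphism all of whose geometric fibres
are integral, v : Y ⟶ S a separated morphism and f : X ⟶ Y a morphism over S. Then the set U of
points s of S such that f sends every point of the fibre ξ⁻¹(s) to one and the same point of Y is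
closed and open in S. (Under flatness the condition that O_S ⟶ ξ_*O_X be an isomorphism, assumed for
openness in the non-flat case, holds automatically.) -/
theorem result {X Y S : Scheme.{u}} [IsLocallyNoetherian S]
    (ξ : X ⟶ S) [IsProper ξ] [Flat ξ] [GeometricallyIntegral ξ]
    (v : Y ⟶ S) [IsSeparated v] (f : X ⟶ Y) (hf : f ≫ v = ξ) :
    IsClosed {s : ↥S | ∃ y : ↥Y, ∀ x : ↥X, ξ.base x = s → f.base x = y} ∧ IsOpen {s : ↥S | ∃ y : ↥Y, ∀ x : ↥X, ξ.base x = s → f.base x = y} := by
  open Groth.Agent.GITLib.Rigid in
  exact (by
    have h0 : ConstFibres ξ := fun s => by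
      have : GeometricallyIntegral (pullback.snd ξ (S.fromSpecResidueField s)) := inferInstance
      have := Groth.Agent.AbVarLib.Rigidity.isIso_appTop (K := S.residueField s) (pullback.snd ξ (S.fromSpecResidueField s))
      exact ConcreteCategory.bijective_of_isIso (pullback.snd ξ (S.fromSpecResidueField s)).appTop
    have : IsLocallyNoetherian X := LocallyOfFiniteType.isLocallyNoetherian ξ
    have hset : {s : ↥S | ∃ y : ↥Y, ∀ x : ↥X, ξ.base x = s → f.base x = y} = {s | Collapsed ξ f s} := by
      ext s
      refine ⟨fun ⟨y, hy⟩ x x' hx hx' => (hy x hx).trans (hy x' hx').symm, fun h => ?_⟩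
      obtain ⟨x, hx⟩ := (surjective_of_constFibres ξ h0).1 s
      exact ⟨f.base x, fun x' hx' => h x' x hx' hx⟩
    rw [hset]
    exact ⟨(proper_rigidity ξ v f hf h0).1.1, (proper_rigidity ξ v f hf h0).1.2⟩)

end Groth.Agent.S14667
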