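import Groth.Statements.S14668
import Groth.Agent.S11995
import Groth.Agent.S7783
import Groth.Agent.S18573
import Groth.Agent.WDivLib.ProjChart
import Groth.Agent.CohOps.PnSmooth
import Groth.Agent.Cube.Connected
import Groth.Agent.LimTop.Reduced
import Groth.Agent.FBase.BC
import Groth.Agent.AbSch51.Fibre
import Groth.Agent.AbRigid.Rigid
import Groth.Agent.ProjProper.Basic

set_option autoImplicit false
universe u
open CategoryTheory CategoryTheory.Limits MonoidalCategory CartesianMonoidalCategory MonObj GrpObj AlgebraicGeometry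
open AbSch

namespace Groth.Agent.S14668

open MonoidalCategory CartesianMonoidalCategory MonObj

attribute [local instance] CategoryTheory.Over.cartesianMonoidalCategory

theorem isIntegral_projSpace (n : ℕ) (K : Type u) [Field K] : IsIntegral (CohB1.ProjSpace n K) := by
  haveI := S18573.irreducibleSpace_projSpace n K
  haveI := CohOps.PnSmooth.smooth_toSpec (A := K) n
  haveI := AbSch51.geometricallyReduced_of_smooth (CohB1.ProjSpace.toSpec n K)
  haveI := GeometricallyReduced.isReduced_of_flat_of_isLocallyNoetherian (CohB1.ProjSpace.toSpec n K)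
  exact isIntegral_iff_irreducibleSpace_and_isReduced _ |>.mpr ⟨‹_›, ‹_›⟩

variable {S : Scheme.{u}}

theorem geometricallyIntegral_of_geom {P : Scheme.{u}} (g : P ⟶ S)
    (hP : ∀ (K : Type u) [Field K] [IsAlgClosed K] (s : Spec (CommRingCat.of K) ⟶ S),
      IsIntegral (pullback g s)) : GeometricallyIntegral g := by
  refine ⟨fun L _ y Z fst snd h => ?_⟩
  let σ := Spec.map (CommRingCat.ofHom (algebraMap L (AlgebraicClosure L)))
  haveI : Flat σ := (HasRingHomProperty.Spec_iff (P := @Flat)).2
    (RingHom.flat_algebraMap_iff.2 inferInstance)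
  haveI : Surjective σ := ⟨fun x => ⟨IsLocalRing.closedPoint (AlgebraicClosure L), Subsingleton.elim _ _⟩⟩
  let m := pullback.fst snd σ
  have hsq : IsPullback (m ≫ fst) (pullback.snd snd σ) g (σ ≫ y) :=
    (IsPullback.of_hasPullback snd σ).paste_horiz h
  haveI : IsIntegral (pullback g (σ ≫ y)) := hP (AlgebraicClosure L) (σ ≫ y)
  haveI : Nonempty ↥(pullback snd σ) := ⟨hsq.isoPullback.inv (Classical.arbitrary _)⟩
  haveI : IsIntegral (pullback snd σ) := isIntegral_of_isOpenImmersion hsq.isoPullback.hom
  haveI : Flat m := MorphismProperty.of_isPullback (P := @Flat) (IsPullback.of_hasPullback snd σ).flip ‹Flat σ›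
  haveI : Surjective m :=
    MorphismProperty.of_isPullback (P := @Surjective) (IsPullback.of_hasPullback snd σ).flip ‹Surjective σ›
  haveI := LimTop.isReduced_of_flat_surjective m
  haveI := FBase.BC.irreducibleSpace_of_surjective m
  exact isIntegral_iff_irreducibleSpace_and_isReduced _ |>.mpr ⟨‹_›, ‹_›⟩

/-- Morphisms from a form of projective space over an algebraically closed field are constant. -/
theorem subsingleton_range (K : Type u) [Field K] [IsAlgClosed K] (X A : Over (Spec (CommRingCat.of K)))
    [GrpObj A] [IsProper A.hom] [GeometricallyIntegral A.hom] (n : ℕ)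
    (e : X.left ≅ CohB1.ProjSpace n K) (he : e.hom ≫ CohB1.ProjSpace.toSpec n K = X.hom) (f : X ⟶ A) :
    (Set.range f.left).Subsingleton := by
  haveI := CohOps.PnSmooth.smooth_toSpec (A := K) n
  haveI := isIntegral_projSpace n K
  haveI : Nonempty ↥X.left := ⟨e.inv (Classical.arbitrary _)⟩
  haveI : IsIntegral X.left := isIntegral_of_isOpenImmersion e.hom
  haveI : Smooth X.hom := by rw [← he]; infer_instance
  haveI : IsProper (CohB1.ProjSpace.toSpec n K) := Groth.Agent.ProjProper.Basic.isProper_toSpec n K
  haveI : IsProper X.hom := by rw [← he]; infer_instance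
  haveI : GeometricallyIntegral X.hom := Cube.geometricallyIntegral_of_isAlgClosed X.hom
  let ch := WDivLib.projChart n K
  obtain ⟨x, hx⟩ : (Set.range (fun z => e.inv (ch z))).Nonempty := by
    haveI : Nonempty ↥(𝔸(ULift.{u} (Fin n); Spec (CommRingCat.of K))) :=
      ⟨(AffineSpace.SpecIso (ULift.{u} (Fin n)) (CommRingCat.of K)).inv
        (Classical.arbitrary (PrimeSpectrum (MvPolynomial (ULift.{u} (Fin n)) K)))⟩
    exact Set.range_nonempty _
  have hdense : DenseRange (ch ≫ e.inv) := by
    have ho : IsOpen (Set.range (ch ≫ e.inv)) := (ch ≫ e.inv).isOpenEmbedding.isOpen_range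
    exact ho.dense ⟨x, hx⟩
  obtain ⟨a, ha⟩ := S11995.result K X A (ULift.{u} (Fin n)) ⊤
    (by obtain ⟨z, rfl⟩ := hx; exact ⟨z, trivial⟩)
    ((⊤ : (𝔸(ULift.{u} (Fin n); Spec (CommRingCat.of K))).Opens).ι ≫ ch ≫ e.inv)
    (by rw [Category.assoc, Category.assoc, ← he, Iso.inv_hom_id_assoc, WDivLib.projChart_over])
    (hdense.comp (Scheme.topIso _).hom.surjective.denseRange (ch ≫ e.inv).continuous) f
  rintro _ ⟨y, rfl⟩ _ ⟨y', rfl⟩
  rw [ha, Over.comp_left]
  exact congrArg a.left (Subsingleton.elim (α := ↥(Spec (CommRingCat.of K))) _ _)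

variable (A : Over S) [GrpObj A] [IsProper A.hom] [GeometricallyIntegral A.hom]

theorem subsingleton_image (P : Over S) (φ : P ⟶ A)
    (hP : ∀ (K : Type u) [Field K] [IsAlgClosed K] (s : Spec (CommRingCat.of K) ⟶ S),
      ∃ (n : ℕ) (e : pullback P.hom s ≅ CohB1.ProjSpace n K), e.hom ≫ CohB1.ProjSpace.toSpec n K = pullback.snd P.hom s)
    (t : S) : (φ.left '' (P.hom ⁻¹' {t})).Subsingleton := by
  let K := AlgebraicClosure (S.residueField t)
  let s : Spec (CommRingCat.of K) ⟶ S :=
    Spec.map (CommRingCat.ofHom (algebraMap (S.residueField t) K)) ≫ S.fromSpecResidueField t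
  let X := (Over.pullback s).obj P
  let B := (Over.pullback s).obj A
  haveI : IsProper B.hom := inferInstanceAs (IsProper (pullback.snd A.hom s))
  haveI : GeometricallyIntegral B.hom := inferInstanceAs (GeometricallyIntegral (pullback.snd A.hom s))
  obtain ⟨n, e, he⟩ := hP K s
  have hsub := subsingleton_range K X B n e he ((Over.pullback s).map φ)
  have hs : ∀ z, s z = t := fun z => by
    show S.fromSpecResidueField t _ = t
    exact Scheme.fromSpecResidueField_apply t _
  have key : ∀ x ∈ P.hom ⁻¹' {t}, ∃ x', φ.left x = pullback.fst A.hom s (((Over.pullback s).map φ).left x') := by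
    intro x hx
    obtain ⟨x', hx', -⟩ := Scheme.Pullback.exists_preimage_pullback (f := P.hom) (g := s) x
      (IsLocalRing.closedPoint K) (hx.trans (hs _).symm)
    refine ⟨x', ?_⟩
    rw [← hx', ← Scheme.Hom.comp_apply, ← Scheme.Hom.comp_apply]
    exact congrArg (fun m : pullback P.hom s ⟶ A.left => m x') (pullback.lift_fst _ _ _).symm
  rintro _ ⟨x, hx, rfl⟩ _ ⟨y, hy, rfl⟩
  obtain ⟨x', hx'⟩ := key x hx
  obtain ⟨y', hy'⟩ := key y hy
  rw [hx', hy', hsub ⟨x', rfl⟩ ⟨y', rfl⟩]


/-- Let S be a locally Noetherian scheme, A an abelian scheme over S (an S-group scheme whose structure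
morphism is proper and flat with geometrically integral fibres), and P an S-scheme whose structure
morphism is proper and flat and whose geometric fibres are projective spaces: for every
algebraically closed field K and every K-point of S, the fibre P ×_S Spec K is isomorphic over Spec
K to projective n-space over K for some n. Then every S-morphism P ⟶ A factors through the structure
morphism of P: it is the composite of P ⟶ S with a section S ⟶ A. -/
theorem result {S : Scheme.{u}} [IsLocallyNoetherian S]
    (A : Over S) [GrpObj A] [IsProper A.hom] [Flat A.hom] [GeometricallyIntegral A.hom]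
    (P : Over S) [IsProper P.hom] [Flat P.hom]
    (hP : ∀ (K : Type u) [Field K] [IsAlgClosed K] (s : Spec (CommRingCat.of K) ⟶ S),
      ∃ (n : ℕ) (e : pullback P.hom s ≅ CohB1.ProjSpace n K), e.hom ≫ CohB1.ProjSpace.toSpec n K = pullback.snd P.hom s)
    (φ : P ⟶ A) :
    ∃ a : 𝟙_ (Over S) ⟶ A, φ = toUnit P ≫ a := by
  have hint : ∀ (K : Type u) [Field K] [IsAlgClosed K] (s : Spec (CommRingCat.of K) ⟶ S),
      IsIntegral (pullback P.hom s) := fun K _ _ s => by
    obtain ⟨n, e, -⟩ := hP K s
    haveI := isIntegral_projSpace n K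
    haveI : Nonempty ↥(pullback P.hom s) := ⟨e.inv (Classical.arbitrary _)⟩
    exact isIntegral_of_isOpenImmersion e.hom
  haveI : GeometricallyIntegral P.hom := geometricallyIntegral_of_geom P.hom hint
  haveI : GeometricallyConnected P.hom := AbRigid.Rigid.geometricallyConnected_of_integral P.hom
  choose W hWc hW k hk using fun t : S =>
    S7783.result (𝟙 S) A.hom P.hom φ.left (by rw [Over.w φ, Category.comp_id]) t
      (subsingleton_image A P φ hP t)
  let 𝒰 := S.openCoverOfIsOpenCover W (TopologicalSpace.IsOpenCover.mk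
    (TopologicalSpace.Opens.ext (Set.eq_univ_of_forall fun t => by
      simp only [TopologicalSpace.Opens.coe_iSup, Set.mem_iUnion]
      exact ⟨t, hW t⟩)))
  have hcompat : ∀ i j, pullback.fst (W i).ι (W j).ι ≫ k i = pullback.snd (W i).ι (W j).ι ≫ k j := by
    intro i j
    let r := pullback.fst (W i).ι (W j).ι ≫ (W i).ι
    haveI : Epi (pullback.snd P.hom r) := Flat.epi_of_flat_of_surjective _
    rw [← cancel_epi (pullback.snd P.hom r)]
    have key : ∀ (a : S) (p : pullback (W i).ι (W j).ι ⟶ (W a : Scheme.{u})), p ≫ (W a).ι = r →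
        pullback.snd P.hom r ≫ p ≫ k a = pullback.fst P.hom r ≫ φ.left := by
      intro a p hp
      have w : pullback.fst P.hom r ≫ P.hom = (pullback.snd P.hom r ≫ p) ≫ (W a).ι := by
        rw [Category.assoc, hp, pullback.condition]
      let l := (isPullback_morphismRestrict P.hom (W a)).flip.lift (pullback.fst P.hom r) (pullback.snd P.hom r ≫ p) w
      rw [← Category.assoc, ← (isPullback_morphismRestrict P.hom (W a)).flip.lift_snd _ _ w, Category.assoc,
        ← hk a, (isPullback_morphismRestrict P.hom (W a)).flip.lift_fst_assoc _ _ w]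
    rw [key i (pullback.fst _ _) rfl, key j (pullback.snd _ _) pullback.condition.symm]
  let a₀ : S ⟶ A.left := 𝒰.glueMorphisms k hcompat
  have hP' : P.hom ≫ a₀ = φ.left := by
    refine Scheme.Cover.hom_ext (P.left.openCoverOfIsOpenCover (fun t => P.hom ⁻¹ᵁ W t)
      (TopologicalSpace.IsOpenCover.mk (TopologicalSpace.Opens.ext (Set.eq_univ_of_forall fun x => by
        simp only [TopologicalSpace.Opens.coe_iSup, Set.mem_iUnion]
        exact ⟨P.hom x, hW _⟩)))) _ _ fun t => ?_
    change (P.hom ⁻¹ᵁ W t).ι ≫ P.hom ≫ a₀ = (P.hom ⁻¹ᵁ W t).ι ≫ φ.left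
    rw [← morphismRestrict_ι_assoc, hk t]
    exact congrArg ((P.hom ∣_ W t) ≫ ·) (𝒰.ι_glueMorphisms k hcompat t)
  haveI : Epi P.hom := Flat.epi_of_flat_of_surjective _
  refine ⟨Over.homMk a₀ ?_, Over.OverMorphism.ext ?_⟩
  · rw [← cancel_epi P.hom, ← Category.assoc, hP', Over.w φ]
    exact (Category.comp_id _).symm
  · exact hP'.symm

end Groth.Agent.S14668
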