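import Groth.Statements.S14669
import Groth.Agent.AbVarLib.TorsPoints
import Groth.Agent.AbVarLib.Basics
-- import your own Groth.Agent.* helpers here

set_option autoImplicit false
universe u
open CategoryTheory CategoryTheory.Limits MonoidalCategory CartesianMonoidalCategory MonObj GrpObj AlgebraicGeometry
open AbVar

namespace Groth.Agent.S14669

/-- Let k be an algebraically closed field, A an abelian variety over k (a proper, geometrically
integral, commutative group scheme over k) of dimension g, and n ≥ 1 an integer. Then the group A(k)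
of k-points of A is n-divisible, the number of k-points of A killed by n divides n^(2g), and this
number equals n^(2g) if and only if n is not a multiple of the characteristic of k, i.e. n is
nonzero in k. (The published statement allows g = 0; for A = Spec k and n divisible by the
characteristic the last equivalence fails, and the printed proof uses that Ω_{A/k} has positive
rank, so positive dimension is assumed here.) -/
theorem result (k : Type u) [Field k] [IsAlgClosed k]
    (A : Over (Spec (CommRingCat.of k)))
    [GrpObj A] [IsCommMonObj A] [IsProper A.hom] [GeometricallyIntegral A.hom]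
    (g : ℕ) (hg : topologicalKrullDim A.left = g) (hg0 : 0 < g) (n : ℕ) (hn : 0 < n) :
    (∀ a : (𝟙_ (Over (Spec (CommRingCat.of k)))) ⟶ A, ∃ b : (𝟙_ (Over (Spec (CommRingCat.of k)))) ⟶ A, b ^ n = a) ∧
    Nat.card ↥(AbDual.torsPts A n (𝟙_ (Over (Spec (CommRingCat.of k))))) ∣ n ^ (2 * g) ∧
    (Nat.card ↥(AbDual.torsPts A n (𝟙_ (Over (Spec (CommRingCat.of k))))) = n ^ (2 * g) ↔ (n : k) ≠ 0) := by
  open Groth.Agent in
  exact by
    refine ⟨fun a => AbVarLib.TorsPoints.exists_root A n hn a, ?_⟩
    by_cases hnk : (n : k) ≠ 0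
    · rw [AbVarLib.TorsCount.card_torsPts A g hg n hnk]
      exact ⟨dvd_rfl, by simp [hnk]⟩
    rw [not_not] at hnk
    obtain ⟨p, hchar⟩ := CharP.exists k
    have hpn : p ∣ n := (CharP.cast_eq_zero_iff k p n).mp hnk
    have hp : p.Prime := (CharP.char_is_prime_or_zero k p).resolve_right fun h => by
      subst h; exact hn.ne' (zero_dvd_iff.mp hpn)
    have : Fact p.Prime := ⟨hp⟩
    obtain ⟨i, hi, hcard⟩ := AbVarLib.TorsPoints.exists_pRank A p g hg
    obtain ⟨a, m, hm, rfl⟩ := Nat.exists_eq_pow_mul_and_not_dvd hn.ne' p hp.ne_one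
    have hmk : (m : k) ≠ 0 := fun h => hm ((CharP.cast_eq_zero_iff k p m).mp h)
    have ha : a ≠ 0 := fun h => hm (by simpa [h] using hpn)
    have hcop : (p ^ a).Coprime m := (hp.coprime_iff_not_dvd.mpr hm).pow_left a
    rw [AbVarLib.TorsPoints.card_tors_mul A hcop, AbVarLib.TorsPoints.card_pow A p hp.one_le, hcard,
      AbVarLib.TorsCount.card_torsPts A g hg m hmk, mul_pow, ← pow_mul, ← pow_mul]
    refine ⟨Nat.mul_dvd_mul (pow_dvd_pow p (by nlinarith)) dvd_rfl, fun h => ?_, fun h => absurd hnk h⟩
    have hm0 : 0 < m ^ (2 * g) := pow_pos (Nat.pos_of_ne_zero fun h0 => hm (by subst h0; exact dvd_zero p)) _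
    have h2 := Nat.pow_right_injective hp.two_le (Nat.eq_of_mul_eq_mul_right hm0 h)
    exfalso
    nlinarith [Nat.pos_of_ne_zero ha]

end Groth.Agent.S14669
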