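import Groth.Statements.S14670
import Groth.Agent.RegLoc.UFD
import Groth.Agent.RegLoc.Miracle
import Groth.Agent.VarDim.Algebra
import Mathlib
-- import your own Groth.Agent.* helpers here

set_option autoImplicit false
universe u
open CAlg

namespace Groth.Agent.S14670

/-- Let R be a regular local ring and S an integral domain containing R as a subring over which it is a
finitely generated module, such that the localization of S at each of its maximal ideals is a
Cohen–Macaulay local ring. Then S is a flat R-module. (The published statement does not require S to
be a domain; in that generality it fails — for a discrete valuation ring R with residue field κ the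
ring R × κ contains R diagonally, is finite over R with Cohen–Macaulay localizations, and is not
flat — and the printed argument needs every maximal ideal of S to have height dim R, which holds
when S is a domain by going down.) -/
theorem result (R S : Type u) [CommRing R] [CommRing S]
    [IsRegularLocalRing R] [IsDomain S] [Algebra R S] [Module.Finite R S]
    (hinj : Function.Injective (algebraMap R S))
    (hCM : ∀ (q : Ideal S) [q.IsMaximal], LocCoh.IsCohenMacaulayLocalRing (Localization.AtPrime q)) :
    Module.Flat R S := by
  haveI := Groth.Agent.RegLoc.isDomain R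
  haveI := Groth.Agent.RegLoc.UFD.uniqueFactorizationMonoid R
  haveI : IsIntegrallyClosed R := inferInstance
  haveI : FaithfulSMul R S := (faithfulSMul_iff_algebraMap_injective R S).mpr hinj
  haveI : Algebra.IsIntegral R S := Algebra.IsIntegral.of_finite R S
  refine Module.flat_of_isLocalized_maximal S S (fun q _ => Localization.AtPrime q)
    (fun q _ => Algebra.linearMap S (Localization.AtPrime q)) (fun q _ => ?_)
  haveI := hCM q
  haveI hm : (q.under R).IsMaximal := Ideal.IsMaximal.under R q
  have hqm : q.under R = IsLocalRing.maximalIdeal R := IsLocalRing.eq_maximalIdeal hm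
  haveI : IsLocalHom (algebraMap R (Localization.AtPrime q)) := ⟨fun a ha => by
    rw [IsScalarTower.algebraMap_apply R S (Localization.AtPrime q),
      IsLocalization.AtPrime.isUnit_to_map_iff (Localization.AtPrime q) q] at ha
    by_contra h
    apply ha
    show a ∈ q.under R
    rw [hqm]
    exact h⟩
  apply Groth.Agent.RegLoc.Miracle.flat_of_ringKrullDim_eq_add
  have hne : Ideal.map (algebraMap R (Localization.AtPrime q)) (IsLocalRing.maximalIdeal R) ≠ ⊤ := by
    intro h
    have : Ideal.map (algebraMap R (Localization.AtPrime q)) (IsLocalRing.maximalIdeal R) ≤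
        IsLocalRing.maximalIdeal _ := Ideal.map_le_iff_le_comap.mpr (fun a ha => by
      rw [Ideal.mem_comap, IsLocalRing.mem_maximalIdeal]
      exact fun hu => ha (isUnit_of_map_unit (algebraMap R (Localization.AtPrime q)) a hu))
    rw [h] at this
    exact (IsLocalRing.maximalIdeal.isMaximal _).ne_top (top_le_iff.mp this)
  haveI := Ideal.Quotient.nontrivial_iff.mpr hne
  have h0 : ringKrullDim (Localization.AtPrime q ⧸ (IsLocalRing.maximalIdeal R).map (algebraMap R (Localization.AtPrime q))) = 0 := by
    rw [← ringKrullDimZero_iff_ringKrullDim_eq_zero]
    refine Ring.KrullDimLE.mk₀ (fun P hP => ?_)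
    set P' := P.comap (Ideal.Quotient.mk _) with hP'
    haveI : P'.IsPrime := hP.comap _
    have hle : (IsLocalRing.maximalIdeal R).map (algebraMap R (Localization.AtPrime q)) ≤ P' := fun x hx => by
      rw [hP', Ideal.mem_comap, Ideal.Quotient.eq_zero_iff_mem.mpr hx]
      exact P.zero_mem
    set Q := P'.comap (algebraMap S (Localization.AtPrime q))
    haveI : Q.IsPrime := Ideal.comap_isPrime (algebraMap S (Localization.AtPrime q)) P'
    have hQ : Q.under R = IsLocalRing.maximalIdeal R := by
      refine ((IsLocalRing.maximalIdeal.isMaximal R).eq_of_le (Ideal.IsPrime.ne_top inferInstance) ?_).symm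
      intro a ha
      show algebraMap S (Localization.AtPrime q) (algebraMap R S a) ∈ P'
      rw [← IsScalarTower.algebraMap_apply]
      exact hle (Ideal.mem_map_of_mem _ ha)
    haveI : (Q.under R).IsMaximal := by rw [hQ]; exact IsLocalRing.maximalIdeal.isMaximal R
    have hQmax : Q.IsMaximal := Ideal.isMaximal_of_isIntegral_of_isMaximal_comap Q ‹_›
    have hQq : Q ≤ q := by
      intro x hx
      by_contra hxq
      exact (Ideal.IsPrime.ne_top (I := P') inferInstance)
        (P'.eq_top_of_isUnit_mem hx (IsLocalization.map_units (Localization.AtPrime q) (⟨x, hxq⟩ : q.primeCompl)))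
    have hQeq : Q = q := hQmax.eq_of_le (Ideal.IsPrime.ne_top inferInstance) hQq
    have hP'max : P'.IsMaximal := by
      have : P' = IsLocalRing.maximalIdeal (Localization.AtPrime q) := by
        rw [← IsLocalization.map_comap q.primeCompl (Localization.AtPrime q) P',
          show P'.under S = q from hQeq,
          Localization.AtPrime.map_eq_maximalIdeal]
      rw [this]
      exact IsLocalRing.maximalIdeal.isMaximal _
    have : P = P'.map (Ideal.Quotient.mk _) := (Ideal.map_comap_of_surjective _ Ideal.Quotient.mk_surjective P).symm
    rw [this]
    exact Ideal.IsMaximal.map_of_surjective_of_ker_le Ideal.Quotient.mk_surjective (by rw [Ideal.mk_ker]; exact hle)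
  rw [h0, add_zero, IsLocalization.AtPrime.ringKrullDim_eq_height q (Localization.AtPrime q),
    ← Groth.Agent.VarDim.height_under_of_isIntegral (R := R) q, hqm, IsLocalRing.maximalIdeal_height_eq_ringKrullDim]

end Groth.Agent.S14670
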