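import Groth.Statements.S14673
import Groth.Agent.PLaw.Generators
import Groth.Agent.PLaw.GammaFlat

set_option autoImplicit false
universe u
open scoped TensorProduct
open SymTen

namespace Groth.Agent.S14673

/-- Let R be a commutative ring, A a commutative R-algebra which is flat as an R-module, and n ≥ 0. For
a ∈ A and j ≥ 0 write σ_j(a) for the j-th elementary symmetric polynomial in the n elements 1 ⊗ ⋯ ⊗
a ⊗ ⋯ ⊗ 1 of the n-fold tensor power of A over R, that is, the sum over the j-element sets I of
indices of the pure tensors having a in the places of I and 1 in the other places. Then the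
subalgebra TS^n_R(A) of symmetric tensors (tensors fixed by every permutation of the factors) equals
the R-subalgebra generated by all the σ_j(a). -/
theorem result (R : Type u) [CommRing R] (A : Type u) [CommRing A] [Algebra R A]
    [Module.Flat R A] (n : ℕ) :
    SymTen.TS R A n = Algebra.adjoin R {t : ⨂[R] _ : Fin n, A | ∃ (a : A) (j : ℕ),
      t = ∑ I ∈ (Finset.univ : Finset (Fin n)).powersetCard j,
        PiTensorProduct.tprod R (fun i : Fin n => if i ∈ I then a else (1 : A))} := by
  classical
  obtain ⟨τ, hval, hτ⟩ := PLaw.exists_isGammaD_TS (A := R) (B := A) (d := n) (Or.inl inferInstance)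
  let σ : A → ℕ → (⨂[R] _ : Fin n, A) := fun a j =>
    ∑ I ∈ (Finset.univ : Finset (Fin n)).powersetCard j,
      PiTensorProduct.tprod R (fun i : Fin n => if i ∈ I then a else (1 : A))
  have key : ∀ (a : A) (α : PUnit.{u + 1} →₀ ℕ),
      ((PLaw.cf α (τ.law.toFun' (MvPolynomial PUnit.{u + 1} R)
        (1 + (MvPolynomial.X PUnit.unit : MvPolynomial PUnit.{u + 1} R) ⊗ₜ[R] a)) : SymTen.TS R A n) :
          ⨂[R] _ : Fin n, A) = σ a (α PUnit.unit) := by
    intro a α
    change (SymTen.TS R A n).val.toLinearMap _ = _
    rw [← PLaw.cf_lTensor, hval]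
    simp only [SymTen.tpowLaw, PolLaw.MulLaw.prodMap_toFun', map_add, map_one,
      Algebra.TensorProduct.map_tmul, AlgHom.id_apply]
    rw [Finset.prod_one_add, map_sum]
    have hterm : ∀ I : Finset (Fin n),
        PLaw.cf α (∏ i ∈ I, (MvPolynomial.X PUnit.unit : MvPolynomial PUnit.{u + 1} R) ⊗ₜ[R]
          PiTensorProduct.singleAlgHom (R := R) (A := fun _ : Fin n => A) i a) =
        if I.card = α PUnit.unit then
          PiTensorProduct.tprod R (fun i : Fin n => if i ∈ I then a else (1 : A)) else 0 := by
      intro I
      have hmul : ∀ I : Finset (Fin n),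
          ∏ i ∈ I, (MvPolynomial.X PUnit.unit : MvPolynomial PUnit.{u + 1} R) ⊗ₜ[R]
            PiTensorProduct.singleAlgHom (R := R) (A := fun _ : Fin n => A) i a =
          ((MvPolynomial.X PUnit.unit : MvPolynomial PUnit.{u + 1} R) ^ I.card) ⊗ₜ[R]
            ∏ i ∈ I, PiTensorProduct.singleAlgHom (R := R) (A := fun _ : Fin n => A) i a := by
        intro I
        induction I using Finset.induction_on with
        | empty => simp [Algebra.TensorProduct.one_def]
        | insert i I hi ih =>
          rw [Finset.prod_insert hi, Finset.prod_insert hi, ih, Algebra.TensorProduct.tmul_mul_tmul,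
            Finset.card_insert_of_notMem hi, pow_succ']
      have hsingle : ∏ i ∈ I, PiTensorProduct.singleAlgHom (R := R) (A := fun _ : Fin n => A) i a =
          PiTensorProduct.tprod R (fun i : Fin n => if i ∈ I then a else (1 : A)) := by
        simp only [PiTensorProduct.singleAlgHom_apply, MonoidHom.mulSingle_apply]
        rw [← PiTensorProduct.tprod_prod]
        congr 1
        funext i
        rw [Finset.prod_apply]
        simp [Pi.mulSingle_apply]
      rw [hmul, hsingle, PLaw.cf_tmul, MvPolynomial.X_pow_eq_monomial, MvPolynomial.coeff_monomial]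
      by_cases hI : I.card = α PUnit.unit
      · rw [if_pos hI, if_pos (Finsupp.unique_ext (by simpa using hI)), one_smul]
      · rw [if_neg hI, if_neg, zero_smul]
        intro h
        exact hI (by simpa using DFunLike.congr_fun h PUnit.unit)
    rw [Finset.sum_congr rfl fun I _ => hterm I, ← Finset.sum_filter, ← Finset.powersetCard_eq_filter]
  apply le_antisymm
  · intro t ht
    let G := Algebra.adjoin R {t : ⨂[R] _ : Fin n, A | ∃ (a : A) (j : ℕ), t = σ a j}
    have hU := PLaw.eq_top_of_one_add_mem τ hτ (G.comap (SymTen.TS R A n).val) fun a α => by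
      have h1 : σ a (α PUnit.unit) ∈ G := Algebra.subset_adjoin ⟨a, _, rfl⟩
      rw [← key a α] at h1
      exact h1
    have : (⟨t, ht⟩ : SymTen.TS R A n) ∈ G.comap (SymTen.TS R A n).val := hU ▸ Algebra.mem_top
    exact this
  · refine Algebra.adjoin_le ?_
    rintro _ ⟨a, j, rfl⟩
    have := key a (Finsupp.single PUnit.unit j)
    rw [Finsupp.single_eq_same] at this
    change σ a j ∈ SymTen.TS R A n
    rw [← this]
    exact Subtype.prop _

end Groth.Agent.S14673
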