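import Groth.Statements.S14674
import Groth.Agent.AbSch51.CubePow
import Groth.Agent.AbRigid.Rigid
-- import your own Groth.Agent.* helpers here

set_option autoImplicit false
universe u
open CategoryTheory CategoryTheory.Limits MonoidalCategory CartesianMonoidalCategory MonObj GrpObj AlgebraicGeometry
open AbSch

namespace Groth.Agent.S14674

/-- Let S be a locally Noetherian scheme, X an abelian scheme over S (an S-group scheme whose structure
morphism α is proper and flat with geometrically integral fibres) with unit section e : S ⟶ X, L an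
invertible O_X-module and n an integer; write [n] for the n-th multiple of the identity in the group
of S-endomorphisms of X. Then [n]^*L ⊗ α^*(e^*L)^{⊗ n²} is isomorphic to L^{⊗(n²+n)/2} ⊗
[-1]^*L^{⊗(n²−n)/2} ⊗ α^*e^*L; equivalently [n]^*L ≅ L^{⊗(n²+n)/2} ⊗ [-1]^*L^{⊗(n²−n)/2} ⊗
[0]^*L^{⊗(1−n²)} with [0]^*L = α^*e^*L (existence of an isomorphism of O_X-modules only). -/
theorem result {S : Scheme.{u}} [IsLocallyNoetherian S] (X : Over S) [GrpObj X] [IsProper X.hom] [Flat X.hom] [GeometricallyIntegral X.hom]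
    (L : X.left.Modules) (hL : PicF.IsInvertible L) (n : ℤ) :
    Nonempty (CohB1.tensorMod ((Scheme.Modules.pullback (𝟙 X ^ n).left).obj L)
        ((Scheme.Modules.pullback X.hom).obj (CohB1.tensorPow ((Scheme.Modules.pullback (η[X]).left).obj L) (n.natAbs ^ 2))) ≅
      CohB1.tensorMod (CohB1.tensorMod (CohB1.tensorPow L ((n ^ 2 + n) / 2).toNat)
          ((Scheme.Modules.pullback (𝟙 X ^ (-1 : ℤ)).left).obj (CohB1.tensorPow L ((n ^ 2 - n) / 2).toNat)))
        ((Scheme.Modules.pullback X.hom).obj ((Scheme.Modules.pullback (η[X]).left).obj L))) := by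
  have : LocallyOfFinitePresentation X.hom := inferInstance
  have : GeometricallyConnected X.hom := Groth.Agent.AbRigid.Rigid.geometricallyConnected_of_integral X.hom
  obtain ⟨hA, eA⟩ := Groth.Agent.GrpScheme.PowPullback.cls_tensorPow hL ((n ^ 2 + n) / 2).toNat
  obtain ⟨hB, eB⟩ := Groth.Agent.GrpScheme.PowPullback.cls_tensorPow hL ((n ^ 2 - n) / 2).toNat
  obtain ⟨hC, eC⟩ := Groth.Agent.GrpScheme.PowPullback.cls_tensorPow (PicLoc.isInvertible_pullback (η[X]).left hL) (n.natAbs ^ 2)
  have hp := fun {Y Z : Scheme.{u}} (f : Y ⟶ Z) {N : Z.Modules} (hN : PicF.IsInvertible N) =>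
    PicLoc.isInvertible_pullback f hN
  have he := hp (η[X]).left hL
  open scoped Groth.Agent.PicLaw in
    refine (Groth.Agent.PicLaw.iso_iff (Groth.Agent.PicLaw.isInvertible_tensor (hp _ hL) (hp _ hC))
      (Groth.Agent.PicLaw.isInvertible_tensor
      (Groth.Agent.PicLaw.isInvertible_tensor hA (hp _ hB)) (hp _ he))).mpr ?_
    rw [Groth.Agent.PicLaw.cls_tensor (Groth.Agent.PicLaw.isInvertible_tensor hA (hp _ hB)) (hp _ he),
      Groth.Agent.PicLaw.cls_tensor hA (hp _ hB), Groth.Agent.PicLaw.cls_tensor (hp _ hL) (hp _ hC),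
      Groth.Agent.PicLaw.cls_pullback _ hB, Groth.Agent.PicLaw.cls_pullback _ he,
      Groth.Agent.PicLaw.cls_pullback _ hC, Groth.Agent.PicLaw.cls_pullback _ hL, eA, eB, eC,
      Groth.Agent.PicLaw.cls_pullback _ hL, map_pow, map_pow, zpow_neg_one]
    have h := Groth.Agent.AbSch51.CubePow.op_zpow (PicGrp.cls L hL) (𝟙 X) n
    rw [Groth.Agent.AbSch51.CubeCls.op_one, show Groth.Agent.PicLaw.Mumford.op (𝟙 X) (PicGrp.cls L hL) = PicGrp.cls L hL from
      Groth.Agent.PicLaw.pl_id _] at h
    exact h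

end Groth.Agent.S14674
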