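import Groth.Statements.S14677
import Mathlib
-- import your own Groth.Agent.* helpers here

set_option autoImplicit false
universe u
open CAlg

namespace Groth.Agent.S14677

/-- Let A be a Noetherian commutative ring, I and J ideals of A and M a finitely generated A-module.
Then the map of I-adic completions induced by the inclusion of the submodule JM into M is injective
with image exactly J·M̂, where M̂ is the I-adic completion of M; that is, the completion of JM is J
times the completion of M. (The published statement does not say that A is Noetherian; its proof
uses exactness of completion on finitely generated modules, which needs it, so this row assumes A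
Noetherian.) -/
theorem result (A : Type u) [CommRing A] [IsNoetherianRing A] (I J : Ideal A)
    (M : Type u) [AddCommGroup M] [Module A M] [Module.Finite A M] :
    Function.Injective (AdicCompletion.map I (J • (⊤ : Submodule A M)).subtype) ∧
      LinearMap.range (AdicCompletion.map I (J • (⊤ : Submodule A M)).subtype) =
        (J.map (algebraMap A (AdicCompletion I A))) • (⊤ : Submodule (AdicCompletion I A) (AdicCompletion I M)) := by
  let JM : Submodule A M := J • ⊤
  let B := AdicCompletion I A
  haveI : Module.Finite A JM := Module.Finite.iff_fg.2 (IsNoetherian.noetherian _)
  refine ⟨AdicCompletion.map_injective I JM.injective_subtype, ?_⟩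
  set T := (J.map (algebraMap A B)) • (⊤ : Submodule B (AdicCompletion I M))
  have hof : ∀ n ∈ JM, AdicCompletion.of I M n ∈ T := by
    intro n hn
    induction hn using Submodule.smul_induction_on' with
    | smul j hj m _ =>
      rw [map_smul, ← algebraMap_smul B j]
      exact Submodule.smul_mem_smul (Ideal.mem_map_of_mem _ hj) Submodule.mem_top
    | add a _ b _ ha hb => rw [map_add]; exact add_mem ha hb
  refine le_antisymm ?_ ?_
  · rintro _ ⟨y, rfl⟩
    obtain ⟨t, rfl⟩ := (AdicCompletion.ofTensorProduct_bijective_of_finite_of_isNoetherian I JM).2 y
    induction t using TensorProduct.induction_on with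
    | zero => rw [map_zero, map_zero]; exact zero_mem _
    | tmul a n =>
      rw [AdicCompletion.ofTensorProduct_tmul, map_smul, AdicCompletion.map_of]
      exact T.smul_mem a (hof _ n.2)
    | add a b ha hb => rw [map_add, map_add]; exact add_mem ha hb
  · rw [Submodule.smul_le]
    intro r hr y _
    induction hr using Submodule.span_induction with
    | zero => rw [zero_smul]; exact zero_mem _
    | add a b _ _ ha hb => rw [add_smul]; exact add_mem ha hb
    | smul c a _ ha => rw [smul_eq_mul, ← smul_smul]; exact Submodule.smul_mem _ c ha
    | mem a ha =>
      obtain ⟨j, hj, rfl⟩ := ha
      obtain ⟨t, rfl⟩ := (AdicCompletion.ofTensorProduct_bijective_of_finite_of_isNoetherian I M).2 y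
      induction t using TensorProduct.induction_on with
      | zero => rw [map_zero, smul_zero]; exact zero_mem _
      | tmul a m =>
        rw [AdicCompletion.ofTensorProduct_tmul, smul_comm]
        refine Submodule.smul_mem _ a ⟨AdicCompletion.of I JM ⟨j • m, Submodule.smul_mem_smul hj Submodule.mem_top⟩, ?_⟩
        rw [AdicCompletion.map_of]
        show AdicCompletion.of I M (j • m) = _
        rw [map_smul, algebraMap_smul]
      | add a b ha hb => rw [map_add, smul_add]; exact add_mem (ha trivial) (hb trivial)

end Groth.Agent.S14677
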