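import Groth.Statements.S14678
-- import your own Groth.Agent.* helpers here

set_option autoImplicit false
universe u
open CategoryTheory CategoryTheory.Limits AlgebraicGeometry
open EtBase

namespace Groth.Agent.S14678


open Polynomial in
/-- Scaling the roots of a monic polynomial over a field of fractions clears the denominators. -/
lemma exists_scale {R K : Type u} [CommRing R] [Field K] (φ : R →+* K)
    (hfrac : ∀ z : K, ∃ a s : R, φ s ≠ 0 ∧ z = φ a / φ s) (p : K[X]) (hp : p.Monic) :
    ∃ (d : R) (q : R[X]), φ d ≠ 0 ∧ q.Monic ∧ q.map φ = p.scaleRoots (φ d) := by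
  classical
  choose a s hs hz using hfrac
  set d : R := ∏ i ∈ Finset.range (p.natDegree + 1), s (p.coeff i) with hd
  have hd0 : φ d ≠ 0 := by
    rw [hd, map_prod]
    exact Finset.prod_ne_zero_iff.2 fun i _ ↦ hs _
  have hlift : p.scaleRoots (φ d) ∈ Polynomial.lifts φ := by
    rw [Polynomial.lifts_iff_coeff_lifts]
    intro i
    rw [coeff_scaleRoots]
    rcases lt_trichotomy i p.natDegree with h | h | h
    · refine ⟨a (p.coeff i) * (∏ j ∈ (Finset.range (p.natDegree + 1)).erase i, s (p.coeff j)) *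
        d ^ (p.natDegree - i - 1), ?_⟩
      have hi : i ∈ Finset.range (p.natDegree + 1) := Finset.mem_range.2 (by omega)
      have h1 : φ d = φ (s (p.coeff i)) * φ (∏ j ∈ (Finset.range (p.natDegree + 1)).erase i,
          s (p.coeff j)) := by
        rw [← map_mul, hd, Finset.mul_prod_erase _ (fun j ↦ s (p.coeff j)) hi]
      have h2 : p.natDegree - i = (p.natDegree - i - 1) + 1 := by omega
      rw [map_mul, map_mul, map_pow, h2, pow_succ, Nat.add_sub_cancel]
      conv_rhs => rw [hz (p.coeff i)]
      conv_rhs => arg 2; arg 2; rw [h1]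
      field_simp [hs (p.coeff i)]
    · refine ⟨1, ?_⟩
      rw [h, Nat.sub_self, pow_zero, mul_one, map_one, hp.coeff_natDegree]
    · exact ⟨0, by simp [coeff_eq_zero_of_natDegree_lt h]⟩
  obtain ⟨q, hq, -, hqm⟩ := Polynomial.lifts_and_natDegree_eq_and_monic hlift
    ((monic_scaleRoots_iff _).2 hp)
  exact ⟨d, q, hd0, hqm, hq⟩

open Polynomial in
/-- Finitely many integral elements lift to a flat finitely presented algebra. -/
lemma exists_lift {A L : Type u} [CommRing A] [CommRing L] (φ : A →+* L) (T : Finset L)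
    (hT : ∀ x ∈ T, φ.IsIntegralElem x) :
    ∃ (B : Type u) (_ : CommRing B) (f : A →+* B) (ψ : B →+* L),
      f.Flat ∧ f.FinitePresentation ∧ ψ.comp f = φ ∧ (T : Set L) ⊆ Set.range ψ := by
  classical
  induction T using Finset.induction_on with
  | empty => exact ⟨A, inferInstance, RingHom.id A, φ, RingHom.Flat.id A,
      RingHom.FinitePresentation.id A, rfl, by simp⟩
  | @insert x T _ ih =>
    obtain ⟨B, _, f, ψ, hf, hfp, hψ, hsub⟩ := ih fun y hy ↦ hT y (Finset.mem_insert_of_mem hy)
    obtain ⟨q, hq, hq0⟩ := hT x (Finset.mem_insert_self x T)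
    have hm : (q.map f).Monic := hq.map f
    haveI : Module.Free B (AdjoinRoot (q.map f)) := .of_basis (AdjoinRoot.powerBasis' hm).basis
    have h0 : (q.map f).eval₂ ψ x = 0 := by rw [eval₂_map, hψ, hq0]
    refine ⟨AdjoinRoot (q.map f), inferInstance, (AdjoinRoot.of (q.map f)).comp f,
      AdjoinRoot.lift ψ x h0, hf.comp ?_, RingHom.FinitePresentation.comp ?_ hfp, ?_, ?_⟩
    · exact RingHom.flat_algebraMap_iff.2 (inferInstance : Module.Flat B (AdjoinRoot (q.map f)))
    · exact RingHom.finitePresentation_algebraMap.2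
        (inferInstance : Algebra.FinitePresentation B (AdjoinRoot (q.map f)))
    · rw [← hψ, ← RingHom.comp_assoc, AdjoinRoot.lift_comp_of]
    · rw [Finset.coe_insert, Set.insert_subset_iff]
      refine ⟨⟨AdjoinRoot.root _, AdjoinRoot.lift_root h0⟩, fun y hy ↦ ?_⟩
      obtain ⟨b, rfl⟩ := hsub hy
      exact ⟨AdjoinRoot.of _ b, AdjoinRoot.lift_of h0⟩

/-- A map to a field all of whose elements are fractions gives a preimmersion. -/
lemma isPreimmersion_of_frac {B L : Type u} [CommRing B] [Field L] (ψ : B →+* L)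
    (hfrac : ∀ z : L, ∃ a s : B, ψ s ≠ 0 ∧ z = ψ a / ψ s) :
    IsPreimmersion (Spec.map (CommRingCat.ofHom ψ)) := by
  refine IsPreimmersion.mk_SpecMap (Topology.IsEmbedding.of_subsingleton _) ?_
  rw [CommRingCat.hom_ofHom, RingHom.surjectiveOnStalks_iff_forall_ideal]
  intro I hI z
  obtain ⟨a, s, hs, rfl⟩ := hfrac z
  have hI0 : I = ⊥ := (Ideal.eq_bot_or_top I).resolve_right hI
  refine ⟨a, s, 1, ?_, ?_, ?_⟩
  · simp [hI0]
  · simpa [hI0] using hs
  · rw [one_mul, one_mul, mul_div_cancel₀ _ hs]

/-- Let S be a scheme, s a point of S and ℓ a finite field extension of the residue field κ(s). Then,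
fppf-locally around s, ℓ occurs as a residue field: there are an affine scheme U', a flat morphism b
: U' ⟶ S locally of finite presentation (so with open image containing s) and a morphism t : Spec ℓ
⟶ U' over the canonical morphism Spec ℓ ⟶ Spec κ(s) ⟶ S which is a preimmersion, i.e. the inclusion
of a point s' of U' above s together with an identification of κ(s') with ℓ over κ(s); such a point
is closed in its fibre over s. (The published statement gives an affine open neighbourhood U of s
and an fppf morphism U' ⟶ U; this row asks only for a flat, locally finitely presented U' ⟶ S, whose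
open image then contains s.) -/
theorem result (S : Scheme.{u}) (s : ↥S)
    (ℓ : Type u) [Field ℓ] [Algebra (S.residueField s) ℓ] [Module.Finite (S.residueField s) ℓ] :
    ∃ (U' : Scheme.{u}) (b : U' ⟶ S) (t : Spec (CommRingCat.of ℓ) ⟶ U'),
      IsAffine U' ∧ Flat b ∧ LocallyOfFinitePresentation b ∧ IsPreimmersion t ∧
        t ≫ b = Spec.map (CommRingCat.ofHom (algebraMap (S.residueField s) ℓ)) ≫ S.fromSpecResidueField s := by
  classical
  obtain ⟨_, ⟨U, hU, rfl⟩, hsU, -⟩ :=
    S.isBasis_affineOpens.exists_subset_of_mem_open (Set.mem_univ s) isOpen_univ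
  let ev : Γ(S, U) →+* S.residueField s := (S.evaluation U s hsU).hom
  have hev : ∀ z : S.residueField s, ∃ a c : Γ(S, U), ev c ≠ 0 ∧ z = ev a / ev c := by
    intro z
    obtain ⟨w, rfl⟩ := S.residue_surjective s z
    letI := S.presheaf.algebra_section_stalk ⟨s, hsU⟩
    haveI := hU.isLocalization_stalk ⟨s, hsU⟩
    obtain ⟨a, c, rfl⟩ := IsLocalization.exists_mk'_eq
      (hU.primeIdealOf ⟨s, hsU⟩).asIdeal.primeCompl w
    have hc : IsUnit (ev c) :=
      (IsLocalization.map_units (S.presheaf.stalk s) c).map (S.residue s).hom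
    refine ⟨a, c, hc.ne_zero, ?_⟩
    rw [eq_div_iff hc.ne_zero]
    change S.residue s (IsLocalization.mk' _ a c) * S.residue s (algebraMap _ _ (c : Γ(S, U))) =
      S.residue s (algebraMap _ _ a)
    rw [← map_mul, IsLocalization.mk'_spec]
  let ι := algebraMap (S.residueField s) ℓ
  let φ : Γ(S, U) →+* ℓ := ι.comp ev
  have hscale : ∀ x : ℓ, ∃ d : Γ(S, U), φ d ≠ 0 ∧ φ.IsIntegralElem (φ d * x) := by
    intro x
    obtain ⟨p, hp, hp0⟩ := IsIntegral.of_finite (S.residueField s) x
    obtain ⟨d, q, hd, hq, hqe⟩ := exists_scale ev hev p hp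
    refine ⟨d, (map_ne_zero ι).2 hd, q, hq, ?_⟩
    rw [← Polynomial.eval₂_map, hqe]
    exact Polynomial.scaleRoots_eval₂_eq_zero ι hp0
  choose d hd hdint using hscale
  obtain ⟨T0, hT0⟩ := Module.Finite.fg_top (R := S.residueField s) (M := ℓ)
  obtain ⟨B, _, f, ψ, hf, hfp, hψ, hsub⟩ := exists_lift φ (T0.image fun x ↦ φ (d x) * x) (by
    intro y hy
    obtain ⟨x, -, rfl⟩ := Finset.mem_image.1 hy
    exact hdint x)
  let F : Subfield ℓ := Subfield.closure (Set.range ψ)
  have hA : ∀ a : Γ(S, U), φ a ∈ F := fun a ↦ by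
    rw [← hψ]
    exact Subfield.subset_closure ⟨f a, rfl⟩
  have hK : ∀ c : S.residueField s, ι c ∈ F := by
    intro c
    obtain ⟨a, b, -, rfl⟩ := hev c
    rw [map_div₀]
    exact F.div_mem (hA a) (hA b)
  have htop : ∀ z : ℓ, z ∈ F := by
    intro z
    have hz : z ∈ Submodule.span (S.residueField s) (T0 : Set ℓ) := by
      rw [hT0]; exact Submodule.mem_top
    induction hz using Submodule.span_induction with
    | mem x hx =>
      have h1 : φ (d x) * x ∈ F :=
        Subfield.subset_closure (hsub (Finset.mem_image_of_mem _ hx))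
      have h2 := F.div_mem h1 (hA (d x))
      rwa [mul_div_cancel_left₀ _ (hd x)] at h2
    | zero => exact F.zero_mem
    | add _ _ _ _ h1 h2 => exact F.add_mem h1 h2
    | smul c _ _ h1 =>
      rw [Algebra.smul_def]
      exact F.mul_mem (hK c) h1
  have hfrac : ∀ z : ℓ, ∃ a c : B, ψ c ≠ 0 ∧ z = ψ a / ψ c := by
    intro z
    obtain ⟨x, hx, y, hy, rfl⟩ := Subfield.mem_closure_iff.1 (htop z)
    have hr : Subring.closure (Set.range ψ) = ψ.range := by
      rw [← RingHom.coe_range, Subring.closure_eq]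
    rw [hr] at hx hy
    obtain ⟨a, rfl⟩ := hx
    obtain ⟨c, rfl⟩ := hy
    by_cases hc : ψ c = 0
    · exact ⟨0, 1, by simp, by simp [hc]⟩
    · exact ⟨a, c, hc, rfl⟩
  haveI : Flat (Spec.map (CommRingCat.ofHom f)) := (HasRingHomProperty.Spec_iff (P := @Flat)).2 hf
  haveI : LocallyOfFinitePresentation (Spec.map (CommRingCat.ofHom f)) :=
    (HasRingHomProperty.Spec_iff (P := @LocallyOfFinitePresentation)).2 hfp
  refine ⟨Spec (CommRingCat.of B), Spec.map (CommRingCat.ofHom f) ≫ hU.fromSpec,
    Spec.map (CommRingCat.ofHom ψ), inferInstance, inferInstance, inferInstance,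
    isPreimmersion_of_frac ψ hfrac, ?_⟩
  rw [Scheme.fromSpecResidueField, ← hU.fromSpecStalk_eq_fromSpecStalk hsU,
    IsAffineOpen.fromSpecStalk, ← Category.assoc, ← Category.assoc, ← Category.assoc,
    ← Spec.map_comp, ← Spec.map_comp, ← Spec.map_comp]
  congr 2
  ext1
  exact hψ

end Groth.Agent.S14678
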