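import Groth.Statements.S14679
import Mathlib.AlgebraicGeometry.ResidueField
import Mathlib.AlgebraicGeometry.PullbackCarrier

set_option autoImplicit false
universe u
open CategoryTheory CategoryTheory.Limits AlgebraicGeometry
open EtBase

namespace Groth.Agent.S14679

/-- Given a morphism of schemes f : X ⟶ Y and a point x ∈ X with image y = f(x), such that the residue
field map κ(y) → κ(x) is bijective; let ℓ be an algebraic extension field of κ(y) and form the base
change X ×_Y Spec ℓ along Spec ℓ ⟶ Spec κ(y) ⟶ Y. Then there is exactly one point of X ×_Y Spec ℓ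
mapping to x under the first projection. (The published statement takes ℓ to be an algebraic closure
of κ(y), noting that any algebraic extension works, and also identifies the local ring at the point
with O_{X,x} ⊗_{O_{Y,y}} ℓ; this row allows any algebraic extension ℓ and states only the first
assertion.) -/
theorem result {X Y : Scheme.{u}} (f : X ⟶ Y) (x : ↥X)
    (hx : Function.Bijective (f.residueFieldMap x).hom)
    (ℓ : Type u) [Field ℓ] [Algebra (Y.residueField (f.base x)) ℓ] [Algebra.IsAlgebraic (Y.residueField (f.base x)) ℓ] :
    ∃! z : ↥(pullback f (Spec.map (CommRingCat.ofHom (algebraMap (Y.residueField (f.base x)) ℓ)) ≫ Y.fromSpecResidueField (f.base x))),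
      (pullback.fst f (Spec.map (CommRingCat.ofHom (algebraMap (Y.residueField (f.base x)) ℓ)) ≫ Y.fromSpecResidueField (f.base x))).base z = x := by
  have hfacx : ∀ {P : Scheme.{u}} (q : P ⟶ X) (z : ↥P), q.base z = x →
      ∃ ψ : Spec (P.residueField z) ⟶ Spec (X.residueField x),
        P.fromSpecResidueField z ≫ q = ψ ≫ X.fromSpecResidueField x := by
    rintro P q z rfl
    exact ⟨_, (Scheme.Hom.SpecMap_residueFieldMap_fromSpecResidueField q z).symm⟩
  let y := f.base x
  let jy := Y.fromSpecResidueField y
  let h := Spec.map (CommRingCat.ofHom (algebraMap (Y.residueField y) ℓ))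
  let r := Spec.map (f.residueFieldMap x)
  have hr : r ≫ jy = X.fromSpecResidueField x ≫ f :=
    Scheme.Hom.SpecMap_residueFieldMap_fromSpecResidueField f x
  haveI : IsIso (f.residueFieldMap x) := (ConcreteCategory.isIso_iff_bijective _).2 hx
  haveI : IsIso r := inferInstanceAs (IsIso (Spec.map (f.residueFieldMap x)))
  let g := h ≫ jy
  let L : Spec (CommRingCat.of ℓ) ⟶ pullback f g :=
    pullback.lift (h ≫ inv r ≫ X.fromSpecResidueField x) (𝟙 _) (by
      rw [Category.assoc, Category.assoc, ← hr, IsIso.inv_hom_id_assoc, Category.id_comp])
  have key : ∀ z : ↥(pullback f g), (pullback.fst f g).base z = x → z = L.base default := by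
    intro z hz
    obtain ⟨ψ, hψ⟩ := hfacx (pullback.fst f g) z hz
    let a := (pullback f g).fromSpecResidueField z
    let φ := a ≫ pullback.snd f g
    have hψ' : ψ ≫ r = φ ≫ h := by
      rw [← cancel_mono jy, Category.assoc, hr, ← Category.assoc, ← hψ, Category.assoc,
        pullback.condition, Category.assoc, Category.assoc]
    have ha : a = φ ≫ L := by
      apply pullback.hom_ext
      · rw [Category.assoc, pullback.lift_fst, ← Category.assoc φ, ← hψ', Category.assoc,
          IsIso.hom_inv_id_assoc]
        exact hψ
      · rw [Category.assoc, pullback.lift_snd, Category.comp_id]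
    have e := congrArg (fun m : _ ⟶ pullback f g => m.base default) ha
    simp only [Scheme.Hom.comp_base, TopCat.coe_comp, Function.comp_apply] at e
    rw [Subsingleton.elim (φ.base default) default] at e
    exact (Scheme.fromSpecResidueField_apply z default).symm.trans e
  refine ⟨L.base default, ?_, key⟩
  have e : (pullback.fst f g).base (L.base default) =
      (h ≫ inv r ≫ X.fromSpecResidueField x).base default := by
    rw [← pullback.lift_fst (f := f) (g := g) (h ≫ inv r ≫ X.fromSpecResidueField x) (𝟙 _) _]
    rfl
  exact e.trans (Scheme.fromSpecResidueField_apply x _)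

end Groth.Agent.S14679
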