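import Groth.Statements.S14680
import Mathlib
-- import your own Groth.Agent.* helpers here

set_option autoImplicit false
universe u
open CAlg

namespace Groth.Agent.S14680

theorem eq_zero_of_forall_mem {A : Type u} [CommRing A] [IsNoetherianRing A] {M : Type u} [AddCommGroup M]
    [Module A M] [Module.Finite A M] (x : M)
    (h : ∀ (m : Ideal A), m.IsMaximal → ∀ n : ℕ, x ∈ (m ^ n • ⊤ : Submodule A M)) : x = 0 := by
  by_contra hx
  let J : Ideal A := (Submodule.span A {x}).annihilator
  obtain ⟨m, hm, hle⟩ := Ideal.exists_le_maximal J (fun hJ ↦ hx (by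
    have h1 : (1 : A) ∈ J := hJ ▸ Submodule.mem_top
    simpa using (Submodule.mem_annihilator_span_singleton x (1 : A)).1 h1))
  obtain ⟨⟨r, hr⟩, hrx⟩ := (Ideal.mem_iInf_smul_pow_eq_bot_iff m x).1 (Submodule.mem_iInf _ |>.2 (h m hm))
  have : 1 - r ∈ m := hle ((Submodule.mem_annihilator_span_singleton x _).2 (by
    rw [sub_smul, one_smul, sub_eq_zero]; exact hrx.symm))
  exact hm.ne_top ((Ideal.eq_top_iff_one _).2 (by simpa using m.add_mem this hr))

/-- Let A be a Noetherian commutative ring and f : M' → M, g : M → M'' linear maps between finitely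
generated A-modules. Then the sequence 0 → M' → M → M'' → 0 is exact — f injective, the image of f
equal to the kernel of g, g surjective — if and only if for every maximal ideal m of A the sequence
of m-adic completions 0 → M'^ → M^ → M''^ → 0 (maps induced by f and g) is exact in the same sense. -/
theorem result (A : Type u) [CommRing A] [IsNoetherianRing A]
    (M' M M'' : Type u) [AddCommGroup M'] [Module A M'] [AddCommGroup M] [Module A M] [AddCommGroup M''] [Module A M'']
    [Module.Finite A M'] [Module.Finite A M] [Module.Finite A M''] (f : M' →ₗ[A] M) (g : M →ₗ[A] M'') :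
    (Function.Injective f ∧ Function.Exact f g ∧ Function.Surjective g) ↔
      ∀ (m : Ideal A) [m.IsMaximal],
        Function.Injective (AdicCompletion.map m f) ∧ Function.Exact (AdicCompletion.map m f) (AdicCompletion.map m g) ∧
          Function.Surjective (AdicCompletion.map m g) := by
  constructor
  · rintro ⟨hf, hfg, hg⟩ m _
    exact ⟨AdicCompletion.map_injective m hf, AdicCompletion.map_exact hf hfg hg, AdicCompletion.map_surjective m hg⟩
  · intro h
    have hval : ∀ (m : Ideal A) (N : Type u) [AddCommGroup N] [Module A N] (z : N) (n : ℕ),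
        AdicCompletion.of m N z = 0 → z ∈ (m ^ n • ⊤ : Submodule A N) := by
      intro m N _ _ z n hz
      exact (Submodule.Quotient.mk_eq_zero _).1 (by simpa using congrArg (fun w ↦ w.val n) hz)
    have hinj : Function.Injective f := by
      rw [injective_iff_map_eq_zero]
      intro x hx
      refine eq_zero_of_forall_mem x fun m hm n ↦ hval m M' x n ?_
      haveI := hm
      exact (h m).1 (by rw [map_zero, AdicCompletion.map_of, hx, map_zero])
    have hgf : ∀ x, g (f x) = 0 := fun x ↦ by
      refine eq_zero_of_forall_mem _ fun m hm n ↦ hval m M'' _ n ?_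
      haveI := hm
      rw [← AdicCompletion.map_of m g, ← AdicCompletion.map_of m f]
      exact (h m).2.1.apply_apply_eq_zero _
    refine ⟨hinj, fun x ↦ ⟨fun hx ↦ ?_, ?_⟩, fun z ↦ ?_⟩
    · have : (LinearMap.range f).mkQ x = 0 := by
        refine eq_zero_of_forall_mem (A := A) _ fun m hm n ↦ ?_
        haveI := hm
        obtain ⟨y, hy⟩ := ((h m).2.1 (AdicCompletion.of m M x)).1 (by rw [AdicCompletion.map_of, hx, map_zero])
        obtain ⟨w, hw⟩ := Submodule.Quotient.mk_surjective _ (y.val n)
        have hval' := congrArg (fun v ↦ v.val n) hy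
        rw [AdicCompletion.map_val_apply, ← hw] at hval'
        have hmem : f w - x ∈ (m ^ n • ⊤ : Submodule A M) := (Submodule.Quotient.eq _).1 hval'
        have := Submodule.mem_map_of_mem (f := (LinearMap.range f).mkQ) hmem
        rw [Submodule.map_smul'', map_sub, show (LinearMap.range f).mkQ (f w) = 0 from (Submodule.Quotient.mk_eq_zero _).2 (LinearMap.mem_range_self f w)] at this
        rw [zero_sub, Submodule.neg_mem_iff] at this
        exact Submodule.smul_mono le_rfl le_top this
      exact (Submodule.Quotient.mk_eq_zero _).1 this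
    · rintro ⟨y, rfl⟩; exact hgf y
    · by_contra hz
      let Q := M'' ⧸ LinearMap.range g
      have hz' : (LinearMap.range g).mkQ z ≠ 0 := fun h0 ↦ hz ((Submodule.Quotient.mk_eq_zero _).1 h0)
      obtain ⟨m, hm, hle⟩ := Ideal.exists_le_maximal (Module.annihilator A Q) (fun htop ↦ hz' (by
        have h1 : (1 : A) ∈ Module.annihilator A Q := htop ▸ Submodule.mem_top
        exact (one_smul A _).symm.trans (Module.mem_annihilator.1 h1 ((LinearMap.range g).mkQ z))))
      haveI := hm
      have htop : (⊤ : Submodule A Q) ≤ m • ⊤ := by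
        intro q _
        obtain ⟨q, rfl⟩ := Submodule.Quotient.mk_surjective _ q
        obtain ⟨y, hy⟩ := (h m).2.2 (AdicCompletion.of m M'' q)
        obtain ⟨w, hw⟩ := Submodule.Quotient.mk_surjective _ (y.val 1)
        have hval' := congrArg (fun v ↦ v.val 1) hy
        rw [AdicCompletion.map_val_apply, ← hw] at hval'
        have hmem : g w - q ∈ (m ^ 1 • ⊤ : Submodule A M'') := (Submodule.Quotient.eq _).1 hval'
        have := Submodule.mem_map_of_mem (f := (LinearMap.range g).mkQ) hmem
        rw [Submodule.map_smul'', map_sub, pow_one, show (LinearMap.range g).mkQ (g w) = 0 from (Submodule.Quotient.mk_eq_zero _).2 (LinearMap.mem_range_self g w)] at this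
        rw [zero_sub, Submodule.neg_mem_iff] at this
        exact Submodule.smul_mono le_rfl le_top this
      obtain ⟨r, hr, hrQ⟩ := Submodule.exists_sub_one_mem_and_smul_eq_zero_of_fg_of_le_smul m ⊤
        (Module.Finite.fg_top) htop
      have : r ∈ m := hle (Module.mem_annihilator.2 fun q ↦ hrQ q trivial)
      exact hm.ne_top ((Ideal.eq_top_iff_one _).2 (by simpa using m.sub_mem this hr))

end Groth.Agent.S14680
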