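import Groth.Statements.S14681
import Groth.Agent.AbVarLib.StabAmple
-- import your own Groth.Agent.* helpers here

set_option autoImplicit false
universe u
open CategoryTheory CategoryTheory.Limits MonoidalCategory CartesianMonoidalCategory MonObj GrpObj AlgebraicGeometry
open AbVar

namespace Groth.Agent.S14681

/-- (b) ⇒ (e): let k be an algebraically closed field, A an abelian variety over k (a proper k-group
scheme whose structure morphism is geometrically integral), D an effective Cartier divisor on A
given by its ideal sheaf I, and L an invertible O_A-module with L ⊗ I ≅ O_A (so L = O_A(D)). Suppose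
the set of k-points a of A whose translation x ↦ x·a maps each irreducible component of the support
of D onto itself is finite. Then L is ample. -/
theorem result (k : Type u) [Field k] [IsAlgClosed k]
    (A : Over (Spec (CommRingCat.of k))) [GrpObj A] [IsProper A.hom] [GeometricallyIntegral A.hom]
    (I : A.left.IdealSheafData) (hI : BlowUp.IsEffCartierIdeal I)
    (L : A.left.Modules) (hL : PicF.IsInvertible L) (hLI : ClSub.IsInverseOf L (ClSub.idealMod I))
    (hb : Set.Finite {a : (𝟙_ (Over (Spec (CommRingCat.of k)))) ⟶ A |
      ∀ Z ∈ irreducibleComponents ↥(I.support : Set ↥A.left),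
        (fun x : ↥A.left => (𝟙 A * (toUnit A ≫ a)).left.base x) '' (Subtype.val '' Z) = Subtype.val '' Z}) :
    CohB1.IsAmple L := by
  open Groth.Agent Groth.Agent.AbVarLib in
  exact by
    have : IsIntegral A.left := GeometricallyIntegral.isIntegral_of_subsingleton A.hom
    obtain ⟨s, hs⟩ := AbSch51.InvSection.exists_section I hI hL hLI
    have hU : (CohB1.genLocus (CohB1.tensorPow L 1) s : Set A.left).Nonempty := by
      rw [hs, Set.nonempty_compl]
      intro h
      obtain ⟨U, hxU, -, f, hf, hDU⟩ := IdealSh.EffCartier.exists_equation hI
        (Classical.arbitrary A.left) ⊤ trivial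
      have h2 : (I.support : Set A.left) ∩ U.1 = A.left.zeroLocus (U := U.1) (I.ideal U : Set _) ∩ U.1 :=
        I.coe_support_inter U
      rw [hDU, Scheme.zeroLocus_span, Scheme.zeroLocus_singleton, h, Set.univ_inter] at h2
      have hbot : A.left.basicOpen f = ⊥ := le_bot_iff.mp fun y hy =>
        ((h2.le (A.left.basicOpen_le f hy)).1 hy).elim
      rw [basicOpen_eq_bot_iff] at hbot
      have : Nonempty U.1 := ⟨⟨_, hxU⟩⟩
      subst hbot
      exact zero_notMem_nonZeroDivisors hf
    refine StabAmple.isAmple hL s hU (I.support : Set A.left) I.support.isClosed (fun w => ?_) hb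
    rw [← SetLike.mem_coe, hs, Set.mem_compl_iff, not_not]

end Groth.Agent.S14681
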