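import Groth.Statements.S14682
import Groth.Agent.RelDiv.SymApp
import Groth.Agent.HilbD.Descent


set_option autoImplicit false
universe u
open CategoryTheory CategoryTheory.Limits AlgebraicGeometry
open SymProd

namespace Groth.Agent.S14682

open Groth.Agent.RelDiv

/-- Let S be a locally Noetherian scheme and f : C ⟶ S a proper morphism, smooth of relative dimension
1, such that every finite set of points of C lying over a single point of S is contained in an
affine open of C; let n ≥ 0 and let (Y, q, g) be an n-th symmetric power of C over S (q : C ×_S ⋯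
×_S C ⟶ Y a quotient of the n-fold fibre power by the symmetric group permuting the factors: affine,
invariant, identifying sections of O_Y with invariant sections; q ≫ g = the structure map). On the
fibre product of the n-fold fibre power with C consider the divisor D̃ = sum of the graphs of the n
projections, i.e. the product of the kernel ideal sheaves of the n sections (id, p_i). Then there is
exactly one quasi-coherent ideal sheaf J on Y ×_S C whose inverse image along q × id is D̃, and the
closed subscheme of Y ×_S C defined by any such J is finite locally free of degree n over Y (an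
effective relative Cartier divisor of degree n). (The published statement is for a flat projective
family whose geometric fibres are connected regular curves; this row assumes properness, smoothness
of relative dimension 1 and the affine-open property, which is what the proof uses.) -/
theorem result {C S Y : Scheme.{u}} [IsLocallyNoetherian S]
    (f : C ⟶ S) [IsProper f] [SmoothOfRelativeDimension 1 f] (hAF : SymProd.IsAF f)
    (n : ℕ) (q : SymProd.fibPow f n ⟶ Y) (g : Y ⟶ S) (hq : SymProd.IsSymProd f n q g) :
    (∃! J : (pullback g f).IdealSheafData, J.comap (pullback.map (WidePullback.base fun _ : Fin n => f) f g f q (𝟙 C) (𝟙 S) ((Category.comp_id _).trans hq.over.symm) ((Category.comp_id f).trans (Category.id_comp f).symm)) = ∏ i : Fin n, (pullback.lift (𝟙 (SymProd.fibPow f n)) (WidePullback.π (fun _ : Fin n => f) i) ((Category.id_comp _).trans (WidePullback.π_arrow (fun _ : Fin n => f) i).symm) : SymProd.fibPow f n ⟶ pullback (WidePullback.base fun _ : Fin n => f) f).ker) ∧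
    ∀ J : (pullback g f).IdealSheafData, J.comap (pullback.map (WidePullback.base fun _ : Fin n => f) f g f q (𝟙 C) (𝟙 S) ((Category.comp_id _).trans hq.over.symm) ((Category.comp_id f).trans (Category.id_comp f).symm)) = ∏ i : Fin n, (pullback.lift (𝟙 (SymProd.fibPow f n)) (WidePullback.π (fun _ : Fin n => f) i) ((Category.id_comp _).trans (WidePullback.π_arrow (fun _ : Fin n => f) i).symm) : SymProd.fibPow f n ⟶ pullback (WidePullback.base fun _ : Fin n => f) f).ker →
      Mor2.IsFinLocFreeOfDeg n (J.subschemeι ≫ pullback.fst g f) := by
  obtain ⟨D, hD, hc⟩ := Groth.Agent.RelDiv.exists_universal f hAF hq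
  obtain ⟨⟨e1, e2, e3⟩, e4⟩ := Groth.Agent.RelDiv.isFinLocFreeOfDeg_classify f
    (Groth.Agent.RelDiv.representable_of_isAF f hAF) n (Over.mk g) D hD _ hc
  haveI : IsFinite q := e1
  haveI : Flat q := e2
  haveI : LocallyOfFinitePresentation q := e3
  haveI : Surjective q := (Scheme.Hom.one_le_finrank_iff_surjective q).mp fun y =>
    (Nat.factorial_pos n).trans_le (e4 y).ge
  let b : SymProd.fibPow f n ⟶ S := WidePullback.base fun _ : Fin n => f
  let M : pullback b f ⟶ pullback g f := pullback.map b f g f q (𝟙 C) (𝟙 S)
    ((Category.comp_id _).trans hq.over.symm) ((Category.comp_id f).trans (Category.id_comp f).symm)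
  have hM : IsPullback M (pullback.fst b f) (pullback.fst g f) q := by
    refine IsPullback.of_right ?_ (pullback.lift_fst _ _ _) (IsPullback.of_hasPullback g f).flip
    rw [pullback.lift_snd, Category.comp_id, hq.over]
    exact (IsPullback.of_hasPullback b f).flip
  haveI : Flat M := MorphismProperty.of_isPullback (P := @Flat) hM.flip inferInstance
  haveI : Surjective M := MorphismProperty.of_isPullback (P := @Surjective) hM.flip inferInstance
  haveI : QuasiCompact M := MorphismProperty.of_isPullback (P := @QuasiCompact) hM.flip inferInstance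
  let sY : pullback g f ⟶ PicF.XT f (Over.mk g) :=
    pullback.lift (pullback.snd g f) (pullback.fst g f) pullback.condition.symm
  haveI hsY : IsIso sY := (pullbackSymmetry g f).isIso_hom
  let sP : pullback b f ⟶ PicF.XT f (pw f n) :=
    pullback.lift (pullback.snd b f) (pullback.fst b f) pullback.condition.symm
  haveI hsP : IsIso sP := (pullbackSymmetry b f).isIso_hom
  have hsq : M ≫ sY = sP ≫ PicF.XTmap f (Over.homMk q hq.over : pw f n ⟶ Over.mk g) := by
    apply pullback.hom_ext
    · simp only [M, sY, sP, Category.assoc, Groth.Agent.HilbD.XTmap_fst, pullback.lift_fst, pullback.lift_snd,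
        Category.comp_id]
    · show (M ≫ sY) ≫ PicF.XTproj f (Over.mk g) = (sP ≫ _) ≫ PicF.XTproj f (Over.mk g)
      rw [Category.assoc, Category.assoc, Groth.Agent.HilbD.XTmap_proj, pullback.lift_snd]
      exact (pullback.lift_fst _ _ _).trans (pullback.lift_snd_assoc _ _ _ _).symm
  let J₀ := D.1.comap sY
  have hJ₀ : J₀.comap M = ∏ i : Fin n, (pullback.lift (𝟙 (SymProd.fibPow f n))
      (WidePullback.π (fun _ : Fin n => f) i)
      ((Category.id_comp _).trans (WidePullback.π_arrow (fun _ : Fin n => f) i).symm) :
      SymProd.fibPow f n ⟶ pullback b f).ker := by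
    rw [← Scheme.IdealSheafData.comap_comp, hsq, Scheme.IdealSheafData.comap_comp,
      ← Groth.Agent.HilbD.pull_eq_comap, hc, powDiv, comap_prod]
    refine Finset.prod_congr rfl fun i _ => ?_
    haveI := Groth.Agent.HilbD.isClosedImmersion_graph f (pw f n) (prj f n i) (prj_comp f n i)
    refine Groth.Agent.HilbD.comap_ker_of_isPullback (a := 𝟙 (SymProd.fibPow f n))
      (IsPullback.of_vert_isIso ⟨?_⟩)
    apply pullback.hom_ext
    · simp [sP, pullback.lift_fst, pullback.lift_snd]
    · simp [sP, pullback.lift_fst, pullback.lift_snd]
  have huniq : ∀ J : (pullback g f).IdealSheafData, J.comap M = J₀.comap M → J = J₀ := fun J h => by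
    rw [← Groth.Agent.HilbD.map_comap_of_flat M J, h, Groth.Agent.HilbD.map_comap_of_flat]
  refine ⟨⟨J₀, hJ₀, fun J hJ => huniq J (hJ.trans hJ₀.symm)⟩, fun J hJ => ?_⟩
  rw [huniq J (hJ.trans hJ₀.symm)]
  obtain ⟨⟨d1, d2, d3⟩, d4⟩ := D.2
  have h1 : IsPullback ((D.1.comapIso sY).hom ≫ pullback.snd _ _) J₀.subschemeι D.1.subschemeι sY := by
    refine IsPullback.of_iso_pullback ⟨?_⟩ ((D.1.comapIso sY) ≪≫ pullbackSymmetry _ _) ?_ ?_
    · rw [Category.assoc, ← pullback.condition, Scheme.IdealSheafData.comapIso_hom_fst_assoc]
    · simp
    · simp [J₀]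
  have h2 : IsPullback sY (pullback.fst g f) (PicF.XTproj f (Over.mk g)) (𝟙 Y) :=
    IsPullback.of_horiz_isIso ⟨by
      rw [Category.comp_id]
      exact pullback.lift_snd _ _ _⟩
  have h3 := h1.paste_vert h2
  refine ⟨⟨MorphismProperty.of_isPullback (P := @IsFinite) h3 d1,
    MorphismProperty.of_isPullback (P := @Flat) h3 d2,
    MorphismProperty.of_isPullback (P := @LocallyOfFinitePresentation) h3 d3⟩, fun y => ?_⟩
  haveI := d1; haveI := d2
  exact (Scheme.Hom.finrank_of_isPullback _ _ _ _ h3 y).trans (d4 _)

end Groth.Agent.S14682
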