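import Groth.Statements.S14684
import Groth.Agent.SekTors.Core
-- import your own Groth.Agent.* helpers here

set_option autoImplicit false
universe u
open CategoryTheory AlgebraicGeometry
open SekSuwa

namespace Groth.Agent.S14684

open CategoryTheory.Limits MonoidalCategory CartesianMonoidalCategory
open Groth.Agent.SekTors Groth.Agent.GITLib

/-- Let R be a discrete valuation ring of characteristic zero and residue characteristic p, λ ≠ 0 in R,
and X a scheme which is faithfully flat over Spec R. Then every torsor for the fppf topology over X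
under (the base change to X of) the affine R-group G^(λ) = Spec R[T, 1/(1+λT)], with group law s + t
+ λst, is locally trivial for the Zariski topology; that is, the first higher direct image of G^(λ)
under the morphism from the flat site to the Zariski site of X vanishes, and fppf and Zariski H¹ of
X with coefficients in G^(λ) agree. -/
theorem result (R : Type u) [CommRing R] [IsDomain R] [IsDiscreteValuationRing R] [CharZero R]
    (p : ℕ) [Fact p.Prime] [CharP (IsLocalRing.ResidueField R) p]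
    (lam : R) (hlam : lam ≠ 0)
    (X : Scheme.{u}) (f : X ⟶ Spec (CommRingCat.of R)) [Flat f] [Surjective f]
    (P : Over X) (a : AlgGrp.Action (Red.bc f (SekSuwa.G R lam)) P)
    (hP : NonAbH1.IsTorsorFor Scheme.fppfPrecoverage a) :
    NonAbH1.IsTorsorFor Scheme.zariskiPrecoverage a := by
  classical
  have hnzd : lam ∈ nonZeroDivisors R := mem_nonZeroDivisors_of_ne_zero hlam
  have ha : NonAbH1.IsTorsorFor Scheme.fpqcPrecoverage a := by
    obtain ⟨Rc, hRc, hsec⟩ := hP.2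
    exact ⟨hP.1, Rc, fppfPrecoverage_le_fpqc' _ hRc, hsec⟩
  refine ⟨hP.1, Groth.Agent.GLDescent.isLocallyTrivialFor_zariski fun x => ?_⟩
  obtain ⟨U, hxU, Φ, hΦd, hΦ⟩ := Groth.Agent.GLDescent.exists_local_frame ha
    (fun {T} g => (!![1 + sc f T lam * tG f g] : Matrix (Fin 1) (Fin 1) Γ(T.left, ⊤)))
    (fun g g' => by
      ext i j
      fin_cases i; fin_cases j
      simp [Matrix.mul_apply, tG_mul]
      ring)
    (fun g => by simpa [Matrix.det_unique] using isUnit_tG f g)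
    (fun k g => by
      ext i j
      fin_cases i; fin_cases j
      simp [tG_comp, sc_map])
    x
  obtain ⟨_, ⟨V₁, hV₁, rfl⟩, hxV, hle⟩ := X.isBasis_affineOpens.exists_subset_of_mem_open hxU U.2
  let V₀ : X.Opens := V₁
  have hV₀ : IsAffineOpen V₀ := hV₁
  let UO : Over X := Over.mk U.ι
  let O₀ : Over X := Over.mk V₀.ι
  let j₀ : O₀ ⟶ UO := Over.homMk (X.homOfLE hle) (Scheme.homOfLE_ι X hle)
  let z₀ := (j₀ ▷ P).left.appTop (Φ 0 0)
  have hz₀ : IsUnit z₀ := IsUnit.map _ (by simpa [Matrix.det_unique] using hΦd)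
  have hze₀ : ∀ {T : Over X} (g : T ⟶ Red.bc f (SekSuwa.G R lam)) (q : T ⟶ O₀ ⊗ P),
      (lift (q ≫ fst _ _) (lift g (q ≫ snd _ _) ≫ a.act)).left.appTop z₀ =
        (1 + sc f T lam * tG f g) * q.left.appTop z₀ := by
    intro T g q
    have e := congrFun (congrFun (hΦ g (q ≫ j₀ ▷ P)) 0) 0
    simp only [Matrix.mul_apply, Matrix.map_apply] at e
    have hc : ∀ r : T ⟶ O₀ ⊗ P, r.left.appTop z₀ = (r ≫ j₀ ▷ P).left.appTop (Φ 0 0) := fun r => by
      rw [Over.comp_left, Scheme.Hom.comp_appTop]; rfl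
    rw [hc, hc, show lift (q ≫ fst _ _) (lift g (q ≫ snd _ _) ≫ a.act) ≫ j₀ ▷ P =
      lift ((q ≫ j₀ ▷ P) ≫ fst _ _) (lift g ((q ≫ j₀ ▷ P) ≫ snd _ _) ≫ a.act) by simp]
    rw [e, Fin.sum_univ_one]
    rfl
  haveI : IsAffine (V₀ : Scheme.{u}) := hV₀
  let sm := Spec.map (CommRingCat.ofHom (Ideal.Quotient.mk (Ideal.span ({lam} : Set R))))
  haveI : IsClosedImmersion sm := IsClosedImmersion.spec_of_surjective _ Ideal.Quotient.mk_surjective
  let L₀ : Over X := Over.mk (pullback.fst (V₀.ι ≫ f) sm ≫ V₀.ι)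
  let k₀ : L₀ ⟶ O₀ := Over.homMk (pullback.fst (V₀.ι ≫ f) sm) rfl
  have h0 : sc f L₀ lam = 0 := sc_eq_zero f (l := pullback.snd (V₀.ι ≫ f) sm)
    ((Category.assoc _ _ _).trans pullback.condition)
  obtain ⟨v, hv, hval⟩ := exists_desc_mod f a ha O₀ z₀ hz₀ hze₀ k₀ h0
  have hsurj : Function.Surjective k₀.left.appTop :=
    (IsClosedImmersion.isAffine_surjective_of_isAffine (pullback.fst (V₀.ι ≫ f) sm)).2
  obtain ⟨b, hb⟩ : ∃ b : Γ(O₀.left, ⊤), k₀.left.appTop b = v := hsurj v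
  obtain ⟨c, hc⟩ : ∃ c : Γ(O₀.left, ⊤), k₀.left.appTop c = ((hv.unit⁻¹ : _ˣ) : _) := hsurj _
  obtain ⟨e, he⟩ : ∃ e : Γ(O₀.left, ⊤), sc f O₀ lam * e = b * c - 1 :=
    exists_mul_of_restrict_zero (W := O₀.left) (V₀.ι ≫ f) hnzd (IsPullback.of_hasPullback (V₀.ι ≫ f) sm) (b * c - 1)
    (by
      show k₀.left.appTop (b * c - 1) = 0
      rw [map_sub, map_mul, map_one, hb, hc, IsUnit.mul_val_inv, sub_self])
  let x₀ : O₀.left := ⟨x, hxV⟩
  let s : Γ(O₀.left, ⊤) := sc f O₀ lam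
  obtain ⟨b', hb', hxb⟩ : ∃ b' : Γ(O₀.left, ⊤), k₀.left.appTop b' = v ∧
      x₀ ∈ O₀.left.basicOpen b' := by
    by_contra hcon
    simp only [not_exists, not_and] at hcon
    let γm := O₀.left.presheaf.germ ⊤ x₀ trivial
    have h1 : ¬ IsUnit (γm b) := fun hh => hcon b hb ((Scheme.mem_basicOpen _ b x₀ trivial).2 hh)
    have h2 : ¬ IsUnit (γm (b + s)) := fun hh => hcon (b + s)
      (by
        rw [map_add, hb, show k₀.left.appTop s = sc f L₀ lam from sc_map f k₀ lam, h0, add_zero])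
      ((Scheme.mem_basicOpen _ (b + s) x₀ trivial).2 hh)
    rw [← mem_nonunits_iff] at h1 h2
    have h3 : γm s ∈ nonunits _ := by
      rw [← IsLocalRing.mem_maximalIdeal] at h1 h2 ⊢
      have h4 := sub_mem h2 h1
      rwa [map_add, add_sub_cancel_left] at h4
    refine ((IsLocalRing.mem_maximalIdeal (1 : O₀.left.presheaf.stalk x₀)).1 ?_) isUnit_one
    rw [← IsLocalRing.mem_maximalIdeal] at h1 h3
    have h5 : (1 : _) = γm b * γm c - γm s * γm e := by
      rw [← map_mul, ← map_mul, ← map_sub, show s * e = b * c - 1 from he, sub_sub_cancel, map_one]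
    rw [h5]
    exact sub_mem (Ideal.mul_mem_right _ _ h1) (Ideal.mul_mem_right _ _ h3)
  let W : O₀.left.Opens := O₀.left.basicOpen b'
  let O : Over X := Over.mk (W.ι ≫ V₀.ι)
  let j : O ⟶ O₀ := Over.homMk W.ι rfl
  haveI : Flat (O.hom ≫ f) := by show Flat ((W.ι ≫ V₀.ι) ≫ f); infer_instance
  have hu : IsUnit (j.left.appTop b') := by
    show IsUnit (W.ι.appTop b')
    refine (W : Scheme.{u}).toRingedSpace.isUnit_of_isUnit_germ ⊤ _ fun y _ => ?_
    refine (Scheme.mem_basicOpen _ (W.ι.appTop b') y trivial).1 ?_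
    rw [show (W : Scheme.{u}).basicOpen (W.ι.appTop b') = W.ι ⁻¹ᵁ O₀.left.basicOpen b' from
      (Scheme.preimage_basicOpen W.ι b').symm]
    exact y.2
  let L : Over X := Over.mk (pullback.fst (O.hom ≫ f) sm ≫ O.hom)
  let k : L ⟶ O := Over.homMk (pullback.fst (O.hom ≫ f) sm) rfl
  let m₀ : L ⟶ L₀ := Over.homMk (pullback.lift (k ≫ j).left (pullback.snd (O.hom ≫ f) sm) (by
    rw [← Category.assoc]
    show ((k ≫ j).left ≫ O₀.hom) ≫ f = _
    rw [Over.w (k ≫ j)]
    exact (Category.assoc _ _ _).trans pullback.condition)) (by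
    show pullback.lift _ _ _ ≫ pullback.fst _ _ ≫ V₀.ι = _
    rw [pullback.lift_fst_assoc]
    exact Over.w (k ≫ j))
  have hm₀ : m₀ ≫ k₀ = k ≫ j := Over.OverMorphism.ext (pullback.lift_fst _ _ _)
  have hze : ∀ {T : Over X} (g : T ⟶ Red.bc f (SekSuwa.G R lam)) (q : T ⟶ O ⊗ P),
      (lift (q ≫ fst _ _) (lift g (q ≫ snd _ _) ≫ a.act)).left.appTop ((j ▷ P).left.appTop z₀) =
        (1 + sc f T lam * tG f g) * q.left.appTop ((j ▷ P).left.appTop z₀) := by
    intro T g q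
    have e := hze₀ g (q ≫ j ▷ P)
    simp only [← ConcreteCategory.comp_apply, ← Scheme.Hom.comp_appTop, ← Over.comp_left]
    simpa using e
  obtain ⟨σ⟩ := exists_section_of_unit f a hnzd ha O ((j ▷ P).left.appTop z₀) (hz₀.map _) hze k
    (IsPullback.of_hasPullback (O.hom ≫ f) sm) (j.left.appTop b') hu (fun {T'} m p => by
      have c1 : ∀ {A B C : Over X} (p₁ : A ⟶ B) (p₂ : B ⟶ C) (y : Γ(C.left, ⊤)),
          p₁.left.appTop (p₂.left.appTop y) = (p₁ ≫ p₂).left.appTop y := fun p₁ p₂ y => by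
        rw [show (p₁ ≫ p₂).left = p₁.left ≫ p₂.left from rfl, Scheme.Hom.comp_appTop]; rfl
      have e1 : (m ≫ k) ≫ j = (m ≫ m₀) ≫ k₀ := by simp [hm₀]
      rw [c1, c1, lift_whiskerRight, e1, ← hval (m ≫ m₀) p, ← hb', c1])
  let U₁ : X.Opens := V₀.ι ''ᵁ W
  refine ⟨U₁, ⟨x₀, hxb, rfl⟩, IsOpenImmersion.lift (W.ι ≫ V₀.ι) U₁.ι ?_ ≫ σ.left, ?_⟩
  · rw [Scheme.Opens.range_ι, Scheme.Hom.comp_base, TopCat.coe_comp, Set.range_comp, Scheme.Opens.range_ι]
    rfl
  · rw [Category.assoc, Over.w σ]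
    exact IsOpenImmersion.lift_fac _ _ _

end Groth.Agent.S14684
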