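import Groth.Statements.S14685
import Groth.Agent.AffGrp.Bridge
import Groth.Agent.SekLib.OrderP
import Mathlib.RingTheory.Flat.Basic

set_option autoImplicit false
universe u
open CategoryTheory AlgebraicGeometry
open SekSuwa

namespace Groth.Agent.S14685

open CategoryTheory.Limits MonoidalCategory CartesianMonoidalCategory MonObj TensorProduct

variable {R : Type u} [CommRing R] {K : Type u} [CommRing K] [Algebra R K]

local notation "fK" => Spec.map (CommRingCat.ofHom (algebraMap R K))

theorem homEquiv_symm_mul {G : Over (Spec (CommRingCat.of R))} [GrpObj G] {T : Over (Spec (CommRingCat.of K))}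
    (x y : T ⟶ Red.bc fK G) :
    ((Over.mapPullbackAdj fK).homEquiv T G).symm (x * y) =
      ((Over.mapPullbackAdj fK).homEquiv T G).symm x * ((Over.mapPullbackAdj fK).homEquiv T G).symm y := by
  apply ((Over.mapPullbackAdj fK).homEquiv T G).injective
  rw [Equiv.apply_symm_apply, Adjunction.homEquiv_unit, CategoryTheory.Functor.map_mul, MonObj.comp_mul,
    ← Adjunction.homEquiv_unit, ← Adjunction.homEquiv_unit, Equiv.apply_symm_apply, Equiv.apply_symm_apply]

theorem aux (R : Type u) [CommRing R] [IsDomain R] [IsDiscreteValuationRing R] [CharZero R]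
    (p : ℕ) [Fact p.Prime] [CharP (IsLocalRing.ResidueField R) p]
    (ζ : R) (hζ : IsPrimitiveRoot ζ p)
    (G : Over (Spec (CommRingCat.of R))) [GrpObj G] [IsFinite G.hom] [Flat G.hom]
    (e : Red.bc (Spec.map (CommRingCat.ofHom (algebraMap R (FractionRing R)))) G ≅ TwC.const (Spec (CommRingCat.of (FractionRing R))) (Multiplicative (ZMod p)))
    (he : TwC.IsConstGrp (Multiplicative (ZMod p)) (Red.bc (Spec.map (CommRingCat.ofHom (algebraMap R (FractionRing R)))) G) e) :
    ∃ (lam : R) (h : SekSuwa.DivCond lam p), lam ≠ 0 ∧ Nonempty (Grp.mk G ≅ Grp.mk (SekSuwa.GK R lam p h)) := by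
  classical
  have : IsAffine G.left := isAffine_of_isAffineHom G.hom
  obtain ⟨A, hA, e₀, he₀⟩ := AffGrp.Bridge.exists_iso G
  letI : HopfAlgebra R A := hA
  have : IsIso e₀.hom.left := inferInstanceAs (IsIso ((Over.forget _).map e₀.hom))
  have hfinS : IsFinite (Spec.map (CommRingCat.ofHom (algebraMap R A))) := by
    rw [show Spec.map (CommRingCat.ofHom (algebraMap R A)) = e₀.hom.left ≫ G.hom from (Over.w e₀.hom).symm]
    exact (MorphismProperty.cancel_left_of_respectsIso @IsFinite e₀.hom.left G.hom).mpr inferInstance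
  have hflatS : Flat (Spec.map (CommRingCat.ofHom (algebraMap R A))) := by
    rw [show Spec.map (CommRingCat.ofHom (algebraMap R A)) = e₀.hom.left ≫ G.hom from (Over.w e₀.hom).symm]
    exact (MorphismProperty.cancel_left_of_respectsIso @Flat e₀.hom.left G.hom).mpr inferInstance
  have : Module.Finite R A := RingHom.finite_algebraMap.mp ((IsFinite.SpecMap_iff _).mp hfinS)
  have : Module.Flat R A := RingHom.flat_algebraMap_iff.mp (Flat.SpecMap_iff.mp hflatS)
  have : Module.Free R A := Module.free_of_flat_of_isLocalRing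
  let K := FractionRing R
  let f := Spec.map (CommRingCat.ofHom (algebraMap R K))
  let adj := Over.mapPullbackAdj f
  let j : (Spec (CommRingCat.of K)).asOver (Spec (CommRingCat.of R)) ⟶
      (Over.map f).obj (𝟙_ (Over (Spec (CommRingCat.of K)))) :=
    Over.homMk (𝟙 (Spec (CommRingCat.of K))) (by
      show 𝟙 (Spec (CommRingCat.of K)) ≫ 𝟙 (Spec (CommRingCat.of K)) ≫ f = _
      simp only [Category.id_comp]
      rfl)
  let pnt : ZMod p → ((Spec (CommRingCat.of K)).asOver (Spec (CommRingCat.of R)) ⟶
      (Spec (CommRingCat.of A)).asOver (Spec (CommRingCat.of R))) := fun i =>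
    j ≫ (adj.homEquiv _ G).symm (TwC.pt (Spec (CommRingCat.of (FractionRing R))) (Multiplicative (ZMod p)) (Multiplicative.ofAdd i) ≫ e.inv) ≫ e₀.inv
  let P : ZMod p → (A →ₐ[R] K) := fun i => (Spec.mapMulEquiv.symm (pnt i)).ofConv
  have hP : ∀ i, Spec.map (CommRingCat.ofHom (P i).toRingHom) = (pnt i).left := fun i =>
    congrArg (fun g => g.left) (Spec.mapMulEquiv.apply_symm_apply (pnt i))
  have hpnt : ∀ i, (pnt i).left =
      (Sigma.ι (fun _ : Multiplicative (ZMod p) => Spec (CommRingCat.of K)) (Multiplicative.ofAdd i) ≫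
        e.inv.left ≫ pullback.fst G.hom f) ≫ e₀.inv.left := by
    intro i
    show (j ≫ (adj.homEquiv _ G).symm (TwC.pt (Spec (CommRingCat.of (FractionRing R))) (Multiplicative (ZMod p)) (Multiplicative.ofAdd i) ≫ e.inv) ≫
      e₀.inv).left = _
    rw [Adjunction.homEquiv_counit, Over.comp_left, Over.comp_left, Over.comp_left]
    show 𝟙 (Spec (CommRingCat.of K)) ≫ (((Over.map f).map (TwC.pt (Spec (CommRingCat.of (FractionRing R))) (Multiplicative (ZMod p)) (Multiplicative.ofAdd i) ≫ e.inv)).left ≫ _) ≫ _ = _
    rw [Category.id_comp]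
    simp [TwC.pt, adj]
    rfl
  have hPi : Function.Injective P := by
    intro a b hab
    have h1 : pnt a = pnt b := Spec.mapMulEquiv.symm.injective (WithConv.ofConv_injective hab)
    have : IsIso j := by
      have : IsIso ((Over.forget _).map j) := inferInstanceAs (IsIso (𝟙 (Spec (CommRingCat.of K))))
      exact isIso_of_reflects_iso j (Over.forget _)
    have h2 := congrArg (fun g => g.left)
      ((cancel_mono e.inv).mp ((adj.homEquiv _ G).symm.injective ((cancel_mono e₀.inv).mp ((cancel_epi j).mp h1))))
    have hpt : IsEmpty (Spec (CommRingCat.of K)) → False := fun h => h.false (default : PrimeSpectrum K)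
    by_contra hne
    exact hpt (isEmpty_of_commSq_sigmaι_of_ne (g := fun _ : Multiplicative (ZMod p) => Spec (CommRingCat.of K))
      (a := 𝟙 _) (b := 𝟙 _) ⟨by simpa [TwC.pt] using h2⟩ (fun h => hne (Multiplicative.ofAdd.injective h)))
  have hmul : ∀ i j a, Algebra.TensorProduct.lift (P i) (P j) (fun _ _ => Commute.all _ _)
      (CoalgebraStruct.comul (R := R) a) = P (i + j) a := by
    intro i k a
    have h1 : pnt (i + k) = pnt i * pnt k := by
      show j ≫ _ ≫ _ = _
      rw [show Multiplicative.ofAdd (i + k) = Multiplicative.ofAdd i * Multiplicative.ofAdd k from rfl, ← he,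
        homEquiv_symm_mul, MonObj.mul_comp, MonObj.comp_mul]
    have h2 : P (i + k) = (Spec.mapMulEquiv.symm (pnt i) * Spec.mapMulEquiv.symm (pnt k)).ofConv := by
      show (Spec.mapMulEquiv.symm (pnt (i + k))).ofConv = _
      rw [h1, map_mul]
    rw [h2, AlgHom.convMul_def]
    show _ = Algebra.TensorProduct.lmul' R (Algebra.TensorProduct.map (P i) (P k) (CoalgebraStruct.comul (R := R) a))
    generalize CoalgebraStruct.comul (R := R) a = z
    induction z using TensorProduct.induction_on with
    | zero => simp
    | tmul x y => simp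
    | add x y hx hy => simp only [map_add, hx, hy]
  have hinj : ∀ a, (∀ i, P i a = 0) → a = 0 := by
    intro a ha
    let a' := (Scheme.ΓSpecIso (CommRingCat.of A)).inv a
    let q := (e.inv.left ≫ pullback.fst G.hom f) ≫ e₀.inv.left
    have h1 : q.appTop a' = 0 := by
      refine Scheme.zero_of_zero_cover _ (sigmaOpenCover _) fun m => ?_
      show (Sigma.ι (fun _ : Multiplicative (ZMod p) => Spec (CommRingCat.of K)) m).appTop (q.appTop a') = 0
      have h2 : Sigma.ι (fun _ : Multiplicative (ZMod p) => Spec (CommRingCat.of K)) m ≫ q =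
          Spec.map (CommRingCat.ofHom (P (Multiplicative.toAdd m)).toRingHom) := by
        rw [hP, hpnt]
        simp [q]
      have h3 := congrArg (fun g => Scheme.Hom.appTop g a') h2
      simp only [Scheme.Hom.comp_appTop] at h3
      refine h3.trans ?_
      refine (congrArg (fun g => CommRingCat.Hom.hom g a)
        (Scheme.ΓSpecIso_inv_naturality (CommRingCat.ofHom (P (Multiplicative.toAdd m)).toRingHom)).symm).trans ?_
      show (Scheme.ΓSpecIso (CommRingCat.of K)).inv (P (Multiplicative.toAdd m) a) = 0
      rw [ha, map_zero]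
    let r : pullback (Spec.map (CommRingCat.ofHom (algebraMap R A))) f ⟶ pullback G.hom f :=
      pullback.map _ _ _ _ e₀.hom.left (𝟙 _) (𝟙 _) (by rw [Category.comp_id]; exact (Over.w e₀.hom).symm) (by simp)
    have h4 : r ≫ e.hom.left ≫ q = pullback.fst (Spec.map (CommRingCat.ofHom (algebraMap R A))) f := by
      have h8 : e.hom.left ≫ e.inv.left = 𝟙 _ := congrArg (fun g => g.left) e.hom_inv_id
      have h9 : e₀.hom.left ≫ e₀.inv.left = 𝟙 _ := congrArg (fun g => g.left) e₀.hom_inv_id
      simp only [q, Category.assoc, reassoc_of% h8]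
      simp only [r]
      rw [← Category.assoc, pullback.lift_fst, Category.assoc]
      exact (congrArg (pullback.fst (Spec.map (CommRingCat.ofHom (algebraMap R A))) f ≫ ·) h9).trans (Category.comp_id _)
    have h5 : (pullback.fst (Spec.map (CommRingCat.ofHom (algebraMap R A))) f).appTop a' = 0 := by
      rw [← h4]
      show r.appTop (e.hom.left.appTop (q.appTop a')) = 0
      rw [h1]
      exact (congrArg r.appTop (map_zero _)).trans (map_zero _)
    have h6 := congrArg (fun g => Scheme.Hom.appTop g a') (pullbackSpecIso_inv_fst R A K)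
    simp only [Scheme.Hom.comp_appTop] at h6
    have h7 : (Scheme.ΓSpecIso (CommRingCat.of (A ⊗[R] K))).inv
        ((Algebra.TensorProduct.includeLeft : A →ₐ[R] A ⊗[R] K) a) = 0 := by
      refine (congrArg (fun g => CommRingCat.Hom.hom g a)
        (Scheme.ΓSpecIso_inv_naturality
          (CommRingCat.ofHom (Algebra.TensorProduct.includeLeftRingHom : A →+* A ⊗[R] K)))).trans ?_
      refine h6.symm.trans ?_
      exact (congrArg (pullbackSpecIso R A K).inv.appTop h5).trans (map_zero _)
    rw [← map_zero ((Scheme.ΓSpecIso (CommRingCat.of (A ⊗[R] K))).inv).hom] at h7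
    refine Algebra.TensorProduct.includeLeft_injective (S := R) (IsFractionRing.injective R K) ?_
    rw [map_zero]
    exact (Scheme.ΓSpecIso (CommRingCat.of (A ⊗[R] K))).commRingCatIsoToRingEquiv.symm.injective h7
  obtain ⟨lam, h, hlam, φ, hφ⟩ := SekLib.exists_akEquiv K ζ hζ P hinj hPi hmul
  refine ⟨lam, h, hlam, ⟨?_⟩⟩
  have : IsIso (CommRingCat.ofHom (φ : AK R lam p h →+* A)) :=
    (ConcreteCategory.isIso_iff_bijective _).mpr hφ
  have : IsIso ((Over.forget _).map (specHom φ)) := by
    show IsIso (specHom φ).left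
    rw [specHom_left]
    exact Functor.map_isIso Scheme.Spec (CommRingCat.ofHom (φ : AK R lam p h →+* A)).op
  have : IsIso (specHom φ) := isIso_of_reflects_iso _ (Over.forget _)
  exact (Grp.mkIso' e₀).symm ≪≫ Grp.mkIso' (asIso (specHom φ))


/-- Let R be a discrete valuation ring of characteristic zero and residue characteristic p containing a
primitive p-th root of unity, with fraction field K, and let G be a finite flat R-group scheme whose
generic fibre is isomorphic, as a K-group scheme, to the constant group ℤ/pℤ. Then G is isomorphic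
as an R-group scheme to G_{λ,1} = Spec R[T]/(((1 + λT)^p − 1)/λ^p) (the kernel of the isogeny ψ on
the one-parameter group with law s + t + λst) for some nonzero λ ∈ R for which that polynomial has
coefficients in R. -/
theorem result (R : Type u) [CommRing R] [IsDomain R] [IsDiscreteValuationRing R] [CharZero R]
    (p : ℕ) [Fact p.Prime] [CharP (IsLocalRing.ResidueField R) p]
    (ζ : R) (hζ : IsPrimitiveRoot ζ p)
    (G : Over (Spec (CommRingCat.of R))) [GrpObj G] [IsFinite G.hom] [Flat G.hom]
    (e : Red.bc (Spec.map (CommRingCat.ofHom (algebraMap R (FractionRing R)))) G ≅ TwC.const (Spec (CommRingCat.of (FractionRing R))) (Multiplicative (ZMod p)))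
    (he : TwC.IsConstGrp (Multiplicative (ZMod p)) (Red.bc (Spec.map (CommRingCat.ofHom (algebraMap R (FractionRing R)))) G) e) :
    ∃ (lam : R) (h : SekSuwa.DivCond lam p), lam ≠ 0 ∧ Nonempty (Grp.mk G ≅ Grp.mk (SekSuwa.GK R lam p h)) := by
  exact aux R p ζ hζ G e he

end Groth.Agent.S14685
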