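import Groth.Statements.S14686
import Groth.Agent.SekLib.GenericPts
import Groth.Agent.SekLib.OrderPSq

set_option autoImplicit false
universe u
open CategoryTheory AlgebraicGeometry
open SekSuwa

namespace Groth.Agent.S14686

open CategoryTheory.Limits MonoidalCategory CartesianMonoidalCategory MonObj TensorProduct

attribute [local instance] SekLib.secAlgebra

variable {R : Type u} [CommRing R] {A B : Type u} [CommRing A] [HopfAlgebra R A] [CommRing B] [HopfAlgebra R B]

theorem ptHom_one (T : Over (Spec (CommRingCat.of R))) (a : A) :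
    SekLib.ptHom (1 : T ⟶ SekLib.specOver R A) a = algebraMap R Γ(T.left, ⊤) (CoalgebraStruct.counit (R := R) a) := by
  show ((Scheme.ΓSpecIso (CommRingCat.of A)).inv ≫
    (T.hom ≫ Spec.map (CommRingCat.ofHom (Bialgebra.counitAlgHom R A).toRingHom)).appTop).hom a = _
  rw [Scheme.Hom.comp_appTop, ← Scheme.ΓSpecIso_inv_naturality_assoc]
  rfl

theorem specHom_comp_left (f : B →ₐc[R] A) :
    (SekSuwa.specHom f).left = Spec.map (CommRingCat.ofHom (f : B →ₐ[R] A).toRingHom) := rfl

theorem isPullback_of_kernel {S : Scheme.{u}} {H G Q : Over S} [GrpObj H] [GrpObj G] [GrpObj Q] (u : H ⟶ G) (v : G ⟶ Q)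
    [IsMonHom u] [IsMonHom v] (huv : u ≫ v = 1)
    (hker : ∀ {T : Over S} (c : T ⟶ G), c ≫ v = 1 → ∃ h, h ≫ u = c)
    (hinj : ∀ {T : Over S} (h h' : T ⟶ H), h ≫ u = h' ≫ u → h = h') :
    IsPullback (fst G H) ((G ◁ u) ≫ μ[G]) v v := by
  have hb : ∀ {T : Over S} (a : T ⟶ G) (h : T ⟶ H), lift a h ≫ (G ◁ u) ≫ μ[G] = a * (h ≫ u) := by
    intro T a h
    rw [lift_whiskerLeft_assoc]
    rfl
  have hw : fst G H ≫ v = ((G ◁ u) ≫ μ[G]) ≫ v := by
    have h1 : (G ◁ u) ≫ μ[G] = fst G H * (snd G H ≫ u) := by
      rw [← hb, ← Category.assoc]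
      simp
    rw [h1, MonObj.mul_comp, Category.assoc, huv, MonObj.comp_one, _root_.mul_one]
  have hk : ∀ {T : Over S} (a b : T ⟶ G), a ≫ v = b ≫ v → (a⁻¹ * b) ≫ v = 1 := fun a b h => by
    rw [MonObj.mul_comp, GrpObj.inv_comp, h, inv_mul_cancel]
  refine IsPullback.of_isLimit' ⟨hw⟩ (PullbackCone.IsLimit.mk _
    (fun s => lift s.fst (hker (s.fst⁻¹ * s.snd) (hk _ _ s.condition)).choose)
    (fun s => lift_fst _ _) (fun s => ?_) (fun s m h1 h2 => ?_))
  · rw [hb, Exists.choose_spec (hker (s.fst⁻¹ * s.snd) (hk _ _ s.condition)), mul_inv_cancel_left]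
  · have hm : m = lift (m ≫ fst G H) (m ≫ snd G H) := by rw [← comp_lift, lift_fst_snd, Category.comp_id]
    rw [hm, h1]
    refine congrArg (lift s.fst) (hinj _ _ ?_)
    rw [Exists.choose_spec (hker (s.fst⁻¹ * s.snd) (hk _ _ s.condition))]
    rw [hm, hb, h1] at h2
    rw [← h2, inv_mul_cancel_left]

theorem aux (R : Type u) [CommRing R] [IsDomain R] [IsDiscreteValuationRing R] [CharZero R]
    (p : ℕ) [Fact p.Prime] [CharP (IsLocalRing.ResidueField R) p]
    (ζ : R) (hζ : IsPrimitiveRoot ζ (p ^ 2))
    (G : Over (Spec (CommRingCat.of R))) [GrpObj G] (hG : Mor2.IsFinLocFreeOfDeg (p ^ 2) G.hom)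
    (M : Type) [Group M] [Finite M]
    (e : Red.bc (Spec.map (CommRingCat.ofHom (algebraMap R (FractionRing R)))) G ≅ TwC.const (Spec (CommRingCat.of (FractionRing R))) M)
    (he : TwC.IsConstGrp M (Red.bc (Spec.map (CommRingCat.ofHom (algebraMap R (FractionRing R)))) G) e) :
    ∃ (lam mu : R) (h₁ : SekSuwa.DivCond lam p) (h₂ : SekSuwa.DivCond mu p)
      (u : SekSuwa.GK R lam p h₁ ⟶ G) (v : G ⟶ SekSuwa.GK R mu p h₂),
      lam ≠ 0 ∧ mu ≠ 0 ∧ NonAbH1.IsExactSeq Scheme.fppfPrecoverage u v := by
  classical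
  obtain ⟨⟨_, _, _⟩, hrank⟩ := hG
  have : IsAffine G.left := isAffine_of_isAffineHom G.hom
  obtain ⟨A, hA, e₀, he₀⟩ := AffGrp.Bridge.exists_iso G
  letI : HopfAlgebra R A := hA
  have : IsIso e₀.hom.left := inferInstanceAs (IsIso ((Over.forget _).map e₀.hom))
  have hS : Spec.map (CommRingCat.ofHom (algebraMap R A)) = e₀.hom.left ≫ G.hom := (Over.w e₀.hom).symm
  have hfinS : IsFinite (Spec.map (CommRingCat.ofHom (algebraMap R A))) := by
    rw [hS]; exact (MorphismProperty.cancel_left_of_respectsIso @IsFinite e₀.hom.left G.hom).mpr inferInstance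
  have hflatS : Flat (Spec.map (CommRingCat.ofHom (algebraMap R A))) := by
    rw [hS]; exact (MorphismProperty.cancel_left_of_respectsIso @Flat e₀.hom.left G.hom).mpr inferInstance
  have : Module.Finite R A := RingHom.finite_algebraMap.mp ((IsFinite.SpecMap_iff _).mp hfinS)
  have : Module.Flat R A := RingHom.flat_algebraMap_iff.mp (Flat.SpecMap_iff.mp hflatS)
  have : Module.Free R A := Module.free_of_flat_of_isLocalRing
  have : Module.FinitePresentation R A := Module.finitePresentation_of_projective R _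
  have hAr : Module.finrank R A = p ^ 2 := by
    have h1 := Scheme.Hom.finrank_SpecMap_algebraMap (R := R) (S := A) (IsLocalRing.closedPoint R)
    rw [Module.rankAtStalk_eq_finrank_of_free] at h1
    have h2 := Scheme.Hom.finrank_comp_left_of_isIso e₀.hom.left G.hom
    have h3 : Scheme.Hom.finrank (Spec.map (CommRingCat.ofHom (algebraMap R A))) (IsLocalRing.closedPoint R) =
        p ^ 2 := by
      rw [hS]
      exact (congrFun h2 _).trans (hrank _)
    exact h1.symm.trans h3
  obtain ⟨P, hPi, hinj⟩ := SekLib.exists_genericPoints G (IsFractionRing.injective R (FractionRing R)) e he e₀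
  let K := FractionRing R
  have : Fintype M := Fintype.ofFinite M
  have hM : Nat.card M = p ^ 2 := by
    refine le_antisymm ?_ ?_
    · let b := Module.Free.chooseBasis R A
      let φ : M → (A →* K) := fun m => (P m).ofConv.toRingHom.toMonoidHom
      have hφ : Function.Injective φ := fun i j h => hPi (WithConv.ofConv_injective (AlgHom.ext fun a => DFunLike.congr_fun h a))
      have hli := (linearIndependent_monoidHom A K).comp φ hφ
      have hli' : LinearIndependent K fun m : M => fun l => (P m).ofConv (b l) := by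
        rw [Fintype.linearIndependent_iff] at hli ⊢
        intro c hc
        refine hli c (funext fun a => ?_)
        have h1 : ∑ i, c i • (P i).ofConv.toLinearMap = 0 := b.ext fun l => by
          simpa [LinearMap.sum_apply] using congrFun hc l
        simpa [LinearMap.sum_apply, Finset.sum_apply, φ] using LinearMap.congr_fun h1 a
      have h2 := hli'.fintype_card_le_finrank
      rw [Module.finrank_pi, ← Module.finrank_eq_card_basis b, hAr] at h2
      rwa [Nat.card_eq_fintype_card]
    · let Ψ : A →ₗ[R] (M → R) := LinearMap.pi fun m =>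
        ((SekLib.exists_intPoints (p := p) (A := A) (fun _ => (P m).ofConv) 0).choose).toLinearMap
      have hΨ : Function.Injective Ψ := by
        rw [injective_iff_map_eq_zero]
        intro a ha
        refine hinj a fun m => ?_
        rw [← (SekLib.exists_intPoints (p := p) (A := A) (fun _ => (P m).ofConv) 0).choose_spec a]
        exact (congrArg (algebraMap R K) (congrFun ha m)).trans (map_zero _)
      have := LinearMap.finrank_le_finrank_of_injective hΨ
      rw [hAr, Module.finrank_pi, ← Nat.card_eq_fintype_card] at this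
      exact this
  letI : CommGroup M := IsPGroup.commGroupOfCardEqPrimeSq (p := p) hM
  obtain ⟨lam, mu, h₁, h₂, f, g, hlam, hmu, hgs, hgt, hgker, hff⟩ :=
    SekLib.exists_extension (A := A) K ζ hζ hM hAr P hPi hinj
  have : IsMonHom e₀.inv := inferInstance
  refine ⟨lam, mu, h₁, h₂, specHom g ≫ e₀.hom, e₀.inv ≫ specHom f, hlam, hmu, ?_⟩
  have hkey : ∀ {T : Over (Spec (CommRingCat.of R))} (d : T ⟶ SekLib.specOver R A),
      d ≫ specHom f = 1 → SekLib.ptHom d (f AK.t) = 0 := by
    intro T d hd
    have h1 := SekLib.ptHom_comp d (f : AK R mu p h₂ →ₐ[R] A) (specHom f) (specHom_comp_left f)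
    rw [hd] at h1
    refine (DFunLike.congr_fun h1 AK.t).symm.trans ?_
    rw [ptHom_one, AK.counit_t, map_zero]
  have huv : (specHom g ≫ e₀.hom) ≫ e₀.inv ≫ specHom f = 1 := by
    rw [Category.assoc, Iso.hom_inv_id_assoc]
    refine SekLib.ptHom_injective (A := AK R mu p h₂) (SekLib.pt_ext h₂ ?_)
    rw [ptHom_one, AK.counit_t, map_zero,
      SekLib.ptHom_comp (specHom g) (f : AK R mu p h₂ →ₐ[R] A) (specHom f) (specHom_comp_left f),
      AlgHom.comp_apply]
    rw [← Category.id_comp (specHom g),
      SekLib.ptHom_comp (𝟙 _) (g : A →ₐ[R] AK R lam p h₁) (specHom g) (specHom_comp_left g), AlgHom.comp_apply]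
    exact (congrArg (SekLib.ptHom (A := AK R lam p h₁) (𝟙 _)) hgt).trans (map_zero _)
  refine ⟨inferInstance, inferInstance, huv, isPullback_of_kernel _ _ huv ?_ ?_, ?_⟩
  · intro T c hc
    have hd := hkey (c ≫ e₀.inv) (by rw [Category.assoc]; exact hc)
    let π := SekLib.ptHom (c ≫ e₀.inv)
    have hπ : ∀ a, g a = 0 → π a = 0 := fun a ha => by
      obtain ⟨w, rfl⟩ := hgker a ha
      rw [map_mul, hd, zero_mul]
    obtain ⟨x, hx⟩ := SekLib.exists_ptHom_eq (T := T)
      (AlgHom.liftOfSurjective (g : A →ₐ[R] AK R lam p h₁) hgs π fun a ha => hπ a ha)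
    refine ⟨x, ?_⟩
    rw [← cancel_mono e₀.inv, Category.assoc, Category.assoc, Iso.hom_inv_id, Category.comp_id]
    refine SekLib.ptHom_injective ?_
    rw [SekLib.ptHom_comp x (g : A →ₐ[R] AK R lam p h₁) (specHom g) (specHom_comp_left g), hx,
      AlgHom.liftOfSurjective_comp]
  · intro T h h' hh
    rw [← Category.assoc, ← Category.assoc, cancel_mono e₀.hom] at hh
    refine SekLib.ptHom_injective (AlgHom.ext fun b => ?_)
    obtain ⟨a, rfl⟩ := hgs b
    have h1 := congrArg (fun x => SekLib.ptHom x a) hh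
    simp only [SekLib.ptHom_comp _ (g : A →ₐ[R] AK R lam p h₁) (specHom g) (specHom_comp_left g)] at h1
    exact h1
  · have hfin : (f : AK R mu p h₂ →+* A).FinitePresentation := by
      letI : Algebra (AK R mu p h₂) A := (f : AK R mu p h₂ →+* A).toAlgebra
      have : IsScalarTower R (AK R mu p h₂) A := IsScalarTower.of_algebraMap_eq fun c => (f.toAlgHom.commutes c).symm
      let pb := (AdjoinRoot.powerBasis' (SekLib.psiPoly_monic h₂ (Fact.out : p.Prime).pos)).map
        (SekLib.akEquiv h₂ (Fact.out : p.Prime).pos)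
      have : Module.Finite R (AK R mu p h₂) := Module.Finite.of_basis pb.basis
      have : Algebra.FiniteType R A := inferInstance
      have : IsNoetherianRing (AK R mu p h₂) := IsNoetherianRing.of_finite R _
      have h3 : Algebra.FiniteType (AK R mu p h₂) A := Algebra.FiniteType.of_restrictScalars_finiteType R _ _
      exact (Algebra.FinitePresentation.of_finiteType.mp h3 :)
    refine ⟨Presieve.singleton (e₀.inv ≫ specHom f).left, ?_, ?_⟩
    · rw [Scheme.fppfPrecoverage, Scheme.singleton_mem_precoverage_iff]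
      have : IsIso e₀.inv.left := inferInstanceAs (IsIso ((Over.forget _).map e₀.inv))
      have h4 : Flat (Spec.map (CommRingCat.ofHom (f : AK R mu p h₂ →+* A))) := Flat.SpecMap_iff.mpr (RingHom.FaithfullyFlat.flat hff)
      have h5 : LocallyOfFinitePresentation (Spec.map (CommRingCat.ofHom (f : AK R mu p h₂ →+* A))) :=
        (HasRingHomProperty.Spec_iff (P := @LocallyOfFinitePresentation)).mpr hfin
      have h6 : Surjective (Spec.map (CommRingCat.ofHom (f : AK R mu p h₂ →+* A))) :=
        ⟨(RingHom.FaithfullyFlat.iff_flat_and_comap_surjective.mp hff).2⟩ 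
      refine ⟨?_, ?_, ?_⟩
      · exact ((MorphismProperty.cancel_left_of_respectsIso @Surjective e₀.inv.left _).mpr h6).surj
      · exact (MorphismProperty.cancel_left_of_respectsIso @Flat e₀.inv.left _).mpr h4
      · exact (MorphismProperty.cancel_left_of_respectsIso @LocallyOfFinitePresentation e₀.inv.left _).mpr h5
    · rintro S' φ ⟨⟩
      exact ⟨𝟙 _, Category.id_comp _⟩


/-- Let R be a discrete valuation ring of characteristic zero and residue characteristic p containing a
primitive p²-th root of unity, with fraction field K, and let G be a finite flat R-group scheme of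
order p² (finite locally free of degree p² over Spec R) whose generic fibre is a constant K-group
scheme (so the underlying group has order p²). Then G is an extension of G_{μ,1} by G_{λ,1} for some
nonzero λ, μ ∈ R satisfying the divisibility condition defining these kernels: there are
homomorphisms of R-group schemes G_{λ,1} → G and G → G_{μ,1} whose composite is trivial, with G a
pseudo-torsor under G_{λ,1} over G_{μ,1} and G → G_{μ,1} admitting sections locally for the fppf
topology. -/
theorem result (R : Type u) [CommRing R] [IsDomain R] [IsDiscreteValuationRing R] [CharZero R]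
    (p : ℕ) [Fact p.Prime] [CharP (IsLocalRing.ResidueField R) p]
    (ζ : R) (hζ : IsPrimitiveRoot ζ (p ^ 2))
    (G : Over (Spec (CommRingCat.of R))) [GrpObj G] (hG : Mor2.IsFinLocFreeOfDeg (p ^ 2) G.hom)
    (M : Type) [Group M] [Finite M]
    (e : Red.bc (Spec.map (CommRingCat.ofHom (algebraMap R (FractionRing R)))) G ≅ TwC.const (Spec (CommRingCat.of (FractionRing R))) M)
    (he : TwC.IsConstGrp M (Red.bc (Spec.map (CommRingCat.ofHom (algebraMap R (FractionRing R)))) G) e) :
    ∃ (lam mu : R) (h₁ : SekSuwa.DivCond lam p) (h₂ : SekSuwa.DivCond mu p)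
      (u : SekSuwa.GK R lam p h₁ ⟶ G) (v : G ⟶ SekSuwa.GK R mu p h₂),
      lam ≠ 0 ∧ mu ≠ 0 ∧ NonAbH1.IsExactSeq Scheme.fppfPrecoverage u v := by
  exact aux R p ζ hζ G hG M e he

end Groth.Agent.S14686
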