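import Groth.Statements.S14687
import Groth.Agent.SekTors.Core
-- import your own Groth.Agent.* helpers here

set_option autoImplicit false
universe u
open CategoryTheory AlgebraicGeometry
open SekSuwa

namespace Groth.Agent.S14687

open CategoryTheory.Limits MonoidalCategory CartesianMonoidalCategory

/-- Let R be a discrete valuation ring of characteristic zero and residue characteristic p, λ ≠ 0 in R,
and X a scheme flat over Spec R, with X_λ = X ×_R Spec(R/λR) its closed subscheme where λ vanishes.
Suppose that the restriction map on global units Γ(X, O_X)^× → Γ(X_λ, O_{X_λ})^× is surjective and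
that Pic X = 0, taken in the form the argument uses: every torsor for the fppf topology over X under
the multiplicative group has a section. Then every torsor for the fppf topology over X under (the
base change to X of) the affine R-group G^(λ) = Spec R[T, 1/(1+λT)] with law s + t + λst has a
section over X; that is, H¹(X, G^(λ)) is trivial. -/
theorem result (R : Type u) [CommRing R] [IsDomain R] [IsDiscreteValuationRing R] [CharZero R]
    (p : ℕ) [Fact p.Prime] [CharP (IsLocalRing.ResidueField R) p]
    (lam : R) (hlam : lam ≠ 0)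
    (X : Scheme.{u}) (f : X ⟶ Spec (CommRingCat.of R)) [Flat f]
    (hunit : Function.Surjective (Units.map
      (Limits.pullback.fst f (Spec.map (CommRingCat.ofHom (Ideal.Quotient.mk (Ideal.span ({lam} : Set R)))))).appTop.hom.toMonoidHom))
    (hpic : ∀ (Q : Over X) (b : AlgGrp.Action (Red.bc f (Red.diag R ℤ)) Q),
      NonAbH1.IsTorsorFor Scheme.fppfPrecoverage b → NonAbH1.HasSectionOver Q (𝟙 X))
    (P : Over X) (a : AlgGrp.Action (Red.bc f (SekSuwa.G R lam)) P)
    (hP : NonAbH1.IsTorsorFor Scheme.fppfPrecoverage a) :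
    NonAbH1.HasSectionOver P (𝟙 X) := by
  have hnzd : lam ∈ nonZeroDivisors R := mem_nonZeroDivisors_of_ne_zero hlam
  haveI : Flat (Red.bc f (SekSuwa.G R lam)).hom := inferInstance
  haveI : IsAffineHom (Red.bc f (SekSuwa.G R lam)).hom := inferInstance
  haveI : IsAffineHom (Red.bc f (Red.diag R ℤ)).hom := inferInstance
  let α := (Over.pullback f).map (SekSuwa.alpha R lam)
  obtain ⟨W, q, hq⟩ := Groth.Agent.GITLib.exists_pushforward α Groth.Agent.GITLib.fppfPrecoverage_le_fpqc' hP
  obtain ⟨s, hs⟩ := hpic W.X W.act W.isTorsor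
  have ha : NonAbH1.IsTorsorFor Scheme.fpqcPrecoverage a := by
    obtain ⟨Rc, hRc, hsec⟩ := hP.2
    exact ⟨hP.1, Rc, Groth.Agent.GITLib.fppfPrecoverage_le_fpqc' _ hRc, hsec⟩
  let U : Over X := Over.mk (𝟙 X)
  let σw : U ⟶ W.X := Over.homMk s hs
  obtain ⟨h₀, hh₀, -⟩ := Groth.Agent.GITLib.existsUnique_diff W.isTorsor.1 (fst U P ≫ σw) (snd U P ≫ q)
  haveI : Flat (U.hom ≫ f) := by show Flat (𝟙 X ≫ f); infer_instance
  let sm := Spec.map (CommRingCat.ofHom (Ideal.Quotient.mk (Ideal.span ({lam} : Set R))))
  let L : Over X := Over.mk (pullback.fst f sm)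
  let k : L ⟶ U := Over.homMk (pullback.fst f sm) (Category.comp_id _)
  have hk : IsPullback k.left (pullback.snd f sm) (U.hom ≫ f) sm := by
    show IsPullback (pullback.fst f sm) (pullback.snd f sm) (𝟙 X ≫ f) sm
    rw [Category.id_comp]
    exact IsPullback.of_hasPullback f sm
  obtain ⟨σ⟩ := Groth.Agent.SekTors.exists_section_of_lift f a hnzd ha U (Groth.Agent.SekTors.chi f h₀ 1)
    (Groth.Agent.SekTors.isUnit_chi f h₀ 1) (by
      intro T g qq
      let q' := lift (qq ≫ fst U P) (lift g (qq ≫ snd U P) ≫ a.act)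
      show q'.left.appTop (Groth.Agent.SekTors.chi f h₀ 1) = _
      rw [← Groth.Agent.SekTors.chi_comp, ← Groth.Agent.SekTors.chi_comp, ← Groth.Agent.SekTors.chi_alpha,
        ← Groth.Agent.SekTors.chi_mul]
      refine congrArg (Groth.Agent.SekTors.chi f · 1) ?_
      have e : ∀ r : T ⟶ U ⊗ P, lift (r ≫ h₀) (r ≫ fst U P ≫ σw) ≫ W.act.act = r ≫ snd U P ≫ q := fun r => by
        rw [← comp_lift_assoc, hh₀]
      refine (Groth.Agent.GITLib.existsUnique_diff W.isTorsor.1 (qq ≫ fst U P ≫ σw) (q' ≫ snd U P ≫ q)).unique ?_ ?_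
      · have e1 := e q'
        rw [show q' ≫ fst U P ≫ σw = qq ≫ fst U P ≫ σw by simp [q']] at e1
        exact e1
      · show lift _ _ ≫ W.act.act = _
        rw [W.act.lift_mul_act, e]
        simp only [q', lift_snd_assoc, Category.assoc, hq]
        rw [comp_lift_assoc, lift_fst_assoc, lift_snd_assoc, Category.assoc])
    k hk (fun v hv => by
      obtain ⟨u, hu⟩ := hunit hv.unit
      exact ⟨(u : Γ(X, ⊤)), u.isUnit, congrArg Units.val hu⟩)
  exact ⟨σ.left, Over.w σ⟩

end Groth.Agent.S14687
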