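import Groth.Statements.S14688
import Groth.Agent.SekLib.GKFree
import Groth.Agent.GITLib.TorsorPush
open Groth.Agent.SekLib Groth.Agent.GITLib

set_option autoImplicit false
universe u
open CategoryTheory AlgebraicGeometry
open SekSuwa

namespace Groth.Agent.S14688

/-- Let R be a discrete valuation ring of characteristic zero and residue characteristic p, n ≥ 1, λ ∈ R
satisfying the divisibility condition under which the finite flat R-group scheme G_{λ,n} (the kernel
of ψ on the one-parameter group with law s + t + λst, of order p^n) and its homomorphism α^{λ,n} to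
μ_{p^n} are defined, and X a normal integral scheme which is faithfully flat over Spec R. If an fppf
torsor P over X under G_{λ,n} becomes trivial after extension of the structure group along α^{λ,n} —
there is an fppf μ_{p^n}-torsor P' over X with an α^{λ,n}-equivariant X-morphism P → P', and P' has
a section over X — then P has a section over X. So H¹(X, G_{λ,n}) → H¹(X, μ_{p^n}) has trivial
kernel, and the groups H¹(X, G_{π^i,n}) for decreasing i form an increasing filtration of H¹(X,
μ_{p^n}). (The published statement is the filtration itself, for the commutative groups in question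
injectivity of these homomorphisms; the trivial-kernel assertion stated here is what the argument
establishes.) -/
theorem result (R : Type u) [CommRing R] [IsDomain R] [IsDiscreteValuationRing R] [CharZero R]
    (p : ℕ) [Fact p.Prime] [CharP (IsLocalRing.ResidueField R) p]
    (n : ℕ) (hn : 0 < n) (lam : R) (h : SekSuwa.DivCond lam (p ^ n))
    (X : Scheme.{u}) [IsIntegral X] (hX : Pi1.IsNormalScheme X)
    (f : X ⟶ Spec (CommRingCat.of R)) [Flat f] [Surjective f]
    (P : Over X) (a : AlgGrp.Action (Red.bc f (SekSuwa.GK R lam (p ^ n) h)) P)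
    (hP : NonAbH1.IsTorsorFor Scheme.fppfPrecoverage a)
    (P' : Over X) (a' : AlgGrp.Action (Red.bc f (Red.diag R (ZMod (p ^ n)))) P')
    (hP' : NonAbH1.IsTorsorFor Scheme.fppfPrecoverage a')
    (hpush : NonAbH1.IsPushforwardAlongSch ((Over.pullback f).map (SekSuwa.alphaN R lam (p ^ n) h)) a a')
    (htriv : NonAbH1.HasSectionOver P' (𝟙 X)) :
    NonAbH1.HasSectionOver P (𝟙 X) := by
  have hfin : IsFinite (SekSuwa.GK R lam (p ^ n) h).hom := (isFinLocFreeOfDeg_GK h (pow_pos (Fact.out : p.Prime).pos n)).1.1
  have : IsFinite (Red.bc f (SekSuwa.GK R lam (p ^ n) h)).hom := MorphismProperty.pullback_snd _ _ hfin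
  have hlam : algebraMap R (FractionRing R) lam ≠ 0 := fun e => nonZeroDivisors.ne_zero h.nzd
    ((IsFractionRing.injective R (FractionRing R)) (e.trans (map_zero _).symm))
  let η := X.fromSpecStalk (genericPoint X)
  have : Nonempty (⊤ : X.Opens) := ⟨⟨genericPoint X, trivial⟩⟩
  have hu : IsUnit (((Scheme.ΓSpecIso (CommRingCat.of R)).inv ≫ (η ≫ f).appTop).hom lam) := by
    let φ := (Scheme.ΓSpecIso (CommRingCat.of R)).inv ≫ f.appTop
    have hφ : φ.hom lam ≠ 0 := by
      intro e
      refine nonZeroDivisors.ne_zero h.nzd ?_
      have hinj : Function.Injective φ.hom := by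
        intro a b hab
        by_contra hne
        have : Flat (Over.mk f).hom := ‹Flat f›
        have h1 := eq_zero_of_smul_eq_zero (T := Over.mk f) (r := a - b)
          (mem_nonZeroDivisors_of_ne_zero (sub_ne_zero.mpr hne)) (b := (1 : Γ(X, ⊤))) (by
            letI := secAlgebra (Over.mk f)
            rw [Algebra.smul_def, mul_one]
            show φ.hom (a - b) = 0
            rw [map_sub, hab, sub_self])
        exact (one_ne_zero (α := Γ(X, ⊤))) h1
      exact hinj (e.trans (map_zero _).symm)
    rw [Scheme.Hom.comp_appTop]
    change IsUnit (η.appTop.hom (φ.hom lam))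
    rw [Scheme.fromSpecStalk_appTop]
    change IsUnit ((Scheme.ΓSpecIso X.functionField).inv.hom (X.germToFunctionField ⊤ (φ.hom lam)))
    refine IsUnit.map _ (isUnit_iff_ne_zero.mpr fun e => hφ ?_)
    exact Scheme.germToFunctionField_injective X ⊤ (e.trans (map_zero _).symm)
  have := isIso_pullback_map_alphaN (N := p ^ n) h (η ≫ f) hu
  have : IsIso ((Over.pullback η).map ((Over.pullback f).map (SekSuwa.alphaN R lam (p ^ n) h))) := by
    have := (NatIso.isIso_map_iff (Over.pullbackComp η f) (SekSuwa.alphaN R lam (p ^ n) h)).mp inferInstance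
    exact this
  exact hasSectionOver_of_pushforward_normal (fun x => (hX x).2) _
    (isTorsorFor_mono Scheme.fppfPrecoverage_le_fpqcPrecoverage hP)
    (isTorsorFor_mono Scheme.fppfPrecoverage_le_fpqcPrecoverage hP') hpush htriv

end Groth.Agent.S14688
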