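import Groth.Statements.S14690
import Groth.Agent.SekTors.GKDescent
-- import your own Groth.Agent.* helpers here

set_option autoImplicit false
universe u
open CategoryTheory AlgebraicGeometry MonoidalCategory
open SekSuwa

namespace Groth.Agent.S14690

open CategoryTheory.Limits MonoidalCategory CartesianMonoidalCategory
open Groth.Agent.SekTors Groth.Agent.GITLib Groth.Agent.SekLib
open CategoryTheory.MonObj

attribute [local instance] secAlgebra

/-- A μ_N-torsor over a local ring is given by an equivariant unit. -/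
theorem exists_kummer {R : Type u} [CommRing R] [IsLocalRing R] {N : ℕ} (hNpos : 0 < N)
    {Q' : Over (Spec (CommRingCat.of R))} {b' : AlgGrp.Action (Red.diag R (ZMod N)) Q'}
    (hQ' : NonAbH1.IsTorsorFor Scheme.fpqcPrecoverage b') :
    ∃ (z₀ : Γ(Q'.left, ⊤)) (u : R), IsUnit u ∧
      z₀ ^ N = algebraMap R Γ(Q'.left, ⊤) u ∧
      ∀ {T : Over (Spec (CommRingCat.of R))} (g : T ⟶ Red.diag R (ZMod N)) (y : T ⟶ Q'),
        (lift g y ≫ b'.act).left.appTop z₀ =
          ptHom (A := MonoidAlgebra R (Multiplicative (ZMod N))) g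
            (MonoidAlgebra.single (Multiplicative.ofAdd 1) 1) * y.left.appTop z₀ := by
  classical
  let gen := Multiplicative.ofAdd (1 : ZMod N)
  let ρ : ∀ {T : Over (Spec (CommRingCat.of R))}, (T ⟶ Red.diag R (ZMod N)) → Γ(T.left, ⊤) :=
    fun {T} g => ptHom (A := MonoidAlgebra R (Multiplicative (ZMod N))) g (MonoidAlgebra.single gen 1)
  have hρmul : ∀ {T : Over (Spec (CommRingCat.of R))} (g g' : T ⟶ Red.diag R (ZMod N)),
      ρ (g * g') = ρ g * ρ g' := fun g g' => by
    refine (Groth.Agent.SekTors.ptHom_mul _ _ _).trans ?_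
    simp [ρ]
  have hgen : gen ^ N = 1 := by
    rw [← ofAdd_nsmul, nsmul_one, ZMod.natCast_self, ofAdd_zero]
  have hρN : ∀ {T : Over (Spec (CommRingCat.of R))} (g : T ⟶ Red.diag R (ZMod N)), ρ g ^ N = 1 := by
    intro T g
    show ptHom (A := MonoidAlgebra R (Multiplicative (ZMod N))) g _ ^ _ = 1
    rw [← map_pow, MonoidAlgebra.single_pow, hgen, one_pow]
    exact map_one _
  have hρu : ∀ {T : Over (Spec (CommRingCat.of R))} (g : T ⟶ Red.diag R (ZMod N)), IsUnit (ρ g) := fun g =>
    (isUnit_pow_iff hNpos.ne').1 ((hρN g).symm ▸ isUnit_one)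
  obtain ⟨U, hU, Φ, hΦd, hΦ⟩ := Groth.Agent.GLDescent.exists_local_frame hQ'
    (fun {T} g => (!![ρ g] : Matrix (Fin 1) (Fin 1) Γ(T.left, ⊤)))
    (fun g g' => by
      ext i j
      fin_cases i; fin_cases j
      simp [Matrix.mul_apply, hρmul])
    (fun g => by simpa [Matrix.det_unique] using hρu g)
    (fun k g => by
      ext i j
      fin_cases i; fin_cases j
      exact ptHom_comp_left k g _)
    (IsLocalRing.closedPoint R : PrimeSpectrum R)
  have hUtop : ∀ x, x ∈ U := fun x =>
    (IsLocalRing.specializes_closedPoint (R := R) x).mem_open U.2 hU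
  let ℓ : Q' ⟶ Over.mk U.ι := Over.homMk (IsOpenImmersion.lift U.ι Q'.hom (by
    rw [Scheme.Opens.range_ι]; exact fun x _ => hUtop x)) (IsOpenImmersion.lift_fac _ _ _)
  let z₀ : Γ(Q'.left, ⊤) := (lift ℓ (𝟙 Q')).left.appTop (Φ 0 0)
  have hΦu : IsUnit (Φ 0 0) := by simpa [Matrix.det_unique] using hΦd
  have hz₀ : IsUnit z₀ := hΦu.map _
  have uUι : ∀ {T : Over (Spec (CommRingCat.of R))} (s s' : T ⟶ Over.mk U.ι), s = s' := fun s s' =>
    Over.OverMorphism.ext ((cancel_mono U.ι).1 ((Over.w s).trans (Over.w s').symm))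
  have hze₀ : ∀ {T : Over (Spec (CommRingCat.of R))} (g : T ⟶ Red.diag R (ZMod N)) (y : T ⟶ Q'),
      (lift g y ≫ b'.act).left.appTop z₀ = ρ g * y.left.appTop z₀ := by
    intro T g y
    have e := congrFun (congrFun (hΦ g (y ≫ lift ℓ (𝟙 Q'))) 0) 0
    simp only [Matrix.mul_apply, Matrix.map_apply, Fin.sum_univ_one] at e
    have hc : ∀ r : T ⟶ Q', r.left.appTop z₀ = (r ≫ lift ℓ (𝟙 Q')).left.appTop (Φ 0 0) := fun r => by
      rw [Over.comp_left, Scheme.Hom.comp_appTop]; rfl
    have e2 : (lift g y ≫ b'.act) ≫ lift ℓ (𝟙 Q') = lift ((y ≫ lift ℓ (𝟙 Q')) ≫ fst _ _)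
        (lift g ((y ≫ lift ℓ (𝟙 Q')) ≫ snd _ _) ≫ b'.act) := by
      refine CartesianMonoidalCategory.hom_ext _ _ (uUι _ _) ?_
      simp
    rw [hc, hc, e2, e]
    rfl
  -- the power is a constant
  let T₁ : Over (Spec (CommRingCat.of R)) := Over.mk (𝟙 _)
  obtain ⟨u₀, hu₀, hval⟩ := exists_desc_unit hQ'.2 T₁
    (fun {T'} _ y => y.left.appTop (z₀ ^ N))
    (fun k m y => by rw [Over.comp_left, Scheme.Hom.comp_appTop]; rfl)
    (fun m y => (hz₀.pow _).map _)
    (fun {T'} m y y' => by
      obtain ⟨g, hg, -⟩ := existsUnique_diff hQ'.1 y y'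
      rw [← hg, map_pow, map_pow, hze₀, mul_pow, hρN, _root_.one_mul])
  let u : R := (Scheme.ΓSpecIso (CommRingCat.of R)).hom u₀
  have hu : IsUnit u := hu₀.map _
  have huinv : (Scheme.ΓSpecIso (CommRingCat.of R)).inv u = u₀ :=
    congrArg (fun m : Γ(Spec (CommRingCat.of R), ⊤) ⟶ _ => m u₀) (Scheme.ΓSpecIso (CommRingCat.of R)).hom_inv_id
  refine ⟨z₀, u, hu, ?_, fun g y => hze₀ g y⟩
  rw [← huinv] at hval
  have := hval (Over.homMk Q'.hom (Category.comp_id _) : Q' ⟶ T₁) (𝟙 Q')
  exact this.symm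

/-- Let R be a discrete valuation ring of characteristic zero and residue characteristic p with perfect
residue field k, n ≥ 1, λ ∈ R satisfying the divisibility condition under which the finite flat
R-group scheme G_{λ,n} (of order p^n, the kernel of ψ on the one-parameter group with law s + t +
λst) and its homomorphism α^{λ,n} to μ_{p^n} are defined, and X a locally Noetherian normal integral
scheme, faithfully flat over Spec R, with reduced special fibre X ×_R k. Let P be an fppf torsor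
over X under G_{λ,n} and P' an fppf μ_{p^n}-torsor over X with an α^{λ,n}-equivariant X-morphism P →
P'. If P' is equivariantly isomorphic to the pullback to X of some fppf μ_{p^n}-torsor over Spec R
(pulled-back scheme with the pulled-back action), then P is equivariantly isomorphic to the pullback
to X of some fppf G_{λ,n}-torsor over Spec R. So the map H¹(X, G_{λ,n})/H¹(R, G_{λ,n}) → H¹(X,
μ_{p^n})/H¹(R, μ_{p^n}) has trivial kernel, giving the filtration of H¹(X, μ_{p^n})/H¹(R, μ_{p^n})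
by the H¹(X, G_{π^i,n})/H¹(R, G_{π^i,n}). (The published statement is that filtration, for the
commutative groups in question injectivity of these homomorphisms; the trivial-kernel assertion
stated here is what the argument establishes. X is taken locally Noetherian; the published statement
assumes all schemes Noetherian, and the argument uses the Krull intersection property ⋂ₙ πⁿA = 0 on
affine opens.) -/
theorem result (R : Type u) [CommRing R] [IsDomain R] [IsDiscreteValuationRing R] [CharZero R]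
    (p : ℕ) [Fact p.Prime] [CharP (IsLocalRing.ResidueField R) p]
    [PerfectField (IsLocalRing.ResidueField R)]
    (n : ℕ) (hn : 0 < n) (lam : R) (h : SekSuwa.DivCond lam (p ^ n))
    (X : Scheme.{u}) [IsIntegral X] [IsLocallyNoetherian X] (hX : Pi1.IsNormalScheme X)
    (f : X ⟶ Spec (CommRingCat.of R)) [Flat f] [Surjective f]
    [IsReduced (Limits.pullback f (Spec.map (CommRingCat.ofHom (IsLocalRing.residue R))))]
    (P : Over X) (a : AlgGrp.Action (Red.bc f (SekSuwa.GK R lam (p ^ n) h)) P)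
    (hP : NonAbH1.IsTorsorFor Scheme.fppfPrecoverage a)
    (P' : Over X) (a' : AlgGrp.Action (Red.bc f (Red.diag R (ZMod (p ^ n)))) P')
    (hP' : NonAbH1.IsTorsorFor Scheme.fppfPrecoverage a')
    (hpush : NonAbH1.IsPushforwardAlongSch ((Over.pullback f).map (SekSuwa.alphaN R lam (p ^ n) h)) a a')
    (Q' : Over (Spec (CommRingCat.of R))) (b' : AlgGrp.Action (Red.diag R (ZMod (p ^ n))) Q')
    (hQ' : NonAbH1.IsTorsorFor Scheme.fppfPrecoverage b')
    (i' : P' ≅ Red.bc f Q')
    (hi' : a'.act ≫ i'.hom = (Red.bc f (Red.diag R (ZMod (p ^ n))) ◁ i'.hom) ≫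
      Functor.LaxMonoidal.μ (Over.pullback f) (Red.diag R (ZMod (p ^ n))) Q' ≫ (Over.pullback f).map b'.act) :
    ∃ (Q : Over (Spec (CommRingCat.of R))) (b : AlgGrp.Action (SekSuwa.GK R lam (p ^ n) h) Q)
      (i : P ≅ Red.bc f Q), NonAbH1.IsTorsorFor Scheme.fppfPrecoverage b ∧
      a.act ≫ i.hom = (Red.bc f (SekSuwa.GK R lam (p ^ n) h) ◁ i.hom) ≫
        Functor.LaxMonoidal.μ (Over.pullback f) (SekSuwa.GK R lam (p ^ n) h) Q ≫ (Over.pullback f).map b.act := by
  classical
  have fpqc : ∀ {S : Scheme.{u}} {H Z : Over S} [GrpObj H] {c : AlgGrp.Action H Z},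
      NonAbH1.IsTorsorFor Scheme.fppfPrecoverage c → NonAbH1.IsTorsorFor Scheme.fpqcPrecoverage c := by
    intro S H Z _ c hc
    obtain ⟨Rc, hRc, hsec⟩ := hc.2
    exact ⟨hc.1, Rc, fppfPrecoverage_le_fpqc' _ hRc, hsec⟩
  obtain ⟨z₀, u, hu, hzN₀, hze₀⟩ := exists_kummer (pow_pos (Nat.Prime.pos Fact.out) n) (fpqc hQ')
  obtain ⟨qf, hqf⟩ := hpush
  let y₀ : dn f P ⟶ Q' := down f (qf ≫ i'.hom)
  let z : Γ(P.left, ⊤) := y₀.left.appTop z₀
  have hzN : z ^ (p ^ n) = sc f P u := by
    show (y₀.left.appTop z₀ : Γ((dn f P).left, ⊤)) ^ _ = _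
    rw [← map_pow, hzN₀, sc_eq]
    show (((Scheme.ΓSpecIso _).inv ≫ Q'.hom.appTop) ≫ y₀.left.appTop).hom u = _
    rw [Category.assoc, ← Scheme.Hom.comp_appTop, Over.w y₀]
    rfl
  have hze : ∀ {T : Over X} (g : T ⟶ Red.bc f (SekSuwa.GK R lam (p ^ n) h)) (q : T ⟶ P),
      (lift g q ≫ a.act).left.appTop z = (1 + sc f T lam * tK f g) * q.left.appTop z := by
    intro T g q
    have hc : ∀ r : T ⟶ P, r.left.appTop z = (down f (r ≫ qf ≫ i'.hom)).left.appTop z₀ := fun r => by
      rw [down_comp f r, Over.comp_left, Scheme.Hom.comp_appTop]; rfl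
    have e1 : (lift g q ≫ a.act) ≫ qf ≫ i'.hom =
        lift (g ≫ (Over.pullback f).map (SekSuwa.alphaN R lam (p ^ n) h)) (q ≫ qf ≫ i'.hom) ≫ (b'.bc f).act := by
      simp only [Category.assoc, reassoc_of% hqf, hi', comp_lift_assoc, lift_fst_assoc, lift_snd_assoc,
        lift_whiskerLeft_assoc]
      rfl
    rw [hc, hc, e1, down_act, hze₀]
    exact congrArg (· * _) (chi_alphaN f g)
  obtain ⟨Q, b, i, hb, hi⟩ := exists_descent f (fpqc hP) z u hu hzN hze
  exact ⟨Q, b, i, hb, hi⟩

end Groth.Agent.S14690
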