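import Groth.Statements.S14692
import Mathlib
-- import your own Groth.Agent.* helpers here

set_option autoImplicit false
universe u
open CAlg

namespace Groth.Agent.S14692


theorem sub_le_mul {p : ℕ} (hp : 2 ≤ p) (s : ℕ) : ∀ d, p ^ (s + (d + 1)) - p ^ s ≤ (d + 1) * ((p - 1) * p ^ (s + d))
  | 0 => by rw [pow_succ, Nat.sub_one_mul]; simp [mul_comm]
  | d + 1 => by
    have h := sub_le_mul hp s d
    have h1 : p ^ (s + d) ≤ p ^ (s + (d + 1)) := Nat.pow_le_pow_right (by omega) (by omega)
    have h2 : p ^ (s + (d + 1 + 1)) = (p - 1) * p ^ (s + (d + 1)) + p ^ (s + (d + 1)) := by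
      rw [show s + (d + 1 + 1) = s + (d + 1) + 1 by omega, pow_succ, Nat.sub_one_mul]
      have : p ^ (s + (d + 1)) ≤ p * p ^ (s + (d + 1)) := Nat.le_mul_of_pos_left _ (by omega)
      rw [mul_comm]; omega
    have h3 := Nat.mul_le_mul_left ((d + 1) * (p - 1)) h1
    rw [h2, add_mul (d + 1) 1, one_mul]
    rw [mul_assoc, mul_assoc] at h3
    omega

/-- The binomial coefficients of `p ^ n` are divisible by the powers of `ϖ` that are needed. -/
theorem dvd_choose {R : Type u} [CommRing R] {p : ℕ} [Fact p.Prime] {ϖ : R} {n : ℕ} {J : ℕ}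
    (hJ : ϖ ^ (p ^ (n - 1) * (p - 1) * J) ∣ (p : R)) {i : ℕ} (hi : 1 ≤ i) (hi' : i < p ^ n) :
    ϖ ^ (J * (p ^ n - i)) ∣ (Nat.choose (p ^ n) i : R) := by
  have hp : p.Prime := Fact.out
  set s := i.factorization p
  have hsi : p ^ s ≤ i := Nat.le_of_dvd (by omega) (Nat.ordProj_dvd i p)
  have hsn : s < n := (Nat.pow_lt_pow_iff_right hp.one_lt).mp (lt_of_le_of_lt hsi hi')
  have h1 : p ^ (n - s) ∣ Nat.choose (p ^ n) i := by
    rw [hp.pow_dvd_iff_le_factorization (Nat.choose_pos hi'.le).ne',
      Nat.factorization_choose_prime_pow hp hi'.le (by omega)]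
  obtain ⟨d, hd⟩ : ∃ d, n = s + (d + 1) := ⟨n - s - 1, by omega⟩
  have h2 : p ^ n - i ≤ (n - s) * ((p - 1) * p ^ (n - 1)) := by
    have := sub_le_mul hp.two_le s d
    rw [hd, show s + (d + 1) - s = d + 1 by omega, show s + (d + 1) - 1 = s + d by omega]
    omega
  have h3 : ϖ ^ (J * (p ^ n - i)) ∣ (p : R) ^ (n - s) := by
    refine (pow_dvd_pow ϖ (Nat.mul_le_mul_left J h2)).trans ?_
    rw [show J * ((n - s) * ((p - 1) * p ^ (n - 1))) = p ^ (n - 1) * (p - 1) * J * (n - s) by ring, pow_mul]
    exact pow_dvd_pow_of_dvd hJ _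
  exact h3.trans (by exact_mod_cast (Nat.cast_dvd_cast (α := R) h1))

theorem expand {R : Type u} [CommRing R] {ϖ : R} {N k : ℕ} (hN : 1 ≤ N) {c : ℕ → R}
    (hc : ∀ i, 1 ≤ i → i < N → (Nat.choose N i : R) * ϖ ^ (k * i) = ϖ ^ (k * N) * c i)
    {S : Type u} [CommRing S] [Algebra R S] (u : S) :
    (1 + algebraMap R S ϖ ^ k * u) ^ N =
      1 + algebraMap R S ϖ ^ (k * N) * (u ^ N + ∑ i ∈ Finset.Ico 1 N, algebraMap R S (c i) * u ^ i) := by
  rw [add_comm, add_pow, Finset.sum_range_succ, Finset.range_eq_Ico, ← Finset.sum_Ico_consecutive _ (Nat.zero_le 1) hN,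
    ← Finset.range_eq_Ico, Finset.sum_range_one, mul_add, Finset.mul_sum]
  simp only [pow_zero, one_pow, mul_one, one_mul, Nat.choose_self, Nat.choose_zero_right, Nat.cast_one, mul_pow, ← pow_mul]
  rw [Finset.sum_congr rfl (g := fun i => algebraMap R S ϖ ^ (k * N) * (algebraMap R S (c i) * u ^ i)) fun i hi => by
    obtain ⟨h1, h2⟩ := Finset.mem_Ico.mp hi
    have := congrArg (algebraMap R S) (hc i h1 h2)
    simp only [map_mul, map_pow, map_natCast] at this
    linear_combination u ^ i * this]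
  ring

theorem core {R A L : Type u} [CommRing R] [CommRing A] [CommRing L] [Algebra R A] [Algebra A L] [Algebra R L]
    [IsScalarTower R A L] {p : ℕ} [Fact p.Prime] {ϖ : R} {n : ℕ} (hn : 0 < n) (j : ℕ)
    (hj : ϖ ^ (p ^ (n - 1) * (p - 1) * (j + 1)) ∣ (p : R))
    (hlift : ∀ a : A, IsUnit (Ideal.Quotient.mk (Ideal.span {algebraMap R A ϖ}) a) → IsUnit a)
    (hdiv : ∀ (t : A) (M : ℕ) (c : L), IsIntegral A c → algebraMap A L t = algebraMap R L ϖ ^ M * c →
      ∃ c₀, t = algebraMap R A ϖ ^ M * c₀)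
    (hπ : IsUnit (algebraMap R L ϖ)) (f g : Aˣ) (f₀ : A)
    (hfg : (f : A) * (g : A) ^ (p ^ n) = 1 + (algebraMap R A ϖ) ^ (j * p ^ n) * f₀)
    (hmax : ∀ (g' : Aˣ) (c : A), (f : A) * (g' : A) ^ (p ^ n) ≠ 1 + (algebraMap R A ϖ) ^ ((j + 1) * p ^ n) * c)
    (hred : (Ideal.span {algebraMap A (integralClosure A L) (algebraMap R A ϖ)}).IsRadical)
    (Z : L) (hZ : Z ^ (p ^ n) = algebraMap A L f)
    (g₀ : A) : f₀ - g₀ ^ (p ^ n) ∉ Ideal.span {(algebraMap R A ϖ)} := by
  intro hmem
  have hp : p.Prime := Fact.out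
  set N := p ^ n with hN
  have hN1 : 1 ≤ N := Nat.one_le_pow _ _ hp.pos
  set π := algebraMap R A ϖ with hπA
  have hpπ : π ∣ (p : A) := by
    rw [← map_natCast (algebraMap R A) p]
    refine map_dvd _ ((dvd_pow_self ϖ ?_).trans hj)
    have := hp.two_le
    simp only [Ne, mul_eq_zero, pow_eq_zero_iff', Nat.succ_ne_zero, or_false, not_or]
    omega
  have hcoef : ∀ k, k ≤ j + 1 → ∀ i, ∃ c, 1 ≤ i → i < N → (Nat.choose N i : R) * ϖ ^ (k * i) = ϖ ^ (k * N) * c ∧
      (k ≤ j → ϖ ∣ c) := by
    intro k hk i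
    by_cases h : 1 ≤ i ∧ i < N
    · obtain ⟨e, he⟩ := dvd_choose hj h.1 h.2
      rw [← hN] at he
      refine ⟨ϖ ^ ((j + 1 - k) * (N - i)) * e, fun _ _ => ⟨?_, fun hkj => ?_⟩⟩
      · rw [he, ← mul_assoc, ← pow_add, mul_right_comm, ← pow_add]
        congr 2
        have h1 : k * i + k * (N - i) = k * N := by rw [← mul_add, Nat.add_sub_cancel' h.2.le]
        have h2 : k * (N - i) + (j + 1 - k) * (N - i) = (j + 1) * (N - i) := by rw [← add_mul, Nat.add_sub_cancel' hk]
        omega
      · exact dvd_mul_of_dvd_left (dvd_pow_self ϖ (Nat.mul_ne_zero (by omega) (by omega))) _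
    · exact ⟨0, fun h1 h2 => absurd ⟨h1, h2⟩ h⟩
  choose c hc using hcoef j (by omega)
  choose d hd using hcoef (j + 1) le_rfl
  set P : L := algebraMap R L ϖ with hP
  have hPA : algebraMap A L π = P := (IsScalarTower.algebraMap_apply R A L ϖ).symm
  obtain ⟨P', hP'⟩ := (hπ.pow j).exists_right_inv
  set w : L := P' * (Z * algebraMap A L g - 1) with hw
  have hzw : Z * algebraMap A L g = 1 + P ^ j * w := by rw [hw, ← mul_assoc, hP', one_mul]; ring
  have hwroot : w ^ N + ∑ i ∈ Finset.Ico 1 N, algebraMap R L (c i) * w ^ i = algebraMap A L f₀ := by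
    have h1 : (1 + P ^ j * w) ^ N = 1 + P ^ (j * N) * algebraMap A L f₀ := by
      rw [← hzw, mul_pow, hZ, ← map_pow, ← map_mul, hfg, map_add, map_one, map_mul, map_pow, hPA]
    rw [expand hN1 (fun i h1 h2 => (hc i h1 h2).1) w, add_right_inj] at h1
    exact (hπ.pow _).mul_left_cancel h1
  have hwint : IsIntegral A w := by
    refine ⟨Polynomial.X ^ N + ((∑ i ∈ Finset.Ico 1 N, Polynomial.C (algebraMap R A (c i)) * Polynomial.X ^ i) - Polynomial.C f₀), ?_, ?_⟩
    · refine Polynomial.monic_X_pow_add ((Polynomial.degree_sub_le _ _).trans_lt (max_lt ?_ ?_))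
      · refine (Polynomial.degree_sum_le _ _).trans_lt ((Finset.sup_lt_iff (WithBot.bot_lt_coe _)).mpr fun i hi => ?_)
        exact (Polynomial.degree_C_mul_X_pow_le _ _).trans_lt (by exact_mod_cast (Finset.mem_Ico.mp hi).2)
      · exact Polynomial.degree_C_le.trans_lt (by exact_mod_cast hN1)
    · rw [← Polynomial.aeval_def]
      simp only [map_add, map_sub, map_sum, map_mul, map_pow, Polynomial.aeval_X, Polynomial.aeval_C, ← IsScalarTower.algebraMap_apply]
      linear_combination hwroot
  let W : integralClosure A L := ⟨w, hwint⟩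
  set I := Ideal.span {algebraMap A (integralClosure A L) π} with hI
  have hWI : W - algebraMap A (integralClosure A L) g₀ ∈ I := by
    refine hred ⟨N, ?_⟩
    have h1 : W ^ N - algebraMap A (integralClosure A L) f₀ ∈ I := by
      have : W ^ N - algebraMap A (integralClosure A L) f₀ =
          - ∑ i ∈ Finset.Ico 1 N, algebraMap A (integralClosure A L) (algebraMap R A (c i)) * W ^ i := by
        refine Subtype.ext ?_
        push_cast
        simp only [Subalgebra.coe_algebraMap, ← IsScalarTower.algebraMap_apply, W]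
        linear_combination hwroot
      rw [this]
      refine neg_mem (Ideal.sum_mem _ fun i hi => Ideal.mul_mem_right _ _ ?_)
      obtain ⟨h1, h2⟩ := Finset.mem_Ico.mp hi
      exact Ideal.mem_span_singleton.mpr (map_dvd _ (map_dvd _ ((hc i h1 h2).2 le_rfl)))
    obtain ⟨r, hr⟩ := exists_add_pow_prime_pow_eq hp (W - algebraMap A (integralClosure A L) g₀)
      (algebraMap A (integralClosure A L) g₀) n
    rw [sub_add_cancel] at hr
    have h2 : ∀ x, (p : integralClosure A L) * x ∈ I := fun x => Ideal.mul_mem_right _ _ (by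
      rw [hI, Ideal.mem_span_singleton, ← map_natCast (algebraMap A (integralClosure A L)) p]
      exact map_dvd _ hpπ)
    have h3 : algebraMap A (integralClosure A L) (f₀ - g₀ ^ N) ∈ I := by
      obtain ⟨e, he⟩ := Ideal.mem_span_singleton.mp hmem
      rw [he, map_mul]
      exact Ideal.mul_mem_right _ _ (Ideal.mem_span_singleton_self _)
    rw [map_sub, map_pow] at h3
    have h4 := sub_mem (add_mem h1 h3) (h2 ((W - algebraMap A (integralClosure A L) g₀) * algebraMap A (integralClosure A L) g₀ * r))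
    convert h4 using 1
    rw [hr]
    ring
  obtain ⟨U, hU⟩ := Ideal.mem_span_singleton.mp hWI
  have hwU : w = algebraMap A L g₀ + P * (U : L) := by
    have := congrArg Subtype.val hU
    push_cast at this
    simp only [Subalgebra.coe_algebraMap, W, hPA] at this
    linear_combination this
  have ha : IsUnit (1 + π ^ j * g₀) := by
    refine hlift _ ((isUnit_pow_iff (show N ≠ 0 by omega)).mp ?_)
    obtain ⟨r, hr⟩ := exists_add_pow_prime_pow_eq hp 1 (π ^ j * g₀) n
    have h1 : Ideal.Quotient.mk (Ideal.span {π}) (1 + π ^ j * g₀) ^ N =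
        Ideal.Quotient.mk (Ideal.span {π}) ((f : A) * (g : A) ^ N) := by
      rw [← map_pow, Ideal.Quotient.eq, Ideal.mem_span_singleton, hfg, hr, one_pow, mul_pow, ← pow_mul]
      rw [show 1 + π ^ (j * N) * g₀ ^ N + (p : A) * 1 * (π ^ j * g₀) * r - (1 + π ^ (j * N) * f₀) =
        (p : A) * (π ^ j * g₀ * r) - π ^ (j * N) * (f₀ - g₀ ^ N) by ring]
      exact dvd_sub (hpπ.mul_right _) (dvd_mul_of_dvd_right (Ideal.mem_span_singleton.mp hmem) _)
    rw [h1]
    exact (f.isUnit.mul (g.isUnit.pow N)).map _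
  obtain ⟨a, ha⟩ := ha
  set u : L := (U : L) * algebraMap A L ↑a⁻¹ with hu
  have hzu : Z * algebraMap A L ↑(g * a⁻¹) = 1 + P ^ (j + 1) * u := by
    rw [Units.val_mul, map_mul, ← mul_assoc, hzw, hwU, hu]
    have h1 : algebraMap A L (1 + π ^ j * g₀) * algebraMap A L ↑a⁻¹ = 1 := by
      rw [← ha, ← map_mul, Units.mul_inv, map_one]
    rw [map_add, map_one, map_mul, map_pow, hPA] at h1
    linear_combination h1
  have huint : IsIntegral A u := U.2.mul isIntegral_algebraMap
  obtain ⟨c₀, hc₀⟩ := hdiv ((f : A) * (↑(g * a⁻¹) : A) ^ N - 1) ((j + 1) * N)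
    (u ^ N + ∑ i ∈ Finset.Ico 1 N, algebraMap R L (d i) * u ^ i)
    ((huint.pow _).add (IsIntegral.sum _ fun i _ =>
      (by rw [IsScalarTower.algebraMap_apply R A L]; exact isIntegral_algebraMap : IsIntegral A (algebraMap R L (d i))).mul (huint.pow _)))
    (by rw [map_sub, map_one, map_mul, map_pow, ← hZ, ← mul_pow, hzu, expand hN1 (fun i h1 h2 => (hd i h1 h2).1) u]; ring)
  exact hmax (g * a⁻¹) c₀ (by linear_combination hc₀)

theorem div_of_integral {R A A' L : Type u} [CommRing R] [CommRing A] [IsDomain A] [IsIntegrallyClosed A]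
    [Algebra R A] [CommRing A'] [Algebra A A'] [CommRing L] [Algebra A L] [Algebra A' L] [IsScalarTower A A' L]
    [Algebra R L] [IsScalarTower R A L] (π : R) (hπ : algebraMap R A π ≠ 0) [IsLocalization.Away (algebraMap R A π) A']
    (hinj : Function.Injective (algebraMap A' L)) (t : A) (M : ℕ) (c : L) (hc : IsIntegral A c)
    (ht : algebraMap A L t = algebraMap R L π ^ M * c) : ∃ c₀, t = algebraMap R A π ^ M * c₀ := by
  let ψ : A' →ₐ[A] FractionRing A := IsLocalization.liftAlgHom (M := Submonoid.powers (algebraMap R A π))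
    (f := Algebra.ofId A (FractionRing A)) (fun y => IsLocalization.map_units (FractionRing A)
      (⟨y.1, powers_le_nonZeroDivisors_of_noZeroDivisors hπ y.2⟩ : nonZeroDivisors A))
  let s : Submonoid.powers (algebraMap R A π) := ⟨algebraMap R A π ^ M, M, rfl⟩
  let c' : A' := IsLocalization.mk' A' t s
  have h1 : c' * algebraMap A A' (algebraMap R A π ^ M) = algebraMap A A' t := IsLocalization.mk'_spec A' t s
  have h2 : algebraMap A' L c' = c := by
    refine (((IsLocalization.map_units A' s).map (algebraMap A' L)).mul_left_inj).mp ?_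
    rw [← map_mul]
    change algebraMap A' L (c' * algebraMap A A' (algebraMap R A π ^ M)) = c * algebraMap A' L (algebraMap A A' (algebraMap R A π ^ M))
    rw [h1, ← IsScalarTower.algebraMap_apply A A' L, ← IsScalarTower.algebraMap_apply A A' L, ht, map_pow,
      ← IsScalarTower.algebraMap_apply R A L, mul_comm]
  have h3 : IsIntegral A c' := by
    rw [← h2] at hc
    exact (isIntegral_algHom_iff (IsScalarTower.toAlgHom A A' L) hinj).mp hc
  obtain ⟨c₀, hc₀⟩ := IsIntegrallyClosed.isIntegral_iff.mp (h3.map ψ)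
  refine ⟨c₀, IsFractionRing.injective A (FractionRing A) ?_⟩
  have h4 : ψ (c' * algebraMap A A' (algebraMap R A π ^ M)) = algebraMap A (FractionRing A) t := by
    rw [h1]; exact ψ.commutes t
  rw [map_mul, ψ.commutes (algebraMap R A π ^ M), ← hc₀, ← map_mul, mul_comm] at h4
  exact h4.symm

/-- Let R be a discrete valuation ring of characteristic zero and residue characteristic p, with
uniformizer π and a primitive p^n-th root of unity ζ (n ≥ 1), and A a Noetherian integrally closed
domain which is a faithfully flat R-algebra, in which πA is a prime ideal and every element that is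
a unit modulo π is a unit (as when A is π-adically complete, or local). Let f, g be units of A, j a
natural number with π^{p^{n−1}(p−1)(j+1)} dividing p (that is, j is less than the valuation of ζ −
1, so that the polynomials ((1 + π^{j}T)^{p^n} − 1)/π^{jp^n} and ((1 + π^{j+1}T)^{p^n} −
1)/π^{(j+1)p^n} have coefficients in R), and f₀ ∈ A with f·g^{p^n} = 1 + π^{j p^n}·f₀; suppose j is
maximal with this property: there is no unit g' of A with f·g'^{p^n} ≡ 1 modulo π^{(j+1)p^n}.
Suppose moreover that the algebra L = A[1/π][Z]/(Z^{p^n} − f) is an integral domain (the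
μ_{p^n}-torsor Z^{p^n} = f is connected on the generic fibre) and that, B denoting the integral
closure of A in L (the normalization of Spec A in that cover), the ideal πB is radical (the
normalization has reduced special fibre). Then f₀ is not congruent modulo πA to a p^n-th power. (The
published statement phrases the hypothesis on j as: the class of the torsor Z^{p^n} = f lies in
H¹(Spec A, G_{π^j,n}) and not in H¹(Spec A, G_{π^{j+1},n}); the conditions on g and g' are its
ring-theoretic form, which is the first assertion of the same lemma; A is there factorial and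
π-adically complete, or normal local, which this row keeps only through the consequences used:
integrally closed, and units lift modulo π.) -/
theorem result
    (R : Type u) [CommRing R] [IsDomain R] [IsDiscreteValuationRing R] [CharZero R]
    (p : ℕ) [Fact p.Prime] [CharP (IsLocalRing.ResidueField R) p] (ϖ : R) (hϖ : Irreducible ϖ)
    (n : ℕ) (hn : 0 < n) (ζ : R) (hζ : IsPrimitiveRoot ζ (p ^ n))
    (A : Type u) [CommRing A] [IsDomain A] [IsNoetherianRing A] [IsIntegrallyClosed A] [Algebra R A]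
    [Module.FaithfullyFlat R A]
    (hprime : (Ideal.span {algebraMap R A ϖ}).IsPrime)
    (hlift : ∀ a : A, IsUnit (Ideal.Quotient.mk (Ideal.span {algebraMap R A ϖ}) a) → IsUnit a)
    (f g : Aˣ) (j : ℕ) (hj : ϖ ^ (p ^ (n - 1) * (p - 1) * (j + 1)) ∣ (p : R)) (f₀ : A)
    (hfg : (f : A) * (g : A) ^ (p ^ n) = 1 + (algebraMap R A ϖ) ^ (j * p ^ n) * f₀)
    (hmax : ∀ (g' : Aˣ) (c : A), (f : A) * (g' : A) ^ (p ^ n) ≠ 1 + (algebraMap R A ϖ) ^ ((j + 1) * p ^ n) * c)
    [IsDomain (AdjoinRoot (Polynomial.X ^ (p ^ n) - Polynomial.C (algebraMap A (Localization.Away (algebraMap R A ϖ)) (f : A))))]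
    (hred : (Ideal.span {algebraMap A (integralClosure A (AdjoinRoot (Polynomial.X ^ (p ^ n) - Polynomial.C (algebraMap A (Localization.Away (algebraMap R A ϖ)) (f : A))))) (algebraMap R A ϖ)}).IsRadical)
    (g₀ : A) : f₀ - g₀ ^ (p ^ n) ∉ Ideal.span {(algebraMap R A ϖ)} := by
  let A' := Localization.Away (algebraMap R A ϖ)
  have hπ0 : algebraMap R A ϖ ≠ 0 :=
    (map_ne_zero_iff _ (FaithfulSMul.algebraMap_injective R A)).mpr hϖ.ne_zero
  haveI : IsDomain A' := IsLocalization.isDomain_localization (powers_le_nonZeroDivisors_of_noZeroDivisors hπ0)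
  have hinj : Function.Injective (algebraMap A' (AdjoinRoot (Polynomial.X ^ (p ^ n) - Polynomial.C (algebraMap A A' (f : A))))) := by
    refine AdjoinRoot.of.injective_of_degree_ne_zero ?_
    rw [Polynomial.degree_X_pow_sub_C (pow_pos (Fact.out : p.Prime).pos n)]
    exact_mod_cast (pow_pos (Fact.out : p.Prime).pos n).ne'
  refine core (R := R) hn j hj hlift ?_ ?_ f g f₀ hfg hmax hred
    (AdjoinRoot.root _) ?_ g₀
  · exact div_of_integral (A' := A') ϖ hπ0 hinj
  · rw [IsScalarTower.algebraMap_apply R A (AdjoinRoot _), IsScalarTower.algebraMap_apply A A' (AdjoinRoot _)]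
    exact (IsLocalization.Away.algebraMap_isUnit _).map _
  · rw [IsScalarTower.algebraMap_apply A A']
    have h := AdjoinRoot.eval₂_root (Polynomial.X ^ (p ^ n) - Polynomial.C (algebraMap A A' (f : A)))
    rw [Polynomial.eval₂_sub, Polynomial.eval₂_X_pow, Polynomial.eval₂_C, sub_eq_zero] at h
    exact h

end Groth.Agent.S14692
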