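import Groth.Statements.S14693
import Groth.Agent.SekLib.AlphaN
open Groth.Agent.SekLib CategoryTheory.Limits
attribute [local instance] secAlgebra

set_option autoImplicit false
universe u
open CategoryTheory AlgebraicGeometry
open MonObj
open SekSuwa

namespace Groth.Agent.S14693

/-- For any commutative ring R, λ ∈ R and N such that λ is a non-zero-divisor and λ^N divides (1 + λX)^N
− 1 in R[X] with quotient P_{λ,N}, the closed subgroup scheme G_{λ,N} = Spec R[T]/(P_{λ,N}(T)) of
the affine R-group G^(λ) = Spec R[T, 1/(1+λT)] (group law s + t + λst) is the kernel of the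
homomorphism ψ_{λ,N} : G^(λ) → G^(λ^N), T ↦ P_{λ,N}(T): the square with sides the inclusion G_{λ,N}
→ G^(λ), ψ_{λ,N}, the unit section of G^(λ^N) and G_{λ,N} → Spec R is cartesian. (The published
text, over a discrete valuation ring and with N = p^n, introduces G_{λ,n} as the kernel of the
isogeny ψ_{λ,n}; this row is that assertion for every N, including the degenerate N = 0 where ψ is
trivial and G_{λ,0} = G^(λ).) -/
theorem result (R : Type u) [CommRing R] (lam : R) (N : ℕ) (h : SekSuwa.DivCond lam N) :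
    AlgGrp.IsKernel (SekSuwa.incl R lam N h) (SekSuwa.psi R lam N h) := by
  have hinj : ∀ {T : Over (Spec (CommRingCat.of R))} {x y : T ⟶ SekSuwa.GK R lam N h},
      x ≫ SekSuwa.incl R lam N h = y ≫ SekSuwa.incl R lam N h → x = y := by
    intro T x y e
    have e' := congrArg (ptHom (A := SekSuwa.A R lam)) e
    rw [ptHom_comp x (SekSuwa.AK.mkHom R lam N h : SekSuwa.A R lam →ₐ[R] SekSuwa.AK R lam N h) _ rfl,
      ptHom_comp y (SekSuwa.AK.mkHom R lam N h : SekSuwa.A R lam →ₐ[R] SekSuwa.AK R lam N h) _ rfl] at e'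
    exact ptHom_injective (A := SekSuwa.AK R lam N h) (pt_ext h (DFunLike.congr_fun e' SekSuwa.A.t))
  have key : ∀ {T : Over (Spec (CommRingCat.of R))} (x : T ⟶ SekSuwa.G R lam),
      x ≫ SekSuwa.psi R lam N h = 1 → ∃ y : T ⟶ SekSuwa.GK R lam N h, y ≫ SekSuwa.incl R lam N h = x := by
    intro T x hx
    obtain ⟨u, -⟩ := exists_ptHom_eq (T := T) (Algebra.ofId R Γ(T.left, ⊤))
    have h1 : ∀ a, ptHom (A := SekSuwa.A R (lam ^ N)) (1 : T ⟶ SekSuwa.G R (lam ^ N)) a =
        algebraMap R _ (CoalgebraStruct.counit (R := R) a) := by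
      intro a
      rw [show (1 : T ⟶ SekSuwa.G R (lam ^ N)) = u ≫ SekSuwa.specHom ((Bialgebra.unitBialgHom R R).comp
          (Bialgebra.counitBialgHom R (SekSuwa.A R (lam ^ N)))) by rw [SekSuwa.specHom_trivial, MonObj.comp_one],
        ptHom_comp u (((Bialgebra.unitBialgHom R R).comp (Bialgebra.counitBialgHom R (SekSuwa.A R (lam ^ N)))) :
          SekSuwa.A R (lam ^ N) →ₐ[R] R) _ rfl, AlgHom.comp_apply]
      exact (ptHom u).commutes _
    have h2 := DFunLike.congr_fun (congrArg (ptHom (A := SekSuwa.A R (lam ^ N))) hx) SekSuwa.A.t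
    rw [h1, SekSuwa.A.counit_t, map_zero,
      ptHom_comp x (SekSuwa.psiHom R lam N h : SekSuwa.A R (lam ^ N) →ₐ[R] SekSuwa.A R lam) _ rfl, AlgHom.comp_apply] at h2
    change ptHom x (SekSuwa.psiHom R lam N h SekSuwa.A.t) = 0 at h2
    rw [SekSuwa.psiHom_t] at h2
    obtain ⟨(y : T ⟶ SekSuwa.GK R lam N h), hy⟩ := exists_ptHom_eq (A := SekSuwa.AK R lam N h)
      (Ideal.Quotient.liftₐ (SekSuwa.kerIdeal lam N h) (ptHom (A := SekSuwa.A R lam) x) (by
        intro a ha
        obtain ⟨d, rfl⟩ := Ideal.mem_span_singleton'.mp ha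
        rw [map_mul, h2, mul_zero]))
    refine ⟨y, ptHom_injective (A := SekSuwa.A R lam) ?_⟩
    rw [ptHom_comp y (SekSuwa.AK.mkHom R lam N h : SekSuwa.A R lam →ₐ[R] SekSuwa.AK R lam N h) _ rfl]
    refine AlgHom.ext fun a => ?_
    exact DFunLike.congr_fun hy (SekSuwa.AK.mkHom R lam N h a)
  have hw : SekSuwa.incl R lam N h ≫ SekSuwa.psi R lam N h = CartesianMonoidalCategory.toUnit _ ≫ η[SekSuwa.G R (lam ^ N)] := by
    rw [SekSuwa.incl_psi, Hom.one_def]
  choose y hy using fun (s : PullbackCone (SekSuwa.psi R lam N h) η[SekSuwa.G R (lam ^ N)]) => key s.fst (by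
    rw [s.condition, Hom.one_def]
    exact congrArg (· ≫ _) (CartesianMonoidalCategory.toUnit_unique _ _))
  exact IsPullback.of_isLimit (PullbackCone.IsLimit.mk hw y hy
    (fun s => CartesianMonoidalCategory.toUnit_unique _ _) (fun s m h₁ _ => hinj (h₁.trans (hy s).symm)))

end Groth.Agent.S14693
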