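import Groth.Statements.S14696
import Groth.Agent.DualAbs.SurfRR
-- import your own Groth.Agent.* helpers here

set_option autoImplicit false
universe u
open CategoryTheory CategoryTheory.Limits AlgebraicGeometry
open Surf

namespace Groth.Agent.S14696

/-- Let k be an algebraically closed field and X an integral scheme of dimension two admitting a closed
immersion into some P^n_k over k, all of whose local rings are Cohen–Macaulay. Let (ω, t) be a
dualizing sheaf for X — ω coherent, t a k-linear form on H^2(X, ω), such that for every coherent F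
and every k-linear form ψ on H^2(X, F) there is exactly one φ : F → ω with ψ = t ∘ H^2(φ) — and
assume ω invertible. Then for every invertible O_X-module L one has 2 χ(L) = (L·L) - (L·ω) + 2
χ(O_X), where (A·B) = χ(O_X) - χ(A) - χ(B) + χ(A ⊗ B) is the intersection number (packaged as
FGA.intNum). (The published statement is for a Gorenstein surface, where the dualizing sheaf is
invertible and the local rings are Cohen–Macaulay; this row assumes those two consequences directly,
which is what the proof uses, and does not assume regularity in codimension one.) -/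
theorem result (k : Type u) [Field k] [IsAlgClosed k] (X : Scheme.{u}) [X.Over (Spec (CommRingCat.of k))]
    [IsIntegral X] (hdim : topologicalKrullDim X = 2)
    (hproj : ∃ (n : ℕ) (ι : X ⟶ CohB1.ProjSpace n k), IsClosedImmersion ι ∧ ι ≫ CohB1.ProjSpace.toSpec n k = (X ↘ (Spec (CommRingCat.of k))))
    (hCM : ∀ x : X, LocCoh.IsCohenMacaulayLocalRing (X.presheaf.stalk x))
    (ω : X.Modules) (hωcoh : Coh.IsCoh ω) (hωinv : PicF.IsInvertible ω) (t : Coh.HH X ω 2 →ₗ[k] k)
    (hdual : ∀ F : X.Modules, Coh.IsCoh F → ∀ ψ : Coh.HH X F 2 →ₗ[k] k,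
        ∃! φ : F ⟶ ω, ∀ x : Coh.HH X F 2,
          ψ x = t (Sheaf.H.map ((SheafOfModules.toSheaf X.ringCatSheaf).map φ) 2 x))
    (L : X.Modules) (hL : PicF.IsInvertible L) :
    2 * Curv2.euler k X L = FGA.intNum k X 2 ![L, L] (Coh.structureModule X) - FGA.intNum k X 2 ![L, ω] (Coh.structureModule X) + 2 * Curv2.euler k X (Coh.structureModule X) := by
  obtain ⟨N, ι, _, hι⟩ := hproj
  haveI : IsProper (CohB1.ProjSpace.toSpec N k) := ProjProper.Basic.isProper_toSpec N k
  haveI : IsProper (X ↘ Spec (CommRingCat.of k)) := by rw [← hι]; infer_instance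
  have hn : topologicalKrullDim ↥X = ((2 : ℕ) : WithBot ℕ∞) := by rw [hdim]; rfl
  have heq : ∀ Z : Set ↥X, Z ∈ irreducibleComponents ↥X → topologicalKrullDim ↥Z = ((2 : ℕ) : WithBot ℕ∞) := by
    intro Z hZ
    rw [irreducibleComponents_eq_singleton, Set.mem_singleton_iff] at hZ
    subst hZ
    rw [IsHomeomorph.topologicalKrullDim_eq _ (Homeomorph.Set.univ _).isHomeomorph]
    exact hn
  obtain ⟨L', hL', ⟨e⟩⟩ := PicLaw.exists_inverse hL
  let e' : CohB1.tensorMod L' L ≅ Coh.structureModule X := ProjTwist.tensComm L' L ≪≫ e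
  have hO := PicLoc.isInvertible_structureModule X
  refine DualAbs.SurfRR.rr k hn.le hL hωinv hL' e ?_ ?_
  · rw [DualAbs.SurfRR.euler_dual ι hι hn hCM heq ω hωcoh t hdual hO
      (ProjTwist.tensOne (Coh.structureModule X)) (Snapper.isCoh_tensorMod k hO hωcoh)]
    exact EulerChar.euler_iso k ((ProjTwist.tensOne ω).symm ≪≫ ProjTwist.tensComm ω _)
  · rw [DualAbs.SurfRR.euler_dual ι hι hn hCM heq ω hωcoh t hdual hL' e (Snapper.isCoh_tensorMod k hL hωcoh)]
    exact EulerChar.euler_iso k (ProjTwist.tensComm ω L)

end Groth.Agent.S14696
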