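import Groth.Statements.S14697
import Groth.Agent.SurfRR.Surface
import Groth.Agent.NumTriv.Proper

set_option autoImplicit false
universe u
open CategoryTheory CategoryTheory.Limits AlgebraicGeometry
open Surf

namespace Groth.Agent.S14697

/-- Let k be an algebraically closed field and X an integral normal scheme of dimension two admitting a
closed immersion into some P^n_k over k. Let φ : Y → X be a k-morphism from an integral scheme Y of
dimension two with all local rings regular, itself admitting a closed immersion into some P^m_k over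
k, such that φ restricts to an isomorphism over an open subset U of X with finite complement (any
such resolution: φ may also fail to be an isomorphism over finitely many regular points). Let W be a
canonical module of Y, a second exterior power of Ω_{Y/k}, and L an invertible O_X-module. Then 2
χ(X, L) = (φ^*L · φ^*L) - (φ^*L · W) + 2 χ(X, O_X), the intersection numbers being taken on Y as
(A·B) = χ(O_Y) - χ(A) - χ(B) + χ(A ⊗ B) (packaged as FGA.intNum). In the published form D.D and
D.K_* are the intersection numbers of the Cartier divisor D of L with itself and with the direct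
image K_* of a canonical divisor of Y, in the rational-valued pairing defined through the
resolution; for a Cartier divisor both equal the numbers on Y written here. (The published statement
takes a resolved model, that is, φ an isomorphism exactly over the complement of the singular points
with exceptional curves nonsingular and crossing normally; this row allows any φ that is an
isomorphism over some open subset with finite complement, to which the same proof applies. The
published display has constant term the arithmetic genus p_a(X) = χ(O_X) - 1 of the surface; the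
proof given establishes the constant χ(O_X) used here, and with p_a(X) the identity already fails
for the trivial divisor, whose two sides would read χ(O_X) and χ(O_X) - 1.) -/
theorem result (k : Type u) [Field k] [IsAlgClosed k] (X : Scheme.{u}) [X.Over (Spec (CommRingCat.of k))]
    [IsIntegral X] (hdim : topologicalKrullDim X = 2)
    (hproj : ∃ (n : ℕ) (ι : X ⟶ CohB1.ProjSpace n k), IsClosedImmersion ι ∧ ι ≫ CohB1.ProjSpace.toSpec n k = (X ↘ (Spec (CommRingCat.of k))))
    (hnorm : Pi1.IsNormalScheme X) (U : X.Opens) (hU : ((U : Set X)ᶜ).Finite)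
    (Y : Scheme.{u}) (φ : Y ⟶ X) [IsIntegral Y] (hdimY : topologicalKrullDim Y = 2)
    (hregY : ∀ y : Y, IsRegularLocalRing (Y.presheaf.stalk y))
    (hprojY : ∃ (n : ℕ) (ι : Y ⟶ CohB1.ProjSpace n k), IsClosedImmersion ι ∧ ι ≫ CohB1.ProjSpace.toSpec n k = φ ≫ (X ↘ (Spec (CommRingCat.of k))))
    (hisoY : IsIso (φ ∣_ U))
    (W : Y.Modules) (hW : ExtPow.IsExtPow 2 (Omega.sheaf (φ ≫ (X ↘ (Spec (CommRingCat.of k))))) W)
    (L : X.Modules) (hL : PicF.IsInvertible L) :
    letI : Y.Over (Spec (CommRingCat.of k)) := ⟨φ ≫ (X ↘ (Spec (CommRingCat.of k)))⟩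
    2 * Curv2.euler k X L =
      FGA.intNum k Y 2 ![(Scheme.Modules.pullback φ).obj L, (Scheme.Modules.pullback φ).obj L] (Coh.structureModule Y) -
        FGA.intNum k Y 2 ![(Scheme.Modules.pullback φ).obj L, W] (Coh.structureModule Y) +
        2 * Curv2.euler k X (Coh.structureModule X) := by
  letI : Y.Over (Spec (CommRingCat.of k)) := ⟨φ ≫ (X ↘ (Spec (CommRingCat.of k)))⟩
  obtain ⟨n, ι, hι, hιk⟩ := hproj
  haveI := hι
  haveI := SurfRR.isProper_of_closedImmersion k ι hιk
  obtain ⟨m, j, hj, hjk⟩ := hprojY
  haveI := hj
  haveI : IsProper (Y ↘ Spec (CommRingCat.of k)) := SurfRR.isProper_of_closedImmersion k j hjk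
  haveI := SurfRR.smoothRelDim_of_regular k (X := Y) (r := 2) (hdimY.trans rfl) hregY
  haveI := EulerChar.isNoetherian k (X := X)
  haveI := EulerChar.isNoetherian k (X := Y)
  haveI := hisoY
  haveI : IsProper φ := NumTriv.isProper_of_over (k := k) φ rfl
  have hM := PicCl.isInvertible_pullback φ hL
  have hd : topologicalKrullDim Y ≤ (2 : ℕ) := hdimY.le
  have hWi : PicF.IsInvertible W := SurfRR.isInvertible_canonical k j hjk W hW
  rw [SurfRR.pr_eq_intNum k hd hM hM, SurfRR.pr_eq_intNum k hd hM hWi]
  have hRR := SurfRR.riemann_roch k j hjk W hW hM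
  have hUc : topologicalKrullDim ↥((U : Set X)ᶜ) ≤ 0 := by
    haveI : JacobsonSpace X := LocallyOfFiniteType.jacobsonSpace (X ↘ Spec (CommRingCat.of k))
    haveI : JacobsonSpace ↥((U : Set X)ᶜ) :=
      JacobsonSpace.of_isClosedEmbedding U.2.isClosed_compl.isClosedEmbedding_subtypeVal
    haveI := hU.to_subtype
    exact topologicalKrullDim_zero_of_discreteTopology _
  have hL1 := ProjTwist.isFinLocFreeOfRank_one hL
  have hlow : ∀ H : X.Modules, Coh.IsCoh H → CohB1.support H ⊆ (U : Set X)ᶜ →
      Curv2.euler k X (CohB1.tensorMod H L) = Curv2.euler k X H := fun H hH hs => by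
    rw [EulerChar.euler_iso k (show CohB1.tensorMod H L ≅ CohDev.tens L H from ProjTwist.tensComm H L)]
    have := EulerChar.euler_tens_of_support k hL1 hH ((CohDev.dim_mono hs).trans hUc)
    simpa using this
  have hO' := ProperFin.isCoh_structureModule Y
  obtain ⟨T, hT⟩ := NumTriv.exists_euler_push_tens (k := k) φ rfl hO'
  obtain ⟨h1, h2⟩ := hT L hL
  haveI : EnoughInjectives Y.Modules := ModShf.schemeModulesEnoughInjectives _
  have hdiff : Curv2.euler k Y ((Scheme.Modules.pullback φ).obj L) - Curv2.euler k Y (Coh.structureModule Y) =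
      ∑ q ∈ Finset.range (T + 1), (-1 : ℤ) ^ q *
        (Curv2.euler k X (CohB1.tensorMod ((Coh.Rpush φ q).obj (Coh.structureModule Y)) L) -
          Curv2.euler k X ((Coh.Rpush φ q).obj (Coh.structureModule Y))) := by
    rw [← EulerChar.euler_iso k (ProjTwist.oneTens ((Scheme.Modules.pullback φ).obj L)), h1, h2,
      ← Finset.sum_sub_distrib]
    exact Finset.sum_congr rfl fun q _ => by ring
  rw [Finset.sum_eq_single 0 (fun q _ hq => ?_) (by simp), pow_zero, one_mul] at hdiff
  swap
  · obtain ⟨q', rfl⟩ : ∃ q', q = q' + 1 := ⟨q - 1, by omega⟩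
    have hR := NumTriv.isCoh_rpush (k := k) φ rfl hO' (q' + 1)
    let R := CohAff.FRes.ofMod (Coh.structureModule Y)
    haveI : (R.Z 0).IsQuasicoherent := hO'.1
    have hsupp : CohB1.support ((Coh.Rpush φ (q' + 1)).obj (Coh.structureModule Y)) ⊆ (U : Set X)ᶜ :=
      (CohDev.support_subset_of_mono (R.rpushIsoRc φ q').hom).trans
        (ProperFin.support_Rc_subset φ R q' U)
    rw [hlow _ hR hsupp, sub_self, mul_zero]
  let P := (Scheme.Modules.pushforward φ).obj (Coh.structureModule Y)
  let e0 : (Coh.Rpush φ 0).obj (Coh.structureModule Y) ≅ P :=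
    (Scheme.Modules.pushforward φ).rightDerivedZeroIsoSelf.app _
  rw [EulerChar.euler_iso k (ProjTwist.tensCongr e0 (Iso.refl L)), EulerChar.euler_iso k e0] at hdiff
  have hP : Coh.IsCoh P := CohDev.isCoh_of_iso e0 (NumTriv.isCoh_rpush (k := k) φ rfl hO' 0)
  have hOX := ProperFin.isCoh_structureModule X
  let η : Coh.structureModule X ⟶ P := Props.GenLocus.homOfSec
    (L := (Scheme.Modules.pushforward φ).obj (Coh.structureModule Y))
    (show Γ((Scheme.Modules.pushforward φ).obj (Coh.structureModule Y), ⊤) from
      (1 : Γ(Y, φ ⁻¹ᵁ ⊤)))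
  have hη := CohDev.kcl_sub_mem_of_map η hOX hP (T := Set.univ) (U := (U : Set X))
    (Set.subset_univ _) (Set.subset_univ _) fun z hz =>
      ProjTwist.stalkLin_bijective_of_app η U (fun V hV => NumTriv.unitMap_bijective φ U V hV) z hz
  have hz : EulerChar.dev k hL1 (CohDev.kcl (Coh.structureModule X) - CohDev.kcl P) = 0 := by
    refine AddSubgroup.closure_induction (p := fun c _ => EulerChar.dev k hL1 c = 0) ?_ (map_zero _)
      (fun a b _ _ ha hb => by rw [map_add, ha, hb, add_zero])
      (fun a _ ha => by rw [map_neg, ha, neg_zero]) hη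
    rintro _ ⟨H, hH, hHs, rfl⟩
    rw [EulerChar.dev_kcl k hL1 hH, EulerChar.euler_iso k (show CohDev.tens L H ≅ CohB1.tensorMod H L from ProjTwist.tensComm L H),
      hlow H hH (hHs.trans fun z hz => hz.2), Nat.cast_one, one_mul, sub_self]
  rw [map_sub, EulerChar.dev_kcl k hL1 hOX, EulerChar.dev_kcl k hL1 hP, Nat.cast_one, one_mul, one_mul,
    EulerChar.euler_iso k (show CohDev.tens L P ≅ CohB1.tensorMod P L from ProjTwist.tensComm L P),
    EulerChar.euler_iso k (show CohDev.tens L (Coh.structureModule X) ≅ L from ProjTwist.tensOne L)] at hz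
  linarith


end Groth.Agent.S14697
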