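import Groth.Statements.S14698
import Groth.Agent.S15544
import Groth.Agent.BiratZMT.Local
import Groth.Agent.ProjProper.Basic
import Groth.Agent.LocCohSweep.ConnDim
import Mathlib.AlgebraicGeometry.FunctionField

set_option linter.style.haveILetI false
set_option linter.unusedVariables false
set_option backward.isDefEq.respectTransparency false
set_option backward.isDefEq.respectTransparency.types false
open TopologicalSpace

set_option autoImplicit false
universe u
open CategoryTheory CategoryTheory.Limits AlgebraicGeometry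
open Resolve

namespace Groth.Agent.S14698

/-- Let k be an algebraically closed field and X an integral normal scheme of dimension two admitting a
closed immersion into some P^n_k over k. Let φ : Y → X be a k-morphism from an integral scheme Y of
dimension two with all local rings regular, itself admitting a closed immersion into some P^m_k over
k, which restricts to an isomorphism over an open subset U of X with finite complement. Then for
every point x of X at which the local ring is not regular, the fibre φ⁻¹(x) (with the topology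
induced from Y) is nonempty and every irreducible component of it has dimension one: such a
desingularization is a monoidal model. (The published statement takes φ an isomorphism exactly over
the complement of the singular points; this row allows any open U with finite complement over which
φ is an isomorphism.) -/
theorem result (k : Type u) [Field k] [IsAlgClosed k] (X : Scheme.{u}) [X.Over (Spec (CommRingCat.of k))]
    [IsIntegral X] (hdim : topologicalKrullDim X = 2)
    (hproj : ∃ (n : ℕ) (ι : X ⟶ CohB1.ProjSpace n k), IsClosedImmersion ι ∧ ι ≫ CohB1.ProjSpace.toSpec n k = (X ↘ (Spec (CommRingCat.of k))))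
    (hnorm : Pi1.IsNormalScheme X) (U : X.Opens) (hU : ((U : Set X)ᶜ).Finite)
    (Y : Scheme.{u}) (φ : Y ⟶ X) [IsIntegral Y] (hdimY : topologicalKrullDim Y = 2)
    (hregY : ∀ y : Y, IsRegularLocalRing (Y.presheaf.stalk y))
    (hprojY : ∃ (n : ℕ) (ι : Y ⟶ CohB1.ProjSpace n k), IsClosedImmersion ι ∧ ι ≫ CohB1.ProjSpace.toSpec n k = φ ≫ (X ↘ (Spec (CommRingCat.of k))))
    (hisoY : IsIso (φ ∣_ U))
    (x : X) (hx : ¬ IsRegularLocalRing (X.presheaf.stalk x)) :
    (φ.base ⁻¹' ({x} : Set X)).Nonempty ∧
      ∀ Z ∈ irreducibleComponents ↥(φ.base ⁻¹' ({x} : Set X)), topologicalKrullDim ↥Z = 1 := by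
  obtain ⟨n, ι, hι, hιs⟩ := hproj
  obtain ⟨m, ι', hι', hι's⟩ := hprojY
  haveI := hι
  haveI := hι'
  haveI := ProjProper.Basic.isProper_toSpec n k
  haveI := ProjProper.Basic.isProper_toSpec m k
  haveI : IsProper (X ↘ Spec (CommRingCat.of k)) := hιs ▸ inferInstance
  haveI : IsProper (φ ≫ (X ↘ Spec (CommRingCat.of k))) := hι's ▸ inferInstance
  haveI : IsProper φ := IsProper.of_comp φ (X ↘ Spec (CommRingCat.of k))
  haveI : IsLocallyNoetherian X := LocallyOfFiniteType.isLocallyNoetherian (X ↘ Spec (CommRingCat.of k))
  haveI : IsLocallyNoetherian Y := LocallyOfFiniteType.isLocallyNoetherian φ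
  haveI : CompactSpace X := QuasiCompact.compactSpace_of_compactSpace (X ↘ Spec (CommRingCat.of k))
  haveI : CompactSpace Y := QuasiCompact.compactSpace_of_compactSpace φ
  haveI : IsNoetherian Y := {}
  have hUne : (U : Set X).Nonempty := by
    by_contra h
    rw [Set.not_nonempty_iff_eq_empty] at h
    rw [h, Set.compl_empty] at hU
    haveI : Finite X := Set.finite_univ_iff.1 hU
    haveI : JacobsonSpace X := LocallyOfFiniteType.jacobsonSpace (X ↘ Spec (CommRingCat.of k))
    haveI : Subsingleton X := ⟨fun a b => by
      by_contra hab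
      obtain ⟨c, hc⟩ := nonempty_preirreducible_inter (isOpen_discrete {a}) (isOpen_discrete {b})
        (Set.singleton_nonempty a) (Set.singleton_nonempty b)
      exact hab (hc.1.symm.trans hc.2)⟩
    have h0 : topologicalKrullDim X ≤ 0 := by
      refine Order.krullDim_nonpos_iff_forall_isMax.2 fun a b hab c hc => ?_
      obtain ⟨d, hd⟩ := a.isIrreducible'.1
      rwa [Subsingleton.elim c d]
    rw [hdim] at h0
    exact absurd h0 (by norm_num)
  haveI := hisoY
  have hη : genericPoint X ∈ U := ((genericPoint_spec X).mem_open_set_iff U.2).2 (by simpa using hUne)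
  let z₀ := (inv (φ ∣_ U)) ⟨_, hη⟩
  have hz₀ : φ z₀.1 = genericPoint X := by
    rw [← morphismRestrict_base_coe φ U z₀]
    show ((inv (φ ∣_ U) ≫ φ ∣_ U) ⟨_, hη⟩).1 = _
    rw [IsIso.inv_hom_id]
    rfl
  have hgen : φ (genericPoint Y) = genericPoint X := by
    have h1 : φ (genericPoint Y) ⤳ φ z₀.1 := (genericPoint_specializes z₀.1).map φ.continuous
    rw [hz₀] at h1
    exact (h1.antisymm (genericPoint_specializes _)).eq
  have hξU : genericPoint Y ∈ φ ⁻¹ᵁ U := by rw [Scheme.Hom.mem_preimage, hgen]; exact hη
  have hbir : IsIso (φ.stalkMap (genericPoint Y)) :=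
    ((MorphismProperty.isomorphisms CommRingCat.{u}).arrow_mk_iso_iff (morphismRestrictStalkMap φ U ⟨_, hξU⟩)).1
      (show IsIso ((φ ∣_ U).stalkMap ⟨_, hξU⟩) from inferInstance)
  let F : Set Y := φ ⁻¹' {x}
  have hne : F.Nonempty := by
    have hcl : IsClosed (Set.range φ) := φ.isClosedMap.isClosed_range
    have hx' : x ∈ Set.range φ :=
      hcl.closure_subset_iff.2 (Set.singleton_subset_iff.2 ⟨_, hgen⟩) ((genericPoint_spec X).symm ▸ trivial)
    obtain ⟨y, hy⟩ := hx'
    exact ⟨y, hy⟩
  have hxη : x ≠ genericPoint X := fun h => hx (by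
    subst h
    haveI : IsDomain (X.presheaf.stalk (genericPoint X)) := inferInstanceAs (IsDomain X.functionField)
    exact IsRegularLocalRing.of_ringEquiv (RingEquiv.refl X.functionField))
  have hFlt : F ⊂ Set.univ := by
    refine ⟨Set.subset_univ _, fun h => hxη ?_⟩
    rw [← hgen]
    exact (h (Set.mem_univ (genericPoint Y))).symm
  have hZ1 : ∀ Z : Set ↥F, topologicalKrullDim ↥Z ≤ 1 := by
    intro Z
    have h1 : topologicalKrullDim ↥Z ≤ topologicalKrullDim ↥(closure F) :=
      ((Topology.IsEmbedding.inclusion subset_closure).isInducing.comp Topology.IsInducing.subtypeVal).topologicalKrullDim_le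
    have hFle : closure F ⊂ Set.univ := by
      refine ⟨Set.subset_univ _, fun h => ?_⟩
      have hsub : closure F ⊆ φ ⁻¹' closure {x} :=
        closure_minimal (fun y hy => subset_closure hy) (isClosed_closure.preimage φ.continuous)
      have h2 : φ (genericPoint Y) ∈ closure {x} := hsub (h (Set.mem_univ _))
      rw [hgen, ← specializes_iff_mem_closure] at h2
      exact hxη (h2.antisymm (genericPoint_specializes x)).eq
    have h2 := LocCohSweep.ConnDim.dim_add_one_le (T := Y) (IrreducibleSpace.isIrreducible_univ _) isClosed_closure hFle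
    rw [LocCohSweep.ConnDim.dim_univ, hdimY] at h2
    refine h1.trans ?_
    generalize topologicalKrullDim ↥(closure F) = d at h2 ⊢
    cases d with
    | bot => exact bot_le
    | coe d =>
      have h3 : d + 1 ≤ 2 := WithBot.coe_le_coe.1 (h2.trans (le_of_eq (by norm_num)))
      have h4 : d ≤ 1 := ENat.addLECancellable_of_ne_top (by simp : (1 : ℕ∞) ≠ ⊤) |>.add_le_add_iff_right.1
        (h3.trans (le_of_eq (by norm_num)))
      exact_mod_cast h4
  refine ⟨hne, fun Z hZ => le_antisymm (hZ1 Z) ?_⟩
  have hZirr : IsIrreducible Z := hZ.1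
  have hnss : ¬ Z.Subsingleton := by
    intro hss
    obtain ⟨z, hz⟩ := hZirr.1
    have hZeq : Z = {z} := hss.eq_singleton_of_mem hz
    haveI : NoetherianSpace ↥F := inferInstance
    have hfin := NoetherianSpace.finite_irreducibleComponents (α := ↥F)
    have hopen : IsOpen ({z} : Set ↥F) := by
      have hcompl : ({z} : Set ↥F)ᶜ = ⋃ W ∈ irreducibleComponents ↥F \ {Z}, W := by
        ext w
        refine ⟨fun hw => ?_, fun hw hwz => ?_⟩
        · refine Set.mem_biUnion (x := irreducibleComponent w)
            ⟨irreducibleComponent_mem_irreducibleComponents w, ?_⟩ mem_irreducibleComponent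
          intro h
          have hwZ : w ∈ Z := (show irreducibleComponent w = Z from h) ▸ mem_irreducibleComponent
          rw [hZeq] at hwZ
          exact hw hwZ
        · simp only [Set.mem_iUnion] at hw
          obtain ⟨W, ⟨hW, hWZ⟩, hwW⟩ := hw
          have hZW : Z ⊆ W := by
            rw [hZeq, Set.singleton_subset_iff]; exact (show w = z from hwz) ▸ hwW
          exact hWZ (Set.Subset.antisymm (hZ.2 hW.1 hZW) hZW)
      rw [← isClosed_compl_iff, hcompl]
      exact (hfin.subset Set.sdiff_subset).isClosed_biUnion fun W hW =>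
        isClosed_of_mem_irreducibleComponents W hW.1
    have hclosed : IsClosed ({z} : Set ↥F) := hZeq ▸ isClosed_of_mem_irreducibleComponents Z hZ
    haveI := Groth.Agent.S15544.result hnorm φ hgen hbir x
    haveI : PreconnectedSpace ↥F := (φ.fiberHomeo x).surjective.denseRange.preconnectedSpace (φ.fiberHomeo x).continuous
    have hall : ({z} : Set ↥F) = Set.univ :=
      (show IsClopen ({z} : Set ↥F) from ⟨hclosed, hopen⟩).eq_univ (Set.singleton_nonempty z)
    have hzx : φ z.1 = x := z.2
    obtain ⟨V, hxV, hV⟩ := BiratZMT.exists_isIso_restrict φ hgen hbir z.1 (hnorm _).2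
      (O := ⊤) trivial fun w _ hw => by
        have hwF : (⟨w, hw.trans hzx⟩ : ↥F) ∈ ({z} : Set ↥F) := hall ▸ trivial
        exact congrArg Subtype.val hwF
    haveI := hV
    haveI : IsIso (φ.stalkMap z.1) :=
      ((MorphismProperty.isomorphisms CommRingCat.{u}).arrow_mk_iso_iff (morphismRestrictStalkMap φ V ⟨_, hxV⟩)).1
        (show IsIso ((φ ∣_ V).stalkMap ⟨_, hxV⟩) from inferInstance)
    haveI := hregY z.1
    apply hx
    rw [← hzx]
    exact IsRegularLocalRing.of_ringEquiv (asIso (φ.stalkMap z.1)).commRingCatIsoToRingEquiv.symm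
  obtain ⟨a, ha, b, hb, hab⟩ := Set.not_subsingleton_iff.1 hnss
  haveI : IrreducibleSpace ↥Z := Subtype.irreducibleSpace hZirr
  haveI : T0Space ↥Z := inferInstance
  obtain ⟨w, hw⟩ : ∃ w : ↥Z, IsClosed (closure ({w} : Set ↥Z)) ∧ closure ({w} : Set ↥Z) ≠ Set.univ := by
    by_contra hcon
    push Not at hcon
    have h1 : IsGenericPoint (⟨a, ha⟩ : ↥Z) Set.univ := hcon _ isClosed_closure
    have h2 : IsGenericPoint (⟨b, hb⟩ : ↥Z) Set.univ := hcon _ isClosed_closure
    exact hab (congrArg Subtype.val (h1.eq h2))
  let c₀ : IrreducibleCloseds ↥Z := ⟨closure {w}, isIrreducible_singleton.closure, isClosed_closure⟩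
  let c₁ : IrreducibleCloseds ↥Z := ⟨Set.univ, IrreducibleSpace.isIrreducible_univ _, isClosed_univ⟩
  exact Order.one_le_krullDim_iff.2 ⟨c₀, c₁, lt_of_le_of_ne (fun p _ => trivial) fun e => hw.2 (congrArg (fun t : IrreducibleCloseds ↥Z => (t : Set ↥Z)) e)⟩

end Groth.Agent.S14698
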