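import Groth.Statements.S1470
import Groth.Agent.FlatMor62.AssDim

set_option autoImplicit false
universe u
open FlatMor

namespace Groth.Agent.S1470

open AlgebraicGeometry CategoryTheory Limits in
/-- Let f : X → S be locally of finite type, F a quasi-coherent O_X-module of finite type, and y a point
of the relative assassin of F with image t; let Y be the closure of y. For a point s of S and a
point x of the fibre of Y over s which is generic in an irreducible component of that fibre, if F is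
flat over S at x then x belongs to the relative assassin of F and the local dimension of the fibre
of Y over s at x equals the dimension of the fibre of Y over t (fibres taken as subspaces of X). -/
theorem result {X S : Scheme.{u}} (f : X ⟶ S) [LocallyOfFiniteType f]
    (F : X.Modules) (hF : Coh.IsCoh F) (y : X) (hy : y ∈ MoreMor.relAss f F) (s : S) (x : X) (hx : x ∈ closure ({y} : Set ↑X)) (hxs : f x = s)
    (hgen : ∃ C ∈ irreducibleComponents ↑(closure ({y} : Set ↑X) ∩ f ⁻¹' {s}), IsGenericPoint (⟨x, hx, hxs⟩ : ↑(closure ({y} : Set ↑X) ∩ f ⁻¹' {s})) C)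
    (hfl : FlatMod.IsFlatOverAt f F x) :
    x ∈ MoreMor.relAss f F ∧
      FlatMor.localDim ↑(closure ({y} : Set ↑X) ∩ f ⁻¹' {s}) ⟨x, hx, hxs⟩ = topologicalKrullDim ↑(closure ({y} : Set ↑X) ∩ f ⁻¹' {f y}) := by
  haveI : F.IsQuasicoherent := hF.1
  have hFT : CohB1.IsFT F := hF.2
  set I := Scheme.IdealSheafData.vanishingIdeal (TopologicalSpace.Closeds.closure {y}) with hIdef
  have hrange : Set.range I.subschemeι = closure {y} := by
    rw [Scheme.IdealSheafData.range_subschemeι, hIdef, Scheme.IdealSheafData.coe_support_vanishingIdeal,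
      TopologicalSpace.Closeds.coe_closure]
  obtain ⟨y₀, hy₀⟩ : y ∈ Set.range I.subschemeι := hrange.ge (subset_closure rfl)
  obtain ⟨x₀, hx₀⟩ : x ∈ Set.range I.subschemeι := hrange.ge hx
  subst hx₀
  let g := I.subschemeι ≫ f
  have hyx : y ⤳ I.subschemeι x₀ := specializes_iff_mem_closure.mpr hx
  have hmax : ∀ z : X, y ⤳ z → z ⤳ I.subschemeι x₀ → f z = f (I.subschemeι x₀) → z = I.subschemeι x₀ := by
    intro z hyz hzx hfz
    obtain ⟨C, hC, hgp⟩ := hgen
    let z' : ↑(closure ({y} : Set ↑X) ∩ f ⁻¹' {s}) := ⟨z, hyz.mem_closure, hfz.trans hxs⟩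
    have hzx' : z' ⤳ ⟨I.subschemeι x₀, hx, hxs⟩ := (subtype_specializes_iff _ _).mpr hzx
    have hsub : C ⊆ closure {z'} := by
      rw [← hgp.def]
      exact closure_minimal (Set.singleton_subset_iff.mpr hzx'.mem_closure) isClosed_closure
    have hxz : (⟨I.subschemeι x₀, hx, hxs⟩ : ↑(closure ({y} : Set ↑X) ∩ f ⁻¹' {s})) ⤳ z' :=
      hgp.specializes (hC.2 isIrreducible_singleton.closure hsub (subset_closure rfl))
    exact (hzx.antisymm ((subtype_specializes_iff _ _).mp hxz)).eq
  refine ⟨Groth.Agent.FlatMor62.AssDim.relAss_of_flat f F hFT hy hyx hfl hmax, ?_⟩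
  have hspec : y₀ ⤳ x₀ := I.subschemeι.isClosedEmbedding.isEmbedding.specializes_iff.mp (hy₀ ▸ hyx)
  have hgmax : ∀ w : I.subscheme, w ⤳ x₀ → g w = g x₀ → w = x₀ := fun w hw hgw =>
    I.subschemeι.isClosedEmbedding.injective (hmax _
      (specializes_iff_mem_closure.mpr (hrange.le ⟨w, rfl⟩)) (hw.map I.subschemeι.continuous) hgw)
  have hdim : FlatMor.fibreDimAt g x₀ = topologicalKrullDim ↑(closure ({y} : Set ↑X) ∩ f ⁻¹' {f y}) := by
    rw [Groth.Agent.FibSemi.topDim_closure_inter_fibre_eq, ← hy₀,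
      ← Groth.Agent.FlatMor62.AssDim.krullDim_specs_closed f I.subschemeι y₀]
    refine le_antisymm ?_ (Groth.Agent.FlatMor62.AssDim.le_fibreDimAt g hspec)
    rw [Groth.Agent.FlatMor62.AssDim.fibreDimAt_of_fMax g hgmax,
      Groth.Agent.FlatMor62.AssDim.krullDim_specs_closed f I.subschemeι x₀,
      Groth.Agent.FlatMor62.AssDim.krullDim_specs_closed f I.subschemeι y₀, hy₀]
    exact Groth.Agent.FlatMor62.AssDim.krullDim_specs_le f F hFT hy hyx hfl
  rw [← hdim, Groth.Agent.FibSemi.fibreDimAt_eq]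
  let φ : ↥(g ⁻¹' {g x₀}) → ↑(closure ({y} : Set ↑X) ∩ f ⁻¹' {s}) := fun w =>
    ⟨I.subschemeι w.1, hrange.le ⟨w.1, rfl⟩, w.2.trans hxs⟩
  have hφb : Function.Bijective φ := by
    refine ⟨fun a b h => Subtype.ext (I.subschemeι.isClosedEmbedding.injective (show I.subschemeι a.1 = I.subschemeι b.1 from (Subtype.ext_iff (a1 := φ a) (a2 := φ b)).mp h)), ?_⟩
    rintro ⟨z, hz, hzs⟩
    obtain ⟨w, rfl⟩ := hrange.ge hz
    exact ⟨⟨w, hzs.trans hxs.symm⟩, rfl⟩
  have hφi : Topology.IsInducing φ :=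
    Topology.IsInducing.of_comp (by fun_prop) continuous_subtype_val
      (I.subschemeι.isClosedEmbedding.isInducing.comp Topology.IsInducing.subtypeVal)
  let e := (Equiv.ofBijective φ hφb).toHomeomorphOfIsInducing hφi
  exact le_antisymm (Groth.Agent.FibSemi.localDim_homeo e ⟨x₀, rfl⟩) (by
    have h := Groth.Agent.FibSemi.localDim_homeo e.symm (e ⟨x₀, rfl⟩)
    rwa [e.symm_apply_apply] at h)

end Groth.Agent.S1470
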