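import Groth.Statements.S14700
import Groth.Agent.SurfUnion21.Basic
import Groth.Agent.ModPairLib.Divide
import Groth.Agent.FFCurve.NormalCount
import Groth.Agent.DecCurve.Sections
import Groth.Agent.ProjProper.Basic

set_option autoImplicit false
universe u
open CategoryTheory CategoryTheory.Limits AlgebraicGeometry
open Surf

namespace Groth.Agent.S14700

section

open CategoryTheory CategoryTheory.Limits AlgebraicGeometry TopologicalSpace
open Groth.Agent Groth.Agent.HodgeIdx81

set_option linter.style.haveILetI false
set_option linter.unusedSectionVars false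
set_option maxHeartbeats 1000000

variable (k : Type u) [Field k] [IsAlgClosed k] {X : Scheme.{u}} [X.Over (Spec (CommRingCat.of k))]
  [IsProper (X ↘ Spec (CommRingCat.of k))]

include k in
/-- The Euler characteristic of a reduced connected curve. -/
theorem euler_red (J : X.IdealSheafData) [AlgebraicGeometry.IsReduced J.subscheme] [ConnectedSpace J.subscheme]
    (hd : topologicalKrullDim ↥(J.support : Set X) ≤ 1) :
    Curv2.euler k X (ClSub.quotMod J) = 1 - (Module.finrank k (Coh.HH X (ClSub.quotMod J) 1) : ℤ) := by
  letI : J.subscheme.Over (Spec (CommRingCat.of k)) := ⟨J.subschemeι ≫ (X ↘ Spec (CommRingCat.of k))⟩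
  haveI : IsProper (J.subscheme ↘ Spec (CommRingCat.of k)) := inferInstanceAs (IsProper (J.subschemeι ≫ _))
  have hdJ : topologicalKrullDim J.subscheme ≤ 1 := by
    rw [IsHomeomorph.topologicalKrullDim_eq _ (J.subschemeι.isEmbedding.toHomeomorph.trans
      (Homeomorph.setCongr J.range_subschemeι)).isHomeomorph]
    exact hd
  have hq := ProjTwist.isQuasicoherent_structureModule J.subscheme
  have e := (EulerChar.nonempty_pushEquiv (A := k) J.subschemeι rfl (Coh.structureModule J.subscheme) hq 1).some.finrank_eq
  rw [show ClSub.quotMod J = (Scheme.Modules.pushforward J.subschemeι).obj (Coh.structureModule J.subscheme) from rfl,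
    EulerChar.euler_push J.subschemeι rfl _ hq, DecCurve.euler_eq k hdJ]
  simp only [DecCurve.h0, FFCurve.NormalCount.finrank_h0_connected (k := k) J.subscheme]
  push_cast
  exact congrArg (fun n : ℕ => (1 : ℤ) - n) e.symm

end

/-- Let k be an algebraically closed field and X an integral scheme of dimension two with all local
rings regular, admitting a closed immersion into some P^n_k over k. Let C_1, …, C_n be pairwise
distinct integral one-dimensional closed subschemes of X with ideal sheaves I_1, …, I_n, and let Y
be the reduced closed subscheme with ideal I_1 ∩ ⋯ ∩ I_n (their union); assume Y is connected. Then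
χ(O_Y) ≤ 1, i.e. the arithmetic genus 1 - χ(O_Y) of Y is nonnegative. If moreover χ(O_Y) = 1, then
χ(O_{C_i}) = 1 for every i (each C_i has arithmetic genus zero) and Σ_{i<j} (C_i · C_j) = n - 1, so
that the incidence graph of the C_i, which is connected with Σ_{i<j} (C_i · C_j) edges, contains no
cycle; here (C_i · C_j) = χ(O_X) - χ(I_i) - χ(I_j) + χ(I_i ⊗ I_j) is the intersection number
(packaged as FGA.intNum). (The published statement allows any integral projective surface regular in
codimension one; this row takes X with all local rings regular, where the intersection numbers used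
by the proof are defined.) -/
theorem result (k : Type u) [Field k] [IsAlgClosed k] (X : Scheme.{u}) [X.Over (Spec (CommRingCat.of k))]
    [IsIntegral X] (hdim : topologicalKrullDim X = 2)
    (hproj : ∃ (n : ℕ) (ι : X ⟶ CohB1.ProjSpace n k), IsClosedImmersion ι ∧ ι ≫ CohB1.ProjSpace.toSpec n k = (X ↘ (Spec (CommRingCat.of k))))
    (hreg : ∀ x : X, IsRegularLocalRing (X.presheaf.stalk x))
    (n : ℕ) (C : Fin n → X.IdealSheafData) (hCint : ∀ i, IsIntegral (C i).subscheme)
    (hCdim : ∀ i, topologicalKrullDim ((C i).support : Set X) = 1)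
    (hCinj : Function.Injective fun i => ((C i).support : Set X))
    (hconn : _root_.IsConnected ((⨅ i, C i).support : Set X)) :
    Curv2.euler k X (ClSub.quotMod (⨅ i, C i)) ≤ 1 ∧
      (Curv2.euler k X (ClSub.quotMod (⨅ i, C i)) = 1 →
        (∀ i, Curv2.euler k X (ClSub.quotMod (C i)) = 1) ∧
          (∑ i : Fin n, ∑ j : Fin n,
              if i < j then FGA.intNum k X 2 ![ClSub.idealMod (C i), ClSub.idealMod (C j)] (Coh.structureModule X) else 0) =
            (n : ℤ) - 1) := by
  classical
  haveI : IsProper (X ↘ Spec (CommRingCat.of k)) := by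
    obtain ⟨N, i, hi, e⟩ := hproj
    haveI := ProjProper.Basic.isProper_toSpec N k
    rw [← e]; infer_instance
  haveI := EulerChar.isNoetherian k (X := X)
  have hd : topologicalKrullDim X = ((2 : ℕ) : WithBot ℕ∞) := hdim.trans rfl
  have hC1 : ∀ i, topologicalKrullDim ↥((C i).support : Set X) = ((1 : ℕ) : WithBot ℕ∞) :=
    fun i => (hCdim i).trans rfl
  haveI := hCint
  have hCe : ∀ i, BlowUp.IsEffCartierIdeal (C i) := fun i => SurfUnion21.isEffCartier_curve k hd hreg (C i) (hC1 i)
  have hI : ∀ i, PicF.IsInvertible (ClSub.idealMod (C i)) := fun i =>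
    IdealSh.IdealMod.isInvertible_of_isEffCartierIdeal _ (hCe i)
  let η : Fin n → X := fun i => (C i).subschemeι (genericPoint ↥(C i).subscheme)
  have hpt : ∀ i, C i = IntMult.ptIdeal (η i) ∧ closure ({η i} : Set X) = ((C i).support : Set X) :=
    fun i => SurfUnion21.eq_ptIdeal (C i)
  have hnot : ∀ i j, i ≠ j → η i ∉ ((C j).support : Set X) := fun i j hij hm => by
    have h1 : topologicalKrullDim ↥((IntMult.ptIdeal (η i)).support : Set X) = ((1 : ℕ) : WithBot ℕ∞) := by
      rw [← (hpt i).1]; exact hC1 i
    have e := SurfUnion21.ptIdeal_eq (C j) hm (hC1 j) h1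
    rw [← (hpt i).1] at e
    exact hij (hCinj (congrArg (fun I : X.IdealSheafData => (I.support : Set X)) e))
  -- divisor of a finite set of curves
  have key : ∀ S : Finset (Fin n), S.Nonempty → BlowUp.IsEffCartierIdeal (S.inf C) ∧
      (∀ x : X, x ∈ ((S.inf C).support : Set X) → ∃ i ∈ S, x ∈ ((C i).support : Set X)) ∧
      (∀ B : X.Modules, PicF.IsInvertible B → HodgeIdx81.pr k B (ClSub.idealMod (S.inf C)) =
        ∑ i ∈ S, HodgeIdx81.pr k B (ClSub.idealMod (C i))) ∧
      Curv2.euler k X (ClSub.quotMod (S.inf C)) = (∑ i ∈ S, Curv2.euler k X (ClSub.quotMod (C i))) -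
        ∑ i ∈ S, ∑ j ∈ S, if i < j then HodgeIdx81.pr k (ClSub.idealMod (C i)) (ClSub.idealMod (C j)) else 0 := by
    intro S hS
    induction hS using Finset.Nonempty.cons_induction with
    | singleton a =>
      refine ⟨by simpa using hCe a, fun x hx => ⟨a, Finset.mem_singleton_self a, by simpa using hx⟩,
        fun B hB => by simp, by simp⟩
    | cons a S ha hSne ih =>
      obtain ⟨hW, hsupp, hpr, heu⟩ := ih
      rw [Finset.cons_eq_insert]
      set W := S.inf C with hWdef
      have hmul : (insert a S).inf C = W * C a := by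
        rw [Finset.inf_insert, ← hWdef]
        let A := C a ⊓ W
        have hA : A ≤ C a := inf_le_left
        have e := ModPairLib.Divide.quot_mul_eq (hCe a) hA
        set Q := ModPairLib.Divide.quot A (C a) (ModPairLib.Divide.isFiniteTypeIdeal_of_effCartier (hCe a))
        have hQ : Q ≤ W := by
          refine Finset.le_inf fun i hi => ?_
          have hne : i ≠ a := fun h => ha (h ▸ hi)
          have h1 : Q * C a ≤ C i := (e.le.trans inf_le_right).trans (Finset.inf_le hi)
          have h2 : η i ∈ ((Q * C a).support : Set X) :=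
            Scheme.IdealSheafData.support_antitone h1 ((hpt i).2.le (subset_closure rfl))
          rw [Scheme.IdealSheafData.support_mul] at h2
          have h3 : η i ∈ (Q.support : Set X) := (show η i ∈ (Q.support : Set X) ∨ η i ∈ ((C a).support : Set X) from h2).resolve_right (hnot i a hne)
          rw [(hpt i).1]
          exact Scheme.IdealSheafData.le_support_iff_le_vanishingIdeal.1
            (closure_minimal (Set.singleton_subset_iff.2 h3) Q.support.isClosed)
        refine le_antisymm ?_ (le_inf (SurfUnion21.mul_le_right' W (C a))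
          (ModPairLib.Divide.mul_le_left W (C a)))
        exact e.ge.trans (ModPairLib.Divide.mul_mono hQ le_rfl)
      have hprn : ∀ B : X.Modules, PicF.IsInvertible B → HodgeIdx81.pr k B (ClSub.idealMod ((insert a S).inf C)) =
          ∑ i ∈ insert a S, HodgeIdx81.pr k B (ClSub.idealMod (C i)) := fun B hB => by
        rw [hmul, SurfUnion21.pr_mul k hd hW (hCe a) hB, hpr B hB, Finset.sum_insert ha, add_comm]
      refine ⟨hmul ▸ IdealSh.EffCartier.mul hW (hCe a), fun x hx => ?_, hprn, ?_⟩
      · rw [hmul, Scheme.IdealSheafData.support_mul] at hx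
        rcases hx with h | h
        · obtain ⟨i, hi, hxi⟩ := hsupp x h
          exact ⟨i, Finset.mem_insert_of_mem hi, hxi⟩
        · exact ⟨a, Finset.mem_insert_self a S, h⟩
      · rw [hmul, SurfUnion21.euler_mul k hd hW (hCe a), heu, HodgeIdx81.pr_comm k (ClSub.idealMod W),
          hpr _ (hI a)]
        simp only [Finset.sum_insert ha, lt_irrefl, if_false, zero_add, Finset.sum_add_distrib]
        have : ∑ i ∈ S, HodgeIdx81.pr k (ClSub.idealMod (C a)) (ClSub.idealMod (C i)) =
            (∑ i ∈ S, if a < i then HodgeIdx81.pr k (ClSub.idealMod (C a)) (ClSub.idealMod (C i)) else 0) +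
            ∑ i ∈ S, if i < a then HodgeIdx81.pr k (ClSub.idealMod (C i)) (ClSub.idealMod (C a)) else 0 := by
          rw [← Finset.sum_add_distrib]
          refine Finset.sum_congr rfl fun i hi => ?_
          rcases lt_trichotomy a i with h | h | h
          · rw [if_pos h, if_neg h.le.not_gt, add_zero]
          · exact absurd (h ▸ hi) ha
          · rw [if_neg h.le.not_gt, if_pos h, zero_add, HodgeIdx81.pr_comm]
        linarith
  obtain ⟨y, hy⟩ := hconn.nonempty
  haveI : Nonempty (Fin n) := by
    by_contra hh
    rw [not_nonempty_iff] at hh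
    rw [iInf_of_empty C, Scheme.IdealSheafData.support_top] at hy
    exact hy
  set Y := ⨅ i, C i with hYdef
  have hYinf : Finset.univ.inf C = Y := by rw [hYdef, Finset.inf_univ_eq_iInf]
  obtain ⟨hYe, hYs, -, hYeu⟩ := key Finset.univ Finset.univ_nonempty
  rw [hYinf] at hYe hYs hYeu
  have hne : ∀ x : X, x = genericPoint X → x ∉ (Y.support : Set X) := fun x hx hs => by
    obtain ⟨i, -, hi⟩ := hYs x hs
    have huniv : ((C i).support : Set X) = Set.univ := Set.univ_subset_iff.1 ((genericPoint_spec X).def ▸
      closure_minimal (Set.singleton_subset_iff.2 (hx ▸ hi)) (C i).support.isClosed)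
    have h := hC1 i
    rw [huniv, IsHomeomorph.topologicalKrullDim_eq _ (Homeomorph.Set.univ X).isHomeomorph, hd] at h
    exact absurd h (by decide)
  have hYd : topologicalKrullDim ↥(Y.support : Set X) ≤ ((1 : ℕ) : WithBot ℕ∞) :=
    SurfUnion21.dim_le_one hd Y.support.isClosed fun hu => hne _ rfl (hu ▸ Set.mem_univ (genericPoint X))
  haveI : AlgebraicGeometry.IsReduced Y.subscheme := by
    have hr : Y = Scheme.IdealSheafData.vanishingIdeal Y.support := by
      rw [Scheme.IdealSheafData.vanishingIdeal_support]
      refine le_antisymm Y.le_radical (le_iInf fun i => ?_)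
      refine le_trans (b := (C i).radical) (fun U => Ideal.radical_mono ((iInf_le C i : Y ≤ C i) U)) (le_of_eq ?_)
      rw [← Scheme.IdealSheafData.vanishingIdeal_support, (hpt i).1]
      exact congrArg Scheme.IdealSheafData.vanishingIdeal (TopologicalSpace.Closeds.ext (CohDev.coe_support_ptIdeal _))
    rw [hr]
    exact RedSub.isReduced_vanishingIdeal _
  haveI : ConnectedSpace Y.subscheme := by
    haveI : ConnectedSpace ↥(Y.support : Set X) := isConnected_iff_connectedSpace.1 hconn
    let E := Y.subschemeι.isEmbedding.toHomeomorph.trans (Homeomorph.setCongr Y.range_subschemeι)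
    exact E.symm.surjective.connectedSpace E.symm.continuous
  have hχ := euler_red k Y (hYd.trans le_rfl)
  refine ⟨by omega, fun h1 => ?_⟩
  haveI : Subsingleton (Coh.HH X (ClSub.quotMod Y) 1) := by
    haveI := EulerChar.finite_HH k _ (EulerChar.isCoh_quotMod k Y) 1
    exact (Module.finrank_zero_iff (R := k)).1 (by omega)
  have hone : ∀ i, Curv2.euler k X (ClSub.quotMod (C i)) = 1 := fun i => by
    have e := ModPairLib.Divide.quot_mul_eq (hCe i) (iInf_le C i : Y ≤ C i)
    set Q := ModPairLib.Divide.quot Y (C i) (ModPairLib.Divide.isFiniteTypeIdeal_of_effCartier (hCe i))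
    have hQe : BlowUp.IsEffCartierIdeal Q := IdealSh.EffCartier.factor_left (𝓙 := C i) (by rw [e]; exact hYe)
    have e : C i * Q = Y := (mul_comm _ _).trans e
    have hQd : topologicalKrullDim ↥(Q.support : Set X) ≤ ((1 : ℕ) : WithBot ℕ∞) :=
      (TopDimLib.topDim_le_of_subset (fun x hx =>
        (congrArg (fun I : X.IdealSheafData => (I.support : Set X)) e).le (Or.inr hx))).trans hYd
    haveI := SurfUnion21.subsingleton_sub k (hCe i) hQe hQd (by rw [e]; infer_instance)
    haveI : ConnectedSpace (C i).subscheme := inferInstance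
    rw [euler_red k (C i) (hC1 i).le, Module.finrank_zero_of_subsingleton]
    simp
  refine ⟨hone, ?_⟩
  rw [h1, Finset.sum_congr rfl fun i _ => hone i] at hYeu
  simp only [Finset.sum_const, Finset.card_univ, Fintype.card_fin, nsmul_eq_mul, mul_one] at hYeu
  have : (∑ i : Fin n, ∑ j : Fin n, if i < j then FGA.intNum k X 2 ![ClSub.idealMod (C i), ClSub.idealMod (C j)] (Coh.structureModule X) else 0) =
      ∑ i : Fin n, ∑ j : Fin n, if i < j then HodgeIdx81.pr k (ClSub.idealMod (C i)) (ClSub.idealMod (C j)) else 0 :=
    Finset.sum_congr rfl fun i _ => Finset.sum_congr rfl fun j _ => by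
      split_ifs
      · exact HodgeIdx81.intNum_eq_pr k hd (hI i) (hI j)
      · rfl
  rw [this]
  linarith

end Groth.Agent.S14700
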