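import Groth.Statements.S1471
-- import your own Groth.Agent.* helpers here

set_option autoImplicit false
universe u
open FlatMor

namespace Groth.Agent.S1471

open AlgebraicGeometry CategoryTheory Limits in
/-- Let f : X → Y and η a generic point of an irreducible component of Y. Then the fibre over η of the
composite X_red → X → Y is reduced; since it is a closed subscheme of X_η with the same underlying
set, this says (X_η)_red = (X_red)_η. -/
theorem result {X Y : Scheme.{u}} (f : X ⟶ Y) (η : Y) (W : Set ↑Y) (hW : W ∈ irreducibleComponents ↑Y) (hη : IsGenericPoint η W) :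
    IsReduced ((X.nilradical.subschemeι ≫ f).fiber η) := by
  have hnil : ∀ a ∈ IsLocalRing.maximalIdeal (Y.presheaf.stalk η), IsNilpotent a := by
    intro a ha
    rw [nilpotent_iff_mem_prime]
    intro P hP
    let q : Spec (Y.presheaf.stalk η) := ⟨P, hP⟩
    have hq : Y.fromSpecStalk η q ⤳ η := by
      have := Set.mem_range_self (f := Y.fromSpecStalk η) q
      rwa [Scheme.range_fromSpecStalk] at this
    have h2 : W ⊆ closure {Y.fromSpecStalk η q} := by
      rw [← hη.def]
      exact closure_minimal (Set.singleton_subset_iff.mpr (specializes_iff_mem_closure.mp hq)) isClosed_closure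
    have h3 : closure {Y.fromSpecStalk η q} ⊆ W := hW.2 (isIrreducible_singleton.closure) h2
    have h4 : η ⤳ Y.fromSpecStalk η q := hη.specializes (h3 (subset_closure rfl))
    have h5 : q = IsLocalRing.closedPoint (Y.presheaf.stalk η) :=
      (Y.fromSpecStalk η).isEmbedding.injective
        ((hq.antisymm h4).eq.trans Scheme.fromSpecStalk_closedPoint.symm)
    have h6 : P = IsLocalRing.maximalIdeal (Y.presheaf.stalk η) := congr_arg PrimeSpectrum.asIdeal h5
    rwa [h6]
  let g := X.nilradical.subschemeι ≫ f
  have hred : IsReduced X.nilradical.subscheme := by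
    have : ∀ y : X.nilradical.subscheme, _root_.IsReduced (X.nilradical.subscheme.presheaf.stalk y) := by
      intro y
      obtain ⟨U, z, rfl⟩ := X.nilradical.subschemeCover.openCover.exists_eq y
      have : IsReduced (X.nilradical.subschemeCover.openCover.X U) := by
        have : _root_.IsReduced (CommRingCat.of (Γ(X, U.1) ⧸ X.nilradical.ideal U)) := by
          change _root_.IsReduced (Γ(X, U.1) ⧸ X.nilradical.ideal U)
          rw [← Ideal.isRadical_iff_quotient_reduced]
          simp [Scheme.nilradical, Scheme.IdealSheafData.radical, Ideal.radical_isRadical]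
        exact inferInstanceAs (IsReduced (Spec (CommRingCat.of (Γ(X, U.1) ⧸ X.nilradical.ideal U))))
      exact isReduced_of_injective ((X.nilradical.subschemeCover.openCover.f U).stalkMap z).hom
        (ConcreteCategory.bijective_of_isIso ((X.nilradical.subschemeCover.openCover.f U).stalkMap z)).1
    exact isReduced_of_isReduced_stalk _
  have : ∀ z : g.fiber η, _root_.IsReduced ((g.fiber η).presheaf.stalk z) := by
    intro z
    let ι := g.fiberι η
    let w := ι z
    let R := X.nilradical.subscheme.presheaf.stalk w
    have hgw : g w = η := by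
      have := Set.mem_range_self (f := ι) z
      rw [show Set.range ι = g ⁻¹' {η} from g.range_fiberι η] at this
      exact this
    let φ : Y.presheaf.stalk η ⟶ R := (Y.presheaf.stalkCongr (Inseparable.of_eq hgw.symm)).hom ≫ g.stalkMap w
    have hφ : ∀ a ∈ IsLocalRing.maximalIdeal (Y.presheaf.stalk η), φ.hom a = 0 := fun a ha ↦
      ((hnil a ha).map φ.hom).eq_zero
    let ψ : Y.residueField η ⟶ R := CommRingCat.ofHom (Ideal.Quotient.lift _ φ.hom hφ)
    have hψ : Y.residue η ≫ ψ = φ := by
      ext a
      exact Ideal.Quotient.lift_mk _ φ.hom hφ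
    have hfac : Spec.map φ ≫ Y.fromSpecStalk η = X.nilradical.subscheme.fromSpecStalk w ≫ g := by
      rw [Spec.map_comp, Category.assoc]
      rw [← Scheme.SpecMap_stalkMap_fromSpecStalk g]
      congr 1
      exact Scheme.SpecMap_stalkSpecializes_fromSpecStalk (specializes_of_eq hgw)
    have hcond : X.nilradical.subscheme.fromSpecStalk w ≫ g = Spec.map ψ ≫ Y.fromSpecResidueField η := by
      rw [← hfac, Scheme.fromSpecResidueField, ← Spec.map_comp_assoc, hψ]
    let l : Spec R ⟶ g.fiber η := Limits.pullback.lift _ _ hcond
    have hl : l ≫ ι = X.nilradical.subscheme.fromSpecStalk w := Limits.pullback.lift_fst _ _ _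
    have hlz : l (IsLocalRing.closedPoint R) = z := ι.isEmbedding.injective (by
      rw [← Scheme.Hom.comp_apply, hl, Scheme.fromSpecStalk_closedPoint])
    let ρ : (g.fiber η).presheaf.stalk z ⟶ R :=
      ((g.fiber η).presheaf.stalkCongr (Inseparable.of_eq hlz.symm)).hom ≫ Scheme.stalkClosedPointTo l
    have hρ : Spec.map ρ ≫ (g.fiber η).fromSpecStalk z = l := by
      conv_rhs => rw [← Scheme.Spec_stalkClosedPointTo_fromSpecStalk l]
      rw [Spec.map_comp, Category.assoc]
      congr 1
      exact Scheme.SpecMap_stalkSpecializes_fromSpecStalk (specializes_of_eq hlz)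
    have hid : ι.stalkMap z ≫ ρ = 𝟙 _ := by
      apply Spec.map_injective
      rw [Spec.map_id, Spec.map_comp, ← cancel_mono (X.nilradical.subscheme.fromSpecStalk w), Category.assoc,
        Scheme.SpecMap_stalkMap_fromSpecStalk, reassoc_of% hρ, hl, Category.id_comp]
    refine isReduced_of_injective ρ.hom ?_
    intro a b hab
    obtain ⟨a, rfl⟩ := ι.stalkMap_surjective z a
    obtain ⟨b, rfl⟩ := ι.stalkMap_surjective z b
    have ha := congr($(hid).hom a)
    have hb := congr($(hid).hom b)
    simp only [CommRingCat.hom_comp, RingHom.comp_apply, CommRingCat.hom_id, RingHom.id_apply] at ha hb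
    rw [← ha, hab, hb]
  exact isReduced_of_isReduced_stalk _

end Groth.Agent.S1471
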