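import Groth.Statements.S14712
import Groth.Agent.GITLib.FibrePts
import Groth.Agent.GrpdLib.SepExt
import Groth.Agent.GrpScheme.Homogeneous
import Groth.Agent.GrpScheme.Rosenlicht.Group
import Groth.Agent.RedPts.Basic

set_option linter.style.haveILetI false
set_option backward.isDefEq.respectTransparency false
-- import your own Groth.Agent.* helpers here

set_option autoImplicit false
universe u
open CategoryTheory MonoidalCategory CartesianMonoidalCategory MonObj GrpObj AlgebraicGeometry Topology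
open GIT

namespace Groth.Agent.S14712

open GITLib

/-- Morphisms over a scheme affine over the base agree if they agree on rational points. -/
theorem ext_points {k : Type u} [Field k] [IsAlgClosed k] {T V X : Over (Spec (CommRingCat.of k))}
    [LocallyOfFiniteType T.hom] [AlgebraicGeometry.IsReduced T.left] (π : V ⟶ X) [IsSeparated π.left]
    (f g : T ⟶ V) (he : f ≫ π = g ≫ π) (h : ∀ x : FibrePts.Pt k ⟶ T, x ≫ f = x ≫ g) : f = g := by
  let Y : Over (Spec (CommRingCat.of k)) := Over.mk (Limits.pullback.fst π.left π.left ≫ V.hom)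
  let m : T ⟶ Y := Over.homMk (Limits.pullback.lift f.left g.left (by rw [← Over.comp_left, he, Over.comp_left]))
    (by
      show Limits.pullback.lift _ _ _ ≫ Limits.pullback.fst π.left π.left ≫ V.hom = T.hom
      rw [Limits.pullback.lift_fst_assoc, Over.w f])
  let c : V ⟶ Y := Over.homMk (Limits.pullback.diagonal π.left) (by
    show Limits.pullback.diagonal π.left ≫ Limits.pullback.fst π.left π.left ≫ V.hom = V.hom
    rw [Limits.pullback.diagonal_fst_assoc])
  haveI : IsClosedImmersion c.left := inferInstanceAs (IsClosedImmersion (Limits.pullback.diagonal π.left))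
  obtain ⟨l, hl⟩ := GrpdLib.SepExt.exists_factor_algClosed k k m c fun x => ⟨x ≫ f, Over.OverMorphism.ext (by
    apply Limits.pullback.hom_ext
    · simp [m, c]
    · have h2 : (x ≫ f).left = (x ≫ g).left := congrArg (fun q => q.left) (h x)
      simp only [Over.comp_left] at h2
      simp [m, c]
      try exact h2)⟩
  have e := congrArg (fun q => q.left) hl
  have e1 := congrArg (· ≫ Limits.pullback.fst π.left π.left) e
  have e2 := congrArg (· ≫ Limits.pullback.snd π.left π.left) e
  simp [m, c] at e1 e2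
  exact Over.OverMorphism.ext (e1.symm.trans e2)

/-- The total space of a line bundle over a reduced scheme is reduced. -/
theorem isReduced_of_linAtlas {S : Scheme.{u}} {V X : Over S} {π : V ⟶ X} (A : GLinSh.LinAtlas π)
    [AlgebraicGeometry.IsReduced X.left] : AlgebraicGeometry.IsReduced V.left := by
  haveI := A.affine
  haveI hst : ∀ v : V.left, _root_.IsReduced (V.left.presheaf.stalk v) := by
    intro v
    obtain ⟨U, hxU, y, hy⟩ := A.cover (π.left.base v)
    obtain ⟨W, hW, hxW, hWU⟩ := exists_isAffineOpen_mem_and_subset hxU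
    have hO : IsAffineOpen (π.left ⁻¹ᵁ W) := hW.preimage π.left
    let e := RingEquiv.ofBijective _ (A.coord U y hy W hW hWU)
    haveI : _root_.IsReduced (Polynomial Γ(X.left, W)) :=
      ⟨fun P hP => Polynomial.ext fun i => by
        rw [Polynomial.coeff_zero]; exact (Polynomial.isNilpotent_iff.mp hP i).eq_zero⟩
    haveI : _root_.IsReduced Γ(V.left, π.left ⁻¹ᵁ W) := isReduced_of_injective e.symm e.symm.injective
    let := TopCat.Presheaf.algebra_section_stalk V.left.presheaf (⟨v, hxW⟩ : ↥(π.left ⁻¹ᵁ W))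
    have := hO.isLocalization_stalk ⟨v, hxW⟩
    exact isReduced_localizationPreserves (R := Γ(V.left, π.left ⁻¹ᵁ W))
      (hO.primeIdealOf ⟨v, hxW⟩).asIdeal.primeCompl (V.left.presheaf.stalk v) ‹_›
  exact isReduced_of_isReduced_stalk V.left

/-- Units with value one at the unit are trivial when there are no characters. -/
theorem eq_one_of_unit {k : Type u} [Field k] [IsAlgClosed k] (G : Over (Spec (CommRingCat.of k))) [GrpObj G]
    [AlgebraicGeometry.IsIntegral G.left] [LocallyOfFiniteType G.hom]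
    (hχ : ∀ (χ : G ⟶ Red.Gm (Spec (CommRingCat.of k))) [IsMonHom χ], χ = 1)
    (f : Γ(G.left, ⊤)) (hf : IsUnit f) (he : GrpScheme.Rosenlicht.pb η[G] f = 1) : f = 1 := by
  obtain ⟨χ, hχf⟩ := RedPts.gm_surjective (S := Spec (CommRingCat.of k)) (X := G) hf
  have h1 : ∀ {Z : Over (Spec (CommRingCat.of k))}, Red.gmFn (1 : Z ⟶ Red.Gm (Spec (CommRingCat.of k))) = 1 := by
    intro Z
    have h := RedPts.gm_mul (1 : Z ⟶ Red.Gm (Spec (CommRingCat.of k))) 1
    rw [_root_.mul_one] at h
    exact (RedPts.gm_isUnit _).mul_eq_right.mp h.symm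
  haveI : IsMonHom χ :=
    { one_hom := RedPts.gm_injective (by
        rw [RedPts.gm_comp, hχf]
        exact he.trans ((congrArg Red.gmFn (by rw [Hom.one_def, toUnit_unique (toUnit _) (𝟙 _), Category.id_comp])).trans h1).symm)
      mul_hom := RedPts.gm_injective (by
        rw [RedPts.gm_comp, hχf]
        have : (χ ⊗ₘ χ) ≫ μ[Red.Gm (Spec (CommRingCat.of k))] = (fst G G ≫ χ) * (snd G G ≫ χ) := by
          rw [Hom.mul_def]
          congr 1
        rw [this, RedPts.gm_mul, RedPts.gm_comp, RedPts.gm_comp, hχf]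
        exact GrpScheme.Rosenlicht.mul_eq_of_unit G f hf he) }
  rw [← hχf, hχ χ, h1]

/-- Over an algebraically closed field k, let G be a connected algebraic group (a smooth connected group
scheme of finite type) admitting no non-trivial homomorphism to the multiplicative group, acting on
a reduced scheme X of finite type over k (not necessarily separated), and let π : V → X be a line
bundle over X in total-space form (an affine morphism with a linear atlas of fibre coordinates).
Then any two liftings of the action to fibrewise-linear bundle actions of G on V coincide: an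
invertible sheaf on X admits at most one G-linearisation. (The published statement is over an
arbitrary field, with X geometrically reduced and the character condition imposed after extension to
an algebraically closed field; this row is the case of an algebraically closed ground field, to
which the published proof reduces. L is taken in total-space form: a linearisation is a lifted
bundle action.) -/
theorem result (k : Type u) [Field k] [IsAlgClosed k]
    (G X V : Over (Spec (CommRingCat.of k))) [GrpObj G]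
    [Smooth G.hom] [LocallyOfFiniteType G.hom] [QuasiCompact G.hom] [ConnectedSpace G.left]
    (hχ : ∀ (χ : G ⟶ Red.Gm (Spec (CommRingCat.of k))) [IsMonHom χ], χ = 1)
    [LocallyOfFiniteType X.hom] [QuasiCompact X.hom] [IsReduced X.left]
    (a : AlgGrp.Action G X) (π : V ⟶ X) (A : GLinSh.LinAtlas π)
    (Φ₁ Φ₂ : AlgGrp.Action G V) (h₁ : Φ₁.act ≫ π = (G ◁ π) ≫ a.act) (h₂ : Φ₂.act ≫ π = (G ◁ π) ≫ a.act)
    (hl₁ : GLinSh.IsLinearLift a π Φ₁ A.chart h₁) (hl₂ : GLinSh.IsLinearLift a π Φ₂ A.chart h₂) :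
    Φ₁.act = Φ₂.act := by
  haveI := A.affine
  haveI : AlgebraicGeometry.IsIntegral G.left := GrpScheme.Rosenlicht.isIntegral_group G
  haveI : AlgebraicGeometry.IsReduced V.left := isReduced_of_linAtlas A
  haveI : AlgebraicGeometry.IsReduced (G ⊗ V).left := by
    haveI : Smooth (snd G V).left := inferInstanceAs (Smooth (Limits.pullback.snd G.hom V.hom))
    exact GrpScheme.Homogeneous.isReduced_of_smooth (snd G V).left
  haveI : LocallyOfFiniteType π.left := by
    refine (HasRingHomProperty.iff_exists_appLE (P := @LocallyOfFiniteType)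
      (RingHom.finiteType_stableUnderComposition.stableUnderCompositionWithLocalizationAway RingHom.finiteType_holdsForLocalizationAway).left).mpr fun v => ?_
    obtain ⟨U, hxU, y, hy⟩ := A.cover (π.left.base v)
    obtain ⟨W, hW, hxW, hWU⟩ := exists_isAffineOpen_mem_and_subset hxU
    refine ⟨⟨W, hW⟩, ⟨π.left ⁻¹ᵁ W, hW.preimage π.left⟩, hxW, le_rfl, ?_⟩
    rw [← Scheme.Hom.app_eq_appLE]
    let e := RingEquiv.ofBijective _ (A.coord U y hy W hW hWU)
    have h : (π.left.app W).hom = e.toRingHom.comp Polynomial.C :=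
      RingHom.ext fun z => (Polynomial.eval₂_C _ _).symm
    rw [h]
    exact (RingHom.FiniteType.of_surjective e.toRingHom e.surjective).comp
      (RingHom.finiteType_algebraMap.mpr (inferInstanceAs (Algebra.FiniteType _ (Polynomial _))))
  haveI : LocallyOfFiniteType V.hom := by
    rw [← Over.w π]; infer_instance
  haveI : LocallyOfFiniteType (G ⊗ V).hom := GrpdLib.SepExt.tensor_lft k G V
  let B₁ : GLinSh.LinBun G a := ⟨V, π, A, Φ₁, h₁, hl₁⟩
  let B₂ : GLinSh.LinBun G a := ⟨V, π, A, Φ₂, h₂, hl₂⟩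
  have hπ₁ : ∀ {T : Over (Spec (CommRingCat.of k))} (g : T ⟶ G) (v : T ⟶ V),
      (lift g v ≫ Φ₁.act) ≫ π = lift g (v ≫ π) ≫ a.act := fun g v => HM.lift_π_pt B₁ g v
  have hπ₂ : ∀ {T : Over (Spec (CommRingCat.of k))} (g : T ⟶ G) (v : T ⟶ V),
      (lift g v ≫ Φ₂.act) ≫ π = lift g (v ≫ π) ≫ a.act := fun g v => HM.lift_π_pt B₂ g v
  refine ext_points π _ _ (h₁.trans h₂.symm) fun z => ?_
  obtain ⟨g₀, v, rfl⟩ : ∃ g v, z = lift g v := ⟨z ≫ fst G V, z ≫ snd G V, (lift_comp_fst_snd z).symm⟩
  let x := v ≫ π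
  obtain ⟨U, hxU, y, hy⟩ := A.cover (x.left (IsLocalRing.closedPoint k))
  have hxU' : ⊤ ≤ x.left ⁻¹ᵁ U := FibrePts.le_preimage_of_closedPoint x hxU
  haveI : IsIso (toUnit (FibrePts.Pt (k := k) k)) := by
    haveI : IsIso ((Over.forget _).map (toUnit (FibrePts.Pt (k := k) k))) := by
      show IsIso (Spec.map (CommRingCat.ofHom (algebraMap k k)))
      exact inferInstanceAs (IsIso (Spec.map (𝟙 (CommRingCat.of k))))
    exact isIso_of_reflects_iso _ (Over.forget (Spec (CommRingCat.of k)))
  let vG : G ⟶ V := toUnit G ≫ CategoryTheory.inv (toUnit (FibrePts.Pt (k := k) k)) ≫ v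
  let ψ : G ⟶ V := lift ((𝟙 G)⁻¹) (lift (𝟙 G) vG ≫ Φ₁.act) ≫ Φ₂.act
  have hvG : ∀ (g : FibrePts.Pt k ⟶ G), g ≫ vG = v := fun g => by
    show g ≫ toUnit G ≫ inv (toUnit (FibrePts.Pt k)) ≫ v = v
    rw [← Category.assoc, toUnit_unique (g ≫ toUnit G) (toUnit _), IsIso.hom_inv_id_assoc]
  have hψπ : ψ ≫ π = vG ≫ π := by
    show (lift ((𝟙 G)⁻¹) (lift (𝟙 G) vG ≫ Φ₁.act) ≫ Φ₂.act) ≫ π = _
    rw [hπ₂, hπ₁, ← AlgGrp.Action.lift_mul_act, inv_mul_cancel, AlgGrp.Action.lift_one_act]
  have hψpt : ∀ g : FibrePts.Pt k ⟶ G, g ≫ ψ = lift g⁻¹ (lift g v ≫ Φ₁.act) ≫ Φ₂.act := fun g => by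
    show g ≫ lift ((𝟙 G)⁻¹) (lift (𝟙 G) vG ≫ Φ₁.act) ≫ Φ₂.act = _
    simp only [comp_lift_assoc, GrpObj.comp_inv, Category.comp_id, hvG]
  have hψv : ∀ g : FibrePts.Pt k ⟶ G, (g ≫ ψ) ≫ π = x := fun g => by
    rw [Category.assoc, hψπ, ← Category.assoc, hvG]
  have hψU : ⊤ ≤ ψ.left ⁻¹ᵁ (π.left ⁻¹ᵁ U) := by
    intro z _
    show (ψ ≫ π).left.base z ∈ U
    rw [hψπ]
    exact hxU' (Set.mem_univ ((toUnit G ≫ inv (toUnit (FibrePts.Pt k))).left.base z))
  let c₀ : k := FibrePts.ev π y v (FibrePts.le_of_eq_comp rfl hxU')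
  let F : Γ(G.left, ⊤) := HMNum.evalFn π y ψ hψU
  have hF : ∀ g : FibrePts.Pt k ⟶ G, FibrePts.evTop F g =
      FibrePts.ev π y (g ≫ ψ) (FibrePts.le_of_eq_comp (hψv g) hxU') := fun g => by
    show FibrePts.gl k (g.left.appTop (HMNum.evalFn π y ψ hψU)) = _
    rw [← FibrePts.evalFn_comp π y g ψ hψU]
    rfl
  haveI : IsSeparated π.left := inferInstance
  -- translates are multiples
  have hlin : ∀ g : FibrePts.Pt k ⟶ G, ∃ r r' : k,
      FibrePts.evTop F g = r * c₀ ∧ c₀ = r' * FibrePts.evTop F g := by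
    intro g
    obtain ⟨U', hU', y', hy'⟩ := A.cover ((lift g x ≫ a.act).left (IsLocalRing.closedPoint k))
    have hU'' : ⊤ ≤ (lift g x ≫ a.act).left ⁻¹ᵁ U' := FibrePts.le_preimage_of_closedPoint _ hU'
    let w := lift g v ≫ Φ₁.act
    have hw : w ≫ π = lift g x ≫ a.act := hπ₁ g v
    have hback : lift g⁻¹ (lift g x ≫ a.act) ≫ a.act = x := by
      rw [← AlgGrp.Action.lift_mul_act, inv_mul_cancel, AlgGrp.Action.lift_one_act]
    have hback' : ⊤ ≤ (lift g⁻¹ (lift g x ≫ a.act) ≫ a.act).left ⁻¹ᵁ U := by rw [hback]; exact hxU'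
    obtain ⟨r₁, hr₁⟩ := FibrePts.translate_ev B₁ hy hy' g x hxU' hU''
    obtain ⟨r₁', hr₁'⟩ := FibrePts.translate_ev B₁ hy' hy g⁻¹ (lift g x ≫ a.act) hU'' hback'
    obtain ⟨r₂, hr₂⟩ := FibrePts.translate_ev B₂ hy hy' g x hxU' hU''
    obtain ⟨r₂', hr₂'⟩ := FibrePts.translate_ev B₂ hy' hy g⁻¹ (lift g x ≫ a.act) hU'' hback'
    refine ⟨r₂' * r₁, r₁' * r₂, ?_, ?_⟩
    · rw [hF, FibrePts.ev_congr π y (hψpt g) _ (FibrePts.le_of_eq_comp (by rw [← hψpt g]; exact hψv g) hxU')]
      refine (hr₂' w hw).trans ?_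
      rw [_root_.mul_assoc]
      exact congrArg (r₂' * ·) (hr₁ v rfl)
    · have e2 : lift g (g ≫ ψ) ≫ Φ₂.act = w := by
        rw [hψpt, ← AlgGrp.Action.lift_mul_act, mul_inv_cancel, AlgGrp.Action.lift_one_act]
      have e1 : v = lift g⁻¹ w ≫ Φ₁.act := by
        rw [← AlgGrp.Action.lift_mul_act, inv_mul_cancel, AlgGrp.Action.lift_one_act]
      rw [hF, _root_.mul_assoc]
      refine (FibrePts.ev_congr π y e1 _ (FibrePts.le_of_eq_comp (by rw [hπ₁, hw, hback]) hxU')).trans
        ((hr₁' w hw).trans (congrArg (r₁' * ·) ?_))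
      refine (FibrePts.ev_congr π y' e2.symm _ (FibrePts.le_of_eq_comp (by rw [hπ₂, hψv]) hU'')).trans ?_
      exact hr₂ (g ≫ ψ) (hψv g)
  -- the value is constant
  have hconst : FibrePts.evTop F g₀ = c₀ := by
    by_cases hc : c₀ = 0
    · obtain ⟨r, -, hr, -⟩ := hlin g₀
      rw [hr, hc, mul_zero]
    · let f : Γ(G.left, ⊤) := F * GrpScheme.Rosenlicht.cst G c₀⁻¹
      have hcst : ∀ (g : FibrePts.Pt k ⟶ G) (d : k), FibrePts.evTop (GrpScheme.Rosenlicht.cst G d) g = d := by
        intro g d
        show FibrePts.gl k (GrpScheme.Rosenlicht.pb g (GrpScheme.Rosenlicht.cst G d)) = d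
        rw [GrpScheme.Rosenlicht.pb_cst]
        show ((Scheme.ΓSpecIso (CommRingCat.of k)).inv ≫ (Spec.map (CommRingCat.ofHom (algebraMap k k))).appTop ≫
          (Scheme.ΓSpecIso (CommRingCat.of k)).hom) d = d
        rw [Scheme.ΓSpecIso_naturality, Iso.inv_hom_id_assoc]
        rfl
      have hfev : ∀ g : FibrePts.Pt k ⟶ G, FibrePts.evTop f g = FibrePts.evTop F g * c₀⁻¹ := fun g => by
        have hm : ∀ p q : Γ(G.left, ⊤), FibrePts.evTop (p * q) g = FibrePts.evTop p g * FibrePts.evTop q g :=
          fun p q => by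
            show FibrePts.gl k (g.left.appTop (p * q)) = _
            rw [map_mul, map_mul]; rfl
        rw [hm, hcst]
      have hne : ∀ g : FibrePts.Pt k ⟶ G, FibrePts.evTop f g ≠ 0 := fun g h0 => by
        obtain ⟨-, r', -, hr'⟩ := hlin g
        rw [hfev] at h0
        rcases mul_eq_zero.mp h0 with h | h
        · rw [h, mul_zero] at hr'; exact hc hr'
        · exact inv_ne_zero hc h
      have hfu : IsUnit f := by
        haveI := LocallyOfFiniteType.jacobsonSpace G.hom
        have hall : G.left.basicOpen f = ⊤ := by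
          apply TopologicalSpace.Opens.ext
          rw [TopologicalSpace.Opens.coe_top, ← Set.compl_empty_iff]
          by_contra hne'
          obtain ⟨p, hp, hpc⟩ := nonempty_inter_closedPoints (Set.nonempty_iff_ne_empty.mpr hne')
            (G.left.basicOpen f).2.isClosed_compl.isLocallyClosed
          let g : FibrePts.Pt k ⟶ G := Over.homMk (pointOfClosedPoint G.hom p hpc)
            ((pointOfClosedPoint_comp G.hom p hpc).trans (by
              show _ = Spec.map (𝟙 (CommRingCat.of k))
              rw [Spec.map_id]))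
          apply hp
          have hu : IsUnit (FibrePts.evTop f g) := isUnit_iff_ne_zero.mpr (hne g)
          have hu' : IsUnit (g.left.appTop f) := by
            have h2 := hu.map (RingEquiv.ofBijective _ (FibrePts.gl_bijective (k := k) k)).symm
            rwa [show (FibrePts.evTop f g) = (RingEquiv.ofBijective _ (FibrePts.gl_bijective (k := k) k))
              (g.left.appTop f) from rfl, RingEquiv.symm_apply_apply] at h2
          have h3 : g.left ⁻¹ᵁ G.left.basicOpen f = ⊤ := by
            rw [Scheme.preimage_basicOpen_top, Scheme.basicOpen_of_isUnit _ hu']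
          have h4 : (IsLocalRing.closedPoint k : (FibrePts.Pt (k := k) k).left) ∈ g.left ⁻¹ᵁ G.left.basicOpen f := by
            rw [h3]; trivial
          have hgp : g.left.base (IsLocalRing.closedPoint k) = p := pointOfClosedPoint_apply G.hom p hpc _
          show p ∈ G.left.basicOpen f
          rw [← hgp]
          exact h4
        exact G.left.toRingedSpace.isUnit_of_isUnit_germ ⊤ f fun p hp =>
          (Scheme.mem_basicOpen G.left f p hp).mp (by rw [hall]; trivial)
      have hf1 : GrpScheme.Rosenlicht.pb η[G] f = 1 := by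
        have e : FibrePts.evTop f (toUnit (FibrePts.Pt k) ≫ η[G]) = 1 := by
          rw [hfev, hF, show (toUnit (FibrePts.Pt k) ≫ η[G]) = (1 : FibrePts.Pt k ⟶ G) from Hom.one_def.symm]
          have : (1 : FibrePts.Pt k ⟶ G) ≫ ψ = v := by
            rw [hψpt, inv_one, AlgGrp.Action.lift_one_act, AlgGrp.Action.lift_one_act]
          rw [FibrePts.ev_congr π y this _ (FibrePts.le_of_eq_comp rfl hxU'), mul_inv_cancel₀ hc]
        haveI : IsIso (toUnit (FibrePts.Pt (k := k) k)).left :=
          inferInstanceAs (IsIso ((Over.forget _).map (toUnit (FibrePts.Pt (k := k) k))))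
        apply (ConcreteCategory.bijective_of_isIso (toUnit (FibrePts.Pt (k := k) k)).left.appTop).1
        refine (FibrePts.gl_bijective (k := k) k).1 ?_
        rw [map_one, map_one]
        refine Eq.trans ?_ e
        show FibrePts.gl k ((toUnit (FibrePts.Pt (k := k) k)).left.appTop (η[G].left.appTop f)) =
          FibrePts.gl k ((toUnit (FibrePts.Pt (k := k) k) ≫ η[G]).left.appTop f)
        rw [Over.comp_left, Scheme.Hom.comp_appTop]
        rfl
      have h : FibrePts.evTop f g₀ = 1 := by
        rw [eq_one_of_unit G hχ f hfu hf1]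
        show FibrePts.gl k (g₀.left.appTop 1) = 1
        rw [map_one, map_one]
      rw [hfev] at h
      exact (mul_inv_eq_one₀ hc).mp h
  have hfix : g₀ ≫ ψ = v :=
    (FibrePts.existsUnique_point (A.coord U y hy) x hxU' c₀).2 _ v (hψv g₀) rfl ((hF g₀).symm.trans hconst)
  rw [hψpt] at hfix
  have := congrArg (fun w => lift g₀ w ≫ Φ₂.act) hfix
  simp only [← AlgGrp.Action.lift_mul_act, mul_inv_cancel, AlgGrp.Action.lift_one_act] at this
  exact this

end Groth.Agent.S14712
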