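import Groth.Statements.S14718
import Groth.Agent.GITLib.LinBunPullback
import Groth.Agent.AmpleLib.GlobGen
import Groth.Agent.ProjTwist.Invertible
-- import your own Groth.Agent.* helpers here

set_option autoImplicit false
universe u
open CategoryTheory MonoidalCategory CartesianMonoidalCategory MonObj GrpObj AlgebraicGeometry Topology
open GIT

namespace Groth.Agent.S14718

/-- Let k be a field, G a group scheme over k acting by σ on a k-scheme X, φ : X → Y an invariant
k-morphism (φ ∘ σ = φ ∘ p₂) which is affine, and M an ample invertible sheaf on Y. Then there is a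
G-linearised line bundle L on X, taken in total-space form, with X = X^ss(L): every point x has an
invariant section s of some L^n, n ≥ 1, with s(x) ≠ 0 and X_s affine. If moreover (Y, φ) is a
geometric quotient of X by G, then X = X^s(L) for the same L (the action of G on those X_s is
closed; no condition on stabilisers). (The published statement assumes G reductive, X of finite type
and (Y, φ) a categorical quotient with Y quasi-projective; this row keeps only what the construction
uses: φ invariant and affine, M ample. L is taken in total-space form.) -/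
theorem result (k : Type u) [Field k]
    (G X Y : Over (Spec (CommRingCat.of k))) [GrpObj G]
    (a : AlgGrp.Action G X) (φ : X ⟶ Y) (hφ : GIT.IsInvariant a φ) [IsAffineHom φ.left]
    (M : Y.left.Modules) (hM : CohB1.IsAmple M) :
    ∃ B : GLinSh.LinBun G a, B.ssLocus = Set.univ ∧ (GIT.IsGeomQuot a φ → B.sLocus = Set.univ) := by
  obtain ⟨r, n, s, W, hn, hW, hWa, -, hcov⟩ := Groth.Agent.AmpleLib.exists_common_cover hM
  let E := CohB1.tensorPow M n
  have hE : PicF.IsInvertible E := Groth.Agent.AmpleLib.isInvertible_tensorPow hM.1 n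
  haveI : E.IsQuasicoherent := Groth.Agent.ProjTwist.isQCoh_of_isInvertible hE
  let B := Groth.Agent.GITLib.LinBunPullback.linBun E hφ hE
  have key : ∀ x : X.left, ∃ (f : Γ(B.V.left, ⊤)), B.IsInvSection 1 f ∧ x ∈ GLinSh.nonvanishing B.π f ∧
      ∃ U : X.left.Opens, (U : Set X.left) = GLinSh.nonvanishing B.π f ∧ IsAffineOpen U := by
    intro x
    obtain ⟨i, hi⟩ := TopologicalSpace.Opens.mem_iSup.mp (hcov (show φ.left x ∈ (⊤ : Y.left.Opens) from trivial))
    let σ := Groth.Agent.Props.GenLocus.sec (s i) ⊤
    have hloc : Groth.Agent.AmpleLib.locus σ = W i := by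
      rw [hW i, Groth.Agent.AmpleLib.genLocus_eq_locus]
    have he := Groth.Agent.GITLib.LinBunPullback.nonvanishing_eq E hφ hE σ
    rw [hloc] at he
    exact ⟨_, Groth.Agent.GITLib.LinBunPullback.isInvSection_one E hφ hE σ, he ▸ hi,
      φ.left ⁻¹ᵁ W i, he.symm, (hWa i).preimage φ.left⟩
  refine ⟨B, Set.eq_univ_of_forall fun x => ?_, fun hq => Set.eq_univ_of_forall fun x => ?_⟩
  · obtain ⟨f, h₁, h₂, U, h₃, h₄⟩ := key x
    exact ⟨1, f, le_rfl, h₁, h₂, U, h₃, h₄⟩
  · obtain ⟨f, h₁, h₂, U, h₃, h₄⟩ := key x
    exact ⟨1, f, le_rfl, h₁, h₂, U, h₃, h₄, fun Ω _ _ T e g _ =>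
      (Groth.Agent.GITLib.isClosedAction hq Ω T e g).preimage continuous_subtype_val⟩

end Groth.Agent.S14718
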