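import Groth.Statements.S1472
import Groth.Agent.S1356
import Groth.Agent.S2280
import Groth.Agent.FlatMor62.NormalHom

set_option autoImplicit false
universe u
open FlatMor

namespace Groth.Agent.S1472

open AlgebraicGeometry CategoryTheory Limits in
/-- Let h : Y → S be of finite presentation and normal (affine-locally its ring maps are flat with
geometrically normal fibres), let s be a point of S and T an open of the fibre over s which is
geometrically irreducible over the residue field of s. Then there are an affine elementary étale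
neighbourhood (S', s') of (S, s) and a quasi-compact open V of the base change of Y to S' such that
all fibres of V → S' are geometrically integral and the points of V over s' are exactly the points
of the base change over s' whose image in Y lies in T. -/
theorem result {Y S : Scheme.{u}} (h : Y ⟶ S) [LocallyOfFinitePresentation h] [QuasiCompact h] [QuasiSeparated h]
    (hn : ∀ (U : Y.Opens) (V : S.Opens) (hU : IsAffineOpen U) (hV : IsAffineOpen V) (hUV : U ≤ h ⁻¹ᵁ V),
      letI := (h.appLE V U hUV).hom.toAlgebra
      EGA4.IsNormalHom Γ(S, V) Γ(Y, U))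
    (s : S) (T : (h.fiber s).Opens) (hT : GeometricallyIrreducible (T.ι ≫ h.fiberToSpecResidueField s)) :
    ∃ (S' : Scheme.{u}) (g : S' ⟶ S) (s' : S'), IsAffine S' ∧ Hens2.IsEtaleNbhd g s' s ∧
      ∃ V : (pullback h g).Opens, IsCompact (V : Set ↑(pullback h g)) ∧ GeometricallyIntegral (V.ι ≫ pullback.snd h g) ∧
        ∀ y' : ↑(pullback h g), pullback.snd h g y' = s' → (y' ∈ V ↔ pullback.fst h g y' ∈ (h.fiberι s) '' (T : Set ↑(h.fiber s))) := by
  haveI := Groth.Agent.FlatMor62.NormalHom.flat hn
  haveI := Groth.Agent.FlatMor62.NormalHom.geometricallyReduced hn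
  have hc : GeometricallyConnected (T.ι ≫ h.fiberToSpecResidueField s) := by
    refine ⟨fun K _ y Z fst snd hZ => ?_⟩
    haveI : IrreducibleSpace Z := GeometricallyIrreducible.geometrically_irreducibleSpace (f := T.ι ≫ h.fiberToSpecResidueField s) _ _ _ hZ
    infer_instance
  obtain ⟨S', g, s', hS', hg, V, hVc, hV, hVT⟩ := Groth.Agent.S1356.result h s T hc
  refine ⟨S', g, s', hS', hg, V, hVc, ⟨fun K _ y Z fst snd hZ => ?_⟩, hVT⟩
  let W := pullback (pullback.snd h g) y
  let l : Z ⟶ W := pullback.lift (fst ≫ V.ι) snd (by rw [Category.assoc]; exact hZ.w)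
  have hl : IsPullback fst l V.ι (pullback.fst (pullback.snd h g) y) := by
    refine IsPullback.of_bot (v₂₁ := pullback.snd (pullback.snd h g) y) (v₂₂ := pullback.snd h g)
      (h₃₁ := y) ?_ (pullback.lift_fst _ _ _).symm (IsPullback.of_hasPullback _ y)
    rw [pullback.lift_snd]
    exact hZ
  haveI : IsOpenImmersion l := MorphismProperty.of_isPullback hl inferInstance
  let m : Z ⟶ pullback h (y ≫ g) := l ≫ (pullbackLeftPullbackSndIso h g y).hom
  have hdom : ∀ z, IsDomain (Z.presheaf.stalk z) := fun z => by
    haveI := Groth.Agent.FlatMor62.NormalHom.isDomain_stalk hn K (y ≫ g) (m z)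
    exact MulEquiv.isDomain ((pullback h (y ≫ g)).presheaf.stalk (m z))
      (asIso (m.stalkMap z)).commRingCatIsoToRingEquiv.symm.toMulEquiv
  haveI : LocallyOfFiniteType snd := MorphismProperty.of_isPullback hZ
    (inferInstance : LocallyOfFiniteType (V.ι ≫ pullback.snd h g))
  haveI : IsLocallyNoetherian Z := LocallyOfFiniteType.isLocallyNoetherian snd
  haveI : ConnectedSpace Z :=
    GeometricallyConnected.geometrically_connectedSpace (f := V.ι ≫ pullback.snd h g) _ _ _ hZ
  exact (Groth.Agent.S2280.result Z).2.mpr ⟨inferInstance, hdom⟩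

end Groth.Agent.S1472
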