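import Groth.Statements.S14727
-- import your own Groth.Agent.* helpers here

set_option autoImplicit false
universe u
open ValPrufer

namespace Groth.Agent.S14727

/-- Let R be a semilocal ring (finitely many maximal ideals) and I an ideal of R of co-height zero, i.e.
every prime ideal containing I is maximal. Then the canonical map from the I-adic completion of R to
the product, over the maximal ideals m ⊇ I, of the I-adic completions of the local rings R_m
(equivalently their IR_m-adic completions) is bijective; it is the continuous ring isomorphism of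
the source, stated here as bijectivity of the canonical map of completed modules. -/
theorem result
    (R : Type u) [CommRing R] (hR : Finite (MaximalSpectrum R)) (I : Ideal R)
    (hI : ∀ (p : Ideal R), p.IsPrime → I ≤ p → p.IsMaximal) :
    Function.Bijective (LinearMap.pi (fun m : {m : MaximalSpectrum R // I ≤ m.asIdeal} =>
      AdicCompletion.map I (Algebra.linearMap R (Localization.AtPrime m.1.asIdeal)))) := by
  classical
  let T := {m : MaximalSpectrum R // I ≤ m.asIdeal}
  haveI : Finite T := Subtype.finite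
  let q : ℕ → T → Ideal R := fun n m => (I ^ n).map (algebraMap R (Localization.AtPrime m.1.asIdeal)) |>.comap (algebraMap R _)
  have hq : ∀ n m x, x ∈ q n m ↔ ∃ s ∉ (m : T).1.asIdeal, s * x ∈ I ^ n := fun n m x =>
    (IsLocalization.algebraMap_mem_map_algebraMap_iff m.1.asIdeal.primeCompl (Localization.AtPrime m.1.asIdeal) (I := I ^ n) (x := x))
  have htop : ∀ n m (y : Localization.AtPrime (m : T).1.asIdeal),
      y ∈ (I ^ n • ⊤ : Submodule R (Localization.AtPrime m.1.asIdeal)) ↔ y ∈ (I ^ n).map (algebraMap R _) := fun n m y => by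
    rw [Ideal.smul_top_eq_map]; rfl
  -- the only prime containing `q n m` is `m`
  have hqm : ∀ n m (P : Ideal R), P.IsMaximal → q n m ≤ P → 1 ≤ n → P = (m : T).1.asIdeal := by
    intro n m P hP hle hn
    by_contra hne
    obtain ⟨y, hym, hyP⟩ := Set.not_subset.mp (fun h : (m.1.asIdeal : Set R) ⊆ P => hne (m.1.isMaximal.eq_of_le hP.ne_top h).symm)
    suffices h : ∃ k, y ^ k ∈ q n m by
      obtain ⟨k, hk⟩ := h
      exact hyP (hP.isPrime.mem_of_pow_mem k (hle hk))
    by_contra! hk
    obtain ⟨Q, hQ, hIQ, hdis⟩ := Ideal.exists_le_prime_disjoint (Submonoid.powers y ⊔ m.1.asIdeal.primeCompl) (I := I ^ n)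
      (Set.disjoint_left.mpr fun x hx hxS => by
        obtain ⟨a, ⟨k, rfl⟩, s, hs, rfl⟩ := Submonoid.mem_sup.mp hxS
        exact hk k ((hq n m _).mpr ⟨s, hs, by rw [mul_comm]; exact hx⟩))
    have hQm := hI Q hQ (Ideal.IsPrime.le_of_pow_le hIQ)
    have hQle : Q ≤ m.1.asIdeal := fun x hx => by
      by_contra hxm
      exact Set.disjoint_left.mp hdis hx (Submonoid.mem_sup_right (show x ∈ m.1.asIdeal.primeCompl from hxm))
    exact Set.disjoint_left.mp hdis ((hQm.eq_of_le m.1.isMaximal.ne_top hQle).ge hym) (Submonoid.mem_sup_left (Submonoid.mem_powers y))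
  have h0 : ∀ m : T, q 0 m = ⊤ := fun m => by
    rw [Ideal.eq_top_iff_one, hq]; exact ⟨1, fun h => m.1.isMaximal.ne_top ((Ideal.eq_top_iff_one _).mpr h), by simp⟩
  have hinf : ∀ n x, (∀ m : T, x ∈ q n m) → x ∈ I ^ n := by
    intro n x hx
    let ann : Ideal R := Submodule.comap (LinearMap.mulRight R x) (I ^ n)
    suffices h : ann = ⊤ by simpa [ann] using (Ideal.eq_top_iff_one _).mp h
    by_contra h
    obtain ⟨M, hM, hle⟩ := Ideal.exists_le_maximal _ h
    by_cases hIM : I ≤ M
    · obtain ⟨s, hs, hsx⟩ := (hq n ⟨⟨M, hM⟩, hIM⟩ x).mp (hx _)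
      exact hs (hle hsx)
    · exact hIM (hM.isPrime.le_of_pow_le (n := n) (fun a ha => hle (Ideal.mul_mem_right x _ ha)))
  have hcop : ∀ n, Pairwise (Function.onFun IsCoprime (q n)) := fun n m m' hne => by
    show IsCoprime (q n m) (q n m')
    rw [Ideal.isCoprime_iff_sup_eq]
    rcases Nat.eq_zero_or_pos n with rfl | hn
    · simp [h0]
    by_contra h
    obtain ⟨P, hP, hle⟩ := Ideal.exists_le_maximal _ h
    exact hne (Subtype.ext (MaximalSpectrum.ext ((hqm n m P hP (le_sup_left.trans hle) hn).symm.trans
      (hqm n m' P hP (le_sup_right.trans hle) hn))))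
  have hsurj1 : ∀ n m (y : Localization.AtPrime (m : T).1.asIdeal), ∃ r : R, algebraMap R _ r - y ∈ (I ^ n).map (algebraMap R _) := by
    intro n m y
    obtain ⟨⟨a, s⟩, rfl⟩ := IsLocalization.mk'_surjective m.1.asIdeal.primeCompl y
    rcases Nat.eq_zero_or_pos n with rfl | hn
    · exact ⟨0, by simp [Ideal.one_eq_top, Ideal.map_top]⟩
    obtain ⟨c, hc⟩ : ∃ c, 1 - c * (s : R) ∈ q n m := by
      have : q n m ⊔ Ideal.span {(s : R)} = ⊤ := by
        by_contra h
        obtain ⟨P, hP, hle⟩ := Ideal.exists_le_maximal _ h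
        exact s.2 ((hqm n m P hP (le_sup_left.trans hle) hn).le (hle (Ideal.mem_sup_right (Ideal.mem_span_singleton_self _))))
      obtain ⟨x, hx, z, hz, hxz⟩ := Submodule.mem_sup.mp ((Ideal.eq_top_iff_one _).mp this)
      obtain ⟨c, rfl⟩ := Ideal.mem_span_singleton'.mp hz
      exact ⟨c, by rw [← hxz]; simpa using hx⟩
    refine ⟨a * c, ?_⟩
    have h1 : algebraMap R (Localization.AtPrime m.1.asIdeal) (a * c) - IsLocalization.mk' _ a s
        = - (IsLocalization.mk' _ a s * algebraMap R _ (1 - c * s)) := by
      rw [map_sub, map_mul, map_mul, map_one, mul_sub, mul_one, mul_left_comm, IsLocalization.mk'_spec]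
      ring
    show algebraMap R (Localization.AtPrime m.1.asIdeal) (a * c) - IsLocalization.mk' _ a s ∈ _
    rw [h1]
    exact neg_mem (Ideal.mul_mem_left _ _ hc)
  -- level-wise bijectivity
  let f : ∀ n, (R ⧸ (I ^ n • ⊤ : Submodule R R)) → ∀ m : T, Localization.AtPrime m.1.asIdeal ⧸ (I ^ n • ⊤ : Submodule R (Localization.AtPrime m.1.asIdeal)) :=
    fun n x m => (Algebra.linearMap R (Localization.AtPrime m.1.asIdeal)).reduceModIdeal (I ^ n) x
  have hf : ∀ n, Function.Bijective (f n) := fun n => by
    refine ⟨fun x y hxy => ?_, fun y => ?_⟩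
    · obtain ⟨x, rfl⟩ := Submodule.Quotient.mk_surjective _ x
      obtain ⟨y, rfl⟩ := Submodule.Quotient.mk_surjective _ y
      rw [Submodule.Quotient.eq, Ideal.smul_top_eq_map]
      show x - y ∈ Ideal.map (algebraMap R R) (I ^ n)
      rw [Algebra.algebraMap_self, Ideal.map_id]
      refine hinf n _ fun m => ?_
      have h1 := congrFun hxy m
      have h2 : algebraMap R (Localization.AtPrime m.1.asIdeal) x - algebraMap R _ y ∈
          (I ^ n • ⊤ : Submodule R (Localization.AtPrime m.1.asIdeal)) := (Submodule.Quotient.eq _).mp h1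
      rw [htop, ← map_sub] at h2
      exact h2
    · choose y' hy' using fun m => Submodule.Quotient.mk_surjective _ (y m)
      choose r hr using fun m => hsurj1 n m (y' m)
      obtain ⟨x, hx⟩ := Ideal.exists_forall_sub_mem_ideal (hcop n) r
      refine ⟨Submodule.Quotient.mk x, funext fun m => ?_⟩
      rw [← hy' m]
      show Submodule.Quotient.mk (algebraMap R _ x) = _
      rw [Submodule.Quotient.eq, htop]
      have h3 : algebraMap R (Localization.AtPrime m.1.asIdeal) (x - r m) ∈ (I ^ n).map (algebraMap R _) := hx m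
      rw [map_sub] at h3
      simpa using add_mem h3 (hr m)
  refine ⟨fun x y hxy => AdicCompletion.ext fun n => (hf n).1 (funext fun m => ?_), fun y => ?_⟩
  · exact congrArg (fun z => z.val n) (congrFun hxy m)
  · choose x hx using fun n => (hf n).2 fun m => (y m).val n
    refine ⟨⟨x, fun {i j} hij => (hf i).1 (funext fun m => ?_)⟩, funext fun m => AdicCompletion.ext fun n => congrFun (hx n) m⟩
    have h1 := LinearMap.congr_fun (AdicCompletion.transitionMap_comp_reduceModIdeal I (Algebra.linearMap R (Localization.AtPrime m.1.asIdeal)) hij) (x j)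
    rw [LinearMap.comp_apply, LinearMap.comp_apply, LinearMap.coe_restrictScalars, LinearMap.coe_restrictScalars, show (Algebra.linearMap R (Localization.AtPrime m.1.asIdeal)).reduceModIdeal (I ^ j) (x j) = (y m).val j from congrFun (hx j) m] at h1
    rw [show f i (x i) m = (y m).val i from congrFun (hx i) m]
    exact h1.symm.trans ((y m).property hij)

end Groth.Agent.S14727
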