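import Groth.Statements.S14728
import Mathlib
-- import your own Groth.Agent.* helpers here

set_option autoImplicit false
universe u
open ValPrufer

namespace Groth.Agent.S14728

/-- Let R be a Prüfer domain, i.e. a domain all of whose local rings at primes are valuation rings. (a)
For a multiplicative subset S, any localisation B = S⁻¹R that is a domain (S not containing 0) is a
Prüfer domain. (b) For a prime ideal I, the quotient R/I is a Prüfer domain. -/
theorem result
    (R : Type u) [CommRing R] [IsDomain R]
    (hR : ∀ (p : Ideal R) [p.IsPrime], ValuationRing (Localization.AtPrime p))
    (S : Submonoid R) (B : Type u) [CommRing B] [IsDomain B] [Algebra R B] [IsLocalization S B]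
    (I : Ideal R) [I.IsPrime] :
    (∀ (q : Ideal B) [q.IsPrime], ValuationRing (Localization.AtPrime q)) ∧
      (∀ (q : Ideal (R ⧸ I)) [q.IsPrime], ValuationRing (Localization.AtPrime q)) := by
  constructor
  · intro q _
    have h := hR (q.comap (algebraMap R B))
    have := IsLocalization.isLocalization_isLocalization_atPrime_isLocalization S
      (Localization.AtPrime q) q
    let e := (IsLocalization.algEquiv (q.comap (algebraMap R B)).primeCompl
      (Localization.AtPrime (q.comap (algebraMap R B))) (Localization.AtPrime q)).toRingEquiv
    have : IsDomain (Localization.AtPrime q) := inferInstance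
    exact { toPreValuationRing :=
      Function.Surjective.preValuationRing e.toRingHom.toMonoidHom.toMulHom e.surjective }
  · intro q _
    have h := hR (q.comap (Ideal.Quotient.mk I))
    have hs := (RingHom.surjectiveOnStalks_of_surjective (f := Ideal.Quotient.mk I)
      Ideal.Quotient.mk_surjective).localRingHom_surjective (q.comap (Ideal.Quotient.mk I)) q rfl
    have hp : PreValuationRing (Localization.AtPrime q) := Function.Surjective.preValuationRing
      (Localization.localRingHom (q.comap (Ideal.Quotient.mk I)) q (Ideal.Quotient.mk I) rfl).toMonoidHom.toMulHom
      hs
    exact { toPreValuationRing := hp }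

end Groth.Agent.S14728
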