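import Groth.Statements.S14729
import Groth.Agent.EtStruct.SemiVal

-- import your own Groth.Agent.* helpers here

set_option autoImplicit false
universe u
open ValPrufer

namespace Groth.Agent.S14729

/-- Let R be a semilocal Prüfer domain (an integral domain with finitely many maximal ideals whose
localisations at primes are valuation rings) with fraction field L, and let K ⊆ L be a subfield.
Then R ∩ K is again a semilocal Prüfer domain and its fraction field is K, i.e. every element of K
is a quotient of two elements of R ∩ K. -/
theorem result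
    (R L : Type u) [CommRing R] [IsDomain R] [Field L] [Algebra R L] [IsFractionRing R L]
    (hR : ∀ (p : Ideal R) [p.IsPrime], ValuationRing (Localization.AtPrime p))
    (hfin : Finite (MaximalSpectrum R)) (K : Subfield L) :
    (∀ (p : Ideal ↥((algebraMap R L).range ⊓ K.toSubring)) [p.IsPrime],
        ValuationRing (Localization.AtPrime p)) ∧
      Finite (MaximalSpectrum ↥((algebraMap R L).range ⊓ K.toSubring)) ∧
      ∀ x : L, x ∈ K → ∃ a b : L, a ∈ (algebraMap R L).range ⊓ K.toSubring ∧
        b ∈ (algebraMap R L).range ⊓ K.toSubring ∧ b ≠ 0 ∧ x = a / b := by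
  haveI := hfin
  obtain ⟨V, hV⟩ := EtStruct.SemiVal.exists_valuationSubrings (L := L) R hR
  have hO : ∀ y : L, y ∈ (((algebraMap R L).range ⊓ K.toSubring).subtype).range ↔ y ∈ K ∧ ∀ m, y ∈ V m := fun y => by
    rw [Subring.range_subtype, Subring.mem_inf, hV, and_comm]
    rfl
  have hinj : Function.Injective ((algebraMap R L).range ⊓ K.toSubring).subtype := Subtype.val_injective
  refine ⟨fun p _ => EtStruct.SemiVal.valuationRing V K _ hinj hO p,
    EtStruct.SemiVal.finite_maximalSpectrum V K _ hinj hO, fun x hx => ?_⟩
  obtain ⟨a, b, ha, hb, hb0, hxab⟩ := EtStruct.SemiVal.exists_div V K _ hO hx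
  rw [Subring.range_subtype] at ha hb
  exact ⟨a, b, ha, hb, hb0, hxab⟩

end Groth.Agent.S14729
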