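import Groth.Statements.S14730
import Groth.Agent.EtStruct.SemiVal
import Groth.Agent.EtStruct.SmoothModel

-- import your own Groth.Agent.* helpers here

set_option autoImplicit false
universe u
open ValPrufer

namespace Groth.Agent.S14730

set_option backward.isDefEq.respectTransparency false in
theorem exists_trdeg_le {L : Type u} [Field L] (t : Finset L) (K : Subfield L) (hK : Subfield.closure (t : Set L) = K) :
    ∃ d : ℕ, Algebra.trdeg (⊥ : Subfield K) K ≤ d := by
  classical
  subst hK
  set K := Subfield.closure (t : Set L)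
  let t' : Finset K := t.attach.image fun x => ⟨x.1, Subfield.subset_closure x.2⟩
  have ht : Subfield.closure (t' : Set K) = ⊤ := by
    refine eq_top_iff.mpr fun x _ => ?_
    have h : x.1 ∈ (Subfield.closure (t' : Set K)).map K.subtype := by
      rw [K.subtype.map_field_closure]
      refine Subfield.closure_mono ?_ x.2
      intro y hy
      exact ⟨⟨y, Subfield.subset_closure hy⟩, by simpa [t'] using hy, rfl⟩
    obtain ⟨y, hy, hyx⟩ := Subfield.mem_map.mp h
    rwa [← Subtype.ext hyx]
  let B := Algebra.adjoin (⊥ : Subfield K) (t' : Set K)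
  haveI : IsFractionRing B K := EtStruct.isFractionRing_of_closure _ ht B Algebra.subset_adjoin
  haveI : Algebra.IsAlgebraic B K := IsLocalization.isAlgebraic K (nonZeroDivisors B)
  have h := Algebra.IsAlgebraic.trdeg_le_cardinalMk (⊥ : Subfield K) (s := (t' : Set K))
  exact ⟨t'.card, h.trans (by simp)⟩


/-- Let R be a semilocal Prüfer domain (an integral domain with finitely many maximal ideals whose
localisations at primes are valuation rings). Then R is the increasing union of subrings that are
semilocal Prüfer domains of finite Krull dimension; equivalently, every finite subset of R is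
contained in such a subring. -/
theorem result
    (R : Type u) [CommRing R] [IsDomain R]
    (hR : ∀ (p : Ideal R) [p.IsPrime], ValuationRing (Localization.AtPrime p))
    (hfin : Finite (MaximalSpectrum R)) (s : Finset R) :
    ∃ R' : Subring R, (↑s : Set R) ⊆ R' ∧
      (∀ (p : Ideal R') [p.IsPrime], ValuationRing (Localization.AtPrime p)) ∧
      Finite (MaximalSpectrum R') ∧ ringKrullDim R' < ⊤ := by
  classical
  haveI := hfin
  let L := FractionRing R
  obtain ⟨V, hV⟩ := EtStruct.SemiVal.exists_valuationSubrings (L := L) R hR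
  let K : Subfield L := Subfield.closure (algebraMap R L '' (↑s : Set R))
  let R' : Subring R := K.toSubring.comap (algebraMap R L)
  let φ : R' →+* L := (algebraMap R L).comp R'.subtype
  have hφ : Function.Injective φ := (IsFractionRing.injective R L).comp Subtype.val_injective
  have hO : ∀ y : L, y ∈ φ.range ↔ y ∈ K ∧ ∀ m, y ∈ V m := fun y => by
    rw [← hV]
    exact ⟨fun ⟨a, ha⟩ => ⟨ha ▸ a.2, a.1, ha⟩, fun ⟨hy, a, ha⟩ => ⟨⟨a, show algebraMap R L a ∈ K from ha ▸ hy⟩, ha⟩⟩
  obtain ⟨d, hd⟩ := exists_trdeg_le (L := L) (s.image (algebraMap R L)) K (by rw [Finset.coe_image])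
  refine ⟨R', fun a ha => Subfield.subset_closure (Set.mem_image_of_mem _ ha),
    fun p _ => EtStruct.SemiVal.valuationRing V K φ hφ hO p, EtStruct.SemiVal.finite_maximalSpectrum V K φ hφ hO, ?_⟩
  exact (EtStruct.SemiVal.ringKrullDim_le V K φ hφ hO (N := d + 1)
    (fun m => CAlg76.ValHeight.ringKrullDim_le_trdeg_succ _ hd)).trans_lt (WithBot.coe_lt_coe.mpr (ENat.natCast_lt_top _))

end Groth.Agent.S14730
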