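import Groth.Statements.S14732
import Groth.Agent.EtStruct.SmoothModel
import Mathlib.FieldTheory.PrimeField
import Mathlib.Algebra.Algebra.ZMod
import Mathlib.FieldTheory.Perfect
-- import your own Groth.Agent.* helpers here

set_option autoImplicit false
universe u
open ValPrufer

namespace Groth.Agent.S14732

set_option backward.isDefEq.respectTransparency false in

/-- In characteristic p > 0, a field K that is finitely generated over its prime subfield F (a field
with p elements) is the fraction field of an integral scheme smooth over F; concretely, there is an
F-subalgebra A of K, of finite type and smooth over F, whose fraction field is K. -/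
theorem result
    (K : Type u) [Field K] (p : ℕ) [Fact p.Prime] [CharP K p] (s : Finset K)
    (hs : Subfield.closure (↑s : Set K) = ⊤) :
    ∃ A : Subalgebra (⊥ : Subfield K) K, Algebra.FiniteType (⊥ : Subfield K) A ∧
      Algebra.Smooth (⊥ : Subfield K) A ∧ IsFractionRing A K := by
  have : Algebra (ZMod p) K := ZMod.algebra K p
  have : Finite (⊥ : Subfield K) := by
    rw [Subfield.bot_eq_of_zMod_algebra p]
    exact Finite.Set.finite_range (algebraMap (ZMod p) K)
  have : Algebra.EssFiniteType (⊥ : Subfield K) K := EtStruct.essFiniteType_of_closure s hs
  have : PerfectField (⊥ : Subfield K) := PerfectField.ofFinite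
  exact EtStruct.exists_smooth_model s hs

end Groth.Agent.S14732
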