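import Groth.Statements.S4932
import Groth.Agent.FibSemi.Basic

set_option autoImplicit false
open CategoryTheory AlgebraicGeometry
universe u v w
open EGA43

namespace Groth.Agent.S4932

theorem exists_content {A : Type u} [CommRing A] [IsDomain A] [ValuationRing A] {n : ℕ}
    (Q : MvPolynomial (Fin n) A) (hQ : Q ≠ 0) :
    ∃ (c : A) (Q' : MvPolynomial (Fin n) A), c ≠ 0 ∧ Q = MvPolynomial.C c * Q' ∧ ∃ m, MvPolynomial.coeff m Q' = 1 := by
  classical
  suffices h : ∀ s : Finset (Fin n →₀ ℕ), s.Nonempty → ∃ m ∈ s, ∀ m' ∈ s, Q.coeff m ∣ Q.coeff m' by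
    obtain ⟨m, hm, hdvd⟩ := h Q.support (MvPolynomial.support_nonempty.mpr hQ)
    choose d hd using hdvd
    have hc : Q.coeff m ≠ 0 := MvPolynomial.mem_support_iff.mp hm
    refine ⟨Q.coeff m, ∑ m' ∈ Q.support.attach, MvPolynomial.monomial m'.1 (d m'.1 m'.2), hc, ?_, m, ?_⟩
    · conv_lhs => rw [Q.as_sum, ← Finset.sum_attach]
      rw [Finset.mul_sum]
      refine Finset.sum_congr rfl fun m' _ => ?_
      rw [MvPolynomial.C_mul_monomial, ← hd]
    · rw [MvPolynomial.coeff_sum, Finset.sum_eq_single ⟨m, hm⟩]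
      · rw [MvPolynomial.coeff_monomial, if_pos rfl]
        have h1 := hd m hm
        exact (mul_eq_left₀ hc).mp h1.symm
      · intro b _ hb
        rw [MvPolynomial.coeff_monomial, if_neg fun h => hb (Subtype.ext h)]
      · intro h
        exact absurd (Finset.mem_attach _ _) h
  intro s hs
  induction hs using Finset.Nonempty.cons_induction with
  | singleton a => exact ⟨a, Finset.mem_singleton_self a, fun m' hm' => by rw [Finset.mem_singleton.mp hm']⟩
  | cons a s ha hs ih =>
    obtain ⟨m, hm, hdvd⟩ := ih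
    rcases ValuationRing.dvd_total (Q.coeff a) (Q.coeff m) with h | h
    · refine ⟨a, Finset.mem_cons_self a s, fun m' hm' => ?_⟩
      rcases Finset.mem_cons.mp hm' with rfl | h'
      · exact dvd_rfl
      · exact h.trans (hdvd m' h')
    · refine ⟨m, Finset.mem_cons_of_mem hm, fun m' hm' => ?_⟩
      rcases Finset.mem_cons.mp hm' with rfl | h'
      · exact h
      · exact hdvd m' h'


/-- Let A be a valuation ring (not necessarily discrete), X an irreducible scheme and f : X ⟶ Spec A a
dominant morphism of finite type. If the fibre X_0 of f over the closed point is nonempty, then dim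
X_0 = dim X_1, where X_1 is the fibre over the generic point. -/
theorem result {A : Type u} [CommRing A] [IsDomain A]
    [ValuationRing A] {X : Scheme.{u}} [IrreducibleSpace X] (f : X ⟶ Spec (CommRingCat.of A))
    [LocallyOfFiniteType f] [QuasiCompact f] [IsDominant f]
    (h0 : Nonempty ↥(f.fiber (IsLocalRing.closedPoint A))) :
    topologicalKrullDim ↥(f.fiber (IsLocalRing.closedPoint A)) =
      topologicalKrullDim ↥(f.fiber (genericPoint (Spec (CommRingCat.of A)))) := by
  set y0 : ↥(Spec (CommRingCat.of A)) := IsLocalRing.closedPoint A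
  set η := genericPoint (Spec (CommRingCat.of A))
  rw [(f.fiberHomeo y0).isHomeomorph.topologicalKrullDim_eq, (f.fiberHomeo η).isHomeomorph.topologicalKrullDim_eq]
  let ξ := genericPoint X
  have hfξ : f ξ = η := by
    have h9 := (genericPoint_spec X).image f.continuous
    rw [Set.image_univ, ‹IsDominant f›.1.closure_range] at h9
    exact h9.eq (genericPoint_spec _)
  obtain ⟨x₀, hx₀⟩ : ∃ x₀ : X, f x₀ = y0 := by
    obtain ⟨w⟩ := h0
    exact ⟨_, (f.fiberHomeo y0 w).2⟩
  suffices H : topologicalKrullDim ↥(f ⁻¹' {y0}) ≤ topologicalKrullDim ↥(f ⁻¹' {η}) ∧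
      topologicalKrullDim ↥(f ⁻¹' {η}) ≤ topologicalKrullDim ↥(f ⁻¹' {y0}) from le_antisymm H.1 H.2
  refine ⟨?_, ?_⟩
  · haveI : QuasiSober (f ⁻¹' {y0}) := (f.fiberHomeo y0).symm.isClosedEmbedding.quasiSober
    rw [show topologicalKrullDim ↥(f ⁻¹' {y0}) = Order.krullDim ↥(f ⁻¹' {y0}) from
      (Groth.Agent.DimLift.topDim_eq_krullDim_points (X := ↥(f ⁻¹' {y0}))).trans (by
        congr 1
        exact Preorder.ext fun a b => subtype_specializes_iff b a)]
    refine iSup_le fun l => ?_
    let x : X := l.head.1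
    obtain ⟨V, hV, hxV, -⟩ := exists_isAffineOpen_mem_and_subset (U := ⊤) (x := f x) trivial
    obtain ⟨W, hW, hxW, eWsub⟩ := exists_isAffineOpen_mem_and_subset (U := f ⁻¹ᵁ V) (x := x) hxV
    have eW : W ≤ f ⁻¹ᵁ V := eWsub
    letI : Algebra Γ(Spec (CommRingCat.of A), V) Γ(X, W) := (f.appLE V W eW).hom.toAlgebra
    haveI : Algebra.FiniteType Γ(Spec (CommRingCat.of A), V) Γ(X, W) :=
      LocallyOfFiniteType.finiteType_appLE f hV hW eW
    have hVtop : V = ⊤ := by
      refine top_le_iff.mp fun z _ => ?_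
      have hz : z ⤳ y0 := by
        exact (PrimeSpectrum.le_iff_specializes z (IsLocalRing.closedPoint A)).mp
          (IsLocalRing.le_maximalIdeal z.isPrime.ne_top)
      exact hz.mem_open V.isOpen (l.head.2 ▸ hxV)
    subst hVtop
    let j : A →+* Γ(Spec (CommRingCat.of A), ⊤) := (Scheme.ΓSpecIso (CommRingCat.of A)).inv.hom
    letI : Algebra A Γ(X, W) := ((f.appLE ⊤ W eW).hom.comp j).toAlgebra
    have hjbij : Function.Bijective j := ConcreteCategory.bijective_of_isIso (Scheme.ΓSpecIso (CommRingCat.of A)).inv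
    haveI : Algebra.FiniteType A Γ(X, W) := by
      rw [← RingHom.finiteType_algebraMap]
      exact (LocallyOfFiniteType.finiteType_appLE f hV hW eW).comp (RingHom.FiniteType.of_surjective _ hjbij.2)
    have happ : ∀ q : PrimeSpectrum Γ(X, W),
        f (hW.fromSpec q) = q.comap (algebraMap A Γ(X, W)) := fun q => by
      have h1 := Groth.Agent.DimSpec.app_fromSpec hV hW eW q
      rw [h1]
      show hV.fromSpec (q.comap (f.appLE ⊤ W eW).hom) = Spec.map (Scheme.ΓSpecIso (CommRingCat.of A)).inv
        (q.comap (f.appLE ⊤ W eW).hom)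
      congr 1
      rw [IsAffineOpen.fromSpec_top, Scheme.isoSpec_Spec_inv]
    have hlW : ∀ i, (l i).1 ∈ W := fun i =>
      ((l.monotone (Fin.zero_le i)) : (l i).1 ⤳ x).mem_open W.isOpen hxW
    choose p hp using fun i => Groth.Agent.DimSpec.exists_fromSpec hW (hlW i)
    have hle_iff : ∀ a b : PrimeSpectrum Γ(X, W), a ≤ b ↔ hW.fromSpec a ⤳ hW.fromSpec b := fun a b =>
      (PrimeSpectrum.le_iff_specializes a b).trans hW.fromSpec.isOpenEmbedding.isEmbedding.specializes_iff.symm
    have hstr : StrictMono (fun i : Fin (l.length + 1) => p i.rev) := fun i k hik => by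
      have h0 := l.strictMono (Fin.rev_lt_rev.mpr hik)
      refine lt_of_le_of_ne ((hle_iff _ _).mpr (by rw [hp, hp]; exact h0.le))
        fun h => ?_
      exact h0.ne (Subtype.ext ((hp _).symm.trans ((congrArg hW.fromSpec h.symm).trans (hp _))))
    haveI : (IsLocalRing.maximalIdeal A).IsPrime := inferInstance
    obtain ⟨a, ha⟩ := Groth.Agent.DimSpec.exists_indep_of_chain (IsLocalRing.maximalIdeal A)
      (LTSeries.mk l.length _ hstr) fun i => by
        show (p _).comap _ = y0
        rw [← happ, hp]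
        exact (l _).2
    obtain ⟨q, hq⟩ := Groth.Agent.DimSpec.exists_fromSpec hW ((genericPoint_specializes x).mem_open W.isOpen hxW)
    have hqA : q.comap (algebraMap A Γ(X, W)) = ⟨⊥, Ideal.isPrime_bot⟩ := by
      rw [← happ, hq]
      exact hfξ.trans (genericPoint_eq_bot_of_affine (CommRingCat.of A))
    have hqP : q ≤ p (Fin.rev 0) := (hle_iff _ _).mpr (by rw [hq, hp]; exact genericPoint_specializes _)
    haveI : (⊥ : Ideal A).IsPrime := Ideal.isPrime_bot
    have hindep : Groth.Agent.DimSpec.Indep (⊥ : Ideal A) q.asIdeal a := by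
      rintro Q ⟨m, hm⟩ hmem
      obtain ⟨c, Q', hc, rfl, m', hm'⟩ := exists_content Q (fun h => hm (by rw [h]; simp))
      rw [map_mul, MvPolynomial.aeval_C] at hmem
      refine ha Q' ⟨m', fun h => ?_⟩ (hqP ((q.isPrime.mem_or_mem hmem).resolve_left fun h => hc ?_))
      · rw [hm'] at h
        exact (IsLocalRing.maximalIdeal.isMaximal A).ne_top ((Ideal.eq_top_iff_one _).mpr h)
      · have h2 : c ∈ (q.comap (algebraMap A Γ(X, W))).asIdeal := h
        rw [hqA] at h2
        exact (Submodule.mem_bot _).mp h2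
    obtain ⟨l', hl'len, hl'⟩ := Groth.Agent.DimSpec.exists_chain_of_indep (⊥ : Ideal A) q hqA a hindep
    have hstr' : StrictMono (fun i : Fin (l'.length + 1) => hW.fromSpec (l' i.rev)) := fun i k hik => by
      have h0 := l'.strictMono (Fin.rev_lt_rev.mpr hik)
      exact lt_of_le_not_ge ((hle_iff _ _).mp h0.le) fun h => h0.ne'
        (hW.fromSpec.isOpenEmbedding.injective ((show Specializes _ _ from h).antisymm ((hle_iff _ _).mp h0.le)).eq)
    refine le_trans (le_of_eq ?_) (Groth.Agent.FibSemi.length_le_topDim (LTSeries.mk l'.length _ hstr') fun i => ?_)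
    · simp [hl'len]
    · show f (hW.fromSpec (l' _)) = η
      rw [happ, (hl' _).2]
      exact (genericPoint_eq_bot_of_affine (CommRingCat.of A)).symm
  · have h := Groth.Agent.FibSemi.topDim_closure_inter_fibre_le f (genericPoint_specializes x₀) ⊤ trivial
    rw [show closure ({genericPoint X} : Set X) = Set.univ from genericPoint_spec X] at h
    rw [hfξ, hx₀, TopologicalSpace.Opens.coe_top, Set.univ_inter] at h
    rw [Set.univ_inter, Set.univ_inter] at h
    exact h

end Groth.Agent.S4932
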