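import Groth.Statements.S14733
import Groth.Agent.S4932

-- import your own Groth.Agent.* helpers here

set_option autoImplicit false
open CategoryTheory AlgebraicGeometry
universe u
open ValPrufer

namespace Groth.Agent.S14733

open AlgebraicGeometry CategoryTheory in

/-- Let R be a Prüfer domain (an integral domain whose localisations at primes are valuation rings), X
an irreducible scheme and f : X ⟶ Spec R a dominant morphism of finite type. If the fibre of f over
a point γ of Spec R is nonempty, then it has the same dimension as the fibre over the generic point. -/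
theorem result
    (R : Type u) [CommRing R] [IsDomain R]
    (hR : ∀ (p : Ideal R) [p.IsPrime], ValuationRing (Localization.AtPrime p))
    (X : Scheme.{u}) [IrreducibleSpace X] (f : X ⟶ Spec (CommRingCat.of R))
    [LocallyOfFiniteType f] [QuasiCompact f] [IsDominant f] (γ : Spec (CommRingCat.of R))
    (h0 : Nonempty ↥(f.fiber γ)) :
    topologicalKrullDim ↥(f.fiber γ) =
      topologicalKrullDim ↥(f.fiber (genericPoint (Spec (CommRingCat.of R)))) := by
  haveI : γ.asIdeal.IsPrime := γ.isPrime
  haveI := hR γ.asIdeal
  let A := Localization.AtPrime γ.asIdeal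
  let g : Spec (CommRingCat.of A) ⟶ Spec (CommRingCat.of R) := Spec.map (CommRingCat.ofHom (algebraMap R A))
  haveI : IsPreimmersion g := IsPreimmersion.of_isLocalization (R := R) γ.asIdeal.primeCompl
  haveI : IsDomain A := inferInstance
  have hgc : g (IsLocalRing.closedPoint A) = γ := PrimeSpectrum.ext Localization.AtPrime.comap_maximalIdeal
  have hgg : g (genericPoint (Spec (CommRingCat.of A))) = genericPoint (Spec (CommRingCat.of R)) := by
    rw [genericPoint_eq_bot_of_affine, genericPoint_eq_bot_of_affine]
    refine PrimeSpectrum.ext (Ideal.comap_bot_of_injective _ ?_)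
    exact IsLocalization.injective A γ.asIdeal.primeCompl_le_nonZeroDivisors
  let X' := Limits.pullback f g
  let pr : X' ⟶ X := Limits.pullback.fst f g
  let f' : X' ⟶ Spec (CommRingCat.of A) := Limits.pullback.snd f g
  have hsq : ∀ x' : X', f (pr x') = g (f' x') := fun x' => by
    rw [← Scheme.Hom.comp_apply, ← Scheme.Hom.comp_apply, Limits.pullback.condition]
  have hrange : Set.range pr = f ⁻¹' Set.range g := Scheme.Pullback.range_fst f g
  have hξη : f (genericPoint X) = genericPoint (Spec (CommRingCat.of R)) := by
    have h9 := (genericPoint_spec X).image f.continuous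
    rw [Set.image_univ, ‹IsDominant f›.1.closure_range] at h9
    exact h9.eq (genericPoint_spec _)
  obtain ⟨ξ', hξ'⟩ : genericPoint X ∈ Set.range pr := hrange ▸ ⟨_, hgg.trans hξη.symm⟩
  have hgen : closure ({ξ'} : Set X') = Set.univ := by
    refine Set.eq_univ_of_forall fun x' => ?_
    rw [← specializes_iff_mem_closure, ← pr.isEmbedding.specializes_iff, hξ']
    exact genericPoint_specializes _
  haveI : IrreducibleSpace X' := (irreducibleSpace_def _).mpr (by rw [Set.top_eq_univ, ← hgen]; exact isIrreducible_singleton.closure)
  haveI : IsDominant f' := ⟨by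
    have h0 : f' ξ' = genericPoint (Spec (CommRingCat.of A)) :=
      g.isEmbedding.injective (by rw [← hsq, hξ', hξη, hgg])
    intro y
    refine closure_mono (s := ({genericPoint (Spec (CommRingCat.of A))} : Set _)) (t := Set.range f') (by rintro _ rfl; exact ⟨ξ', h0⟩) ?_
    rw [← specializes_iff_mem_closure]
    exact genericPoint_specializes y⟩
  have key : ∀ s : Spec (CommRingCat.of A),
      topologicalKrullDim ↥(f'.fiber s) = topologicalKrullDim ↥(f.fiber (g s)) := fun s => by
    rw [(f'.fiberHomeo s).isHomeomorph.topologicalKrullDim_eq, (f.fiberHomeo (g s)).isHomeomorph.topologicalKrullDim_eq]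
    have himg : pr '' (f' ⁻¹' {s}) = f ⁻¹' {g s} := by
      ext x
      constructor
      · rintro ⟨x', hx', rfl⟩
        show f (pr x') = g s
        rw [hsq, show f' x' = s from hx']
      · intro hx
        obtain ⟨x', rfl⟩ : x ∈ Set.range pr := hrange ▸ ⟨s, (show f x = g s from hx).symm⟩
        exact ⟨x', g.isEmbedding.injective ((hsq x').symm.trans hx), rfl⟩
    exact ((pr.isEmbedding.homeomorphImage (f' ⁻¹' {s})).trans (Homeomorph.setCongr himg)).isHomeomorph.topologicalKrullDim_eq
  obtain ⟨w⟩ := h0
  have h0' : Nonempty ↥(f'.fiber (IsLocalRing.closedPoint A)) := by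
    let x0 := f.fiberHomeo γ w
    have hx0 : f x0.1 = γ := x0.2
    obtain ⟨x', hx'⟩ : x0.1 ∈ Set.range pr := hrange ▸ ⟨_, hgc.trans hx0.symm⟩
    exact ⟨(f'.fiberHomeo _).symm ⟨x', g.isEmbedding.injective ((hsq x').symm.trans (by rw [hx', hx0, hgc]))⟩⟩
  have h := Groth.Agent.S4932.result f' h0'
  refine (congrArg (fun t => topologicalKrullDim ↥(f.fiber t)) hgc.symm).trans ?_
  rw [← key (IsLocalRing.closedPoint A)]
  refine h.trans ?_
  rw [key (genericPoint (Spec (CommRingCat.of A))), hgg]

end Groth.Agent.S14733
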