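import Groth.Statements.S14734
import Groth.Agent.EtStruct.PruferDim

-- import your own Groth.Agent.* helpers here

set_option autoImplicit false
universe u
open ValPrufer

namespace Groth.Agent.S14734

/-- Let R be a Prüfer domain (an integral domain whose localisations at primes are valuation rings) of
finite Krull dimension and S an R-algebra of finite type. Then S, and every localisation T of S at a
multiplicative subset, is catenary and of finite Krull dimension. (The published statement is for a
scheme X of finite type over R and the spectrum of any semilocalisation of X; catenarity is local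
and finiteness of dimension is checked on a finite affine cover, so this row states the affine case
together with arbitrary localisations.) -/
theorem result
    (R : Type u) [CommRing R] [IsDomain R]
    (hR : ∀ (p : Ideal R) [p.IsPrime], ValuationRing (Localization.AtPrime p))
    (hdim : ringKrullDim R < ⊤)
    (S : Type u) [CommRing S] [Algebra R S] [Algebra.FiniteType R S]
    (M : Submonoid S) (T : Type u) [CommRing T] [Algebra S T] [IsLocalization M T] :
    CAlg.IsCatenary S ∧ ringKrullDim S < ⊤ ∧ CAlg.IsCatenary T ∧ ringKrullDim T < ⊤ := by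
  obtain ⟨B, hB⟩ := EtStruct.PruferDim.exists_length_bound (S := S) hR hdim
  have hS : CAlg.IsCatenary S := by
    refine ⟨fun _ _ _ => ⟨B, fun s _ _ => hB s⟩, fun s t hh hl hs ht => ?_⟩
    have h1 := EtStruct.PruferDim.length_eq_of_saturated hR hdim s hs (Fin.last _)
    have h2 := EtStruct.PruferDim.length_eq_of_saturated hR hdim t ht (Fin.last _)
    have h3 : s (Fin.last _) = t (Fin.last _) := hl
    rw [h3, hh] at h1
    simp only [Fin.val_last] at h1 h2
    omega
  have hdimS : ringKrullDim S < ⊤ := by
    refine lt_of_le_of_lt (b := ((B : ℕ∞) : WithBot ℕ∞)) (iSup_le fun l => ?_) (WithBot.coe_lt_coe.mpr (ENat.natCast_lt_top B))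
    exact_mod_cast hB l
  have hc : StrictMono (PrimeSpectrum.comap (algebraMap S T)) := by
    intro a b hab
    refine lt_of_le_of_ne (Ideal.comap_mono hab.le) fun he => hab.ne ?_
    exact PrimeSpectrum.localization_comap_injective T M he
  have hcov : ∀ a b : PrimeSpectrum T, a ⋖ b →
      PrimeSpectrum.comap (algebraMap S T) a ⋖ PrimeSpectrum.comap (algebraMap S T) b := by
    intro a b hab
    refine ⟨hc hab.lt, fun z h1 h2 => ?_⟩
    obtain ⟨w, rfl⟩ : z ∈ Set.range (PrimeSpectrum.comap (algebraMap S T)) := by
      rw [PrimeSpectrum.localization_comap_range T M, Set.mem_ofPred_eq]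
      have hbM : Disjoint (M : Set S) ((PrimeSpectrum.comap (algebraMap S T) b).asIdeal : Set S) := by
        have : PrimeSpectrum.comap (algebraMap S T) b ∈ Set.range (PrimeSpectrum.comap (algebraMap S T)) :=
          ⟨b, rfl⟩
        rw [PrimeSpectrum.localization_comap_range T M, Set.mem_ofPred_eq] at this
        exact this
      exact hbM.mono_right h2.le
    have h1' : a < w := by
      refine lt_of_le_of_ne ?_ fun e => h1.ne (e ▸ rfl)
      have := Ideal.map_mono (f := algebraMap S T) h1.le
      simp only [PrimeSpectrum.comap_asIdeal, IsLocalization.map_comap M T] at this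
      exact this
    have h2' : w < b := by
      refine lt_of_le_of_ne ?_ fun e => h2.ne (e ▸ rfl)
      have := Ideal.map_mono (f := algebraMap S T) h2.le
      simp only [PrimeSpectrum.comap_asIdeal, IsLocalization.map_comap M T] at this
      exact this
    exact hab.2 h1' h2'
  refine ⟨hS, hdimS, ⟨fun _ _ _ => ⟨B, fun s _ _ => ?_⟩, fun s t hh hl hs ht => ?_⟩, ?_⟩
  · exact hB (s.map _ hc)
  · exact hS.2 (s.map _ hc) (t.map _ hc) (congrArg (PrimeSpectrum.comap (algebraMap S T)) hh)
      (congrArg (PrimeSpectrum.comap (algebraMap S T)) hl)
      (fun i => hcov _ _ (hs i)) (fun i => hcov _ _ (ht i))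
  · refine lt_of_le_of_lt (b := ((B : ℕ∞) : WithBot ℕ∞)) (iSup_le fun l => ?_) (WithBot.coe_lt_coe.mpr (ENat.natCast_lt_top B))
    exact_mod_cast hB (l.map _ hc)

end Groth.Agent.S14734
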