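import Groth.Statements.S14737
import Groth.Agent.BLTorsor.Model
import Groth.Agent.S11958
import Groth.Agent.S2004
import Groth.Agent.RegLoc.Basic
-- import your own Groth.Agent.* helpers here

set_option autoImplicit false
universe u
open CategoryTheory MonoidalCategory CartesianMonoidalCategory MonObj AlgebraicGeometry
open ValPrufer

namespace Groth.Agent.S14737

section
open CategoryTheory.Limits Groth.Agent.BLTorsor Groth.Agent.G0Patch

variable {R : Type u} [CommRing R]

set_option backward.isDefEq.respectTransparency false in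
/-- The completion along a nonzerodivisor of a Noetherian ring gives a glueing pair. -/
theorem glueingPair_completion [IsNoetherianRing R] (r : R) (hr : r ∈ nonZeroDivisors R) :
    EtGlue.IsGlueingPair R (AdicCompletion (Ideal.span {r}) R) r := by
  let J := Ideal.span ({r} : Set R)
  let R' := AdicCompletion J R
  have hJ : J.FG := ⟨{r}, by simp [J]⟩
  have hev : ∀ n (z : R), AdicCompletion.evalₐ J n (algebraMap R R' z) = Ideal.Quotient.mk _ z := fun n z =>
    (AdicCompletion.evalₐ J n).commutes z
  have hq : EtGlue.QuotPowBijective R R' r := by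
    intro n _
    have hker : RingHom.ker (AdicCompletion.evalₐ J n) = Ideal.map (algebraMap R R') (Ideal.span {r ^ n}) := by
      rw [Groth.Agent.S11958.ker_evalₐ J hJ n, ← Ideal.map_pow, Ideal.span_singleton_pow]
    refine ⟨(injective_iff_map_eq_zero _).2 fun x hx => ?_, fun y => ?_⟩
    · obtain ⟨z, rfl⟩ := Ideal.Quotient.mk_surjective x
      rw [Ideal.quotientMap_mk, Ideal.Quotient.eq_zero_iff_mem, ← hker, RingHom.mem_ker, hev,
        Ideal.Quotient.eq_zero_iff_mem, Ideal.span_singleton_pow] at hx
      exact Ideal.Quotient.eq_zero_iff_mem.2 hx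
    · obtain ⟨y, rfl⟩ := Ideal.Quotient.mk_surjective y
      obtain ⟨z, hz⟩ := Ideal.Quotient.mk_surjective (AdicCompletion.evalₐ J n y)
      refine ⟨Ideal.Quotient.mk _ z, ?_⟩
      rw [Ideal.quotientMap_mk, Ideal.Quotient.eq, ← hker, RingHom.mem_ker, map_sub, hev, hz, sub_self]
  haveI : Module.Flat R R' := AdicCompletion.flat_of_isNoetherian J
  refine (Groth.Agent.EtGlueLib.isGlueingPair_iff hq).mpr ⟨fun x ⟨n, hn⟩ _ => ?_, fun x' ⟨n, hn⟩ => ?_⟩
  · exact (pow_mem hr n).1 x hn
  · refine ⟨0, ⟨0, by simp⟩, ?_⟩
    have hs : IsSMulRegular R (r ^ n) := fun a b hab => by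
      refine sub_eq_zero.1 ((pow_mem hr n).1 _ ?_)
      simp only [smul_eq_mul] at hab
      rw [mul_sub, hab, sub_self]
    have := hs.of_flat (S := R')
    rw [map_zero]
    refine (this ?_).symm
    show algebraMap R R' (r ^ n) • x' = algebraMap R R' (r ^ n) • 0
    rw [smul_zero, smul_eq_mul, map_pow]
    exact hn

set_option backward.isDefEq.respectTransparency false in
set_option backward.isDefEq.respectTransparency.types false in
set_option maxHeartbeats 1600000 in
/-- Points over the punctured completion factor, for a nonzerodivisor. -/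
theorem exists_factor [IsNoetherianRing R] (r : R) (hr : r ∈ nonZeroDivisors R)
    (G : Over (Spec (CommRingCat.of R))) [GrpObj G] (hG : Red.IsReductive G)
    (hGS : ∀ (X : Over (Spec (CommRingCat.of R))) (a : AlgGrp.Action G X),
      NonAbH1.IsTorsorFor Scheme.fppfPrecoverage a →
      NonAbH1.HasSectionOver X (Spec.map (CommRingCat.ofHom (algebraMap R (FractionRing R)))) →
      NonAbH1.HasSectionOver X (𝟙 (Spec (CommRingCat.of R))))
    (g : L (algebraMap R (AdicCompletion (Ideal.span {r}) R)) r ⟶ G) :
    ∃ (g₁ : S₁ r ⟶ G) (g₂ : S' (algebraMap R (AdicCompletion (Ideal.span {r}) R)) ⟶ G),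
      g = (νc _ r ≫ g₂) * (νo _ r ≫ g₁) := by
  have hp := glueingPair_completion r hr
  have hD := blData_of_glueingPair r hp
  haveI : IsAffineHom G.hom := hG.1
  haveI : Smooth G.hom := hG.2.1
  haveI : IsAffine G.left := isAffine_of_isAffineHom G.hom
  let A := Γ(G.left, ⊤)
  let j : Spec A ⟶ Spec (CommRingCat.of R) := G.left.isoSpec.inv ≫ G.hom
  letI : Algebra R A := (Spec.preimage j).hom.toAlgebra
  have hj : sp (algebraMap R A) = j := Spec.map_preimage j
  haveI : Flat (sp (algebraMap R A)) := by rw [hj]; infer_instance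
  haveI : LocallyOfFinitePresentation (sp (algebraMap R A)) := by rw [hj]; infer_instance
  let eG : G ≅ Over.mk (sp (algebraMap R A)) := Over.isoMk G.left.isoSpec (by
    show G.left.isoSpec.hom ≫ sp (algebraMap R A) = G.hom
    rw [hj]; simp [j])
  obtain ⟨X, a, b, hXf, hXp, hXs, hab⟩ := exists_model r hp eG g
  haveI := hXf; haveI := hXp; haveI := hXs
  obtain ⟨act, hact, hsec⟩ := exists_torsor hD a b g hab
  have hu : IsUnit (algebraMap R (FractionRing R) r) := IsLocalization.map_units (FractionRing R) ⟨r, hr⟩
  let k : Spec (CommRingCat.of (FractionRing R)) ⟶ (S₁ r).left :=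
    sp (IsLocalization.Away.lift (S := Localization.Away r) r hu)
  have hk : k ≫ (S₁ r).hom = sp (algebraMap R (FractionRing R)) := by
    show sp _ ≫ sp _ = _
    rw [← Spec.map_comp, ← CommRingCat.ofHom_comp, IsLocalization.Away.lift_comp]
  obtain ⟨s, hs⟩ := hGS X act hact
    ⟨k ≫ (lift (toUnit _ ≫ η[G]) (𝟙 (S₁ r)) ≫ b.α).left, by rw [Category.assoc, Over.w, hk]⟩
  exact hsec (Over.homMk s hs)

end

/-- Let R be a regular local ring with fraction field K, r ∈ R, R̂ the r-adic completion of R, and G a
reductive R-group scheme. Assume the Grothendieck–Serre statement for R and G: every G-torsor for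
the fppf topology over Spec R that has a K-point has a section. Then G(R̂[1/r]) = G(R̂) · G(R[1/r]):
every point g of G over R̂[1/r] is the product, in the group of R̂[1/r]-points, of the restriction
of an R̂-point g₂ and the restriction of an R[1/r]-point g₁; the product is written through the pair
morphism h = (g₂, g₁) into G ×_R G followed by the multiplication of G. (The published statement is
the implication from the Grothendieck–Serre conjecture; only its instance for this R and this G
enters the proof, so that instance is the hypothesis here.) -/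
theorem result (R : Type u) [CommRing R] [IsRegularLocalRing R] (r : R)
    (G : Over (Spec (CommRingCat.of R))) [GrpObj G] (hG : Red.IsReductive G)
    (hGS : ∀ (X : Over (Spec (CommRingCat.of R))) (a : AlgGrp.Action G X),
      NonAbH1.IsTorsorFor Scheme.fppfPrecoverage a →
      NonAbH1.HasSectionOver X (Spec.map (CommRingCat.ofHom (algebraMap R (FractionRing R)))) →
      NonAbH1.HasSectionOver X (𝟙 (Spec (CommRingCat.of R))))
    (g : Spec (CommRingCat.of (Localization.Away
            (algebraMap R (AdicCompletion (Ideal.span {r}) R) r))) ⟶ G.left)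
    (hg : g ≫ G.hom = Spec.map (CommRingCat.ofHom (algebraMap R (Localization.Away
            (algebraMap R (AdicCompletion (Ideal.span {r}) R) r))))) :
    ∃ (g₁ : Spec (CommRingCat.of (Localization.Away r)) ⟶ G.left)
      (g₂ : Spec (CommRingCat.of (AdicCompletion (Ideal.span {r}) R)) ⟶ G.left)
      (h : Spec (CommRingCat.of (Localization.Away
            (algebraMap R (AdicCompletion (Ideal.span {r}) R) r))) ⟶ (G ⊗ G).left),
      g₁ ≫ G.hom = Spec.map (CommRingCat.ofHom (algebraMap R (Localization.Away r))) ∧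
      g₂ ≫ G.hom = Spec.map (CommRingCat.ofHom (algebraMap R (AdicCompletion (Ideal.span {r}) R))) ∧
      h ≫ (fst G G).left = Spec.map (CommRingCat.ofHom (algebraMap (AdicCompletion (Ideal.span {r}) R)
                (Localization.Away (algebraMap R (AdicCompletion (Ideal.span {r}) R) r)))) ≫ g₂ ∧
      h ≫ (snd G G).left = Spec.map (CommRingCat.ofHom (Localization.awayMap
                (algebraMap R (AdicCompletion (Ideal.span {r}) R)) r)) ≫ g₁ ∧
      g = h ≫ (μ[G]).left := by
  open CategoryTheory.Limits Groth.Agent.BLTorsor Groth.Agent.G0Patch in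
  haveI : IsDomain R := Groth.Agent.RegLoc.isDomain R
  let φ := algebraMap R (AdicCompletion (Ideal.span {r}) R)
  let gL : Groth.Agent.BLTorsor.L φ r ⟶ G := Over.homMk g (by
    refine hg.trans ?_
    show _ = Spec.map _ ≫ Spec.map _
    rw [← Spec.map_comp, ← CommRingCat.ofHom_comp, ← IsScalarTower.algebraMap_eq])
  suffices h : ∃ (g₁ : Groth.Agent.BLTorsor.S₁ r ⟶ G) (g₂ : Groth.Agent.BLTorsor.S' φ ⟶ G),
      gL = (Groth.Agent.BLTorsor.νc φ r ≫ g₂) * (Groth.Agent.BLTorsor.νo φ r ≫ g₁) by
    obtain ⟨g₁, g₂, hgg⟩ := h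
    let h := lift (Groth.Agent.BLTorsor.νc φ r ≫ g₂) (Groth.Agent.BLTorsor.νo φ r ≫ g₁)
    refine ⟨g₁.left, g₂.left, h.left, Over.w g₁, Over.w g₂,
      (congrArg CommaMorphism.left (lift_fst (Groth.Agent.BLTorsor.νc φ r ≫ g₂) (Groth.Agent.BLTorsor.νo φ r ≫ g₁)) :),
      (congrArg CommaMorphism.left (lift_snd (Groth.Agent.BLTorsor.νc φ r ≫ g₂) (Groth.Agent.BLTorsor.νo φ r ≫ g₁)) :), ?_⟩
    rw [CategoryTheory.Hom.mul_def] at hgg
    exact congrArg CommaMorphism.left hgg
  by_cases hr : r = 0
  · subst hr
    haveI : Subsingleton (Localization.Away (φ 0)) :=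
      IsLocalization.subsingleton (M := Submonoid.powers (φ 0)) ⟨1, by simp⟩
    refine ⟨toUnit _ ≫ η[G], toUnit _ ≫ η[G], Over.OverMorphism.ext ?_⟩
    haveI : IsEmpty (Groth.Agent.BLTorsor.L φ 0).left :=
      inferInstanceAs (IsEmpty (PrimeSpectrum (Localization.Away (φ 0))))
    exact (isInitialOfIsEmpty (X := (Groth.Agent.BLTorsor.L φ 0).left)).hom_ext _ _
  · exact exists_factor r (mem_nonZeroDivisors_of_ne_zero hr) G hG hGS gL

end Groth.Agent.S14737
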