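import Groth.Statements.S14738
import Groth.Agent.EtStruct.PruferSpec

-- import your own Groth.Agent.* helpers here

set_option autoImplicit false
universe u
open ValPrufer

namespace Groth.Agent.S14738

/-- Let R be a semilocal Prüfer domain (an integral domain with finitely many maximal ideals whose
localisations at primes are valuation rings) of finite Krull dimension, and m a maximal ideal of R.
Then there is a ∈ R with V(a) = {m}, i.e. m is the only prime ideal containing a, and there is b ∉ m
such that R[1/b] is the localisation R_m (every element outside m becomes invertible after inverting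
b); consequently the spectra of the local rings R_m form a Zariski open covering of Spec R. (The
published remark assumes positive Krull dimension to construct a; for R a field the assertions hold
with a = 0 and b = 1. It also takes b to be the product of the elements a_n chosen in the same way
for the other maximal ideals n; that choice fails as soon as a non-maximal prime lies in another
maximal ideal but not in m, e.g. for the intersection of two independent rank-two valuation rings of
a field, so this row asserts only that some such b exists.) -/
theorem result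
    (R : Type u) [CommRing R] [IsDomain R]
    (hR : ∀ (p : Ideal R) [p.IsPrime], ValuationRing (Localization.AtPrime p))
    (hfin : Finite (MaximalSpectrum R)) (hdim : ringKrullDim R < ⊤)
    (m : Ideal R) [m.IsMaximal] :
    (∃ a : R, ∀ (p : Ideal R), p.IsPrime → (a ∈ p ↔ p = m)) ∧
      ∃ b : R, b ∉ m ∧ IsLocalization.AtPrime (Localization.Away b) m := by
  classical
  haveI := Groth.Agent.EtStruct.finite_primeSpectrum_of_semilocal_prufer R hR hfin hdim
  haveI := Fintype.ofFinite (PrimeSpectrum R)
  refine ⟨?_, ?_⟩
  · let m' : PrimeSpectrum R := ⟨m, inferInstance⟩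
    have h : ¬ ((m : Set R) ⊆ ⋃ p ∈ (↑(Finset.univ.erase m') : Set (PrimeSpectrum R)), (p.asIdeal : Set R)) := by
      rw [Ideal.subset_union_prime m' m' (fun i _ _ _ => i.2)]
      rintro ⟨p, hp, hle⟩
      exact (Finset.mem_erase.mp hp).1 (PrimeSpectrum.ext (Ideal.IsMaximal.eq_of_le ‹_› p.2.ne_top hle).symm)
    obtain ⟨a, ha, hna⟩ := Set.not_subset.mp h
    refine ⟨a, fun p hp => ⟨fun hap => ?_, fun h => h ▸ ha⟩⟩
    by_contra hne
    refine hna (Set.mem_biUnion (x := (⟨p, hp⟩ : PrimeSpectrum R)) ?_ hap)
    rw [Finset.coe_erase, Finset.coe_univ]
    exact ⟨trivial, fun h => hne (congrArg PrimeSpectrum.asIdeal h)⟩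
  · have hex : ∀ p : {p : PrimeSpectrum R // ¬ p.asIdeal ≤ m}, ∃ x ∈ p.1.asIdeal, x ∉ m := fun p => Set.not_subset.mp p.2
    choose x hxp hxm using hex
    let b := ∏ p, x p
    have hb : b ∈ m.primeCompl := prod_mem (fun p _ => hxm p)
    refine ⟨b, hb, ?_⟩
    refine IsLocalization.of_le (Submonoid.powers b) m.primeCompl (Submonoid.powers_le.mpr hb) fun r hr => ?_
    by_contra hu
    obtain ⟨P, hP, hle⟩ := Ideal.exists_le_maximal (Ideal.span {algebraMap R (Localization.Away b) r}) (by rwa [ne_eq, Ideal.span_singleton_eq_top])
    haveI := hP.isPrime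
    have hbP : b ∉ P.comap (algebraMap R (Localization.Away b)) := fun h =>
      hP.ne_top (Ideal.eq_top_of_isUnit_mem _ h (IsLocalization.map_units _ (⟨b, Submonoid.mem_powers b⟩ : Submonoid.powers b)))
    have hrP : r ∈ P.comap (algebraMap R (Localization.Away b)) := hle (Ideal.mem_span_singleton_self _)
    let q : {p : PrimeSpectrum R // ¬ p.asIdeal ≤ m} := ⟨⟨_, Ideal.comap_isPrime (algebraMap R (Localization.Away b)) P⟩, fun h => hr (h hrP)⟩
    exact hbP (Ideal.mem_of_dvd (P.comap (algebraMap R (Localization.Away b))) (Finset.dvd_prod_of_mem x (Finset.mem_univ q)) (hxp q))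

end Groth.Agent.S14738
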