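import Groth.Statements.S14741
import Groth.Agent.S0010
import Groth.Agent.S0022

-- import your own Groth.Agent.* helpers here

set_option autoImplicit false
universe u
open CategoryTheory AlgebraicGeometry
open ValPrufer

namespace Groth.Agent.S14741

open AlgebraicGeometry in

/-- Let R be a semilocal Prüfer domain (an integral domain with finitely many maximal ideals whose
localisations at primes are valuation rings) of finite Krull dimension, m ≥ 1, X a closed subscheme
of projective (m-1)-space over R which is flat over R, and F a finitely presented (equivalently,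
coherent) O_X-module. Then H^q(X, F) = 0 for all q > m. -/
theorem result
    (R : Type u) [CommRing R] [IsDomain R]
    (hR : ∀ (p : Ideal R) [p.IsPrime], ValuationRing (Localization.AtPrime p))
    (hfin : Finite (MaximalSpectrum R)) (hdim : ringKrullDim R < ⊤)
    (m : ℕ) (hm : 1 ≤ m) (X : Scheme.{u}) (ι : X ⟶ CohB1.ProjSpace (m - 1) R) [IsClosedImmersion ι]
    [Flat (ι ≫ CohB1.ProjSpace.toSpec (m - 1) R)]
    (F : X.Modules) (hF : CohB1.IsFP F) (q : ℕ) (hq : m < q) :
    Subsingleton (Coh.HH X F q) := by
  have : (CohB1.ProjSpace (m - 1) R).IsSeparated := inferInstanceAs (Scheme.IsSeparated (Proj (CohB1.polyGrading (m - 1) R)))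
  have hXs : X.IsSeparated := ⟨by
    rw [show CategoryTheory.Limits.terminal.from X = ι ≫ CategoryTheory.Limits.terminal.from _ from CategoryTheory.Limits.terminal.hom_ext _ _]
    infer_instance⟩
  haveI := hF
  obtain ⟨σ, -⟩ := SheafOfModules.IsFinitePresentation.exists_quasicoherentData.{u} F
  haveI : Coh.IsQCoh F := σ.isQuasicoherent
  refine Groth.Agent.S0010.result X m (fun i => ι ⁻¹ᵁ Groth.Agent.ProjTwist.stdOpen (m - 1) R (Fin.cast (by omega) i))
    (fun i => (Groth.Agent.ProjTwist.isAffineOpen_stdOpen (m - 1) R _).preimage ι) ?_ (fun V W hV hW => hV.inf hW) F q hq.le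
  rw [← Scheme.Hom.preimage_iSup, eq_top_iff, ← Scheme.Hom.preimage_top ι]
  refine Scheme.Hom.preimage_mono _ ?_
  rw [← Groth.Agent.ProjTwist.iSup_stdOpen (m - 1) R]
  exact iSup_le fun i => le_iSup_of_le (Fin.cast (by omega) i) le_rfl

end Groth.Agent.S14741
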