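import Groth.Statements.S14743


set_option autoImplicit false
universe u
open CategoryTheory MonoidalCategory CartesianMonoidalCategory MonObj GrpObj AlgebraicGeometry
open AlgGrp

namespace Groth.Agent.S14743

/-- Over an algebraically closed field k let L, G, B be commutative k-group schemes, i : L → G and π : G
→ B homomorphisms with i the kernel of π, and suppose that every k-morphism B × B → L is constant
(factors through a k-point of L). If π admits a section which is a morphism of k-schemes, then it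
admits a section which is a homomorphism, so the extension splits. (The published statement is for
algebraic groups, that is, of finite type over k; finiteness plays no role and is not assumed here.) -/
theorem result (k : Type u) [Field k] [IsAlgClosed k]
    (L G B : Over (Spec (CommRingCat.of k))) [GrpObj L] [GrpObj G] [GrpObj B]
    [IsCommMonObj L] [IsCommMonObj G] [IsCommMonObj B]
    (i : L ⟶ G) [IsMonHom i] (π : G ⟶ B) [IsMonHom π] (hker : AlgGrp.IsKernel i π)
    (hconst : ∀ f : B ⊗ B ⟶ L, ∃ l : 𝟙_ (Over (Spec (CommRingCat.of k))) ⟶ L, f = toUnit (B ⊗ B) ≫ l)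
    (s : B ⟶ G) (hs : s ≫ π = 𝟙 B) :
    ∃ s' : B ⟶ G, IsMonHom s' ∧ s' ≫ π = 𝟙 B := by
  let one' : 𝟙_ (Over (Spec (CommRingCat.of k))) ⟶ B := η[B]
  let s' : B ⟶ G := s * (toUnit B ≫ η[B] ≫ s)⁻¹
  have hπs' : s' ≫ π = 𝟙 B := by
    rw [MonObj.mul_comp, GrpObj.inv_comp, hs, Category.assoc, Category.assoc, hs, Category.comp_id,
      ← Hom.one_def, inv_one, _root_.mul_one]
  have hes : η[B] ≫ s' = 1 := by
    rw [MonObj.comp_mul, GrpObj.comp_inv, comp_toUnit_assoc, toUnit_unit, Category.id_comp,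
      mul_inv_cancel]
  let d : B ⊗ B ⟶ G := (μ[B] ≫ s') * ((fst B B ≫ s') * (snd B B ≫ s'))⁻¹
  have hd : d ≫ π = toUnit (B ⊗ B) ≫ η[B] := by
    simp only [d, MonObj.mul_comp, GrpObj.inv_comp, Category.assoc, hπs', Category.comp_id,
      mul_eq_mul, ← Hom.one_def, mul_inv_cancel]
  obtain ⟨l, hl⟩ := hconst (hker.lift d (toUnit _) hd)
  have hdl : d = toUnit (B ⊗ B) ≫ l ≫ i := by
    rw [← hker.lift_fst d (toUnit _) hd, hl, Category.assoc]
  have e0 : lift η[B] η[B] ≫ d = 1 := by
    simp only [d, MonObj.comp_mul, GrpObj.comp_inv, lift_fst_assoc, lift_snd_assoc, hes]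
    rw [show lift η[B] η[B] ≫ μ[B] ≫ s' = (η[B] * η[B]) ≫ s' by rw [Hom.mul_def, Category.assoc],
      show (η[B] : 𝟙_ _ ⟶ B) = 1 by rw [Hom.one_def, toUnit_unit, Category.id_comp], _root_.one_mul,
      ← show (η[B] : 𝟙_ _ ⟶ B) = 1 by rw [Hom.one_def, toUnit_unit, Category.id_comp], hes]
    simp
  have hd1 : d = 1 := by
    rw [hdl] at e0
    rw [comp_toUnit_assoc, toUnit_unit, Category.id_comp] at e0
    rw [hdl, e0, MonObj.comp_one]
  refine ⟨s', ⟨?_, ?_⟩, hπs'⟩
  · rw [hes, Hom.one_def, toUnit_unit, Category.id_comp]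
  · rw [mul_inv_eq_one.mp hd1, Hom.mul_def]
    congr 1

end Groth.Agent.S14743
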