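import Groth.Statements.S14751
import Groth.Agent.GITLib.RigidGroup
import Groth.Agent.GrpScheme.AntiAffine
import Groth.Agent.GrpScheme.HomFlat
import Groth.Agent.S7996
import Groth.Agent.GrpdLib.GrpOver
import Groth.Agent.UnipLib.FppfDesc

set_option autoImplicit false
universe u
open CategoryTheory CategoryTheory.Limits MonoidalCategory CartesianMonoidalCategory MonObj GrpObj AlgebraicGeometry
open AlgGrp

open Limits Groth.Agent

namespace Groth.Agent.S14751

set_option backward.isDefEq.respectTransparency false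

/-- Over an algebraically closed field k let G be a group variety (smooth connected k-group scheme of
finite type), i : N → G an affine closed subgroup scheme which is the kernel of a flat surjective
homomorphism π : G → Q, and j : A → G an abelian subvariety (a smooth connected proper closed
subgroup scheme) with A · N = G, that is, the multiplication A × N → G is surjective. Then the
multiplication A × N → G is a homomorphism and an isogeny (surjective with finite kernel), and so is
the composite A → G → Q. (In the published statement N is the largest connected affine normal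
subgroup variety and Q = G/N the Albanese quotient; only the listed properties are used.) -/
theorem result (k : Type u) [Field k] [IsAlgClosed k]
    (G N A Q : Over (Spec (CommRingCat.of k))) [GrpObj G] [GrpObj N] [GrpObj A] [GrpObj Q]
    [Smooth G.hom] [QuasiCompact G.hom] [ConnectedSpace ↥G.left]
    (i : N ⟶ G) [IsMonHom i] [IsClosedImmersion i.left] [IsAffine N.left]
    (π : G ⟶ Q) [IsMonHom π] [Flat π.left] [Surjective π.left] (hker : AlgGrp.IsKernel i π)
    (j : A ⟶ G) [IsMonHom j] [IsClosedImmersion j.left] [Smooth A.hom] [ConnectedSpace ↥A.left] [IsProper A.hom]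
    (hsurj : Surjective ((j ⊗ₘ i) ≫ μ[G]).left) :
    IsMonHom ((j ⊗ₘ i) ≫ μ[G]) ∧ SGA7.IsIsogenyOver ((j ⊗ₘ i) ≫ μ[G]) ∧ SGA7.IsIsogenyOver (j ≫ π) := by
  haveI : IsReduced A.left := GrpScheme.HomFlat.isReduced_of_smooth A.hom
  haveI : IsIso A.hom.appTop :=
    (ConcreteCategory.isIso_iff_bijective _).mpr (GITLib.Rigid.bijective_appTop (K := k) A.hom)
  have hcomm : ∀ {T : Over (Spec (CommRingCat.of k))} (a : T ⟶ A) (g : T ⟶ G), (a ≫ j) * g = g * (a ≫ j) := by
    intro T a g
    simpa using Groth.Agent.S7996.result k A G ((GrpScheme.AntiAffine.bijective_iff_isIso A).mpr inferInstance)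
      j T a T (𝟙 T) g
  let m : A ⊗ N ⟶ G := (j ⊗ₘ i) ≫ μ[G]
  have hm : ∀ {T : Over (Spec (CommRingCat.of k))} (z : T ⟶ A ⊗ N),
      z ≫ m = (z ≫ fst A N ≫ j) * (z ≫ snd A N ≫ i) := by
    intro T z
    show z ≫ (j ⊗ₘ i) ≫ μ[G] = _
    rw [MonObj.mul_eq_mul, MonObj.comp_mul, MonObj.comp_mul, tensorHom_fst, tensorHom_snd]
  have hmm : IsMonHom m := WittLib.Basic.isMonHom_of_points _ fun T x y => by
    rw [hm, hm, hm, ← Category.assoc, ← Category.assoc (x * y), MonObj.mul_comp, MonObj.mul_comp,
      MonObj.mul_comp, MonObj.mul_comp]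
    simp only [Category.assoc]
    rw [_root_.mul_assoc, _root_.mul_assoc]
    congr 1
    rw [← _root_.mul_assoc, ← _root_.mul_assoc, ← Category.assoc y (fst A N) j, hcomm]
  haveI := hmm
  have hmπ : m ≫ π = fst A N ≫ j ≫ π := by
    show ((j ⊗ₘ i) ≫ μ[G]) ≫ π = _
    rw [MonObj.mul_eq_mul, MonObj.comp_mul, tensorHom_fst, tensorHom_snd, MonObj.mul_comp, Category.assoc (snd A N),
      show i ≫ π = toUnit N ≫ η[Q] from hker.w, ← Category.assoc (snd A N),
      toUnit_unique (snd A N ≫ toUnit N) (toUnit _), ← Hom.one_def, _root_.mul_one, Category.assoc]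
  -- the intersection is finite
  let P := pullback j i
  let a₀ : P ⟶ A := pullback.fst j i
  let n₀ : P ⟶ N := pullback.snd j i
  have hP : IsPullback a₀ n₀ j i := IsPullback.of_hasPullback j i
  have hPl : IsPullback a₀.left n₀.left j.left i.left := GrpdLib.GrpOver.isPullback_left hP
  haveI : IsClosedImmersion a₀.left := MorphismProperty.of_isPullback (P := @IsClosedImmersion) hPl.flip inferInstance
  haveI : IsClosedImmersion n₀.left := MorphismProperty.of_isPullback (P := @IsClosedImmersion) hPl inferInstance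
  have hPf : IsFinite P.hom := by
    rw [IsFinite.iff_isProper_and_isAffineHom]
    exact ⟨by rw [← Over.w a₀]; infer_instance, by rw [← Over.w n₀]; infer_instance⟩
  have hfin : ∀ (N₁ : Over (Spec (CommRingCat.of k))), (N₁ ≅ P) → IsFinite N₁.hom := fun N₁ e => by
    haveI := hPf
    haveI : IsIso e.hom.left := inferInstanceAs (IsIso ((Over.forget _).map e.hom))
    rw [← Over.w e.hom]
    infer_instance
  refine ⟨hmm, ⟨hsurj, fun N₁ ν h₁ => hfin N₁ ?_⟩, ⟨?_, fun N₁ ν h₁ => hfin N₁ ?_⟩⟩
  · have hι : (ν ≫ fst A N ≫ j) * (ν ≫ snd A N ≫ i) = 1 := by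
      rw [← hm, show ν ≫ m = toUnit N₁ ≫ η[G] from h₁.w, Hom.one_def]
    let f : N₁ ⟶ P := hP.lift (ν ≫ fst A N) (ν ≫ snd A N)⁻¹ (by
      rw [GrpObj.inv_comp, Category.assoc, Category.assoc]
      exact eq_inv_of_mul_eq_one_left hι)
    have hg : lift a₀ n₀⁻¹ ≫ m = toUnit P ≫ η[G] := by
      rw [hm, lift_fst_assoc, lift_snd_assoc, GrpObj.inv_comp, hP.w, mul_inv_cancel, Hom.one_def]
    let g : P ⟶ N₁ := h₁.lift (lift a₀ n₀⁻¹) (toUnit P) hg
    refine ⟨f, g, h₁.hom_ext ?_ (toUnit_unique _ _), hP.hom_ext ?_ ?_⟩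
    · rw [Category.assoc, h₁.lift_fst, comp_lift, GrpObj.comp_inv, hP.lift_fst, hP.lift_snd, _root_.inv_inv,
        Category.id_comp]
      exact CartesianMonoidalCategory.hom_ext _ _ (lift_fst _ _) (lift_snd _ _)
    · rw [Category.assoc, hP.lift_fst, ← Category.assoc, h₁.lift_fst, lift_fst, Category.id_comp]
    · rw [Category.assoc, hP.lift_snd, GrpObj.comp_inv, ← Category.assoc, h₁.lift_fst, lift_snd,
        _root_.inv_inv, Category.id_comp]
  · haveI : Surjective ((fst A N).left ≫ (j ≫ π).left) := by
      rw [← Over.comp_left, ← hmπ, Over.comp_left]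
      haveI : Surjective m.left := hsurj
      infer_instance
    exact Surjective.of_comp (fst A N).left (j ≫ π).left
  · have hk : AlgGrp.IsKernel a₀ (j ≫ π) := by
      have h := hP.flip.paste_horiz hker.flip
      rw [toUnit_unique (n₀ ≫ toUnit N) (toUnit P)] at h
      exact h.flip
    exact h₁.isoIsPullback _ _ hk

end Groth.Agent.S14751
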