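import Groth.Statements.S14754
import Groth.Agent.DiagRig.DSHom
import Groth.Agent.DiagRig.Split
import Groth.Agent.DiagRig.AgreeGraph

set_option autoImplicit false
universe u
open CategoryTheory CategoryTheory.Limits MonoidalCategory CartesianMonoidalCategory MonObj GrpObj AlgebraicGeometry
open AlgGrp

open Limits Groth.Agent.RedPts Groth.Agent.DiagRig

namespace Groth.Agent.S14754

set_option backward.isDefEq.respectTransparency.types false

variable {S : Scheme.{u}} {M N : Type} [AddCommGroup M] [AddCommGroup N]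

lemma isMonHom_DSmap (φ : N →+ M) : IsMonHom (Red.DSmap S φ) :=
  isMonHom_of_pts _ fun Y x y => d_ext fun n => by rw [d_mul, DSmap_fn, DSmap_fn, DSmap_fn, d_mul]

lemma DSmap_injective [Nonempty S] {φ ψ : N →+ M} (h : Red.DSmap S φ = Red.DSmap S ψ) : φ = ψ := by
  refine AddMonoidHom.ext fun n => sub_eq_zero.mp (DSHom.dFn_id_eq_one (U := S) _ ?_)
  have e := congrArg (fun z => dFn z n) h
  rw [← Category.id_comp (Red.DSmap S φ), ← Category.id_comp (Red.DSmap S ψ), DSmap_fn, DSmap_fn] at e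
  refine (d_isUnit (𝟙 _) (ψ n)).mul_left_cancel ?_
  rw [← d_add, add_sub_cancel, _root_.mul_one]
  exact e

lemma DSmap_comp {P : Type} [AddCommGroup P] (φ : N →+ M) (ψ : P →+ N) :
    Red.DSmap S φ ≫ Red.DSmap S ψ = Red.DSmap S (φ.comp ψ) := d_ext fun a => by
  rw [DSmap_fn]
  conv_lhs => rw [← Category.id_comp (Red.DSmap S φ), DSmap_fn]
  conv_rhs => rw [← Category.id_comp (Red.DSmap S (φ.comp ψ)), DSmap_fn]
  rfl

lemma exists_eq_DSmap [Subsingleton S] [Nonempty S] (v : Red.DS S M ⟶ Red.DS S N) [IsMonHom v]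
    (hN : AddGroup.FG N) : ∃ φ : N →+ M, v = Red.DSmap S φ := by
  obtain ⟨x⟩ := ‹Nonempty S›
  obtain ⟨V, hx, φ, hφ⟩ := DSHom.exists_localHom v hN x
  exact ⟨φ, by simpa using hφ _ (𝟙 _) fun y _ => by rw [Subsingleton.elim y x]; exact hx⟩

lemma exists_monIso {T : Over S} [GrpObj T] (h : Red.IsSplitTorusWith M T) :
    ∃ e : T ≅ Red.DS S M, IsMonHom e.hom ∧ IsMonHom e.inv := by
  obtain ⟨e⟩ := h
  exact ⟨⟨e.hom.hom.hom, e.inv.hom.hom, grpIso_hom_inv e, grpIso_hom_inv e.symm⟩, e.hom.hom.isMonHom_hom,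
    e.inv.hom.isMonHom_hom⟩

lemma d_one {X : Over S} (m : M) : dFn (1 : X ⟶ Red.DS S M) m = 1 := by
  refine (d_isUnit (1 : X ⟶ Red.DS S M) m).mul_left_cancel ?_
  rw [← d_mul, _root_.mul_one]
  exact congrArg (fun z => dFn z m) (_root_.mul_one (1 : X ⟶ Red.DS S M))

lemma hom_one {A B : Over S} [GrpObj A] [GrpObj B] (f : A ⟶ B) (hf : IsMonHom f) {X : Over S} :
    (1 : X ⟶ A) ≫ f = 1 := MonObj.one_comp f

lemma hom_mul {A B : Over S} [GrpObj A] [GrpObj B] (f : A ⟶ B) (hf : IsMonHom f) {X : Over S} (x y : X ⟶ A) :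
    (x * y) ≫ f = (x ≫ f) * (y ≫ f) := MonObj.mul_comp x y f

/-- Over an algebraically closed field k, every exact sequence of split tori splits: if K, G, Q are
split tori over k, i : K → G a closed subgroup scheme which is the kernel of a flat surjective
homomorphism π : G → Q, then π has a section which is a homomorphism. -/
theorem result (k : Type u) [Field k] [IsAlgClosed k]
    (K G Q : Over (Spec (CommRingCat.of k))) [GrpObj K] [GrpObj G] [GrpObj Q] (nK nG nQ : ℕ)
    (hK : Red.IsSplitTorusWith (Fin nK → ℤ) K) (hG : Red.IsSplitTorusWith (Fin nG → ℤ) G)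
    (hQ : Red.IsSplitTorusWith (Fin nQ → ℤ) Q)
    (i : K ⟶ G) [IsMonHom i] [IsClosedImmersion i.left]
    (π : G ⟶ Q) [IsMonHom π] [Flat π.left] [Surjective π.left] (hker : AlgGrp.IsKernel i π) :
    ∃ s : Q ⟶ G, IsMonHom s ∧ s ≫ π = 𝟙 Q := by
  obtain ⟨eK, hKm, hKm'⟩ := exists_monIso hK
  obtain ⟨eG, hGm, hGm'⟩ := exists_monIso hG
  obtain ⟨eQ, hQm, hQm'⟩ := exists_monIso hQ
  let p : Red.DS (Spec (CommRingCat.of k)) (Fin nG → ℤ) ⟶ Red.DS (Spec (CommRingCat.of k)) (Fin nQ → ℤ) :=
    eG.inv ≫ π ≫ eQ.hom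
  let j : Red.DS (Spec (CommRingCat.of k)) (Fin nK → ℤ) ⟶ Red.DS (Spec (CommRingCat.of k)) (Fin nG → ℤ) :=
    eK.inv ≫ i ≫ eG.hom
  obtain ⟨φ, hφ⟩ := exists_eq_DSmap p inferInstance
  obtain ⟨ψ, hψ⟩ := exists_eq_DSmap j inferInstance
  -- injectivity on characters
  have hφinj : Function.Injective φ := by
    refine DSHom.injective_of_epi (U := (Spec (CommRingCat.of k))) φ ?_
    rw [← hφ]
    have : IsIso eG.inv.left := inferInstanceAs (IsIso ((Over.forget _).map eG.inv))
    have : IsIso eQ.hom.left := inferInstanceAs (IsIso ((Over.forget _).map eQ.hom))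
    have : QuasiCompact π.left := by
      have : IsAffine (Red.DS (Spec (CommRingCat.of k)) (Fin nQ → ℤ)).left :=
        have : IsAffine (Red.diag (ULift.{u} ℤ) (Fin nQ → ℤ)).left := inferInstanceAs (IsAffine (Spec _))
        inferInstanceAs (IsAffine (pullback (Red.diag (ULift.{u} ℤ) (Fin nQ → ℤ)).hom _))
      have : IsAffine Q.left := IsAffine.of_isIso eQ.hom.left
      have : IsAffine (Red.DS (Spec (CommRingCat.of k)) (Fin nG → ℤ)).left :=
        have : IsAffine (Red.diag (ULift.{u} ℤ) (Fin nG → ℤ)).left := inferInstanceAs (IsAffine (Spec _))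
        inferInstanceAs (IsAffine (pullback (Red.diag (ULift.{u} ℤ) (Fin nG → ℤ)).hom _))
      have : IsAffine G.left := IsAffine.of_isIso (inv eG.inv.left)
      infer_instance
    have : Epi π.left := Flat.epi_of_flat_of_surjective _
    simp only [p, Over.comp_left]
    infer_instance
  -- surjectivity on characters of the kernel
  have : Mono i := Over.mono_of_mono_left _
  have : Mono j := by simp only [j]; infer_instance
  have hψsurj : Function.Surjective ψ := DSHom.surjective_of_mono (U := (Spec (CommRingCat.of k))) ψ (by rw [← hψ]; infer_instance)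
  have hψφ : ψ.comp φ = 0 := by
    refine DSmap_injective (S := Spec (CommRingCat.of k)) ?_
    rw [← DSmap_comp, ← hψ, ← hφ]
    have hw : i ≫ π = toUnit K ≫ η[Q] := hker.w
    have e1 : Red.DSmap (Spec (CommRingCat.of k)) (0 : (Fin nQ → ℤ) →+ (Fin nK → ℤ)) = 1 := d_ext fun m => by
      rw [← Category.id_comp (Red.DSmap (Spec (CommRingCat.of k)) (0 : (Fin nQ → ℤ) →+ (Fin nK → ℤ))), DSmap_fn, AddMonoidHom.zero_apply, d_zero]
      exact (d_one m).symm
    rw [e1]
    show (eK.inv ≫ i ≫ eG.hom) ≫ eG.inv ≫ π ≫ eQ.hom = 1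
    simp only [Category.assoc, Iso.hom_inv_id_assoc, reassoc_of% hw]
    rw [MonObj.one_eq_one, hom_one eQ.hom hQm, MonObj.comp_one, MonObj.comp_one]
  -- the kernel contains the quotient of the cokernel
  have hker' : ∀ m, ψ m = 0 → m ∈ φ.range := by
    let q := QuotientAddGroup.mk' φ.range
    let z : Red.DS (Spec (CommRingCat.of k)) ((Fin nG → ℤ) ⧸ φ.range) ⟶ G := Red.DSmap (Spec (CommRingCat.of k)) q ≫ eG.inv
    have hqm := isMonHom_DSmap (S := Spec (CommRingCat.of k)) q
    have hjm : IsMonHom j := by simp only [j]; infer_instance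
    have hz : z ≫ π = (1 : _ ⟶ Q) := by
      rw [← cancel_mono eQ.hom, Category.assoc, hom_one eQ.hom hQm]
      show (Red.DSmap (Spec (CommRingCat.of k)) q ≫ eG.inv) ≫ π ≫ eQ.hom = _
      rw [Category.assoc, show eG.inv ≫ π ≫ eQ.hom = Red.DSmap (Spec (CommRingCat.of k)) φ from hφ, DSmap_comp]
      refine d_ext fun m => ?_
      rw [← Category.id_comp (Red.DSmap (Spec (CommRingCat.of k)) (q.comp φ)), DSmap_fn,
        show q.comp φ m = 0 from (QuotientAddGroup.eq_zero_iff _).mpr ⟨m, rfl⟩, d_zero]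
      exact (d_one m).symm
    obtain ⟨v, hv, -⟩ := hker.exists_lift z (toUnit _) hz
    let v' := v ≫ eK.hom
    have hvj : v' ≫ j = Red.DSmap (Spec (CommRingCat.of k)) q := by
      simp only [v', j, Category.assoc, Iso.hom_inv_id_assoc]
      rw [reassoc_of% hv, Category.assoc, Iso.inv_hom_id, Category.comp_id]
    have : IsMonHom v' := isMonHom_of_pts _ fun Y x y => by
      rw [← cancel_mono j, Category.assoc, hom_mul j hjm, Category.assoc x, Category.assoc y, hvj, hom_mul _ hqm]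
    obtain ⟨χ, hχ⟩ := exists_eq_DSmap v' inferInstance
    rw [hχ, hψ, DSmap_comp] at hvj
    intro m hm
    have e : q m = 0 := by
      rw [← DFunLike.congr_fun (DSmap_injective hvj) m]
      simp [hm]
    exact (QuotientAddGroup.eq_zero_iff _).mp e
  -- split
  obtain ⟨sec, hsec⟩ := Module.projective_lifting_property ψ.toIntLinearMap LinearMap.id hψsurj
  have hmem : ∀ m, m - sec (ψ m) ∈ φ.range := fun m => hker' _ (by
    rw [map_sub, show ψ (sec (ψ m)) = ψ m from LinearMap.congr_fun hsec (ψ m), sub_self])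
  let φe := AddMonoidHom.ofInjective hφinj
  let r : (Fin nG → ℤ) →+ (Fin nQ → ℤ) := φe.symm.toAddMonoidHom.comp
    ((AddMonoidHom.id _ - sec.toAddMonoidHom.comp ψ).codRestrict φ.range hmem)
  have hr : r.comp φ = AddMonoidHom.id _ := AddMonoidHom.ext fun n => φe.injective (Subtype.ext (by
    have h0 : ψ (φ n) = 0 := DFunLike.congr_fun hψφ n
    show (φe (φe.symm _) : Fin nG → ℤ) = φ n
    rw [φe.apply_symm_apply]
    simp [h0]))
  have := isMonHom_DSmap (S := Spec (CommRingCat.of k)) r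
  refine ⟨eQ.hom ≫ Red.DSmap (Spec (CommRingCat.of k)) r ≫ eG.inv, inferInstance, ?_⟩
  rw [← cancel_mono eQ.hom]
  simp only [Category.assoc]
  rw [show eG.inv ≫ π ≫ eQ.hom = Red.DSmap (Spec (CommRingCat.of k)) φ from hφ, DSmap_comp, hr, Category.id_comp]
  conv_rhs => rw [← Category.comp_id eQ.hom]
  congr 1
  refine d_ext fun m => ?_
  rw [← Category.id_comp (Red.DSmap (Spec (CommRingCat.of k)) (AddMonoidHom.id _)), DSmap_fn]
  rfl

end Groth.Agent.S14754
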