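import Groth.Statements.S14758
import Groth.Agent.EtaleSite.HpullComp
import Groth.Agent.EtaleSite.Pull

set_option autoImplicit false
universe u
open CategoryTheory CategoryTheory.Limits MonoidalCategory CartesianMonoidalCategory MonObj GrpObj AlgebraicGeometry
open EtAdic

namespace Groth.Agent.S14758

open CategoryTheory CategoryTheory.Limits AlgebraicGeometry in
theorem Hmap_comp {X Y Z : Scheme.{u}} (g : X ⟶ Y) (h : Y ⟶ Z) (ℓ : ℕ)
    (hg : PreservesFiniteLimits (EtCoh.pull g)) (hh : PreservesFiniteLimits (EtCoh.pull h))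
    (hgh : PreservesFiniteLimits (EtCoh.pull (g ≫ h))) (i ν : ℕ) (x : EtAdic.Hmod Z ℓ i ν) :
    EtAdic.Hmap ℓ (g ≫ h) hgh i ν x = EtAdic.Hmap ℓ g hg i ν (EtAdic.Hmap ℓ h hh i ν x) := by
  haveI := hg
  haveI := hh
  haveI := hgh
  let M := AddCommGrpCat.of (ULift.{u + 1} (ZMod (ℓ ^ ν)))
  let A := EtCoh.const Z (ZMod (ℓ ^ ν))
  change (EtCore.Hpull (g ≫ h) A i x).comp (Abelian.Ext.mk₀ ((EtCore.pullConstIso (g ≫ h)).hom.app M)) (add_zero i) =
    (EtCore.Hpull g (EtCoh.const Y (ZMod (ℓ ^ ν))) i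
      ((EtCore.Hpull h A i x).comp (Abelian.Ext.mk₀ ((EtCore.pullConstIso h).hom.app M)) (add_zero i))).comp
      (Abelian.Ext.mk₀ ((EtCore.pullConstIso g).hom.app M)) (add_zero i)
  rw [EtaleSite.HpullSeq.Hpull_postcomp]
  refine Eq.trans ?_ (congrArg (fun t => Abelian.Ext.comp (Abelian.Ext.comp t _ (add_zero i)) _ (add_zero i))
    (EtaleSite.HpullComp.Hpull_comp g h i A x))
  rw [Abelian.Ext.comp_assoc_of_third_deg_zero, Abelian.Ext.mk₀_comp_mk₀,
    Abelian.Ext.comp_assoc_of_third_deg_zero, Abelian.Ext.mk₀_comp_mk₀]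
  congr 2
  have key := EtaleSite.HpullComp.pullConst_comp g h M
  refine (cancel_epi ((EtCore.pullConstIso (g ≫ h)).inv.app M)).1 ?_
  refine Eq.trans ((EtCore.pullConstIso (g ≫ h)).inv_hom_id_app M) ?_
  refine Eq.trans ?_ (Category.assoc _ _ _)
  refine Eq.trans ?_ (congrArg (· ≫ _) key.symm)
  rw [Category.assoc, ← (EtCoh.pull g).map_comp_assoc, Iso.inv_hom_id_app]
  erw [CategoryTheory.Functor.map_id, Category.id_comp]
  exact ((EtCore.pullConstIso g).inv_hom_id_app M).symm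


/-- Let k be a field, ℓ, ν natural numbers, G and G' commutative k-group schemes and φ, ψ : G → G'
homomorphisms. If x ∈ H^r(G'_et, Z/ℓ^ν) is primitive, that is m^*x = p_1^*x + p_2^*x for the
multiplication m and the projections p_1, p_2 of G' × G', then (φ + ψ)^*x = φ^*x + ψ^*x, where φ + ψ
is the sum in the group of homomorphisms. (The published lemma is for H^r_T(−, L) with T any of the
Zariski, étale or flat topologies and L any commutative algebraic group as coefficients; this row is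
its case T = étale, L = Z/ℓ^ν constant, the one used later.) -/
theorem result (k : Type u) [Field k] (ℓ ν r : ℕ)
    (G G' : Over (Spec (CommRingCat.of k))) [GrpObj G] [GrpObj G'] [IsCommMonObj G] [IsCommMonObj G']
    (φ ψ : G ⟶ G') [IsMonHom φ] [IsMonHom ψ]
    [hm : PreservesFiniteLimits (EtCoh.pull (μ[G']).left)]
    [h1 : PreservesFiniteLimits (EtCoh.pull (fst G' G').left)]
    [h2 : PreservesFiniteLimits (EtCoh.pull (snd G' G').left)]
    [hφ : PreservesFiniteLimits (EtCoh.pull φ.left)] [hψ : PreservesFiniteLimits (EtCoh.pull ψ.left)]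
    [hs : PreservesFiniteLimits (EtCoh.pull (φ * ψ).left)]
    (x : EtAdic.Hmod G'.left ℓ r ν)
    (hx : EtAdic.Hmap ℓ (μ[G']).left hm r ν x =
      EtAdic.Hmap ℓ (fst G' G').left h1 r ν x + EtAdic.Hmap ℓ (snd G' G').left h2 r ν x) :
    EtAdic.Hmap ℓ (φ * ψ).left hs r ν x = EtAdic.Hmap ℓ φ.left hφ r ν x + EtAdic.Hmap ℓ ψ.left hψ r ν x := by
  have key : ∀ (H : Over (Spec (CommRingCat.of k))) (a : G ⟶ H) (b : H ⟶ G')
      (hab : PreservesFiniteLimits (EtCoh.pull (a ≫ b).left)) (y : EtAdic.Hmod G'.left ℓ r ν),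
      EtAdic.Hmap ℓ (a ≫ b).left hab r ν y =
        EtAdic.Hmap ℓ a.left inferInstance r ν (EtAdic.Hmap ℓ b.left inferInstance r ν y) :=
    fun H a b hab y => Hmap_comp a.left b.left ℓ inferInstance inferInstance hab r ν y
  let p : G ⟶ G' ⊗ G' := lift φ ψ
  have e1 : EtAdic.Hmap ℓ (p ≫ fst G' G').left inferInstance r ν x =
      EtAdic.Hmap ℓ φ.left hφ r ν x := by simp only [p, lift_fst]
  have e2 : EtAdic.Hmap ℓ (p ≫ snd G' G').left inferInstance r ν x =
      EtAdic.Hmap ℓ ψ.left hψ r ν x := by simp only [p, lift_snd]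
  have e3 : EtAdic.Hmap ℓ (φ * ψ).left hs r ν x =
      EtAdic.Hmap ℓ (p ≫ μ[G']).left inferInstance r ν x := rfl
  rw [e3, key, ← e1, ← e2, key, key, ← map_add]
  exact congrArg _ hx

end Groth.Agent.S14758
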