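import Groth.Statements.S14759
import Groth.Agent.GrpScheme.AntiAffineProd
import Groth.Agent.GrpScheme.AffineHom
import Groth.Agent.GrpScheme.IdSubgroup
import Groth.Agent.GrpScheme.Smooth
import Groth.Agent.FpqcCov27.Quot
import Groth.Agent.GrpdLib.AffNormalQuot
import Groth.Agent.GrpQuot19.Field
-- import your own Groth.Agent.* helpers here

set_option autoImplicit false
set_option backward.isDefEq.respectTransparency false
universe u
open CategoryTheory CategoryTheory.Limits MonoidalCategory CartesianMonoidalCategory MonObj GrpObj AlgebraicGeometry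
open AlgGrp

namespace Groth.Agent.S14759

open CategoryTheory.MonoidalCategory CategoryTheory.CartesianMonoidalCategory MonObj GrpObj

variable {k : Type u} [Field k]

local notation "Sk" => Spec (CommRingCat.of k)

open GrpScheme in
/-- Conjugates of points of the identity component of a kernel stay in it. -/
lemma isNormalHom_id {G H N : Over Sk} [GrpObj G] [GrpObj H] [GrpObj N] [LocallyOfFiniteType N.hom]
    (φ : G ⟶ H) [IsMonHom φ] (iN : N ⟶ G) [IsMonHom iN] [Mono iN] (hker : AlgGrp.IsKernel iN φ)
    [IsMonHom (IdSubgroup.incl N)] : AlgGrp.IsNormalHom (IdSubgroup.incl N ≫ iN) := by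
  intro T g n
  let N₀ := IdSubgroup.G₀ N
  let j : N₀ ⟶ G := IdSubgroup.incl N ≫ iN
  have hjφ : j ≫ φ = 1 := by
    rw [Category.assoc, hker.w, ← Hom.one_def, MonObj.comp_one]
  have hconj : ∀ {U : Over Sk} (a : U ⟶ G) (b : U ⟶ N₀), ∃ c : U ⟶ N, c ≫ iN = a * (b ≫ j) * a⁻¹ := by
    intro U a b
    refine GrpdLib.GrpOver.kernel_factor hker _ ?_
    rw [MonObj.mul_comp _ a⁻¹ φ, MonObj.mul_comp a (b ≫ j) φ, Category.assoc, hjφ, MonObj.comp_one,
      _root_.mul_one, GrpObj.inv_comp, mul_inv_cancel]
  obtain ⟨c, hc⟩ := hconj g n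
  have hrange : Set.range c.left ⊆ connectedComponent (IdComponent.e₀ N) := by
    rintro _ ⟨t, rfl⟩
    let P := Points.pointObj T t
    let t₀ := Points.pointHom T t
    obtain ⟨F, hF⟩ := hconj (fst P N₀ ≫ t₀ ≫ g) (snd P N₀)
    have : IrreducibleSpace ↥((P ⊗ N₀).left) :=
      GeometricallyIrreducible.geometrically_irreducibleSpace (f := N₀.hom) P.hom _ _
        (IsPullback.of_hasPullback P.hom N₀.hom).flip
    have hR : _root_.IsPreconnected (Set.range F.left) := isPreconnected_range F.left.continuous
    obtain ⟨p₀⟩ := (inferInstance : Nonempty P.left)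
    have h1 : lift (𝟙 P) (1 : P ⟶ N₀) ≫ F = 1 := by
      rw [← cancel_mono iN, Category.assoc, hF, MonObj.comp_mul, MonObj.comp_mul, GrpObj.comp_inv,
        lift_fst_assoc, Category.id_comp, lift_snd_assoc, MonObj.one_comp, _root_.mul_one, mul_inv_cancel,
        MonObj.one_comp]
    have h2 : lift (𝟙 P) (t₀ ≫ n) ≫ F = t₀ ≫ c := by
      rw [← cancel_mono iN, Category.assoc, hF, Category.assoc, hc, MonObj.comp_mul, MonObj.comp_mul,
        GrpObj.comp_inv, lift_fst_assoc, Category.id_comp, lift_snd_assoc, MonObj.comp_mul, MonObj.comp_mul,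
        GrpObj.comp_inv, Category.assoc]
    refine hR.subset_connectedComponent ?_ ?_
    · refine ⟨(lift (𝟙 P) (1 : P ⟶ N₀)).left p₀, ?_⟩
      rw [← Scheme.Hom.comp_apply, ← Over.comp_left, h1, Hom.one_def, Over.comp_left, Scheme.Hom.comp_apply]
      exact congrArg η[N].left (Subsingleton.elim (α := PrimeSpectrum k) _ _)
    · refine ⟨(lift (𝟙 P) (t₀ ≫ n)).left p₀, ?_⟩
      rw [← Scheme.Hom.comp_apply, ← Over.comp_left, h2, Over.comp_left, Scheme.Hom.comp_apply,
        Points.pointHom_apply]
  obtain ⟨n', hn'⟩ := IdSubgroup.exists_factor N c hrange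
  exact ⟨n', by rw [← hc, ← hn', Category.assoc]⟩

/-- A group whose unit is an open immersion is etale. -/
lemma etale_of_unit (M : Over Sk) [GrpObj M] [LocallyOfFiniteType M.hom] [IsOpenImmersion η[M].left] :
    Etale M.hom := by
  let d : M ⊗ M ⟶ M := fst M M * (snd M M)⁻¹
  have hd : IsPullback (lift (𝟙 M) (𝟙 M)) (toUnit M) d η[M] := by
    refine ⟨⟨?_⟩, ⟨PullbackCone.IsLimit.mk _ (fun s => s.fst ≫ fst M M) (fun s => ?_) (fun s => toUnit_unique _ _) (fun s l h₁ _ => ?_)⟩⟩
    · simp only [d, MonObj.comp_mul, GrpObj.comp_inv, lift_fst, lift_snd, mul_inv_cancel, Hom.one_def]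
    · have h := s.condition
      simp only [d, MonObj.comp_mul, GrpObj.comp_inv] at h
      rw [toUnit_unique s.snd (toUnit _), ← Hom.one_def, mul_inv_eq_one] at h
      refine CartesianMonoidalCategory.hom_ext _ _ ?_ ?_
      · simp
      · simp [h]
    · rw [← h₁, Category.assoc, lift_fst, Category.comp_id]
  have hopen : IsOpenImmersion (lift (𝟙 M) (𝟙 M)).left :=
    MorphismProperty.of_isPullback (GrpdLib.GrpOver.isPullback_left hd).flip ‹IsOpenImmersion η[M].left›
  have hdiag : (lift (𝟙 M) (𝟙 M)).left = pullback.diagonal M.hom := pullback.hom_ext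
    ((congrArg Over.Hom.left (lift_fst (𝟙 M) (𝟙 M))).trans (pullback.diagonal_fst M.hom).symm)
    ((congrArg Over.Hom.left (lift_snd (𝟙 M) (𝟙 M))).trans (pullback.diagonal_snd M.hom).symm)
  have : IsOpenImmersion (pullback.diagonal M.hom) := hdiag ▸ hopen
  exact Etale.of_formallyUnramified_of_flat (f := M.hom)

/-- Over a field k, every isogeny φ : G → H of k-group schemes of finite type (a surjective homomorphism
with finite kernel) factors as φ = χ ∘ ψ with ψ : G → Q a purely inseparable isogeny (its kernel is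
connected) followed by a separable isogeny χ : Q → H (its kernel is etale over k). (The published
definition of isogeny asks only for a finite kernel and an image of finite index in H; this row
takes φ surjective, which is the same notion when H is connected.) -/
theorem result (k : Type u) [Field k]
    (G H : Over (Spec (CommRingCat.of k))) [GrpObj G] [GrpObj H]
    [QuasiCompact G.hom] [LocallyOfFiniteType G.hom] [QuasiCompact H.hom] [LocallyOfFiniteType H.hom]
    (φ : G ⟶ H) [IsMonHom φ] (hφ : SGA7.IsIsogenyOver φ) :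
    ∃ (Q : Over (Spec (CommRingCat.of k))) (_ : GrpObj Q) (ψ : G ⟶ Q) (χ : Q ⟶ H),
      IsMonHom ψ ∧ IsMonHom χ ∧ ψ ≫ χ = φ ∧ SGA7.IsIsogenyOver ψ ∧ SGA7.IsIsogenyOver χ ∧
      (∀ (N : Over (Spec (CommRingCat.of k))) (n : N ⟶ G), AlgGrp.IsKernel n ψ → ConnectedSpace ↥N.left) ∧
      (∀ (N : Over (Spec (CommRingCat.of k))) (n : N ⟶ Q), AlgGrp.IsKernel n χ → Etale N.hom) := by
  obtain ⟨N, gN, iN, hiN, hker⟩ := GrpScheme.AffineHom.exists_kernel φ
  have hfN : IsFinite N.hom := hφ.2 N iN hker
  have hkl := GrpdLib.GrpOver.isPullback_left hker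
  have : IsClosedImmersion η[H].left := GrpArtin.Descend.isClosedImmersion_unit H
  have : IsClosedImmersion iN.left := MorphismProperty.of_isPullback hkl.flip ‹IsClosedImmersion η[H].left›
  have : Mono iN.left := inferInstance
  have : Mono iN := Over.mono_of_mono_left iN
  let N₀ := GrpScheme.IdSubgroup.G₀ N
  let ii := GrpScheme.IdSubgroup.incl N
  have : IsMonHom ii := inferInstanceAs (IsMonHom (GrpScheme.IdSubgroup.incl N))
  let j : N₀ ⟶ G := ii ≫ iN
  have : IsClosedImmersion j.left := inferInstanceAs (IsClosedImmersion (ii.left ≫ iN.left))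
  have : Mono j.left := inferInstance
  have : Mono j := Over.mono_of_mono_left j
  have hjn : AlgGrp.IsNormalHom j := isNormalHom_id φ iN hker
  have : LocallyOfFiniteType N.hom := by rw [← Over.w iN]; infer_instance
  have : LocallyOfFiniteType N₀.hom := by rw [← Over.w j]; infer_instance
  have : QuasiCompact N₀.hom := by rw [← Over.w j]; infer_instance
  obtain ⟨X, π, hπf, hπs, hπlfp, sq⟩ := GrpQuot19.Field.exists_quotient_of_closedSubgroup (G := G) (F := N₀) j
  have hmul : (G ◁ j) ≫ μ[G] = fst G N₀ * (snd G N₀ ≫ j) := by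
    rw [MonObj.mul_eq_mul, MonObj.comp_mul, whiskerLeft_fst, whiskerLeft_snd]
  have hrel : ∀ {T : Over (Spec (CommRingCat.of k))} (x y : T ⟶ G), x ≫ π = y ≫ π ↔ ∃ z : T ⟶ N₀, z ≫ j = x⁻¹ * y := by
    intro T x y
    refine ⟨fun he => ?_, fun ⟨z, hz⟩ => ?_⟩
    · obtain ⟨l, hl1, hl2⟩ := sq.exists_lift y x he.symm
      refine ⟨l ≫ snd G N₀, ?_⟩
      rw [hmul, MonObj.comp_mul, hl2] at hl1
      rw [Category.assoc]
      exact eq_inv_mul_iff_mul_eq.2 hl1
    · have h := congrArg (lift x z ≫ ·) sq.w
      simp only [← Category.assoc, hmul, MonObj.comp_mul, lift_fst] at h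
      rw [lift_snd, hz, mul_inv_cancel_left] at h
      exact h.symm
  obtain ⟨gX, hπm, hπk⟩ := GrpdLib.AffNormalQuot.exists_quotGroup j π hrel hjn
  have : LocallyOfFiniteType (π.left ≫ X.hom) := by rw [Over.w π]; infer_instance
  have : LocallyOfFiniteType X.hom :=
    GrpdLib.FppfSourceDescent.locallyOfFiniteType_of_comp_fppf π.left X.hom
  have hpp : ∀ (P : Over (Spec (CommRingCat.of k))), (@Surjective ⊓ @Flat ⊓ @LocallyOfFinitePresentation : MorphismProperty Scheme.{u}) (P ◁ π).left :=
    fun P => GrpScheme.Basic.whiskerLeft_mem _ π P ⟨⟨hπs, hπf⟩, hπlfp⟩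
  have : EffectiveEpi π.left := inferInstance
  have : EffectiveEpi (π ⊗ₘ π).left := by
    have h : (@Surjective ⊓ @Flat ⊓ @LocallyOfFinitePresentation : MorphismProperty Scheme.{u}) (π ⊗ₘ π).left := by
      rw [MonoidalCategory.tensorHom_def, Over.comp_left]
      exact MorphismProperty.comp_mem _ _ _ (GrpScheme.Basic.whiskerRight_mem _ π _ ⟨⟨hπs, hπf⟩, hπlfp⟩) (hpp _)
    obtain ⟨⟨_, _⟩, _⟩ := h
    infer_instance
  have hjφ : j ≫ φ = 1 := by
    rw [Category.assoc, hker.w, ← Hom.one_def, MonObj.comp_one]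
  obtain ⟨χ, hχ, -⟩ := GrpdLib.GrpOver.existsUnique_desc π φ fun T a b hab => by
    obtain ⟨z, hz⟩ := (hrel a b).1 hab
    have := congrArg (· ≫ φ) hz
    rw [Category.assoc, hjφ, MonObj.comp_one, MonObj.mul_comp a⁻¹ b φ, GrpObj.inv_comp] at this
    exact inv_mul_eq_one.1 this.symm
  have hχm : IsMonHom χ :=
    { one_hom := by rw [← IsMonHom.one_hom (f := π), Category.assoc, hχ, IsMonHom.one_hom]
      mul_hom := GrpdLib.GrpOver.cancel_left (π ⊗ₘ π) (by
        rw [← Category.assoc, ← IsMonHom.mul_hom (f := π), Category.assoc, hχ, IsMonHom.mul_hom,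
          tensorHom_comp_tensorHom_assoc, hχ]) }
  have : IsClosedImmersion η[X].left := GrpArtin.Descend.isClosedImmersion_unit X
  refine ⟨X, gX, π, χ, hπm, hχm, hχ, ⟨hπs, fun M m hm => ?_⟩, ⟨?_, fun M m hm => ?_⟩, fun M m hm => ?_, fun M m hm => ?_⟩
  · have hj : IsFinite N₀.hom := by
      rw [← Over.w ii]; infer_instance
    have : IsIso ((hm.isoIsPullback _ _ hπk).hom).left := ((Over.forget _).mapIso _).isIso_hom
    rw [← Over.w (hm.isoIsPullback _ _ hπk).hom]
    infer_instance
  · refine ⟨fun y => ?_⟩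
    obtain ⟨x, rfl⟩ := hφ.1.surj y
    exact ⟨π.left x, by rw [← Scheme.Hom.comp_apply, ← Over.comp_left, hχ]⟩
  rotate_left 1
  · have : GeometricallyIrreducible N₀.hom := inferInstance
    have : Subsingleton ↥(Spec (CommRingCat.of k)) := inferInstanceAs (Subsingleton (PrimeSpectrum k))
    have : IrreducibleSpace N₀.left := GeometricallyIrreducible.irreducibleSpace_of_subsingleton (f := N₀.hom)
    have : ConnectedSpace N₀.left := inferInstance
    let e : N₀.left ≅ M.left := (Over.forget _).mapIso (hπk.isoIsPullback _ _ hm)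
    exact e.hom.homeomorph.surjective.connectedSpace e.hom.continuous
  all_goals
    obtain ⟨M', gM', m', hm'm, hm'⟩ := GrpScheme.AffineHom.exists_kernel χ
    have : IsClosedImmersion m'.left := MorphismProperty.of_isPullback
      (GrpdLib.GrpOver.isPullback_left hm').flip ‹IsClosedImmersion η[H].left›
    have : LocallyOfFiniteType M'.hom := by rw [← Over.w m']; infer_instance
    have : Mono m'.left := inferInstance
    have : Mono m' := Over.mono_of_mono_left m'
    obtain ⟨ρ, hρ⟩ := GrpdLib.GrpOver.kernel_factor hm' (iN ≫ π) (by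
      rw [Category.assoc, hχ, hker.w, Hom.one_def])
    have hsq : IsPullback ρ iN m' π := by
      have hcs : ∀ c : PullbackCone m' π, ∃ l : c.pt ⟶ N, l ≫ iN = c.snd := fun c =>
        GrpdLib.GrpOver.kernel_factor hker c.snd (by
          rw [← hχ, ← Category.assoc, ← c.condition, Category.assoc, hm'.w, ← Hom.one_def, MonObj.comp_one])
      refine ⟨⟨hρ⟩, ⟨PullbackCone.IsLimit.mk _ (fun c => (hcs c).choose)
        (fun c => ?_) (fun c => (hcs c).choose_spec) (fun c l _ h₂ => ?_)⟩⟩
      · rw [← cancel_mono m', Category.assoc, hρ, ← Category.assoc, (hcs c).choose_spec, c.condition]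
      · rw [← cancel_mono iN, h₂, (hcs c).choose_spec]
    have hρl := GrpdLib.GrpOver.isPullback_left hsq
    have hρs : Surjective ρ.left := MorphismProperty.of_isPullback hρl.flip hπs
    have hρf : Flat ρ.left := MorphismProperty.of_isPullback hρl.flip hπf
  · have hη : IsOpenImmersion η[M'].left := by
      have h1 : ii ≫ ρ = toUnit N₀ ≫ η[M'] := by
        rw [← cancel_mono m', Category.assoc, hρ, Category.assoc, IsMonHom.one_hom, ← Category.assoc]
        exact hπk.w
      have : Flat (ii.left ≫ ρ.left) := inferInstance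
      have h2 : Flat ((toUnit N₀).left ≫ η[M'].left) := by rw [← Over.comp_left, ← h1, Over.comp_left]; infer_instance
      have ht : (toUnit N₀).left = N₀.hom := by
        rw [← Over.w (toUnit N₀)]; exact (Category.comp_id _).symm
      have : Flat (toUnit N₀).left := ht ▸ inferInstance
      have : GeometricallyIrreducible N₀.hom := inferInstance
      have : Surjective (toUnit N₀).left := ht ▸ inferInstance
      have : Flat η[M'].left := FpqcCov27.flat_of_comp (toUnit N₀).left η[M'].left
      have : IsClosedImmersion η[M'].left := GrpArtin.Descend.isClosedImmersion_unit M'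
      have : IsLocallyNoetherian M'.left := LocallyOfFiniteType.isLocallyNoetherian M'.hom
      exact IsOpenImmersion.of_flat_of_mono _
    have := etale_of_unit M'
    have : IsIso ((hm.isoIsPullback _ _ hm').hom).left := ((Over.forget _).mapIso _).isIso_hom
    rw [← Over.w (hm.isoIsPullback _ _ hm').hom]
    infer_instance
  · have : Finite N.left := by
      have := N.hom.finite_preimage Set.finite_univ
      simpa [Set.finite_univ_iff] using this
    have : Finite M'.left := Finite.of_surjective _ hρs.surj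
    have : DiscreteTopology M'.left := by
      have := LocallyOfFiniteType.jacobsonSpace M'.hom
      exact JacobsonSpace.discreteTopology (Set.toFinite _)
    have : LocallyQuasiFinite M'.hom := locallyQuasiFinite_iff_isDiscrete_preimage_singleton.2 fun x =>
      ⟨inferInstance⟩
    have : CompactSpace M'.left := Finite.compactSpace
    have : QuasiCompact M'.hom := (quasiCompact_iff_compactSpace M'.hom).2 ‹_›
    have : IsFinite M'.hom := IsFinite.of_locallyQuasiFinite M'.hom
    have : IsIso ((hm.isoIsPullback _ _ hm').hom).left := ((Over.forget _).mapIso _).isIso_hom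
    rw [← Over.w (hm.isoIsPullback _ _ hm').hom]
    infer_instance

end Groth.Agent.S14759
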