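import Groth.Statements.S14762
import Groth.Agent.Borel50.Luna.Main
import Groth.Agent.Borel50.TorusBorel
import Groth.Agent.Borel50.UnipRadical
import Groth.Agent.Borel50.NormalRed
import Groth.Agent.GrpScheme.AntiAffineProd

set_option autoImplicit false
universe u
open CategoryTheory CategoryTheory.Limits MonoidalCategory CartesianMonoidalCategory MonObj GrpObj AlgebraicGeometry
open Red

namespace Groth.Agent.S14762

open Groth.Agent.Borel50 Groth.Agent.Borel50.Pts Groth.Agent.Borel50.Lin Groth.Agent.Borel50.Density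

attribute [local instance] ptTop

section Aux

variable {k : Type u} [Field k] [IsAlgClosed k] {G : Over (Spec (CommRingCat.of k))} [GrpObj G] [IsAffine G.left]
  [Smooth G.hom] [ConnectedSpace G.left]

/-- A maximal toral subgroup is the group of rational points of a maximal torus. -/
theorem exists_maxTorus {N : ℕ} {Φ : Rep k (Pt G) N} {T : Subgroup (Pt G)} (hT : Φ.IsToral T)
    (hmax : ∀ T', Φ.IsToral T' → T ≤ T' → T' = T) :
    ∃ (K : Over (Spec (CommRingCat.of k))) (_ : GrpObj K) (i : K ⟶ G) (_ : IsMonHom i),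
      AGF.IsMaxTorus i ∧ (ptHom i).range = T := by
  obtain ⟨K, gK, i, hi, hm, hcl, hK, hr⟩ := Lin.Torus.exists_torus hT
  have hmax' : ∀ (T' : Over (Spec (CommRingCat.of k))) [GrpObj T'] (j : T' ⟶ G) [IsMonHom j] [Mono j] (f : K ⟶ T'),
      Red.IsTorus T' → f ≫ j = i → IsIso f := ?_
  · exact ⟨K, gK, i, hi, ⟨hi, hm, hK, hmax'⟩, hr⟩
  intro T' _ j _ _ f hT' hf
  obtain ⟨_, _, _, _, -, -⟩ := TorusSch.torus_facts hT'
  have := GrpScheme.HomFlat.isReduced_of_smooth T'.hom
  have : IsSeparated G.hom := GrpScheme.IdComponent.isSeparated G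
  have he := hmax _ (Lin.Torus.isToral_range Φ j hT') (by
    rw [← hr]
    rintro _ ⟨w, rfl⟩
    exact ⟨w ≫ f, show (w ≫ f) ≫ j = w ≫ i by rw [Category.assoc, hf]⟩)
  obtain ⟨g, hg⟩ := factor_of_points j i fun w => by
    have hw : w ≫ j ∈ (ptHom i).range := hr.symm ▸ he.le ⟨w, rfl⟩
    obtain ⟨z, hz⟩ := hw
    exact mem_range_of_factor hz
  exact IsIso.mk ⟨g, by rw [← cancel_mono i, Category.assoc, hg, hf, Category.id_comp],
    by rw [← cancel_mono j, Category.assoc, hf, hg, Category.id_comp]⟩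

/-- In a reductive group the connected centraliser of a maximal torus is the torus. -/
theorem centralizerComp_eq (hG : Red.IsReductiveOver k G) {N : ℕ} (Φ : Rep k (Pt G) N) (hΦ : Luna.IsReg Φ.ρ)
    {T : Subgroup (Pt G)} (hT : Φ.IsToral T) (hmax : ∀ T', Φ.IsToral T' → T ≤ T' → T' = T) :
    Φ.centralizerComp T = T := by
  classical
  have := FixedPt.qc_G G
  set C := Φ.centralizerComp T with hC
  have hCcl : IsClosed (C : Set (Pt G)) := Φ.isClosed_centralizerComp T
  obtain ⟨hnil, -⟩ := Density.cartan Φ hT hmax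
  have : Group.IsSolvable C := by
    have : Group.IsNilpotent C := hnil
    infer_instance
  obtain ⟨n, hn⟩ := (inferInstance : Group.IsSolvable C).solvable
  have : PreconnectedSpace C := Subtype.preconnectedSpace (Φ.isPreconnected_centralizerComp T)
  have hntop : derivedSeries (⊤ : Subgroup C) n = ⊥ := by
    have h1 := map_derivedSeries_le_derivedSeries (⊤ : Subgroup C).subtype n
    rw [hn] at h1
    exact (Subgroup.map_eq_bot_iff_of_injective _ (Subgroup.subtype_injective _)).1 (le_bot_iff.1 h1)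
  obtain ⟨U, -, hUc, -, -, hUn, htor⟩ := (Φ.restrict C hCcl).exists_unipotent_part ⊤
    (by rw [Subgroup.coe_top]; exact isClosed_univ)
    (by rw [Subgroup.coe_top]; exact isPreconnected_univ) hntop (fun _ _ _ => Subgroup.mem_top _)
  set S : Subgroup (Pt G) := U.map C.subtype with hS
  have hSc : _root_.IsPreconnected (S : Set (Pt G)) := Rep.isPreconnected_map_subtype hUc
  have hSn : ∀ s ∈ S, IsNilpotent (Φ.ρ s - 1) := by
    rintro _ ⟨y, hy, rfl⟩
    exact hUn y hy
  obtain ⟨K, _, iT, _, hK, hr⟩ := exists_maxTorus hT hmax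
  have hnc := Luna.isNilpotent_normalClosure Φ hΦ iT hK hSc (fun B _ iB _ hB hle => by
    rw [hr] at hle
    refine le_trans ?_ (TorusBorel.centralizer_le iB hB hT hmax hle)
    exact (Subgroup.map_subtype_le _).trans (Φ.centralizerComp_le T)) hSn
  let X : Set (Pt G) := ⋃ g : Pt G, (S.map (MulAut.conj g).toMonoidHom : Set (Pt G))
  obtain ⟨W, hW⟩ := Φ.exists_closure_subgroup (Subgroup.closure X)
  have hWc : _root_.IsPreconnected (W : Set (Pt G)) := by
    rw [hW]
    have h1 : (1 : Pt G) ∈ X := Set.mem_iUnion.2 ⟨1, Subgroup.one_mem _⟩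
    refine (LieKolchin.preconnected_closure Φ.good X ?_ h1).closure
    exact isPreconnected_iUnion ⟨1, Set.mem_iInter.2 fun g => Subgroup.one_mem _⟩ fun g =>
      hSc.image _ ((Φ.continuous_mul_right g⁻¹).comp (Φ.good.left g)).continuousOn
  have hbot : W = ⊥ := by
    refine RadicalScheme.eq_bot_of_unipotent hG Φ W (hW ▸ isClosed_closure) hWc (fun g x hx => ?_) fun x hx => ?_
    · rw [← SetLike.mem_coe, hW] at hx ⊢
      have hc : Continuous fun y : Pt G => g * y * g⁻¹ := (Φ.continuous_mul_right g⁻¹).comp (Φ.good.left g)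
      have hle : (Subgroup.closure X).map (MulAut.conj g).toMonoidHom ≤ Subgroup.closure X := by
        rw [MonoidHom.map_closure, Subgroup.closure_le]
        rintro _ ⟨z, hz, rfl⟩
        obtain ⟨g', s, hs, rfl⟩ := Set.mem_iUnion.1 hz
        exact Subgroup.subset_closure (Set.mem_iUnion.2 ⟨g * g', s, hs, by simp [_root_.mul_assoc]⟩)
      exact map_mem_closure (f := fun y : Pt G => g * y * g⁻¹) hc hx fun y hy => hle ⟨y, hy, rfl⟩
    · rw [← SetLike.mem_coe, hW] at hx
      exact closure_minimal (fun y hy => hnc y hy) Φ.isClosed_isNilpotent hx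
  have hSbot : S = ⊥ := by
    rw [eq_bot_iff, ← hbot]
    intro x hx
    rw [← SetLike.mem_coe, hW]
    exact subset_closure (Subgroup.subset_closure (Set.mem_iUnion.2 ⟨1, x, hx, by simp⟩))
  have hU : U = ⊥ := (Subgroup.map_eq_bot_iff_of_injective _ C.subtype_injective).1 hSbot
  have hCtor : Φ.IsToral C := by
    have h := (htor hU).map_subtype
    rwa [← MonoidHom.range_eq_map, Subgroup.range_subtype] at h
  exact hmax C hCtor hT.le_centralizerComp_self

/-- A homomorphism from a reductive group with unipotent image is trivial. -/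
theorem eq_one_of_unipotent (hG : Red.IsReductiveOver k G) {H : Over (Spec (CommRingCat.of k))} [GrpObj H]
    [IsAffine H.left] [Smooth H.hom] (φ : G ⟶ H) [IsMonHom φ] {M : ℕ} (Ψ : Rep k (Pt H) M)
    (hu : ∀ w : Pt G, IsNilpotent (Ψ.ρ (w ≫ φ) - 1)) : ∀ g : Pt G, g ≫ φ = 1 := by
  classical
  have := FixedPt.qc_G G
  have : IsSeparated H.hom := GrpScheme.IdComponent.isSeparated H
  have := GrpScheme.HomFlat.isReduced_of_smooth G.hom
  obtain ⟨N, Φ, hΦ⟩ := Luna.exists_regRep (G := G)
  obtain ⟨T, hT, -, hmax⟩ := Φ.isToral_bot.exists_maximal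
  have hTker : ∀ t ∈ T, t ≫ φ = 1 := by
    intro t ht
    refine closure_minimal ?_ ((Ψ.isClosed_singleton 1).preimage (continuous_comp φ)) (hT.closure_torsion ht)
    rintro r ⟨-, n, hn, hrn⟩
    exact Ψ.eq_one_of_isNilpotent_torsion (hu r) hn
      (show (ptHom φ r) ^ n = 1 by rw [← map_pow, hrn, map_one])
  obtain ⟨hnil, hss⟩ := cartan Φ hT hmax
  have hCT := centralizerComp_eq hG Φ hΦ hT hmax
  set C := Φ.centralizerComp T with hC
  obtain ⟨K, _, iK, _, _, _, _, hmem, hconn⟩ := exists_sub C (Φ.isClosed_centralizerComp T)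
  have := hconn (Φ.isPreconnected_centralizerComp T)
  have : IsAffine K.left := isAffine_of_isAffineHom iK.left
  have : IsSeparated G.hom := GrpScheme.IdComponent.isSeparated G
  have : IsSeparated K.hom := GrpScheme.IdComponent.isSeparated K
  obtain ⟨t, ht, hgen⟩ := hT.exists_generic
  obtain ⟨h₀, hh₀⟩ := (hmem t).1 (hT.le_centralizerComp_self ht)
  obtain ⟨S, hS⟩ := hT.exists_finite_normalizer
  obtain ⟨P, Q, hQP, hd⟩ := hT.diag
  have hdense := ConjDense.dense_conj iK h₀ S fun x h hxh => by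
    rw [hh₀] at hxh
    have hc' : h ≫ iK ∈ C := (hmem _).2 ⟨h, rfl⟩
    have hTconj : ∀ s ∈ T, x * s * x⁻¹ ∈ T := by
      have ht' : h ≫ iK ∈ T := hCT ▸ hc'
      have hconjC : C.map (MulAut.conj x).toMonoidHom ≤ C := by
        refine Φ.le_centralizerComp ?_ ?_
        · rw [Subgroup.coe_map]
          refine (Φ.isPreconnected_centralizerComp T).image _ (Continuous.continuousOn ?_)
          exact (Rep.continuous_mul_right Φ x⁻¹).comp (Φ.good.left x)
        · rintro _ ⟨y, hy, rfl⟩
          refine Subgroup.mem_centralizer_iff.2 fun s hs => (hgen _ ?_ s hs).symm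
          show x * y * x⁻¹ * t = t * (x * y * x⁻¹)
          have h1 : (h ≫ iK) * y = y * (h ≫ iK) :=
            Subgroup.mem_centralizer_iff.1 (Φ.centralizerComp_le T hy) _ ht'
          have ht2 : t = x * (h ≫ iK) * x⁻¹ := by rw [← hxh]; group
          rw [ht2]
          calc x * y * x⁻¹ * (x * (h ≫ iK) * x⁻¹) = x * (y * (h ≫ iK)) * x⁻¹ := by group
            _ = x * ((h ≫ iK) * y) * x⁻¹ := by rw [h1]
            _ = x * (h ≫ iK) * x⁻¹ * (x * y * x⁻¹) := by group
      intro s hs
      exact hCT ▸ hconjC ⟨s, hT.le_centralizerComp_self hs, rfl⟩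
    have hTconj' : ∀ s ∈ T, x⁻¹ * s * x ∈ T := fun s hs => by
      have hle : T ≤ T.map (MulAut.conj x⁻¹).toMonoidHom := fun r hr =>
        ⟨x * r * x⁻¹, hTconj r hr, by simp [_root_.mul_assoc]⟩
      have e := hmax _ (hT.map_conj x⁻¹) hle
      rw [← e]
      exact ⟨s, hs, by simp⟩
    obtain ⟨y, hy, hyx⟩ := hS x fun s hs => ⟨hTconj s hs, hTconj' s hs⟩
    obtain ⟨h', hh'⟩ := (hmem _).1 hyx
    exact ⟨y, hy, h', by rw [hh']; group⟩
  set c := fst G K * (snd G K ≫ iK) * (fst G K)⁻¹ with hc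
  have : Smooth (G ⊗ K).hom := inferInstanceAs (Smooth (pullback.fst G.hom K.hom ≫ G.hom))
  have : IsReduced (G ⊗ K).left := GrpScheme.HomFlat.isReduced_of_smooth (G ⊗ K).hom
  have hcφ : c ≫ φ = (1 : G ⊗ K ⟶ H) := Centralizer.hom_ext _ _ fun w => by
    have hk : ((w ≫ snd G K) ≫ iK) ≫ φ = 1 :=
      hTker _ (hCT ▸ (hmem _).2 ⟨w ≫ snd G K, rfl⟩)
    rw [MonObj.comp_one, ← Category.assoc, hc, MonObj.comp_mul, MonObj.comp_mul, GrpObj.comp_inv, ← Category.assoc,
      MonObj.mul_comp, MonObj.mul_comp, hk, _root_.mul_one, GrpObj.inv_comp, mul_inv_cancel]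
  let e : 𝟙_ (Over (Spec (CommRingCat.of k))) ⟶ H := η[H]
  have : IsClosedImmersion e.left := Pts.isClosedImmersion_pt e
  intro g
  have hcl : IsClosed (φ.left ⁻¹' Set.range e.left) :=
    e.left.isClosedEmbedding.isClosed_range.preimage φ.left.continuous
  have hg : pt g ∈ φ.left ⁻¹' Set.range e.left := by
    refine closure_minimal ?_ hcl (hdense (pt g))
    rintro _ ⟨z, rfl⟩
    exact ⟨(toUnit (G ⊗ K)).left z, by
      have h := congrArg (fun f : G ⊗ K ⟶ H => f.left z) hcφ
      simp only [Hom.one_def] at h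
      exact h.symm⟩
  obtain ⟨z, hz⟩ := exists_lift_of_mem e (x := g ≫ φ) hg
  rw [← hz, toUnit_unique z (toUnit _), ← Hom.one_def]

/-- The unipotent radical of a quotient of a reductive group is trivial. -/
theorem trivial_of_unipotent (hG : Red.IsReductiveOver k G) {H : Over (Spec (CommRingCat.of k))} [GrpObj H]
    [IsAffine H.left] [Smooth H.hom] [ConnectedSpace H.left] (π : G ⟶ H) [IsMonHom π] [Surjective π.left]
    {U : Over (Spec (CommRingCat.of k))} [GrpObj U] (iU : U ⟶ H) [IsMonHom iU] [IsClosedImmersion iU.left]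
    [Smooth U.hom] [ConnectedSpace U.left] (hN : AlgGrp.IsNormalHom iU) (hU : Red.HasNoSubtorus k U) :
    Red.IsTrivialGrp U := by
  classical
  have := FixedPt.qc_G G
  have := FixedPt.qc_G H
  have := GrpScheme.HomFlat.isReduced_of_smooth G.hom
  have := GrpScheme.HomFlat.isReduced_of_smooth H.hom
  obtain ⟨N, ⟨Φ⟩⟩ := exists_rep (G := G)
  obtain ⟨M, ⟨Ψ⟩⟩ := exists_rep (G := H)
  have hUn := (UnipRadical.pts_facts iU hU).2 Ψ
  set R := (ptHom iU).range with hR
  have hRN : ∀ g : Pt H, ∀ x ∈ R, g * x * g⁻¹ ∈ R := by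
    rintro g _ ⟨w, rfl⟩
    obtain ⟨w', hw'⟩ := hN _ g w
    exact ⟨w', hw'.symm⟩
  set P := R.comap (ptHom π) with hP
  have hPcl : IsClosed (P : Set (Pt G)) := (Density.isClosed_range iU).preimage (continuous_comp π)
  let ΦP := Φ.restrict P hPcl
  set N₀ : Subgroup (Pt G) := ΦP.identityComponent.map P.subtype with hN₀
  have hN₀le : N₀ ≤ P := Subgroup.map_subtype_le _
  have hN₀cl : IsClosed (N₀ : Set (Pt G)) := Rep.isClosed_map_subtype hPcl ΦP.isClosed_identityComponent
  have hN₀c : _root_.IsPreconnected (N₀ : Set (Pt G)) := Rep.isPreconnected_map_subtype isPreconnected_connectedComponent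
  have hN₀N : ∀ g : Pt G, ∀ x ∈ N₀, g * x * g⁻¹ ∈ N₀ := by
    intro g x hx
    let C : Set (Pt G) := (fun y => g * y * g⁻¹) '' (N₀ : Set (Pt G))
    have hCsub : C ⊆ (P : Set (Pt G)) := by
      rintro _ ⟨y, hy, rfl⟩
      show ptHom π (g * y * g⁻¹) ∈ R
      rw [map_mul, map_mul, map_inv]
      exact hRN _ _ (hN₀le hy)
    have hC : _root_.IsPreconnected C :=
      hN₀c.image _ ((Φ.continuous_mul_right g⁻¹).comp (Φ.good.left g)).continuousOn
    have hpre : _root_.IsPreconnected ((Subtype.val : P → Pt G) ⁻¹' C) := by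
      refine Topology.IsInducing.subtypeVal.isPreconnected_image.1 ?_
      convert hC using 1
      exact Set.Subset.antisymm (by rintro _ ⟨z, hz, rfl⟩; exact hz) fun z hz => ⟨⟨z, hCsub hz⟩, hz, rfl⟩
    have hsub := hpre.subset_connectedComponent (x := 1) ⟨1, N₀.one_mem, by simp⟩
    exact ⟨⟨g * x * g⁻¹, hCsub ⟨x, hx, rfl⟩⟩, hsub ⟨x, hx, rfl⟩, rfl⟩
  obtain ⟨K, _, iK, _, _, _, _, hmem, hconn⟩ := exists_sub N₀ hN₀cl
  have := hconn hN₀c
  have : IsAffine K.left := isAffine_of_isAffineHom iK.left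
  have hKr : (ptHom iK).range = N₀ :=
    le_antisymm (by rintro _ ⟨w, rfl⟩; exact (hmem _).2 ⟨w, rfl⟩) fun z hz => (hmem z).1 hz
  have hKN : AlgGrp.IsNormalHom iK := RadicalScheme.isNormalHom_of_points iK (hKr.symm ▸ hN₀N)
  have hK : Red.IsReductiveOver k K := ⟨‹_›, ‹_›, ‹_›, fun V _ i _ hcl hsm hco hiN hV => by
    have := hcl
    have := hsm
    have := hco
    exact NormalRed.unipotent_normal iK hKN hG.2.2.2 i hiN hV⟩
  have hone : ∀ x ∈ N₀, x ≫ π = 1 := by
    intro x hx
    obtain ⟨w, rfl⟩ := (hmem x).1 hx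
    rw [Category.assoc]
    exact eq_one_of_unipotent hK (iK ≫ π) Ψ (fun w => by
      rw [← Category.assoc]
      exact hUn _ (hN₀le ((hmem _).2 ⟨w, rfl⟩))) w
  have hfin : (R : Set (Pt H)).Finite := by
    have := ΦP.finiteIndex_identityComponent
    have : Finite (P ⧸ ΦP.identityComponent) := inferInstance
    refine (Set.finite_range fun q : P ⧸ ΦP.identityComponent => (q.out : Pt G) ≫ π).subset ?_
    rintro y hy
    obtain ⟨g, rfl⟩ := Cartan.exists_pt_of_mem π y (π.left.surjective (pt y))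
    refine ⟨QuotientGroup.mk (⟨g, hy⟩ : P), ?_⟩
    obtain ⟨n₀, hn₀⟩ := QuotientGroup.mk_out_eq_mul ΦP.identityComponent (⟨g, hy⟩ : P)
    show (((QuotientGroup.mk (⟨g, hy⟩ : P) : P ⧸ ΦP.identityComponent).out : P) : Pt G) ≫ π = g ≫ π
    rw [hn₀]
    show (g * ((n₀ : P) : Pt G)) ≫ π = g ≫ π
    have h1 : ((n₀ : P) : Pt G) ≫ π = 1 := hone _ ⟨(n₀ : P), n₀.2, rfl⟩
    rw [MonObj.mul_comp, h1, _root_.mul_one]
  refine NormalClosure.isTrivialGrp_of_pts iU fun w => ?_
  exact Normalizer.eq_of_finite_range (Density.isPreconnected_range iU) id (fun b => Ψ.isClosed_singleton b)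
    (by rwa [Set.image_id]) ⟨w, rfl⟩ R.one_mem

end Aux

/-- Over an algebraically closed field k, every quotient of a reductive group variety is reductive: if G
is a reductive k-group (affine, smooth, connected, with trivial unipotent radical) and π : G → H is
a flat surjective homomorphism onto a k-group scheme of finite type H, then H is reductive. (The
published lemma also covers the properties complete, semisimple and solvable.) -/
theorem result (k : Type u) [Field k] [IsAlgClosed k]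
    (G H : Over (Spec (CommRingCat.of k))) [GrpObj G] [GrpObj H] (hG : Red.IsReductiveOver k G)
    [QuasiCompact H.hom] [LocallyOfFiniteType H.hom]
    (π : G ⟶ H) [IsMonHom π] [Flat π.left] [Surjective π.left] :
    Red.IsReductiveOver k H := by
  obtain ⟨hGa, hGs, hGc, hGu⟩ := hG
  have := FixedPt.qc_G G
  have : IsSeparated H.hom := GrpScheme.IdComponent.isSeparated H
  have : QuasiCompact (π.left ≫ H.hom) := by rw [Over.w π]; infer_instance
  have hπ : UnipLib.Cover π := ⟨‹_›, ‹_›, QuasiCompact.of_comp π.left H.hom⟩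
  have : IsAffine H.left := GrpScheme.AntiAffineProd.isAffine_of_cover π hπ
  have := GrpScheme.HomFlat.isReduced_of_smooth G.hom
  have : IsReduced H.left := FlatMor.GeomDescent.isReduced_of_flat_surjective π.left
  have : Smooth H.hom := GrpScheme.Smooth.smooth_of_perfectField H
  have : ConnectedSpace H.left := π.left.surjective.connectedSpace π.left.continuous
  refine ⟨‹_›, ‹_›, ‹_›, fun U _ i _ hcl hsm hco hN hU => ?_⟩
  have := hcl
  have := hsm
  have := hco
  exact trivial_of_unipotent ⟨hGa, hGs, hGc, hGu⟩ π i hN hU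

end Groth.Agent.S14762
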