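import Groth.Statements.S14763
import Groth.Agent.S14751
import Groth.Agent.S7790
import Groth.Agent.GrpScheme.AVPow
import Groth.Agent.AbVarLib.Image
import Groth.Agent.Cube.Connected
import Groth.Agent.UnipLib.IsogPts
import Groth.Agent.GrpScheme.IsogenySub
-- import your own Groth.Agent.* helpers here

set_option autoImplicit false
set_option backward.isDefEq.respectTransparency false
set_option synthInstance.maxHeartbeats 400000
set_option maxHeartbeats 1600000
universe u
open CategoryTheory CategoryTheory.Limits MonoidalCategory CartesianMonoidalCategory MonObj GrpObj AlgebraicGeometry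
open AlgGrp

namespace Groth.Agent.S14763

attribute [-instance] Groth.Agent.GrpArtin.grpObjBC
attribute [local instance] Borel50.Lin.ptTop

/-- Over an algebraically closed field k let G be a commutative group variety (smooth connected
commutative k-group scheme of finite type) written as an extension 0 → L → G → A → 0 of an abelian
variety by its largest connected affine subgroup: i : L → G a smooth connected affine closed
subgroup scheme, kernel of a flat surjective homomorphism π : G → A onto an abelian variety A
(proper, smooth, connected). Then the following are equivalent: (a) for some d ≥ 1 there is a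
homomorphism s : A → G with π ∘ s equal to multiplication by d on A (the class of the extension is
killed by d: its pullback along multiplication by d splits); (b) there is an abelian subvariety A'
of G (a smooth connected proper closed subgroup scheme) with A' · L = G, that is, the multiplication
A' × L → G is surjective. (The published statement phrases (a) as the class of G having finite order
in the group of extension classes and (b) as G being isogenous to L × A; the published proof passes
through exactly the two conditions stated here.) -/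
theorem result (k : Type u) [Field k] [IsAlgClosed k]
    (G L A : Over (Spec (CommRingCat.of k))) [GrpObj G] [GrpObj L] [GrpObj A] [IsCommMonObj G]
    [Smooth G.hom] [QuasiCompact G.hom] [ConnectedSpace ↥G.left]
    (i : L ⟶ G) [IsMonHom i] [IsClosedImmersion i.left] [IsAffine L.left] [Smooth L.hom] [ConnectedSpace ↥L.left]
    (π : G ⟶ A) [IsMonHom π] [Flat π.left] [Surjective π.left] (hker : AlgGrp.IsKernel i π)
    [IsProper A.hom] [Smooth A.hom] [ConnectedSpace ↥A.left] :
    (∃ d : ℕ, 0 < d ∧ ∃ s : A ⟶ G, IsMonHom s ∧ s ≫ π = (𝟙 A) ^ d) ↔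
      (∃ (A' : Over (Spec (CommRingCat.of k))) (_ : GrpObj A') (j : A' ⟶ G), IsMonHom j ∧ IsClosedImmersion j.left ∧
        Smooth A'.hom ∧ ConnectedSpace ↥A'.left ∧ IsProper A'.hom ∧ Surjective ((j ⊗ₘ i) ≫ μ[G]).left) := by
  have : IsReduced A.left := GrpScheme.HomFlat.isReduced_of_smooth A.hom
  have : IsIntegral A.left := GrpScheme.Rosenlicht.isIntegral_group A
  have : GeometricallyIntegral A.hom := Cube.geometricallyIntegral_of_isAlgClosed A.hom
  have : IsSeparated G.hom := GrpScheme.IdComponent.isSeparated G
  constructor
  · rintro ⟨d, hd, s, hs, hsπ⟩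
    obtain ⟨C, gC, j, g, hjm, hgm, hgj, hjc, -, -, hCp, hCi⟩ := AbVarLib.Image.exists_image s
    have : IsIntegral C.left := GeometricallyIntegral.isIntegral_of_subsingleton C.hom
    have : LocallyOfFiniteType C.hom := inferInstance
    have hCs : Smooth C.hom := GrpScheme.Smooth.smooth_of_perfectField C
    refine ⟨C, gC, j, hjm, hjc, hCs, inferInstance, hCp, ?_⟩
    have hsurj : Surjective ((𝟙 A) ^ d : A ⟶ A).left :=
      (GrpScheme.AVPow.isFinite_surjective_pow (A := A) hd).2
    have : LocallyOfFiniteType L.hom := inferInstance
    have : LocallyOfFiniteType (C ⊗ L).hom := inferInstanceAs (LocallyOfFiniteType (pullback.fst C.hom L.hom ≫ C.hom))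
    have : QuasiCompact (C ⊗ L).hom := inferInstanceAs (QuasiCompact (pullback.fst C.hom L.hom ≫ C.hom))
    refine UnipLib.surjective_of_points' _ fun P => ?_
    obtain ⟨b, hb⟩ : ∃ b : 𝟙_ _ ⟶ A, b ≫ (𝟙 A) ^ d = P ≫ π :=
      GrpScheme.CharKernel.exists_pt_lift _ (P ≫ π)
    obtain ⟨l, hl⟩ := GrpdLib.GrpOver.kernel_factor hker ((b ≫ s)⁻¹ * P) (by
      rw [MonObj.mul_comp, GrpObj.inv_comp, Category.assoc, hsπ, hb, inv_mul_cancel])
    refine ⟨lift (b ≫ g) l, ?_⟩
    rw [MonObj.mul_eq_mul, MonObj.comp_mul, MonObj.comp_mul, tensorHom_fst, tensorHom_snd, lift_fst_assoc,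
      lift_snd_assoc, hl, Category.assoc, hgj, mul_inv_cancel_left]
  · rintro ⟨A', gA', j, hjm, hjc, hjs, hjn, hjp, hsurj⟩
    obtain ⟨-, -, hf, hker'⟩ := S14751.result k G L A' A i π hker j hsurj
    let f : A' ⟶ A := j ≫ π
    have : IsReduced A'.left := GrpScheme.HomFlat.isReduced_of_smooth A'.hom
    have : IsIntegral A'.left := GrpScheme.Rosenlicht.isIntegral_group A'
    have : GeometricallyIntegral A'.hom := Cube.geometricallyIntegral_of_isAlgClosed A'.hom
    have : Surjective f.left := hf
    have : GeometricallyConnected A.hom := FBase.BC.geometricallyConnected_of_isSepClosed A.hom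
    have : GeometricallyConnected A'.hom := FBase.BC.geometricallyConnected_of_isSepClosed A'.hom
    have : IsMonHom f := inferInstanceAs (IsMonHom (j ≫ π))
    have hflat : Flat f.left := GrpScheme.HomFlat.flat_of_surjective f
    obtain ⟨N, gN, n, hn, hk⟩ := GrpScheme.AffineHom.exists_kernel f
    have : IsFinite N.hom := hker' N n hk
    have : QuasiCompact f.left := GrpdLib.GrpOver.quasiCompact_left f
    haveI : MorphismProperty.DescendsAlong @IsFinite FpqcDesc.FPQC.{u} := FpqcDesc.descendsAlong_isFinite
    have hfin : IsFinite f.left := GrpScheme.KernelPair.mem_of_kernel hk @IsFinite FpqcDesc.FPQC.{u}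
      ⟨⟨hf, hflat⟩, inferInstance⟩ ‹IsFinite N.hom›
    have hne : 1 ≤ Scheme.Hom.finrank f.left (η[A].left (IsLocalRing.closedPoint k)) :=
      (Scheme.Hom.one_le_finrank_iff_surjective f.left).2 ‹Surjective f.left› _
    obtain ⟨⟨g, ⟨hgm, hg⟩, -⟩, h2⟩ := S7790.result A' A f _ hne (fun s => by
      rw [Subsingleton.elim (α := PrimeSpectrum k) s (IsLocalRing.closedPoint k)])
    obtain ⟨hgf, -, -, -⟩ := h2 g hgm hg
    exact ⟨_, hne, g ≫ j, inferInstanceAs (IsMonHom (g ≫ j)), by rw [Category.assoc]; exact hgf⟩

end Groth.Agent.S14763
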