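import Groth.Statements.S14764
import Groth.Agent.GrpScheme.RedIdComponent
import Groth.Agent.S7996
import Groth.Agent.GrpdLib.GrpOver

set_option autoImplicit false
universe u
open CategoryTheory CategoryTheory.Limits MonoidalCategory CartesianMonoidalCategory MonObj GrpObj AlgebraicGeometry
open AlgGrp

open Limits Groth.Agent

namespace Groth.Agent.S14764

set_option backward.isDefEq.respectTransparency false

/-- Over an algebraically closed field k let G be a group variety (smooth connected k-group scheme of
finite type), i : G_lin → G its largest smooth connected affine normal closed subgroup scheme, j : D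
→ G its largest anti-affine closed subgroup scheme G_ant (global functions the constants; every such
subgroup factors through it), and i_D : D_lin → D the largest smooth connected affine normal closed
subgroup scheme of D. Then D_lin is contained in G_lin (i_D ∘ j factors through i) and has finite
index in the scheme-theoretic intersection D ∩ G_lin, in the sense that D_lin and D ×_G G_lin have
the same dimension; equivalently D_lin is the reduced identity component of D ∩ G_lin. -/
theorem result (k : Type u) [Field k] [IsAlgClosed k]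
    (G : Over (Spec (CommRingCat.of k))) [GrpObj G] [Smooth G.hom] [QuasiCompact G.hom] [ConnectedSpace ↥G.left]
    (N : Over (Spec (CommRingCat.of k))) [GrpObj N] (i : N ⟶ G) [IsMonHom i] [IsClosedImmersion i.left]
    [Smooth N.hom] [ConnectedSpace ↥N.left] [IsAffine N.left] (hN : AlgGrp.IsNormalHom i)
    (hNmax : (∀ (N' : Over (Spec (CommRingCat.of k))) [GrpObj N'] (i' : N' ⟶ G) [IsMonHom i'] [IsClosedImmersion i'.left]
      [Smooth N'.hom] [ConnectedSpace ↥N'.left] [IsAffine N'.left], AlgGrp.IsNormalHom i' → ∃ f : N' ⟶ N, f ≫ i = i'))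
    (D : Over (Spec (CommRingCat.of k))) [GrpObj D] (j : D ⟶ G) [IsMonHom j] [IsClosedImmersion j.left]
    (hD : Function.Bijective ((Scheme.ΓSpecIso (CommRingCat.of k)).inv ≫ D.hom.appTop).hom)
    (hDmax : ∀ (M' : Over (Spec (CommRingCat.of k))) [GrpObj M'] (j' : M' ⟶ G) [IsMonHom j'] [IsClosedImmersion j'.left],
      Function.Bijective ((Scheme.ΓSpecIso (CommRingCat.of k)).inv ≫ M'.hom.appTop).hom → ∃ f : M' ⟶ D, f ≫ j = j')
    (ND : Over (Spec (CommRingCat.of k))) [GrpObj ND] (iD : ND ⟶ D) [IsMonHom iD] [IsClosedImmersion iD.left]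
    [Smooth ND.hom] [ConnectedSpace ↥ND.left] [IsAffine ND.left] (hND : AlgGrp.IsNormalHom iD)
    (hNDmax : (∀ (N' : Over (Spec (CommRingCat.of k))) [GrpObj N'] (i' : N' ⟶ D) [IsMonHom i'] [IsClosedImmersion i'.left]
      [Smooth N'.hom] [ConnectedSpace ↥N'.left] [IsAffine N'.left], AlgGrp.IsNormalHom i' → ∃ f : N' ⟶ ND, f ≫ iD = i')) :
    (∃ g : ND ⟶ N, g ≫ i = iD ≫ j) ∧
      topologicalKrullDim ↥ND.left = topologicalKrullDim ↥(pullback j.left i.left) := by
  haveI : LocallyOfFiniteType D.hom := by rw [← Over.w j]; infer_instance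
  haveI : QuasiCompact D.hom := by rw [← Over.w j]; infer_instance
  haveI : Mono j := Over.mono_of_mono_left j
  haveI : Mono i := Over.mono_of_mono_left i
  have hcent : ∀ {T : Over (Spec (CommRingCat.of k))} (d : T ⟶ D) (g : T ⟶ G), (d ≫ j) * g = g * (d ≫ j) := by
    intro T d g
    simpa using Groth.Agent.S7996.result k D G hD j T d T (𝟙 T) g
  have hnorm : ∀ {L : Over (Spec (CommRingCat.of k))} [GrpObj L] (l : L ⟶ D),
      AlgGrp.IsNormalHom l ∧ AlgGrp.IsNormalHom (l ≫ j) := by
    intro L _ l
    refine ⟨fun T g x => ⟨x, ?_⟩, fun T g x => ⟨x, ?_⟩⟩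
    · rw [← cancel_mono j, MonObj.mul_comp _ _ j, MonObj.mul_comp _ _ j, GrpObj.inv_comp, ← hcent (x ≫ l),
        mul_inv_cancel_right]
    · rw [← Category.assoc, ← hcent (x ≫ l), mul_inv_cancel_right]
  haveI : IsClosedImmersion (iD ≫ j).left := by rw [Over.comp_left]; infer_instance
  obtain ⟨g, hg⟩ := hNmax ND (iD ≫ j) (hnorm iD).2
  refine ⟨⟨g, hg⟩, ?_⟩
  -- the intersection as a subgroup
  let P := pullback j i
  let a : P ⟶ D := pullback.fst j i
  let b : P ⟶ N := pullback.snd j i
  have hP : IsPullback a b j i := IsPullback.of_hasPullback j i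
  have hPl : IsPullback a.left b.left j.left i.left := GrpdLib.GrpOver.isPullback_left hP
  haveI : IsClosedImmersion a.left := MorphismProperty.of_isPullback (P := @IsClosedImmersion) hPl.flip inferInstance
  haveI : IsClosedImmersion b.left := MorphismProperty.of_isPullback (P := @IsClosedImmersion) hPl inferInstance
  haveI : Mono a := Over.mono_of_mono_left a
  have hw : a ≫ j = b ≫ i := hP.w
  obtain ⟨_, ham⟩ : ∃ _ : GrpObj P, IsMonHom a := by
    refine GrpScheme.SubgroupObj.exists_grpObj a ⟨hP.lift ((a ⊗ₘ a) ≫ μ[D]) ((b ⊗ₘ b) ≫ μ[N]) ?_,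
      hP.lift_fst _ _ _⟩ ⟨hP.lift η[D] η[N] (by simp), hP.lift_fst _ _ _⟩
      ⟨hP.lift (a ≫ GrpObj.inv) (b ≫ GrpObj.inv) ?_, hP.lift_fst _ _ _⟩
    · rw [Category.assoc, IsMonHom.mul_hom, ← Category.assoc, MonoidalCategory.tensorHom_comp_tensorHom, hw,
        ← MonoidalCategory.tensorHom_comp_tensorHom, Category.assoc, Category.assoc, IsMonHom.mul_hom]
    · rw [Category.assoc, GrpObj.inv_hom j, ← Category.assoc, hw, Category.assoc, Category.assoc, GrpObj.inv_hom i]
  haveI := ham
  haveI : LocallyOfFiniteType P.hom := by rw [← Over.w a]; infer_instance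
  haveI : QuasiCompact P.hom := by rw [← Over.w a]; infer_instance
  obtain ⟨R, hR, r, hr, hrc, hRs, hRconn, hRq, hRd⟩ := GrpScheme.RedIdComponent.exists_reduced_idComponent P
  haveI : IsClosedImmersion (r ≫ b).left := by rw [Over.comp_left]; infer_instance
  haveI : IsAffine R.left := isAffine_of_isAffineHom (r ≫ b).left
  haveI : IsClosedImmersion (r ≫ a).left := by rw [Over.comp_left]; infer_instance
  obtain ⟨f, hf⟩ := hNDmax R (r ≫ a) (hnorm (r ≫ a)).1
  haveI : IsClosedImmersion (f.left ≫ iD.left) := by rw [← Over.comp_left, hf]; infer_instance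
  haveI : IsClosedImmersion f.left := IsClosedImmersion.of_comp f.left iD.left
  let v : ND ⟶ P := hP.lift iD g hg.symm
  haveI : IsClosedImmersion (v.left ≫ a.left) := by rw [← Over.comp_left, hP.lift_fst]; infer_instance
  haveI : IsClosedImmersion v.left := IsClosedImmersion.of_comp v.left a.left
  rw [← hPl.isoPullback.hom.homeomorph.isClosedEmbedding.isInducing.topologicalKrullDim_le.antisymm
    hPl.isoPullback.hom.homeomorph.symm.isClosedEmbedding.isInducing.topologicalKrullDim_le]
  refine le_antisymm v.left.isClosedEmbedding.isInducing.topologicalKrullDim_le ?_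
  rw [← hRd]
  exact f.left.isClosedEmbedding.isInducing.topologicalKrullDim_le

end Groth.Agent.S14764
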