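import Groth.Statements.S1477
import Groth.Agent.Wt.ExtendFinite
import Groth.Agent.AlgSp.KerFlat
import Mathlib
-- import your own Groth.Agent.* helpers here

set_option autoImplicit false
universe u
open FlatMor

namespace Groth.Agent.S1477

open AlgebraicGeometry CategoryTheory Limits in
/-- Let S be quasi-compact and quasi-separated and f : X → S separated, quasi-compact, locally
quasi-finite and locally of finite presentation. Then f factors as a quasi-compact open immersion X
→ T followed by a morphism T → S which is finite and of finite presentation. -/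
theorem result {X S : Scheme.{u}} (f : X ⟶ S) [CompactSpace ↑S] [QuasiSeparatedSpace ↑S]
    [IsSeparated f] [QuasiCompact f] [LocallyQuasiFinite f] [LocallyOfFinitePresentation f] :
    ∃ (T : Scheme.{u}) (j : X ⟶ T) (π : T ⟶ S), IsOpenImmersion j ∧ QuasiCompact j ∧ IsFinite π ∧ LocallyOfFinitePresentation π ∧ j ≫ π = f := by
  haveI : CompactSpace X := QuasiCompact.compactSpace_of_compactSpace f
  obtain ⟨I, _, _, _, D, c, hc, hD, ⟨e⟩⟩ := LimLib.exists_finiteSystem f.fromNormalization
  haveI : ∀ (a b : Iᵒᵖ) (g : a ⟶ b), IsAffineHom (D.map g).left := fun a b g => by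
    haveI := (hD a).1
    haveI := (hD b).1
    haveI : IsAffineHom ((D.map g).left ≫ (D.obj b).hom) := by
      rw [Over.w]
      infer_instance
    exact IsAffineHom.of_comp (D.map g).left (D.obj b).hom
  let j₀ : X ⟶ c.pt.left := f.toNormalization ≫ e.inv.left
  haveI : IsOpenImmersion j₀ :=
    inferInstanceAs (IsOpenImmersion (f.toNormalization ≫ e.inv.left))
  have hj : j₀ ≫ c.pt.hom = f := by
    show (f.toNormalization ≫ e.inv.left) ≫ c.pt.hom = f
    rw [Category.assoc, Over.w e.inv]
    exact f.toNormalization_fromNormalization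
  haveI : LocallyOfFiniteType (j₀ ≫ c.pt.hom) := hj.symm ▸ inferInstance
  obtain ⟨i, hi⟩ := LocImm77.exists_immersion_stage D c hc j₀
  let T₀ : Scheme.{u} := (D.obj i).left
  let p : T₀ ⟶ S := (D.obj i).hom
  let k : X ⟶ T₀ := j₀ ≫ (c.π.app i).left
  haveI : IsImmersion k := hi
  haveI : IsFinite p := (hD i).1
  haveI : LocallyOfFinitePresentation p := (hD i).2
  have hk : k ≫ p = f := by
    show (j₀ ≫ (c.π.app i).left) ≫ (D.obj i).hom = f
    rw [Category.assoc, Over.w (c.π.app i)]
    exact hj
  haveI : CompactSpace T₀ := QuasiCompact.compactSpace_of_compactSpace p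
  haveI : QuasiSeparatedSpace T₀ := quasiSeparatedSpace_of_quasiSeparated p
  haveI : QuasiCompact k := quasiCompact_of_compactSpace k
  obtain ⟨W, hWc, hkW, hW⟩ := LimLib.exists_isCompact_opens_between (isCompact_range k.continuous)
    k.coborderRange subset_coborder
  haveI : CompactSpace (W : Scheme.{u}) := isCompact_iff_compactSpace.mp hWc
  haveI : QuasiSeparatedSpace (W : Scheme.{u}) := quasiSeparatedSpace_of_quasiSeparated W.ι
  haveI : QuasiCompact W.ι := quasiCompact_of_compactSpace _
  let ι : X ⟶ (W : Scheme.{u}) := IsOpenImmersion.lift W.ι k (by rwa [Scheme.Opens.range_ι])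
  have hι : ι ≫ W.ι = k := IsOpenImmersion.lift_fac _ _ _
  haveI : IsClosedImmersion ι := by
    have e' : ι ≫ T₀.homOfLE hW = k.liftCoborder := by
      rw [← cancel_mono k.coborderRange.ι]
      simp [ι]
    haveI : IsClosedImmersion (ι ≫ T₀.homOfLE hW) := e' ▸ inferInstance
    exact IsClosedImmersion.of_comp _ (T₀.homOfLE hW)
  haveI : LocallyOfFinitePresentation ι := by
    haveI : LocallyOfFinitePresentation (ι ≫ W.ι ≫ p) := by
      rw [← Category.assoc, hι, hk]
      infer_instance
    exact MorphismProperty.of_postcomp (W := @LocallyOfFinitePresentation) (W' := @LocallyOfFiniteType)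
      ι (W.ι ≫ p) inferInstance inferInstance
  have sq : IsPullback (𝟙 X) ι k W.ι :=
    { w := by simp [hι]
      isLimit' := ⟨PullbackCone.IsLimit.mk _ (fun s => s.fst) (fun s => Category.comp_id _)
        (fun s => by rw [← cancel_mono W.ι, Category.assoc, hι, s.condition])
        (fun s l h1 _ => by simpa using h1)⟩ }
  have hker : k.ker.comap W.ι = ι.ker := (AlgSp.KerFlat.ker_of_isPullback sq).symm
  obtain ⟨J, _, _, _, F, hF, hK⟩ := LimLib.exists_iSup_fg_eq k.ker
  obtain ⟨a, ha⟩ := LimLib.exists_le_of_fg (K := ι.ker) (LimLib.fg_ker_ideal ι)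
    (fun b => (F b).comap W.ι) (fun b b' => by
      obtain ⟨b'', h1, h2⟩ := exists_ge_ge b b'
      exact ⟨b'', Scheme.IdealSheafData.comap_mono _ (F.monotone h1),
        Scheme.IdealSheafData.comap_mono _ (F.monotone h2)⟩)
    (by
      rw [← hker, ← hK]
      exact (Scheme.IdealSheafData.map_gc W.ι).l_iSup.le)
  have heq : (F a).comap W.ι = ι.ker := le_antisymm
    (hker ▸ Scheme.IdealSheafData.comap_mono _ ((le_iSup (fun b => F b) a).trans hK.le)) ha
  haveI : LocallyOfFinitePresentation (F a).subschemeι := (LimLib.lfp_subschemeι_iff _).mpr (hF a)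
  let θ : X ⟶ ((F a).comap W.ι).subscheme := ι.toImage ≫ Scheme.IdealSheafData.inclusion heq.le
  haveI : IsIso (Scheme.IdealSheafData.inclusion heq.le) := by
    exact ⟨Scheme.IdealSheafData.inclusion heq.ge, by
        rw [← cancel_mono ι.imageι]; simp, by
        rw [← cancel_mono ((F a).comap W.ι).subschemeι]; simp⟩
  let j : X ⟶ (F a).subscheme := θ ≫ ((F a).comapIso W.ι).hom ≫ pullback.snd W.ι (F a).subschemeι
  haveI : IsOpenImmersion j := inferInstanceAs (IsOpenImmersion (θ ≫ ((F a).comapIso W.ι).hom ≫ pullback.snd W.ι (F a).subschemeι))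
  haveI : CompactSpace (F a).subscheme := QuasiCompact.compactSpace_of_compactSpace (F a).subschemeι
  haveI : QuasiSeparatedSpace (F a).subscheme := quasiSeparatedSpace_of_quasiSeparated (F a).subschemeι
  refine ⟨(F a).subscheme, j, (F a).subschemeι ≫ p, inferInstance, quasiCompact_of_compactSpace j,
    inferInstance, inferInstance, ?_⟩
  show (θ ≫ ((F a).comapIso W.ι).hom ≫ pullback.snd W.ι (F a).subschemeι) ≫ _ = f
  simp only [Category.assoc, ← pullback.condition_assoc]
  rw [Scheme.IdealSheafData.comapIso_hom_fst_assoc]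
  simp only [θ, Category.assoc, Scheme.IdealSheafData.inclusion_subschemeι_assoc]
  rw [Scheme.Hom.toImage_imageι_assoc, reassoc_of% hι, hk]


end Groth.Agent.S1477
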