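import Groth.Statements.S14776
import Groth.Agent.HTopUltra.OpenSepEff
import Groth.Agent.SGA1Desc.SubtrEff

set_option autoImplicit false
universe u
open CategoryTheory CategoryTheory.Limits AlgebraicGeometry
open Subtr

namespace Groth.Agent.S14776

/-- Let S and S' be quasi-separated schemes and g : S' ⟶ S universally open and surjective. Then every
descent datum relative to g whose underlying scheme is étale and separated over S' is isomorphic to
the canonical descent datum of a scheme étale and separated over S. (The published result is stated
for étale algebraic spaces, which need not be separated; this row states the case of separated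
objects, where everything is a scheme. Descent data are taken in functor-of-points form.) -/
theorem result {S' S : Scheme.{u}}
    [QuasiSeparatedSpace S] [QuasiSeparatedSpace S'] (g : S' ⟶ S)
    [UniversallyOpen g] [Surjective g]
    (D : Desc.SchDD g) [IsSeparated D.obj.hom] [Etale D.obj.hom] :
    ∃ U : Over S, IsSeparated U.hom ∧ Etale U.hom ∧ Nonempty ((Desc.toDD g).obj U ≅ D) := by
  obtain ⟨E⟩ := Groth.Agent.HTopUltra.SepEff.exists_eff_of_open
    (fun {X' S'} _ _ {g'} _ _ D' _ _ _ =>
      haveI : QuasiCompact g' := AlgebraicGeometry.quasiCompact_of_compactSpace g'
      Groth.Agent.SGA1Desc.exists_eff_of_univSSubtrusive D'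
        (Groth.Agent.HTopUltra.SepEff.univSSubtrusive_of_open g')) D
  exact Groth.Agent.HTopUltra.SepEff.exists_over (Groth.Agent.SGA1Desc.univSubmersive_of_open g) E

end Groth.Agent.S14776
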