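import Groth.Statements.S14779
import Groth.Agent.HTopUltra.Global

set_option autoImplicit false
universe u
open CategoryTheory CategoryTheory.Limits AlgebraicGeometry
open Subtr

namespace Groth.Agent.S14779

/-- Let Y be a scheme that is affine or Noetherian and f : X ⟶ Y a morphism of finite presentation every
base change of which has the lifting property for ordered pairs of points. Then there are schemes
X', Y', a morphism h : X' ⟶ X, a flat surjective morphism p : X' ⟶ Y' of finite presentation and a
proper surjective morphism q : Y' ⟶ Y of finite presentation with h ≫ f = p ≫ q (so p ≫ q is a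
covering refining f). -/
theorem result {X Y : Scheme.{u}} (f : X ⟶ Y)
    (hY : IsAffine Y ∨ IsNoetherian Y) [LocallyOfFinitePresentation f] [QuasiCompact f] [QuasiSeparated f]
    (hf : Subtr.UnivSSubtrusive f) :
    ∃ (X' Y' : Scheme.{u}) (h : X' ⟶ X) (p : X' ⟶ Y') (q : Y' ⟶ Y), h ≫ f = p ≫ q ∧
      Flat p ∧ Surjective p ∧ LocallyOfFinitePresentation p ∧ QuasiCompact p ∧ QuasiSeparated p ∧
      IsProper q ∧ Surjective q ∧ LocallyOfFinitePresentation q := by
  classical
  obtain ⟨Q, q, n, V, hq, hqs, hqf, hV, hcov, hl⟩ := Groth.Agent.HTopUltra.exists_openCover_then_proper hY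
    (PreZeroHypercover.singleton.{0} f) (fun _ => inferInstanceAs (LocallyOfFinitePresentation f))
    (Groth.Agent.HTopLib.isVCover_singleton_of_univSSubtrusive f hf)
  haveI := hq
  choose i g hg using hl
  haveI : ∀ j, IsAffine (V j : Scheme.{u}) := hV
  let p : (∐ fun j => (V j : Scheme.{u})) ⟶ Q := Limits.Sigma.desc fun j => (V j).ι
  let h : (∐ fun j => (V j : Scheme.{u})) ⟶ X := Limits.Sigma.desc fun j => g j
  refine ⟨_, Q, h, p, q, Limits.Sigma.hom_ext _ _ fun j => ?_,
    IsZariskiLocalAtSource.sigmaDesc (P := @Flat) fun j => inferInstance, ⟨fun y => ?_⟩,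
    IsZariskiLocalAtSource.sigmaDesc (P := @LocallyOfFinitePresentation) fun j => inferInstance,
    ?_, ?_, hq, hqs, hqf⟩
  · simp only [p, h, Limits.Sigma.ι_desc_assoc]
    exact hg j
  · obtain ⟨j, hj⟩ := TopologicalSpace.Opens.mem_iSup.1 (hcov.ge (TopologicalSpace.Opens.mem_top y))
    exact ⟨Limits.Sigma.ι (fun j => (V j : Scheme.{u})) j ⟨y, hj⟩, by
      rw [← Scheme.Hom.comp_apply, Limits.Sigma.ι_desc]; rfl⟩
  · haveI : QuasiSeparatedSpace Y := by rcases hY with hY | hY <;> infer_instance
    haveI : CompactSpace (∐ fun j => (V j : Scheme.{u}) : Scheme.{u}) := inferInstance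
    haveI : QuasiCompact (p ≫ q) := quasiCompact_of_compactSpace (p ≫ q)
    exact QuasiCompact.of_comp p q
  · haveI : QuasiSeparatedSpace Y := by rcases hY with hY | hY <;> infer_instance
    haveI : QuasiSeparatedSpace Q := quasiSeparatedSpace_of_quasiSeparated q
    haveI : QuasiSeparatedSpace (∐ fun j => (V j : Scheme.{u}) : Scheme.{u}) := inferInstance
    exact QuasiSeparated.of_quasiSeparatedSpace p

end Groth.Agent.S14779
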