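import Groth.Statements.S1478
import Groth.Agent.Omega.DiagUniv
-- import your own Groth.Agent.* helpers here

set_option autoImplicit false
universe u
open FlatMor

namespace Groth.Agent.S1478

open AlgebraicGeometry CategoryTheory Limits OmegaSh Groth.Agent.Omega
open Groth.Agent.PullStalk.Sky Groth.Agent.PullStalk.Exact

theorem stalkMap_formallyUnramified_iff {X S : Scheme.{u}} (f : X ⟶ S) :
    FormallyUnramified f ↔ ∀ x, (f.stalkMap x).hom.FormallyUnramified := by
  refine ⟨fun hf x ↦ HasRingHomProperty.stalkMap (P := @FormallyUnramified)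
    (fun {R S} _ _ g hg J _ ↦ ?_) hf x,
    fun h ↦ HasRingHomProperty.of_stalkMap (P := @FormallyUnramified) RingHom.FormallyUnramified.ofLocalizationPrime h⟩
  refine RingHom.FormallyUnramified.of_comp (f := algebraMap R (Localization.AtPrime (J.comap g))) ?_
  rw [show (Localization.localRingHom (J.comap g) J g rfl).comp (algebraMap R (Localization.AtPrime (J.comap g))) =
    (algebraMap S (Localization.AtPrime J)).comp g from RingHom.ext fun r ↦ Localization.localRingHom_to_map _ _ _ rfl r]
  exact RingHom.FormallyUnramified.comp hg (RingHom.FormallyUnramified.holdsForLocalization _ J.primeCompl)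

theorem isZero_iff_subsingleton_stalk {X : Scheme.{u}} (M : X.Modules) :
    IsZero M ↔ ∀ x : X, Subsingleton (M.presheaf.stalk x) := by
  refine ⟨fun h x ↦ subsingleton_of_forall_eq 0 fun t ↦ ?_, fun h ↦ ?_⟩
  · calc t = stalkLin (𝟙 M) x t := by
          obtain ⟨U, hx, m, rfl⟩ := exists_germM_eq M x t
          rw [stalkLin_germ]; rfl
      _ = 0 := by rw [(IsZero.iff_id_eq_zero M).mp h, Stalks.stalkLin_zero]
  · exact (IsZero.iff_id_eq_zero M).mpr (Stalks.hom_ext_stalk fun x ↦ LinearMap.ext fun t ↦ (h x).elim _ _)

theorem subsingleton_stalk_omega_iff {X S : Scheme.{u}} (f : X ⟶ S) [QuasiSeparated f] (x : X) :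
    Subsingleton ((Omega.sheaf f).presheaf.stalk x) ↔ (f.stalkMap x).hom.FormallyUnramified := by
  let _ : Algebra (S.presheaf.stalk (f x)) (X.presheaf.stalk x) := (f.stalkMap x).hom.toAlgebra
  obtain ⟨δ, hmul, hzero, -, huniv⟩ := DiagUniv.exists_universal_stalk f x
  change _ ↔ Algebra.FormallyUnramified (S.presheaf.stalk (f x)) (X.presheaf.stalk x)
  rw [Algebra.formallyUnramified_iff]
  let A := S.presheaf.stalk (f x)
  let B := X.presheaf.stalk x
  refine ⟨fun hs ↦ ?_, fun hΩ ↦ ?_⟩
  · let D := KaehlerDifferential.D A B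
    obtain ⟨l, hl, -⟩ := huniv Ω[B⁄A] D.toLinearMap.toAddMonoidHom (fun a b ↦ D.leibniz a b)
      (fun c ↦ D.map_algebraMap c)
    have hD : ∀ a, D a = 0 := fun a ↦ (hl a).symm.trans (by rw [Subsingleton.elim (δ a) 0, map_zero])
    refine subsingleton_of_forall_eq 0 fun w ↦ ?_
    have hw : w ∈ Submodule.span B (Set.range D) := KaehlerDifferential.span_range_derivation A B ▸ Submodule.mem_top
    exact (Submodule.mem_bot B).mp (Submodule.span_le.mpr (by rintro _ ⟨a, rfl⟩; simp [hD a]) hw)
  · let M := (Omega.sheaf f).presheaf.stalk x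
    let _ : Module A M := Module.compHom M (algebraMap A B)
    have : IsScalarTower A B M := IsScalarTower.of_algebraMap_smul fun _ _ ↦ rfl
    let d : Derivation A B M := Derivation.mk'
      { toFun := δ, map_add' := map_add δ,
        map_smul' := fun c b ↦ by
          rw [Algebra.smul_def]
          change δ (f.stalkMap x c * b) = f.stalkMap x c • δ b
          rw [hmul, hzero, smul_zero, add_zero] } fun a b ↦ hmul a b
    have hδ : ∀ a, δ a = 0 := fun a ↦ by
      change d a = 0
      rw [← Derivation.liftKaehlerDifferential_comp_D d a, Subsingleton.elim (KaehlerDifferential.D A B a) 0,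
        map_zero]
    obtain ⟨l, -, hl⟩ := huniv M δ hmul hzero
    have h1 : (LinearMap.id : M →ₗ[B] M) = l := hl _ fun _ ↦ rfl
    have h0 : (0 : M →ₗ[B] M) = l := hl _ fun a ↦ (hδ a).symm
    exact subsingleton_of_forall_eq 0 fun t ↦ LinearMap.congr_fun (h1.trans h0.symm) t

open AlgebraicGeometry CategoryTheory Limits in
/-- For separated morphisms (where the sheaf of differentials is literally the conormal sheaf of the
closed diagonal): a separated morphism f : X → S is formally unramified if and only if Ω_{X/S}, the
conormal sheaf of the diagonal, is the zero O_X-module. -/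
theorem result {X S : Scheme.{u}} (f : X ⟶ S) [IsSeparated f] :
    FormallyUnramified f ↔ IsZero (Omega.sheaf f) := by
  rw [stalkMap_formallyUnramified_iff, isZero_iff_subsingleton_stalk]
  exact forall_congr' fun x ↦ (subsingleton_stalk_omega_iff f x).symm

end Groth.Agent.S1478
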