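import Groth.Statements.S14792
import Groth.Agent.HTopUltra.SubtrDescend
import Groth.Agent.SubtrLib.Submersive
import Groth.Agent.LimLib.FGSub

set_option autoImplicit false
universe u
open CategoryTheory CategoryTheory.Limits AlgebraicGeometry
open Subtr

namespace Groth.Agent.S14792

/-- (i) ⇔ (iii): let A be a commutative ring and f : X ⟶ Spec A a morphism of finite presentation. Then
every base change of f has the lifting property for ordered pairs of points if and only if there are
a finitely generated subring A₀ ⊆ A, a scheme X₀ and a universally submersive morphism f₀ : X₀ ⟶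
Spec A₀ of finite presentation such that f is the base change of f₀ along Spec A ⟶ Spec A₀. -/
theorem result (A : Type u) [CommRing A]
    {X : Scheme.{u}} (f : X ⟶ Spec (CommRingCat.of A))
    [LocallyOfFinitePresentation f] [QuasiCompact f] [QuasiSeparated f] :
    Subtr.UnivSSubtrusive f ↔
      ∃ (A₀ : Subalgebra ℤ A) (_ : A₀.FG) (X₀ : Scheme.{u}) (f₀ : X₀ ⟶ Spec (CommRingCat.of A₀))
        (q : X ⟶ X₀), IsPullback q f f₀ (Spec.map (CommRingCat.ofHom A₀.val.toRingHom)) ∧
        LocallyOfFinitePresentation f₀ ∧ QuasiCompact f₀ ∧ QuasiSeparated f₀ ∧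
        SGA1.UnivSubmersive f₀ := by
  haveI : (Subtr.UnivSSubtrusive.{u}).IsStableUnderBaseChange :=
    MorphismProperty.universally_isStableUnderBaseChange _
  haveI : (Subtr.UnivSSubtrusive.{u}).RespectsIso := inferInstance
  constructor
  · intro hf
    haveI : CompactSpace X := QuasiCompact.compactSpace_of_compactSpace f
    haveI : QuasiSeparatedSpace X := quasiSeparatedSpace_of_quasiSeparated f
    let f' : X ⟶ (Groth.Agent.LimLib.fgCone ℤ A).pt := f
    haveI : LocallyOfFinitePresentation f' := ‹LocallyOfFinitePresentation f›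
    obtain ⟨i, X₀, f₀, g, h₁, h₂, h₃, h⟩ :=
      Groth.Agent.LimLib.hasModel (Groth.Agent.LimLib.isLimitFgCone ℤ A) (X := X) f'
    haveI := h₁
    haveI : QuasiCompact f₀ := quasiCompact_of_compactSpace f₀
    haveI : QuasiSeparated f₀ := QuasiSeparated.of_quasiSeparatedSpace f₀
    haveI : CompactSpace ((Groth.Agent.LimLib.fgDiagram ℤ A).obj i) := inferInstance
    obtain ⟨j, φ, Xi, Yi, fi, gi, pY, pX, hY, hX, hfi⟩ :=
      Groth.Agent.HTopUltra.exists_univSSubtrusive_descend (Groth.Agent.LimLib.fgDiagram ℤ A)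
        (Groth.Agent.LimLib.fgCone ℤ A) (Groth.Agent.LimLib.isLimitFgCone ℤ A) i f₀ (𝟙 _) f' (𝟙 (Groth.Agent.LimLib.fgCone ℤ A).pt)
        ((Groth.Agent.LimLib.fgCone ℤ A).π.app i) g
        (IsPullback.of_vert_isIso ⟨(Category.comp_id _).trans (Category.id_comp _).symm⟩) h hf
    haveI : IsIso gi := hY.isIso_snd_of_isIso
    haveI : LocallyOfFinitePresentation fi := MorphismProperty.of_isPullback hX h₁
    haveI : QuasiCompact fi := MorphismProperty.of_isPullback hX ‹QuasiCompact f₀›
    haveI : QuasiSeparated fi := MorphismProperty.of_isPullback hX ‹QuasiSeparated f₀›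
    have hπ : (Groth.Agent.LimLib.fgCone ℤ A).π.app j ≫ (Groth.Agent.LimLib.fgDiagram ℤ A).map φ = (Groth.Agent.LimLib.fgCone ℤ A).π.app i :=
      (Groth.Agent.LimLib.fgCone ℤ A).w φ
    have hpY : inv gi ≫ pY = (Groth.Agent.LimLib.fgDiagram ℤ A).map φ := by
      rw [IsIso.inv_comp_eq, ← hY.w, Category.comp_id]
    let q : X ⟶ Xi := hX.lift g (f' ≫ (Groth.Agent.LimLib.fgCone ℤ A).π.app j ≫ inv gi) (by
      rw [Category.assoc, Category.assoc, hpY, hπ]; exact h.w)
    have hq : IsPullback q f' (fi ≫ gi) ((Groth.Agent.LimLib.fgCone ℤ A).π.app j) := by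
      refine IsPullback.of_right (h₁₁ := q) (h₁₂ := pX)
        (v₁₃ := f₀) (h₂₂ := (Groth.Agent.LimLib.fgDiagram ℤ A).map φ) ?_ ?_ ?_
      · rw [hπ, hX.lift_fst]; exact h
      · rw [← Category.assoc, hX.lift_snd]; simp
      · exact hX.paste_vert (IsPullback.of_vert_isIso ⟨by rw [← hpY]; simp⟩ :
          IsPullback pY gi (𝟙 _) ((Groth.Agent.LimLib.fgDiagram ℤ A).map φ))
    refine ⟨Algebra.adjoin ℤ (j.unop : Set A), ⟨j.unop, rfl⟩, Xi, fi ≫ gi, q, hq,
      inferInstanceAs (LocallyOfFinitePresentation (fi ≫ gi)), inferInstanceAs (QuasiCompact (fi ≫ gi)),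
      inferInstanceAs (QuasiSeparated (fi ≫ gi)), ?_⟩
    refine Groth.Agent.SubtrLib.univSubmersive_of_univSSubtrusive (fi ≫ gi) ?_
    exact (MorphismProperty.RespectsIso.postcomp (P := Subtr.UnivSSubtrusive) gi fi hfi :)
  · rintro ⟨A₀, hA₀, X₀, f₀, q, hq, h₁, h₂, h₃, hs⟩
    haveI : Algebra.FiniteType ℤ A₀ := (Subalgebra.fg_iff_finiteType _).1 hA₀
    haveI : IsNoetherianRing A₀ := Algebra.FiniteType.isNoetherianRing ℤ A₀
    exact MorphismProperty.of_isPullback (P := Subtr.UnivSSubtrusive) hq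
      (Groth.Agent.SubtrLib.univSSubtrusive_of_univSubmersive f₀ hs)

end Groth.Agent.S14792
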