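import Groth.Statements.S14780
import Groth.Agent.SubtrFlat.Strict
import Groth.Agent.HTopUltra.OpenStage
import Groth.Agent.S14792
-- import your own Groth.Agent.* helpers here

set_option autoImplicit false
universe u
open CategoryTheory CategoryTheory.Limits AlgebraicGeometry
open Subtr

namespace Groth.Agent.S14780

/-- Let Y be a scheme that is affine or Noetherian and f : X ⟶ Y a universally open surjective morphism
of finite presentation. Then there are a scheme Y', a proper surjective morphism q : Y' ⟶ Y of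
finite presentation, a scheme X' and a surjective closed immersion r : X' ⟶ X ×_Y Y' (a
nil-immersion) such that the composite X' ⟶ X ×_Y Y' ⟶ Y' is flat, surjective and of finite
presentation. -/
theorem result {X Y : Scheme.{u}}
    (f : X ⟶ Y) (hY : IsAffine Y ∨ IsNoetherian Y) [LocallyOfFinitePresentation f] [QuasiCompact f] [QuasiSeparated f]
    [UniversallyOpen f] [Surjective f] :
    ∃ (Y' : Scheme.{u}) (q : Y' ⟶ Y) (X' : Scheme.{u}) (r : X' ⟶ pullback f q),
      IsProper q ∧ Surjective q ∧ LocallyOfFinitePresentation q ∧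
      IsClosedImmersion r ∧ Surjective r ∧
      Flat (r ≫ pullback.snd f q) ∧ Surjective (r ≫ pullback.snd f q) ∧
      LocallyOfFinitePresentation (r ≫ pullback.snd f q) ∧ QuasiCompact (r ≫ pullback.snd f q) ∧
      QuasiSeparated (r ≫ pullback.snd f q) := by
  rcases hY with hY | hY
  swap
  · obtain ⟨Y', q, X', r, h1, h2, h3, h4, h5, h6, h7, h8, h9⟩ := SubtrFlat.exists_nilImmersion_noetherian f
    haveI := h2
    haveI := h5
    exact ⟨Y', q, X', r, h1, h2, h3, h4, h5, h6, inferInstance, h7, h8, h9⟩
  haveI := hY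
  let A : Type u := Γ(Y, ⊤)
  haveI : CompactSpace X := QuasiCompact.compactSpace_of_compactSpace f
  haveI : QuasiSeparatedSpace X := quasiSeparatedSpace_of_quasiSeparated f
  let D := LimLib.fgDiagram ℤ A
  let cn := LimLib.fgCone ℤ A
  let f' : X ⟶ cn.pt := f ≫ Y.isoSpec.hom
  haveI : LocallyOfFinitePresentation f' := inferInstanceAs (LocallyOfFinitePresentation (f ≫ Y.isoSpec.hom))
  haveI : UniversallyOpen f' := inferInstanceAs (UniversallyOpen (f ≫ Y.isoSpec.hom))
  obtain ⟨i, X₀, f₀, g, h₁, h₂, h₃, h⟩ := LimLib.hasModel (LimLib.isLimitFgCone ℤ A) (X := X) f'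
  haveI := h₁
  haveI : QuasiCompact f₀ := quasiCompact_of_compactSpace f₀
  haveI : QuasiSeparated f₀ := QuasiSeparated.of_quasiSeparatedSpace f₀
  obtain ⟨j, φ, Xi, Yi, fi, gi, pY, pX, hYi, hXi, hfi⟩ :=
    HTopUltra.exists_universallyOpen_descend D cn (LimLib.isLimitFgCone ℤ A) i f₀ (𝟙 _) f' (𝟙 cn.pt) (cn.π.app i) g
      (IsPullback.of_vert_isIso ⟨(Category.comp_id _).trans (Category.id_comp _).symm⟩) h
      (HTopUltra.genLift_of_universallyOpen f' fun f' hf' => S10837.result f' hf')
  haveI := hfi
  haveI : IsIso gi := hYi.isIso_snd_of_isIso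
  haveI : LocallyOfFinitePresentation fi := MorphismProperty.of_isPullback hXi h₁
  haveI : QuasiCompact fi := MorphismProperty.of_isPullback hXi ‹QuasiCompact f₀›
  haveI : QuasiSeparated fi := MorphismProperty.of_isPullback hXi ‹QuasiSeparated f₀›
  have hpY : inv gi ≫ pY = D.map φ := by rw [IsIso.inv_comp_eq, ← hYi.w, Category.comp_id]
  let π : Y ⟶ Yi := Y.isoSpec.hom ≫ cn.π.app j ≫ inv gi
  have hπ : π ≫ pY = Y.isoSpec.hom ≫ cn.π.app i := by
    refine (Category.assoc _ _ _).trans (congrArg (Y.isoSpec.hom ≫ ·) ?_)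
    exact (Category.assoc _ _ _).trans ((congrArg (cn.π.app j ≫ ·) hpY).trans (cn.w φ))
  let s : X ⟶ Xi := hXi.lift g (f ≫ π) (h.w.trans ((Category.assoc _ _ _).trans
    ((congrArg (f ≫ ·) hπ.symm).trans (Category.assoc _ _ _).symm)))
  have hs : IsPullback s f fi π := by
    refine IsPullback.of_right (h₁₁ := s) (h₁₂ := pX) (v₁₃ := f₀) (h₂₂ := pY) ?_ (hXi.lift_snd _ _ _) hXi
    let ψ : Y ⟶ cn.pt := Y.isoSpec.hom
    haveI : IsIso ψ := Iso.isIso_hom Y.isoSpec
    have e : IsPullback (𝟙 X) f f' ψ :=
      IsPullback.of_horiz_isIso ⟨Category.id_comp f'⟩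
    have e' := e.paste_horiz h
    rw [Category.id_comp] at e'
    rw [hXi.lift_fst, hπ]
    exact e'
  haveI : Algebra.FiniteType ℤ (Algebra.adjoin ℤ (j.unop : Set A)) :=
    (Subalgebra.fg_iff_finiteType _).1 ⟨j.unop, rfl⟩
  haveI : IsNoetherianRing (Algebra.adjoin ℤ (j.unop : Set A)) := Algebra.FiniteType.isNoetherianRing ℤ _
  haveI : AlgebraicGeometry.IsNoetherian (D.obj j) :=
    inferInstanceAs (AlgebraicGeometry.IsNoetherian (Spec (CommRingCat.of (Algebra.adjoin ℤ (j.unop : Set A)))))
  haveI : IsLocallyNoetherian Yi := LocallyOfFiniteType.isLocallyNoetherian gi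
  haveI : CompactSpace Yi := QuasiCompact.compactSpace_of_compactSpace gi
  haveI : AlgebraicGeometry.IsNoetherian Yi := {}
  obtain ⟨Yi', qi, Xi', r, h1, h2, h3, h4, h5, h6, h7, h8, h9⟩ := SubtrFlat.exists_nilImmersion_noetherian fi
  let q := pullback.snd qi π
  let m : pullback f q ⟶ pullback fi qi := pullback.lift (pullback.fst f q ≫ s) (pullback.snd f q ≫ pullback.fst qi π)
    (by rw [Category.assoc, hs.w, pullback.condition_assoc, Category.assoc, pullback.condition])
  have hm : IsPullback m (pullback.snd f q) (pullback.snd fi qi) (pullback.fst qi π) := by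
    refine IsPullback.of_right (h₁₁ := m) (h₁₂ := pullback.fst fi qi) (v₁₃ := fi) (h₂₂ := qi) ?_
      (pullback.lift_snd _ _ _) (IsPullback.of_hasPullback fi qi)
    rw [pullback.lift_fst, pullback.condition]
    exact (IsPullback.of_hasPullback f q).paste_horiz hs
  have hr := (IsPullback.of_hasPullback r m).paste_vert hm
  have hsr : Surjective (pullback.snd r m) :=
    MorphismProperty.of_isPullback (P := @Surjective) (IsPullback.of_hasPullback r m) h5
  refine ⟨_, q, _, pullback.snd r m,
    MorphismProperty.of_isPullback (P := @IsProper) (IsPullback.of_hasPullback qi π) h1,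
    MorphismProperty.of_isPullback (P := @Surjective) (IsPullback.of_hasPullback qi π) h2,
    MorphismProperty.of_isPullback (P := @LocallyOfFinitePresentation) (IsPullback.of_hasPullback qi π) h3,
    MorphismProperty.of_isPullback (P := @IsClosedImmersion) (IsPullback.of_hasPullback r m) h4,
    hsr, MorphismProperty.of_isPullback (P := @Flat) hr h6, inferInstance,
    MorphismProperty.of_isPullback (P := @LocallyOfFinitePresentation) hr h7,
    MorphismProperty.of_isPullback (P := @QuasiCompact) hr h8,
    MorphismProperty.of_isPullback (P := @QuasiSeparated) hr h9⟩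

end Groth.Agent.S14780
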