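import Groth.Statements.S14781
import Groth.Agent.HTopUltra.QfhGlobal

set_option autoImplicit false
universe u
open CategoryTheory CategoryTheory.Limits AlgebraicGeometry
open Subtr

namespace Groth.Agent.S14781

/-- Let Y be a scheme that is affine or Noetherian and f : X ⟶ Y a quasi-finite morphism of finite
presentation every base change of which has the lifting property for ordered pairs of points. Then
there are schemes X', Y', a morphism h : X' ⟶ X, a quasi-compact, quasi-separated, surjective
morphism p : X' ⟶ Y' that is an open immersion on an open neighbourhood of every point of X' (an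
open covering of Y' of finite presentation) and a finite surjective morphism q : Y' ⟶ Y of finite
presentation, with h ≫ f = p ≫ q. -/
theorem result {X Y : Scheme.{u}} (f : X ⟶ Y)
    (hY : IsAffine Y ∨ IsNoetherian Y) [LocallyOfFinitePresentation f] [QuasiCompact f] [QuasiSeparated f] [LocallyQuasiFinite f]
    (hf : Subtr.UnivSSubtrusive f) :
    ∃ (X' Y' : Scheme.{u}) (h : X' ⟶ X) (p : X' ⟶ Y') (q : Y' ⟶ Y), h ≫ f = p ≫ q ∧
      Surjective p ∧ QuasiCompact p ∧ QuasiSeparated p ∧ (∀ x : X', ∃ U : X'.Opens, x ∈ U ∧ IsOpenImmersion (U.ι ≫ p)) ∧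
      IsFinite q ∧ Surjective q ∧ LocallyOfFinitePresentation q := by
  classical
  obtain ⟨Q, q, n, V, hq, hqs, hqf, hV, hcov, hl⟩ := Groth.Agent.HTopUltra.exists_openCover_then_finite hY
    (PreZeroHypercover.singleton.{0} f) (fun _ => inferInstanceAs (LocallyOfFinitePresentation f))
    (fun _ => inferInstanceAs (LocallyQuasiFinite f))
    (Groth.Agent.HTopLib.isVCover_singleton_of_univSSubtrusive f hf)
  haveI := hq
  choose i g hg using hl
  haveI : ∀ j, IsAffine (V j : Scheme.{u}) := hV
  let p : (∐ fun j => (V j : Scheme.{u})) ⟶ Q := Limits.Sigma.desc fun j => (V j).ι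
  let h : (∐ fun j => (V j : Scheme.{u})) ⟶ X := Limits.Sigma.desc fun j => g j
  refine ⟨_, Q, h, p, q, Limits.Sigma.hom_ext _ _ fun j => ?_, ⟨fun y => ?_⟩, ?_, ?_, fun x => ?_, hq, hqs, hqf⟩
  · simp only [p, h, Limits.Sigma.ι_desc_assoc]
    exact hg j
  · obtain ⟨j, hj⟩ := TopologicalSpace.Opens.mem_iSup.1 (hcov.ge (TopologicalSpace.Opens.mem_top y))
    exact ⟨Limits.Sigma.ι (fun j => (V j : Scheme.{u})) j ⟨y, hj⟩, by
      rw [← Scheme.Hom.comp_apply, Limits.Sigma.ι_desc]; rfl⟩
  · haveI : QuasiSeparatedSpace Y := by rcases hY with hY | hY <;> infer_instance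
    haveI : CompactSpace (∐ fun j => (V j : Scheme.{u}) : Scheme.{u}) := inferInstance
    haveI : QuasiCompact (p ≫ q) := quasiCompact_of_compactSpace (p ≫ q)
    exact QuasiCompact.of_comp p q
  · haveI : QuasiSeparatedSpace Y := by rcases hY with hY | hY <;> infer_instance
    haveI : QuasiSeparatedSpace Q := quasiSeparatedSpace_of_quasiSeparated q
    haveI : QuasiSeparatedSpace (∐ fun j => (V j : Scheme.{u}) : Scheme.{u}) := inferInstance
    exact QuasiSeparated.of_quasiSeparatedSpace p
  · obtain ⟨j, z, rfl⟩ := (sigmaOpenCover fun j => (V j : Scheme.{u})).exists_eq x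
    refine ⟨(Limits.Sigma.ι (fun j => (V j : Scheme.{u})) j).opensRange, ⟨z, rfl⟩, ?_⟩
    let e := (Limits.Sigma.ι (fun j => (V j : Scheme.{u})) j).isoOpensRange
    have : (Limits.Sigma.ι (fun j => (V j : Scheme.{u})) j).opensRange.ι ≫ p = e.inv ≫ (V j).ι := by
      rw [← Scheme.Hom.isoOpensRange_inv_comp, Category.assoc, Limits.Sigma.ι_desc]
    rw [this]
    infer_instance

end Groth.Agent.S14781
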