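import Groth.Statements.S14787
import Groth.Agent.AlgSpD.UnivHomeo.Main
import Groth.Agent.AlgSpD.IntegralMor


set_option autoImplicit false
set_option backward.isDefEq.respectTransparency false
universe u
open CategoryTheory CategoryTheory.Limits AlgebraicGeometry
open AlgSp

namespace Groth.Agent.S14787

/-- Let S be a quasi-separated scheme and f : X ⟶ Y a morphism of algebraic spaces over S, with X and Y
quasi-separated over S. If f is separated and a universal homeomorphism, then f is representable by
schemes and integral. -/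
theorem result {S : Scheme.{u}} [QuasiSeparatedSpace S]
    {X Y : AlgSp.Space S} (hX : AlgSp.IsQuasiSeparatedSp X.obj) (hY : AlgSp.IsQuasiSeparatedSp Y.obj)
    (f : X ⟶ Y) (hsep : AlgSp.IsSeparatedMor f.hom) (hh : AlgSp.IsUnivHomeoMor f.hom) :
    AlgSp.Representable f.hom ∧ AlgSp.IsIntegralMor f.hom := by
  have hi : AlgSp.IsIntegralMor f.hom := fun Z hZ g => by
    have sq := IsPullback.of_hasPullback f.hom g
    have hP := Groth.Agent.AlgSp.isAlgSpace_pullback Y.property X.property (IsAlgSpace.yon_obj Z) f.hom g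
    obtain ⟨W, i, e, he, hW, hi⟩ := Groth.Agent.AlgSpD.UnivHomeo.exists_affine ⟨_, hP⟩ (pullback.snd f.hom g)
      (Groth.Agent.AlgSp.isSeparatedMor_baseChange' sq hsep) (Groth.Agent.AlgSpCov.univSp_baseChange sq hh)
    exact ⟨W, i, e.hom ≫ pullback.fst f.hom g,
      IsPullback.of_iso sq e.symm (Iso.refl _) (Iso.refl _) (Iso.refl _) (by simp) (by simp [← he]) (by simp) (by simp),
      hW, hi⟩
  exact ⟨((Groth.Agent.AlgSpD.isIntegralMor_iff _).1 hi).1, hi⟩

end Groth.Agent.S14787
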