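import Groth.Statements.S14788
import Groth.Agent.SubtrLib.Val
-- import your own Groth.Agent.* helpers here

set_option autoImplicit false
universe u
open CategoryTheory CategoryTheory.Limits AlgebraicGeometry
open Subtr

namespace Groth.Agent.S14788

/-- (i) ⇔ (iv): a morphism of schemes f : X ⟶ Y has the lifting property for ordered pairs of points if
and only if, for every pro-constructible subset Z ⊆ Y, the image under f of the closure of f⁻¹(Z) is
the closure of Z. (In the published item (iv) the right-hand side is printed as Z itself; the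
closure is meant, as the case of a non-closed point shows and as the proof uses.) -/
theorem result {X Y : Scheme.{u}} (f : X ⟶ Y) :
    Subtr.IsSSubtrusive f ↔
      ∀ Z : Set Y, ProCons.IsProConstructible Z → f '' closure (f ⁻¹' Z) = closure Z := by
  refine ⟨fun hf Z hZ => subset_antisymm ?_ fun y hy => ?_, fun h y y' hy => ?_⟩
  · rintro _ ⟨x, hx, rfl⟩
    exact closure_mono (Set.image_preimage_subset f Z)
      (image_closure_subset_closure_image f.continuous ⟨x, hx, rfl⟩)
  · obtain ⟨y', hy', hs⟩ := Groth.Agent.LimTop.exists_specializes_of_mem_closure hZ hy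
    obtain ⟨x, x', hx, rfl, h2⟩ := hf hs
    exact ⟨x, closure_mono (Set.singleton_subset_iff.2 (show x' ∈ f ⁻¹' Z by show f x' ∈ Z; rw [h2]; exact hy'))
      hx.mem_closure, rfl⟩
  · obtain ⟨x, hx, rfl⟩ : y ∈ f '' closure (f ⁻¹' {y'}) := by
      rw [h _ (Groth.Agent.SubtrLib.isProConstructible_singleton y')]
      exact hy.mem_closure
    obtain ⟨x', h1, h2⟩ := Groth.Agent.SubtrLib.exists_specializes_fibre f hx
    exact ⟨x, x', h1, rfl, h2⟩

end Groth.Agent.S14788
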