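import Groth.Statements.S1479
import Groth.Agent.S2818
import Mathlib.AlgebraicGeometry.Morphisms.Etale
import Mathlib.AlgebraicGeometry.Morphisms.Smooth
import Mathlib.RingTheory.RingHom.Etale
import Mathlib.RingTheory.LocalRing.Module

set_option autoImplicit false
set_option linter.style.haveILetI false
universe u
open FlatMor
open scoped TensorProduct

namespace Groth.Agent.S1479

open AlgebraicGeometry CategoryTheory Limits

/-- Finitely many elements of an ideal generating it at a prime, as few as possible. -/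
theorem exists_min_gens {B : Type u} [CommRing B] (J : Ideal B) (hJ : J.FG) (q : Ideal B)
    [q.IsPrime] :
    ∃ (r : ℕ) (g : Fin r → B), (∀ i, g i ∈ J) ∧
      J.map (algebraMap B (Localization.AtPrime q)) =
        Ideal.span (Set.range fun i => algebraMap B (Localization.AtPrime q) (g i)) ∧
      r = Module.finrank q.ResidueField (q.ResidueField ⊗[B] J) := by
  classical
  let L := Localization.AtPrime q
  let JL := J.map (algebraMap B L)
  have : Module.Finite B J := Module.Finite.iff_fg.mpr hJ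
  have : Module.Finite L JL := Module.Finite.iff_fg.mpr (hJ.map _)
  let κ := q.ResidueField
  let t : Set (κ ⊗[B] J) := Set.range fun j : J => (1 : κ) ⊗ₜ[B] j
  obtain ⟨b, hbt, hbspan, hbli⟩ := exists_linearIndependent κ t
  have ht : Submodule.span κ t = ⊤ := by
    rw [eq_top_iff]
    rintro z -
    induction z using TensorProduct.induction_on with
    | zero => exact zero_mem _
    | add x y hx hy => exact add_mem hx hy
    | tmul c j =>
      rw [show c ⊗ₜ[B] j = c • ((1 : κ) ⊗ₜ[B] j) by rw [TensorProduct.smul_tmul', smul_eq_mul, mul_one]]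
      exact Submodule.smul_mem _ _ (Submodule.subset_span ⟨j, rfl⟩)
  have : Finite b := hbli.finite
  have : Fintype b := Fintype.ofFinite b
  let eb := (Fintype.equivFin b).symm
  choose j hj using fun i => hbt (eb i).2
  refine ⟨Fintype.card b, fun i => (j i : B), fun i => (j i).2, ?_, ?_⟩
  swap
  · rw [← finrank_top κ (κ ⊗[B] J), ← ht, ← hbspan]
    rw [finrank_span_set_eq_card hbli, Set.toFinset_card]
  let g : Fin (Fintype.card b) → JL := fun i => ⟨algebraMap B L (j i), Ideal.mem_map_of_mem _ (j i).2⟩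
  let ι : J →ₗ[B] JL :=
    { toFun := fun x => ⟨algebraMap B L x, Ideal.mem_map_of_mem _ x.2⟩
      map_add' := fun x y => Subtype.ext (map_add _ _ _)
      map_smul' := fun c x => Subtype.ext (by
        simp [Algebra.smul_def]) }
  let Φ : κ ⊗[B] J →ₗ[κ] κ ⊗[L] JL :=
    (((TensorProduct.mk L κ JL 1).restrictScalars B).comp ι).liftBaseChange κ
  have hΦ : ∀ x : J, Φ ((1 : κ) ⊗ₜ[B] x) = (1 : κ) ⊗ₜ[L] ι x := fun x => by simp [Φ]
  have hN : (Submodule.span L (Set.range g)).map (TensorProduct.mk L κ JL 1) = ⊤ := by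
    rw [Submodule.map_span, ← Submodule.restrictScalars_span L κ Ideal.Quotient.mk_surjective,
      Submodule.restrictScalars_eq_top_iff, eq_top_iff]
    have h1 : ∀ x : J, (1 : κ) ⊗ₜ[L] ι x ∈ Submodule.span κ (TensorProduct.mk L κ JL 1 '' Set.range g) := by
      intro x
      rw [← hΦ]
      have hx : (1 : κ) ⊗ₜ[B] x ∈ Submodule.span κ b := hbspan.ge (Submodule.subset_span ⟨x, rfl⟩)
      refine (Submodule.map_span_le Φ _ _).2 (fun w hw => ?_) ⟨_, hx, rfl⟩
      obtain ⟨i, hi⟩ := eb.surjective ⟨w, hw⟩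
      refine Submodule.subset_span ⟨g i, ⟨i, rfl⟩, ?_⟩
      rw [show w = ((eb i : b) : κ ⊗[B] J) by rw [hi], ← hj i, hΦ]
      rfl
    rintro z -
    induction z using TensorProduct.induction_on with
    | zero => exact zero_mem _
    | add x y hx hy => exact add_mem hx hy
    | tmul c x =>
      rw [show c ⊗ₜ[L] x = c • ((1 : κ) ⊗ₜ[L] x) by rw [TensorProduct.smul_tmul', smul_eq_mul, mul_one]]
      refine Submodule.smul_mem _ _ ?_
      obtain ⟨x, hx⟩ := x
      obtain ⟨⟨z, s⟩, hzs⟩ := (IsLocalization.mem_map_algebraMap_iff q.primeCompl L).1 hx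
      obtain ⟨u, hu⟩ := IsLocalization.map_units L s
      have h2 : (⟨x, hx⟩ : JL) = (↑u⁻¹ : L) • ι z := Subtype.ext (by
        show x = (↑u⁻¹ : L) * algebraMap B L z
        rw [← hzs, ← hu, mul_comm x, Units.inv_mul_cancel_left])
      rw [h2, TensorProduct.tmul_smul, TensorProduct.smul_tmul']
      rw [show ((↑u⁻¹ : L) • (1 : κ)) ⊗ₜ[L] ι z = ((↑u⁻¹ : L) • (1 : κ)) • ((1 : κ) ⊗ₜ[L] ι z) by
        rw [TensorProduct.smul_tmul', smul_eq_mul, mul_one]]
      exact Submodule.smul_mem _ _ (h1 z)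
  have h3 := IsLocalRing.map_tensorProduct_mk_eq_top.1 hN
  have h4 := congrArg (Submodule.map JL.subtype) h3
  rw [Submodule.map_top, Submodule.range_subtype, Submodule.map_span, ← Set.range_comp] at h4
  exact h4.symm

/-- A vector on an affine scheme gives an étale map to affine space if the ring map is étale. -/
theorem etale_homOfVector {W T : Scheme.{u}} [IsAffine W] [IsAffine T] (ψ : W ⟶ T) {σ : Type u}
    (v : σ → Γ(W, ⊤)) (h : (MvPolynomial.eval₂Hom ψ.appTop.hom v).Etale) :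
    Etale (AffineSpace.homOfVector ψ v) := by
  let g' := MvPolynomial.eval₂Hom ψ.appTop.hom v
  have key : AffineSpace.homOfVector ψ v =
      W.isoSpec.hom ≫ Spec.map (CommRingCat.ofHom g') ≫ (AffineSpace.isoOfIsAffine σ T).inv := by
    refine AffineSpace.hom_ext ?_ fun k => ?_
    · have hC : CommRingCat.ofHom (MvPolynomial.C (R := Γ(T, ⊤)) (σ := σ)) ≫
          CommRingCat.ofHom g' = ψ.appTop := by
        ext a; simp [g']
      rw [AffineSpace.homOfVector_over, Category.assoc, Category.assoc,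
        AffineSpace.isoOfIsAffine_inv_over, ← Spec.map_comp_assoc, hC,
        Scheme.isoSpec_hom_naturality_assoc, Iso.hom_inv_id, Category.comp_id]
    · rw [AffineSpace.homOfVector_appTop_coord, Scheme.Hom.comp_appTop, Scheme.Hom.comp_appTop]
      simp only [ConcreteCategory.comp_apply]
      rw [AffineSpace.isoOfIsAffine_inv_appTop_coord]
      have h1 : (Spec.map (CommRingCat.ofHom g')).appTop ((Scheme.ΓSpecIso _).inv (MvPolynomial.X k)) =
          (Scheme.ΓSpecIso _).inv (g' (MvPolynomial.X k)) :=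
        (congr($(Scheme.ΓSpecIso_inv_naturality (CommRingCat.ofHom g')) (MvPolynomial.X k))).symm
      rw [h1, Scheme.isoSpec_hom, ← ConcreteCategory.comp_apply, Scheme.toSpecΓ_appTop, Iso.inv_hom_id]
      exact (MvPolynomial.eval₂Hom_X' _ _ _).symm
  rw [key]
  haveI : Etale (Spec.map (CommRingCat.ofHom g')) := HasRingHomProperty.Spec_iff.2 h
  infer_instance

/-- Lifts to a closed subscheme of an affine scheme. -/
theorem exists_lift {T₀ W T : Scheme.{u}} [IsAffine W] (c : T₀ ⟶ W) [IsClosedImmersion c]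
    (b : T ⟶ W) (h : RingHom.ker c.appTop.hom ≤ RingHom.ker b.appTop.hom) :
    ∃ l : T ⟶ T₀, l ≫ c = b := by
  obtain ⟨haff, hsurj⟩ := IsClosedImmersion.isAffine_surjective_of_isAffine c
  let φ : Γ(T₀, ⊤) →+* Γ(T, ⊤) := (c.appTop.hom.liftOfSurjective hsurj) ⟨b.appTop.hom, h⟩
  refine ⟨T.toSpecΓ ≫ Spec.map (CommRingCat.ofHom φ) ≫ T₀.isoSpec.inv, ?_⟩
  have hφ : c.appTop ≫ CommRingCat.ofHom φ = b.appTop := by
    ext z
    exact c.appTop.hom.liftOfRightInverse_comp_apply _ (Function.rightInverse_surjInv hsurj) ⟨b.appTop.hom, h⟩ z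
  have h2 : T₀.isoSpec.inv ≫ c = Spec.map c.appTop ≫ W.isoSpec.inv := by
    rw [Iso.inv_comp_eq, Scheme.isoSpec_hom_naturality_assoc, Iso.hom_inv_id, Category.comp_id]
  rw [Category.assoc, Category.assoc, h2, ← Spec.map_comp_assoc, hφ,
    ← Scheme.toSpecΓ_naturality_assoc, ← Scheme.isoSpec_hom W, Iso.hom_inv_id, Category.comp_id]

lemma morphismRestrict_topIso {X Y : Scheme.{u}} (i : Y ⟶ X) (U : X.Opens) (z : Γ(X, U)) :
    (i ∣_ U).appTop (U.topIso.inv z) = (i ⁻¹ᵁ U).topIso.inv (i.app U z) := by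
  rw [← ConcreteCategory.comp_apply, ← ConcreteCategory.comp_apply]
  congr 2
  simp [Scheme.Opens.topIso, morphismRestrict_app, Scheme.Hom.app_eq_appLE]
  erw [Scheme.Hom.map_appLE, Scheme.Hom.appLE_map]

lemma resLE_topIso {X S : Scheme.{u}} (p : X ⟶ S) {V : S.Opens} {U U₀ : X.Opens}
    (hle : U₀ ≤ p ⁻¹ᵁ V) (h : U ≤ U₀) (a : Γ(S, V)) :
    (p.resLE V U (h.trans hle)).appTop (V.topIso.inv a) =
      U.topIso.inv (X.presheaf.map (homOfLE h).op (p.appLE V U₀ hle a)) := by
  rw [← ConcreteCategory.comp_apply (p.appLE V U₀ hle), Scheme.Hom.appLE_map,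
    ← ConcreteCategory.comp_apply, ← ConcreteCategory.comp_apply]
  congr 2
  rw [Scheme.Hom.appTop, Scheme.Hom.resLE_app_top]
  exact Iso.inv_hom_id_assoc _ _

set_option maxHeartbeats 800000 in
/-- Let X and Y be smooth over S and i : Y → X a closed immersion over S. For every point y of Y there
are an open U of X containing i y, natural numbers m, n, and an étale S-morphism π from U to affine
(m+n)-space over S such that the closed subscheme Y ∩ U of U is the pullback along π of the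
coordinate subspace given by the vanishing of the last n coordinates. -/
theorem result {S X Y : Scheme.{u}} (pX : X ⟶ S) (pY : Y ⟶ S) [Smooth pX] [Smooth pY]
    (i : Y ⟶ X) [IsClosedImmersion i] (w : i ≫ pX = pY) (y : Y) :
    ∃ (U : X.Opens) (m n : ℕ) (π : (U : Scheme.{u}) ⟶ 𝔸(ULift.{u} (Fin m ⊕ Fin n); S)) (ρ : (↑(i ⁻¹ᵁ U) : Scheme.{u}) ⟶ 𝔸(ULift.{u} (Fin m); S)),
      i y ∈ U ∧ Etale π ∧ π ≫ (𝔸(ULift.{u} (Fin m ⊕ Fin n); S) ↘ S) = U.ι ≫ pX ∧
      IsPullback ρ (i ∣_ U)
        (AffineSpace.homOfVector (𝔸(ULift.{u} (Fin m); S) ↘ S)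
          (fun j : ULift.{u} (Fin m ⊕ Fin n) => Sum.elim (fun a => AffineSpace.coord S (ULift.up a)) (fun _ => 0) j.down))
        π := by
  classical
  obtain ⟨V, hV, hyV, -⟩ := exists_isAffineOpen_mem_and_subset (U := (⊤ : S.Opens))
    (x := pY y) trivial
  have hxV : pX (i y) ∈ V := by rw [← Scheme.Hom.comp_apply, w]; exact hyV
  obtain ⟨U₀, hU₀, hyU₀, hU₀V⟩ := exists_isAffineOpen_mem_and_subset (U := pX ⁻¹ᵁ V) (x := i y) hxV
  have hle : U₀ ≤ pX ⁻¹ᵁ V := hU₀V
  have hleY : i ⁻¹ᵁ U₀ ≤ pY ⁻¹ᵁ V := by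
    subst w; exact i.preimage_mono hle
  let Q₀ := i.app U₀
  letI : Algebra Γ(S, V) Γ(X, U₀) := (pX.appLE V U₀ hle).hom.toAlgebra
  letI : Algebra Γ(S, V) Γ(Y, i ⁻¹ᵁ U₀) := (pY.appLE V (i ⁻¹ᵁ U₀) hleY).hom.toAlgebra
  let π₀ : Γ(X, U₀) →ₐ[Γ(S, V)] Γ(Y, i ⁻¹ᵁ U₀) :=
    { (i.app U₀).hom with
      commutes' := fun a => by
        show i.app U₀ (pX.appLE V U₀ hle a) = pY.appLE V (i ⁻¹ᵁ U₀) hleY a
        subst w
        rw [← Scheme.Hom.appLE_comp_appLE i pX V U₀ (i ⁻¹ᵁ U₀) hle le_rfl, Scheme.Hom.app_eq_appLE]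
        rfl }
  have hπ₀ : Function.Surjective π₀ := i.app_surjective U₀ hU₀
  haveI : Algebra.Smooth Γ(S, V) Γ(X, U₀) :=
    RingHom.smooth_algebraMap.mp (HasRingHomProperty.appLE @Smooth pX inferInstance ⟨V, hV⟩ ⟨U₀, hU₀⟩ hle)
  haveI : Algebra.Smooth Γ(S, V) Γ(Y, i ⁻¹ᵁ U₀) :=
    RingHom.smooth_algebraMap.mp (HasRingHomProperty.appLE @Smooth pY inferInstance ⟨V, hV⟩
      ⟨i ⁻¹ᵁ U₀, hU₀.preimage i⟩ hleY)
  let J : Ideal Γ(X, U₀) := RingHom.ker π₀
  haveI : Algebra.Smooth Γ(S, V) (Γ(X, U₀) ⧸ J) :=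
    Algebra.Smooth.of_equiv (Ideal.quotientKerAlgEquivOfSurjective hπ₀).symm
  have hJ : J.FG := Algebra.FinitePresentation.ker_fG_of_surjective π₀ hπ₀
  let q : Ideal Γ(X, U₀) := (hU₀.primeIdealOf ⟨i y, hyU₀⟩).asIdeal
  have hmem : ∀ b : Γ(X, U₀), b ∉ q ↔ i y ∈ X.basicOpen b := by
    intro b
    change hU₀.primeIdealOf ⟨i y, hyU₀⟩ ∈ PrimeSpectrum.basicOpen b ↔ _
    rw [← hU₀.fromSpec_preimage_basicOpen b]
    change hU₀.fromSpec (hU₀.primeIdealOf ⟨i y, hyU₀⟩) ∈ X.basicOpen b ↔ _
    rw [hU₀.fromSpec_primeIdealOf]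
  have hJq : J ≤ q := by
    intro b hb
    by_contra hbq
    have h1 : y ∈ i ⁻¹ᵁ X.basicOpen b := (hmem b).1 hbq
    rw [Scheme.preimage_basicOpen, show i.app U₀ b = 0 from hb, Scheme.basicOpen_zero] at h1
    exact h1
  have hker : RingHom.ker (Ideal.Quotient.mk J) ≤ q := Ideal.mk_ker.trans_le hJq
  haveI hQp : (q.map (Ideal.Quotient.mk J)).IsPrime :=
    Ideal.map_isPrime_of_surjective Ideal.Quotient.mk_surjective hker
  have hQ : (q.map (Ideal.Quotient.mk J)).comap (Ideal.Quotient.mk J) = q := by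
    rw [Ideal.comap_map_of_surjective _ Ideal.Quotient.mk_surjective, ← RingHom.ker_eq_comap_bot,
      sup_eq_left.2 hker]
  haveI : Algebra.IsSmoothAt Γ(S, V) q := Algebra.FormallySmooth.comp _ Γ(X, U₀) _
  haveI : Algebra.IsSmoothAt Γ(S, V) (q.map (Ideal.Quotient.mk J)) :=
    Algebra.FormallySmooth.comp _ (Γ(X, U₀) ⧸ J) _
  obtain ⟨r, g, hg, hgen, hmin⟩ := exists_min_gens J hJ q
  obtain ⟨f, hf, m, g', het, hJf⟩ := S2818.result Γ(S, V) Γ(X, U₀) J hJ q hJq
    (q.map (Ideal.Quotient.mk J)) hQ r g hg hgen hmin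
  let U : X.Opens := X.basicOpen f
  have hUU₀ : U ≤ U₀ := X.basicOpen_le f
  have hU : IsAffineOpen U := hU₀.basicOpen f
  haveI : IsAffine U.toScheme := hU
  haveI : IsAffine V.toScheme := hV
  haveI := hU₀.isLocalization_basicOpen f
  let e : Localization.Away f ≃ₐ[Γ(X, U₀)] Γ(X, U) :=
    IsLocalization.algEquiv (Submonoid.powers f) _ _
  let res : Γ(X, U₀) →+* Γ(X, U) := algebraMap _ _
  let σ := ULift.{u} (Fin m ⊕ Fin r)
  let v₀ : σ → Γ(X, U) := fun j => Sum.elim (fun a => e (g' a)) (fun a => res (g a)) j.down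
  let v : σ → Γ(U.toScheme, ⊤) := fun j => U.topIso.inv (v₀ j)
  have hUV : U ≤ pX ⁻¹ᵁ V := hUU₀.trans hle
  let ψ := pX.resLE V U hUV
  -- the ring map is étale
  have hE : (MvPolynomial.eval₂Hom ψ.appTop.hom v).Etale := by
    let ef : σ ≃ Fin r ⊕ Fin m := Equiv.ulift.trans (Equiv.sumComm _ _)
    let eA := V.topIso.commRingCatIsoToRingEquiv
    let e₁ : MvPolynomial σ Γ(V.toScheme, ⊤) ≃+* MvPolynomial (Fin r ⊕ Fin m) Γ(S, V) :=
      (MvPolynomial.mapEquiv σ eA).trans (MvPolynomial.renameEquiv Γ(S, V) ef).toRingEquiv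
    let e₂ : Localization.Away f ≃+* Γ(U.toScheme, ⊤) :=
      e.toRingEquiv.trans U.topIso.symm.commRingCatIsoToRingEquiv
    have h1 := RingHom.Etale.respectsIso.1 _ e₂ (RingHom.Etale.respectsIso.2 _ e₁ het)
    convert h1 using 1
    refine MvPolynomial.ringHom_ext (fun a => ?_) (fun j => ?_)
    · obtain ⟨a, rfl⟩ := eA.symm.surjective a
      simp only [RingHom.comp_apply, MvPolynomial.eval₂Hom_C]
      change ψ.appTop (V.topIso.inv a) = U.topIso.inv (e (MvPolynomial.aeval _ (e₁ (MvPolynomial.C (eA.symm a)))))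
      have : e₁ (MvPolynomial.C (eA.symm a)) = MvPolynomial.C a := by simp [e₁]
      rw [this, MvPolynomial.aeval_C, IsScalarTower.algebraMap_apply Γ(S, V) Γ(X, U₀) (Localization.Away f),
        AlgEquiv.commutes]
      change _ = U.topIso.inv (X.presheaf.map (homOfLE hUU₀).op (pX.appLE V U₀ hle a))
      exact resLE_topIso pX hle hUU₀ a
    · simp only [RingHom.comp_apply, MvPolynomial.eval₂Hom_X']
      change v j = U.topIso.inv (e (MvPolynomial.aeval _ (e₁ (MvPolynomial.X j))))
      have : e₁ (MvPolynomial.X j) = MvPolynomial.X (ef j) := by simp [e₁]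
      rw [this, MvPolynomial.aeval_X]
      obtain ⟨j | j⟩ := j
      · rfl
      · exact congrArg U.topIso.inv (e.commutes (g j)).symm
  haveI : Etale (AffineSpace.homOfVector ψ v) := etale_homOfVector ψ v hE
  haveI : IsOpenImmersion (AffineSpace.map σ V.ι) :=
    MorphismProperty.of_isPullback (AffineSpace.isPullback_map V.ι).flip inferInstance
  let π := AffineSpace.homOfVector (U.ι ≫ pX) v
  have hπ : Etale π := by
    have : π = AffineSpace.homOfVector ψ v ≫ AffineSpace.map σ V.ι := by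
      refine AffineSpace.hom_ext ?_ fun j => ?_
      · rw [Category.assoc, AffineSpace.map_over, AffineSpace.homOfVector_over_assoc,
          AffineSpace.homOfVector_over, Scheme.Hom.resLE_comp_ι]
      · rw [Scheme.Hom.comp_appTop, ConcreteCategory.comp_apply, AffineSpace.map_appTop_coord,
          AffineSpace.homOfVector_appTop_coord, AffineSpace.homOfVector_appTop_coord]
    rw [this]
    infer_instance
  -- the kernel on `U`
  have hkerU : RingHom.ker (i.app U).hom ≤ Ideal.span (Set.range fun a => res (g a)) := by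
    intro z hz
    obtain ⟨⟨b, ⟨_, k, rfl⟩⟩, hbz⟩ := IsLocalization.surj (Submonoid.powers f) z
    have hb : (Y.presheaf.map (homOfLE (Y.basicOpen_le (i.app U₀ f))).op) (i.app U₀ b) = 0 := by
      have h2 : i.app U (res b) = 0 := by
        rw [← hbz, map_mul, show i.app U z = 0 from hz, zero_mul]
      have h3 : Y.basicOpen (i.app U₀ f) ≤ i ⁻¹ᵁ U := (i.preimage_basicOpen f).ge
      have h4 := congrArg (Y.presheaf.map (homOfLE h3).op) h2
      rw [map_zero] at h4
      refine Eq.trans ?_ h4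
      change _ = (Y.presheaf.map (homOfLE h3).op) (i.app U (X.presheaf.map (homOfLE hUU₀).op b))
      rw [← ConcreteCategory.comp_apply, ← ConcreteCategory.comp_apply, ← ConcreteCategory.comp_apply]
      congr 2
      rw [Scheme.Hom.naturality_assoc, ← Functor.map_comp]
      rfl
    obtain ⟨k', hk'⟩ := exists_pow_mul_eq_zero_of_res_basicOpen_eq_zero_of_isCompact Y
      (hU₀.preimage i).isCompact (i.app U₀ b) (i.app U₀ f) hb
    have hJb : f ^ k' * b ∈ J := by
      show i.app U₀ (f ^ k' * b) = 0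
      rw [map_mul, map_pow]; exact hk'
    have h5 : algebraMap Γ(X, U₀) (Localization.Away f) (f ^ k' * b) ∈
        Ideal.span (Set.range fun a => algebraMap Γ(X, U₀) (Localization.Away f) (g a)) :=
      hJf ▸ Ideal.mem_map_of_mem _ hJb
    have h6 := Ideal.mem_map_of_mem e.toRingEquiv.toRingHom h5
    rw [Ideal.map_span, ← Set.range_comp] at h6
    have h7 : res (f ^ k' * b) ∈ Ideal.span (Set.range fun a => res (g a)) := by
      convert h6 using 2
      · exact congrArg _ (funext fun a => (e.commutes (g a)).symm)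
      · exact (e.commutes _).symm
    have hu : IsUnit (res (f ^ k') * res (f ^ k)) := by
      refine IsUnit.mul ?_ ?_ <;>
      · rw [map_pow]; exact (IsLocalization.Away.algebraMap_isUnit f).pow _
    refine (Ideal.unit_mul_mem_iff_mem _ hu).mp ?_
    rw [show res (f ^ k') * res (f ^ k) * z = res (f ^ k' * b) by rw [map_mul, ← hbz]; ring]
    exact h7
  have hg0 : ∀ a, (i ∣_ U).appTop (U.topIso.inv (res (g a))) = 0 := by
    intro a
    rw [morphismRestrict_topIso]
    have : i.app U (res (g a)) = 0 := by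
      change i.app U (X.presheaf.map (homOfLE hUU₀).op (g a)) = 0
      rw [← ConcreteCategory.comp_apply, Scheme.Hom.naturality, ConcreteCategory.comp_apply,
        show i.app U₀ (g a) = 0 from hg a, map_zero]
    rw [this, map_zero]
  let c := i ∣_ U
  let inclV : ULift.{u} (Fin m ⊕ Fin r) → Γ(𝔸(ULift.{u} (Fin m); S), ⊤) :=
    fun j => Sum.elim (fun a => AffineSpace.coord S (ULift.up a)) (fun _ => 0) j.down
  let jm := AffineSpace.homOfVector (𝔸(ULift.{u} (Fin m); S) ↘ S) inclV
  let ρ : (↑(i ⁻¹ᵁ U) : Scheme.{u}) ⟶ 𝔸(ULift.{u} (Fin m); S) :=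
    AffineSpace.homOfVector (c ≫ U.ι ≫ pX) fun a => c.appTop (v (ULift.up (Sum.inl a.down)))
  have hsq : ρ ≫ jm = c ≫ π := by
    refine AffineSpace.hom_ext ?_ fun j => ?_
    · rw [Category.assoc, Category.assoc]
      exact (congrArg (ρ ≫ ·) (AffineSpace.homOfVector_over _ _)).trans ((AffineSpace.homOfVector_over _ _).trans
        (congrArg (c ≫ ·) (AffineSpace.homOfVector_over _ _)).symm)
    · rw [Scheme.Hom.comp_appTop, Scheme.Hom.comp_appTop, ConcreteCategory.comp_apply,
        ConcreteCategory.comp_apply, AffineSpace.homOfVector_appTop_coord,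
        AffineSpace.homOfVector_appTop_coord]
      obtain ⟨a | a⟩ := j
      · exact AffineSpace.homOfVector_appTop_coord _ _ _
      · exact (map_zero ρ.appTop.hom).trans (hg0 a).symm
  refine ⟨U, m, r, π, ρ, (hmem f).1 hf, hπ, AffineSpace.homOfVector_over _ _, ?_⟩
  refine IsPullback.of_isLimit' ⟨hsq⟩ ?_
  have hlift : ∀ s : PullbackCone jm π, ∃ l : s.pt ⟶ (↑(i ⁻¹ᵁ U) : Scheme.{u}), l ≫ c = s.snd := by
    intro s
    refine exists_lift c s.snd fun z hz => ?_
    obtain ⟨z', rfl⟩ := U.topIso.symm.commRingCatIsoToRingEquiv.surjective z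
    have hz' : z' ∈ RingHom.ker (i.app U).hom := by
      have h1 : (i ∣_ U).appTop (U.topIso.inv z') = 0 := hz
      rw [morphismRestrict_topIso] at h1
      exact (i ⁻¹ᵁ U).topIso.symm.commRingCatIsoToRingEquiv.map_eq_zero_iff.1 h1
    refine (Ideal.span_le.2 ?_ : _ ≤ Ideal.comap (U.topIso.inv ≫ s.snd.appTop).hom ⊥) (hkerU hz')
    rintro _ ⟨a, rfl⟩
    rw [SetLike.mem_coe, Ideal.mem_comap, Ideal.mem_bot]
    have h2 := congr($(congrArg Scheme.Hom.appTop s.condition) (AffineSpace.coord S (ULift.up (Sum.inr a) : σ)))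
    rw [Scheme.Hom.comp_appTop, Scheme.Hom.comp_appTop, ConcreteCategory.comp_apply,
      ConcreteCategory.comp_apply, AffineSpace.homOfVector_appTop_coord,
      AffineSpace.homOfVector_appTop_coord] at h2
    exact h2.symm.trans (map_zero s.fst.appTop.hom)
  choose L hL using hlift
  refine PullbackCone.IsLimit.mk _ L (fun s => ?_) hL fun s l h₁ h₂ => ?_
  · refine AffineSpace.hom_ext ?_ fun a => ?_
    · rw [Category.assoc]
      refine (congrArg (L s ≫ ·) (AffineSpace.homOfVector_over _ _)).trans ?_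
      rw [← Category.assoc, hL]
      refine (congrArg (s.snd ≫ ·) (AffineSpace.homOfVector_over (U.ι ≫ pX) v).symm).trans ?_
      refine ((Category.assoc _ _ _).symm.trans (congrArg (· ≫ _) s.condition.symm)).trans ?_
      exact (Category.assoc _ _ _).trans (congrArg (s.fst ≫ ·) (AffineSpace.homOfVector_over _ _))
    · have h2 := congr($(congrArg Scheme.Hom.appTop s.condition) (AffineSpace.coord S (ULift.up (Sum.inl a.down) : σ)))
      rw [Scheme.Hom.comp_appTop, Scheme.Hom.comp_appTop, ConcreteCategory.comp_apply,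
        ConcreteCategory.comp_apply, AffineSpace.homOfVector_appTop_coord,
        AffineSpace.homOfVector_appTop_coord] at h2
      rw [Scheme.Hom.comp_appTop, ConcreteCategory.comp_apply, AffineSpace.homOfVector_appTop_coord,
        ← ConcreteCategory.comp_apply, ← Scheme.Hom.comp_appTop, hL]
      exact h2.symm
  · exact (cancel_mono c).1 (h₂.trans (hL s).symm)

end Groth.Agent.S1479
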