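import Groth.Statements.S14794
import Groth.Agent.WN.Scheme
import Groth.Agent.WN.Image
import Groth.Agent.SGA1Misc.SubmDescent
-- import your own Groth.Agent.* helpers here

set_option autoImplicit false
set_option linter.style.haveILetI false
universe u
open CategoryTheory CategoryTheory.Limits AlgebraicGeometry
open Subtr

namespace Groth.Agent.S14794

open CategoryTheory CategoryTheory.Limits AlgebraicGeometry Topology

/-- The open subset of `T ×_S X` in which the graph of a descendable morphism is closed. -/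
theorem exists_open_isClosed_range {S X T T' : Scheme.{u}} (πX : X ⟶ S) (t : T ⟶ S) (p : T' ⟶ T)
    (hp : SGA1.UnivSubmersive p) (f' : T' ⟶ X) (hf' : f' ≫ πX = p ≫ t)
    (hfield : ∀ (W : Scheme.{u}) [IsReduced W] (a b : W ⟶ T'), a ≫ p = b ≫ p → a ≫ f' = b ≫ f') :
    ∃ O : (pullback t πX).Opens, Set.range (pullback.lift p f' hf'.symm) ⊆ (O : Set ↥(pullback t πX)) ∧
      closure (Set.range (pullback.lift p f' hf'.symm)) ∩ (O : Set ↥(pullback t πX)) ⊆
        Set.range (pullback.lift p f' hf'.symm) := by
  let h := pullback.lift p f' hf'.symm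
  have hsat : ∀ a b : T', p a = p b → f' a = f' b := fun a b hab => by
    obtain ⟨z, hza, hzb⟩ := Scheme.Pullback.exists_preimage_pullback (f := p) (g := p) a b hab
    let r := (pullback p p).fromSpecResidueField z
    have := hfield _ (r ≫ pullback.fst p p) (r ≫ pullback.snd p p) (by simp only [Category.assoc, pullback.condition])
    have := congrArg (fun m => m (IsLocalRing.closedPoint ((pullback p p).residueField z))) this
    simpa [r, hza, hzb] using this
  have hquot : IsQuotientMap p.base := SGA1Misc.univSubmersive_isQuotientMap hp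
  let W : X.Opens → T.Opens := fun V => ⟨p '' (f' ⁻¹' (V : Set X)), by
    rw [← hquot.isOpen_preimage]
    convert (f' ⁻¹ᵁ V).2 using 1
    refine subset_antisymm ?_ (Set.subset_preimage_image _ _)
    rintro a ⟨b, hb, hab⟩
    show f' a ∈ V
    rw [← hsat b a hab]
    exact hb⟩
  let J := { VE : X.Opens × S.Opens // IsAffineOpen VE.1 ∧ IsAffineOpen VE.2 ∧ VE.1 ≤ πX ⁻¹ᵁ VE.2 }
  let N : J → (pullback t πX).Opens := fun i =>
    pullback.fst t πX ⁻¹ᵁ W i.1.1 ⊓ pullback.snd t πX ⁻¹ᵁ i.1.1
  refine ⟨⨆ i, N i, ?_, ?_⟩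
  · rintro _ ⟨a, rfl⟩
    obtain ⟨E, hE, haE, -⟩ := exists_isAffineOpen_mem_and_subset
      (show πX (f' a) ∈ (⊤ : S.Opens) from trivial)
    obtain ⟨V, hV, haV, hle⟩ := exists_isAffineOpen_mem_and_subset (U := πX ⁻¹ᵁ E) haE
    refine TopologicalSpace.Opens.mem_iSup.2 ⟨⟨(V, E), hV, hE, hle⟩, ?_, ?_⟩
    · show pullback.fst t πX (h a) ∈ W V
      rw [← Scheme.Hom.comp_apply, pullback.lift_fst]
      exact ⟨a, haV, rfl⟩
    · show pullback.snd t πX (h a) ∈ V
      rw [← Scheme.Hom.comp_apply, pullback.lift_snd]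
      exact haV
  · rintro x ⟨hxc, hxO⟩
    obtain ⟨⟨⟨V, E⟩, hV, hE, hle⟩, hxN⟩ := TopologicalSpace.Opens.mem_iSup.1 hxO
    let N₀ : (pullback t πX).Opens := pullback.fst t πX ⁻¹ᵁ W V ⊓ pullback.snd t πX ⁻¹ᵁ V
    by_contra hx
    -- the base change of `p` to `T ×_S X`
    let Q := pullback p (pullback.fst t πX)
    let pp : Q ⟶ pullback t πX := pullback.snd p (pullback.fst t πX)
    have hpp : IsQuotientMap pp.base :=
      hp _ _ _ (IsPullback.of_hasPullback p (pullback.fst t πX)).flip
    suffices hopen : IsOpen (pp ⁻¹' ((N₀ : Set ↥(pullback t πX)) \ Set.range h)) by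
      obtain ⟨y, hy₁, hy₂⟩ := mem_closure_iff.1 hxc _ (hpp.isOpen_preimage.1 hopen) ⟨hxN, hx⟩
      exact hy₁.2 hy₂
    let QV : Q.Opens := pp ⁻¹ᵁ N₀
    let u₁ : (QV : Scheme.{u}) ⟶ X := QV.ι ≫ pullback.fst p (pullback.fst t πX) ≫ f'
    let u₂ : (QV : Scheme.{u}) ⟶ X := QV.ι ≫ pp ≫ pullback.snd t πX
    have hu : u₁ ≫ πX = u₂ ≫ πX := by
      simp only [u₁, u₂, pp, Category.assoc, hf', ← pullback.condition (f := t) (g := πX),
        pullback.condition_assoc]
    have hu₁ : Set.range u₁ ⊆ Set.range V.ι := by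
      rw [Scheme.Opens.range_ι]
      rintro _ ⟨z, rfl⟩
      obtain ⟨b, hb, hbz⟩ : pullback.fst t πX (pp (QV.ι z)) ∈ W V := z.2.1
      show f' (pullback.fst p (pullback.fst t πX) (QV.ι z)) ∈ V
      rw [← hsat b _ (hbz.trans (by
        rw [← Scheme.Hom.comp_apply, ← Scheme.Hom.comp_apply, ← Scheme.Hom.comp_apply,
          ← Scheme.Hom.comp_apply, pullback.condition]))]
      exact hb
    have hu₂ : Set.range u₂ ⊆ Set.range V.ι := by
      rw [Scheme.Opens.range_ι]
      rintro _ ⟨z, rfl⟩
      exact z.2.2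
    let v₁ := IsOpenImmersion.lift V.ι u₁ hu₁
    let v₂ := IsOpenImmersion.lift V.ι u₂ hu₂
    let σ : (V : Scheme.{u}) ⟶ (E : Scheme.{u}) := πX.resLE E V hle
    have hv : v₁ ≫ σ = v₂ ≫ σ := by
      rw [← cancel_mono E.ι, Category.assoc, Category.assoc, Scheme.Hom.resLE_comp_ι,
        IsOpenImmersion.lift_fac_assoc, IsOpenImmersion.lift_fac_assoc, hu]
    haveI : IsAffine (V : Scheme.{u}) := hV
    haveI : IsAffine (E : Scheme.{u}) := hE
    let d : Over.mk (v₁ ≫ σ) ⟶ Over.mk σ := Over.homMk v₁
    let d' : Over.mk (v₁ ≫ σ) ⟶ Over.mk σ := Over.homMk v₂ hv.symm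
    haveI : IsSeparated (Over.mk σ).hom := inferInstanceAs (IsSeparated σ)
    let e := (equalizer.ι d d').left
    have key : pp ⁻¹' ((N₀ : Set ↥(pullback t πX)) \ Set.range h) = QV.ι '' (Set.range e)ᶜ := by
      ext z
      constructor
      · rintro ⟨hzN, hzh⟩
        refine ⟨⟨z, hzN⟩, ?_, rfl⟩
        rintro ⟨w, hw⟩
        apply hzh
        let zV : (QV : Scheme.{u}) := ⟨z, hzN⟩
        refine ⟨pullback.fst p (pullback.fst t πX) z, ?_⟩
        let r := (equalizer d d').left.fromSpecResidueField w ≫ e
        have hr : r ≫ u₁ = r ≫ u₂ := by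
          rw [← IsOpenImmersion.lift_fac V.ι u₁ hu₁, ← IsOpenImmersion.lift_fac V.ι u₂ hu₂]
          have : e ≫ v₁ = e ≫ v₂ := congrArg CommaMorphism.left (equalizer.condition d d')
          simp only [r, Category.assoc]
          rw [reassoc_of% this]
        have hr' : r ≫ QV.ι ≫ pullback.fst p (pullback.fst t πX) ≫ h = r ≫ QV.ι ≫ pp := by
          apply pullback.hom_ext
          · simp only [h, pp, Category.assoc, pullback.lift_fst, pullback.condition]
          · simpa only [h, u₁, u₂, Category.assoc, pullback.lift_snd] using hr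
        have := congrArg (fun m => m (IsLocalRing.closedPoint ((equalizer d d').left.residueField w))) hr'
        simpa [r, e, hw, zV] using this
      · rintro ⟨zV, hzV, rfl⟩
        refine ⟨zV.2, ?_⟩
        rintro ⟨a, ha⟩
        apply hzV
        obtain ⟨w, hw₁, hw₂⟩ := Scheme.Pullback.exists_preimage_pullback (f := h) (g := QV.ι ≫ pp) a zV ha
        let r := (pullback h (QV.ι ≫ pp)).fromSpecResidueField w
        let A := r ≫ pullback.fst h (QV.ι ≫ pp)
        let B := r ≫ pullback.snd h (QV.ι ≫ pp)
        have hAB : A ≫ h = B ≫ QV.ι ≫ pp := by simp only [A, B, Category.assoc, pullback.condition]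
        have h1 : A ≫ p = (B ≫ QV.ι ≫ pullback.fst p (pullback.fst t πX)) ≫ p := by
          simpa only [h, pp, Category.assoc, pullback.lift_fst, ← pullback.condition] using
            congrArg (· ≫ pullback.fst t πX) hAB
        have h2 : A ≫ f' = B ≫ QV.ι ≫ pp ≫ pullback.snd t πX := by
          simpa only [h, Category.assoc, pullback.lift_snd] using
            congrArg (· ≫ pullback.snd t πX) hAB
        have hB : B ≫ v₁ = B ≫ v₂ := by
          rw [← cancel_mono V.ι]
          simp only [v₁, v₂, Category.assoc, IsOpenImmersion.lift_fac]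
          show B ≫ u₁ = B ≫ u₂
          simp only [u₁, u₂]
          rw [← h2, hfield _ A _ h1]
          simp only [Category.assoc]
        let Bo : Over.mk (B ≫ v₁ ≫ σ) ⟶ Over.mk (v₁ ≫ σ) := Over.homMk B
        let l := (equalizer.lift Bo (show Bo ≫ d = Bo ≫ d' from Over.OverMorphism.ext hB)).left
        have hl : l ≫ e = B := congrArg CommaMorphism.left (equalizer.lift_ι Bo _)
        refine ⟨l (IsLocalRing.closedPoint _), ?_⟩
        rw [← Scheme.Hom.comp_apply, hl]
        simpa [B, r] using hw₂
    rw [key]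
    exact QV.ι.isOpenEmbedding.isOpenMap _ e.isClosedEmbedding.isClosed_range.isOpen_compl

/-- Let X ⟶ S be a quasi-separated morphism of schemes, T ⟶ S an S-scheme, p : T' ⟶ T a quasi-compact,
quasi-separated and universally submersive morphism, and f' : T' ⟶ X an S-morphism whose composites
with the two projections T' ×_T T' ⟶ T' agree on every reduced scheme mapping to T' ×_T T' (that is,
they agree on the reduction of T' ×_T T'). Then there are a scheme T₁ and a factorization p = q ≫ u
with q : T' ⟶ T₁ schematically dominant (injective on sections) and u : T₁ ⟶ T a separated universal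
homeomorphism, together with an S-morphism f₁ : T₁ ⟶ X with q ≫ f₁ = f'. In particular f' descends
to T as soon as every such factorization of p has u an isomorphism (p weakly normal). (This is the
factorization produced by the proof of the descent of morphisms along weakly normal morphisms. The
published remark is for algebraic spaces X with X ⟶ S locally separated and also asserts that the
factorization can be chosen minimal; this row is the case of schemes, which are locally separated,
without the minimality.) -/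
theorem result {S X T T' : Scheme.{u}}
    (πX : X ⟶ S) [QuasiSeparated πX] (t : T ⟶ S) (p : T' ⟶ T) [QuasiCompact p] [QuasiSeparated p]
    (hp : SGA1.UnivSubmersive p) (f' : T' ⟶ X) (hf' : f' ≫ πX = p ≫ t)
    (heq : ∀ (W : Scheme.{u}) [IsReduced W] (w : W ⟶ pullback p p),
      w ≫ pullback.fst p p ≫ f' = w ≫ pullback.snd p p ≫ f') :
    ∃ (T₁ : Scheme.{u}) (q : T' ⟶ T₁) (u : T₁ ⟶ T) (f₁ : T₁ ⟶ X), q ≫ u = p ∧
      (∀ U : T₁.Opens, Function.Injective (q.app U).hom) ∧ FlatMor.IsUnivHomeo u ∧ IsSeparated u ∧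
      q ≫ f₁ = f' ∧ f₁ ≫ πX = u ≫ t := by
  have hfield : ∀ (W : Scheme.{u}) [IsReduced W] (a b : W ⟶ T'), a ≫ p = b ≫ p → a ≫ f' = b ≫ f' :=
    fun W _ a b hab => by
      have := heq W (pullback.lift a b hab)
      rwa [pullback.lift_fst_assoc, pullback.lift_snd_assoc] at this
  obtain ⟨O, hO, hcl⟩ := exists_open_isClosed_range πX t p hp f' hf' hfield
  let h := pullback.lift p f' hf'.symm
  let hO' : T' ⟶ (O : Scheme.{u}) := IsOpenImmersion.lift O.ι h (by rw [Scheme.Opens.range_ι]; exact hO)
  have hfac : hO' ≫ O.ι = h := IsOpenImmersion.lift_fac _ _ _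
  haveI : QuasiCompact hO' := by
    haveI : QuasiCompact (hO' ≫ O.ι ≫ pullback.fst t πX) := by
      rw [reassoc_of% hfac, pullback.lift_fst]; infer_instance
    exact QuasiCompact.of_comp hO' (O.ι ≫ pullback.fst t πX)
  let q := hO'.toImage
  let u := hO'.imageι ≫ O.ι ≫ pullback.fst t πX
  have hqu : q ≫ u = p := by
    simp only [q, u, Scheme.Hom.toImage_imageι_assoc, reassoc_of% hfac, h, pullback.lift_fst]
  haveI : Surjective q := ⟨fun y => by
    have hy : hO'.imageι y ∈ closure (Set.range hO') := by
      rw [← Scheme.Hom.support_ker, ← hO'.ker.range_subschemeι]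
      exact ⟨y, rfl⟩
    have hy' : O.ι (hO'.imageι y) ∈ Set.range h := by
      refine hcl ⟨?_, (hO'.imageι y).2⟩
      refine map_mem_closure O.ι.continuous hy ?_
      rintro _ ⟨a, rfl⟩
      exact ⟨a, (congrArg (fun m : T' ⟶ pullback t πX => m a) hfac).symm⟩
    obtain ⟨a, ha⟩ := hy'
    refine ⟨a, hO'.imageι.isEmbedding.injective (O.ι.isOpenEmbedding.injective ?_)⟩
    show O.ι (hO'.imageι (hO'.toImage a)) = _
    rw [← Scheme.Hom.comp_apply hO'.toImage, hO'.toImage_imageι, ← Scheme.Hom.comp_apply, hfac, ha]⟩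
  have hu : FlatMor.IsUnivHomeo u := by
    intro X' Y' g₁ g₂ u' H
    let q' : pullback g₁ q ⟶ X' := pullback.fst g₁ q
    have hcomp : IsQuotientMap (q' ≫ u').base := by
      have hbig := ((IsPullback.of_hasPullback g₁ q).flip.paste_vert H.flip).flip
      rw [hqu] at hbig
      exact hp _ _ _ hbig
    rw [Scheme.Hom.comp_base, TopCat.coe_comp] at hcomp
    have hq : IsQuotientMap u'.base := IsQuotientMap.of_comp q'.continuous u'.continuous hcomp
    have hinj : Function.Injective u' := by
      intro x y hxy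
      obtain ⟨w, hwx, hwy⟩ := Scheme.Pullback.exists_preimage_pullback (f := u') (g := u') x y hxy
      let a := pullback.fst u' u' ≫ g₁
      let b := pullback.snd u' u' ≫ g₁
      obtain ⟨t₁, ht₁⟩ := q.surjective (a w)
      obtain ⟨w₁, hw₁, -⟩ := Scheme.Pullback.exists_preimage_pullback (f := a) (g := q) w t₁ ht₁.symm
      let b₁ := pullback.fst a q ≫ b
      obtain ⟨t₂, ht₂⟩ := q.surjective (b₁ w₁)
      obtain ⟨w₂, hw₂, -⟩ := Scheme.Pullback.exists_preimage_pullback (f := b₁) (g := q) w₁ t₂ ht₂.symm
      let r := (pullback b₁ q).fromSpecResidueField w₂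
      let A := r ≫ pullback.fst b₁ q ≫ pullback.snd a q
      let B := r ≫ pullback.snd b₁ q
      let c := r ≫ pullback.fst b₁ q ≫ pullback.fst a q
      have hA : A ≫ q = c ≫ a := by simp only [A, c, Category.assoc, ← pullback.condition]
      have hB : B ≫ q = c ≫ b := by simp only [B, c, b₁, Category.assoc, ← pullback.condition]
      have hab : a ≫ u = b ≫ u := by
        simp only [a, b, Category.assoc, ← H.w]
        rw [pullback.condition_assoc]
      have hp' : A ≫ p = B ≫ p := by rw [← hqu, reassoc_of% hA, reassoc_of% hB, hab]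
      have hh : A ≫ h = B ≫ h := by
        apply pullback.hom_ext
        · simpa only [h, Category.assoc, pullback.lift_fst] using hp'
        · simpa only [h, Category.assoc, pullback.lift_snd] using hfield _ A B hp'
      have heq' : c ≫ pullback.fst u' u' = c ≫ pullback.snd u' u' := by
        refine H.hom_ext ?_ ?_
        · simp only [Category.assoc, pullback.condition]
        · rw [Category.assoc, Category.assoc]
          show c ≫ a = c ≫ b
          rw [← hA, ← hB, ← cancel_mono hO'.imageι, ← cancel_mono O.ι]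
          simpa only [q, Category.assoc, Scheme.Hom.toImage_imageι_assoc, hfac] using hh
      have := congrArg (fun m => m (IsLocalRing.closedPoint ((pullback b₁ q).residueField w₂))) heq'
      simpa [c, r, hw₂, hw₁, hwx, hwy] using this
    refine ⟨u'.continuous, fun U hU => ?_, hinj, hq.surjective⟩
    rw [← hq.isOpen_preimage, Set.preimage_image_eq _ hinj]
    exact hU
  haveI : IsIntegralHom u := ((Groth.Agent.WN.isUnivHomeo_iff u).1 hu).1
  refine ⟨hO'.image, q, u, hO'.imageι ≫ O.ι ≫ pullback.snd t πX, hqu, fun U => ?_, hu, inferInstance,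
    by simp only [q, Scheme.Hom.toImage_imageι_assoc, reassoc_of% hfac, h, pullback.lift_snd],
    by simp only [u, Category.assoc, pullback.condition]⟩
  exact TopCat.Presheaf.app_injective_of_stalkFunctor_map_injective (F := hO'.image.sheaf) q.c U
    fun x _ => hO'.stalkFunctor_toImage_injective x

end Groth.Agent.S14794
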