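import Groth.Statements.S14796
import Groth.Agent.WN.Equalizer
import Groth.Agent.WN.Scheme
import Groth.Agent.AlgSpD.ReducedEtale
import Mathlib.RingTheory.Smooth.IntegralClosure
import Mathlib.RingTheory.Etale.Basic
import Mathlib.RingTheory.LocalProperties.Reduced
-- import your own Groth.Agent.* helpers here

set_option autoImplicit false
set_option linter.style.haveILetI false
universe u
open CategoryTheory CategoryTheory.Limits AlgebraicGeometry
open Subtr

namespace Groth.Agent.S14796

open scoped TensorProduct

/-- The largest subalgebra with universally homeomorphic spectrum is cut out inside the integral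
closure by nilpotency of `b ⊗ 1 - 1 ⊗ b`. -/
theorem eq_map_eqRed {A B T : Type u} [CommRing A] [CommRing B] [CommRing T] [Algebra A B] [Algebra A T]
    (κ : T →ₐ[A] B) (hκ : Function.Injective κ) (hrange : κ.range = integralClosure A B)
    (hinj : Function.Injective (algebraMap A B))
    (C : Subalgebra A B) (hC : FlatMor.IsUnivHomeo (Spec.map (CommRingCat.ofHom (algebraMap A C))))
    (hmax : ∀ D : Subalgebra A B, FlatMor.IsUnivHomeo (Spec.map (CommRingCat.ofHom (algebraMap A D))) → D ≤ C) :
    C = (Groth.Agent.WN.eqRed A T).map κ := by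
  have hT : Algebra.IsIntegral A T := ⟨fun t => (isIntegral_algHom_iff κ hκ).1
    ((mem_integralClosure_iff _ _).1 (hrange.le ⟨t, rfl⟩))⟩
  have hTinj : Function.Injective (algebraMap A T) := fun a b h => hinj (by
    rw [← κ.commutes, h, κ.commutes])
  have hC' := (Groth.Agent.WN.isUnivHomeo_specMap_iff _).1 hC
  refine le_antisymm ?_ (hmax _ ?_)
  · intro c hc
    obtain ⟨t, rfl⟩ : c ∈ κ.range := hrange.ge (by
      have := (hC'.isIntegral ⟨c, hc⟩ : IsIntegral A (⟨c, hc⟩ : C))
      exact (mem_integralClosure_iff _ _).2 (IsIntegral.map C.val this))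
    refine ⟨t, Groth.Agent.WN.le_eqRed_of_radicial (C.comap κ) ?_ hc, rfl⟩
    -- the preimage of `C` is isomorphic to `C`
    have hCle : C ≤ κ.range := fun d hd => hrange.ge
      ((mem_integralClosure_iff _ _).2 (IsIntegral.map C.val (hC'.isIntegral ⟨d, hd⟩ : IsIntegral A (⟨d, hd⟩ : C))))
    let e : C.comap κ →ₐ[A] C := (κ.comp (C.comap κ).val).codRestrict C fun z => z.2
    have he : Function.Surjective e := fun d => by
      obtain ⟨z, hz⟩ := hCle d.2
      exact ⟨⟨z, show κ z ∈ C from hz ▸ d.2⟩, Subtype.ext hz⟩
    intro K _ g₁ g₂ hg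
    have hei : Function.Injective e := fun z w h => Subtype.ext (hκ (congrArg Subtype.val h))
    let ei := (AlgEquiv.ofBijective e ⟨hei, he⟩).symm
    have key := hC'.radicial K (g₁.comp ei.toAlgHom.toRingHom) (g₂.comp ei.toAlgHom.toRingHom) (by
      ext a
      simpa using DFunLike.congr_fun hg a)
    ext z
    simpa [ei] using DFunLike.congr_fun key (AlgEquiv.ofBijective e ⟨hei, he⟩ z)
  · let E := Groth.Agent.WN.eqRed A T
    let e : E ≃ₐ[A] E.map κ := Subalgebra.equivMapOfInjective E κ hκ
    rw [show CommRingCat.ofHom (algebraMap A (E.map κ)) =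
      CommRingCat.ofHom (algebraMap A E) ≫ e.toRingEquiv.toCommRingCatIso.hom from by
        ext a; exact congrArg Subtype.val (e.commutes a).symm, Spec.map_comp]
    exact Groth.Agent.WN.isUnivHomeo_comp Groth.Agent.WN.isUnivHomeo_isoClass
      ((Groth.Agent.WN.isUnivHomeo_specMap_iff _).2 (Groth.Agent.WN.isRadHomeo_eqRed hTinj))

/-- The reduced equalizer commutes with base changes preserving reducedness. -/
theorem map_eqRed_baseChange {A B A' : Type u} [CommRing A] [CommRing B] [CommRing A'] [Algebra A B]
    [Algebra A A'] [Module.Flat A A']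
    (hred : ∀ (N : Type u) [CommRing N] [Algebra A N] [_root_.IsReduced N], _root_.IsReduced (A' ⊗[A] N)) :
    (Groth.Agent.WN.eqRed A' (A' ⊗[A] B) : Set (A' ⊗[A] B)) =
      Set.range (Algebra.TensorProduct.map (AlgHom.id A A') (Groth.Agent.WN.eqRed A B).val) := by
  let N := (B ⊗[A] B) ⧸ nilradical (B ⊗[A] B)
  haveI : _root_.IsReduced N :=
    (Ideal.isRadical_iff_quotient_reduced _).1 (Ideal.radical_isRadical ⊥)
  haveI := hred N
  let π : B ⊗[A] B →ₐ[A] N := Ideal.Quotient.mkₐ A _
  let f₁ : B →ₐ[A] N := π.comp Algebra.TensorProduct.includeLeft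
  let f₂ : B →ₐ[A] N := π.comp Algebra.TensorProduct.includeRight
  ext x
  constructor
  · intro hx
    let Φ : (A' ⊗[A] B) ⊗[A'] (A' ⊗[A] B) →ₐ[A'] A' ⊗[A] N :=
      Algebra.TensorProduct.lift (Algebra.TensorProduct.map (AlgHom.id A' A') f₁)
        (Algebra.TensorProduct.map (AlgHom.id A' A') f₂) fun b c => mul_comm (Algebra.TensorProduct.map (AlgHom.id A' A') f₁ b) (Algebra.TensorProduct.map (AlgHom.id A' A') f₂ c)
    have h0 := (((Groth.Agent.WN.mem_eqRed x).1 hx).map Φ).eq_zero
    rw [map_sub, Algebra.TensorProduct.lift_tmul, Algebra.TensorProduct.lift_tmul, map_one, map_one,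
      mul_one, one_mul] at h0
    let δ : B →ₗ[A] N := f₁.toLinearMap - f₂.toLinearMap
    have hker : Function.Exact (Groth.Agent.WN.eqRed A B).val.toLinearMap δ := fun b => by
      rw [Set.mem_range]
      constructor
      · intro hb
        exact ⟨⟨b, sub_eq_zero.1 hb⟩, rfl⟩
      · rintro ⟨e, rfl⟩
        exact sub_eq_zero.2 e.2
    have hex := Module.Flat.lTensor_exact A' hker
    have hδ : δ.lTensor A' x = Algebra.TensorProduct.map (AlgHom.id A' A') f₁ x -
        Algebra.TensorProduct.map (AlgHom.id A' A') f₂ x := by
      clear hx h0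
      induction x using TensorProduct.induction_on with
      | zero => simp
      | tmul a b => simp [δ, TensorProduct.tmul_sub]
      | add z w hz hw => rw [map_add, hz, hw, map_add, map_add]; abel
    obtain ⟨y, hy⟩ := (hex x).1 (hδ.trans h0)
    exact ⟨y, hy⟩
  · rintro ⟨y, rfl⟩
    induction y using TensorProduct.induction_on with
    | zero => rw [map_zero]; exact zero_mem _
    | add z w hz hw => rw [map_add]; exact add_mem hz hw
    | tmul a e =>
      rw [SetLike.mem_coe, Groth.Agent.WN.mem_eqRed]
      let χ : B ⊗[A] B →ₐ[A] (A' ⊗[A] B) ⊗[A'] (A' ⊗[A] B) :=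
        Algebra.TensorProduct.lift
          ((Algebra.TensorProduct.includeLeft (R := A') (S := A) (A := A' ⊗[A] B) (B := A' ⊗[A] B)).comp
            Algebra.TensorProduct.includeRight)
          (((Algebra.TensorProduct.includeRight (R := A') (A := A' ⊗[A] B) (B := A' ⊗[A] B)).restrictScalars A).comp
            Algebra.TensorProduct.includeRight) fun _ _ => Commute.all _ _
      have hn := ((Groth.Agent.WN.mem_eqRed (e : B)).1 e.2).map χ
      obtain ⟨n, hn⟩ := hn
      refine ⟨n + 1, ?_⟩
      have key : (Algebra.TensorProduct.map (AlgHom.id A A') (Groth.Agent.WN.eqRed A B).val (a ⊗ₜ e)) ⊗ₜ[A'] (1 : A' ⊗[A] B) -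
          1 ⊗ₜ[A'] (Algebra.TensorProduct.map (AlgHom.id A A') (Groth.Agent.WN.eqRed A B).val (a ⊗ₜ e)) =
          a • χ ((e : B) ⊗ₜ 1 - 1 ⊗ₜ (e : B)) := by
        rw [Algebra.TensorProduct.map_tmul, show (AlgHom.id A A') a ⊗ₜ[A] (Groth.Agent.WN.eqRed A B).val e =
            a • ((1 : A') ⊗ₜ[A] (e : B)) by simp [TensorProduct.smul_tmul'],
          TensorProduct.tmul_smul, ← TensorProduct.smul_tmul', map_sub, smul_sub]
        simp [χ, Algebra.TensorProduct.one_def]
      rw [key, smul_pow, pow_succ, pow_succ, hn, zero_mul, smul_zero]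


/-- Let A ⊆ B be a ring extension and A ⟶ A' a ring map that is a localization or étale; put B' = A' ⊗_A
B. Let C ⊆ B be the weak subintegral closure of A in B and C' ⊆ B' that of A' in B' (each the
largest subalgebra whose spectrum maps to the base by a universal homeomorphism, characterised here
by that maximality). Then C' is the image of A' ⊗_A C ⟶ A' ⊗_A B: the weak subintegral closure
commutes with such base changes. -/
theorem result {A B A' : Type u} [CommRing A] [CommRing B]
    [CommRing A'] [Algebra A B] [Algebra A A'] (hinj : Function.Injective (algebraMap A B))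
    (hA' : (∃ M : Submonoid A, IsLocalization M A') ∨ Algebra.Etale A A')
    (C : Subalgebra A B) (hC : FlatMor.IsUnivHomeo (Spec.map (CommRingCat.ofHom (algebraMap A C))))
    (hmax : ∀ D : Subalgebra A B, FlatMor.IsUnivHomeo (Spec.map (CommRingCat.ofHom (algebraMap A D))) → D ≤ C)
    (C' : Subalgebra A' (TensorProduct A A' B)) (hC' : FlatMor.IsUnivHomeo (Spec.map (CommRingCat.ofHom (algebraMap A' C'))))
    (hmax' : ∀ D : Subalgebra A' (TensorProduct A A' B), FlatMor.IsUnivHomeo (Spec.map (CommRingCat.ofHom (algebraMap A' D))) → D ≤ C') :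
    (C' : Set (TensorProduct A A' B)) =
      Set.range (Algebra.TensorProduct.map (AlgHom.id A A') C.val) := by
  have hbij : Function.Bijective (TensorProduct.toIntegralClosure A A' B) := by
    rcases hA' with ⟨M, hM⟩ | hE
    · exact TensorProduct.toIntegralClosure_bijective_of_isLocalization M
    · exact TensorProduct.toIntegralClosure_bijective_of_smooth
  haveI : Module.Flat A A' := by
    rcases hA' with ⟨M, hM⟩ | hE
    · exact IsLocalization.flat A' M
    · infer_instance
  have hred : ∀ (N : Type u) [CommRing N] [Algebra A N] [_root_.IsReduced N],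
      _root_.IsReduced (A' ⊗[A] N) := fun N _ _ _ => by
    haveI : _root_.IsReduced (N ⊗[A] A') := by
      rcases hA' with ⟨M, hM⟩ | hE
      · exact isReduced_localizationPreserves (Algebra.algebraMapSubmonoid N M) (N ⊗[A] A') ‹_›
      · exact Groth.Agent.AlgSpD.isReduced_of_etale N (N ⊗[A] A')
    exact isReduced_of_injective (Algebra.TensorProduct.comm A A' N).toRingEquiv.toRingHom
      (Algebra.TensorProduct.comm A A' N).injective
  let T := TensorProduct A A' (integralClosure A B)
  let κ : T →ₐ[A'] TensorProduct A A' B :=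
    Algebra.TensorProduct.map (AlgHom.id A' A') (integralClosure A B).val
  have hκ : Function.Injective κ :=
    Module.Flat.lTensor_preserves_injective_linearMap (M := A') (integralClosure A B).val.toLinearMap
      Subtype.val_injective
  have hrange : κ.range = integralClosure A' (TensorProduct A A' B) := by
    refine le_antisymm ?_ fun y hy => ?_
    · rintro _ ⟨t, rfl⟩
      exact (TensorProduct.toIntegralClosure A A' B t).2
    · obtain ⟨t, ht⟩ := hbij.2 ⟨y, hy⟩
      exact ⟨t, congrArg Subtype.val ht⟩
  have hinj' : Function.Injective (algebraMap A' (TensorProduct A A' B)) := by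
    have h := Module.Flat.lTensor_preserves_injective_linearMap (M := A') (Algebra.linearMap A B) hinj
    intro a b hab
    exact (TensorProduct.rid A A').symm.injective (h (by simpa using hab))
  rw [eq_map_eqRed κ hκ hrange hinj' C' hC' hmax',
    eq_map_eqRed (integralClosure A B).val Subtype.val_injective (Subalgebra.range_val _) hinj C hC hmax,
    Subalgebra.coe_map, map_eqRed_baseChange hred, ← Set.range_comp]
  let e := Subalgebra.equivMapOfInjective (Groth.Agent.WN.eqRed A (integralClosure A B))
    (integralClosure A B).val Subtype.val_injective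
  have he : ∀ y, κ (Algebra.TensorProduct.map (AlgHom.id A A') (Groth.Agent.WN.eqRed A (integralClosure A B)).val y) =
      Algebra.TensorProduct.map (AlgHom.id A A') ((Groth.Agent.WN.eqRed A (integralClosure A B)).map
        (integralClosure A B).val).val (Algebra.TensorProduct.map (AlgHom.id A A') e.toAlgHom y) := fun y => by
    induction y using TensorProduct.induction_on with
    | zero => simp
    | tmul a b => simp [κ, e]; rfl
    | add z w hz hw => simp only [map_add, hz, hw]
  rw [show (κ : T → TensorProduct A A' B) ∘ Algebra.TensorProduct.map (AlgHom.id A A')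
      (Groth.Agent.WN.eqRed A (integralClosure A B)).val = _ ∘ _ from funext he]
  refine Function.Surjective.range_comp ?_ _
  exact TensorProduct.map_surjective Function.surjective_id e.surjective

end Groth.Agent.S14796
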