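import Groth.Statements.S14799
import Groth.Agent.HJ84Mult
-- import your own Groth.Agent.* helpers here

set_option autoImplicit false
open HJFrac

namespace Groth.Agent.S14799

/-- Let 0 < r < n be coprime integers and n/r = b₁ - 1/(b₂ - 1/(⋯ - 1/b_λ)) the Hirzebruch–Jung
expansion (λ ≥ 1, every b_i ≥ 2); let m₁, m₂ be positive integers prime to n with r m₂ + m₁ ≡ 0 mod
n, and let μ₁, …, μ_λ be positive integers with b_i μ_i = μ_{i-1} + μ_{i+1} for 1 ≤ i ≤ λ, where μ₀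
= m₂ and μ_{λ+1} = m₁. Then gcd(m₁, μ₁, …, μ_λ, m₂) = gcd(m₁, m₂); equivalently gcd(m₁, m₂) divides
every μ_i. -/
theorem result (l : ℕ) (hl : 1 ≤ l) (b : ℕ → ℤ)
    (hb : ∀ i, 1 ≤ i → i ≤ l → 2 ≤ b i)
    (n r : ℕ) (hr : 0 < r) (hrn : r < n) (hcop : Nat.Coprime r n)
    (hhj : (n : ℚ) / r = HJFrac.hjVal ((List.range l).map fun i => b (i + 1)))
    (m₁ m₂ : ℕ) (hm₁ : 0 < m₁) (hm₂ : 0 < m₂) (h₁ : Nat.Coprime m₁ n) (h₂ : Nat.Coprime m₂ n)
    (hdvd : (n : ℤ) ∣ r * m₂ + m₁)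
    (μ : ℕ → ℤ) (hμ0 : μ 0 = m₂) (hμl : μ (l + 1) = m₁) (hμpos : ∀ i, i ≤ l + 1 → 0 < μ i)
    (hsys : ∀ i, 1 ≤ i → i ≤ l → b i * μ i = μ (i - 1) + μ (i + 1)) :
    ∀ i, i ≤ l + 1 → ((Nat.gcd m₁ m₂ : ℕ) : ℤ) ∣ μ i := by
  obtain ⟨u, hu0, hu1, -, hW⟩ :=
    Groth.Agent.HJ84Mult.exists_numer_eq l hl b hb n r hr hcop hhj μ hsys
  set d : ℤ := ((Nat.gcd m₁ m₂ : ℕ) : ℤ)
  have hd1 : d ∣ μ (l + 1) := by rw [hμl]; exact Int.natCast_dvd_natCast.2 (Nat.gcd_dvd_left _ _)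
  have hd0 : d ∣ μ 0 := by rw [hμ0]; exact Int.natCast_dvd_natCast.2 (Nat.gcd_dvd_right _ _)
  have h01 : d ∣ μ 1 := by
    have hcn : IsCoprime d (n : ℤ) :=
      Nat.isCoprime_iff_coprime.2 (h₁.coprime_dvd_left (Nat.gcd_dvd_left _ _))
    refine hcn.dvd_of_dvd_mul_left ?_
    rw [show (n : ℤ) * μ 1 = μ (l + 1) + r * μ 0 by
      have := hW 0 (by omega)
      rw [hu0, zero_add, hu1] at this
      linarith]
    exact dvd_add hd1 (dvd_mul_of_dvd_right hd0 _)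
  intro i
  induction i using Nat.strong_induction_on with
  | _ i ih =>
    intro hi
    match i, hi, ih with
    | 0, _, _ => exact hd0
    | 1, _, _ => exact h01
    | j + 2, hi, ih =>
      rw [show μ (j + 2) = b (j + 1) * μ (j + 1) - μ j by
        have := hsys (j + 1) (by omega) (by omega)
        rw [Nat.add_sub_cancel] at this
        linarith]
      exact dvd_sub (dvd_mul_of_dvd_right (ih (j + 1) (by omega) (by omega)) _)
        (ih j (by omega) (by omega))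

end Groth.Agent.S14799
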