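import Groth.Statements.S14801
import Groth.Agent.LabChain.Basic
-- import your own Groth.Agent.* helpers here

set_option autoImplicit false
universe u
open Finset
open LabGraph

namespace Groth.Agent.S14801

/-- Let (G, β) be a finite multigraph with a multiplicity function and α its matrix (α_{vw} = #edges(v,
w) for v ≠ w, diagonal entries defined by Σ_w β(w) α_{vw} = 0); let L be a connecting chain of
length m (vertices v₀, …, v_m, edges e₁, …, e_m, each connecting) with β(v_i) = m and α_{v_i v_i} =
-2 for all i; let (G', β') be the contraction of L and f : ℤ^{V(G')} → ℤ^{V(G)} the map extending a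
vector by zero along the section of V(G) → V(G') that sends the contracted vertex to v₀. Then f
carries ker β' into ker β, and there is a map h : ℤ^{V(G')} → ℤ^{V(G)} with f ∘ α' = α ∘ h, so that
f induces a homomorphism of component groups ker β'/im α' → ker β/im α; this homomorphism is
surjective. -/
theorem result {V E : Type u} [Fintype V] [Fintype E] [DecidableEq V] [DecidableEq E]
    (ends : E → V × V) (β : V → ℤ) (hβ : LabGraph.IsMultFn ends β)
    (m : ℕ) (f : Fin (m + 1) → V) (e : Fin m → E) (hC : LabGraph.IsChain ends f e)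
    (hconn : ∀ i, LabGraph.IsConnecting ends (e i)) (hβm : ∀ i, β (f i) = m)
    (hα : ∀ i, LabGraph.mfMatrix ends β (f i) (f i) = -2) :
    ∃ φ : LabGraph.CompGrp (DualGr.ctrEnds ends (univ.image e)) (LabGraph.ctrFn ends (univ.image e) β) →+
        LabGraph.CompGrp ends β,
      Function.Surjective φ ∧
      ∀ (x : LinearMap.ker (LabGraph.betaHom (LabGraph.ctrFn ends (univ.image e) β)))
        (y : LinearMap.ker (LabGraph.betaHom β)),
        (y : V → ℤ) = LabGraph.liftAt ends (univ.image e) (f 0) (x : DualGr.CtrVert ends (univ.image e) → ℤ) →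
        φ (Submodule.Quotient.mk x) = Submodule.Quotient.mk y := by
  have hcc := Groth.Agent.LabChain.classConst_chain hC (β := β) (fun i j => by rw [hβm, hβm])
  let L : LinearMap.ker (LabGraph.betaHom (LabGraph.ctrFn ends (Finset.univ.image e) β)) →ₗ[ℤ]
      LinearMap.ker (LabGraph.betaHom β) :=
    { toFun := fun x => ⟨LabGraph.liftAt ends (Finset.univ.image e) (f 0) x.1, by
        rw [Groth.Agent.LabChain.mem_ker_betaHom, Groth.Agent.LabChain.betaHom_lift hC hcc]
        exact (Groth.Agent.LabChain.mem_ker_betaHom _ _).1 x.2⟩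
      map_add' := fun x y => by
        ext v; simp only [Submodule.coe_add, Pi.add_apply, LabGraph.liftAt]; split_ifs <;> simp
      map_smul' := fun r x => by
        ext v; simp only [SetLike.val_smul, Pi.smul_apply, LabGraph.liftAt, RingHom.id_apply]
        split_ifs <;> simp }
  refine ⟨(Submodule.mapQ _ _ L ?_).toAddMonoidHom, ?_, ?_⟩
  · rintro x ⟨h, hh⟩
    rw [Submodule.mem_comap, Submodule.mem_comap]
    show LabGraph.liftAt ends (Finset.univ.image e) (f 0) x.1 ∈ _
    rw [Submodule.coe_subtype] at hh
    rw [← hh, Matrix.mulVecLin_apply]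
    exact Groth.Agent.LabChain.lift_range hβ hC hconn hβm hα h
  · intro q
    obtain ⟨z, rfl⟩ := Submodule.Quotient.mk_surjective _ q
    obtain ⟨Y, hY⟩ := Groth.Agent.LabChain.exists_normal_form hβ hC hconn hβm hα z.1
    set w := z.1 + (LabGraph.mfMatrix ends β).mulVec Y with hw
    set x : DualGr.CtrVert ends (Finset.univ.image e) → ℤ :=
      DualGr.pushV ends (Finset.univ.image e) w with hxd
    have hlift : LabGraph.liftAt ends (Finset.univ.image e) (f 0) x = w := by
      funext v
      rw [Groth.Agent.LabChain.liftAt_mk hC]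
      split_ifs with hv
      · obtain ⟨i, hi, rfl⟩ := hv
        exact (hY i hi).symm
      · show ∑ u ∈ Finset.univ.filter (fun u => DualGr.ctrMk ends _ u = DualGr.ctrMk ends _ v), w u = _
        refine Finset.sum_eq_single v ?_ (by simp)
        intro u hu huv
        rcases (Groth.Agent.LabChain.ctrMk_eq_iff hC).1 (Finset.mem_filter.1 hu).2 with h | ⟨⟨i, rfl⟩, ⟨j, rfl⟩⟩
        · exact absurd h huv
        · refine hY i fun hi => hv ⟨j, fun hj => huv (by rw [hi, hj]), rfl⟩
    have hx : x ∈ LinearMap.ker (LabGraph.betaHom (LabGraph.ctrFn ends (Finset.univ.image e) β)) := by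
      rw [Groth.Agent.LabChain.mem_ker_betaHom, ← Groth.Agent.LabChain.betaHom_lift hC hcc, hlift]
      simp only [hw, Pi.add_apply, mul_add, Finset.sum_add_distrib,
        Groth.Agent.LabChain.sum_beta_mulVec hβ, add_zero]
      exact (Groth.Agent.LabChain.mem_ker_betaHom _ _).1 z.2
    refine ⟨Submodule.Quotient.mk ⟨x, hx⟩, ?_⟩
    rw [LinearMap.toAddMonoidHom_coe, Submodule.mapQ_apply, Submodule.Quotient.eq]
    refine ⟨Y, ?_⟩
    simp only [Matrix.mulVecLin_apply, Submodule.coe_subtype, AddSubgroupClass.coe_sub]
    show _ = LabGraph.liftAt ends (Finset.univ.image e) (f 0) x - z.1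
    rw [hlift, hw, add_sub_cancel_left]
  · intro x y hy
    rw [LinearMap.toAddMonoidHom_coe, Submodule.mapQ_apply]
    exact congrArg _ (Subtype.ext hy.symm)

end Groth.Agent.S14801
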