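import Groth.Statements.S14803
import Groth.Agent.LabG84.CompOrder
-- import your own Groth.Agent.* helpers here

set_option autoImplicit false
universe u
open Finset
open LabGraph

namespace Groth.Agent.S14803

open Classical in
/-- Let (G, β) be a connected finite multigraph with a multiplicity function, α its matrix (α_{vw} =
#edges(v, w) for v ≠ w, Σ_w β(w) α_{vw} = 0) and Φ(G) = ker β / im α its component group; let m be
the gcd of all the values β(v). Then Φ(G) is finite of order m² · Σ_T Π_v β(v)^{#N_T(v) - 2}, where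
T runs over the spanning trees of G and N_T(v) is the set of neighbours of v in T. (The published
statement gives this order for the Néron component group of a curve's Jacobian, G being the weighted
dual graph of a proper regular model and β its component multiplicities; this row states the
identity for every connected pair (G, β) with a positive multiplicity function.) -/
theorem result {V E : Type u} [Fintype V] [Fintype E] [DecidableEq V] [DecidableEq E]
    (ends : E → V × V) (β : V → ℤ) (hβ : LabGraph.IsMultFn ends β) (hG : LabGraph.Connected ends) :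
    (Nat.card (LabGraph.CompGrp ends β) : ℚ) =
      ((univ.gcd β : ℤ) : ℚ) ^ 2 *
        ∑ T ∈ univ.powerset.filter (fun T : Finset E => LabGraph.IsSpanningTree ends T),
          ∏ v : V, ((β v : ℚ) ^ ((LabGraph.nbrCount ends T v : ℤ) - 2)) := by
  have hne : Nonempty V := hG.1
  have r : V := hne.some
  have hpos : ∀ v, 0 < β v := fun v => (hβ v).1
  obtain ⟨β₀, u, hd, hdβ, hβ₀, hu⟩ := Groth.Agent.LabG84.CompOrder.gcd_witness β hpos
  set d := Finset.univ.gcd β with hdd
  set A := -LabGraph.mfMatrix ends β with hA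
  have hsymm : A.IsSymm := Matrix.IsSymm.ext fun i j => by
    simp only [hA, Matrix.neg_apply]; rw [Groth.Agent.LabChain.mfMatrix_comm]
  have hker : A.mulVec β₀ = 0 := by
    funext v
    have := Groth.Agent.LabChain.mulVec_beta hβ v
    have hb : β = d • β₀ := funext fun v => by simpa using hdβ v
    rw [show (LabGraph.mfMatrix ends β).mulVec β = (LabGraph.mfMatrix ends β).mulVec (d • β₀) by rw [← hb],
      Matrix.mulVec_smul, Pi.smul_apply, smul_eq_mul, mul_eq_zero] at this
    rw [hA, Matrix.neg_mulVec, Pi.neg_apply, this.resolve_left hd.ne', neg_zero]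
    rfl
  set Q : ℤ := (A + Matrix.vecMulVec u u).det with hQ
  set S : ℤ := ∑ T ∈ Finset.univ.powerset.filter (fun T : Finset E => LabGraph.IsSpanningTree ends T),
      ∏ v, β v ^ LabGraph.nbrCount ends T v with hS
  set R : ℤ := ∏ v ∈ Finset.univ.erase r, β v with hR
  have hmain : R ^ 2 * (β₀ r ^ 2 * Q) = S := by
    rw [hQ, Groth.Agent.LabG84.CompOrder.det_bordered A β₀ u hsymm hker hu r, hR, hA,
      Groth.Agent.LabG84.CompOrder.minor_eq_lap hβ r, Groth.Agent.LabG84.TreeMatrix.det_lap, hS]
    refine Finset.sum_congr rfl fun T hT => ?_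
    have hac := ((Groth.Agent.LabG84.TreeMatrix.isSpanningTree_iff ends ⟨r⟩ T).1 (Finset.mem_filter.1 hT).2).1
    simp only [← Groth.Agent.LabG84.TreeMatrix.endCount_eq_nbrCount ends T hac, LabGraph.endCount]
    simp only [← Finset.prod_pow_eq_pow_sum]
    rw [Finset.prod_comm]
    refine Finset.prod_congr rfl fun e _ => ?_
    simp only [pow_add, Finset.prod_mul_distrib, pow_ite, pow_one, pow_zero, Finset.prod_ite_eq, Finset.mem_univ, if_true]
  have hSpos : 0 < S := by
    obtain ⟨T, -, hac, hconn⟩ := Groth.Agent.LabG84.Cycles.exists_spanning hG ∅ (fun C hC hc => by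
      rw [Finset.subset_empty.1 hC] at hc; exact hc.1.ne_empty rfl)
    refine Finset.sum_pos (fun T _ => Finset.prod_pos fun v _ => pow_pos (hpos v) _) ⟨T, ?_⟩
    exact Finset.mem_filter.2 ⟨Finset.mem_powerset.2 (Finset.subset_univ _),
      (Groth.Agent.LabG84.TreeMatrix.isSpanningTree_iff ends ⟨r⟩ T).2 ⟨hac, hconn⟩⟩
  have hRpos : 0 < R := Finset.prod_pos fun v _ => hpos v
  have hQpos : 0 < Q := by
    have h2 : 0 < R ^ 2 * β₀ r ^ 2 := mul_pos (pow_pos hRpos 2) (pow_pos (hβ₀ r) 2)
    rw [← mul_assoc] at hmain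
    exact (pos_iff_pos_of_mul_pos (hmain ▸ hSpos)).1 h2
  rw [Groth.Agent.LabG84.CompOrder.card_compGrp β₀ u d hd.ne' hβ hdβ hu hQpos.ne', ← hA, ← hQ,
    Nat.cast_natAbs, Int.cast_abs, abs_of_pos (by exact_mod_cast hQpos)]
  have hterm : ∀ T : Finset E, ∏ v : V, ((β v : ℚ) ^ ((LabGraph.nbrCount ends T v : ℤ) - 2)) =
      ((∏ v, β v ^ LabGraph.nbrCount ends T v : ℤ) : ℚ) / ((∏ v, β v : ℤ) : ℚ) ^ 2 := by
    intro T
    push_cast
    rw [← Finset.prod_pow, ← Finset.prod_div_distrib]
    refine Finset.prod_congr rfl fun v _ => ?_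
    rw [zpow_sub₀ (by exact_mod_cast (hpos v).ne'), zpow_natCast, zpow_ofNat]
  rw [Finset.sum_congr rfl fun T _ => hterm T, ← Finset.sum_div, ← Int.cast_sum, ← hS,
    ← Finset.mul_prod_erase Finset.univ β (Finset.mem_univ r), ← hR, hdβ r, ← hmain]
  have h1 : (d : ℚ) ≠ 0 := by exact_mod_cast hd.ne'
  have h2 : (R : ℚ) ≠ 0 := by exact_mod_cast hRpos.ne'
  have h3 : (β₀ r : ℚ) ≠ 0 := by exact_mod_cast (hβ₀ r).ne'
  push_cast
  field_simp

end Groth.Agent.S14803
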