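import Groth.Statements.S14804
import Groth.Agent.LabG84.Cycles
-- import your own Groth.Agent.* helpers here

set_option autoImplicit false
universe u
open Finset
open LabGraph

namespace Groth.Agent.S14804

/-- In a connected finite multigraph G, a vertex v belongs to some cycle of G (here: v is an endpoint of
an edge of some circuit, a circuit being a minimal nonempty edge set meeting every vertex in an even
number of edge-ends, which includes loops and pairs of parallel edges) if and only if G has a
spanning tree T such that some edge outside T has v as an endpoint. (The published statement is for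
an arbitrary multigraph; when G is disconnected it has no spanning tree while a vertex may lie on a
cycle, so G is taken connected here, the case of dual graphs for which it is used.) -/
theorem result
    {V E : Type u} [Fintype V] [Fintype E] [DecidableEq V] [DecidableEq E]
    (ends : E → V × V) (hG : LabGraph.Connected ends) (v : V) :
    (∃ C : Finset E, LabGraph.IsCircuit ends C ∧ LabGraph.endCount ends C v ≠ 0) ↔
      ∃ T : Finset E, LabGraph.IsSpanningTree ends T ∧
        ∃ e : E, e ∉ T ∧ ((ends e).1 = v ∨ (ends e).2 = v) := by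
  classical
  constructor
  · rintro ⟨C, hC, hv⟩
    obtain ⟨e, he, hev⟩ : ∃ e ∈ C, (ends e).1 = v ∨ (ends e).2 = v := by
      by_contra hcon
      push Not at hcon
      exact hv (Finset.sum_eq_zero fun e he => by simp [hcon e he])
    have hac : Groth.Agent.LabG84.Cycles.Acyclic ends (C.erase e) := by
      intro C' hC' hc'
      obtain ⟨w, hw⟩ := hC.2.2 C' (Finset.ssubset_of_subset_of_ssubset hC' (Finset.erase_ssubset he)) hc'.1
      exact hw (hc'.2.1 w)
    obtain ⟨T, hT1, hT2, hT3⟩ := Groth.Agent.LabG84.Cycles.exists_spanning hG _ hac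
    have heT : e ∉ T := fun heT => hT2 C (fun x hx => by
      by_cases h : x = e
      · exact h ▸ heT
      · exact hT1 (Finset.mem_erase.2 ⟨h, hx⟩)) hC
    refine ⟨T, ⟨⟨hG.1, fun a b => Relation.ReflTransGen.mono ?_ _ _ (hT3 a b)⟩, fun C' hC' => ?_⟩, e, heT, hev⟩
    · rintro x y ⟨f, hf, h⟩
      exact ⟨⟨f, hf⟩, h⟩
    · refine hT2 (C'.map ⟨Subtype.val, Subtype.val_injective⟩) (fun x hx => ?_) ⟨hC'.1.map, ?_, ?_⟩
      · obtain ⟨y, -, rfl⟩ := Finset.mem_map.1 hx
        exact y.2
      · intro w
        simpa [LabGraph.endCount, Finset.sum_map] using hC'.2.1 w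
      · intro D hD hDne
        have hsub : ∀ x ∈ D, x ∈ T := fun x hx => by
          obtain ⟨y, -, rfl⟩ := Finset.mem_map.1 (hD.subset hx)
          exact y.2
        have hDeq : (D.subtype (· ∈ T)).map ⟨Subtype.val, Subtype.val_injective⟩ = D :=
          Finset.subtype_map_of_mem hsub
        obtain ⟨w, hw⟩ := hC'.2.2 (D.subtype (· ∈ T)) (by
          refine (Finset.map_ssubset_map (f := ⟨Subtype.val, Subtype.val_injective⟩)).1 ?_
          rw [hDeq]; exact hD) (by rw [← Finset.map_nonempty, hDeq]; exact hDne)
        refine ⟨w, fun hh => hw ?_⟩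
        rw [← hDeq] at hh
        simpa [LabGraph.endCount, Finset.sum_map] using hh
  · rintro ⟨T, ⟨hTc, hTf⟩, e, heT, hev⟩
    have hac : Groth.Agent.LabG84.Cycles.Acyclic ends T := by
      intro C hC hc
      have hCeq : (C.subtype (· ∈ T)).map ⟨Subtype.val, Subtype.val_injective⟩ = C :=
        Finset.subtype_map_of_mem fun x hx => hC hx
      refine hTf (C.subtype (· ∈ T)) ⟨by rw [← Finset.map_nonempty, hCeq]; exact hc.1, ?_, ?_⟩
      · intro w
        have := hc.2.1 w
        rw [← hCeq] at this
        simpa [LabGraph.endCount, Finset.sum_map] using this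
      · intro D hD hDne
        obtain ⟨w, hw⟩ := hc.2.2 (D.map ⟨Subtype.val, Subtype.val_injective⟩)
          (by rw [← hCeq]; exact Finset.map_ssubset_map.2 hD) hDne.map
        exact ⟨w, fun hh => hw (by simpa [LabGraph.endCount, Finset.sum_map] using hh)⟩
    have hr : Relation.ReflTransGen (Groth.Agent.LabG84.Cycles.AdjIn ends T) (ends e).1 (ends e).2 := by
      refine Relation.ReflTransGen.mono ?_ _ _ (hTc.2 (ends e).1 (ends e).2)
      rintro x y ⟨⟨f, hf⟩, h⟩
      exact ⟨f, hf, h⟩
    obtain ⟨C, -, hC, heC⟩ := Groth.Agent.LabG84.Cycles.exists_circuit_insert hac heT hr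
    refine ⟨C, hC, fun h0 => ?_⟩
    have := Finset.sum_eq_zero_iff.1 h0 e heC
    rcases hev with h | h <;> simp [h] at this

end Groth.Agent.S14804
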