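import Groth.Statements.S14806
import Groth.Agent.CompLatLib.Index
-- import your own Groth.Agent.* helpers here

set_option autoImplicit false
open Finset
open CompLat

namespace Groth.Agent.S14806

/-- Let n ≥ 1, let D, D' : ℤⁿ → ℤⁿ be given by diagonal matrices with nonzero diagonal entries, A : ℤⁿ →
ℤⁿ an integer matrix of rank n - 1, S : ℤⁿ → ℤ the sum of the coordinates and Δ : ℤ → ℤⁿ the
diagonal embedding, with S D A = 0 and A D' Δ = 0; let d, d' be the greatest common divisors of the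
diagonal entries of D and of D' (dℤ = im(S D), d'ℤ = im(S D')). Then #(ker(S D)/im A) · |det D| ·
|det D'| = d d' · #(ker S/im(D A D')). -/
theorem result (n : ℕ) (hn : 0 < n) (δ δ' : Fin n → ℤ) (hδ : ∀ i, δ i ≠ 0) (hδ' : ∀ i, δ' i ≠ 0)
    (A : Matrix (Fin n) (Fin n) ℤ) (hA : A.rank = n - 1)
    (hSDA : (∑ i : Fin n, (LinearMap.proj i : (Fin n → ℤ) →ₗ[ℤ] ℤ)) ∘ₗ
        (Matrix.mulVecLin (Matrix.diagonal δ)) ∘ₗ (Matrix.mulVecLin A) = 0)
    (hADΔ : (Matrix.mulVecLin A) ∘ₗ (Matrix.mulVecLin (Matrix.diagonal δ')) ∘ₗ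
        (LinearMap.pi fun _ : Fin n => (LinearMap.id : ℤ →ₗ[ℤ] ℤ)) = 0) :
    (Nat.card (LinearMap.ker ((∑ i : Fin n, (LinearMap.proj i : (Fin n → ℤ) →ₗ[ℤ] ℤ)) ∘ₗ (Matrix.mulVecLin (Matrix.diagonal δ))) ⧸
          (LinearMap.range (Matrix.mulVecLin A)).comap (LinearMap.ker ((∑ i : Fin n, (LinearMap.proj i : (Fin n → ℤ) →ₗ[ℤ] ℤ)) ∘ₗ (Matrix.mulVecLin (Matrix.diagonal δ)))).subtype) : ℤ) * |∏ i, δ i| * |∏ i, δ' i| =
      (univ.gcd δ) * (univ.gcd δ') * Nat.card (LinearMap.ker (∑ i : Fin n, (LinearMap.proj i : (Fin n → ℤ) →ₗ[ℤ] ℤ)) ⧸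
          (LinearMap.range ((Matrix.mulVecLin (Matrix.diagonal δ)) ∘ₗ (Matrix.mulVecLin A) ∘ₗ (Matrix.mulVecLin (Matrix.diagonal δ')))).comap (LinearMap.ker (∑ i : Fin n, (LinearMap.proj i : (Fin n → ℤ) →ₗ[ℤ] ℤ))).subtype) := by
  have hD : (Matrix.mulVecLin (Matrix.diagonal δ)).toAddMonoidHom = Groth.Agent.CompLatLib.dmul δ :=
    AddMonoidHom.ext fun x => funext fun i => Matrix.mulVec_diagonal δ x i
  have hS : (∑ i : Fin n, (LinearMap.proj i : (Fin n → ℤ) →ₗ[ℤ] ℤ)).toAddMonoidHom = Groth.Agent.CompLatLib.total :=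
    AddMonoidHom.ext fun x => by simp [Groth.Agent.CompLatLib.total]
  rw [Groth.Agent.CompLatLib.card_quotient_eq_relIndex, Groth.Agent.CompLatLib.card_quotient_eq_relIndex]
  set KS := (LinearMap.ker ((∑ i : Fin n, (LinearMap.proj i : (Fin n → ℤ) →ₗ[ℤ] ℤ)) ∘ₗ (Matrix.mulVecLin (Matrix.diagonal δ)))).toAddSubgroup with hKS
  have hK : KS = (Groth.Agent.CompLatLib.total.comp (Groth.Agent.CompLatLib.dmul δ)).ker := by
    rw [← hD, ← hS]; rfl
  have hL : (LinearMap.ker (∑ i : Fin n, (LinearMap.proj i : (Fin n → ℤ) →ₗ[ℤ] ℤ))).toAddSubgroup =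
      Groth.Agent.CompLatLib.total.ker := by
    rw [← hS]; rfl
  have hA1 : (LinearMap.range (Matrix.mulVecLin A)).toAddSubgroup = A.mulVecLin.toAddMonoidHom.range := rfl
  have hAK : A.mulVecLin.toAddMonoidHom.range ≤ KS := by
    rintro _ ⟨x, rfl⟩
    exact LinearMap.congr_fun hSDA x
  have hDA : (Groth.Agent.CompLatLib.dmul δ).comp A.mulVecLin.toAddMonoidHom =
      ((Matrix.mulVecLin (Matrix.diagonal δ)) ∘ₗ (Matrix.mulVecLin A)).toAddMonoidHom := by rw [← hD]; rfl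
  have hKL : KS.map (Groth.Agent.CompLatLib.dmul δ) ≤ Groth.Agent.CompLatLib.total.ker := by
    rw [hK]; rintro _ ⟨x, hx, rfl⟩; exact hx
  have hDAr : ((Groth.Agent.CompLatLib.dmul δ).comp A.mulVecLin.toAddMonoidHom).range =
      A.mulVecLin.toAddMonoidHom.range.map (Groth.Agent.CompLatLib.dmul δ) := AddMonoidHom.range_comp _ _
  have e1 := Groth.Agent.CompLatLib.relIndex_mul_gcd δ hn
  rw [← hK] at e1
  have e2 := AddSubgroup.relIndex_mul_relIndex _ _ _ (AddSubgroup.map_mono (f := Groth.Agent.CompLatLib.dmul δ) hAK) hKL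
  rw [AddSubgroup.relIndex_map_map_of_injective _ _ (Groth.Agent.CompLatLib.dmul_injective δ hδ), ← hDAr] at e2
  have hD' : (Matrix.mulVecLin (Matrix.diagonal δ')).toAddMonoidHom = Groth.Agent.CompLatLib.dmul δ' :=
    AddMonoidHom.ext fun x => funext fun i => Matrix.mulVec_diagonal δ' x i
  have hR : (LinearMap.range ((Matrix.mulVecLin (Matrix.diagonal δ)) ∘ₗ (Matrix.mulVecLin A) ∘ₗ (Matrix.mulVecLin (Matrix.diagonal δ')))).toAddSubgroup =
      (((Groth.Agent.CompLatLib.dmul δ).comp A.mulVecLin.toAddMonoidHom).comp (Groth.Agent.CompLatLib.dmul δ')).range := by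
    rw [← hD', hDA]; rfl
  have hker : A.mulVecLin δ' = 0 := by
    have := LinearMap.congr_fun hADΔ 1
    have h1 : (Matrix.mulVecLin (Matrix.diagonal δ')) ((LinearMap.pi fun _ : Fin n => (LinearMap.id : ℤ →ₗ[ℤ] ℤ)) 1) = δ' :=
      funext fun i => by simp [Matrix.mulVec_diagonal]
    rw [LinearMap.comp_apply, LinearMap.comp_apply, h1, LinearMap.zero_apply] at this
    exact this
  have e3 := Groth.Agent.CompLatLib.relIndex_range_comp δ hn hA hδ hδ' hker
  have hle : ((Groth.Agent.CompLatLib.dmul δ).comp A.mulVecLin.toAddMonoidHom).range ≤ Groth.Agent.CompLatLib.total.ker := by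
    rw [hDAr]; exact (AddSubgroup.map_mono hAK).trans hKL
  have e4 := AddSubgroup.relIndex_mul_relIndex _ _ _ (show (((Groth.Agent.CompLatLib.dmul δ).comp A.mulVecLin.toAddMonoidHom).comp (Groth.Agent.CompLatLib.dmul δ')).range ≤ ((Groth.Agent.CompLatLib.dmul δ).comp A.mulVecLin.toAddMonoidHom).range by rintro _ ⟨x, rfl⟩; exact ⟨_, rfl⟩) hle
  rw [hL, hR, hA1, ← e4, ← e2, ← e1, ← e3, Nat.cast_mul, Nat.cast_mul]
  ring

end Groth.Agent.S14806
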