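import Groth.Statements.S14807
import Mathlib
-- import your own Groth.Agent.* helpers here

set_option autoImplicit false
universe u
open CAlg

namespace Groth.Agent.S14807

/-- Let G be a finite abelian group, written additively, and ℓ a prime number. Every sequence (g_n)_{n ≥
0} of elements of G with ℓ^n · g_n = 0 and ℓ · g_{n+1} = g_n for all n is identically zero; in other
words the inverse limit of the subgroups of ℓ^n-torsion elements, with transition maps
multiplication by ℓ, vanishes. -/
theorem result (G : Type u) [AddCommGroup G] [Finite G]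
    (ℓ : ℕ) (hℓ : ℓ.Prime) (g : ℕ → G) (htor : ∀ n : ℕ, ℓ ^ n • g n = 0)
    (hcomp : ∀ n : ℕ, ℓ • g (n + 1) = g n) (n : ℕ) : g n = 0 := by
  have hit : ∀ k n, ℓ ^ k • g (n + k) = g n := by
    intro k
    induction k with
    | zero => simp
    | succ k ih => intro n; rw [pow_succ, mul_smul, ← add_assoc, hcomp, ih]
  obtain ⟨i, j, hij, he⟩ := Finite.exists_ne_map_eq_of_infinite (fun k => g (n + k))
  wlog hlt : i < j generalizing i j
  · exact this j i hij.symm he.symm (lt_of_le_of_ne (not_lt.mp hlt) hij.symm)
  obtain ⟨d, hd, rfl⟩ : ∃ d, 0 < d ∧ j = i + d := ⟨j - i, by omega, by omega⟩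
  set x := g (n + i) with hx
  have hd1 : ℓ ^ d • x = x := by
    conv_lhs => rw [show x = g (n + (i + d)) from he]
    rw [← add_assoc, hit]
  have hk : ∀ k, ℓ ^ (k * d) • x = x := by
    intro k
    induction k with
    | zero => simp
    | succ k ih => rw [Nat.succ_mul, pow_add, mul_smul, hd1, ih]
  have hx0 : x = 0 := by
    rw [← hk (n + i)]
    obtain ⟨r, hr⟩ := Nat.exists_eq_add_of_le (Nat.le_mul_of_pos_right (n + i) hd)
    rw [hr, pow_add, mul_comm, mul_smul, hx, htor, smul_zero]
  rw [← hit i n, ← hx, hx0, smul_zero]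

end Groth.Agent.S14807
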