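import Groth.Statements.S14809
import Groth.Agent.Cube.SecCosec
import Groth.Agent.GrpScheme.PowPullback
import Groth.Agent.PicLaw.Swap
-- import your own Groth.Agent.* helpers here

set_option autoImplicit false
universe u
open CategoryTheory CategoryTheory.Limits AlgebraicGeometry
open PicF

namespace Groth.Agent.S14809

/-- Let X be an integral scheme such that Γ(X, O_X) is a field and L an invertible O_X-module with a
nonzero global section (a nonzero morphism O_X → L). If some tensor power L^{⊗d} with d ≥ 1 is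
isomorphic to O_X, then L itself is isomorphic to O_X. -/
theorem result (X : Scheme.{u}) [IsIntegral X]
    (hfield : IsField (Γ(X, ⊤) : Type u)) (L : X.Modules) (hL : PicF.IsInvertible L)
    (s : Coh.structureModule X ⟶ L) (hs : s ≠ 0) (d : ℕ) (hd : 0 < d)
    (htriv : Nonempty (CohB1.tensorPow L d ≅ Coh.structureModule X)) :
    Nonempty (L ≅ Coh.structureModule X) := by
  open Groth.Agent Groth.Agent.QCoh Groth.Agent.Props.GenLocus Groth.Agent.Props.GenTensor AlgebraicGeometry CategoryTheory in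
  open scoped Groth.Agent.PicLaw in
  exact (by
    obtain ⟨d, rfl⟩ : ∃ n, d = n + 1 := ⟨d - 1, by omega⟩
    have hsec : ∀ n, ∃ σ : Γ(CohB1.tensorPow L n, ⊤), σ ≠ 0 := by
      intro n
      induction n with
      | zero =>
        have : Nonempty (⊤ : X.Opens) := ⟨⟨Classical.arbitrary X, trivial⟩⟩
        exact ⟨(1 : Γ(X, ⊤)), one_ne_zero (α := Γ(X, ⊤))⟩
      | succ n ih =>
        obtain ⟨σ, hσ⟩ := ih
        obtain ⟨hn, -⟩ := GrpScheme.PowPullback.cls_tensorPow hL n
        refine ⟨tmul σ (sec s ⊤), fun h => ?_⟩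
        obtain ⟨U, e, hxU, he⟩ := exists_isGen hn (Classical.arbitrary X)
        obtain ⟨U', e', hxU', he'⟩ := exists_isGen hL (Classical.arbitrary X)
        have : Nonempty (U ⊓ U' : X.Opens) := ⟨⟨_, hxU, hxU'⟩⟩
        have hg := he.restrict (inf_le_left : U ⊓ U' ≤ U)
        have hg' := he'.restrict (inf_le_right : U ⊓ U' ≤ U')
        obtain ⟨a, ha, -⟩ := hg.exists_eq le_rfl (res _ (le_top : U ⊓ U' ≤ ⊤) σ)
        obtain ⟨b, hb, -⟩ := hg'.exists_eq le_rfl (res L (le_top : U ⊓ U' ≤ ⊤) (sec s ⊤))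
        rw [res_self] at ha hb
        have h1 : res _ (le_top : U ⊓ U' ≤ ⊤) (tmul σ (sec s ⊤)) = 0 := (congrArg _ h).trans (map_zero _)
        rw [res_tmul, ha, hb, tmul_smul_left, tmul_smul_right, smul_smul] at h1
        have h2 : a * b = 0 := (isGen_tmul hg hg').injective le_rfl (by rw [res_self]; exact h1.trans (zero_smul _ _).symm)
        rcases mul_eq_zero.mp h2 with h' | h'
        · exact hσ (Cube.Seesaw.eq_zero_of_res_eq_zero hn σ (V := U ⊓ U') (by rw [ha, h', zero_smul]))
        · exact Cube.SecCosec.sec_ne_zero hs (Cube.Seesaw.eq_zero_of_res_eq_zero hL _ (V := U ⊓ U') (by rw [hb, h', zero_smul]))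
    obtain ⟨σ, hσ⟩ := hsec d
    obtain ⟨hd', -⟩ := GrpScheme.PowPullback.cls_tensorPow hL d
    exact Cube.Seesaw.iso_of_sections hfield hL hd' ⟨PicLaw.swapIso _ _ ≪≫ htriv.some⟩
      ⟨⟨sec s ⊤, 0, Cube.SecCosec.sec_ne_zero hs⟩⟩ ⟨⟨σ, 0, hσ⟩⟩)

end Groth.Agent.S14809
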