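import Groth.Statements.S1481
import Mathlib.AlgebraicGeometry.ValuativeCriterion
import Mathlib.AlgebraicGeometry.Fiber
-- import your own Groth.Agent.* helpers here

set_option autoImplicit false
universe u
open FlatMor

namespace Groth.Agent.S1481

open AlgebraicGeometry

/-- A point specializing to every point is the generic point of the only component. -/
theorem exists_component_generic {α : Type u} [TopologicalSpace α] (a : α) (h : ∀ b, a ⤳ b) :
    ∃ C ∈ irreducibleComponents α, IsGenericPoint a C := by
  refine ⟨Set.univ, ?_, Set.eq_univ_of_forall fun b ↦ (h b).mem_closure⟩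
  have hirr : IsIrreducible (Set.univ : Set α) := by
    rw [← Set.eq_univ_of_forall fun b ↦ (h b).mem_closure]
    exact isIrreducible_singleton.closure
  exact ⟨hirr, fun _ _ _ ↦ Set.subset_univ _⟩

/-- Every point of a closed subset of a sober space generalizes to the generic point of one of its
components. -/
theorem exists_generic_specializes {α : Type u} [TopologicalSpace α] [QuasiSober α] {W : Set α}
    (hW : IsClosed W) (b : α) (hb : b ∈ W) :
    ∃ (z : α) (hz : z ∈ W), z ⤳ b ∧ ∃ C ∈ irreducibleComponents W, IsGenericPoint (⟨z, hz⟩ : W) C := by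
  have := hW.isClosedEmbedding_subtypeVal.quasiSober
  obtain ⟨C, hC, hbC⟩ : ∃ C ∈ irreducibleComponents W, (⟨b, hb⟩ : W) ∈ C :=
    ⟨irreducibleComponent _, irreducibleComponent_mem_irreducibleComponents _,
      mem_irreducibleComponent⟩
  obtain ⟨z, hz⟩ := QuasiSober.sober hC.1 (isClosed_of_mem_irreducibleComponents C hC)
  exact ⟨z.1, z.2, subtype_specializes_iff z _ |>.mp (hz.specializes hbC), C, hC, hz⟩

/-- The generic point of a component has no proper generalization. -/
theorem eq_of_specializes_generic {α : Type u} [TopologicalSpace α] [T0Space α] {a b : α}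
    {C : Set α} (hC : C ∈ irreducibleComponents α) (ha : IsGenericPoint a C) (h : b ⤳ a) :
    b = a := by
  have h1 : C ⊆ closure {b} := by
    rw [← ha]
    exact closure_minimal (Set.singleton_subset_iff.mpr h.mem_closure) isClosed_closure
  have h2 : closure {b} ⊆ C := hC.2 isIrreducible_singleton.closure h1
  exact (h.antisymm (ha.specializes (h2 (subset_closure rfl)))).eq

theorem comap_bot_of_injective {A B : Type u} [CommRing A] [IsDomain A] [CommRing B] [IsDomain B]
    (φ : A →+* B) (hφ : Function.Injective φ) :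
    PrimeSpectrum.comap φ (⊥ : PrimeSpectrum B) = ⊥ := by
  ext1
  change Ideal.comap φ ⊥ = ⊥
  exact Ideal.comap_bot_of_injective φ hφ

open CategoryTheory CategoryTheory.Limits in
/-- The point on the generic fibre specializes to all points of the fibre over the closure. -/
theorem specializes_generic_fibre {X S B K : Scheme.{u}} (f : X ⟶ S) (g : B ⟶ S) (i : K ⟶ B)
    [IsPreimmersion (i ≫ g)] [Subsingleton K] (z w : ↑(pullback f g)) (k : K)
    (hz : pullback.snd f g z = i k) (hw : pullback.snd f g w = i k)
    (h : pullback.fst f g z ⤳ pullback.fst f g w) : z ⤳ w := by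
  let a : pullback f (i ≫ g) ⟶ pullback f g :=
    pullback.lift (pullback.fst f (i ≫ g)) (pullback.snd f (i ≫ g) ≫ i)
      (by rw [pullback.condition, Category.assoc])
  have sq : IsPullback a (pullback.snd f (i ≫ g)) (pullback.snd f g) i := by
    refine IsPullback.of_right ?_ (pullback.lift_snd _ _ _) (IsPullback.of_hasPullback f g)
    rw [pullback.lift_fst]
    exact IsPullback.of_hasPullback f (i ≫ g)
  have hlift : ∀ v, pullback.snd f g v = i k → ∃ v', a v' = v := by
    intro v hv
    obtain ⟨v', hv', -⟩ := Scheme.Pullback.exists_preimage_pullback v k hv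
    refine ⟨sq.isoPullback.inv v', ?_⟩
    rw [← Scheme.Hom.comp_apply, sq.isoPullback_inv_fst]
    exact hv'
  obtain ⟨z', hz'⟩ := hlift z hz
  obtain ⟨w', hw'⟩ := hlift w hw
  have : z' ⤳ w' := by
    rw [← (pullback.fst f (i ≫ g)).isEmbedding.isInducing.specializes_iff,
      ← pullback.lift_fst (pullback.fst f (i ≫ g)) (pullback.snd f (i ≫ g) ≫ i)
        (by rw [pullback.condition, Category.assoc]), Scheme.Hom.comp_apply, Scheme.Hom.comp_apply]
    change pullback.fst f g (a z') ⤳ pullback.fst f g (a w')
    rw [hz', hw']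
    exact h
  have := this.map a.continuous
  rwa [hz', hw'] at this

open AlgebraicGeometry CategoryTheory Limits in
/-- Let f : X → S, y a point of X with image t, Y the closure of y, s a point of S and x a point of Y
over s which is generic in an irreducible component of the fibre of Y over s (fibres as subspaces).
Then there are a valuation ring R and a morphism g : Spec R → S sending the generic point to t and
the closed point to s, such that, writing X' for the base change with projections g' : X' → X and f'
: X' → Spec R, there is a point y' of X' over the generic point with g' y' = y which is generic in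
an irreducible component of the generic fibre of g'⁻¹(Y), and a point x' in the closure of y' over
the closed point with g' x' = x which is generic in an irreducible component of the special fibre of
the closure of y'. -/
theorem result {X S : Scheme.{u}} (f : X ⟶ S) (y : X) (s : S) (x : X)
    (hx : x ∈ closure ({y} : Set ↑X)) (hxs : f x = s)
    (hgen : ∃ C ∈ irreducibleComponents ↑(closure ({y} : Set ↑X) ∩ f ⁻¹' {s}), IsGenericPoint (⟨x, hx, hxs⟩ : ↑(closure ({y} : Set ↑X) ∩ f ⁻¹' {s})) C) :
    ∃ (R : Type u) (_ : CommRing R) (_ : IsDomain R) (_ : ValuationRing R) (g : Spec (CommRingCat.of R) ⟶ S),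
      g (⊥ : PrimeSpectrum R) = f y ∧ g (IsLocalRing.closedPoint R) = s ∧
      ∃ (y' : ↑(pullback f g)) (hy't : pullback.snd f g y' = (⊥ : PrimeSpectrum R)) (hy'Y : pullback.fst f g y' ∈ closure ({y} : Set ↑X)),
        pullback.fst f g y' = y ∧
        (∃ C ∈ irreducibleComponents ↑((pullback.fst f g) ⁻¹' closure ({y} : Set ↑X) ∩ (pullback.snd f g) ⁻¹' {(⊥ : PrimeSpectrum R)}),
          IsGenericPoint (⟨y', hy'Y, hy't⟩ : ↑((pullback.fst f g) ⁻¹' closure ({y} : Set ↑X) ∩ (pullback.snd f g) ⁻¹' {(⊥ : PrimeSpectrum R)})) C) ∧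
        ∃ (x' : ↑(pullback f g)) (hx' : x' ∈ closure ({y'} : Set ↑(pullback f g))) (hx's : pullback.snd f g x' = IsLocalRing.closedPoint R),
          pullback.fst f g x' = x ∧
          ∃ C ∈ irreducibleComponents ↑(closure ({y'} : Set ↑(pullback f g)) ∩ (pullback.snd f g) ⁻¹' {IsLocalRing.closedPoint R}),
            IsGenericPoint (⟨x', hx', hx's⟩ : ↑(closure ({y'} : Set ↑(pullback f g)) ∩ (pullback.snd f g) ⁻¹' {IsLocalRing.closedPoint R})) C := by
  subst hxs
  have hsp : y ⤳ x := specializes_iff_mem_closure.mpr hx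
  have hsp' : f y ⤳ f x := hsp.map f.continuous
  let α : X.presheaf.stalk x ⟶ X.residueField y := X.presheaf.stalkSpecializes hsp ≫ X.residue y
  let γ : S.presheaf.stalk (f x) ⟶ S.residueField (f y) :=
    S.presheaf.stalkSpecializes hsp' ≫ S.residue (f y)
  let φ := f.residueFieldMap y
  have hγ : γ ≫ φ = f.stalkMap x ≫ α := by
    simp only [γ, φ, α, Category.assoc, Scheme.residue_residueFieldMap]
    rw [Scheme.Hom.stalkSpecializes_stalkMap_assoc f y x hsp]
  obtain ⟨A, hA, hA_local⟩ := IsLocalRing.exists_factor_valuationRing α.hom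
  let B : ValuationSubring (S.residueField (f y)) := A.comap φ.hom
  have hB : ∀ r, γ.hom r ∈ B.toSubring := fun r ↦ by
    change φ.hom (γ.hom r) ∈ A
    have : φ.hom (γ.hom r) = α.hom ((f.stalkMap x).hom r) :=
      congr($(congrArg CommRingCat.Hom.hom hγ) r)
    rw [this]
    exact hA _
  let αA : X.presheaf.stalk x ⟶ CommRingCat.of A := CommRingCat.ofHom (α.hom.codRestrict _ hA)
  let β : S.presheaf.stalk (f x) ⟶ CommRingCat.of B := CommRingCat.ofHom (γ.hom.codRestrict _ hB)
  let ιB : CommRingCat.of B ⟶ CommRingCat.of A :=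
    CommRingCat.ofHom ((φ.hom.comp B.subtype).codRestrict A.toSubring fun b ↦ b.2)
  have hsq : β ≫ ιB = f.stalkMap x ≫ αA := by
    refine CommRingCat.hom_ext (RingHom.ext fun r ↦ Subtype.ext ?_)
    exact congr($(congrArg CommRingCat.Hom.hom hγ) r)
  have hιinj : Function.Injective ιB.hom := fun a b hab ↦
    Subtype.ext (φ.hom.injective (congr_arg Subtype.val hab))
  have hιloc : IsLocalHom ιB.hom := by
    refine ⟨fun b hb ↦ ?_⟩
    obtain ⟨c, hc⟩ := isUnit_iff_exists_inv.mp hb
    have hb0 : φ.hom b.1 * c.1 = 1 := congr_arg Subtype.val hc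
    have hne : b.1 ≠ 0 := fun h ↦ by simp [h] at hb0
    have hinv : b.1⁻¹ ∈ B := by
      change φ.hom b.1⁻¹ ∈ A
      rw [map_inv₀, inv_eq_of_mul_eq_one_right hb0]
      exact c.2
    exact isUnit_iff_exists_inv.mpr ⟨⟨_, hinv⟩, Subtype.ext (mul_inv_cancel₀ hne)⟩
  have hαloc : IsLocalHom αA.hom := hA_local
  have hβloc : IsLocalHom β.hom := by
    have : IsLocalHom (ιB.hom.comp β.hom) := by
      rw [← CommRingCat.hom_comp, hsq, CommRingCat.hom_comp]
      exact RingHom.isLocalHom_comp _ _
    exact isLocalHom_of_comp β.hom ιB.hom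
  let g : Spec (CommRingCat.of B) ⟶ S := Spec.map β ≫ S.fromSpecStalk (f x)
  let i : Spec (S.residueField (f y)) ⟶ Spec (CommRingCat.of B) :=
    Spec.map (CommRingCat.ofHom B.subtype)
  have hig : i ≫ g = S.fromSpecResidueField (f y) := by
    simp only [i, g, Scheme.fromSpecResidueField,
      ← Scheme.SpecMap_stalkSpecializes_fromSpecStalk hsp']
    rw [← Spec.map_comp_assoc, ← Spec.map_comp_assoc]
    rfl
  have : IsPreimmersion (i ≫ g) := by rw [hig]; infer_instance
  have hibot : ∀ k, i k = (⊥ : PrimeSpectrum B) := fun k ↦ by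
    change PrimeSpectrum.comap B.subtype k = ⊥
    ext1
    rw [PrimeSpectrum.comap_asIdeal,
      (Ideal.eq_bot_or_top k.asIdeal).resolve_right k.isPrime.ne_top]
    exact Ideal.comap_bot_of_injective _ Subtype.val_injective
  obtain ⟨k₀⟩ : Nonempty (Spec (S.residueField (f y))) := inferInstance
  refine ⟨B, inferInstance, inferInstance, inferInstance, g, ?_, ?_, ?_⟩
  · rw [← hibot k₀, ← Scheme.Hom.comp_apply, hig, Scheme.fromSpecResidueField_apply]
  · simp only [g, Scheme.Hom.comp_apply]
    rw [show Spec.map β (IsLocalRing.closedPoint B) = IsLocalRing.closedPoint _ from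
      IsLocalRing.comap_closedPoint β.hom]
    exact S.fromSpecStalk_closedPoint
  let l : Spec (CommRingCat.of A) ⟶ X := Spec.map αA ≫ X.fromSpecStalk x
  have hlf : l ≫ f = Spec.map ιB ≫ g := by
    simp only [l, g, Category.assoc, ← Scheme.SpecMap_stalkMap_fromSpecStalk]
    rw [← Spec.map_comp_assoc, ← Spec.map_comp_assoc, hsq]
  let L := pullback.lift (f := f) (g := g) l (Spec.map ιB) hlf
  have hLf : ∀ q, pullback.fst f g (L q) = l q := fun q ↦ by
    rw [← Scheme.Hom.comp_apply, pullback.lift_fst]
  have hLs : ∀ q, pullback.snd f g (L q) = Spec.map ιB q := fun q ↦ by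
    rw [← Scheme.Hom.comp_apply, pullback.lift_snd]
  let jA : Spec (X.residueField y) ⟶ Spec (CommRingCat.of A) :=
    Spec.map (CommRingCat.ofHom A.subtype)
  have hjl : jA ≫ l = X.fromSpecResidueField y := by
    simp only [jA, l, Scheme.fromSpecResidueField,
      ← Scheme.SpecMap_stalkSpecializes_fromSpecStalk hsp]
    rw [← Spec.map_comp_assoc, ← Spec.map_comp_assoc]
    rfl
  obtain ⟨k₁⟩ : Nonempty (Spec (X.residueField y)) := inferInstance
  have hl0 : l (⊥ : PrimeSpectrum A) = y := by
    have : jA k₁ = (⊥ : PrimeSpectrum A) := by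
      change PrimeSpectrum.comap A.subtype k₁ = ⊥
      ext1
      rw [PrimeSpectrum.comap_asIdeal,
        (Ideal.eq_bot_or_top k₁.asIdeal).resolve_right k₁.isPrime.ne_top]
      exact Ideal.comap_bot_of_injective _ Subtype.val_injective
    rw [← this, ← Scheme.Hom.comp_apply, hjl, Scheme.fromSpecResidueField_apply]
  have hl1 : l (IsLocalRing.closedPoint A) = x := by
    simp only [l, Scheme.Hom.comp_apply]
    rw [show Spec.map αA (IsLocalRing.closedPoint A) = IsLocalRing.closedPoint _ from
      IsLocalRing.comap_closedPoint αA.hom]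
    exact X.fromSpecStalk_closedPoint
  let y' := L (⊥ : PrimeSpectrum A)
  let x₁ := L (IsLocalRing.closedPoint A)
  have hy't : pullback.snd f g y' = (⊥ : PrimeSpectrum B) :=
    (hLs _).trans (comap_bot_of_injective _ hιinj)
  have hy'f : pullback.fst f g y' = y := (hLf _).trans hl0
  have hx₁s : pullback.snd f g x₁ = IsLocalRing.closedPoint B :=
    (hLs _).trans (IsLocalRing.comap_closedPoint ιB.hom)
  have hx₁cl : x₁ ∈ closure {y'} :=
    specializes_iff_mem_closure.mp ((IsLocalRing.specializes_closedPoint _).map L.continuous)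
  refine ⟨y', hy't, specializes_iff_mem_closure.mp (specializes_of_eq hy'f.symm), hy'f, ?_, ?_⟩
  · refine exists_component_generic _ fun b ↦ (subtype_specializes_iff _ _).mpr ?_
    exact specializes_generic_fibre f g i y' b.1 k₀ (hy't.trans (hibot k₀).symm)
      (b.2.2.trans (hibot k₀).symm)
      ((specializes_of_eq hy'f).trans (specializes_iff_mem_closure.mpr b.2.1))
  · have hW : IsClosed (closure ({y'} : Set ↑(pullback f g)) ∩
        (pullback.snd f g) ⁻¹' {IsLocalRing.closedPoint B}) :=
      isClosed_closure.inter ((IsLocalRing.isClosed_singleton_closedPoint B).preimage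
        (pullback.snd f g).continuous)
    obtain ⟨x', hx'W, hx'sp, hx'gen⟩ := exists_generic_specializes hW x₁ ⟨hx₁cl, hx₁s⟩
    refine ⟨x', hx'W.1, hx'W.2, ?_, hx'gen⟩
    have h1 : pullback.fst f g x' ⤳ x :=
      (hx'sp.map (pullback.fst f g).continuous).trans (specializes_of_eq ((hLf _).trans hl1))
    have h2 : pullback.fst f g x' ∈ closure ({y} : Set X) := by
      exact specializes_iff_mem_closure.mp ((specializes_of_eq hy'f.symm).trans
        ((specializes_iff_mem_closure.mpr hx'W.1).map (pullback.fst f g).continuous))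
    have h3 : f (pullback.fst f g x') = f x := by
      rw [← Scheme.Hom.comp_apply, pullback.condition, Scheme.Hom.comp_apply, hx'W.2]
      simp only [g, Scheme.Hom.comp_apply]
      rw [show Spec.map β (IsLocalRing.closedPoint B) = IsLocalRing.closedPoint _ from
      IsLocalRing.comap_closedPoint β.hom]
      exact S.fromSpecStalk_closedPoint
    obtain ⟨C, hC, hCgen⟩ := hgen
    exact congr_arg Subtype.val
      (eq_of_specializes_generic hC hCgen (b := ⟨pullback.fst f g x', h2, h3⟩)
        ((subtype_specializes_iff _ _).mpr h1))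

end Groth.Agent.S1481
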