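import Groth.Statements.S14812
import Groth.Agent.NumTriv.AnyField
import Groth.Agent.NumTriv.Section

set_option autoImplicit false
universe u
open CategoryTheory CategoryTheory.Limits AlgebraicGeometry
open Pic13

namespace Groth.Agent.S14812

/-- Take any field k, a proper k-scheme X and an invertible O_X-module L. Then L is numerically trivial
(degree 0 on every closed subscheme of X which is integral of dimension one) if and only if χ(F ⊗ L)
= χ(F) for every coherent O_X-module F; here χ is the alternating sum of the dimensions dim_k H^i(X,
·) over 0 ≤ i ≤ d, for any natural number d bounding the dimension of X. The field k is not assumed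
algebraically closed. -/
theorem result (k : Type u) [Field k] (X : Scheme.{u})
    [X.Over (Spec (CommRingCat.of k))] [IsProper (X ↘ Spec (CommRingCat.of k))] (L : X.Modules) (hL : PicF.IsInvertible L) :
    Pic13.IsNumEquivZero k X L ↔
      ∀ (F : X.Modules), Coh.IsCoh F → ∀ d : ℕ, topologicalKrullDim X ≤ d →
        FGA.eulerCharLE k X (CohB1.tensorMod F L) d = FGA.eulerCharLE k X F d := by
  haveI := Groth.Agent.EulerChar.isNoetherian k (X := X)
  constructor
  · intro h F hF d hd
    rw [Groth.Agent.Snapper.eulerCharLE_eq k hd, Groth.Agent.Snapper.eulerCharLE_eq k hd]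
    exact Groth.Agent.NumTriv.AnyField.euler_tens_eq' hF
      (Groth.Agent.NumTriv.num1_of_isNumEquivZero k hL h)
  · intro h
    obtain ⟨D, hD⟩ := Groth.Agent.HilbPolyX.exists_dim_le k X
    refine Groth.Agent.NumTriv.Section.isNumEquivZero_of_num1 (k := k) ⟨hL, fun F hF _ => ?_⟩
    rw [← Groth.Agent.Snapper.eulerCharLE_eq k hD, ← Groth.Agent.Snapper.eulerCharLE_eq k hD]
    exact h F hF D hD

end Groth.Agent.S14812
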