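import Groth.Statements.S14814
import Groth.Agent.NumTriv.H1Zero

set_option autoImplicit false
universe u
open CategoryTheory CategoryTheory.Limits AlgebraicGeometry
open Pic13

namespace Groth.Agent.S14814

/-- Take any field k and a proper k-scheme X with H^1(X, O_X) = 0. Then the group of numerically trivial
invertible sheaves is torsion: every invertible O_X-module L whose restriction to each closed
subscheme of X which is integral of dimension one has degree 0 satisfies L^{⊗d} ≅ O_X for some d ≥
1. -/
theorem result (k : Type u) [Field k] (X : Scheme.{u})
    [X.Over (Spec (CommRingCat.of k))] [IsProper (X ↘ Spec (CommRingCat.of k))]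
    (h1 : Subsingleton (Coh.HH X (Coh.structureModule X) 1))
    (L : X.Modules) (hL : PicF.IsInvertible L) (hnum : Pic13.IsNumEquivZero k X L) :
    ∃ d : ℕ, 0 < d ∧ Nonempty (CohB1.tensorPow L d ≅ Coh.structureModule X) := by
  exact Groth.Agent.NumTriv.H1Zero.exists_pow_trivial h1
    (Groth.Agent.NumTriv.num1_of_isNumEquivZero k hL hnum)

end Groth.Agent.S14814
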