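import Groth.Statements.S14816
import Mathlib
-- import your own Groth.Agent.* helpers here

set_option autoImplicit false
universe u
open CategoryTheory MonoidalCategory CartesianMonoidalCategory MonObj GrpObj AlgebraicGeometry
open AbVar

namespace Groth.Agent.S14816

set_option maxHeartbeats 400000

open TopologicalSpace

section

variable {k : Type u} [Field k] {A : Over (Spec (CommRingCat.of k))}

lemma mem_preimage_top (z : Spec (CommRingCat.of k) ⟶ A.left) {U : A.left.Opens}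
    (hz : z.base (IsLocalRing.closedPoint k) ∈ U) : (⊤ : (Spec (CommRingCat.of k)).Opens) ≤ z ⁻¹ᵁ U := by
  intro q _
  rw [show q = IsLocalRing.closedPoint k from Subsingleton.elim (α := PrimeSpectrum k) _ _]
  exact hz

/-- The value of a section at a rational point. -/
noncomputable def chi (z : Spec (CommRingCat.of k) ⟶ A.left) {U : A.left.Opens}
    (hz : z.base (IsLocalRing.closedPoint k) ∈ U) : Γ(A.left, U) →+* k :=
  (z.appLE U ⊤ (mem_preimage_top z hz) ≫ (Scheme.ΓSpecIso (CommRingCat.of k)).hom).hom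

lemma chi_res (z : Spec (CommRingCat.of k) ⟶ A.left) {U V : A.left.Opens} (i : V ≤ U)
    (hz : z.base (IsLocalRing.closedPoint k) ∈ V) (s : Γ(A.left, U)) :
    chi z hz ((A.left.presheaf.map (homOfLE i).op).hom s) = chi z (i hz) s := by
  have e := congr((Scheme.ΓSpecIso (CommRingCat.of k)).hom.hom
    ($(Scheme.Hom.map_appLE z (mem_preimage_top z hz) (homOfLE i).op).hom s))
  exact e

lemma chi_comp (z : Spec (CommRingCat.of k) ⟶ A.left) (t : A.left ⟶ A.left) {U V : A.left.Opens}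
    (i : V ≤ t ⁻¹ᵁ U) (hz : z.base (IsLocalRing.closedPoint k) ∈ V)
    (hz' : (z ≫ t).base (IsLocalRing.closedPoint k) ∈ U) (s : Γ(A.left, U)) :
    chi z hz ((t.appLE U V i).hom s) = chi (z ≫ t) hz' s := by
  have e := congr((Scheme.ΓSpecIso (CommRingCat.of k)).hom.hom
    ($(Scheme.Hom.appLE_comp_appLE z t U V ⊤ i (mem_preimage_top z hz)).hom s))
  exact e

lemma id_appLE_top (X : Scheme.{u}) (h : (⊤ : X.Opens) ≤ (𝟙 X : X ⟶ X) ⁻¹ᵁ ⊤) :
    (𝟙 X : X ⟶ X).appLE ⊤ ⊤ h = 𝟙 _ := by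
  rw [Scheme.Hom.appLE, Scheme.Hom.id_app]
  erw [Category.id_comp]
  exact X.presheaf.map_id _

/-- The structure map on sections. -/
noncomputable def str (A : Over (Spec (CommRingCat.of k))) (U : A.left.Opens) : k →+* Γ(A.left, U) :=
  (A.hom.appLE ⊤ U le_top).hom.comp (Scheme.ΓSpecIso (CommRingCat.of k)).inv.hom

lemma chi_str (z : Spec (CommRingCat.of k) ⟶ A.left) (hA : z ≫ A.hom = 𝟙 _) {U : A.left.Opens}
    (hz : z.base (IsLocalRing.closedPoint k) ∈ U) (r : k) : chi z hz (str A U r) = r := by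
  have e := congr((Scheme.ΓSpecIso (CommRingCat.of k)).hom.hom
    ($(Scheme.Hom.appLE_comp_appLE z A.hom ⊤ U ⊤ le_top (mem_preimage_top z hz)).hom
      ((Scheme.ΓSpecIso (CommRingCat.of k)).inv.hom r)))
  refine e.trans ?_
  simp only [hA, id_appLE_top]
  simp

lemma chi_congr {z z' : Spec (CommRingCat.of k) ⟶ A.left} (e : z = z') {U : A.left.Opens}
    (hz : z.base (IsLocalRing.closedPoint k) ∈ U) (hz' : z'.base (IsLocalRing.closedPoint k) ∈ U)
    (s : Γ(A.left, U)) : chi z hz s = chi z' hz' s := by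
  subst e; rfl

lemma eq_of_chi_eq {z z' : Spec (CommRingCat.of k) ⟶ A.left} {U : A.left.Opens} (hU : IsAffineOpen U)
    (hz : z.base (IsLocalRing.closedPoint k) ∈ U) (hz' : z'.base (IsLocalRing.closedPoint k) ∈ U)
    (h : chi z hz = chi z' hz') : z = z' := by
  have h2 : z.appLE U ⊤ (mem_preimage_top z hz) = z'.appLE U ⊤ (mem_preimage_top z' hz') := by
    rw [← cancel_mono (Scheme.ΓSpecIso (CommRingCat.of k)).hom]
    exact CommRingCat.hom_ext h
  have e1 := IsAffineOpen.SpecMap_appLE_fromSpec z hU (isAffineOpen_top _) (mem_preimage_top z hz)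
  have e2 := IsAffineOpen.SpecMap_appLE_fromSpec z' hU (isAffineOpen_top _) (mem_preimage_top z' hz')
  rw [h2, e2] at e1
  exact ((cancel_epi (isAffineOpen_top (Spec (CommRingCat.of k))).fromSpec).1 e1).symm

end


/-- Let k be an algebraically closed field of characteristic p > 0 which is algebraic over its prime
field (every element x satisfies x^(p^n) = x for some n ≥ 1) and let A be an abelian variety over k
(a proper, geometrically integral group scheme over k). Then every k-rational point of A has finite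
order in the group A(k) of k-points. -/
theorem result
    (p : ℕ) [Fact (Nat.Prime p)] (k : Type u) [Field k] [IsAlgClosed k] [CharP k p]
    (halg : ∀ x : k, ∃ n : ℕ, 0 < n ∧ x ^ (p ^ n) = x)
    (A : Over (Spec (CommRingCat.of k))) [GrpObj A] [IsProper A.hom] [GeometricallyIntegral A.hom]
    (a : 𝟙_ (Over (Spec (CommRingCat.of k))) ⟶ A) : IsOfFinOrder a := by
  classical
  letI : Group (𝟙_ (Over (Spec (CommRingCat.of k))) ⟶ A) := Hom.group
  haveI : CompactSpace A.left := QuasiCompact.compactSpace_of_compactSpace A.hom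
  haveI : IsLocallyNoetherian A.left := LocallyOfFiniteType.isLocallyNoetherian A.hom
  haveI : IsNoetherian A.left := ⟨⟩
  -- elements fixed by a power of Frobenius
  let P : ℕ → k → Prop := fun N x => x ^ p ^ N = x
  have hPdvd : ∀ {M N : ℕ}, M ∣ N → ∀ {x : k}, P M x → P N x := by
    intro M N hMN x hx
    obtain ⟨c, rfl⟩ := hMN
    induction c with
    | zero => simp [P]
    | succ c ih =>
      show x ^ p ^ (M * (c + 1)) = x
      rw [Nat.mul_succ, pow_add, pow_mul, show x ^ p ^ (M * c) = x from ih]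
      exact hx
  -- affine charts
  choose V hV hxV _ using fun x : A.left =>
    A.left.isBasis_affineOpens.exists_subset_of_mem_open (Set.mem_univ x) isOpen_univ
  choose V' hV' hVeq using hV
  obtain ⟨s, hs⟩ := isCompact_univ.elim_finite_subcover (fun x : A.left => (V' x : Set A.left))
    (fun x => (V' x).2) (fun x _ => Set.mem_iUnion.2 ⟨x, (hVeq x).symm ▸ hxV x⟩)
  let U : s → A.left.Opens := fun i => V' i
  have hU : ∀ i, IsAffineOpen (U i) := fun i => hV' i
  have hcover : ∀ y : A.left, ∃ i : s, y ∈ U i := fun y => by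
    obtain ⟨x, hx, hy⟩ := Set.mem_iUnion₂.1 (hs (Set.mem_univ y))
    exact ⟨⟨x, hx⟩, hy⟩
  -- generators
  have hgen : ∀ i : s, ∃ G : Finset Γ(A.left, U i),
      Subring.closure (Set.range (str A (U i)) ∪ (G : Set Γ(A.left, U i))) = ⊤ := by
    intro i
    have hft : (str A (U i)).FiniteType :=
      RingHom.FiniteType.comp (HasRingHomProperty.appLE @LocallyOfFiniteType A.hom inferInstance
        ⟨⊤, isAffineOpen_top _⟩ ⟨U i, hU i⟩ le_top)
        (RingHom.FiniteType.of_surjective _ (Scheme.ΓSpecIso (CommRingCat.of k)).symm.commRingCatIsoToRingEquiv.surjective)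
    algebraize [str A (U i)]
    obtain ⟨G, hG⟩ := (inferInstance : Algebra.FiniteType k Γ(A.left, U i)).out
    refine ⟨G, ?_⟩
    have h1 := congrArg Subalgebra.toSubring hG
    rw [Algebra.adjoin_eq_ring_closure, Algebra.top_toSubring] at h1
    exact h1
  choose G hG using hgen
  let Rsub : (i : s) → ℕ → Subring Γ(A.left, U i) := fun i N =>
    Subring.closure ((str A (U i)) '' {x | P N x} ∪ (G i : Set Γ(A.left, U i)))
  have hRmono : ∀ i {M N : ℕ}, M ∣ N → Rsub i M ≤ Rsub i N := fun i M N h =>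
    Subring.closure_mono (Set.union_subset_union_left _ (Set.image_mono fun x hx => hPdvd h hx))
  have hRall : ∀ i h, ∃ N, 0 < N ∧ h ∈ Rsub i N := by
    intro i h
    have hh : h ∈ Subring.closure (Set.range (str A (U i)) ∪ (G i : Set Γ(A.left, U i))) :=
      (hG i).symm ▸ Subring.mem_top h
    induction hh using Subring.closure_induction with
    | mem y hy =>
      rcases hy with ⟨r, rfl⟩ | hy
      · obtain ⟨n, hn, hr⟩ := halg r
        exact ⟨n, hn, Subring.subset_closure (Or.inl ⟨r, hr, rfl⟩)⟩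
      · exact ⟨1, one_pos, Subring.subset_closure (Or.inr hy)⟩
    | zero => exact ⟨1, one_pos, zero_mem _⟩
    | one => exact ⟨1, one_pos, one_mem _⟩
    | add x y _ _ hx hy =>
      obtain ⟨M, hM, hx⟩ := hx; obtain ⟨N, hN, hy⟩ := hy
      exact ⟨M * N, Nat.mul_pos hM hN, add_mem (hRmono i (dvd_mul_right M N) hx) (hRmono i (dvd_mul_left N M) hy)⟩
    | neg x _ hx => exact hx.imp fun N h => ⟨h.1, neg_mem h.2⟩
    | mul x y _ _ hx hy =>
      obtain ⟨M, hM, hx⟩ := hx; obtain ⟨N, hN, hy⟩ := hy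
      exact ⟨M * N, Nat.mul_pos hM hN, mul_mem (hRmono i (dvd_mul_right M N) hx) (hRmono i (dvd_mul_left N M) hy)⟩
  -- translation
  let T : A ⟶ A := 𝟙 A * (toUnit A ≫ a)
  have hT : ∀ z : 𝟙_ _ ⟶ A, z ≫ T = z * a := fun z => by
    rw [MonObj.comp_mul, Category.comp_id, ← Category.assoc, toUnit_unique (z ≫ toUnit A) (𝟙 _),
      Category.id_comp]
  let t := T.left
  -- finitely many basic opens covering each piece
  have hW : ∀ i j : s, ∃ D : Finset Γ(A.left, U i), (∀ g ∈ D, A.left.basicOpen g ≤ t ⁻¹ᵁ U j) ∧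
      ∀ y ∈ U i, y ∈ t ⁻¹ᵁ U j → ∃ g ∈ D, y ∈ A.left.basicOpen g := by
    intro i j
    have hex : ∀ y : (U i ⊓ t ⁻¹ᵁ U j : A.left.Opens),
        ∃ g : Γ(A.left, U i), A.left.basicOpen g ≤ U i ⊓ t ⁻¹ᵁ U j ∧ (y : A.left) ∈ A.left.basicOpen g :=
      fun y => (hU i).exists_basicOpen_le y y.2.1
    choose g hg1 hg2 using hex
    obtain ⟨D, hD⟩ := (NoetherianSpace.isCompact ((U i ⊓ t ⁻¹ᵁ U j : A.left.Opens) : Set A.left)).elim_finite_subcover
      (fun y => (A.left.basicOpen (g y) : Set A.left)) (fun y => (A.left.basicOpen (g y)).2)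
      (fun y hy => Set.mem_iUnion.2 ⟨⟨y, hy⟩, hg2 ⟨y, hy⟩⟩)
    refine ⟨D.image g, fun h hh => ?_, fun y h1 h2 => ?_⟩
    · obtain ⟨y, -, rfl⟩ := Finset.mem_image.1 hh
      exact (hg1 y).trans inf_le_right
    · obtain ⟨y', hy', hm⟩ := Set.mem_iUnion₂.1 (hD (show y ∈ ((U i ⊓ t ⁻¹ᵁ U j : A.left.Opens) : Set A.left) from ⟨h1, h2⟩))
      exact ⟨g y', Finset.mem_image_of_mem g hy', hm⟩
  choose D hD1 hD2 using hW
  -- the transition data
  have hdata : ∀ (i j : s) (g : D i j) (y : G j), ∃ (n : ℕ) (h : Γ(A.left, U i)),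
      (A.left.presheaf.map (homOfLE (A.left.basicOpen_le (g : Γ(A.left, U i)))).op).hom h =
        (t.appLE (U j) (A.left.basicOpen (g : Γ(A.left, U i))) (hD1 i j g g.2)).hom (y : Γ(A.left, U j)) *
          (A.left.presheaf.map (homOfLE (A.left.basicOpen_le (g : Γ(A.left, U i)))).op).hom (g : Γ(A.left, U i)) ^ n := by
    intro i j g y
    haveI := (hU i).isLocalization_basicOpen (g : Γ(A.left, U i))
    obtain ⟨n, h, hh⟩ := IsLocalization.Away.surj (g : Γ(A.left, U i))
      ((t.appLE (U j) (A.left.basicOpen (g : Γ(A.left, U i))) (hD1 i j g g.2)).hom (y : Γ(A.left, U j)))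
    exact ⟨n, h, hh.symm⟩
  choose n h hh using hdata
  -- one exponent for all the data
  let pt : (𝟙_ (Over (Spec (CommRingCat.of k))) ⟶ A) → A.left := fun z => z.left.base (IsLocalRing.closedPoint k)
  obtain ⟨i0, hi0⟩ := hcover (pt 1)
  choose N1 hN1 hN1' using fun y : G i0 => halg (chi (1 : 𝟙_ _ ⟶ A).left hi0 y.1)
  choose N2 hN2 hN2' using fun (q : Σ i : s, Σ j : s, D i j) => hRall q.1 q.2.2.1
  choose N3 hN3 hN3' using fun (q : Σ i : s, Σ j : s, D i j × G j) =>
    hRall q.1 (h q.1 q.2.1 q.2.2.1 q.2.2.2)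
  let N : ℕ := ((∏ y, N1 y) * ∏ q, N2 q) * ∏ q, N3 q
  have hNpos : 0 < N := Nat.mul_pos (Nat.mul_pos (Finset.prod_pos fun q _ => hN1 q)
    (Finset.prod_pos fun q _ => hN2 q)) (Finset.prod_pos fun q _ => hN3 q)
  have hdvd1 : ∀ y, N1 y ∣ N := fun y => by
    show N1 y ∣ ((∏ y, N1 y) * ∏ q, N2 q) * ∏ q, N3 q
    exact Dvd.dvd.mul_right (Dvd.dvd.mul_right (Finset.dvd_prod_of_mem N1 (Finset.mem_univ y)) _) _
  have hdvd2 : ∀ q, N2 q ∣ N := fun q => by
    show N2 q ∣ ((∏ y, N1 y) * ∏ q, N2 q) * ∏ q, N3 q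
    exact Dvd.dvd.mul_right (Dvd.dvd.mul_left (Finset.dvd_prod_of_mem N2 (Finset.mem_univ q)) _) _
  have hdvd3 : ∀ q, N3 q ∣ N := fun q => by
    show N3 q ∣ ((∏ y, N1 y) * ∏ q, N2 q) * ∏ q, N3 q
    exact Dvd.dvd.mul_left (Finset.dvd_prod_of_mem N3 (Finset.mem_univ q)) _
  clear_value N
  haveI : ExpChar k p := ExpChar.prime Fact.out
  let φ : k →+* k := iterateFrobenius k p N
  have hφ : ∀ x, φ x = x ↔ P N x := fun x => by rw [iterateFrobenius_def]
  have hval : ∀ i (z : 𝟙_ _ ⟶ A) (hz : pt z ∈ U i), (∀ y ∈ G i, φ (chi z.left hz y) = chi z.left hz y) →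
      ∀ f ∈ Rsub i N, φ (chi z.left hz f) = chi z.left hz f := by
    intro i z hz hy f hf
    refine (Subring.closure_le (t := RingHom.eqLocus (φ.comp (chi z.left hz)) (chi z.left hz))).2 ?_ hf
    rintro f (⟨r, hr, rfl⟩ | hf)
    · show φ (chi z.left hz (str A (U i) r)) = chi z.left hz (str A (U i) r)
      rw [chi_str z.left (Over.w z) hz]
      exact (hφ r).2 hr
    · exact hy f hf
  let S : Set (𝟙_ (Over (Spec (CommRingCat.of k))) ⟶ A) :=
    {z | ∃ (i : s) (hz : pt z ∈ U i), ∀ y ∈ G i, φ (chi z.left hz y) = chi z.left hz y}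
  have hstep : ∀ z ∈ S, z * a ∈ S := by
    rintro z ⟨i, hz, hy⟩
    obtain ⟨j, hj⟩ := hcover (pt (z * a))
    have hj' : t.base (pt z) ∈ U j := by
      rw [← hT z] at hj; exact hj
    obtain ⟨g, hg, hzg⟩ := hD2 i j _ hz hj'
    refine ⟨j, hj, fun y hyG => ?_⟩
    have e1 : chi (z * a).left hj y = chi (z.left ≫ t) (show (z.left ≫ t).base _ ∈ U j from hj') y :=
      chi_congr (show (z * a).left = (z ≫ T).left by rw [hT z]) _ _ _
    rw [e1, ← chi_comp z.left t (hD1 i j g hg) hzg _ y]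
    have hg' : (A.left.presheaf.map (homOfLE (A.left.basicOpen_le g)).op).hom g |> IsUnit :=
      A.left.toRingedSpace.isUnit_res_basicOpen g
    have key := congrArg (chi z.left hzg) (hh i j ⟨g, hg⟩ ⟨y, hyG⟩)
    rw [map_mul, map_pow, chi_res, chi_res] at key
    let q2 : Σ i : s, Σ j : s, D i j := ⟨i, j, ⟨g, hg⟩⟩
    let q3 : Σ i : s, Σ j : s, D i j × G j := ⟨i, j, ⟨g, hg⟩, ⟨y, hyG⟩⟩
    have hvg : φ (chi z.left hz g) = chi z.left hz g :=
      hval i z hz hy g (hRmono i (hdvd2 q2) (hN2' q2))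
    have hvh : φ (chi z.left hz (h i j ⟨g, hg⟩ ⟨y, hyG⟩)) = chi z.left hz (h i j ⟨g, hg⟩ ⟨y, hyG⟩) :=
      hval i z hz hy _ (hRmono i (hdvd3 q3) (hN3' q3))
    have hg0 : chi z.left hz g ^ n i j ⟨g, hg⟩ ⟨y, hyG⟩ ≠ 0 := by
      refine pow_ne_zero _ ?_
      rw [← chi_res z.left (A.left.basicOpen_le g) hzg g]
      exact (hg'.map (chi z.left hzg)).ne_zero
    refine mul_right_cancel₀ hg0 ?_
    have key2 := congrArg φ key
    rw [map_mul, map_pow, hvg, hvh] at key2
    exact key2.symm.trans key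
  have hmem : ∀ m : ℕ, a ^ m ∈ S := by
    intro m
    induction m with
    | zero =>
      rw [pow_zero]
      exact ⟨i0, hi0, fun y hy => (hφ _).2 (hPdvd (hdvd1 ⟨y, hy⟩) (hN1' ⟨y, hy⟩))⟩
    | succ m ih => rw [pow_succ]; exact hstep _ ih
  have hfix : {x : k | φ x = x}.Finite := by
    have hne : (Polynomial.X ^ p ^ N - Polynomial.X : Polynomial k) ≠ 0 :=
      FiniteField.X_pow_card_pow_sub_X_ne_zero k hNpos.ne' (Fact.out : p.Prime).one_lt
    refine ((Polynomial.X ^ p ^ N - Polynomial.X : Polynomial k).roots.toFinset.finite_toSet).subset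
      fun x hx => ?_
    rw [Finset.mem_coe, Multiset.mem_toFinset, Polynomial.mem_roots hne]
    show Polynomial.eval x (Polynomial.X ^ p ^ N - Polynomial.X : Polynomial k) = 0
    rw [Polynomial.eval_sub, Polynomial.eval_pow, Polynomial.eval_X]
    exact sub_eq_zero.2 ((hφ x).1 hx)
  have hSfin : S.Finite := by
    haveI : Finite {x : k | φ x = x} := hfix.to_subtype
    let F : ↥S → Σ i : s, (G i → {x : k | φ x = x}) := fun z =>
      ⟨z.2.choose, fun y => ⟨chi z.1.left z.2.choose_spec.choose y.1, z.2.choose_spec.choose_spec _ y.2⟩⟩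
    have aux : ∀ (i j : s) (z w : 𝟙_ _ ⟶ A) (hz : pt z ∈ U i) (hw : pt w ∈ U j)
        (hy : ∀ y ∈ G i, φ (chi z.left hz y) = chi z.left hz y)
        (hy' : ∀ y ∈ G j, φ (chi w.left hw y) = chi w.left hw y),
        (⟨i, fun y => ⟨chi z.left hz y.1, hy _ y.2⟩⟩ : Σ i : s, (G i → {x : k | φ x = x})) =
          ⟨j, fun y => ⟨chi w.left hw y.1, hy' _ y.2⟩⟩ → z = w := by
      intro i j z w hz hw hy hy' e
      obtain ⟨rfl, e⟩ := Sigma.mk.inj_iff.1 e
      have e' := eq_of_heq e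
      apply Over.OverMorphism.ext
      refine eq_of_chi_eq (hU i) hz hw (RingHom.eq_of_eqOn_set_dense (hG i) ?_)
      rintro f (⟨r, rfl⟩ | hf)
      · rw [chi_str z.left (Over.w z) hz, chi_str w.left (Over.w w) hw]
      · exact congrArg Subtype.val (congrFun e' ⟨f, hf⟩)
    have hF : Function.Injective F := fun z w e => Subtype.ext (aux _ _ _ _ _ _ _ _ e)
    exact Set.finite_coe_iff.1 (Finite.of_injective F hF)
  obtain ⟨m, m', hne, he⟩ : ∃ m m' : ℕ, m ≠ m' ∧ a ^ m = a ^ m' := by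
    by_contra! hinj
    exact (Set.infinite_range_of_injective fun m m' e => by_contra fun hne => hinj m m' hne e)
      (hSfin.subset (Set.range_subset_iff.2 hmem))
  rw [isOfFinOrder_iff_pow_eq_one]
  rcases Nat.lt_or_gt_of_ne hne with hlt | hlt
  · exact ⟨m' - m, Nat.sub_pos_of_lt hlt, by
      rw [pow_sub a hlt.le, he, mul_inv_cancel]⟩
  · exact ⟨m - m', Nat.sub_pos_of_lt hlt, by
      rw [pow_sub a hlt.le, he, mul_inv_cancel]⟩

end Groth.Agent.S14816
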