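import Groth.Statements.S14818
import Groth.Agent.AmpleLib.NormDesc
import Groth.Agent.FEtCat.Rank
import Groth.Agent.S10964

set_option autoImplicit false
universe u
open CategoryTheory CategoryTheory.Limits AlgebraicGeometry
open PicF

namespace Groth.Agent.S14818

open Groth.Agent.QCoh Groth.Agent.Props.GenLocus Groth.Agent.Props.GenTensor in
set_option backward.isDefEq.respectTransparency false in
set_option backward.isDefEq.respectTransparency.types false in
/-- The norm of a trivialisation of the pullback trivialises the tensor power. -/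
theorem core {X X' : Scheme.{u}} (f : X' ⟶ X) (d : ℕ)
    (hM : FlatMod.IsFinLocFreeOfRank d ((Scheme.Modules.pushforward f).obj (Coh.structureModule X')))
    (L : X.Modules) (hL : PicF.IsInvertible L)
    (φ : (Scheme.Modules.pullback f).obj L ≅ Coh.structureModule X') :
    Nonempty (CohB1.tensorPow L d ≅ Coh.structureModule X) := by
  classical
  have hpt : ∀ x : X, ∃ (W : X.Opens) (e : Γ(L, W)) (b : Fin d → Γ(AmpleLib.pushO f, W)),
      x ∈ W ∧ IsGen L W e ∧ LFFrame.IsFrame (AmpleLib.pushO f) W b := fun x => by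
    obtain ⟨U, hxU, ⟨ψ⟩⟩ := hM x
    let p : Fin d → (FlatMod.freeMod (U : Scheme.{u}) d ⟶ Coh.structureModule (U : Scheme.{u})) :=
      fun j => Sigma.desc fun i => if i = j then 𝟙 _ else 0
    obtain ⟨b, hb⟩ := LFFrame.exists_isFrame_of_split (M := AmpleLib.pushO f)
      (fun i => Sigma.ι (fun _ : Fin d => Coh.structureModule (U : Scheme.{u})) i ≫ ψ.inv)
      (fun j => ψ.hom ≫ p j) (fun i j => by simp [p]) (by
        rw [← cancel_epi ψ.inv, ← cancel_mono ψ.hom]
        apply Sigma.hom_ext
        intro j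
        simp [p, Preadditive.comp_sum, Preadditive.sum_comp, Finset.sum_ite_eq', ite_comp])
    obtain ⟨U', e, hxU', he⟩ := exists_isGen hL x
    refine ⟨U' ⊓ U, res L inf_le_left e, fun j => res (AmpleLib.pushO f) inf_le_right (b j), ⟨hxU', hxU⟩,
      he.restrict _, fun V hV => ?_⟩
    have e1 : LFFrame.comb (AmpleLib.pushO f) (fun j => res (AmpleLib.pushO f) inf_le_right (b j)) hV =
        LFFrame.comb (AmpleLib.pushO f) b (hV.trans inf_le_right) :=
      funext fun a => by simp only [LFFrame.comb, LFFrame.res_res]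
    rw [e1]
    exact hb _ _
  choose W e b hxW he hb using hpt
  have hcov : iSup W = ⊤ := top_unique fun x _ => TopologicalSpace.Opens.mem_iSup.2 ⟨x, hxW x⟩
  have ha : ∀ i, ∃ a : Γ(X', f ⁻¹ᵁ W i), IsUnit a ∧
      φ.hom.app (f ⁻¹ᵁ W i) (Props.GenPull.pb f (e i)) =
        a • (one' _ : Γ(Coh.structureModule X', f ⁻¹ᵁ W i)) := fun i => by
    have hG : IsGen (Coh.structureModule X') (f ⁻¹ᵁ W i) (φ.hom.app _ (Props.GenPull.pb f (e i))) := by
      intro V hV
      have hfun : sm (φ.hom.app _ (Props.GenPull.pb f (e i))) hV =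
          φ.hom.app V ∘ sm (Props.GenPull.pb f (e i)) hV := by
        funext z
        simp only [sm, Function.comp_apply, Scheme.Modules.Hom.app_smul, ← app_res]
      rw [hfun]
      exact Function.Bijective.comp (ConcreteCategory.bijective_of_isIso (φ.hom.app V))
        (Props.GenPull.isGen_pb f (he i) V hV)
    obtain ⟨a, ha, -⟩ := (isGen_one _).exists_eq le_rfl (φ.hom.app _ (Props.GenPull.pb f (e i)))
    obtain ⟨c, hc, -⟩ := hG.exists_eq le_rfl (one' (f ⁻¹ᵁ W i))
    rw [res_self] at ha hc
    refine ⟨a, IsUnit.of_mul_eq_one c ((isGen_one (f ⁻¹ᵁ W i)).injective le_rfl ?_), ha⟩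
    rw [res_self, one_smul, mul_comm, mul_smul, ← ha]
    exact hc.symm
  choose a hau ha using ha
  have hη : ∀ i j, ∃ η : Γ(X, W i ⊓ W j), res L (inf_le_left : W i ⊓ W j ≤ W i) (e i) =
      η • res L (inf_le_right : W i ⊓ W j ≤ W j) (e j) := fun i j => by
    obtain ⟨η, hη, -⟩ := (he j).exists_eq (inf_le_right : W i ⊓ W j ≤ W j) (res L inf_le_left (e i))
    exact ⟨η, hη⟩
  choose η hη using hη
  have hrel : ∀ i j, rres (f.preimage_mono inf_le_left) (a i) =
      f.app (W i ⊓ W j) (η i j) * rres (f.preimage_mono inf_le_right) (a j) := fun i j => by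
    refine (isGen_one (f ⁻¹ᵁ (W i ⊓ W j))).injective le_rfl ?_
    rw [res_self, mul_smul]
    have h1 := congrArg (fun z => φ.hom.app (f ⁻¹ᵁ (W i ⊓ W j)) (LFFrame.unitSec f L (W i ⊓ W j) z)) (hη i j)
    simp only [LFFrame.unitSec_smul, LFFrame.unitSec_res, Scheme.Modules.Hom.app_smul] at h1
    rw [app_res, app_res, ha, ha, res_smul, res_smul] at h1
    have hone : ∀ {A B : X'.Opens} (h : B ≤ A), res (Coh.structureModule X') h (one' A) = one' B := fun h =>
      (X'.presheaf.map (homOfLE h).op).hom.map_one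
    rw [hone, hone] at h1
    exact h1
  refine (S10964.result X W hcov (CohB1.tensorPow L d) (Coh.structureModule X)
    (fun i => pw L (e i) d) (fun i => (one' _ : Γ(Coh.structureModule X, W i)))
    (fun i V h => isGen_pw (he i) d V h) (fun i V h => isGen_one _ V h)
    (fun i j => η i j ^ d) (fun i j => 1) (fun i j => ?_) (fun i j => ?_)).2
    ⟨fun i => ((hau i).map (AmpleLib.nrm f (W i))).unit, fun i j => ?_⟩
  · show res _ inf_le_left (pw L (e i) d) = η i j ^ d • res _ inf_le_right (pw L (e j) d)
    rw [res_pw, res_pw, hη, pw_smul]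
  · rw [one_smul]
    exact (X.presheaf.map (homOfLE _).op).hom.map_one.trans (X.presheaf.map (homOfLE _).op).hom.map_one.symm
  · rw [one_mul, IsUnit.unit_spec, IsUnit.unit_spec]
    show rres _ _ = rres _ _ * _
    rw [AmpleLib.rres_nrm (hb i) le_rfl (inf_le_left : W i ⊓ W j ≤ W i), hrel,
      AmpleLib.nrm_app_mul (hb i) (inf_le_left : W i ⊓ W j ≤ W i),
      AmpleLib.rres_nrm (hb j) le_rfl (inf_le_right : W i ⊓ W j ≤ W j), mul_comm]


/-- Let X be a connected locally Noetherian scheme, f : X' → X a finite locally free morphism of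
constant degree d (a finite flat covering of X of degree d) and L an invertible O_X-module whose
pullback f^*L is isomorphic to O_{X'}. Then L^{⊗d} ≅ O_X; in particular L has finite order in Pic(X)
dividing the degree of f. -/
theorem result (X X' : Scheme.{u})
    [IsLocallyNoetherian X] [ConnectedSpace X] (f : X' ⟶ X) (d : ℕ) (hf : Mor2.IsFinLocFreeOfDeg d f)
    (L : X.Modules) (hL : PicF.IsInvertible L)
    (htriv : Nonempty ((Scheme.Modules.pullback f).obj L ≅ Coh.structureModule X')) :
    Nonempty (CohB1.tensorPow L d ≅ Coh.structureModule X) := by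
  obtain ⟨⟨h1, h2, h3⟩, hd⟩ := hf
  haveI := h1
  haveI := h2
  haveI := h3
  exact core f d (Groth.Agent.FEtCat.Rank.isFinLocFreeOfRank_of_finrank f d hd) L hL htriv.some

end Groth.Agent.S14818
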