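import Groth.Statements.S1482
import Groth.Agent.FlatMor.PureSplit
-- import your own Groth.Agent.* helpers here

set_option autoImplicit false
universe u
open FlatMor

namespace Groth.Agent.S1482

open AlgebraicGeometry CategoryTheory Limits in
/-- Let f : X → S be locally of finite type, s a point of S and x_1, …, x_n pairwise distinct points
over s at which f is quasi-finite. Then there are an étale morphism g : U → S with a point u over s
and, for each i, finitely many opens V_{i,j} of X_U = X ×_S U, each finite over U and containing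
exactly one point v_{i,j} over u, with κ(v_{i,j}) finite purely inseparable over κ(u), the v_{i,j}
pairwise distinct, v_{i,j} mapping to x_i, and every point of X_U over u mapping to some x_i equal
to one of the v_{i,j}. -/
theorem result {X S : Scheme.{u}} (f : X ⟶ S) [LocallyOfFiniteType f] (s : S) {ι : Type} [Finite ι]
    (x : ι → ↑X) (hinj : Function.Injective x) (hs : ∀ i, f (x i) = s) (hx : ∀ i, f.QuasiFiniteAt (x i)) :
    ∃ (U : Scheme.{u}) (g : U ⟶ S) (u : U), Etale g ∧ g u = s ∧
      ∃ (J : ι → Type) (_ : ∀ i, Finite (J i)) (V : ∀ i, J i → (pullback f g).Opens) (v : ∀ i, J i → ↑(pullback f g)),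
        (∀ i j, v i j ∈ V i j ∧ IsFinite ((V i j).ι ≫ pullback.snd f g) ∧ pullback.snd f g (v i j) = u ∧
          (∀ w : ↑(pullback f g), w ∈ V i j → pullback.snd f g w = u → w = v i j) ∧
          (letI := ((pullback.snd f g).residueFieldMap (v i j)).hom.toAlgebra
           Module.Finite ↑(U.residueField (pullback.snd f g (v i j))) ↑((pullback f g).residueField (v i j)) ∧
           IsPurelyInseparable ↑(U.residueField (pullback.snd f g (v i j))) ↑((pullback f g).residueField (v i j))) ∧
          pullback.fst f g (v i j) = x i) ∧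
        (∀ i j i' j', v i j = v i' j' → i = i' ∧ HEq j j') ∧
        (∀ (w : ↑(pullback f g)) (i : ι), pullback.snd f g w = u → pullback.fst f g w = x i → ∃ j, w = v i j) := by
  classical
  have := Fintype.ofFinite ι
  obtain ⟨U, g, u, hg, hgu, J, W, hJ, hJW, hcov⟩ :=
    Groth.Agent.Wt.Pure.exists_pureParts f s (Set.range x) (Set.finite_range x)
      (by rintro _ ⟨i, rfl⟩; exact hs i) (by rintro _ ⟨i, rfl⟩; exact hx i)
  have hfin : ∀ i, Finite {z : ↥(pullback f g) // z ∈ J ∧ pullback.fst f g z = x i} := fun i =>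
    (hJ.subset fun z hz => hz.1).to_subtype (s := {z | z ∈ J ∧ pullback.fst f g z = x i})
  choose n hn using fun i => @Finite.exists_equiv_fin _ (hfin i)
  let e := fun i => (hn i).some
  let v : ∀ i, Fin (n i) → ↥(pullback f g) := fun i j => ((e i).symm j).1
  have hv : ∀ i j, v i j ∈ J ∧ pullback.fst f g (v i j) = x i := fun i j => ((e i).symm j).2
  have hqf : ∀ i j, f.QuasiFiniteAt (pullback.fst f g (v i j)) := fun i j => (hv i j).2 ▸ hx i
  have hvinj : ∀ i j i' j', v i j = v i' j' → i = i' ∧ HEq j j' := by
    intro i j i' j' h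
    obtain rfl : i = i' := hinj (by rw [← (hv i j).2, ← (hv i' j').2, h])
    exact ⟨rfl, heq_of_eq ((e i).symm.injective (Subtype.ext h))⟩
  have hcov' : ∀ (w : ↥(pullback f g)) (i : ι), pullback.snd f g w = u → pullback.fst f g w = x i →
      ∃ j, w = v i j := fun w i hw hwi =>
    ⟨e i ⟨w, hcov w hw ⟨i, hwi.symm⟩, hwi⟩, by simp [v]⟩
  refine ⟨U, g, u, hg, hgu, fun i => Fin (n i), fun i => inferInstance,
    fun i j => W (v i j), v, ?_⟩
  refine ⟨fun i j => ?_, hvinj, hcov'⟩
  obtain ⟨hp, hsg, -⟩ := hJW _ (hv i j).1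
  exact ⟨hp.mem, hp.finite, hp.map_eq, hp.unique,
    Groth.Agent.FlatMor.PureSplit.pureInsep_of_part f g _ (hqf i j) hsg, (hv i j).2⟩

end Groth.Agent.S1482
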