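import Groth.Statements.S14820
import Groth.Agent.S8186
import Groth.Agent.AbVarLib.Basics
import Groth.Agent.GrpScheme.SubgroupObj
import Groth.Agent.RedSub.Basic
import Groth.Agent.FBase.BC
import Groth.Agent.GrpScheme.Component
import Groth.Agent.VarDim.Scheme

set_option autoImplicit false
universe u
open CategoryTheory MonoidalCategory CartesianMonoidalCategory MonObj GrpObj AlgebraicGeometry
open AbVar

namespace Groth.Agent.S14820

open Groth.Agent in
theorem geometricallyReduced_of_surjective {k : Type u} [Field k] {A Z : Scheme.{u}} (ψ : A ⟶ Z)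
    (g : Z ⟶ Spec (CommRingCat.of k)) [Surjective ψ] [IsReduced Z] [GeometricallyReduced (ψ ≫ g)] :
    GeometricallyReduced g := by
  refine S8186.geometricallyReduced_of_dense g ((ψ.surjective.denseRange.dense_image ψ.continuous
    (S8186.dense_sepPts (ψ ≫ g))).mono ?_)
  rintro _ ⟨a, ha, rfl⟩
  let φ := Spec.preimage (Z.fromSpecResidueField (ψ a) ≫ g)
  letI : Algebra k (Z.residueField (ψ a)) := φ.hom.toAlgebra
  letI : Algebra k (A.residueField a) := (φ ≫ ψ.residueFieldMap a).hom.toAlgebra
  have hz : Z.fromSpecResidueField (ψ a) ≫ g = Spec.map (CommRingCat.ofHom (algebraMap k (Z.residueField (ψ a)))) :=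
    (Spec.map_preimage _).symm
  have ha' : A.fromSpecResidueField a ≫ ψ ≫ g = Spec.map (CommRingCat.ofHom (algebraMap k (A.residueField a))) := by
    rw [← Scheme.Hom.SpecMap_residueFieldMap_fromSpecResidueField_assoc, hz, ← Spec.map_comp]
    rfl
  haveI : GeometricallyReduced (Spec.map (CommRingCat.ofHom (algebraMap k (A.residueField a)))) := ha' ▸ ha
  haveI : Algebra.IsGeometricallyReduced k (A.residueField a) :=
    FBase.BC.isGeometricallyReduced_of_geometricallyReduced_specMap _
  let f : Z.residueField (ψ a) →ₐ[k] A.residueField a :=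
    { (ψ.residueFieldMap a).hom with commutes' := fun _ => rfl }
  haveI : Algebra.IsGeometricallyReduced k (Z.residueField (ψ a)) :=
    Algebra.IsGeometricallyReduced.of_injective f f.toRingHom.injective
  show GeometricallyReduced (Z.fromSpecResidueField (ψ a) ≫ g)
  rw [hz]
  exact FBase.BC.geometricallyReduced_specMap_algebra (k := k) _

theorem isMonHom_mul' {k : Type u} [Field k] {X H : Over (Spec (CommRingCat.of k))} [GrpObj X] [GrpObj H] [IsCommMonObj H]
    (f g : X ⟶ H) [IsMonHom f] [IsMonHom g] : IsMonHom (f * g) where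
  one_hom := by
    rw [MonObj.comp_mul, IsMonHom.one_hom f, IsMonHom.one_hom g]
    have : η[H] = (1 : 𝟙_ _ ⟶ H) := by rw [Hom.one_def, toUnit_unique (toUnit _) (𝟙 _)]; simp
    rw [this, _root_.one_mul]
  mul_hom := by
    have h : ∀ (u : X ⟶ H), (u ⊗ₘ u) ≫ μ[H] = (fst X X ≫ u) * (snd X X ≫ u) := fun u => by
      rw [Hom.mul_def]; congr 1
    rw [h, MonObj.comp_mul, IsMonHom.mul_hom f, IsMonHom.mul_hom g, h, h, MonObj.comp_mul, MonObj.comp_mul]
    exact mul_mul_mul_comm _ _ _ _

open Limits in
theorem geometricallyReduced_tensor {k : Type u} [Field k] (A B : Over (Spec (CommRingCat.of k))) [GeometricallyReduced A.hom]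
    [GeometricallyReduced B.hom] : GeometricallyReduced (A ⊗ B).hom := by
  refine ⟨geometrically_iff_of_commRing_of_isClosedUnderIsomorphisms.mpr fun L _ _ => ?_⟩
  let g : Spec (CommRingCat.of L) ⟶ Spec (CommRingCat.of k) := Groth.Agent.FBase.BC.specMap k L
  haveI : IsReduced (pullback B.hom g) :=
    GeometricallyReduced.geometrically_isReduced _ _ _ (IsPullback.of_hasPullback B.hom g)
  haveI : IsReduced (pullback A.hom (pullback.fst B.hom g ≫ B.hom)) := Groth.Agent.FBase.BC.isReduced_pullback _ _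
  have h : IsPullback (pullback.lift (pullback.fst A.hom (pullback.fst B.hom g ≫ B.hom))
      (pullback.snd A.hom (pullback.fst B.hom g ≫ B.hom) ≫ pullback.fst B.hom g)
      (by rw [Category.assoc]; exact pullback.condition))
      (pullback.snd A.hom (pullback.fst B.hom g ≫ B.hom)) (pullback.snd A.hom B.hom) (pullback.fst B.hom g) := by
    refine IsPullback.of_right ?_ (pullback.lift_snd _ _ _) (IsPullback.of_hasPullback A.hom B.hom)
    rw [pullback.lift_fst]
    exact IsPullback.of_hasPullback A.hom (pullback.fst B.hom g ≫ B.hom)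
  have h2 := h.paste_vert (IsPullback.of_hasPullback B.hom g)
  have e : pullback.snd A.hom B.hom ≫ B.hom = (A ⊗ B).hom := pullback.condition.symm
  rw [e] at h2
  exact isReduced_of_isOpenImmersion h2.isoPullback.inv

open Groth.Agent in
theorem exists_image {k : Type u} [Field k] (G : Over (Spec (CommRingCat.of k))) [GrpObj G]
    [LocallyOfFiniteType G.hom] (A : Over (Spec (CommRingCat.of k))) [GrpObj A] [IsProper A.hom]
    [GeometricallyReduced A.hom] [ConnectedSpace ↥A.left] (φ : A ⟶ G) [IsMonHom φ] :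
    ∃ (M : Over (Spec (CommRingCat.of k))) (_ : GrpObj M) (i : M ⟶ G), IsMonHom i ∧ IsClosedImmersion i.left ∧
      IsProper M.hom ∧ GeometricallyIntegral M.hom ∧ Set.range i.left = Set.range φ.left := by
  haveI := GrpScheme.IdComponent.isSeparated G
  haveI : IsProper (φ.left ≫ G.hom) := by rw [Over.w φ]; infer_instance
  haveI : IsProper φ.left := IsProper.of_comp φ.left G.hom
  let C : TopologicalSpace.Closeds G.left := ⟨Set.range φ.left, φ.left.isClosedMap.isClosed_range⟩
  let I := Scheme.IdealSheafData.vanishingIdeal C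
  let M : Over (Spec (CommRingCat.of k)) := Over.mk (I.subschemeι ≫ G.hom)
  let i : M ⟶ G := Over.homMk I.subschemeι rfl
  haveI : IsClosedImmersion i.left := inferInstanceAs (IsClosedImmersion I.subschemeι)
  haveI : IsReduced M.left := RedSub.isReduced_vanishingIdeal C
  have hr : Set.range i.left = Set.range φ.left := RedSub.range_vanishingIdeal_subschemeι C
  haveI : IsReduced A.left := GeometricallyReduced.isReduced_of_flat_of_isLocallyNoetherian A.hom
  obtain ⟨ψ, hψ⟩ := RedSub.exists_lift_closed i.left φ.left hr.superset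
  haveI : Surjective ψ := ⟨fun m => by
    obtain ⟨a, ha⟩ : i.left m ∈ Set.range φ.left := hr ▸ ⟨m, rfl⟩
    refine ⟨a, i.left.isClosedEmbedding.injective ?_⟩
    rw [← Scheme.Hom.comp_apply, hψ, ha]⟩
  have hψM : ψ ≫ M.hom = A.hom := by rw [← Over.w i, reassoc_of% hψ, Over.w φ]
  haveI : GeometricallyReduced (ψ ≫ M.hom) := by rw [hψM]; infer_instance
  haveI : GeometricallyReduced M.hom := geometricallyReduced_of_surjective ψ M.hom
  let ψo : A ⟶ M := Over.homMk ψ hψM
  have hψo : ψo ≫ i = φ := Over.OverMorphism.ext hψ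
  haveI : Mono i.left := inferInstance
  haveI : Mono i := Over.mono_of_mono_left _
  haveI : IsReduced (M ⊗ M).left := FBase.BC.isReduced_pullback M.hom M.hom
  haveI : IsReduced (𝟙_ (Over (Spec (CommRingCat.of k)))).left :=
    inferInstanceAs (IsReduced (Spec (CommRingCat.of k)))
  have factor : ∀ {T : Over (Spec (CommRingCat.of k))} [IsReduced T.left] (f : T ⟶ G),
      Set.range f.left ⊆ Set.range φ.left → ∃ m : T ⟶ M, m ≫ i = f := by
    intro T _ f hf
    obtain ⟨m, hm⟩ := RedSub.exists_lift_closed i.left f.left (hr ▸ hf)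
    exact ⟨Over.homMk m (by rw [← Over.w i, reassoc_of% hm, Over.w]), Over.OverMorphism.ext hm⟩
  have hmul : Set.range ((fst M M ≫ i) * (snd M M ≫ i)).left ⊆ Set.range φ.left := by
    rintro _ ⟨p, rfl⟩
    haveI : Surjective (ψo ⊗ₘ ψo).left := by
      rw [show (ψo ⊗ₘ ψo).left = Limits.pullback.map A.hom A.hom M.hom M.hom ψ ψ (𝟙 _)
        (by rw [Category.comp_id, hψM]) (by rw [Category.comp_id, hψM]) from ?_]
      · refine ⟨fun p => ?_⟩
        rw [← Set.mem_range, Scheme.Pullback.range_map]
        exact ⟨ψ.surjective _, ψ.surjective _⟩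
      · apply Limits.pullback.hom_ext
        · rw [Limits.pullback.lift_fst]
          exact (Over.comp_left _ _ _ _ _).symm.trans (congrArg CommaMorphism.left (tensorHom_fst ψo ψo))
        · rw [Limits.pullback.lift_snd]
          exact (Over.comp_left _ _ _ _ _).symm.trans (congrArg CommaMorphism.left (tensorHom_snd ψo ψo))
    obtain ⟨q, rfl⟩ := (ψo ⊗ₘ ψo).left.surjective p
    have e : (ψo ⊗ₘ ψo) ≫ ((fst M M ≫ i) * (snd M M ≫ i)) = (fst A A * snd A A) ≫ φ := by
      rw [MonObj.comp_mul, tensorHom_fst_assoc, tensorHom_snd_assoc, MonObj.mul_comp, hψo]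
    rw [← Scheme.Hom.comp_apply, ← Over.comp_left, e, Over.comp_left, Scheme.Hom.comp_apply]
    exact ⟨_, rfl⟩
  have hone : Set.range η[G].left ⊆ Set.range φ.left := by
    rw [← IsMonHom.one_hom φ, Over.comp_left]
    rintro _ ⟨p, rfl⟩
    rw [Scheme.Hom.comp_apply]
    exact ⟨_, rfl⟩
  have hinv : Set.range (i ≫ ι[G]).left ⊆ Set.range φ.left := by
    rintro _ ⟨p, rfl⟩
    obtain ⟨a, rfl⟩ := ψ.surjective p
    have e : ψo ≫ i ≫ ι[G] = ι[A] ≫ φ := by
      rw [← Category.assoc, hψo, ← Hom.inv_def, show ι[A] = (𝟙 A)⁻¹ by rw [Hom.inv_def, Category.id_comp],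
        GrpObj.inv_comp, Category.id_comp]
    rw [show ψ a = ψo.left a from rfl, ← Scheme.Hom.comp_apply, ← Over.comp_left, e, Over.comp_left,
      Scheme.Hom.comp_apply]
    exact ⟨_, rfl⟩
  obtain ⟨gM, hgM⟩ := GrpScheme.SubgroupObj.exists_grpObj i
    (by
      obtain ⟨m, hm⟩ := factor _ hmul
      exact ⟨m, hm.trans (by rw [Hom.mul_def]; congr 1)⟩)
    (factor _ hone) (factor _ hinv)
  haveI : ConnectedSpace ↥M.left := ψ.surjective.connectedSpace ψ.continuous
  haveI : IsProper M.hom := by
    haveI : UniversallyClosed (ψ ≫ M.hom) := by rw [hψM]; infer_instance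
    haveI : IsSeparated M.hom := by rw [← Over.w i]; infer_instance
    haveI : UniversallyClosed M.hom := UniversallyClosed.of_comp_surjective ψ M.hom
    haveI : LocallyOfFiniteType M.hom := by rw [← Over.w i]; infer_instance
    exact ⟨⟩
  haveI : GeometricallyIrreducible M.hom :=
    haveI := AbVarLib.Basics.irreducibleSpace_of_connectedSpace M
    GrpScheme.Component.geometricallyIrreducible_of_irreducibleSpace M
  exact ⟨M, gM, i, hgM, inferInstance, inferInstance,
    GeometricallyIntegral.of_geometricallyReduced_of_geometricallyIrreducible _, hr⟩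

/-- Let k be an arbitrary field and G a commutative group scheme locally of finite type over k. Then
there is a closed subgroup scheme M of G which is an abelian variety over k (proper and
geometrically integral) and through which every homomorphism A → G from an abelian variety A over k
(a geometrically reduced, connected, proper k-group scheme) factors. -/
theorem result (k : Type u) [Field k]
    (G : Over (Spec (CommRingCat.of k))) [GrpObj G] [IsCommMonObj G] [LocallyOfFiniteType G.hom] :
    ∃ (M : Over (Spec (CommRingCat.of k))) (_ : GrpObj M) (i : M ⟶ G), IsMonHom i ∧ IsClosedImmersion i.left ∧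
      IsProper M.hom ∧ GeometricallyIntegral M.hom ∧
      ∀ (A : Over (Spec (CommRingCat.of k))) [GrpObj A] [IsProper A.hom] [GeometricallyReduced A.hom] [ConnectedSpace ↥A.left]
        (φ : A ⟶ G), IsMonHom φ → ∃ ψ : A ⟶ M, ψ ≫ i = φ := by
  classical
  letI : G.left.Over (Spec (CommRingCat.of k)) := ⟨G.hom⟩
  haveI : LocallyOfFiniteType (G.left ↘ Spec (CommRingCat.of k)) := ‹LocallyOfFiniteType G.hom›
  let Good : G.left → Prop := fun x => ∃ (M : Over (Spec (CommRingCat.of k))) (_ : GrpObj M) (i : M ⟶ G),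
    IsMonHom i ∧ IsClosedImmersion i.left ∧ IsProper M.hom ∧ GeometricallyIntegral M.hom ∧
      IsGenericPoint x (Set.range i.left)
  have good : ∀ (A : Over (Spec (CommRingCat.of k))) [GrpObj A] [IsProper A.hom] [GeometricallyReduced A.hom]
      [ConnectedSpace ↥A.left] (φ : A ⟶ G) [IsMonHom φ], ∃ x, Good x ∧ IsGenericPoint x (Set.range φ.left) := by
    intro A _ _ _ _ φ _
    obtain ⟨M, gM, i, h1, h2, h3, h4, hr⟩ := exists_image G A φ
    haveI := h4
    haveI : IsIntegral M.left := GeometricallyIntegral.isIntegral_of_subsingleton M.hom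
    have hg : IsGenericPoint (i.left (genericPoint M.left)) (Set.range i.left) := by
      have h := (genericPoint_spec M.left).image i.left.continuous
      rwa [Set.image_univ, i.left.isClosedEmbedding.isClosed_range.closure_eq] at h
    exact ⟨_, ⟨M, gM, i, h1, h2, h3, h4, hg⟩, hr ▸ hg⟩
  -- the set of dimensions is bounded
  let e₀ := Groth.Agent.GrpScheme.IdComponent.e₀ G
  obtain ⟨gen₀, hgen⟩ : ∃ gen₀, IsGenericPoint gen₀ (irreducibleComponent e₀) :=
    ⟨_, isIrreducible_irreducibleComponent.isGenericPoint_genericPoint isClosed_irreducibleComponent⟩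
  have hle : ∀ x, Good x → Groth.Agent.VarDim.dimPt k G.left x ≤ Groth.Agent.VarDim.dimPt k G.left gen₀ := by
    rintro x ⟨M, gM, i, h1, h2, h3, h4, hx⟩
    haveI := h4
    haveI : IsIntegral M.left := GeometricallyIntegral.isIntegral_of_subsingleton M.hom
    have he : e₀ ∈ Set.range i.left := ⟨η[M].left (IsLocalRing.closedPoint k), by
      rw [← Scheme.Hom.comp_apply, ← Over.comp_left, IsMonHom.one_hom i]⟩
    have hsub : Set.range i.left ⊆ irreducibleComponent e₀ := by
      rw [← Groth.Agent.GrpScheme.IdComponent.connectedComponent_eq]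
      exact (isConnected_range i.left.continuous).subset_connectedComponent he
    have hgx : gen₀ ⤳ x := hgen.specializes (hsub hx.mem)
    rcases eq_or_ne x gen₀ with rfl | hne
    · exact le_rfl
    · exact (Groth.Agent.VarDim.dimPt_lt_of_lt k (lt_iff_le_not_ge.mpr ⟨hgx,
        fun h => hne (Inseparable.eq (Specializes.antisymm h hgx))⟩)).le
  haveI : GeometricallyReduced (𝟙_ (Over (Spec (CommRingCat.of k)))).hom :=
    Groth.Agent.AbVarLib.Basics.geometricallyReduced_of_smooth (𝟙 (Spec (CommRingCat.of k)))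
  haveI : IsProper (𝟙_ (Over (Spec (CommRingCat.of k)))).hom :=
    inferInstanceAs (IsProper (𝟙 (Spec (CommRingCat.of k))))
  haveI : ConnectedSpace ↥(𝟙_ (Over (Spec (CommRingCat.of k)))).left :=
    inferInstanceAs (ConnectedSpace ↥(Spec (CommRingCat.of k)))
  have hne : {n | ∃ x, Good x ∧ Groth.Agent.VarDim.dimPt k G.left x = n}.Nonempty := by
    obtain ⟨x, hx, -⟩ := good (𝟙_ _) η[G]
    exact ⟨_, x, hx, rfl⟩
  obtain ⟨n, ⟨xM, hxM, hnx⟩, hmax⟩ : ∃ n, (∃ x, Good x ∧ Groth.Agent.VarDim.dimPt k G.left x = n) ∧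
      ∀ y, Good y → Groth.Agent.VarDim.dimPt k G.left y ≤ n := by
    have hb : BddAbove {n | ∃ x, Good x ∧ Groth.Agent.VarDim.dimPt k G.left x = n} :=
      ⟨Groth.Agent.VarDim.dimPt k G.left gen₀, by rintro _ ⟨x, hx, rfl⟩; exact hle x hx⟩
    exact ⟨_, Nat.sSup_mem hne hb, fun y hy => le_csSup hb ⟨y, hy, rfl⟩⟩
  obtain ⟨M, gM, i, h1, h2, h3, h4, hxi⟩ := hxM
  haveI := h1
  haveI := h2
  haveI := h3
  haveI := h4
  refine ⟨M, gM, i, h1, h2, h3, h4, fun A _ _ _ _ φ hφ => ?_⟩
  haveI := hφ
  haveI : IsReduced A.left := GeometricallyReduced.isReduced_of_flat_of_isLocallyNoetherian A.hom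
  haveI : GeometricallyIrreducible A.hom :=
    haveI := Groth.Agent.AbVarLib.Basics.irreducibleSpace_of_connectedSpace A
    Groth.Agent.GrpScheme.Component.geometricallyIrreducible_of_irreducibleSpace A
  haveI : GeometricallyIntegral A.hom := GeometricallyIntegral.of_geometricallyReduced_of_geometricallyIrreducible _
  haveI : GeometricallyIntegral (M ⊗ A).hom := by
    haveI : GeometricallyReduced (M ⊗ A).hom := geometricallyReduced_tensor M A
    haveI : GeometricallyIrreducible (M ⊗ A).hom := by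
      show GeometricallyIrreducible (Limits.pullback.fst M.hom A.hom ≫ M.hom)
      exact GeometricallyIrreducible.comp _ _
    exact GeometricallyIntegral.of_geometricallyReduced_of_geometricallyIrreducible _
  haveI : IsProper (M ⊗ A).hom := inferInstanceAs (IsProper (Limits.pullback.fst M.hom A.hom ≫ M.hom))
  haveI : IsIntegral (M ⊗ A).left := GeometricallyIntegral.isIntegral_of_subsingleton (M ⊗ A).hom
  let Φ : M ⊗ A ⟶ G := (fst M A ≫ i) * (snd M A ≫ φ)
  haveI : IsMonHom Φ := isMonHom_mul' (fst M A ≫ i) (snd M A ≫ φ)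
  obtain ⟨y, hy, hyg⟩ := good (M ⊗ A) Φ
  have hiΦ : Set.range i.left ⊆ Set.range Φ.left := by
    rintro _ ⟨m, rfl⟩
    refine ⟨(lift (𝟙 M) (1 : M ⟶ A)).left m, ?_⟩
    rw [← Scheme.Hom.comp_apply, ← Over.comp_left]
    have : lift (𝟙 M) (1 : M ⟶ A) ≫ Φ = i := by
      rw [MonObj.comp_mul, lift_fst_assoc, lift_snd_assoc, MonObj.one_comp, _root_.mul_one, Category.id_comp]
    rw [this]
  have hφΦ : Set.range φ.left ⊆ Set.range Φ.left := by
    rintro _ ⟨a, rfl⟩
    refine ⟨(lift (1 : A ⟶ M) (𝟙 A)).left a, ?_⟩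
    rw [← Scheme.Hom.comp_apply, ← Over.comp_left]
    have : lift (1 : A ⟶ M) (𝟙 A) ≫ Φ = φ := by
      rw [MonObj.comp_mul, lift_fst_assoc, lift_snd_assoc, MonObj.one_comp, _root_.one_mul, Category.id_comp]
    rw [this]
  have heq : y = xM := by
    by_contra hne'
    have hsp : y ⤳ xM := hyg.specializes (hiΦ hxi.mem)
    have hlt : xM < y := lt_iff_le_not_ge.mpr ⟨hsp, fun h => hne' (Inseparable.eq (Specializes.antisymm hsp h))⟩
    have := Groth.Agent.VarDim.dimPt_lt_of_lt k hlt
    have := hmax y hy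
    omega
  have hrange : Set.range φ.left ⊆ Set.range i.left := by
    refine hφΦ.trans (Eq.subset ?_)
    rw [← hyg.def, heq, hxi.def]
  obtain ⟨ψ, hψ⟩ := Groth.Agent.RedSub.exists_lift_closed i.left φ.left hrange
  exact ⟨Over.homMk ψ (by rw [← Over.w i, reassoc_of% hψ, Over.w]), Over.OverMorphism.ext hψ⟩

end Groth.Agent.S14820
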