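import Groth.Statements.S7552
-- import your own Groth.Agent.* helpers here

set_option autoImplicit false
universe u
open PtTop

namespace Groth.Agent.S7552

/-- the point `x` as an irreducible closed set -/
def cl {X : Type u} [TopologicalSpace X] (x : X) : TopologicalSpace.IrreducibleCloseds X :=
  ⟨closure {x}, isIrreducible_singleton.closure, isClosed_closure⟩

open TopologicalSpace in
/-- Let f : X → Y be a continuous surjective map of topological spaces with Y sober, and assume that
specializations lift along f or that generalizations lift along f. Then dim X ≥ dim Y (Krull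
dimensions as suprema of lengths of chains of irreducible closed subsets). -/
theorem result {X Y : Type u}
    [TopologicalSpace X] [TopologicalSpace Y] [QuasiSober Y] [T0Space Y]
    (f : X → Y) (hf : Continuous f) (hsurj : Function.Surjective f)
    (hlift : SpecializingMap f ∨ GeneralizingMap f) :
    topologicalKrullDim Y ≤ topologicalKrullDim X := by
  have lift_gen : GeneralizingMap f → ∀ s : LTSeries (IrreducibleCloseds Y), ∀ x : X,
      closure {f x} = (s.head : Set Y) → ∃ t : LTSeries (IrreducibleCloseds X),
        t.length = s.length ∧ (t.head : Set X) = closure {x} := by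
    intro hg s
    induction s using RelSeries.inductionOn with
    | singleton a => exact fun x _ => ⟨RelSeries.singleton _ (cl x), rfl, rfl⟩
    | cons p a hlt ih =>
      intro x hx
      rw [RelSeries.head_cons] at hx
      have hg' := p.head.isIrreducible.isGenericPoint_genericPoint p.head.isClosed
      have : p.head.isIrreducible.genericPoint ⤳ f x := hg'.specializes
        (le_of_lt (α := IrreducibleCloseds Y) hlt ((Set.ext_iff.mp hx (f x)).mp (subset_closure rfl)))
      obtain ⟨x', hx', hfx'⟩ := hg this
      obtain ⟨t, ht, hth⟩ := ih x' (hfx' ▸ hg')
      refine ⟨t.cons (cl x) ?_, by rw [RelSeries.cons_length, RelSeries.cons_length, ht], by rw [RelSeries.head_cons]; rfl⟩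
      change cl x < t.head
      refine lt_of_le_of_ne ?_ ?_
      · change closure {x} ⊆ (t.head : Set X)
        rw [hth]; exact specializes_iff_closure_subset.mp hx'
      · intro h
        have hi : Inseparable x x' := inseparable_iff_closure_eq.mpr
          ((congrArg (fun w : IrreducibleCloseds X => (w : Set X)) h).trans hth)
        have := (hi.map hf).eq
        rw [hfx'] at this
        exact hlt.ne (IrreducibleCloseds.ext (by rw [← hx, this]; exact hg'))
  have lift_spec : SpecializingMap f → ∀ s : LTSeries (IrreducibleCloseds Y),
      ∃ t : LTSeries (IrreducibleCloseds X), ∃ x : X,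
        t.length = s.length ∧ closure {f x} = (s.head : Set Y) ∧ (t.head : Set X) = closure {x} := by
    intro hsp s
    induction s using RelSeries.inductionOn with
    | singleton a =>
      obtain ⟨x, hx⟩ := hsurj a.isIrreducible.genericPoint
      exact ⟨RelSeries.singleton _ (cl x), x, rfl,
        hx ▸ a.isIrreducible.closure_genericPoint a.isClosed, rfl⟩
    | cons p a hlt ih =>
      obtain ⟨t, x', ht, hfx', hth⟩ := ih
      have ha := a.isIrreducible.isGenericPoint_genericPoint a.isClosed
      have : f x' ⤳ a.isIrreducible.genericPoint := by
        rw [specializes_iff_mem_closure, hfx']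
        exact le_of_lt (α := IrreducibleCloseds Y) hlt ha.mem
      obtain ⟨x, hx, hfx⟩ := hsp this
      refine ⟨t.cons (cl x) ?_, x, by rw [RelSeries.cons_length, RelSeries.cons_length, ht],
        by rw [RelSeries.head_cons, hfx]; exact ha, by rw [RelSeries.head_cons]; rfl⟩
      change cl x < t.head
      refine lt_of_le_of_ne ?_ ?_
      · change closure {x} ⊆ (t.head : Set X)
        rw [hth]; exact specializes_iff_closure_subset.mp hx
      · intro h
        have hi : Inseparable x x' := inseparable_iff_closure_eq.mpr
          ((congrArg (fun w : IrreducibleCloseds X => (w : Set X)) h).trans hth)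
        have := (hi.map hf).eq
        rw [← this, hfx] at hfx'
        exact hlt.ne (IrreducibleCloseds.ext (ha.symm.trans hfx'))
  refine iSup_le fun s => ?_
  rcases hlift with h | h
  · obtain ⟨t, -, ht, -, -⟩ := lift_spec h s
    exact le_iSup_of_le t (le_of_eq (by rw [ht]))
  · obtain ⟨x, hx⟩ := hsurj s.head.isIrreducible.genericPoint
    obtain ⟨t, ht, -⟩ := lift_gen h s x
      (hx ▸ s.head.isIrreducible.closure_genericPoint s.head.isClosed)
    exact le_iSup_of_le t (le_of_eq (by rw [ht]))

end Groth.Agent.S7552
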