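import Groth.Statements.S14822
import Groth.Agent.S2422
import Groth.Agent.Fibration.Basic
import Groth.Agent.S7552
import Groth.Agent.S10830
import Groth.Agent.FBase.Dim
-- import your own Groth.Agent.* helpers here

set_option autoImplicit false
universe u
open CategoryTheory CategoryTheory.Limits AlgebraicGeometry
open CohIII

namespace Groth.Agent.S14822

section Helper

open AlgebraicGeometry CategoryTheory TopologicalSpace Opposite Groth.Agent.S2422

variable {X Y : Scheme.{u}} (f : X ⟶ Y)

/-- A proper closed subset of an irreducible finite-dimensional space cannot surject onto a space of the same dimension. -/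
theorem image_ne_univ [IrreducibleSpace X] (hclosed : IsClosedMap f.base) (hfin : topologicalKrullDim X ≠ ⊤)
    (hdim : topologicalKrullDim X = topologicalKrullDim Y) (Z : Set X) (hZ : IsClosed Z) (hne : Z ≠ Set.univ) :
    f.base '' Z ≠ Set.univ := fun he => by
  let g : Z → Y := fun z => f.base z.1
  have hg : Continuous g := f.continuous.comp continuous_subtype_val
  have hsurj : Function.Surjective g := fun y => by
    obtain ⟨z, hz, rfl⟩ := he.ge (Set.mem_univ y)
    exact ⟨⟨z, hz⟩, rfl⟩
  have hcl : IsClosedMap g := hclosed.comp hZ.isClosedMap_subtype_val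
  have h1 := Groth.Agent.S7552.result g hg hsurj (Or.inl hcl.specializingMap)
  have h2 := Groth.Agent.S10830.result X hfin Z hZ hne
  exact (hdim ▸ h1).not_gt h2

variable [IsIntegral X] [IsIntegral Y] (hdom : f.base (genericPoint X) ⤳ genericPoint Y)
include hdom

theorem surjective_of_fibration (hclosed : IsClosedMap f.base) (hfin : topologicalKrullDim X ≠ ⊤)
    (hdim : topologicalKrullDim X = topologicalKrullDim Y) (h : ∀ U : Y.Opens, IsIso (f.app U)) :
    Function.Surjective (CohIII.stalkToFunctionField f (genericPoint Y) hdom) := by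
  intro x
  obtain ⟨W, hW, c, rfl⟩ := X.presheaf.exists_germ_eq x
  have hne : ((W : Set X)ᶜ) ≠ Set.univ := fun he => (he.ge (Set.mem_univ (genericPoint X))) hW
  obtain ⟨y, hy⟩ := (Set.ne_univ_iff_exists_notMem _).1
    (image_ne_univ f hclosed hfin hdim _ W.isOpen.isClosed_compl hne)
  let O : Y.Opens := ⟨(f.base '' (W : Set X)ᶜ)ᶜ, (hclosed _ W.isOpen.isClosed_compl).isOpen_compl⟩
  obtain ⟨_, ⟨V, hV, rfl⟩, hyV, hVO⟩ :=
    Y.isBasis_affineOpens.exists_subset_of_mem_open (show y ∈ (O : Set Y) from hy) O.isOpen
  have hVne : Nonempty V := ⟨⟨y, hyV⟩⟩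
  have hle : f ⁻¹ᵁ V ≤ W := fun z hz => by_contra fun hzW => hVO hz ⟨z, hzW, rfl⟩
  haveI := h V
  obtain ⟨a, ha⟩ := (ConcreteCategory.bijective_of_isIso (f.app V)).2 (X.presheaf.map (homOfLE hle).op c)
  refine ⟨_, (stalkToFunctionField_germ f hdom hVne a).trans ?_⟩
  rw [ha]
  exact TopCat.Presheaf.germ_res_apply X.presheaf _ _ _ c

end Helper

/-- Let k be a field and f : X → Y a surjective k-morphism between integral proper k-schemes of the same
dimension, with Y normal (all local rings integrally closed domains). Then f is a fibration (Γ(U,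
O_Y) → Γ(f⁻¹U, O_X) bijective for every open U ⊆ Y) if and only if f is birational: the embedding
K(Y) → K(X) of function fields given by the stalk map at the generic points is bijective. -/
theorem result (k : Type u) [Field k]
    (X Y : Scheme.{u}) [X.Over (Spec (CommRingCat.of k))] [Y.Over (Spec (CommRingCat.of k))]
    [IsProper (X ↘ Spec (CommRingCat.of k))] [IsProper (Y ↘ Spec (CommRingCat.of k))] [IsIntegral X] [IsIntegral Y]
    (hY : Pi1.IsNormalScheme Y) (f : X ⟶ Y) [Surjective f] (hf : f ≫ (Y ↘ Spec (CommRingCat.of k)) = X ↘ Spec (CommRingCat.of k))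
    (hdim : topologicalKrullDim ↥X = topologicalKrullDim ↥Y)
    (h : f.base (genericPoint ↥X) ⤳ genericPoint ↥Y) :
    (∀ U : Y.Opens, IsIso (f.app U)) ↔ Function.Bijective (CohIII.stalkToFunctionField f (genericPoint ↥Y) h) := by
  have : IsProper f := Groth.Agent.Fibration.isProper_of_over f _ _ hf
  refine ⟨fun hf' => ⟨RingHom.injective _, ?_⟩, fun hbij => ?_⟩
  · obtain ⟨n, hn⟩ := Groth.Agent.FBase.Dim.exists_natCast_eq_topDim (X ↘ Spec (CommRingCat.of k))
    refine surjective_of_fibration f h f.isClosedMap ?_ hdim hf'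
    rw [hn]
    exact fun he => ENat.coe_ne_top n (WithBot.coe_injective he)
  · haveI : IsLocallyNoetherian X := LocallyOfFiniteType.isLocallyNoetherian (X ↘ Spec (CommRingCat.of k))
    haveI : IsLocallyNoetherian Y := LocallyOfFiniteType.isLocallyNoetherian (Y ↘ Spec (CommRingCat.of k))
    exact Groth.Agent.S2422.result hY f h fun x _ => hbij.2 x

end Groth.Agent.S14822
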