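import Groth.Statements.S14825
import Groth.Agent.AbVarLib.Pointed
import Groth.Agent.AbVarLib.H0Field

set_option autoImplicit false
universe u
open CategoryTheory MonoidalCategory CartesianMonoidalCategory MonObj GrpObj AlgebraicGeometry
open AbVar

namespace Groth.Agent.S14825

/-- In the pointed case, let k be a field and X a proper k-scheme with H^0(X, O_X) one-dimensional and a
k-rational point x₀; let alb : X → A be the Albanese morphism (A an abelian variety over k — proper,
geometrically integral group scheme — with alb(x₀) = 0, universal among pointed k-morphisms from X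
to abelian varieties, the latter being geometrically reduced, connected, proper group schemes). Then
X has Albanese dimension zero, i.e. the image of alb is a single point of A (X is connected, so this
says the image is zero-dimensional), if and only if A is the trivial abelian variety, i.e. A → Spec
k is an isomorphism. (The published statement does not assume a rational point (it works with the
Albanese torsor); this row assumes one.) -/
theorem result (k : Type u) [Field k] (X : Scheme.{u}) [X.Over (Spec (CommRingCat.of k))]
    [IsProper (X ↘ Spec (CommRingCat.of k))] (h0 : Module.finrank k (Coh.HH X (Coh.structureModule X) 0) = 1)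
    (x₀ : 𝟙_ (Over (Spec (CommRingCat.of k))) ⟶ Over.mk (X ↘ Spec (CommRingCat.of k)))
    (A : Over (Spec (CommRingCat.of k))) [GrpObj A] [IsProper A.hom] [GeometricallyIntegral A.hom]
    (alb : Over.mk (X ↘ Spec (CommRingCat.of k)) ⟶ A) (halb : x₀ ≫ alb = η[A])
    (huniv : ∀ (B : Over (Spec (CommRingCat.of k))) [GrpObj B] [IsProper B.hom] [GeometricallyReduced B.hom] [ConnectedSpace ↥B.left]
      (g : Over.mk (X ↘ Spec (CommRingCat.of k)) ⟶ B), x₀ ≫ g = η[B] → ∃! h : A ⟶ B, IsMonHom h ∧ alb ≫ h = g) :
    (Set.range alb.left.base).Subsingleton ↔ IsIso A.hom := by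
  constructor
  · intro hsub
    have hbij := AbVarLib.H0Field.bijective_appTop h0
    have hπ : IsIso (X ↘ Spec (CommRingCat.of k)).appTop :=
      (ConcreteCategory.isIso_iff_bijective _).mpr hbij
    have hx : x₀.left ≫ (X ↘ Spec (CommRingCat.of k)) = 𝟙 (Spec (CommRingCat.of k)) := Over.w x₀
    let p : ↥(Spec (CommRingCat.of k)) := Classical.arbitrary _
    obtain ⟨_, ⟨V, hV, rfl⟩, haV, -⟩ := A.left.isBasis_affineOpens.exists_subset_of_mem_open
      (Set.mem_univ (alb.left.base (x₀.left.base p))) isOpen_univ
    let V' : A.left.Opens := V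
    have hrange : Set.range alb.left.base ⊆ Set.range V'.ι.base := by
      rw [Scheme.Opens.range_ι]
      rintro _ ⟨x, rfl⟩
      rw [hsub ⟨x, rfl⟩ ⟨x₀.left.base p, rfl⟩]
      exact haV
    have : IsAffine V' := hV
    let l := IsOpenImmersion.lift V'.ι alb.left hrange
    have hl : l = (X ↘ Spec (CommRingCat.of k)) ≫ x₀.left ≫ l := by
      apply ext_of_isAffine
      have h1 : (X ↘ Spec (CommRingCat.of k)).appTop ≫ x₀.left.appTop = 𝟙 _ := by
        rw [← Scheme.Hom.comp_appTop, hx, Scheme.Hom.id_appTop]
      have h2 : x₀.left.appTop ≫ (X ↘ Spec (CommRingCat.of k)).appTop = 𝟙 _ := by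
        rw [← cancel_epi (X ↘ Spec (CommRingCat.of k)).appTop, reassoc_of% h1]
        exact (Category.comp_id _).symm
      rw [Scheme.Hom.comp_appTop, Scheme.Hom.comp_appTop, Category.assoc, h2, Category.comp_id]
    have halb' : alb = 1 := by
      have e : alb = toUnit _ ≫ x₀ ≫ alb := by
        apply Over.OverMorphism.ext
        have := congrArg (fun q => q ≫ V'.ι) hl
        simp only [l, Category.assoc, IsOpenImmersion.lift_fac] at this
        exact this
      rw [halb] at e
      exact e
    have : ConnectedSpace ↥A.left :=
      haveI := GeometricallyIntegral.isIntegral_of_subsingleton A.hom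
      inferInstance
    obtain ⟨h, -, huq⟩ := huniv A alb halb
    have e1 := huq (𝟙 A) ⟨inferInstance, Category.comp_id _⟩
    have e2 := huq 1 ⟨AbVarLib.Pointed.isMonHom _ (by rw [MonObj.comp_one, one_eq_one]),
      by rw [MonObj.comp_one, halb']⟩
    have e3 : A.hom ≫ η[A].left = 𝟙 A.left :=
      congrArg CommaMorphism.left (e2.trans e1.symm)
    exact ⟨η[A].left, e3, Over.w η[A]⟩
  · intro hiso
    have : Subsingleton ↥A.left := (Scheme.homeoOfIso (asIso A.hom)).injective.subsingleton
    exact Set.subsingleton_of_subsingleton

end Groth.Agent.S14825
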