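import Groth.Statements.S14827
import Groth.Agent.AbVarLib.Pointed

set_option autoImplicit false
universe u
open CategoryTheory MonoidalCategory CartesianMonoidalCategory MonObj GrpObj AlgebraicGeometry
open AbVar

namespace Groth.Agent.S14827

/-- Over a field k (the published statement is over a base scheme S), let X be a proper k-scheme with
H^0(X, O_X) one-dimensional and a k-rational point x₀, and alb : X → A the Albanese morphism for the
base point x₀ (A an abelian variety — proper, geometrically integral group scheme — with alb(x₀) =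
0, universal among pointed morphisms to geometrically reduced, connected, proper group schemes). For
a second k-rational point x₁ let alb' = alb · (constant map with value alb(x₁))⁻¹, i.e. alb followed
by the translation of A by −alb(x₁). Then alb' is the Albanese morphism of X pointed by x₁: alb'(x₁)
= 0, and every k-morphism g : X → B to an abelian variety B with g(x₁) = 0 equals alb' ≫ h for a
unique homomorphism h : A → B. -/
theorem result (k : Type u) [Field k] (X : Scheme.{u}) [X.Over (Spec (CommRingCat.of k))]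
    [IsProper (X ↘ Spec (CommRingCat.of k))] (h0 : Module.finrank k (Coh.HH X (Coh.structureModule X) 0) = 1)
    (x₀ : 𝟙_ (Over (Spec (CommRingCat.of k))) ⟶ Over.mk (X ↘ Spec (CommRingCat.of k)))
    (A : Over (Spec (CommRingCat.of k))) [GrpObj A] [IsProper A.hom] [GeometricallyIntegral A.hom]
    (alb : Over.mk (X ↘ Spec (CommRingCat.of k)) ⟶ A) (halb : x₀ ≫ alb = η[A])
    (huniv : ∀ (B : Over (Spec (CommRingCat.of k))) [GrpObj B] [IsProper B.hom] [GeometricallyReduced B.hom] [ConnectedSpace ↥B.left]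
      (g : Over.mk (X ↘ Spec (CommRingCat.of k)) ⟶ B), x₀ ≫ g = η[B] → ∃! h : A ⟶ B, IsMonHom h ∧ alb ≫ h = g)
    (x₁ : 𝟙_ (Over (Spec (CommRingCat.of k))) ⟶ Over.mk (X ↘ Spec (CommRingCat.of k))) :
    x₁ ≫ (alb * (toUnit (Over.mk (X ↘ Spec (CommRingCat.of k))) ≫ x₁ ≫ alb)⁻¹) = η[A] ∧
    ∀ (B : Over (Spec (CommRingCat.of k))) [GrpObj B] [IsProper B.hom] [GeometricallyReduced B.hom] [ConnectedSpace ↥B.left]
      (g : Over.mk (X ↘ Spec (CommRingCat.of k)) ⟶ B), x₁ ≫ g = η[B] →
        ∃! h : A ⟶ B, IsMonHom h ∧ (alb * (toUnit (Over.mk (X ↘ Spec (CommRingCat.of k))) ≫ x₁ ≫ alb)⁻¹) ≫ h = g := by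
  refine ⟨by rw [MonObj.comp_mul, GrpObj.comp_inv, AbVarLib.Pointed.toUnit_self, mul_inv_cancel,
      one_eq_one], fun B _ _ _ _ g hg => ?_⟩
  obtain ⟨h, ⟨hh, hfac⟩, huq⟩ := huniv B
    (g * (toUnit (Over.mk (X ↘ Spec (CommRingCat.of k))) ≫ x₀ ≫ g)⁻¹)
    (by rw [MonObj.comp_mul, GrpObj.comp_inv, AbVarLib.Pointed.toUnit_self, mul_inv_cancel,
      one_eq_one])
  have key : ∀ (h' : A ⟶ B), IsMonHom h' →
      (alb * (toUnit (Over.mk (X ↘ Spec (CommRingCat.of k))) ≫ x₁ ≫ alb)⁻¹) ≫ h' =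
      (alb ≫ h') * (toUnit (Over.mk (X ↘ Spec (CommRingCat.of k))) ≫ x₁ ≫ alb ≫ h')⁻¹ := by
    intro h' hh'
    rw [MonObj.mul_comp, GrpObj.inv_comp, Category.assoc, Category.assoc]
  have hc : toUnit (Over.mk (X ↘ Spec (CommRingCat.of k))) ≫ x₁ ≫ alb ≫ h =
      (toUnit (Over.mk (X ↘ Spec (CommRingCat.of k))) ≫ x₀ ≫ g)⁻¹ := by
    rw [hfac, MonObj.comp_mul, GrpObj.comp_inv, AbVarLib.Pointed.toUnit_self, hg, one_eq_one,
      _root_.one_mul, GrpObj.comp_inv]
  refine ⟨h, ⟨hh, ?_⟩, fun h' h2 => huq h' ⟨h2.1, ?_⟩⟩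
  · rw [key h hh, hc, hfac, _root_.inv_inv, inv_mul_cancel_right]
  · obtain ⟨hh', hfac'⟩ := h2
    rw [key h' hh'] at hfac'
    subst hfac'
    rw [MonObj.comp_mul, GrpObj.comp_inv, AbVarLib.Pointed.toUnit_self, reassoc_of% halb,
      IsMonHom.one_hom, one_eq_one, _root_.one_mul, GrpObj.comp_inv, _root_.inv_inv,
      inv_mul_cancel_right]

end Groth.Agent.S14827
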