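import Groth.Statements.S14831
import Groth.Agent.CycPic.OfLine

set_option autoImplicit false
universe u
open CategoryTheory CategoryTheory.Limits AlgebraicGeometry
open PicF

namespace Groth.Agent.S14831

/-- Let X be an integral Noetherian scheme such that Γ(X, O_X) is a field, and L an invertible
O_X-module of exact order d ≥ 1 in Pic(X) (L^{⊗d} ≅ O_X and L^{⊗i} ≇ O_X for 0 < i < d). Then there
are a connected scheme X' and a finite locally free morphism g : X' → X of constant degree d (a
finite flat covering of degree d) with g^*L ≅ O_{X'}; if moreover d is invertible in Γ(X, O_X), such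
a g exists which is in addition étale. (The published proof constructs g as the spectrum of the
O_X-algebra O_X ⊕ L^{−1} ⊕ ⋯ ⊕ L^{−(d−1)}; this row states only existence.) -/
theorem result (X : Scheme.{u}) [IsIntegral X] [IsNoetherian X]
    (hfield : IsField (Γ(X, ⊤) : Type u)) (L : X.Modules) (hL : PicF.IsInvertible L) (d : ℕ) (hd : 0 < d)
    (hord : Nonempty (CohB1.tensorPow L d ≅ Coh.structureModule X))
    (hmin : ∀ i : ℕ, 0 < i → i < d → IsEmpty (CohB1.tensorPow L i ≅ Coh.structureModule X)) :
    (∃ (X' : Scheme.{u}) (g : X' ⟶ X), ConnectedSpace ↥X' ∧ Mor2.IsFinLocFreeOfDeg d g ∧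
        Nonempty ((Scheme.Modules.pullback g).obj L ≅ Coh.structureModule X')) ∧
      (IsUnit ((d : ℕ) : (Γ(X, ⊤) : Type u)) →
        ∃ (X' : Scheme.{u}) (g : X' ⟶ X), ConnectedSpace ↥X' ∧ Mor2.IsFinLocFreeOfDeg d g ∧ Etale g ∧
          Nonempty ((Scheme.Modules.pullback g).obj L ≅ Coh.structureModule X')) := by
  obtain ⟨φ⟩ := hord
  obtain ⟨C, hCd, ⟨P⟩⟩ := Groth.Agent.CycPic.exists_datum hL d hd φ
  subst hCd
  have hconn := Groth.Agent.CycPic.connectedSpace P hfield hmin
  have htriv := Groth.Agent.CycPic.pullback_trivial P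
  refine ⟨⟨C.Y, C.π, hconn, C.isFinLocFreeOfDeg, htriv⟩, fun hu => ⟨C.Y, C.π, hconn, C.isFinLocFreeOfDeg,
    C.etale (fun i => ?_), htriv⟩⟩
  have h1 := hu.map (X.presheaf.map (TopologicalSpace.Opens.leTop (C.W i)).op).hom
  rwa [map_natCast] at h1

end Groth.Agent.S14831
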