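import Groth.Statements.S14834


set_option autoImplicit false
universe u
open CategoryTheory MonoidalCategory CartesianMonoidalCategory MonObj GrpObj AlgebraicGeometry
open AbVar

namespace Groth.Agent.S14834

/-- Let k be a field, X a proper k-scheme with H^0(X, O_X) = k (k → Γ(X, O_X) bijective) and a
k-rational point x₀, and alb : X → A the Albanese morphism (A an abelian variety — proper,
geometrically integral group scheme — with alb(x₀) = 0, universal among pointed k-morphisms from X
to geometrically reduced, connected, proper group schemes). Let X → Y → A be a Stein factorisation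
of alb: Y proper over k, r : X → Y a k-morphism with O_Y → r_*O_X an isomorphism, s : Y → A finite
with r ≫ s = alb. Then s is the Albanese morphism of Y pointed at r(x₀): for every abelian variety B
and every k-morphism g : Y → B with g(r(x₀)) = 0 there is a unique homomorphism h : A → B with s ≫ h
= g. (The published statement has no rational point and also identifies the maximal abelian
subschemes of the Picard schemes of the Albanese, of Y and of X by pullback; this row is the pointed
statement about the Albanese of Y only.) -/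
theorem result (k : Type u) [Field k] (X Y : Over (Spec (CommRingCat.of k)))
    [IsProper X.hom] [IsProper Y.hom] (h0 : Function.Bijective (X.hom.appTop).hom)
    (x₀ : 𝟙_ (Over (Spec (CommRingCat.of k))) ⟶ X)
    (A : Over (Spec (CommRingCat.of k))) [GrpObj A] [IsProper A.hom] [GeometricallyIntegral A.hom]
    (alb : X ⟶ A) (halb : x₀ ≫ alb = η[A])
    (huniv : ∀ (B : Over (Spec (CommRingCat.of k))) [GrpObj B] [IsProper B.hom] [GeometricallyReduced B.hom] [ConnectedSpace ↥B.left]
      (g : X ⟶ B), x₀ ≫ g = η[B] → ∃! h : A ⟶ B, IsMonHom h ∧ alb ≫ h = g)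
    (r : X ⟶ Y) (hr : ∀ U : Y.left.Opens, IsIso (r.left.app U)) (s : Y ⟶ A) [IsFinite s.left]
    (hrs : r ≫ s = alb)
    (B : Over (Spec (CommRingCat.of k))) [GrpObj B] [IsProper B.hom] [GeometricallyReduced B.hom] [ConnectedSpace ↥B.left]
    (g : Y ⟶ B) (hg : x₀ ≫ r ≫ g = η[B]) :
    ∃! h : A ⟶ B, IsMonHom h ∧ s ≫ h = g := by
  obtain ⟨h, ⟨hh, hfac⟩, huq⟩ := huniv B (r ≫ g) hg
  haveI : IsProper (r.left ≫ Y.hom) := by rw [Over.w r]; infer_instance
  haveI : IsProper r.left := IsProper.of_comp r.left Y.hom
  have hsurj : Function.Surjective r.left.base := by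
    intro y
    by_contra hy
    have hcl : IsClosed (Set.range r.left.base) := r.left.isClosedMap.isClosed_range
    let U : Y.left.Opens := ⟨(Set.range r.left.base)ᶜ, hcl.isOpen_compl⟩
    have hpre : r.left ⁻¹ᵁ U = ⊥ := by
      ext x
      exact iff_of_false (fun hx => hx ⟨x, rfl⟩) (fun hx => hx)
    have hs : Subsingleton Γ(X.left, r.left ⁻¹ᵁ U) := by
      rw [hpre]; infer_instance
    haveI := hr U
    have hinj : Function.Injective (r.left.app U).hom :=
      (ConcreteCategory.bijective_of_isIso (r.left.app U)).1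
    have h01 : (1 : Γ(Y.left, U)) = 0 := hinj (hs.elim _ _)
    have := congrArg (Y.left.presheaf.germ U y (fun ⟨x, hx⟩ => hy ⟨x, hx⟩)).hom h01
    simp only [map_one, map_zero] at this
    exact one_ne_zero this
  have cancel : ∀ {Z : Over (Spec (CommRingCat.of k))} (f₁ f₂ : Y ⟶ Z),
      r ≫ f₁ = r ≫ f₂ → f₁ = f₂ := by
    intro Z f₁ f₂ e
    have el : r.left ≫ f₁.left = r.left ≫ f₂.left := congrArg CommaMorphism.left e
    apply Over.OverMorphism.ext
    have hb : f₁.left.base = f₂.left.base := by
      ext y
      obtain ⟨x, rfl⟩ := hsurj y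
      exact congrArg (fun q => q.base x) el
    refine Scheme.Hom.ext hb (fun U => ?_)
    have happ := Scheme.Hom.congr_app el U
    simp only [Scheme.Hom.comp_app] at happ
    have hp : f₁.left ⁻¹ᵁ U = f₂.left ⁻¹ᵁ U := by
      ext y
      show f₁.left.base y ∈ U ↔ f₂.left.base y ∈ U
      rw [hb]
    haveI := hr (f₁.left ⁻¹ᵁ U)
    haveI := hr (f₂.left ⁻¹ᵁ U)
    rw [← cancel_mono (r.left.app (f₂.left ⁻¹ᵁ U))]
    rw [Category.assoc, Scheme.Hom.naturality]
    erw [← Category.assoc, happ]
    erw [Category.assoc, ← Functor.map_comp]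
    refine (congrArg (fun q => _ ≫ X.left.presheaf.map q) (Subsingleton.elim _ (𝟙 _))).trans ?_
    rw [CategoryTheory.Functor.map_id]
    exact Category.comp_id _
  refine ⟨h, ⟨hh, cancel _ _ (by rw [reassoc_of% hrs, hfac])⟩, fun h' h2 => huq h' ⟨h2.1, ?_⟩⟩
  rw [← hrs, Category.assoc, h2.2]

end Groth.Agent.S14834
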