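import Groth.Statements.S14835
import Groth.Agent.FFCurve.GenusMono
import Groth.Agent.FFCurve.GenusBirational
import Groth.Agent.FFCurve.Smooth
import Groth.Agent.FFCurve.AlgClosed
import Groth.Agent.FFCurve.P1Iso
import Groth.Agent.S1585
import Groth.Agent.S4716

set_option autoImplicit false
universe u
open CategoryTheory CategoryTheory.Limits AlgebraicGeometry
open Curves

namespace Groth.Agent.S14835

/-- Let k be an algebraically closed field, C and B proper curves over k (proper k-schemes of dimension
one) with B connected and regular (all local rings regular), φ : C → B a k-morphism, and ι : C_i → C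
a closed integral one-dimensional subscheme (an integral component) such that the composite C_i → B
is finite. Then dim_k H^1(C, O_C) ≥ dim_k H^1(C_i, O_{C_i}) ≥ dim_k H^1(B, O_B). -/
theorem result (k : Type u) [Field k] [IsAlgClosed k]
    (C B Ci : Scheme.{u}) [C.Over (Spec (CommRingCat.of k))] [B.Over (Spec (CommRingCat.of k))] [Ci.Over (Spec (CommRingCat.of k))]
    [IsProper (C ↘ Spec (CommRingCat.of k))] [IsProper (B ↘ Spec (CommRingCat.of k))]
    (hC : topologicalKrullDim ↥C = 1) (hB : topologicalKrullDim ↥B = 1) [ConnectedSpace ↥B]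
    (hBreg : ∀ b : B, IsRegularLocalRing (B.presheaf.stalk b))
    (φ : C ⟶ B) (hφ : φ ≫ (B ↘ Spec (CommRingCat.of k)) = C ↘ Spec (CommRingCat.of k))
    (ι : Ci ⟶ C) [IsClosedImmersion ι] [IsIntegral Ci] (hCi : topologicalKrullDim ↥Ci = 1)
    (hι : ι ≫ (C ↘ Spec (CommRingCat.of k)) = Ci ↘ Spec (CommRingCat.of k)) [IsFinite (ι ≫ φ)] :
    Module.finrank k (Coh.HH Ci (Coh.structureModule Ci) 1) ≤ Module.finrank k (Coh.HH C (Coh.structureModule C) 1) ∧
      Module.finrank k (Coh.HH B (Coh.structureModule B) 1) ≤ Module.finrank k (Coh.HH Ci (Coh.structureModule Ci) 1) := by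
  refine ⟨?_, ?_⟩
  · haveI : IsClosedImmersion (ι ∣_ (⊤ : C.Opens)) := IsZariskiLocalAtTarget.restrict ‹IsClosedImmersion ι› _
    exact FFCurve.GenusBirational.genus_le hC.le ι hι (⊤ : C.Opens) (by simp)
  · haveI := FFCurve.smooth_of_regular (B ↘ Spec (CommRingCat.of k)) hBreg
    haveI := FFCurve.isIntegral_of_connected k (X := B)
    haveI : FFCurve.RegCurve B := FFCurve.regCurve_of_regular k hB hBreg
    haveI : IsProper (Ci ↘ Spec (CommRingCat.of k)) := by rw [← hι]; infer_instance
    haveI := EulerChar.isNoetherian k (X := Ci)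
    haveI : QuasiCompact (Ci.fromSpecStalk (genericPoint Ci)) := inferInstance
    haveI : QuasiSeparated (Ci.fromSpecStalk (genericPoint Ci)) := inferInstance
    obtain ⟨hfin, hdom, ⟨V, hV, hVi⟩, hint, hn⟩ := S1585.result k Ci
    haveI := hfin; haveI := hint; haveI := hdom
    let ν := Curv2.normalizationι Ci
    haveI : Surjective ν := ⟨by
      rw [← Set.range_eq_univ, ← (ν.isClosedMap.isClosed_range).closure_eq]
      exact (denseRange_iff_closure_range.1 ν.denseRange)⟩
    letI : (Curv2.normalization Ci).Over (Spec (CommRingCat.of k)) := ⟨ν ≫ (Ci ↘ Spec (CommRingCat.of k))⟩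
    haveI : IsProper ((Curv2.normalization Ci) ↘ Spec (CommRingCat.of k)) :=
      inferInstanceAs (IsProper (ν ≫ (Ci ↘ Spec (CommRingCat.of k))))
    have hVd : Dense (V : Set Ci) := V.2.dense hV
    haveI := hVi
    have hNd : Dense ((ν ⁻¹ᵁ V : (Curv2.normalization Ci).Opens) : Set (Curv2.normalization Ci)) := by
      refine (ν ⁻¹ᵁ V).2.dense ?_
      obtain ⟨v, hv⟩ := hV
      obtain ⟨w, hw⟩ := ν.surjective v
      exact ⟨w, show ν w ∈ V by rw [hw]; exact hv⟩
    have hN1 : topologicalKrullDim (Curv2.normalization Ci) ≤ 1 :=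
      FFCurve.GenusBirational.dim_le_one (k := k) ν V hNd hCi.le hVi
    have hN : topologicalKrullDim (Curv2.normalization Ci) = 1 := by
      refine le_antisymm hN1 ?_
      rw [← hCi]
      haveI := EulerChar.isNoetherian k (X := Curv2.normalization Ci)
      exact S4716.result ν ν.surjective (Or.inr ν.isClosedMap)
    haveI : LocallyOfFiniteType ((Curv2.normalization Ci) ↘ Spec (CommRingCat.of k)) := inferInstance
    haveI := FFCurve.regCurve_of_normal k hN hn
    haveI : IsClosedImmersion (ν ∣_ V) := inferInstance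
    refine le_trans ?_ (FFCurve.GenusBirational.genus_le (k := k) hCi.le ν rfl V hVd)
    have hfin2 : IsFinite (ν ≫ (ι ≫ φ)) := inferInstance
    exact FFCurve.genus_le_of_finite k hN hB (ν ≫ (ι ≫ φ))
      (by rw [Category.assoc, Category.assoc, hφ, hι]; rfl)
      (FFCurve.map_genericPoint k hN hB _)

end Groth.Agent.S14835
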