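import Groth.Statements.S14836
import Groth.Agent.UnitsThick.PicIso
import Groth.Agent.UnitsThick.LES
import Groth.Agent.PicLaw.Calc

set_option autoImplicit false
universe u
open CategoryTheory CategoryTheory.Limits AlgebraicGeometry
open Formal2

namespace Groth.Agent.S14836

section
open CategoryTheory AlgebraicGeometry
open Groth.Agent.UnitsThick Groth.Agent.PicUnits
open scoped Groth.Agent.PicLaw

theorem main {X Y : Scheme.{u}} (f : X ⟶ Y) (hf : ∀ V : Y.Opens, IsIso (f.app V)) :
    Formal2.PicPullbackInjective f := by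
  intro L hL ⟨e⟩
  haveI : IsIso (UnitsSh.comap f) := by
    haveI : ∀ U, IsIso ((UnitsSh.comap f).hom.app U) := fun U => by
      haveI : IsIso (f.c.app U) := hf U.unop
      exact inferInstanceAs (IsIso (UnitsSh.unitsFunctor.map (f.c.app U)))
    haveI : IsIso (UnitsSh.comap f).hom := NatIso.isIso_of_isIso_app _
    exact (isIso_iff_of_reflects_iso (UnitsSh.comap f) (sheafToPresheaf _ _)).1 this
  let x : PicLoc.PicSet Y := PicGrp.cls L hL
  obtain ⟨c, hc⟩ := (psiX_bijective Y).2 (Additive.ofMul x)
  have hx : PicGrp.pullHom f (Groth.Agent.PicLaw.pullMul f) x = 1 := by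
    rw [PicGrp.pullHom_cls, PicGrp.cls_eq_one_iff]
    exact ⟨e⟩
  have h2 : psi f (Sheaf.H.map (UnitsSh.comap f) 1 c) = 0 := by
    apply Additive.toMul.injective
    rw [psi_comap f (Groth.Agent.PicLaw.pullMul f) c, hc]
    exact hx
  have h3 : Sheaf.H.map (UnitsSh.comap f) 1 c = 0 := psi_injective f (h2.trans (map_zero _).symm)
  have h4 : c = 0 := by
    have := congrArg (Sheaf.H.map (inv (UnitsSh.comap f)) 1) h3
    rwa [← Sheaf.H.map_comp_apply, IsIso.hom_inv_id, Sheaf.H.map_id_apply, map_zero] at this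
  rw [h4, map_zero] at hc
  have h5 : x = 1 := (congrArg Additive.toMul hc).symm
  exact (PicGrp.cls_eq_one_iff hL).1 h5

end

/-- Let k be a field and f : X → Y a k-morphism between proper k-schemes which is a fibration, i.e. O_Y
→ f_*O_X is an isomorphism (Γ(V, O_Y) → Γ(f⁻¹V, O_X) bijective for every open V ⊆ Y). Then N ↦ f^*N
is injective on Picard groups: every invertible O_Y-module whose pullback to X is trivial is
trivial. -/
theorem result (k : Type u) [Field k] (X Y : Scheme.{u})
    [X.Over (Spec (CommRingCat.of k))] [Y.Over (Spec (CommRingCat.of k))] [IsProper (X ↘ Spec (CommRingCat.of k))] [IsProper (Y ↘ Spec (CommRingCat.of k))]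
    (f : X ⟶ Y) (hf : f ≫ (Y ↘ Spec (CommRingCat.of k)) = X ↘ Spec (CommRingCat.of k)) (hfib : ∀ V : Y.Opens, IsIso (f.app V)) :
    Formal2.PicPullbackInjective f := by
  exact main f hfib

end Groth.Agent.S14836
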