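import Groth.Statements.S1484
import Mathlib.FieldTheory.AlgebraicClosure
-- import your own Groth.Agent.* helpers here

set_option autoImplicit false
universe u
open FlatMor

namespace Groth.Agent.S1484

theorem exists_transcendental {R : Type u} [CommRing R] (p : Ideal R) [p.IsPrime]
    (k : Subfield p.ResidueField) (hk : ¬ Algebra.IsAlgebraic ↥k p.ResidueField) (J : Ideal R)
    (hJ : ¬ J ≤ p) : ∃ x ∈ J, Transcendental ↥k (algebraMap R p.ResidueField x) := by
  by_contra hcon
  simp only [not_exists, not_and, Transcendental, not_not] at hcon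
  obtain ⟨y, hy, hyp⟩ := Set.not_subset.mp hJ
  have hy0 : algebraMap R p.ResidueField y ≠ 0 := fun h ↦
    hyp (Ideal.algebraMap_residueField_eq_zero.mp h)
  let L := algebraicClosure ↥k p.ResidueField
  have hR : ∀ r : R, algebraMap R p.ResidueField r ∈ L := by
    intro r
    have h1 : algebraMap R p.ResidueField (r * y) ∈ L :=
      mem_algebraicClosure_iff.mpr (hcon _ (J.mul_mem_left r hy))
    have h2 : algebraMap R p.ResidueField y ∈ L := mem_algebraicClosure_iff.mpr (hcon _ hy)
    have := div_mem h1 h2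
    rwa [map_mul, mul_div_cancel_right₀ _ hy0] at this
  refine hk ⟨fun z ↦ mem_algebraicClosure_iff.mp (show z ∈ L from ?_)⟩
  obtain ⟨a, b, -, rfl⟩ := IsFractionRing.div_surjective (R ⧸ p) z
  obtain ⟨a, rfl⟩ := Ideal.Quotient.mk_surjective a
  obtain ⟨b, rfl⟩ := Ideal.Quotient.mk_surjective b
  exact div_mem (hR a) (hR b)

/-- Let R be a ring, p_1, …, p_r primes of R none of which is contained in another, k_i ⊆ κ(p_i)
subfields over which κ(p_i) is not algebraic, and J an ideal of R contained in none of the p_i. Then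
some x ∈ J has image in κ(p_i) transcendental over k_i for every i. -/
theorem result {R : Type u} [CommRing R] {r : ℕ} (p : Fin r → Ideal R) [∀ i, (p i).IsPrime]
    (hp : ∀ i j, i ≠ j → ¬ p i ≤ p j) (k : ∀ i, Subfield (p i).ResidueField)
    (hk : ∀ i, ¬ Algebra.IsAlgebraic ↥(k i) (p i).ResidueField) (J : Ideal R) (hJ : ∀ i, ¬ J ≤ p i) :
    ∃ x ∈ J, ∀ i, Transcendental ↥(k i) (algebraMap R (p i).ResidueField x) := by
  classical
  have key : ∀ i, ∃ z ∈ J ⊓ (Finset.univ.erase i).inf p,
      Transcendental ↥(k i) (algebraMap R (p i).ResidueField z) := by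
    intro i
    refine exists_transcendental (p i) (k i) (hk i) _ fun hle ↦ ?_
    rcases (Ideal.IsPrime.inf_le inferInstance).mp hle with h | h
    · exact hJ i h
    · obtain ⟨j, hj, hji⟩ := (Ideal.IsPrime.inf_le' inferInstance).mp h
      exact hp j i (Finset.mem_erase.mp hj).1 hji
  choose z hz hzt using key
  refine ⟨∑ i, z i, Submodule.sum_mem _ fun i _ ↦ (hz i).1, fun i ↦ ?_⟩
  have : algebraMap R (p i).ResidueField (∑ j, z j) = algebraMap R (p i).ResidueField (z i) := by
    rw [map_sum]
    refine Finset.sum_eq_single_of_mem i (Finset.mem_univ _) fun j _ hji ↦ ?_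
    refine Ideal.algebraMap_residueField_eq_zero.mpr ?_
    exact Finset.inf_le (f := p) (Finset.mem_erase.mpr ⟨Ne.symm hji, Finset.mem_univ _⟩) (hz j).2
  rw [this]
  exact hzt i

end Groth.Agent.S1484
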