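import Groth.Statements.S14842
import Groth.Agent.Comod.Cosemisimple

set_option autoImplicit false
universe u v
open HopfRep

namespace Groth.Agent.S14842

open TensorProduct in
/-- Over a field K, every simple subcoalgebra D of a coalgebra C is the coefficient space of a simple
comodule. Precisely: there is a subspace E of C contained in D which is a simple subcomodule of the
regular right comodule C (E is nonzero, stable under the coaction, and its only subcomodules are 0
and E) and such that D is the least subspace D' of C with comul(E) inside the image of E ⊗ D'. Here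
a subcoalgebra of C is a subspace B whose comultiplication lands in the image of B ⊗ B, and a simple
subcoalgebra is a nonzero subcoalgebra D whose only subcoalgebras contained in D are 0 and D.
(Stated for right comodules; the published statement is for left comodules.) -/
theorem result {K : Type u} {C : Type v} [Field K]
    [AddCommGroup C] [Module K C] [Coalgebra K C]
    (D : Submodule K C) (hD0 : D ≠ ⊥) (hD : (∀ b ∈ D, CoalgebraStruct.comul (R := K) b ∈ LinearMap.range (TensorProduct.map D.subtype D.subtype)))
    (hDs : ∀ B : Submodule K C, B ≤ D → (∀ b ∈ B, CoalgebraStruct.comul (R := K) b ∈ LinearMap.range (TensorProduct.map B.subtype B.subtype)) → B = ⊥ ∨ B = D) :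
    ∃ E : Submodule K C, E ≤ D ∧ E ≠ ⊥ ∧ HopfRep.IsSubcomod (k := K) (A := C) E ∧
      (∀ E' : Submodule K C, E' ≤ E → HopfRep.IsSubcomod (k := K) (A := C) E' → E' = ⊥ ∨ E' = E) ∧
      IsLeast {D' : Submodule K C |
        ∀ e ∈ E, CoalgebraStruct.comul (R := K) e ∈ LinearMap.range (TensorProduct.map E.subtype D'.subtype)} D := by
  obtain ⟨U, hU, hUD, hsimp, hco⟩ := Comod.exists_simple_subcomod (k := K) (D := D) ⟨hD0, hD, hDs⟩
  letI := ComodSub.Comod.restr (HopfRep.Comod.regular K C) U hU
  have := Comod.isSimpleComod_iff K C U
  have hs : Hoch.IsComodHom C U.subtype :=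
    (ComodSub.rTensor_subtype_comp_restrCoact (HopfRep.Comod.regular K C) U hU).symm
  obtain ⟨hnt, hsU⟩ := this.2 hsimp
  refine ⟨U, hUD, (Submodule.nontrivial_iff_ne_bot).1 hnt, hU, fun E' hle hE' => ?_, ?_⟩
  · rcases hsU (E'.comap U.subtype) (Comod.isSubcomod_comap hs hE') with h | h
    · left
      rw [eq_bot_iff]
      intro x hx
      have : (⟨x, hle hx⟩ : U) ∈ E'.comap U.subtype := hx
      rw [h, Submodule.mem_bot] at this
      simpa using congrArg Subtype.val this
    · exact Or.inr (le_antisymm hle fun x hx => by
        have : (⟨x, hx⟩ : U) ∈ E'.comap U.subtype := h ▸ Submodule.mem_top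
        exact this)
  · have key : ∀ D' : Submodule K C, (∀ e ∈ U, CoalgebraStruct.comul (R := K) e ∈
        LinearMap.range (TensorProduct.map U.subtype D'.subtype)) ↔
        Comod.coeff K C U ≤ D' := by
      intro D'
      rw [Comod.coeff_le_iff]
      have hmap : TensorProduct.map U.subtype D'.subtype =
          U.subtype.rTensor C ∘ₗ D'.subtype.lTensor U := (LinearMap.rTensor_comp_lTensor (f := U.subtype) (g := D'.subtype)).symm
      constructor
      · intro h e
        obtain ⟨z, hz⟩ := h e.1 e.2
        refine ⟨z, ComodSub.rTensor_subtype_injective U ?_⟩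
        rw [hmap, LinearMap.comp_apply] at hz
        exact hz.trans (ComodSub.rTensor_subtype_restrCoact (HopfRep.Comod.regular K C) U hU e).symm
      · intro h e he
        obtain ⟨z, hz⟩ := h ⟨e, he⟩
        refine ⟨z, ?_⟩
        rw [hmap, LinearMap.comp_apply, hz]
        exact ComodSub.rTensor_subtype_restrCoact (HopfRep.Comod.regular K C) U hU ⟨e, he⟩
    exact ⟨(key D).2 hco.le, fun D' hD' => hco ▸ (key D').1 hD'⟩

end Groth.Agent.S14842
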