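import Groth.Statements.S14843
import Groth.Agent.Comod.Cosemisimple

set_option autoImplicit false
universe u v
open HopfRep

namespace Groth.Agent.S14843

open TensorProduct in
/-- Over a field K, a coalgebra C is cosemisimple, i.e. C is the internal direct sum of a family of
simple subcoalgebras, if and only if every right C-comodule is completely reducible (every
subcomodule admits a complementary subcomodule). Here a subcoalgebra of C is a subspace B whose
comultiplication lands in the image of B ⊗ B, and a simple subcoalgebra is a nonzero subcoalgebra D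
whose only subcoalgebras contained in D are 0 and D. (Comodules are quantified in the universe of C;
the published statement is for left comodules, and the equivalence of 'direct sum of simple
subcomodules' with 'every subcomodule is a direct summand' is the standard one.) -/
theorem result {K : Type u} {C : Type v} [Field K]
    [AddCommGroup C] [Module K C] [Coalgebra K C] :
    (∃ (ι : Type v) (D : ι → Submodule K C), iSupIndep D ∧ iSup D = ⊤ ∧ ∀ i,
        D i ≠ ⊥ ∧ (∀ b ∈ D i, CoalgebraStruct.comul (R := K) b ∈ LinearMap.range (TensorProduct.map (D i).subtype (D i).subtype)) ∧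
        ∀ B : Submodule K C, B ≤ D i → (∀ b ∈ B, CoalgebraStruct.comul (R := K) b ∈ LinearMap.range (TensorProduct.map B.subtype B.subtype)) → B = ⊥ ∨ B = D i) ↔
      ∀ (V : Type v) [AddCommGroup V] [Module K V] [HopfRep.Comod K C V],
        HopfRep.IsSemisimpleComod K C V := by
  constructor
  · rintro ⟨ι, D, hind, htop, hD⟩ V _ _ _
    rw [Comod.isSemisimpleComod_iff]
    refine Comod.isSemisimpleModule_of_regular ?_ V
    have hsub : ∀ i, IsSemisimpleModule (Comod.Dual K C)
        (Comod.toSub (D i) (Comod.isSubcomod_of_isSubcoalg (hD i).2.1)) := by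
      intro i
      obtain ⟨U, hU, -, hsimp, hco⟩ := Comod.exists_simple_subcomod (k := K) (D := D i) (hD i)
      letI := ComodSub.Comod.restr (HopfRep.Comod.regular K C) U hU
      have := Comod.isSemisimpleModule_coeff (k := K) (C := C) (V := U)
      have he : Comod.toSub (D i) (Comod.isSubcomod_of_isSubcoalg (hD i).2.1) =
          Comod.toSub (Comod.coeff K C U) (Comod.isSubcomod_of_isSubcoalg Comod.isSubcoalg_coeff) :=
        Submodule.restrictScalars_injective K _ _ (by simp [hco])
      rw [he]; exact this
    refine isSemisimpleModule_of_isSemisimpleModule_submodule' (fun i => hsub i) (eq_top_iff.2 fun x hx0 => ?_)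
    clear hx0
    have hx : x ∈ iSup D := htop ▸ Submodule.mem_top
    induction hx using Submodule.iSup_induction' with
    | mem m y hy => exact Submodule.mem_iSup_of_mem m hy
    | zero => simp
    | add y z _ _ hy hz => exact add_mem hy hz
  · intro h
    have hC : IsSemisimpleModule (Comod.Dual K C) C := (Comod.isSemisimpleComod_iff K C C).1 (h C)
    let ι := {D : Submodule K C // Comod.IsSimpleSubcoalg K D}
    refine ⟨ι, fun i => i.1, ?_, eq_top_iff.2 fun x hx0 => ?_, fun i => i.2⟩
    · have hsub : ∀ i : ι, IsSemisimpleModule (Comod.Dual K C)
          (Comod.toSub i.1 (Comod.isSubcomod_of_isSubcoalg i.2.2.1)) := fun i => inferInstance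
      have key : ∀ (i : ι) (m : Submodule (Comod.Dual K C) C), IsSimpleModule (Comod.Dual K C) m →
          m ≤ Comod.toSub i.1 (Comod.isSubcomod_of_isSubcoalg i.2.2.1) →
          letI := ComodSub.Comod.restr (HopfRep.Comod.regular K C) (m.restrictScalars K)
            (Comod.isSubcomod_restrictScalars m)
          Comod.coeff K C (m.restrictScalars K) = i.1 := by
        intro i m hm hle
        letI := ComodSub.Comod.restr (HopfRep.Comod.regular K C) (m.restrictScalars K)
          (Comod.isSubcomod_restrictScalars m)
        obtain ⟨e⟩ := Comod.subcomod_equiv m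
        have : IsSimpleModule (Comod.Dual K C) (m.restrictScalars K) := IsSimpleModule.congr (N := ↥m) e
        let φ : (m.restrictScalars K) →ₗ[Comod.Dual K C] C := m.subtype.comp e.toLinearMap
        have hle' := Comod.coeff_le_of_hom (Comod.isComodHom_restrictScalars φ)
          (m.injective_subtype.comp e.injective) i.2.2.1
          (by rintro _ ⟨v, rfl⟩; exact hle (e v).2)
        exact (i.2.2.2 _ hle' Comod.isSubcoalg_coeff).resolve_left Comod.coeff_ne_bot
      have := Comod.isotypic_indep hsub fun i j hij m m' hm hm' hi hj => ⟨fun e => hij (Subtype.ext ?_)⟩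
      · rw [iSupIndep_iff_finset_sum_eq_zero_imp_eq_zero]
        exact (iSupIndep_iff_finset_sum_eq_zero_imp_eq_zero
          (fun i : ι => Comod.toSub i.1 (Comod.isSubcomod_of_isSubcoalg i.2.2.1))).1 this
      · rw [← key i m hm hi, ← key j m' hm' hj]
        letI := ComodSub.Comod.restr (HopfRep.Comod.regular K C) (m.restrictScalars K)
          (Comod.isSubcomod_restrictScalars m)
        letI := ComodSub.Comod.restr (HopfRep.Comod.regular K C) (m'.restrictScalars K)
          (Comod.isSubcomod_restrictScalars m')
        obtain ⟨e1⟩ := Comod.subcomod_equiv m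
        obtain ⟨e2⟩ := Comod.subcomod_equiv m'
        exact Comod.coeff_eq_of_equiv ((e1.trans e).trans e2.symm)
    · clear hx0
      have hx : x ∈ sSup {m : Submodule (Comod.Dual K C) C | IsSimpleModule (Comod.Dual K C) m} := by
        rw [IsSemisimpleModule.sSup_simples_eq_top]; trivial
      rw [sSup_eq_iSup'] at hx
      induction hx using Submodule.iSup_induction' with
      | mem m y hy =>
        have : IsSimpleModule (Comod.Dual K C) ↥(m.1) := m.2
        letI := ComodSub.Comod.restr (HopfRep.Comod.regular K C) (m.1.restrictScalars K)
          (Comod.isSubcomod_restrictScalars m.1)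
        obtain ⟨e⟩ := Comod.subcomod_equiv m.1
        have : IsSimpleModule (Comod.Dual K C) (m.1.restrictScalars K) := IsSimpleModule.congr (N := ↥(m.1)) e
        exact Submodule.mem_iSup_of_mem (⟨_, Comod.isSimpleSubcoalg_coeff⟩ : ι)
          (Comod.mem_coeff_self_of_subcomod _ (Comod.isSubcomod_restrictScalars m.1) hy)
      | zero => simp
      | add y z _ _ hy hz => exact add_mem hy hz

end Groth.Agent.S14843
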