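import Groth.Statements.S14844
import Groth.Prelude.Def_HopfRep

set_option autoImplicit false
universe u v w w'
open HopfRep

namespace Groth.Agent.S14844

open TensorProduct in
/-- Let R be a commutative ring and C an R-coalgebra, flat over R, which is the internal direct sum of
subcoalgebras D_i (submodules whose comultiplication lands in the image of D_i ⊗ D_i, independent
and with supremum C). Then every right C-comodule V is the internal direct sum of the subcomodules
V_i, where V_i is the preimage under the coaction of the image of V ⊗ D_i in V ⊗ C, and the coaction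
maps V_i into the image of V_i ⊗ D_i, so that the comodule structure of V_i reduces to a
D_i-comodule structure. (The published statement is for a flat sheaf of coalgebras over a base
scheme and left comodules on a scheme over it; this row is the case of an affine base with modules
of global sections, for right comodules.) -/
theorem result {R : Type u} {C : Type v} [CommRing R]
    [AddCommGroup C] [Module R C] [Coalgebra R C] [Module.Flat R C]
    {ι : Type w} (D : ι → Submodule R C)
    (hD : ∀ i, ∀ d ∈ D i, CoalgebraStruct.comul (R := R) d ∈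
      LinearMap.range (TensorProduct.map (D i).subtype (D i).subtype))
    (hind : iSupIndep D) (htop : iSup D = ⊤)
    {V : Type w'} [AddCommGroup V] [Module R V] [HopfRep.Comod R C V] :
    (∀ i, HopfRep.IsSubcomod (k := R) (A := C) ((LinearMap.range (LinearMap.lTensor V (D i).subtype)).comap
        (HopfRep.Comod.coact (k := R) (A := C) (V := V)))) ∧
    iSupIndep (fun i => ((LinearMap.range (LinearMap.lTensor V (D i).subtype)).comap
        (HopfRep.Comod.coact (k := R) (A := C) (V := V)))) ∧
    (⨆ i, ((LinearMap.range (LinearMap.lTensor V (D i).subtype)).comap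
        (HopfRep.Comod.coact (k := R) (A := C) (V := V)))) = ⊤ ∧
    ∀ i, ∀ v ∈ ((LinearMap.range (LinearMap.lTensor V (D i).subtype)).comap
        (HopfRep.Comod.coact (k := R) (A := C) (V := V))),
      HopfRep.Comod.coact (k := R) (A := C) v ∈
        LinearMap.range (TensorProduct.map ((LinearMap.range (LinearMap.lTensor V (D i).subtype)).comap
        (HopfRep.Comod.coact (k := R) (A := C) (V := V))).subtype (D i).subtype) := by
  classical
  have hint : DirectSum.IsInternal D := DirectSum.isInternal_submodule_of_iSupIndep_of_iSup_eq_top hind htop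
  let e := LinearEquiv.ofBijective (DirectSum.coeLinearMap D) hint
  let π : ∀ i, C →ₗ[R] C := fun i => (D i).subtype ∘ₗ DirectSum.component R ι (fun j => D j) i ∘ₗ e.symm.toLinearMap
  have hπ : ∀ i l, ∀ d ∈ D l, π i d = if l = i then d else 0 := by
    intro i l d hd
    have : e.symm d = DirectSum.lof R ι (fun j => D j) l ⟨d, hd⟩ := by
      rw [LinearEquiv.symm_apply_eq]
      rw [DirectSum.lof_eq_of]; exact (DirectSum.coeLinearMap_of D l ⟨d, hd⟩).symm
    simp only [π, LinearMap.comp_apply, LinearEquiv.coe_coe, this]
    rcases eq_or_ne l i with rfl | h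
    · simp
    · simp [DirectSum.component.of, h]
  have hind' : ∀ (f g : C →ₗ[R] C), (∀ l, ∀ d ∈ D l, f d = g d) → f = g := fun f g h => by
    refine LinearMap.ext fun c => ?_
    have : ⨆ l, D l ≤ LinearMap.eqLocus f g := iSup_le fun l d hd => h l d hd
    exact this (htop ▸ Submodule.mem_top)
  let ε := CoalgebraStruct.counit (R := R) (A := C)
  let ρ := HopfRep.Comod.coact (k := R) (A := C) (V := V)
  let p : ∀ _, V →ₗ[R] V := fun i => (TensorProduct.rid R V).toLinearMap ∘ₗ (ε ∘ₗ π i).lTensor V ∘ₗ ρ
  have hR : ∀ i, (TensorProduct.rid R C).toLinearMap ∘ₗ (ε ∘ₗ π i).lTensor C ∘ₗ CoalgebraStruct.comul = π i := by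
    refine fun i => hind' _ _ fun l d hd => ?_
    obtain ⟨w, hw⟩ := hD l d hd
    have h1 : TensorProduct.rid R C (ε.lTensor C (Coalgebra.comul (R := R) d)) = d := by
      simp [ε, Coalgebra.lTensor_counit_comul]
    simp only [LinearMap.comp_apply, LinearEquiv.coe_coe, hπ i l d hd]
    have h2 : ∀ w, TensorProduct.rid R C ((ε ∘ₗ π i).lTensor C (TensorProduct.map (D l).subtype (D l).subtype w)) =
        if l = i then TensorProduct.rid R C (ε.lTensor C (TensorProduct.map (D l).subtype (D l).subtype w)) else 0 := by
      intro w
      induction w using TensorProduct.induction_on with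
      | zero => simp
      | add y z hy hz => simp only [map_add, hy, hz]; split_ifs <;> simp
      | tmul y z =>
        simp [hπ i l _ z.2]
        split_ifs <;> simp
    rw [← hw, h2, hw, h1]
  have hL : ∀ i, (TensorProduct.lid R C).toLinearMap ∘ₗ TensorProduct.map (ε ∘ₗ π i) (π i) ∘ₗ
      CoalgebraStruct.comul = π i := by
    refine fun i => hind' _ _ fun l d hd => ?_
    obtain ⟨w, hw⟩ := hD l d hd
    have h1 : TensorProduct.lid R C (ε.rTensor C (Coalgebra.comul (R := R) d)) = d := by
      simp [ε, Coalgebra.rTensor_counit_comul]
    simp only [LinearMap.comp_apply, LinearEquiv.coe_coe, hπ i l d hd]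
    have h2 : ∀ w, TensorProduct.lid R C (TensorProduct.map (ε ∘ₗ π i) (π i) (TensorProduct.map (D l).subtype (D l).subtype w)) =
        if l = i then TensorProduct.lid R C (ε.rTensor C (TensorProduct.map (D l).subtype (D l).subtype w)) else 0 := by
      intro w
      induction w using TensorProduct.induction_on with
      | zero => simp
      | add y z hy hz => simp only [map_add, hy, hz]; split_ifs <;> simp
      | tmul y z =>
        simp [hπ i l _ z.2, hπ i l _ y.2]
        split_ifs <;> simp
    rw [← hw, h2, hw, h1]
  have hco : ∀ v, (ρ.rTensor C) (ρ v) = (TensorProduct.assoc R V C C).symm (CoalgebraStruct.comul.lTensor V (ρ v)) := by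
    intro v
    have := LinearMap.congr_fun (HopfRep.Comod.coassoc (k := R) (A := C) (V := V)) v
    simp only [LinearMap.comp_apply, LinearEquiv.coe_coe] at this
    rw [LinearEquiv.eq_symm_apply]
    exact this
  have hc1 : ∀ i v, ρ (p i v) = (π i).lTensor V (ρ v) := by
    intro i v
    have h1 : ∀ z : V ⊗[R] C, ρ (TensorProduct.rid R V ((ε ∘ₗ π i).lTensor V z)) =
        (TensorProduct.rid R (V ⊗[R] C)).toLinearMap ((ε ∘ₗ π i).lTensor (V ⊗[R] C) (ρ.rTensor C z)) := by
      intro z
      induction z using TensorProduct.induction_on with
      | zero => simp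
      | add y z hy hz => simp only [map_add, hy, hz]
      | tmul y z => simp
    refine (h1 _).trans ?_
    rw [hco]
    conv_rhs => rw [← hR i]
    induction ρ v using TensorProduct.induction_on with
    | zero => simp
    | add y z hy hz => simp only [map_add, hy, hz]
    | tmul y z =>
      simp only [LinearMap.lTensor_tmul, LinearMap.comp_apply, LinearEquiv.coe_coe]
      induction Coalgebra.comul (R := R) z using TensorProduct.induction_on with
      | zero => simp
      | add a b ha hb => simp only [TensorProduct.tmul_add, map_add, ha, hb]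
      | tmul a b => simp
  have hc2 : ∀ i v, TensorProduct.map (p i) (π i) (ρ v) = (π i).lTensor V (ρ v) := by
    intro i v
    have h1 : ∀ z : V ⊗[R] C, TensorProduct.map (p i) (π i) z =
        (TensorProduct.rid R V).toLinearMap.rTensor C
          (TensorProduct.map ((ε ∘ₗ π i).lTensor V) (π i) (ρ.rTensor C z)) := by
      intro z
      induction z using TensorProduct.induction_on with
      | zero => simp
      | add y z hy hz => simp only [map_add, hy, hz]
      | tmul y z => simp [p]
    refine (h1 _).trans ?_
    rw [hco]
    conv_rhs => rw [← hL i]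
    induction ρ v using TensorProduct.induction_on with
    | zero => simp
    | add y z hy hz => simp only [map_add, hy, hz]
    | tmul y z =>
      simp only [LinearMap.lTensor_tmul, LinearMap.comp_apply, LinearEquiv.coe_coe]
      induction Coalgebra.comul (R := R) z using TensorProduct.induction_on with
      | zero => simp
      | add a b ha hb => simp only [TensorProduct.tmul_add, map_add, ha, hb]
      | tmul a b => simp [TensorProduct.smul_tmul']
  let π' : ∀ i, C →ₗ[R] D i := fun i => DirectSum.component R ι (fun j => D j) i ∘ₗ e.symm.toLinearMap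
  let W : ι → Submodule R V := fun i => ((LinearMap.range (LinearMap.lTensor V (D i).subtype)).comap ρ)
  have hpmem : ∀ i v, p i v ∈ W i := fun i v => ⟨(π' i).lTensor V (ρ v), by
    rw [hc1, ← LinearMap.lTensor_comp_apply]⟩
  have hW : ∀ i, ∀ v ∈ W i, ∀ j, (π j).lTensor V (ρ v) = if i = j then ρ v else 0 := by
    rintro i v ⟨w, hw⟩ j
    rw [← hw]
    induction w using TensorProduct.induction_on generalizing v with
    | zero => simp
    | add y z hy hz =>
      simp only [map_add] at *
      have hy' : ∀ w : V ⊗[R] D i, (π j).lTensor V ((D i).subtype.lTensor V w) =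
          if i = j then (D i).subtype.lTensor V w else 0 := by
        intro w
        induction w using TensorProduct.induction_on with
        | zero => simp
        | add a b ha hb => simp only [map_add, ha, hb]; split_ifs <;> simp
        | tmul a b => simp [hπ j i _ b.2]; split_ifs <;> simp
      rw [hy' y, hy' z]; split_ifs <;> simp
    | tmul a b => simp [hπ j i _ b.2]; split_ifs <;> simp
  have hcp : ∀ v, TensorProduct.rid R V (ε.lTensor V (ρ v)) = v := fun v => by
    have hc := LinearMap.congr_fun (HopfRep.Comod.counit_comp (k := R) (A := C) (V := V)) v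
    simp only [LinearMap.comp_apply, LinearMap.flip_apply, TensorProduct.mk_apply] at hc
    simp [ρ, ε, hc]
  have hpW : ∀ i, ∀ v ∈ W i, ∀ j, p j v = if i = j then v else 0 := fun i v hv j => by
    simp only [p, LinearMap.comp_apply, LinearEquiv.coe_coe]
    rw [LinearMap.lTensor_comp_apply, hW i v hv j]
    split_ifs
    · exact hcp v
    · simp
  have hlast : ∀ i, ∀ v ∈ W i, ρ v ∈ LinearMap.range (TensorProduct.map (W i).subtype (D i).subtype) := fun i v hv =>
    ⟨TensorProduct.map ((p i).codRestrict (W i) (hpmem i)) (π' i) (ρ v), by
      rw [← LinearMap.comp_apply, ← TensorProduct.map_comp]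
      refine (hc2 i v).trans ?_
      rw [hW i v hv i, if_pos rfl]⟩
  refine ⟨fun i v hv => ?_, ?_, ?_, hlast⟩
  · obtain ⟨w, hw⟩ := hlast i v hv
    refine ⟨(D i).subtype.lTensor (W i) w, ?_⟩
    rw [← LinearMap.comp_apply, LinearMap.rTensor_comp_lTensor]
    exact hw
  · rw [iSupIndep_def]
    refine fun i => Submodule.disjoint_def.2 fun x hx hx' => ?_
    have h0 : (⨆ j, ⨆ _ : j ≠ i, W j) ≤ LinearMap.ker (p i) :=
      iSup₂_le fun j hj y hy => by rw [LinearMap.mem_ker, hpW j y hy i, if_neg hj]
    have := LinearMap.mem_ker.1 (h0 hx')
    rwa [hpW i x hx i, if_pos rfl] at this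
  · refine eq_top_iff.2 fun v _ => ?_
    have key : ∀ z : V ⊗[R] C, ∃ s : Finset ι, (∀ j ∉ s, (π j).lTensor V z = 0) ∧
        ∑ j ∈ s, (π j).lTensor V z = z := by
      intro z
      induction z using TensorProduct.induction_on with
      | zero => exact ⟨∅, by simp, by simp⟩
      | tmul a c =>
        refine ⟨DFinsupp.support (e.symm c), fun j hj => ?_, ?_⟩
        · have h0 : e.symm c j = 0 := DFinsupp.notMem_support_iff.1 hj
          change a ⊗ₜ[R] ((e.symm c j : D j) : C) = 0
          simp [h0]
        · simp only [LinearMap.lTensor_tmul, ← TensorProduct.tmul_sum]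
          congr 1
          conv_rhs => rw [← e.apply_symm_apply c]
          change _ = DirectSum.coeLinearMap D (e.symm c)
          conv_rhs => rw [← DirectSum.sum_support_of (e.symm c), map_sum]
          exact Finset.sum_congr rfl fun x _ => (DirectSum.coeLinearMap_of D x _).symm
      | add y z hy hz =>
        obtain ⟨s, hs, hs'⟩ := hy
        obtain ⟨t, ht, ht'⟩ := hz
        refine ⟨s ∪ t, fun j hj => ?_, ?_⟩
        · rw [Finset.mem_union, not_or] at hj
          simp [map_add, hs j hj.1, ht j hj.2]
        · simp only [map_add, Finset.sum_add_distrib]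
          rw [← Finset.sum_subset Finset.subset_union_left (fun j _ hj => hs j hj),
            ← Finset.sum_subset Finset.subset_union_right (fun j _ hj => ht j hj), hs', ht']
    obtain ⟨s, -, hs⟩ := key (ρ v)
    rw [← hcp v, ← hs, map_sum, map_sum]
    refine Submodule.sum_mem _ fun j _ => Submodule.mem_iSup_of_mem j ?_
    have := hpmem j v
    simp only [p, LinearMap.comp_apply, LinearEquiv.coe_coe, LinearMap.lTensor_comp_apply] at this
    exact this

end Groth.Agent.S14844
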