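import Groth.Statements.S14846
import Mathlib.FieldTheory.Galois.Infinite
import Mathlib.RingTheory.TwoSidedIdeal.Operations
import Mathlib.RingTheory.TensorProduct.Free


set_option autoImplicit false
universe u v w
open Brauer

namespace Groth.Agent.S14846

open TensorProduct in
/-- Let L/K be a Galois extension with group Γ = Aut_K(L), and A a K-algebra which is a simple ring. If
L ⊗_K A is semisimple, then Γ, acting on L ⊗_K A through the first tensor factor, permutes its
simple components, i.e. its minimal nonzero two-sided ideals, transitively: any minimal two-sided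
ideal is carried onto any other by some γ ⊗ id. -/
theorem result
    {K : Type u} {L : Type v} [Field K] [Field L] [Algebra K L] [IsGalois K L]
    {A : Type w} [Ring A] [Algebra K A] [IsSimpleRing A]
    [IsSemisimpleRing (L ⊗[K] A)]
    (I J : TwoSidedIdeal (L ⊗[K] A)) (hI : IsAtom I) (hJ : IsAtom J) :
    ∃ γ : L ≃ₐ[K] L, (J : Set (L ⊗[K] A)) =
      Algebra.TensorProduct.map (γ : L →ₐ[K] L) (AlgHom.id K A) '' (I : Set (L ⊗[K] A)) := by
  classical
  let φ : (L ≃ₐ[K] L) → (L ⊗[K] A ≃ₐ[K] L ⊗[K] A) := fun γ => Algebra.TensorProduct.congr γ AlgEquiv.refl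
  have hφ : ∀ γ x, φ γ x = Algebra.TensorProduct.map (γ : L →ₐ[K] L) (AlgHom.id K A) x := fun γ x => rfl
  have hcomp : ∀ γ δ x, φ γ (φ δ x) = φ (γ * δ) x := fun γ δ x => by
    induction x using TensorProduct.induction_on with
    | zero => simp
    | add u v hu hv => simp [hu, hv]
    | tmul l a => simp [φ]
  have hone : ∀ x, φ 1 x = x := fun x => by
    induction x using TensorProduct.induction_on with
    | zero => simp
    | add u v hu hv => simp [hu, hv]
    | tmul l a => simp [φ]
  have hinv : ∀ γ x, φ γ (φ γ⁻¹ x) = x := fun γ x => by rw [hcomp, mul_inv_cancel, hone]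
  have hinv' : ∀ γ x, φ γ⁻¹ (φ γ x) = x := fun γ x => by rw [hcomp, inv_mul_cancel, hone]
  let c : (L ≃ₐ[K] L) → TwoSidedIdeal (L ⊗[K] A) := fun γ => TwoSidedIdeal.comap (φ γ) I
  let P : TwoSidedIdeal (L ⊗[K] A) := ⨆ γ, c γ
  have hPinv : ∀ γ, ∀ x ∈ P, φ γ x ∈ P := by
    intro γ x hx
    have h : P ≤ TwoSidedIdeal.comap (φ γ) P := iSup_le fun δ y hy => by
      rw [TwoSidedIdeal.mem_comap]
      refine le_iSup c (δ * γ⁻¹) ?_
      simp only [c, TwoSidedIdeal.mem_comap] at hy ⊢
      rw [hcomp, inv_mul_cancel_right]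
      exact hy
    exact TwoSidedIdeal.mem_comap _ |>.1 (h hx)
  have hIP : I ≤ P := fun x hx => le_iSup c 1 (by rw [TwoSidedIdeal.mem_comap, hone]; exact hx)
  let b := Module.Free.chooseBasis K A
  let B := Algebra.TensorProduct.basis L b
  have hrepr : ∀ γ x i, B.repr (φ γ x) i = γ (B.repr x i) := fun γ x i => by
    induction x using TensorProduct.induction_on with
    | zero => simp
    | add u v hu hv => simp [hu, hv]
    | tmul l a => simp [φ, B, Algebra.smul_def]
  have hmin : ∀ N : ℕ, ∀ x ∈ P, x ≠ 0 → (B.repr x).support.card ≤ N → ∃ a : A, a ≠ 0 ∧ (1 : L) ⊗ₜ[K] a ∈ P := by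
    intro N
    induction N with
    | zero =>
      intro x _ hx0 hc
      exact absurd (B.repr.map_eq_zero_iff.1 (Finsupp.support_eq_empty.1 (Finset.card_eq_zero.1 (Nat.le_zero.1 hc)))) hx0
    | succ N ih =>
      intro x hx hx0 hc
      obtain ⟨i, hi⟩ := Finsupp.support_nonempty_iff.2 (fun h => hx0 (B.repr.map_eq_zero_iff.1 h))
      let y := (B.repr x i)⁻¹ • x
      have hy : y ∈ P := by
        show (B.repr x i)⁻¹ • x ∈ P
        rw [Algebra.smul_def]
        exact P.mul_mem_left _ _ hx
      have hyi : B.repr y i = 1 := by simp [y, inv_mul_cancel₀ (Finsupp.mem_support_iff.1 hi)]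
      have hys : (B.repr y).support ⊆ (B.repr x).support := by
        simp only [y, map_smul]
        exact Finsupp.support_smul
      by_cases hfix : ∀ (γ : L ≃ₐ[K] L) (j : Module.Free.ChooseBasisIndex K A), γ (B.repr y j) = B.repr y j
      · choose a ha using fun j => IntermediateField.mem_bot.1 ((InfiniteGalois.mem_bot_iff_fixed (k := K) (B.repr y j)).2 fun γ => hfix γ j)
        refine ⟨∑ j ∈ (B.repr y).support, a j • b j, fun h => ?_, ?_⟩
        · have h' := congrArg (fun z => b.repr z i) h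
          simp only [map_sum, map_smul, Module.Basis.repr_self, Finsupp.coe_finsetSum, Finset.sum_apply, Finsupp.smul_apply,
            Finsupp.single_apply, smul_eq_mul, mul_ite, mul_one, mul_zero, map_zero, Finsupp.coe_zero, Pi.zero_apply] at h'
          rw [Finset.sum_ite_eq' (B.repr y).support i] at h'
          rw [if_pos (Finsupp.mem_support_iff.2 (by rw [hyi]; exact one_ne_zero))] at h'
          have := ha i
          rw [h', map_zero, hyi] at this
          exact zero_ne_one this
        · convert hy using 1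
          conv_rhs => rw [← B.linearCombination_repr y, Finsupp.linearCombination_apply, Finsupp.sum]
          rw [TensorProduct.tmul_sum]
          refine Finset.sum_congr rfl fun j _ => ?_
          rw [← ha j, Algebra.TensorProduct.basis_apply, TensorProduct.smul_tmul', smul_eq_mul, mul_one,
            Algebra.algebraMap_eq_smul_one, TensorProduct.smul_tmul]
      · push_neg at hfix
        obtain ⟨γ, j, hj⟩ := hfix
        refine ih (φ γ y - y) (P.sub_mem (hPinv γ y hy) hy) (fun h => hj ?_) ?_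
        · rw [← hrepr, sub_eq_zero.1 h]
        · refine Nat.lt_succ_iff.1 (lt_of_lt_of_le (Finset.card_lt_card ?_) hc)
          refine ⟨fun l hl => hys (Finsupp.mem_support_iff.2 fun h => Finsupp.mem_support_iff.1 hl ?_), fun h => ?_⟩
          · rw [map_sub, Finsupp.sub_apply, hrepr, h, map_zero, sub_zero]
          · exact Finsupp.mem_support_iff.1 (h hi) (by rw [map_sub, Finsupp.sub_apply, hrepr, hyi, map_one, sub_self])
  obtain ⟨x, hxI, hx0⟩ : ∃ x ∈ I, x ≠ 0 := by
    by_contra! h
    exact hI.1 (eq_bot_iff.2 fun x hx => (TwoSidedIdeal.mem_bot _).2 (h x hx))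
  obtain ⟨a, ha0, ha⟩ := hmin _ x (hIP hxI) hx0 le_rfl
  have h1 : (1 : L ⊗[K] A) ∈ P := by
    have htop := (IsSimpleRing.simple (R := A)).eq_bot_or_eq_top (TwoSidedIdeal.comap (Algebra.TensorProduct.includeRight : A →ₐ[K] L ⊗[K] A) P)
    rcases htop with h | h
    · exact absurd ((TwoSidedIdeal.mem_bot _).1 (h ▸ (TwoSidedIdeal.mem_comap _).2 ha)) ha0
    · have : (1 : A) ∈ TwoSidedIdeal.comap (Algebra.TensorProduct.includeRight : A →ₐ[K] L ⊗[K] A) P := by rw [h]; trivial
      simpa [TwoSidedIdeal.mem_comap, Algebra.TensorProduct.one_def] using this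
  let Q : TwoSidedIdeal (L ⊗[K] A) := TwoSidedIdeal.mk' {x | ∀ j ∈ J, j * x = 0} (fun j _ => mul_zero j)
    (fun hx hy j hj => by rw [mul_add, hx j hj, hy j hj, add_zero])
    (fun hx j hj => by rw [mul_neg, hx j hj, neg_zero])
    (fun {r x} hx j hj => by rw [← mul_assoc]; exact hx _ (J.mul_mem_right _ _ hj))
    (fun {x r} hx j hj => by rw [← mul_assoc, hx j hj, zero_mul])
  obtain ⟨γ, hγ⟩ : ∃ γ, J ≤ c γ := by
    by_contra! h
    have hPQ : P ≤ Q := iSup_le fun γ y hy => (TwoSidedIdeal.mem_mk' _ _ _ _ _ _ y).2 fun j hj => by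
      have h0 : J ⊓ c γ = ⊥ := (hJ.le_iff.1 inf_le_left).resolve_right fun h' => h γ (h' ▸ inf_le_right)
      refine (TwoSidedIdeal.mem_bot _).1 (h0 ▸ ?_)
      exact ⟨J.mul_mem_right _ _ hj, (c γ).mul_mem_left _ _ hy⟩
    exact hJ.1 (eq_bot_iff.2 fun j hj => (TwoSidedIdeal.mem_bot _).2
      (by simpa using (TwoSidedIdeal.mem_mk' _ _ _ _ _ _ _).1 (hPQ h1) j hj))
  have hI' : TwoSidedIdeal.comap (φ γ⁻¹) J = I := by
    refine ((hI.le_iff.1 fun y hy => ?_).resolve_left fun h => hJ.1 (eq_bot_iff.2 fun j hj => ?_))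
    · have := hγ ((TwoSidedIdeal.mem_comap _).1 hy)
      simp only [c, TwoSidedIdeal.mem_comap] at this
      rwa [hinv] at this
    · have : φ γ j ∈ TwoSidedIdeal.comap (φ γ⁻¹) J := by rw [TwoSidedIdeal.mem_comap, hinv']; exact hj
      rw [h, TwoSidedIdeal.mem_bot] at this
      exact (TwoSidedIdeal.mem_bot _).2 ((φ γ).map_eq_zero_iff.1 this)
  refine ⟨γ⁻¹, Set.ext fun y => ⟨fun hy => ⟨φ γ y, ?_, ?_⟩, ?_⟩⟩
  · rw [SetLike.mem_coe, ← hI', TwoSidedIdeal.mem_comap, hinv']; exact hy
  · rw [← hφ, hinv']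
  · rintro ⟨z, hz, rfl⟩
    rw [SetLike.mem_coe, ← hI', TwoSidedIdeal.mem_comap] at hz
    rwa [← hφ]

end Groth.Agent.S14846
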