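import Groth.Statements.S14847
import Groth.Agent.Comod.Cosemisimple
import Groth.Agent.Comod.LinRed
import Groth.Agent.S14843
import Mathlib.RingTheory.Trace.Basic

set_option autoImplicit false
universe u v
open HopfRep

namespace Groth.Agent.S14847

open TensorProduct in
/-- When K is a field of characteristic zero and G = Spec A is a finite group scheme over K, the
coordinate Hopf algebra A is cosemisimple, i.e. A is the internal direct sum of simple
subcoalgebras. Here a subcoalgebra of A is a subspace B whose comultiplication lands in the image of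
B ⊗ B, and a simple subcoalgebra is a nonzero subcoalgebra D whose only subcoalgebras contained in D
are 0 and D. -/
theorem result {K : Type u} {A : Type v} [Field K] [CharZero K]
    [CommRing A] [HopfAlgebra K A] [Module.Finite K A] :
    ∃ (ι : Type v) (D : ι → Submodule K A), iSupIndep D ∧ iSup D = ⊤ ∧ ∀ i,
        D i ≠ ⊥ ∧ (∀ b ∈ (D i), CoalgebraStruct.comul (R := K) b ∈ LinearMap.range (TensorProduct.map (D i).subtype (D i).subtype)) ∧
        ∀ B : Submodule K A, B ≤ D i → (∀ b ∈ B, CoalgebraStruct.comul (R := K) b ∈ LinearMap.range (TensorProduct.map B.subtype B.subtype)) → B = ⊥ ∨ B = D i := by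
  refine (S14843.result (K := K) (C := A)).2 fun V _ _ _ => ?_
  let S : A →ₐ[K] A := HopfAlgebra.antipodeAlgHom K A
  let l : A →ₐ[K] A ⊗[K] A := Algebra.TensorProduct.includeLeft
  -- the right regular shear map, linear over the left factor
  let r₁ : A →ₐ[K] A ⊗[K] A := (Algebra.TensorProduct.comm K A A).toAlgHom.comp (Bialgebra.comulAlgHom K A)
  let r₂ : A →ₐ[K] A ⊗[K] A := (Algebra.TensorProduct.map S (AlgHom.id K A)).comp r₁
  let β : A ⊗[K] A →ₐ[A] A ⊗[K] A :=
    Algebra.TensorProduct.lift (Algebra.ofId A (A ⊗[K] A)) r₁ fun _ _ => Commute.all _ _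
  let γ : A ⊗[K] A →ₐ[A] A ⊗[K] A :=
    Algebra.TensorProduct.lift (Algebra.ofId A (A ⊗[K] A)) r₂ fun _ _ => Commute.all _ _
  have hβ : ∀ x y : A, β (x ⊗ₜ[K] y) = (x ⊗ₜ[K] (1 : A)) * r₁ y := fun x y => by
    simp [β]
  have hγ : ∀ x y : A, γ (x ⊗ₜ[K] y) = (x ⊗ₜ[K] (1 : A)) * r₂ y := fun x y => by
    simp [γ]
  -- the two composites fix `1 ⊗ y`
  have gen : ∀ (F : A ⊗[K] A →ₐ[A] A ⊗[K] A) (u v : A →ₐ[K] A), (∀ x y : A, F (x ⊗ₜ[K] y) =
        (x ⊗ₜ[K] (1 : A)) * ((Algebra.TensorProduct.map v (AlgHom.id K A)).comp r₁) y) →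
      (∀ y, LinearMap.mul' K A (TensorProduct.map v.toLinearMap u.toLinearMap (Coalgebra.comul (R := K) y)) =
        algebraMap K A (Coalgebra.counit (R := K) y)) →
      ∀ y, F (((Algebra.TensorProduct.map u (AlgHom.id K A)).comp r₁) y) = (1 : A) ⊗ₜ[K] y := by
    intro F u v hF hc y
    let Φ : A ⊗[K] (A ⊗[K] A) →ₗ[K] A ⊗[K] A :=
      (TensorProduct.comm K A A).toLinearMap ∘ₗ
        (LinearMap.mul' K A ∘ₗ TensorProduct.map v.toLinearMap u.toLinearMap).lTensor A
    have h1 : ∀ w : A ⊗[K] A, F ((Algebra.TensorProduct.map u (AlgHom.id K A))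
        ((Algebra.TensorProduct.comm K A A) w)) =
        Φ (TensorProduct.assoc K A A A ((Coalgebra.comul (R := K) (A := A)).rTensor A w)) := by
      intro w
      induction w using TensorProduct.induction_on with
      | zero => simp
      | add a b ha hb => simp only [map_add, ha, hb]
      | tmul a b =>
        simp only [Algebra.TensorProduct.comm_tmul, Algebra.TensorProduct.map_tmul, AlgHom.id_apply, hF, r₁,
          AlgHom.comp_apply, LinearMap.rTensor_tmul, AlgEquiv.toAlgHom_eq_coe, AlgHom.coe_coe,
          Bialgebra.comulAlgHom_apply]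
        induction Coalgebra.comul (R := K) a using TensorProduct.induction_on with
        | zero => simp
        | add p q hp hq => simp only [TensorProduct.add_tmul, map_add, mul_add, hp, hq]
        | tmul p q => simp [Φ, mul_comm]
    refine (h1 _).trans ?_
    have := LinearMap.congr_fun (Coalgebra.coassoc (R := K) (A := A)) y
    simp only [LinearMap.comp_apply, LinearEquiv.coe_coe] at this
    have e0 : ((Bialgebra.comulAlgHom K A : A →ₐ[K] A ⊗[K] A)) y = Coalgebra.comul (R := K) y := rfl
    refine (congrArg (fun z => Φ (TensorProduct.assoc K A A A ((Coalgebra.comul (R := K) (A := A)).rTensor A z))) e0).trans ?_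
    rw [this]
    simp only [Φ, LinearMap.comp_apply, LinearEquiv.coe_coe]
    rw [← LinearMap.lTensor_comp_apply]
    have e : (LinearMap.mul' K A ∘ₗ TensorProduct.map v.toLinearMap u.toLinearMap) ∘ₗ Coalgebra.comul =
        Algebra.linearMap K A ∘ₗ Coalgebra.counit (R := K) (A := A) := LinearMap.ext hc
    rw [e, LinearMap.lTensor_comp_apply, Coalgebra.lTensor_counit_comul]
    simp
  have hr₁ : r₁ = (Algebra.TensorProduct.map (AlgHom.id K A) (AlgHom.id K A)).comp r₁ := by simp
  have hβγ : β.comp γ = AlgHom.id A _ := by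
    refine Algebra.TensorProduct.ext (Subsingleton.elim _ _) (AlgHom.ext fun y => ?_)
    simp only [AlgHom.comp_apply, AlgHom.id_apply, AlgHom.restrictScalars_apply,
      Algebra.TensorProduct.includeRight_apply]
    rw [hγ, ← Algebra.TensorProduct.one_def, one_mul]
    refine gen β S (AlgHom.id K A) (fun x z => (hβ x z).trans (by rw [← hr₁])) (fun z => ?_) y
    exact (HopfAlgebra.mul_antipode_lTensor_comul_apply (R := K) z)
  have hγβ : γ.comp β = AlgHom.id A _ := by
    refine Algebra.TensorProduct.ext (Subsingleton.elim _ _) (AlgHom.ext fun y => ?_)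
    simp only [AlgHom.comp_apply, AlgHom.id_apply, AlgHom.restrictScalars_apply,
      Algebra.TensorProduct.includeRight_apply]
    rw [hβ, ← Algebra.TensorProduct.one_def, one_mul, hr₁]
    refine gen γ (AlgHom.id K A) S (fun x z => hγ x z) (fun z => ?_) y
    exact (HopfAlgebra.mul_antipode_rTensor_comul_apply (R := K) z)
  let t : A →ₗ[K] K := Algebra.trace K A
  have htr : ∀ a : A, Algebra.trace A (A ⊗[K] A) ((1 : A) ⊗ₜ[K] a) = algebraMap K A (t a) := by
    intro a
    rw [Algebra.trace_apply, show t a = LinearMap.trace K A (Algebra.lmul K A a) from rfl,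
      ← LinearMap.trace_baseChange]
    congr 1
    refine TensorProduct.AlgebraTensorModule.ext fun x y => ?_
    simp
  have htmul : ∀ x a : A, Algebra.trace A (A ⊗[K] A) (x ⊗ₜ[K] a) = x * algebraMap K A (t a) := by
    intro x a
    rw [← htr, ← smul_eq_mul, ← map_smul, TensorProduct.smul_tmul', smul_eq_mul, mul_one]
  -- the regular trace is a right invariant integral
  have hinv : ∀ a, t.rTensor A (Coalgebra.comul (R := K) a) = t a ⊗ₜ[K] (1 : A) := by
    intro a
    have h := Algebra.trace_eq_of_algEquiv (AlgEquiv.ofAlgHom β γ hβγ hγβ) ((1 : A) ⊗ₜ[K] a)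
    rw [AlgEquiv.ofAlgHom_apply, hβ, ← Algebra.TensorProduct.one_def, one_mul, htr] at h
    apply (TensorProduct.lid K A).injective
    rw [TensorProduct.lid_tmul, ← Algebra.algebraMap_eq_smul_one, ← h]
    simp only [r₁, AlgHom.comp_apply, AlgEquiv.toAlgHom_eq_coe, AlgHom.coe_coe, Bialgebra.comulAlgHom_apply]
    induction Coalgebra.comul (R := K) a using TensorProduct.induction_on with
    | zero => simp
    | add p q hp hq => simp only [map_add, hp, hq]
    | tmul p q => simp [htmul, Algebra.smul_def, mul_comm]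
  have hn : (t 1 : K) ≠ 0 := by
    have : Nontrivial A := Bialgebra.nontrivial K (A := A)
    have h1 : t 1 = (Module.finrank K A : K) := by
      rw [← map_one (algebraMap K A)]
      exact (Algebra.trace_algebraMap (S := A) (1 : K)).trans (by simp)
    rw [h1, Nat.cast_ne_zero]
    exact Module.finrank_pos.ne'
  exact Comod.IsIntegral.isSemisimpleComod (α := (t 1)⁻¹ • t)
    ⟨fun a => by
      rw [LinearMap.rTensor_smul, LinearMap.smul_apply, hinv, LinearMap.smul_apply, TensorProduct.smul_tmul'],
      by simp [inv_mul_cancel₀ hn]⟩ V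

end Groth.Agent.S14847
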