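import Groth.Statements.S14848
import Mathlib.Tactic
import Mathlib.LinearAlgebra.Matrix.SpecialLinearGroup

set_option autoImplicit false
universe u v
open McKay

namespace Groth.Agent.S14848

open Matrix


/-- Let K be a field of characteristic zero, L an extension field of K and ξ ∈ L a primitive n-th root
of unity (n ≥ 1) with ξ + ξ⁻¹ ∈ K, say ξ + ξ⁻¹ = 2c with c ∈ K (the character of the natural
two-dimensional representation of the cyclic group of order n takes values in K). Then the cyclic
group of order n is realisable over K as a subgroup of SL(2, K): there is an element of SL(2, K) of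
order n. -/
theorem result {K : Type u} {L : Type v} [Field K] [Field L]
    [CharZero K] [Algebra K L] (n : ℕ) (hn : 1 ≤ n) (ξ : L) (hξ : IsPrimitiveRoot ξ n) (c : K)
    (hc : algebraMap K L (2 * c) = ξ + ξ⁻¹) :
    ∃ M : Matrix.SpecialLinearGroup (Fin 2) K, orderOf M = n := by
  have hξ0 : ξ ≠ 0 := hξ.ne_zero (by omega)
  rcases eq_or_ne ξ ξ⁻¹ with hs | hs
  · -- then `ξ = ±1`
    have h2 : ξ ^ 2 = 1 := by
      rw [pow_two]
      nth_rw 2 [hs]
      exact mul_inv_cancel₀ hξ0
    have hd : n ∣ 2 := hξ.dvd_of_pow_eq_one 2 h2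
    have h1 : ((-1 : Matrix.SpecialLinearGroup (Fin 2) K)) ≠ 1 := fun h => by
      have := congrArg (fun M : Matrix.SpecialLinearGroup (Fin 2) K => (M : Matrix (Fin 2) (Fin 2) K) 0 0) h
      simp at this
      norm_num at this
    rcases (Nat.dvd_prime Nat.prime_two).mp hd with rfl | rfl
    · exact ⟨1, orderOf_one⟩
    · refine ⟨-1, orderOf_eq_prime ?_ h1⟩
      rw [pow_two]
      exact Subtype.ext (by simp)
  · let M : Matrix.SpecialLinearGroup (Fin 2) K := ⟨!![0, -1; 1, 2 * c], by simp [det_fin_two]⟩
    refine ⟨M, ?_⟩
    let P : Matrix (Fin 2) (Fin 2) L := !![1, 1; -ξ, -ξ⁻¹]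
    have hP : IsUnit P.det := by
      rw [isUnit_iff_ne_zero]
      simp [P, det_fin_two]
      intro h
      exact hs (by linear_combination h)
    have hinj : Function.Injective (algebraMap K L) := (algebraMap K L).injective
    have hcomm : ((M : Matrix (Fin 2) (Fin 2) K).map (algebraMap K L)) * P =
        P * diagonal ![ξ, ξ⁻¹] := by
      ext i j
      fin_cases i <;> fin_cases j <;>
        simp [M, P, mul_apply, Fin.sum_univ_two, ← map_mul, hc] <;> field_simp <;> ring
    have hpow : ∀ j : ℕ, ((M : Matrix (Fin 2) (Fin 2) K).map (algebraMap K L)) ^ j * P =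
        P * diagonal ![ξ ^ j, ξ⁻¹ ^ j] := by
      intro j
      have h := (show SemiconjBy P (diagonal ![ξ, ξ⁻¹])
        ((M : Matrix (Fin 2) (Fin 2) K).map (algebraMap K L)) from hcomm.symm).pow_right j
      rw [diagonal_pow] at h
      rw [← h.eq]
      congr 2
      funext i
      fin_cases i <;> simp
    have key : ∀ j : ℕ, M ^ j = 1 ↔ ξ ^ j = 1 := by
      intro j
      have e : M ^ j = 1 ↔ ((M : Matrix (Fin 2) (Fin 2) K).map (algebraMap K L)) ^ j = 1 := by
        have e0 : ((M : Matrix (Fin 2) (Fin 2) K).map (algebraMap K L)) ^ j =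
            ((M ^ j : Matrix.SpecialLinearGroup (Fin 2) K) : Matrix (Fin 2) (Fin 2) K).map (algebraMap K L) := by
          rw [SpecialLinearGroup.coe_pow]
          exact (map_pow (algebraMap K L).mapMatrix _ _).symm
        rw [e0]
        constructor
        · intro h
          rw [h]
          simp
        · intro h
          refine Subtype.ext (Matrix.map_injective hinj ?_)
          simpa using h
      rw [e]
      constructor
      · intro h
        have h2 := hpow j
        rw [h, one_mul] at h2
        have h3 : (1 : Matrix (Fin 2) (Fin 2) L) = diagonal ![ξ ^ j, ξ⁻¹ ^ j] := by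
          have := congrArg (P⁻¹ * ·) h2
          simpa [← mul_assoc, nonsing_inv_mul P hP] using this
        simpa using (congrFun (congrFun h3 0) 0).symm
      · intro h
        have h2 := hpow j
        rw [h, inv_pow, h, inv_one, show diagonal ![(1 : L), 1] = 1 by
          ext a b; fin_cases a <;> fin_cases b <;> simp, mul_one] at h2
        have := congrArg (· * P⁻¹) h2
        simpa [mul_assoc, mul_nonsing_inv P hP] using this
    exact Nat.dvd_antisymm (orderOf_dvd_of_pow_eq_one ((key n).mpr hξ.pow_eq_one))
      (hξ.dvd_of_pow_eq_one _ ((key _).mp (pow_orderOf_eq_one M)))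

end Groth.Agent.S14848
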