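import Groth.Statements.S14849
import Mathlib

set_option autoImplicit false
universe u v
open McKay

namespace Groth.Agent.S14849

open Matrix

theorem sc_pow {M : Type*} [Monoid M] {S T S' : M} (h : S * T = T * S') :
    ∀ m : ℕ, S ^ m * T = T * S' ^ m := by
  intro m
  induction m with
  | zero => simp
  | succ m ih => rw [pow_succ', mul_assoc, ih, ← mul_assoc, h, mul_assoc, ← pow_succ']


/-- Let K be a field of characteristic zero, L an extension field of K, n ≥ 2, and ξ ∈ L a primitive
2n-th root of unity with ξ + ξ⁻¹ = 2c for some c ∈ K. If the Hilbert symbol of -1 and c² - 1 over K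
equals 1, i.e. x² - (c² - 1) y² = -1 has a solution in K, then the binary dihedral group of order 4n
(generators σ, τ with τ² = σⁿ = (τσ)²) is isomorphic to a subgroup of SL(2, K). (The published
statement is an equivalence; this row is the direction realising the group from a solution of the
conic.) -/
theorem result {K : Type u} {L : Type v}
    [Field K] [Field L] [CharZero K] [Algebra K L] (n : ℕ) (hn : 2 ≤ n) (ξ : L)
    (hξ : IsPrimitiveRoot ξ (2 * n)) (c : K) (hc : algebraMap K L (2 * c) = ξ + ξ⁻¹)
    (hsol : ∃ x y : K, x ^ 2 - (c ^ 2 - 1) * y ^ 2 = -1) :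
    ∃ f : QuaternionGroup n →* Matrix.SpecialLinearGroup (Fin 2) K, Function.Injective f := by
  classical
  obtain ⟨x, y, hxy⟩ := hsol
  have hn0 : 2 * n ≠ 0 := by omega
  haveI : NeZero (2 * n) := ⟨hn0⟩
  set d : L := ξ - algebraMap K L c with hd
  have hξ0 : ξ ≠ 0 := hξ.ne_zero hn0
  have hc2 : ξ + ξ⁻¹ = 2 * algebraMap K L c := by rw [← hc, map_mul, map_ofNat]
  have hd2 : d ^ 2 = algebraMap K L c ^ 2 - 1 := by
    have h : ξ * ξ⁻¹ = 1 := mul_inv_cancel₀ hξ0
    linear_combination (norm := (simp only [hd]; ring)) ξ * hc2 - h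
  have hξsq : ξ ^ 2 ≠ 1 := hξ.pow_ne_one_of_pos_of_lt two_ne_zero (by omega)
  have h2L : (2 : L) ≠ 0 := by
    intro h
    have h' : algebraMap K L 2 = algebraMap K L 0 := by rw [map_ofNat, map_zero, h]
    exact two_ne_zero ((algebraMap K L).injective h')
  have hdne : d ≠ 0 := by
    intro h0
    apply hξsq
    have : ξ = algebraMap K L c := by rwa [hd, sub_eq_zero] at h0
    rw [h0] at hd2
    rw [this]
    linear_combination -hd2
  let S : SpecialLinearGroup (Fin 2) K := ⟨!![c, c ^ 2 - 1; 1, c], by rw [det_fin_two_of]; ring⟩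
  let T : SpecialLinearGroup (Fin 2) K := ⟨!![x, -(c ^ 2 - 1) * y; y, -x], by
    rw [det_fin_two_of]; linear_combination -hxy⟩
  let P : Matrix (Fin 2) (Fin 2) L := !![d, -d; 1, 1]
  let D : ℕ → Matrix (Fin 2) (Fin 2) L := fun m => !![ξ ^ m, 0; 0, (ξ ^ m)⁻¹]
  let φ : Matrix (Fin 2) (Fin 2) K →+* Matrix (Fin 2) (Fin 2) L := (algebraMap K L).mapMatrix
  have hφ : Function.Injective φ := Matrix.map_injective (algebraMap K L).injective
  let ι : SpecialLinearGroup (Fin 2) K →* Matrix (Fin 2) (Fin 2) K :=
    { toFun := fun A => A.1, map_one' := rfl, map_mul' := fun _ _ => rfl }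
  let ψ : SpecialLinearGroup (Fin 2) K →* Matrix (Fin 2) (Fin 2) L := φ.toMonoidHom.comp ι
  have hψ : Function.Injective ψ := hφ.comp Subtype.val_injective
  have hP : IsUnit P.det := by
    rw [det_fin_two_of, isUnit_iff_ne_zero]
    intro h
    exact mul_ne_zero h2L hdne (by linear_combination h)
  have hSP : ψ S * P = P * D 1 := by
    have hinv : ξ⁻¹ = algebraMap K L c - d := by
      rw [hd]; linear_combination hc2
    have hψS : ψ S = !![algebraMap K L c, algebraMap K L c ^ 2 - 1; 1, algebraMap K L c] := by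
      ext i j
      change algebraMap K L (S.1 i j) = _
      fin_cases i <;> fin_cases j <;> simp [S]
    rw [hψS]
    ext i j
    fin_cases i <;> fin_cases j <;>
      simp [P, D, Matrix.mul_apply, Fin.sum_univ_two, hinv] <;>
      first
        | linear_combination -hd2
        | linear_combination hd2
        | (simp only [hd]; ring)
  have hSm : ∀ m : ℕ, ψ (S ^ m) * P = P * D m := by
    intro m
    induction m with
    | zero => rw [pow_zero, map_one, one_mul]; simp [D, ← Matrix.one_fin_two]
    | succ m ih =>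
      rw [pow_succ', map_mul, mul_assoc, ih, ← mul_assoc, hSP, mul_assoc]
      congr 1
      ext i j
      fin_cases i <;> fin_cases j <;> simp [D, Matrix.mul_apply, Fin.sum_univ_two, pow_succ', mul_comm]
  have hSone : ∀ m : ℕ, S ^ m = 1 ↔ ξ ^ m = 1 := by
    intro m
    constructor
    · intro h
      have := hSm m
      rw [h, map_one, one_mul] at this
      have e := congrFun (congrFun this 1) 0
      simpa [P, D, Matrix.mul_apply, Fin.sum_univ_two] using e.symm
    · intro h
      apply hψ
      rw [map_one]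
      refine (((Matrix.isUnit_iff_isUnit_det P).mpr hP).mul_left_inj).mp ?_
      rw [hSm, one_mul]
      simp [D, h, ← Matrix.one_fin_two]
  have hS2n : S ^ (2 * n) = 1 := (hSone _).mpr hξ.pow_eq_one
  have hSn : ψ (S ^ n) = φ (-1) := by
    refine (((Matrix.isUnit_iff_isUnit_det P).mpr hP).mul_left_inj).mp ?_
    have hneg : ξ ^ n = -1 := by
      have h1 : ξ ^ n * ξ ^ n = 1 := by rw [← pow_add, ← two_mul, hξ.pow_eq_one]
      exact (mul_self_eq_one_iff.mp h1).resolve_left (hξ.pow_ne_one_of_pos_of_lt (by omega) (by omega))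
    rw [hSm, map_neg, map_one, neg_one_mul]
    ext i j
    fin_cases i <;> fin_cases j <;> simp [P, D, hneg, Matrix.mul_apply, Fin.sum_univ_two]
  let sp : ZMod (2 * n) → SpecialLinearGroup (Fin 2) K := fun i => S ^ i.val
  have sp_add : ∀ i j, sp (i + j) = sp i * sp j := fun i j => by
    simp only [sp, ← pow_add]
    rw [ZMod.val_add, ← pow_eq_pow_mod _ hS2n]
  have sp_zero : sp 0 = 1 := by simp [sp]
  have sp_neg : ∀ i, sp (-i) = (sp i)⁻¹ := fun i => eq_inv_of_mul_eq_one_left (by rw [← sp_add, neg_add_cancel, sp_zero])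
  have hrel : S * T = T * S⁻¹ := by
    apply Subtype.ext
    change S.1 * T.1 = T.1 * adjugate S.1
    simp only [S, T, adjugate_fin_two_of]
    ext i j
    fin_cases i <;> fin_cases j <;> simp [Matrix.mul_apply, Fin.sum_univ_two] <;> ring
  have spT : ∀ i, sp i * T = T * sp (-i) := fun i => by
    rw [sp_neg]
    simp only [sp, ← inv_pow]
    exact sc_pow hrel _
  have spn : sp (n : ZMod (2 * n)) = T * T := by
    apply hψ
    simp only [sp, ZMod.val_natCast]
    rw [Nat.mod_eq_of_lt (by omega : n < 2 * n), hSn]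
    change φ (-1) = φ (T.1 * T.1)
    congr 1
    simp only [T]
    ext i j
    fin_cases i <;> fin_cases j <;> simp [Matrix.mul_apply, Fin.sum_univ_two] <;>
      first
        | linear_combination -hxy
        | ring
  let F : QuaternionGroup n → SpecialLinearGroup (Fin 2) K := fun q =>
    match q with
    | .a i => sp i
    | .xa i => T * sp i
  have hmul : ∀ p q, F (p * q) = F p * F q := by
    rintro (i | i) (j | j)
    · exact sp_add i j
    · change T * sp (j - i) = sp i * (T * sp j)
      rw [← mul_assoc, spT, mul_assoc, ← sp_add, neg_add_eq_sub]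
    · change T * sp (i + j) = T * sp i * sp j
      rw [sp_add, mul_assoc]
    · change sp (n + j - i) = T * sp i * (T * sp j)
      rw [mul_assoc, ← mul_assoc (sp i), spT, mul_assoc T, ← mul_assoc T, ← sp_add, ← spn, ← sp_add]
      congr 1
      ring
  let f : QuaternionGroup n →* SpecialLinearGroup (Fin 2) K :=
    { toFun := F, map_one' := sp_zero, map_mul' := hmul }
  refine ⟨f, (injective_iff_map_eq_one f).mpr ?_⟩
  have hinj : ∀ i, sp i = 1 → i = 0 := fun i h => by
    have := (hSone _).mp h
    by_contra hi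
    exact hξ.pow_ne_one_of_pos_of_lt (fun h0 => hi ((ZMod.val_eq_zero i).mp h0)) (ZMod.val_lt i) this
  rintro (i | i) h
  · change sp i = 1 at h
    rw [hinj i h]
    rfl
  · exfalso
    change T * sp i = 1 at h
    have hT : T = sp (-i) := by rw [sp_neg]; exact eq_inv_of_mul_eq_one_left h
    have hcomm : S * T = T * S := by
      rw [hT]
      exact ((Commute.refl S).pow_right _).eq
    rw [hrel] at hcomm
    have : S ^ 2 = 1 := by
      rw [sq]
      exact inv_eq_iff_mul_eq_one.mp (mul_left_cancel hcomm)
    exact hξsq ((hSone 2).mp this)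


end Groth.Agent.S14849
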