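import Groth.Statements.S1485
import Groth.Agent.FlatMor.CechH1.Main
import Groth.Agent.CMReg.FieldBC
import Groth.Agent.ProperFin.Supp
import Groth.Agent.S0403
import Groth.Agent.S7411
-- import your own Groth.Agent.* helpers here

set_option autoImplicit false
universe u
open FlatMor

namespace Groth.Agent.S1485

open AlgebraicGeometry CategoryTheory Limits in
theorem exists_goodChart_baseChange {X Y Y' : Scheme.{u}} (f : X ⟶ Y) [IsProper f] (g : Y' ⟶ Y)
    (y' : Y') (hdim : topologicalKrullDim ↑(f.fiber (g y')) ≤ 1)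
    (hR1 : ∀ U : Y'.Opens, IsAffineOpen U → Subsingleton (Coh.HHon (pullback f g) (Coh.structureModule (pullback f g)) (pullback.snd f g ⁻¹ᵁ U) 1)) :
    ∃ (W Z : Scheme.{u}) (j : W ⟶ Y') (k : Z ⟶ pullback f g) (q : Z ⟶ W),
      FlatMor.CechH1.IsGoodChart (pullback.snd f g) y' j k q := by
  let f' := pullback.snd f g
  let O : Y.Opens := ⟨_, S0403.result f 1⟩
  obtain ⟨W, hW, hyW, hWO⟩ := exists_isAffineOpen_mem_and_subset (x := g y') (U := O) hdim
  haveI : IsAffine W.toScheme := hW
  let fW := f ∣_ W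
  haveI : IsProper fW := MorphismProperty.of_isPullback (isPullback_morphismRestrict f W).flip ‹_›
  obtain ⟨D⟩ := CBC.nonempty_model fW (isAffineOpen_top W.toScheme)
  haveI : Fintype D.ι := Fintype.ofFinite _
  have hvan : VanQC.Van D.U 1 := fun M hM n hn => by
    haveI := hM
    haveI : Coh.IsQCoh M := hM
    refine VanQC.cechExact_of_subsingleton_rpush D M (isAffineOpen_top W.toScheme) n ?_
    exact VanQC.subsingleton_rpush_sections fW M (n + 1) ⊤ fun v _ =>
      S7411.result fW v 1 ((VanQC.dim_fiber_restrict f W v).trans_le (hWO v.2)) M (n + 1)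
        (Nat.lt_succ_of_le hn)
  obtain ⟨W', hW', hyW', hle⟩ := exists_isAffineOpen_mem_and_subset (x := y') (U := g ⁻¹ᵁ W) hyW
  haveI : IsAffine W'.toScheme := hW'
  let gW := g.resLE W W' hle
  have hrange : Set.range ((f' ⁻¹ᵁ W').ι ≫ pullback.fst f g) ⊆ Set.range (f ⁻¹ᵁ W).ι := by
    rintro _ ⟨p, rfl⟩
    rw [Scheme.Opens.range_ι]
    show f (pullback.fst f g p.1) ∈ W
    rw [← Scheme.Hom.comp_apply, pullback.condition, Scheme.Hom.comp_apply]
    exact hle p.2
  let a := IsOpenImmersion.lift (f ⁻¹ᵁ W).ι ((f' ⁻¹ᵁ W').ι ≫ pullback.fst f g) hrange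
  have hsq : IsPullback a (f' ∣_ W') fW gW := by
    refine IsPullback.of_right ?_ ?_ (isPullback_morphismRestrict f W).flip
    · rw [IsOpenImmersion.lift_fac, Scheme.Hom.resLE_comp_ι]
      exact (isPullback_morphismRestrict f' W').flip.paste_horiz (IsPullback.of_hasPullback f g)
    · rw [← cancel_mono W.ι, Category.assoc, morphismRestrict_ι, IsOpenImmersion.lift_fac_assoc,
        Category.assoc, Category.assoc, Scheme.Hom.resLE_comp_ι, morphismRestrict_ι_assoc, pullback.condition]
  haveI : IsAffineHom a := MorphismProperty.of_isPullback (P := @IsAffineHom) hsq.flip inferInstance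
  have hcov : iSup (FlatMor.CechH1.pre D.U a) = ⊤ :=
    FlatMor.CechH1.iSup_pre D.U a (top_le_iff.mp D.cov)
  have haff : ∀ {n : ℕ} (x : Fin (n + 1) → D.ι),
      IsAffineOpen (FlatMor.CechH1.iO (FlatMor.CechH1.pre D.U a) x) := fun x =>
    FlatMor.CechH1.isAffineOpen_iO_pre D.U a D.aff x
  have hZ : Subsingleton (Coh.HH (f' ⁻¹ᵁ W').toScheme (Coh.structureModule (f' ⁻¹ᵁ W').toScheme) 1) :=
    haveI := hR1 W' hW'
    (CohLin.hIso (X := (f' ⁻¹ᵁ W').toScheme)
      (Scheme.Modules.restrictUnitIso (f' ⁻¹ᵁ W').ι) 1).toEquiv.symm.subsingleton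
  exact ⟨_, _, W'.ι, (f' ⁻¹ᵁ W').ι, f' ∣_ W', ⟨inferInstance, inferInstance, ⟨⟨y', hyW'⟩, rfl⟩,
    (isPullback_morphismRestrict f' W').flip,
    ⟨D.ι, inferInstance, FlatMor.CechH1.pre D.U a, hcov, haff, FlatMor.CechH1.van_pre D.U a hvan,
      (FlatMor.CechH1.exact1_iff_subsingleton _ hcov haff).mpr hZ⟩⟩⟩

open AlgebraicGeometry CategoryTheory Limits in
theorem subsingleton_fiber_baseChange {X Y Y' : Scheme.{u}} (f : X ⟶ Y) [IsProper f] (g : Y' ⟶ Y)
    (y' : Y') {W Z : Scheme.{u}} {j : W ⟶ Y'} {k : Z ⟶ pullback f g} {q : Z ⟶ W}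
    (hG : FlatMor.CechH1.IsGoodChart (pullback.snd f g) y' j k q) :
    Subsingleton (Coh.HH ((pullback.snd f g).fiber y')
      (Coh.structureModule ((pullback.snd f g).fiber y')) 1) := by
  haveI := hG.openImm
  let b := IsOpenImmersion.lift j (Y'.fromSpecResidueField y')
    (by rw [Scheme.range_fromSpecResidueField]; exact Set.singleton_subset_iff.mpr hG.mem)
  have hb : b ≫ j = Y'.fromSpecResidueField y' := IsOpenImmersion.lift_fac _ _ _
  let f' := pullback.snd f g
  let a := hG.sq.lift (f'.fiberι y') (f'.fiberToSpecResidueField y' ≫ b)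
    (by rw [Category.assoc, hb]; exact pullback.condition)
  have hsq : IsPullback a (f'.fiberToSpecResidueField y') q b :=
    IsPullback.of_right (by rw [hG.sq.lift_fst, hb]; exact IsPullback.of_hasPullback f' _)
      (hG.sq.lift_snd _ _ _) hG.sq
  exact hG.subsingleton b a _ hsq

open AlgebraicGeometry CategoryTheory Limits in
/-- Let f : X → Y be proper and y a point with fibre of dimension ≤ 1. Suppose there is a morphism g :
Y' → Y whose image contains y such that, for the base change f' : X' → Y', H^1 of the structure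
sheaf vanishes over the preimage of every affine open of Y' (that is, R^1 f'_* O = 0; taking g the
identity covers the case R^1 f_* O_X = 0). Then H^1(X_y, O_{X_y}) = 0. -/
theorem result {X Y Y' : Scheme.{u}} (f : X ⟶ Y) [IsProper f] (y : Y) (hdim : topologicalKrullDim ↑(f.fiber y) ≤ 1)
    (g : Y' ⟶ Y) (hy : y ∈ Set.range ⇑g)
    (hR1 : ∀ U : Y'.Opens, IsAffineOpen U → Subsingleton (Coh.HHon (pullback f g) (Coh.structureModule (pullback f g)) (pullback.snd f g ⁻¹ᵁ U) 1)) :
    Subsingleton (Coh.HH (f.fiber y) (Coh.structureModule (f.fiber y)) 1) := by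
  obtain ⟨y', rfl⟩ := hy
  obtain ⟨W, Z, j, k, q, hG⟩ := exists_goodChart_baseChange f g y' hdim hR1
  have h' := subsingleton_fiber_baseChange f g y' hG
  let f' := pullback.snd f g
  letI : Algebra (Y.residueField (g y')) (Y'.residueField y') := (g.residueFieldMap y').hom.toAlgebra
  let κ := Spec.map (g.residueFieldMap y')
  have hκ : κ ≫ Y.fromSpecResidueField (g y') = Y'.fromSpecResidueField y' ≫ g :=
    g.SpecMap_residueFieldMap_fromSpecResidueField y'
  let r : f'.fiber y' ⟶ f.fiber (g y') :=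
    pullback.lift (f'.fiberι y' ≫ pullback.fst f g) (f'.fiberToSpecResidueField y' ≫ κ)
      (by rw [Category.assoc, Category.assoc, pullback.condition, hκ]; exact pullback.condition_assoc g)
  have hr : IsPullback r (f'.fiberToSpecResidueField y') (f.fiberToSpecResidueField (g y')) κ := by
    refine IsPullback.of_right ?_ (pullback.lift_snd _ _ _)
      (IsPullback.of_hasPullback f (Y.fromSpecResidueField (g y')))
    erw [pullback.lift_fst]
    rw [hκ]
    exact (IsPullback.of_hasPullback f' (Y'.fromSpecResidueField y')).paste_horiz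
      (IsPullback.of_hasPullback f g)
  haveI : IsProper (f.fiberToSpecResidueField (g y')) :=
    MorphismProperty.pullback_snd f (Y.fromSpecResidueField (g y')) inferInstance
  refine (CMReg.subsingleton_baseChange_iff (k := Y.residueField (g y'))
    (f := f.fiberToSpecResidueField (g y')) (K := Y'.residueField y') r
    (f'.fiberToSpecResidueField y') hr _ (ProperFin.isCoh_structureModule _) 1).1 ?_
  exact (CohLin.hIso (QCoh.pullbackUnitIso r) 1).toEquiv.subsingleton

end Groth.Agent.S1485
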