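import Groth.Statements.S14850
import Groth.Agent.Comod.Cosemisimple
import Groth.Agent.S14839

set_option autoImplicit false
universe u v
open HopfRep

namespace Groth.Agent.S14850

open TensorProduct in
/-- Over a field K, a nonzero coalgebra C is simple if and only if C is isotypic as a right comodule
over itself, i.e. C is the internal direct sum of the images of a family of injective comodule maps
from one simple right C-comodule E. Here a subcoalgebra of C is a subspace B whose comultiplication
lands in the image of B ⊗ B, and C is simple when its only subcoalgebras are 0 and C. (Stated for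
the right regular comodule; the published statement allows left or right.) -/
theorem result {K : Type u} {C : Type v} [Field K] [AddCommGroup C]
    [Module K C] [Coalgebra K C] [Nontrivial C] :
    (∀ B : Submodule K C, (∀ b ∈ B, CoalgebraStruct.comul (R := K) b ∈ LinearMap.range (TensorProduct.map B.subtype B.subtype)) → B = ⊥ ∨ B = ⊤) ↔
    ∃ (E : Type v) (_ : AddCommGroup E) (_ : Module K E) (_ : HopfRep.Comod K C E),
      HopfRep.IsSimpleComod K C E ∧
      ∃ (ι : Type v) (f : ι → (E →ₗ[K] C)),
        (∀ i, Hoch.IsComodHom C (f i) ∧ Function.Injective (f i)) ∧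
        iSupIndep (fun i => LinearMap.range (f i)) ∧ (⨆ i, LinearMap.range (f i)) = ⊤ := by
  constructor
  · intro h
    have hfin : Module.Finite K C := S14839.result h
    have hfin' : Module.Finite K (⊤ : Submodule K C) := Module.Finite.equiv Submodule.topEquiv.symm
    have hD : Comod.IsSimpleSubcoalg K (⊤ : Submodule K C) :=
      ⟨top_ne_bot, fun b _ => (Comod.mem_range_map_iff _ _ _).2 ⟨fun _ => trivial, fun _ => trivial⟩,
        fun B _ hB => h B hB⟩
    obtain ⟨U, hU, -, hsimp, hco⟩ := Comod.exists_simple_subcomod hD
    letI := ComodSub.Comod.restr (HopfRep.Comod.regular K C) U hU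
    have hss := Comod.isSemisimpleModule_coeff (k := K) (C := C) (V := U)
    have htop : Comod.toSub (Comod.coeff K C U) (Comod.isSubcomod_of_isSubcoalg Comod.isSubcoalg_coeff) = ⊤ :=
      Submodule.restrictScalars_injective K _ _ (by simpa using hco)
    rw [htop] at hss
    have : IsSemisimpleModule (Comod.Dual K C) C := IsSemisimpleModule.congr (N := C)
      (M := (⊤ : Submodule (Comod.Dual K C) C)) Submodule.topEquiv.symm
    obtain ⟨s, hs, hstop, hssimp⟩ := IsSemisimpleModule.exists_sSupIndep_sSup_simples_eq_top (Comod.Dual K C) C
    refine ⟨U, inferInstance, inferInstance, _, (Comod.isSimpleComod_iff K C U).2 hsimp, ?_⟩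
    have he : ∀ m : s, Nonempty (↥(m.1) ≃ₗ[Comod.Dual K C] U) := fun m => by
      have := hssimp m.1 m.2
      exact Comod.nonempty_equiv_of_le_coeff (V := U) m.1 (by rw [hco]; exact le_top)
    let f : s → (U →ₗ[Comod.Dual K C] C) := fun m => m.1.subtype.comp (he m).some.symm.toLinearMap
    have hr : ∀ m : s, LinearMap.range ((f m).restrictScalars K) = m.1.restrictScalars K := by
      intro m
      refine le_antisymm ?_ fun x hx => ⟨(he m).some ⟨x, hx⟩, by simp [f]⟩
      rintro _ ⟨x, rfl⟩
      exact ((he m).some.symm x).2
    refine ⟨s, fun m => (f m).restrictScalars K, fun m =>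
      ⟨Comod.isComodHom_restrictScalars (f m), m.1.injective_subtype.comp (he m).some.symm.injective⟩, ?_, ?_⟩
    · simp only [hr]
      rw [iSupIndep_iff_finset_sum_eq_zero_imp_eq_zero]
      exact (iSupIndep_iff_finset_sum_eq_zero_imp_eq_zero (fun m : s => (m.1 : Submodule (Comod.Dual K C) C))).1
        ((sSupIndep_iff _).1 hs)
    · simp only [hr]
      refine eq_top_iff.2 fun x hx0 => ?_
      clear hx0
      have hx : x ∈ sSup s := hstop ▸ Submodule.mem_top
      rw [sSup_eq_iSup'] at hx
      induction hx using Submodule.iSup_induction' with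
      | mem m y hy => exact Submodule.mem_iSup_of_mem m hy
      | zero => simp
      | add y z _ _ hy hz => exact add_mem hy hz
  · rintro ⟨E, _, _, _, hE, ι, f, hf, hind, htop⟩ B hB
    have := (Comod.isSimpleComod_iff K C E).1 hE
    have hco : Comod.coeff K C E = ⊤ :=
      eq_top_iff.2 (htop ▸ iSup_le fun i => Comod.range_le_coeff (hf i).1)
    exact (Comod.isSimpleSubcoalg_coeff (k := K) (C := C) (V := E)).2.2 B (hco ▸ le_top) hB |>.imp id
      (fun h => h.trans hco)

end Groth.Agent.S14850
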