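import Groth.Statements.S14851
import Groth.Agent.Comod.Cosemisimple

set_option autoImplicit false
universe u v w w'
open HopfRep

namespace Groth.Agent.S14851

open TensorProduct in
/-- The map E ↦ C(E) from isomorphism classes of simple comodules to simple subcoalgebras is injective,
that is: over a field K, two simple right comodules E, E' over a coalgebra C with the same
coefficient space D (the least subspace D' of C such that the coaction lands in E ⊗ D', resp. E' ⊗
D') are isomorphic as comodules. (The published statement is made for a cosemisimple coalgebra and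
for left comodules; the printed argument for this part uses neither restriction.) -/
theorem result {K : Type u} {C : Type v} [Field K]
    [AddCommGroup C] [Module K C] [Coalgebra K C]
    {E : Type w} [AddCommGroup E] [Module K E] [HopfRep.Comod K C E]
    {E' : Type w'} [AddCommGroup E'] [Module K E'] [HopfRep.Comod K C E']
    (hE : HopfRep.IsSimpleComod K C E) (hE' : HopfRep.IsSimpleComod K C E') (D : Submodule K C)
    (hD : IsLeast {D' : Submodule K C |
      ∀ e : E, HopfRep.Comod.coact (k := K) (A := C) e ∈ LinearMap.range (LinearMap.lTensor E D'.subtype)} D)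
    (hD' : IsLeast {D' : Submodule K C |
      ∀ e : E', HopfRep.Comod.coact (k := K) (A := C) e ∈ LinearMap.range (LinearMap.lTensor E' D'.subtype)} D) :
    ∃ e : E ≃ₗ[K] E', Hoch.IsComodHom C e.toLinearMap := by
  obtain rfl : D = Comod.coeff K C E := hD.unique Comod.isLeast_coeff
  have heq : Comod.coeff K C E = Comod.coeff K C E' := hD'.unique Comod.isLeast_coeff
  have := (Comod.isSimpleComod_iff K C E).1 hE
  have := (Comod.isSimpleComod_iff K C E').1 hE'
  have hnt : Nontrivial E' := hE'.1
  obtain ⟨v, hv⟩ := exists_ne (0 : E')
  obtain ⟨f, hf⟩ : ∃ f : E' →ₗ[K] K, f v ≠ 0 := by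
    by_contra! hh
    exact hv (Module.forall_dual_apply_eq_zero_iff K v |>.1 hh)
  let g := Comod.homToDual (A := C) (Comod.mc C f) (Comod.isComodHom_mc f)
  have hg : g ≠ 0 := fun h => hf (by
    rw [← Comod.counit_mc (C := C) f v, show Comod.mc C f v = 0 from LinearMap.congr_fun h v, map_zero])
  have hinj := (LinearMap.injective_of_ne_zero hg)
  have : IsSimpleModule (Comod.Dual K C) (LinearMap.range g) :=
    IsSimpleModule.congr (N := E') (LinearEquiv.ofInjective g hinj).symm
  obtain ⟨e⟩ := Comod.nonempty_equiv_of_le_coeff (V := E) (LinearMap.range g) (fun x hx => by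
    obtain ⟨y, rfl⟩ := hx
    rw [heq]
    exact Submodule.mem_iSup_of_mem f ⟨y, rfl⟩)
  let e' := e.symm.trans (LinearEquiv.ofInjective g hinj).symm
  exact ⟨e'.restrictScalars K, Comod.isComodHom_restrictScalars e'.toLinearMap⟩

end Groth.Agent.S14851
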