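import Groth.Statements.S14853
import Groth.Agent.GrpScheme.ClosedRep

set_option autoImplicit false
universe u
open scoped TensorProduct
open HilbD

namespace Groth.Agent.S14853

open TensorProduct in
section
variable {R : Type u} [CommRing R] {B : Type u} [CommRing B] [Algebra R B] {e : ℕ}

/-- Stability under multiplication by `B`. -/
def Stable {A : Type u} [CommRing A] [Algebra R A] (N : Submodule A (A ⊗[R] B)) : Prop :=
  ∀ (b : B) (x : A ⊗[R] B), x ∈ N → ((1 : A) ⊗ₜ[R] b) * x ∈ N

/-- The obstruction ideal to stability. -/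
def obsIdeal {A : Type u} [CommRing A] [Algebra R A] (N : Submodule A (A ⊗[R] B)) : Ideal A :=
  Ideal.span {a | ∃ (b : B) (x : A ⊗[R] B) (φ : (A ⊗[R] B ⧸ N) →ₗ[A] A),
    x ∈ N ∧ a = φ (N.mkQ (((1 : A) ⊗ₜ[R] b) * x))}

theorem one_tmul_eq_zero_iff (A C Q : Type u) [CommRing A] [CommRing C] [Algebra A C] [AddCommGroup Q]
    [Module A Q] [Module.Projective A Q] (q : Q) :
    (1 : C) ⊗ₜ[A] q = 0 ↔ ∀ φ : Q →ₗ[A] A, algebraMap A C (φ q) = 0 := by
  constructor
  · intro h φ
    have := congrArg (TensorProduct.rid A C) (congrArg (φ.lTensor C) h)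
    simpa [Algebra.smul_def] using this
  · intro h
    obtain ⟨s, hs⟩ := Module.projective_def.mp (inferInstance : Module.Projective A Q)
    rw [← hs q, Finsupp.linearCombination_apply, Finsupp.sum, TensorProduct.tmul_sum]
    refine Finset.sum_eq_zero fun p _ => ?_
    rw [TensorProduct.tmul_smul, TensorProduct.smul_tmul', Algebra.smul_def, mul_one,
      show algebraMap A C (s q p) = 0 from h ((Finsupp.lapply p).comp s), TensorProduct.zero_tmul]

theorem stable_map_iff {A C : Type u} [CommRing A] [Algebra R A] [CommRing C] [Algebra R C]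
    (f : A →ₐ[R] C) (N : Module.Grassmannian A (A ⊗[R] B) e) :
    Stable (Module.Grassmannian.map f N).toSubmodule ↔ obsIdeal N.toSubmodule ≤ RingHom.ker f := by
  letI : Algebra A C := f.toAlgebra
  haveI : IsScalarTower R A C := IsScalarTower.of_algebraMap_eq' f.comp_algebraMap.symm
  rw [Module.Grassmannian.map_toSubmodule]
  let μ : A ⊗[R] B →ₐ[R] C ⊗[R] B := Algebra.TensorProduct.map f (AlgHom.id R B)
  let U := N.toSubmodule
  have hμ : ∀ z, Module.Grassmannian.baseChangeMkQ C U (μ z) = (1 : C) ⊗ₜ[A] U.mkQ z := by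
    intro z
    induction z using TensorProduct.induction_on with
    | zero => simp
    | tmul a b =>
      have hab : a ⊗ₜ[R] b = a • ((1 : A) ⊗ₜ[R] b) := by rw [TensorProduct.smul_tmul', smul_eq_mul, mul_one]
      simp only [μ, Algebra.TensorProduct.map_tmul, AlgHom.id_apply, Module.Grassmannian.baseChangeMkQ,
        LinearMap.comp_apply, LinearEquiv.coe_coe, TensorProduct.AlgebraTensorModule.cancelBaseChange_symm_tmul,
        LinearMap.baseChange_tmul]
      conv_rhs => rw [hab, map_smul, TensorProduct.tmul_smul, TensorProduct.smul_tmul', Algebra.smul_def, mul_one]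
      rfl
    | add x y hx hy => simp [map_add, hx, hy, TensorProduct.tmul_add]
  have hk : obsIdeal N.toSubmodule ≤ RingHom.ker f ↔
      ∀ (b : B) (x : A ⊗[R] B), x ∈ U → (1 : C) ⊗ₜ[A] U.mkQ (((1 : A) ⊗ₜ[R] b) * x) = 0 := by
    constructor
    · intro h b x hx
      rw [one_tmul_eq_zero_iff]
      exact fun φ => h (Ideal.subset_span ⟨b, x, φ, hx, rfl⟩)
    · intro h
      rw [obsIdeal, Ideal.span_le]
      rintro _ ⟨b, x, φ, hx, rfl⟩
      exact (one_tmul_eq_zero_iff A C _ _).mp (h b x hx) φ
  have hμb : ∀ b x, μ (((1 : A) ⊗ₜ[R] b) * x) = ((1 : C) ⊗ₜ[R] b) * μ x := fun b x => by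
    rw [map_mul]
    congr 1
    simp [μ]
  rw [hk]
  constructor
  · intro h b x hx
    have hx' : μ x ∈ LinearMap.ker (Module.Grassmannian.baseChangeMkQ C U) := by
      rw [LinearMap.mem_ker, hμ, Submodule.mkQ_apply, (Submodule.Quotient.mk_eq_zero U).mpr hx, TensorProduct.tmul_zero]
    have := h b _ hx'
    rwa [← hμb, LinearMap.mem_ker, hμ] at this
  · intro h b x hx
    rw [LinearMap.mem_ker] at hx ⊢
    have hex := lTensor_exact C (LinearMap.exact_subtype_mkQ U) U.mkQ_surjective
    obtain ⟨w, hw⟩ := (hex _).mp (show U.mkQ.lTensor C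
      ((TensorProduct.AlgebraTensorModule.cancelBaseChange R A C C B).symm x) = 0 from hx)
    have hx2 : x = TensorProduct.AlgebraTensorModule.cancelBaseChange R A C C B (U.subtype.lTensor C w) := by
      rw [hw, LinearEquiv.apply_symm_apply]
    subst hx2
    clear hx hw
    induction w using TensorProduct.induction_on with
    | zero => simp
    | tmul c u =>
      have hcu : TensorProduct.AlgebraTensorModule.cancelBaseChange R A C C B (c ⊗ₜ[A] (u : A ⊗[R] B)) = c • μ u := by
        obtain ⟨u, hu⟩ := u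
        show TensorProduct.AlgebraTensorModule.cancelBaseChange R A C C B (c ⊗ₜ[A] u) = c • μ u
        clear hu
        induction u using TensorProduct.induction_on with
        | zero => simp
        | tmul a b =>
          simp [μ, Algebra.smul_def, mul_comm, TensorProduct.smul_tmul']
          rfl
        | add y z hy hz => simp only [map_add, TensorProduct.tmul_add, smul_add, hy, hz]
      rw [LinearMap.lTensor_tmul, Submodule.subtype_apply, hcu, mul_smul_comm, ← hμb, map_smul, hμ,
        h b _ u.2, smul_zero]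
    | add y z hy hz => simp only [map_add, mul_add, hy, hz, add_zero]

theorem stable_iff {A : Type u} [CommRing A] [Algebra R A] (N : Module.Grassmannian A (A ⊗[R] B) e) :
    Stable N.toSubmodule ↔ obsIdeal N.toSubmodule = ⊥ := by
  have h := stable_map_iff (AlgHom.id R A) N
  rw [show Module.Grassmannian.map (AlgHom.id R A) N = N from
    Module.Grassmannian.map_id e (CommAlgCat.of R A) N] at h
  rw [h]
  exact ⟨fun h => le_bot_iff.mp (h.trans (fun a ha => ha)), fun h => h ▸ bot_le⟩

end

open CategoryTheory AlgebraicGeometry in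
/-- The `R`-algebra attached to an affine scheme over `X`. -/
noncomputable def algOf {R : Type u} [CommRing R] (X : Over (Spec (CommRingCat.of R))) (C : CommRingCat.{u})
    (y : Spec C ⟶ X.left) : CommAlgCat.{u} R :=
  @CommAlgCat.of R _ C _ (Spec.preimage (y ≫ X.hom) : CommRingCat.of R ⟶ C).hom.toAlgebra

open CategoryTheory AlgebraicGeometry in
/-- The tautological point. -/
noncomputable def gOf {R : Type u} [CommRing R] (X : Over (Spec (CommRingCat.of R))) (C : CommRingCat.{u})
    (y : Spec C ⟶ X.left) : Over.mk (Spec.map (CommRingCat.ofHom (algebraMap R (algOf X C y)))) ⟶ X :=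
  Over.homMk y (Spec.map_preimage _).symm

open AlgebraicGeometry CategoryTheory in
/-- Let R be a commutative ring, B a commutative R-algebra, e a natural number, and X an R-scheme
representing the Grassmannian functor Grass^e(B) on affine R-schemes — bijections, natural in the
commutative R-algebra A, between R-morphisms Spec A → X and A-submodules U of A ⊗_R B whose quotient
is finite projective of constant rank e. Then the Hilbert functor of e points of Spec B over Spec R
is a closed subfunctor: there is a closed immersion ι : Z → X such that an R-morphism g : Spec A → X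
factors through ι if and only if the submodule U attached to g is an ideal of A ⊗_R B, i.e. is
stable under multiplication by every 1 ⊗ b. (The published statement is for a quasi-coherent algebra
over an arbitrary base scheme and for the equivariant functors; this row is the case of an affine
base and trivial group.) -/
theorem result (R : Type u) [CommRing R]
    (B : Type u) [CommRing B] [Algebra R B]
    (e : ℕ) (X : Over (Spec (CommRingCat.of R)))
    (eX : ∀ A : CommAlgCat.{u} R,
      ((Over.mk (Spec.map (CommRingCat.ofHom (algebraMap R A)))) ⟶ X) ≃ (Module.Grassmannian.functor (R := R) (M := B) e).obj A)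
    (heX : ∀ (A C : CommAlgCat.{u} R) (φ : A ⟶ C)
      (g : Over.mk (Spec.map (CommRingCat.ofHom (algebraMap R A))) ⟶ X) (g' : Over.mk (Spec.map (CommRingCat.ofHom (algebraMap R C))) ⟶ X),
      g'.left = Spec.map (CommRingCat.ofHom φ.hom.toRingHom) ≫ g.left →
        eX C g' = (Module.Grassmannian.functor (R := R) (M := B) e).map φ (eX A g)) :
    ∃ (Z : Scheme.{u}) (ι : Z ⟶ X.left), IsClosedImmersion ι ∧
      ∀ (A : CommAlgCat.{u} R) (g : Over.mk (Spec.map (CommRingCat.ofHom (algebraMap R A))) ⟶ X),
        (∃ h : (Over.mk (Spec.map (CommRingCat.ofHom (algebraMap R A)))).left ⟶ Z, h ≫ ι = g.left) ↔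
          ∀ (b : B) (x : ↑A ⊗[R] B), x ∈ (eX A g).toSubmodule →
            ((1 : ↑A) ⊗ₜ[R] b) * x ∈ (eX A g).toSubmodule := by
  let Obs : ∀ (C : CommRingCat.{u}), (Spec C ⟶ X.left) → Ideal C := fun C y =>
    (obsIdeal (eX (algOf X C y) (gOf X C y)).toSubmodule : Ideal (algOf X C y))
  -- the obstruction is compatible with base change
  have hbase : ∀ (C C' : CommRingCat.{u}) (χ : C ⟶ C') (y : Spec C ⟶ X.left),
      Obs C' (Spec.map χ ≫ y) = ⊥ ↔ Obs C y ≤ RingHom.ker χ.hom := by
    intro C C' χ y
    have hcomm : (Spec.preimage ((Spec.map χ ≫ y) ≫ X.hom) : CommRingCat.of R ⟶ C') =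
        (Spec.preimage (y ≫ X.hom) : CommRingCat.of R ⟶ C) ≫ χ :=
      Spec.map_injective (by rw [Spec.map_preimage, Spec.map_comp, Spec.map_preimage, Category.assoc])
    let φ : algOf X C y ⟶ algOf X C' (Spec.map χ ≫ y) := ConcreteCategory.ofHom (C := CommAlgCat R)
      ({ toRingHom := χ.hom, commutes' := fun r => (ConcreteCategory.congr_hom hcomm r).symm } :
        (algOf X C y : CommAlgCat R) →ₐ[R] algOf X C' (Spec.map χ ≫ y))
    have := heX _ _ φ (gOf X C y) (gOf X C' (Spec.map χ ≫ y)) rfl
    show obsIdeal (eX (algOf X C' (Spec.map χ ≫ y)) (gOf X C' (Spec.map χ ≫ y))).toSubmodule = ⊥ ↔ _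
    rw [← stable_iff, this]
    exact stable_map_iff φ.hom (eX (algOf X C y) (gOf X C y))
  let Φ : ∀ ⦃T : Scheme.{u}⦄, (T ⟶ X.left) → Prop := fun T x =>
    ∀ (C : CommRingCat.{u}) (ψ : Spec C ⟶ T), Obs C (ψ ≫ x) = ⊥
  have haff : ∀ (C : CommRingCat.{u}) (y : Spec C ⟶ X.left), Φ y ↔ Obs C y = ⊥ := by
    intro C y
    refine ⟨fun h => by simpa using h C (𝟙 _), fun h C' ψ => ?_⟩
    rw [← Spec.map_preimage ψ, hbase C C' (Spec.preimage ψ) y, h]
    exact bot_le
  have hgood : Groth.Agent.GrpScheme.ClosedRep.IsGood Φ := by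
    refine ⟨fun g x h C ψ => by rw [← Category.assoc]; exact h C (ψ ≫ g), fun {T} 𝒰 x h C ψ => ?_⟩
    refine (Submodule.eq_bot_iff _).mpr fun a ha => ?_
    refine Groth.Agent.GrpScheme.ClosedRep.eq_zero_of_span_eq_top (C := C)
      (s := {g | ∃ (i : 𝒰.I₀), (PrimeSpectrum.basicOpen g : Set (PrimeSpectrum C)) ⊆ ψ ⁻¹' Set.range (𝒰.f i)}) ?_ fun g hg => ?_
    · rw [← PrimeSpectrum.zeroLocus_empty_iff_eq_top, PrimeSpectrum.zeroLocus_span, Set.eq_empty_iff_forall_notMem]
      intro p hp
      obtain ⟨z, hz⟩ := 𝒰.covers (ψ p)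
      obtain ⟨_, ⟨_, ⟨g, rfl⟩, rfl⟩, hpg, hgs⟩ := PrimeSpectrum.isBasis_basic_opens.exists_subset_of_mem_open
        (show p ∈ ψ ⁻¹' Set.range (𝒰.f (𝒰.idx (ψ p))) from ⟨z, hz⟩)
        ((𝒰.f _).isOpenEmbedding.isOpen_range.preimage ψ.continuous)
      exact hpg (hp ⟨_, hgs⟩)
    · obtain ⟨i, hi⟩ := hg
      let L := CommRingCat.of (Localization.Away g)
      let ℓ : C ⟶ L := CommRingCat.ofHom (algebraMap C (Localization.Away g))
      have hrange : Set.range (Spec.map ℓ ≫ ψ) ⊆ Set.range (𝒰.f i) := by
        rintro _ ⟨p, rfl⟩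
        rw [Scheme.Hom.comp_apply]
        refine hi ?_
        show Spec.map ℓ p ∈ (PrimeSpectrum.basicOpen g : Set (PrimeSpectrum C))
        rw [← PrimeSpectrum.localization_away_comap_range (Localization.Away g) g]
        exact ⟨p, rfl⟩
      have hL := h i L (IsOpenImmersion.lift (𝒰.f i) (Spec.map ℓ ≫ ψ) hrange)
      rw [IsOpenImmersion.lift_fac_assoc, Category.assoc, hbase] at hL
      exact hL ha
  obtain ⟨Z, ι, hι, hiff⟩ := Groth.Agent.GrpScheme.ClosedRep.exists_closed hgood fun U x hx =>
    ⟨1, by rw [X.left.basicOpen_of_isUnit isUnit_one]; exact hx,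
      Obs _ (X.left.affineBasicOpen (1 : Γ(X.left, U))).2.fromSpec, fun C φ => by rw [haff, hbase]⟩
  refine ⟨Z, ι, hι, fun A g => ?_⟩
  refine (hiff _ g.left).symm.trans ?_
  refine (haff (CommRingCat.of A) g.left).trans ?_
  have hcomm : (Spec.preimage (g.left ≫ X.hom) : CommRingCat.of R ⟶ CommRingCat.of A) = CommRingCat.ofHom (algebraMap R A) :=
    Spec.map_injective (by rw [Spec.map_preimage]; exact Over.w g)
  let φ : algOf X (CommRingCat.of A) g.left ⟶ A := ConcreteCategory.ofHom (C := CommAlgCat R)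
      ({ toRingHom := RingHom.id A, commutes' := fun r => ConcreteCategory.congr_hom hcomm r } :
        (algOf X (CommRingCat.of A) g.left : CommAlgCat R) →ₐ[R] A)
  have := heX _ _ φ (gOf X (CommRingCat.of A) g.left) g (by
    show g.left = Spec.map (CommRingCat.ofHom (RingHom.id A)) ≫ g.left
    rw [CommRingCat.ofHom_id, Spec.map_id, Category.id_comp])
  show _ ↔ Stable (eX A g).toSubmodule
  rw [this]
  refine Iff.trans ?_ (stable_map_iff φ.hom (eX _ (gOf X (CommRingCat.of A) g.left))).symm
  exact ⟨fun h => h.le.trans bot_le, fun h => le_bot_iff.mp fun a ha => (h ha : _)⟩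

end Groth.Agent.S14853
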