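import Groth.Statements.S14857
import Groth.Agent.CAlg76.Ghost
import Mathlib
-- import your own Groth.Agent.* helpers here

set_option autoImplicit false
open CAlg

namespace Groth.Agent.S14857

/-- For a prime p, the Teichmüller representative [p^p] of the element p^p of the p-adic integers is
divisible by p in the ring of p-typical Witt vectors W(ℤ_p). -/
theorem result (p : ℕ) [Fact p.Prime] :
    (p : WittVector p ℤ_[p]) ∣ WittVector.teichmuller p ((p : ℤ_[p]) ^ p) := by
  have hp0 : ∀ y : ℤ_[p], (p : ℤ_[p]) * y = 0 → y = 0 := fun y hy =>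
    (mul_eq_zero.mp hy).resolve_left (Nat.cast_ne_zero.mpr (Fact.out : p.Prime).ne_zero)
  obtain ⟨y, hy⟩ := Groth.Agent.CAlg76.Ghost.exists_ghost_eq (p := p)
    (fun n => (p : ℤ_[p]) ^ (p ^ (n + 1) - 1 - (n + 1)))
  refine ⟨y, sub_eq_zero.mp (Groth.Agent.CAlg76.Ghost.eq_zero_of_ghost hp0 _ fun n => ?_)⟩
  have h2 : n + 2 ≤ p ^ (n + 1) := Groth.Agent.CAlg76.Ghost.succ_le_pow (p := p) (n + 1)
  rw [map_sub, map_mul, map_natCast, WittVector.ghostComponent_teichmuller, hy, sub_eq_zero,
    ← mul_assoc, ← pow_succ', ← pow_add, ← pow_mul, ← pow_succ' p n]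
  congr 1
  omega

end Groth.Agent.S14857
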