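import Groth.Statements.S14859
import Groth.Agent.DispLib.Basic

set_option autoImplicit false
universe u v w
open Disp

namespace Groth.Agent.S14859

/-- Let p be a prime, R a commutative ring with p-typical Witt vectors W = W(R), and (P, Q, F, V⁻¹) a
3n-display over R with a normal decomposition P = L ⊕ T, Q = L + I_R·T. Then V⁻¹ ⊕ F : L ⊕ T → P is
a Frobenius-linear isomorphism; stated here in the case where L and T are free with bases (l_i) and
(t_j): the family consisting of the V⁻¹(l_i) and the F(t_j) is a basis of the W-module P, i.e. it is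
linearly independent over W and spans P. -/
theorem result (p : ℕ) [Fact p.Prime] (R : Type u) [CommRing R]
    (P : Type v) [AddCommGroup P] [Module (WittVector p R) P] (D : W4c1extbt610.Display3n p R P)
    (L T : Submodule (WittVector p R) P) (hLT : IsCompl L T)
    (hQ : D.Q = L ⊔ W4c1extbt610.IV p R • T) (hLQ : L ≤ D.Q)
    (ιL ιT : Type w) (bL : Module.Basis ιL (WittVector p R) L) (bT : Module.Basis ιT (WittVector p R) T) :
    LinearIndependent (WittVector p R)
        (Sum.elim (fun i : ιL => D.Vinv ⟨(bL i : P), hLQ (bL i).2⟩) (fun j : ιT => D.F (bT j : P))) ∧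
      Submodule.span (WittVector p R)
        (Set.range (Sum.elim (fun i : ιL => D.Vinv ⟨(bL i : P), hLQ (bL i).2⟩) (fun j : ιT => D.F (bT j : P)))) = ⊤ := by
  have := D.finite
  set v := Sum.elim (fun i : ιL => D.Vinv ⟨(bL i : P), hLQ (bL i).2⟩) (fun j : ιT => D.F (bT j : P)) with hv
  have hspan : Submodule.span (WittVector p R) (Set.range v) = ⊤ := by
    rw [eq_top_iff, ← DispLib.span_Vinv_union_F D hQ, Submodule.span_le]
    rintro _ (⟨l, rfl⟩ | ⟨t, rfl⟩)
    · have h : ∀ x : L, x ∈ Submodule.span (WittVector p R) (Set.range bL) := fun x => by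
        rw [bL.span_eq]; trivial
      show D.Vinv ⟨l, _⟩ ∈ _
      induction h l using Submodule.span_induction with
      | mem x hx => obtain ⟨i, rfl⟩ := hx; exact Submodule.subset_span ⟨Sum.inl i, rfl⟩
      | zero =>
        rw [show (⟨((0 : L) : P), _⟩ : D.Q) = 0 from rfl, map_zero]
        exact zero_mem _
      | add x y _ _ hx hy =>
        rw [show (⟨((x + y : L) : P), _⟩ : D.Q) = ⟨x, hLQ x.2⟩ + ⟨y, hLQ y.2⟩ from rfl, map_add]
        exact add_mem hx hy
      | smul a x _ hx =>
        rw [show (⟨((a • x : L) : P), _⟩ : D.Q) = a • ⟨x, hLQ x.2⟩ from rfl, map_smulₛₗ]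
        exact Submodule.smul_mem _ _ hx
    · have h : ∀ x : T, x ∈ Submodule.span (WittVector p R) (Set.range bT) := fun x => by
        rw [bT.span_eq]; trivial
      show D.F (t : P) ∈ _
      induction h t using Submodule.span_induction with
      | mem x hx => obtain ⟨i, rfl⟩ := hx; exact Submodule.subset_span ⟨Sum.inr i, rfl⟩
      | zero => simp
      | add x y _ _ hx hy => rw [Submodule.coe_add, map_add]; exact add_mem hx hy
      | smul a x _ hx => rw [Submodule.coe_smul, map_smulₛₗ]; exact Submodule.smul_mem _ _ hx
  refine ⟨?_, hspan⟩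
  let e : P ≃ₗ[WittVector p R] (ιL ⊕ ιT →₀ WittVector p R) :=
    ((Submodule.prodEquivOfIsCompl L T hLT).symm.trans (bL.repr.prodCongr bT.repr)).trans
      (Finsupp.sumFinsuppLEquivProdFinsupp (WittVector p R)).symm
  let f : P →ₗ[WittVector p R] P := (Finsupp.linearCombination (WittVector p R) v).comp e.toLinearMap
  have hsurj : Function.Surjective (Finsupp.linearCombination (WittVector p R) v) := by
    rw [← LinearMap.range_eq_top, Finsupp.range_linearCombination]; exact hspan
  have hf : Function.Surjective f := hsurj.comp e.surjective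
  have hinj := OrzechProperty.injective_of_surjective_endomorphism f hf
  rw [linearIndependent_iff_injective_finsuppLinearCombination]
  intro a b hab
  have : e.symm a = e.symm b := hinj (by simpa [f] using hab)
  exact e.symm.injective this

end Groth.Agent.S14859
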