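import Groth.Statements.S14860
import Groth.Agent.CAlg76.LiftProj
import Mathlib
-- import your own Groth.Agent.* helpers here

set_option autoImplicit false
universe u v
open CAlg

namespace Groth.Agent.S14860

/-- Let p be a prime and R a commutative ring in which p is nilpotent; write W = W(R) for the p-typical
Witt vectors and, for n ≥ 0, I_n ⊆ W for the ideal of Witt vectors whose first n components vanish
(the kernel of the truncation W → W_n(R), so W/I_n = W_n(R)). For a W-module P conditions (i) and
(ii) below are equivalent: (i) P is a projective W-module of finite type; (ii) P is separated for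
the filtration by the submodules I_n P, and for every n the W_n(R)-module P/I_n P is finitely
generated and projective. (The published statement is made for every ℤ_(p)-algebra R, the section's
standing convention; over R = ℚ, where W(ℚ) ≅ ℚ^ℕ by the ghost map, the module ⊕_ℕ ℚ satisfies (ii)
but is not finitely generated, and the published proof uses that I_1 is nilpotent in each W_n(R),
which holds when p is nilpotent in R; so p is taken nilpotent here. The third equivalent condition
of the published statement, freeness Zariski-locally on R, is not rendered.) -/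
theorem result (p : ℕ) [Fact p.Prime] (R : Type u) [CommRing R]
    (hp : IsNilpotent (p : R))
    (P : Type v) [AddCommGroup P] [Module (WittVector p R) P] :
    (Module.Finite (WittVector p R) P ∧ Module.Projective (WittVector p R) P) ↔
      ((⨅ n : ℕ, (RingHom.ker (WittVector.truncate (p := p) (R := R) n) • (⊤ : Submodule (WittVector p R) P))) = ⊥ ∧
        ∀ n : ℕ, Module.Finite (WittVector p R ⧸ RingHom.ker (WittVector.truncate (p := p) (R := R) n))
              (P ⧸ (RingHom.ker (WittVector.truncate (p := p) (R := R) n) • (⊤ : Submodule (WittVector p R) P))) ∧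
            Module.Projective (WittVector p R ⧸ RingHom.ker (WittVector.truncate (p := p) (R := R) n))
              (P ⧸ (RingHom.ker (WittVector.truncate (p := p) (R := R) n) • (⊤ : Submodule (WittVector p R) P)))) := by
  classical
  obtain ⟨e₀, he₀⟩ := hp
  have := Groth.Agent.DispLib.isAdicComplete_of_isNilpotent ⟨e₀, he₀⟩
  let I : ℕ → Ideal (WittVector p R) := fun n => RingHom.ker (WittVector.truncate (p := p) (R := R) n)
  have hI1 : I 1 = W4c1extbt610.IV p R := by
    rw [Groth.Agent.DispLib.IV_eq_ker]
    ext x
    rw [WittVector.mem_ker_truncate, RingHom.mem_ker]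
    exact ⟨fun h => h 0 zero_lt_one, fun h i hi => by rw [Nat.lt_one_iff.mp hi]; exact h⟩
  have hmono : ∀ a b, a ≤ b → I b ≤ I a := fun a b hab x hx => by
    rw [WittVector.mem_ker_truncate] at hx ⊢
    exact fun i hi => hx i (lt_of_lt_of_le hi hab)
  have hjac : I 1 ≤ (⊥ : Ideal (WittVector p R)).jacobson := hI1 ▸ Groth.Agent.DispLib.IV_le_jacobson
  have hsep : ∀ (Q : Type u) [AddCommGroup Q] [Module (WittVector p R) Q] [Module.Finite (WittVector p R) Q]
      [Module.Projective (WittVector p R) Q] (x : Q),
      (∀ n, x ∈ I n • (⊤ : Submodule (WittVector p R) Q)) → x = 0 := by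
    intro Q _ _ _ _ x hx
    obtain ⟨k, π, s, hs⟩ := Groth.Agent.DispLib.exists_retraction (A := WittVector p R) (M := Q)
    have : s x = 0 := by
      ext i j
      rw [Pi.zero_apply, WittVector.zero_coeff]
      exact (WittVector.mem_ker_truncate _ _).mp
        ((Groth.Agent.DispLib.mem_smul_top_coords π s hs _ _).mp (hx (j + 1)) i) j (Nat.lt_succ_self j)
    rw [← LinearMap.id_apply (R := WittVector p R) x, ← hs, LinearMap.comp_apply, this, map_zero]
  constructor
  · rintro ⟨hfin, hproj⟩
    refine ⟨?_, fun n => ⟨?_, ?_⟩⟩
    · rw [eq_bot_iff]
      intro x hx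
      rw [Submodule.mem_iInf] at hx
      obtain ⟨k, π, s, hs⟩ := Groth.Agent.DispLib.exists_retraction (A := WittVector p R) (M := P)
      have h0 : s x = 0 := hsep _ _ fun n => by
        have := hx n
        have h2 := Submodule.mem_map_of_mem (f := s) this
        rw [Submodule.map_smul''] at h2
        exact Submodule.smul_mono le_rfl le_top h2
      rw [Submodule.mem_bot, ← LinearMap.id_apply (R := WittVector p R) x, ← hs, LinearMap.comp_apply, h0, map_zero]
    · exact Module.Finite.of_restrictScalars_finite (WittVector p R) _ _
    · exact Module.Projective.of_equiv (LinearEquiv.extendScalarsOfSurjective Ideal.Quotient.mk_surjective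
        (TensorProduct.quotTensorEquivQuotSMul P (I n)))
  · rintro ⟨hinf, hall⟩
    have := (hall 1).1
    have := (hall 1).2
    have hc1 : IsAdicComplete (RingHom.ker (Ideal.Quotient.mk (I 1))) (WittVector p R) := by
      rw [Ideal.mk_ker, hI1]
      exact Groth.Agent.DispLib.isAdicComplete_IV
    obtain ⟨Q', _, _, hQf, hQp, π, hπ, hπk⟩ := Groth.Agent.CAlg76.LiftProj.exists_lift
      (Ideal.Quotient.mk (I 1)) Ideal.Quotient.mk_surjective ⊥
      (fun n m hm => by
        obtain ⟨e, he, hem⟩ := Groth.Agent.CAlg76.LiftProj.exists_idempotent_matrix _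
          Ideal.Quotient.mk_surjective m hm
        exact ⟨e, he, fun i j => by rw [Submodule.mem_bot, sub_eq_zero, ← hem]; rfl⟩)
      (P ⧸ I 1 • (⊤ : Submodule (WittVector p R) P))
    let l : Q' →ₗ[WittVector p R] P ⧸ I 1 • (⊤ : Submodule (WittVector p R) P) :=
      { toFun := π, map_add' := map_add π, map_smul' := fun b x => map_smulₛₗ π b x }
    obtain ⟨h, hh⟩ := Module.projective_lifting_property (I 1 • (⊤ : Submodule (WittVector p R) P)).mkQ l
      (Submodule.mkQ_surjective _)
    have hh' : ∀ q, (I 1 • (⊤ : Submodule (WittVector p R) P)).mkQ (h q) = π q := LinearMap.congr_fun hh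
    -- surjectivity modulo every `I n`
    have hsurj : ∀ n (y : P), ∃ q, h q - y ∈ I n • (⊤ : Submodule (WittVector p R) P) := by
      intro n
      let g := (I n • (⊤ : Submodule (WittVector p R) P)).mkQ.comp h
      have := (hall n).1
      have : Module.Finite (WittVector p R) (P ⧸ I n • (⊤ : Submodule (WittVector p R) P)) :=
        Module.Finite.trans (WittVector p R ⧸ I n) _
      have hg : Function.Surjective g := by
        rw [← LinearMap.range_eq_top, ← top_le_iff]
        refine Submodule.le_of_le_smul_of_le_jacobson_bot Module.Finite.fg_top hjac fun z _ => ?_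
        obtain ⟨y, rfl⟩ := Submodule.mkQ_surjective _ z
        obtain ⟨q, hq⟩ := hπ ((I 1 • (⊤ : Submodule (WittVector p R) P)).mkQ y)
        refine Submodule.mem_sup.mpr ⟨g q, ⟨q, rfl⟩, _, ?_, add_sub_cancel (g q) _⟩
        have h1 : y - h q ∈ I 1 • (⊤ : Submodule (WittVector p R) P) := by
          rw [← Submodule.Quotient.mk_eq_zero, Submodule.Quotient.mk_sub, sub_eq_zero]
          exact hq.symm.trans (hh' q).symm
        have h2 := Submodule.mem_map_of_mem (f := (I n • (⊤ : Submodule (WittVector p R) P)).mkQ) h1
        rw [Submodule.map_smul'', Submodule.map_top, Submodule.range_mkQ, map_sub] at h2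
        exact h2
      intro y
      obtain ⟨q, hq⟩ := hg ((I n • (⊤ : Submodule (WittVector p R) P)).mkQ y)
      exact ⟨q, (Submodule.Quotient.eq _).mp hq⟩
    -- injectivity modulo every `I n`
    have hinj : ∀ n q, h q ∈ I n • (⊤ : Submodule (WittVector p R) P) →
        q ∈ I n • (⊤ : Submodule (WittVector p R) Q') := by
      intro n
      cases n with
      | zero =>
        intro q _
        have : I 0 = ⊤ := eq_top_iff.mpr fun x _ => (WittVector.mem_ker_truncate _ _).mpr fun i hi => absurd hi (Nat.not_lt_zero i)
        rw [this, Submodule.top_smul]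
        trivial
      | succ n =>
        let N := I (n + 1)
        let Qn := Q' ⧸ N • (⊤ : Submodule (WittVector p R) Q')
        let gn : Qn →ₗ[WittVector p R] P ⧸ N • (⊤ : Submodule (WittVector p R) P) :=
          Submodule.mapQ _ _ h (by
            rw [← Submodule.map_le_iff_le_comap, Submodule.map_smul'']
            exact Submodule.smul_mono le_rfl le_top)
        let gN := gn.extendScalarsOfSurjective (S := WittVector p R ⧸ N) Ideal.Quotient.mk_surjective
        have : Module.Finite (WittVector p R ⧸ N) Qn := Module.Finite.of_restrictScalars_finite (WittVector p R) _ _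
        have := (hall (n + 1)).2
        have hgs : Function.Surjective gN := by
          intro z
          obtain ⟨y, rfl⟩ := Submodule.mkQ_surjective _ z
          obtain ⟨q, hq⟩ := hsurj (n + 1) y
          exact ⟨Submodule.Quotient.mk q, (Submodule.Quotient.eq _).mpr hq⟩
        have hgi := Groth.Agent.CAlg76.LiftProj.injective_of_ker_le (B := WittVector p R ⧸ N)
          ((I 1).map (Ideal.Quotient.mk N)) ?_ gN hgs ?_
        · intro q hq
          rw [← Submodule.Quotient.mk_eq_zero]
          apply hgi
          rw [map_zero]
          exact (Submodule.Quotient.mk_eq_zero _).mpr hq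
        · intro a ha
          obtain ⟨b, hb, rfl⟩ := (Ideal.mem_map_iff_of_surjective _ Ideal.Quotient.mk_surjective).mp ha
          rw [Ideal.mem_jacobson_bot]
          intro c
          obtain ⟨c, rfl⟩ := Ideal.Quotient.mk_surjective c
          have h3 := (Ideal.mem_jacobson_bot.mp (hjac hb) c).map (Ideal.Quotient.mk N)
          simpa using h3
        · intro z hz
          obtain ⟨q, rfl⟩ := Submodule.mkQ_surjective _ z
          have h1 : h q ∈ N • (⊤ : Submodule (WittVector p R) P) := (Submodule.Quotient.mk_eq_zero _).mp hz
          have h2 : q ∈ I 1 • (⊤ : Submodule (WittVector p R) Q') := by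
            rw [show I 1 = RingHom.ker (Ideal.Quotient.mk (I 1)) from Ideal.mk_ker.symm, ← hπk, LinearMap.mem_ker,
              ← hh', Submodule.mkQ_apply, Submodule.Quotient.mk_eq_zero]
            exact Submodule.smul_mono_left (hmono 1 (n + 1) (by omega)) h1
          refine Submodule.smul_induction_on (p := fun w => (N • (⊤ : Submodule (WittVector p R) Q')).mkQ w ∈
              (I 1).map (Ideal.Quotient.mk N) • (⊤ : Submodule (WittVector p R ⧸ N) Qn)) h2 ?_ ?_
          · intro a ha m _
            rw [map_smul]
            have h4 : Ideal.Quotient.mk N a • (N • (⊤ : Submodule (WittVector p R) Q')).mkQ m ∈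
                (I 1).map (Ideal.Quotient.mk N) • (⊤ : Submodule (WittVector p R ⧸ N) Qn) :=
              Submodule.smul_mem_smul (Ideal.mem_map_of_mem _ ha) Submodule.mem_top
            exact h4
          · intro a b ha hb
            rw [map_add]
            exact add_mem ha hb
    have hbij : Function.Bijective h := by
      refine ⟨?_, fun y => ?_⟩
      · rw [← LinearMap.ker_eq_bot, eq_bot_iff]
        intro q hq
        rw [Submodule.mem_bot]
        exact hsep Q' q fun n => hinj n q (by rw [LinearMap.mem_ker.mp hq]; exact zero_mem _)
      · choose x hx using fun n => hsurj n y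
        obtain ⟨k, π', s, hs⟩ := Groth.Agent.DispLib.exists_retraction (A := WittVector p R) (M := Q')
        have hcompat : ∀ a b, a ≤ b → ∀ i, s (x a) i - s (x b) i ∈ I a := by
          intro a b hab i
          have h1 : h (x a - x b) ∈ I a • (⊤ : Submodule (WittVector p R) P) := by
            rw [map_sub, show h (x a) - h (x b) = (h (x a) - y) - (h (x b) - y) by abel]
            exact sub_mem (hx a) (Submodule.smul_mono_left (hmono a b hab) (hx b))
          have h2 := (Groth.Agent.DispLib.mem_smul_top_coords π' s hs _ _).mp (hinj a _ h1) i
          rwa [map_sub] at h2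
        let L : Fin k → WittVector p R := fun i => WittVector.mk p fun j => (s (x (j + 1)) i).coeff j
        have hL : ∀ n i, s (x n) i - L i ∈ I n := by
          intro n i
          rw [WittVector.mem_ker_truncate, ← WittVector.le_coeff_eq_iff_le_sub_coeff_eq_zero]
          intro j hj
          have := (WittVector.mem_ker_truncate _ _).mp (hcompat (j + 1) n (by omega) i)
          rw [← WittVector.le_coeff_eq_iff_le_sub_coeff_eq_zero] at this
          exact (this j (Nat.lt_succ_self j)).symm
        refine ⟨π' L, sub_eq_zero.mp ?_⟩
        rw [← Submodule.mem_bot (WittVector p R), ← hinf, Submodule.mem_iInf]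
        intro n
        have h1 : h (π' L) - h (x n) ∈ I n • (⊤ : Submodule (WittVector p R) P) := by
          rw [← map_sub, show x n = π' (s (x n)) from (LinearMap.congr_fun hs _).symm, ← map_sub,
            Groth.Agent.DispLib.pi_apply_eq_sum π', map_sum]
          refine Submodule.sum_mem _ fun i _ => ?_
          rw [map_smul]
          refine Submodule.smul_mem_smul ?_ Submodule.mem_top
          rw [Pi.sub_apply, ← neg_sub]
          exact neg_mem (hL n i)
        simpa using add_mem h1 (hx n)
    let e := LinearEquiv.ofBijective h hbij
    exact ⟨Module.Finite.equiv e, Module.Projective.of_equiv e⟩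

end Groth.Agent.S14860
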