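import Groth.Statements.S14861
import Groth.Agent.CAlg76.Ghost
import Groth.Agent.DispLib.Complete
import Mathlib
-- import your own Groth.Agent.* helpers here

set_option autoImplicit false
universe u
open CAlg

namespace Groth.Agent.S14861

/-- Let p be a prime and R a commutative ring without p-torsion which is complete and separated for the
p-adic topology. Let a be a p-typical Witt vector over R and m, u natural numbers. Suppose that for
every s the equation p^u·x = a has a solution in the truncated Witt ring W_m(R/p^s R), i.e. there is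
z ∈ W(R) such that the first m Witt components of p^u·z − a lie in p^s R. Then the equation has a
solution in W_m(R): there is x ∈ W(R) such that the first m Witt components of p^u·x − a vanish.
(The published statement asks only that R have no p-torsion; R is moreover taken p-adically complete
and separated here, which is the standing situation of the surrounding argument and is what the
published proof uses when it passes to the limit over s.) -/
theorem result (p : ℕ) [Fact p.Prime] (R : Type u) [CommRing R]
    (hR : ∀ y : R, (p : R) * y = 0 → y = 0) [IsAdicComplete (Ideal.span {(p : R)}) R]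
    (a : WittVector p R) (m u : ℕ)
    (h : ∀ s : ℕ, ∃ z : WittVector p R, ∀ i < m, ((p : WittVector p R) ^ u * z - a).coeff i ∈ Ideal.span {(p : R) ^ s}) :
    ∃ x : WittVector p R, ∀ i < m, ((p : WittVector p R) ^ u * x - a).coeff i = 0 := by
  choose z hz using fun s => h (s + 1 + u)
  have hz' : ∀ s, ∀ i < m, (p : R) ^ (s + 1 + u) ∣ ((p : WittVector p R) ^ u * z s - a).coeff i :=
    fun s i hi => Ideal.mem_span_singleton.mp (hz s i hi)
  have hψ : ∀ k (v : WittVector p R), Groth.Agent.DispLib.ψ p R m k v = 0 ↔ ∀ i < m, (p : R) ^ k ∣ v.coeff i := by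
    intro k v
    rw [← map_zero (Groth.Agent.DispLib.ψ p R m k), Groth.Agent.DispLib.ψ_eq_iff]
    simp [Ideal.span_singleton_pow, Ideal.mem_span_singleton]
  have hc : ∀ s t, s ≤ t → Groth.Agent.DispLib.ψ p R m (s + 1) (z s) = Groth.Agent.DispLib.ψ p R m (s + 1) (z t) := by
    intro s t hst
    rw [← sub_eq_zero, ← map_sub, hψ]
    refine Groth.Agent.CAlg76.Ghost.dvd_coeff_of_pow_mul hR (u := u) (Nat.le_add_left 1 s) m _ ?_
    rw [← hψ, show (p : WittVector p R) ^ u * (z s - z t) =
      ((p : WittVector p R) ^ u * z s - a) - ((p : WittVector p R) ^ u * z t - a) by ring, map_sub,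
      (hψ _ _).mpr (hz' s), (hψ _ _).mpr fun i hi => (pow_dvd_pow _ (by omega)).trans (hz' t i hi), sub_zero]
  have hlim : ∀ i, ∃ L : R, i < m → ∀ s, (z s).coeff i ≡ L [SMOD (Ideal.span {(p : R)} ^ (s + 1) • ⊤ : Submodule R R)] := by
    intro i
    by_cases hi : i < m
    · obtain ⟨L, hL⟩ := IsPrecomplete.prec (I := Ideal.span {(p : R)}) (M := R) inferInstance
        (f := fun s => (z s).coeff i) (fun {s t} hst => by
          rw [SModEq.sub_mem, smul_eq_mul, Ideal.mul_top]
          exact Ideal.pow_le_pow_right (Nat.le_succ s) (Groth.Agent.DispLib.ψ_eq_iff.mp (hc s t hst) i hi))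
      refine ⟨L, fun _ s => ?_⟩
      have h1 := hL (s + 1)
      have h2 := Groth.Agent.DispLib.ψ_eq_iff.mp (hc s (s + 1) (Nat.le_succ s)) i hi
      rw [SModEq.sub_mem, smul_eq_mul, Ideal.mul_top] at h1 ⊢
      simpa using add_mem h2 h1
    · exact ⟨0, fun h => absurd h hi⟩
  choose L hL using hlim
  refine ⟨WittVector.mk p L, fun i hi => ?_⟩
  refine IsHausdorff.haus (I := Ideal.span {(p : R)}) (M := R) inferInstance _ fun s => ?_
  rw [SModEq.sub_mem, sub_zero, smul_eq_mul, Ideal.mul_top]
  refine Ideal.pow_le_pow_right (Nat.le_succ s) ?_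
  rw [Ideal.span_singleton_pow, Ideal.mem_span_singleton]
  revert i
  rw [← hψ, map_sub, map_mul]
  have hx : Groth.Agent.DispLib.ψ p R m (s + 1) (WittVector.mk p L) = Groth.Agent.DispLib.ψ p R m (s + 1) (z s) := by
    refine (Groth.Agent.DispLib.ψ_eq_iff.mpr fun j hj => ?_).symm
    have := hL j hj s
    rwa [SModEq.sub_mem, smul_eq_mul, Ideal.mul_top] at this
  rw [hx, ← map_mul, ← map_sub, hψ]
  exact fun i hi => (pow_dvd_pow _ (by omega)).trans (hz' s i hi)

end Groth.Agent.S14861
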