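import Groth.Statements.S14862
import Groth.Agent.S14861
import Mathlib
-- import your own Groth.Agent.* helpers here

set_option autoImplicit false
universe u
open CAlg

namespace Groth.Agent.S14862

/-- Let p be a prime and S a commutative ring without p-torsion which is complete and separated for the
p-adic topology; write W = W(S) for the p-typical Witt vectors, I_r ⊆ W for the ideal of Witt
vectors whose first r components vanish (the image of the r-th iterate of the Verschiebung) and
W(p^s S) ⊆ W for the ideal of Witt vectors all of whose components lie in p^s S (the kernel of W(S)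
→ W(S/p^s S)). Then for every natural number u the ideal p^u W is closed for the linear topology on
W in which the ideals I_r + W(p^s S) form a neighbourhood basis of zero: the intersection over all r
and s of p^u W + I_r + W(p^s S) equals p^u W. (The published statement asks only that S have no
p-torsion; S is moreover taken p-adically complete and separated here, the case in which the result
is applied and through which the published proof goes.) -/
theorem result (p : ℕ) [Fact p.Prime] (S : Type u) [CommRing S]
    (hS : ∀ y : S, (p : S) * y = 0 → y = 0) [IsAdicComplete (Ideal.span {(p : S)}) S] (u : ℕ) :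
    (⨅ r : ℕ, ⨅ s : ℕ,
        Ideal.span {(p : WittVector p S) ^ u} ⊔ RingHom.ker (WittVector.truncate (p := p) (R := S) r) ⊔
          RingHom.ker (WittVector.map (p := p) (Ideal.Quotient.mk (Ideal.span {(p : S) ^ s})))) =
      Ideal.span {(p : WittVector p S) ^ u} := by
  refine le_antisymm (fun x hx => ?_) (le_iInf fun r => le_iInf fun s => le_sup_of_le_left le_sup_left)
  have hsol : ∀ m, ∃ y : WittVector p S, ∀ i < m, ((p : WittVector p S) ^ u * y - x).coeff i = 0 := by
    intro m
    refine Groth.Agent.S14861.result p S hS x m u fun s => ?_
    simp only [Submodule.mem_iInf] at hx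
    obtain ⟨e, he, b, hb, hab⟩ := Submodule.mem_sup.mp (hx m s)
    obtain ⟨c, hc, d, hd, hcd⟩ := Submodule.mem_sup.mp he
    obtain ⟨z, rfl⟩ := Ideal.mem_span_singleton.mp hc
    refine ⟨z, ?_⟩
    have h1 : WittVector.truncate m (WittVector.map (Ideal.Quotient.mk (Ideal.span {(p : S) ^ s}))
        ((p : WittVector p S) ^ u * z - x)) = 0 := by
      rw [show (p : WittVector p S) ^ u * z - x = -(d + b) by rw [← hab, ← hcd]; ring, map_neg, map_add,
        RingHom.mem_ker.mp hb, add_zero, map_neg, neg_eq_zero]
      rw [← RingHom.mem_ker, WittVector.mem_ker_truncate]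
      intro i hi
      rw [WittVector.map_coeff, (WittVector.mem_ker_truncate _ _).mp hd i hi, map_zero]
    intro i hi
    have h2 := (WittVector.mem_ker_truncate _ _).mp (RingHom.mem_ker.mpr h1) i hi
    rwa [WittVector.map_coeff, Ideal.Quotient.eq_zero_iff_mem] at h2
  choose y hy using hsol
  have hy' : ∀ m, WittVector.truncate m ((p : WittVector p S) ^ u * y m) = WittVector.truncate m x := fun m => by
    rw [← sub_eq_zero, ← map_sub, ← RingHom.mem_ker, WittVector.mem_ker_truncate]
    exact hy m
  have hcompat : ∀ m l, m ≤ l → ∀ i < m, (y m).coeff i = (y l).coeff i := by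
    intro m l hml
    rw [WittVector.le_coeff_eq_iff_le_sub_coeff_eq_zero]
    refine Groth.Agent.CAlg76.Ghost.coeff_eq_zero_of_pow_mul hS (u := u) m _ ?_
    rw [← WittVector.mem_ker_truncate, RingHom.mem_ker,
      show (p : WittVector p S) ^ u * (y m - y l) =
        ((p : WittVector p S) ^ u * y m - x) - ((p : WittVector p S) ^ u * y l - x) by ring, map_sub,
      RingHom.mem_ker.mp ((WittVector.mem_ker_truncate _ _).mpr (hy m)),
      RingHom.mem_ker.mp ((WittVector.mem_ker_truncate _ _).mpr fun i hi => hy l i (lt_of_lt_of_le hi hml)),
      sub_zero]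
  let w : WittVector p S := WittVector.mk p fun i => (y (i + 1)).coeff i
  refine Ideal.mem_span_singleton.mpr ⟨w, ?_⟩
  ext i
  have h1 : WittVector.truncate (i + 1) w = WittVector.truncate (i + 1) (y (i + 1)) := by
    ext j
    simp only [WittVector.coeff_truncate, w, WittVector.coeff_mk]
    exact hcompat (j.1 + 1) (i + 1) (by omega) j.1 (Nat.lt_succ_self _)
  have h2 : WittVector.truncate (i + 1) ((p : WittVector p S) ^ u * w) = WittVector.truncate (i + 1) x := by
    rw [map_mul, h1, ← map_mul, hy']
  have h3 := congrArg (TruncatedWittVector.coeff ⟨i, Nat.lt_succ_self i⟩) h2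
  rw [WittVector.coeff_truncate, WittVector.coeff_truncate] at h3
  exact h3.symm

end Groth.Agent.S14862
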