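import Groth.Statements.S14863
import Groth.Agent.DispLib.PerfectDieuMain
import Groth.Agent.DispLib.IV

set_option autoImplicit false
universe u v
open Disp

namespace Groth.Agent.S14863

/-- Let p be a prime and k a perfect commutative ring of characteristic p, so that the Frobenius σ of W
= W(k) is an automorphism. Let M be a Dieudonné module over k, that is, a projective W-module of
finite type with a σ-semilinear operator F and a σ⁻¹-semilinear operator V such that FV = VF = p.
Then (M, VM, F, V⁻¹) is a 3n-display over k: there exists a 3n-display structure on the W-module M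
whose distinguished submodule is exactly the image of V, whose Frobenius operator is F, and whose
operator V⁻¹ sends V m to m for every m. (The published statement is the equivalence of the category
of 3n-displays over k with that of Dieudonné modules, displays corresponding to topologically
nilpotent V; this row is the passage from a Dieudonné module to a 3n-display.) -/
theorem result (p : ℕ) [Fact p.Prime] (k : Type u) [CommRing k]
    [CharP k p] [PerfectRing k p]
    (M : Type v) [AddCommGroup M] [Module (WittVector p k) M]
    [Module.Finite (WittVector p k) M] [Module.Projective (WittVector p k) M]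
    (F : M →ₛₗ[(WittVector.frobenius : WittVector p k →+* WittVector p k)] M)
    (V : M →ₛₗ[((WittVector.frobeniusEquiv p k).symm : WittVector p k →+* WittVector p k)] M)
    (hFV : ∀ m : M, F (V m) = (p : WittVector p k) • m) (hVF : ∀ m : M, V (F m) = (p : WittVector p k) • m) :
    ∃ D : W4c1extbt610.Display3n p k M,
      D.F = F ∧ (∀ x : M, x ∈ D.Q ↔ x ∈ Set.range V) ∧
        ∀ (m : M) (h : V m ∈ D.Q), D.Vinv ⟨V m, h⟩ = m := by
  have hM : DispLib.IsGood p k M := DispLib.isGood_of_projective
  obtain ⟨hfin, hproj⟩ := DispLib.finite_projective_mod_p (M := M) (p := p) (k := k)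
    (B := WittVector p k) Function.surjective_id (Algebra.ofId _ _)
  have hτσ : ∀ w : WittVector p k, ((WittVector.frobeniusEquiv p k).symm : WittVector p k →+* WittVector p k)
      (WittVector.frobenius w) = w := fun w => (WittVector.frobeniusEquiv p k).symm_apply_apply w
  have hpinj : ∀ m : M, (p : WittVector p k) • m = 0 → m = 0 := by
    obtain ⟨r, π, s, hs⟩ := DispLib.exists_retraction (A := WittVector p k) (M := M)
    intro m hm
    have h0 : s m = 0 := funext fun j => WittVector.eq_zero_of_p_mul_eq_zero _ (by
      have := congrFun (congrArg s hm) j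
      rw [map_smul, map_zero, Pi.smul_apply, smul_eq_mul, mul_comm] at this
      simpa using this)
    rw [← LinearMap.id_apply (R := WittVector p k) m, ← hs, LinearMap.comp_apply, h0, map_zero]
  have hVinj : Function.Injective V := (injective_iff_map_eq_zero V).2 fun m hm =>
    hpinj m (by rw [← hFV, hm, map_zero])
  set Q : Submodule (WittVector p k) M := Submodule.span (WittVector p k) (Set.range V)
  have hQ : ∀ x, x ∈ Q ↔ x ∈ Set.range V :=
    DispLib.range_span_eq V (WittVector.frobeniusEquiv p k).symm.surjective
  choose v hv using fun x : Q => (hQ x).1 x.2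
  let Vinv : Q →ₛₗ[(WittVector.frobenius : WittVector p k →+* WittVector p k)] M :=
    { toFun := v
      map_add' := fun x y => hVinj (by rw [map_add, hv, hv, hv]; rfl)
      map_smul' := fun c x => hVinj (by
        rw [map_smulₛₗ, hv, hv]
        show c • (x : M) = _
        rw [hτσ c]) }
  have hIV : W4c1extbt610.IV p k • (⊤ : Submodule (WittVector p k) M) ≤ Q := by
    rw [DispLib.IV_eq_span_p]
    intro x hx
    obtain ⟨z, rfl⟩ := DispLib.exists_smul_of_mem_p hx
    exact Submodule.subset_span ⟨F z, hVF z⟩
  obtain ⟨C, hC1, hC2⟩ := DispLib.exists_complement_mod_p F V hM hFV hVF hfin hproj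
  obtain ⟨L, T, hLT, hQLT⟩ := DispLib.exists_normal_of_complement_mod _ Q C hC1 hC2
  refine ⟨{ Q := Q, F := F, Vinv := Vinv, finite := inferInstance, projective := inferInstance
            IV_smul_le := hIV
            exists_normal := ⟨L, T, hLT, by rw [DispLib.IV_eq_span_p]; exact hQLT⟩
            span_range_Vinv := eq_top_iff.2 fun x _ =>
              Submodule.subset_span ⟨⟨V x, Submodule.subset_span ⟨x, rfl⟩⟩, hVinj (hv _)⟩
            Vinv_verschiebung_smul := fun w x => hVinj ?_ }, rfl, hQ, fun m h => hVinj (hv _)⟩
  show V (v _) = _
  obtain ⟨w, rfl⟩ := (WittVector.frobenius_bijective p k).surjective w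
  rw [hv, map_smulₛₗ, hVF, smul_smul]
  show WittVector.verschiebung (WittVector.frobenius w) • x = _
  rw [WittVector.verschiebung_frobenius]
  rw [hτσ]

end Groth.Agent.S14863
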