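import Groth.Statements.S14864
import Groth.Agent.DispLib.Complete
import Mathlib
-- import your own Groth.Agent.* helpers here

set_option autoImplicit false
universe u
open CAlg

namespace Groth.Agent.S14864

/-- Let p be a prime and R a commutative ring in which p is nilpotent; write W = W(R) for the p-typical
Witt vectors, I ⊆ W for the kernel of the projection onto the zeroth component, and I_n ⊆ W for the
kernel of the truncation W → W_n(R). The p-adic topology on W equals its I-adic topology — every
power of the ideal pW contains some power of I and every power of I contains some power of pW — and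
this common topology is finer than the V-adic one: every I_n contains some power of pW. -/
theorem result (p : ℕ) [Fact p.Prime] (R : Type u) [CommRing R]
    (hp : IsNilpotent (p : R)) :
    (∀ n : ℕ, ∃ m : ℕ, (RingHom.ker (WittVector.constantCoeff : WittVector p R →+* R)) ^ m ≤ Ideal.span {(p : WittVector p R)} ^ n) ∧
      (∀ n : ℕ, ∃ m : ℕ, Ideal.span {(p : WittVector p R)} ^ m ≤ (RingHom.ker (WittVector.constantCoeff : WittVector p R →+* R)) ^ n) ∧
        ∀ n : ℕ, ∃ m : ℕ, Ideal.span {(p : WittVector p R)} ^ m ≤ RingHom.ker (WittVector.truncate (p := p) (R := R) n) := by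
  obtain ⟨e, he⟩ := hp
  rw [← Groth.Agent.DispLib.IV_eq_ker]
  refine ⟨fun n => ⟨n + 1, ?_⟩, fun n => ⟨e + n, ?_⟩, fun n => ⟨e * n, ?_⟩⟩
  · rw [Groth.Agent.DispLib.IV_pow_succ, Ideal.span_singleton_pow]
    exact Ideal.mul_le_left
  · rw [Ideal.span_singleton_pow, Ideal.span_singleton_le_iff_mem]
    cases n with
    | zero => simp
    | succ k =>
      rw [Groth.Agent.DispLib.IV_pow_succ, show e + (k + 1) = k + (e + 1) by omega, pow_add]
      refine Ideal.mul_mem_mul (Ideal.mem_span_singleton_self _) ?_
      rw [Groth.Agent.DispLib.IV_eq_ker, RingHom.mem_ker, map_pow, map_natCast, pow_succ, he, zero_mul]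
  · rw [Ideal.span_singleton_pow, Ideal.span_singleton_le_iff_mem, WittVector.mem_ker_truncate]
    intro i hi
    simpa using Groth.Agent.DispLib.coeff_p_pow_mul_eq_zero he n 1 i hi

end Groth.Agent.S14864
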