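import Groth.Statements.S14867
import Groth.Agent.CAlg76.LiftProj
import Mathlib
-- import your own Groth.Agent.* helpers here

set_option autoImplicit false
universe u
open CAlg

namespace Groth.Agent.S14867

/-- Let p be a prime and S → R a surjective homomorphism of commutative rings such that every element of
its kernel 𝔞 is nilpotent and p is nilpotent in S; write J = W(𝔞) for the kernel of the induced
surjection W(S) → W(R) of rings of p-typical Witt vectors. Then finitely generated projective
modules lift along W(S) → W(R), uniquely up to isomorphism: for every finitely generated projective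
W(R)-module P there is a finitely generated projective W(S)-module P̃ together with a surjection P̃
→ P, semilinear over W(S) → W(R), whose kernel is J·P̃ (that is, an isomorphism W(R) ⊗_{W(S)} P̃ ≅
P); and for any two such pairs (P̃_1, π_1), (P̃_2, π_2) there is a W(S)-linear isomorphism P̃_1 ≅
P̃_2 compatible with π_1 and π_2. -/
theorem result (p : ℕ) [Fact p.Prime] (S R : Type u)
    [CommRing S] [CommRing R] (φ : S →+* R) (hφ : Function.Surjective φ)
    (hnil : ∀ a : S, φ a = 0 → IsNilpotent a) (hp : IsNilpotent (p : S))
    (P : Type u) [AddCommGroup P] [Module (WittVector p R) P]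
    [Module.Finite (WittVector p R) P] [Module.Projective (WittVector p R) P] :
    (∃ (P' : Type u) (_ : AddCommGroup P') (_ : Module (WittVector p S) P'),
        Module.Finite (WittVector p S) P' ∧ Module.Projective (WittVector p S) P' ∧
          ∃ π : P' →ₛₗ[WittVector.map (p := p) φ] P, Function.Surjective π ∧
            LinearMap.ker π = RingHom.ker (WittVector.map (p := p) φ) • (⊤ : Submodule (WittVector p S) P')) ∧
      ∀ (P₁ : Type u) [AddCommGroup P₁] [Module (WittVector p S) P₁]
        [Module.Finite (WittVector p S) P₁] [Module.Projective (WittVector p S) P₁]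
        (P₂ : Type u) [AddCommGroup P₂] [Module (WittVector p S) P₂]
        [Module.Finite (WittVector p S) P₂] [Module.Projective (WittVector p S) P₂]
        (π₁ : P₁ →ₛₗ[WittVector.map (p := p) φ] P) (π₂ : P₂ →ₛₗ[WittVector.map (p := p) φ] P),
        Function.Surjective π₁ →
          LinearMap.ker π₁ = RingHom.ker (WittVector.map (p := p) φ) • (⊤ : Submodule (WittVector p S) P₁) →
        Function.Surjective π₂ →
          LinearMap.ker π₂ = RingHom.ker (WittVector.map (p := p) φ) • (⊤ : Submodule (WittVector p S) P₂) →
        ∃ e : P₁ ≃ₗ[WittVector p S] P₂, ∀ x : P₁, π₂ (e x) = π₁ x := by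
  have hp' : IsNilpotent (p : R) := by simpa using hp.map φ
  have hcS : IsAdicComplete (RingHom.ker (WittVector.constantCoeff : WittVector p S →+* S)) (WittVector p S) := by
    have := Groth.Agent.DispLib.isAdicComplete_of_isNilpotent hp
    rw [← Groth.Agent.DispLib.IV_eq_ker]
    exact Groth.Agent.DispLib.isAdicComplete_IV
  have hcR : IsAdicComplete (RingHom.ker (WittVector.constantCoeff : WittVector p R →+* R)) (WittVector p R) := by
    have := Groth.Agent.DispLib.isAdicComplete_of_isNilpotent hp'
    rw [← Groth.Agent.DispLib.IV_eq_ker]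
    exact Groth.Agent.DispLib.isAdicComplete_IV
  refine ⟨?_, fun P₁ _ _ _ _ P₂ _ _ _ _ π₁ π₂ h₁ k₁ h₂ k₂ =>
    Groth.Agent.CAlg76.LiftProj.exists_equiv _ ?_ π₁ π₂ h₁ k₁ h₂ k₂⟩
  · refine Groth.Agent.CAlg76.LiftProj.exists_lift _ (WittVector.map_surjective φ hφ)
      (RingHom.ker (WittVector.constantCoeff : WittVector p R →+* R)) (fun n m hm => ?_) P
    obtain ⟨e₀, he₀, hme₀⟩ := Groth.Agent.CAlg76.LiftProj.exists_idempotent_matrix_of_nil φ hφ hnil
      (m.map (WittVector.constantCoeff : WittVector p R →+* R)) (by rw [← Matrix.map_mul, hm])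
    obtain ⟨e, he, hme⟩ := Groth.Agent.CAlg76.LiftProj.exists_idempotent_matrix
      (WittVector.constantCoeff : WittVector p S →+* S) (WittVector.constantCoeff_surjective p) e₀ he₀
    refine ⟨e, he, fun i j => ?_⟩
    rw [RingHom.mem_ker, map_sub, sub_eq_zero]
    calc WittVector.constantCoeff (WittVector.map φ (e i j))
        = φ (WittVector.constantCoeff (e i j)) := WittVector.map_coeff _ _ 0
      _ = φ (e₀ i j) := by rw [← hme]; rfl
      _ = (m.map WittVector.constantCoeff) i j := by rw [← hme₀]; rfl
      _ = _ := rfl
  · intro x hx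
    rw [Ideal.mem_jacobson_bot]
    intro y
    have hloc := isLocalHom_of_le_jacobson_bot _ (IsAdicComplete.le_jacobson_bot
      (RingHom.ker (WittVector.constantCoeff : WittVector p S →+* S)))
    apply IsUnit.of_map (Ideal.Quotient.mk (RingHom.ker (WittVector.constantCoeff : WittVector p S →+* S)))
    let ι := RingHom.kerLift (WittVector.constantCoeff : WittVector p S →+* S)
    have hb : Function.Bijective ι := ⟨RingHom.kerLift_injective _, fun s => by
      obtain ⟨z, rfl⟩ := WittVector.constantCoeff_surjective p s
      exact ⟨Ideal.Quotient.mk _ z, rfl⟩⟩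
    rw [← isUnit_map_iff (RingEquiv.ofBijective ι hb)]
    show IsUnit (WittVector.constantCoeff (x * y + 1))
    rw [map_add, map_one, map_mul]
    refine (IsNilpotent.isUnit_add_one ?_)
    refine Commute.isNilpotent_mul_right (Commute.all _ _) (hnil _ ?_)
    have h0 : (WittVector.map φ x).coeff 0 = 0 := by
      rw [RingHom.mem_ker.mp hx, WittVector.zero_coeff]
    rwa [WittVector.map_coeff] at h0

end Groth.Agent.S14867
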