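import Groth.Statements.S14869
import Mathlib
-- import your own Groth.Agent.* helpers here

set_option autoImplicit false
universe u v w
open CAlg

namespace Groth.Agent.S14869

open TensorProduct in
/-- Let S → R be a surjective homomorphism of commutative rings, let π : P_1 → P_2 be a surjective
homomorphism of S-modules with P_2 projective, and let π̄ : R ⊗_S P_1 → R ⊗_S P_2 be its base
change. Then every R-linear section σ̄ of π̄ lifts to a section of π: there is an S-linear map σ :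
P_2 → P_1 with π ∘ σ = id whose base change R ⊗_S σ is σ̄. -/
theorem result (S R : Type u) [CommRing S] [CommRing R] [Algebra S R]
    (hSR : Function.Surjective (algebraMap S R))
    (P₁ : Type v) [AddCommGroup P₁] [Module S P₁]
    (P₂ : Type w) [AddCommGroup P₂] [Module S P₂] [Module.Projective S P₂]
    (π : P₁ →ₗ[S] P₂) (hπ : Function.Surjective π)
    (σ' : R ⊗[S] P₂ →ₗ[R] R ⊗[S] P₁) (hσ' : (π.baseChange R).comp σ' = LinearMap.id) :
    ∃ σ : P₂ →ₗ[S] P₁, π.comp σ = LinearMap.id ∧ σ.baseChange R = σ' := by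
  obtain ⟨σ₀, hσ₀⟩ := Module.projective_lifting_property π LinearMap.id hπ
  let j1 : P₁ →ₗ[S] R ⊗[S] P₁ := TensorProduct.mk S R P₁ 1
  let j2 : P₂ →ₗ[S] R ⊗[S] P₂ := TensorProduct.mk S R P₂ 1
  have hj1 : Function.Surjective j1 := TensorProduct.mk_surjective S P₁ R hSR
  obtain ⟨τ, hτ⟩ := Module.projective_lifting_property j1 ((σ'.restrictScalars S).comp j2) hj1
  let δ : P₂ →ₗ[S] P₂ := π.comp τ - LinearMap.id
  have hτ' : ∀ x, (1:R) ⊗ₜ[S] τ x = σ' ((1:R) ⊗ₜ[S] x) := LinearMap.congr_fun hτ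
  have hδ : ∀ x, (1:R) ⊗ₜ[S] δ x = 0 := by
    intro x
    have h1 : (π.baseChange R) (σ' ((1:R) ⊗ₜ[S] x)) = (1:R) ⊗ₜ[S] x := LinearMap.congr_fun hσ' _
    rw [← hτ', LinearMap.baseChange_tmul] at h1
    simp [δ, TensorProduct.tmul_sub, h1]
  refine ⟨τ - σ₀.comp δ, ?_, ?_⟩
  · ext x
    have h0 := LinearMap.congr_fun hσ₀
    simp only [LinearMap.coe_comp, Function.comp_apply, LinearMap.id_coe, id_eq] at h0
    simp [δ, h0]
  · apply TensorProduct.AlgebraTensorModule.curry_injective
    refine LinearMap.ext_ring (LinearMap.ext fun x => ?_)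
    have h2 : (1:R) ⊗ₜ[S] σ₀ (δ x) = 0 := by
      have := congrArg (σ₀.baseChange R) (hδ x)
      simpa using this
    simp [TensorProduct.tmul_sub, h2, hτ']

end Groth.Agent.S14869
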