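import Groth.Statements.S14875
import Groth.Agent.PLieLib.Ideals
import Mathlib.Algebra.Lie.Killing
import Mathlib.Algebra.Lie.InvariantForm

set_option autoImplicit false
universe u v
open PLie

namespace Groth.Agent.S14875

/-- Let `L` be a finite-dimensional Lie algebra over a field of characteristic `p` equipped with a
`p`-mapping `φ`, whose Killing form is non-degenerate. Let `U` and `H` be Lie subalgebras of `L`
such that `H` is the normaliser of `U`, `U` is the set of elements of `H` that lie in the solvable
radical of `H` and are `p`-nilpotent, and the orthogonal of `U` for the Killing form is closed under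
the bracket. Then `U` is the orthogonal of `H` for the Killing form. (The published statement is for
the Lie algebra of a reductive group over a field of characteristic `p` with its canonical
`p`-structure; this row states it for any finite-dimensional Lie algebra with a `p`-mapping.) -/
theorem result
    (k : Type u) [Field k] (p : ℕ) [Fact p.Prime] [CharP k p]
    (L : Type v) [LieRing L] [LieAlgebra k L] [Module.Finite k L]
    (φ : PLie.PMap k p L) (hκ : (killingForm k L).Nondegenerate)
    (U H : LieSubalgebra k L) (hH : H = U.normalizer)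
    (hU : ∀ x : L, x ∈ U ↔ ∃ hx : x ∈ H, (⟨x, hx⟩ : ↥H) ∈ LieAlgebra.radical k ↥H ∧ PLie.IsPNilpotent φ x)
    (hperp : ∀ a b : L, (∀ y ∈ U, killingForm k L a y = 0) → (∀ y ∈ U, killingForm k L b y = 0) →
      ∀ y ∈ U, killingForm k L ⁅a, b⁆ y = 0) :
    ∀ x : L, x ∈ U ↔ ∀ h ∈ H, killingForm k L h x = 0 := by
  subst hH
  have hUH : ∀ u ∈ U, u ∈ U.normalizer := fun u hu => U.le_normalizer hu
  have hnil : ∀ u ∈ U, IsNilpotent (LieAlgebra.ad k L u) := fun u hu => by
    obtain ⟨-, -, n, hn⟩ := (hU u).1 hu
    exact ⟨p ^ n, by rw [← PLieLib.pow_ad_iterate φ, hn, map_zero]⟩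
  have hLnil : LieModule.IsNilpotent U L :=
    (LieModule.isNilpotent_iff_forall' (R := k) (L := U) (M := L)).2 fun u => hnil u u.2
  obtain ⟨m, hm⟩ := LieModule.IsNilpotent.nilpotent k U L
  have hstab : ∀ h ∈ U.normalizer, ∀ j, ∀ v ∈ LieModule.lowerCentralSeries k U L j,
      ⁅h, v⁆ ∈ LieModule.lowerCentralSeries k U L j := by
    intro h hh j
    induction j with
    | zero =>
      intro v _
      rw [LieModule.lowerCentralSeries_zero]
      exact LieSubmodule.mem_top _
    | succ j ih =>
      intro v hv
      rw [LieModule.lowerCentralSeries_succ, ← LieSubmodule.mem_toSubmodule,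
        LieSubmodule.lieIdeal_oper_eq_linear_span'] at hv
      induction hv using Submodule.span_induction with
      | mem v hv =>
        obtain ⟨⟨u, hu⟩, -, w, hw, rfl⟩ := hv
        rw [LieSubalgebra.coe_bracket_of_module, leibniz_lie]
        rw [LieModule.lowerCentralSeries_succ]
        exact add_mem
          (LieSubmodule.lie_mem_lie (LieSubmodule.mem_top
            (⟨⁅h, u⁆, (LieSubalgebra.mem_normalizer_iff U h).1 hh u hu⟩ : U)) hw)
          (LieSubmodule.lie_mem_lie (LieSubmodule.mem_top (⟨u, hu⟩ : U)) (ih w hw))
      | zero => rw [lie_zero]; exact zero_mem _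
      | add a c _ _ ha hc => rw [lie_add]; exact add_mem ha hc
      | smul t a _ ha => rw [lie_smul]; exact SMulMemClass.smul_mem t ha
  have fwd : ∀ x ∈ U, ∀ h ∈ U.normalizer, killingForm k L h x = 0 := by
    intro x hx h hh
    have key : ∀ j z, (((LieAlgebra.ad k L h) * (LieAlgebra.ad k L x)) ^ j) z ∈
        LieModule.lowerCentralSeries k U L j := by
      intro j z
      induction j with
      | zero => rw [LieModule.lowerCentralSeries_zero]; exact LieSubmodule.mem_top _
      | succ j ih =>
        rw [pow_succ', Module.End.mul_apply]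
        refine hstab h hh (j + 1) _ ?_
        rw [LieModule.lowerCentralSeries_succ]
        exact LieSubmodule.lie_mem_lie (LieSubmodule.mem_top (⟨x, hx⟩ : U)) ih
    have hN : IsNilpotent ((LieAlgebra.ad k L h) ∘ₗ (LieAlgebra.ad k L x)) := by
      refine ⟨m, LinearMap.ext fun z => ?_⟩
      have := key m z
      rw [hm, LieSubmodule.mem_bot] at this
      exact this
    rw [killingForm_apply_apply]
    exact (LinearMap.isNilpotent_trace_of_isNilpotent hN).eq_zero
  intro x
  refine ⟨fun hx => fwd x hx, fun hx => ?_⟩
  have hrefl : (killingForm k L).IsRefl := fun a c hac => by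
    rw [LieModule.traceForm_comm]; exact hac
  have hdd : ∀ w, (∀ a, (∀ y ∈ U, killingForm k L a y = 0) → killingForm k L a w = 0) → w ∈ U := by
    intro w hw
    have horth := LinearMap.BilinForm.orthogonal_orthogonal hκ hrefl U.toSubmodule
    have : w ∈ LinearMap.BilinForm.orthogonal (killingForm k L)
        (LinearMap.BilinForm.orthogonal (killingForm k L) U.toSubmodule) :=
      LinearMap.BilinForm.mem_orthogonal_iff.2 fun a ha => hw a fun y hy => by
        exact hrefl _ _ (LinearMap.BilinForm.mem_orthogonal_iff.1 ha y hy)
    rw [horth] at this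
    exact this
  have hPH : ∀ a, (∀ y ∈ U, killingForm k L a y = 0) → a ∈ U.normalizer := by
    intro a ha
    rw [LieSubalgebra.mem_normalizer_iff]
    intro u hu
    refine hdd _ fun c hc => ?_
    have h1 := hperp c a hc ha u hu
    rw [LieModule.traceForm_apply_lie_apply] at h1
    exact h1
  exact hdd x fun a ha => hx a (hPH a ha)

end Groth.Agent.S14875
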