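import Groth.Statements.S14877
import Groth.Agent.GrpScheme.AssocBundle
import Groth.Agent.Thick.FlatCancel

import Mathlib.AlgebraicGeometry.Morphisms.LocalFlatDescent
-- import your own Groth.Agent.* helpers here

set_option autoImplicit false
universe u
open CategoryTheory MonoidalCategory CartesianMonoidalCategory MonObj GrpObj AlgebraicGeometry CategoryTheory.Limits
open AlgGrp

namespace Groth.Agent.S14877

open Groth.Agent.GrpScheme

variable {S : Scheme.{u}} {G P X T : Over S} [GrpObj G]

/-- `(h, (u, g)) ↦ (u, h g)`. -/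
noncomputable def hmul : G ⊗ (T ⊗ G) ⟶ T ⊗ G :=
  lift (snd G (T ⊗ G) ≫ fst T G) (fst G (T ⊗ G) * (snd G (T ⊗ G) ≫ snd T G))

theorem isPullback_hmul : IsPullback (hmul : G ⊗ (T ⊗ G) ⟶ T ⊗ G) (snd G (T ⊗ G)) (fst T G) (fst T G) where
  w := by simp [hmul]
  isLimit' := ⟨PullbackCone.IsLimit.mk _
    (fun s => lift ((s.fst ≫ snd T G) * (s.snd ≫ snd T G)⁻¹) s.snd)
    (fun s => by
      refine CartesianMonoidalCategory.hom_ext _ _ ?_ ?_
      · simp [hmul, s.condition]
      · simp [hmul, MonObj.comp_mul])
    (fun s => lift_snd _ _)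
    (fun s m h₁ h₂ => by
      refine CartesianMonoidalCategory.hom_ext _ _ ?_ ?_
      · rw [lift_fst, ← h₁, ← h₂]
        simp [hmul, MonObj.comp_mul]
      · rw [lift_snd, h₂])⟩

variable (a : AlgGrp.Action G P) (π : P ⟶ X)

/-- The two assertions over an open of the quotient, given a trivialising cover. -/
theorem local_result (hinv : GIT.IsInvariant a π) (s : T ⟶ P) (U : X.left.Opens) (φ : T.left ⟶ U)
    [Flat φ] [Surjective φ] [QuasiCompact φ] [Flat G.hom]
    (hsq : IsPullback (fst T G).left (lift (snd T G) (fst T G ≫ s) ≫ a.act).left (φ ≫ U.ι) π.left) :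
    Flat (π.left ∣_ U) ∧
      IsIso ((GIT.PsiY a π hinv) ∣_ (pullback.snd π.left π.left ⁻¹ᵁ π.left ⁻¹ᵁ U)) := by
  let c := lift (snd T G) (fst T G ≫ s) ≫ a.act
  have hr : Set.range c.left ⊆ Set.range (π.left ⁻¹ᵁ U).ι := by
    rw [Scheme.Opens.range_ι]
    rintro _ ⟨w, rfl⟩
    show π.left (c.left w) ∈ U
    rw [← Scheme.Hom.comp_apply, ← hsq.w, ← Category.assoc, Scheme.Hom.comp_apply]
    exact Subtype.coe_prop _
  let c' := IsOpenImmersion.lift (π.left ⁻¹ᵁ U).ι c.left hr
  have hc' : c' ≫ (π.left ⁻¹ᵁ U).ι = c.left := IsOpenImmersion.lift_fac _ _ _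
  have h1 : IsPullback c' (fst T G).left (π.left ∣_ U) φ := by
    refine IsPullback.of_right ?_ ?_ (isPullback_morphismRestrict π.left U).flip
    · rw [hc']; exact hsq.flip
    · rw [← cancel_mono U.ι, Category.assoc, morphismRestrict_ι, ← Category.assoc, hc',
        Category.assoc]
      exact hsq.w.symm
  refine ⟨?_, ?_⟩
  · have : Flat (fst T G).left := inferInstanceAs (Flat (pullback.fst T.hom G.hom))
    have : Surjective c' := MorphismProperty.of_isPullback h1.flip ‹Surjective φ›
    have : Flat c' := MorphismProperty.of_isPullback h1.flip ‹Flat φ›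
    have : Flat (c' ≫ π.left ∣_ U) := by rw [h1.w]; infer_instance
    exact Thick.FlatCancel.flat_of_comp c' _
  have hK := IsPullback.of_hasPullback π.left π.left
  -- the trivialised kernel pair
  have hout : IsPullback ((G ◁ c).left ≫ a.act.left) (snd G (T ⊗ G)).left π.left (c.left ≫ π.left) := by
    have e : (G ◁ c).left ≫ a.act.left = (hmul : G ⊗ (T ⊗ G) ⟶ T ⊗ G).left ≫ c.left := by
      rw [← Over.comp_left, ← Over.comp_left]
      congr 1
      have e1 : G ◁ c = lift (fst G (T ⊗ G)) (snd G (T ⊗ G) ≫ c) :=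
        CartesianMonoidalCategory.hom_ext _ _ (by simp) (by simp)
      have := Basic.mul_smul' a (fst G (T ⊗ G)) (snd G (T ⊗ G) ≫ snd T G)
        (snd G (T ⊗ G) ≫ fst T G ≫ s)
      simp only [Basic.smul] at this
      rw [e1, show snd G (T ⊗ G) ≫ c =
        lift (snd G (T ⊗ G) ≫ snd T G) (snd G (T ⊗ G) ≫ fst T G ≫ s) ≫ a.act by
          simp [c, comp_lift_assoc], ← this]
      simp [c, hmul, comp_lift_assoc]
    rw [e, ← hsq.w]
    exact (isPullback_hmul.map (Over.forget S)).paste_horiz hsq.flip
  let O := pullback.snd π.left π.left ⁻¹ᵁ π.left ⁻¹ᵁ U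
  let ψ := GIT.PsiY a π hinv
  let A := pullback (pullback.snd π.left π.left) c.left
  have hA : IsPullback (pullback.snd (pullback.snd π.left π.left) c.left)
      (pullback.fst (pullback.snd π.left π.left) c.left) c.left (pullback.snd π.left π.left) :=
    (IsPullback.of_hasPullback _ _).flip
  have hA' : IsPullback
      (pullback.fst (pullback.snd π.left π.left) c.left ≫ pullback.fst π.left π.left)
      (pullback.snd (pullback.snd π.left π.left) c.left) π.left (c.left ≫ π.left) :=
    hA.flip.paste_horiz hK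
  let e₀ := hout.isoIsPullback _ _ hA'
  have he₂ : e₀.hom ≫ pullback.snd (pullback.snd π.left π.left) c.left = (snd G (T ⊗ G)).left :=
    hout.isoIsPullback_hom_snd _ _ hA'
  have hψ : e₀.hom ≫ pullback.fst (pullback.snd π.left π.left) c.left = (G ◁ c).left ≫ ψ := by
    apply pullback.hom_ext
    · rw [Category.assoc, Category.assoc]
      show _ = (G ◁ c).left ≫ pullback.lift a.act.left (snd G P).left _ ≫ pullback.fst π.left π.left
      rw [pullback.lift_fst]
      exact hout.isoIsPullback_hom_fst _ _ hA'
    · rw [Category.assoc, Category.assoc]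
      show _ = (G ◁ c).left ≫ pullback.lift a.act.left (snd G P).left _ ≫ pullback.snd π.left π.left
      rw [pullback.lift_snd, pullback.condition, reassoc_of% he₂, ← Over.comp_left, ← Over.comp_left,
        whiskerLeft_snd]
  have hψsq : IsPullback e₀.hom (G ◁ c).left (pullback.fst (pullback.snd π.left π.left) c.left) ψ := by
    refine IsPullback.of_right ?_ hψ hA
    have h : IsPullback (snd G (T ⊗ G)).left (G ◁ c).left c.left (snd G P).left :=
      ((Basic.isPullback_whiskerLeft c).map (Over.forget S)).flip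
    rw [he₂, show ψ ≫ pullback.snd π.left π.left = (snd G P).left from pullback.lift_snd _ _ _]
    exact h
  -- restrict to the open
  have hr₂ : Set.range (pullback.fst (pullback.snd π.left π.left) c.left) ⊆ Set.range O.ι := by
    rw [Scheme.Opens.range_ι]
    rintro _ ⟨w, rfl⟩
    show pullback.snd π.left π.left _ ∈ π.left ⁻¹ᵁ U
    rw [← Scheme.Hom.comp_apply, pullback.condition, Scheme.Hom.comp_apply]
    exact (Scheme.Opens.range_ι _).subset (hr ⟨_, rfl⟩)
  let e := IsOpenImmersion.lift O.ι (pullback.fst (pullback.snd π.left π.left) c.left) hr₂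
  have he : e ≫ O.ι = pullback.fst (pullback.snd π.left π.left) c.left := IsOpenImmersion.lift_fac _ _ _
  have h2 : IsPullback e (pullback.snd (pullback.snd π.left π.left) c.left)
      (pullback.snd π.left π.left ∣_ π.left ⁻¹ᵁ U) c' := by
    refine IsPullback.of_right ?_ ?_ (isPullback_morphismRestrict (pullback.snd π.left π.left) _).flip
    · rw [he, hc']; exact hA.flip
    · rw [← cancel_mono (π.left ⁻¹ᵁ U).ι, Category.assoc, morphismRestrict_ι, ← Category.assoc, he,
        Category.assoc, hc']
      exact pullback.condition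
  have : Surjective c' := MorphismProperty.of_isPullback h1.flip ‹Surjective φ›
  have : Flat c' := MorphismProperty.of_isPullback h1.flip ‹Flat φ›
  have : QuasiCompact c' := MorphismProperty.of_isPullback h1.flip ‹QuasiCompact φ›
  have hφe : (@Surjective ⊓ @Flat ⊓ @QuasiCompact : MorphismProperty Scheme.{u}) e :=
    ⟨⟨MorphismProperty.of_isPullback h2.flip ‹Surjective c'›,
      MorphismProperty.of_isPullback h2.flip ‹Flat c'›⟩,
      MorphismProperty.of_isPullback h2.flip ‹QuasiCompact c'›⟩
  have hr₃ : Set.range (G ◁ c).left ⊆ Set.range (ψ ⁻¹ᵁ O).ι := by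
    rw [Scheme.Opens.range_ι]
    rintro _ ⟨w, rfl⟩
    show ψ _ ∈ O
    rw [← Scheme.Hom.comp_apply, ← hψ, Scheme.Hom.comp_apply]
    exact (Scheme.Opens.range_ι O).subset (hr₂ ⟨_, rfl⟩)
  have h3 : IsPullback (IsOpenImmersion.lift (ψ ⁻¹ᵁ O).ι (G ◁ c).left hr₃) e₀.hom (ψ ∣_ O) e := by
    refine IsPullback.of_right ?_ ?_ (isPullback_morphismRestrict ψ O).flip
    · rw [IsOpenImmersion.lift_fac, he]; exact hψsq.flip
    · rw [← cancel_mono O.ι, Category.assoc, morphismRestrict_ι, IsOpenImmersion.lift_fac_assoc,
        Category.assoc, he, hψ]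
  exact MorphismProperty.of_isPullback_of_descendsAlong
    (P := MorphismProperty.isomorphisms Scheme.{u}) (Q := @Surjective ⊓ @Flat ⊓ @QuasiCompact)
    h3.flip hφe (inferInstanceAs (IsIso e₀.hom))


/-- Over an algebraically closed field k of characteristic zero, let G be an algebraic group (a smooth
k-group scheme of finite type) acting on a variety P (reduced, separated, of finite type over k),
and let π : P → X be a geometric quotient by this action onto a variety X: π is invariant,
surjective and open, the map (g, p) ↦ (g·p, p) from G × P to P ×_X P is surjective on points, and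
for every open U of X the sections of O_X over U are exactly the invariant sections of O_P over
π⁻¹U. Suppose the bundle is locally isotrivial: every point of X has an open neighbourhood U with a
finite étale surjective morphism U' → U and a morphism s : U' → P lifting U' → U → X such that (u,
g) ↦ g·s(u) exhibits U' × G as the fibre product U' ×_X P. Then the bundle is principal: (g, p) ↦
(g·p, p) is an isomorphism of G × P onto P ×_X P, and π is flat. (The published definition of an
étale covering asks only for a finite étale morphism; this row also requires it to be surjective,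
since an empty cover would make every bundle isotrivial.) -/
theorem result (k : Type u) [Field k] [IsAlgClosed k] [CharZero k]
    (G P X : Over (Spec (CommRingCat.of k))) [GrpObj G] [Smooth G.hom] [QuasiCompact G.hom]
    [LocallyOfFiniteType P.hom] [QuasiCompact P.hom] [IsSeparated P.hom] [IsReduced P.left]
    [LocallyOfFiniteType X.hom] [QuasiCompact X.hom] [IsSeparated X.hom] [IsReduced X.left]
    (a : AlgGrp.Action G P) (π : P ⟶ X) (hinv : GIT.IsInvariant a π)
    (hq : Function.Surjective π.left.base ∧ IsOpenMap π.left.base ∧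
      Function.Surjective (GIT.PsiY a π hinv).base ∧
      ∀ U : X.left.Opens, Function.Injective (π.left.app U) ∧
        Set.range (π.left.app U) = {f | GIT.IsInvSection a π U f})
    (hli : ∀ x : ↥X.left, ∃ (U : X.left.Opens) (_ : x ∈ U) (U' : Scheme.{u}) (φ : U' ⟶ ↑U)
      (_ : IsFinite φ) (_ : Etale φ) (_ : Surjective φ) (s : Over.mk (φ ≫ U.ι ≫ X.hom) ⟶ P),
      s.left ≫ π.left = φ ≫ U.ι ∧
      IsPullback (fst (Over.mk (φ ≫ U.ι ≫ X.hom)) G).left (lift (snd (Over.mk (φ ≫ U.ι ≫ X.hom)) G) (fst (Over.mk (φ ≫ U.ι ≫ X.hom)) G ≫ s) ≫ a.act).left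
        (φ ≫ U.ι) π.left) :
    IsIso (GIT.PsiY a π hinv) ∧ Flat π.left := by
  choose U hx U' φ hfin het hsu s hs hsq using hli
  have : Flat G.hom := inferInstance
  have H : ∀ x, Flat (π.left ∣_ U x) ∧
      IsIso ((GIT.PsiY a π hinv) ∣_ (pullback.snd π.left π.left ⁻¹ᵁ π.left ⁻¹ᵁ U x)) := fun x => by
    have := hfin x
    have := het x
    have := hsu x
    exact local_result a π hinv (T := Over.mk (φ x ≫ (U x).ι ≫ X.hom)) (s x) (U x) (φ x) (hsq x)
  have hcov : iSup U = ⊤ := top_le_iff.1 fun x _ => TopologicalSpace.Opens.mem_iSup.2 ⟨x, hx x⟩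
  have : IsZariskiLocalAtTarget (@Flat : MorphismProperty Scheme.{u}) := HasRingHomProperty.instIsZariskiLocalAtTarget _
  refine ⟨?_, IsZariskiLocalAtTarget.of_iSup_eq_top (P := (@Flat : MorphismProperty Scheme.{u})) U hcov fun x => (H x).1⟩
  exact IsZariskiLocalAtTarget.of_iSup_eq_top (P := MorphismProperty.isomorphisms Scheme.{u})
    (fun x => pullback.snd π.left π.left ⁻¹ᵁ π.left ⁻¹ᵁ U x)
    (top_le_iff.1 fun w _ => TopologicalSpace.Opens.mem_iSup.2 ⟨π.left (pullback.snd π.left π.left w), hx _⟩)
    fun x => (H x).2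

end Groth.Agent.S14877
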