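import Groth.Statements.S14879
import Mathlib

set_option autoImplicit false
universe u
open Finset
open AlgGrp

namespace Groth.Agent.S14879

open Finset Equiv Matrix

theorem sign_append {p r : ℕ} (A : Finset (Fin (p + r))) (hA : A.card = p) (hB : Aᶜ.card = r)
    (e : Perm (Fin (p + r))) (he : ∀ i, e i = Fin.append (A.orderEmbOfFin hA) (Aᶜ.orderEmbOfFin hB) i) :
    Perm.sign e = (-1 : ℤˣ) ^ ((A ×ˢ Aᶜ).filter (fun ab => ab.2 < ab.1)).card := by
  classical
  have hL : ∀ i, e (Fin.castAdd r i) = A.orderEmbOfFin hA i := fun i => by rw [he, Fin.append_left]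
  have hR : ∀ j, e (Fin.natAdd p j) = Aᶜ.orderEmbOfFin hB j := fun j => by rw [he, Fin.append_right]
  rw [e.sign_eq_prod_prod_Ioi, Finset.prod_sigma', Finset.prod_ite, Finset.prod_const_one, one_mul,
    Finset.prod_const]
  congr 1
  refine Finset.card_bij (fun x _ => (e x.1, e x.2)) ?_ ?_ ?_
  · rintro ⟨i, j⟩ hx
    simp only [Finset.mem_filter, Finset.mem_sigma, Finset.mem_univ, Finset.mem_Ioi, true_and, not_lt] at hx
    obtain ⟨hij, hle⟩ := hx
    induction i using Fin.addCases with
    | left i =>
      induction j using Fin.addCases with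
      | left j =>
        rw [hL, hL] at hle
        have : i < j := by
          rw [Fin.lt_def] at hij ⊢
          simp only [Fin.val_castAdd, Fin.val_natAdd] at hij
          omega
        exact absurd hle (not_le.2 ((A.orderEmbOfFin hA).strictMono this))
      | right j =>
        simp only [Finset.mem_filter, Finset.mem_product, hL, hR]
        refine ⟨⟨A.orderEmbOfFin_mem hA i, Aᶜ.orderEmbOfFin_mem hB j⟩, ?_⟩
        rw [hL, hR] at hle
        refine lt_of_le_of_ne hle fun h => ?_
        exact (Finset.mem_compl.1 (Aᶜ.orderEmbOfFin_mem hB j)) (h ▸ A.orderEmbOfFin_mem hA i)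
    | right i =>
      induction j using Fin.addCases with
      | left j =>
        exfalso
        rw [Fin.lt_def] at hij
        simp only [Fin.val_castAdd, Fin.val_natAdd] at hij
        omega
      | right j =>
        rw [hR, hR] at hle
        have : i < j := by
          rw [Fin.lt_def] at hij ⊢
          simp only [Fin.val_castAdd, Fin.val_natAdd] at hij
          omega
        exact absurd hle (not_le.2 ((Aᶜ.orderEmbOfFin hB).strictMono this))
  · rintro ⟨i, j⟩ _ ⟨i', j'⟩ _ h
    simp only [Prod.mk.injEq, EmbeddingLike.apply_eq_iff_eq] at h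
    obtain ⟨rfl, rfl⟩ := h
    rfl
  · rintro ⟨α, β⟩ h
    simp only [Finset.mem_filter, Finset.mem_product] at h
    obtain ⟨i, rfl⟩ : α ∈ Set.range (A.orderEmbOfFin hA) := by
      rw [Finset.range_orderEmbOfFin]; exact h.1.1
    obtain ⟨j, rfl⟩ : β ∈ Set.range (Aᶜ.orderEmbOfFin hB) := by
      rw [Finset.range_orderEmbOfFin]; exact h.1.2
    refine ⟨⟨Fin.castAdd r i, Fin.natAdd p j⟩, ?_, by simp [hL, hR]⟩
    simp only [Finset.mem_filter, Finset.mem_sigma, Finset.mem_univ, Finset.mem_Ioi, true_and, not_lt, hL, hR]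
    refine ⟨?_, h.2.le⟩
    rw [Fin.lt_def]
    simp only [Fin.val_castAdd, Fin.val_natAdd]
    omega

theorem sum_minors {k : Type*} [CommRing k] (p r : ℕ) (M : Matrix (Fin (p + r)) (Fin (p + r)) k)
    (a : Fin p → Fin (p + r)) (b : Fin r → Fin (p + r)) :
    ∑ ρ : Perm (Fin (p + r)), (((Perm.sign ρ : ℤˣ) : ℤ) : k) *
      (Matrix.of fun i j => M (a i) (ρ (Fin.castAdd r j))).det *
      (Matrix.of fun i j => M (b i) (ρ (Fin.natAdd p j))).det =
    ((p.factorial * r.factorial : ℕ) : k) * (M.submatrix (Fin.append a b) id).det := by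
  classical
  let F : Perm (Fin (p + r)) → k := fun π =>
    (((Perm.sign π : ℤˣ) : ℤ) : k) * ((∏ i, M (a i) (π (Fin.castAdd r i))) * ∏ j, M (b j) (π (Fin.natAdd p j)))
  let ι : Perm (Fin p) → Perm (Fin r) → Perm (Fin (p + r)) := fun σ τ =>
    finSumFinEquiv.permCongr (Perm.sumCongr σ τ)
  have hdet : (M.submatrix (Fin.append a b) id).det = ∑ π, F π := by
    rw [← Matrix.det_transpose, Matrix.det_apply']
    refine Finset.sum_congr rfl fun π _ => ?_
    simp only [F, Matrix.transpose_apply, Matrix.submatrix_apply, id, Fin.prod_univ_add, Fin.append_left,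
      Fin.append_right]
  have hterm : ∀ ρ : Perm (Fin (p + r)), (((Perm.sign ρ : ℤˣ) : ℤ) : k) *
      (Matrix.of fun i j => M (a i) (ρ (Fin.castAdd r j))).det *
      (Matrix.of fun i j => M (b i) (ρ (Fin.natAdd p j))).det =
      ∑ σ : Perm (Fin p), ∑ τ : Perm (Fin r), F (ρ * ι σ τ) := by
    intro ρ
    rw [← Matrix.det_transpose (Matrix.of fun i j => M (a i) (ρ (Fin.castAdd r j))),
      ← Matrix.det_transpose (Matrix.of fun i j => M (b i) (ρ (Fin.natAdd p j))),
      Matrix.det_apply', Matrix.det_apply', mul_assoc, Finset.sum_mul_sum, Finset.mul_sum]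
    refine Finset.sum_congr rfl fun σ _ => ?_
    rw [Finset.mul_sum]
    refine Finset.sum_congr rfl fun τ _ => ?_
    have hsign : Perm.sign (ρ * ι σ τ) = Perm.sign ρ * (Perm.sign σ * Perm.sign τ) := by
      simp [ι, Perm.sign_permCongr, Perm.sign_sumCongr]
    have h1 : ∀ i, (ρ * ι σ τ) (Fin.castAdd r i) = ρ (Fin.castAdd r (σ i)) := fun i => by
      simp [ι, Equiv.permCongr_apply]
    have h2 : ∀ j, (ρ * ι σ τ) (Fin.natAdd p j) = ρ (Fin.natAdd p (τ j)) := fun j => by
      simp [ι, Equiv.permCongr_apply]
    simp only [F, hsign, h1, h2, Matrix.transpose_apply, Matrix.of_apply, Units.val_mul, Int.cast_mul]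
    ring
  rw [Finset.sum_congr rfl fun ρ _ => hterm ρ, Finset.sum_comm]
  simp_rw [Finset.sum_comm (γ := Perm (Fin (p + r))) (α := Perm (Fin r))]
  have hshift : ∀ σ τ, ∑ ρ, F (ρ * ι σ τ) = ∑ π, F π := fun σ τ => Equiv.sum_comp (Equiv.mulRight (ι σ τ)) F
  simp only [hshift, Finset.sum_const, Finset.card_univ, Fintype.card_perm, Fintype.card_fin, nsmul_eq_mul]
  rw [hdet, Nat.cast_mul, mul_assoc]

/-- Let k be a field of characteristic zero, n = p + r with p, r ≥ 1, M an n × n matrix over k, A a set
of p row indices and B a set of r row indices, both listed increasingly. For a permutation π of the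
indices, with permutation matrix P_π, let Y_A(M·P_π) be the minor of M·P_π on the rows A and the
first p columns, and Z_B(M·P_π) the minor on the rows B and the last r columns. Then the sum over
all π of sign(π)·Y_A(M·P_π)·Z_B(M·P_π) equals p!·r!·(−1)^N·det M when B is the complement of A,
where N is the number of pairs (a, b) with a in A, b outside A and b < a, and equals 0 otherwise.
Taking det M = 1 this says that the pairing (f, h) ↦ Σ_π sign(π) f(π) h(π) between the spans of the
left p-minors and of the right r-minors is invariant under left translation by matrices of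
determinant one and pairs Y_A with the signed complementary minor to p!·r!. (The published statement
asserts that the two families of minors are dual bases for this pairing, that is, the value 1 in
place of p!·r!; the p!·r! permutations preserving the two column blocks each contribute the same
signed term, so this row carries that factor, which is 1 only for n = 2.) -/
theorem result (k : Type u) [Field k] [CharZero k]
    (p r : ℕ) (hp : 1 ≤ p) (hr : 1 ≤ r) (M : Matrix (Fin (p + r)) (Fin (p + r)) k)
    (A : Finset (Fin (p + r))) (hA : A.card = p) (B : Finset (Fin (p + r))) (hB : B.card = r) :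
    ∑ π : Equiv.Perm (Fin (p + r)), (((Equiv.Perm.sign π : ℤˣ) : ℤ) : k) *
      ((M * π.permMatrix k).submatrix (A.orderEmbOfFin hA) (Fin.castAdd r)).det *
      ((M * π.permMatrix k).submatrix (B.orderEmbOfFin hB) (Fin.natAdd p)).det =
    if B = Aᶜ then ((p.factorial * r.factorial : ℕ) : k) *
      (-1 : k) ^ ((A ×ˢ Aᶜ).filter (fun ab => ab.2 < ab.1)).card * M.det else 0 := by
  classical
  have h := sum_minors p r M (A.orderEmbOfFin hA) (B.orderEmbOfFin hB)
  rw [← Equiv.sum_comp (Equiv.inv (Perm (Fin (p + r))))] at h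
  have e : ∀ π : Perm (Fin (p + r)), M * π.permMatrix k = M.submatrix id π.symm := fun π =>
    PEquiv.mul_toMatrix_toPEquiv M π
  simp only [Equiv.inv_apply, Perm.sign_inv] at h
  simp only [e, Matrix.submatrix_submatrix]
  refine (Eq.trans ?_ h).trans ?_
  · exact Finset.sum_congr rfl fun π _ => rfl
  split_ifs with hc
  · subst hc
    have hinj : Function.Injective (Fin.append (A.orderEmbOfFin hA) (Aᶜ.orderEmbOfFin hB)) := by
      rw [Fin.append_injective_iff]
      refine ⟨(A.orderEmbOfFin hA).injective, (Aᶜ.orderEmbOfFin hB).injective, fun i j hij => ?_⟩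
      exact (Finset.mem_compl.1 (Aᶜ.orderEmbOfFin_mem hB j)) (hij ▸ A.orderEmbOfFin_mem hA i)
    let e : Perm (Fin (p + r)) := Equiv.ofBijective _ (Finite.injective_iff_bijective.1 hinj)
    have h2 := Matrix.det_permute e M
    rw [sign_append A hA hB e fun i => rfl] at h2
    change ((p.factorial * r.factorial : ℕ) : k) * (M.submatrix e id).det = _
    rw [h2]
    push_cast
    ring
  · obtain ⟨x, hxA, hxB⟩ : ∃ x, x ∈ A ∧ x ∈ B := by
      by_contra hne
      refine hc (Finset.eq_of_subset_of_card_le (fun x hx => Finset.mem_compl.2 fun hxA => hne ⟨x, hxA, hx⟩) ?_)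
      rw [Finset.card_compl, Fintype.card_fin, hA, hB]; omega
    obtain ⟨i, hi⟩ : x ∈ Set.range (A.orderEmbOfFin hA) := by rwa [Finset.range_orderEmbOfFin]
    obtain ⟨j, hj⟩ : x ∈ Set.range (B.orderEmbOfFin hB) := by rwa [Finset.range_orderEmbOfFin]
    rw [Matrix.det_zero_of_row_eq (i := Fin.castAdd r i) (j := Fin.natAdd p j), mul_zero]
    · intro hh; simp [Fin.ext_iff] at hh; omega
    · ext c; simp [Fin.append_left, Fin.append_right, hi, hj]

end Groth.Agent.S14879
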