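import Groth.Statements.S14885
import Mathlib.Geometry.RingedSpace.SheafedSpace

set_option autoImplicit false
universe u v
open CategoryTheory TopologicalSpace Opposite AlgebraicGeometry Topology
open AlgGrp

namespace Groth.Agent.S14885

theorem c_congr {X Y : SheafedSpace CommRingCat.{u}} {α β : X ⟶ Y} (h : α = β) (U : (Opens Y)ᵒᵖ)
    (s : Y.presheaf.obj U) :
    α.hom.c.app U s = X.presheaf.map
      (eqToHom (congrArg (fun f : X ⟶ Y => op ((Opens.map f.hom.base).obj U.unop)) h.symm))
      (β.hom.c.app U s) := by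
  subst h
  simp

theorem hom_ext' {X Y : SheafedSpace CommRingCat.{u}} (α β : X ⟶ Y) (w : α.hom.base = β.hom.base)
    (h : ∀ (U : (Opens Y)ᵒᵖ) (s : Y.presheaf.obj U),
      α.hom.c.app U s = X.presheaf.map (eqToHom (by rw [w])) (β.hom.c.app U s)) : α = β := by
  obtain ⟨⟨a, c⟩⟩ := α
  obtain ⟨⟨b, d⟩⟩ := β
  obtain rfl : a = b := w
  have : c = d := NatTrans.ext (funext fun U => CommRingCat.hom_ext (RingHom.ext fun s => by
    simpa using h U s))
  subst this
  rfl

theorem map_map_eq {X : SheafedSpace CommRingCat.{u}} {A B C : (Opens X)ᵒᵖ} (i : A ⟶ B) (j : B ⟶ C)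
    (k : A ⟶ C) (s : X.presheaf.obj A) :
    X.presheaf.map j (X.presheaf.map i s) = X.presheaf.map k s := by
  rw [← ConcreteCategory.comp_apply, ← Functor.map_comp, Subsingleton.elim (i ≫ j) k]

theorem c_naturality {X Y : SheafedSpace CommRingCat.{u}} (α : X ⟶ Y) {A B : (Opens Y)ᵒᵖ} (i : A ⟶ B)
    (s : Y.presheaf.obj A) :
    α.hom.c.app B (Y.presheaf.map i s) =
      X.presheaf.map ((Opens.map α.hom.base).op.map i) (α.hom.c.app A s) :=
  congr($(α.hom.c.naturality i) s)

/-- Let a group Γ act on a ringed space X (a topological space with a sheaf of rings) by automorphisms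
τ_g, and let π : X → Y be a Γ-invariant morphism of ringed spaces which exhibits Y as the quotient
ringed space X/Γ: the underlying continuous map of π is a topological quotient map whose fibres are
exactly the Γ-orbits, and for every open subset V of Y the ring map O_Y(V) → O_X(π⁻¹V) is injective
with image the sections s satisfying τ_g^♯(s) = s for all g. Then (Y, π) is a categorical quotient
for the action in the category of ringed spaces: every morphism of ringed spaces f : X → Z with f ∘
τ_g = f for all g (as morphisms of ringed spaces) factors uniquely as f = f̄ ∘ π. -/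
theorem result (X Y : SheafedSpace CommRingCat.{u}) (Γ : Type v) [Group Γ]
    (τ : Γ →* Aut X) (π : X ⟶ Y) (hτ : ∀ g : Γ, (τ g).hom ≫ π = π)
    (h1 : IsQuotientMap π.hom.base)
    (h2 : ∀ x x' : X, π.hom.base x = π.hom.base x' ↔ ∃ g : Γ, (τ g).hom.hom.base x = x')
    (h3 : ∀ V : Opens Y, Function.Injective (π.hom.c.app (op V)) ∧
      Set.range (π.hom.c.app (op V)) =
        {s | ∀ g : Γ, (τ g).hom.hom.c.app (op ((Opens.map π.hom.base).obj V)) s =
          X.presheaf.map (eqToHom (congrArg (fun f : X ⟶ Y => op ((Opens.map f.hom.base).obj V)) (hτ g).symm)) s})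
    (Z : SheafedSpace CommRingCat.{u}) (f : X ⟶ Z) (hf : ∀ g : Γ, (τ g).hom ≫ f = f) :
    ∃! fbar : Y ⟶ Z, π ≫ fbar = f := by
  classical
  -- the map of spaces
  have hinv : ∀ x x' : X, π.hom.base x = π.hom.base x' → f.hom.base x = f.hom.base x' := by
    intro x x' hx
    obtain ⟨g, rfl⟩ := (h2 x x').mp hx
    exact congr($((congrArg (fun φ : X ⟶ Z => φ.hom.base) (hf g)).symm) x)
  let b₀ : Y → Z := fun y => f.hom.base (h1.surjective y).choose
  have hb₀ : ∀ x : X, b₀ (π.hom.base x) = f.hom.base x := fun x =>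
    hinv _ _ (h1.surjective (π.hom.base x)).choose_spec
  let b : (Y : TopCat) ⟶ (Z : TopCat) := TopCat.ofHom ⟨b₀, h1.continuous_iff.mpr (by
    rw [show b₀ ∘ π.hom.base = f.hom.base from funext hb₀]
    exact f.hom.base.hom.continuous)⟩
  have hb : π.hom.base ≫ b = f.hom.base := TopCat.hom_ext (ContinuousMap.ext hb₀)
  have hW : ∀ W : Opens Z, op ((Opens.map f.hom.base).obj W) =
      op ((Opens.map π.hom.base).obj ((Opens.map b).obj W)) := fun W => by
    rw [← Opens.map_comp_obj, hb]
  let tr : ∀ W : (Opens Z)ᵒᵖ, Z.presheaf.obj W ⟶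
      X.presheaf.obj (op ((Opens.map π.hom.base).obj ((Opens.map b).obj W.unop))) :=
    fun W => f.hom.c.app W ≫ X.presheaf.map (eqToHom (hW W.unop))
  have hmem : ∀ W s, tr W s ∈ Set.range (π.hom.c.app (op ((Opens.map b).obj W.unop))) := by
    intro W s
    rw [(h3 _).2]
    intro g
    have e1 : tr W s = X.presheaf.map (eqToHom (hW W.unop)) (f.hom.c.app W s) := rfl
    rw [e1, c_naturality (τ g).hom]
    have e2 : (τ g).hom.hom.c.app (op ((Opens.map f.hom.base).obj W.unop)) (f.hom.c.app W s) =
        ((τ g).hom ≫ f).hom.c.app W s := rfl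
    rw [e2, c_congr (hf g) W s]
    refine (map_map_eq _ _ (eqToHom ?_) _).trans (map_map_eq _ _ _ _).symm
    exact (congrArg (fun φ : X ⟶ Z => op ((Opens.map φ.hom.base).obj W.unop)) (hf g)).symm.trans
      (congrArg (fun A => op ((Opens.map (τ g).hom.hom.base).obj A)) (Opposite.op_injective (hW W.unop)))
  choose c hc using hmem
  let cW : ∀ W : (Opens Z)ᵒᵖ, Z.presheaf.obj W ⟶ Y.presheaf.obj (op ((Opens.map b).obj W.unop)) := fun W =>
    CommRingCat.ofHom
      { toFun := c W
        map_one' := (h3 _).1 (by rw [hc, map_one, map_one])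
        map_zero' := (h3 _).1 (by rw [hc, map_zero, map_zero])
        map_mul' := fun s t => (h3 _).1 (by rw [map_mul, hc, hc, hc, map_mul])
        map_add' := fun s t => (h3 _).1 (by rw [map_add, hc, hc, hc, map_add]) }
  let fb : Y ⟶ Z := InducedCategory.homMk
    { base := b
      c :=
        { app := cW
          naturality := fun W W' i => CommRingCat.hom_ext (RingHom.ext fun s => (h3 _).1 (by
            show π.hom.c.app _ (c W' (Z.presheaf.map i s)) =
              π.hom.c.app _ (Y.presheaf.map ((Opens.map b).op.map i) (c W s))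
            rw [c_naturality π, hc]
            refine Eq.trans ?_ (congrArg (fun z => X.presheaf.map _ z) (hc W s)).symm
            show X.presheaf.map _ (f.hom.c.app W' (Z.presheaf.map i s)) =
              X.presheaf.map _ (X.presheaf.map _ (f.hom.c.app W s))
            rw [c_naturality f]
            exact (map_map_eq _ _ ((Opens.map f.hom.base).op.map i ≫ eqToHom (hW W'.unop)) _).trans
              (map_map_eq _ _ _ _).symm)) } }
  have hfb : π ≫ fb = f := by
    refine hom_ext' _ _ hb fun W s => ?_
    show π.hom.c.app _ (c W s) = _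
    rw [hc]
    rfl
  refine ⟨fb, hfb, fun fb' hfb' => ?_⟩
  have hbase : fb'.hom.base = fb.hom.base := by
    refine TopCat.hom_ext (ContinuousMap.ext fun y => ?_)
    obtain ⟨x, rfl⟩ := h1.surjective y
    exact congr($(congrArg (fun φ : X ⟶ Z => φ.hom.base) (hfb'.trans hfb.symm)) x)
  refine hom_ext' fb' fb hbase fun W s => (h3 ((Opens.map fb'.hom.base).obj W.unop)).1 ?_
  rw [c_naturality π]
  exact (c_congr (hfb'.trans hfb.symm) W s)

end Groth.Agent.S14885
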