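import Groth.Statements.S14886
import Groth.Agent.GrpScheme.AssocBundle
-- import your own Groth.Agent.* helpers here

set_option autoImplicit false
universe u
open CategoryTheory MonoidalCategory CartesianMonoidalCategory MonObj GrpObj AlgebraicGeometry CategoryTheory.Limits
open AlgGrp

namespace Groth.Agent.S14886

/-- Over an algebraically closed field k of characteristic zero, let G be a connected algebraic group (a
smooth connected k-group scheme of finite type) and H an algebraic subgroup (a smooth closed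
subgroup scheme, j : H → G). Let π : G → B be the quotient of G by H (a geometric quotient for the
action h·g = g·h⁻¹ which is a principal H-bundle: (h, g) ↦ (g·h⁻¹, g) is an isomorphism H × G ≅ G
×_B G and π is flat). Let X and Y be varieties (reduced, separated, of finite type over k) with
H-actions, in each of which every finite set of points lies in an affine open subset, and let qX : G
× X → QX, qY : G × Y → QY and qXY : G × (X × Y) → QXY be the associated bundles G_H(X), G_H(Y) and
G_H(X × Y): geometric quotients (invariant, surjective, open, fibre-pair map surjective on points,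
sections = invariant sections) which are principal H-bundles, for the actions h·(g, x) = (g·h⁻¹,
h·x), h·(g, y) = (g·h⁻¹, h·y) and h·(g, x, y) = (g·h⁻¹, h·x, h·y), with QX, QY, QXY varieties over B
= G/H through pX, pY, pXY satisfying p ∘ q = π ∘ pr₁. Let fX : QXY → QX and fY : QXY → QY be the
morphisms over B induced by the projections, fX ∘ qXY = qX ∘ (id × pr₁) and fY ∘ qXY = qY ∘ (id ×
pr₂). Then the square formed by fX, fY, pX, pY is cartesian: G_H(X × Y) is the fibre product of
G_H(X) and G_H(Y) over G/H. -/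
theorem result (k : Type u) [Field k] [IsAlgClosed k] [CharZero k]
    (G H : Over (Spec (CommRingCat.of k))) [GrpObj G] [Smooth G.hom] [QuasiCompact G.hom]
    [ConnectedSpace ↥G.left] [GrpObj H] (j : H ⟶ G) [IsMonHom j] [IsClosedImmersion j.left] [Smooth H.hom]
    (B : Over (Spec (CommRingCat.of k))) [LocallyOfFiniteType B.hom] [QuasiCompact B.hom] [IsSeparated B.hom] [IsReduced B.left]
    (r : AlgGrp.Action H G) (hr : ∀ (T : Over (Spec (CommRingCat.of k))) (h : T ⟶ H) (g : T ⟶ G),
      lift h g ≫ r.act = g * (h ≫ j)⁻¹)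
    (π : G ⟶ B) (hπinv : GIT.IsInvariant r π)
    (hπ : (Function.Surjective π.left.base ∧ IsOpenMap π.left.base ∧
      Function.Surjective (GIT.PsiY r π hπinv).base ∧
      (∀ U : B.left.Opens, Function.Injective (π.left.app U) ∧
        Set.range (π.left.app U) = {f | GIT.IsInvSection r π U f}) ∧
      IsIso (GIT.PsiY r π hπinv) ∧ Flat π.left))
    (X Y : Over (Spec (CommRingCat.of k))) [LocallyOfFiniteType X.hom] [QuasiCompact X.hom] [IsSeparated X.hom] [IsReduced X.left] [LocallyOfFiniteType Y.hom] [QuasiCompact Y.hom] [IsSeparated Y.hom] [IsReduced Y.left]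
    (hFX : ∀ F : Finset ↥X.left, ∃ U : X.left.Opens, IsAffineOpen U ∧ (↑F : Set ↥X.left) ⊆ (U : Set ↥X.left))
    (hFY : ∀ F : Finset ↥Y.left, ∃ U : Y.left.Opens, IsAffineOpen U ∧ (↑F : Set ↥Y.left) ⊆ (U : Set ↥Y.left))
    (aX : AlgGrp.Action H X) (aY : AlgGrp.Action H Y)
    (b : AlgGrp.Action H (G ⊗ X))
    (hb : ∀ (T : Over (Spec (CommRingCat.of k))) (h : T ⟶ H) (g : T ⟶ G) (x : T ⟶ X),
      lift h (lift g x) ≫ b.act = lift (g * (h ≫ j)⁻¹) (lift h x ≫ aX.act))
    (c : AlgGrp.Action H (G ⊗ Y))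
    (hc : ∀ (T : Over (Spec (CommRingCat.of k))) (h : T ⟶ H) (g : T ⟶ G) (x : T ⟶ Y),
      lift h (lift g x) ≫ c.act = lift (g * (h ≫ j)⁻¹) (lift h x ≫ aY.act))
    (d : AlgGrp.Action H (G ⊗ (X ⊗ Y)))
    (hd : ∀ (T : Over (Spec (CommRingCat.of k))) (h : T ⟶ H) (g : T ⟶ G) (x : T ⟶ X) (y : T ⟶ Y),
      lift h (lift g (lift x y)) ≫ d.act = lift (g * (h ≫ j)⁻¹) (lift (lift h x ≫ aX.act) (lift h y ≫ aY.act)))
    (QX QY QXY : Over (Spec (CommRingCat.of k))) [LocallyOfFiniteType QX.hom] [QuasiCompact QX.hom] [IsSeparated QX.hom] [IsReduced QX.left] [LocallyOfFiniteType QY.hom] [QuasiCompact QY.hom] [IsSeparated QY.hom] [IsReduced QY.left] [LocallyOfFiniteType QXY.hom] [QuasiCompact QXY.hom] [IsSeparated QXY.hom] [IsReduced QXY.left]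
    (qX : G ⊗ X ⟶ QX) (hqXinv : GIT.IsInvariant b qX) (hqX : (Function.Surjective qX.left.base ∧ IsOpenMap qX.left.base ∧
      Function.Surjective (GIT.PsiY b qX hqXinv).base ∧
      (∀ U : QX.left.Opens, Function.Injective (qX.left.app U) ∧
        Set.range (qX.left.app U) = {f | GIT.IsInvSection b qX U f}) ∧
      IsIso (GIT.PsiY b qX hqXinv) ∧ Flat qX.left))
    (qY : G ⊗ Y ⟶ QY) (hqYinv : GIT.IsInvariant c qY) (hqY : (Function.Surjective qY.left.base ∧ IsOpenMap qY.left.base ∧
      Function.Surjective (GIT.PsiY c qY hqYinv).base ∧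
      (∀ U : QY.left.Opens, Function.Injective (qY.left.app U) ∧
        Set.range (qY.left.app U) = {f | GIT.IsInvSection c qY U f}) ∧
      IsIso (GIT.PsiY c qY hqYinv) ∧ Flat qY.left))
    (qXY : G ⊗ (X ⊗ Y) ⟶ QXY) (hqXYinv : GIT.IsInvariant d qXY) (hqXY : (Function.Surjective qXY.left.base ∧ IsOpenMap qXY.left.base ∧
      Function.Surjective (GIT.PsiY d qXY hqXYinv).base ∧
      (∀ U : QXY.left.Opens, Function.Injective (qXY.left.app U) ∧
        Set.range (qXY.left.app U) = {f | GIT.IsInvSection d qXY U f}) ∧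
      IsIso (GIT.PsiY d qXY hqXYinv) ∧ Flat qXY.left))
    (pX : QX ⟶ B) (hpX : qX ≫ pX = fst G X ≫ π) (pY : QY ⟶ B) (hpY : qY ≫ pY = fst G Y ≫ π)
    (pXY : QXY ⟶ B) (hpXY : qXY ≫ pXY = fst G (X ⊗ Y) ≫ π)
    (fX : QXY ⟶ QX) (hfX : qXY ≫ fX = (G ◁ fst X Y) ≫ qX) (hfXp : fX ≫ pX = pXY)
    (fY : QXY ⟶ QY) (hfY : qXY ≫ fY = (G ◁ snd X Y) ≫ qY) (hfYp : fY ≫ pY = pXY) :
    IsPullback fX.left fY.left pX.left pY.left := by
  have : QuasiCompact (G ⊗ X).hom :=
    inferInstanceAs (QuasiCompact (pullback.fst G.hom X.hom ≫ G.hom))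
  have : QuasiCompact (G ⊗ Y).hom :=
    inferInstanceAs (QuasiCompact (pullback.fst G.hom Y.hom ≫ G.hom))
  have : QuasiCompact (X ⊗ Y).hom :=
    inferInstanceAs (QuasiCompact (pullback.fst X.hom Y.hom ≫ X.hom))
  have : QuasiCompact (G ⊗ (X ⊗ Y)).hom :=
    inferInstanceAs (QuasiCompact (pullback.fst G.hom (X ⊗ Y).hom ≫ G.hom))
  have : QuasiCompact qX.left := by
    have : QuasiCompact (qX.left ≫ QX.hom) := by rw [Over.w qX]; infer_instance
    exact QuasiCompact.of_comp qX.left QX.hom
  have : QuasiCompact qY.left := by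
    have : QuasiCompact (qY.left ≫ QY.hom) := by rw [Over.w qY]; infer_instance
    exact QuasiCompact.of_comp qY.left QY.hom
  have : QuasiCompact qXY.left := by
    have : QuasiCompact (qXY.left ≫ QXY.hom) := by rw [Over.w qXY]; infer_instance
    exact QuasiCompact.of_comp qXY.left QXY.hom
  have : QuasiCompact π.left := by
    have : QuasiCompact (π.left ≫ B.hom) := by rw [Over.w π]; infer_instance
    exact QuasiCompact.of_comp π.left B.hom
  obtain ⟨hs, -, -, -, hiX, hfX'⟩ := hqX
  obtain ⟨hsY, -, -, -, hiY, hfY'⟩ := hqY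
  obtain ⟨hsXY, -, -, -, hiXY, hfXY⟩ := hqXY
  obtain ⟨hs', -, -, -, hi', hf'⟩ := hπ
  have : Surjective qX.left := ⟨hs⟩
  have : Surjective qY.left := ⟨hsY⟩
  have : Surjective qXY.left := ⟨hsXY⟩
  have : Surjective π.left := ⟨hs'⟩
  have := hfX'
  have := hfY'
  have := hfXY
  have := hf'
  let aXY : AlgGrp.Action H (X ⊗ Y) :=
    { act := lift ((H ◁ fst X Y) ≫ aX.act) ((H ◁ snd X Y) ≫ aY.act)
      one_act := by
        refine CartesianMonoidalCategory.hom_ext _ _ ?_ ?_
        · rw [Category.assoc, lift_fst, ← whisker_exchange_assoc, aX.one_act]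
          simp
        · rw [Category.assoc, lift_snd, ← whisker_exchange_assoc, aY.one_act]
          simp
      mul_act := by
        refine CartesianMonoidalCategory.hom_ext _ _ ?_ ?_
        · simp only [Category.assoc, lift_fst]
          rw [← whisker_exchange_assoc, aX.mul_act, ← MonoidalCategory.whiskerLeft_comp_assoc H,
            lift_fst]
          simp
        · simp only [Category.assoc, lift_snd]
          rw [← whisker_exchange_assoc, aY.mul_act, ← MonoidalCategory.whiskerLeft_comp_assoc H,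
            lift_snd]
          simp }
  have hd' : ∀ (T : Over (Spec (CommRingCat.of k))) (h : T ⟶ H) (g : T ⟶ G) (x : T ⟶ X ⊗ Y),
      lift h (lift g x) ≫ d.act = lift (g * (h ≫ j)⁻¹) (lift h x ≫ aXY.act) := by
    intro T h g x
    obtain ⟨x₁, x₂, rfl⟩ : ∃ x₁ x₂, x = lift x₁ x₂ := ⟨x ≫ fst X Y, x ≫ snd X Y, by simp⟩
    rw [hd, comp_lift, lift_whiskerLeft_assoc, lift_whiskerLeft_assoc, lift_fst, lift_snd]
  have hX := Groth.Agent.GrpScheme.AssocBundle.isPullback r π hπinv hi' b
    (Groth.Agent.GrpScheme.AssocBundle.act_fst j r hr aX b hb) qX hqXinv hiX pX hpX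
  have hY := Groth.Agent.GrpScheme.AssocBundle.isPullback r π hπinv hi' c
    (Groth.Agent.GrpScheme.AssocBundle.act_fst j r hr aY c hc) qY hqYinv hiY pY hpY
  have hXY := Groth.Agent.GrpScheme.AssocBundle.isPullback r π hπinv hi' d
    (Groth.Agent.GrpScheme.AssocBundle.act_fst j r hr aXY d hd') qXY hqXYinv hiXY pXY hpXY
  have hw : fX.left ≫ pX.left = fY.left ≫ pY.left := by
    rw [← Over.comp_left, ← Over.comp_left, hfXp, hfYp]
  let φ := pullback.lift fX.left fY.left hw
  let pr := pullback.fst pX.left pY.left ≫ pX.left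
  -- the base change of the fibre product along `π`
  have hxy := Groth.Agent.GrpScheme.AssocBundle.isPullback_map hXY hX (fst X Y) fX hfX hfXp
  have hP := IsPullback.of_hasPullback pr π.left
  have hwφ : qXY.left ≫ φ ≫ pr = (fst G (X ⊗ Y)).left ≫ π.left := by
    rw [pullback.lift_fst_assoc, ← Over.comp_left, hfXp, ← Over.comp_left, ← Over.comp_left, hpXY]
  let ψ := pullback.lift (qXY.left ≫ φ) (fst G (X ⊗ Y)).left (by rw [Category.assoc]; exact hwφ)
  have hsq : IsPullback ψ qXY.left (pullback.fst pr π.left) φ := by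
    refine IsPullback.flip (IsPullback.of_bot (v₂₁ := pullback.snd pr π.left) (v₂₂ := pr)
      (h₃₁ := π.left) ?_ (pullback.lift_fst _ _ _).symm hP)
    rw [pullback.lift_snd, pullback.lift_fst_assoc, ← Over.comp_left, hfXp]
    exact hXY
  -- the fibre product of the pulled back bundles
  have hGsq : IsPullback (G ◁ fst X Y).left (G ◁ snd X Y).left (fst G X).left (fst G Y).left := by
    have h0 : IsPullback (fst X Y).left (snd X Y).left X.hom Y.hom := IsPullback.of_hasPullback _ _
    have h1 : IsPullback (snd G (X ⊗ Y) ≫ snd X Y).left (G ◁ fst X Y).left Y.hom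
        ((fst G X).left ≫ G.hom) := by
      rw [Over.comp_left, show (fst G X).left ≫ G.hom = (snd G X).left ≫ X.hom by
        rw [Over.w, Over.w]]
      exact (((Groth.Agent.GrpScheme.Basic.isPullback_whiskerLeft (R := G) (fst X Y)).map
        (Over.forget _)).flip.paste_horiz h0.flip)
    rw [← whiskerLeft_snd, Over.comp_left] at h1
    exact (h1.of_right (by
        show (G ◁ snd X Y).left ≫ (fst G Y).left = (G ◁ fst X Y).left ≫ (fst G X).left
        rw [← Over.comp_left, ← Over.comp_left, whiskerLeft_fst, whiskerLeft_fst])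
      (IsPullback.of_hasPullback G.hom Y.hom).flip).flip
  have hψiso : IsIso ψ := by
    have h2 : IsPullback ((G ◁ snd X Y).left ≫ qY.left) (G ◁ fst X Y).left pY.left
        (qX.left ≫ pX.left) := by
      rw [hX.w]
      exact hGsq.flip.paste_horiz hY
    have h3 : IsPullback (pullback.snd pX.left pY.left) (pullback.fst pX.left pY.left) pY.left pX.left :=
      (IsPullback.of_hasPullback _ _).flip
    have hσ : qXY.left ≫ φ ≫ pullback.snd pX.left pY.left = (G ◁ snd X Y).left ≫ qY.left := by
      rw [pullback.lift_snd, ← Over.comp_left, hfY, Over.comp_left]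
    have hτ : (qXY.left ≫ φ) ≫ pullback.fst pX.left pY.left = (G ◁ fst X Y).left ≫ qX.left := by
      rw [Category.assoc, pullback.lift_fst, ← Over.comp_left, hfX, Over.comp_left]
    have h4 : IsPullback (qXY.left ≫ φ) (G ◁ fst X Y).left (pullback.fst pX.left pY.left) qX.left :=
      IsPullback.of_right (by rw [Category.assoc, hσ]; exact h2) hτ h3
    have h5 : IsPullback (qXY.left ≫ φ) ((G ◁ fst X Y).left ≫ (fst G X).left) pr π.left :=
      h4.paste_vert hX
    rw [← Over.comp_left, whiskerLeft_fst] at h5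
    have : ψ = (h5.isoIsPullback _ _ hP).hom :=
      pullback.hom_ext ((pullback.lift_fst _ _ _).trans (h5.isoIsPullback_hom_fst _ _ hP).symm)
        ((pullback.lift_snd _ _ _).trans (h5.isoIsPullback_hom_snd _ _ hP).symm)
    rw [this]
    infer_instance
  have : IsIso φ := MorphismProperty.of_isPullback_of_descendsAlong
    (P := MorphismProperty.isomorphisms Scheme.{u}) (Q := @Surjective ⊓ @Flat ⊓ @QuasiCompact)
    hsq ⟨⟨inferInstance, inferInstance⟩, inferInstance⟩ hψiso
  exact IsPullback.of_iso_pullback ⟨hw⟩ (asIso φ) (pullback.lift_fst _ _ _) (pullback.lift_snd _ _ _)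

end Groth.Agent.S14886
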