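import Groth.Statements.S14887
import Groth.Agent.FlatOpen.FibreGeneric

set_option autoImplicit false
set_option linter.style.haveILetI false
universe u
open CategoryTheory AlgebraicGeometry
open FlatMor

namespace Groth.Agent.S14887

/-- Over a valuation ring a prime of the polynomial ring below the generic point of a fibre is
extended from the base. -/
theorem eq_map_of_le {R : Type u} [CommRing R] [IsDomain R] [ValuationRing R] {σ : Type u}
    (m : Ideal R) [m.IsPrime] (P : Ideal (MvPolynomial σ R)) [P.IsPrime]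
    (hP : P ≤ m.map MvPolynomial.C) :
    P = (P.comap MvPolynomial.C).map MvPolynomial.C := by
  refine le_antisymm (fun p hp => ?_) Ideal.map_comap_le
  rcases eq_or_ne p 0 with rfl | hp0
  · exact zero_mem _
  classical
  -- divide by a coefficient of least valuation
  have hne : p.support.Nonempty := Finset.nonempty_iff_ne_empty.2 (by simpa using hp0)
  have hex : ∃ i ∈ p.support, ∀ j ∈ p.support, p.coeff i ∣ p.coeff j := by
    have key : ∀ s : Finset (σ →₀ ℕ), s.Nonempty → ∃ i ∈ s, ∀ j ∈ s, p.coeff i ∣ p.coeff j := by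
      intro s hs
      induction hs using Finset.Nonempty.cons_induction with
      | singleton a => exact ⟨a, by simp, by simp⟩
      | cons a s ha hs ih =>
        obtain ⟨i, hi, hmin⟩ := ih
        rcases ValuationRing.dvd_total (p.coeff a) (p.coeff i) with h | h
        · refine ⟨a, by simp, fun j hj => ?_⟩
          rcases Finset.mem_cons.1 hj with rfl | hj
          · exact dvd_rfl
          · exact h.trans (hmin j hj)
        · refine ⟨i, by simp [hi], fun j hj => ?_⟩
          rcases Finset.mem_cons.1 hj with rfl | hj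
          · exact h
          · exact hmin j hj
    exact key _ hne
  obtain ⟨i, hi, hmin⟩ := hex
  have hdvd : MvPolynomial.C (p.coeff i) ∣ p := (MvPolynomial.C_dvd_iff_dvd_coeff _ _).2 fun j => by
    by_cases hj : j ∈ p.support
    · exact hmin j hj
    · rw [MvPolynomial.notMem_support_iff.1 hj]; exact dvd_zero _
  obtain ⟨q, hq⟩ := hdvd
  have hci : p.coeff i ≠ 0 := MvPolynomial.mem_support_iff.1 hi
  have hq1 : q.coeff i = 1 := by
    have := congrArg (MvPolynomial.coeff i) hq
    rw [MvPolynomial.coeff_C_mul] at this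
    exact mul_left_cancel₀ hci (by rw [mul_one]; exact this.symm)
  have hqP : q ∉ P := fun h => ‹m.IsPrime›.ne_top ((Ideal.eq_top_iff_one _).2
    (hq1 ▸ MvPolynomial.mem_map_C_iff.1 (hP h) i))
  have hc : MvPolynomial.C (p.coeff i) ∈ P :=
    ((‹P.IsPrime›.mem_or_mem (hq ▸ hp))).resolve_right hqP
  rw [hq]
  exact Ideal.mul_mem_right _ _ (Ideal.mem_map_of_mem _ (Ideal.mem_comap.2 hc))

theorem eq_of_same_contraction {R : Type u} [CommRing R] [IsDomain R] [ValuationRing R] {σ : Type u}
    (Q P₁ P₂ : PrimeSpectrum (MvPolynomial σ R)) (h₁ : P₁ ⤳ Q) (h₂ : P₂ ⤳ Q) {s : PrimeSpectrum R}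
    (hmin : ∀ q, q ⤳ Q → PrimeSpectrum.comap MvPolynomial.C q = s → q = Q)
    (hs : PrimeSpectrum.comap MvPolynomial.C Q = s)
    (heq : PrimeSpectrum.comap MvPolynomial.C P₁ = PrimeSpectrum.comap MvPolynomial.C P₂) :
    P₁ = P₂ := by
  subst hs
  let m : Ideal R := Q.asIdeal.comap MvPolynomial.C
  haveI : m.IsPrime := Ideal.comap_isPrime _ _
  haveI : (m.map (MvPolynomial.C (σ := σ))).IsPrime := by
    rw [← Ideal.mk_ker (I := m), ← MvPolynomial.ker_map]
    exact RingHom.ker_isPrime _
  let q : PrimeSpectrum (MvPolynomial σ R) := ⟨m.map MvPolynomial.C, inferInstance⟩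
  have hmC : m.map (MvPolynomial.C (σ := σ)) ≤ Q.asIdeal := Ideal.map_comap_le
  have hq : q = Q := hmin q ((PrimeSpectrum.le_iff_specializes q Q).1 hmC) (PrimeSpectrum.ext (by
    show (m.map (MvPolynomial.C (σ := σ))).comap MvPolynomial.C = m
    exact le_antisymm (Ideal.comap_mono hmC) Ideal.le_comap_map))
  have hle : ∀ P : PrimeSpectrum (MvPolynomial σ R), P ⤳ Q → P.asIdeal ≤ m.map MvPolynomial.C :=
    fun P hP => le_of_le_of_eq (show P.asIdeal ≤ Q.asIdeal from (PrimeSpectrum.le_iff_specializes P Q).2 hP)
      (congrArg PrimeSpectrum.asIdeal hq).symm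
  refine PrimeSpectrum.ext ?_
  have heq' : P₁.asIdeal.comap (MvPolynomial.C (σ := σ)) = P₂.asIdeal.comap MvPolynomial.C :=
    congrArg PrimeSpectrum.asIdeal heq
  rw [eq_map_of_le m P₁.asIdeal (hle _ h₁), eq_map_of_le m P₂.asIdeal (hle _ h₂), heq']

/-- Let R be a valuation ring and let φ : X → Spec R be flat and locally of finite presentation. Call x
∈ X fibre-generic when it is the generic point of an irreducible component of its fibre, i.e. no
point y ≠ x with φ y = φ x specializes to x. Then every generization of a fibre-generic point is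
fibre-generic. (The published statement allows an arbitrary base scheme and takes φ finitely
presented. Over a two-dimensional base it fails: for the affine line over the affine plane with
coordinates a, b, the closed point u = a/b of the generic fibre specializes to the generic point of
the fibre over a = b = 0, and the chain-lifting step of the published proof does not hold in that
generality. This row takes the base to be the spectrum of a valuation ring, the case in which the
result is applied to relative curves, and assumes only local finite presentation, the property being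
local on X.) -/
theorem result
    (R : Type u) [CommRing R] [IsDomain R] [ValuationRing R] {X : Scheme.{u}}
    (φ : X ⟶ Spec (CommRingCat.of R)) [Flat φ] [LocallyOfFinitePresentation φ]
    (x x' : X) (hgen : x' ⤳ x) (hx : ∀ y : X, y ⤳ x → φ y = φ x → y = x) :
    ∀ y : X, y ⤳ x' → φ y = φ x' → y = x' := by
  intro y hy hfy
  have hcm : MoreMor.IsCMAt φ x := FlatOpen.FibreGeneric.isCMAt_of_fibre_maximal φ x hx
  obtain ⟨d, hd⟩ := FlatOpen.CMLocus.exists_fibreDimAt_eq φ x
  obtain ⟨W, g, hxW, hg, hgflat, hgqf⟩ := FlatOpen.CMLocus.exists_flat_qf_affineSpace φ x d hcm hd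
  let e := AffineSpace.SpecIso (ULift.{u} (Fin d)) (CommRingCat.of R)
  have hx'W : x' ∈ W := hgen.mem_open W.isOpen hxW
  let X0 : W.toScheme := ⟨x, hxW⟩
  let X1 : W.toScheme := ⟨x', hx'W⟩
  let Y1 : W.toScheme := ⟨y, hy.mem_open W.isOpen hx'W⟩
  let π : W.toScheme ⟶ Spec (.of (MvPolynomial (ULift.{u} (Fin d)) R)) := g ≫ e.hom
  have hπ : ∀ w : W.toScheme, Spec.map (CommRingCat.ofHom MvPolynomial.C) (π w) = φ (W.ι w) :=
      fun w => by
    rw [← Scheme.Hom.comp_apply, ← Scheme.Hom.comp_apply, show π ≫ Spec.map (CommRingCat.ofHom MvPolynomial.C) =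
      g ≫ (𝔸(ULift.{u} (Fin d); Spec (.of R)) ↘ Spec (.of R)) from
        (Category.assoc _ _ _).trans (congrArg (g ≫ ·)
          ((Iso.inv_comp_eq e).1 (AffineSpace.SpecIso_inv_over (CommRingCat.of R))).symm), hg]
  haveI : LocallyQuasiFinite π := inferInstance
  -- the image of `x` is the generic point of its fibre
  have hmin : ∀ q, q ⤳ π X0 → Spec.map (CommRingCat.ofHom MvPolynomial.C) q = φ x → q = π X0 := by
    intro q hq hq'
    obtain ⟨w, hw, rfl⟩ := Flat.generalizingMap π hq
    have hw' : W.ι w = x := hx _ (hw.map W.ι.continuous) (by rw [← hπ, hq'])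
    rw [show w = X0 from W.ι.isEmbedding.injective hw']
  have h1 : π X1 ⤳ π X0 := (W.ι.isEmbedding.specializes_iff.1 hgen : X1 ⤳ X0).map π.continuous
  have h2 : π Y1 ⤳ π X1 := (W.ι.isEmbedding.specializes_iff.1 hy : Y1 ⤳ X1).map π.continuous
  have h3 : π Y1 = π X1 := eq_of_same_contraction _ _ _ (h2.trans h1) h1 hmin (hπ X0)
    (((hπ Y1).trans hfy).trans (hπ X1).symm)
  have hdisc : DiscreteTopology ↥(π ⁻¹' {π X1}) :=
    isDiscrete_iff_discreteTopology.1 (π.isDiscrete_preimage_singleton _)
  have h4 : (⟨Y1, h3⟩ : π ⁻¹' {π X1}) ⤳ ⟨X1, rfl⟩ :=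
    (subtype_specializes_iff _ _).2 (W.ι.isEmbedding.specializes_iff.1 hy : Y1 ⤳ X1)
  exact congrArg (fun w : π ⁻¹' {π X1} => w.1.1) h4.eq

end Groth.Agent.S14887
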