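import Groth.Statements.S14888
import Mathlib
-- import your own Groth.Agent.* helpers here

set_option autoImplicit false
universe u
open CategoryTheory AlgebraicGeometry
open CAlg

namespace Groth.Agent.S14888


private theorem exists_away (B T : Type u) [CommRing B] [CommRing T] [Algebra B T] (P : Ideal B) [P.IsPrime]
    [IsLocalization.AtPrime T P] [Finite (PrimeSpectrum B)] : ∃ b : B, IsLocalization.Away b T := by
  classical
  letI := Fintype.ofFinite (PrimeSpectrum B)
  have hex : ∀ Q : PrimeSpectrum B, ∃ b, b ∉ P ∧ (¬ Q.asIdeal ≤ P → b ∈ Q.asIdeal) := by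
    intro Q
    by_cases h : Q.asIdeal ≤ P
    · exact ⟨1, fun h1 => (Ideal.IsPrime.ne_top ‹P.IsPrime›) ((Ideal.eq_top_iff_one P).mpr h1), fun h' => absurd h h'⟩
    · obtain ⟨b, hbQ, hbP⟩ := SetLike.not_le_iff_exists.mp h
      exact ⟨b, hbP, fun _ => hbQ⟩
  choose c hcP hcQ using hex
  let b := ∏ Q, c Q
  have hbP : b ∉ P := fun h => by
    obtain ⟨Q, -, hQ⟩ := (Ideal.IsPrime.prod_mem_iff (hp := ‹P.IsPrime›)).mp h
    exact hcP Q hQ
  haveI : IsLocalization P.primeCompl (Localization.Away b) := by
    refine IsLocalization.of_le_of_exists_dvd (Submonoid.powers b) P.primeCompl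
      (by rw [Submonoid.powers_le]; exact hbP) (fun n hn => ?_)
    have : b ∈ (Ideal.span {n}).radical := by
      rw [Ideal.radical_eq_sInf, Submodule.mem_sInf]
      rintro J ⟨hnJ, hJ⟩
      refine Ideal.mem_of_dvd _ (Finset.dvd_prod_of_mem c (Finset.mem_univ ⟨J, hJ⟩)) (hcQ ⟨J, hJ⟩ (fun h => hn ?_))
      exact h (hnJ (Ideal.mem_span_singleton_self n))
    obtain ⟨k, hk⟩ := this
    exact ⟨b ^ k, ⟨k, rfl⟩, Ideal.mem_span_singleton.mp hk⟩
  exact ⟨b, IsLocalization.isLocalization_of_algEquiv (Submonoid.powers b)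
    (IsLocalization.algEquiv P.primeCompl (Localization.Away b) T)⟩

/-- Let R be a valuation ring whose spectrum is finite (finite height) and let f : X → Spec R be locally
of finite type with locally quasi-finite fibres. For every x ∈ X the canonical morphism Spec O_{X,x}
→ X is an open immersion, and the composite Spec O_{X,x} → Spec R is locally of finite type; in
particular O_{X,x} is finitely generated as an R-algebra. (The published statement takes X
quasi-finite over Spec R; the assertions are local at x, so this row assumes only that X is locally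
of finite type with discrete fibres.) -/
theorem result
    (R : Type u) [CommRing R] [IsDomain R] [ValuationRing R] [Finite (PrimeSpectrum R)]
    {X : Scheme.{u}} (f : X ⟶ Spec (CommRingCat.of R)) [LocallyOfFiniteType f] [LocallyQuasiFinite f]
    (x : X) :
    IsOpenImmersion (X.fromSpecStalk x) ∧ LocallyOfFiniteType (X.fromSpecStalk x ≫ f) := by
  obtain ⟨U, hU', hxU, -⟩ := TopologicalSpace.Opens.isBasis_iff_nbhd.mp X.isBasis_affineOpens
    (show x ∈ (⊤ : X.Opens) from trivial)
  have hU : IsAffineOpen U := hU'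
  haveI : IsOpenImmersion hU.fromSpec := inferInstance
  haveI : IsAffine (Spec Γ(X, U)) := inferInstance
  haveI : QuasiCompact (hU.fromSpec ≫ f) := inferInstance
  haveI : LocallyQuasiFinite (hU.fromSpec ≫ f) := inferInstance
  haveI : Finite (PrimeSpectrum Γ(X, U)) := by
    have h := (hU.fromSpec ≫ f).finite_preimage (Set.finite_univ (α := PrimeSpectrum R))
    exact Set.finite_univ_iff.mp h
  letI : Algebra Γ(X, U) (X.presheaf.stalk x) := (X.presheaf.germ U x hxU).hom.toAlgebra
  haveI : IsLocalization.AtPrime (X.presheaf.stalk x) (hU.primeIdealOf ⟨x, hxU⟩).asIdeal :=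
    hU.isLocalization_stalk ⟨x, hxU⟩
  obtain ⟨b, hb⟩ := exists_away Γ(X, U) (X.presheaf.stalk x) (hU.primeIdealOf ⟨x, hxU⟩).asIdeal
  haveI := hb
  haveI h1 : IsOpenImmersion (Spec.map (X.presheaf.germ U x hxU)) :=
    IsOpenImmersion.of_isLocalization (R := Γ(X, U)) (S := X.presheaf.stalk x) b
  haveI h2 : IsOpenImmersion (X.fromSpecStalk x) := by
    rw [← hU.fromSpecStalk_eq_fromSpecStalk hxU]
    show IsOpenImmersion (Spec.map (X.presheaf.germ U x hxU) ≫ hU.fromSpec)
    infer_instance
  exact ⟨h2, inferInstance⟩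

end Groth.Agent.S14888
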