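import Groth.Statements.S14889
import Groth.Agent.FlatMor62.RedFibreNormal
import Groth.Agent.NormGen.Basic

set_option autoImplicit false
universe u
open CategoryTheory CategoryTheory.Limits AlgebraicGeometry
open FlatMor

namespace Groth.Agent.S14889

open TensorProduct

/-- Sections over an open at the point, seen on the spectrum of the local ring. -/
theorem appLE_fromSpecStalk {S : Scheme.{u}} {W : S.Opens} {η : S} (hη : η ∈ W)
    (e : (⊤ : (Spec (S.presheaf.stalk η)).Opens) ≤ S.fromSpecStalk η ⁻¹ᵁ W) :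
    (S.fromSpecStalk η).appLE W ⊤ e = S.presheaf.germ W η hη ≫ (Scheme.ΓSpecIso (S.presheaf.stalk η)).inv := by
  rw [Scheme.Hom.appLE, Scheme.fromSpecStalk_app hη]
  simp only [Category.assoc, ← Functor.map_comp]
  rw [Subsingleton.elim (_ ≫ _ : Opposite.op (⊤ : (Spec (S.presheaf.stalk η)).Opens) ⟶ Opposite.op ⊤) (𝟙 _),
    CategoryTheory.Functor.map_id, Category.comp_id]

/-- A restriction over an affine open is an isomorphism when it is so on sections. -/
theorem isIso_morphismRestrict {X Y : Scheme.{u}} (f : X ⟶ Y) [IsAffineHom f] {V : Y.Opens}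
    (hV : IsAffineOpen V) (h : IsIso (f.app V)) : IsIso (f ∣_ V) := by
  haveI : IsAffine V := hV
  haveI : IsAffine (f ⁻¹ᵁ V) := hV.preimage f
  have : IsIso (f.app (V.ι ''ᵁ ⊤)) := (Scheme.Opens.ι_image_top V).symm ▸ h
  haveI : IsIso (f ∣_ V).appTop := by
    rw [morphismRestrict_appTop]; refine IsIso.comp_isIso' this ?_; exact Iso.isIso_hom (X.presheaf.mapIso (eqToIso (by rw [image_morphismRestrict_preimage])).op)
  have hF : MorphismProperty.isomorphisms Scheme.{u} (Spec.map (f ∣_ V).appTop) :=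
    (inferInstance : IsIso (Spec.map (f ∣_ V).appTop))
  exact ((MorphismProperty.isomorphisms Scheme.{u}).arrow_mk_iso_iff
    (arrowIsoSpecΓOfIsAffine (f ∣_ V))).mpr hF

/-- Every element of a tensor product with a fraction ring has a multiple coming from the first factor. -/
theorem exists_smul_mem_range {A C K : CommRingCat.{u}} {T : CommRingCat.{u}} [IsDomain A]
    {iC : A ⟶ C} {iK : A ⟶ K} {jC : C ⟶ T} {jK : K ⟶ T} (h : IsPushout iC iK jC jK)
    (hK : ∀ k : K, ∃ a : A, a ≠ 0 ∧ iK a * k ∈ iK.hom.range) (t : T) :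
    ∃ a : A, a ≠ 0 ∧ jC (iC a) * t ∈ jC.hom.range := by
  letI := iC.hom.toAlgebra
  letI := iK.hom.toAlgebra
  have h0 := CommRingCat.isPushout_tensorProduct A C K
  let e := h0.isoIsPushout _ _ h
  have eL : ∀ c : C, e.hom (c ⊗ₜ[A] (1 : K)) = jC c := fun c =>
    DFunLike.congr_fun (congrArg CommRingCat.Hom.hom (h0.inl_isoIsPushout_hom _ _ h)) c
  have eR : ∀ k : K, e.hom ((1 : C) ⊗ₜ[A] k) = jK k := fun k =>
    DFunLike.congr_fun (congrArg CommRingCat.Hom.hom (h0.inr_isoIsPushout_hom _ _ h)) k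
  have hw : ∀ a : A, jC (iC a) = jK (iK a) := fun a =>
    DFunLike.congr_fun (congrArg CommRingCat.Hom.hom h.w) a
  obtain ⟨z, rfl⟩ : ∃ z, e.hom z = t := ⟨e.inv t, e.commRingCatIsoToRingEquiv.apply_symm_apply t⟩
  clear eR
  induction z using TensorProduct.induction_on with
  | zero => exact ⟨1, one_ne_zero, 0, by simp⟩
  | tmul c k =>
    obtain ⟨a, ha, b, hb⟩ := hK k
    have h1 : (c ⊗ₜ[A] k : C ⊗[A] K) = (c ⊗ₜ[A] (1 : K)) * ((1 : C) ⊗ₜ[A] k) := by simp
    refine ⟨a, ha, iC b * c, ?_⟩
    have h2 : e.hom ((1 : C) ⊗ₜ[A] k) = jK k :=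
      DFunLike.congr_fun (congrArg CommRingCat.Hom.hom (h0.inr_isoIsPushout_hom _ _ h)) k
    have h3 : e.hom (c ⊗ₜ[A] k) = jC c * jK k := by rw [h1, ← eL, ← h2]; exact map_mul e.hom.hom _ _
    show jC (iC b * c) = jC (iC a) * e.hom (c ⊗ₜ[A] k)
    rw [h3, map_mul jC.hom, hw, hw, mul_comm (jC c), ← mul_assoc, ← map_mul jK.hom, ← hb]
  | add x y hx hy =>
    obtain ⟨a, ha, c, hc⟩ := hx
    obtain ⟨b, hb, d, hd⟩ := hy
    refine ⟨a * b, mul_ne_zero ha hb, iC b * c + iC a * d, ?_⟩
    simp only [map_add, map_mul, hc, hd]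
    ring

/-- Let S be integral, normal (all local rings integrally closed domains), quasi-compact and
quasi-separated, with generic point η, and let φ : X → S be flat, locally of finite presentation,
quasi-compact and quasi-separated, with geometrically reduced fibres (every base change of φ to the
spectrum of a field is reduced). Let f : X' → X be a finite morphism which restricts to an
isomorphism over an open U ⊆ X that is schematically dense in X and whose preimage is schematically
dense in X', and whose base change to the generic fibre X_η = X ×_S Spec O_{S,η} is an isomorphism.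
Then f is an isomorphism: X admits no non-trivial finite η-modification. -/
theorem result
    {S X X' : Scheme.{u}} [IsIntegral S] [CompactSpace S] [QuasiSeparatedSpace S]
    (hS : Pi1.IsNormalScheme S) (φ : X ⟶ S) [Flat φ] [LocallyOfFinitePresentation φ]
    [QuasiCompact φ] [QuasiSeparated φ]
    (hred : ∀ (K : Type u) [Field K] (k : Spec (CommRingCat.of K) ⟶ S), IsReduced (pullback φ k))
    (f : X' ⟶ X) [IsFinite f] (U : X.Opens) (hU : IsSchemeTheoreticallyDominant U.ι)
    (hU' : IsSchemeTheoreticallyDominant (f ⁻¹ᵁ U).ι) (hfU : IsIso (f ∣_ U))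
    (hη : IsIso (pullback.snd f (pullback.fst φ (S.fromSpecStalk (genericPoint S))))) :
    IsIso f := by
  haveI : IsReduced S := inferInstance
  let η := genericPoint S
  let s := S.fromSpecStalk η
  have hηr : η ∈ Set.range s := by rw [Scheme.range_fromSpecStalk]; exact specializes_rfl
  haveI : QuasiCompact (s ≫ S.toSpecΓ) := inferInstance
  haveI hsqc : QuasiCompact s := QuasiCompact.of_comp s S.toSpecΓ
  haveI : IsDominant s := ⟨fun y => closure_mono (Set.singleton_subset_iff.mpr hηr)
    ((genericPoint_spec S).def.symm ▸ Set.mem_univ y)⟩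
  haveI : IsSchemeTheoreticallyDominant s := .of_isDominant s
  let g := pullback.fst φ s
  let iY := pullback.snd φ s
  have Hg : IsPullback g iY φ s := IsPullback.of_hasPullback φ s
  haveI : IsSchemeTheoreticallyDominant g := IsSchemeTheoreticallyDominant.of_isPullback Hg.flip
  haveI : IsIso (pullback.snd f g) := hη
  let q := pullback.fst f g
  haveI : IsSchemeTheoreticallyDominant q := by
    let U' := f ⁻¹ᵁ U
    haveI : Flat (U'.ι ≫ f) := by
      rw [← morphismRestrict_ι]; infer_instance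
    haveI : Flat ((U'.ι ≫ f) ≫ φ) := inferInstance
    let u := (U'.ι ≫ f) ≫ φ
    haveI : IsSchemeTheoreticallyDominant (pullback.snd s u) := inferInstance
    let h₂ : pullback s u ⟶ pullback φ s := pullback.lift (pullback.snd s u ≫ U'.ι ≫ f) (pullback.fst s u)
      (by simp only [Category.assoc, u, pullback.condition (f := s) (g := (U'.ι ≫ f) ≫ φ)])
    let h : pullback s u ⟶ pullback f g := pullback.lift (pullback.snd s u ≫ U'.ι) h₂
      (by simp only [Category.assoc, h₂, g, pullback.lift_fst])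
    have hhq : h ≫ q = pullback.snd s u ≫ U'.ι := pullback.lift_fst _ _ _
    haveI := hU'
    haveI : IsSchemeTheoreticallyDominant (h ≫ q) := by rw [hhq]; infer_instance
    exact ⟨le_bot_iff.mp ((h.le_ker_comp q).trans (h ≫ q).ker_eq_bot.le)⟩
  let σ : pullback φ s ⟶ X' := inv (pullback.snd f g) ≫ q
  have hσ : σ ≫ f = g := by
    simp only [σ, q, Category.assoc, pullback.condition]
    exact IsIso.inv_hom_id_assoc _ _
  haveI : IsSchemeTheoreticallyDominant σ := inferInstance
  haveI : QuasiCompact g := inferInstance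
  haveI : QuasiCompact q := inferInstance
  haveI : QuasiCompact σ := inferInstance
  -- local statement
  have key : ∀ x : X, ∃ V : X.Opens, x ∈ V ∧ IsIso (f ∣_ V) := by
    intro x
    obtain ⟨_, ⟨W, hW, rfl⟩, hxW, -⟩ := S.isBasis_affineOpens.exists_subset_of_mem_open
      (Set.mem_univ (φ x)) isOpen_univ
    obtain ⟨_, ⟨V, hV, rfl⟩, hxV, e⟩ := X.isBasis_affineOpens.exists_subset_of_mem_open
      (show x ∈ φ ⁻¹ᵁ W from hxW) (φ ⁻¹ᵁ W).isOpen
    replace e : V ≤ φ ⁻¹ᵁ W := e
    replace hW : IsAffineOpen W := hW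
    replace hV : IsAffineOpen V := hV
    refine ⟨V, hxV, ?_⟩
    haveI : Nonempty W := ⟨⟨φ x, hxW⟩⟩
    haveI : IsIntegrallyClosed Γ(S, W) :=
      Groth.Agent.NormGen.Basic.isIntegrallyClosed_sections (fun y => (hS y).2) W
    letI : Algebra Γ(S, W) Γ(X, V) := (φ.appLE W V e).hom.toAlgebra
    haveI : Algebra.FinitePresentation Γ(S, W) Γ(X, V) := φ.finitePresentation_appLE hW hV e
    haveI : Module.Flat Γ(S, W) Γ(X, V) := φ.flat_appLE hW hV e
    have hred' : ∀ (K : Type u) [Field K] [Algebra Γ(S, W) K],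
        _root_.IsReduced (K ⊗[Γ(S, W)] Γ(X, V)) := by
      intro K _ _
      let a := Spec.map (CommRingCat.ofHom (algebraMap Γ(S, W) K))
      haveI : IsReduced (pullback φ (a ≫ hW.fromSpec)) := hred K _
      haveI : IsOpenImmersion hV.fromSpec := hV.isOpenImmersion_fromSpec
      haveI : IsOpenImmersion hW.fromSpec := hW.isOpenImmersion_fromSpec
      let j := pullback.map (Spec.map (CommRingCat.ofHom (algebraMap Γ(S, W) Γ(X, V)))) a φ (a ≫ hW.fromSpec)
        hV.fromSpec (𝟙 _) hW.fromSpec (hW.SpecMap_appLE_fromSpec φ hV e) (Category.id_comp _).symm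
      haveI : IsReduced (pullback (Spec.map (CommRingCat.ofHom (algebraMap Γ(S, W) Γ(X, V)))) a) :=
        isReduced_of_isOpenImmersion j
      haveI : IsReduced (Spec (CommRingCat.of (Γ(X, V) ⊗[Γ(S, W)] K))) :=
        isReduced_of_isOpenImmersion (pullbackSpecIso Γ(S, W) Γ(X, V) K).inv
      haveI : _root_.IsReduced (Γ(X, V) ⊗[Γ(S, W)] K) := (affine_isReduced_iff (CommRingCat.of (Γ(X, V) ⊗[Γ(S, W)] K))).mp inferInstance
      exact isReduced_of_injective (Algebra.TensorProduct.comm Γ(S, W) K Γ(X, V)) (AlgEquiv.injective _)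
    -- the generic fibre over `V`
    have hV' : IsAffineOpen (f ⁻¹ᵁ V) := hV.preimage f
    let UY : (pullback φ s).Opens := g ⁻¹ᵁ V ⊓ iY ⁻¹ᵁ ⊤
    have hUY : UY = σ ⁻¹ᵁ f ⁻¹ᵁ V := by
      show g ⁻¹ᵁ V ⊓ iY ⁻¹ᵁ ⊤ = _
      rw [← hσ]; simp
    have hUST : (⊤ : (Spec (S.presheaf.stalk η)).Opens) ≤ s ⁻¹ᵁ W := fun z _ => by
      have hz : s z ⤳ η := (Scheme.range_fromSpecStalk (X := S) (x := η)).le ⟨z, rfl⟩
      exact hz.mem_open W.2 ((genericPoint_spec S).specializes (Set.mem_univ (φ x)) |>.mem_open W.2 hxW)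
    have hP := (isIso_pushoutSection_iff Hg hUST e (rfl : UY = _)).mp
      (isIso_pushoutSection_of_isAffineOpen Hg hUST e rfl hW (isAffineOpen_top _) hV)
    haveI := functionField_isFractionRing_of_isAffineOpen S W hW
    have hηW : η ∈ W := (genericPoint_spec S).specializes (Set.mem_univ (φ x)) |>.mem_open W.2 hxW
    have hKfrac : ∀ k, ∃ a : Γ(S, W), a ≠ 0 ∧
        (s.appLE W ⊤ hUST) a * k ∈ (s.appLE W ⊤ hUST).hom.range := by
      intro k
      let e₀ := (Scheme.ΓSpecIso (S.presheaf.stalk η)).commRingCatIsoToRingEquiv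
      have hval : ∀ a : Γ(S, W), e₀ (s.appLE W ⊤ hUST a) = algebraMap Γ(S, W) S.functionField a := by
        intro a
        have h1 : s.appLE W ⊤ hUST = S.presheaf.germ W η hηW ≫ (Scheme.ΓSpecIso (S.presheaf.stalk η)).inv :=
          appLE_fromSpecStalk hηW hUST
        rw [h1]
        exact e₀.apply_symm_apply _
      obtain ⟨b, a, ha, hba⟩ := IsFractionRing.div_surjective (A := Γ(S, W)) (K := S.functionField) (e₀ k)
      have ha' : a ≠ 0 := nonZeroDivisors.ne_zero ha
      have ha'' : algebraMap Γ(S, W) S.functionField a ≠ 0 :=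
        IsFractionRing.to_map_ne_zero_of_mem_nonZeroDivisors ha
      refine ⟨a, ha', b, e₀.injective ?_⟩
      rw [map_mul, hval, hval, ← hba]
      exact (mul_div_cancel₀ _ ha'').symm
    let ψ := σ.appLE (f ⁻¹ᵁ V) UY hUY.le
    have hψ : Function.Injective ψ := by
      intro a b hab
      refine σ.app_injective (f ⁻¹ᵁ V) ?_
      have h1 : ∀ c, ψ c = (pullback φ s).presheaf.map (eqToHom hUY).op (σ.app _ c) := fun c => rfl
      rw [h1, h1] at hab
      exact (ConcreteCategory.bijective_of_isIso ((pullback φ s).presheaf.map (eqToHom hUY).op)).1 hab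
    let α := f.app V
    have hψα : ∀ c, ψ (α c) = g.appLE V UY (by simp [UY]) c := by
      intro c
      have h1 : α ≫ ψ = g.appLE V UY (by simp [UY]) := by
        simp only [α, ψ, Scheme.Hom.app_eq_appLE, Scheme.Hom.appLE_comp_appLE, hσ]
      exact DFunLike.congr_fun (congrArg CommRingCat.Hom.hom h1) c
    have hinj : Function.Injective α := by
      intro a b hab
      refine g.app_injective V ?_
      have h2 : UY = g ⁻¹ᵁ V := by simp [UY]
      have h1 : ∀ c, g.appLE V UY (by simp [UY]) c = (pullback φ s).presheaf.map (eqToHom h2).op (g.app _ c) :=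
        fun c => rfl
      have := congrArg ψ hab
      rw [hψα, hψα, h1, h1] at this
      exact (ConcreteCategory.bijective_of_isIso ((pullback φ s).presheaf.map (eqToHom h2).op)).1 this
    have hfrac : ∀ y : Γ(X', f ⁻¹ᵁ V), ∃ a : Γ(S, W), a ≠ 0 ∧
        α.hom (algebraMap Γ(S, W) Γ(X, V) a) * y ∈ α.hom.range := by
      intro y
      obtain ⟨a, ha, c, hc⟩ := exists_smul_mem_range hP hKfrac (ψ y)
      refine ⟨a, ha, c, hψ ?_⟩
      show ψ (α c) = _
      rw [map_mul, hψα]
      exact hc.trans (by rw [← hψα]; rfl)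
    have htf : ∀ (a : Γ(S, W)) (y : Γ(X', f ⁻¹ᵁ V)), a ≠ 0 →
        α.hom (algebraMap Γ(S, W) Γ(X, V) a) * y = 0 → y = 0 := by
      intro a y ha hy
      refine hψ ?_
      rw [map_zero]
      obtain ⟨a', ha', b, hb⟩ := hKfrac 0
      have hu : IsUnit (s.appLE W ⊤ hUST a) := by
        have hf : IsField Γ(Spec (S.presheaf.stalk η), ⊤) :=
          MulEquiv.isField (Field.toIsField S.functionField)
            (Scheme.ΓSpecIso (S.presheaf.stalk η)).commRingCatIsoToRingEquiv.toMulEquiv
        letI := hf.toField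
        refine (Ne.isUnit fun h0 => ha ?_)
        have h1 : s.appLE W ⊤ hUST = S.presheaf.germ W η hηW ≫ (Scheme.ΓSpecIso (S.presheaf.stalk η)).inv :=
          appLE_fromSpecStalk hηW hUST
        rw [h1] at h0
        exact germ_injective_of_isIntegral S η hηW
          ((map_eq_zero_iff _ (ConcreteCategory.bijective_of_isIso
            (Scheme.ΓSpecIso (S.presheaf.stalk η)).inv).1).mp h0 |>.trans (map_zero _).symm)
      have h0 := congrArg ψ hy
      rw [map_mul, map_zero] at h0
      have h3 : ψ (α.hom (algebraMap Γ(S, W) Γ(X, V) a)) =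
          iY.appLE ⊤ UY (by simp) (s.appLE W ⊤ hUST a) :=
        (hψα _).trans (DFunLike.congr_fun (congrArg CommRingCat.Hom.hom hP.w) a)
      rw [h3] at h0
      exact ((hu.map (iY.appLE ⊤ UY (by simp)).hom).mul_right_eq_zero).mp h0
    have hαint : α.hom.IsIntegral := (f.finite_app V hV).to_isIntegral
    have hsurj := Groth.Agent.FlatMor62.RedFibreNormal.surjective_of_isIntegral
      (A := Γ(S, W)) (C := Γ(X, V)) hred' α.hom hαint hinj hfrac htf
    haveI : IsIso α := (ConcreteCategory.isIso_iff_bijective α).mpr ⟨hinj, hsurj⟩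
    exact isIso_morphismRestrict f hV inferInstance
  choose V hxV hiso using key
  exact (IsZariskiLocalAtTarget.iff_of_iSup_eq_top (P := MorphismProperty.isomorphisms Scheme.{u}) (f := f) V
    (TopologicalSpace.Opens.ext (Set.eq_univ_of_forall fun x => by
      simp only [TopologicalSpace.Opens.coe_iSup, Set.mem_iUnion]
      exact ⟨x, hxV x⟩))).mpr hiso

end Groth.Agent.S14889
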