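import Groth.Statements.S14891
import Mathlib
-- import your own Groth.Agent.* helpers here

set_option autoImplicit false
universe u
open CAlg

namespace Groth.Agent.S14891

section
variable {K L Γ₀ Γ₁ : Type u} [Field K] [Field L] [Algebra K L]
    [LinearOrderedCommGroupWithZero Γ₀] [LinearOrderedCommGroupWithZero Γ₁]
    (vK : Valuation K Γ₀) (vL : Valuation L Γ₁) [vK.HasExtension vL]

/-- A non-zero polynomial expression in units with algebraically independent residues has the
value of a scalar. -/
theorem val_aeval {t : Type u} (u : t → vL.valuationSubring)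
    (hu : AlgebraicIndependent (IsLocalRing.ResidueField vK.valuationSubring)
      (fun b ↦ IsLocalRing.residue vL.valuationSubring (u b)))
    (q : MvPolynomial t K) (hq : q ≠ 0) :
    ∃ c : K, c ≠ 0 ∧ vL (MvPolynomial.aeval (fun b ↦ (u b : L)) q) = vL (algebraMap K L c) := by
  obtain ⟨m, hm, hmax⟩ := Finset.exists_max_image q.support (fun i ↦ vK (MvPolynomial.coeff i q))
    (by rwa [Finset.nonempty_iff_ne_empty, Ne, MvPolynomial.support_eq_empty])
  have hc : MvPolynomial.coeff m q ≠ 0 := MvPolynomial.mem_support_iff.1 hm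
  refine ⟨_, hc, ?_⟩
  let c := MvPolynomial.coeff m q
  let q' : MvPolynomial t K := MvPolynomial.C c⁻¹ * q
  have hq' : ∀ i, MvPolynomial.coeff i q' ∈ vK.valuationSubring := by
    intro i
    rw [Valuation.mem_valuationSubring_iff, MvPolynomial.coeff_C_mul, map_mul, map_inv₀]
    by_cases hi : i ∈ q.support
    · exact inv_mul_le_one₀ (zero_lt_iff.2 (vK.ne_zero_iff.2 hc)) |>.2 (hmax i hi)
    · rw [MvPolynomial.notMem_support_iff.1 hi]; simp
  obtain ⟨Q, hQ⟩ : ∃ Q : MvPolynomial t vK.valuationSubring,
      MvPolynomial.map (algebraMap vK.valuationSubring K) Q = q' := by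
    refine ⟨∑ i ∈ q'.support, MvPolynomial.monomial i ⟨_, hq' i⟩, ?_⟩
    rw [map_sum]
    simp only [MvPolynomial.map_monomial]
    exact q'.support_sum_monomial_coeff
  have hQ0 : MvPolynomial.map (IsLocalRing.residue vK.valuationSubring) Q ≠ 0 := by
    intro h
    have h1 : algebraMap vK.valuationSubring K (MvPolynomial.coeff m Q) = 1 := by
      rw [← MvPolynomial.coeff_map, hQ, MvPolynomial.coeff_C_mul, inv_mul_cancel₀ hc]
    have h2 : MvPolynomial.coeff m Q = 1 := Subtype.ext h1
    have := congrArg (MvPolynomial.coeff m) h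
    rw [MvPolynomial.coeff_map, h2, map_one, MvPolynomial.coeff_zero] at this
    exact one_ne_zero this
  let z : vL.valuationSubring := MvPolynomial.aeval u Q
  have hz : IsUnit z := by
    rw [← IsLocalRing.residue_ne_zero_iff_isUnit]
    intro h
    apply hQ0
    refine hu ?_
    rw [map_zero, ← h]
    show MvPolynomial.aeval _ _ = IsLocalRing.residue _ (MvPolynomial.aeval u Q)
    rw [MvPolynomial.map_aeval, MvPolynomial.aeval_def, MvPolynomial.eval₂_map]
    rfl
  have hv : vL (z : L) = 1 := by
    obtain ⟨w, hw⟩ := hz.exists_left_inv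
    have h1 : vL (w : L) * vL (z : L) = 1 := by
      rw [← map_mul]; convert vL.map_one; exact congrArg Subtype.val hw
    refine le_antisymm z.2 ?_
    calc (1 : Γ₁) = vL (w : L) * vL (z : L) := h1.symm
      _ ≤ 1 * vL (z : L) := mul_le_mul_left w.2 _
      _ = vL (z : L) := one_mul _
  have hz' : (z : L) = algebraMap K L c⁻¹ * MvPolynomial.aeval (fun b ↦ (u b : L)) q := by
    show algebraMap vL.valuationSubring L (MvPolynomial.aeval u Q) = _
    rw [← MvPolynomial.aeval_algebraMap_apply, ← MvPolynomial.aeval_map_algebraMap K, hQ, map_mul,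
      MvPolynomial.aeval_C]
    rfl
  rw [hz', map_mul, map_inv₀, map_inv₀, inv_mul_eq_one₀ (vL.ne_zero_iff.2 (by simpa using hc))] at hv
  exact hv.symm

end

theorem grp_cancel {G Q : Type*} [CommGroup G] [AddCommGroup Q] (π : Additive G →+ Q) (a b k l : G)
    (hk : π (Additive.ofMul k) = 0) (hl : π (Additive.ofMul l) = 0)
    (h : π (Additive.ofMul (k * a * (l * b)⁻¹)) = 0) : π (Additive.ofMul a) = π (Additive.ofMul b) := by
  simp only [ofMul_mul, ofMul_inv, map_add, map_neg, hk, hl, zero_add] at h
  exact add_neg_eq_zero.1 h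

theorem grp_lin {G Q ι : Type*} [CommGroup G] [AddCommGroup Q] (π : Additive G →+ Q) (g : ι → Additive G)
    (d : ι →₀ ℕ) : π (Additive.ofMul (d.prod fun i n ↦ (Additive.toMul (g i)) ^ n)) =
      Finsupp.linearCombination ℤ (fun i ↦ π (g i)) (d.mapRange Nat.cast Nat.cast_zero) := by
  rw [Finsupp.linearCombination_apply, Finsupp.sum_mapRange_index (h := fun i (n : ℤ) ↦ n • π (g i)) (fun i ↦ zero_smul ℤ _)]
  simp only [Finsupp.prod, Finsupp.sum, ofMul_prod, ofMul_pow, map_sum, map_nsmul, natCast_zsmul,
    ofMul_toMul]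

/-- Let L/K be an extension of valued fields, i.e. v_L is a valuation on L whose restriction to K is
equivalent to v_K. Write E for the rational rank of the quotient of value groups |L^×|/|K^×| — here
the rank of the abelian group L^× modulo the subgroup generated by the units of the valuation ring
of v_L and the image of K^× — and F for the transcendence degree of the residue field of v_L over
that of v_K. Then E + F ≤ tr.deg(L/K) (an inequality of cardinals). -/
theorem result
    {K L Γ₀ Γ₁ : Type u} [Field K] [Field L] [Algebra K L]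
    [LinearOrderedCommGroupWithZero Γ₀] [LinearOrderedCommGroupWithZero Γ₁]
    (vK : Valuation K Γ₀) (vL : Valuation L Γ₁) [vK.HasExtension vL] :
    Module.rank ℤ (Additive Lˣ ⧸ Subgroup.toAddSubgroup
        (vL.valuationSubring.unitGroup ⊔ (Units.map (algebraMap K L).toMonoidHom).range)) +
      Algebra.trdeg (IsLocalRing.ResidueField vK.valuationSubring)
        (IsLocalRing.ResidueField vL.valuationSubring) ≤ Algebra.trdeg K L := by
  classical
  obtain ⟨s, hs, hsi⟩ := exists_set_linearIndependent_of_isDomain ℤ (Additive Lˣ ⧸ Subgroup.toAddSubgroup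
        (vL.valuationSubring.unitGroup ⊔ (Units.map (algebraMap K L).toMonoidHom).range))
  obtain ⟨t, ht⟩ := exists_isTranscendenceBasis (IsLocalRing.ResidueField vK.valuationSubring)
    (IsLocalRing.ResidueField vL.valuationSubring)
  rw [← hs, ← ht.cardinalMk_eq_trdeg, Cardinal.add_def]
  choose x hx using fun a : s ↦ QuotientAddGroup.mk_surjective (a : Additive Lˣ ⧸ Subgroup.toAddSubgroup
        (vL.valuationSubring.unitGroup ⊔ (Units.map (algebraMap K L).toMonoidHom).range))
  choose u hu using fun b : t ↦ IsLocalRing.residue_surjective (R := vL.valuationSubring) (b : IsLocalRing.ResidueField vL.valuationSubring)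
  have hu' : AlgebraicIndependent (IsLocalRing.ResidueField vK.valuationSubring)
      (fun b ↦ IsLocalRing.residue vL.valuationSubring (u b)) := by
    simp only [hu]; exact ht.1
  have hval := val_aeval vK vL u hu'
  have hU : AlgebraicIndependent K (fun b ↦ (u b : L)) := by
    rw [algebraicIndependent_iff]
    intro q hq
    by_contra hne
    obtain ⟨c, hc, h⟩ := hval q hne
    rw [hq, map_zero] at h
    exact (vL.ne_zero_iff.2 (by simpa using hc)) h.symm
  suffices hX : AlgebraicIndependent K (Sum.elim (fun a ↦ ((Additive.toMul (x a) : Lˣ) : L)) (fun b ↦ (u b : L))) from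
    hX.cardinalMk_le_trdeg
  refine AlgebraicIndependent.sumElim hU ?_
  rw [algebraicIndependent_iff]
  intro p hp
  by_contra hne
  let M : (s →₀ ℕ) → Lˣ := fun a ↦ a.prod fun i n ↦ (Additive.toMul (x i)) ^ n
  have hM : ∀ a, ((M a : Lˣ) : L) = a.prod fun i n ↦ ((Additive.toMul (x i) : Lˣ) : L) ^ n := by
    intro a; simp [M, Finsupp.prod]
  have hcoef : ∀ a ∈ p.support, ∃ c : Kˣ, vL (MvPolynomial.coeff a p).1 = vL (algebraMap K L c) := by
    intro a ha
    obtain ⟨q, hq⟩ : (MvPolynomial.coeff a p).1 ∈ (MvPolynomial.aeval (R := K) fun b ↦ (u b : L)).range := by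
      rw [← Algebra.adjoin_range_eq_range_aeval]; exact (MvPolynomial.coeff a p).2
    have hq0 : q ≠ 0 := by
      rintro rfl
      rw [map_zero] at hq
      exact MvPolynomial.mem_support_iff.1 ha (Subtype.ext hq.symm)
    obtain ⟨c, hc, h⟩ := hval q hq0
    exact ⟨Units.mk0 c hc, by rw [← hq]; exact h⟩
  choose c hc using hcoef
  let f : (s →₀ ℕ) → L := fun a ↦ (MvPolynomial.coeff a p).1 * (M a : L)
  have hsum : ∑ a ∈ p.support, f a = 0 := by
    rw [← hp, MvPolynomial.aeval_def, MvPolynomial.eval₂_eq]
    refine Finset.sum_congr rfl fun a _ ↦ ?_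
    simp only [f, hM]
    rfl
  have hf0 : ∀ a ∈ p.support, vL (f a) ≠ 0 := by
    intro a ha
    simp only [f, map_mul, hc a ha]
    exact mul_ne_zero (vL.ne_zero_iff.2 (by simp)) (vL.ne_zero_iff.2 (Units.ne_zero _))
  have hinj : ∀ a ∈ p.support, ∀ b ∈ p.support, vL (f a) = vL (f b) → a = b := by
    intro a ha b hb h
    simp only [f, map_mul, hc a ha, hc b hb] at h
    let π := QuotientAddGroup.mk' (Subgroup.toAddSubgroup
        (vL.valuationSubring.unitGroup ⊔ (Units.map (algebraMap K L).toMonoidHom).range))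
    let ι : Kˣ →* Lˣ := Units.map (algebraMap K L).toMonoidHom
    have hι : ∀ k : Kˣ, π (Additive.ofMul (ι k)) = 0 := fun k ↦
      (QuotientAddGroup.eq_zero_iff _).2 (Subgroup.mem_sup_right (S := vL.valuationSubring.unitGroup) (T := (Units.map (algebraMap K L).toMonoidHom).range) ⟨k, rfl⟩ :)
    have hwmem : (ι (c a ha) * M a) * (ι (c b hb) * M b)⁻¹ ∈ vL.valuationSubring.unitGroup := by
      rw [ValuationSubring.mem_unitGroup_iff, ← (vL.isEquiv_valuation_valuationSubring).eq_one_iff_eq_one]
      rw [Units.val_mul, Units.val_inv_eq_inv_val, Units.val_mul, Units.val_mul, map_mul, map_inv₀, map_mul, map_mul]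
      show vL (algebraMap K L (c a ha)) * vL (M a : L) * (vL (algebraMap K L (c b hb)) * vL (M b : L))⁻¹ = 1
      rw [h, mul_inv_cancel₀]
      exact mul_ne_zero (vL.ne_zero_iff.2 (by simp)) (vL.ne_zero_iff.2 (Units.ne_zero _))
    have h0 : π (Additive.ofMul ((ι (c a ha) * M a) * (ι (c b hb) * M b)⁻¹)) = 0 :=
      (QuotientAddGroup.eq_zero_iff _).2 (Subgroup.mem_sup_left (T := (Units.map (algebraMap K L).toMonoidHom).range) hwmem :)
    have h1 : π (Additive.ofMul (M a)) = π (Additive.ofMul (M b)) := by
      refine grp_cancel (Q := (Additive Lˣ ⧸ Subgroup.toAddSubgroup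
          (vL.valuationSubring.unitGroup ⊔ (Units.map (algebraMap K L).toMonoidHom).range))) π (M a) (M b) (ι (c a ha)) (ι (c b hb)) ?_ ?_ ?_
      · exact hι _
      · exact hι _
      · exact h0
    have hfun : (fun i : s ↦ π (x i)) = fun i : s ↦ (i : Additive Lˣ ⧸ Subgroup.toAddSubgroup
          (vL.valuationSubring.unitGroup ⊔ (Units.map (algebraMap K L).toMonoidHom).range)) := funext hx
    have hl : ∀ d : s →₀ ℕ, π (Additive.ofMul (M d)) = Finsupp.linearCombination ℤ (fun i : s ↦ π (x i))
        (d.mapRange Nat.cast Nat.cast_zero) := fun d ↦ grp_lin (Q := (Additive Lˣ ⧸ Subgroup.toAddSubgroup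
          (vL.valuationSubring.unitGroup ⊔ (Units.map (algebraMap K L).toMonoidHom).range))) π x d
    rw [hl, hl, hfun] at h1
    exact Finsupp.mapRange_injective _ Nat.cast_zero Nat.cast_injective (hsi h1)
  obtain ⟨a, ha, hmax⟩ := Finset.exists_max_image p.support (fun a ↦ vL (f a))
    (by rwa [Finset.nonempty_iff_ne_empty, Ne, MvPolynomial.support_eq_empty])
  refine hf0 a ha ?_
  rw [← Valuation.map_sum_eq_of_lt vL ha ?_, hsum, map_zero]
  intro i hi
  rw [Finset.mem_sdiff, Finset.mem_singleton] at hi
  exact lt_of_le_of_ne (hmax i hi.1) fun h ↦ hi.2 (hinj i hi.1 a ha h)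

end Groth.Agent.S14891
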