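import Groth.Statements.S14893
import Groth.Agent.CAlg76.ValHeight
import Mathlib
-- import your own Groth.Agent.* helpers here

set_option autoImplicit false
universe u
open CAlg

namespace Groth.Agent.S14893


private theorem trdeg_le_of_frac (F L : Type u) [Field F] [Field L] [Algebra F L] (s : Set L)
    (h : ∀ x : L, ∃ y ∈ Algebra.adjoin F s, ∃ z ∈ Algebra.adjoin F s, z ≠ 0 ∧ z * x = y) :
    Algebra.trdeg F L ≤ Cardinal.mk s := by
  haveI : Algebra.IsAlgebraic (Algebra.adjoin F s) L := ⟨fun x => by
    obtain ⟨y, hy, z, hz, hz0, hxyz⟩ := h x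
    refine ⟨Polynomial.C (⟨z, hz⟩ : Algebra.adjoin F s) * Polynomial.X - Polynomial.C (⟨y, hy⟩ : Algebra.adjoin F s), ?_, ?_⟩
    · intro h'
      have := congrArg (fun P => Polynomial.coeff P 1) h'
      simp at this
      exact hz0 (congrArg Subtype.val this)
    · simp only [map_sub, map_mul, Polynomial.aeval_C, Polynomial.aeval_X]
      exact sub_eq_zero.mpr hxyz⟩
  exact Algebra.IsAlgebraic.trdeg_le_cardinalMk F s

/-- Every valuation ring R is a filtered union of subrings which are valuation rings with finite
spectrum (finite height): there is a nonempty directed index type and a monotone family of such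
subrings of R whose supremum is R. -/
theorem result
    (R : Type u) [CommRing R] [IsDomain R] [ValuationRing R] :
    ∃ (ι : Type u) (_ : Preorder ι) (_ : IsDirected ι (fun a b ↦ a ≤ b)) (_ : Nonempty ι)
      (F : ι → Subring R), Monotone F ∧ (⨆ i, F i) = ⊤ ∧
        ∀ i, ValuationRing (F i) ∧ Finite (PrimeSpectrum (F i)) := by
  classical
  let K := FractionRing R
  let F : Finset R → Subring R := fun s =>
    (Subfield.closure (algebraMap R K '' (s : Set R))).toSubring.comap (algebraMap R K)
  have hself : ∀ (s : Finset R) (x : R), x ∈ s → x ∈ F s := fun s x hx =>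
    Subfield.subset_closure ⟨x, hx, rfl⟩
  refine ⟨Finset R, inferInstance, inferInstance, inferInstance, F, ?_, ?_, fun s => ?_⟩
  · intro s t hst x hx
    exact Subfield.closure_mono (Set.image_mono (by exact_mod_cast hst)) hx
  · rw [eq_top_iff]
    intro x _
    exact le_iSup F {x} (hself {x} x (Finset.mem_singleton_self x))
  let L := Subfield.closure (algebraMap R K '' (s : Set R))
  let AR : Subring L := (algebraMap R K).range.comap L.subtype
  let A : ValuationSubring L :=
    { AR with
      mem_or_inv_mem' := fun x => by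
        rcases ValuationRing.isInteger_or_isInteger R (x : K) with ⟨r, hr⟩ | ⟨r, hr⟩
        · exact Or.inl ⟨r, hr⟩
        · exact Or.inr ⟨r, by simpa using hr⟩ }
  have hinj : Function.Injective (algebraMap R K) := IsFractionRing.injective R K
  let φ : F s →+* A :=
    { toFun := fun x => ⟨⟨algebraMap R K x, x.2⟩, x.1, rfl⟩
      map_one' := by ext; simp
      map_mul' := fun x y => by ext; simp
      map_zero' := by ext; simp
      map_add' := fun x y => by ext; simp }
  let e : F s ≃+* A := RingEquiv.ofBijective φ ⟨fun x y h => by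
      apply Subtype.ext
      apply hinj
      exact congrArg (fun z : A => ((z : L) : K)) h, fun z => by
      obtain ⟨r, hr⟩ := z.2
      exact ⟨⟨r, show algebraMap R K r ∈ L from hr ▸ z.1.2⟩, Subtype.ext (Subtype.ext hr)⟩⟩
  haveI hVal : ValuationRing (F s) :=
    Function.Surjective.valuationRing (e.symm : A →+* F s) e.symm.surjective
  refine ⟨hVal, ?_⟩
  -- transcendence degree
  let s' : Set L := {x | (x : K) ∈ algebraMap R K '' (s : Set R)}
  have hs'fin : s'.Finite := (s.finite_toSet.image (algebraMap R K)).preimage (Subtype.val_injective.injOn)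
  have hd : Algebra.trdeg (⊥ : Subfield L) L ≤ (hs'fin.toFinset.card : ℕ) := by
    have h1 : Algebra.trdeg (⊥ : Subfield L) L ≤ Cardinal.mk s' := by
      refine trdeg_le_of_frac (⊥ : Subfield L) L s' (fun x => ?_)
      obtain ⟨y, hy, z, hz, hxyz⟩ := Subfield.mem_closure_iff.mp x.2
      have hle : Subring.closure (algebraMap R K '' (s : Set R)) ≤
          (Algebra.adjoin (⊥ : Subfield L) s').toSubring.map L.subtype := by
        rw [Subring.closure_le]
        rintro w hw
        have hwL : w ∈ L := Subfield.subset_closure hw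
        exact ⟨⟨w, hwL⟩, Algebra.subset_adjoin hw, rfl⟩
      obtain ⟨y', hy', rfl⟩ := hle hy
      obtain ⟨z', hz', rfl⟩ := hle hz
      by_cases hz0 : z' = 0
      · have hx0 : x = 0 := by
          apply Subtype.ext
          rw [← hxyz, hz0]
          simp
        exact ⟨0, Subalgebra.zero_mem _, 1, Subalgebra.one_mem _, one_ne_zero, by rw [hx0]; simp⟩
      refine ⟨y', hy', z', hz', hz0, Subtype.ext ?_⟩
      have hz0' : ((z' : L) : K) ≠ 0 := fun h => hz0 (Subtype.ext h)
      show ((z' : L) : K) * (x : K) = ((y' : L) : K)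
      rw [← hxyz]
      exact mul_div_cancel₀ _ hz0'
    rwa [show Cardinal.mk s' = (hs'fin.toFinset.card : Cardinal) from by
      rw [← Cardinal.mk_coe_finset]; exact Cardinal.mk_congr (Equiv.subtypeEquivRight (fun x => by simp))] at h1
  have hdim : ringKrullDim (F s) ≤ ((hs'fin.toFinset.card + 1 : ℕ) : WithBot ℕ∞) := by
    rw [ringKrullDim_eq_of_ringEquiv e]
    exact Groth.Agent.CAlg76.ValHeight.ringKrullDim_le_trdeg_succ A hd
  -- a chain of bounded length is finite
  set N := hs'fin.toFinset.card + 1
  have hh : ∀ P : PrimeSpectrum (F s), Order.height P ≤ (N : ℕ∞) := fun P => by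
    have h1 : ((Order.height P : ℕ∞) : WithBot ℕ∞) ≤ Order.krullDim (PrimeSpectrum (F s)) := Order.height_le_krullDim P
    exact_mod_cast h1.trans hdim
  refine Finite.of_injective (fun P : PrimeSpectrum (F s) =>
    (⟨(Order.height P).toNat, Nat.lt_succ_of_le (by
      have := ENat.toNat_le_toNat (hh P) (ENat.coe_ne_top N)
      simpa using this)⟩ : Fin (N + 1))) ?_
  intro P Q h
  have h' : (Order.height P).toNat = (Order.height Q).toNat := congrArg Fin.val h
  have hfinP : Order.height P < ⊤ := lt_of_le_of_lt (hh P) (ENat.coe_lt_top N)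
  have hfinQ : Order.height Q < ⊤ := lt_of_le_of_lt (hh Q) (ENat.coe_lt_top N)
  have heq : Order.height P = Order.height Q := by
    rw [← ENat.natCast_toNat hfinP.ne, ← ENat.natCast_toNat hfinQ.ne, h']
  by_contra hne
  rcases total_of (· ≤ ·) P.asIdeal Q.asIdeal with hle | hle
  · exact absurd heq (Order.height_strictMono (lt_of_le_of_ne (α := PrimeSpectrum (F s)) hle hne) hfinP).ne
  · exact absurd heq.symm (Order.height_strictMono (lt_of_le_of_ne (α := PrimeSpectrum (F s)) hle (Ne.symm hne)) hfinQ).ne

end Groth.Agent.S14893
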