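import Groth.Statements.S14896
import Mathlib
-- import your own Groth.Agent.* helpers here

set_option autoImplicit false
universe u
open CAlg

namespace Groth.Agent.S14896


private theorem etale_of_atPrime (R B T : Type u) [CommRing R] [CommRing B] [CommRing T]
    [Algebra R B] [Algebra R T] [Algebra B T] [IsScalarTower R B T] [Finite (PrimeSpectrum R)]
    [Algebra.Etale R B] (P : Ideal B) [P.IsPrime] [IsLocalization.AtPrime T P] :
    Algebra.Etale R T := by
  classical
  haveI : Algebra.FinitePresentation R B := inferInstance
  haveI : Algebra.QuasiFinite R B := inferInstance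
  haveI := Algebra.QuasiFinite.finite_primeSpectrum R B
  letI := Fintype.ofFinite (PrimeSpectrum B)
  have hex : ∀ Q : PrimeSpectrum B, ∃ b, b ∉ P ∧ (¬ Q.asIdeal ≤ P → b ∈ Q.asIdeal) := by
    intro Q
    by_cases h : Q.asIdeal ≤ P
    · exact ⟨1, fun h1 => (Ideal.IsPrime.ne_top ‹P.IsPrime›) ((Ideal.eq_top_iff_one P).mpr h1), fun h' => absurd h h'⟩
    · obtain ⟨b, hbQ, hbP⟩ := SetLike.not_le_iff_exists.mp h
      exact ⟨b, hbP, fun _ => hbQ⟩
  choose c hcP hcQ using hex
  let b := ∏ Q, c Q
  have hbP : b ∉ P := fun h => by
    obtain ⟨Q, -, hQ⟩ := (Ideal.IsPrime.prod_mem_iff (hp := ‹P.IsPrime›)).mp h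
    exact hcP Q hQ
  haveI : IsLocalization P.primeCompl (Localization.Away b) := by
    refine IsLocalization.of_le_of_exists_dvd (Submonoid.powers b) P.primeCompl
      (by rw [Submonoid.powers_le]; exact hbP) (fun n hn => ?_)
    have : b ∈ (Ideal.span {n}).radical := by
      rw [Ideal.radical_eq_sInf, Submodule.mem_sInf]
      rintro J ⟨hnJ, hJ⟩
      refine Ideal.mem_of_dvd _ (Finset.dvd_prod_of_mem c (Finset.mem_univ ⟨J, hJ⟩)) (hcQ ⟨J, hJ⟩ (fun h => hn ?_))
      exact h (hnJ (Ideal.mem_span_singleton_self n))
    obtain ⟨k, hk⟩ := this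
    exact ⟨b ^ k, ⟨k, rfl⟩, Ideal.mem_span_singleton.mp hk⟩
  haveI : Algebra.Etale B (Localization.Away b) := Algebra.Etale.of_isLocalizationAway b
  haveI : Algebra.Etale R (Localization.Away b) := Algebra.Etale.comp R B (Localization.Away b)
  exact Algebra.Etale.of_equiv ((IsLocalization.algEquiv P.primeCompl (Localization.Away b) T).restrictScalars R)

/-- Let L/K be a finite extension of valued fields, v_L extending v_K, with K° = the valuation ring of
v_K having finite spectrum (finite height), and L° the valuation ring of v_L. If L° is local-étale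
over K°, i.e. L° is the localization at a prime ideal of some étale K°-algebra B compatibly with the
K°-algebra structures, then L° is étale over K°. (For valued fields of finite height 'unramified' in
the local-étale sense is thus the same as K° → L° étale; the published lemma phrases the hypothesis
as 'L/K unramified'.) -/
theorem result
    {K L Γ₀ Γ₁ : Type u} [Field K] [Field L] [Algebra K L] [FiniteDimensional K L]
    [LinearOrderedCommGroupWithZero Γ₀] [LinearOrderedCommGroupWithZero Γ₁]
    (vK : Valuation K Γ₀) (vL : Valuation L Γ₁) [vK.HasExtension vL]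
    [Finite (PrimeSpectrum vK.valuationSubring)]
    (B : Type u) [CommRing B] [Algebra vK.valuationSubring B] [Algebra.Etale vK.valuationSubring B]
    [Algebra B vL.valuationSubring] [IsScalarTower vK.valuationSubring B vL.valuationSubring]
    (P : Ideal B) [P.IsPrime] [IsLocalization.AtPrime vL.valuationSubring P] :
    Algebra.Etale vK.valuationSubring vL.valuationSubring := by
  exact etale_of_atPrime vK.valuationSubring B vL.valuationSubring P

end Groth.Agent.S14896
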