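import Groth.Statements.S14897
import Groth.Agent.FlatMor.SchDom
import Groth.Agent.ProjProper.Basic

set_option autoImplicit false
universe u
open CategoryTheory CategoryTheory.Limits AlgebraicGeometry
open FlatMor

namespace Groth.Agent.S14897

/-- Let S be integral, quasi-compact and quasi-separated, K̄ a field with a dominant morphism η̄ : Spec
K̄ → S, and f ∈ K̄. Then there is a K̄-modification of S on which f is a rational function defining
a morphism to the projective line: η̄ factors as a schematically dominant s : Spec K̄ → S' followed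
by a proper S' → S, and there is F : S' → P¹ (Proj of ℤ[T₀, T₁], universe-lifted) with s ≫ F equal
to the K̄-point [1 : f] of the chart T₀ ≠ 0. -/
theorem result
    {S : Scheme.{u}} [IsIntegral S] [CompactSpace S] [QuasiSeparatedSpace S]
    (Kb : Type u) [Field Kb] (ηb : Spec (CommRingCat.of Kb) ⟶ S) [IsDominant ηb] (f : Kb) :
    ∃ (S' : Scheme.{u}) (s : Spec (CommRingCat.of Kb) ⟶ S') (q : S' ⟶ S)
      (F : S' ⟶ CohB1.ProjSpace 1 P1.R0.{u}),
      IsSchemeTheoreticallyDominant s ∧ IsProper q ∧ s ≫ q = ηb ∧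
      s ≫ F = Spec.map (CommRingCat.ofHom (P1.chartMap 0 Kb f)) ≫
        Proj.awayι P1.grading (P1.T 0) (P1.X_mem 0) one_pos := by
  let p : Spec (CommRingCat.of Kb) ⟶ CohB1.ProjSpace 1 P1.R0.{u} :=
    Spec.map (CommRingCat.ofHom (P1.chartMap 0 Kb f)) ≫ Proj.awayι P1.grading (P1.T 0) (P1.X_mem 0) one_pos
  let h : Spec (CommRingCat.of Kb) ⟶ CohB1.ProjSpaceOver 1 S :=
    pullback.lift p ηb (specULiftZIsTerminal.hom_ext _ _)
  haveI : IsProper (CohB1.ProjSpaceOver.toBase 1 S) := by
    haveI := Groth.Agent.ProjProper.Basic.isProper_toSpec 1 P1.R0.{u}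
    unfold CohB1.ProjSpaceOver.toBase
    haveI : IsProper (CohB1.ProjSpace.toSpec 1 (ULift.{u} ℤ)) := Groth.Agent.ProjProper.Basic.isProper_toSpec 1 _
    exact (inferInstance : IsProper (pullback.snd (CohB1.ProjSpace.toSpec 1 (ULift.{u} ℤ)) (specULiftZIsTerminal.from S)))
  haveI : QuasiSeparatedSpace (CohB1.ProjSpaceOver 1 S) :=
    quasiSeparatedSpace_of_quasiSeparated (CohB1.ProjSpaceOver.toBase 1 S)
  haveI : QuasiCompact (h ≫ (CohB1.ProjSpaceOver 1 S).toSpecΓ) := inferInstance
  haveI : QuasiCompact h := QuasiCompact.of_comp h (CohB1.ProjSpaceOver 1 S).toSpecΓ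
  refine ⟨h.image, h.toImage, h.imageι ≫ CohB1.ProjSpaceOver.toBase 1 S,
    h.imageι ≫ pullback.fst _ _, Groth.Agent.FlatMor.SchDom.toImage_dominant h (Or.inl inferInstance),
    inferInstance, ?_, ?_⟩
  · refine (h.toImage_imageι_assoc _).trans ?_
    exact pullback.lift_snd _ _ _
  · refine (h.toImage_imageι_assoc _).trans ?_
    exact pullback.lift_fst _ _ _

end Groth.Agent.S14897
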