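import Groth.Statements.S14901
import Groth.Agent.VarDim.Scheme
import Groth.Agent.FibSemi.Dims
import Groth.Agent.ConstrLib.Basic


set_option autoImplicit false
universe u
open MovLem

namespace Groth.Agent.S14901

open AlgebraicGeometry CategoryTheory in
/-- Let k be a field, let S and X be separated k-schemes of finite type that are locally equidimensional
(all irreducible components passing through a given point have the same dimension), let f : S → X be
a k-morphism and Z ⊆ X a closed subset. Let d be the dimension of the image f(S), as a subspace of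
X. If every point s of S with f(s) ∈ Z satisfies dim O_{S,s} ≥ d + 1 (equivalently: the closed
subset f⁻¹(Z) of S has local codimension at least d + 1 at each of its points), then f⁻¹(Z) is
empty. -/
theorem result (k : Type u) [Field k] (S X : Scheme.{u})
    (pS : S ⟶ Spec (CommRingCat.of k)) (pX : X ⟶ Spec (CommRingCat.of k))
    [IsSeparated pS] [LocallyOfFiniteType pS] [QuasiCompact pS]
    [IsSeparated pX] [LocallyOfFiniteType pX] [QuasiCompact pX]
    (hS : ∀ (s : S) (A B : Set S), A ∈ irreducibleComponents (S : Type u) → B ∈ irreducibleComponents (S : Type u) →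
      s ∈ A → s ∈ B → topologicalKrullDim A = topologicalKrullDim B)
    (hX : ∀ (x : X) (A B : Set X), A ∈ irreducibleComponents (X : Type u) → B ∈ irreducibleComponents (X : Type u) →
      x ∈ A → x ∈ B → topologicalKrullDim A = topologicalKrullDim B)
    (f : S ⟶ X) (hf : f ≫ pX = pS) (Z : Set X) (hZ : IsClosed Z)
    (h : ∀ s : S, f.base s ∈ Z →
      topologicalKrullDim (Set.range f.base) + 1 ≤ ringKrullDim (S.presheaf.stalk s)) :
    f.base ⁻¹' Z = ∅ := by
  letI : S.Over (Spec (CommRingCat.of k)) := ⟨pS⟩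
  letI : X.Over (Spec (CommRingCat.of k)) := ⟨pX⟩
  haveI : LocallyOfFiniteType (S ↘ Spec (CommRingCat.of k)) := ‹LocallyOfFiniteType pS›
  haveI : LocallyOfFiniteType (X ↘ Spec (CommRingCat.of k)) := ‹LocallyOfFiniteType pX›
  haveI : IsLocallyNoetherian X := LocallyOfFiniteType.isLocallyNoetherian pX
  haveI : CompactSpace X := QuasiCompact.compactSpace_of_compactSpace pX
  haveI : IsNoetherian X := ⟨⟩
  haveI : QuasiCompact (f ≫ pX) := by rw [hf]; infer_instance
  haveI : LocallyOfFiniteType (f ≫ pX) := by rw [hf]; infer_instance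
  haveI : QuasiCompact f := QuasiCompact.of_comp f pX
  haveI : LocallyOfFiniteType f := locallyOfFiniteType_of_comp f pX
  haveI : LocallyOfFinitePresentation f := inferInstance
  by_contra hne
  obtain ⟨s₀, hs₀⟩ := Set.nonempty_iff_ne_empty.2 hne
  -- the dimension of the image
  have hd : ∀ ξ : S, (Groth.Agent.VarDim.dimPt k X (f ξ) : WithBot ℕ∞) ≤ topologicalKrullDim (Set.range f.base) := by
    intro ξ
    have hE : Topology.IsConstructible (Set.range f.base) := by
      rw [← Set.image_univ]
      exact f.isConstructible_image Topology.IsConstructible.univ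
    obtain ⟨U, hU, hUne, hUsub⟩ := Groth.Agent.ConstrLib.exists_open_subset_of_dense_constructible
      (Z := closure {f ξ}) isIrreducible_singleton.closure hE
      (closure_mono (Set.singleton_subset_iff.2 (Set.mem_inter ⟨ξ, rfl⟩ (subset_closure rfl))))
    have hξU : f ξ ∈ U := Groth.Agent.ConstrLib.mem_of_generic hU hUne le_rfl
    obtain ⟨y, hy, hyU, hy0⟩ := Groth.Agent.VarDim.exists_le_dimPt_eq_zero k (f ξ) ⟨U, hU⟩ hξU
    obtain ⟨-, l, hl1, hl2, hl3⟩ := Groth.Agent.VarDim.exists_ltSeries_of_le k hy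
    have hmem : ∀ i, l i ∈ Set.range f.base := by
      intro i
      have h1 : y ≤ l i := hl1 ▸ l.head_le i
      have h2 : l i ≤ f ξ := (l.monotone (Fin.le_last i)).trans hl2
      exact hUsub ⟨h1.mem_open hU hyU, specializes_iff_mem_closure.1 h2⟩
    have h4 := Groth.Agent.FibSemi.length_le_topDim l hmem
    rw [hy0, zero_add] at hl3
    rw [← hl3]
    exact_mod_cast h4
  have hcases : topologicalKrullDim (Set.range f.base) = ⊥ ∨ ∃ y : ℕ∞, topologicalKrullDim (Set.range f.base) = y := by
    cases topologicalKrullDim (Set.range f.base) with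
    | bot => exact Or.inl rfl
    | coe y => exact Or.inr ⟨y, rfl⟩
  rcases hcases with hbot | ⟨D, hD⟩
  · have := hd s₀
    rw [hbot, le_bot_iff] at this
    exact WithBot.natCast_ne_bot _ this
  -- a point of `f ⁻¹ Z` of maximal dimension
  have hfin : {s : S | f.base s ∈ Z}.Nonempty := ⟨s₀, hs₀⟩
  rcases eq_or_ne D ⊤ with htop | htop
  · have h1 := h s₀ hs₀
    rw [hD, htop] at h1
    obtain ⟨n, hn, hle⟩ := Groth.Agent.VarDim.localDim_eq_coheight_add k s₀
    rw [ringKrullDim_stalk_eq_coheight, hn] at h1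
    have h2 : ((⊤ : ℕ∞) + 1) ≤ (n : ℕ∞) := WithBot.coe_le_coe.1 h1
    simp at h2
  obtain ⟨d, rfl⟩ := WithTop.ne_top_iff_exists.1 htop
  -- generic fibre dimension versus special fibre dimension
  have key : ∀ ξ s : S, ξ ⤳ s → ∃ t : S, f t = f s ∧ Groth.Agent.VarDim.dimPt k S ξ ≤
      Groth.Agent.VarDim.dimPt k S t + Groth.Agent.VarDim.dimPt k X (f ξ) := by
    intro ξ s hξs
    obtain ⟨x, hx, -, hx0⟩ := Groth.Agent.VarDim.exists_le_dimPt_eq_zero k ξ ⊤ trivial
    obtain ⟨b, t, a, e, hb, ht, ha, he, hle⟩ := Groth.Agent.FibSemi.dim_inequality f (ξ := ξ) (x := x) hx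
    have hb' : (Groth.Agent.VarDim.dimPt k S ξ : WithBot ℕ∞) ≤ b := by
      obtain ⟨-, l, hl1, hl2, hl3⟩ := Groth.Agent.VarDim.exists_ltSeries_of_le k hx
      rw [← hb]
      refine Order.le_krullDim_iff.mpr ⟨LTSeries.mk l.length (fun i => ⟨l i, (l.monotone (Fin.le_last i)).trans hl2,
        hl1 ▸ l.head_le i⟩) fun i j hij => l.strictMono hij, ?_⟩
      show l.length = _
      omega
    have ha' : (a : WithBot ℕ∞) ≤ Groth.Agent.VarDim.dimPt k X (f ξ) := by
      rw [← ha]
      refine iSup_le fun l => ?_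
      let l' : LTSeries X := LTSeries.mk l.length (fun i => (l i).1) fun i j hij => l.strictMono hij
      have h1 := Groth.Agent.VarDim.dimPt_add_length_le k l'
      have h2 : Groth.Agent.VarDim.dimPt k X l'.last ≤ Groth.Agent.VarDim.dimPt k X (f ξ) :=
        (Groth.Agent.VarDim.exists_ltSeries_of_le k (l.last.2.1 : l'.last ≤ f ξ)).1
      have h3 : l.length ≤ Groth.Agent.VarDim.dimPt k X (f ξ) := by
        have : l'.length = l.length := rfl
        omega
      exact_mod_cast h3
    have h5 := Groth.Agent.FibSemi.topDim_closure_inter_fibre_le f hξs ⊤ trivial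
    rw [Groth.Agent.FibSemi.topDim_closure_inter_fibre_eq, he] at h5
    have hset : ((⊤ : S.Opens) : Set S) ∩ closure {ξ} ∩ f ⁻¹' {f s} = closure {ξ} ∩ f ⁻¹' {f s} := by
      simp
    rw [hset, Groth.Agent.FibSemi.topDim_closure_inter_fibre_eq] at h5
    obtain ⟨l, hl⟩ := Order.le_krullDim_iff.1 (show ((e : ℕ∞) : WithBot ℕ∞) ≤ _ from h5)
    refine ⟨(l.last : S), l.last.2.1, ?_⟩
    let l' : LTSeries S := LTSeries.mk l.length (fun i => (l i).1) fun i j hij => l.strictMono hij
    have h1 := Groth.Agent.VarDim.dimPt_add_length_le k l'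
    have h6 : Groth.Agent.VarDim.dimPt k S ξ ≤ b := by exact_mod_cast hb'
    have h7 : a ≤ Groth.Agent.VarDim.dimPt k X (f ξ) := by exact_mod_cast ha'
    have h8 : l'.length = l.length := rfl
    have h9 : l'.last = (l.last : S) := rfl
    rw [h9] at h1
    omega
  -- a bound on all dimensions
  have hbdd : BddAbove (Groth.Agent.VarDim.dimPt k S '' {s | f.base s ∈ Z}) := by
    haveI : CompactSpace S := QuasiCompact.compactSpace_of_compactSpace pS
    haveI : IsLocallyNoetherian S := LocallyOfFiniteType.isLocallyNoetherian pS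
    haveI : IsNoetherian S := ⟨⟩
    have hfc : (irreducibleComponents S).Finite := TopologicalSpace.NoetherianSpace.finite_irreducibleComponents
    refine ⟨(hfc.toFinset.sup fun C => sSup (Groth.Agent.VarDim.dimPt k S '' {ξ | closure {ξ} = C})), ?_⟩
    rintro _ ⟨s, -, rfl⟩
    obtain ⟨C, hC, hsC⟩ : ∃ C ∈ irreducibleComponents S, s ∈ C :=
      ⟨_, irreducibleComponent_mem_irreducibleComponents s, mem_irreducibleComponent⟩
    obtain ⟨η, hη⟩ := QuasiSober.sober hC.1
      (isClosed_of_mem_irreducibleComponents C hC)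
    have hset : {ξ : S | closure {ξ} = C} = {η} := by
      ext ξ
      exact ⟨fun h => (show IsGenericPoint ξ C from h).eq hη, fun h => h ▸ hη⟩
    refine le_trans ?_ (Finset.le_sup (f := fun C => sSup (Groth.Agent.VarDim.dimPt k S '' {ξ | closure {ξ} = C})) (hfc.mem_toFinset.2 hC))
    simp only [hset, Set.image_singleton, csSup_singleton]
    exact (Groth.Agent.VarDim.exists_ltSeries_of_le k (hη.specializes hsC)).1
  obtain ⟨s, hs, hmax⟩ : ∃ s : S, f.base s ∈ Z ∧ ∀ t : S, f.base t ∈ Z →
      Groth.Agent.VarDim.dimPt k S t ≤ Groth.Agent.VarDim.dimPt k S s := by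
    obtain ⟨s, hs, he⟩ := Nat.sSup_mem (hfin.image _) hbdd
    exact ⟨s, hs, fun t ht => he ▸ le_csSup hbdd ⟨t, ht, rfl⟩⟩
  obtain ⟨η, hη, hub, -⟩ := Groth.Agent.VarDim.exists_localDim_eq k s
  have hco : Order.coheight s ≤ (d : ℕ∞) := by
    refine (Groth.Agent.VarDim.coheight_le_of_forall k hub).trans ?_
    obtain ⟨t, ht, hle⟩ := key η s hη
    have h1 := hmax t (by rw [ht]; exact hs)
    have h2 := hd η
    rw [hD] at h2
    have h3 : Groth.Agent.VarDim.dimPt k X (f η) ≤ d :=
      ENat.natCast_le_natCast.1 (WithBot.coe_le_coe.1 h2)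
    exact_mod_cast (by omega : Groth.Agent.VarDim.dimPt k S η - Groth.Agent.VarDim.dimPt k S s ≤ d)
  have h1 := h s hs
  rw [hD, ringKrullDim_stalk_eq_coheight] at h1
  have h2 : ((d : ℕ∞) + 1) ≤ (d : ℕ∞) := (WithBot.coe_le_coe.1 h1).trans hco
  have h3 : d + 1 ≤ d := by exact_mod_cast h2
  omega

end Groth.Agent.S14901
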