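import Groth.Statements.S14905
import Groth.Agent.GmModel.Identity

set_option autoImplicit false
universe u
open CategoryTheory MonoidalCategory CartesianMonoidalCategory MonObj GrpObj AlgebraicGeometry
open Neron

namespace Groth.Agent.S14905

/-- Let R be a complete discrete valuation ring with fraction field K of characteristic 0 and
algebraically closed residue field k of characteristic p > 0, and let G be an affine smooth R-group
scheme of finite type together with an isomorphism of K-group schemes between its generic fibre and
the additive group over K. Then the group of connected components of the special fibre G_k is a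
p-group: for every k-point x of G_k some power x^(p^m) lies in the connected component of the
identity; and the identity component of G is the additive group over R: there is a homomorphism of
R-group schemes from the additive group over R to G which is an open immersion. (The published
statement also asserts that every finite abelian p-group occurs as such a component group; this row
does not state that.) -/
theorem result (R : Type u) [CommRing R] [IsDomain R] [IsDiscreteValuationRing R]
    [IsAdicComplete (IsLocalRing.maximalIdeal R) R] (K : Type u) [Field K] [Algebra R K] [IsFractionRing R K] [CharZero K]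
    [IsAlgClosed (IsLocalRing.ResidueField R)]
    (p : ℕ) [Fact p.Prime] [CharP (IsLocalRing.ResidueField R) p]
    (G : Over (Spec (CommRingCat.of R))) [GrpObj G] [Smooth G.hom] [IsAffineHom G.hom] [LocallyOfFiniteType G.hom]
    (e : Red.bc (Spec.map (CommRingCat.ofHom (algebraMap R K))) G ≅ Red.Ga (Spec (CommRingCat.of K))) [IsMonHom e.hom] :
    (∀ x : 𝟙_ (Over (Spec (CommRingCat.of (IsLocalRing.ResidueField R)))) ⟶ Red.bc (Spec.map (CommRingCat.ofHom (IsLocalRing.residue R))) G,
        ∃ m : ℕ, (x ^ (p ^ m)).left.base (IsLocalRing.closedPoint (IsLocalRing.ResidueField R)) ∈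
          connectedComponent ((η[Red.bc (Spec.map (CommRingCat.ofHom (IsLocalRing.residue R))) G]).left.base (IsLocalRing.closedPoint (IsLocalRing.ResidueField R)))) ∧
      ∃ j : Red.Ga (Spec (CommRingCat.of R)) ⟶ G, IsMonHom j ∧ IsOpenImmersion j.left := by
  have : IsAffine G.left := isAffine_of_isAffineHom G.hom
  have := GmModel.smooth_cr G
  obtain ⟨xT, hT⟩ := GmModel.Additive.U_surjective e (Polynomial.X : Polynomial K)
  obtain ⟨ϖ₀, hϖ₀⟩ := IsDiscreteValuationRing.exists_irreducible R
  obtain ⟨s₀, t, hs₀, ht, -⟩ := GmModel.Additive.exists_coord e hϖ₀ hT
  obtain ⟨c, hc⟩ := GmModel.Additive.exists_pPow e hT ht hs₀ p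
  refine ⟨fun x => ⟨c, ?_⟩, ?_⟩
  · rw [hc x, NeronSplitP.one_eq]
    exact mem_connectedComponent
  · obtain ⟨ϖ, s, φ, a, Y, -, hs, hφ, hY, ha, hw⟩ := GmModel.Additive.exists_identity e hT
    exact GmModel.Additive.exists_openImmersion e hT hs hφ hY ha hw

end Groth.Agent.S14905
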