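import Groth.Statements.S14906
import Groth.Agent.GmModel.Iso

set_option autoImplicit false
universe u
open CategoryTheory MonoidalCategory CartesianMonoidalCategory MonObj GrpObj AlgebraicGeometry
open Neron

namespace Groth.Agent.S14906

/-- Let R be a complete discrete valuation ring with fraction field K of characteristic 0 and
algebraically closed residue field k, and let G be an affine smooth R-group scheme of finite type
together with an isomorphism of K-group schemes between its generic fibre and the multiplicative
group over K (an affine smooth R-model of the multiplicative group). Suppose the identity component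
of the special fibre G_k is the multiplicative group: there is a homomorphism of k-group schemes
from the multiplicative group over k to G_k which is an open immersion. Then G_k is connected and G
is isomorphic to the multiplicative group over R as an R-group scheme (existence of an isomorphism
of group schemes). -/
theorem result (R : Type u) [CommRing R] [IsDomain R] [IsDiscreteValuationRing R]
    [IsAdicComplete (IsLocalRing.maximalIdeal R) R] (K : Type u) [Field K] [Algebra R K] [IsFractionRing R K] [CharZero K]
    [IsAlgClosed (IsLocalRing.ResidueField R)]
    (G : Over (Spec (CommRingCat.of R))) [GrpObj G] [Smooth G.hom] [IsAffineHom G.hom] [LocallyOfFiniteType G.hom]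
    (e : Red.bc (Spec.map (CommRingCat.ofHom (algebraMap R K))) G ≅ Red.Gm (Spec (CommRingCat.of K))) [IsMonHom e.hom]
    (j₀ : Red.Gm (Spec (CommRingCat.of (IsLocalRing.ResidueField R))) ⟶ Red.bc (Spec.map (CommRingCat.ofHom (IsLocalRing.residue R))) G) [IsMonHom j₀]
    [IsOpenImmersion j₀.left] :
    ConnectedSpace ↥(Red.bc (Spec.map (CommRingCat.ofHom (IsLocalRing.residue R))) G).left ∧
      ∃ e' : G ≅ Red.Gm (Spec (CommRingCat.of R)), IsMonHom e'.hom := by
  have : IsAffine G.left := isAffine_of_isAffineHom G.hom
  have := GmModel.smooth_cr G
  obtain ⟨xT, hT⟩ := GmModel.exists_univ e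
  obtain ⟨t, ht⟩ := GmModel.exists_coord e hT
  have hinf := GmModel.infinite_range_of_torus e hT ht j₀
  exact ⟨GmModel.connectedSpace_sf e hT ht hinf, GmModel.exists_iso e hT ht hinf⟩

end Groth.Agent.S14906
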