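import Groth.Statements.S14907
import Groth.Agent.GmModel.Special
import Groth.Agent.GmModel.Setup

set_option autoImplicit false
universe u
open CategoryTheory MonoidalCategory CartesianMonoidalCategory MonObj GrpObj AlgebraicGeometry
open Neron

namespace Groth.Agent.S14907

/-- Let R be a complete discrete valuation ring with fraction field K of characteristic 0 and
algebraically closed residue field k of characteristic 0, and let G be an affine smooth R-group
scheme of finite type together with an isomorphism of K-group schemes between its generic fibre and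
the multiplicative group over K. Suppose the identity component of the special fibre G_k is the
additive group: there is a homomorphism of k-group schemes from the additive group over k to G_k
which is an open immersion. Then the group of connected components of G_k is cyclic: there is a
k-point x₀ of G_k such that every connected component of G_k contains (the point underlying) some
power x₀^m. (The further assertion that every cyclic group occurs is not stated.) -/
theorem result (R : Type u) [CommRing R] [IsDomain R] [IsDiscreteValuationRing R]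
    [IsAdicComplete (IsLocalRing.maximalIdeal R) R] (K : Type u) [Field K] [Algebra R K] [IsFractionRing R K] [CharZero K]
    [IsAlgClosed (IsLocalRing.ResidueField R)] [CharZero (IsLocalRing.ResidueField R)]
    (G : Over (Spec (CommRingCat.of R))) [GrpObj G] [Smooth G.hom] [IsAffineHom G.hom] [LocallyOfFiniteType G.hom]
    (e : Red.bc (Spec.map (CommRingCat.ofHom (algebraMap R K))) G ≅ Red.Gm (Spec (CommRingCat.of K))) [IsMonHom e.hom]
    (j₀ : Red.Ga (Spec (CommRingCat.of (IsLocalRing.ResidueField R))) ⟶ Red.bc (Spec.map (CommRingCat.ofHom (IsLocalRing.residue R))) G) [IsMonHom j₀]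
    [IsOpenImmersion j₀.left] :
    ∃ x₀ : 𝟙_ (Over (Spec (CommRingCat.of (IsLocalRing.ResidueField R)))) ⟶ Red.bc (Spec.map (CommRingCat.ofHom (IsLocalRing.residue R))) G,
      ∀ x : 𝟙_ (Over (Spec (CommRingCat.of (IsLocalRing.ResidueField R)))) ⟶ Red.bc (Spec.map (CommRingCat.ofHom (IsLocalRing.residue R))) G,
        ∃ m : ℕ, (x₀ ^ m).left.base (IsLocalRing.closedPoint (IsLocalRing.ResidueField R)) ∈ connectedComponent (x.left.base (IsLocalRing.closedPoint (IsLocalRing.ResidueField R))) := by
  have : IsAffine G.left := isAffine_of_isAffineHom G.hom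
  have := GmModel.smooth_cr G
  obtain ⟨xT, hT⟩ := GmModel.exists_univ e
  obtain ⟨t, ht⟩ := GmModel.exists_coord e hT
  obtain ⟨x₀, hx₀⟩ := GmModel.exists_generator e hT ht j₀
  have : IsAffineHom (GmModel.sf G).hom := MorphismProperty.pullback_snd (P := @IsAffineHom) G.hom _ ‹_›
  have : LocallyOfFiniteType (GmModel.sf G).hom := MorphismProperty.pullback_snd (P := @LocallyOfFiniteType) G.hom _ ‹_›
  have : IsLocallyNoetherian (GmModel.sf G).left := LocallyOfFiniteType.isLocallyNoetherian (GmModel.sf G).hom
  have : IsAffine (GmModel.sf G).left := isAffine_of_isAffineHom (GmModel.sf G).hom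
  have : IsNoetherian (GmModel.sf G).left := { toCompactSpace := inferInstance, toIsLocallyNoetherian := inferInstance }
  refine ⟨x₀, fun x => ?_⟩
  obtain ⟨m, hm⟩ := hx₀ x
  refine ⟨m, (NeronSplitP.mem_component_iff (GmModel.sf G) x (x₀ ^ m)).2 ?_⟩
  have hχ : ∀ z, GmModel.pa (GmModel.up (x⁻¹ * z)) t * GmModel.pa (GmModel.up x) t = GmModel.pa (GmModel.up z) t := fun z => by
    rw [← GmModel.chi_mul e hT ht, GmModel.sf_commute e (x⁻¹ * z) x, mul_inv_cancel_left]
  have hz : GmModel.pa (GmModel.up (x⁻¹ * x₀ ^ m)) t = 1 := by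
    have h := hχ (x₀ ^ m)
    rw [hm] at h
    have hne : GmModel.pa (GmModel.up x) t ≠ 0 := fun h0 => by
      have h1 := GmModel.chi_mul e hT ht x x⁻¹
      rw [_root_.mul_inv_cancel, GmModel.chi_one e hT ht, h0, zero_mul] at h1
      exact one_ne_zero h1
    exact mul_right_cancel₀ hne (h.trans (_root_.one_mul _).symm)
  obtain ⟨N, hN, hzN⟩ := NeronSplitP.exists_pow_mem (GmModel.sf G) (x⁻¹ * x₀ ^ m)
  obtain ⟨a, ha⟩ := GmModel.exists_j_eq j₀ _ hzN
  obtain ⟨b, rfl⟩ := GmModel.ga_div a hN
  rw [MonObj.pow_comp] at ha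
  have hc : Commute (x⁻¹ * x₀ ^ m) (b ≫ j₀)⁻¹ := GmModel.sf_commute e _ _
  have h1 := GmModel.eq_one_of_pow_eq_one e hT ht ((x⁻¹ * x₀ ^ m) * (b ≫ j₀)⁻¹) (by
    have hb := GmModel.chi_mul e hT ht (b ≫ j₀) (b ≫ j₀)⁻¹
    rw [_root_.mul_inv_cancel, GmModel.chi_one e hT ht, GmModel.chi_j e hT ht j₀, _root_.one_mul] at hb
    rw [GmModel.chi_mul e hT ht, hz, ← hb, _root_.one_mul]) hN (by
    rw [hc.mul_pow, ← ha, inv_pow, _root_.mul_inv_cancel])
  rw [mul_inv_eq_one] at h1
  rw [h1]
  exact GmModel.j_mem j₀ b

end Groth.Agent.S14907
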