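import Groth.Statements.S14908
import Groth.Agent.GmModel.Special
import Groth.Agent.GmModel.Setup

set_option autoImplicit false
universe u
open CategoryTheory MonoidalCategory CartesianMonoidalCategory MonObj GrpObj AlgebraicGeometry
open Neron

namespace Groth.Agent.S14908

/-- Let R be a complete discrete valuation ring with fraction field K of characteristic 0 and
algebraically closed residue field k of characteristic p > 0, and let G be an affine smooth R-group
scheme of finite type together with an isomorphism of K-group schemes between its generic fibre and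
the multiplicative group over K. Suppose the identity component of the special fibre G_k is the
additive group: there is a homomorphism of k-group schemes from the additive group over k to G_k
which is an open immersion. Then the group of connected components of G_k is the product of a cyclic
group of order prime to p and a p-group; equivalently its prime-to-p part is cyclic: there is a
k-point x₀ of G_k such that for every k-point x of G_k some power x^(p^e) lies in the connected
component of some power x₀^m. (The further assertion that every such group occurs is not stated.) -/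
theorem result (R : Type u) [CommRing R] [IsDomain R] [IsDiscreteValuationRing R]
    [IsAdicComplete (IsLocalRing.maximalIdeal R) R] (K : Type u) [Field K] [Algebra R K] [IsFractionRing R K] [CharZero K]
    [IsAlgClosed (IsLocalRing.ResidueField R)]
    (p : ℕ) [Fact p.Prime] [CharP (IsLocalRing.ResidueField R) p]
    (G : Over (Spec (CommRingCat.of R))) [GrpObj G] [Smooth G.hom] [IsAffineHom G.hom] [LocallyOfFiniteType G.hom]
    (e : Red.bc (Spec.map (CommRingCat.ofHom (algebraMap R K))) G ≅ Red.Gm (Spec (CommRingCat.of K))) [IsMonHom e.hom]
    (j₀ : Red.Ga (Spec (CommRingCat.of (IsLocalRing.ResidueField R))) ⟶ Red.bc (Spec.map (CommRingCat.ofHom (IsLocalRing.residue R))) G) [IsMonHom j₀]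
    [IsOpenImmersion j₀.left] :
    ∃ x₀ : 𝟙_ (Over (Spec (CommRingCat.of (IsLocalRing.ResidueField R)))) ⟶ Red.bc (Spec.map (CommRingCat.ofHom (IsLocalRing.residue R))) G,
      ∀ x : 𝟙_ (Over (Spec (CommRingCat.of (IsLocalRing.ResidueField R)))) ⟶ Red.bc (Spec.map (CommRingCat.ofHom (IsLocalRing.residue R))) G,
        ∃ e₁ m : ℕ, (x ^ (p ^ e₁)).left.base (IsLocalRing.closedPoint (IsLocalRing.ResidueField R)) ∈ connectedComponent ((x₀ ^ m).left.base (IsLocalRing.closedPoint (IsLocalRing.ResidueField R))) := by
  have : IsAffine G.left := isAffine_of_isAffineHom G.hom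
  have := GmModel.smooth_cr G
  obtain ⟨xT, hT⟩ := GmModel.exists_univ e
  obtain ⟨t, ht⟩ := GmModel.exists_coord e hT
  obtain ⟨x₀, hx₀⟩ := GmModel.exists_generator e hT ht j₀
  obtain ⟨c, hc⟩ := GmModel.exists_pPow e hT ht p
  refine ⟨x₀, fun x => ?_⟩
  obtain ⟨m, hm⟩ := hx₀ x
  refine ⟨c, m * p ^ c, ?_⟩
  have hz : GmModel.pa (GmModel.up ((x₀ ^ m)⁻¹ * x)) t = 1 := by
    have h := GmModel.chi_mul e hT ht (x₀ ^ m)⁻¹ (x₀ ^ m)
    rw [inv_mul_cancel, GmModel.chi_one e hT ht] at h
    rw [GmModel.chi_mul e hT ht, ← hm]
    exact h.symm
  have h1 := hc _ hz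
  rw [(show Commute (x₀ ^ m)⁻¹ x from GmModel.sf_commute e _ _).mul_pow, inv_pow, inv_mul_eq_one, ← pow_mul] at h1
  rw [← h1]
  exact mem_connectedComponent

end Groth.Agent.S14908
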