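import Groth.Statements.S14909
-- import your own Groth.Agent.* helpers here

set_option autoImplicit false
universe u
open Neron

open MvPowerSeries in
theorem Groth.Agent.S14909.recursion {R : Type u} [CommRing R] [IsDomain R] (π : R) (hπ : π ≠ 0)
    (c : ℕ → R) (n : ℕ) (d : R)
    (h : ∀ j ≤ n, (if 2 ≤ j then c (j - 2) else 0) - π * c j = if j = n then d else 0) :
    ∃ r, d = π * r := by
  have h0 : ∀ j < n, c j = 0 := by
    intro j
    induction j using Nat.strong_induction_on with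
    | _ j ih =>
      intro hj
      have hh := h j hj.le
      rw [if_neg hj.ne] at hh
      have : (if 2 ≤ j then c (j - 2) else 0) = 0 := by
        split_ifs with h2
        · exact ih _ (by omega) (by omega)
        · rfl
      rw [this, zero_sub, neg_eq_zero] at hh
      exact (mul_eq_zero.mp hh).resolve_left hπ
  refine ⟨-(c n), ?_⟩
  have hh := h n le_rfl
  rw [if_pos rfl] at hh
  have : (if 2 ≤ n then c (n - 2) else 0) = 0 := by
    split_ifs with h2
    · exact h0 _ (by omega)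
    · rfl
  rw [this] at hh
  linear_combination -hh

namespace Groth.Agent.S14909

/-- Let R be a discrete valuation ring with uniformizer ϖ, let a₁, a₆ ∈ R with a₁ of valuation v ≥ 1, a₆
of valuation 1, and 2 of valuation at least v (so the residue characteristic is 2; 2 = 0 is
allowed). In the power series ring S = R[[x, y]] let M = (ϖ, x, y) be the maximal ideal and I the
ideal generated by y² + a₁xy − x³ − a₆, 2y + a₁x and 3x² − a₁y, so that S/I is a local ring with
maximal ideal m = M/I. Then the classes of y^(2v) and x·y^(2v−1) form a basis of the vector space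
m^(2v)/m^(2v+1) over the residue field: M^(2v) + I = (y^(2v), x·y^(2v−1)) + I, and whenever a·y^(2v)
+ b·x·y^(2v−1) ∈ M^(2v+1) + I with a, b ∈ R, both a and b lie in the maximal ideal of R. (Generation
holds with any exponent i ≥ 1 in place of 2v: M^i + I = (y^i, x·y^(i−1)) + I.) -/
theorem result (R : Type u) [CommRing R] [IsDomain R] [IsDiscreteValuationRing R]
    (ϖ a₁ a₆ : R) (hϖ : Irreducible ϖ) (v : ℕ) (hv : 1 ≤ v) (u₁ u₆ : Rˣ) (ha₁ : a₁ = u₁ * ϖ ^ v) (ha₆ : a₆ = u₆ * ϖ)
    (h2 : (2 : R) ∈ IsLocalRing.maximalIdeal R ^ v)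
    (x y : MvPowerSeries (Fin 2) R) (hx : x = MvPowerSeries.X 0) (hy : y = MvPowerSeries.X 1)
    (I M : Ideal (MvPowerSeries (Fin 2) R))
    (hI : I = Ideal.span {y ^ 2 + a₁ • (x * y) - x ^ 3 - algebraMap R (MvPowerSeries (Fin 2) R) a₆,
      2 * y + a₁ • x, 3 * x ^ 2 - a₁ • y})
    (hM : M = Ideal.span {algebraMap R (MvPowerSeries (Fin 2) R) ϖ, x, y}) :
    M ^ (2 * v) ⊔ I = Ideal.span {y ^ (2 * v), x * y ^ (2 * v - 1)} ⊔ I ∧
      ∀ a b : R, a • y ^ (2 * v) + b • (x * y ^ (2 * v - 1)) ∈ M ^ (2 * v + 1) ⊔ I →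
        a ∈ IsLocalRing.maximalIdeal R ∧ b ∈ IsLocalRing.maximalIdeal R := by
  obtain ⟨t, ht⟩ : ∃ t : R, (2 : R) = t * ϖ ^ v := by
    rw [hϖ.maximalIdeal_eq, Ideal.span_singleton_pow, Ideal.mem_span_singleton] at h2
    obtain ⟨t, ht⟩ := h2
    exact ⟨t, by rw [ht, mul_comm]⟩
  have h3 : IsUnit (3 : R) := by
    have h2m : (2 : R) ∈ IsLocalRing.maximalIdeal R := Ideal.pow_le_self (by omega) h2
    refine (IsLocalRing.notMem_maximalIdeal (x := (3 : R))).mp fun h => ?_
    exact (IsLocalRing.maximalIdeal.isMaximal R).ne_top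
      ((Ideal.eq_top_iff_one _).mpr (by
        have := Ideal.sub_mem _ h h2m
        norm_num at this
        ))
  obtain ⟨w, hw⟩ : IsUnit ((3 : R) * u₆) := h3.mul u₆.isUnit
  set n := 2 * v with hn
  set C := algebraMap R (MvPowerSeries (Fin 2) R) with hC
  have hC2 : C 2 = (2 : MvPowerSeries (Fin 2) R) := map_ofNat C 2
  have hC3 : C 3 = (3 : MvPowerSeries (Fin 2) R) := map_ofNat C 3
  have hsm : ∀ (r : R) (s : MvPowerSeries (Fin 2) R), r • s = C r * s := fun r s => Algebra.smul_def r s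
  -- congruences, valid in any quotient in which `y² + 3a₆` vanishes
  have hcw : (↑w⁻¹ : R) * (3 * u₆) = 1 := by rw [← hw, Units.inv_mul]
  have key : ∀ K : Ideal (MvPowerSeries (Fin 2) R), y ^ 2 + C (3 * a₆) ∈ K →
      Ideal.Quotient.mk K (C ϖ) = Ideal.Quotient.mk K (C (-↑w⁻¹) * y ^ 2) := by
    intro K hK
    rw [Ideal.Quotient.eq]
    have : C ϖ - C (-↑w⁻¹) * y ^ 2 = C (↑w⁻¹) * (y ^ 2 + C (3 * a₆)) := by
      have : C (↑w⁻¹) * C (3 * a₆) = C ϖ := by
        rw [← map_mul, ha₆, show (↑w⁻¹ : R) * (3 * (↑u₆ * ϖ)) = ↑w⁻¹ * (3 * u₆) * ϖ by ring, hcw, one_mul]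
      rw [mul_add, this, map_neg]; ring
    rw [this]
    exact K.mul_mem_left _ hK
  set F := y ^ 2 + a₁ • (x * y) - x ^ 3 - C a₆ with hF
  set G := 2 * y + a₁ • x with hG
  set H := 3 * x ^ 2 - a₁ • y with hH
  have hFI : F ∈ I := hI ▸ Ideal.subset_span (by simp [hF, hC])
  have hGI : G ∈ I := hI ▸ Ideal.subset_span (by simp [hG])
  have hHI : H ∈ I := hI ▸ Ideal.subset_span (by simp [hH])
  have hyI : y ^ 2 + C (3 * a₆) ∈ I := by
    have : y ^ 2 + C (3 * a₆) = -(3 * F + x * H - 2 * y * G) := by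
      rw [hF, hG, hH, map_mul, hC3]
      simp only [hsm]
      ring
    rw [this]
    exact I.neg_mem (I.sub_mem (I.add_mem (I.mul_mem_left _ hFI) (I.mul_mem_left _ hHI)) (I.mul_mem_left _ hGI))
  set q := Ideal.Quotient.mk I with hq
  have hπ : q (C ϖ) = q (C (-↑w⁻¹)) * q y ^ 2 := by rw [← map_pow, ← map_mul]; exact key I hyI
  have hx2 : ∃ d, q x ^ 2 = d * q y ^ (n + 1) := by
    obtain ⟨i3, hi3⟩ := h3.exists_left_inv
    refine ⟨q (C (i3 * u₁)) * q (C (-↑w⁻¹)) ^ v, ?_⟩
    have : q H = 0 := Ideal.Quotient.eq_zero_iff_mem.mpr hHI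
    rw [hH, hsm, map_sub, map_mul, map_mul, map_pow, ← hC3, sub_eq_zero] at this
    have e : q (C i3) * q (C 3) = 1 := by rw [← map_mul, ← map_mul, hi3, map_one, map_one]
    calc q x ^ 2 = q (C i3) * (q (C 3) * q x ^ 2) := by rw [← mul_assoc, e, one_mul]
      _ = q (C i3) * (q (C a₁) * q y) := by rw [this]
      _ = _ := by
        rw [ha₁, map_mul, map_mul, map_mul, map_mul, map_pow, map_pow, hπ, hn]
        ring
  obtain ⟨d, hd⟩ := hx2
  -- generation in every degree
  have gen : ∀ i : ℕ, 1 ≤ i → (M.map q) ^ i = Ideal.span {q y ^ i, q x * q y ^ (i - 1)} := by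
    have hM1 : M.map q = Ideal.span {q y, q x} := by
      rw [hM, Ideal.map_span]
      refine le_antisymm (Ideal.span_le.mpr ?_) (Ideal.span_mono ?_)
      · simp only [Set.image_insert_eq, Set.image_singleton, Set.insert_subset_iff, Set.singleton_subset_iff,
          SetLike.mem_coe]
        refine ⟨?_, Ideal.subset_span (by simp), Ideal.subset_span (by simp)⟩
        rw [hπ]
        exact Ideal.mul_mem_left _ _ (Ideal.pow_mem_of_mem _ (Ideal.subset_span (by simp)) 2 two_pos)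
      · simp [Set.image_insert_eq, Set.insert_subset_iff]
    intro i hi
    induction i, hi using Nat.le_induction with
    | base => simp [hM1, Submodule.pow_one]
    | succ i hi ih =>
      obtain ⟨j, rfl⟩ : ∃ j, i = j + 1 := ⟨i - 1, by omega⟩
      rw [Submodule.pow_succ, ih, hM1]
      simp only [Nat.add_sub_cancel]
      refine le_antisymm (Ideal.mul_le.mpr ?_) (Ideal.span_le.mpr ?_)
      · intro a ha b hb
        rw [Ideal.mem_span_pair] at ha hb ⊢
        obtain ⟨a₁', a₂', rfl⟩ := ha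
        obtain ⟨b₁, b₂, rfl⟩ := hb
        refine ⟨a₁' * b₁ + a₂' * b₂ * d * q y ^ (n - 1), a₁' * b₂ + a₂' * b₁, ?_⟩
        have e : q y ^ (n - 1) * q y ^ (j + 1 + 1) = q y ^ (n + 1) * q y ^ j := by
          rw [← pow_add, ← pow_add]; congr 1; omega
        linear_combination (a₂' * b₂ * d) * e - (a₂' * b₂ * q y ^ j) * hd
      · simp only [Set.insert_subset_iff, Set.singleton_subset_iff, SetLike.mem_coe]
        constructor
        · rw [pow_succ (q y) (j + 1)]
          exact Ideal.mul_mem_mul (Ideal.subset_span (by simp)) (Ideal.subset_span (by simp))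
        · rw [show q x * q y ^ (j + 1) = q y ^ (j + 1) * q x by ring]
          exact Ideal.mul_mem_mul (Ideal.subset_span (by simp)) (Ideal.subset_span (by simp))
  have gen' : ∀ i : ℕ, 1 ≤ i → M ^ i ⊔ I = Ideal.span {y ^ i, x * y ^ (i - 1)} ⊔ I := by
    intro i hi
    have := congrArg (Ideal.comap q) (gen i hi)
    rw [← Ideal.map_pow, Ideal.comap_map_of_surjective q Ideal.Quotient.mk_surjective,
      show Ideal.span {q y ^ i, q x * q y ^ (i - 1)} = (Ideal.span {y ^ i, x * y ^ (i - 1)}).map q by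
        rw [Ideal.map_span, Set.image_insert_eq, Set.image_singleton, map_pow, map_mul, map_pow],
      Ideal.comap_map_of_surjective q Ideal.Quotient.mk_surjective, ← RingHom.ker_eq_comap_bot, hq,
      Ideal.mk_ker] at this
    exact this
  refine ⟨gen' n (by omega), fun a b hab => ?_⟩
  -- the test ideal
  set J := Ideal.span ({y ^ 2 + C (3 * a₆), x ^ 2, y ^ (n + 1), x * y ^ n} : Set (MvPowerSeries (Fin 2) R)) with hJ
  have hIJ : I ≤ J := by
    set r := Ideal.Quotient.mk J
    have hxJ : r x ^ 2 = 0 := by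
      rw [← map_pow]; exact Ideal.Quotient.eq_zero_iff_mem.mpr (Ideal.subset_span (by simp))
    have hyJ : r y ^ (n + 1) = 0 := by
      rw [← map_pow]; exact Ideal.Quotient.eq_zero_iff_mem.mpr (Ideal.subset_span (by simp))
    have hxyJ : r x * r y ^ n = 0 := by
      rw [← map_pow, ← map_mul]; exact Ideal.Quotient.eq_zero_iff_mem.mpr (Ideal.subset_span (by simp))
    have hπJ : r (C ϖ) = r (C (-↑w⁻¹)) * r y ^ 2 := by
      rw [← map_pow, ← map_mul]; exact key J (Ideal.subset_span (by simp))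
    set c := r (C (-↑w⁻¹))
    have hy2 : r y ^ 2 = - (r (C 3) * (r (C u₆) * r (C ϖ))) := by
      have : r (y ^ 2 + C (3 * a₆)) = 0 := Ideal.Quotient.eq_zero_iff_mem.mpr (Ideal.subset_span (by simp))
      rw [ha₆, map_add, map_pow, map_mul, map_mul, map_mul, map_mul] at this
      linear_combination this
    have e2 : r 2 = r (C t) * c ^ v * r y ^ n := by
      rw [← hC2, ht, map_mul, map_mul, map_pow, map_pow, hπJ, hn]; ring
    have e1 : r (C a₁) = r (C u₁) * c ^ v * r y ^ n := by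
      rw [ha₁, map_mul, map_mul, map_pow, map_pow, hπJ, hn]; ring
    have e3 : r (C 3) = 2 * 2 - 1 := by rw [hC3, map_ofNat]; norm_num
    have e20 : (2 : MvPowerSeries (Fin 2) R ⧸ J) = r (C t) * c ^ v * r y ^ n := by
      rw [← e2, map_ofNat]
    rw [hI, Ideal.span_le]
    simp only [Set.insert_subset_iff, Set.singleton_subset_iff, SetLike.mem_coe,
      ← Ideal.Quotient.eq_zero_iff_mem, hF, hG, hH, hsm, map_add, map_sub, map_mul, map_pow, map_ofNat]
    refine ⟨?_, ?_, ?_⟩
    · show r y ^ 2 + r (C a₁) * (r x * r y) - r x ^ 3 - r (C a₆) = 0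
      rw [ha₆, map_mul, map_mul, hy2, e3, e20, e1, hπJ]
      linear_combination (r (C u₁) * c ^ v * r y) * hxyJ - r x * hxJ
        - (r (C t) * c ^ v) ^ 2 * (r (C u₆) * c) * r y ^ (n + 1) * hyJ
    · show 2 * r y + r (C a₁) * r x = 0
      rw [e20, e1]
      linear_combination (r (C t) * c ^ v) * hyJ + (r (C u₁) * c ^ v) * hxyJ
    · show 3 * r x ^ 2 - r (C a₁) * r y = 0
      rw [e1]
      linear_combination 3 * hxJ - (r (C u₁) * c ^ v) * hyJ
  have habJ : a • y ^ n + b • (x * y ^ (n - 1)) ∈ J := by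
    refine sup_le ?_ hIJ (gen' (n + 1) (by omega) ▸ hab)
    refine Ideal.span_le.mpr ?_
    simp only [Nat.add_sub_cancel, Set.insert_subset_iff, Set.singleton_subset_iff, SetLike.mem_coe]
    exact ⟨Ideal.subset_span (by simp), Ideal.subset_span (by simp)⟩
  rw [hJ] at habJ
  simp only [Ideal.mem_span_insert, Ideal.mem_span_singleton'] at habJ
  obtain ⟨f, _, ⟨g, _, ⟨h, _, ⟨l, rfl⟩, rfl⟩, rfl⟩, hfgh⟩ := habJ
  let e : ℕ → ℕ → (Fin 2 →₀ ℕ) := fun i j => Finsupp.single 0 i + Finsupp.single 1 j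
  have hmon : ∀ i j, x ^ i * y ^ j = MvPowerSeries.monomial (e i j) (1 : R) := fun i j => by
    rw [hx, hy, MvPowerSeries.X_pow_eq, MvPowerSeries.X_pow_eq, MvPowerSeries.monomial_mul_monomial, mul_one]
  have hle : ∀ i j i' j', e i j ≤ e i' j' ↔ i ≤ i' ∧ j ≤ j' := fun i j i' j' => by
    simp [e, Finsupp.le_def, Fin.forall_fin_two]
  have hsub : ∀ i j i' j', e i' j' - e i j = e (i' - i) (j' - j) := fun i j i' j' => by
    ext k; fin_cases k <;> simp [e]
  have heq : ∀ i j i' j', e i j = e i' j' ↔ i = i' ∧ j = j' := fun i j i' j' => by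
    rw [le_antisymm_iff, hle, hle]; omega
  have hCf : ∀ (r : R) (m : Fin 2 →₀ ℕ) (s : MvPowerSeries (Fin 2) R),
      MvPowerSeries.coeff m (C r * s) = r * MvPowerSeries.coeff m s := fun r m s => by
    rw [← hsm, map_smul, smul_eq_mul]
  have hmul : ∀ (s : MvPowerSeries (Fin 2) R) (i j i' j' : ℕ), MvPowerSeries.coeff (e i' j') (s * (x ^ i * y ^ j)) =
      if i ≤ i' ∧ j ≤ j' then MvPowerSeries.coeff (e (i' - i) (j' - j)) s else 0 := fun s i j i' j' => by
    rw [hmon, MvPowerSeries.coeff_mul_monomial]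
    simp [hle, hsub]
  -- coefficient of `x^i y^j`
  have hcoef : ∀ i j : ℕ,
      (if i = 0 ∧ j = n then a else 0) + (if i = 1 ∧ j = n - 1 then b else 0) =
        (if 0 ≤ i ∧ 2 ≤ j then MvPowerSeries.coeff (e (i - 0) (j - 2)) f else 0) + (3 * a₆) * MvPowerSeries.coeff (e i j) f
        + ((if 2 ≤ i ∧ 0 ≤ j then MvPowerSeries.coeff (e (i - 2) (j - 0)) g else 0)
          + ((if 0 ≤ i ∧ n + 1 ≤ j then MvPowerSeries.coeff (e (i - 0) (j - (n + 1))) h else 0)
            + (if 1 ≤ i ∧ n ≤ j then MvPowerSeries.coeff (e (i - 1) (j - n)) l else 0))) := by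
    intro i j
    have hh := congrArg (MvPowerSeries.coeff (e i j)) hfgh
    have eL : a • y ^ n + b • (x * y ^ (n - 1)) = C a * (x ^ 0 * y ^ n) + C b * (x ^ 1 * y ^ (n - 1)) := by
      rw [hsm, hsm, pow_zero, one_mul, pow_one]
    have eR : f * (y ^ 2 + C (3 * a₆)) = f * (x ^ 0 * y ^ 2) + C (3 * a₆) * f := by ring
    rw [eL, eR, show g * x ^ 2 = g * (x ^ 2 * y ^ 0) by ring,
      show h * y ^ (n + 1) = h * (x ^ 0 * y ^ (n + 1)) by ring,
      show l * (x * y ^ n) = l * (x ^ 1 * y ^ n) by ring] at hh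
    simp only [map_add, hCf, hmul] at hh
    simp only [hmon, MvPowerSeries.coeff_monomial, heq, mul_ite, mul_one, mul_zero] at hh
    exact hh
  have hπ0 : -(3 * a₆) ≠ 0 := by
    rw [neg_ne_zero, ha₆, ← mul_assoc, ← hw]
    exact mul_ne_zero w.ne_zero hϖ.ne_zero
  have hm : ∀ r, -(3 * a₆) * r ∈ IsLocalRing.maximalIdeal R := fun r => by
    rw [hϖ.maximalIdeal_eq, Ideal.mem_span_singleton]
    exact ⟨-(3 * u₆) * r, by rw [ha₆]; ring⟩
  constructor
  · obtain ⟨r, hr⟩ := recursion _ hπ0 (fun j => MvPowerSeries.coeff (e 0 j) f) n a (fun j hj => by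
      have hh := hcoef 0 j
      simp [show ¬(n + 1 ≤ j) by omega] at hh
      rw [hh]; ring)
    exact hr ▸ hm r
  · obtain ⟨r, hr⟩ := recursion _ hπ0 (fun j => MvPowerSeries.coeff (e 1 j) f) (n - 1) b (fun j hj => by
      have hh := hcoef 1 j
      simp [show ¬(n + 1 ≤ j) by omega, show ¬(n ≤ j) by omega] at hh
      rw [hh]; ring)
    exact hr ▸ hm r

end Groth.Agent.S14909
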