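import Groth.Statements.S14918
import Groth.Agent.PerfSch.Transfer

set_option autoImplicit false
universe u
open CategoryTheory AlgebraicGeometry
open PerfSch

open CategoryTheory CategoryTheory.Limits AlgebraicGeometry

set_option backward.isDefEq.respectTransparency.types false
set_option backward.isDefEq.respectTransparency false

namespace Groth.Agent.S14918

/-- Let p be a prime and let X, Y, X', Y' be schemes of characteristic p (p = 0 in the structure sheaf).
Let π_X : X' ⟶ X and π_Y : Y' ⟶ Y be perfections: X' is perfect (its absolute Frobenius is an
isomorphism) and every morphism from a perfect scheme of characteristic p to X factors uniquely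
through π_X, and likewise for π_Y. Let f : X ⟶ Y be a morphism and f' : X' ⟶ Y' the induced morphism
of perfections, the one with f' ≫ π_Y = π_X ≫ f. Then f is a universal homeomorphism (every base
change is a homeomorphism of underlying spaces) if and only if f' is a universal homeomorphism
(every base change is a homeomorphism of underlying spaces). -/
theorem result (p : ℕ) [Fact p.Prime] {X Y XP YP : Scheme.{u}}
    [FrobSch.IsCharP X p] [FrobSch.IsCharP Y p] [FrobSch.IsCharP XP p] [FrobSch.IsCharP YP p]
    (πX : XP ⟶ X) (πY : YP ⟶ Y) (hX : FrobSch.IsPerfection πX p) (hY : FrobSch.IsPerfection πY p)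
    (f : X ⟶ Y) (fP : XP ⟶ YP) (w : fP ≫ πY = πX ≫ f) :
    FlatMor.IsUnivHomeo f ↔ FlatMor.IsUnivHomeo fP := by
  have := Groth.Agent.PerfSch.Perfection.surjective hX
  have := Groth.Agent.PerfSch.Perfection.universallyClosed hX
  have := Groth.Agent.PerfSch.Perfection.isAffineHom hX
  have := Groth.Agent.PerfSch.Perfection.isAffineHom hY
  have := Groth.Agent.PerfSch.Perfection.universallyClosed hY
  have := Groth.Agent.PerfSch.Perfection.surjective hY
  have := Groth.Agent.PerfSch.Perfection.universallyInjective hY
  have := Groth.Agent.PerfSch.Perfection.universallyInjective hX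
  rw [Groth.Agent.PerfSch.Perfect.isUnivHomeo_iff, Groth.Agent.PerfSch.Perfect.isUnivHomeo_iff]
  constructor
  · rintro ⟨h1, h2, h3⟩
    have h1' : UniversallyInjective (fP ≫ πY) := by
      rw [w]; exact MorphismProperty.comp_mem _ _ _ inferInstance h1
    have : Surjective (fP ≫ πY) := by rw [w]; infer_instance
    have : UniversallyClosed (fP ≫ πY) := by rw [w]; infer_instance
    exact ⟨Groth.Agent.PerfSch.Transfer.universallyInjective_of_comp fP πY,
      Groth.Agent.PerfSch.Transfer.surjective_of_comp_injective fP πY πY.injective,
      MorphismProperty.of_postcomp (W := @UniversallyClosed) (W' := @IsSeparated) fP πY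
        inferInstance this⟩
  · rintro ⟨h1, h2, h3⟩
    have : UniversallyInjective (πX ≫ f) := by
      rw [← w]; exact MorphismProperty.comp_mem _ _ _ h1 inferInstance
    have : Surjective (πX ≫ f) := by rw [← w]; infer_instance
    have : UniversallyClosed (πX ≫ f) := by rw [← w]; infer_instance
    exact ⟨Groth.Agent.PerfSch.Transfer.universallyInjective_of_comp_surjective πX f,
      Surjective.of_comp πX f, UniversallyClosed.of_comp_surjective πX f⟩

end Groth.Agent.S14918
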