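import Groth.Statements.S14929
import Groth.Agent.PerfSch.Perfect
import Mathlib.AlgebraicGeometry.Morphisms.Integral
import Mathlib.FieldTheory.PurelyInseparable.Basic

set_option autoImplicit false
universe u
open CategoryTheory CategoryTheory.Limits AlgebraicGeometry
open Variety

namespace Groth.Agent.S14929

/-- Let p be a prime and X a scheme of characteristic p (p is zero in the structure sheaf). Then the
absolute Frobenius F_X : X → X, the identity on the underlying space with g ↦ g^p on sections, is a
universal homeomorphism (every base change of it is a homeomorphism), is integral, and induces a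
purely inseparable extension of residue fields κ(x) → κ(x) at every point x of X. -/
theorem result (p : ℕ) [Fact p.Prime]
    (X : Scheme.{u}) [FrobSch.IsCharP X p] :
    FlatMor.IsUnivHomeo (FrobSch.frob X p) ∧ IsIntegralHom (FrobSch.frob X p) ∧
      ∀ x : X, ((FrobSch.frob X p).residueFieldMap x).hom.IsPurelyInseparable := by
  have hint : IsIntegralHom (FrobSch.frob X p) := by
    have : IsAffineHom (FrobSch.frob X p) := ⟨fun U hU => by rwa [FrobSch.frob_preimage]⟩
    refine { isIntegral_app := fun U hU => ?_ }
    have key : ∀ (R : Type u) [CommRing R] (f : R →+* R), (∀ r, f r = r ^ p) → f.IsIntegral := fun R _ f hf r =>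
      ⟨Polynomial.X ^ p - Polynomial.C r, Polynomial.monic_X_pow_sub_C _ (Fact.out : p.Prime).ne_zero, by
        rw [Polynomial.eval₂_sub, Polynomial.eval₂_X_pow, Polynomial.eval₂_C, hf, sub_self]⟩
    exact key Γ(X, U) ((FrobSch.frob X p).app U).hom fun r => rfl
  have hres : ∀ x : X, ((FrobSch.frob X p).residueFieldMap x).hom.IsPurelyInseparable := fun x => by
    letI := ((FrobSch.frob X p).residueFieldMap x).hom.toAlgebra
    show IsPurelyInseparable _ _
    have : CharP (X.residueField ((FrobSch.frob X p) x)) p := Groth.Agent.PerfSch.Perfect.charP_residueField _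
    rw [isPurelyInseparable_iff_pow_mem _ p]
    intro b
    refine ⟨1, ?_⟩
    rw [pow_one]
    obtain ⟨t, rfl⟩ := X.residue_surjective x b
    obtain ⟨U, hxU, s, rfl⟩ := X.presheaf.exists_germ_eq t
    refine ⟨X.residue ((FrobSch.frob X p) x) (X.presheaf.germ U ((FrobSch.frob X p) x) hxU s), ?_⟩
    show ((FrobSch.frob X p).residueFieldMap x) _ = _
    rw [← ConcreteCategory.comp_apply, Scheme.residue_residueFieldMap, ConcreteCategory.comp_apply,
      Scheme.Hom.germ_stalkMap_apply, FrobSch.frob_app]
    exact (congrArg (X.residue x) (map_pow (X.presheaf.germ U x hxU).hom s p)).trans (map_pow (X.residue x).hom _ p)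
  refine ⟨(Groth.Agent.PerfSch.Perfect.isUnivHomeo_iff _).2 ⟨?_, ⟨fun x => ⟨x, rfl⟩⟩, inferInstance⟩, hint, hres⟩
  exact ((tfae_universallyInjective _).out 0 2 rfl rfl).2 ⟨fun a b h => h, hres⟩

end Groth.Agent.S14929
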