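import Groth.Statements.S1493
import Groth.Agent.S8855
import Groth.Agent.Synt44.CISpread
import Mathlib.RingTheory.RegularLocalRing.Polynomial

set_option autoImplicit false
universe u
attribute [local instance] HasDerivedCategory.standard
open FlatMor

namespace Groth.Agent.S1493

open AlgebraicGeometry CategoryTheory in
theorem isRegularRing_section {X : Scheme.{u}} [IsLocallyNoetherian X]
    (hX : ∀ x : X, IsRegularLocalRing ↑(X.presheaf.stalk x)) {U : X.Opens} (hU : IsAffineOpen U) :
    IsRegularRing Γ(X, U) := by
  haveI : IsNoetherianRing Γ(X, U) := IsLocallyNoetherian.component_noetherian ⟨U, hU⟩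
  rw [isRegularRing_iff]
  intro p hp
  let z : PrimeSpectrum Γ(X, U) := ⟨p, hp⟩
  have hz : hU.fromSpec z ∈ U := by
    have := hU.range_fromSpec ▸ Set.mem_range_self (f := hU.fromSpec) z
    exact this
  haveI := hX (hU.fromSpec z)
  letI := (X.presheaf.germ U (hU.fromSpec z) hz).hom.toAlgebra
  haveI hl : IsLocalization.AtPrime (X.presheaf.stalk (hU.fromSpec z)) p := hU.isLocalization_stalk' z hz
  exact IsRegularLocalRing.of_ringEquiv
    (IsLocalization.algEquiv p.primeCompl (X.presheaf.stalk (hU.fromSpec z)) (Localization.AtPrime p)).toRingEquiv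

/-- A finite type algebra which is regular, over a regular ring, is a local complete intersection. -/
theorem isLCI_of_isRegularRing {A B : Type u} [CommRing A] [CommRing B] [Algebra A B]
    [Algebra.FiniteType A B] [IsRegularRing A] [IsRegularRing B] : LCI.IsLCI A B := by
  obtain ⟨n, f, hf⟩ := Algebra.FiniteType.iff_quotient_mvPolynomial''.1 (inferInstance : Algebra.FiniteType A B)
  refine ⟨inferInstance, n, f, hf, fun p hIP => ?_⟩
  let P := p.asIdeal
  haveI : IsNoetherianRing (MvPolynomial (Fin n) A) := inferInstance
  haveI : IsRegularLocalRing (Localization.AtPrime P) := IsRegularRing.isRegularLocalRing_localization P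
  let q : Ideal B := P.map f.toRingHom
  haveI : q.IsPrime := Ideal.map_isPrime_of_surjective hf hIP
  have hq : q.comap f.toRingHom = P := by
    rw [Ideal.comap_map_of_surjective f.toRingHom hf, ← RingHom.ker_eq_comap_bot, sup_eq_left]
    exact hIP
  obtain ⟨π, hπ, hkπ⟩ : ∃ π : Localization.AtPrime P →+* Localization.AtPrime q, Function.Surjective π ∧
      RingHom.ker π = (RingHom.ker f.toRingHom).map (algebraMap _ (Localization.AtPrime P)) := by
    have hT : P.primeCompl.map f.toRingHom = q.primeCompl := by
      ext y
      constructor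
      · rintro ⟨x, hx, rfl⟩ hxq
        exact hx (hq ▸ hxq : x ∈ P)
      · intro hy
        obtain ⟨x, rfl⟩ := hf y
        exact ⟨x, fun hx => hy (Ideal.mem_map_of_mem _ hx), rfl⟩
    haveI : IsLocalization (P.primeCompl.map f.toRingHom) (Localization.AtPrime q) := by
      rw [hT]; infer_instance
    exact ⟨IsLocalization.map (S := Localization.AtPrime P) (T := P.primeCompl.map f.toRingHom)
        (Localization.AtPrime q) f.toRingHom P.primeCompl.le_comap_map,
      IsLocalization.map_surjective_of_surjective (M := P.primeCompl) (S := Localization.AtPrime P)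
        (Q := Localization.AtPrime q) (g := f.toRingHom) (h := hf),
      IsLocalization.ker_map (Q := Localization.AtPrime q) (S := Localization.AtPrime P) (g := f.toRingHom) rfl⟩
  haveI : IsRegularLocalRing (Localization.AtPrime q) := IsRegularRing.isRegularLocalRing_localization q
  haveI : IsRegularLocalRing (Localization.AtPrime P ⧸ RingHom.ker π) :=
    IsRegularLocalRing.of_ringEquiv (RingHom.quotientKerEquivOfSurjective hπ).symm
  obtain ⟨ts, hts, hker⟩ := S8855.exists_isWeaklyRegular (RingHom.ker π)
  obtain ⟨g, hg, l, hl, hI⟩ := Synt44.exists_away_of_regular_atPrime (RingHom.ker f.toRingHom) P ts hts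
    (hker.symm.trans hkπ)
  exact ⟨g, hg, l, hl, hI⟩

open AlgebraicGeometry CategoryTheory Limits in
/-- Let f : X → Y be locally of finite type with X and Y regular (locally Noetherian with regular local
rings). Then f is a local complete intersection morphism (affine-locally: local complete
intersection ring maps). -/
theorem result {X Y : Scheme.{u}} (f : X ⟶ Y) [LocallyOfFiniteType f] [IsLocallyNoetherian X] [IsLocallyNoetherian Y]
    (hX : ∀ x : X, IsRegularLocalRing ↑(X.presheaf.stalk x)) (hY : ∀ y : Y, IsRegularLocalRing ↑(Y.presheaf.stalk y)) :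
    (∀ (U : X.Opens) (V : Y.Opens) (hU : IsAffineOpen U) (hV : IsAffineOpen V) (hUV : U ≤ f ⁻¹ᵁ V),
        letI := (f.appLE V U hUV).hom.toAlgebra
        LCI.IsLCI Γ(Y, V) Γ(X, U)) := by
  intro U V hU hV hUV
  letI := (f.appLE V U hUV).hom.toAlgebra
  haveI : Algebra.FiniteType Γ(Y, V) Γ(X, U) := f.finiteType_appLE hV hU hUV
  haveI := isRegularRing_section hX hU
  haveI := isRegularRing_section hY hV
  exact isLCI_of_isRegularRing

end Groth.Agent.S1493
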