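import Groth.Statements.S14930
import Groth.Agent.PerfSch.Perfect
import Groth.Agent.S14929
import Mathlib.AlgebraicGeometry.Morphisms.Integral
import Mathlib.AlgebraicGeometry.Morphisms.UniversallyInjective

set_option autoImplicit false
universe u
open CategoryTheory CategoryTheory.Limits AlgebraicGeometry
open Variety

namespace Groth.Agent.S14930

/-- Let p be a prime, S a scheme of characteristic p (p is zero in the structure sheaf) and f : X → S a
morphism of schemes. Then the relative Frobenius F_{X/S} : X → X^(p), where X^(p) = X ×_{S,F_S} S is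
the base change of X along the absolute Frobenius of S and F_{X/S} is the morphism over S whose
composite with the projection X^(p) → X is the absolute Frobenius of X, is a universal homeomorphism
(every base change of it is a homeomorphism), is integral, and induces a purely inseparable
extension of residue fields at every point of X. -/
theorem result (p : ℕ) [Fact p.Prime]
    {X S : Scheme.{u}} [FrobSch.IsCharP S p] (f : X ⟶ S) :
    FlatMor.IsUnivHomeo (FrobSch.relFrob f p) ∧ IsIntegralHom (FrobSch.relFrob f p) ∧
      ∀ x : X, ((FrobSch.relFrob f p).residueFieldMap x).hom.IsPurelyInseparable := by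
  have hX : FrobSch.IsCharP X p := FrobSch.IsCharP.of_hom f p
  obtain ⟨hS, hSint, hSres⟩ := Groth.Agent.S14929.result p S
  obtain ⟨hSinj, hSsurj, -⟩ := (Groth.Agent.PerfSch.Perfect.isUnivHomeo_iff _).1 hS
  obtain ⟨hXh, hXint, hXres⟩ := Groth.Agent.S14929.result p X
  obtain ⟨hXinj, hXsurj, -⟩ := (Groth.Agent.PerfSch.Perfect.isUnivHomeo_iff _).1 hXh
  let q := CategoryTheory.Limits.pullback.fst f (FrobSch.frob S p)
  let F := FrobSch.relFrob f p
  have hFq : F ≫ q = FrobSch.frob X p := FrobSch.relFrob_fst f p
  have hq : IsIntegralHom q := inferInstance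
  have hqi : UniversallyInjective q :=
    MorphismProperty.pullback_fst (P := @UniversallyInjective) f (FrobSch.frob S p) hSinj
  have hint : IsIntegralHom F :=
    MorphismProperty.of_postcomp (W := @IsIntegralHom) (W' := @IsSeparated) F q inferInstance (by rw [hFq]; exact hXint)
  have hinj : UniversallyInjective F := by
    refine ((tfae_universallyInjective F).out 0 1 rfl rfl).2 fun K _ g₁ g₂ hg => ?_
    refine ((tfae_universallyInjective (FrobSch.frob X p)).out 0 1 rfl rfl).1 hXinj K ?_
    simpa only [← hFq, Category.assoc] using congrArg (· ≫ q) hg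
  have hsurj : Surjective F := ⟨fun y => ⟨q y, by
    apply q.injective
    rw [← Scheme.Hom.comp_apply, hFq, FrobSch.frob_apply]⟩⟩
  exact ⟨(Groth.Agent.PerfSch.Perfect.isUnivHomeo_iff _).2 ⟨hinj, hsurj, inferInstance⟩, hint,
    (((tfae_universallyInjective F).out 0 2 rfl rfl).1 hinj).2⟩

end Groth.Agent.S14930
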