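import Groth.Statements.S14932
import Groth.Agent.CVar22.FrobDegree
import Groth.Agent.Weil.Frob
import Groth.Agent.S14930
import Groth.Agent.S1544
import Groth.Agent.VarDim.Scheme
import Groth.Agent.CycLib.DimFun

set_option autoImplicit false
universe u
open CategoryTheory CategoryTheory.Limits AlgebraicGeometry
open Variety

namespace Groth.Agent.S14932

/-- Let k be a field of characteristic p > 0 and X a variety over k (an integral scheme, separated and
of finite type over k) which is geometrically reduced over k, of dimension d. Then the Frobenius
twist X^(p) = X ×_{Spec k, F_k} Spec k, the base change of X along the absolute Frobenius of Spec k,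
is an integral scheme, and the relative Frobenius F_{X/k} : X → X^(p) has degree p^d: the residue
field of the generic point of X is an extension of degree p^d of the residue field of its image in
X^(p). (The published item also says that X^(p) is separated and of finite type over k and that
F_{X/k} is finite and dominant; these hold for every base change of a separated morphism of finite
type, respectively for the relative Frobenius of every scheme locally of finite type over a base of
characteristic p, and are not restated. It also states the equivalence of: X^(p) reduced, X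
geometrically reduced, X has a nonempty open smooth over k; that equivalence is not part of this
row.) -/
theorem result (k : Type u) [Field k]
    (p : ℕ) [Fact p.Prime] [CharP k p] (X : Scheme.{u}) [X.Over (Spec (CommRingCat.of k))] [IsIntegral X]
    [IsSeparated (X ↘ (Spec (CommRingCat.of k)))] [LocallyOfFiniteType (X ↘ (Spec (CommRingCat.of k)))] [QuasiCompact (X ↘ (Spec (CommRingCat.of k)))]
    [GeometricallyReduced (X ↘ (Spec (CommRingCat.of k)))] (d : ℕ) (hd : topologicalKrullDim X = d) :
    IsIntegral (FrobSch.frobTwist (X ↘ (Spec (CommRingCat.of k))) p) ∧
      (FrobSch.relFrob (X ↘ (Spec (CommRingCat.of k))) p).residueDegree (genericPoint X) = p ^ d := by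
  set qX := X ↘ (Spec (CommRingCat.of k)) with hqX
  haveI : FrobSch.IsCharP X p := FrobSch.IsCharP.of_hom qX p
  obtain ⟨hhomeo, -, -⟩ := Groth.Agent.S14930.result p qX
  -- integrality of the twist
  haveI : IsReduced (FrobSch.frobTwist qX p) :=
    GeometricallyReduced.geometrically_isReduced (f := qX) _ _ _ (IsPullback.of_hasPullback _ _)
  haveI : IrreducibleSpace (FrobSch.frobTwist qX p) := by
    obtain ⟨-, hsurj, -⟩ := (Groth.Agent.PerfSch.Perfect.isUnivHomeo_iff _).1 hhomeo
    have h := (IrreducibleSpace.isIrreducible_univ X).image (FrobSch.relFrob qX p)
      (FrobSch.relFrob qX p).continuous.continuousOn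
    rw [Set.image_univ, Set.range_eq_univ.mpr hsurj.surj] at h
    exact { toNonempty := ⟨h.nonempty.some⟩, isPreirreducible_univ := h.2 }
  refine ⟨isIntegral_of_irreducibleSpace_of_isReduced _, ?_⟩
  -- the degree
  set η := genericPoint X
  letI : Algebra k (X.residueField η) := Curv2.resMap k X η |>.toAlgebra
  haveI : CharP (X.residueField η) p :=
    charP_of_injective_algebraMap (algebraMap k (X.residueField η)).injective p
  haveI : Algebra.EssFiniteType k (X.residueField η) := Weil.essFiniteType_structMap qX η
  haveI : Algebra.IsGeometricallyReduced k (X.residueField η) := by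
    letI := Curv2.stalkAlgebra k X η
    have hg : Algebra.IsGeometricallyReduced k (X.presheaf.stalk η) :=
      (Groth.Agent.S1544.result k X).mp ‹_›
    let ρ : X.presheaf.stalk η →ₐ[k] X.residueField η :=
      { (X.residue η).hom with commutes' := fun _ => rfl }
    have hρ : Function.Bijective ρ := by
      refine ⟨fun a b h => ?_, X.residue_surjective η⟩
      have hF : IsField (X.presheaf.stalk η) := Field.toIsField X.functionField
      let := hF.toField
      exact RingHom.injective (X.residue η).hom h
    exact Algebra.IsGeometricallyReduced.of_injective (AlgEquiv.ofBijective ρ hρ).symm.toAlgHom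
      (AlgEquiv.ofBijective ρ hρ).symm.injective
  have htr : Algebra.trdeg k (X.residueField η) = d := by
    have h := VarDim.trdeg_residueField k X η
    have hdim : VarDim.dimPt k X η = d := by
      rw [VarDim.topologicalKrullDim_eq_iSup k] at hd
      have hle : ∀ y : X, VarDim.dimPt k X y ≤ VarDim.dimPt k X η := fun y => by
        rcases eq_or_ne y η with rfl | hne
        · exact le_rfl
        · exact (VarDim.dimPt_lt_of_lt k (CycLib.lt_iff.mpr ⟨genericPoint_specializes y, hne.symm⟩)).le
      have : (⨆ y : X, (VarDim.dimPt k X y : WithBot ℕ∞)) = (VarDim.dimPt k X η : WithBot ℕ∞) :=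
        le_antisymm (iSup_le fun y => by exact_mod_cast hle y)
          (le_iSup (fun y : X => (VarDim.dimPt k X y : WithBot ℕ∞)) η)
      rw [this] at hd
      exact_mod_cast hd
    rw [hdim] at h
    exact h
  set ψ := ((FrobSch.relFrob qX p).residueFieldMap η).hom
  refine CVar22.finrank_of_range_eq p k (X.residueField η) d htr _ ψ ?_
  rw [RingHom.fieldRange_eq_map,
    ← Weil.residueField_closure_eq_top (IsPullback.of_hasPullback qX (FrobSch.frob (Spec (CommRingCat.of k)) p))
      (FrobSch.relFrob qX p η),
    RingHom.map_field_closure, Set.image_union]
  congr 2
  rw [Set.union_comm]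
  congr 1
  · rw [← Weil.range_residueFieldMap_comp,
      Weil.range_residueFieldMap_congr (FrobSch.relFrob_snd qX p),
      Weil.range_residueFieldMap_base]
    rfl
  · rw [← Weil.range_residueFieldMap_comp,
      Weil.range_residueFieldMap_congr (FrobSch.relFrob_fst qX p)]
    exact Weil.range_residueFieldMap_powEndo (FrobSch.frob X p) p (FrobSch.frob_base X p)
      (fun U => le_rfl) (fun U s => by
        erw [Scheme.Hom.appLE_eq_app, FrobSch.frob_app]) η

end Groth.Agent.S14932
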