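import Groth.Statements.S14933
import Groth.Agent.Omega.Basic
import Groth.Agent.ProjMorph.PullGen
import Mathlib.AlgebraicGeometry.Morphisms.Flat

set_option autoImplicit false
universe u
open CategoryTheory CategoryTheory.Limits AlgebraicGeometry
open Variety

namespace Groth.Agent.S14933

open AlgebraicGeometry Limits OmegaSh TopologicalSpace Opposite

/-- A derivation over `S` kills the functions coming from the Frobenius twist. -/
theorem der_relFrob_appLE (p : ℕ) [Fact p.Prime] {X S : Scheme.{u}} [FrobSch.IsCharP S p] (f : X ⟶ S)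
    {Ω : X.Modules} (d : OmegaSh.Der f Ω) (W : (FrobSch.frobTwist f p).Opens) (c : Γ(FrobSch.frobTwist f p, W)) :
    d.app (FrobSch.relFrob f p ⁻¹ᵁ W) ((FrobSch.relFrob f p).app W c) = 0 := by
  haveI hX : FrobSch.IsCharP X p := FrobSch.IsCharP.of_hom f p
  let F := FrobSch.relFrob f p
  let pr₁ := pullback.fst f (FrobSch.frob S p)
  let pr₂ := pullback.snd f (FrobSch.frob S p)
  refine TopCat.Presheaf.section_ext ⟨Ω.presheaf, Ω.isSheaf⟩ _ _ _ fun x hx => ?_
  obtain ⟨_, ⟨V, hV, rfl⟩, hxV, -⟩ := S.isBasis_affineOpens.exists_subset_of_mem_open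
    (a := f x) (Set.mem_univ _) isOpen_univ
  obtain ⟨_, ⟨U, hU, rfl⟩, hxU, hUV⟩ := X.isBasis_affineOpens.exists_subset_of_mem_open
    (a := x) (u := (f ⁻¹ᵁ V : X.Opens)) hxV (f ⁻¹ᵁ V).2
  have hUV' : U ≤ f ⁻¹ᵁ V := hUV
  have hVV : V ≤ FrobSch.frob S p ⁻¹ᵁ V := le_of_eq (FrobSch.frob_preimage S p V).symm
  let W₀ : (FrobSch.frobTwist f p).Opens := pr₁ ⁻¹ᵁ U ⊓ pr₂ ⁻¹ᵁ V
  have H := IsPullback.of_hasPullback f (FrobSch.frob S p)
  have hW₀ : IsAffineOpen W₀ := by
    haveI : IsAffine (V : Scheme) := hV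
    haveI : IsAffine (U : Scheme) := hU
    exact .of_isIso (Scheme.Hom.isPullback_resLE H hVV hUV' (UY := W₀) rfl).isoPullback.hom
  have hgen := Groth.Agent.ProjMorph.subring_closure_of_isPushout
    ((isIso_pushoutSection_iff H hVV hUV' (UY := W₀) rfl).mp
      (isIso_pushoutSection_of_isAffineOpen H hVV hUV' rfl hV hV hU))
  have hxW₀ : F x ∈ W₀ := by
    refine ⟨?_, ?_⟩
    · show pr₁ (F x) ∈ U
      rw [← Scheme.Hom.comp_apply, FrobSch.relFrob_fst, FrobSch.frob_apply]; exact hxU
    · show pr₂ (F x) ∈ V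
      rw [← Scheme.Hom.comp_apply, FrobSch.relFrob_snd]; exact hxV
  obtain ⟨t, htW, hxt⟩ := hW₀.exists_basicOpen_le (V := W) ⟨F x, hx⟩ hxW₀
  have hO₁ : ∀ O : X.Opens, O ≤ F ⁻¹ᵁ W₀ → O ≤ U := fun O e y hy => by
    have h : pr₁ (F y) ∈ U := (e hy).1
    rwa [← Scheme.Hom.comp_apply, FrobSch.relFrob_fst, FrobSch.frob_apply] at h
  -- the kernel of `d` on an open inside `F ⁻¹ W₀` contains all functions from `W₀`
  have key : ∀ (O : X.Opens) (e : O ≤ F ⁻¹ᵁ W₀) (z : Γ(FrobSch.frobTwist f p, W₀)),
      d.app O (F.appLE W₀ O e z) = 0 := by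
    intro O e z
    let T : Subring Γ(X, O) :=
      { carrier := {a | d.app O a = 0}
        mul_mem' := fun {a b} ha hb => by
          show d.app O (a * b) = 0
          rw [Omega.Basic.der_mul, ha, hb, smul_zero, smul_zero, add_zero]
        one_mem' := Omega.Basic.der_one d O
        add_mem' := fun {a b} ha hb => by
          show d.app O (a + b) = 0
          rw [map_add, ha, hb, add_zero]
        zero_mem' := map_zero _
        neg_mem' := fun {a} ha => by
          show d.app O (-a) = 0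
          rw [map_neg, ha, neg_zero] }
    refine (?_ : (⊤ : Subring _) ≤ T.comap (F.appLE W₀ O e).hom) (Subring.mem_top z)
    rw [← hgen, Subring.closure_le]
    rintro _ (⟨b, rfl⟩ | ⟨a, rfl⟩)
    · show d.app O (F.appLE W₀ O e (pr₁.appLE U W₀ inf_le_left b)) = 0
      rw [← ConcreteCategory.comp_apply, Scheme.Hom.appLE_comp_appLE]
      rw [OmegaSh.appLE_congr_hom (FrobSch.relFrob_fst f p) _
        (le_trans (hO₁ O e) (le_of_eq (FrobSch.frob_preimage X p U).symm)), Scheme.Hom.appLE,
        ConcreteCategory.comp_apply, FrobSch.frob_app]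
      have hpow : ∀ (q : Γ(X, O)) (m : ℕ), d.app O (q ^ (m + 1)) = ((m + 1 : ℕ) : Γ(X, O)) • (q ^ m • d.app O q) := by
        intro q m
        induction m with
        | zero => simp
        | succ m ih =>
          rw [pow_succ, Omega.Basic.der_mul, ih, smul_smul, smul_smul, smul_smul, ← add_smul]
          congr 1
          push_cast
          ring
      have hpow' : ∀ q : Γ(X, O), d.app O (q ^ p) = 0 := fun q => by
        obtain ⟨m, hm⟩ : ∃ m, p = m + 1 := ⟨p - 1, (Nat.sub_add_cancel (Fact.out : p.Prime).pos).symm⟩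
        have h0 : ((m + 1 : ℕ) : Γ(X, O)) = 0 := by rw [← hm]; exact FrobSch.natCast_eq_zero_app X p O
        rw [hm, hpow, h0, zero_smul]
      exact (congrArg (d.app O) (map_pow (X.presheaf.map _).hom b p)).trans (hpow' _)
    · show d.app O (F.appLE W₀ O e (pr₂.appLE V W₀ inf_le_right a)) = 0
      rw [← ConcreteCategory.comp_apply, Scheme.Hom.appLE_comp_appLE]
      rw [OmegaSh.appLE_congr_hom (FrobSch.relFrob_snd f p) _ ((hO₁ O e).trans hUV')]
      exact Omega.Basic.der_appLE d V O _ a
  let O : X.Opens := F ⁻¹ᵁ (FrobSch.frobTwist f p).basicOpen t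
  have hO : O ≤ F ⁻¹ᵁ W₀ := F.preimage_mono ((FrobSch.frobTwist f p).basicOpen_le t)
  have hO' : O ≤ F ⁻¹ᵁ W := F.preimage_mono htW
  haveI := hW₀.isLocalization_basicOpen t
  obtain ⟨⟨a, ⟨_, n, rfl⟩⟩, ha⟩ := IsLocalization.surj (Submonoid.powers t)
    ((FrobSch.frobTwist f p).presheaf.map (homOfLE htW).op c)
  have ha' : (FrobSch.frobTwist f p).presheaf.map (homOfLE htW).op c *
      (FrobSch.frobTwist f p).presheaf.map (homOfLE ((FrobSch.frobTwist f p).basicOpen_le t)).op (t ^ n) =
      (FrobSch.frobTwist f p).presheaf.map (homOfLE ((FrobSch.frobTwist f p).basicOpen_le t)).op a := ha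
  have hmain : d.app O (X.presheaf.map (homOfLE hO').op (F.app W c)) = 0 := by
    have h1 := congrArg (F.appLE _ O le_rfl) ha'
    rw [map_mul] at h1
    simp only [← ConcreteCategory.comp_apply, Scheme.Hom.map_appLE] at h1
    have hu : IsUnit (F.appLE W₀ O hO (t ^ n)) := by
      rw [map_pow]
      refine IsUnit.pow n ?_
      have := ((FrobSch.frobTwist f p).toRingedSpace.isUnit_res_basicOpen t).map (F.appLE _ O le_rfl).hom
      rw [← Scheme.Hom.map_appLE F le_rfl (homOfLE ((FrobSch.frobTwist f p).basicOpen_le t)).op]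
      exact this
    have h2 : d.app O (F.appLE W O hO' c * F.appLE W₀ O hO (t ^ n)) = 0 := h1 ▸ key O hO a
    rw [Omega.Basic.der_mul, key, smul_zero, zero_add] at h2
    exact hu.smul_eq_zero.mp h2
  rw [Omega.Basic.der_map] at hmain
  refine (Ω.presheaf.germ_res_apply (homOfLE hO') x hxt _).symm.trans ?_
  rw [hmain]
  exact (map_zero _).trans (map_zero _).symm

/-- Let p be a prime, S a scheme of characteristic p (p is zero in the structure sheaf) and f : X → S a
morphism of schemes, with relative Frobenius F_{X/S} : X → X^(p) = X ×_{S,F_S} S over S. Then the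
sheaf of differentials of X over S is also the sheaf of differentials of X over X^(p): if Ω is an
O_X-module and d : O_X → Ω a universal S-derivation, then d kills every section coming from X^(p),
i.e. there is a derivation O_X → Ω relative to F_{X/S} with the same values as d, and that
derivation is universal among derivations relative to F_{X/S}. -/
theorem result (p : ℕ) [Fact p.Prime]
    {X S : Scheme.{u}} [FrobSch.IsCharP S p] (f : X ⟶ S)
    (Ω : X.Modules) (d : OmegaSh.Der f Ω) (hd : OmegaSh.IsUniversal d) :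
    ∃ d' : OmegaSh.Der (FrobSch.relFrob f p) Ω,
      (∀ (U : X.Opens) (s : Γ(X, U)), d'.app U s = d.app U s) ∧ OmegaSh.IsUniversal d' := by
  let d' : OmegaSh.Der (FrobSch.relFrob f p) Ω :=
    { d := d.d
      d_mul := d.d_mul
      d_map := d.d_map
      d_app := fun {W} c => der_relFrob_appLE p f d W.unop c }
  refine ⟨d', fun _ _ => rfl, fun G D => ?_⟩
  let D₀ : OmegaSh.Der f G :=
    { d := D.d
      d_mul := D.d_mul
      d_map := D.d_map
      d_app := fun {V} c => by
        have h := Omega.Basic.der_appLE D (pullback.snd f (FrobSch.frob S p) ⁻¹ᵁ V.unop) (f ⁻¹ᵁ V.unop)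
          (le_of_eq (by rw [← Scheme.Hom.comp_preimage, FrobSch.relFrob_snd]))
          ((pullback.snd f (FrobSch.frob S p)).app V.unop c)
        rw [Scheme.Hom.app_eq_appLE, ← ConcreteCategory.comp_apply, Scheme.Hom.appLE_comp_appLE] at h
        simp only [FrobSch.relFrob_snd, ← Scheme.Hom.app_eq_appLE] at h
        exact h }
  obtain ⟨α, hα, huniq⟩ := hd G D₀
  refine ⟨α, (Omega.Basic.postcomp_eq_iff d' α D).mpr fun U s => ?_, fun β hβ => huniq β ?_⟩
  · exact (Omega.Basic.postcomp_eq_iff d α D₀).mp hα U s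
  · exact (Omega.Basic.postcomp_eq_iff d β D₀).mpr fun U s =>
      (Omega.Basic.postcomp_eq_iff d' β D).mp hβ U s

end Groth.Agent.S14933
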