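import Groth.Statements.S15655
import Groth.Agent.S7782
import Groth.Agent.DiagRig.Kernel
import Groth.Agent.GrpScheme.SubgroupObj
import Groth.Agent.AbVarLib.Image
import Groth.Agent.AbVarLib.Isogeny

set_option autoImplicit false
universe u
open CategoryTheory MonoidalCategory CartesianMonoidalCategory MonObj GrpObj AlgebraicGeometry
open AbVar

namespace Groth.Agent.S15655

/-- Points with the same image under a finite flat isogeny of degree `n` have the same `n`-th power. -/
theorem pow_eq_pow {S : Scheme.{u}} {X Y : Over S} [GrpObj X] [IsCommMonObj X] [GrpObj Y] [IsSeparated Y.hom]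
    (f : X ⟶ Y) [IsMonHom f] [IsFinite f.left] [Flat f.left] [LocallyOfFinitePresentation f.left]
    (n : ℕ) (hdeg : ∀ s : S, Scheme.Hom.finrank f.left (η[Y].left s) = n)
    {T : Over S} (a b : T ⟶ X) (h : a ≫ f = b ≫ f) : a ^ n = b ^ n := by
  have hq : IsPullback (DiagRig.kerι f).left (DiagRig.kerOb f).hom f.left (1 : 𝟙_ (Over S) ⟶ Y).left := by
    have e : (DiagRig.kerOb f).hom = Limits.pullback.snd f.left (1 : 𝟙_ (Over S) ⟶ Y).left := by
      have h := congrArg (· ≫ Y.hom) (Limits.pullback.condition (f := f.left) (g := (1 : 𝟙_ (Over S) ⟶ Y).left))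
      simp only [Category.assoc, Over.w] at h
      exact h.trans (Category.comp_id _)
    rw [e]
    exact IsPullback.of_hasPullback _ _
  have hmul : ∀ {Z : Over S} (x y : Z ⟶ DiagRig.kerOb f),
      ((x ≫ DiagRig.kerι f) * (y ≫ DiagRig.kerι f)) ≫ f = 1 := fun x y => by
    rw [MonObj.mul_comp, DiagRig.kerι_comp', DiagRig.kerι_comp', _root_.one_mul]
  have : Mono (DiagRig.kerι f) := Over.mono_of_mono_left _
  obtain ⟨i, hi⟩ := GrpScheme.SubgroupObj.exists_grpObj (DiagRig.kerι f)
    (by
      obtain ⟨m, hm⟩ := DiagRig.exists_kerLift f _ (hmul (fst _ _) (snd _ _))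
      exact ⟨m, by rw [hm, MonObj.mul_eq_mul, MonObj.comp_mul, tensorHom_fst, tensorHom_snd]⟩)
    ⟨DiagRig.kerUnit f, by rw [DiagRig.kerUnit_ι, MonObj.one_eq_one]⟩
    (by
      obtain ⟨m, hm⟩ := DiagRig.exists_kerLift f (DiagRig.kerι f)⁻¹
        (by rw [GrpObj.inv_comp, DiagRig.kerι_comp, inv_one])
      exact ⟨m, by rw [hm, GrpObj.inv_eq_inv, GrpObj.comp_inv, Category.comp_id]⟩)
  have : IsCommMonObj (DiagRig.kerOb f) := by
    refine ⟨?_⟩
    rw [← cancel_mono (DiagRig.kerι f), Category.assoc, IsMonHom.mul_hom (f := DiagRig.kerι f),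
      ← BraidedCategory.braiding_naturality_assoc, IsCommMonObj.mul_comm X]
  have : IsFinite (DiagRig.kerOb f).hom := MorphismProperty.of_isPullback hq ‹IsFinite f.left›
  have : Flat (DiagRig.kerOb f).hom := MorphismProperty.of_isPullback hq ‹Flat f.left›
  have : LocallyOfFinitePresentation (DiagRig.kerOb f).hom :=
    MorphismProperty.of_isPullback hq ‹LocallyOfFinitePresentation f.left›
  obtain ⟨k, hk⟩ := DiagRig.exists_kerLift f (a * b⁻¹) (by
    rw [MonObj.mul_comp, GrpObj.inv_comp, h, mul_inv_cancel])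
  have hk1 := Groth.Agent.S7782.result (DiagRig.kerOb f) n (fun s => by
    rw [Scheme.Hom.finrank_of_isPullback _ _ _ _ hq s, ← MonObj.one_eq_one]
    exact hdeg s) T k
  have h1 : (a * b⁻¹) ^ n = 1 := by
    rw [← hk, ← MonObj.pow_comp, hk1, MonObj.one_comp]
  rw [mul_pow, inv_pow, mul_inv_eq_one] at h1
  exact h1

/-- A non-zero endomorphism of a simple abelian variety has an inverse up to a positive integer. -/
theorem exists_inverse_nat (k : Type u) [Field k]
    (A : Over (Spec (CommRingCat.of k)))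
    [GrpObj A] [IsCommMonObj A] [IsProper A.hom] [GeometricallyIntegral A.hom]
    (hsimple : ∀ (B : Over (Spec (CommRingCat.of k))) [GrpObj B] [GeometricallyIntegral B.hom] (i : B ⟶ A) [IsMonHom i]
      [IsClosedImmersion i.left], Subsingleton B.left ∨ IsIso i)
    (φ : EndAV.End A) (hφ : φ ≠ 0) :
    ∃ (n : ℕ) (ψ : EndAV.End A), 0 < n ∧ ψ * φ = n ∧ φ * ψ = n := by
  let f : A ⟶ A := φ.toHom
  obtain ⟨C, _, i, g, hi, hg, hgi, hicl, hgsurj, hgflat, hC, hCgeo⟩ := Groth.Agent.AbVarLib.Image.exists_image f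
  rcases hsimple C i with hsub | hiso
  · exfalso
    apply hφ
    haveI := hCgeo
    haveI : IsReduced C.left := by
      haveI : IsIntegral C.left := GeometricallyIntegral.isIntegral_of_subsingleton C.hom
      infer_instance
    let e : 𝟙_ (Over (Spec (CommRingCat.of k))) ⟶ C := η[C]
    haveI := hC
    haveI : IsClosedImmersion (e.left ≫ C.hom) := by
      rw [Over.w e]
      show IsClosedImmersion (𝟙 _)
      infer_instance
    haveI : IsClosedImmersion e.left := IsClosedImmersion.of_comp _ C.hom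
    haveI : Surjective e.left := ⟨fun x => ⟨IsLocalRing.closedPoint k, Subsingleton.elim _ _⟩⟩
    haveI : IsIso e.left := isIso_of_isClosedImmersion_of_surjective e.left
    have he : toUnit C ≫ e = 𝟙 C := Over.OverMorphism.ext <| by
      rw [← cancel_epi e.left]
      have h2 : (e ≫ toUnit C ≫ e).left = e.left := by
        rw [toUnit_unique (e ≫ toUnit C) (𝟙 _) |> fun h => (Category.assoc e (toUnit C) e).symm.trans (congrArg (· ≫ e) h),
          Category.id_comp]
      exact h2.trans (Category.comp_id _).symm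
    apply EndAV.End.ext
    show f = 1
    rw [← hgi, ← Category.comp_id g, ← he, Category.assoc, Category.assoc, IsMonHom.one_hom (f := i),
      ← Category.assoc, toUnit_unique (g ≫ toUnit C) (toUnit A)]
    exact Hom.one_def.symm
  haveI : IsIso i.left := ((Over.forget _).mapIso (asIso i)).isIso_hom
  have hfl : f.left = g.left ≫ i.left := (congrArg CommaMorphism.left hgi).symm
  haveI := hgflat
  haveI := hgsurj
  haveI : Flat f.left := by rw [hfl]; infer_instance
  haveI : Surjective f.left := by rw [hfl]; infer_instance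
  haveI : IsProper (f.left ≫ A.hom) := by rw [Over.w f]; infer_instance
  haveI : IsProper f.left := IsProper.of_comp f.left A.hom
  haveI : CompactSpace A.left := QuasiCompact.compactSpace_of_compactSpace A.hom
  haveI : IsFinite f.left := Groth.Agent.AbVarLib.Isogeny.isFinite_of_flat f rfl
  haveI : IsLocallyNoetherian A.left := LocallyOfFiniteType.isLocallyNoetherian A.hom
  haveI : LocallyOfFiniteType f.left := inferInstance
  haveI : LocallyOfFinitePresentation f.left := inferInstance
  let pt : Spec (CommRingCat.of k) := IsLocalRing.closedPoint k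
  let n := Scheme.Hom.finrank f.left ((η[A] : 𝟙_ (Over (Spec (CommRingCat.of k))) ⟶ A).left pt)
  have hn : 0 < n := (Scheme.Hom.one_le_finrank_iff_surjective f.left).mpr inferInstance _
  have hdeg : ∀ s, Scheme.Hom.finrank f.left ((η[A] : 𝟙_ (Over (Spec (CommRingCat.of k))) ⟶ A).left s) = n := fun s => by
    rw [Subsingleton.elim (α := PrimeSpectrum k) s pt]
  haveI := Flat.epi_of_flat_of_surjective f.left
  haveI hepi : Epi f := Over.epi_of_epi_left f
  have hcomp : ∀ {Z : Scheme.{u}} (g₁ g₂ : Z ⟶ A.left), g₁ ≫ f.left = g₂ ≫ f.left →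
      g₁ ≫ (𝟙 A ^ n).left = g₂ ≫ (𝟙 A ^ n).left := by
    intro Z g₁ g₂ e
    have hw : g₂ ≫ A.hom = g₁ ≫ A.hom := by
      rw [← Over.w f, ← Category.assoc, ← e, Category.assoc]
    let a : Over.mk (g₁ ≫ A.hom) ⟶ A := Over.homMk g₁ rfl
    let b : Over.mk (g₁ ≫ A.hom) ⟶ A := Over.homMk g₂ hw
    have hab : a ≫ f = b ≫ f := Over.OverMorphism.ext e
    have := pow_eq_pow f n hdeg a b hab
    rw [← Category.comp_id a, ← Category.comp_id b, ← MonObj.comp_pow, ← MonObj.comp_pow] at this
    exact congrArg CommaMorphism.left this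
  let gl : A.left ⟶ A.left := EffectiveEpi.desc f.left (𝟙 A ^ n).left hcomp
  have hgl : f.left ≫ gl = (𝟙 A ^ n).left := EffectiveEpi.fac f.left (𝟙 A ^ n).left hcomp
  let v : A ⟶ A := Over.homMk gl (by
    rw [← cancel_epi f.left, ← Category.assoc, hgl, Over.w, Over.w])
  have hv : f ≫ v = 𝟙 A ^ n := Over.OverMorphism.ext hgl
  haveI hN : IsMonHom (𝟙 A ^ n) := by
    rw [← EndAV.End.toHom_natCast]
    infer_instance
  haveI : Epi (f ⊗ₘ f) := by
    have hfs : (@Flat ⊓ @Surjective : MorphismProperty Scheme) f.left := ⟨inferInstance, inferInstance⟩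
    have h2 := MorphismProperty.pullbackMap (P := (@Flat ⊓ @Surjective : MorphismProperty Scheme))
      (f := A.hom) (g := A.hom) (f' := A.hom) (g' := A.hom) hfs hfs (Over.w f).symm (Over.w f).symm
    rw [← Over.tensorHom_left] at h2
    haveI := h2.1
    haveI := h2.2
    haveI : QuasiCompact (f ⊗ₘ f).left := by
      haveI : IsFinite (f ⊗ₘ f).left := by
        rw [Over.tensorHom_left]
        exact MorphismProperty.pullbackMap (P := @IsFinite) (i₁ := f.left) (i₂ := f.left)
          inferInstance inferInstance (Over.w f).symm (Over.w f).symm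
      infer_instance
    haveI := Flat.epi_of_flat_of_surjective (f ⊗ₘ f).left
    exact Over.epi_of_epi_left _
  haveI : IsMonHom v := by
    refine ⟨?_, ?_⟩
    · rw [← IsMonHom.one_hom (f := f), Category.assoc, hv, IsMonHom.one_hom (f := 𝟙 A ^ n), IsMonHom.one_hom (f := f)]
    · rw [← cancel_epi (f ⊗ₘ f), ← Category.assoc, ← IsMonHom.mul_hom (f := f), Category.assoc, hv,
        IsMonHom.mul_hom (f := 𝟙 A ^ n), ← Category.assoc, MonoidalCategory.tensorHom_comp_tensorHom, hv]
  refine ⟨n, EndAV.End.of v, hn, EndAV.End.ext ?_, EndAV.End.ext ?_⟩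
  · rw [EndAV.End.toHom_natCast, EndAV.End.toHom_mul, EndAV.End.toHom_of]
    exact hv
  · rw [EndAV.End.toHom_natCast, EndAV.End.toHom_mul, EndAV.End.toHom_of, ← cancel_epi f, ← Category.assoc, hv,
      MonObj.pow_comp, Category.id_comp, MonObj.comp_pow, Category.comp_id]

open scoped TensorProduct in
theorem exists_tmul_eq {M : Type*} [AddCommGroup M] (x : ℚ ⊗[ℤ] M) : ∃ (q : ℚ) (m : M), x = q ⊗ₜ[ℤ] m := by
  induction x using TensorProduct.induction_on with
  | zero => exact ⟨0, 0, (TensorProduct.zero_tmul ℚ (0 : M)).symm⟩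
  | tmul q m => exact ⟨q, m, rfl⟩
  | add x y hx hy =>
    obtain ⟨q, m, rfl⟩ := hx
    obtain ⟨r, l, rfl⟩ := hy
    refine ⟨((q.den : ℚ) * r.den)⁻¹, (q.num * r.den) • m + (r.num * q.den) • l, ?_⟩
    rw [TensorProduct.tmul_add, ← TensorProduct.smul_tmul, ← TensorProduct.smul_tmul]
    congr 2
    · rw [zsmul_eq_mul, Int.cast_mul, Int.cast_natCast, _root_.mul_inv_rev]
      conv_lhs => rw [← Rat.num_div_den q]
      field_simp
    · rw [zsmul_eq_mul, Int.cast_mul, Int.cast_natCast, _root_.mul_inv_rev]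
      conv_lhs => rw [← Rat.num_div_den r]
      field_simp


/-- Proof step: let A be a simple abelian variety over a field k — a proper, geometrically integral
commutative group scheme over k whose only abelian subvarieties over k (geometrically integral
closed subgroup schemes) are the trivial subgroup and A itself. Then every non-zero element of
End⁰(A) = ℚ ⊗_ℤ End_k(A) (End_k(A) the ring of endomorphisms defined over k) is invertible: End⁰(A)
is a division algebra. (The published proposition is the semisimplicity of End⁰(A) for every abelian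
variety; this row states the step of its proof for simple A.) -/
theorem result (k : Type u) [Field k]
    (A : Over (Spec (CommRingCat.of k)))
    [GrpObj A] [IsCommMonObj A] [IsProper A.hom] [GeometricallyIntegral A.hom]
    (hsimple : ∀ (B : Over (Spec (CommRingCat.of k))) [GrpObj B] [GeometricallyIntegral B.hom] (i : B ⟶ A) [IsMonHom i]
      [IsClosedImmersion i.left], Subsingleton B.left ∨ IsIso i) :
    ∀ x : EndAV.End0 A, x ≠ 0 → IsUnit x := by
  intro x hx
  obtain ⟨q, φ, rfl⟩ := exists_tmul_eq x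
  have hq : q ≠ 0 := fun h => hx (by rw [h, TensorProduct.zero_tmul])
  have hφ : φ ≠ 0 := fun h => hx (by rw [h, TensorProduct.tmul_zero])
  obtain ⟨n, ψ, hn, h1, h2⟩ := exists_inverse_nat k A hsimple φ hφ
  have hone : ∀ r : ℚ, r ⊗ₜ[ℤ] ((n : ℕ) : EndAV.End A) = (r * n) ⊗ₜ[ℤ] (1 : EndAV.End A) := fun r => by
    rw [show ((n : ℕ) : EndAV.End A) = (n : ℤ) • (1 : EndAV.End A) by rw [natCast_zsmul, nsmul_eq_mul, _root_.mul_one],
      ← TensorProduct.smul_tmul, zsmul_eq_mul, Int.cast_natCast, mul_comm]
  have hn' : (n : ℚ) ≠ 0 := by exact_mod_cast hn.ne'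
  refine isUnit_iff_exists.mpr ⟨(q⁻¹ / n) ⊗ₜ[ℤ] ψ, ?_, ?_⟩
  · rw [Algebra.TensorProduct.tmul_mul_tmul, h2, hone, Algebra.TensorProduct.one_def]
    congr 1
    field_simp
  · rw [Algebra.TensorProduct.tmul_mul_tmul, h1, hone, Algebra.TensorProduct.one_def]
    congr 1
    field_simp

end Groth.Agent.S15655
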