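import Groth.Statements.S14942
import Groth.Agent.AbVarLib.CharpolyPow
import Groth.Agent.S15655
-- import your own Groth.Agent.* helpers here

set_option autoImplicit false
universe u
open CategoryTheory MonoidalCategory CartesianMonoidalCategory MonObj GrpObj AlgebraicGeometry
open AbVar

namespace Groth.Agent.S14942

/-- Part 1: let A be a simple abelian variety over a finite field k with q elements — a proper,
geometrically integral commutative group scheme over k whose only abelian subvarieties over k
(geometrically integral closed subgroup schemes) are the trivial subgroup and A itself — with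
q-Frobenius endomorphism π_A (the identity on points, the q-th power map on sections; a
homomorphism). Let Ω be an algebraic closure of k, l a prime invertible in k, and assume (as is the
case) that the l-adic Tate module of Ω-points T_l A is free of finite rank over ℤ_l. Then the
characteristic polynomial of T_l(π_A), which has rational coefficients, is a power of the minimal
polynomial of π_A over ℚ: viewed over ℚ_l it equals h^n for some polynomial h with rational
coefficients irreducible over ℚ and some n. -/
theorem result (k Ω : Type u) [Field k] [Finite k] [Field Ω] [Algebra k Ω] [IsAlgClosure k Ω]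
    (l : ℕ) [Fact l.Prime] (hl : (l : k) ≠ 0) (A : Over (Spec (CommRingCat.of k)))
    [GrpObj A] [IsCommMonObj A] [IsProper A.hom] [GeometricallyIntegral A.hom]
    (hsimple : ∀ (B : Over (Spec (CommRingCat.of k))) [GrpObj B] [GeometricallyIntegral B.hom] (i : B ⟶ A) [IsMonHom i]
      [IsClosedImmersion i.left], Subsingleton B.left ∨ IsIso i)
    (πA : A ⟶ A) [IsMonHom πA] (hπAb : πA.left.base = 𝟙 _)
    (hπAle : ∀ U : A.left.Opens, U ≤ πA.left ⁻¹ᵁ U)
    (hπAapp : ∀ (U : A.left.Opens) (s : Γ(A.left, U)), (πA.left.appLE U U (hπAle U)).hom s = s ^ Nat.card k)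
    [Module.Free ℤ_[l] (AbDual.TateMod A l (SGA7.pt Ω))] [Module.Finite ℤ_[l] (AbDual.TateMod A l (SGA7.pt Ω))] :
    ∃ (h : Polynomial ℚ) (n : ℕ), Irreducible h ∧
      ((AbDual.tateMapₗ (l := l) (T := SGA7.pt Ω) πA).charpoly).map (algebraMap ℤ_[l] ℚ_[l]) =
        (h.map (algebraMap ℚ ℚ_[l])) ^ n := by
  open Groth.Agent Groth.Agent.AbVarLib Polynomial in
  exact by
    classical
    have : IsAlgClosed Ω := IsAlgClosure.isAlgClosed k
    obtain ⟨g, hg⟩ := HomBC.exists_dim A
    let φ : EndAV.End A := EndAV.End.of πA
    by_cases hnt : Nontrivial (EndAV.End0 A)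
    · obtain ⟨hfree, hfin, -⟩ := HomBC.free_finite_finrank (A := A) (B := A) hg hg
      have : Module.Finite ℤ (EndAV.End A) := hfin
      have : NoZeroDivisors (EndAV.End0 A) := ⟨fun {a b} hab => by
        by_cases ha : a = 0
        · exact Or.inl ha
        · exact Or.inr ((Groth.Agent.S15655.result k A hsimple a ha).mul_right_eq_zero.mp hab)⟩
      have : IsDomain (EndAV.End0 A) := NoZeroDivisors.to_isDomain _
      have hirr : Irreducible (minpoly ℚ (EndAV.toEnd0 φ)) :=
        minpoly.irreducible (IsIntegral.of_finite ℚ _)
      obtain ⟨P, h1, h2, -⟩ := CharpolyPow.exists_eq_minpoly_pow Ω hg l hl φ hirr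
      refine ⟨minpoly ℚ (EndAV.toEnd0 φ), 2 * g / (minpoly ℚ (EndAV.toEnd0 φ)).natDegree, hirr, ?_⟩
      rw [← Polynomial.map_pow, ← h2, Polynomial.map_map,
        show (AbDual.tateMapₗ (l := l) (T := SGA7.pt Ω) πA).charpoly = P.map (Int.castRingHom ℤ_[l]) from h1,
        Polynomial.map_map]
      exact congrArg (fun f => P.map f) (RingHom.ext_int _ _)
    · refine ⟨X, 0, irreducible_X, ?_⟩
      rw [not_nontrivial_iff_subsingleton] at hnt
      obtain ⟨hfree, -, -⟩ := HomBC.free_finite_finrank (A := A) (B := A) hg hg
      have : Module.Free ℤ (EndAV.End A) := hfree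
      have hinj : Function.Injective (EndAV.toEnd0 (A := A)) :=
        Algebra.TensorProduct.includeRight_injective (algebraMap ℤ ℚ).injective_int
      have h10 : (1 : EndAV.End A) = 0 := hinj (Subsingleton.elim _ _)
      have hT : Subsingleton (AbDual.TateMod A l (SGA7.pt Ω)) := ⟨fun x y => by
        have h := congrArg (EndAV.End.tateRep l (SGA7.pt Ω)) h10
        rw [map_one, map_zero] at h
        rw [← Module.End.one_apply (R := ℤ_[l]) x, ← Module.End.one_apply (R := ℤ_[l]) y, h,
          LinearMap.zero_apply, LinearMap.zero_apply]⟩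
      rw [pow_zero]
      have hm := LinearMap.charpoly_monic (AbDual.tateMapₗ (l := l) (T := SGA7.pt Ω) πA)
      rw [hm.natDegree_eq_zero.mp (by rw [LinearMap.charpoly_natDegree, Module.finrank_zero_of_subsingleton]),
        Polynomial.map_one]

end Groth.Agent.S14942
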