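import Groth.Statements.S14943
import Groth.Agent.AbVarLib.FrobSS
-- import your own Groth.Agent.* helpers here

set_option autoImplicit false
universe u
open CategoryTheory MonoidalCategory CartesianMonoidalCategory MonObj GrpObj AlgebraicGeometry
open AbVar

namespace Groth.Agent.S14943

/-- Let A be an abelian variety over a finite field k with q elements (a proper, geometrically integral
commutative group scheme over k), π_A its q-Frobenius endomorphism (the identity on points and the
q-th power map on sections; a homomorphism), Ω an algebraic closure of k and l a prime invertible in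
k. Then the Frobenius endomorphism acts semisimply on V_l(A) = ℚ_l ⊗_{ℤ_l} T_l(A), T_l(A) the l-adic
Tate module of Ω-points: the ℚ_l-linear endomorphism ℚ_l ⊗ T_l(π_A) is semisimple. (The published
statement is that ℚ[π_A] ⊆ ℚ ⊗ End_k(A) is a semisimple algebra, hence acts semisimply in every
representation over a field of characteristic zero; this row states that action on V_l(A).) -/
theorem result (k Ω : Type u) [Field k] [Finite k] [Field Ω] [Algebra k Ω] [IsAlgClosure k Ω]
    (l : ℕ) [Fact l.Prime] (hl : (l : k) ≠ 0) (A : Over (Spec (CommRingCat.of k)))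
    [GrpObj A] [IsCommMonObj A] [IsProper A.hom] [GeometricallyIntegral A.hom]
    (πA : A ⟶ A) [IsMonHom πA] (hπAb : πA.left.base = 𝟙 _)
    (hπAle : ∀ U : A.left.Opens, U ≤ πA.left ⁻¹ᵁ U)
    (hπAapp : ∀ (U : A.left.Opens) (s : Γ(A.left, U)), (πA.left.appLE U U (hπAle U)).hom s = s ^ Nat.card k) :
    Module.End.IsSemisimple ((AbDual.tateMapₗ (l := l) (T := SGA7.pt Ω) πA).baseChange ℚ_[l]) := by
  open Groth.Agent.AbVarLib Polynomial in
  exact by
    have : IsAlgClosed Ω := IsAlgClosure.isAlgClosed k
    have := HomBC.isCommMonObj (Ω := Ω) A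
    obtain ⟨g, hg⟩ := HomBC.exists_dim A
    obtain ⟨hfree, hfin, -⟩ := HomBC.free_finite_finrank (A := A) (B := A) hg hg
    have : Module.Finite ℤ (EndAV.End A) := hfin
    let φ : EndAV.End A := EndAV.End.of πA
    let mp := minpoly ℚ (EndAV.toEnd0 φ)
    have hsq : Squarefree mp := FrobSS.squarefree_minpoly φ (Nat.card k) hπAb hπAle hπAapp
    obtain ⟨⟨b, hb⟩, hmap⟩ := IsLocalization.integerNormalization_map_to_map (nonZeroDivisors ℤ) mp
    set G := IsLocalization.integerNormalization (nonZeroDivisors ℤ) mp
    have hG : aeval φ G = 0 := by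
      refine FrobSS.toEnd0_injective ?_
      rw [← aeval_algHom_apply, map_zero, ← aeval_map_algebraMap (A := ℚ), hmap, map_zsmul, minpoly.aeval,
        smul_zero]
    refine Module.End.isSemisimple_of_squarefree_aeval_eq_zero (p := mp.map (algebraMap ℚ ℚ_[l]))
      ((PerfectField.separable_iff_squarefree.mpr hsq).map.squarefree) ?_
    have h1 : aeval ((AbDual.tateMapₗ (l := l) (T := SGA7.pt Ω) πA).baseChange ℚ_[l])
        (G.map (Int.castRingHom ℚ_[l])) = 0 := by
      let f := (Module.End.baseChangeHom ℤ_[l] ℚ_[l] (AbDual.TateMod A l (SGA7.pt Ω))).toRingHom.comp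
        (EndAV.End.tateRep (A := A) l (SGA7.pt Ω))
      have h2 := congrArg f hG
      rw [map_zero, aeval_def, hom_eval₂] at h2
      rw [aeval_def, eval₂_map, RingHom.ext_int ((algebraMap ℚ_[l] _).comp _) (f.comp (algebraMap ℤ (EndAV.End A)))]
      exact h2
    have h3 : G.map (Int.castRingHom ℚ_[l]) = (b : ℚ_[l]) • mp.map (algebraMap ℚ ℚ_[l]) := by
      rw [RingHom.ext_int (Int.castRingHom ℚ_[l]) ((algebraMap ℚ ℚ_[l]).comp (algebraMap ℤ ℚ)), ← Polynomial.map_map,
        hmap, ← Int.cast_smul_eq_zsmul ℚ b mp, smul_eq_C_mul, Polynomial.map_mul, map_C, map_intCast, smul_eq_C_mul]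
    rw [h3, map_smul] at h1
    exact (IsUnit.smul_eq_zero (IsUnit.mk0 _ (Int.cast_ne_zero.mpr (nonZeroDivisors.ne_zero hb)))).mp h1

end Groth.Agent.S14943
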