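import Groth.Statements.S14944
import Groth.Agent.AbVarLib.FrobSS
import Groth.Agent.AbVarLib.CentTrace
import Groth.Agent.S14943
-- import your own Groth.Agent.* helpers here

set_option autoImplicit false
universe u
open CategoryTheory MonoidalCategory CartesianMonoidalCategory MonObj GrpObj AlgebraicGeometry
open scoped TensorProduct
open AbVar

namespace Groth.Agent.S14944

open Polynomial in
set_option synthInstance.maxHeartbeats 400000 in
set_option maxHeartbeats 1600000 in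
/-- The ingredients for one prime. -/
theorem finrank_eq (k Ω : Type u) [Field k] [Finite k] [Field Ω] [Algebra k Ω] [IsAlgClosure k Ω]
    (A : Over (Spec (CommRingCat.of k)))
    [GrpObj A] [IsCommMonObj A] [IsProper A.hom] [GeometricallyIntegral A.hom]
    (πA : A ⟶ A) [IsMonHom πA] (hπAb : πA.left.base = 𝟙 _)
    (hπAle : ∀ U : A.left.Opens, U ≤ πA.left ⁻¹ᵁ U)
    (hπAapp : ∀ (U : A.left.Opens) (s : Γ(A.left, U)), (πA.left.appLE U U (hπAle U)).hom s = s ^ Nat.card k) :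
    ∃ N : ℚ, ∀ (l : ℕ) [Fact l.Prime], (l : k) ≠ 0 →
      ∀ [Module.Free ℤ_[l] (AbDual.TateMod A l (SGA7.pt (K := k) Ω))]
        [Module.Finite ℤ_[l] (AbDual.TateMod A l (SGA7.pt (K := k) Ω))],
        (Module.finrank ℚ_[l] (LinearMap.ker (LinearMap.lcomp ℚ_[l] _ ((AbDual.tateMapₗ (l := l) (T := SGA7.pt (K := k) Ω) πA).baseChange ℚ_[l]) -
          LinearMap.llcomp ℚ_[l] _ _ _ ((AbDual.tateMapₗ (l := l) (T := SGA7.pt (K := k) Ω) πA).baseChange ℚ_[l]) :
        Module.End ℚ_[l] (ℚ_[l] ⊗[ℤ_[l]] AbDual.TateMod A l (SGA7.pt (K := k) Ω)) →ₗ[ℚ_[l]]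
          Module.End ℚ_[l] (ℚ_[l] ⊗[ℤ_[l]] AbDual.TateMod A l (SGA7.pt (K := k) Ω)))) : ℚ_[l]) =
          algebraMap ℚ ℚ_[l] N := by
  open Groth.Agent.AbVarLib in
  exact by
    classical
    have : IsAlgClosed Ω := IsAlgClosure.isAlgClosed k
    obtain ⟨g, hg⟩ := HomBC.exists_dim A
    obtain ⟨-, hfin, -⟩ := HomBC.free_finite_finrank (A := A) (B := A) hg hg
    have : Module.Finite ℤ (EndAV.End A) := hfin
    let φ : EndAV.End A := EndAV.End.of πA
    let mp := minpoly ℚ (EndAV.toEnd0 φ)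
    have hmp : mp.Monic := minpoly.monic (IsIntegral.of_finite ℚ _)
    have hmpS : (mp.map (algebraMap ℚ (AdjoinRoot mp))).Monic := hmp.map _
    let e : AdjoinRoot (mp.map (algebraMap ℚ (AdjoinRoot mp))) :=
      AdjoinRoot.mk _ (C (AdjoinRoot.root mp) - X)
    have : Module.Finite ℚ (AdjoinRoot mp) := hmp.finite_adjoinRoot
    have : Module.Finite (AdjoinRoot mp) (AdjoinRoot (mp.map (algebraMap ℚ (AdjoinRoot mp)))) := hmpS.finite_adjoinRoot
    have : Module.Finite ℚ (AdjoinRoot (mp.map (algebraMap ℚ (AdjoinRoot mp)))) := Module.Finite.trans (AdjoinRoot mp) _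
    have he : IsIntegral ℚ e := IsIntegral.of_finite ℚ e
    obtain ⟨R', hR', hndvd⟩ := Polynomial.exists_eq_pow_rootMultiplicity_mul_and_not_dvd _ (minpoly.ne_zero he) 0
    set m := rootMultiplicity 0 (minpoly ℚ e)
    rw [C_0, sub_zero] at hR' hndvd
    have hc0 : R'.coeff 0 ≠ 0 := fun h => hndvd (X_dvd_iff.mpr h)
    let R₁ := C (R'.coeff 0)⁻¹ * R'
    have hR₁ : R₁.coeff 0 = 1 := by rw [coeff_C_mul, inv_mul_cancel₀ hc0]
    have hdiv : mp.map (algebraMap ℚ (AdjoinRoot mp)) ∣ aeval (C (AdjoinRoot.root mp) - X) (X ^ m * R₁) := by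
      rw [← AdjoinRoot.mk_eq_zero]
      have h : aeval e (X ^ m * R₁) = 0 := by
        rw [mul_left_comm, ← hR', map_mul, minpoly.aeval, mul_zero]
      rw [← h, aeval_def, aeval_def, hom_eval₂]
      congr 1
    have ht : ∀ j : ℕ, ∃ t : ℤ, ∀ (l : ℕ) [Fact l.Prime], (l : k) ≠ 0 →
        ∀ [Module.Free ℤ_[l] (AbDual.TateMod A l (SGA7.pt (K := k) Ω))]
          [Module.Finite ℤ_[l] (AbDual.TateMod A l (SGA7.pt (K := k) Ω))],
          LinearMap.trace ℤ_[l] _ (EndAV.End.tateRep l (SGA7.pt (K := k) Ω) (φ ^ j)) = (t : ℤ_[l]) := by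
      intro j
      obtain ⟨P, -, -, -, hPc⟩ := CharpolyBC.exists_charpoly Ω hg (EndAV.End.toHom (φ ^ j))
      refine ⟨-P.nextCoeff, fun l _ hl => ?_⟩
      intro _ _
      let b := Module.finBasis ℤ_[l] (AbDual.TateMod A l (SGA7.pt (K := k) Ω))
      rw [LinearMap.trace_eq_matrix_trace ℤ_[l] b, Matrix.trace_eq_neg_charpoly_nextCoeff, LinearMap.charpoly_toMatrix]
      erw [hPc l hl]
      rw [nextCoeff_map (f := Int.castRingHom ℤ_[l]) Int.cast_injective, Int.cast_neg]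
      rfl
    choose t ht using ht
    refine ⟨R₁.sum fun n a => a *
      ((∑ i ∈ Finset.range (n + 1), ((-1 : ℤ) ^ (n - i) * n.choose i) * (t i * t (n - i)) : ℤ) : ℚ), fun l _ hl => ?_⟩
    intro _ _
    let f := (Module.End.baseChangeHom ℤ_[l] ℚ_[l] (AbDual.TateMod A l (SGA7.pt (K := k) Ω))).toRingHom.comp
      (EndAV.End.tateRep (A := A) l (SGA7.pt (K := k) Ω))
    let T := f φ
    have hss : Module.End.IsSemisimple T := S14943.result k Ω l hl A πA hπAb hπAle hπAapp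
    have hT : aeval T (mp.map (algebraMap ℚ ℚ_[l])) = 0 := by
      obtain ⟨⟨b, hb⟩, hmap⟩ := IsLocalization.integerNormalization_map_to_map (nonZeroDivisors ℤ) mp
      set G := IsLocalization.integerNormalization (nonZeroDivisors ℤ) mp
      have hG : aeval φ G = 0 := by
        refine FrobSS.toEnd0_injective ?_
        rw [← aeval_algHom_apply, map_zero, ← aeval_map_algebraMap (A := ℚ), hmap, map_zsmul, minpoly.aeval,
          smul_zero]
      have h2 := congrArg f hG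
      rw [map_zero, aeval_def, hom_eval₂] at h2
      have h1 : aeval T (G.map (Int.castRingHom ℚ_[l])) = 0 := by
        rw [aeval_def, eval₂_map, RingHom.ext_int ((algebraMap ℚ_[l] _).comp _) (f.comp (algebraMap ℤ (EndAV.End A)))]
        exact h2
      have h3 : G.map (Int.castRingHom ℚ_[l]) = (b : ℚ_[l]) • mp.map (algebraMap ℚ ℚ_[l]) := by
        rw [RingHom.ext_int (Int.castRingHom ℚ_[l]) ((algebraMap ℚ ℚ_[l]).comp (algebraMap ℤ ℚ)), ← Polynomial.map_map,
          hmap, ← Int.cast_smul_eq_zsmul ℚ b mp, smul_eq_C_mul, Polynomial.map_mul, map_C, map_intCast, smul_eq_C_mul]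
      rw [h3, map_smul] at h1
      exact (IsUnit.smul_eq_zero (IsUnit.mk0 _ (Int.cast_ne_zero.mpr (nonZeroDivisors.ne_zero hb)))).mp h1
    let W := Module.End ℚ_[l] (Module.End ℚ_[l] (ℚ_[l] ⊗[ℤ_[l]] AbDual.TateMod A l (SGA7.pt (K := k) Ω)))
    let iQ : ℚ →+* W := (algebraMap ℚ_[l] W).comp (algebraMap ℚ ℚ_[l])
    have hiQ : ∀ (q : ℚ) (w : W), Commute (iQ q) w := fun q w => Algebra.commutes _ _
    have hml : ∀ p : ℚ[X], (eval₂RingHom' iQ (LinearMap.mulLeft ℚ_[l] T : W) (fun q => hiQ q _)) p =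
        LinearMap.mulLeft ℚ_[l] (aeval T (p.map (algebraMap ℚ ℚ_[l]))) := fun p => by
      show eval₂ iQ _ p = _
      rw [show LinearMap.mulLeft ℚ_[l] (aeval T (p.map (algebraMap ℚ ℚ_[l]))) =
        Algebra.lmul ℚ_[l] _ (aeval T (p.map (algebraMap ℚ ℚ_[l]))) from rfl, ← aeval_algHom_apply, aeval_def, eval₂_map]
      rfl
    let sL : AdjoinRoot mp →+* W :=
      Ideal.Quotient.lift _ (eval₂RingHom' iQ (LinearMap.mulLeft ℚ_[l] T : W) (fun q => hiQ q _)) (fun p hp => by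
        obtain ⟨c, rfl⟩ := Ideal.mem_span_singleton'.mp hp
        rw [hml, Polynomial.map_mul, map_mul, hT, mul_zero, LinearMap.mulLeft_zero_eq_zero])
    have hsL : ∀ s, Commute (sL s) (LinearMap.mulRight ℚ_[l] T : W) := fun s => by
      obtain ⟨p, rfl⟩ := Ideal.Quotient.mk_surjective s
      show Commute (eval₂RingHom' iQ (LinearMap.mulLeft ℚ_[l] T : W) (fun q => hiQ q _) p) _
      rw [hml]
      exact LinearMap.commute_mulLeft_right _ _
    let Φ : (AdjoinRoot mp)[X] →+* W := eval₂RingHom' sL (LinearMap.mulRight ℚ_[l] T : W) hsL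
    have hΦmp : Φ (mp.map (algebraMap ℚ (AdjoinRoot mp))) = 0 := by
      show eval₂ sL _ (mp.map _) = 0
      rw [eval₂_map, show sL.comp (algebraMap ℚ (AdjoinRoot mp)) = iQ from Subsingleton.elim _ _]
      refine LinearMap.ext fun x => ?_
      have h2 : ∀ (p : ℚ[X]) x, eval₂ iQ (LinearMap.mulRight ℚ_[l] T : W) p x =
          x * aeval T (p.map (algebraMap ℚ ℚ_[l])) := fun p => by
        induction p using Polynomial.induction_on' with
        | add p q hp hq =>
          intro x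
          rw [eval₂_add, LinearMap.add_apply, hp, hq, Polynomial.map_add, map_add, mul_add]
        | monomial n a =>
          intro x
          rw [eval₂_monomial, map_monomial, aeval_monomial, LinearMap.pow_mulRight, Module.End.mul_apply,
            RingHom.comp_apply, Module.algebraMap_end_apply, LinearMap.mulRight_apply, ← Algebra.smul_def, mul_smul_comm]
      rw [h2, hT, mul_zero, LinearMap.zero_apply]
    have hann : aeval (CentTrace.ad T) ((X ^ m * R₁).map (algebraMap ℚ ℚ_[l])) = 0 := by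
      obtain ⟨c, hc⟩ := hdiv
      have h := congrArg Φ hc
      rw [map_mul Φ, hΦmp, zero_mul, aeval_def, hom_eval₂] at h
      rw [aeval_def, eval₂_map, ← h]
      congr 1
      · exact Subsingleton.elim _ _
      · rw [map_sub]
        show LinearMap.mulLeft ℚ_[l] T - LinearMap.mulRight ℚ_[l] T = eval₂ sL _ (C _) - eval₂ sL _ X
        rw [eval₂_C, eval₂_X]
        congr 1
        show _ = eval₂RingHom' iQ (LinearMap.mulLeft ℚ_[l] T : W) (fun q => hiQ q _) X
        exact (eval₂_X _ _).symm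
    have key := CentTrace.finrank_ker_ad T hss R₁ m hR₁ hann t (fun j => by
      rw [← map_pow]
      show LinearMap.trace ℚ_[l] _ ((EndAV.End.tateRep (A := A) l (SGA7.pt (K := k) Ω) (φ ^ j)).baseChange ℚ_[l]) = _
      rw [LinearMap.trace_baseChange, ht j l hl, map_intCast])
    rw [← key]
    have hk : ∀ (D : Module.End ℚ_[l] (Module.End ℚ_[l] (ℚ_[l] ⊗[ℤ_[l]] AbDual.TateMod A l (SGA7.pt (K := k) Ω)))),
        LinearMap.ker (-D) = LinearMap.ker D := fun D => by ext; simp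
    have ek : (LinearMap.lcomp ℚ_[l] _ T - LinearMap.llcomp ℚ_[l] _ _ _ T :
        Module.End ℚ_[l] (ℚ_[l] ⊗[ℤ_[l]] AbDual.TateMod A l (SGA7.pt (K := k) Ω)) →ₗ[ℚ_[l]]
          Module.End ℚ_[l] (ℚ_[l] ⊗[ℤ_[l]] AbDual.TateMod A l (SGA7.pt (K := k) Ω))) = -CentTrace.ad T := by
      refine LinearMap.ext fun X => ?_
      show X * T - T * X = -(T * X - X * T)
      exact (neg_sub _ _).symm
    rw [← hk (CentTrace.ad T), ← ek]
    rfl

/-- Let A be an abelian variety over a finite field k with q elements (a proper, geometrically integral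
commutative group scheme over k), π_A its q-Frobenius endomorphism (the identity on points and the
q-th power map on sections; a homomorphism), Ω an algebraic closure of k, and l₁, l₂ primes
invertible in k; assume (as is the case) that the l_i-adic Tate modules of Ω-points are free of
finite rank. Then the dimension over ℚ_l of the space of ℚ_l-linear endomorphisms of V_l(A) = ℚ_l
⊗_{ℤ_l} T_l(A) commuting with V_l(π_A) — the endomorphisms commuting with the Galois action — does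
not depend on l: it is the same number for l₁ and l₂. -/
theorem result (k Ω : Type u) [Field k] [Finite k] [Field Ω] [Algebra k Ω] [IsAlgClosure k Ω]
    (A : Over (Spec (CommRingCat.of k)))
    [GrpObj A] [IsCommMonObj A] [IsProper A.hom] [GeometricallyIntegral A.hom]
    (πA : A ⟶ A) [IsMonHom πA] (hπAb : πA.left.base = 𝟙 _)
    (hπAle : ∀ U : A.left.Opens, U ≤ πA.left ⁻¹ᵁ U)
    (hπAapp : ∀ (U : A.left.Opens) (s : Γ(A.left, U)), (πA.left.appLE U U (hπAle U)).hom s = s ^ Nat.card k)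
    (l₁ l₂ : ℕ) [Fact l₁.Prime] [Fact l₂.Prime] (h₁ : (l₁ : k) ≠ 0) (h₂ : (l₂ : k) ≠ 0)
    [Module.Free ℤ_[l₁] (AbDual.TateMod A l₁ (SGA7.pt Ω))] [Module.Finite ℤ_[l₁] (AbDual.TateMod A l₁ (SGA7.pt Ω))]
    [Module.Free ℤ_[l₂] (AbDual.TateMod A l₂ (SGA7.pt Ω))] [Module.Finite ℤ_[l₂] (AbDual.TateMod A l₂ (SGA7.pt Ω))] :
    Module.finrank ℚ_[l₁] (LinearMap.ker (LinearMap.lcomp ℚ_[l₁] _ ((AbDual.tateMapₗ (l := l₁) (T := SGA7.pt Ω) πA).baseChange ℚ_[l₁]) -
          LinearMap.llcomp ℚ_[l₁] _ _ _ ((AbDual.tateMapₗ (l := l₁) (T := SGA7.pt Ω) πA).baseChange ℚ_[l₁]) :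
        Module.End ℚ_[l₁] (ℚ_[l₁] ⊗[ℤ_[l₁]] AbDual.TateMod A l₁ (SGA7.pt Ω)) →ₗ[ℚ_[l₁]]
          Module.End ℚ_[l₁] (ℚ_[l₁] ⊗[ℤ_[l₁]] AbDual.TateMod A l₁ (SGA7.pt Ω)))) =
      Module.finrank ℚ_[l₂] (LinearMap.ker (LinearMap.lcomp ℚ_[l₂] _ ((AbDual.tateMapₗ (l := l₂) (T := SGA7.pt Ω) πA).baseChange ℚ_[l₂]) -
          LinearMap.llcomp ℚ_[l₂] _ _ _ ((AbDual.tateMapₗ (l := l₂) (T := SGA7.pt Ω) πA).baseChange ℚ_[l₂]) :
        Module.End ℚ_[l₂] (ℚ_[l₂] ⊗[ℤ_[l₂]] AbDual.TateMod A l₂ (SGA7.pt Ω)) →ₗ[ℚ_[l₂]]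
          Module.End ℚ_[l₂] (ℚ_[l₂] ⊗[ℤ_[l₂]] AbDual.TateMod A l₂ (SGA7.pt Ω)))) := by
  obtain ⟨N, hN⟩ := finrank_eq k Ω A πA hπAb hπAle hπAapp
  have e₁ := hN l₁ h₁
  have e₂ := hN l₂ h₂
  rw [← map_natCast (algebraMap ℚ ℚ_[l₁])] at e₁
  rw [← map_natCast (algebraMap ℚ ℚ_[l₂])] at e₂
  exact_mod_cast ((algebraMap ℚ ℚ_[l₁]).injective e₁).trans ((algebraMap ℚ ℚ_[l₂]).injective e₂).symm

end Groth.Agent.S14944
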