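import Groth.Statements.S14955
import Groth.Agent.EtMilLib.Basic

set_option autoImplicit false
universe u
open TensorProduct
open EtAlg

namespace Groth.Agent.S14955

/-- Let B' = B ×_A A' be a fibre product of commutative rings with A' → A surjective. Then the square is
also a pushout of commutative rings: the canonical map B ⊗_{B'} A' → A is an isomorphism. -/
theorem result (B' B A' A : Type u) [CommRing B'] [CommRing B] [CommRing A'] [CommRing A]
    [Algebra B' B] [Algebra B' A'] [Algebra B A] [Algebra A' A] [Algebra B' A] [IsScalarTower B' B A] [IsScalarTower B' A' A]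
    (hsq : EtMil.IsFibreSquare B' B A' A) : Algebra.IsPushout B' B A' A := by
  have hs := Groth.Agent.EtMilLib.surjective_fst hsq
  refine ⟨IsBaseChange.of_lift_unique _ ?_⟩
  intro Q _ _ _ _ g
  have hI : ∀ i : A', algebraMap A' A i = 0 → g i = 0 := by
    intro i hi
    obtain ⟨j, ⟨hj, hj'⟩, -⟩ := Groth.Agent.EtMilLib.exists_lift hsq hi
    rw [← hj', ← mul_one (algebraMap B' A' j), ← Algebra.smul_def, map_smul,
      ← algebraMap_smul B j (g 1), hj, zero_smul]
  choose l hl using hsq.1
  have hwd : ∀ a' : A', g (l (algebraMap A' A a')) = g a' := fun a' => by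
    conv_rhs => rw [← add_sub_cancel (l (algebraMap A' A a')) a', map_add]
    rw [hI (a' - l (algebraMap A' A a')) (by rw [map_sub, hl, sub_self]), add_zero]
  refine ⟨{ toFun := fun a => g (l a), map_add' := fun a a' => ?_, map_smul' := fun b a => ?_ }, ?_, ?_⟩
  · rw [← map_add, ← hwd (l a + l a'), map_add (algebraMap A' A), hl, hl]
  · obtain ⟨b', rfl⟩ := hs b
    rw [RingHom.id_apply, algebraMap_smul, algebraMap_smul, ← map_smul, ← hwd (b' • l a),
      Algebra.algebraMap_eq_smul_one (A := A) (b' • l a), smul_assoc, ← Algebra.algebraMap_eq_smul_one, hl]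
  · ext a'
    exact hwd a'
  · intro g' hg'
    refine LinearMap.ext fun a => ?_
    show g' a = g (l a)
    rw [← hg', ← hl a]
    show g' (algebraMap A' A (l a)) = g' (algebraMap A' A (l (algebraMap A' A (l a))))
    rw [hl, hl]

end Groth.Agent.S14955
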