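import Groth.Statements.S14958
import Mathlib
import Groth.Agent.EtMilLib.Basic
import Groth.Agent.EtMilLib.TorSeq

set_option autoImplicit false
universe u
open TensorProduct CategoryTheory CategoryTheory.Limits
open EtAlg

namespace Groth.Agent.S14958

/-- Let B' = B ×_A A' be a fibre product of commutative rings with A' → A surjective and L' a B'-module.
Then L' is a fixed point of the glueing adjunction, i.e. the canonical map from L' to the compatible
pairs in (B ⊗_{B'} L') × (A' ⊗_{B'} L') is injective (it is always surjective), if and only if the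
map Tor_1(L', B) ⊕ Tor_1(L', A') → Tor_1(L', A) over B' induced by B → A and A' → A is surjective.
Here Tor_1(L', –) is the first left derived functor of L' ⊗_{B'} – on B'-modules. -/
theorem result (B' B A' A : Type u) [CommRing B'] [CommRing B] [CommRing A'] [CommRing A]
    [Algebra B' B] [Algebra B' A'] [Algebra B A] [Algebra A' A] [Algebra B' A] [IsScalarTower B' B A] [IsScalarTower B' A' A]
    (hsq : EtMil.IsFibreSquare B' B A' A)
    (L' : Type u) [AddCommGroup L'] [Module B' L'] :
    (∀ l : L', ((1 : B) ⊗ₜ[B'] l : B ⊗[B'] L') = 0 → ((1 : A') ⊗ₜ[B'] l : A' ⊗[B'] L') = 0 → l = 0) ↔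
    Epi (biprod.desc
      (((Tor (ModuleCat.{u} B') 1).obj (ModuleCat.of B' L')).map
        (ModuleCat.ofHom (IsScalarTower.toAlgHom B' B A).toLinearMap))
      (((Tor (ModuleCat.{u} B') 1).obj (ModuleCat.of B' L')).map
        (ModuleCat.ofHom (IsScalarTower.toAlgHom B' A' A).toLinearMap))) := by
  let F := (Tor (ModuleCat.{u} B') 1).obj (ModuleCat.of B' L')
  let fB : ModuleCat.of B' B ⟶ ModuleCat.of B' A := ModuleCat.ofHom (IsScalarTower.toAlgHom B' B A).toLinearMap
  let fA : ModuleCat.of B' A' ⟶ ModuleCat.of B' A := ModuleCat.ofHom (IsScalarTower.toAlgHom B' A' A).toLinearMap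
  let iB : ModuleCat.of B' B' ⟶ ModuleCat.of B' B := ModuleCat.ofHom (Algebra.linearMap B' B)
  let iA : ModuleCat.of B' B' ⟶ ModuleCat.of B' A' := ModuleCat.ofHom (Algebra.linearMap B' A')
  let S : ShortComplex (ModuleCat.{u} B') := ShortComplex.mk (biprod.lift iB (-iA)) (biprod.desc fB fA) (by
    rw [biprod.lift_desc, Preadditive.neg_comp, ← sub_eq_add_neg, sub_eq_zero]
    refine ModuleCat.hom_ext (LinearMap.ext fun x => ?_)
    change algebraMap B A (algebraMap B' B x) = algebraMap A' A (algebraMap B' A' x)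
    rw [← IsScalarTower.algebraMap_apply, ← IsScalarTower.algebraMap_apply])
  have hf1 : ∀ x, (biprod.fst : ModuleCat.of B' B ⊞ ModuleCat.of B' A' ⟶ _) (S.f x) = algebraMap B' B x := fun x => by
    rw [← ConcreteCategory.comp_apply, biprod.lift_fst]; rfl
  have hf2 : ∀ x, (biprod.snd : ModuleCat.of B' B ⊞ ModuleCat.of B' A' ⟶ _) (S.f x) = -algebraMap B' A' x := fun x => by
    rw [← ConcreteCategory.comp_apply, biprod.lift_snd]; rfl
  have hg : ∀ y : (ModuleCat.of B' B ⊞ ModuleCat.of B' A' : ModuleCat.{u} B'), S.g y =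
      algebraMap B A ((biprod.fst : ModuleCat.of B' B ⊞ ModuleCat.of B' A' ⟶ _) y) +
        algebraMap A' A ((biprod.snd : ModuleCat.of B' B ⊞ ModuleCat.of B' A' ⟶ _) y) := fun y => by
    change biprod.desc fB fA y = _
    rw [biprod.desc_eq]
    rfl
  have hS : S.ShortExact :=
    { exact := by
        rw [ShortComplex.moduleCat_exact_iff]
        intro y hy
        rw [hg] at hy
        obtain ⟨x, ⟨hx1, hx2⟩, -⟩ := hsq.2 ((biprod.fst : ModuleCat.of B' B ⊞ ModuleCat.of B' A' ⟶ _) y) (-((biprod.snd : ModuleCat.of B' B ⊞ ModuleCat.of B' A' ⟶ _) y)) (by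
          rw [map_neg]; exact eq_neg_of_add_eq_zero_left hy)
        refine ⟨x, ModuleCat.biprodIsoProd (ModuleCat.of B' B) (ModuleCat.of B' A') |>.toLinearEquiv.injective ?_⟩
        refine Prod.ext ?_ ?_
        · exact (hf1 x).trans hx1
        · exact ((hf2 x).trans (congrArg Neg.neg hx2)).trans (neg_neg _)
      mono_f := (ModuleCat.mono_iff_injective _).2 fun x y h => Agent.EtMilLib.eq_of_maps_eq hsq
        (by rw [← hf1, ← hf1, h]) (neg_injective (by rw [← hf2, ← hf2, h]))
      epi_g := (ModuleCat.epi_iff_surjective _).2 fun a => by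
        obtain ⟨a', rfl⟩ := hsq.1 a
        refine ⟨(biprod.inr : _ ⟶ ModuleCat.of B' B ⊞ ModuleCat.of B' A') a', ?_⟩
        change ((biprod.inr : _ ⟶ ModuleCat.of B' B ⊞ ModuleCat.of B' A') ≫ biprod.desc fB fA) a' = _
        rw [biprod.inr_desc]; rfl }
  haveI : F.Additive := Agent.EtMilLib.additive_tor _ 1
  haveI := preservesBinaryBiproducts_of_preservesBiproducts F
  have hepi : Epi (biprod.desc (F.map fB) (F.map fA)) ↔ Epi (F.map S.g) := by
    have h : (F.mapBiprod (ModuleCat.of B' B) (ModuleCat.of B' A')).inv ≫ F.map S.g = biprod.desc (F.map fB) (F.map fA) :=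
      biprod.mapBiprod_inv_map_desc ..
    rw [← h]
    exact (MorphismProperty.epimorphisms _).cancel_left_of_respectsIso _ _
  refine Iff.trans ?_ hepi.symm
  rw [Agent.EtMilLib.epi_tor_map_iff _ hS, ModuleCat.mono_iff_injective, injective_iff_map_eq_zero]
  let L := ModuleCat.of B' L'
  have hcomp : ∀ z, (MonoidalCategory.whiskerLeft L S.f) z = 0 ↔
      (Algebra.linearMap B' B).lTensor L' z = 0 ∧ (Algebra.linearMap B' A').lTensor L' z = 0 := by
    intro z
    have e1 : LinearMap.lTensor L' (biprod.fst : ModuleCat.of B' B ⊞ ModuleCat.of B' A' ⟶ _).hom (LinearMap.lTensor L' S.f.hom z) = (Algebra.linearMap B' B).lTensor L' z := by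
      rw [← LinearMap.comp_apply, ← LinearMap.lTensor_comp]
      exact congrArg (fun φ => LinearMap.lTensor L' φ z) (LinearMap.ext hf1)
    have e2 : LinearMap.lTensor L' (biprod.snd : ModuleCat.of B' B ⊞ ModuleCat.of B' A' ⟶ _).hom (LinearMap.lTensor L' S.f.hom z) = -(Algebra.linearMap B' A').lTensor L' z := by
      rw [← LinearMap.comp_apply, ← LinearMap.lTensor_comp, ← LinearMap.neg_apply, ← LinearMap.lTensor_neg]
      exact congrArg (fun φ => LinearMap.lTensor L' φ z) (LinearMap.ext hf2)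
    constructor
    · intro h
      have h' : LinearMap.lTensor L' S.f.hom z = 0 := h
      rw [h', map_zero] at e1 e2
      exact ⟨e1.symm, neg_eq_zero.mp e2.symm⟩
    · rintro ⟨h1, h2⟩
      show LinearMap.lTensor L' S.f.hom z = 0
      rw [← LinearMap.id_apply (R := B') (LinearMap.lTensor L' S.f.hom z), ← LinearMap.lTensor_id,
        show (LinearMap.id : (ModuleCat.of B' B ⊞ ModuleCat.of B' A' : ModuleCat.{u} B') →ₗ[B'] _) =
          (biprod.inl : _ ⟶ ModuleCat.of B' B ⊞ ModuleCat.of B' A').hom ∘ₗ (biprod.fst : ModuleCat.of B' B ⊞ ModuleCat.of B' A' ⟶ _).hom +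
          (biprod.inr : _ ⟶ ModuleCat.of B' B ⊞ ModuleCat.of B' A').hom ∘ₗ (biprod.snd : ModuleCat.of B' B ⊞ ModuleCat.of B' A' ⟶ _).hom from
          congrArg ModuleCat.Hom.hom (biprod.total (X := ModuleCat.of B' B) (Y := ModuleCat.of B' A')).symm,
        LinearMap.lTensor_add, LinearMap.add_apply, LinearMap.lTensor_comp, LinearMap.lTensor_comp,
        LinearMap.comp_apply, LinearMap.comp_apply, e1, e2, h1, h2, neg_zero, map_zero, map_zero, add_zero]
  have hl : ∀ (S' : Type u) [CommRing S'] [Algebra B' S'] (l : L'),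
      ((1 : S') ⊗ₜ[B'] l : S' ⊗[B'] L') = 0 ↔ (Algebra.linearMap B' S').lTensor L' (l ⊗ₜ[B'] (1 : B')) = 0 := by
    intro S' _ _ l
    rw [LinearMap.lTensor_tmul, Algebra.linearMap_apply, map_one, ← TensorProduct.comm_tmul,
      LinearEquiv.map_eq_zero_iff]
  constructor
  · intro h z hz
    obtain ⟨l, rfl⟩ : ∃ l : L', l ⊗ₜ[B'] (1 : B') = z :=
      ⟨TensorProduct.rid B' L' z, (TensorProduct.rid B' L').symm_apply_apply z⟩
    obtain ⟨h1, h2⟩ := (hcomp _).mp hz
    rw [h l ((hl B l).mpr h1) ((hl A' l).mpr h2), TensorProduct.zero_tmul]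
  · intro h l h1 h2
    have := h _ ((hcomp _).mpr ⟨(hl B l).mp h1, (hl A' l).mp h2⟩)
    simpa using congrArg (TensorProduct.rid B' L') this

end Groth.Agent.S14958
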