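import Groth.Statements.S14960
import Groth.Agent.PinchLib.Modules

set_option autoImplicit false
universe u
open AlgebraicGeometry CategoryTheory CategoryTheory.Limits
open Pinch Groth.Agent.PinchLib

namespace Groth.Agent.S14960

/-- Let w : X' → X, g : X' → Y', f : X → Y, u : Y' → Y be a cartesian square of schemes with f affine
and u a closed immersion which is a pinching square: for every affine open V of Y, with I(V) the
kernel of Γ(V, O_Y) → Γ(u⁻¹V, O_Y'), the kernel of Γ(V, O_Y) → Γ(f⁻¹V, O_X) meets I(V) in 0 and the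
ideal generated by the image of I(V) in Γ(f⁻¹V, O_X) consists of images of elements of I(V)
(equivalently Γ(V, O_Y) is the fibre product of Γ(u⁻¹V, O_Y') and Γ(f⁻¹V, O_X) over Γ(h⁻¹V, O_X'),
i.e. O_Y = u_*O_Y' ×_{h_*O_X'} f_*O_X). A quasi-coherent O_Y-module G is a flat O_Y-module if and
only if u*G is a flat O_Y'-module and f*G is a flat O_X-module. -/
theorem result {X X' Y Y' : Scheme.{u}} (f : X ⟶ Y) (u : Y' ⟶ Y) (w : X' ⟶ X) (g : X' ⟶ Y')
    (hP : IsPullback w g f u) [IsAffineHom f] [IsClosedImmersion u]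
    (hM : ∀ V ∈ Y.affineOpens,
      RingHom.ker (f.app V).hom ⊓ RingHom.ker (u.app V).hom = ⊥ ∧
      ∀ a ∈ Ideal.map (f.app V).hom (RingHom.ker (u.app V).hom),
        ∃ i ∈ RingHom.ker (u.app V).hom, (f.app V).hom i = a)
    (G : Y.Modules) [G.IsQuasicoherent] :
    FlatMod.IsFlat G ↔
      FlatMod.IsFlat ((Scheme.Modules.pullback u).obj G) ∧ FlatMod.IsFlat ((Scheme.Modules.pullback f).obj G) := by
  haveI := QCoh.isQuasicoherent_pullback u G
  haveI := QCoh.isQuasicoherent_pullback f G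
  refine ⟨fun h => ⟨isFlat_pullback u G h, isFlat_pullback f G h⟩, fun h y => ?_⟩
  obtain ⟨V, hV, hy⟩ := exists_affine_nhd y
  letI := (f.appLE V (f ⁻¹ᵁ V) le_rfl).hom.toAlgebra
  letI := (u.appLE V (u ⁻¹ᵁ V) le_rfl).hom.toAlgebra
  obtain ⟨eA⟩ := exists_secEquiv f G hV (hV.preimage f)
  obtain ⟨eB⟩ := exists_secEquiv u G hV (hV.preimage u)
  haveI := flat_sections h.2 (hV.preimage f)
  haveI := flat_sections h.1 (hV.preimage u)
  haveI := Module.Flat.of_linearEquiv eA
  haveI := Module.Flat.of_linearEquiv eB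
  haveI := flat' (M := Γ(G, V)) (app_surjective_appLE u hV) (isPinched_of (hM V hV))
  exact isFlatAt_of_flat_sections hV hy

end Groth.Agent.S14960
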