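import Groth.Statements.S14964
-- import your own Groth.Agent.* helpers here

set_option autoImplicit false
universe u v w
open EtAlg

namespace Groth.Agent.S14964

/-- Let f : A → A' be a homomorphism of commutative rings, M an A-module and M' an A'-module together
with an A-linear map u : M → M' whose image generates M' over A' (so M' is a quotient of A' ⊗_A M).
Let I be an ideal of A such that the ideal of A' generated by f(I) consists of the elements f(i), i
∈ I. Then f(I) M' = u(I M) as subsets of M'; in particular u(I M) is an A'-submodule. -/
theorem result (A : Type u) [CommRing A] (A' : Type v) [CommRing A'] [Algebra A A']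
    (M : Type w) [AddCommGroup M] [Module A M] (M' : Type w) [AddCommGroup M'] [Module A' M'] [Module A M'] [IsScalarTower A A' M']
    (u : M →ₗ[A] M') (hu : Submodule.span A' (Set.range u) = ⊤)
    (I : Ideal A) (hI : ∀ a ∈ Ideal.map (algebraMap A A') I, ∃ i ∈ I, algebraMap A A' i = a) :
    ((Ideal.map (algebraMap A A') I) • (⊤ : Submodule A' M')).restrictScalars A = Submodule.map u (I • (⊤ : Submodule A M)) := by
  apply le_antisymm
  · rintro x hx
    rw [Submodule.restrictScalars_mem] at hx
    refine Submodule.smul_induction_on hx (fun a' ha' m _ => ?_) (fun _ _ => add_mem)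
    have hm : m ∈ Submodule.span A' (Set.range u) := hu ▸ Submodule.mem_top
    clear * - hm ha' hI
    induction hm using Submodule.span_induction generalizing a' with
    | mem y hy =>
      obtain ⟨m0, rfl⟩ := hy
      obtain ⟨i, hi, rfl⟩ := hI a' ha'
      rw [algebraMap_smul, ← map_smul]
      exact Submodule.mem_map_of_mem (Submodule.smul_mem_smul hi Submodule.mem_top)
    | zero => simp
    | add y z _ _ hy hz => rw [smul_add]; exact add_mem (hy a' ha') (hz a' ha')
    | smul c y _ hy => rw [← mul_smul]; exact hy _ (Ideal.mul_mem_right _ _ ha')
  · rw [Submodule.map_le_iff_le_comap]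
    refine Submodule.smul_le.mpr fun i hi m _ => ?_
    rw [Submodule.mem_comap, map_smul, Submodule.restrictScalars_mem, ← algebraMap_smul A' i (u m)]
    exact Submodule.smul_mem_smul (Ideal.mem_map_of_mem _ hi) Submodule.mem_top

end Groth.Agent.S14964
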