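import Groth.Statements.S14966
-- import your own Groth.Agent.* helpers here

set_option autoImplicit false
universe u
open EtAlg

namespace Groth.Agent.S14966

/-- Let A → A' be an injective homomorphism of commutative rings and let I ⊆ A be the conductor, i.e.
the annihilator of the A-module A'/A. Then the conductor square formed by A → A/I, A → A', A/I →
A'/IA' and A' → A'/IA' is a fibre product square of rings with A' → A'/IA' surjective: A = A/I
×_{A'/IA'} A'. (The published Lemma is for the conductor square of a finite modification of schemes;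
this row is the underlying statement for one injective ring map, which needs no finiteness.) -/
theorem result (A A' : Type u) [CommRing A] [CommRing A'] [Algebra A A']
    (hinj : Function.Injective (algebraMap A A')) :
    EtMil.IsFibreSquare A (A ⧸ Module.annihilator A (A' ⧸ LinearMap.range (Algebra.linearMap A A'))) A'
      (A' ⧸ Ideal.map (algebraMap A A') (Module.annihilator A (A' ⧸ LinearMap.range (Algebra.linearMap A A')))) := by
  set I := Module.annihilator A (A' ⧸ LinearMap.range (Algebra.linearMap A A'))
  have hI : ∀ a ∈ I, ∀ x : A', ∃ b : A, algebraMap A A' b = algebraMap A A' a * x := by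
    intro a ha x
    have := Module.mem_annihilator.mp ha (Submodule.Quotient.mk x)
    rw [← Submodule.Quotient.mk_smul, Submodule.Quotient.mk_eq_zero, Algebra.smul_def] at this
    exact this
  have hIA : ∀ y ∈ I.map (algebraMap A A'), ∃ b ∈ I, algebraMap A A' b = y := by
    intro y hy
    induction hy using Submodule.span_induction with
    | mem y hy => obtain ⟨b, hb, rfl⟩ := hy; exact ⟨b, hb, rfl⟩
    | zero => exact ⟨0, zero_mem _, map_zero _⟩
    | add y z _ _ hy hz =>
      obtain ⟨b, hb, rfl⟩ := hy; obtain ⟨c, hc, rfl⟩ := hz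
      exact ⟨b + c, add_mem hb hc, map_add _ _ _⟩
    | smul c y _ hy =>
      obtain ⟨b, hb, rfl⟩ := hy
      obtain ⟨b', hb'⟩ := hI b hb c
      refine ⟨b', Module.mem_annihilator.mpr fun m => ?_, by rw [hb', smul_eq_mul, mul_comm]⟩
      obtain ⟨x, rfl⟩ := Submodule.Quotient.mk_surjective _ m
      rw [← Submodule.Quotient.mk_smul, Submodule.Quotient.mk_eq_zero, Algebra.smul_def, hb', mul_assoc]
      exact hI b hb (c * x)
  refine ⟨Ideal.Quotient.mk_surjective, fun b a' h => ?_⟩
  obtain ⟨b0, rfl⟩ := Ideal.Quotient.mk_surjective b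
  replace h : Ideal.Quotient.mk (I.map (algebraMap A A')) (algebraMap A A' b0) = Ideal.Quotient.mk _ a' := h
  obtain ⟨c, hc, hc'⟩ := hIA (a' - algebraMap A A' b0) (Ideal.Quotient.eq.mp h.symm)
  refine ⟨b0 + c, ⟨?_, ?_⟩, fun y hy => hinj ?_⟩
  · rw [Ideal.Quotient.algebraMap_eq, map_add, Ideal.Quotient.eq_zero_iff_mem.mpr hc, add_zero]
  · rw [map_add, hc', add_sub_cancel]
  · rw [hy.2, map_add, hc', add_sub_cancel]

end Groth.Agent.S14966
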