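import Groth.Statements.S1497
import Groth.Agent.FlatMorPn
import Groth.Agent.ProjBundleLib.PnAmpleBase
-- import your own Groth.Agent.* helpers here

set_option autoImplicit false
universe u
attribute [local instance] HasDerivedCategory.standard
open FlatMor

namespace Groth.Agent.S1497

open AlgebraicGeometry CategoryTheory Limits in
/-- Let S be a scheme with an ample invertible sheaf and f : X → S a morphism. Then f is a quasi-compact
immersion into some projective space P^n_S over S if and only if f is of finite type and X has an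
ample invertible sheaf. -/
theorem result {X S : Scheme.{u}} (hS : ∃ N : S.Modules, CohB1.IsAmple N) (f : X ⟶ S) :
    (∃ (n : ℕ) (i : X ⟶ CohB1.ProjSpaceOver n S), IsImmersion i ∧ QuasiCompact i ∧ i ≫ pullback.snd (CohB1.ProjSpace.toSpec n (ULift.{u} ℤ)) (specULiftZIsTerminal.from S) = f) ↔
      (LocallyOfFiniteType f ∧ QuasiCompact f ∧ ∃ L : X.Modules, CohB1.IsAmple L) := by
  obtain ⟨N, hN⟩ := hS
  have := hN.2.1
  have := AmpleLib.isSeparated_of_isAmple hN
  constructor
  · rintro ⟨n, i, hi, hiq, hif⟩
    have := Groth.Agent.ProjProper.Basic.isProper_toBase n S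
    have : LocallyOfFiniteType f :=
      hif ▸ (inferInstance : LocallyOfFiniteType (i ≫ CohB1.ProjSpaceOver.toBase n S))
    have : QuasiCompact f := hif ▸ (inferInstance : QuasiCompact (i ≫ CohB1.ProjSpaceOver.toBase n S))
    have : IsSeparated f := hif ▸ (inferInstance : IsSeparated (i ≫ CohB1.ProjSpaceOver.toBase n S))
    obtain ⟨-, -, L, hL⟩ := ProjMor.isQuasiProjective_of_immersion f n i hif
    exact ⟨inferInstance, inferInstance, Groth.Agent.FlatMorPn.exists_isAmple_of_isRelAmple hN f hL⟩
  · rintro ⟨_, _, L, hL⟩
    obtain ⟨r, i, hi, hif⟩ := ProjBundleLib.exists_immersion_pn hN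
      (show RelProj.IsQuasiProjective f from ⟨inferInstance, inferInstance, L, AmpleLib.isRelAmple_of_isAmple f hL⟩)
    have := Groth.Agent.ProjProper.Basic.isProper_toBase r S
    have : QuasiCompact (i ≫ CohB1.ProjSpaceOver.toBase r S) := by rw [hif]; infer_instance
    have : QuasiCompact i := QuasiCompact.of_comp i (CohB1.ProjSpaceOver.toBase r S)
    exact ⟨r, i, hi, this, hif⟩

end Groth.Agent.S1497
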