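import Groth.Statements.S14972
import Groth.Agent.ShStabLib.PnBridge

set_option autoImplicit false
open CategoryTheory CategoryTheory.Limits AlgebraicGeometry
open Coherent

namespace Groth.Agent.S14972

/-- Over the complex numbers, let E be a coherent sheaf on projective n-space which is pure of dimension
d (its support and the support of every nonzero coherent subsheaf have dimension d). Then there is
exactly one finite chain of coherent subsheaves 0 = E_0 ⊂ E_1 ⊂ ⋯ ⊂ E_k = E such that each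
successive quotient E_j/E_(j-1) is pure of dimension d and p-semistable (every nonzero coherent
subsheaf G of it with Hilbert polynomial ψ satisfies ψ(m)/r(ψ) ≤ φ(m)/r(φ) for all large integers m,
φ being the Hilbert polynomial of the quotient and r denoting d! times the degree-d coefficient) and
the reduced Hilbert polynomials φ/r(φ) of consecutive quotients strictly decrease for large
arguments. The chain is recorded as a finite set of subobjects of E, totally ordered by inclusion,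
containing 0 and E, all of whose members are coherent. (The published statement is for modules over
a sheaf of rings of differential operators and filtrations by submodules stable under it, and does
not assume E pure, although quotients pure of dimension d force it; this row is the case of the
structure sheaf, where every coherent subsheaf is stable, and assumes E pure.) -/
theorem result (n d : ℕ)
    (E : (CohB1.ProjSpace n ℂ).Modules) (hE : Coh.IsCoh E)
    (hpure : (topologicalKrullDim ↥(CohB1.support E) = (d : WithBot ℕ∞) ∧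
          ∀ (G : (CohB1.ProjSpace n ℂ).Modules) (ι : G ⟶ E), Mono ι → Coh.IsCoh G → ¬ IsZero G → topologicalKrullDim ↥(CohB1.support G) = (d : WithBot ℕ∞))) :
    ∃! C : Finset (Subobject E),
      ⊥ ∈ C ∧ ⊤ ∈ C ∧ IsChain (fun A B : Subobject E => A ≤ B) (↑C : Set (Subobject E)) ∧
      (∀ A ∈ C, Coh.IsCoh (A : (CohB1.ProjSpace n ℂ).Modules)) ∧
      (∀ A ∈ C, ∀ B ∈ C, ∀ hAB : A < B, (∀ D ∈ C, ¬ (A < D ∧ D < B)) →
        (topologicalKrullDim ↥(CohB1.support (cokernel (Subobject.ofLE A B hAB.le))) = (d : WithBot ℕ∞) ∧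
          ∀ (G : (CohB1.ProjSpace n ℂ).Modules) (ι : G ⟶ (cokernel (Subobject.ofLE A B hAB.le))), Mono ι → Coh.IsCoh G → ¬ IsZero G → topologicalKrullDim ↥(CohB1.support G) = (d : WithBot ℕ∞)) ∧
        (∀ (G : (CohB1.ProjSpace n ℂ).Modules) (ι : G ⟶ (cokernel (Subobject.ofLE A B hAB.le))), Mono ι → Coh.IsCoh G → ¬ IsZero G →
          ∀ φ ψ : Polynomial ℚ, (∀ m : ℤ, (Curv2.euler ℂ (CohB1.ProjSpace n ℂ) (CohB1.tensorMod (cokernel (Subobject.ofLE A B hAB.le)) (Twist.twistProjSpace n ℂ m)) : ℚ) = φ.eval (m : ℚ)) → (∀ m : ℤ, (Curv2.euler ℂ (CohB1.ProjSpace n ℂ) (CohB1.tensorMod G (Twist.twistProjSpace n ℂ m)) : ℚ) = ψ.eval (m : ℚ)) →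
            W4c2simpsonmod1.RedLE d ψ φ)) ∧
      (∀ A ∈ C, ∀ B ∈ C, ∀ B' ∈ C, ∀ hAB : A < B, ∀ hBB : B < B',
        (∀ D ∈ C, ¬ (A < D ∧ D < B)) → (∀ D ∈ C, ¬ (B < D ∧ D < B')) →
        ∀ ψ ψ' : Polynomial ℚ, (∀ m : ℤ, (Curv2.euler ℂ (CohB1.ProjSpace n ℂ) (CohB1.tensorMod (cokernel (Subobject.ofLE A B hAB.le)) (Twist.twistProjSpace n ℂ m)) : ℚ) = ψ.eval (m : ℚ)) →
          (∀ m : ℤ, (Curv2.euler ℂ (CohB1.ProjSpace n ℂ) (CohB1.tensorMod (cokernel (Subobject.ofLE B B' hBB.le)) (Twist.twistProjSpace n ℂ m)) : ℚ) = ψ'.eval (m : ℚ)) →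
          W4c2simpsonmod1.RedLT d ψ' ψ) := by
  classical
  open Groth.Agent.HilbPolyX Groth.Agent.ShStabLib Groth.Agent.ShStabLib.PnBridge in
  have : IsProper (CohB1.ProjSpace n ℂ ↘ Spec (CommRingCat.of ℂ)) :=
    Groth.Agent.ProjProper.Basic.isProper_toSpec n ℂ
  have hL : CohB1.IsAmple (Twist.twistProjSpace n ℂ 1) := Groth.Agent.ProjTwist.Pn.isAmple_one
  have hp : ShStab.IsPure (CohB1.ProjSpace n ℂ) E d := hpure.2
  obtain ⟨s₀, hs₀, huniq⟩ := Groth.Agent.ShStabLib.existsUnique_isHN ℂ hL hE hp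
  have hpos : ∀ (G : (CohB1.ProjSpace n ℂ).Modules), Coh.IsCoh G → ¬ IsZero G →
      ShStab.IsPure (CohB1.ProjSpace n ℂ) G d →
      0 < StabCat.alpha d (Groth.Agent.ShStabLib.PnBridge.hp G) := fun G h1 h2 h3 =>
    Groth.Agent.HilbPolyX.alpha_hilb_pos ℂ hL h1 (Groth.Agent.HilbPolyX.dim_of_isPure h1 h2 h3)
  refine ⟨Finset.univ.image s₀.toFun, ?_, fun C hC => ?_⟩
  · obtain ⟨hchain, hc⟩ := Groth.Agent.ShStabLib.hnChain_of_isHN ℂ hL hs₀
    obtain ⟨h0, hl, hss, hdec⟩ := hs₀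
    refine ⟨Finset.mem_image.2 ⟨0, Finset.mem_univ _, h0⟩,
      Finset.mem_image.2 ⟨Fin.last _, Finset.mem_univ _, hl⟩, ?_, ?_, ?_, ?_⟩
    · intro a ha b hb _
      simp only [Finset.coe_image, Set.mem_image] at ha hb
      obtain ⟨i, -, rfl⟩ := ha
      obtain ⟨j, -, rfl⟩ := hb
      exact (le_total i j).imp (fun h => s₀.monotone h) fun h => s₀.monotone h
    · intro A hA
      obtain ⟨i, -, rfl⟩ := Finset.mem_image.1 hA
      exact hc i
    · intro A hA B hB hAB hcov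
      obtain ⟨i, rfl, rfl⟩ := Groth.Agent.ShStabLib.PnBridge.exists_step s₀ hA hB hAB hcov
      have hs := hchain.1 i hAB.le
      refine ⟨⟨Groth.Agent.HilbPolyX.dim_of_isPure hs.1 hs.2.1 hs.2.2.1, hs.2.2.1⟩,
        fun G ι hι hG hG0 φ ψ hφ hψ => ?_⟩
      rw [Groth.Agent.ShStabLib.PnBridge.eq_hp hs.1 hφ, Groth.Agent.ShStabLib.PnBridge.eq_hp hG hψ]
      have := hι
      refine (Groth.Agent.ShStabLib.PnBridge.redLE_iff (hpos G hG hG0 (Groth.Agent.HilbPolyX.isPure_of_mono hs.2.2.1 ι))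
        (hpos _ hs.1 hs.2.1 hs.2.2.1)).2 ?_
      exact Groth.Agent.HilbPolyX.redLE_of_mono_isSemistable ℂ hL hs ι hG hG0
    · intro A hA B hB B' hB' hAB hBB hcov hcov' ψ ψ' hψ hψ'
      obtain ⟨i, rfl, rfl⟩ := Groth.Agent.ShStabLib.PnBridge.exists_step s₀ hA hB hAB hcov
      obtain ⟨j, hj, rfl⟩ := Groth.Agent.ShStabLib.PnBridge.exists_step s₀ hB hB' hBB hcov'
      have hij : i.val + 1 = j.val := by
        have := congrArg Fin.val (s₀.strictMono.injective hj)
        simp at this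
        omega
      have hs := hchain.1 i hAB.le
      have hq := Groth.Agent.ShStabLib.isCoh_quo hBB.le (hc _) (hc _)
      rw [Groth.Agent.ShStabLib.PnBridge.eq_hp hs.1 hψ, Groth.Agent.ShStabLib.PnBridge.eq_hp hq hψ']
      have hs' := hchain.1 j (s₀.step j).le
      have e : Groth.Agent.ShStabLib.PnBridge.hp (Groth.Agent.ShStabLib.quo hBB.le) =
          Groth.Agent.ShStabLib.PnBridge.hp (StabCat.factor s₀ j) := by
        rw [Groth.Agent.ShStabLib.PnBridge.hp, Groth.Agent.ShStabLib.hilb_quo ℂ hL hBB.le (hc _) (hc _)]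
        refine Eq.trans ?_ (Groth.Agent.ShStabLib.hilb_quo ℂ hL (s₀.step j).le (hc _) (hc _)).symm
        rw [hj]
      refine (Groth.Agent.ShStabLib.PnBridge.redLT_iff (e ▸ hpos _ hs'.1 hs'.2.1 hs'.2.2.1)
        (hpos _ hs.1 hs.2.1 hs.2.2.1)).2 ?_
      exact e ▸ hdec i j hij _ _ (Groth.Agent.HilbPolyX.isHilbPoly_hilb ℂ hL (hss i).1)
        (Groth.Agent.HilbPolyX.isHilbPoly_hilb ℂ hL (hss j).1)
  · obtain ⟨hb, ht, hch, hcoh, hfac, hdec⟩ := hC
    obtain ⟨s, h0, hl, himg, hcov⟩ := Groth.Agent.ShStabLib.PnBridge.exists_series C hb ht hch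
    have hmem : ∀ i, s i ∈ C := fun i => himg ▸ Finset.mem_image_of_mem _ (Finset.mem_univ i)
    have hss : ∀ i : Fin s.length, ShStab.IsSemistable ℂ (CohB1.ProjSpace n ℂ) (Twist.twistProjSpace n ℂ 1)
        (StabCat.factor s i) d := by
      intro i
      obtain ⟨⟨-, hp'⟩, hle⟩ := hfac _ (hmem _) _ (hmem _) (s.step i) (hcov i)
      have hq := Groth.Agent.ShStabLib.isCoh_quo (s.step i).le (hcoh _ (hmem _)) (hcoh _ (hmem _))
      have h0' := Groth.Agent.ShStabLib.not_isZero_quo (s.step i)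
      refine ⟨hq, h0', hp', fun G ι hι hG hG0 _ pG pQ hpG hpQ => ?_⟩
      rw [Groth.Agent.HilbPolyX.eq_hilb ℂ hL hG hpG, Groth.Agent.HilbPolyX.eq_hilb ℂ hL hq hpQ]
      have := hι
      refine (Groth.Agent.ShStabLib.PnBridge.redLE_iff (hpos G hG hG0
        (@Groth.Agent.HilbPolyX.isPure_of_mono (CohB1.ProjSpace n ℂ) _ G d hp' ι hι)) (hpos _ hq h0' hp')).1 ?_
      exact hle G ι hι hG hG0 _ _ (Groth.Agent.ShStabLib.PnBridge.euler_eq _ hq)
        (Groth.Agent.ShStabLib.PnBridge.euler_eq _ hG)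
    have hs : ShStab.IsHNFiltration ℂ (CohB1.ProjSpace n ℂ) (Twist.twistProjSpace n ℂ 1) E d s := by
      refine ⟨h0, hl, hss, fun i j hij p q hpi hqj => ?_⟩
      rw [Groth.Agent.HilbPolyX.eq_hilb ℂ hL (hss i).1 hpi, Groth.Agent.HilbPolyX.eq_hilb ℂ hL (hss j).1 hqj]
      have hj : j.castSucc = i.succ := Fin.ext (by simp; omega)
      have hBB : s i.succ < s j.succ := hj ▸ s.step j
      have hq := Groth.Agent.ShStabLib.isCoh_quo hBB.le (hcoh _ (hmem _)) (hcoh _ (hmem _))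
      have h := hdec _ (hmem i.castSucc) _ (hmem i.succ) _ (hmem j.succ) (s.step i) hBB (hcov i)
        (fun D hD h => hcov j D hD (hj ▸ h)) _ _ (Groth.Agent.ShStabLib.PnBridge.euler_eq _ (hss i).1)
        (Groth.Agent.ShStabLib.PnBridge.euler_eq _ hq)
      have e : Groth.Agent.ShStabLib.PnBridge.hp (Groth.Agent.ShStabLib.quo hBB.le) =
          Groth.Agent.ShStabLib.PnBridge.hp (StabCat.factor s j) := by
        rw [Groth.Agent.ShStabLib.PnBridge.hp, Groth.Agent.ShStabLib.hilb_quo ℂ hL hBB.le (hcoh _ (hmem _)) (hcoh _ (hmem _))]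
        refine Eq.trans ?_ (Groth.Agent.ShStabLib.hilb_quo ℂ hL (s.step j).le (hcoh _ (hmem _)) (hcoh _ (hmem _))).symm
        rw [hj]
      change W4c2simpsonmod1.RedLT d (Groth.Agent.ShStabLib.PnBridge.hp (Groth.Agent.ShStabLib.quo hBB.le)) _ at h
      rw [e] at h
      exact (Groth.Agent.ShStabLib.PnBridge.redLT_iff (hpos _ (hss j).1 (hss j).2.1 (hss j).2.2.1)
        (hpos _ (hss i).1 (hss i).2.1 (hss i).2.2.1)).1 h
    rw [← himg, huniq s hs]

end Groth.Agent.S14972
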