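import Groth.Statements.S14973
-- import your own Groth.Agent.* helpers here

set_option autoImplicit false
universe u v
open Diff16

namespace Groth.Agent.S14973

/-- In ring form. Let B be a commutative ring, L a ring with a ring homomorphism f from B, and L_0, L_1,
L_2, … additive subgroups of L exhausting L such that for every b in B, f(b) commutes with every
element of L_0 and, for each i, the commutator f(b) x - x f(b) of f(b) with an element x of L_(i+1)
lies in L_i. Let M be a multiplicative subset of B. Then M acts invertibly on the right of the left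
localisation of L at M (L viewed as a B-module through left multiplication): in elementwise terms,
(a) if x is in L and m, u are in M with f(u) x f(m) = 0, then f(u') x = 0 for some u' in M; (b) for
every x in L and m in M there are e in M and y in L with f(e) x = y f(m). (The published statement
assumes a filtration satisfying all the axioms of a filtered ring of differential operators on an
affine scheme; this row assumes only an exhaustive family of additive subgroups on which commutators
with the image of B lower the index.) -/
theorem result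
    {B : Type u} [CommRing B] {L : Type v} [Ring L] (f : B →+* L) (F : ℕ → AddSubgroup L)
    (hex : ∀ x : L, ∃ i : ℕ, x ∈ F i)
    (h0 : ∀ x ∈ F 0, ∀ b : B, f b * x = x * f b)
    (hS : ∀ (i : ℕ), ∀ x ∈ F (i + 1), ∀ b : B, f b * x - x * f b ∈ F i)
    (M : Submonoid B) :
    (∀ (x : L) (m u : B), m ∈ M → u ∈ M → f u * x * f m = 0 → ∃ u' ∈ M, f u' * x = 0) ∧
    (∀ (x : L) (m : B), m ∈ M → ∃ e ∈ M, ∃ y : L, f e * x = y * f m) := by
  have key : ∀ (i : ℕ), ∀ x ∈ F i, ∀ m : B,
      (∃ y : L, f (m ^ (i + 1)) * x = y * f m) ∧ (x * f m = 0 → f (m ^ (i + 1)) * x = 0) := by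
    intro i
    induction i with
    | zero =>
      intro x hx m
      have e : f (m ^ (0 + 1)) = f m := by simp
      exact ⟨⟨x, by rw [e]; exact h0 x hx m⟩, fun h => by rw [e, h0 x hx m, h]⟩
    | succ i ih =>
      intro x hx m
      obtain ⟨⟨y, hy⟩, hz⟩ := ih _ (hS i x hx m) m
      have e : ∀ k : ℕ, f (m ^ (k + 1)) * f m = f m * f (m ^ (k + 1)) := fun k => by
        rw [← map_mul, ← map_mul, mul_comm]
      refine ⟨⟨y + f (m ^ (i + 1)) * x, ?_⟩, fun h => ?_⟩
      · rw [add_mul, ← hy, pow_succ m (i + 1), map_mul]
        simp [mul_sub, mul_assoc]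
      · have h2 : (f m * x - x * f m) * f m = 0 := by
          rw [sub_mul, mul_assoc, h, mul_zero, zero_mul, sub_zero]
        have h3 := hz h2
        rw [h, sub_zero] at h3
        rw [pow_succ m (i + 1), map_mul, mul_assoc, h3]
  refine ⟨fun x m u hm hu h => ?_, fun x m hm => ?_⟩
  · obtain ⟨i, hi⟩ := hex (f u * x)
    exact ⟨m ^ (i + 1) * u, mul_mem (pow_mem hm _) hu, by
      rw [map_mul, mul_assoc, (key i _ hi m).2 h]⟩
  · obtain ⟨i, hi⟩ := hex x
    obtain ⟨y, hy⟩ := (key i x hi m).1
    exact ⟨m ^ (i + 1), pow_mem hm _, y, hy⟩

end Groth.Agent.S14973
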