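import Groth.Statements.S14982
import Groth.Agent.InertCoact.Transfer
import Mathlib.AlgebraicGeometry.PullbackCarrier
import Mathlib.AlgebraicGeometry.Morphisms.Flat
import Mathlib.AlgebraicGeometry.ResidueField

set_option autoImplicit false
universe u
open CategoryTheory MonoidalCategory CartesianMonoidalCategory MonObj AlgebraicGeometry
open CoactBr

namespace Groth.Agent.S14982

/-- Let `R` be a commutative ring, `A` a commutative Hopf algebra over `R` which is finite locally free
as an `R`-module (`G = Spec A` a finite flat group scheme over `S = Spec R`), `B` a commutative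
`R`-algebra with a coaction of `A` that is an algebra map (an action of `G` on `X = Spec B`), `C =
B^A` the ring of invariants and `π : X → Y = Spec C` the quotient map. Let `K` be a field over `R`,
`x : B → K` an `R`-algebra map (a point of `X`) and `y` the image in `Y` of the point underlying
`x`. Then the inertia group scheme at `x` is trivial (for every scheme `T` over `Spec K`, every
`T`-point of `G` fixing the point of `X` induced by `x` is the unit) if and only if there is a flat
morphism locally of finite presentation `Y' → Y` whose image contains `y` and over which the action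
becomes free: for every scheme `T` over `S` and every `T`-point `ζ` of `X` whose composite with `π`
lifts to `Y'`, every `T`-point of `G` fixing `ζ` is the unit (this is freeness of the base-changed
action of `G ×_S Y'` on `X ×_Y Y'`, written through points of `G` and `X`). (`G` finite flat is read
as finite locally free. The published result also says that `X ×_Y Y'` is then a torsor under
`G_{Y'}` and gives a third equivalent condition, that after a further fppf base change the action is
induced from an action of the trivial group; neither is stated here.) -/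
theorem result
    (R A B K : Type u) [CommRing R] [CommRing A] [HopfAlgebra R A]
    [Module.Flat R A] [Module.Finite R A] [Module.Projective R A]
    [CommRing B] [Algebra R B] [HopfRep.Comod R A B] [GLin.IsCoactAlg R A B]
    [Field K] [Algebra R K] (x : B →ₐ[R] K) :
    (∀ (T : Over (Spec (CommRingCat.of R))) (h : T ⟶ CoactBr.sp R K) (g : T ⟶ CoactBr.sp R A),
        lift g (h ≫ CoactBr.pt x) ≫ (CoactBr.action R A B).act = h ≫ CoactBr.pt x → g = 1) ↔
      ∃ (Y' : Scheme.{u}) (c : Y' ⟶ Spec (CommRingCat.of (GLin.invariants R A B))),
        Flat c ∧ LocallyOfFinitePresentation c ∧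
        (∃ y' : Y', c.base y' =
          (Spec.map (CommRingCat.ofHom (x.toRingHom.comp (GLin.invariants R A B).val.toRingHom))).base
            (IsLocalRing.closedPoint K)) ∧
        ∀ (T : Over (Spec (CommRingCat.of R))) (ζ : T ⟶ CoactBr.sp R B),
          (∃ t : T.left ⟶ Y', t ≫ c = ζ.left ≫ Spec.map (CommRingCat.ofHom (GLin.invariants R A B).val.toRingHom)) →
          ∀ g : T ⟶ CoactBr.sp R A, lift g ζ ≫ (CoactBr.action R A B).act = ζ → g = 1 := by
  constructor
  · intro H
    have hx := InertCoact.inTriv_of_cat H
    haveI : (RingHom.ker x).IsPrime := RingHom.ker_isPrime _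
    let P : Ideal (GLin.invariants R A B) := (RingHom.ker x).comap (algebraMap (GLin.invariants R A B) B)
    haveI : P.IsPrime := Ideal.IsPrime.comap _
    obtain ⟨c, hcP, hk⟩ := InertCoact.exists_invariant_kill P fun Q hQ hQP => by
      haveI := hQ
      exact InertCoact.exists_kill_of_same_fibre hx Q fun c hc => (SetLike.ext_iff.mp hQP ⟨c, hc⟩)
    let L := Localization.Away c
    let m := Spec.map (CommRingCat.ofHom (algebraMap (GLin.invariants R A B) L))
    haveI : IsOpenImmersion m := IsOpenImmersion.of_isLocalization c
    refine ⟨_, m, inferInstance, inferInstance, ?_, ?_⟩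
    · let y : PrimeSpectrum (GLin.invariants R A B) := PrimeSpectrum.comap
        (x.toRingHom.comp (GLin.invariants R A B).val.toRingHom) (IsLocalRing.closedPoint K)
      have hy : y ∈ Set.range (PrimeSpectrum.comap (algebraMap (GLin.invariants R A B) L)) := by
        rw [PrimeSpectrum.localization_away_comap_range L c]
        exact fun hm => hcP (show x (c : B) = 0 from (Ideal.mem_bot.mp (IsLocalRing.maximalIdeal_eq_bot (R := K) ▸ hm : x (c : B) ∈ (⊥ : Ideal K))))
      exact hy
    · rintro T ζ ⟨t, ht⟩ g hg
      letI := InertCoact.algOf T
      obtain ⟨j, rfl⟩ := InertCoact.exists_fac ζ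
      let φ : L →+* Γ(T.left, ⊤) := Chow.specHom t
      have hφ : T.left.toSpecΓ ≫ Spec.map (CommRingCat.ofHom (φ.comp (algebraMap _ L))) =
          T.left.toSpecΓ ≫ Spec.map (CommRingCat.ofHom
            (j.toRingHom.comp (GLin.invariants R A B).val.toRingHom)) := by
        rw [CommRingCat.ofHom_comp, Spec.map_comp, ← Category.assoc]
        erw [Chow.toSpecΓ_specHom t]
        rw [ht, CommRingCat.ofHom_comp, Spec.map_comp]
        rfl
      have he := RingHom.congr_fun
        (Chow.toSpecΓ_SpecMap_injective (C := CommRingCat.of (GLin.invariants R A B)) hφ) c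
      have hu : IsUnit (j (c : B)) := by
        have h1 := (IsLocalization.Away.algebraMap_isUnit (S := L) c).map φ
        rwa [show φ (algebraMap _ L c) = j (c : B) from he] at h1
      exact (InertCoact.inTriv_of_kill hu hk).eq_one (InertCoact.toGamma T) g hg
  · rintro ⟨Y', c, -, -, ⟨y', hy'⟩, Hfree⟩
    let v := CommRingCat.ofHom (x.toRingHom.comp (GLin.invariants R A B).val.toRingHom)
    obtain ⟨z, -, -⟩ := Scheme.Pullback.exists_preimage_pullback (f := Spec.map v) (g := c)
      (IsLocalRing.closedPoint K) y' hy'.symm
    let P := Limits.pullback (Spec.map v) c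
    let Ω := P.residueField z
    let a : K →+* Ω := (Spec.preimage (P.fromSpecResidueField z ≫ Limits.pullback.fst (Spec.map v) c)).hom
    letI : Algebra R Ω := (a.comp (algebraMap R K)).toAlgebra
    let i : K →ₐ[R] Ω := { a with commutes' := fun _ => rfl }
    have hxΩ : InertCoact.InTriv A (i.comp x) := InertCoact.inTriv_of_cat fun T h g hg => by
      refine Hfree T _ ⟨h.left ≫ P.fromSpecResidueField z ≫ Limits.pullback.snd (Spec.map v) c, ?_⟩ g hg
      have hc : P.fromSpecResidueField z ≫ Limits.pullback.snd (Spec.map v) c ≫ c =
          Spec.map (CommRingCat.ofHom a) ≫ Spec.map v := by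
        rw [← Limits.pullback.condition, ← Category.assoc]
        exact congrArg (· ≫ Spec.map v) (Spec.map_preimage _).symm
      calc (h.left ≫ P.fromSpecResidueField z ≫ Limits.pullback.snd (Spec.map v) c) ≫ c
          = h.left ≫ (P.fromSpecResidueField z ≫ Limits.pullback.snd (Spec.map v) c ≫ c) := by
            erw [Category.assoc, Category.assoc]
        _ = h.left ≫ (Spec.map (CommRingCat.ofHom a) ≫ Spec.map v) := congrArg (h.left ≫ ·) hc
        _ = _ := by
            erw [← Spec.map_comp, Over.comp_left, Category.assoc, CoactBr.pt_left, ← Spec.map_comp]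
            rfl
    intro T h g hg
    refine (InertCoact.inTriv_of_same_fibre hxΩ x fun d hd => ?_).eq_one h g hg
    exact ((RingHom.injective a).eq_iff' (map_zero a)).symm

end Groth.Agent.S14982
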