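import Groth.Statements.S14983
import Groth.Prelude.Def_CoactBr2
import Groth.Prelude.Def_GLin
import Groth.Prelude.Def_Hoch
import Mathlib.LinearAlgebra.TensorProduct.Tower

set_option autoImplicit false
universe u v w w'
open HopfRep

namespace Groth.Agent.S14983

open TensorProduct



/-- Let `R` be a commutative ring, `S` a commutative `R`-algebra, `A` a commutative Hopf algebra over
`R`, flat as an `R`-module, and `B` a commutative `R`-algebra with a coaction of `A` that is an
algebra map (an action of `G = Spec A` on `X = Spec B`). If the action is tame, i.e. admits a total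
integral (a comodule map `α : A → B` for the regular coaction on `A` with `α 1 = 1`), then so is its
base change along `R → S`: there is an `S`-linear map `S ⊗ A → S ⊗ B` which is a comodule map for
the base-changed coactions (regular coaction of the `S`-Hopf algebra `S ⊗ A` on itself, base-changed
coaction on `S ⊗ B`) and sends `1` to `1`. -/
theorem result
    (R : Type u) (S : Type v) (A : Type w) (B : Type w')
    [CommRing R] [CommRing S] [Algebra R S] [CommRing A] [HopfAlgebra R A] [Module.Flat R A]
    [CommRing B] [Algebra R B] [HopfRep.Comod R A B] [GLin.IsCoactAlg R A B]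
    (htame : ∃ α : A →ₗ[R] B, Hoch.IsComodHom A α ∧ α 1 = 1) :
    ∃ α' : TensorProduct R S A →ₗ[S] TensorProduct R S B,
      @Hoch.IsComodHom S _ (TensorProduct R S A) _ _ _ (TensorProduct R S A) _ _
        (HopfRep.Comod.regular S (TensorProduct R S A)) (TensorProduct R S B) _ _
        (CoactBr.Comod.baseChange R S A B) α' ∧ α' 1 = 1 := by
  obtain ⟨α, hα, h1⟩ := htame
  letI cA := HopfRep.Comod.regular S (S ⊗[R] A)
  letI cB := CoactBr.Comod.baseChange R S A B
  refine ⟨α.baseChange S, ?_, by simp [Algebra.TensorProduct.one_def, h1]⟩
  apply TensorProduct.AlgebraTensorModule.ext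
  intro s a
  have h := LinearMap.congr_fun hα a
  simp only [LinearMap.comp_apply] at h
  simp only [LinearMap.comp_apply, LinearMap.baseChange_tmul]
  change (CoactBr.Comod.baseChange R S A B).coact (s ⊗ₜ[R] α a) =
    (α.baseChange S).rTensor (S ⊗[R] A) (Coalgebra.comul (R := S) (s ⊗ₜ[R] a))
  rw [CoactBr.baseChange_coact_tmul, h, TensorProduct.comul_tmul, CoactBr.comul_self_apply]
  change _ = (α.baseChange S).rTensor (S ⊗[R] A) (TensorProduct.AlgebraTensorModule.tensorTensorTensorComm R S R S S S A A
    ((1 ⊗ₜ[S] s) ⊗ₜ[R] Coalgebra.comul (R := R) a))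
  induction (Coalgebra.comul (R := R) a) using TensorProduct.induction_on with
  | zero => simp
  | add y z hy hz =>
    simp only [map_add, TensorProduct.tmul_add] at hy hz ⊢
    exact congrArg₂ (· + ·) hy hz
  | tmul y z => simp

end Groth.Agent.S14983
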