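import Groth.Statements.S14984
import Groth.Prelude.Def_CoactBr2
import Groth.Prelude.Def_GLin
import Groth.Prelude.Def_Hoch
import Mathlib.LinearAlgebra.TensorProduct.Tower

set_option autoImplicit false
universe u v w
open HopfRep

namespace Groth.Agent.S14984

open TensorProduct

section
variable {R : Type u} {A : Type v} {B : Type w} [CommRing R] [CommRing A] [HopfAlgebra R A]
  [CommRing B] [Algebra R B] [HopfRep.Comod R A B] [GLin.IsCoactAlg R A B]
  {C : Type w} [CommRing C] [Algebra R C]

theorem descend (j : C →ₐ[R] B) (hj : ∀ c, HopfRep.Comod.coact (k := R) (A := A) (j c) = j c ⊗ₜ[R] (1 : A))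
    (β : C ⊗[R] A →ₗ[C] C ⊗[R] B)
    (hβ : @Hoch.IsComodHom C _ (C ⊗[R] A) _ _ _ (C ⊗[R] A) _ _
        (HopfRep.Comod.regular C (C ⊗[R] A)) (C ⊗[R] B) _ _ (CoactBr.Comod.baseChange R C A B) β)
    (h1 : β 1 = 1) : ∃ α : A →ₗ[R] B, Hoch.IsComodHom A α ∧ α 1 = 1 := by
  let μ : C ⊗[R] B →ₗ[R] B := LinearMap.mul' R B ∘ₗ j.toLinearMap.rTensor B
  refine ⟨μ ∘ₗ β.restrictScalars R ∘ₗ (TensorProduct.mk R C A) 1, LinearMap.ext fun a => ?_, ?_⟩
  · letI cA := HopfRep.Comod.regular C (C ⊗[R] A)
    letI cB := CoactBr.Comod.baseChange R C A B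
    let Φ : (C ⊗[R] A) →ₗ[R] B ⊗[R] A := j.toLinearMap.rTensor A
    let Ψ₀ : (C ⊗[R] B) →ₗ[R] (C ⊗[R] A) →ₗ[R] B ⊗[R] A :=
      LinearMap.mk₂ R (fun x y => (μ x ⊗ₜ[R] (1 : A)) * Φ y)
        (fun x x' y => by simp [TensorProduct.add_tmul, add_mul])
        (fun r x y => by rw [map_smul, ← TensorProduct.smul_tmul', smul_mul_assoc])
        (fun x y y' => by simp [mul_add])
        (fun r x y => by rw [map_smul, mul_smul_comm])
    let Ψ : (C ⊗[R] B) ⊗[C] (C ⊗[R] A) →+ B ⊗[R] A :=
      TensorProduct.liftAddHom
        (AddMonoidHom.mk' (fun x => (Ψ₀ x).toAddMonoidHom) fun x x' => by ext y; simp)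
        (fun c x y => by
          have e1 : μ (c • x) = j c * μ x := by
            induction x using TensorProduct.induction_on with
            | zero => simp
            | add p q hp hq => simp only [smul_add, map_add, mul_add, hp, hq]
            | tmul p q => simp [μ, TensorProduct.smul_tmul', mul_assoc]
          have e2 : Φ (c • y) = (j c ⊗ₜ[R] (1 : A)) * Φ y := by
            induction y using TensorProduct.induction_on with
            | zero => simp
            | add p q hp hq => simp only [smul_add, map_add, mul_add, hp, hq]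
            | tmul p q => simp [Φ, TensorProduct.smul_tmul']
          change (μ (c • x) ⊗ₜ[R] (1 : A)) * Φ y = (μ x ⊗ₜ[R] (1 : A)) * Φ (c • y)
          rw [e1, e2, ← mul_assoc, Algebra.TensorProduct.tmul_mul_tmul, one_mul, mul_comm (μ x)])
    have hΨ : ∀ x y, Ψ (x ⊗ₜ[C] y) = (μ x ⊗ₜ[R] (1 : A)) * Φ y := fun x y => rfl
    have hco : ∀ z : C ⊗[R] B, Ψ ((CoactBr.Comod.baseChange R C A B).coact z) =
        HopfRep.Comod.coact (k := R) (A := A) (μ z) := by
      intro z
      induction z using TensorProduct.induction_on with
      | zero => simp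
      | add p q hp hq => simp only [map_add, hp, hq]
      | tmul c b =>
        rw [CoactBr.baseChange_coact_tmul]
        simp only [μ, LinearMap.comp_apply, LinearMap.rTensor_tmul, LinearMap.mul'_apply, AlgHom.toLinearMap_apply,
          GLin.IsCoactAlg.coact_mul, hj]
        induction HopfRep.Comod.coact (k := R) (A := A) b using TensorProduct.induction_on with
        | zero => simp
        | add p q hp hq => simp only [TensorProduct.tmul_add, map_add, mul_add, hp, hq]
        | tmul p q => simp [hΨ, μ, Φ, mul_comm]
    have h := congrArg Ψ (LinearMap.congr_fun hβ ((1 : C) ⊗ₜ[R] a))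
    simp only [LinearMap.comp_apply] at h
    rw [hco] at h
    refine h.trans ?_
    change Ψ (β.rTensor (C ⊗[R] A) (Coalgebra.comul (R := C) ((1 : C) ⊗ₜ[R] a))) =
      (μ ∘ₗ β.restrictScalars R ∘ₗ (TensorProduct.mk R C A) 1).rTensor A (Coalgebra.comul (R := R) a)
    rw [TensorProduct.comul_tmul, CoactBr.comul_self_apply]
    induction Coalgebra.comul (R := R) a using TensorProduct.induction_on with
    | zero => simp
    | add p q hp hq => simp only [map_add, TensorProduct.tmul_add, hp, hq]
    | tmul p q => simp [hΨ, Φ]
  · simp only [LinearMap.comp_apply, TensorProduct.mk_apply, LinearMap.coe_restrictScalars]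
    rw [← Algebra.TensorProduct.one_def, h1]
    simp [μ, Algebra.TensorProduct.one_def]

end



/-- Let `R` be a commutative ring, `A` a commutative Hopf algebra over `R`, flat as an `R`-module, `B` a
commutative `R`-algebra with a coaction of `A` that is an algebra map (an action of `G = Spec A` on
`X = Spec B`), and `C = B^A` the ring of invariants. If the action base-changed along `R → C` — the
`C`-Hopf algebra `C ⊗ A` coacting on `C ⊗ B` — is tame, i.e. there is a `C`-linear comodule map `β :
C ⊗ A → C ⊗ B` (regular coaction on the source, base-changed coaction on the target) with `β 1 = 1`,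
then the original action is tame: there is an `R`-linear comodule map `α : A → B` with `α 1 = 1`.
(The converse is the case `S = C` of stability of tameness under base change. The published lemma
also lists, as a third equivalent condition, tameness of the action of `C ⊗ A` on `B` itself over
`C`; that condition is not stated here.) -/
theorem result
    (R : Type u) (A : Type v) (B : Type w)
    [CommRing R] [CommRing A] [HopfAlgebra R A] [Module.Flat R A]
    [CommRing B] [Algebra R B] [HopfRep.Comod R A B] [GLin.IsCoactAlg R A B]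
    (h : ∃ β : TensorProduct R ↥(GLin.invariants R A B) A →ₗ[↥(GLin.invariants R A B)]
        TensorProduct R ↥(GLin.invariants R A B) B,
      @Hoch.IsComodHom ↥(GLin.invariants R A B) _ (TensorProduct R ↥(GLin.invariants R A B) A) _ _ _
        (TensorProduct R ↥(GLin.invariants R A B) A) _ _
        (HopfRep.Comod.regular ↥(GLin.invariants R A B) (TensorProduct R ↥(GLin.invariants R A B) A))
        (TensorProduct R ↥(GLin.invariants R A B) B) _ _
        (CoactBr.Comod.baseChange R ↥(GLin.invariants R A B) A B) β ∧ β 1 = 1) :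
    ∃ α : A →ₗ[R] B, Hoch.IsComodHom A α ∧ α 1 = 1 := by
  obtain ⟨β, hβ, h1⟩ := h
  exact descend (GLin.invariants R A B).val (fun c => c.2) β hβ h1

end Groth.Agent.S14984
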