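import Groth.Statements.S14985
import Mathlib.RingTheory.Finiteness.Prod
import Mathlib.RingTheory.TensorProduct.Finite
import Mathlib.RingTheory.Flat.Basic
import Groth.Agent.CAlg99.BassCancel
import Mathlib.RingTheory.Spectrum.Prime.FreeLocus
import Mathlib.LinearAlgebra.TensorPower.Basic
import Mathlib.GroupTheory.MonoidLocalization.GrothendieckGroup
import Mathlib.Algebra.Polynomial.AlgebraMap

set_option autoImplicit false
set_option maxHeartbeats 800000
universe u
open CAlg

namespace Groth.Agent.S14985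

open TensorProduct

section

variable (R : Type u) [CommRing R]

/-- Finite projective modules. -/
abbrev Obj := {M : ModuleCat.{u} R // Module.Finite R M ∧ Module.Projective R M}

instance objSetoid : Setoid (Obj R) where
  r M N := Nonempty (M.1 ≃ₗ[R] N.1)
  iseqv := ⟨fun _ => ⟨LinearEquiv.refl R _⟩, fun ⟨e⟩ => ⟨e.symm⟩, fun ⟨e⟩ ⟨e'⟩ => ⟨e.trans e'⟩⟩

/-- Isomorphism classes of finite projective modules. -/
def Cls : Type (u + 1) := Quotient (objSetoid R)

/-- The object of a finite projective module. -/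
def obj (M : Type u) [AddCommGroup M] [Module R M] [hf : Module.Finite R M]
    [hp : Module.Projective R M] : Obj R := ⟨ModuleCat.of R M, hf, hp⟩

variable {R}

def Cls.add : Cls R → Cls R → Cls R :=
  Quotient.map₂
    (fun A B => haveI := A.2.1; haveI := A.2.2; haveI := B.2.1; haveI := B.2.2; obj R (A.1 × B.1))
    (fun _ _ ⟨e⟩ _ _ ⟨e'⟩ => ⟨e.prodCongr e'⟩)

instance : Add (Cls R) := ⟨Cls.add⟩

instance : Zero (Cls R) := ⟨Quotient.mk (objSetoid R) (obj R PUnit.{u + 1})⟩

instance : AddCommMonoid (Cls R) where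
  add_assoc := by
    rintro ⟨A⟩ ⟨B⟩ ⟨C⟩; exact Quotient.sound ⟨LinearEquiv.prodAssoc R _ _ _⟩
  add_comm := by
    rintro ⟨A⟩ ⟨B⟩; exact Quotient.sound ⟨LinearEquiv.prodComm R _ _⟩
  zero_add := by
    rintro ⟨A⟩; exact Quotient.sound ⟨(LinearEquiv.uniqueProd : (PUnit.{u + 1} × A.1) ≃ₗ[R] A.1)⟩
  add_zero := by
    rintro ⟨A⟩; exact Quotient.sound ⟨(LinearEquiv.prodUnique : (A.1 × PUnit.{u + 1}) ≃ₗ[R] A.1)⟩
  nsmul := nsmulRec

/-- The Grothendieck group of finite projective modules. -/
abbrev K0 (R : Type u) [CommRing R] := Algebra.GrothendieckAddGroup (Cls R)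

variable (R) in
/-- The class of a finite projective module. -/
noncomputable def cls (M : Type u) [AddCommGroup M] [Module R M] [Module.Finite R M] [Module.Projective R M] :
    K0 R := Algebra.GrothendieckAddGroup.of (Quotient.mk (objSetoid R) (obj R M) : Cls R)

lemma cls_congr {M N : Type u} [AddCommGroup M] [Module R M] [Module.Finite R M] [Module.Projective R M]
    [AddCommGroup N] [Module R N] [Module.Finite R N] [Module.Projective R N] (e : M ≃ₗ[R] N) :
    cls R M = cls R N :=
  congrArg _ (Quotient.sound (s := objSetoid R) ⟨e⟩)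

lemma cls_prod (M N : Type u) [AddCommGroup M] [Module R M] [Module.Finite R M] [Module.Projective R M]
    [AddCommGroup N] [Module R N] [Module.Finite R N] [Module.Projective R N] :
    cls R (M × N) = cls R M + cls R N :=
  (Algebra.GrothendieckAddGroup.of (M := Cls R)).map_add
    (Quotient.mk (objSetoid R) (obj R M)) (Quotient.mk (objSetoid R) (obj R N))

lemma cls_subsingleton (M : Type u) [AddCommGroup M] [Module R M] [Module.Finite R M]
    [Module.Projective R M] [Subsingleton M] : cls R M = 0 := by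
  have : cls R (M × M) = cls R M :=
    cls_congr (LinearEquiv.ofSubsingleton (M × M) M)
  rw [cls_prod] at this
  exact add_eq_left.mp this

instance projective_pi {ι : Type} [Fintype ι] (M : Type u) [AddCommGroup M] [Module R M]
    [Module.Projective R M] : Module.Projective R (ι → M) := by
  classical
  exact Module.Projective.of_equiv (DFinsupp.linearEquivFunOnFintype (R := R) (M := fun _ : ι => M))

lemma cls_pi (M : Type u) [AddCommGroup M] [Module R M] [Module.Finite R M] [Module.Projective R M]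
    (r : ℕ) : cls R (Fin r → M) = r • cls R M := by
  induction r with
  | zero => rw [zero_smul]; exact cls_subsingleton _
  | succ r ih =>
    rw [← cls_congr (Fin.consLinearEquiv R fun _ : Fin (r + 1) => M), cls_prod, ih, succ_nsmul']

lemma exists_iso_of_cls_eq {M N : Type u} [AddCommGroup M] [Module R M] [Module.Finite R M]
    [Module.Projective R M] [AddCommGroup N] [Module R N] [Module.Finite R N] [Module.Projective R N]
    (h : cls R M = cls R N) :
    ∃ (Q : Type u) (_ : AddCommGroup Q) (_ : Module R Q),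
      Module.Finite R Q ∧ Module.Projective R Q ∧ Nonempty ((M × Q) ≃ₗ[R] (N × Q)) := by
  obtain ⟨⟨c, hcm⟩, hc⟩ := (AddSubmonoid.LocalizationMap.eq_iff_exists
    (AddLocalization.addMonoidOf (⊤ : AddSubmonoid (Cls R)))).mp h
  obtain ⟨Q, rfl⟩ := Quotient.exists_rep (s := objSetoid R) c
  obtain ⟨e⟩ := Quotient.exact (s := objSetoid R) hc
  exact ⟨Q.1, inferInstance, inferInstance, Q.2.1, Q.2.2,
    ⟨(LinearEquiv.prodComm R _ _).trans (e.trans (LinearEquiv.prodComm R _ _))⟩⟩

variable (P : Type u) [AddCommGroup P] [Module R P] [Module.Finite R P] [Module.Projective R P]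

/-- Tensoring with `P` on classes. -/
def tensorCls : Cls R →+ Cls R where
  toFun := Quotient.map
    (fun A => haveI := A.2.1; haveI := A.2.2; obj R (A.1 ⊗[R] P))
    (fun _ _ ⟨e⟩ => ⟨TensorProduct.congr e (LinearEquiv.refl R P)⟩)
  map_zero' :=
    haveI : Subsingleton (PUnit.{u + 1} ⊗[R] P) := inferInstance
    Quotient.sound ⟨LinearEquiv.ofSubsingleton (PUnit.{u + 1} ⊗[R] P) PUnit.{u + 1}⟩
  map_add' := by
    rintro ⟨A⟩ ⟨B⟩; exact Quotient.sound ⟨TensorProduct.prodLeft R R A.1 B.1 P⟩

/-- Tensoring with `P` on the Grothendieck group. -/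
noncomputable def T : AddMonoid.End (K0 R) :=
  Algebra.GrothendieckAddGroup.lift ((Algebra.GrothendieckAddGroup.of (M := Cls R)).comp (tensorCls P))

lemma T_cls (M : Type u) [AddCommGroup M] [Module R M] [Module.Finite R M] [Module.Projective R M] :
    T P (cls R M) = cls R (M ⊗[R] P) :=
  DFunLike.congr_fun (Algebra.GrothendieckAddGroup.lift.symm_apply_apply
    ((Algebra.GrothendieckAddGroup.of (M := Cls R)).comp (tensorCls P))) _

/-- Powers of `T` compute tensor powers. -/
lemma exists_tensorPower (k : ℕ) :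
    ∃ (_ : Module.Finite R (TensorPower R k P)) (_ : Module.Projective R (TensorPower R k P)),
      (T P ^ k) (cls R R) = cls R (TensorPower R k P) := by
  induction k with
  | zero =>
    let e : TensorPower R 0 P ≃ₗ[R] R := PiTensorProduct.isEmptyEquiv (Fin 0)
    haveI := Module.Finite.equiv e.symm
    haveI := Module.Projective.of_equiv e.symm
    exact ⟨inferInstance, inferInstance, (cls_congr e).symm⟩
  | succ k ih =>
    obtain ⟨hf, hp, he⟩ := ih
    let e : TensorPower R k P ⊗[R] P ≃ₗ[R] TensorPower R (k + 1) P :=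
      (TensorProduct.congr (LinearEquiv.refl R _)
        (PiTensorProduct.subsingletonEquiv (R := R) (s := fun _ : Fin 1 => P) 0).symm).trans
        TensorPower.mulEquiv
    haveI := Module.Finite.equiv e
    haveI := Module.Projective.of_equiv e
    refine ⟨inferInstance, inferInstance, ?_⟩
    rw [pow_succ', AddMonoid.End.coe_mul, Function.comp_apply, he, T_cls, cls_congr e]

/-- Around a prime, `P` is isomorphic to `R^r` up to an element outside the prime. -/
lemma exists_quasiIso (r : ℕ) (p : PrimeSpectrum R) (hr : Module.rankAtStalk (R := R) P p = r) :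
    ∃ g ∉ p.asIdeal, ∃ (φ : (Fin r → R) →ₗ[R] P) (ψ : P →ₗ[R] (Fin r → R)),
      (∀ x, ψ (φ x) = g • x) ∧ ∀ y, φ (ψ y) = g • y := by
  haveI : Module.FinitePresentation R P := Module.finitePresentation_of_projective R P
  haveI : Nontrivial R := p.nontrivial
  set S := p.asIdeal.primeCompl
  let f := LocalizedModule.mkLinearMap S (Fin r → R)
  let g := LocalizedModule.mkLinearMap S P
  haveI : Module.Free (Localization S) (LocalizedModule S P) := Module.free_of_flat_of_isLocalRing
  haveI : Module.Free (Localization S) (LocalizedModule S (Fin r → R)) := Module.free_of_flat_of_isLocalRing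
  have hd : Module.finrank (Localization S) (LocalizedModule S (Fin r → R)) =
      Module.finrank (Localization S) (LocalizedModule S P) := by
    have h1 : Module.rankAtStalk (R := R) (Fin r → R) p = r := by
      rw [Module.rankAtStalk_eq_finrank_of_free]; simp
    exact h1.trans hr.symm
  let e := (LinearEquiv.ofFinrankEq _ _ hd).restrictScalars R
  obtain ⟨l, s, hl⟩ :=
    Module.FinitePresentation.exists_lift_of_isLocalizedModule S g (e.toLinearMap ∘ₗ f)
  obtain ⟨l', s', hl'⟩ :=
    Module.FinitePresentation.exists_lift_of_isLocalizedModule S f (e.symm.toLinearMap ∘ₗ g)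
  have H₁ : g ∘ₗ (l ∘ₗ l') = g ∘ₗ ((s * s') • LinearMap.id) := by
    refine LinearMap.ext fun y => ?_
    have a1 := DFunLike.congr_fun hl (l' y)
    have a2 := DFunLike.congr_fun hl' y
    simp only [LinearMap.coe_comp, LinearEquiv.coe_coe, Function.comp_apply, LinearMap.smul_apply,
      Submonoid.smul_def, LinearMap.id_apply, Submonoid.coe_mul] at a1 a2 ⊢
    rw [a1, a2, map_smul, e.apply_symm_apply, map_smul, smul_smul]
  have H₂ : f ∘ₗ (l' ∘ₗ l) = f ∘ₗ ((s * s') • LinearMap.id) := by
    refine LinearMap.ext fun y => ?_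
    have a1 := DFunLike.congr_fun hl y
    have a2 := DFunLike.congr_fun hl' (l y)
    simp only [LinearMap.coe_comp, LinearEquiv.coe_coe, Function.comp_apply, LinearMap.smul_apply,
      Submonoid.smul_def, LinearMap.id_apply, Submonoid.coe_mul] at a1 a2 ⊢
    rw [a2, a1, map_smul, e.symm_apply_apply, map_smul, smul_smul, mul_comm]
  obtain ⟨s₁, hs₁⟩ := Module.Finite.exists_smul_of_comp_eq_of_isLocalizedModule S g _ _ H₁
  obtain ⟨s₂, hs₂⟩ := Module.Finite.exists_smul_of_comp_eq_of_isLocalizedModule S f _ _ H₂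
  refine ⟨((s₁ * s₂) * (s * s') : S), ((s₁ * s₂) * (s * s')).2, l, ((s₁ * s₂ : S) : R) • l', ?_, ?_⟩
  · intro x
    have := DFunLike.congr_fun hs₂ x
    simp only [LinearMap.smul_apply, Submonoid.smul_def, LinearMap.coe_comp, Function.comp_apply,
      LinearMap.id_apply, Submonoid.coe_mul] at this ⊢
    rw [mul_smul, this]
    simp only [smul_smul]
    ring_nf
  · intro y
    have := DFunLike.congr_fun hs₁ y
    simp only [LinearMap.smul_apply, Submonoid.smul_def, LinearMap.coe_comp, Function.comp_apply,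
      LinearMap.id_apply, Submonoid.coe_mul, map_smul] at this ⊢
    rw [mul_comm (s₁ : R), mul_smul, this]
    simp only [smul_smul]
    ring_nf

/-- A two-periodic complex which is contractible after inverting each element of a list, with class
`(r - T)^length`. -/
lemma exists_complex (r : ℕ) (L : List R)
    (hL : ∀ g ∈ L, ∃ (φ : (Fin r → R) →ₗ[R] P) (ψ : P →ₗ[R] (Fin r → R)),
      (∀ x, ψ (φ x) = g • x) ∧ ∀ y, φ (ψ y) = g • y) :
    ∃ (X₀ X₁ : Type u) (_ : AddCommGroup X₀) (_ : Module R X₀) (_ : Module.Finite R X₀)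
      (_ : Module.Projective R X₀) (_ : AddCommGroup X₁) (_ : Module R X₁) (_ : Module.Finite R X₁)
      (_ : Module.Projective R X₁) (D₀ : X₀ →ₗ[R] X₁) (D₁ : X₁ →ₗ[R] X₀),
      D₁ ∘ₗ D₀ = 0 ∧ D₀ ∘ₗ D₁ = 0 ∧
      cls R X₀ - cls R X₁ = (HPow.hPow ((r : AddMonoid.End (K0 R)) - T P) L.length : AddMonoid.End (K0 R)) (cls R R) ∧
      ∀ g ∈ L, ∃ (H₀ : X₀ →ₗ[R] X₁) (H₁ : X₁ →ₗ[R] X₀),
        D₁ ∘ₗ H₀ + H₁ ∘ₗ D₀ = g • LinearMap.id ∧ D₀ ∘ₗ H₁ + H₀ ∘ₗ D₁ = g • LinearMap.id := by
  induction L with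
  | nil =>
    exact ⟨R, PUnit.{u + 1}, inferInstance, inferInstance, inferInstance, inferInstance,
      inferInstance, inferInstance, inferInstance, inferInstance, 0, 0, by simp, by simp,
      by simp [cls_subsingleton], by simp⟩
  | cons g L ih =>
    obtain ⟨X₀, X₁, _, _, _, _, _, _, _, _, D₀, D₁, h10, h01, hcls, hH⟩ :=
      ih fun a ha => hL a (List.mem_cons_of_mem _ ha)
    obtain ⟨φ, ψ, hψφ, hφψ⟩ := hL g List.mem_cons_self
    let F := Fin r → R
    let A := X₀ ⊗[R] F
    let B := X₁ ⊗[R] P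
    let C := X₁ ⊗[R] F
    let D := X₀ ⊗[R] P
    let E₀ : (A × B) →ₗ[R] (C × D) :=
      ((D₀.rTensor F) ∘ₗ LinearMap.fst R A B).prod
        ((φ.lTensor X₀) ∘ₗ LinearMap.fst R A B - (D₁.rTensor P) ∘ₗ LinearMap.snd R A B)
    let E₁ : (C × D) →ₗ[R] (A × B) :=
      ((D₁.rTensor F) ∘ₗ LinearMap.fst R C D).prod
        ((φ.lTensor X₁) ∘ₗ LinearMap.fst R C D - (D₀.rTensor P) ∘ₗ LinearMap.snd R C D)
    refine ⟨A × B, C × D, inferInstance, inferInstance, inferInstance, inferInstance, inferInstance,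
      inferInstance, inferInstance, inferInstance, E₀, E₁, ?_, ?_, ?_, ?_⟩
    · have e1 : ∀ a : A, (D₁.rTensor F) (D₀.rTensor F a) = 0 := fun a => by
        rw [← LinearMap.rTensor_comp_apply, h10]; simp
      have e2 : ∀ b : B, (D₀.rTensor P) (D₁.rTensor P b) = 0 := fun b => by
        rw [← LinearMap.rTensor_comp_apply, h01]; simp
      have e3 : ∀ a : A, (φ.lTensor X₁) (D₀.rTensor F a) = (D₀.rTensor P) (φ.lTensor X₀ a) := fun a => by
        rw [← LinearMap.comp_apply, LinearMap.lTensor_comp_rTensor, ← LinearMap.rTensor_comp_lTensor]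
        rfl
      refine LinearMap.ext fun x => Prod.ext ?_ ?_
      · simpa [E₀, E₁] using e1 x.1
      · simp [E₀, E₁, map_sub, e2, e3]
    · have e1 : ∀ c : C, (D₀.rTensor F) (D₁.rTensor F c) = 0 := fun a => by
        rw [← LinearMap.rTensor_comp_apply, h01]; simp
      have e2 : ∀ d : D, (D₁.rTensor P) (D₀.rTensor P d) = 0 := fun b => by
        rw [← LinearMap.rTensor_comp_apply, h10]; simp
      have e3 : ∀ c : C, (φ.lTensor X₀) (D₁.rTensor F c) = (D₁.rTensor P) (φ.lTensor X₁ c) := fun a => by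
        rw [← LinearMap.comp_apply, LinearMap.lTensor_comp_rTensor, ← LinearMap.rTensor_comp_lTensor]
        rfl
      refine LinearMap.ext fun x => Prod.ext ?_ ?_
      · simpa [E₀, E₁] using e1 x.1
      · simp [E₀, E₁, map_sub, e2, e3]
    · have hF : ∀ (X : Type u) [AddCommGroup X] [Module R X] [Module.Finite R X] [Module.Projective R X],
          cls R (X ⊗[R] F) = r • cls R X := fun X _ _ _ _ => by
        rw [cls_congr (TensorProduct.piScalarRight R R X (Fin r)), cls_pi]
      rw [cls_prod, cls_prod, hF X₀, hF X₁, ← T_cls P X₀, ← T_cls P X₁, List.length_cons, pow_succ',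
        AddMonoid.End.coe_mul, Function.comp_apply, ← hcls]
      show _ = (r : AddMonoid.End (K0 R)) (cls R X₀ - cls R X₁) - T P (cls R X₀ - cls R X₁)
      rw [AddMonoid.End.natCast_apply, map_sub, smul_sub]
      abel
    · intro a ha
      rcases List.mem_cons.mp ha with rfl | ha
      · let K₀ : (A × B) →ₗ[R] (C × D) := ((ψ.lTensor X₁) ∘ₗ LinearMap.snd R A B).prod 0
        let K₁ : (C × D) →ₗ[R] (A × B) := ((ψ.lTensor X₀) ∘ₗ LinearMap.snd R C D).prod 0
        have k1 : ∀ (X : Type u) [AddCommGroup X] [Module R X] (z : X ⊗[R] F),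
            ψ.lTensor X (φ.lTensor X z) = a • z := fun X _ _ z => by
          rw [← LinearMap.lTensor_comp_apply, show ψ ∘ₗ φ = a • LinearMap.id from LinearMap.ext hψφ,
            LinearMap.lTensor_smul, LinearMap.lTensor_id]
          rfl
        have k2 : ∀ (X : Type u) [AddCommGroup X] [Module R X] (z : X ⊗[R] P),
            φ.lTensor X (ψ.lTensor X z) = a • z := fun X _ _ z => by
          rw [← LinearMap.lTensor_comp_apply, show φ ∘ₗ ψ = a • LinearMap.id from LinearMap.ext hφψ,
            LinearMap.lTensor_smul, LinearMap.lTensor_id]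
          rfl
        have s1 : ∀ b : B, (D₁.rTensor F) (ψ.lTensor X₁ b) = ψ.lTensor X₀ (D₁.rTensor P b) := fun b => by
          rw [← LinearMap.comp_apply, LinearMap.rTensor_comp_lTensor, ← LinearMap.lTensor_comp_rTensor]
          rfl
        have s2 : ∀ d : D, (D₀.rTensor F) (ψ.lTensor X₀ d) = ψ.lTensor X₁ (D₀.rTensor P d) := fun b => by
          rw [← LinearMap.comp_apply, LinearMap.rTensor_comp_lTensor, ← LinearMap.lTensor_comp_rTensor]
          rfl
        refine ⟨K₀, K₁, ?_, ?_⟩
        · refine LinearMap.ext fun x => Prod.ext ?_ ?_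
          · simp [E₀, E₁, K₀, K₁, map_sub, s1, k1]
          · simp [E₀, E₁, K₀, K₁, map_sub, k2]
        · refine LinearMap.ext fun x => Prod.ext ?_ ?_
          · simp [E₀, E₁, K₀, K₁, map_sub, s2, k1]
          · simp [E₀, E₁, K₀, K₁, map_sub, k2]
      · obtain ⟨H₀, H₁, hh0, hh1⟩ := hH a ha
        let K₀ : (A × B) →ₗ[R] (C × D) := ((H₀.rTensor F) ∘ₗ LinearMap.fst R A B).prod
          (-((H₁.rTensor P) ∘ₗ LinearMap.snd R A B))
        let K₁ : (C × D) →ₗ[R] (A × B) := ((H₁.rTensor F) ∘ₗ LinearMap.fst R C D).prod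
          (-((H₀.rTensor P) ∘ₗ LinearMap.snd R C D))
        have p0 : ∀ (Y : Type u) [AddCommGroup Y] [Module R Y] (z : X₀ ⊗[R] Y),
            D₁.rTensor Y (H₀.rTensor Y z) + H₁.rTensor Y (D₀.rTensor Y z) = a • z := fun Y _ _ z => by
          rw [← LinearMap.rTensor_comp_apply, ← LinearMap.rTensor_comp_apply, ← LinearMap.add_apply,
            ← LinearMap.rTensor_add, hh0, LinearMap.rTensor_smul, LinearMap.rTensor_id]
          rfl
        have p1 : ∀ (Y : Type u) [AddCommGroup Y] [Module R Y] (z : X₁ ⊗[R] Y),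
            D₀.rTensor Y (H₁.rTensor Y z) + H₀.rTensor Y (D₁.rTensor Y z) = a • z := fun Y _ _ z => by
          rw [← LinearMap.rTensor_comp_apply, ← LinearMap.rTensor_comp_apply, ← LinearMap.add_apply,
            ← LinearMap.rTensor_add, hh1, LinearMap.rTensor_smul, LinearMap.rTensor_id]
          rfl
        have c0 : ∀ z : A, φ.lTensor X₁ (H₀.rTensor F z) = H₀.rTensor P (φ.lTensor X₀ z) := fun z => by
          rw [← LinearMap.comp_apply, LinearMap.lTensor_comp_rTensor, ← LinearMap.rTensor_comp_lTensor]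
          rfl
        have c1 : ∀ z : C, φ.lTensor X₀ (H₁.rTensor F z) = H₁.rTensor P (φ.lTensor X₁ z) := fun z => by
          rw [← LinearMap.comp_apply, LinearMap.lTensor_comp_rTensor, ← LinearMap.rTensor_comp_lTensor]
          rfl
        refine ⟨K₀, K₁, ?_, ?_⟩
        · refine LinearMap.ext fun x => Prod.ext ?_ ?_
          · simpa [E₀, E₁, K₀, K₁] using p0 F x.1
          · simp [E₀, E₁, K₀, K₁, map_sub, c0]
            rw [← p1 P x.2]
            abel
        · refine LinearMap.ext fun x => Prod.ext ?_ ?_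
          · simpa [E₀, E₁, K₀, K₁] using p1 F x.1
          · simp [E₀, E₁, K₀, K₁, map_sub, c1]
            rw [← p0 P x.2]
            abel

omit P in
/-- A contractible two-periodic complex has isomorphic even and odd part. -/
lemma equiv_of_contractible {X₀ X₁ : Type u} [AddCommGroup X₀] [Module R X₀] [AddCommGroup X₁]
    [Module R X₁] (D₀ : X₀ →ₗ[R] X₁) (D₁ : X₁ →ₗ[R] X₀) (H₀ : X₀ →ₗ[R] X₁) (H₁ : X₁ →ₗ[R] X₀)
    (h10 : ∀ x, D₁ (D₀ x) = 0) (h01 : ∀ x, D₀ (D₁ x) = 0)
    (hh0 : ∀ x, D₁ (H₀ x) + H₁ (D₀ x) = x) (hh1 : ∀ x, D₀ (H₁ x) + H₀ (D₁ x) = x) :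
    Nonempty (X₀ ≃ₗ[R] X₁) := by
  have a0 : ∀ x, D₁ (H₀ (D₁ x)) = D₁ x := fun x => by
    have := congrArg D₁ (hh1 x); rwa [map_add, h10, zero_add] at this
  have a1 : ∀ x, D₀ (H₁ (D₀ x)) = D₀ x := fun x => by
    have := congrArg D₀ (hh0 x); rwa [map_add, h01, zero_add] at this
  have b0 : ∀ x, D₀ (H₁ (H₀ x)) = H₀ (H₁ (D₀ x)) := fun x => by
    have e2 := congrArg H₀ (hh0 x)
    rw [map_add] at e2
    have e3 := (hh1 (H₀ x)).trans e2.symm
    rw [add_comm] at e3
    exact add_left_cancel e3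
  have b1 : ∀ x, D₁ (H₀ (H₁ x)) = H₁ (H₀ (D₁ x)) := fun x => by
    have e2 := congrArg H₁ (hh1 x)
    rw [map_add] at e2
    have e3 := (hh0 (H₁ x)).trans e2.symm
    rw [add_comm] at e3
    exact add_left_cancel e3
  refine ⟨LinearEquiv.ofLinear (D₀ + H₀ ∘ₗ D₁ ∘ₗ H₀) (D₁ + H₁ ∘ₗ D₀ ∘ₗ H₁) ?_ ?_⟩
  · refine LinearMap.ext fun x => ?_
    simp only [LinearMap.coe_comp, Function.comp_apply, LinearMap.add_apply, LinearMap.id_apply, map_add]
    rw [h01 x, a0 x, a1 (H₁ x), b1 (D₀ (H₁ x)), h10]
    simp only [map_zero, add_zero, zero_add]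
    rw [add_comm]
    exact hh1 x
  · refine LinearMap.ext fun x => ?_
    simp only [LinearMap.coe_comp, Function.comp_apply, LinearMap.add_apply, LinearMap.id_apply, map_add]
    rw [h10 x, a1 x, a0 (H₀ x), b0 (D₁ (H₀ x)), h01]
    simp only [map_zero, add_zero, zero_add]
    rw [add_comm]
    exact hh0 x

/-- `r - T` is nilpotent on the class of `R` when `P` has constant rank `r`. -/
lemma exists_pow_eq_zero (r : ℕ) (hr : ∀ p : PrimeSpectrum R, Module.rankAtStalk (R := R) P p = r) :
    ∃ m : ℕ, (HPow.hPow ((r : AddMonoid.End (K0 R)) - T P) m : AddMonoid.End (K0 R)) (cls R R) = 0 := by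
  choose g hg hq using fun p => exists_quasiIso P r p (hr p)
  have htop : Ideal.span (Set.range g) = ⊤ := by
    by_contra hne
    obtain ⟨p, hp, hle⟩ := Ideal.exists_le_maximal _ hne
    exact hg ⟨p, hp.isPrime⟩ (hle (Ideal.subset_span ⟨_, rfl⟩))
  obtain ⟨t, hts, ht1⟩ := Submodule.mem_span_finite_of_mem_span
    ((Ideal.eq_top_iff_one _).mp htop : (1 : R) ∈ Submodule.span R (Set.range g))
  obtain ⟨X₀, X₁, _, _, _, _, _, _, _, _, D₀, D₁, h10, h01, hcls, hH⟩ :=
    exists_complex P r t.toList (fun a ha => by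
      obtain ⟨p, rfl⟩ := hts (Finset.mem_toList.mp ha)
      exact hq p)
  refine ⟨t.toList.length, hcls ▸ sub_eq_zero.mpr ?_⟩
  have : ∀ a ∈ Submodule.span R (t : Set R), ∃ (H₀ : X₀ →ₗ[R] X₁) (H₁ : X₁ →ₗ[R] X₀),
      D₁ ∘ₗ H₀ + H₁ ∘ₗ D₀ = a • LinearMap.id ∧ D₀ ∘ₗ H₁ + H₀ ∘ₗ D₁ = a • LinearMap.id := by
    intro a ha
    induction ha using Submodule.span_induction with
    | mem x hx => exact hH x (Finset.mem_toList.mpr hx)
    | zero => exact ⟨0, 0, by simp, by simp⟩
    | add x y _ _ hx hy =>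
      obtain ⟨a0, a1, ea, ea'⟩ := hx
      obtain ⟨b0, b1, eb, eb'⟩ := hy
      refine ⟨a0 + b0, a1 + b1, ?_, ?_⟩
      · rw [LinearMap.comp_add, LinearMap.add_comp, add_smul, ← ea, ← eb]; abel
      · rw [LinearMap.comp_add, LinearMap.add_comp, add_smul, ← ea', ← eb']; abel
    | smul c x _ hx =>
      obtain ⟨a0, a1, ea, ea'⟩ := hx
      refine ⟨c • a0, c • a1, ?_, ?_⟩
      · rw [LinearMap.comp_smul, LinearMap.smul_comp, ← smul_add, ea, smul_eq_mul, mul_smul]
      · rw [LinearMap.comp_smul, LinearMap.smul_comp, ← smul_add, ea', smul_eq_mul, mul_smul]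
  obtain ⟨H₀, H₁, e0, e1⟩ := this 1 ht1
  obtain ⟨e⟩ := equiv_of_contractible D₀ D₁ H₀ H₁ (DFunLike.congr_fun h10) (DFunLike.congr_fun h01)
    (fun x => by simpa using DFunLike.congr_fun e0 x) (fun x => by simpa using DFunLike.congr_fun e1 x)
  exact cls_congr e

end

open Polynomial in
/-- If `x` is nilpotent on `v` and `(r + x)^n` fixes the multiple `r^n` of `v`, then `x v` is torsion. -/
lemma exists_torsion {K : Type*} [AddCommGroup K] (f : AddMonoid.End K) (v : K) (r n m : ℕ)
    (hn : (f ^ n) v = (r ^ n : ℕ) • v) (hm : (((r : AddMonoid.End K) - f) ^ m) v = 0) :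
    ((n * r ^ (n - 1)) ^ (m - 1)) • (f v) = ((n * r ^ (n - 1)) ^ (m - 1)) • (r • v) := by
  let L : ℤ[X] → K := fun p => (aeval f p) v
  have hadd : ∀ p q, L (p + q) = L p + L q := fun p q => by simp [L, map_add]; rfl
  have hmul : ∀ p q, L q = 0 → L (p * q) = 0 := fun p q h => by
    show (aeval f (p * q)) v = 0
    rw [map_mul, AddMonoid.End.coe_mul, Function.comp_apply, show (aeval f q) v = 0 from h, map_zero]
  let x : ℤ[X] := X - C (r : ℤ)
  obtain ⟨w, hw⟩ : ∃ w, (X : ℤ[X]) ^ n = C ((r : ℤ) ^ n) + C ((n : ℤ) * (r : ℤ) ^ (n - 1)) * x + x ^ 2 * w := by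
    clear hn
    induction n with
    | zero => exact ⟨0, by simp⟩
    | succ k ih =>
      obtain ⟨w, hw⟩ := ih
      refine ⟨X * w + C ((k : ℤ) * (r : ℤ) ^ (k - 1)), ?_⟩
      rcases Nat.eq_zero_or_pos k with rfl | hk
      · simp only [x, pow_zero, Nat.cast_zero, map_zero, zero_mul, add_zero, map_one, mul_zero,
          zero_add, Nat.zero_sub, Nat.sub_self, pow_one, Nat.cast_one, mul_one] at hw ⊢
        linear_combination (X : ℤ[X]) * hw
      · obtain ⟨j, rfl⟩ := Nat.exists_eq_add_of_le hk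
        rw [pow_succ, hw]
        simp only [x, Nat.cast_add, Nat.cast_one, Nat.add_sub_cancel_left, Nat.add_sub_cancel, map_add,
          map_mul, map_pow, map_one, add_comm 1 j, pow_succ]
        ring
  set c : ℤ := (n : ℤ) * (r : ℤ) ^ (n - 1)
  have h1 : L (C c * x + x ^ 2 * w) = 0 := by
    have : L (X ^ n) = L (C ((r : ℤ) ^ n)) + L (C c * x + x ^ 2 * w) := by
      rw [← hadd, ← add_assoc, ← hw]
    have e1 : L (X ^ n) = (r ^ n : ℕ) • v := by simp [L, hn]
    have e2 : L (C ((r : ℤ) ^ n)) = (r ^ n : ℕ) • v := by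
      show (aeval f (C ((r : ℤ) ^ n))) v = _
      rw [← Nat.cast_pow, aeval_C, map_natCast, AddMonoid.End.natCast_apply]
    rw [e1, e2] at this
    exact left_eq_add.mp this
  have h2 : L (x ^ m) = 0 := by
    show (aeval f (x ^ m)) v = 0
    have e : aeval f x = -((r : AddMonoid.End K) - f) := by simp [x]
    rw [map_pow, e, neg_pow, AddMonoid.End.coe_mul, Function.comp_apply, hm, map_zero]
  have key : ∀ j, j < m → L (C (c ^ j) * x ^ (m - j)) = 0 := by
    intro j
    induction j with
    | zero => intro _; simpa using h2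
    | succ j ih =>
      intro hj
      obtain ⟨i, hi⟩ : ∃ i, m - j = i + 2 := ⟨m - j - 2, by omega⟩
      rw [show m - (j + 1) = i + 1 from by omega]
      have := ih (by omega)
      rw [hi] at this
      rw [show C (c ^ (j + 1)) * x ^ (i + 1) =
        (C (c ^ j) * x ^ i) * (C c * x + x ^ 2 * w) + (-w) * (C (c ^ j) * x ^ (i + 2)) from by
          simp only [map_pow]; ring, hadd, hmul _ _ h1, hmul _ _ this, add_zero]
  rcases Nat.eq_zero_or_pos m with rfl | hmp
  · simp at hm; subst hm; simp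
  have := key (m - 1) (by omega)
  rw [show m - (m - 1) = 1 from by omega, pow_one] at this
  rw [← sub_eq_zero, ← smul_sub]
  rw [← this]
  show _ = (aeval f (C (c ^ (m - 1)) * x)) v
  rw [map_mul, AddMonoid.End.coe_mul, Function.comp_apply,
    show c ^ (m - 1) = (((n * r ^ (n - 1)) ^ (m - 1) : ℕ) : ℤ) from by push_cast; rfl,
    aeval_C, map_natCast, AddMonoid.End.natCast_apply]
  simp [x, AddMonoid.End.natCast_apply]
  rfl

/-- Let R be a Noetherian commutative ring of finite Krull dimension and P a finitely generated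
projective R-module. If the n-th tensor power of P is free for some n ≥ 1, then the direct sum of N
copies of P is free for some N ≥ 1. -/
theorem result (R : Type u) [CommRing R] [IsNoetherianRing R]
    (hdim : ringKrullDim R < ⊤) (P : Type u) [AddCommGroup P] [Module R P] [Module.Finite R P]
    [Module.Projective R P] (n : ℕ) (hn : 1 ≤ n) (hfree : Module.Free R (TensorPower R n P)) :
    ∃ N : ℕ, 1 ≤ N ∧ Module.Free R (Fin N → P) := by
  rcases subsingleton_or_nontrivial R with hR | hR
  · exact ⟨1, le_rfl, Module.Free.of_subsingleton' R _⟩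
  have hrk : ∀ (k : ℕ) (p : PrimeSpectrum R),
      Module.rankAtStalk (R := R) (TensorPower R k P) p = Module.rankAtStalk (R := R) P p ^ k := by
    intro k
    induction k with
    | zero =>
      intro p
      rw [Module.rankAtStalk_eq_of_equiv (PiTensorProduct.isEmptyEquiv (R := R) (s := fun _ => P) (Fin 0)),
        pow_zero, Module.rankAtStalk_self]
      rfl
    | succ k ih =>
      intro p
      obtain ⟨hf, hp, -⟩ := exists_tensorPower (R := R) P k
      rw [← Module.rankAtStalk_eq_of_equiv ((TensorProduct.congr (LinearEquiv.refl R (TensorPower R k P))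
        (PiTensorProduct.subsingletonEquiv (R := R) (s := fun _ : Fin 1 => P) 0).symm).trans
          TensorPower.mulEquiv), Module.rankAtStalk_tensorProduct, Pi.mul_apply, ih, pow_succ]
  obtain ⟨hfin, hproj, hTn⟩ := exists_tensorPower (R := R) P n
  haveI := hfree
  obtain ⟨p₀⟩ : Nonempty (PrimeSpectrum R) := inferInstance
  set r := Module.rankAtStalk (R := R) P p₀
  have hpow : ∀ p : PrimeSpectrum R, Module.rankAtStalk (R := R) P p ^ n =
      Module.finrank R (TensorPower R n P) := fun p => by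
    rw [← hrk, Module.rankAtStalk_eq_finrank_of_free]; rfl
  have hr : ∀ p, Module.rankAtStalk (R := R) P p = r := fun p =>
    Nat.pow_left_injective (by omega) ((hpow p).trans (hpow p₀).symm)
  rcases Nat.eq_zero_or_pos r with h0 | hpos
  · haveI : Subsingleton P := (Module.rankAtStalk_eq_zero_iff_subsingleton (R := R)).mp
      (funext fun p => (hr p).trans h0)
    exact ⟨1, le_rfl, Module.Free.of_subsingleton R _⟩
  have hn' : (T P ^ n) (cls R R) = (r ^ n : ℕ) • cls R R := by
    rw [hTn, show r ^ n = Module.finrank R (TensorPower R n P) from hpow p₀,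
      cls_congr (Module.finBasis R (TensorPower R n P)).equivFun, cls_pi]
  obtain ⟨m, hm⟩ := exists_pow_eq_zero P r hr
  obtain ⟨d, hd⟩ : ∃ d : ℕ, ringKrullDim R ≤ d := by
    match h : ringKrullDim R with
    | ⊥ => exact ⟨0, bot_le⟩
    | some none => exact absurd (h ▸ hdim) (lt_irrefl _)
    | some (some d) => exact ⟨d, le_rfl⟩
  set M := (n * r ^ (n - 1)) ^ (m - 1)
  have hM : 1 ≤ M := Nat.one_le_iff_ne_zero.mpr (pow_ne_zero _ (Nat.mul_ne_zero (by omega) (pow_ne_zero _ (by omega))))
  set N := (d + 1) * M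
  have hN : cls R (Fin N → P) = cls R (Fin (N * r) → R) := by
    rw [cls_pi, cls_pi, cls_congr (TensorProduct.lid R P).symm, ← T_cls, mul_smul, mul_smul, mul_smul,
      exists_torsion (T P) (cls R R) r n m hn' hm]
  obtain ⟨Q, _, _, _, _, ⟨e⟩⟩ := exists_iso_of_cls_eq hN
  obtain ⟨q, π, hπ⟩ := Module.Finite.exists_fin' R Q
  obtain ⟨σ, hσ⟩ := Module.projective_lifting_property π LinearMap.id hπ
  have hσ' : Function.LeftInverse π σ := DFunLike.congr_fun hσ
  let dec : (Fin q → R) ≃ₗ[R] Q × LinearMap.ker π :=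
    ((Function.Exact.splitSurjectiveEquiv (LinearMap.exact_subtype_ker_map π)
      (Submodule.subtype_injective _)) ⟨σ, hσ⟩).1.trans (LinearEquiv.prodComm R _ _)
  let e' : ((Fin (N * r) → R) × (Fin q → R)) ≃ₗ[R] ((Fin N → P) × (Fin q → R)) :=
    ((LinearEquiv.refl R _).prodCongr dec).trans <| (LinearEquiv.prodAssoc R _ _ _).symm.trans <|
      (e.symm.prodCongr (LinearEquiv.refl R _)).trans <| (LinearEquiv.prodAssoc R _ _ _).trans
        ((LinearEquiv.refl R _).prodCongr dec.symm)
  have hk : ∀ p : PrimeSpectrum R, d + 1 ≤ Module.rankAtStalk (R := R) (Fin (N * r) → R) p := fun p => by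
    rw [Module.rankAtStalk_eq_finrank_of_free, Module.finrank_fin_fun]
    show d + 1 ≤ (d + 1) * M * r
    rw [mul_assoc]
    exact Nat.le_mul_of_pos_right _ (by positivity)
  obtain ⟨f⟩ := Groth.Agent.CAlg99.BassCancel.cancel hd hk q e'
  exact ⟨N, Nat.one_le_iff_ne_zero.mpr (Nat.mul_ne_zero (by omega) (by omega)), Module.Free.of_equiv f⟩

end Groth.Agent.S14985
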