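import Groth.Statements.S14987
import Groth.Agent.S10350
import Groth.Agent.S10374
import Groth.Agent.AlgSpB.Open
import Groth.Agent.AlgSpB.Diag
import Groth.Agent.AlgSpD.DecentPoint
import Groth.Agent.AlgSp.NoethFib
import Groth.Agent.AlgSp.GorCore
import Groth.Agent.EtaleSite.TopInv
import Groth.Prelude.Def_AlgSpModX

set_option backward.isDefEq.respectTransparency false

set_option autoImplicit false
universe u
open CategoryTheory CategoryTheory.Limits AlgebraicGeometry Topology TopologicalSpace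
open AlgSp

namespace Groth.Agent.S14987

variable {S : Scheme.{u}}

/-- A morphism to an affine scheme all of whose values are `u` factors through the local ring at `u`. -/
theorem exists_factor_fromSpecStalk {T U : Scheme.{u}} [IsAffine U] (b : T ⟶ U) (u : U) (hb : ∀ t, b t = u) :
    ∃ c : T ⟶ Spec (U.presheaf.stalk u), c ≫ U.fromSpecStalk u = b := by
  let := TopCat.Presheaf.algebra_section_stalk U.presheaf (⟨u, trivial⟩ : (⊤ : U.Opens))
  have := (isAffineOpen_top U).isLocalization_stalk ⟨u, trivial⟩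
  let p := ((isAffineOpen_top U).primeIdealOf ⟨u, trivial⟩).asIdeal
  have hunit : ∀ f : p.primeCompl, IsUnit (b.appTop.hom f) := fun f => by
    have hf : u ∈ U.basicOpen (f : Γ(U, ⊤)) :=
      (Scheme.mem_basicOpen_top _ _ _).2 (IsLocalization.map_units _ f)
    refine RingedSpace.isUnit_of_isUnit_germ _ _ _ fun t ht => (Scheme.mem_basicOpen _ _ t ht).1 ?_
    rw [← Scheme.preimage_basicOpen_top]
    exact show b t ∈ U.basicOpen (f : Γ(U, ⊤)) by rw [hb]; exact hf
  let ψ : U.presheaf.stalk u →+* Γ(T, ⊤) := IsLocalization.lift (M := p.primeCompl) hunit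
  have e : U.presheaf.germ ⊤ u trivial ≫ CommRingCat.ofHom ψ = b.appTop :=
    CommRingCat.hom_ext (RingHom.ext fun x => IsLocalization.lift_eq hunit x)
  refine ⟨T.toSpecΓ ≫ Spec.map (CommRingCat.ofHom ψ), ?_⟩
  rw [← (isAffineOpen_top U).fromSpecStalk_eq_fromSpecStalk (x := u) trivial, IsAffineOpen.fromSpecStalk,
    IsAffineOpen.fromSpec_top, Category.assoc, ← Spec.map_comp_assoc, e, ← Scheme.toSpecΓ_naturality_assoc,
    ← Scheme.isoSpec_hom, Iso.hom_inv_id, Category.comp_id]

/-- The range of a closed immersion into an affine scheme. -/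
theorem range_eq_zeroLocus {P E : Scheme.{u}} [IsAffine E] (f : P ⟶ E) [IsClosedImmersion f] :
    Set.range f = E.zeroLocus (U := ⊤) (RingHom.ker f.appTop.hom : Set Γ(E, ⊤)) := by
  have h1 : (f.ker.support : Set E) = Set.range f := by
    rw [Scheme.Hom.support_ker]
    exact f.isClosedEmbedding.isClosed_range.closure_eq
  have h2 := f.ker.coe_support_inter ⟨⊤, isAffineOpen_top E⟩
  rw [show ((⟨⊤, isAffineOpen_top E⟩ : E.affineOpens).1 : Set E) = Set.univ from rfl, Set.inter_univ, Set.inter_univ] at h2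
  rw [← h1, h2, Scheme.Hom.ker_apply]

/-- Powers have the same zero locus. -/
theorem zeroLocus_pow {E : Scheme.{u}} (J : Ideal Γ(E, ⊤)) {n : ℕ} (hn : n ≠ 0) :
    E.zeroLocus (U := ⊤) ((J ^ n : Ideal Γ(E, ⊤)) : Set Γ(E, ⊤)) = E.zeroLocus (U := ⊤) (J : Set Γ(E, ⊤)) := by
  rw [← Scheme.zeroLocus_radical, Ideal.radical_pow J hn, Scheme.zeroLocus_radical]

variable {X : AlgSp.Sp S} {U : Over S} {a : (AlgSp.yon S).obj U ⟶ X} {u : ↥U.left} {z : AlgSp.Points X}

/-- A subspace cut out by a power of the ideal of another has the same points. -/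
theorem mem_range_of_pow {Z P : AlgSp.Sp S} {iZ : Z ⟶ X} {q : P ⟶ X} (hi1 : AlgSp.RepWith @IsClosedImmersion q)
    (hi2 : AlgSp.RepWith @IsClosedImmersion iZ) {I : AlgSp.IdealEt X} (hI : AlgSp.idealOfRep hi1.1 = I) {n : ℕ}
    (hIn : AlgSp.idealOfRep hi2.1 = I ^ n) (hn : 1 ≤ n) (E : AlgSp.EtOver X) (hE : IsAffine E.obj.left.left)
    (v : ↥E.obj.left.left) (hv : AlgSp.Points.ofPt E.obj.hom v ∈ Set.range (AlgSp.Points.map iZ)) :
    AlgSp.Points.ofPt E.obj.hom v ∈ Set.range (AlgSp.Points.map q) := by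
  have : IsClosedImmersion (AlgSp.EtOver.bcπ hi1.1 E).left := hi1.2 _ _ _ (hi1.1.isPullback E.obj.hom)
  have : IsClosedImmersion (AlgSp.EtOver.bcπ hi2.1 E).left := hi2.2 _ _ _ (hi2.1.isPullback E.obj.hom)
  have r1 := Groth.Agent.AlgSpB.range_snd_eq (hi1.1.isPullback E.obj.hom)
  have r2 := Groth.Agent.AlgSpB.range_snd_eq (hi2.1.isPullback E.obj.hom)
  have hI' : RingHom.ker (AlgSp.EtOver.bcπ hi2.1 E).left.appTop.hom =
      RingHom.ker (AlgSp.EtOver.bcπ hi1.1 E).left.appTop.hom ^ n := by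
    have h := congrArg (fun J : AlgSp.IdealEt X => J.ideal E hE) hIn
    have h' := congrArg (fun J : AlgSp.IdealEt X => J.ideal E hE ^ n) hI
    exact h.trans h'.symm
  have e : Set.range (AlgSp.EtOver.bcπ hi2.1 E).left = Set.range (AlgSp.EtOver.bcπ hi1.1 E).left := by
    rw [range_eq_zeroLocus, range_eq_zeroLocus, hI']
    exact zeroLocus_pow _ (by omega)
  exact r1.le (e.le (r2.ge hv))

/-- The same, on an arbitrary chart. -/
theorem mem_range_of_chart {Z P : AlgSp.Sp S} {iZ : Z ⟶ X} {q : P ⟶ X} (hi1 : AlgSp.RepWith @IsClosedImmersion q)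
    (hi2 : AlgSp.RepWith @IsClosedImmersion iZ) {I : AlgSp.IdealEt X} (hI : AlgSp.idealOfRep hi1.1 = I) {n : ℕ}
    (hIn : AlgSp.idealOfRep hi2.1 = I ^ n) (hn : 1 ≤ n) {A : Over S} (b : (AlgSp.yon S).obj A ⟶ X)
    (hb : AlgSp.RepWith @Etale b) (v : ↥A.left) (hv : AlgSp.Points.ofPt b v ∈ Set.range (AlgSp.Points.map iZ)) :
    AlgSp.Points.ofPt b v ∈ Set.range (AlgSp.Points.map q) := by
  obtain ⟨W, hW, hvW, -⟩ := exists_isAffineOpen_mem_and_subset (x := v) (U := ⊤) trivial
  let A' : Over S := Over.mk (W.ι ≫ A.hom)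
  let j : A' ⟶ A := Over.homMk W.ι rfl
  have he : AlgSp.RepWith @Etale ((AlgSp.yon S).map j ≫ b) :=
    (AlgSp.RepWith _).comp_mem _ _ ((AlgSp.repWith_yon_map_iff _ j).2 (inferInstanceAs (Etale W.ι))) hb
  obtain ⟨w, hw⟩ : ∃ w : A'.left, j.left w = v := (Scheme.Opens.range_ι W).ge hvW
  have e : AlgSp.Points.ofPt ((AlgSp.yon S).map j ≫ b) w = AlgSp.Points.ofPt b v :=
    (Groth.Agent.AlgSpB.ofPt_map_comp j b w).trans (congrArg _ hw)
  exact e ▸ mem_range_of_pow hi1 hi2 hI hIn hn (AlgSp.EtOver.mk _ he) hW w (e.symm ▸ hv)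

/-- Above its point an elementary etale neighbourhood is an isomorphism. -/
theorem existsUnique_lift [IsAffine U.left] (ha : AlgSp.IsElemEtaleNbhd a u z) (hpre : AlgSp.Points.ofPt a ⁻¹' {z} = {u})
    {T : Over S} (g : (AlgSp.yon S).obj T ⟶ X) (hg : ∀ t, AlgSp.Points.ofPt g t = z) :
    ∃! b : T ⟶ U, (AlgSp.yon S).map b ≫ a = g := by
  obtain ⟨B, snd, fst, sq⟩ := ha.etale.1 g
  obtain ⟨fst, rfl⟩ := (AlgSp.yon S).map_surjective fst
  have : Etale snd.left := ha.etale.2 g _ snd sq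
  have hfu : ∀ x, fst.left x = u := fun x => by
    have : AlgSp.Points.ofPt a (fst.left x) = z := by
      rw [← AlgSpB.ofPt_map_comp, sq.w, AlgSpB.ofPt_map_comp, hg]
    exact (Set.ext_iff.1 hpre _).1 this
  have : Surjective snd.left := ⟨fun t => by
    rw [← Set.mem_range, AlgSpB.range_snd_eq sq]
    exact ⟨AlgSp.Points.ofScheme U u, by rw [← AlgSp.Points.ofPt_eq_map_ofScheme, ha.ofPt_eq, hg]⟩⟩
  have : UniversallyInjective snd.left := by
    rw [UniversallyInjective.iff_diagonal]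
    refine ⟨fun d => ?_⟩
    let D := pullback snd.left snd.left
    let e : Spec (D.residueField d) ⟶ D := D.fromSpecResidueField d
    let e₁ := e ≫ pullback.fst _ _
    let e₂ := e ≫ pullback.snd _ _
    have he : e₁ ≫ snd.left = e₂ ≫ snd.left := by simp [e₁, e₂, pullback.condition]
    let L : Over S := Over.mk (e₁ ≫ B.hom)
    let x₁ : L ⟶ B := Over.homMk e₁ rfl
    let x₂ : L ⟶ B := Over.homMk e₂ (by
      show e₂ ≫ B.hom = e₁ ≫ B.hom
      rw [← Over.w snd, reassoc_of% he])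
    have hx : x₁ ≫ snd = x₂ ≫ snd := Over.OverMorphism.ext he
    have hfac : ∀ x : L ⟶ B, ∃ c : L ⟶ (AlgSp.FieldPt.ofPt a u).pt,
        c ≫ Over.homMk (U.left.fromSpecResidueField u) rfl = x ≫ fst := fun x => by
      obtain ⟨g', hg'⟩ : ∃ g' : Spec (D.residueField d) ⟶ Spec (U.left.residueField u),
          g' ≫ U.left.fromSpecResidueField u = (x ≫ fst).left := by
        refine Groth.Agent.AlgSpD.exists_factor_fromSpecResidueField _ u fun o => ?_
        exact hfu _
      refine ⟨Over.homMk g' ?_, Over.OverMorphism.ext hg'⟩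
      show g' ≫ U.left.fromSpecResidueField u ≫ U.hom = L.hom
      rw [reassoc_of% hg']
      exact Over.w (x ≫ fst)
    obtain ⟨c₁, hc₁⟩ := hfac x₁
    obtain ⟨c₂, hc₂⟩ := hfac x₂
    have := ha.mono
    have hc : c₁ = c₂ := by
      apply (AlgSp.yon S).map_injective
      rw [← cancel_mono (AlgSp.FieldPt.ofPt a u).toHom, AlgSp.FieldPt.toHom_ofPt, ← Functor.map_comp_assoc,
        ← Functor.map_comp_assoc, hc₁, hc₂, Functor.map_comp_assoc, Functor.map_comp_assoc, sq.w,
        ← Functor.map_comp_assoc, ← Functor.map_comp_assoc, hx]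
    have : x₁ = x₂ := by
      apply (AlgSp.yon S).map_injective
      apply sq.hom_ext
      · rw [← Functor.map_comp, ← Functor.map_comp, ← hc₁, ← hc₂, hc]
      · rw [← Functor.map_comp, ← Functor.map_comp, hx]
    have he12 : e₁ = e₂ := congrArg CommaMorphism.left this
    refine ⟨e₁ (IsLocalRing.closedPoint _), ?_⟩
    have : e₁ ≫ pullback.diagonal snd.left = e := by
      apply pullback.hom_ext
      · simp [e₁]
      · simp only [Category.assoc, pullback.diagonal_snd, Category.comp_id]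
        exact he12
    rw [← Scheme.Hom.comp_apply, this]
    exact Scheme.fromSpecResidueField_apply d _
  have : IsIso snd.left := Groth.Agent.EtaleSite.isIso_of_etale_of_universallyInjective snd.left
  have : IsIso ((Over.forget S).map snd) := (inferInstance : IsIso snd.left)
  have : IsIso snd := isIso_of_reflects_iso snd (Over.forget S)
  refine ⟨inv snd ≫ fst, ?_, fun b hb => ?_⟩
  · show (AlgSp.yon S).map (inv snd ≫ fst) ≫ a = g
    rw [Functor.map_comp_assoc, sq.w, ← Functor.map_comp_assoc, IsIso.inv_hom_id, CategoryTheory.Functor.map_id,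
      Category.id_comp]
  · obtain ⟨l, hl⟩ := (AlgSp.yon S).map_surjective (sq.lift ((AlgSp.yon S).map b) ((AlgSp.yon S).map (𝟙 T))
      (by rw [hb, CategoryTheory.Functor.map_id, Category.id_comp]))
    have h1 : l ≫ fst = b := (AlgSp.yon S).map_injective (by rw [Functor.map_comp, hl, sq.lift_fst])
    have h2 : l ≫ snd = 𝟙 T := (AlgSp.yon S).map_injective (by rw [Functor.map_comp, hl, sq.lift_snd])
    have h3 : l = inv snd := by rw [← cancel_mono snd, h2, IsIso.inv_hom_id]
    rw [← h1, h3]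

end Groth.Agent.S14987

namespace Groth.Agent.S14987

set_option maxHeartbeats 800000 in
/-- Let X be a Noetherian algebraic space (quasi-compact, quasi-separated, locally Noetherian) over a
scheme S and z a closed point of X. Then there are a Noetherian local ring R over S and a
representable flat morphism φ : h_{Spec R} ⟶ X sending the closed point to z which is a flat
neighbourhood of z: z is represented by a closed immersion Spec k ⟶ X whose base change along φ is
an isomorphism onto Spec k, and for every n ≥ 1 and every closed subspace Z_n of X cut out by the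
n-th power of the ideal sheaf of that closed immersion, the projection Spec R ×_X Z_n ⟶ Z_n is an
isomorphism; moreover dim R equals the dimension of the local ring of X at z. -/
theorem result {S : Scheme.{u}} (X : AlgSp.Space S)
    (hqc : AlgSp.IsQuasiCompactSp X.obj) (hqs : AlgSp.IsQuasiSeparatedSp X.obj)
    (hN : AlgSp.IsLocNoethSp X.obj)
    (z : AlgSp.Points X.obj) (hz : IsClosed ({z} : Set (AlgSp.Points X.obj))) :
    ∃ (R : CommRingCat.{u}) (hR : IsLocalRing ↥R) (str : Spec R ⟶ S)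
      (φ : (AlgSp.yon S).obj (Over.mk str) ⟶ X.obj) (p : AlgSp.FieldPt X.obj) (t : p.pt ⟶ Over.mk str),
      IsNoetherianRing ↥R ∧ AlgSp.RepWith @Flat φ ∧
      AlgSp.Points.ofPt φ (@IsLocalRing.closedPoint ↥R _ hR) = z ∧
      AlgSp.Points.mk p = z ∧ AlgSp.RepWith @IsClosedImmersion p.toHom ∧
      IsPullback ((AlgSp.yon S).map t) (𝟙 ((AlgSp.yon S).obj p.pt)) φ p.toHom ∧
      (∀ (I : AlgSp.IdealEt X.obj), AlgSp.IsCutOutBy I p.toHom → ∀ n : ℕ, 1 ≤ n →
        ∀ (Zn : AlgSp.Sp S) (iZ : Zn ⟶ X.obj), AlgSp.IsCutOutBy (I ^ n) iZ →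
          ∀ (P : AlgSp.Sp S) (fst : P ⟶ (AlgSp.yon S).obj (Over.mk str)) (snd : P ⟶ Zn),
            IsPullback fst snd φ iZ → IsIso snd) ∧
      AlgSp.HasAt (fun U u => ringKrullDim ↥(U.presheaf.stalk u) = ringKrullDim ↥R) X.obj z := by
  have hdec : AlgSp.IsDecent X.obj := Groth.Agent.S10350.result X hqs
  obtain ⟨U, a, u, hU, ha, hpre⟩ := Groth.Agent.S10374.result X hdec z
  obtain ⟨p, hp, hm, hpq⟩ := hdec z
  have hpc : AlgSp.RepWith @IsClosedImmersion p.toHom :=
    Groth.Agent.AlgSpD.isClosedImmersion_of_isClosed X p hm hpq (by rw [hp]; exact hz)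
  have : IsLocallyNoetherian U.left := Groth.Agent.AlgSp.isLocallyNoetherian_of_etale_chart a ha.etale hN
  let R : CommRingCat.{u} := U.left.presheaf.stalk u
  let i : Over.mk (U.left.fromSpecStalk u ≫ U.hom) ⟶ U := Over.homMk (U.left.fromSpecStalk u) rfl
  let φ : (AlgSp.yon S).obj (Over.mk (U.left.fromSpecStalk u ≫ U.hom)) ⟶ X.obj := (AlgSp.yon S).map i ≫ a
  have hφ : AlgSp.RepWith @Flat φ := (AlgSp.RepWith _).comp_mem _ _
    ((AlgSp.repWith_yon_map_iff _ i).2 (Groth.Agent.AlgSp.GorCore.flat_fromSpecStalk u))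
    (Groth.Agent.AlgSp.repWith_mono (fun g (hg : Etale g) => (inferInstance : Flat g)) ha.etale)
  have hclp : AlgSp.Points.ofPt φ (IsLocalRing.closedPoint (U.left.presheaf.stalk u)) = z :=
    (Groth.Agent.AlgSpB.ofPt_map_comp i a _).trans ((congrArg _ Scheme.fromSpecStalk_closedPoint).trans ha.ofPt_eq)
  -- maps with all points `z` lift uniquely to the local ring
  have key : ∀ (T : Over S) (g : (AlgSp.yon S).obj T ⟶ X.obj), (∀ t, AlgSp.Points.ofPt g t = z) →
      ∃! x : (AlgSp.yon S).obj T ⟶ (AlgSp.yon S).obj (Over.mk (U.left.fromSpecStalk u ≫ U.hom)), x ≫ φ = g := by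
    intro T g hg
    obtain ⟨b, hb, hbu⟩ := existsUnique_lift ha hpre g hg
    obtain ⟨c, hc⟩ := exists_factor_fromSpecStalk b.left u fun t =>
      (Set.ext_iff.1 hpre _).1 (show AlgSp.Points.ofPt a (b.left t) = z by rw [← Groth.Agent.AlgSpB.ofPt_map_comp, hb, hg])
    let c' : T ⟶ Over.mk (U.left.fromSpecStalk u ≫ U.hom) := Over.homMk c (by
      show c ≫ U.left.fromSpecStalk u ≫ U.hom = T.hom
      rw [reassoc_of% hc, Over.w b])
    have hci : c' ≫ i = b := Over.OverMorphism.ext hc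
    refine ⟨(AlgSp.yon S).map c', ?_, fun x hx => ?_⟩
    · show (AlgSp.yon S).map c' ≫ (AlgSp.yon S).map i ≫ a = g
      rw [← Functor.map_comp_assoc, hci, hb]
    · obtain ⟨x, rfl⟩ := (AlgSp.yon S).map_surjective x
      have hxb : x ≫ i = b := hbu _ (by
        show (AlgSp.yon S).map (x ≫ i) ≫ a = g
        rw [Functor.map_comp, Category.assoc]; exact hx)
      congr 1
      exact Over.OverMorphism.ext ((cancel_mono (U.left.fromSpecStalk u)).1
        ((congrArg CommaMorphism.left hxb).trans hc.symm))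
  -- base change along maps with image `z` is an isomorphism
  have keySp : ∀ {Z P : AlgSp.Sp S} (iZ : Z ⟶ X.obj) (fst : P ⟶ (AlgSp.yon S).obj (Over.mk (U.left.fromSpecStalk u ≫ U.hom)))
      (snd : P ⟶ Z), IsPullback fst snd φ iZ → (∀ y, AlgSp.Points.map iZ y = z) → IsIso snd := by
    intro Z P iZ fst snd sq hiZ
    refine Groth.Agent.AlgSpB.isIso_of_forall_yon snd fun T y => ?_
    obtain ⟨x, hx, hxu⟩ := key T (y ≫ iZ) fun t => by rw [← AlgSp.Points.map_ofPt]; exact hiZ _
    refine ⟨sq.lift x y hx, sq.lift_snd _ _ _, fun l hl => sq.hom_ext ?_ (by rw [sq.lift_snd, hl])⟩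
    rw [sq.lift_fst]
    exact hxu _ (by show (l ≫ fst) ≫ φ = y ≫ iZ; rw [Category.assoc, sq.w, reassoc_of% hl])
  have hpz : ∀ t, AlgSp.Points.ofPt p.toHom t = z := fun t => (AlgSp.Points.ofPt_toHom p t).trans hp
  obtain ⟨x, hx, -⟩ := key p.pt p.toHom hpz
  obtain ⟨t, rfl⟩ := (AlgSp.yon S).map_surjective x
  refine ⟨R, inferInstanceAs (IsLocalRing ↥(U.left.presheaf.stalk u)), U.left.fromSpecStalk u ≫ U.hom, φ, p, t,
    inferInstanceAs (IsNoetherianRing ↥(U.left.presheaf.stalk u)), hφ, hclp, hp, hpc, ?_, ?_,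
    ⟨U, a, u, ha.etale, ha.ofPt_eq, rfl⟩⟩
  · have sq := IsPullback.of_hasPullback φ p.toHom
    have hpts : ∀ y, AlgSp.Points.map p.toHom y = z := fun y => by
      obtain ⟨t', rfl⟩ := (AlgSp.Points.schemeHomeo p.pt).surjective y
      exact (AlgSp.Points.ofPt_eq_map_ofScheme _ _).symm.trans (hpz t')
    have : IsIso (pullback.snd φ p.toHom) := keySp _ _ _ sq hpts
    refine sq.of_iso (asIso (pullback.snd φ p.toHom)) (Iso.refl _) (Iso.refl _) (Iso.refl _) ?_
      (by simp) (by simp) (by simp)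
    obtain ⟨w, -, hwu⟩ := key p.pt p.toHom hpz
    rw [Iso.refl_hom, Category.comp_id, asIso_hom, ← cancel_epi (inv (pullback.snd φ p.toHom)),
      IsIso.inv_hom_id_assoc]
    refine (hwu _ ?_).trans (hwu _ hx).symm
    show (inv (pullback.snd φ p.toHom) ≫ pullback.fst φ p.toHom) ≫ φ = p.toHom
    rw [Category.assoc, pullback.condition, IsIso.inv_hom_id_assoc]
  · intro I hI n hn Zn iZ hiZ P fst snd sq
    refine keySp iZ fst snd sq fun y => ?_
    obtain ⟨hi1, hI⟩ := hI
    obtain ⟨hi2, hIn⟩ := hiZ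
    obtain ⟨A, b, hb, hbs⟩ := X.property.atlas
    obtain ⟨v, hv⟩ := (AlgSp.repWith_surjective_iff b hb.1).1 hbs (AlgSp.Points.map iZ y)
    obtain ⟨v, rfl⟩ := (AlgSp.Points.schemeHomeo A).surjective v
    rw [show AlgSp.Points.map b (AlgSp.Points.schemeHomeo A v) = AlgSp.Points.ofPt b v from
      (AlgSp.Points.ofPt_eq_map_ofScheme _ _).symm] at hv
    obtain ⟨w, hw⟩ := mem_range_of_chart hi1 hi2 hI hIn hn b hb v ⟨y, hv.symm⟩
    obtain ⟨t', rfl⟩ := (AlgSp.Points.schemeHomeo p.pt).surjective w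
    exact (hv.symm.trans hw.symm).trans
      ((AlgSp.Points.ofPt_eq_map_ofScheme _ _).symm.trans (hpz t'))

end Groth.Agent.S14987
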