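import Groth.Statements.S14988
import Groth.Agent.KFlat.TensorLocFree
import Groth.Agent.KFlat.LocFree

set_option autoImplicit false
set_option linter.style.haveILetI false
set_option backward.isDefEq.respectTransparency false
universe u
open CategoryTheory CategoryTheory.Limits AlgebraicGeometry
open ResProp

namespace Groth.Agent.S14988

/-- In the case of schemes, let f : X ⟶ Y be a morphism of quasi-compact quasi-separated schemes. If
every quasi-coherent module on Y is a quotient of a direct sum of finite locally free modules (Y has
the resolution property) and some family (W_i) of finite locally free modules on X is f-generating,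
i.e. every quasi-coherent module on X is a quotient of a direct sum of modules W_i ⊗ f^*N with N
quasi-coherent on Y, then every quasi-coherent module on X is a quotient of a direct sum of finite
locally free modules (X has the resolution property). (The published statement is for quasi-compact
quasi-separated morphisms of algebraic stacks and assumes the family universally f-generating; this
row is the case of schemes and assumes the family only f-generating, which is what the argument
uses.) -/
theorem result {X Y : Scheme.{u}}
    [CompactSpace X] [QuasiSeparatedSpace X] [CompactSpace Y] [QuasiSeparatedSpace Y] (f : X ⟶ Y)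
    (hY : ∀ N : Y.Modules, Coh.IsQCoh N →
      ∃ (κ : Type u) (V : κ → Y.Modules) (π : (∐ V) ⟶ N), (∀ k, FlatMod.IsFinLocFree (V k)) ∧ Epi π)
    {ι : Type u} (W : ι → X.Modules) (hW : ∀ i, FlatMod.IsFinLocFree (W i))
    (hf : ∀ M : X.Modules, Coh.IsQCoh M →
      ∃ (κ : Type u) (j : κ → ι) (N : κ → Y.Modules)
        (π : (∐ fun k => CohB1.tensorMod (W (j k)) ((Scheme.Modules.pullback f).obj (N k))) ⟶ M),
        (∀ k, Coh.IsQCoh (N k)) ∧ Epi π) :
    ∀ M : X.Modules, Coh.IsQCoh M →
      ∃ (κ : Type u) (E : κ → X.Modules) (π : (∐ E) ⟶ M), (∀ k, FlatMod.IsFinLocFree (E k)) ∧ Epi π := by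
  intro M hM
  obtain ⟨κ, j, N, π, hN, hπ⟩ := hf M hM
  choose τ V p hV hp using fun k => hY (N k) (hN k)
  let G : κ → (Y.Modules ⥤ X.Modules) := fun k =>
    Scheme.Modules.pullback f ⋙ (ModSite.tensorBi X.sheaf).obj (W (j k))
  have hG : ∀ k, ∃ (q : (∐ fun t => (G k).obj (V k t)) ⟶ (G k).obj (N k)), Epi q := fun k => by
    haveI := hp k
    haveI hC : PreservesColimitsOfSize.{u, u} ((ModSite.tensorBi X.sheaf).obj (W (j k))) :=
      Groth.Agent.KFlat.preservesColimitsOfSize_tensorBi_obj X.sheaf (W (j k))
    haveI hP : PreservesColimitsOfSize.{u, u} (Scheme.Modules.pullback f) :=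
      (Scheme.Modules.pullbackPushforwardAdjunction f).leftAdjoint_preservesColimits
    haveI hGc : PreservesColimitsOfSize.{u, u} (G k) := comp_preservesColimits _ _
    haveI : PreservesColimitsOfShape (Discrete (τ k)) (G k) := inferInstance
    haveI : Epi ((G k).map (p k)) := by
      haveI : PreservesFiniteColimits (G k) := PreservesColimitsOfSize.preservesFiniteColimits _
      haveI : (G k).PreservesEpimorphisms := preservesEpimorphisms_of_preservesColimitsOfShape _
      exact Functor.map_epi _ _
    exact ⟨(PreservesCoproduct.iso (G k) (V k)).inv ≫ (G k).map (p k), epi_comp _ _⟩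
  choose q hq using hG
  refine ⟨Σ k, τ k, fun t => (G t.1).obj (V t.1 t.2),
    (sigmaSigmaIso (fun k => τ k) (fun k t => (G k).obj (V k t))).inv ≫ Limits.Sigma.map q ≫ π,
    fun t => ?_, ?_⟩
  · exact Groth.Agent.KFlat.TensorLocFree.isFinLocFree_tensM (hW _)
      (Groth.Agent.KFlat.LocFree.isFinLocFree_pull f (hV _ _))
  · haveI := hπ
    haveI := hq
    infer_instance

end Groth.Agent.S14988
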