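import Groth.Statements.S14989
import Groth.Agent.S13534
import Groth.Agent.CohColim.Basic
import Groth.Agent.PullStalk.Exact
import Mathlib.RingTheory.Flat.TorsionFree

set_option linter.style.haveILetI false

set_option autoImplicit false
universe u
open CategoryTheory CategoryTheory.Limits AlgebraicGeometry
open ResProp

namespace Groth.Agent.S14989

/-- In the case of schemes, on a Noetherian integral scheme Y with affine diagonal (any two affine opens
meet in an affine open) every coherent module is a quotient of a torsion-free coherent module,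
torsion-freeness meaning that each stalk is a torsion-free module over the local ring. (The
published statement is for Noetherian integral algebraic stacks with affine diagonal; this row is
the case of schemes.) -/
theorem result (Y : Scheme.{u}) [IsNoetherian Y] [IsIntegral Y]
    (hd : ∀ V W : Y.Opens, IsAffineOpen V → IsAffineOpen W → IsAffineOpen (V ⊓ W))
    (F : Y.Modules) (hF : Coh.IsCoh F) :
    ∃ (F' : Y.Modules) (π : F' ⟶ F), Coh.IsCoh F' ∧
      (∀ y : Y, NoZeroSMulDivisors ↥(Y.presheaf.stalk y) ↥(F'.presheaf.stalk y)) ∧ Epi π := by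
  classical
  haveI : F.IsQuasicoherent := hF.1
  haveI : CompactSpace Y := inferInstance
  obtain ⟨P, π, hP, hPflat, hπ⟩ := Groth.Agent.S13534.result Y hd F hF.1
  haveI : P.IsQuasicoherent := hP
  obtain ⟨σ, hσ⟩ := Groth.Agent.Props.QApproxMain.exists_affine_finite_cover Y
  choose gen hgen using fun W : σ =>
    haveI : F.IsFiniteType := hF.2
    (Groth.Agent.QCoh.finite_sections_of_isFiniteType F W.1.2).fg_top
  let κ := (W : σ) × {g // g ∈ gen W}
  choose lift hlift using fun k : κ =>
    Groth.Agent.QCoh.app_surjective_of_epi π k.1.1.2 k.2.1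
  obtain ⟨J, j, hj, hJ, hc⟩ := Groth.Agent.CohColim.exists_coh_submodule P (Finset.univ : Finset κ)
    (fun k => k.1.1.1) (fun k => k.1.1.2) lift
  refine ⟨J, j ≫ π, hJ, fun y => ⟨fun {r m} hrm => ?_⟩, ?_⟩
  · haveI : Module.Flat (Y.presheaf.stalk y) (P.presheaf.stalk y) := hPflat y
    have h : r • Groth.Agent.PullStalk.Exact.stalkLin j y m = 0 := by
      rw [← map_smul, hrm, map_zero]
    rcases smul_eq_zero.1 h with h | h
    · exact Or.inl h
    · exact Or.inr (TopCat.Presheaf.stalkFunctor_map_injective_of_app_injective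
        (fun U => Groth.Agent.QCoh.app_injective_of_mono j U) y (h.trans (map_zero (Groth.Agent.PullStalk.Exact.stalkLin j y)).symm))
  · haveI : J.IsQuasicoherent := hJ.1
    refine Groth.Agent.Props.QApproxMain.epi_of_cover (j ≫ π) fun x => ?_
    obtain ⟨W, hW, hxW⟩ := hσ x
    refine ⟨W.1, W.2, hxW, fun z => ?_⟩
    have key : ∀ z ∈ Submodule.span Γ(Y, W.1) (gen ⟨W, hW⟩ : Set Γ(F, W.1)),
        ∃ t, (j ≫ π).app W.1 t = z := by
      intro z hz
      induction hz using Submodule.span_induction with
      | mem g hg =>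
        obtain ⟨t, ht⟩ := hc ⟨⟨W, hW⟩, ⟨g, hg⟩⟩ (Finset.mem_univ _)
        refine ⟨t, ?_⟩
        rw [Scheme.Modules.Hom.comp_app, ConcreteCategory.comp_apply]
        exact (congrArg _ ht).trans (hlift ⟨⟨W, hW⟩, ⟨g, hg⟩⟩)
      | zero => exact ⟨0, map_zero _⟩
      | add a b _ _ ha hb =>
        obtain ⟨ta, rfl⟩ := ha
        obtain ⟨tb, rfl⟩ := hb
        exact ⟨ta + tb, map_add _ _ _⟩
      | smul r a _ ha =>
        obtain ⟨ta, rfl⟩ := ha
        exact ⟨r • ta, Scheme.Modules.Hom.app_smul _ r ta⟩
    exact key z ((hgen ⟨W, hW⟩).symm ▸ Submodule.mem_top)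

end Groth.Agent.S14989
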