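import Groth.Statements.S14990
import Groth.Agent.BertiniPn.Jets
import Groth.Agent.ZeroSchemeLib.Basic
import Groth.Agent.FormalFun.Powers
import Mathlib.AlgebraicGeometry.Morphisms.FiniteType

set_option autoImplicit false
universe u
open CategoryTheory CategoryTheory.Limits AlgebraicGeometry
open Variety

namespace Groth.Agent.S14990

open Groth.Agent.Props.GenLocus Groth.Agent.QCoh

theorem smooth_subscheme {k : Type u} [Field k] {X : Scheme.{u}} (f : X ⟶ Spec (CommRingCat.of k))
    (I : X.IdealSheafData) {κ : Type*} (U : κ → X.affineOpens) (hU : ⨆ j, (U j).1 = ⊤)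
    (h : ∀ j, ((Ideal.Quotient.mk (I.ideal (U j))).comp
      ((f.appLE ⊤ (U j).1 le_top).hom.comp (Scheme.ΓSpecIso (CommRingCat.of k)).inv.hom)).Smooth) :
    Smooth (I.subschemeι ≫ f) := by
  let V : κ → I.subscheme.affineOpens := fun j => ⟨I.subschemeι ⁻¹ᵁ (U j).1, (U j).2.preimage _⟩
  refine (HasRingHomProperty.iff_of_iSup_eq_top (P := @Smooth) V ?_).2 fun j => ?_
  · show ⨆ j, I.subschemeι ⁻¹ᵁ (U j).1 = ⊤
    rw [← Scheme.Hom.preimage_iSup, hU, Scheme.Hom.preimage_top]
  refine (RingHom.Smooth.respectsIso.cancel_left_isIso (Scheme.ΓSpecIso (CommRingCat.of k)).inv _).1 ?_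
  refine (RingHom.Smooth.respectsIso.cancel_right_isIso _ (I.subschemeObjIso (U j)).hom).1 ?_
  have e : ((Scheme.ΓSpecIso (CommRingCat.of k)).inv ≫ (I.subschemeι ≫ f).appLE ⊤ (V j).1 le_top) ≫
      (I.subschemeObjIso (U j)).hom =
      CommRingCat.ofHom ((Ideal.Quotient.mk (I.ideal (U j))).comp
        ((f.appLE ⊤ (U j).1 le_top).hom.comp (Scheme.ΓSpecIso (CommRingCat.of k)).inv.hom)) := by
    have e1 : (I.subschemeι ≫ f).appLE ⊤ (V j).1 le_top = f.appLE ⊤ (U j).1 le_top ≫ I.subschemeι.app (U j).1 := by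
      rw [Scheme.Hom.app_eq_appLE, Scheme.Hom.appLE_comp_appLE]
    rw [e1, I.subschemeι_app (U j)]
    simp only [Category.assoc, Iso.inv_hom_id, Category.comp_id]
    rfl
  exact (congrArg RingHom.Smooth (congrArg CommRingCat.Hom.hom e)).mpr (h j)

theorem isInvertible_of_rankOne {X : Scheme.{u}} {L : X.Modules} (hL : FlatMod.IsFinLocFreeOfRank 1 L) :
    PicF.IsInvertible L := fun x =>
  let ⟨U, hx, ⟨φ⟩⟩ := hL x
  ⟨U, hx, ⟨φ ≪≫ Limits.coproductUniqueIso _⟩⟩

theorem mem_of_mul_mem_sq {A : Type u} [CommRing A] (P : Ideal A) [P.IsMaximal] {s z : A} (hs : s ∉ P)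
    (h : s * z ∈ P ^ 2) : z ∈ P ^ 2 := by
  obtain ⟨r, hr⟩ := Ideal.Quotient.exists_inv
    (show Ideal.Quotient.mk P s ≠ 0 from fun e => hs (Ideal.Quotient.eq_zero_iff_mem.1 e))
  obtain ⟨r, rfl⟩ := Ideal.Quotient.mk_surjective r
  rw [← map_mul, ← map_one (Ideal.Quotient.mk P), Ideal.Quotient.eq] at hr
  have h2 : (s * r - 1) * (s * r - 1) * z ∈ P ^ 2 := by
    rw [pow_two]; exact Ideal.mul_mem_right _ _ (Ideal.mul_mem_mul hr hr)
  have : z = (s * r - 1) * (s * r - 1) * z - (s * z) * (r * (s * r - 2)) := by ring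
  rw [this]
  exact (P ^ 2).sub_mem h2 (Ideal.mul_mem_right _ _ h)

/-- The value over `W` as an additive function of the section. -/
noncomputable def secHom {X : Scheme.{u}} (L : X.Modules) (W : X.Opens) :
    (Coh.structureModule X ⟶ L) →+ Γ(L, W) :=
  AddMonoidHom.mk' (fun s => sec s W) fun _ _ => rfl

theorem sec_smul_comp {k : Type u} [Field k] {Y : Scheme.{u}} [Y.Over (Spec (CommRingCat.of k))] {L : Y.Modules}
    (s : Coh.structureModule Y ⟶ L) (c : k) (W : Y.Opens) :
    sec (Formal.smulMod k (Coh.structureModule Y) c ≫ s) W = Groth.Agent.FormalFun.gA (A := k) W c • sec s W := by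
  show s.app W ((Formal.smulMod k (Coh.structureModule Y) c).app W (one' W)) = _
  rw [Groth.Agent.FormalFun.smulMod_app]
  exact Scheme.Modules.Hom.app_smul s _ _

/-- Let k be an algebraically closed field, Y a scheme smooth and of finite type over k, L an invertible
O_Y-module, s_1, …, s_m global sections of L (morphisms O_Y ⟶ L) such that at every closed point p
the span of the s_i maps onto L_p/m_p^2 L_p, and f a further global section of L. Then the zero
scheme of f + Σ c_i s_i is smooth over k for all c outside the zero set of some nonzero polynomial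
in m variables. (The published hypothesis is stated at every point of Y; it can only hold at closed
points, which is where the argument uses it, so this row asks it at closed points.) -/
theorem result (k : Type u) [Field k] [IsAlgClosed k]
    (Y : Scheme.{u}) [Y.Over (Spec (CommRingCat.of k))] [Smooth (Y ↘ Spec (CommRingCat.of k))]
    [QuasiCompact (Y ↘ Spec (CommRingCat.of k))]
    (L : Y.Modules) (hL : FlatMod.IsFinLocFreeOfRank 1 L) (m : ℕ)
    (s : Fin m → (Coh.structureModule Y ⟶ L)) (f : Coh.structureModule Y ⟶ L)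
    (hjet : ∀ p : Y, IsClosed ({p} : Set Y) → ∀ l : ↥(L.presheaf.stalk p), ∃ c : Fin m → k,
      (L.presheaf.germ ⊤ p trivial)
          (PicF2.secVal L (∑ i : Fin m, Formal.smulMod k (Coh.structureModule Y) (c i) ≫ s i) ⊤) - l ∈
        (IsLocalRing.maximalIdeal ↥(Y.presheaf.stalk p)) ^ 2 •
          (⊤ : Submodule ↥(Y.presheaf.stalk p) ↥(L.presheaf.stalk p))) :
    ∃ q : MvPolynomial (Fin m) k, q ≠ 0 ∧ ∀ c : Fin m → k, MvPolynomial.eval c q ≠ 0 →
      Smooth ((PicF2.zeroScheme L (f + ∑ i : Fin m, Formal.smulMod k (Coh.structureModule Y) (c i) ≫ s i)).subschemeι ≫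
        (Y ↘ Spec (CommRingCat.of k))) := by
  classical
  have hinv : PicF.IsInvertible L := isInvertible_of_rankOne hL
  let q := Y ↘ Spec (CommRingCat.of k)
  haveI : IsJacobsonRing k := inferInstance
  haveI : LocallyOfFiniteType q := inferInstance
  haveI : JacobsonSpace Y := LocallyOfFiniteType.jacobsonSpace q
  haveI : CompactSpace Y := QuasiCompact.compactSpace_of_compactSpace q
  have hloc : ∀ y : Y, ∃ (W : Y.affineOpens) (e : Γ(L, W.1)), y ∈ W.1 ∧ IsGen L W.1 e := fun y => by
    obtain ⟨U, e, hy, he⟩ := exists_isGen hinv y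
    obtain ⟨W, hW, hyW, hle⟩ := exists_isAffineOpen_mem_and_subset (show y ∈ U from hy)
    exact ⟨⟨W, hW⟩, res L hle e, hyW, he.restrict hle⟩
  choose W e hyW he using hloc
  have key : ∀ y, ∃ g : MvPolynomial (Fin m) k, g ≠ 0 ∧ ∀ c : Fin m → k, MvPolynomial.eval c g ≠ 0 →
      ((Ideal.Quotient.mk ((PicF2.zeroScheme L (f + ∑ i : Fin m, Formal.smulMod k (Coh.structureModule Y) (c i) ≫ s i)).ideal (W y))).comp
        ((q.appLE ⊤ (W y).1 le_top).hom.comp (Scheme.ΓSpecIso (CommRingCat.of k)).inv.hom)).Smooth := by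
    intro y
    let A := Γ(Y, (W y).1)
    let φk : k →+* A := (q.appLE ⊤ (W y).1 le_top).hom.comp (Scheme.ΓSpecIso (CommRingCat.of k)).inv.hom
    have hgA : ∀ c, Groth.Agent.FormalFun.gA (A := k) (W y).1 c = φk c := fun c => rfl
    letI : Algebra k A := φk.toAlgebra
    haveI hsm : Algebra.Smooth k A := by
      have h0 : (q.appLE ⊤ (W y).1 le_top).hom.Smooth :=
        HasRingHomProperty.appLE (P := @Smooth) q inferInstance ⟨⊤, isAffineOpen_top _⟩ (W y) _
      exact RingHom.smooth_algebraMap.1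
        ((RingHom.Smooth.respectsIso.cancel_left_isIso (Scheme.ΓSpecIso (CommRingCat.of k)).inv _).2 h0)
    have hx : ∀ t : Coh.structureModule Y ⟶ L, ∃ a : A, sec t (W y).1 = a • e y := fun t => by
      obtain ⟨a, ha, -⟩ := (he y).exists_eq le_rfl (sec t (W y).1)
      exact ⟨a, by rwa [res_self] at ha⟩
    choose x hx using fun i => hx (s i)
    obtain ⟨φ, hφ⟩ := (he y).exists_eq le_rfl (sec f (W y).1) |>.exists
    rw [res_self] at hφ
    have hsum : ∀ c : Fin m → k, sec (∑ i : Fin m, Formal.smulMod k (Coh.structureModule Y) (c i) ≫ s i) (W y).1 =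
        (∑ i, algebraMap k A (c i) * x i) • e y := fun c => by
      change secHom L (W y).1 _ = _
      rw [map_sum, Finset.sum_smul]
      refine Finset.sum_congr rfl fun i _ => ?_
      rw [mul_smul, ← hx i]
      exact sec_smul_comp (s i) (c i) (W y).1
    have hjet' : ∀ (P : Ideal A) [P.IsMaximal] (a : A), ∃ c : Fin m → k,
        (∑ i, algebraMap k A (c i) * x i) - a ∈ P ^ 2 := by
      intro P hP a
      let pt : PrimeSpectrum A := ⟨P, hP.isPrime⟩
      let p : Y := (W y).2.fromSpec pt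
      have hpW : p ∈ (W y).1 := (W y).2.range_fromSpec.le ⟨pt, rfl⟩
      have hcl : IsClosed ({p} : Set Y) := by
        have h1 : pt ∈ closedPoints (Spec Γ(Y, (W y).1)) := (PrimeSpectrum.isClosed_singleton_iff_isMaximal pt).2 hP
        rw [← (W y).2.fromSpec.isOpenEmbedding.preimage_closedPoints] at h1
        exact h1
      let ge := L.presheaf.germ (W y).1 p hpW (e y)
      let γ := Y.presheaf.germ (W y).1 p hpW
      have hsmul : ∀ b : A, L.presheaf.germ (W y).1 p hpW (b • e y) = γ b • ge :=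
        fun b => Groth.Agent.PullStalk.Sky.germM_smul L (W y).1 p hpW b (e y)
      obtain ⟨c, hc⟩ := hjet p hcl (L.presheaf.germ (W y).1 p hpW (a • e y))
      refine ⟨c, ?_⟩
      have h2 : L.presheaf.germ ⊤ p trivial
          (PicF2.secVal L (∑ i : Fin m, Formal.smulMod k (Coh.structureModule Y) (c i) ≫ s i) ⊤) =
          γ (∑ i, algebraMap k A (c i) * x i) • ge := by
        rw [← hsmul, ← hsum, ← sec_res _ (le_top : (W y).1 ≤ ⊤)]
        exact (L.presheaf.germ_res_apply _ p hpW _).symm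
      rw [h2, hsmul, ← sub_smul, ← map_sub] at hc
      have hbij := ((isGen_iff_isFrame (e y)).mp (he y)).stalkComb_bijective p hpW
      have hcomb : ∀ z, LFFrame.stalkComb L (fun _ : Fin 1 => e y) p hpW (fun _ => z) = z • ge := fun z => by
        simp [LFFrame.stalkComb, Fintype.linearCombination_apply, ge]
      have hmem : γ ((∑ i, algebraMap k A (c i) * x i) - a) ∈ (IsLocalRing.maximalIdeal (Y.presheaf.stalk p)) ^ 2 := by
        have hcl' : ∀ w ∈ (IsLocalRing.maximalIdeal (Y.presheaf.stalk p)) ^ 2 • (⊤ : Submodule (Y.presheaf.stalk p) (L.presheaf.stalk p)),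
            ∃ z ∈ (IsLocalRing.maximalIdeal (Y.presheaf.stalk p)) ^ 2, w = z • ge := by
          intro w hw
          induction hw using Submodule.smul_induction_on' with
          | smul r hr n _ =>
            obtain ⟨z, hz⟩ := hbij.2 n
            refine ⟨r * z 0, Ideal.mul_mem_right _ _ hr, ?_⟩
            rw [← hz, show z = (fun _ => z 0) from funext fun i => congrArg z (Subsingleton.elim i 0), hcomb, smul_smul]
          | add w _ w' _ hw hw' =>
            obtain ⟨z, hz, rfl⟩ := hw
            obtain ⟨z', hz', rfl⟩ := hw'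
            exact ⟨z + z', add_mem hz hz', (add_smul _ _ _).symm⟩
        obtain ⟨z, hz, hzw⟩ := hcl' _ hc
        have := congrFun (hbij.1 (show LFFrame.stalkComb L (fun _ : Fin 1 => e y) p hpW (fun _ => γ _) =
          LFFrame.stalkComb L (fun _ : Fin 1 => e y) p hpW (fun _ => z) by rw [hcomb, hcomb]; exact hzw)) 0
        rw [this]; exact hz
      letI := Y.presheaf.algebra_section_stalk (U := (W y).1) ⟨p, hpW⟩
      haveI : IsLocalization.AtPrime (Y.presheaf.stalk p) P := (W y).2.isLocalization_stalk' pt hpW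
      rw [← IsLocalization.AtPrime.map_eq_maximalIdeal P (Y.presheaf.stalk p), ← Ideal.map_pow] at hmem
      obtain ⟨u, hu, huz⟩ := (IsLocalization.algebraMap_mem_map_algebraMap_iff P.primeCompl (Y.presheaf.stalk p) _ _).1 hmem
      exact mem_of_mul_mem_sq P hu huz
    obtain ⟨g, hg0, hg⟩ := Groth.Agent.BertiniPn.exists_smooth_poly_jets (k := k) φ x hjet'
    refine ⟨g, hg0, fun c hc => ?_⟩
    haveI := hg c hc
    haveI : Algebra.FinitePresentation k (A ⧸ Ideal.span {φ + ∑ i, algebraMap k A (c i) * x i}) :=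
      Algebra.FinitePresentation.of_finiteType.1 inferInstance
    have hsmq : Algebra.Smooth k (A ⧸ Ideal.span {φ + ∑ i, algebraMap k A (c i) * x i}) := ⟨inferInstance, inferInstance⟩
    rw [Groth.Agent.ZeroSchemeLib.zeroScheme_ideal_eq_span hinv _ (W y) (he y)
      (f := φ + ∑ i, algebraMap k A (c i) * x i) (by
        rw [add_smul, ← hsum, ← hφ]
        exact map_add (secHom L (W y).1) f _)]
    exact RingHom.smooth_algebraMap.2 hsmq
  choose g hg0 hg using key
  obtain ⟨t, ht⟩ := isCompact_univ.elim_finite_subcover (fun y : Y => ((W y).1 : Set Y)) (fun y => (W y).1.2)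
    (fun y _ => Set.mem_iUnion.2 ⟨y, hyW y⟩)
  refine ⟨∏ y ∈ t, g y, Finset.prod_ne_zero_iff.2 fun y _ => hg0 y, fun c hc => ?_⟩
  rw [map_prod, Finset.prod_ne_zero_iff] at hc
  refine smooth_subscheme q _ (fun y : {y // y ∈ t} => W y.1) ?_ fun y => hg y.1 c (hc y.1 y.2)
  refine top_le_iff.1 fun z _ => ?_
  obtain ⟨y, hy, hz⟩ := Set.mem_iUnion₂.1 (ht (Set.mem_univ z))
  exact TopologicalSpace.Opens.mem_iSup.2 ⟨⟨y, hy⟩, hz⟩

end Groth.Agent.S14990
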