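import Groth.Statements.S14994
import Mathlib
-- import your own Groth.Agent.* helpers here

set_option autoImplicit false
universe u
open CAlg

namespace Groth.Agent.S14994

/-- Let A be a Noetherian integrally closed domain, M a finitely generated torsion-free A-module, N a
submodule of M and ι : M → M** the canonical map to the double dual. Write N** → M** for the double
dual of the inclusion N → M. Then every m ∈ M whose image ι(m) lies in the image of N** is a torsion
element modulo N: some nonzero a ∈ A satisfies a·m ∈ N. In other words the preimage of N** under ι
is contained in the saturation of N in M (the preimage of the torsion submodule of M/N), and the two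
coincide when M/N is torsion-free. (The published statement asserts equality of the preimage with
the saturation for every N; for N = xA inside M = A = k[x] the saturation is all of M while N** has
image xA = N under the identification M** = M, so only the inclusion stated here holds, and it is
the inclusion later used, for saturated N, where the two sides agree.) -/
theorem result (A : Type u) [CommRing A] [IsDomain A]
    [IsNoetherianRing A] [IsIntegrallyClosed A]
    (M : Type u) [AddCommGroup M] [Module A M] [Module.Finite A M] [NoZeroSMulDivisors A M]
    (N : Submodule A M) :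
    (LinearMap.range N.subtype.dualMap.dualMap).comap (Module.Dual.eval A M) ≤
      (Submodule.torsion A (M ⧸ N)).comap N.mkQ := by
  intro m hm
  rw [Submodule.mem_comap] at hm ⊢
  by_contra hc
  let S := nonZeroDivisors A
  let K := FractionRing A
  let V := LocalizedModule S (M ⧸ N)
  let v : V := LocalizedModule.mkLinearMap S (M ⧸ N) (N.mkQ m)
  have hv : v ≠ 0 := by
    intro h0
    simp only [v, LocalizedModule.mkLinearMap_apply] at h0
    rw [← LocalizedModule.zero_mk (1 : S), LocalizedModule.mk_eq] at h0
    obtain ⟨u, hu⟩ := h0
    simp only [one_smul, smul_zero] at hu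
    exact hc ⟨u, hu⟩
  letI : Module K V := inferInstanceAs (Module (Localization S) V)
  haveI : IsScalarTower A K V := inferInstanceAs (IsScalarTower A (Localization S) V)
  obtain ⟨l, hl⟩ : ∃ l : Module.Dual K V, l v ≠ 0 := by
    by_contra h
    push Not at h
    exact hv ((Module.forall_dual_apply_eq_zero_iff K v).1 h)
  let h : (M ⧸ N) →ₗ[A] K := (l.restrictScalars A) ∘ₗ LocalizedModule.mkLinearMap S (M ⧸ N)
  haveI : Module.FinitePresentation A (M ⧸ N) := Module.finitePresentation_of_finite A _
  obtain ⟨h', s, hs⟩ := Module.FinitePresentation.exists_lift_of_isLocalizedModule S (Algebra.linearMap A K) h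
  obtain ⟨nn, hnn⟩ := hm
  have h1 := LinearMap.congr_fun hnn (h' ∘ₗ N.mkQ)
  have h2 : N.subtype.dualMap (h' ∘ₗ N.mkQ) = 0 := by
    refine LinearMap.ext fun x ↦ ?_
    show h' (N.mkQ (x : M)) = 0
    rw [Submodule.mkQ_apply, (Submodule.Quotient.mk_eq_zero N).2 x.2, map_zero]
  rw [LinearMap.dualMap_apply, h2, map_zero, Module.Dual.eval_apply] at h1
  have h3 : algebraMap A K (h' (N.mkQ m)) = algebraMap A K (s : A) * l v := by
    have := LinearMap.congr_fun hs (N.mkQ m)
    simp only [LinearMap.comp_apply, Algebra.linearMap_apply, LinearMap.smul_apply] at this
    rw [this, ← Algebra.smul_def]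
    rfl
  have h1' : h' (N.mkQ m) = 0 := h1.symm
  rw [h1', map_zero, eq_comm, mul_eq_zero] at h3
  rcases h3 with h3 | h3
  · exact nonZeroDivisors.ne_zero s.2 ((map_eq_zero_iff _ (IsFractionRing.injective A K)).1 h3)
  · exact hl h3

end Groth.Agent.S14994
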