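import Groth.Statements.S14997
import Mathlib.Algebra.Polynomial.Taylor
import Mathlib.Algebra.Order.Ring.Rat
import Mathlib.Data.Fintype.Pi
import Mathlib.Algebra.BigOperators.Field
import Mathlib.Tactic.Linarith
import Mathlib.Tactic.FieldSimp
import Mathlib.Tactic.Ring
-- import your own Groth.Agent.* helpers here

set_option autoImplicit false
open HilbPol

namespace Groth.Agent.S14997
open Polynomial

/-- `i!` times the `i`-th coefficient. -/
noncomputable def al (P : ℚ[X]) (i : ℕ) : ℚ := P.coeff i * (Nat.factorial i : ℚ)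

theorem al_delta (P : ℚ[X]) (a : ℚ) (d : ℕ) (hP : P.natDegree = d) (k : ℕ) (hk : k + 1 ≤ d) :
    al (P - P.comp (X - C a)) (d - 1 - k) =
      -∑ i ∈ Finset.range (k + 1), al P (d - k + i) * (-a) ^ (i + 1) / ((i + 1).factorial : ℚ) := by
  have e : P.comp (X - C a) = taylor (-a) P := by
    rw [taylor_apply, map_neg, ← sub_eq_add_neg]
  obtain ⟨j, hj⟩ : ∃ j, d = j + k + 1 := ⟨d - k - 1, by omega⟩
  rw [show d - 1 - k = j by omega, show d - k = j + 1 by omega]
  rw [al, coeff_sub, e, taylor_coeff, eval_eq_sum_range' (n := k + 2) (by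
    refine (natDegree_hasseDeriv_le P j).trans_lt ?_; omega), Finset.sum_range_succ']
  simp only [hasseDeriv_coeff, pow_zero, zero_add, Nat.choose_self, Nat.cast_one, one_mul, mul_one]
  rw [sub_add_cancel_right, neg_mul, Finset.sum_mul]
  congr 1
  refine Finset.sum_congr rfl fun i _ => ?_
  have h1 : ((i + 1 + j).choose j : ℚ) * ((i + 1).factorial : ℚ) * (j.factorial : ℚ) = ((i + 1 + j).factorial : ℚ) := by
    exact_mod_cast Nat.add_choose_mul_factorial_mul_factorial (i + 1) j
  rw [al, show j + 1 + i = i + 1 + j by omega, eq_div_iff (by exact_mod_cast Nat.factorial_ne_zero _), ← h1]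
  ring

theorem lex_iff {ℓ : ℕ} (p q p' q' : Fin ℓ → ℚ)
    (H : ∀ j, (∀ i < j, p i = q i) → p' j - q' j = p j - q j) :
    toLex p ≤ toLex q ↔ toLex p' ≤ toLex q' := by
  have hpre : ∀ j, (∀ i ≤ j, p i = q i) ↔ ∀ i ≤ j, p' i = q' i := by
    intro j
    induction j using WellFoundedLT.induction with
    | _ j ih =>
    constructor <;> intro h i hij
    · have := H i fun l hl => h l (hl.le.trans hij)
      have := h i hij
      linarith
    · rcases eq_or_lt_of_le hij with rfl | hlt
      · have := H i fun l hl => (ih l hl).2 (fun t ht => h t (ht.trans hl.le)) l le_rfl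
        have := h i le_rfl
        linarith
      · exact (ih i hlt).2 (fun t ht => h t (ht.trans hlt.le)) i le_rfl
  have hlt : toLex p < toLex q ↔ toLex p' < toLex q' := by
    constructor <;> rintro ⟨j, hj1, hj2⟩ <;> refine ⟨j, fun i hi => ?_, ?_⟩
    · exact (hpre i).1 (fun l hl => hj1 l (lt_of_le_of_lt hl hi)) i le_rfl
    · have := H j hj1
      show p' j < q' j
      change p j < q j at hj2
      linarith
    · exact (hpre i).2 (fun l hl => hj1 l (lt_of_le_of_lt hl hi)) i le_rfl
    · have := H j fun i hi => (hpre i).2 (fun l hl => hj1 l (lt_of_le_of_lt hl hi)) i le_rfl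
      show p j < q j
      change p' j < q' j at hj2
      linarith
  have heq : p = q ↔ p' = q' := by
    constructor <;> intro h <;> funext j
    · exact (hpre j).1 (fun i _ => congr_fun h i) j le_rfl
    · exact (hpre j).2 (fun i _ => congr_fun h i) j le_rfl
  rw [le_iff_lt_or_eq, le_iff_lt_or_eq]
  exact or_congr hlt (by rw [toLex.injective.eq_iff, toLex.injective.eq_iff]; exact heq)

open Polynomial in
/-- Let d and ℓ be natural numbers with ℓ + 1 ≤ d, let a be a nonzero rational number and let P, Q be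
polynomials with rational coefficients, both of degree exactly d. For a polynomial R of degree e
write R(m) = Σ_i α_i(R) m^i / i! (so α_i(R) = i! · coeff_i(R)) and let r_ℓ(R) ∈ ℚ^ℓ be the vector
(α_{e−1}(R)/α_e(R), …, α_{e−ℓ}(R)/α_e(R)) of the ℓ coefficients after the leading one of the reduced
polynomial R/α_e(R), ordered lexicographically. The polynomials P(m) − P(m − a) and Q(m) − Q(m − a)
have degree d − 1, and r_ℓ(P) ≤ r_ℓ(Q) lexicographically if and only if r_ℓ(P(m) − P(m − a)) ≤
r_ℓ(Q(m) − Q(m − a)) lexicographically (hence the same with strict inequalities, by exchanging P and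
Q). When P and Q are the Hilbert polynomials of pure d-dimensional coherent sheaves E → F on a
polarized projective scheme and D is a hypersurface section of degree a containing no associated
point of E or F, the Hilbert polynomials of E|_D and F|_D are P(m) − P(m − a) and Q(m) − Q(m − a),
and the two sides are the comparisons of the ℓ-truncated reduced Hilbert polynomials p_ℓ(E) ≥ p_ℓ(F)
and p_ℓ(E|_D) ≥ p_ℓ(F|_D). (The published statement is phrased for the sheaves; this row is the
statement about their Hilbert polynomials that the displayed coefficient formula yields.) -/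
theorem result (d ℓ : ℕ) (hℓ : ℓ + 1 ≤ d) (a : ℚ) (ha : a ≠ 0)
    (P Q : ℚ[X]) (hP : P.natDegree = d) (hQ : Q.natDegree = d) (hP0 : P ≠ 0) (hQ0 : Q ≠ 0) :
    toLex (fun j : Fin ℓ => ((P).coeff (d - 1 - (j : ℕ)) * (Nat.factorial (d - 1 - (j : ℕ)) : ℚ)) / ((P).coeff (d) * (Nat.factorial (d) : ℚ))) ≤ toLex (fun j : Fin ℓ => ((Q).coeff (d - 1 - (j : ℕ)) * (Nat.factorial (d - 1 - (j : ℕ)) : ℚ)) / ((Q).coeff (d) * (Nat.factorial (d) : ℚ))) ↔
      toLex (fun j : Fin ℓ => ((P - P.comp (X - C a)).coeff ((d - 1) - 1 - (j : ℕ)) * (Nat.factorial ((d - 1) - 1 - (j : ℕ)) : ℚ)) / ((P - P.comp (X - C a)).coeff ((d - 1)) * (Nat.factorial ((d - 1)) : ℚ))) ≤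
        toLex (fun j : Fin ℓ => ((Q - Q.comp (X - C a)).coeff ((d - 1) - 1 - (j : ℕ)) * (Nat.factorial ((d - 1) - 1 - (j : ℕ)) : ℚ)) / ((Q - Q.comp (X - C a)).coeff ((d - 1)) * (Nat.factorial ((d - 1)) : ℚ))) := by
  refine lex_iff _ _ _ _ fun j hj => ?_
  have key : ∀ R : ℚ[X], R.natDegree = d → R ≠ 0 →
      al (R - R.comp (X - C a)) (d - 1 - 1 - (j : ℕ)) / al (R - R.comp (X - C a)) (d - 1) =
        al R (d - 1 - (j : ℕ)) / al R d -
          ∑ i ∈ Finset.range ((j : ℕ) + 1), al R (d - (j : ℕ) + i) / al R d * (-a) ^ (i + 2) / ((i + 2).factorial : ℚ) / a := by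
    intro R hR hR0
    have hne : al R d ≠ 0 := mul_ne_zero (hR ▸ leadingCoeff_ne_zero.2 hR0) (by exact_mod_cast Nat.factorial_ne_zero d)
    have htop : al (R - R.comp (X - C a)) (d - 1) = a * al R d := by
      have h := al_delta R a d hR 0 (by omega)
      simp only [Nat.sub_zero, zero_add, Finset.sum_range_one, add_zero, pow_one, Nat.factorial_one, Nat.cast_one, div_one] at h
      rw [h]; ring
    rw [htop, show d - 1 - 1 - (j : ℕ) = d - 1 - ((j : ℕ) + 1) by omega, al_delta R a d hR _ (by omega),
      Finset.sum_range_succ', neg_add, add_div, sub_eq_add_neg, add_comm]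
    congr 1
    · simp only [add_zero, zero_add, pow_one, Nat.factorial_one, Nat.cast_one, div_one]
      rw [show d - ((j : ℕ) + 1) = d - 1 - (j : ℕ) by omega]
      field_simp
    · rw [← Finset.sum_neg_distrib, Finset.sum_div, ← Finset.sum_neg_distrib]
      refine Finset.sum_congr rfl fun i _ => ?_
      rw [show d - ((j : ℕ) + 1) + (i + 1) = d - (j : ℕ) + i by omega]
      field_simp
  show al (P - P.comp (X - C a)) _ / al (P - P.comp (X - C a)) _ - al (Q - Q.comp (X - C a)) _ / al (Q - Q.comp (X - C a)) _ =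
    al P _ / al P _ - al Q _ / al Q _
  rw [key P hP hP0, key Q hQ hQ0]
  have hne : ∀ R : ℚ[X], R.natDegree = d → R ≠ 0 → al R d ≠ 0 := fun R hR hR0 =>
    mul_ne_zero (hR ▸ leadingCoeff_ne_zero.2 hR0) (by exact_mod_cast Nat.factorial_ne_zero d)
  have hs : ∀ i ∈ Finset.range ((j : ℕ) + 1), al P (d - (j : ℕ) + i) / al P d = al Q (d - (j : ℕ) + i) / al Q d := by
    intro i hi
    simp only [Finset.mem_range] at hi
    rcases Nat.lt_or_ge i j with hlt | hge
    · have h := hj ⟨(j : ℕ) - 1 - i, by omega⟩ (show (j : ℕ) - 1 - i < (j : ℕ) by omega)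
      simp only at h
      rw [show d - 1 - ((j : ℕ) - 1 - i) = d - (j : ℕ) + i by omega] at h
      exact h
    · rw [show d - (j : ℕ) + i = d by omega,
        div_self (hne P hP hP0), div_self (hne Q hQ hQ0)]
  rw [Finset.sum_congr rfl (fun i hi => by rw [hs i hi])]
  ring

end Groth.Agent.S14997
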