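import Groth.Statements.S14998
import Groth.Agent.AlgSpB.Art.DVRThrough
import Groth.Agent.GrpScheme.Ext
import Groth.Agent.FDesc.ProConsClosure
import Groth.Agent.LimTop.Cons
import Groth.Agent.RedSub.Basic
import Groth.Agent.S9209
-- import your own Groth.Agent.* helpers here

set_option autoImplicit false
set_option backward.isDefEq.respectTransparency false
set_option synthInstance.maxHeartbeats 400000
universe u
open CategoryTheory CategoryTheory.Limits AlgebraicGeometry
open AlgGrp

namespace Groth.Agent.S14998

/-- Let k be a field and G a group scheme over k (a group object of schemes over Spec k) acting on a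
k-scheme R of finite type. Let f : R → S and q : S → T be morphisms of k-schemes of finite type such
that q is separated, f is invariant under the action, and the composite p = q ∘ f is G-universally
closed: p is invariant and for every discrete valuation ring A over k with fraction field K, every
K-point of R and A-point of T over k forming a commutative square with p admit an A-point of R over
T restricting on Spec K to a translate of the given K-point by a K-point of G. Then the
set-theoretic image f(R) is closed in S, and the reduced closed subscheme of S with underlying set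
f(R) is proper over T. (The published statement fixes a connected algebraic group over the complex
numbers; this row allows any group scheme over any field, which is what the printed argument uses.) -/
theorem result (k : Type u) [Field k]
    (G R S T : Over (Spec (CommRingCat.of k))) [GrpObj G]
    [LocallyOfFiniteType R.hom] [CompactSpace ↥R.left] [LocallyOfFiniteType S.hom] [CompactSpace ↥S.left]
    [LocallyOfFiniteType T.hom] [CompactSpace ↥T.left]
    (a : AlgGrp.Action G R) (f : R ⟶ S) (q : S ⟶ T) [IsSeparated q.left]
    (hf : W4c2lssmoduli.IsInvariantMor a f) (hp : W4c2lssmoduli.IsGUnivClosed a (f ≫ q)) :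
    IsClosed (Set.range f.left.base) ∧
      IsProper ((Scheme.IdealSheafData.vanishingIdeal
          (⟨closure (Set.range f.left.base), isClosed_closure⟩ : TopologicalSpace.Closeds ↥S.left)).subschemeι ≫ q.left) := by
  have hTn : IsLocallyNoetherian T.left := LocallyOfFiniteType.isLocallyNoetherian T.hom
  have hSn : IsLocallyNoetherian S.left := LocallyOfFiniteType.isLocallyNoetherian S.hom
  have : AlgebraicGeometry.IsNoetherian S.left := ⟨⟩
  have : AlgebraicGeometry.IsNoetherian T.left := ⟨⟩
  have : LocallyOfFiniteType f.left := by
    have : LocallyOfFiniteType (f.left ≫ S.hom) := by rw [Over.w f]; infer_instance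
    exact locallyOfFiniteType_of_comp f.left S.hom
  have : LocallyOfFiniteType q.left := by
    have : LocallyOfFiniteType (q.left ≫ T.hom) := by rw [Over.w q]; infer_instance
    exact locallyOfFiniteType_of_comp q.left T.hom
  have : QuasiCompact f.left := inferInstance
  have : LocallyOfFinitePresentation f.left := inferInstance
  -- lifting over discrete valuation rings
  have key : ∀ (A : Type u) [CommRing A] [IsDomain A] [IsDiscreteValuationRing A]
      (x : Spec (CommRingCat.of (FractionRing A)) ⟶ R.left) (y : Spec (CommRingCat.of A) ⟶ T.left),
      x ≫ f.left ≫ q.left = Spec.map (CommRingCat.ofHom (algebraMap A (FractionRing A))) ≫ y →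
      ∃ i : Spec (CommRingCat.of A) ⟶ R.left, i ≫ f.left ≫ q.left = y ∧
        Spec.map (CommRingCat.ofHom (algebraMap A (FractionRing A))) ≫ i ≫ f.left = x ≫ f.left := by
    intro A _ _ _ x y hxy
    let j := Spec.map (CommRingCat.ofHom (algebraMap A (FractionRing A)))
    let sA := y ≫ T.hom
    let g : Over.mk (j ≫ sA) ⟶ R := Over.homMk x (by
      show x ≫ R.hom = j ≫ y ≫ T.hom
      rw [← reassoc_of% hxy, Over.w q, Over.w f])
    let h : Over.mk sA ⟶ T := Over.homMk y rfl
    obtain ⟨i, γ, hi, hji⟩ := hp.2 A (FractionRing A) sA g h (Over.OverMorphism.ext hxy)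
    refine ⟨i.left, congrArg (fun m => m.left) hi, ?_⟩
    have e := congrArg (fun m => m ≫ f) hji
    simp only [Category.assoc] at e
    rw [hf, CartesianMonoidalCategory.lift_snd_assoc] at e
    exact congrArg (fun m => m.left) e
  have hclosed : IsClosed (Set.range f.left.base) := by
    have hc : Topology.IsLocallyConstructible (Set.range f.left) := by
      rw [← Set.image_univ]
      exact f.left.isLocallyConstructible_image Topology.IsLocallyConstructible.univ
    refine isClosed_of_closure_subset fun e he => ?_
    obtain ⟨_, ⟨r, rfl⟩, hre⟩ := FDesc.ProConsClosure.exists_specializes_of_mem_closure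
      (LimTop.isProConstructible_of_isLocallyConstructible hc) he
    by_cases hne : f.left r = e
    · exact ⟨r, hne⟩
    obtain ⟨A, _, _, _, x, y, hxy, hye, -⟩ := AlgSpB.Art.exists_dvr_through f.left r e hre hne
    obtain ⟨i, hi, hji⟩ := key A x (y ≫ q.left) (by rw [reassoc_of% hxy])
    let j := Spec.map (CommRingCat.ofHom (algebraMap A (FractionRing A)))
    have : IsDominant j := ⟨(PrimeSpectrum.denseRange_comap_iff_ker_le_nilRadical _).mpr
      (show RingHom.ker (algebraMap A (FractionRing A)) ≤ nilradical A by
        rw [(RingHom.injective_iff_ker_eq_bot _).mp (IsFractionRing.injective A (FractionRing A))]; exact bot_le)⟩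
    have : IsSchemeTheoreticallyDominant j := .of_isDominant j
    have hy : i ≫ f.left = y := GrpScheme.Ext.ext_of_schematicallyDominant j q.left
      (by rw [Category.assoc, hi]) (by rw [hji, hxy])
    exact ⟨i (IsLocalRing.closedPoint A), by rw [← Scheme.Hom.comp_apply, hy, hye]⟩
  refine ⟨hclosed, ?_⟩
  let C : TopologicalSpace.Closeds ↥S.left := ⟨closure (Set.range f.left.base), isClosed_closure⟩
  let ι := (Scheme.IdealSheafData.vanishingIdeal C).subschemeι
  have hιr : Set.range ι = (C : Set S.left) := RedSub.range_vanishingIdeal_subschemeι C
  let R₀ : TopologicalSpace.Closeds ↥R.left := ⊤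
  let red := (Scheme.IdealSheafData.vanishingIdeal R₀).subschemeι
  have hredr : Set.range red = Set.univ := RedSub.range_vanishingIdeal_subschemeι R₀
  have : IsReduced (Scheme.IdealSheafData.vanishingIdeal R₀).subscheme := RedSub.isReduced_vanishingIdeal R₀
  obtain ⟨h, hh⟩ := RedSub.exists_lift_closed ι (red ≫ f.left) (by
    rintro _ ⟨z, rfl⟩
    rw [hιr, Scheme.Hom.comp_apply]
    exact subset_closure ⟨_, rfl⟩)
  have : LocallyOfFiniteType h := by
    have : LocallyOfFiniteType (h ≫ ι) := by rw [hh]; infer_instance
    exact locallyOfFiniteType_of_comp h ι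
  have : QuasiCompact h := by
    have : QuasiCompact (h ≫ ι) := by rw [hh]; infer_instance
    exact QuasiCompact.of_comp h ι
  refine S9209.result (ι ≫ q.left) h ?_ fun A _ _ _ u y hu => ?_
  · have hd : ∀ z, z ∈ Set.range h := fun z => by
      obtain ⟨r, hr⟩ : ι z ∈ Set.range f.left.base := by
        rw [← hclosed.closure_eq]; exact hιr.le ⟨z, rfl⟩
      obtain ⟨r₀, rfl⟩ : r ∈ Set.range red := hredr.ge trivial
      exact ⟨r₀, ι.isClosedEmbedding.injective (by
        rw [← Scheme.Hom.comp_apply, hh, Scheme.Hom.comp_apply]; exact hr)⟩
    exact fun z => subset_closure (hd z)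
  · obtain ⟨i, hi, hji⟩ := key A (u ≫ red) y (by rw [← hu, reassoc_of% hh, Category.assoc])
    have : IsReduced (Spec (CommRingCat.of A)) := inferInstance
    obtain ⟨l, hl⟩ := RedSub.exists_lift_closed ι (i ≫ f.left) (by
      rintro _ ⟨z, rfl⟩
      rw [hιr, Scheme.Hom.comp_apply]
      exact subset_closure ⟨_, rfl⟩)
    refine ⟨l, by rw [reassoc_of% hl]; exact hi, ?_⟩
    rw [← cancel_mono ι, Category.assoc, hl, hji, Category.assoc, Category.assoc, hh]

end Groth.Agent.S14998
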