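import Groth.Statements.S4434
import Groth.Agent.DVRCrit.Basic
-- import your own Groth.Agent.* helpers here

set_option autoImplicit false
universe u
open EGA2

namespace Groth.Agent.S4434

/-- Let A be a Noetherian domain with field of fractions K and L a finitely generated field extension of
K. The integral closure of A in L is the intersection of the discrete valuation subrings of L (with
fraction field L) containing the image of A: an element of L is integral over A exactly when it
belongs to all of them. -/
theorem result (A : Type u) [CommRing A] [IsDomain A] [IsNoetherianRing A]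
    (K : Type u) [Field K] [Algebra A K] [IsFractionRing A K]
    (L : Type u) [Field L] [Algebra K L] [Algebra A L] [IsScalarTower A K L] (hfg : (⊤ : IntermediateField K L).FG) (x : L) :
    IsIntegral A x ↔ ∀ R : ValuationSubring L, IsDiscreteValuationRing R → (∀ a : A, algebraMap A L a ∈ R) → x ∈ R := by
  classical
  refine ⟨fun hx R hR hA => ?_, fun h => ?_⟩
  · let ψ : A →+* R := (algebraMap A L).codRestrict R.toSubring hA
    obtain ⟨q, hq, hq'⟩ := hx
    have : IsIntegral R x := ⟨q.map ψ, hq.map ψ, by rw [Polynomial.eval₂_map]; exact hq'⟩
    obtain ⟨y, hy⟩ := IsIntegrallyClosed.isIntegral_iff.1 this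
    exact hy ▸ y.2
  · by_contra hx
    let C := (integralClosure A L).toSubring
    have : IsIntegrallyClosedIn C L := inferInstanceAs (IsIntegrallyClosedIn (integralClosure A L) L)
    obtain ⟨V, hCV, hxV⟩ := C.exists_le_valuationSubring_of_isIntegrallyClosedIn (x := x) hx
    obtain ⟨G, hG⟩ := hfg
    have hgen : Subfield.closure (Set.range (algebraMap A L) ∪ (G : Set L)) = ⊤ := by
      refine eq_top_iff.2 fun y _ => ?_
      have hy : y ∈ IntermediateField.adjoin K (G : Set L) := hG ▸ IntermediateField.mem_top
      rw [← IntermediateField.mem_toSubfield, IntermediateField.adjoin_toSubfield] at hy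
      refine Subfield.closure_le.2 (Set.union_subset ?_ (fun g hg => Subfield.subset_closure (Or.inr hg))) hy
      rintro _ ⟨k, rfl⟩
      obtain ⟨a, b, -, rfl⟩ := IsFractionRing.div_surjective (A := A) k
      rw [map_div₀, ← IsScalarTower.algebraMap_apply, ← IsScalarTower.algebraMap_apply]
      exact div_mem (Subfield.subset_closure (Or.inl ⟨a, rfl⟩)) (Subfield.subset_closure (Or.inl ⟨b, rfl⟩))
    obtain ⟨R, hR, hAR, hxR⟩ := DVRCrit.exists_dvr_avoiding (algebraMap A L) G.finite_toSet hgen V
      (fun a => hCV (Subalgebra.algebraMap_mem _ a)) {x} (Finset.singleton_nonempty x)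
      (fun z hz => Finset.mem_singleton.1 hz ▸ hxV)
    exact hxR x (Finset.mem_singleton_self x) (h R hR hAR)

end Groth.Agent.S4434
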