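import Groth.Statements.S14999
import Groth.Agent.S10862
import Groth.Agent.S4434
import Groth.Agent.VarBC.SepFinite
-- import your own Groth.Agent.* helpers here

set_option autoImplicit false
set_option linter.style.haveILetI false
set_option backward.isDefEq.respectTransparency false
set_option synthInstance.maxHeartbeats 400000
set_option maxHeartbeats 1600000
universe u
open CategoryTheory CategoryTheory.Limits AlgebraicGeometry
open AlgGrp

namespace Groth.Agent.S14999

/-- Let k be a field, A a finitely generated k-algebra and G a group scheme over k acting on an integral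
k-scheme Y of finite type; let p : Y → Spec A be a morphism over k which is G-universally closed
(invariant under the action, and for every discrete valuation ring over k with fraction field K
every commutative square of a K-point of Y and a point of Spec A with values in that ring lifts, up
to translation of the K-point by a K-point of G, to a point of Y with values in the ring). Call a
global function s on Y invariant when its pullbacks along the action morphism and along the
projection G ×_k Y → Y agree. Then the invariant global functions form a finite A-module: there are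
finitely many invariant functions such that every invariant function is a linear combination of them
with coefficients from A (acting on Γ(Y, O_Y) through p). (The published statement is for an
integral G-stable closed subscheme Y of a G-universally closed scheme over Spec A, with k the
complex numbers and G a connected algebraic group; such a Y is itself G-universally closed over Spec
A, and the printed argument uses only a field k and a group scheme G.) -/
theorem result (k : Type u) [Field k]
    (G Y : Over (Spec (CommRingCat.of k))) [GrpObj G]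
    [LocallyOfFiniteType Y.hom] [CompactSpace ↥Y.left] [IsIntegral Y.left]
    (A : Type u) [CommRing A] [Algebra k A] [Algebra.FiniteType k A]
    (a : AlgGrp.Action G Y)
    (p : Y ⟶ Over.mk (Spec.map (CommRingCat.ofHom (algebraMap k A))))
    (hp : W4c2lssmoduli.IsGUnivClosed a p) :
    ∃ t : Finset ↑Γ(Y.left, ⊤),
      (∀ s ∈ t, a.act.left.appTop s = (CartesianMonoidalCategory.snd G Y).left.appTop s) ∧
      ∀ s : ↑Γ(Y.left, ⊤), a.act.left.appTop s = (CartesianMonoidalCategory.snd G Y).left.appTop s →
        ∃ c : ↑Γ(Y.left, ⊤) → A,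
          s = ∑ x ∈ t, ((Scheme.ΓSpecIso (CommRingCat.of A)).inv ≫ p.left.appTop) (c x) * x := by
  classical
  let L := Y.left.functionField
  let ev : Γ(Y.left, ⊤) →+* L := (Y.left.presheaf.germ ⊤ (genericPoint Y.left) trivial).hom
  have hev : Function.Injective ev := germ_injective_of_isIntegral Y.left (genericPoint Y.left) (U := ⊤) trivial
  let pA : A →+* Γ(Y.left, ⊤) := ((Scheme.ΓSpecIso (CommRingCat.of A)).inv ≫ p.left.appTop).hom
  let φ : A →+* L := ev.comp pA
  let I := RingHom.ker φ
  have hIp : I.IsPrime := RingHom.ker_isPrime φ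
  let B := A ⧸ I
  have : Algebra.FiniteType k B := inferInstance
  have : IsNoetherianRing A := Algebra.FiniteType.isNoetherianRing k A
  have : IsNoetherianRing B := inferInstance
  let φB : B →+* L := RingHom.kerLift φ
  have hφB : Function.Injective φB := RingHom.kerLift_injective φ
  let K := FractionRing B
  letI : Algebra B L := φB.toAlgebra
  letI : Algebra K L := (IsFractionRing.lift (g := φB) hφB).toAlgebra
  have : IsScalarTower B K L := IsScalarTower.of_algebraMap_eq fun b =>
    (IsFractionRing.lift_algebraMap hφB b).symm
  letI : Algebra A L := φ.toAlgebra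
  have : IsScalarTower A B L := IsScalarTower.of_algebraMap_eq fun a => rfl
  have : IsScalarTower A K L := IsScalarTower.of_algebraMap_eq fun a => by
    rw [IsScalarTower.algebraMap_apply A B K, ← IsScalarTower.algebraMap_apply B K L,
      ← IsScalarTower.algebraMap_apply A B L]
  have : IsAffine (Over.mk (Spec.map (CommRingCat.ofHom (algebraMap k A)))).left :=
    inferInstanceAs (IsAffine (Spec (CommRingCat.of A)))
  have : Algebra.EssFiniteType A L := by
    obtain ⟨V, hV, hgV, -⟩ := exists_isAffineOpen_mem_and_subset (x := genericPoint Y.left) (U := ⊤) trivial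
    have : Nonempty V := ⟨⟨_, hgV⟩⟩
    have : LocallyOfFiniteType p.left := by
      have : LocallyOfFiniteType (p.left ≫ Spec.map (CommRingCat.ofHom (algebraMap k A))) := by
        rw [show p.left ≫ Spec.map (CommRingCat.ofHom (algebraMap k A)) = Y.hom from Over.w p]; infer_instance
      exact locallyOfFiniteType_of_comp p.left (Spec.map (CommRingCat.ofHom (algebraMap k A)))
    let ψ : A →+* Γ(Y.left, V) := (p.left.appLE ⊤ V le_top).hom.comp (Scheme.ΓSpecIso (CommRingCat.of A)).inv.hom
    have hψ : ψ.FiniteType := (p.left.finiteType_appLE (isAffineOpen_top _) hV le_top).comp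
      (RingHom.FiniteType.of_surjective _ (Scheme.ΓSpecIso (CommRingCat.of A)).symm.commRingCatIsoToRingEquiv.surjective)
    letI := ψ.toAlgebra
    have : Algebra.FiniteType A Γ(Y.left, V) := hψ
    have : IsScalarTower A Γ(Y.left, V) L := IsScalarTower.of_algebraMap_eq fun a => by
      show ev (pA a) = Y.left.presheaf.germ V (genericPoint Y.left) _ (ψ a)
      show ev (pA a) = Y.left.presheaf.germ V (genericPoint Y.left) _
        (Y.left.presheaf.map (homOfLE le_top).op (pA a))
      rw [TopCat.Presheaf.germ_res_apply]
    have := functionField_isFractionRing_of_isAffineOpen Y.left V hV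
    have : Algebra.EssFiniteType Γ(Y.left, V) L :=
      Algebra.EssFiniteType.of_isLocalization _ (nonZeroDivisors Γ(Y.left, V))
    exact Algebra.EssFiniteType.comp A Γ(Y.left, V) L
  have : Algebra.EssFiniteType K L := Algebra.EssFiniteType.of_comp A K L
  -- the invariant functions
  have hpinv : ∀ b : A, a.act.left.appTop (pA b) = (CartesianMonoidalCategory.snd G Y).left.appTop (pA b) := fun b => by
    have h := congrArg (fun m : MonoidalCategory.tensorObj G Y ⟶ Over.mk (Spec.map (CommRingCat.ofHom (algebraMap k A))) =>
      m.left.appTop ((Scheme.ΓSpecIso (CommRingCat.of A)).inv b)) hp.1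
    exact h
  have key : ∀ s : Γ(Y.left, ⊤), a.act.left.appTop s = (CartesianMonoidalCategory.snd G Y).left.appTop s →
      IsIntegral B (ev s) := by
    intro s hs
    rw [S4434.result B K L (IntermediateField.fg_top K L)]
    intro R hR hBR
    let gL : Spec (CommRingCat.of L) ⟶ Y.left := Y.left.fromSpecStalk (genericPoint Y.left)
    let φR : A →+* R := φ.codRestrict R.toSubring fun b => hBR (Ideal.Quotient.mk I b)
    let y : Spec (CommRingCat.of R) ⟶ Spec (CommRingCat.of A) := Spec.map (CommRingCat.ofHom φR)
    let jR := Spec.map (CommRingCat.ofHom (algebraMap R L))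
    let sA := y ≫ Spec.map (CommRingCat.ofHom (algebraMap k A))
    have hgLs : ∀ u : Γ(Y.left, ⊤), (Scheme.ΓSpecIso (CommRingCat.of L)).hom (gL.appTop u) = ev u := fun u => by
      show (gL.appTop ≫ (Scheme.ΓSpecIso (CommRingCat.of L)).hom) u = _
      rw [show gL.appTop = Y.left.presheaf.germ ⊤ (genericPoint Y.left) trivial ≫
        (Scheme.ΓSpecIso (CommRingCat.of L)).inv from Scheme.fromSpecStalk_appTop, Category.assoc,
        Iso.inv_hom_id, Category.comp_id]
    have hgLp : gL ≫ p.left = jR ≫ y := by
      apply ext_of_isAffine
      rw [← cancel_mono (Scheme.ΓSpecIso (CommRingCat.of L)).hom,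
        ← cancel_epi (Scheme.ΓSpecIso (CommRingCat.of A)).inv]
      have hr : jR ≫ y = Spec.map (CommRingCat.ofHom φ) := by rw [← Spec.map_comp]; rfl
      rw [hr, Scheme.ΓSpecIso_naturality, Iso.inv_hom_id_assoc]
      ext b
      exact hgLs (pA b)
    let g : Over.mk (jR ≫ sA) ⟶ Y := Over.homMk gL (by
      show gL ≫ Y.hom = jR ≫ y ≫ Spec.map (CommRingCat.ofHom (algebraMap k A))
      rw [← reassoc_of% hgLp]
      exact congrArg (gL ≫ ·) (Over.w p).symm)
    let h : Over.mk sA ⟶ Over.mk (Spec.map (CommRingCat.ofHom (algebraMap k A))) := Over.homMk y rfl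
    obtain ⟨i, γ, -, hji⟩ := hp.2 R L sA g h (Over.OverMorphism.ext hgLp)
    have e := congrArg (fun m : Over.mk (jR ≫ sA) ⟶ Y => m.left.appTop s) hji
    have e' : jR.appTop (i.left.appTop s) = (CartesianMonoidalCategory.lift γ g).left.appTop (a.act.left.appTop s) := e
    rw [hs] at e'
    have e'' : jR.appTop (i.left.appTop s) = gL.appTop s := e'.trans
      (congrArg (fun m : Over.mk (jR ≫ sA) ⟶ Y => m.left.appTop s) (CartesianMonoidalCategory.lift_snd γ g))
    have e3 := congrArg (Scheme.ΓSpecIso (CommRingCat.of L)).hom e''
    rw [hgLs] at e3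
    rw [← e3]
    have e4 : (Scheme.ΓSpecIso (CommRingCat.of L)).hom (jR.appTop (i.left.appTop s)) =
        algebraMap R L ((Scheme.ΓSpecIso (CommRingCat.of R)).hom (i.left.appTop s)) :=
      congrArg (fun m : Γ(Spec (CommRingCat.of R), ⊤) ⟶ CommRingCat.of L => m (i.left.appTop s))
        (Scheme.ΓSpecIso_naturality (CommRingCat.ofHom (algebraMap R L)))
    rw [e4]
    exact SetLike.coe_mem _
  let L₀ := algebraicClosure K L
  have : FiniteDimensional K L₀ := VarBC.finiteDimensional_algebraicClosure
  have hfin : Module.Finite B (integralClosure B L₀) := S10862.result k B K L₀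
  let W : Submodule B L :=
    { carrier := ev '' {s | a.act.left.appTop s = (CartesianMonoidalCategory.snd G Y).left.appTop s}
      add_mem' := by
        rintro _ _ ⟨u, hu, rfl⟩ ⟨v, hv, rfl⟩
        exact ⟨u + v, by rw [Set.mem_setOf_eq, map_add, map_add, hu, hv], map_add _ _ _⟩
      zero_mem' := ⟨0, by rw [Set.mem_setOf_eq, map_zero, map_zero], map_zero _⟩
      smul_mem' := by
        rintro c _ ⟨u, hu, rfl⟩
        obtain ⟨c, rfl⟩ := Ideal.Quotient.mk_surjective c
        exact ⟨pA c * u, by rw [Set.mem_setOf_eq, map_mul, map_mul, hu, hpinv], map_mul ev _ _⟩ }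
  let ι₀ : integralClosure B L₀ →ₗ[B] L :=
    ((L₀.val.restrictScalars B).comp (integralClosure B L₀).val).toLinearMap
  have hW : W ≤ LinearMap.range ι₀ := by
    rintro _ ⟨u, hu, rfl⟩
    have hint := key u hu
    have halg : ev u ∈ L₀ := mem_algebraicClosure_iff.2 hint.tower_top.isAlgebraic
    refine ⟨⟨⟨ev u, halg⟩, ?_⟩, rfl⟩
    exact (isIntegral_algHom_iff (L₀.val.restrictScalars B) Subtype.val_injective).1 hint
  have hWfg : W.FG := by
    have hr : (LinearMap.range ι₀).FG := Module.Finite.iff_fg.1 (Module.Finite.range ι₀)
    exact Submodule.FG.of_le hr hW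
  obtain ⟨S, hS⟩ := hWfg
  have hSW : ∀ x ∈ S, ∃ u : Γ(Y.left, ⊤),
      a.act.left.appTop u = (CartesianMonoidalCategory.snd G Y).left.appTop u ∧ ev u = x := fun x hx => by
    obtain ⟨u, hu, hux⟩ : x ∈ W := hS ▸ Submodule.subset_span hx
    exact ⟨u, hu, hux⟩
  choose! u hu hux using hSW
  refine ⟨S.image u, fun s hs => ?_, fun s hs => ?_⟩
  · obtain ⟨x, hx, rfl⟩ := Finset.mem_image.1 hs
    exact hu x hx
  · obtain ⟨f, -, hf⟩ := Submodule.mem_span_finset.1 (hS.symm ▸ (⟨s, hs, rfl⟩ : ev s ∈ W) : ev s ∈ Submodule.span B (S : Set L))
    choose d hd using fun x => Ideal.Quotient.mk_surjective (f x)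
    refine ⟨fun v => d (ev v), hev ?_⟩
    rw [map_sum, Finset.sum_image fun x hx x' hx' h => by rw [← hux x hx, h, hux x' hx'], ← hf]
    refine Finset.sum_congr rfl fun x hx => ?_
    show f x • x = ev (pA (d (ev (u x))) * u x)
    rw [map_mul, hux x hx, ← hd x]
    rfl

end Groth.Agent.S14999
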