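import Groth.Statements.S1500
import Groth.Agent.AmpleFam.Pullback
import Groth.Agent.AmpleFam.CanonSection

set_option autoImplicit false
universe u
open FlatMor

namespace Groth.Agent.S1500

section Helpers

open AlgebraicGeometry CategoryTheory Limits Groth.Agent.AmpleLib Groth.Agent.Props.GenLocus

theorem pow_one_iso {X : Scheme.{u}} (P : X.Modules) : Nonempty (CohB1.tensorPow P 1 ≅ P) :=
  ⟨Groth.Agent.KFlat.TensorLocFree.unitTensorIso P⟩

theorem exists_family {X : Scheme.{u}} [CompactSpace X] [QuasiSeparatedSpace X] {L P : X.Modules}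
    (hL : PicF.IsInvertible L) (hP : PicF.IsInvertible P) {k : ℕ}
    (s : Coh.structureModule X ⟶ CohB1.tensorPow P k) (e : CohB1.tensorPow P k ≅ P) {U : X.Opens}
    (hU : U = CohB1.genLocus _ s) (σ : Γ(L, U)) :
    ∃ (N : X.Modules) (t : Coh.structureModule X ⟶ CohB1.tensorPow N 1), PicF.IsInvertible N ∧
      CohB1.genLocus _ t = locus σ := by
  have he : IsGen P U (e.hom.app U (sec s U)) := by
    refine isGen_app_iso e ?_
    rw [hU]
    exact isGen_genLocus s
  obtain ⟨N, τ, hN, hτ⟩ := Groth.Agent.AmpleFam.Pullback.exists_invertible_locus hL hP s hU he σ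
  obtain ⟨i⟩ := pow_one_iso N
  exact ⟨N, homOfSec τ ≫ i.inv, hN, by
    rw [show i.inv = i.symm.hom from rfl, genLocus_comp_iso, genLocus_homOfSec, hτ]⟩

theorem isAffineHom_away {X : Scheme.{u}} (D : X.IdealSheafData) (hD : BlowUp.IsEffCartierIdeal D)
    (U : X.Opens) (hU : (U : Set X) = (D.support : Set X)ᶜ) : IsAffineHom U.ι := by
  obtain ⟨s, hs⟩ := Groth.Agent.AmpleFam.CanonSection.exists_section_dual D hD
  have hP := isInvertible_tensorPow (Groth.Agent.AmpleFam.CanonSection.tensor_dual
    (Groth.Agent.IdealSh.IdealMod.isInvertible_of_isEffCartierIdeal D hD)).1 1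
  have h := isAffineHom_genLocus_ι hP s
  have e : CohB1.genLocus _ s = U := TopologicalSpace.Opens.ext (hs.trans hU.symm)
  exact e ▸ h

theorem quasiSeparated_of_cover {X : Scheme.{u}} {m : ℕ} (U : Fin m → X.Opens)
    (hcov : ∀ x : X, ∃ i, x ∈ U i) (haff : ∀ i, IsAffineHom (U i).ι)
    (hsep : ∀ i, (U i : Scheme.{u}).IsSeparated) : QuasiSeparatedSpace X := by
  refine QuasiSeparatedSpace.of_isOpenCover (U := U) (TopologicalSpace.IsOpenCover.mk
    (top_le_iff.mp fun x _ => TopologicalSpace.Opens.mem_iSup.mpr (hcov x))) (fun i V hVc hVo => ?_) fun i => ?_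
  · haveI := haff i
    have h := QuasiCompact.isCompact_preimage (f := (U i).ι) V hVo hVc
    have := h.image (U i).ι.continuous
    rwa [Set.image_preimage_eq_inter_range, Scheme.Opens.range_ι, Set.inter_comm] at this
  · haveI := hsep i
    exact (isQuasiSeparated_iff_quasiSeparatedSpace _ (U i).2).2
      (inferInstanceAs (QuasiSeparatedSpace (U i : Scheme.{u})))

theorem exists_boundary_section {X : Scheme.{u}} (D : X.IdealSheafData) (hD : BlowUp.IsEffCartierIdeal D)
    (U : X.Opens) (hU : (U : Set X) = (D.support : Set X)ᶜ) :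
    ∃ (P : X.Modules) (s : Coh.structureModule X ⟶ CohB1.tensorPow P 1),
      PicF.IsInvertible P ∧ U = CohB1.genLocus _ s := by
  obtain ⟨s, hs⟩ := Groth.Agent.AmpleFam.CanonSection.exists_section_dual D hD
  exact ⟨_, s, (Groth.Agent.AmpleFam.CanonSection.tensor_dual
    (Groth.Agent.IdealSh.IdealMod.isInvertible_of_isEffCartierIdeal D hD)).1,
    TopologicalSpace.Opens.ext (hU.trans hs.symm)⟩

end Helpers

open AlgebraicGeometry CategoryTheory Limits in
/-- Let D_1, …, D_m be effective Cartier divisors on X (ideal sheaves locally generated by a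
nonzerodivisor) with empty common support, and L_1, …, L_m invertible O_X-modules with L_i ample on
the open complement of D_i. Then X has an ample family of invertible modules. -/
theorem result {X : Scheme.{u}} {m : ℕ} (D : Fin m → X.IdealSheafData)
    (hD : ∀ i, BlowUp.IsEffCartierIdeal (D i)) (hcap : ⋂ i, ((D i).support : Set ↑X) = ∅)
    (L : Fin m → X.Modules) (hL : ∀ i, PicF.IsInvertible (L i)) (hamp : ∀ i, CohB1.IsAmple ((L i).restrict (Scheme.Opens.ι (D i).support.compl))) :
    MoreMor.HasAmpleFamily X := by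
  classical
  let U : Fin m → X.Opens := fun i => (D i).support.compl
  have hcov : ∀ x : X, ∃ i, x ∈ U i := fun x => by
    by_contra! h
    have : x ∈ ⋂ i, ((D i).support : Set ↑X) := Set.mem_iInter.2 fun i => by
      by_contra hx
      exact h i hx
    rw [hcap] at this
    exact this
  have hon : ∀ i, Groth.Agent.AmpleLib.AmpleOn (L i) (U i) := fun i =>
    (Groth.Agent.AmpleLib.isAmple_restrict_iff (hL i) _).1 (hamp i)
  haveI : CompactSpace X := ⟨by
    rw [show (Set.univ : Set X) = ⋃ i, (U i : Set X) from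
      (Set.eq_univ_of_forall fun x => Set.mem_iUnion.2 (hcov x)).symm]
    exact isCompact_iUnion fun i => (hon i).1⟩
  haveI : QuasiSeparatedSpace X := quasiSeparated_of_cover U hcov
    (fun i => isAffineHom_away (D i) (hD i) (U i) rfl)
    (fun i => Groth.Agent.AmpleLib.isSeparated_of_ampleOn (hL i) (hon i))
  refine ⟨inferInstance, fun x => ?_⟩
  obtain ⟨i, hxi⟩ := hcov x
  obtain ⟨n, σ, hxσ, hσ⟩ := (hon i).2 x hxi
  obtain ⟨P, s, hP, hU⟩ := exists_boundary_section (D i) (hD i) (U i) rfl
  obtain ⟨e₀⟩ := pow_one_iso P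
  obtain ⟨N, t, hN, ht⟩ := exists_family (Groth.Agent.AmpleLib.isInvertible_tensorPow (hL i) (n + 1)) hP s e₀
    (U := U i) hU σ
  refine ⟨N, 1, t, hN, le_rfl, ?_⟩
  rw [ht]
  exact ⟨hxσ, hσ⟩

end Groth.Agent.S1500
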