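import Groth.Statements.S15000
import Groth.Agent.ProjFin.Iso

set_option autoImplicit false
universe u
open CategoryTheory CategoryTheory.Limits AlgebraicGeometry
open ProjDeg

namespace Groth.Agent.S15000

/-- Let k be an algebraically closed field and Y a closed subscheme of projective N-space over k, given
by a closed immersion ι compatible with the structure morphisms to Spec k, and suppose the
underlying topological space of Y has Krull dimension d. Then there is a morphism π : Y → P^d_k over
k which is finite and surjective and under which O(1) of P^d_k pulls back to a module isomorphic to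
O_Y(1) = ι^*O(1). This row records the existence of such a finite surjective π together with the
existence of an isomorphism π^*O(1) ≅ O_Y(1) (existence of an isomorphism only). -/
theorem result (k : Type u) [Field k] [IsAlgClosed k]
    (N d : ℕ) (Y : Scheme.{u}) (f : Y ⟶ Spec (CommRingCat.of k))
    (ι : Y ⟶ CohB1.ProjSpace N k) [IsClosedImmersion ι] (hι : ι ≫ CohB1.ProjSpace.toSpec N k = f)
    (hdim : topologicalKrullDim ↥Y = (d : WithBot ℕ∞)) :
    ∃ π : Y ⟶ CohB1.ProjSpace d k, π ≫ CohB1.ProjSpace.toSpec d k = f ∧ IsFinite π ∧ Function.Surjective π.base ∧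
      Nonempty ((Scheme.Modules.pullback π).obj (Twist.twistProjSpace d k 1) ≅
        (Scheme.Modules.pullback ι).obj (Twist.twistProjSpace N k 1)) := by
  haveI := Groth.Agent.ProjProper.Basic.isProper_toSpec N k
  let g := ι ≫ CohB1.ProjSpace.toSpec N k
  haveI : IsLocallyNoetherian Y := LocallyOfFiniteType.isLocallyNoetherian g
  haveI : CompactSpace Y := QuasiCompact.compactSpace_of_compactSpace g
  haveI : IsNoetherian Y := {}
  obtain ⟨a, ha⟩ := Groth.Agent.ProjFin.exists_forms ι (d + 1) ⊤ fun x _ => by
    have e : topologicalKrullDim Y = Order.krullDim Y := Order.krullDim_eq_of_orderIso irreducibleSetEquivPoints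
    have h := Order.height_le_krullDim x
    rw [← e, hdim] at h
    exact (WithBot.coe_le_coe.1 h).trans_lt (by exact_mod_cast Nat.lt_succ_self d)
  obtain ⟨π, hπ, hfin, hiso⟩ := Groth.Agent.ProjFin.exists_projection_iso ι a fun x => ha x trivial
  exact ⟨π, hπ.trans hι, hfin, (Groth.Agent.ProjFin.surjective_of_isFinite π hdim.ge).surj, hiso⟩

end Groth.Agent.S15000
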