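import Groth.Statements.S15002
import Groth.Agent.ShStabLib.Simple
import Groth.Agent.NumTriv.Twist
import Groth.Agent.HilbPolyX.Sheaf
import Mathlib.Order.PiLex

set_option autoImplicit false
universe u
open CategoryTheory CategoryTheory.Limits AlgebraicGeometry
open Coherent

namespace Groth.Agent.S15002

open Polynomial in
/-- Let k be an algebraically closed field and X an integral scheme, smooth and proper over k, with a
closed immersion ι into projective N-space over k compatible with the structure maps; write E(m) = E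
⊗ ι^*O(m). Let 1 ≤ ℓ ≤ d and let E be a coherent O_X-module whose Hilbert polynomial P (χ(E(m)) =
P(m) for all integers m) is nonzero of degree d, which is pure of dimension d (every nonzero
coherent subsheaf of E has support of Krull dimension d) and ℓ-stable: writing R(m) = Σ_i α_i(R)
m^i/i! for a polynomial R, for every coherent subsheaf F of E with Hilbert polynomial Q such that 0
< α_d(Q) < α_d(P), the vector (α_{d−1}(Q)/α_d(Q), …, α_{d−ℓ}(Q)/α_d(Q)) is strictly smaller than
(α_{d−1}(P)/α_d(P), …, α_{d−ℓ}(P)/α_d(P)) in the lexicographic order. Then E is simple: every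
endomorphism φ of E is multiplication by a scalar, i.e. there is c ∈ k with φ(s) = c·s for every
local section s of E. (The published statement gives more generally, for such E, that the
endomorphisms of the restriction of E to the complement of any closed subset meeting the support of
E in codimension at least ℓ + 1 are the scalars; this row is the case of the empty closed subset.) -/
theorem result (k : Type u) [Field k] [IsAlgClosed k]
    (X : Scheme.{u}) [X.Over (Spec (CommRingCat.of k))] [IsIntegral X]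
    [Smooth (X ↘ Spec (CommRingCat.of k))] [IsProper (X ↘ Spec (CommRingCat.of k))]
    (N : ℕ) (ι : X ⟶ CohB1.ProjSpace N k) [IsClosedImmersion ι] (hι : ι ≫ CohB1.ProjSpace.toSpec N k = X ↘ Spec (CommRingCat.of k))
    (d ℓ : ℕ) (hℓ : 1 ≤ ℓ) (hℓd : ℓ ≤ d)
    (E : X.Modules) (hE : Coh.IsCoh E) (P : ℚ[X]) (hPd : P.natDegree = d) (hP0 : P ≠ 0)
    (hP : ∀ m : ℤ, (Curv2.euler k X (Pic13.twistOn k ι E m) : ℚ) = P.eval (m : ℚ))
    (hpure : ∀ (F : X.Modules) (j : F ⟶ E), Mono j → Coh.IsCoh F → ¬ IsZero F →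
      topologicalKrullDim (CohB1.support F) = (d : WithBot ℕ∞))
    (hst : ∀ (F : X.Modules) (j : F ⟶ E), Mono j → Coh.IsCoh F → ∀ Q : ℚ[X],
      (∀ m : ℤ, (Curv2.euler k X (Pic13.twistOn k ι F m) : ℚ) = Q.eval (m : ℚ)) →
        0 < Q.coeff d → Q.coeff d < P.coeff d →
          toLex (fun j : Fin ℓ => ((Q).coeff (d - 1 - (j : ℕ)) * (Nat.factorial (d - 1 - (j : ℕ)) : ℚ)) / ((Q).coeff d * (Nat.factorial d : ℚ))) < toLex (fun j : Fin ℓ => ((P).coeff (d - 1 - (j : ℕ)) * (Nat.factorial (d - 1 - (j : ℕ)) : ℚ)) / ((P).coeff d * (Nat.factorial d : ℚ))))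
    (φ : E ⟶ E) :
    ∃ c : k, ∀ (V : X.Opens) (s : E.val.obj (Opposite.op V)),
      (φ.val.app (Opposite.op V)) s = (X.ringCatSheaf.obj.map (homOfLE (le_top : V ≤ ⊤)).op (Coh.toGlobal (X ↘ Spec (CommRingCat.of k)) c : X.ringCatSheaf.obj.obj (Opposite.op ⊤))) • s := by
  open Groth.Agent in open Groth.Agent.HilbPolyX in
  have := Groth.Agent.EulerChar.isNoetherian k (X := X)
  let L : X.Modules := Groth.Agent.NumTriv.oX ι 1
  have hL : CohB1.IsAmple L := Groth.Agent.NumTriv.isAmple_oX_one ι
  have hpoly : ∀ F : X.Modules, Coh.IsCoh F → ∀ m : ℤ,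
      (Curv2.euler k X (Pic13.twistOn k ι F m) : ℚ) = (Groth.Agent.HilbPolyX.hilb k L F).eval (m : ℚ) := by
    intro F hF
    have := Groth.Agent.ProjTwist.Pn.isLocallyNoetherian_projSpace N k
    have := hF.1
    obtain ⟨Q, hQ, hQneg⟩ := Groth.Agent.ProjTwist.Pn.exists_chi_poly
      (Groth.Agent.ProperFin.isCoh_push_of_isFinite ι F hF)
    have hall : ∀ m : ℤ, (Curv2.euler k X (Pic13.twistOn k ι F m) : ℚ) = Q.eval (m : ℚ) := by
      intro m
      rw [← Groth.Agent.ProjTwist.Pn.chi_push ι hι F m]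
      obtain ⟨a, rfl | rfl⟩ := m.eq_nat_or_neg
      · exact_mod_cast Groth.Agent.ProjTwist.Pn.chi_eq_hilb hQ a
      · exact_mod_cast hQneg a
    have hQX : ShStab.IsHilbPoly k X L F Q := fun m => by
      obtain ⟨e⟩ := Groth.Agent.NumTriv.nonempty_oX_pow ι m
      rw [show (m : ℚ) = ((m : ℤ) : ℚ) by simp, ← hall m]
      exact congrArg (fun z : ℤ => (z : ℚ)) (Groth.Agent.EulerChar.euler_iso k
        (Groth.Agent.ProjTwist.tensCongr (Iso.refl F) e))
    rw [← Groth.Agent.HilbPolyX.eq_hilb k hL hF hQX]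
    exact hall
  have hP' : P = Groth.Agent.HilbPolyX.hilb k L E := Groth.Agent.HilbPolyX.poly_ext fun m => by
    have h := hpoly E hE m
    rw [hP m] at h
    exact_mod_cast h
  have hE0 : ¬ IsZero E := fun h => hP0 (hP'.trans (Groth.Agent.HilbPolyX.hilb_eq_zero_of_isZero k hL h))
  obtain ⟨x₁, hx₁⟩ : ∃ x₁ : X, Nontrivial (E.presheaf.stalk x₁) := by
    by_contra h
    push Not at h
    exact hE0 ((Groth.Agent.WeakAssSch.isZero_iff_forall_stalk E).2 h)
  obtain ⟨c, hc⟩ := Groth.Agent.ShStabLib.exists_not_isIso_sub_smul (k := k) hE x₁ hx₁ φ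
  refine ⟨c, fun V s => ?_⟩
  suffices hψ : φ - c • 𝟙 E = 0 by
    rw [sub_eq_zero] at hψ
    rw [hψ]
    exact KLin.smul_app_apply c (𝟙 E) V s
  by_contra hne
  refine hc ?_
  set ψ := φ - c • 𝟙 E
  have hI : Coh.IsCoh (Abelian.image ψ) := Groth.Agent.CohDev.isCoh_image ψ hE hE.1
  let p := Abelian.factorThruImage ψ
  let q := Abelian.image.ι ψ
  have hK : Coh.IsCoh (kernel ψ) := Groth.Agent.HilbPolyX.isCoh_of_kernel k ψ hE hE
  by_cases hK0 : IsZero (kernel ψ)
  · have : Mono ψ := Preadditive.mono_of_isZero_kernel ψ hK0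
    have h := Groth.Agent.HilbPolyX.hilb_mono k hL ψ hE hE
    rw [left_eq_add] at h
    exact Groth.Agent.HilbPolyX.isIso_of_mono_of_cokernel ψ
      (Groth.Agent.HilbPolyX.isZero_of_hilb_eq_zero k hL (Groth.Agent.HilbPolyX.isCoh_of_monoCokernel ψ hE hE) h)
  exfalso
  have hI0 : ¬ IsZero (Abelian.image ψ) := fun h => hne (by
    rw [← Abelian.image.fac ψ, show Abelian.image.ι ψ = 0 from h.eq_of_src _ _, Limits.comp_zero])
  have hadd : P = Groth.Agent.HilbPolyX.hilb k L (kernel ψ) +
      Groth.Agent.HilbPolyX.hilb k L (Abelian.image ψ) := by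
    have e : kernel ψ ≅ kernel p :=
      kernelIsoOfEq (Abelian.image.fac ψ).symm ≪≫ kernelCompMono p q
    rw [hP', Groth.Agent.HilbPolyX.hilb_iso k hL e hK]
    exact Groth.Agent.HilbPolyX.hilb_epi k hL p hE hI
  set A := Groth.Agent.HilbPolyX.hilb k L (kernel ψ) with hA
  set B := Groth.Agent.HilbPolyX.hilb k L (Abelian.image ψ) with hB
  have hfac : (0 : ℚ) < d.factorial := by exact_mod_cast d.factorial_pos
  have hApos : 0 < A.coeff d := (mul_pos_iff_of_pos_left hfac).1
    (Groth.Agent.HilbPolyX.alpha_hilb_pos k hL hK (hpure _ (kernel.ι ψ) inferInstance hK hK0))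
  have hBpos : 0 < B.coeff d := (mul_pos_iff_of_pos_left hfac).1
    (Groth.Agent.HilbPolyX.alpha_hilb_pos k hL hI (hpure _ q inferInstance hI hI0))
  have hPc : P.coeff d = A.coeff d + B.coeff d := by rw [hadd, Polynomial.coeff_add]
  have h1 := hst _ (kernel.ι ψ) inferInstance hK A (fun m => hpoly _ hK m) hApos (by linarith)
  have h2 := hst _ q inferInstance hI B (fun m => hpoly _ hI m) hBpos (by linarith)
  obtain ⟨i, hieq, hilt⟩ := h1
  obtain ⟨j, hjeq, hjlt⟩ := h2
  simp only [Pi.toLex_apply] at hieq hilt hjeq hjlt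
  let v : ℚ[X] → Fin ℓ → ℚ := fun Q j =>
    Q.coeff (d - 1 - (j : ℕ)) * (Nat.factorial (d - 1 - (j : ℕ)) : ℚ)
  have hv : ∀ t, v P t = v A t + v B t := fun t => by
    simp only [v, hadd, Polynomial.coeff_add, add_mul]
  have key : ∀ t, v A t / (A.coeff d * d.factorial) ≤ v P t / (P.coeff d * d.factorial) →
      v B t / (B.coeff d * d.factorial) ≤ v P t / (P.coeff d * d.factorial) →
      v A t / (A.coeff d * d.factorial) = v P t / (P.coeff d * d.factorial) ∧
        v B t / (B.coeff d * d.factorial) = v P t / (P.coeff d * d.factorial) := by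
    intro t ha hb
    have hPpos : 0 < P.coeff d * d.factorial := by rw [hPc]; positivity
    have hA' : 0 < A.coeff d * d.factorial := by positivity
    have hB' : 0 < B.coeff d * d.factorial := by positivity
    rw [div_le_div_iff₀ hA' hPpos] at ha
    rw [div_le_div_iff₀ hB' hPpos] at hb
    rw [div_eq_div_iff hA'.ne' hPpos.ne', div_eq_div_iff hB'.ne' hPpos.ne']
    have e1 : v P t * (P.coeff d * d.factorial) =
        v P t * (A.coeff d * d.factorial) + v P t * (B.coeff d * d.factorial) := by rw [hPc]; ring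
    have e2 : v P t * (P.coeff d * d.factorial) =
        v A t * (P.coeff d * d.factorial) + v B t * (P.coeff d * d.factorial) := by rw [hv t]; ring
    constructor <;> linarith
  rcases lt_trichotomy i j with h | h | h
  · exact absurd (key i hilt.le (hjeq i h).le).1 hilt.ne
  · subst h; exact absurd (key i hilt.le hjlt.le).1 hilt.ne
  · exact absurd (key j (hieq j h).le hjlt.le).2 hjlt.ne

end Groth.Agent.S15002
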