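import Groth.Statements.S15003
import Groth.Agent.S14670
import Groth.Agent.Depth.CM
import Mathlib.RingTheory.LocalRing.ResidueField.Fiber
import Mathlib.RingTheory.Unramified.Field
import Mathlib.RingTheory.Jacobson.Ring
import Mathlib.AlgebraicGeometry.Morphisms.FormallyUnramified
import Mathlib.AlgebraicGeometry.Morphisms.Finite
import Mathlib.AlgebraicGeometry.FunctionField
import Mathlib.RingTheory.Flat.Localization
-- import your own Groth.Agent.* helpers here

set_option autoImplicit false
universe u
open CategoryTheory CategoryTheory.Limits AlgebraicGeometry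
open Harb

namespace Groth.Agent.S15003

theorem isAlgClosed_residueField (k : Type u) [Field k] [IsAlgClosed k] {A : Type u} [CommRing A] [Algebra k A]
    [Algebra.FiniteType k A] (P : Ideal A) [P.IsMaximal] : IsAlgClosed P.ResidueField := by
  letI := Ideal.Quotient.field P
  have : Algebra.FiniteType k (A ⧸ P) := Algebra.FiniteType.of_surjective (Ideal.Quotient.mkₐ k P) Ideal.Quotient.mk_surjective
  have : Module.Finite k (A ⧸ P) := finite_of_finite_type_of_isJacobsonRing k (A ⧸ P)
  exact IsAlgClosed.of_ringEquiv k P.ResidueField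
    ((RingEquiv.ofBijective (algebraMap k (A ⧸ P)) IsAlgClosed.algebraMap_bijective_of_isIntegral).trans
      (RingEquiv.ofBijective _ P.bijective_algebraMap_quotient_residueField))

theorem natCard_primes_over (A B : Type u) [CommRing A] [CommRing B] [IsDomain A] [IsDomain B] [Algebra A B]
    [Module.Finite A B] [Algebra.FormallyUnramified A B] (hinj : Function.Injective (algebraMap A B))
    (hA : ∀ P : PrimeSpectrum A, IsRegularLocalRing (Localization.AtPrime P.asIdeal))
    (hB : ∀ P : PrimeSpectrum B, IsRegularLocalRing (Localization.AtPrime P.asIdeal))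
    (P : PrimeSpectrum A) [IsAlgClosed P.asIdeal.ResidueField]
    (K L : Type u) [Field K] [Field L] [Algebra A K] [IsFractionRing A K] [Algebra B L] [IsFractionRing B L]
    [Algebra A L] [Algebra K L] [IsScalarTower A K L] [IsScalarTower A B L] :
    Nat.card {Q : PrimeSpectrum B // Q.comap (algebraMap A B) = P} = Module.finrank K L := by
  classical
  have : FaithfulSMul A B := (faithfulSMul_iff_algebraMap_injective A B).2 hinj
  have : Module.Flat A B := by
    refine Module.flat_of_localized_maximal _ fun M hM => ?_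
    have := hA ⟨M, hM.isPrime⟩
    let S := Localization (Algebra.algebraMapSubmonoid B M.primeCompl)
    have hle : Algebra.algebraMapSubmonoid B M.primeCompl ≤ nonZeroDivisors B := by
      rintro _ ⟨a, ha, rfl⟩
      refine mem_nonZeroDivisors_of_ne_zero fun h => ha ?_
      rw [map_eq_zero_iff _ hinj] at h
      rw [h]; exact M.zero_mem
    have : IsDomain S := IsLocalization.isDomain_localization hle
    letI : Algebra (Localization.AtPrime M) S := localizationAlgebra M.primeCompl B
    have : IsScalarTower A (Localization.AtPrime M) S :=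
      IsScalarTower.of_algebraMap_eq fun a => by
        rw [IsScalarTower.algebraMap_apply A B S]
        exact (IsLocalization.map_eq _ a).symm
    have : Module.Finite (Localization.AtPrime M) S :=
      Module.Finite.of_isLocalization A B M.primeCompl
    have hinjS : Function.Injective (algebraMap (Localization.AtPrime M) S) := by
      refine (injective_iff_map_eq_zero _).2 fun x hx => ?_
      obtain ⟨a, t, rfl⟩ := IsLocalization.exists_mk'_eq M.primeCompl x
      have h1 : algebraMap (Localization.AtPrime M) S (algebraMap A _ a) = 0 := by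
        rw [← IsLocalization.mk'_spec (Localization.AtPrime M) a t, map_mul, hx, zero_mul]
      rw [← IsScalarTower.algebraMap_apply, IsScalarTower.algebraMap_apply A B S,
        map_eq_zero_iff _ (IsLocalization.injective S hle), map_eq_zero_iff _ hinj] at h1
      rw [h1, IsLocalization.mk'_zero]
    have := S14670.result (Localization.AtPrime M) S hinjS fun q hq => by
      let q' : Ideal B := q.comap (algebraMap B S)
      have : q'.IsPrime := hq.isPrime.comap _
      have : IsLocalization.AtPrime (Localization.AtPrime q) q' :=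
        IsLocalization.isLocalization_isLocalization_atPrime_isLocalization (Algebra.algebraMapSubmonoid B M.primeCompl) (Localization.AtPrime q) q
      have := hB ⟨q', inferInstance⟩
      have : IsRegularLocalRing (Localization.AtPrime q) := IsRegularLocalRing.of_ringEquiv
        (IsLocalization.algEquiv q'.primeCompl (Localization.AtPrime q') (Localization.AtPrime q)).toRingEquiv
      exact Depth.isCohenMacaulayLocalRing_of_isRegularLocalRing
    have hflat : Module.Flat A S := Module.Flat.trans A (Localization.AtPrime M) S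
    exact Module.Flat.of_linearEquiv (IsLocalizedModule.linearEquiv M.primeCompl
      (LocalizedModule.mkLinearMap M.primeCompl B) (IsScalarTower.toAlgHom A B S).toLinearMap)
  rw [IsFractionRing.finrank_eq A K B L, ← P.asIdeal.finrank_fiber_eq_finrank,
    show Nat.card {Q : PrimeSpectrum B // Q.comap (algebraMap A B) = P} = Nat.card (PrimeSpectrum (P.asIdeal.Fiber B)) from
      Nat.card_congr (PrimeSpectrum.preimageEquivFiber A B P)]
  let κ := P.asIdeal.ResidueField
  let F := P.asIdeal.Fiber B
  have : IsReduced F := Algebra.FormallyUnramified.isReduced_of_field κ F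
  have : IsArtinianRing F := isArtinian_of_tower κ inferInstance
  let e : F ≃ₗ[κ] ∀ I : MaximalSpectrum F, F ⧸ I.asIdeal := ((IsArtinianRing.equivPi F).restrictScalars κ).toLinearEquiv
  have : Fintype (MaximalSpectrum F) := Fintype.ofFinite _
  have hone : ∀ I : MaximalSpectrum F, Module.finrank κ (F ⧸ I.asIdeal) = 1 := fun I => by
    letI := Ideal.Quotient.field I.asIdeal
    have hb : Function.Bijective (algebraMap κ (F ⧸ I.asIdeal)) := IsAlgClosed.algebraMap_bijective_of_isIntegral
    exact ((LinearEquiv.ofBijective (Algebra.linearMap κ (F ⧸ I.asIdeal)) hb).finrank_eq).symm.trans (Module.finrank_self κ)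
  have : ∀ I : MaximalSpectrum F, Module.Free κ (F ⧸ I.asIdeal) := fun I => Module.Free.of_divisionRing κ _
  rw [e.finrank_eq, Module.finrank_pi_fintype, Finset.sum_congr rfl (fun I _ => hone I), Finset.sum_const,
    Finset.card_univ, smul_eq_mul, mul_one, ← Nat.card_eq_fintype_card]
  exact Nat.card_congr IsArtinianRing.primeSpectrumEquivMaximalSpectrum

/-- Let k be an algebraically closed field and let π : Y → X be a finite, surjective and unramified
k-morphism of smooth varieties over k (X and Y integral, separated and of finite type over k with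
all local rings regular) which sends the generic point of Y to the generic point of X, so that the
function field k(X) embeds in k(Y). Then for every closed point p of X the fibre π⁻¹(p) consists of
exactly deg π points, where deg π = [k(Y) : k(X)] is the degree of that field extension. -/
theorem result (k : Type u) [Field k] [IsAlgClosed k]
    (X Y : Scheme.{u}) [X.Over (Spec (CommRingCat.of k))] [Y.Over (Spec (CommRingCat.of k))]
    [IsIntegral X] [IsIntegral Y]
    [IsSeparated (X ↘ (Spec (CommRingCat.of k)))] [LocallyOfFiniteType (X ↘ (Spec (CommRingCat.of k)))]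
    [QuasiCompact (X ↘ (Spec (CommRingCat.of k)))]
    [IsSeparated (Y ↘ (Spec (CommRingCat.of k)))] [LocallyOfFiniteType (Y ↘ (Spec (CommRingCat.of k)))]
    [QuasiCompact (Y ↘ (Spec (CommRingCat.of k)))]
    (hregX : ∀ x : X, IsRegularLocalRing (X.presheaf.stalk x))
    (hregY : ∀ y : Y, IsRegularLocalRing (Y.presheaf.stalk y))
    (π : Y ⟶ X) (hπ : π ≫ (X ↘ (Spec (CommRingCat.of k))) = (Y ↘ (Spec (CommRingCat.of k))))
    [AlgebraicGeometry.IsFinite π] [AlgebraicGeometry.Surjective π] [AlgebraicGeometry.FormallyUnramified π]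
    (e : π.base (genericPoint Y) = genericPoint X) (p : X) (hp : IsClosed ({p} : Set X)) :
    Nat.card {q : Y // π.base q = p} =
      Models.homDegree (X.presheaf.stalkSpecializes (specializes_of_eq e) ≫ π.stalkMap (genericPoint Y)).hom := by
  classical
  obtain ⟨_, ⟨U, hU, rfl⟩, hpU, -⟩ := X.isBasis_affineOpens.exists_subset_of_mem_open (Set.mem_univ p) isOpen_univ
  have hUa : IsAffineOpen U := hU
  have hVa : IsAffineOpen (π ⁻¹ᵁ U) := hUa.preimage π
  obtain ⟨q₀, hq₀⟩ := π.surjective p
  have hne : Nonempty U := ⟨⟨p, hpU⟩⟩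
  have hneV : Nonempty (π ⁻¹ᵁ U : Y.Opens) := ⟨⟨q₀, show π.base q₀ ∈ U by rw [hq₀]; exact hpU⟩⟩
  have : IsDomain Γ(X, U) := inferInstance
  have : IsDomain Γ(Y, π ⁻¹ᵁ U) := inferInstance
  algebraize [(π.app U).hom]
  have hfin : Module.Finite Γ(X, U) Γ(Y, π ⁻¹ᵁ U) := π.finite_app U hUa
  have hunr : Algebra.FormallyUnramified Γ(X, U) Γ(Y, π ⁻¹ᵁ U) := by
    have := HasRingHomProperty.appLE (P := @AlgebraicGeometry.FormallyUnramified) π inferInstance ⟨U, hUa⟩
      ⟨π ⁻¹ᵁ U, hVa⟩ le_rfl
    rw [← RingHom.formallyUnramified_algebraMap]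
    rwa [← Scheme.Hom.app_eq_appLE] at this
  -- function fields
  have hηX : genericPoint X ∈ U := ((genericPoint_spec X).mem_open_set_iff U.isOpen).mpr (by simpa using hne)
  have hηY : genericPoint Y ∈ π ⁻¹ᵁ U := show π.base (genericPoint Y) ∈ U by rw [e]; exact hηX
  let ψ : X.functionField →+* Y.functionField :=
    (X.presheaf.stalkSpecializes (specializes_of_eq e) ≫ π.stalkMap (genericPoint Y)).hom
  letI : Algebra X.functionField Y.functionField := ψ.toAlgebra
  letI : Algebra Γ(X, U) Y.functionField := (ψ.comp (X.presheaf.germ U (genericPoint X) hηX).hom).toAlgebra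
  have hKX : @IsFractionRing Γ(X, U) _ X.functionField _ ((X.presheaf.germ U (genericPoint X) hηX).hom.toAlgebra) :=
    functionField_isFractionRing_of_isAffineOpen X U hUa
  have hKY : @IsFractionRing Γ(Y, π ⁻¹ᵁ U) _ Y.functionField _
      ((Y.presheaf.germ (π ⁻¹ᵁ U) (genericPoint Y) hηY).hom.toAlgebra) :=
    functionField_isFractionRing_of_isAffineOpen Y (π ⁻¹ᵁ U) hVa
  letI : Algebra Γ(X, U) X.functionField := (X.presheaf.germ U (genericPoint X) hηX).hom.toAlgebra
  letI : Algebra Γ(Y, π ⁻¹ᵁ U) Y.functionField := (Y.presheaf.germ (π ⁻¹ᵁ U) (genericPoint Y) hηY).hom.toAlgebra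
  have : IsScalarTower Γ(X, U) X.functionField Y.functionField := IsScalarTower.of_algebraMap_eq fun _ => rfl
  have : IsScalarTower Γ(X, U) Γ(Y, π ⁻¹ᵁ U) Y.functionField := IsScalarTower.of_algebraMap_eq fun a => by
    have h : X.presheaf.germ U (genericPoint X) hηX ≫
        (X.presheaf.stalkSpecializes (specializes_of_eq e) ≫ π.stalkMap (genericPoint Y)) =
        π.app U ≫ Y.presheaf.germ (π ⁻¹ᵁ U) (genericPoint Y) hηY := by
      rw [← Category.assoc, TopCat.Presheaf.germ_stalkSpecializes, Scheme.Hom.germ_stalkMap]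
    exact ConcreteCategory.congr_hom h a
  have hinj : Function.Injective (algebraMap Γ(X, U) Γ(Y, π ⁻¹ᵁ U)) := by
    have h : Function.Injective (algebraMap Γ(X, U) Y.functionField) := by
      rw [IsScalarTower.algebraMap_eq Γ(X, U) X.functionField Y.functionField]
      exact (algebraMap X.functionField Y.functionField).injective.comp (IsFractionRing.injective Γ(X, U) X.functionField)
    rw [IsScalarTower.algebraMap_eq Γ(X, U) Γ(Y, π ⁻¹ᵁ U) Y.functionField] at h
    exact Function.Injective.of_comp h
  -- regularity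
  have hregA : ∀ P : PrimeSpectrum Γ(X, U), IsRegularLocalRing (Localization.AtPrime P.asIdeal) := by
    intro P
    have hx : hUa.fromSpec P ∈ U := by
      rw [← SetLike.mem_coe, ← hUa.range_fromSpec]; exact ⟨P, rfl⟩
    letI := TopCat.Presheaf.algebra_section_stalk X.presheaf (U := U) ⟨hUa.fromSpec P, hx⟩
    have : IsLocalization P.asIdeal.primeCompl (X.presheaf.stalk (hUa.fromSpec P)) := hUa.isLocalization_stalk' P hx
    have := hregX (hUa.fromSpec P)
    exact IsRegularLocalRing.of_ringEquiv (IsLocalization.algEquiv P.asIdeal.primeCompl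
      (X.presheaf.stalk (hUa.fromSpec P)) (Localization.AtPrime P.asIdeal)).toRingEquiv
  have hregB : ∀ P : PrimeSpectrum Γ(Y, π ⁻¹ᵁ U), IsRegularLocalRing (Localization.AtPrime P.asIdeal) := by
    intro P
    have hx : hVa.fromSpec P ∈ π ⁻¹ᵁ U := by
      rw [← SetLike.mem_coe, ← hVa.range_fromSpec]; exact ⟨P, rfl⟩
    letI := TopCat.Presheaf.algebra_section_stalk Y.presheaf (U := π ⁻¹ᵁ U) ⟨hVa.fromSpec P, hx⟩
    have : IsLocalization P.asIdeal.primeCompl (Y.presheaf.stalk (hVa.fromSpec P)) := hVa.isLocalization_stalk' P hx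
    have := hregY (hVa.fromSpec P)
    exact IsRegularLocalRing.of_ringEquiv (IsLocalization.algEquiv P.asIdeal.primeCompl
      (Y.presheaf.stalk (hVa.fromSpec P)) (Localization.AtPrime P.asIdeal)).toRingEquiv
  -- the residue field at `p`
  let P := hUa.primeIdealOf ⟨p, hpU⟩
  have hPmax : P.asIdeal.IsMaximal := hUa.primeIdealOf_isMaximal_of_isClosed ⟨p, hpU⟩ hp
  have hclosed : IsAlgClosed P.asIdeal.ResidueField := by
    let φ : k →+* Γ(X, U) :=
      ((X ↘ (Spec (CommRingCat.of k))).appLE ⊤ U le_top).hom.comp (Scheme.ΓSpecIso (CommRingCat.of k)).inv.hom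
    have hφ : φ.FiniteType :=
      RingHom.FiniteType.comp
        (HasRingHomProperty.appLE (P := @LocallyOfFiniteType) (X ↘ (Spec (CommRingCat.of k))) inferInstance
          ⟨⊤, isAffineOpen_top _⟩ ⟨U, hUa⟩ le_top)
        (RingHom.FiniteType.of_surjective _ (Scheme.ΓSpecIso (CommRingCat.of k)).commRingCatIsoToRingEquiv.symm.surjective)
    algebraize [φ]
    exact isAlgClosed_residueField k P.asIdeal
  rw [show Models.homDegree ψ = Module.finrank X.functionField Y.functionField from rfl,
    ← natCard_primes_over Γ(X, U) Γ(Y, π ⁻¹ᵁ U) hinj hregA hregB P X.functionField Y.functionField]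
  have hcomap : ∀ Q : PrimeSpectrum Γ(Y, π ⁻¹ᵁ U), π.base (hVa.fromSpec Q) =
      hUa.fromSpec (PrimeSpectrum.comap (π.app U).hom Q) := fun Q => by
    have h := IsAffineOpen.SpecMap_appLE_fromSpec π hUa hVa (le_refl (π ⁻¹ᵁ U))
    rw [← Scheme.Hom.app_eq_appLE] at h
    exact (congrArg (fun g => g.base Q) h).symm
  have hmem : ∀ Q : {Q : PrimeSpectrum Γ(Y, π ⁻¹ᵁ U) //
      Q.comap (algebraMap Γ(X, U) Γ(Y, π ⁻¹ᵁ U)) = P}, π.base (hVa.fromSpec Q.1) = p := fun Q => by
    rw [hcomap]
    exact (congrArg (fun z => hUa.fromSpec z) Q.2).trans (hUa.fromSpec_primeIdealOf ⟨p, hpU⟩)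
  refine (Nat.card_congr (Equiv.ofBijective (fun Q => (⟨hVa.fromSpec Q.1, hmem Q⟩ : {q : Y // π.base q = p})) ⟨?_, ?_⟩)).symm
  · intro Q Q' h
    have h' := Subtype.mk.inj h
    have hinjV : Function.Injective hVa.fromSpec.base := (Scheme.Hom.isOpenEmbedding hVa.fromSpec).injective
    exact Subtype.ext (hinjV h')
  · rintro ⟨q, hq⟩
    have hqV : q ∈ π ⁻¹ᵁ U := show π.base q ∈ U by rw [hq]; exact hpU
    refine ⟨⟨hVa.primeIdealOf ⟨q, hqV⟩, ?_⟩, Subtype.ext (hVa.fromSpec_primeIdealOf ⟨q, hqV⟩)⟩
    have hinjU : Function.Injective hUa.fromSpec.base := (Scheme.Hom.isOpenEmbedding hUa.fromSpec).injective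
    refine hinjU ?_
    have := hcomap (hVa.primeIdealOf ⟨q, hqV⟩)
    rw [hVa.fromSpec_primeIdealOf ⟨q, hqV⟩] at this
    exact this.symm.trans (hq.trans (hUa.fromSpec_primeIdealOf ⟨p, hpU⟩).symm)

end Groth.Agent.S15003
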