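import Groth.Statements.S15008
import Groth.Agent.TFLoc.Len

set_option autoImplicit false
universe u
open CategoryTheory
open TFCurv

namespace Groth.Agent.S15008

/-- Let O be a one-dimensional Noetherian local domain with algebraically closed residue field whose
integral closure O~ in its fraction field K is a finite O-module, and suppose O is not Gorenstein.
If w is an O-submodule of K with O ⊆ w ⊆ O~ whose injective dimension as an O-module is at most one
(a canonical ideal placed between O and O~), then length(w/O) + length(O~/C) = 2 · length(O~/O),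
where C is the conductor of O in O~. -/
theorem result (O : Type u) [CommRing O] [IsDomain O] [IsNoetherianRing O] [IsLocalRing O] (hdim : ringKrullDim O = 1) [IsAlgClosed (IsLocalRing.ResidueField O)] (K : Type u) [Field K] [Algebra O K] [IsFractionRing O K] (hfin : Module.Finite O ↥(integralClosure O K)) (hG : ¬ LocCoh.IsGorensteinLocalRing O) (ω : Submodule O K) (hω1 : (1 : Submodule O K) ≤ ω) (hω2 : ω ≤ (Subalgebra.toSubmodule (integralClosure O K))) (hωinj : HasInjectiveDimensionLT (ModuleCat.of O ↥ω) 2) : Module.length O (↥ω ⧸ Submodule.comap ω.subtype (1 : Submodule O K)) + Module.length O (↥(integralClosure O K) ⧸ ((1 : Submodule O K).colon (Subalgebra.toSubmodule (integralClosure O K))) • (⊤ : Submodule O ↥(integralClosure O K))) = 2 * Module.length O (↥(integralClosure O K) ⧸ Submodule.comap (Subalgebra.toSubmodule (integralClosure O K)).subtype (1 : Submodule O K)) := by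
  classical
  haveI := hωinj
  let C := Subalgebra.toSubmodule (integralClosure O K)
  let I := (1 : Submodule O K).colon C
  have hωfg : ω.FG := by
    haveI : Module.Finite O C := hfin
    exact Module.Finite.iff_fg.1 (Module.Finite.of_injective (Submodule.inclusion hω2) (Submodule.inclusion_injective hω2))
  have hω0 : ω ≠ ⊥ := fun h =>
    one_ne_zero ((Submodule.mem_bot O).1 (h ▸ hω1 (TFLoc.one_le_one' (O := O) (K := K))))
  let e : K ≃ₗ[O] (Fin 1 → K) := (LinearEquiv.funUnique (Fin 1) O K).symm
  have hmem : ∀ (A : Submodule O K) (y : Fin 1 → K), y ∈ A.map e.toLinearMap ↔ y 0 ∈ A := by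
    intro A y
    constructor
    · rintro ⟨a, ha, rfl⟩
      exact ha
    · exact fun h => ⟨y 0, h, funext fun i => by rw [Subsingleton.elim i 0]; rfl⟩
  have hpi : ∀ A : Submodule O K, A.map e.toLinearMap = Submodule.pi Set.univ fun _ : Fin 1 => A := fun A => by
    ext y
    rw [hmem, Submodule.mem_pi]
    exact ⟨fun h i _ => by rwa [Subsingleton.elim i 0], fun h => h 0 (Set.mem_univ _)⟩
  set cs := TFLoc.condSub O K with hcs
  -- the dual of the normalisation is the conductor
  have hd1 : TFLoc.dlat ω (TFLoc.stdLat O K 1) = Submodule.pi Set.univ fun _ : Fin 1 => ω := by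
    ext y
    rw [← hpi, hmem]
    constructor
    · intro hy
      simpa using hy (Pi.single 0 1) (TFLoc.single_mem_stdLat 0)
    · intro hy x hx
      obtain ⟨b, hb⟩ := TFLoc.mem_stdLat.1 hx 0
      simp only [dotProduct, Fin.sum_univ_one, ← hb]
      rw [← Algebra.smul_def]
      exact ω.smul_mem b hy
  have hd2 : TFLoc.dlat ω (TFLoc.normLat O K 1) = TFLoc.condLat O K 1 := by
    ext y
    constructor
    · intro hy i _
      rw [Subsingleton.elim i 0]
      have hy' : ∀ z ∈ integralClosure O K, z * y 0 ∈ ω := fun z hz => by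
        simpa [dotProduct] using hy (fun _ => z) (TFLoc.mem_normLat.2 fun _ => hz)
      have hstab : ∀ z ∈ integralClosure O K, ∃ b : O, algebraMap O K b = z * y 0 := fun z hz =>
        TFLoc.mul_mem_imp hdim ω hω0 hωfg fun w hw => by
          have := hy' (z * w) (mul_mem hz (hω2 hw))
          rwa [mul_right_comm] at this
      refine TFLoc.mem_condSub.2 ⟨?_, hstab⟩
      obtain ⟨b, hb⟩ := hstab 1 (one_mem _)
      exact ⟨b, by rw [hb, one_mul]⟩
    · intro hy x hx
      obtain ⟨b, hb⟩ := (TFLoc.mem_condSub.1 (hy 0 (Set.mem_univ _))).2 _ (TFLoc.mem_normLat.1 hx 0)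
      simp only [dotProduct, Fin.sum_univ_one, ← hb]
      exact hω1 (Submodule.mem_one.2 ⟨b, rfl⟩)
  have hS := TFLoc.isLat_stdLat (O := O) (K := K) 1
  have hN := TFLoc.isLat_normLat (O := O) (K := K) hfin 1
  have hdual := TFLoc.lenQ_dlat hdim ω hω0 hωfg hS hN (TFLoc.stdLat_le_normLat 1)
  rw [hd1, hd2, TFLoc.lenQ_pi, TFLoc.lenQ_pi, Nat.cast_one, one_mul, one_mul] at hdual
  have hcs1 : cs ≤ 1 := fun x hx => Submodule.mem_one.2 (TFLoc.mem_condSub.1 hx).1
  have h1C : (1 : Submodule O K) ≤ C := hω1.trans hω2
  -- the conductor inside the normalisation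
  have hIC : I • (⊤ : Submodule O ↥(integralClosure O K)) = cs.comap C.subtype := by
    ext x
    constructor
    · intro hx
      refine Submodule.smul_induction_on hx (fun c hc z _ => ?_) fun a b ha hb => add_mem ha hb
      change c • (z : K) ∈ cs
      have hmul : ∀ w ∈ integralClosure O K, ∃ b : O, algebraMap O K b = c • w := fun w hw =>
        Submodule.mem_one.1 (Submodule.mem_colon.1 hc w hw)
      refine TFLoc.mem_condSub.2 ⟨hmul z z.2, fun w hw => ?_⟩
      obtain ⟨b, hb⟩ := hmul (w * z) (mul_mem hw z.2)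
      exact ⟨b, by rw [hb, mul_smul_comm]⟩
    · intro hx
      obtain ⟨⟨a, ha⟩, h⟩ := TFLoc.mem_condSub.1 (show (x : K) ∈ cs from hx)
      have haI : a ∈ I := Submodule.mem_colon.2 fun w hw => by
        obtain ⟨b, hb⟩ := h w hw
        exact Submodule.mem_one.2 ⟨b, by rw [hb, Algebra.smul_def, ha, mul_comm]⟩
      rw [show x = a • (⟨1, one_mem _⟩ : ↥(integralClosure O K)) from Subtype.ext (by
        simp [← Algebra.algebraMap_eq_smul_one, ha])]
      exact Submodule.smul_mem_smul haI trivial
  change TFLoc.lenQ (1 : Submodule O K) ω + Module.length O (↥(integralClosure O K) ⧸ I • (⊤ : Submodule O ↥(integralClosure O K)))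
    = 2 * TFLoc.lenQ (1 : Submodule O K) C
  rw [(Submodule.quotEquivOfEq _ _ hIC).length_eq]
  change TFLoc.lenQ (1 : Submodule O K) ω + TFLoc.lenQ cs C = 2 * TFLoc.lenQ (1 : Submodule O K) C
  rw [TFLoc.lenQ_add hcs1 h1C, ← add_assoc, add_comm (TFLoc.lenQ 1 ω), ← TFLoc.lenQ_add hcs1 hω1, hdual, two_mul]

end Groth.Agent.S15008
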