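import Groth.Statements.S1501
import Groth.Agent.AmpleLib.Rel
import Groth.Agent.Wt.AmpleThick
import Groth.Agent.Thick.Topo

set_option autoImplicit false
universe u
open FlatMor

namespace Groth.Agent.S1501

open AlgebraicGeometry CategoryTheory Limits in
theorem ampleOn_iff {Z X : Scheme.{u}} (i : Z ⟶ X) [IsClosedImmersion i] [Surjective i] {L : X.Modules}
    (hL : PicF.IsInvertible L) (W : X.Opens) :
    AmpleLib.AmpleOn ((Scheme.Modules.pullback i).obj L) (i ⁻¹ᵁ W) ↔ AmpleLib.AmpleOn L W := by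
  have : IsClosedImmersion (i ∣_ W) := IsZariskiLocalAtTarget.restrict ‹IsClosedImmersion i› _
  have : Surjective (i ∣_ W) := IsZariskiLocalAtTarget.restrict ‹Surjective i› _
  rw [← AmpleLib.isAmple_restrict_iff hL, ← AmpleLib.isAmple_restrict_iff (PicCl.isInvertible_pullback i hL)]
  let e : ((Scheme.Modules.pullback i).obj L).restrict (i ⁻¹ᵁ W).ι ≅
      (Scheme.Modules.pullback (i ∣_ W)).obj (L.restrict W.ι) :=
    (Scheme.Modules.restrictFunctorIsoPullback (i ⁻¹ᵁ W).ι).app _ ≪≫
      (Scheme.Modules.pullbackComp _ i).app L ≪≫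
      (Scheme.Modules.pullbackCongr (morphismRestrict_ι i W).symm).app L ≪≫
      ((Scheme.Modules.pullbackComp (i ∣_ W) W.ι).app L).symm ≪≫
      (Scheme.Modules.pullback (i ∣_ W)).mapIso ((Scheme.Modules.restrictFunctorIsoPullback W.ι).app L).symm
  constructor
  · intro h
    exact Wt.AmpleThick.isAmple_of_pullback (i ∣_ W)
      (PicCl.isInvertible_of_iso ((Scheme.Modules.restrictFunctorIsoPullback W.ι).app L).symm
        (PicCl.isInvertible_pullback W.ι hL)) (AmpleLib.isAmple_of_iso e h)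
  · intro h
    exact AmpleLib.isAmple_of_iso e.symm (Wt.AmpleThick.isAmple_pullback (i ∣_ W) h)

open AlgebraicGeometry CategoryTheory Limits in
/-- Let (f, f') : (X ⊂ X') → (S ⊂ S') be a morphism of thickenings (iX : X → X' and iS : S → S'
thickenings with f ≫ iS = iX ≫ f') and L' an invertible O_{X'}-module with pullback L to X. Then L'
is ample relative to f' if and only if L is ample relative to f. -/
theorem result {X X' S S' : Scheme.{u}} (iX : X ⟶ X') (iS : S ⟶ S') (f : X ⟶ S) (f' : X' ⟶ S')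
    (hX : MoreMor.IsThickening iX) (hS : MoreMor.IsThickening iS) (w : iX ≫ f' = f ≫ iS)
    (L' : X'.Modules) (hL' : PicF.IsInvertible L') :
    RelAmple.IsRelAmple f' L' ↔ RelAmple.IsRelAmple f ((Scheme.Modules.pullback iX).obj L') := by
  obtain ⟨_, _⟩ := hX
  obtain ⟨_, _⟩ := hS
  have hL : PicF.IsInvertible ((Scheme.Modules.pullback iX).obj L') := PicCl.isInvertible_pullback iX hL'
  have hpre : ∀ V' : S'.Opens, iX ⁻¹ᵁ (f' ⁻¹ᵁ V') = f ⁻¹ᵁ (iS ⁻¹ᵁ V') := fun V' => by
    rw [← Scheme.Hom.comp_preimage, w, Scheme.Hom.comp_preimage]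
  constructor
  · intro h
    obtain ⟨_, -, hV⟩ := AmpleLib.isRelAmple_iff.1 h
    have : QuasiCompact (f ≫ iS) := by rw [← w]; infer_instance
    have : QuasiCompact f := QuasiCompact.of_comp f iS
    refine AmpleLib.isRelAmple_of_cover f (fun V' : S'.affineOpens => iS ⁻¹ᵁ (V' : S'.Opens)) ?_ hL fun V' => ?_
    · rw [← Scheme.Hom.preimage_iSup, iSup_affineOpens_eq_top]; rfl
    · rw [← hpre]; exact (ampleOn_iff iX hL' _).2 (hV V')
  · intro h
    obtain ⟨_, -, hV⟩ := AmpleLib.isRelAmple_iff.1 h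
    have : QuasiCompact (iX ≫ f') := by rw [w]; infer_instance
    have : QuasiCompact f' := Thick.Topo.quasiCompact_of_comp_surjective iX f'
    refine AmpleLib.isRelAmple_iff.2 ⟨this, hL', fun V' => (ampleOn_iff iX hL' _).1 ?_⟩
    rw [hpre]
    exact hV ⟨_, V'.2.preimage iS⟩

end Groth.Agent.S1501
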