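import Groth.Statements.S15010
import Groth.Agent.TFLoc.Normal

set_option autoImplicit false
universe u
open TFCurv

namespace Groth.Agent.S15010

/-- Let O be a one-dimensional Noetherian local domain with algebraically closed residue field whose
integral closure O~ in its fraction field K is a finite O-module. If M and N are O-submodules of K^n
with O^n ⊆ M ⊆ O~^n and O^n ⊆ N ⊆ O~^n, then every O-linear isomorphism M → N is the restriction of
x ↦ A·x for an invertible n × n matrix A with entries in O~. -/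
theorem result (O : Type u) [CommRing O] [IsDomain O] [IsNoetherianRing O] [IsLocalRing O] (hdim : ringKrullDim O = 1) [IsAlgClosed (IsLocalRing.ResidueField O)] (K : Type u) [Field K] [Algebra O K] [IsFractionRing O K] (hfin : Module.Finite O ↥(integralClosure O K)) (n : ℕ) (M N : Submodule O (Fin n → K)) (hM1 : Submodule.pi Set.univ (fun _ : Fin n => (1 : Submodule O K)) ≤ M) (hM2 : M ≤ Submodule.pi Set.univ (fun _ : Fin n => (Subalgebra.toSubmodule (integralClosure O K)))) (hN1 : Submodule.pi Set.univ (fun _ : Fin n => (1 : Submodule O K)) ≤ N) (hN2 : N ≤ Submodule.pi Set.univ (fun _ : Fin n => (Subalgebra.toSubmodule (integralClosure O K)))) (φ : ↥M ≃ₗ[O] ↥N) : ∃ A : Matrix (Fin n) (Fin n) ↥(integralClosure O K), IsUnit A ∧ ∀ x : ↥M, ((φ x : ↥N) : Fin n → K) = (A.map (algebraMap ↥(integralClosure O K) K)).mulVec (x : Fin n → K) := by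
  classical
  let ψ : M →ₗ[O] (Fin n → K) := N.subtype ∘ₗ φ.toLinearMap
  let χ : N →ₗ[O] (Fin n → K) := M.subtype ∘ₗ φ.symm.toLinearMap
  have hψ := TFLoc.apply_eq_mulVec hM1 ψ
  have hχ := TFLoc.apply_eq_mulVec hN1 χ
  let A : Matrix (Fin n) (Fin n) ↥(integralClosure O K) := Matrix.of fun i j =>
    ⟨ψ ⟨_, hM1 (TFLoc.single_mem_stdLat j)⟩ i, TFLoc.mem_normLat.1 (hN2 (φ _).2) i⟩
  let B : Matrix (Fin n) (Fin n) ↥(integralClosure O K) := Matrix.of fun i j =>
    ⟨χ ⟨_, hN1 (TFLoc.single_mem_stdLat j)⟩ i, TFLoc.mem_normLat.1 (hM2 (φ.symm _).2) i⟩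
  have hA : ∀ x : ↥M, ((φ x : ↥N) : Fin n → K) = (A.map (algebraMap ↥(integralClosure O K) K)).mulVec (x : Fin n → K) :=
    fun x => hψ x
  have hB : ∀ x : ↥N, ((φ.symm x : ↥M) : Fin n → K) = (B.map (algebraMap ↥(integralClosure O K) K)).mulVec (x : Fin n → K) :=
    fun x => hχ x
  refine ⟨A, ?_, hA⟩
  have hBA : B * A = 1 := by
    ext i j : 1
    have h1 := hA ⟨_, hM1 (TFLoc.single_mem_stdLat j)⟩
    have h2 := hB (φ ⟨_, hM1 (TFLoc.single_mem_stdLat j)⟩)
    rw [LinearEquiv.symm_apply_apply, h1, Matrix.mulVec_mulVec, ← Matrix.map_mul, Matrix.mulVec_single_one] at h2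
    have h3 := congrFun h2 i
    apply Subtype.ext
    rw [Matrix.col_apply, Matrix.map_apply] at h3
    refine h3.symm.trans ?_
    simp only [Pi.single_apply, Matrix.one_apply]
    split <;> simp
  exact (IsUnit.of_mul_eq_one_right _ hBA)

end Groth.Agent.S15010
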