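import Groth.Statements.S15011
import Groth.Agent.Pur21Len.Basic
import Mathlib.Algebra.Module.SpanRankOperations
import Mathlib.RingTheory.DedekindDomain.PID
-- import your own Groth.Agent.* helpers here

set_option autoImplicit false
universe u
open TFCurv

namespace Groth.Agent.S15011

open IsLocalRing Groth.Agent.LenLib

/-- avoidance for finitely many proper submodules containing `m • M`, infinite residue field -/
theorem exists_forall_notMem {O : Type u} [CommRing O] [IsLocalRing O] [Infinite (ResidueField O)]
    {M : Type u} [AddCommGroup M] [Module O M] {ι : Type*} (s : Finset ι) (S : ι → Submodule O M)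
    (hm : ∀ i ∈ s, maximalIdeal O • (⊤ : Submodule O M) ≤ S i) (htop : ∀ i ∈ s, S i ≠ ⊤) :
    ∃ x : M, ∀ i ∈ s, x ∉ S i := by
  classical
  induction s using Finset.induction with
  | empty => exact ⟨0, by simp⟩
  | @insert j s hj ih =>
    obtain ⟨x, hx⟩ := ih (fun i hi => hm i (Finset.mem_insert_of_mem hi))
      (fun i hi => htop i (Finset.mem_insert_of_mem hi))
    obtain ⟨y, hy⟩ : ∃ y, y ∉ S j := by
      by_contra h
      push Not at h
      exact htop j (Finset.mem_insert_self j s) (Submodule.eq_top_iff'.2 h)
    by_cases hxj : x ∈ S j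
    · -- for each `i` at most one residue class is bad
      have hbad : ∀ i ∈ insert j s, ∀ a b : O, x + a • y ∈ S i → x + b • y ∈ S i →
          residue O a = residue O b := fun i hi a b ha hb => by
        by_contra hab
        have hu : IsUnit (a - b) := by
          rw [← residue_ne_zero_iff_isUnit, map_sub, sub_ne_zero]; exact hab
        have hyi : y ∈ S i := by
          rw [← (S i).smul_mem_iff_of_isUnit hu, sub_smul, ← add_sub_add_left_eq_sub _ _ x]
          exact sub_mem ha hb
        rcases Finset.mem_insert.1 hi with rfl | hi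
        · exact hy hyi
        · exact hx i hi (by simpa using sub_mem ha ((S i).smul_mem a hyi))
      let bad : ι → ResidueField O := fun i =>
        if h : ∃ a, x + a • y ∈ S i then residue O h.choose else 0
      obtain ⟨z, hz⟩ := Infinite.exists_notMem_finset ((insert j s).image bad)
      obtain ⟨a, rfl⟩ := residue_surjective z
      refine ⟨x + a • y, fun i hi hmem => hz (Finset.mem_image.2 ⟨i, hi, ?_⟩)⟩
      simp only [bad, dif_pos (show ∃ a, x + a • y ∈ S i from ⟨a, hmem⟩)]
      exact hbad i hi _ a (show ∃ a, x + a • y ∈ S i from ⟨a, hmem⟩).choose_spec hmem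
    · exact ⟨x, fun i hi => (Finset.mem_insert.1 hi).elim (fun h => h ▸ hxj) (hx i)⟩


/-- Let O be a one-dimensional Noetherian local domain with maximal ideal m and algebraically closed
residue field, whose integral closure O~ in its fraction field K is a finite O-module; put e =
length(O~/m O~), the multiplicity of O. Then a finitely generated torsion-free O-module of rank n
can be generated by at most n·e elements. -/
theorem result (O : Type u) [CommRing O] [IsDomain O] [IsNoetherianRing O] [IsLocalRing O] (hdim : ringKrullDim O = 1) [IsAlgClosed (IsLocalRing.ResidueField O)] (K : Type u) [Field K] [Algebra O K] [IsFractionRing O K] (hfin : Module.Finite O ↥(integralClosure O K)) (M : Type u) [AddCommGroup M] [Module O M] [Module.Finite O M] [NoZeroSMulDivisors O M] (n : ℕ) (hn : Module.finrank K (TensorProduct O K M) = n) : ((⊤ : Submodule O M).spanFinrank : ℕ∞) ≤ (n : ℕ∞) * Module.length O (↥(integralClosure O K) ⧸ (IsLocalRing.maximalIdeal O) • (⊤ : Submodule O ↥(integralClosure O K))) := by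
  classical
  let C := integralClosure O K
  haveI : Module.Finite O C := hfin
  haveI : IsFractionRing C K := integralClosure.isFractionRing_of_finite_extension K K
  haveI : IsNoetherianRing C := IsNoetherianRing.of_finite O C
  haveI : Ring.KrullDimLE 1 O := (Order.krullDimLE_iff _ _).2 hdim.le
  haveI : Ring.DimensionLEOne O :=
    ⟨fun {P} h0 hP => ((Ring.krullDimLE_one_iff_of_noZeroDivisors).1 inferInstance) P h0 hP⟩
  haveI : IsDedekindDomain C := (isDedekindDomain_iff C K).2 ⟨inferInstance, inferInstance,
    inferInstance, fun {x} hx => ⟨⟨x, isIntegral_trans x hx⟩, rfl⟩⟩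
  have hinj : Function.Injective (algebraMap O C) := fun a b h =>
    IsFractionRing.injective O K (congrArg Subtype.val h)
  have hm0 : maximalIdeal O ≠ ⊥ := fun h => by
    have h' := IsLocalRing.maximalIdeal_height_eq_ringKrullDim (R := O)
    rw [h, Ideal.height_bot, hdim] at h'
    exact absurd h' (by simp)
  have hI0 : (maximalIdeal O).map (algebraMap O C) ≠ ⊥ := fun h =>
    hm0 ((Ideal.map_eq_bot_iff_of_injective hinj).1 h)
  have hover : ∀ P : Ideal C, P.IsMaximal → (maximalIdeal O).map (algebraMap O C) ≤ P := fun P hP =>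
    Ideal.map_le_iff_le_comap.2
      (le_of_eq (IsLocalRing.eq_maximalIdeal (Ideal.isMaximal_comap_of_isIntegral_of_isMaximal P)).symm)
  have hfinmax : {P : Ideal C | P.IsMaximal}.Finite := by
    refine (Ideal.finite_minimalPrimes_of_isNoetherianRing C
      ((maximalIdeal O).map (algebraMap O C))).subset fun P hP =>
      ⟨⟨hP.isPrime, hover P hP⟩, fun Q hQ hQP => ?_⟩
    exact ((hQ.1.isMaximal fun h => hI0 (le_bot_iff.1 (h ▸ hQ.2))).eq_of_le hP.ne_top hQP).ge
  haveI := IsPrincipalIdealRing.of_finite_maximals hfinmax
  obtain ⟨g, hg⟩ := (IsPrincipalIdealRing.principal ((maximalIdeal O).map (algebraMap O C))).principal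
  have hg' : (maximalIdeal O).map (algebraMap O C) = Ideal.span {g} := hg
  have hg0 : g ≠ 0 := fun h => hI0 (by rw [hg', h]; simp)
  -- a general element of the maximal ideal
  let S : Ideal C → Submodule O ↥(maximalIdeal O) := fun P =>
    ((Ideal.span {g} * P).restrictScalars O).comap ((Algebra.linearMap O C).comp (maximalIdeal O).subtype)
  obtain ⟨⟨t, htm⟩, ht⟩ := exists_forall_notMem (O := O) hfinmax.toFinset S (fun P hP => by
      refine Submodule.smul_le.2 fun a ha z _ => ?_
      show algebraMap O C (a * (z : O)) ∈ Ideal.span {g} * P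
      rw [map_mul]
      refine Ideal.mul_mem_mul ?_ ((hover P (hfinmax.mem_toFinset.1 hP)) (Ideal.mem_map_of_mem _ z.2))
      rw [← hg']
      exact Ideal.mem_map_of_mem _ ha) (fun P hP htop => by
      have hle : Ideal.span {g} * ⊤ ≤ Ideal.span {g} * P := by
        rw [Ideal.mul_top]
        conv_lhs => rw [← hg']
        exact Ideal.map_le_iff_le_comap.2 fun z hz =>
          ((Submodule.eq_top_iff'.1 htop ⟨z, hz⟩ :) : algebraMap O C z ∈ Ideal.span {g} * P)
      have := (Ideal.span_singleton_mul_right_mono hg0).1 hle
      exact (hfinmax.mem_toFinset.1 hP).ne_top (eq_top_iff.2 this))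
  obtain ⟨u, hu⟩ : g ∣ algebraMap O C t := Ideal.mem_span_singleton.1
    (hg' ▸ Ideal.mem_map_of_mem (algebraMap O C) htm)
  have huunit : IsUnit u := by
    by_contra hnu
    obtain ⟨P, hP, huP⟩ := exists_max_ideal_of_mem_nonunits hnu
    refine ht P (hfinmax.mem_toFinset.2 hP) ?_
    show algebraMap O C t ∈ Ideal.span {g} * P
    rw [hu]
    exact Ideal.mul_mem_mul (Ideal.mem_span_singleton_self g) huP
  have htC : (maximalIdeal O).map (algebraMap O C) = Ideal.span {algebraMap O C t} := by
    rw [hg', hu, Ideal.span_singleton_mul_right_unit huunit]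
  have ht0 : t ≠ 0 := fun h => hI0 (by rw [htC, h]; simp)
  have htnz : t ∈ nonZeroDivisors O := mem_nonZeroDivisors_of_ne_zero ht0
  -- lengths
  have hker : ∀ {N : Type u} [AddCommGroup N] [Module O N] [NoZeroSMulDivisors O N],
      Function.Injective (LinearMap.lsmul O N t) := fun {N} _ _ _ a b h => smul_right_injective N ht0 h
  have hfinlen : ∀ (N : Type u) [AddCommGroup N] [Module O N] [Module.Finite O N],
      Module.length O (N ⧸ LinearMap.range (LinearMap.lsmul O N t)) ≠ ⊤ := fun N _ _ _ =>
    (Pur21Len.hasIndex_lsmul' hdim htnz N).2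
  haveI : NoZeroSMulDivisors O C := ⟨fun {a x} h => by
    rw [Algebra.smul_def, mul_eq_zero] at h
    exact h.imp (fun h' => (map_eq_zero_iff _ hinj).1 h') id⟩
  have hC : index (LinearMap.lsmul O C t) = index (LinearMap.lsmul O O t) := by
    refine Pur21Len.index_lsmul_eq_of_torsion_coker hdim htnz (Algebra.linearMap O C) hinj fun x => ?_
    obtain ⟨a, b, hb, hab⟩ := IsFractionRing.div_surjective (A := O) (x : K)
    exact ⟨b, hb, a, Subtype.ext (by
      show algebraMap O K a = b • (x : K)
      rw [← hab, Algebra.smul_def, mul_div_cancel₀ _ (IsFractionRing.to_map_ne_zero_of_mem_nonZeroDivisors hb)])⟩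
  let F := Localization (nonZeroDivisors O)
  let j := LocalizedModule.mkLinearMap (nonZeroDivisors O) M
  have hF : Module.finrank F (LocalizedModule (nonZeroDivisors O) M) = n := by
    rw [← hn, (TensorProduct.isBaseChange O M K).finrank_eq,
      ((isLocalizedModule_iff_isBaseChange (nonZeroDivisors O) F j).1 inferInstance).finrank_eq]
  obtain ⟨φ, hφ, hcok⟩ := Pur21Len.exists_injective_of_localization_free (A := O) (M := M) (n := n)
    (LinearEquiv.ofFinrankEq _ _ (by rw [hF, Module.finrank_fin_fun]))
  have hMidx : index (LinearMap.lsmul O M t) = n * index (LinearMap.lsmul O C t) := by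
    rw [Pur21Len.index_lsmul_eq_of_torsion_coker hdim htnz φ hφ hcok,
      Pur21Len.index_lsmul_free hdim htnz, hC, index_of_injective hker]
    refine congrArg _ (lenZ_congr (Submodule.quotEquivOfEq _ _ ?_))
    ext x
    simp [Ideal.mem_span_singleton, dvd_iff_exists_eq_mul_left, mul_comm, eq_comm]
  rw [index_of_injective hker, index_of_injective hker] at hMidx
  have hCe : LinearMap.range (LinearMap.lsmul O C t) =
      maximalIdeal O • (⊤ : Submodule O C) := by
    rw [Ideal.smul_top_eq_map, htC]
    ext x
    simp [Ideal.mem_span_singleton, dvd_iff_exists_eq_mul_left, Algebra.smul_def, mul_comm, eq_comm]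
  have hlenC := (Submodule.quotEquivOfEq _ _ hCe).length_eq
  have h1 : Module.length O (M ⧸ LinearMap.range (LinearMap.lsmul O M t)) =
      (n : ℕ∞) * Module.length O (C ⧸ maximalIdeal O • (⊤ : Submodule O C)) := by
    rw [← hlenC, ← ENat.natCast_toNat (hfinlen M), ← ENat.natCast_toNat (hfinlen C), ← Nat.cast_mul,
      Nat.cast_inj]
    unfold lenZ at hMidx
    exact_mod_cast hMidx
  rw [← h1]
  let m := maximalIdeal O
  let K' : Submodule O (⊤ : Submodule O M) := m • ⊤
  have hK : K'.map (Submodule.topEquiv : (⊤ : Submodule O M) ≃ₗ[O] M).toLinearMap = m • ⊤ := by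
    rw [Submodule.map_smul'', Submodule.map_top, LinearEquiv.range]
  let e := Submodule.Quotient.equiv K' _ Submodule.topEquiv hK
  letI : Field (O ⧸ m) := Ideal.Quotient.field _
  have : Module.Finite O (⊤ : Submodule O M) := Module.Finite.equiv Submodule.topEquiv.symm
  have : Module.Finite (O ⧸ m) (↥(⊤ : Submodule O M) ⧸ K') :=
    Module.Finite.of_restrictScalars_finite O _ _
  have hlen : Module.length O (M ⧸ m • (⊤ : Submodule O M)) =
      ((⊤ : Submodule O M).spanFinrank : ℕ∞) := by
    rw [IsLocalRing.spanFinrank_eq_finrank_quotient _ Module.Finite.fg_top, ← e.length_eq,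
      Module.length_eq_of_surjective (R := O ⧸ m) (S := O) Ideal.Quotient.mk_surjective,
      Module.length_eq_finrank]
  rw [← hlen]
  have hle : LinearMap.range (LinearMap.lsmul O M t) ≤ m • (⊤ : Submodule O M) := by
    rintro _ ⟨x, rfl⟩
    exact Submodule.smul_mem_smul htm trivial
  exact Module.length_le_of_surjective (Submodule.factor hle) (Submodule.factor_surjective hle)

end Groth.Agent.S15011
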