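import Groth.Statements.S15012
import Groth.Agent.TFLoc.Colength

set_option autoImplicit false
universe u
open TFCurv

namespace Groth.Agent.S15012

/-- Let O be a one-dimensional Gorenstein local domain with algebraically closed residue field whose
integral closure O~ in its fraction field K is a finite O-module, and let C ⊆ O be the conductor of
O in O~. Every finitely generated torsion-free O-module of rank n is isomorphic to an O-submodule M'
of K^n with C^n ⊆ M' ⊆ O~^n and length(M'/C^n) = n · length(O/C); that is, every isomorphism class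
of rank-n torsion-free modules is represented by a submodule of (O~/C)^n of the same length as
(O/C)^n. -/
theorem result (O : Type u) [CommRing O] [IsDomain O] [LocCoh.IsGorensteinLocalRing O] (hdim : ringKrullDim O = 1) [IsAlgClosed (IsLocalRing.ResidueField O)] (K : Type u) [Field K] [Algebra O K] [IsFractionRing O K] (hfin : Module.Finite O ↥(integralClosure O K)) (M : Type u) [AddCommGroup M] [Module O M] [Module.Finite O M] [NoZeroSMulDivisors O M] (n : ℕ) (hn : Module.finrank K (TensorProduct O K M) = n) : ∃ M' : Submodule O (Fin n → K), Submodule.pi Set.univ (fun _ : Fin n => (((1 : Submodule O K).colon (Subalgebra.toSubmodule (integralClosure O K))) • (1 : Submodule O K))) ≤ M' ∧ M' ≤ Submodule.pi Set.univ (fun _ : Fin n => (Subalgebra.toSubmodule (integralClosure O K))) ∧ Nonempty (M ≃ₗ[O] ↥M') ∧ Module.length O (↥M' ⧸ Submodule.comap M'.subtype (Submodule.pi Set.univ (fun _ : Fin n => (((1 : Submodule O K).colon (Subalgebra.toSubmodule (integralClosure O K))) • (1 : Submodule O K))))) = (n : ℕ∞) * Module.length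 O (O ⧸ ((1 : Submodule O K).colon (Subalgebra.toSubmodule (integralClosure O K)))) := by
  obtain ⟨L, hL, hspan, ⟨e⟩⟩ := TFLoc.exists_lattice (K := K) hn
  obtain ⟨M', h1, h2, ⟨e'⟩, hlen⟩ := TFLoc.exists_colength_form hdim hfin (L := L) ⟨hL, hspan⟩
  refine ⟨M', h1, h2, ⟨e.trans e'⟩, ?_⟩
  refine hlen.trans ?_
  rw [TFLoc.lenQ_pi]
  congr 1
  let f : O →ₗ[O] ↥(1 : Submodule O K) ⧸ Submodule.comap (1 : Submodule O K).subtype (TFLoc.condSub O K) :=
    (Submodule.comap (1 : Submodule O K).subtype (TFLoc.condSub O K)).mkQ ∘ₗ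
      (Algebra.linearMap O K).codRestrict (1 : Submodule O K) fun a => Submodule.mem_one.2 ⟨a, rfl⟩
  have hf : Function.Surjective f := fun q => by
    obtain ⟨⟨x, hx⟩, rfl⟩ := Submodule.Quotient.mk_surjective _ q
    obtain ⟨a, rfl⟩ := Submodule.mem_one.1 hx
    exact ⟨a, rfl⟩
  refine (((Submodule.quotEquivOfEq _ _ ?_).trans (f.quotKerEquivOfSurjective hf)).length_eq).symm
  ext a
  rw [LinearMap.mem_ker]
  refine Iff.trans ?_ (Submodule.Quotient.mk_eq_zero _).symm
  change _ ↔ algebraMap O K a ∈ TFLoc.condSub O K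
  rw [TFLoc.mem_condSub, Submodule.mem_colon]
  constructor
  · intro h
    refine ⟨⟨a, rfl⟩, fun z hz => ?_⟩
    obtain ⟨b, hb⟩ := Submodule.mem_one.1 (h z hz)
    exact ⟨b, by rw [hb, Algebra.smul_def, mul_comm]⟩
  · rintro ⟨-, h⟩ z hz
    obtain ⟨b, hb⟩ := h z hz
    exact Submodule.mem_one.2 ⟨b, by rw [hb, Algebra.smul_def, mul_comm]⟩

end Groth.Agent.S15012
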