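import Groth.Statements.S15016
import Groth.Agent.TFSemigroup.PSeries

set_option autoImplicit false
universe u
open TFCurv

namespace Groth.Agent.S15016

/-- Let k be an algebraically closed field and A ≠ k[[t]] a k-subalgebra of k[[t]] that is closed in the
t-adic topology and over which k[[t]] is a finite module (as for the complete local ring of a
unibranch curve singularity inside its normalisation), and let Γ ⊆ ℕ be the set of t-orders of the
nonzero elements of A (its value semigroup); let c be the conductor of Γ, so that every n ≥ c lies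
in Γ and c − 1 does not. Then for a power series f, f · k[[t]] ⊆ A holds exactly when the order of f
is at least c: the conductor of A in k[[t]] is t^c · k[[t]], of codimension c. -/
theorem result (k : Type u) [Field k] [IsAlgClosed k] (A : Subalgebra k (PowerSeries k)) (hA : Module.Finite ↥A (PowerSeries k)) (hcl : ∀ f : PowerSeries k, (∀ n : ℕ, ∃ g ∈ A, (n : ℕ∞) ≤ PowerSeries.order (f - g)) → f ∈ A) (hsing : A ≠ ⊤) (Γ : Set ℕ) (hΓ : ∀ n : ℕ, n ∈ Γ ↔ ∃ f ∈ A, PowerSeries.order f = n) (c : ℕ) (hc : ∀ n : ℕ, c ≤ n → n ∈ Γ) (hc0 : c ≠ 0) (hc1 : c - 1 ∉ Γ) (f : PowerSeries k) : (∀ g : PowerSeries k, g * f ∈ A) ↔ (c : ℕ∞) ≤ PowerSeries.order f := by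
  constructor
  · intro h
    by_cases hf : f = 0
    · simp [hf]
    obtain ⟨n, hn⟩ := Groth.Agent.TFSemigroup.PSeries.exists_nat_order f hf
    rw [hn]
    by_contra hlt
    rw [not_le] at hlt
    norm_cast at hlt
    refine hc1 ((hΓ _).mpr ⟨_, h (PowerSeries.X ^ (c - 1 - n)), ?_⟩)
    rw [PowerSeries.order_mul, PowerSeries.order_X_pow, hn]
    norm_cast
    omega
  · intro h g
    have hd : (PowerSeries.X : PowerSeries k) ^ c ∣ g * f :=
      ((Groth.Agent.TFSemigroup.PSeries.X_pow_dvd_iff_le f c).mpr h).mul_left g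
    let N : Submodule ↥A (PowerSeries k) := LinearMap.range (Algebra.linearMap ↥A (PowerSeries k))
    obtain ⟨a, ha⟩ : g * f ∈ N := Groth.Agent.TFSemigroup.PSeries.mem_of_dvd hA hcl N c
      (fun n hn => let ⟨a, ha, hao⟩ := (hΓ n).mp (hc n hn); ⟨a, ⟨⟨a, ha⟩, rfl⟩, hao⟩) hd
    rw [← ha]
    exact a.2

end Groth.Agent.S15016
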