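import Groth.Statements.S15017
import Groth.Agent.TFSemigroup.Basic

set_option autoImplicit false
open TFCurv

namespace Groth.Agent.S15017

/-- Let Γ be a numerical semigroup (a submonoid of (ℕ, +) with finite complement), Γ ≠ ℕ, with conductor
c (every n ≥ c lies in Γ, c − 1 does not). If Γ is symmetric (for x < c, x is a gap exactly when c −
1 − x ∈ Γ) and has multiplicity greater than 2 (neither 1 nor 2 lies in Γ), then Γ is generated by
its elements smaller than c: every minimal generator of Γ is less than the conductor. -/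
theorem result (Γ : AddSubmonoid ℕ) (c : ℕ) (hc : ∀ n : ℕ, c ≤ n → n ∈ Γ) (hc0 : c ≠ 0) (hc1 : c - 1 ∉ Γ) (hsymm : ∀ x : ℕ, x < c → (x ∉ Γ ↔ c - 1 - x ∈ Γ)) (he : (1 : ℕ) ∉ Γ ∧ (2 : ℕ) ∉ Γ) : AddSubmonoid.closure {γ : ℕ | γ ∈ Γ ∧ γ < c} = Γ := by
  classical
  have he1 : ∃ n, n ∈ Γ ∧ n ≠ 0 := ⟨c, hc c le_rfl, hc0⟩
  let e := Nat.find he1
  obtain ⟨he', he0⟩ : e ∈ Γ ∧ e ≠ 0 := Nat.find_spec he1
  have hemin : ∀ γ, γ ∈ Γ → γ ≠ 0 → e ≤ γ := fun γ h h' => Nat.find_min' he1 ⟨h, h'⟩
  have he3 : 3 ≤ e := by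
    by_contra h
    rcases (show e = 1 ∨ e = 2 by omega) with h | h
    · exact he.1 (h ▸ he')
    · exact he.2 (h ▸ he')
  have hec : e ≤ c := hemin c (hc c le_rfl) hc0
  have hec' : e < c := by
    by_contra h
    have h2 := (hsymm 1 (by omega)).mp he.1
    by_cases h3 : c - 1 - 1 = 0
    · omega
    · have := hemin _ h2 h3
      omega
  refine le_antisymm (AddSubmonoid.closure_le.mpr fun x hx => hx.1) fun n hn => ?_
  induction n using Nat.strong_induction_on with
  | _ n ih =>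
    by_cases hnc : n < c
    · exact AddSubmonoid.subset_closure ⟨hn, hnc⟩
    suffices h : ∃ a b, a ∈ Γ ∧ b ∈ Γ ∧ a < n ∧ b < n ∧ n = a + b by
      obtain ⟨a, b, ha, hb, ha', hb', rfl⟩ := h
      exact add_mem (ih a ha' ha) (ih b hb' hb)
    by_cases h1 : c + e ≤ n
    · exact ⟨e, n - e, he', hc _ (by omega), by omega, by omega, by omega⟩
    by_cases h2 : n = c - 1 + e
    · obtain ⟨r, hr0, hre, hr⟩ : ∃ r, r ≠ 0 ∧ r < e ∧ r ≠ (c - 1) % e := by
        by_cases h : 1 = (c - 1) % e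
        · exact ⟨2, by omega, by omega, by omega⟩
        · exact ⟨1, by omega, by omega, h⟩
      obtain ⟨w, hw, hwr, hwmin⟩ := Groth.Agent.TFSemigroup.exists_least Γ c e hc he0 r hre
      obtain ⟨w', hw', hsum, -, hw'0⟩ := Groth.Agent.TFSemigroup.apery_complement hsymm hc hc0 he0 hemin hw
        (fun x h1 h2 => hwmin x h1 (h2.trans hwr)) (by omega) (by omega)
      have hw0 : w ≠ 0 := fun h => by simp [h] at hwr; omega
      exact ⟨w, w', hw, hw', by omega, by omega, by omega⟩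
    have hk : c - 1 + e - n ∉ Γ := fun h => by
      have := hemin _ h (by omega)
      omega
    have hm := (hsymm _ (by omega)).mp hk
    exact ⟨e, _, he', hm, by omega, by omega, by omega⟩

end Groth.Agent.S15017
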