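import Groth.Statements.S15018
import Groth.Agent.TFSemigroup.Basic

set_option autoImplicit false
open TFCurv

namespace Groth.Agent.S15018

/-- Let Γ be a numerical semigroup (a submonoid of (ℕ, +) with finite complement), Γ ≠ ℕ, with conductor
c (every n ≥ c lies in Γ, c − 1 does not). Then Γ is symmetric (for x < c, x is a gap exactly when c
− 1 − x ∈ Γ) if and only if there is exactly one gap n of Γ such that Γ ∪ {n} is again stable under
adding elements of Γ, i.e. n + γ ∈ Γ for every nonzero γ ∈ Γ. -/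
theorem result (Γ : AddSubmonoid ℕ) (c : ℕ) (hc : ∀ n : ℕ, c ≤ n → n ∈ Γ) (hc0 : c ≠ 0) (hc1 : c - 1 ∉ Γ) : (∀ x : ℕ, x < c → (x ∉ Γ ↔ c - 1 - x ∈ Γ)) ↔ ∃! n : ℕ, n ∉ Γ ∧ ∀ γ : ℕ, γ ∈ Γ → γ ≠ 0 → n + γ ∈ Γ := by
  constructor
  · intro hs
    refine ⟨c - 1, ⟨hc1, fun γ _ hγ0 => hc _ (by omega)⟩, ?_⟩
    rintro n ⟨hn, hn'⟩
    have hnc : n < c := not_le.mp fun h => hn (hc n h)
    by_contra h
    have := hn' _ ((hs n hnc).mp hn) (by omega)
    rw [show n + (c - 1 - n) = c - 1 by omega] at this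
    exact hc1 this
  · rintro ⟨m, -, huniq⟩
    have hm : c - 1 = m := huniq _ ⟨hc1, fun γ _ hγ0 => hc _ (by omega)⟩
    intro x hxc
    refine ⟨fun hx => ?_, fun h hx => hc1 ?_⟩
    · classical
      let p : ℕ → Prop := fun n => n ∉ Γ ∧ x ≤ n ∧ n - x ∈ Γ
      have hp : p x := ⟨hx, le_rfl, by simp⟩
      obtain ⟨hy, hxy, hyx⟩ := Nat.findGreatest_spec (P := p) hxc.le hp
      have hyc : Nat.findGreatest p c < c := not_le.mp fun h => hy (hc _ h)
      have hy' : Nat.findGreatest p c = c - 1 := (huniq _ ⟨hy, fun γ hγ hγ0 => by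
        by_contra h
        have hle : Nat.findGreatest p c + γ ≤ c := le_of_lt (not_le.mp fun h' => h (hc _ h'))
        have h2 := Nat.le_findGreatest (P := p) hle ⟨h, by omega, by
          rw [show Nat.findGreatest p c + γ - x = (Nat.findGreatest p c - x) + γ by omega]
          exact add_mem hyx hγ⟩
        omega⟩).trans hm.symm
      rwa [hy'] at hyx
    · have := add_mem hx h
      rwa [show x + (c - 1 - x) = c - 1 by omega] at this

end Groth.Agent.S15018
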