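import Groth.Statements.S15019
import Groth.Agent.TFSemigroup.Basic

set_option autoImplicit false
open TFCurv

namespace Groth.Agent.S15019

/-- Let Γ be a numerical semigroup (a submonoid of (ℕ, +) with finite complement), Γ ≠ ℕ, with conductor
c (every n ≥ c lies in Γ, c − 1 does not), let e be its multiplicity (the least nonzero element of
Γ), and let S ⊆ ℕ be a Γ-module in normal form: 0 ∈ S and γ + s ∈ S for all γ ∈ Γ, s ∈ S. Then the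
set of gaps n of S with S ∪ {n} again a Γ-module (n + γ ∈ S for every nonzero γ ∈ Γ) has at most e −
1 elements, and so does the set of nonzero s ∈ S with S ∖ {s} again a Γ-module (s − γ ∉ S for every
nonzero γ ∈ Γ with γ ≤ s). -/
theorem result (Γ : AddSubmonoid ℕ) (c : ℕ) (hc : ∀ n : ℕ, c ≤ n → n ∈ Γ) (hc0 : c ≠ 0) (hc1 : c - 1 ∉ Γ) (e : ℕ) (he : e ∈ Γ) (he0 : e ≠ 0) (hemin : ∀ γ : ℕ, γ ∈ Γ → γ ≠ 0 → e ≤ γ) (S : Set ℕ) (hS0 : (0 : ℕ) ∈ S) (hS : ∀ γ : ℕ, γ ∈ Γ → ∀ s : ℕ, s ∈ S → γ + s ∈ S) : {n : ℕ | n ∉ S ∧ ∀ γ : ℕ, γ ∈ Γ → γ ≠ 0 → n + γ ∈ S}.encard ≤ ((e - 1 : ℕ) : ℕ∞) ∧ {s : ℕ | s ∈ S ∧ s ≠ 0 ∧ ∀ γ : ℕ, γ ∈ Γ → γ ≠ 0 → γ ≤ s → s - γ ∉ S}.encard ≤ ((e - 1 : ℕ) : ℕ∞) := by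
  have hmul : ∀ j, 1 ≤ j → j * e ∈ Γ ∧ j * e ≠ 0 := fun j hj => ⟨by
    simpa using Groth.Agent.TFSemigroup.add_mul_mem he Γ.zero_mem j, by
    have := Nat.le_mul_of_pos_left e hj
    omega⟩
  have main : ∀ T : Set ℕ, (∀ x ∈ T, x % e ≠ 0) → (∀ x ∈ T, ∀ y ∈ T, x % e = y % e → x < y → False) →
      T.encard ≤ ((e - 1 : ℕ) : ℕ∞) := by
    intro T h0 h1
    have hinj : Set.InjOn (fun x => x % e) T := fun x hx y hy h => by
      rcases lt_trichotomy x y with h' | h' | h'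
      · exact (h1 x hx y hy h h').elim
      · exact h'
      · exact (h1 y hy x hx h.symm h').elim
    have h2 : Set.MapsTo (fun x => x % e) T (↑(Finset.Ico 1 e) : Set ℕ) := fun x hx => by
      have := h0 x hx
      have := Nat.mod_lt x (Nat.pos_of_ne_zero he0)
      simp only [Finset.coe_Ico, Set.mem_Ico]
      omega
    refine (Set.encard_le_encard_of_injOn h2 hinj).trans ?_
    rw [Set.encard_coe_eq_coe_finsetCard, Nat.card_Ico]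
  refine ⟨main _ ?_ ?_, main _ ?_ ?_⟩
  · rintro x ⟨hx, -⟩ h
    obtain ⟨j, rfl⟩ := Nat.dvd_of_mod_eq_zero h
    apply hx
    rcases Nat.eq_zero_or_pos j with rfl | hj
    · simpa using hS0
    · simpa [mul_comm] using hS _ (hmul j hj).1 0 hS0
  · rintro x ⟨-, hx⟩ y ⟨hy, -⟩ h hlt
    obtain ⟨j, rfl⟩ := Groth.Agent.TFSemigroup.modEq_ne_of_lt h hlt
    exact hy (hx _ (hmul _ j.succ_pos).1 (hmul _ j.succ_pos).2)
  · rintro x ⟨hx, hx0, hx'⟩ h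
    obtain ⟨j, rfl⟩ := Nat.dvd_of_mod_eq_zero h
    have hj : 1 ≤ j := Nat.pos_of_ne_zero fun h => hx0 (by simp [h])
    refine hx' _ (hmul j hj).1 (hmul j hj).2 (by rw [mul_comm]) ?_
    rw [mul_comm, Nat.sub_self]
    exact hS0
  · rintro x ⟨hx, -, -⟩ y ⟨-, -, hy⟩ h hlt
    obtain ⟨j, rfl⟩ := Groth.Agent.TFSemigroup.modEq_ne_of_lt h hlt
    exact hy _ (hmul _ j.succ_pos).1 (hmul _ j.succ_pos).2 (Nat.le_add_left _ _) (by rwa [Nat.add_sub_cancel])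

end Groth.Agent.S15019
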