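import Groth.Statements.S15022
import Groth.Agent.TFLoc.PS

set_option autoImplicit false
universe u
open CategoryTheory
open TFCurv

namespace Groth.Agent.S15022

/-- Let k be an algebraically closed field and A ≠ k[[t]] a k-subalgebra of k[[t]] that is closed in the
t-adic topology and over which k[[t]] is a finite module (as for the complete local ring of a
unibranch curve singularity inside its normalisation), and let Γ ⊆ ℕ be the set of t-orders of the
nonzero elements of A (its value semigroup); let c be the conductor of Γ (every n ≥ c lies in Γ, c −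
1 does not) and suppose A is not Gorenstein. If w is an A-submodule of k[[t]] with 1 ∈ w whose
injective dimension as an A-module is at most one (a canonical ideal of A placed between A and
k[[t]]), then the value set of w is the dual of Γ: a natural number n is the t-order of some element
of w exactly when n ≥ c or c − 1 − n is a gap of Γ. (The published statement does not exclude the
Gorenstein case; this row assumes that A is not Gorenstein.) -/
theorem result (k : Type u) [Field k] [IsAlgClosed k] (A : Subalgebra k (PowerSeries k)) (hA : Module.Finite ↥A (PowerSeries k)) (hcl : ∀ f : PowerSeries k, (∀ n : ℕ, ∃ g ∈ A, (n : ℕ∞) ≤ PowerSeries.order (f - g)) → f ∈ A) (hsing : A ≠ ⊤) (Γ : Set ℕ) (hΓ : ∀ n : ℕ, n ∈ Γ ↔ ∃ f ∈ A, PowerSeries.order f = n) (c : ℕ) (hc : ∀ n : ℕ, c ≤ n → n ∈ Γ) (hc0 : c ≠ 0) (hc1 : c - 1 ∉ Γ) (hG : ¬ LocCoh.IsGorensteinLocalRing ↥A) (ω : Submodule ↥A (PowerSeries k)) (hω1 : (1 : PowerSeries k) ∈ ω) (hωfg : ω.FG) (hωinj : HasInjectiveDimensionLT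 (ModuleCat.of ↥A ↥ω) 2) (n : ℕ) : (∃ f ∈ ω, PowerSeries.order f = n) ↔ (c ≤ n ∨ c - 1 - n ∉ Γ) := by
  classical
  let N : Submodule ↥A (PowerSeries k) := LinearMap.range (Algebra.linearMap ↥A (PowerSeries k))
  have hcA : ∀ f : PowerSeries k, PowerSeries.X ^ c ∣ f → f ∈ A := fun f hf => by
    obtain ⟨a, ha⟩ : f ∈ N := Groth.Agent.TFSemigroup.PSeries.mem_of_dvd hA hcl N c
      (fun m hm => let ⟨a, ha, hao⟩ := (hΓ m).mp (hc m hm); ⟨a, ⟨⟨a, ha⟩, rfl⟩, hao⟩) hf
    rw [← ha]
    exact a.2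
  have hc1' : ∀ f ∈ A, PowerSeries.order f ≠ ((c - 1 : ℕ) : ℕ∞) := fun f hf h => hc1 ((hΓ _).mpr ⟨f, hf, h⟩)
  have key := TFLoc.PS.valueSet_dual hcA hA hc0 hc1' ω hω1 hωinj N ⟨1, rfl⟩ n
  rw [show (∃ f ∈ ω, PowerSeries.order f = n) ↔
    ∃ u : PowerSeries k, PowerSeries.order u = n ∧ ∀ m ∈ N, u * m ∈ ω from ?_, key]
  · refine or_congr_right (not_congr ?_)
    rw [hΓ]
    constructor
    · rintro ⟨_, ⟨a, rfl⟩, h⟩
      exact ⟨a, a.2, h⟩
    · rintro ⟨f, hf, h⟩
      exact ⟨f, ⟨⟨f, hf⟩, rfl⟩, h⟩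
  · constructor
    · rintro ⟨f, hf, h⟩
      refine ⟨f, h, ?_⟩
      rintro _ ⟨a, rfl⟩
      rw [mul_comm]
      exact ω.smul_mem a hf
    · rintro ⟨u, h, hu⟩
      refine ⟨u, ?_, h⟩
      simpa using hu 1 ⟨1, rfl⟩

end Groth.Agent.S15022
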