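import Groth.Statements.S15023
import Groth.Agent.TFSemigroup.PSeries
import Groth.Agent.TFSemigroup.Basic
import Mathlib.RingTheory.Localization.Module
import Mathlib.RingTheory.Localization.BaseChange
import Mathlib.RingTheory.Localization.FractionRing

set_option autoImplicit false
universe u
open TFCurv

namespace Groth.Agent.S15023

open TensorProduct in
/-- A rank one torsion-free finite module embeds in the domain. -/
theorem exists_embedding (R : Type u) [CommRing R] [IsDomain R] (M : Type u) [AddCommGroup M] [Module R M]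
    [Module.Finite R M] [NoZeroSMulDivisors R M]
    (hrk : Module.finrank (FractionRing R) (FractionRing R ⊗[R] M) = 1) :
    ∃ j : M →ₗ[R] R, Function.Injective j ∧ ∃ x, j x ≠ 0 := by
  classical
  let K := FractionRing R
  haveI : Module.IsTorsionFree R M := inferInstance
  let ι : M →ₗ[R] K ⊗[R] M := TensorProduct.mk R K M 1
  have hι : Function.Injective ι := by
    rw [injective_iff_map_eq_zero]
    intro x hx
    obtain ⟨s, hs⟩ := (IsLocalizedModule.eq_zero_iff (nonZeroDivisors R) ι).mp hx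
    exact (smul_eq_zero.mp (show (s : R) • x = 0 from hs)).resolve_left (nonZeroDivisors.ne_zero s.2)
  let b := Module.finBasisOfFinrankEq K (K ⊗[R] M) hrk
  let φ : M →ₗ[R] K := ((b.equivFun.trans (LinearEquiv.funUnique (Fin 1) K K)).restrictScalars R).toLinearMap ∘ₗ ι
  have hφ : Function.Injective φ := ((b.equivFun.trans (LinearEquiv.funUnique (Fin 1) K K)).injective).comp hι
  obtain ⟨s, hs⟩ := (Module.Finite.fg_top (R := R) (M := M))
  obtain ⟨d, hd⟩ := IsLocalization.exist_integer_multiples (nonZeroDivisors R) s φ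
  let L := LinearMap.range (Algebra.linearMap R K)
  have hmem : ∀ x, (d : R) • φ x ∈ L := by
    intro x
    have hx : x ∈ Submodule.span R (s : Set M) := hs.symm ▸ Submodule.mem_top
    induction hx using Submodule.span_induction with
    | mem g hg => exact hd g hg
    | zero => simp
    | add x y _ _ hx hy => rw [map_add, smul_add]; exact L.add_mem hx hy
    | smul r x _ hx => rw [map_smul, smul_comm]; exact L.smul_mem r hx
  let e := LinearEquiv.ofInjective (Algebra.linearMap R K) (IsFractionRing.injective R K)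
  let j : M →ₗ[R] R := e.symm.toLinearMap ∘ₗ ((d : R) • φ).codRestrict L hmem
  have hj : Function.Injective j := by
    refine e.symm.injective.comp fun x y h => hφ ?_
    have h2 : (d : R) • φ x = (d : R) • φ y := congrArg Subtype.val h
    exact smul_right_injective K (nonZeroDivisors.ne_zero d.2) h2
  refine ⟨j, hj, ?_⟩
  have : Nontrivial (K ⊗[R] M) := Module.nontrivial_of_finrank_eq_succ hrk
  have : Nontrivial M := by
    by_contra h
    rw [not_nontrivial_iff_subsingleton] at h
    exact not_subsingleton (K ⊗[R] M) inferInstance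
  obtain ⟨x, hx⟩ := exists_ne (0 : M)
  exact ⟨x, fun h => hx (hj (h.trans (map_zero j).symm))⟩

/-- Let k be an algebraically closed field and A ≠ k[[t]] a k-subalgebra of k[[t]] that is closed in the
t-adic topology, over which k[[t]] is a finite module, and such that every power series is carried
into A by multiplication with some nonzero element of A (so k[[t]] lies in the fraction field of A
and is its normalisation, as for the complete local ring of a unibranch curve singularity), and let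
Γ ⊆ ℕ be the set of t-orders of the nonzero elements of A (its value semigroup); assume moreover
that A is the monomial ring of Γ (a power series lies in A exactly when all its exponents lie in Γ),
and let δ be the number of gaps of Γ. Then every finitely generated torsion-free A-module of rank
one is isomorphic to an A-submodule M' of k[[t]] with t^{2δ} k[[t]] ⊆ M' and dim_k(k[[t]]/M') = δ,
equivalently dim_k(M'/t^{2δ}k[[t]]) = δ: every isomorphism class of rank-one torsion-free modules is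
represented by a δ-dimensional A-stable subspace of k[[t]]/t^{2δ}k[[t]]. -/
theorem result (k : Type u) [Field k] [IsAlgClosed k] (A : Subalgebra k (PowerSeries k)) (hA : Module.Finite ↥A (PowerSeries k)) (hcl : ∀ f : PowerSeries k, (∀ n : ℕ, ∃ g ∈ A, (n : ℕ∞) ≤ PowerSeries.order (f - g)) → f ∈ A) (hsing : A ≠ ⊤) (hbir : ∀ f : PowerSeries k, ∃ a ∈ A, a ≠ 0 ∧ a * f ∈ A) (Γ : Set ℕ) (hΓ : ∀ n : ℕ, n ∈ Γ ↔ ∃ f ∈ A, PowerSeries.order f = n) (hmono : ∀ f : PowerSeries k, f ∈ A ↔ ∀ n : ℕ, PowerSeries.coeff n f ≠ 0 → n ∈ Γ) (M : Type u) [AddCommGroup M] [Module ↥A M] [Module.Finite ↥A M] [NoZeroSMulDivisors ↥A M] (hrk : Module.finrank (FractionRing ↥A) (TensorProduct ↥A (FractionRing ↥A) M) = 1) : ∃ M' : Submodule ↥A (PowerSeries k), (Ideal.span {(PowerSeries.X : PowerSeries k) ^ (2 * Γᶜ.ncard)}).restrictScalars ↥A ≤ M' ∧ Nonempty (M ≃ₗ[↥A] ↥M') ∧ Module.finrank k (PowerSeries k ⧸ M'.restrictScalars k) = Γᶜ.ncard := by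
  classical
  obtain ⟨c, hcA⟩ := Groth.Agent.TFSemigroup.PSeries.exists_pow_mem hA hbir
  have hc : ∀ n, c ≤ n → n ∈ Γ := fun n hn =>
    (hΓ n).mpr ⟨_, hcA _ (pow_dvd_pow _ hn), PowerSeries.order_X_pow n⟩
  have hΓfin : Γᶜ.Finite := (Set.finite_Iio c).subset fun n hn =>
    Set.mem_Iio.mpr (not_le.mp fun h => hn (hc n h))
  obtain ⟨j₀, hj₀, x₀, hx₀⟩ := exists_embedding ↥A M hrk
  let j : M →ₗ[↥A] PowerSeries k := (Algebra.linearMap ↥A (PowerSeries k)) ∘ₗ j₀
  have hj : Function.Injective j := Subtype.val_injective.comp hj₀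
  -- an element of least order
  have hex : ∃ m : ℕ, ∃ f ∈ LinearMap.range j, PowerSeries.order f = m := by
    obtain ⟨m, hm⟩ := Groth.Agent.TFSemigroup.PSeries.exists_nat_order (j x₀) fun h =>
      hx₀ (Subtype.ext h)
    exact ⟨m, _, ⟨x₀, rfl⟩, hm⟩
  obtain ⟨g, hg, hgo⟩ := Nat.find_spec hex
  have hgdvd : ∀ f ∈ LinearMap.range j, ∃ w, f = g * w := by
    intro f hf
    obtain ⟨v, hv, rfl⟩ := Groth.Agent.TFSemigroup.PSeries.exists_unit g _ hgo
    obtain ⟨v', rfl⟩ := (PowerSeries.isUnit_iff_constantCoeff.mpr (isUnit_iff_ne_zero.mpr hv) : IsUnit v)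
    by_cases h0 : f = 0
    · exact ⟨0, by simp [h0]⟩
    obtain ⟨n, hn⟩ := Groth.Agent.TFSemigroup.PSeries.exists_nat_order f h0
    obtain ⟨w, hw⟩ := (Groth.Agent.TFSemigroup.PSeries.X_pow_dvd_iff_le f (Nat.find hex)).mpr (by
      rw [hn]; exact_mod_cast Nat.find_min' hex ⟨f, hf, hn⟩)
    exact ⟨(↑v'⁻¹ : PowerSeries k) * w, by rw [mul_assoc, ← mul_assoc (v' : PowerSeries k), Units.mul_inv, one_mul, hw]⟩
  have hg0 : g ≠ 0 := fun h => by simp [h] at hgo
  let mg : PowerSeries k →ₗ[↥A] PowerSeries k := (LinearMap.mulLeft (PowerSeries k) g).restrictScalars ↥A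
  let L' : Submodule ↥A (PowerSeries k) := (LinearMap.range j).comap mg
  have hone : (1 : PowerSeries k) ∈ L' := by
    show g * 1 ∈ LinearMap.range j
    rwa [mul_one]
  let eL : ↥L' ≃ₗ[↥A] ↥(LinearMap.range j) := LinearEquiv.ofBijective
    ((mg.comp L'.subtype).codRestrict (LinearMap.range j) fun f => f.2)
    ⟨fun x y h => Subtype.ext (mul_left_cancel₀ hg0 (congrArg Subtype.val h)), fun f => by
      obtain ⟨w, hw⟩ := hgdvd f.1 f.2
      exact ⟨⟨w, show g * w ∈ LinearMap.range j from hw ▸ f.2⟩, Subtype.ext hw.symm⟩⟩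
  let V : Set ℕ := {n | ∃ f ∈ L', PowerSeries.order f = (n : ℕ∞)}
  have hΓV : Γ ⊆ V := fun n hn => by
    obtain ⟨a, ha, hao⟩ := (hΓ n).mp hn
    exact ⟨(⟨a, ha⟩ : ↥A) • (1 : PowerSeries k), L'.smul_mem _ hone,
      (congrArg PowerSeries.order (mul_one a)).trans hao⟩
  have hVfin : Vᶜ.Finite := hΓfin.subset (Set.compl_subset_compl.mpr hΓV)
  have hexc : ∃ cS, ∀ n, cS ≤ n → n ∈ V := ⟨c, fun n hn => hΓV (hc n hn)⟩
  have hcS := Nat.find_spec hexc
  have hδ' : Vᶜ.ncard ≤ Γᶜ.ncard := Set.ncard_le_ncard (Set.compl_subset_compl.mpr hΓV) hΓfin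
  have hbound : Nat.find hexc ≤ Vᶜ.ncard + Γᶜ.ncard := by
    rcases Nat.eq_zero_or_pos (Nat.find hexc) with h0 | h0
    · omega
    have h1 : Nat.find hexc - 1 ∉ V := fun h => Nat.find_min hexc (Nat.sub_one_lt_of_lt h0) fun n hn => by
      rcases eq_or_lt_of_le hn with rfl | h'
      · exact h
      · exact hcS n (by omega)
    have h2 : (V ∩ Set.Iio (Nat.find hexc)).ncard ≤ Γᶜ.ncard := by
      refine Set.ncard_le_ncard_of_injOn (fun s => Nat.find hexc - 1 - s) ?_ ?_ hΓfin
      · rintro s ⟨⟨f, hf, hfo⟩, hs⟩ h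
        obtain ⟨a, ha, hao⟩ := (hΓ _).mp h
        refine h1 ⟨(⟨a, ha⟩ : ↥A) • f, L'.smul_mem _ hf, ?_⟩
        show PowerSeries.order (a * f) = _
        rw [PowerSeries.order_mul, hao, hfo]
        simp only [Set.mem_Iio] at hs
        norm_cast
        omega
      · rintro s ⟨-, hs⟩ t ⟨-, ht⟩ h
        simp only [Set.mem_Iio] at hs ht h
        omega
    have h3 := Groth.Agent.TFSemigroup.compl_ncard_add_count V _ hcS
    rw [Groth.Agent.TFSemigroup.count_eq_ncard] at h3
    omega
  let d := Γᶜ.ncard - Vᶜ.ncard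
  let md : PowerSeries k →ₗ[↥A] PowerSeries k :=
    (LinearMap.mulLeft (PowerSeries k) ((PowerSeries.X : PowerSeries k) ^ d)).restrictScalars ↥A
  have hmd : Function.Injective md := fun x y h =>
    mul_left_cancel₀ (pow_ne_zero d PowerSeries.X_ne_zero) h
  have hL' : ∀ f, (PowerSeries.X : PowerSeries k) ^ (Nat.find hexc) ∣ f → f ∈ L' := fun f hf =>
    Groth.Agent.TFSemigroup.PSeries.mem_of_dvd hA hcl L' _ hcS hf
  have hbig : ∀ f, (PowerSeries.X : PowerSeries k) ^ (2 * Γᶜ.ncard) ∣ f → f ∈ L'.map md := by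
    rintro f ⟨w, rfl⟩
    refine ⟨PowerSeries.X ^ (2 * Γᶜ.ncard - d) * w, hL' _ ((pow_dvd_pow _ (by omega)).mul_right w), ?_⟩
    show PowerSeries.X ^ d * (PowerSeries.X ^ (2 * Γᶜ.ncard - d) * w) = _
    rw [← mul_assoc, ← pow_add, Nat.add_sub_cancel' (by omega)]
  refine ⟨L'.map md, fun f hf => hbig f (Ideal.mem_span_singleton.mp hf),
    ⟨(LinearEquiv.ofInjective j hj).trans (eL.symm.trans (Submodule.equivMapOfInjective md hmd L'))⟩, ?_⟩
  let W : Set ℕ := {n | d ≤ n ∧ n - d ∈ V}
  have hW : ∀ n, n ∈ W ↔ ∃ f ∈ (L'.map md).restrictScalars k, PowerSeries.order f = (n : ℕ∞) := by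
    intro n
    constructor
    · rintro ⟨hn, f, hf, hfo⟩
      refine ⟨md f, ⟨f, hf, rfl⟩, ?_⟩
      show PowerSeries.order (PowerSeries.X ^ d * f) = _
      rw [PowerSeries.order_mul, PowerSeries.order_X_pow, hfo]
      norm_cast
      omega
    · rintro ⟨_, ⟨f, hf, rfl⟩, hfo⟩
      have hfo' : PowerSeries.order (PowerSeries.X ^ d * f) = (n : ℕ∞) := hfo
      obtain ⟨m, hm⟩ := Groth.Agent.TFSemigroup.PSeries.exists_nat_order f fun h0 => by simp [h0] at hfo'
      rw [PowerSeries.order_mul, PowerSeries.order_X_pow, hm] at hfo'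
      norm_cast at hfo'
      exact ⟨by omega, f, hf, by rw [hm]; congr 1; omega⟩
  rw [(Groth.Agent.TFSemigroup.PSeries.finrank_quotient ((L'.map md).restrictScalars k) _ hbig W hW).2]
  have hWc : Wᶜ = Set.Iio d ∪ (fun i => d + i) '' Vᶜ := by
    ext n
    simp only [W, Set.mem_compl_iff, Set.mem_setOf_eq, Set.mem_union, Set.mem_Iio, Set.mem_image]
    constructor
    · intro h
      by_cases hn : d ≤ n
      · exact Or.inr ⟨n - d, fun h' => h ⟨hn, h'⟩, by omega⟩
      · exact Or.inl (by omega)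
    · rintro (h | ⟨i, hi, rfl⟩) h'
      · omega
      · exact hi (by simpa using h'.2)
  rw [hWc, Set.ncard_union_eq _ (Set.finite_Iio d) (hVfin.image _),
    Set.ncard_image_of_injective _ (add_right_injective d), ← Finset.coe_Iio, Set.ncard_coe_finset, Nat.card_Iio]
  · omega
  · rw [Set.disjoint_left]
    rintro _ h ⟨i, -, rfl⟩
    simp only [Set.mem_Iio] at h
    omega

end Groth.Agent.S15023
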