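import Groth.Statements.S15024
import Groth.Agent.TFLoc.TorNorm

set_option autoImplicit false
universe u
open CategoryTheory
open TFCurv

namespace Groth.Agent.S15024

/-- Let O be a one-dimensional Noetherian local domain with algebraically closed residue field whose
integral closure O~ in its fraction field K is a finite O-module, M a finitely generated
torsion-free O-module and f : O^n → M an injective O-linear map whose cokernel T has finite length.
Then Tor_1^O(O~, M) and Tor_1^O(O~, T) are isomorphic (existence of an isomorphism only), and O~ ⊗_O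
f : O~ ⊗ O^n → O~ ⊗ M is injective, so that 0 → O~^n → O~ ⊗ M → O~ ⊗ T → 0 is exact. -/
theorem result (O : Type u) [CommRing O] [IsDomain O] [IsNoetherianRing O] [IsLocalRing O] (hdim : ringKrullDim O = 1) [IsAlgClosed (IsLocalRing.ResidueField O)] (K : Type u) [Field K] [Algebra O K] [IsFractionRing O K] (hfin : Module.Finite O ↥(integralClosure O K)) (M : Type u) [AddCommGroup M] [Module O M] [Module.Finite O M] [NoZeroSMulDivisors O M] (n : ℕ) (f : (Fin n → O) →ₗ[O] M) (hf : Function.Injective f) (hT : IsFiniteLength O (M ⧸ LinearMap.range f)) : Nonempty (((Tor (ModuleCat.{u} O) 1).obj (ModuleCat.of O ↥(integralClosure O K))).obj (ModuleCat.of O M) ≅ ((Tor (ModuleCat.{u} O) 1).obj (ModuleCat.of O ↥(integralClosure O K))).obj (ModuleCat.of O (M ⧸ LinearMap.range f))) ∧ Function.Injective (LinearMap.lTensor ↥(integralClosure O K) f) := by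
  have hC : ∀ (d : O) (c : ↥(integralClosure O K)), d ≠ 0 → d • c = 0 → c = 0 := fun d c hd h => by
    have h1 : d • (c : K) = 0 := by rw [← Subalgebra.coe_smul, h]; rfl
    rw [Algebra.smul_def, mul_eq_zero] at h1
    rcases h1 with h1 | h1
    · exact absurd ((IsFractionRing.to_map_eq_zero_iff).1 h1) hd
    · exact Subtype.ext h1
  obtain ⟨d, h, hd, _, hh⟩ := Groth.Agent.TFLoc.exists_quasi_inverse hdim f hf hT
  have hl : Function.Injective (LinearMap.lTensor ↥(integralClosure O K) f) :=
    Groth.Agent.TFLoc.lTensor_injective_of_quasi_inverse hC f d hd h hh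
  refine ⟨?_, hl⟩
  let S : ShortComplex (ModuleCat.{u} O) := ShortComplex.mk (ModuleCat.ofHom f)
    (ModuleCat.ofHom (LinearMap.range f).mkQ) (ModuleCat.hom_ext (LinearMap.range_mkQ_comp f))
  have hS : S.ShortExact :=
    { exact := (ShortComplex.ShortExact.moduleCat_exact_iff_function_exact S).2 (LinearMap.exact_map_mkQ_range f)
      mono_f := (ModuleCat.mono_iff_injective _).2 hf
      epi_g := (ModuleCat.epi_iff_surjective _).2 (Submodule.mkQ_surjective _) }
  haveI : Module.Flat O S.X₁ := inferInstanceAs (Module.Flat O (Fin n → O))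
  let N := ModuleCat.of O ↥(integralClosure O K)
  let e := Groth.Agent.TFLoc.tor1Equiv hS N ((LinearMap.lTensor_inj_iff_rTensor_inj _ _).1 hl)
  let flip := Groth.Agent.CAlgLib.TorBalance.torFlipIso (R := O) 1
  exact ⟨(flip.app N).app S.X₂ ≪≫ e.toModuleIso ≪≫ ((flip.app N).app S.X₃).symm⟩

end Groth.Agent.S15024
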