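import Groth.Statements.S15025
import Groth.Agent.TFLoc.TorNorm

set_option autoImplicit false
universe u
open CategoryTheory
open TFCurv

namespace Groth.Agent.S15025

/-- Let O be a one-dimensional Noetherian local domain with algebraically closed residue field whose
integral closure O~ in its fraction field K is a finite O-module, M a finitely generated
torsion-free O-module and g : M → O^n an injective O-linear map whose cokernel T' has finite length.
Then the torsion submodule of O~ ⊗_O M is O-linearly isomorphic to Tor_1^O(O~, T') (existence of an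
isomorphism only). -/
theorem result (O : Type u) [CommRing O] [IsDomain O] [IsNoetherianRing O] [IsLocalRing O] (hdim : ringKrullDim O = 1) [IsAlgClosed (IsLocalRing.ResidueField O)] (K : Type u) [Field K] [Algebra O K] [IsFractionRing O K] (hfin : Module.Finite O ↥(integralClosure O K)) (M : Type u) [AddCommGroup M] [Module O M] [Module.Finite O M] [NoZeroSMulDivisors O M] (n : ℕ) (g : M →ₗ[O] (Fin n → O)) (hg : Function.Injective g) (hT : IsFiniteLength O ((Fin n → O) ⧸ LinearMap.range g)) : Nonempty (↥(Submodule.torsion O (TensorProduct O ↥(integralClosure O K) M)) ≃ₗ[O] ↑(((Tor (ModuleCat.{u} O) 1).obj (ModuleCat.of O ↥(integralClosure O K))).obj (ModuleCat.of O ((Fin n → O) ⧸ LinearMap.range g)))) := by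
  have hC : ∀ (d : O) (c : ↥(integralClosure O K)), d ≠ 0 → d • c = 0 → c = 0 := fun d c hd h => by
    have h1 : d • (c : K) = 0 := by rw [← Subalgebra.coe_smul, h]; rfl
    rw [Algebra.smul_def, mul_eq_zero] at h1
    rcases h1 with h1 | h1
    · exact absurd ((IsFractionRing.to_map_eq_zero_iff).1 h1) hd
    · exact Subtype.ext h1
  obtain ⟨d, h, hd, _, hh⟩ := Groth.Agent.TFLoc.exists_quasi_inverse hdim g hg hT
  let S : ShortComplex (ModuleCat.{u} O) := ShortComplex.mk (ModuleCat.ofHom g)
    (ModuleCat.ofHom (LinearMap.range g).mkQ) (ModuleCat.hom_ext (LinearMap.range_mkQ_comp g))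
  have hS : S.ShortExact :=
    { exact := (ShortComplex.ShortExact.moduleCat_exact_iff_function_exact S).2 (LinearMap.exact_map_mkQ_range g)
      mono_f := (ModuleCat.mono_iff_injective _).2 hg
      epi_g := (ModuleCat.epi_iff_surjective _).2 (Submodule.mkQ_surjective _) }
  haveI : Module.Flat O S.X₂ := inferInstanceAs (Module.Flat O (Fin n → O))
  let N := ModuleCat.of O ↥(integralClosure O K)
  let e := Groth.Agent.TFLoc.tor1KerEquiv hS N
  let flip := Groth.Agent.CAlgLib.TorBalance.torFlipIso (R := O) 1
  let c := TensorProduct.comm O ↥(integralClosure O K) M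
  have hk : (LinearMap.ker (g.lTensor ↥(integralClosure O K))).map c.toLinearMap =
      LinearMap.ker (g.rTensor ↥(integralClosure O K)) := by
    rw [Submodule.map_equiv_eq_comap_symm]
    ext x
    rw [Submodule.mem_comap, LinearMap.mem_ker, LinearMap.mem_ker]
    have hx : g.lTensor ↥(integralClosure O K) (c.symm x) =
        TensorProduct.comm O _ _ (g.rTensor ↥(integralClosure O K) x) := by
      induction x using TensorProduct.induction_on with
      | zero => simp
      | tmul a b => simp [c]
      | add a b ha hb => simp only [map_add, ha, hb]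
    exact (iff_of_eq (congrArg (· = 0) hx)).trans (map_eq_zero_iff _ (LinearEquiv.injective _))
  exact ⟨(LinearEquiv.ofEq _ _ (Groth.Agent.TFLoc.ker_lTensor_eq_torsion hC g d hd h hh).symm).trans
    ((c.ofSubmodules _ _ hk).trans (e.symm.trans ((flip.app N).app S.X₃).symm.toLinearEquiv))⟩

end Groth.Agent.S15025
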