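import Groth.Statements.S7168
import Groth.Agent.DRing.PCTools
-- import your own Groth.Agent.* helpers here

set_option autoImplicit false
universe u
attribute [local instance] HasDerivedCategory.standard
open FlatMor

namespace Groth.Agent.S7168

theorem finitePresentation_of_pcHom {A B : Type u} [CommRing A] [CommRing B] [Algebra A B]
    (h : MoreMor.IsPseudoCoherentHom A B) : Algebra.FinitePresentation A B := by
  obtain ⟨n, φ, hφ, h⟩ := h
  let _ := φ.toRingHom.toAlgebra
  have hfp : Module.FinitePresentation (MvPolynomial (Fin n) A) B :=
    DRing.PC.pcModule_negOne_iff.1 ((DRing.PC.pc'_iff _).1 h (-1))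
  have hk := Module.FinitePresentation.fg_ker (Algebra.linearMap (MvPolynomial (Fin n) A) B) hφ
  exact Algebra.FinitePresentation.of_surjective hφ hk

open AlgebraicGeometry CategoryTheory Limits in
/-- A pseudo-coherent morphism of schemes is locally of finite presentation. -/
theorem result {X S : Scheme.{u}} (f : X ⟶ S) (hf : MoreMor.IsPseudoCoherentMor f) :
    LocallyOfFinitePresentation f := by
  rw [HasRingHomProperty.iff_appLE (P := @LocallyOfFinitePresentation)]
  intro V U e
  let _ := (f.appLE V U e).hom.toAlgebra
  exact finitePresentation_of_pcHom (hf U V U.2 V.2 e)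

end Groth.Agent.S7168
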