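import Groth.Statements.S1503
import Groth.Agent.S7168
import Groth.Agent.S6942
-- import your own Groth.Agent.* helpers here

set_option autoImplicit false
universe u
attribute [local instance] HasDerivedCategory.standard
open FlatMor

namespace Groth.Agent.S1503

open AlgebraicGeometry CategoryTheory Limits in
/-- Let f : X → S with S locally Noetherian. Then f is pseudo-coherent (affine-locally: pseudo-coherent
ring maps) if and only if f is locally of finite type. -/
theorem result {X S : Scheme.{u}} (f : X ⟶ S) [IsLocallyNoetherian S] :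
    MoreMor.IsPseudoCoherentMor f ↔ LocallyOfFiniteType f := by
  refine ⟨fun h ↦ ?_, fun h U V hU hV hUV ↦ ?_⟩
  · have := Groth.Agent.S7168.result f h
    infer_instance
  · let _ := (f.appLE V U hUV).hom.toAlgebra
    have : IsNoetherianRing Γ(S, V) := IsLocallyNoetherian.component_noetherian ⟨V, hV⟩
    have hft : Algebra.FiniteType Γ(S, V) Γ(X, U) :=
      HasRingHomProperty.appLE (P := @LocallyOfFiniteType) f h ⟨V, hV⟩ ⟨U, hU⟩ hUV
    obtain ⟨n, φ, hφ⟩ := Algebra.FiniteType.iff_quotient_mvPolynomial''.mp hft
    refine ⟨n, φ, hφ, ?_⟩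
    let _ := φ.toRingHom.toAlgebra
    exact (Groth.Agent.S6942.result (MvPolynomial (Fin n) Γ(S, V)) 0 (Dual.inD _ Γ(X, U)) Γ(X, U)).2.mpr
      (Module.Finite.of_surjective (Algebra.linearMap _ _) hφ)

end Groth.Agent.S1503
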