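import Groth.Statements.S15030
import Groth.Agent.TFSemigroup.MonoExt

set_option autoImplicit false
universe u
open CategoryTheory
open TFCurv

namespace Groth.Agent.S15030

theorem mem_closure (δ n : ℕ) :
    n ∈ AddSubmonoid.closure ({2, 2 * δ + 1} : Set ℕ) ↔ n % 2 = 0 ∨ 2 * δ + 1 ≤ n := by
  constructor
  · intro h
    induction h using AddSubmonoid.closure_induction with
    | mem x hx => rcases hx with rfl | rfl <;> omega
    | zero => omega
    | add x y _ _ hx hy => omega
  · intro h
    have h2 : ∀ j, 2 * j ∈ AddSubmonoid.closure ({2, 2 * δ + 1} : Set ℕ) := fun j => by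
      induction j with
      | zero => exact zero_mem _
      | succ j ih =>
        rw [Nat.mul_succ]
        exact add_mem ih (AddSubmonoid.subset_closure (Set.mem_insert _ _))
    rcases Nat.even_or_odd' n with ⟨t, rfl | rfl⟩
    · exact h2 t
    · rw [show 2 * t + 1 = 2 * (t - δ) + (2 * δ + 1) by omega]
      exact add_mem (h2 _) (AddSubmonoid.subset_closure (by simp))


/-- Let k be an algebraically closed field of characteristic zero, δ ≥ 1, and A ⊂ k[[t]] the complete
local ring of the A_{2δ} singularity, i.e. the k-subalgebra of power series all of whose exponents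
lie in the semigroup generated by 2 and 2δ + 1 (so A = k[[t², t^{2δ+1}]]). For 0 ≤ i ≤ δ let M_i ⊂
k[[t]] be the A-submodule generated by 1 and t^{2δ+1−2i} (these represent all rank-one torsion-free
A-modules). Then for 0 ≤ i, j ≤ δ the A-module Ext¹_A(M_i, M_j) has length 2·min(i, j) (length over
A equals k-dimension here). (The published statement also covers the two-branch case n = 2δ − 1 with
the same value; only the one-branch case is stated.) -/
theorem result (k : Type u) [Field k] [IsAlgClosed k] [CharZero k] (δ : ℕ) (hδ : 1 ≤ δ) (A : Subalgebra k (PowerSeries k)) (hmono : ∀ f : PowerSeries k, f ∈ A ↔ ∀ n : ℕ, PowerSeries.coeff n f ≠ 0 → n ∈ AddSubmonoid.closure ({2, 2 * δ + 1} : Set ℕ)) (i j : ℕ) (hi : i ≤ δ) (hj : j ≤ δ) : Module.length ↥A (Abelian.Ext (ModuleCat.of ↥A ↥(Submodule.span ↥A ({1, (PowerSeries.X : PowerSeries k) ^ (2 * δ + 1 - 2 * i)} : Set (PowerSeries k)))) (ModuleCat.of ↥A ↥(Submodule.span ↥A ({1, (PowerSeries.X : PowerSeries k) ^ (2 * δ + 1 - 2 * j)} : Set (PowerSeries k)))) 1)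 = ((2 * min i j : ℕ) : ℕ∞) := by
  classical
  have hΓ := mem_closure δ
  have hA : ∀ f : PowerSeries k, f ∈ A ↔ ∀ n : ℕ, PowerSeries.coeff n f ≠ 0 → n ∈ AddSubmonoid.closure ({2, 2 * δ + 1} : Set ℕ) := hmono
  rw [Groth.Agent.TFSemigroup.MonoExt.length_ext_two hA (2 * δ) (2 * δ + 1 - 2 * i)
    (fun n hn => (hΓ n).mpr (by omega)) _ {q | q % 2 = 0 ∨ 2 * δ + 1 - 2 * j ≤ q} (fun f => by
      rw [Groth.Agent.TFSemigroup.MonoExt.mem_span_pair_iff hA]
      refine forall₂_congr fun q _ => ?_
      simp only [hΓ, Set.mem_setOf_eq]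
      omega)
    ((Finset.range (min i j)).image (fun s => 2 * δ - 2 * min i j + 2 * s) ∪
      (Finset.range (min i j)).image (fun s => 4 * δ + 1 - 2 * i - 2 * j + 2 * s)) ?_]
  · rw [Finset.card_union_of_disjoint, Finset.card_image_of_injective _ (fun a b h => by omega),
      Finset.card_image_of_injective _ (fun a b h => by omega), Finset.card_range]
    · norm_cast; omega
    · rw [Finset.disjoint_left]
      intro x hx hx'
      simp only [Finset.mem_image, Finset.mem_range] at hx hx'
      obtain ⟨s, hs, rfl⟩ := hx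
      obtain ⟨t, ht, e⟩ := hx'
      omega
  · intro q
    simp only [Finset.mem_union, Finset.mem_image, Finset.mem_range, hΓ, Set.mem_setOf_eq]
    constructor
    · intro h
      refine ⟨fun b hb hbm => ?_, ?_⟩
      · rcases h with ⟨s, hs, rfl⟩ | ⟨s, hs, rfl⟩ <;> omega
      · rcases h with ⟨s, hs, rfl⟩ | ⟨s, hs, rfl⟩ <;> omega
    · rintro ⟨h1, h2⟩
      have e1 := h1 (2 * i) (by omega) (by omega)
      have e2 := h1 (2 * δ + 1) (by omega) (by omega)
      by_cases hq : q % 2 = 0
      · exact Or.inl ⟨(q - (2 * δ - 2 * min i j)) / 2, by omega, by omega⟩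
      · exact Or.inr ⟨(q - (4 * δ + 1 - 2 * i - 2 * j)) / 2, by omega, by omega⟩

end Groth.Agent.S15030
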