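import Groth.Statements.S15031
import Groth.Agent.TFSemigroup.Cubical

set_option autoImplicit false
universe u
open CategoryTheory
open TFCurv

namespace Groth.Agent.S15031

/-- Let k be an algebraically closed field, n ≥ 2, and A = R_n ⊂ k[[t]] the monomial ring of the cubical
semigroup ⟨n, n+1, …, 2n−1⟩, i.e. the k-subalgebra of power series with no terms of degree 1, …,
n−1. For 0 ≤ i ≤ n − 2 let M_i ⊂ k[[t]] be the A-submodule generated by 1, t, …, t^i (the monomial
module whose value set is Γ_n together with 1, …, i). Then the A-module Ext¹_A(M_i, M_i) has length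
i·(n − 2 − i); as the A-endomorphisms of M_i are the scalars, this number is the invariant χ₁(M_i) =
dim Ext¹(M_i, M_i) − dim(End(M_i)/A). (The published statement asserts the value for every module
with this value set; only the monomial module is stated here.) -/
theorem result (k : Type u) [Field k] [IsAlgClosed k] (n : ℕ) (hn : 2 ≤ n) (A : Subalgebra k (PowerSeries k)) (hmono : ∀ f : PowerSeries k, f ∈ A ↔ ∀ m : ℕ, PowerSeries.coeff m f ≠ 0 → (m = 0 ∨ n ≤ m)) (i : ℕ) (hi : i + 2 ≤ n) : Module.length ↥A (Abelian.Ext (ModuleCat.of ↥A ↥(Submodule.span ↥A ((fun a : ℕ => (PowerSeries.X : PowerSeries k) ^ a) '' Set.Iic i))) (ModuleCat.of ↥A ↥(Submodule.span ↥A ((fun a : ℕ => (PowerSeries.X : PowerSeries k) ^ a) '' Set.Iic i))) 1) = ((i * (n - 2 - i) : ℕ) : ℕ∞) := by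
  classical
  have hS : (fun a : ℕ => (PowerSeries.X : PowerSeries k) ^ a) '' Set.Iic i =
      Set.range fun j : Fin (i + 1) => (PowerSeries.X : PowerSeries k) ^ (j : ℕ) := by
    rw [show (fun j : Fin (i + 1) => (PowerSeries.X : PowerSeries k) ^ (j : ℕ)) =
      (fun a : ℕ => (PowerSeries.X : PowerSeries k) ^ a) ∘ Fin.val from rfl, Set.range_comp]
    congr 1
    ext m
    simp only [Set.mem_Iic, Set.mem_range]
    exact ⟨fun h => ⟨⟨m, by omega⟩, rfl⟩, fun ⟨j, hj⟩ => by omega⟩
  rw [hS]
  have hmem : ∀ f, f ∈ Submodule.span ↥A (Set.range fun j : Fin (i + 1) => (PowerSeries.X : PowerSeries k) ^ (j : ℕ)) ↔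
      ∀ m, i < m → m < n → PowerSeries.coeff m f = 0 := by
    intro f
    rw [Groth.Agent.TFSemigroup.Cubical.mem_span_monomials hmono (fun j : Fin (i + 1) => (j : ℕ)) rfl f]
    exact ⟨fun h m hm hm' => h m hm' fun j => by omega, fun h m hm hj => h m (by
      by_contra hle
      exact hj ⟨m, by omega⟩ rfl) hm⟩
  -- the coefficient `P` of the `J`-th component
  let c : Fin i → ℕ → (Fin i → PowerSeries k) →ₗ[k] k := fun j P =>
    (PowerSeries.coeff (n + (i + 1 + P))).comp (LinearMap.proj j)
  let Φ : (Fin i → PowerSeries k) →ₗ[k] (Fin i → Fin (n - 2 - i) → k) :=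
    LinearMap.pi fun j => LinearMap.pi fun p =>
      if h : (p : ℕ) < (j : ℕ) then c j ((p : ℕ) + 1) - c ⟨(j : ℕ) - (p : ℕ) - 1, by omega⟩ 0
      else c j ((p : ℕ) + 1)
  rw [Groth.Agent.TFSemigroup.Cubical.length_ext hmono (fun j : Fin (i + 1) => (j : ℕ)) rfl (fun j => by omega)
    Fin.val_injective _ (Fin i → Fin (n - 2 - i) → k) Φ ?_ ?_]
  · simp [Module.finrank_pi_fintype]
  · intro t
    let u : Fin i → PowerSeries k := fun j => PowerSeries.mk fun m =>
      if h : i + 2 ≤ m ∧ m < n then t j ⟨m - (i + 2), by omega⟩ else 0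
    refine ⟨fun j => PowerSeries.X ^ n * u j, fun j f => ?_, ?_⟩
    · rw [hmem]
      intro m _ hm
      rw [mul_assoc, PowerSeries.coeff_X_pow_mul', if_neg (by omega)]
    · have hc : ∀ j P, c j P (fun j => PowerSeries.X ^ n * u j) =
          if h : 1 ≤ P ∧ i + 1 + P < n then t j ⟨P - 1, by omega⟩ else 0 := by
        intro j P
        show PowerSeries.coeff (n + (i + 1 + P)) (PowerSeries.X ^ n * u j) = _
        rw [add_comm n, PowerSeries.coeff_X_pow_mul]
        show PowerSeries.coeff (i + 1 + P) (PowerSeries.mk _) = _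
        rw [PowerSeries.coeff_mk]
        by_cases h : 1 ≤ P ∧ i + 1 + P < n
        · rw [dif_pos h, dif_pos (by omega)]; congr 1; ext; simp only; omega
        · rw [dif_neg h, dif_neg (by omega)]
      funext j p
      show (if h : (p : ℕ) < (j : ℕ) then c j ((p : ℕ) + 1) - c ⟨(j : ℕ) - (p : ℕ) - 1, by omega⟩ 0
        else c j ((p : ℕ) + 1)) _ = _
      split_ifs with h
      · rw [LinearMap.sub_apply, hc, hc, dif_pos (by omega), dif_neg (by omega), sub_zero]
        congr 1
      · rw [hc, dif_pos (by omega)]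
        congr 1
  · intro w hw
    have hlow : ∀ j (q : ℕ), q < n → PowerSeries.coeff q (w j) = 0 := by
      intro j q hq
      have h3 := (hmem _).mp (hw j (PowerSeries.X ^ (n - 1 - q))) (n - 1) (by omega) (by omega)
      rwa [PowerSeries.coeff_mul_X_pow', if_pos (by omega), show n - 1 - (n - 1 - q) = q by omega] at h3
    have hd : ∀ j, (PowerSeries.X : PowerSeries k) ^ n ∣ w j := fun j => PowerSeries.X_pow_dvd_iff.mpr (hlow j)
    choose z hz using hd
    have hc : ∀ j P, c j P w = PowerSeries.coeff (i + 1 + P) (z j) := by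
      intro j P
      show PowerSeries.coeff (n + (i + 1 + P)) (w j) = _
      rw [hz j, add_comm n, PowerSeries.coeff_X_pow_mul]
    have hΦ : ∀ j (p : Fin (n - 2 - i)), Φ w j p = if h : (p : ℕ) < (j : ℕ) then
        PowerSeries.coeff (i + 1 + ((p : ℕ) + 1)) (z j) -
          PowerSeries.coeff (i + 1 + 0) (z ⟨(j : ℕ) - (p : ℕ) - 1, by omega⟩)
        else PowerSeries.coeff (i + 1 + ((p : ℕ) + 1)) (z j) := by
      intro j p
      show (if h : (p : ℕ) < (j : ℕ) then c j ((p : ℕ) + 1) - c ⟨(j : ℕ) - (p : ℕ) - 1, by omega⟩ 0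
        else c j ((p : ℕ) + 1)) w = _
      split_ifs with h
      · rw [LinearMap.sub_apply, hc, hc]
      · rw [hc]
    constructor
    · intro h
      let v₀ : PowerSeries k := PowerSeries.mk fun q =>
        if hq : 1 ≤ q ∧ q ≤ i then -PowerSeries.coeff (i + 1 + 0) (z ⟨i - q, by omega⟩) else 0
      refine ⟨Fin.cases v₀ fun j => z j + PowerSeries.X ^ ((j : ℕ) + 1) * v₀, ?_, fun j => ?_⟩
      · refine Fin.cases ((hmem _).mpr fun m hm _ => ?_) fun j => (hmem _).mpr fun m hm hm' => ?_
        · show PowerSeries.coeff m v₀ = 0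
          rw [PowerSeries.coeff_mk, dif_neg (by omega)]
        · show PowerSeries.coeff m (z j + PowerSeries.X ^ ((j : ℕ) + 1) * v₀) = 0
          rw [map_add, PowerSeries.coeff_X_pow_mul', if_pos (by omega), PowerSeries.coeff_mk]
          by_cases hm1 : m = i + 1
          · subst hm1
            rw [dif_pos (by omega), add_zero]
            have e : (⟨i - (i + 1 - ((j : ℕ) + 1)), by omega⟩ : Fin i) = j := Fin.ext (by simp only; omega)
            rw [e, Nat.add_zero]
            exact add_neg_cancel _
          · have h4 := congrFun (congrFun h j) ⟨m - (i + 2), by omega⟩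
            rw [hΦ, show i + 1 + (m - (i + 2) + 1) = m by omega] at h4
            simp only at h4
            split_ifs at h4 with hlt
            · rw [dif_pos (by omega), ← sub_eq_add_neg]
              refine Eq.trans ?_ h4
              have e : (⟨i - (m - ((j : ℕ) + 1)), by omega⟩ : Fin i) = ⟨(j : ℕ) - (m - (i + 2)) - 1, by omega⟩ :=
                Fin.ext (by simp only; omega)
              rw [e]
            · rw [dif_neg (by omega), add_zero]
              exact h4
      · show w j = _ * (z j + _ - _ * v₀)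
        rw [hz j, Fin.val_succ]; ring
    · rintro ⟨v, hv, hw'⟩
      have hzv : ∀ j, z j = v j.succ - PowerSeries.X ^ ((j : ℕ) + 1) * v 0 := fun j =>
        mul_left_cancel₀ (pow_ne_zero n PowerSeries.X_ne_zero) ((hz j).symm.trans (hw' j))
      have hv1 : ∀ j q, i < q → q < n → PowerSeries.coeff q (v j) = 0 := fun j q h1 h2 =>
        (hmem _).mp (hv j) q h1 h2
      funext j p
      rw [hΦ]
      show _ = (0 : k)
      split_ifs with h
      · rw [hzv, hzv, map_sub, map_sub, hv1 _ _ (by omega) (by omega), hv1 _ _ (by omega) (by omega),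
          PowerSeries.coeff_X_pow_mul', PowerSeries.coeff_X_pow_mul', if_pos (by omega),
          if_pos (by simp only; omega)]
        simp only [zero_sub, sub_neg_eq_add]
        rw [neg_add_eq_zero]
        congr 2
        omega
      · rw [hzv, map_sub, hv1 _ _ (by omega) (by omega), PowerSeries.coeff_X_pow_mul', if_pos (by omega),
          hv1 _ _ (by omega) (by omega), sub_zero]

end Groth.Agent.S15031
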