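import Groth.Statements.S15032
import Groth.Agent.TFSemigroup.Cubical

set_option autoImplicit false
universe u
open CategoryTheory
open TFCurv

namespace Groth.Agent.S15032

open PowerSeries in
theorem length_endQuot {k : Type u} [Field k] {n : ℕ} {A : Subalgebra k (PowerSeries k)}
    (hA : ∀ f : PowerSeries k, f ∈ A ↔ ∀ m : ℕ, coeff m f ≠ 0 → (m = 0 ∨ n ≤ m)) (hn : 1 ≤ n) :
    Module.length ↥A ((PowerSeries k →ₗ[↥A] PowerSeries k) ⧸ LinearMap.range
      (Algebra.lsmul ↥A ↥A (PowerSeries k) : ↥A →ₐ[↥A] Module.End ↥A (PowerSeries k)).toLinearMap) =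
      ((n - 1 : ℕ) : ℕ∞) := by
  have hmul : ∀ (φ : PowerSeries k →ₗ[↥A] PowerSeries k) f, φ f = f * φ 1 := fun φ f =>
    Groth.Agent.TFSemigroup.Cubical.hom_eq_mul hA
      ((Submodule.topEquiv (R := ↥A) (M := PowerSeries k)).symm.toLinearMap.comp φ) f
  let I := LinearMap.range (Algebra.lsmul ↥A ↥A (PowerSeries k) : ↥A →ₐ[↥A] Module.End ↥A (PowerSeries k)).toLinearMap
  let Φ : (PowerSeries k →ₗ[↥A] PowerSeries k) →ₗ[k] (Fin (n - 1) → k) :=
    { toFun := fun φ p => coeff ((p : ℕ) + 1) (φ 1)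
      map_add' := fun φ ψ => funext fun p => map_add _ _ _
      map_smul' := fun c φ => funext fun p => map_smul (coeff ((p : ℕ) + 1)) c (φ 1) }
  have hΦ : Function.Surjective Φ := fun t => by
    refine ⟨(LinearMap.mulRight (PowerSeries k) (PowerSeries.mk fun m => if h : 1 ≤ m ∧ m < n then
      t ⟨m - 1, by omega⟩ else 0)).restrictScalars ↥A, funext fun p => ?_⟩
    show coeff ((p : ℕ) + 1) ((1 : PowerSeries k) * PowerSeries.mk (R := k) _) = _
    rw [one_mul, coeff_mk, dif_pos (by omega)]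
    rfl
  have hI : I.restrictScalars k = LinearMap.ker Φ := by
    ext φ
    constructor
    · rintro ⟨a, rfl⟩
      funext p
      show coeff ((p : ℕ) + 1) ((a : PowerSeries k) * 1) = 0
      rw [mul_one]
      by_contra h
      rcases (hA _).mp a.2 _ h with h' | h' <;> omega
    · intro h
      have hm : φ 1 ∈ A := (hA _).mpr fun m hm => by
        by_contra h'
        have := congrFun h ⟨m - 1, by omega⟩
        change coeff (m - 1 + 1) (φ 1) = 0 at this
        rw [show m - 1 + 1 = m by omega] at this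
        exact hm this
      exact ⟨⟨φ 1, hm⟩, LinearMap.ext fun f => ((hmul φ f).trans (mul_comm _ _)).symm⟩
  let eQ : ((PowerSeries k →ₗ[↥A] PowerSeries k) ⧸ I) ≃ₗ[k] (Fin (n - 1) → k) :=
    (Submodule.Quotient.restrictScalarsEquiv k I).symm.trans
      ((Submodule.quotEquivOfEq _ _ hI).trans (Φ.quotKerEquivOfSurjective hΦ))
  have : Module.Finite k ((PowerSeries k →ₗ[↥A] PowerSeries k) ⧸ I) := Module.Finite.equiv eQ.symm
  rw [Groth.Agent.TFSemigroup.Cubical.length_eq_finrank_of_smul (k := k), eQ.finrank_eq, Module.finrank_fin_fun]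
  intro a
  refine ⟨constantCoeff (a : PowerSeries k), fun q => ?_⟩
  obtain ⟨φ, rfl⟩ := I.mkQ_surjective q
  rw [Submodule.mkQ_apply, ← Submodule.Quotient.mk_smul, ← Submodule.Quotient.mk_smul, Submodule.Quotient.eq]
  obtain ⟨w, hw⟩ := Groth.Agent.TFSemigroup.Cubical.sub_const_dvd hA a
  refine ⟨⟨X ^ n * (w * φ 1), Groth.Agent.TFSemigroup.Cubical.X_pow_mul_mem hA _⟩, LinearMap.ext fun f => ?_⟩
  show X ^ n * (w * φ 1) * f = (a : PowerSeries k) * φ f - constantCoeff (a : PowerSeries k) • φ f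
  rw [smul_eq_C_mul, ← sub_mul, hw, hmul φ f]
  ring


/-- Let k be an algebraically closed field, n ≥ 2, and A = R_n ⊂ k[[t]] the monomial ring of the cubical
semigroup ⟨n, n+1, …, 2n−1⟩, i.e. the k-subalgebra of power series with no terms of degree 1, …,
n−1. For the normalisation R~ = k[[t]] viewed as an A-module, χ₁(R~) = (n − 1)², where χ₁(M) = dim_k
Ext¹_A(M, M) − dim_k(End_A(M)/A): the length of the A-module Ext¹_A(k[[t]], k[[t]]) equals (n − 1)²
plus the length of the A-linear endomorphisms of k[[t]] modulo multiplications by elements of A. -/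
theorem result (k : Type u) [Field k] [IsAlgClosed k] (n : ℕ) (hn : 2 ≤ n) (A : Subalgebra k (PowerSeries k)) (hmono : ∀ f : PowerSeries k, f ∈ A ↔ ∀ m : ℕ, PowerSeries.coeff m f ≠ 0 → (m = 0 ∨ n ≤ m)) : Module.length ↥A (Abelian.Ext (ModuleCat.of ↥A (PowerSeries k)) (ModuleCat.of ↥A (PowerSeries k)) 1) = (((n - 1) ^ 2 : ℕ) : ℕ∞) + Module.length ↥A ((PowerSeries k →ₗ[↥A] PowerSeries k) ⧸ LinearMap.range (Algebra.lsmul ↥A ↥A (PowerSeries k) : ↥A →ₐ[↥A] Module.End ↥A (PowerSeries k)).toLinearMap) := by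
  classical
  obtain ⟨r, rfl⟩ : ∃ r, n = r + 1 := ⟨n - 1, by omega⟩
  let e : Fin (r + 1) → ℕ := fun j => (j : ℕ)
  have htop : Submodule.span ↥A (Set.range fun j => (PowerSeries.X : PowerSeries k) ^ e j) = ⊤ :=
    eq_top_iff.mpr fun f _ => (Groth.Agent.TFSemigroup.Cubical.mem_span_monomials hmono e rfl f).mpr
      fun m hm h => absurd rfl (h ⟨m, hm⟩)
  let Φ : (Fin r → PowerSeries k) →ₗ[k] (Fin r → Fin (r + 1) → k) :=
    LinearMap.pi fun j => LinearMap.pi fun p => (PowerSeries.coeff (p : ℕ)).comp (LinearMap.proj j)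
  have h1 := Groth.Agent.TFSemigroup.Cubical.length_ext hmono e rfl (fun j => j.isLt) Fin.val_injective ⊤
    (Fin r → Fin (r + 1) → k) Φ
    (fun t => ⟨fun j => PowerSeries.mk fun m => if h : m < r + 1 then t j ⟨m, h⟩ else 0,
      fun _ _ => Submodule.mem_top, by
        funext j p
        simp only [Φ, LinearMap.pi_apply, LinearMap.comp_apply, LinearMap.proj_apply]
        rw [PowerSeries.coeff_mk, dif_pos p.isLt]⟩)
    (fun w _ => by
      constructor
      · intro h
        have hd : ∀ j, (PowerSeries.X : PowerSeries k) ^ (r + 1) ∣ w j := fun j =>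
          PowerSeries.X_pow_dvd_iff.mpr fun m hm => congrFun (congrFun h j) ⟨m, hm⟩
        choose z hz using hd
        refine ⟨Fin.cases 0 z, fun _ => Submodule.mem_top, fun j => ?_⟩
        show w j = _ * (z j - _ * 0)
        rw [hz j]; ring
      · rintro ⟨v, -, hv⟩
        funext j p
        show PowerSeries.coeff (p : ℕ) (w j) = 0
        rw [hv j, PowerSeries.coeff_X_pow_mul', if_neg (by omega)])
  have h2 : Module.length ↥A (Abelian.Ext (ModuleCat.of ↥A (PowerSeries k)) (ModuleCat.of ↥A (PowerSeries k)) 1) =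
      ((r * (r + 1) : ℕ) : ℕ∞) := by
    rw [Groth.Agent.TFSemigroup.Cubical.length_ext_congr (B := ↥A) (M := PowerSeries k)
      (M' := ↥(Submodule.span ↥A (Set.range fun j => (PowerSeries.X : PowerSeries k) ^ e j)))
      (N := PowerSeries k) (N' := ↥(⊤ : Submodule ↥A (PowerSeries k))) ((LinearEquiv.ofTop _ htop).symm)
      (Submodule.topEquiv (R := ↥A) (M := PowerSeries k)).symm, h1]
    simp [Module.finrank_pi_fintype]
  rw [h2, length_endQuot hmono (by omega)]
  norm_cast
  rw [Nat.add_sub_cancel]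
  ring

end Groth.Agent.S15032
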