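import Groth.Statements.S15033
import Groth.Agent.TFSemigroup.Cubical

set_option autoImplicit false
universe u
open CategoryTheory
open TFCurv

namespace Groth.Agent.S15033

def expo (n i : ℕ) : Fin (i + 1) → ℕ := Fin.cases 0 fun j : Fin i => n - i + (j : ℕ)


/-- Let k be an algebraically closed field, n ≥ 2, and A = R_n ⊂ k[[t]] the monomial ring of the cubical
semigroup ⟨n, n+1, …, 2n−1⟩, i.e. the k-subalgebra of power series with no terms of degree 1, …,
n−1. For 0 ≤ i < n − 1 let R_{n−i} ⊂ k[[t]] be the A-submodule generated by 1, t^{n−i}, t^{n−i+1},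
…, t^{n−1}, i.e. the overring of A consisting of the power series with no terms of degree 1, …, n −
i − 1. Then the A-module Ext¹_A(R_{n−i}, R_{n−i}) has length i·(n − 1). Since the A-endomorphisms of
R_{n−i} are the multiplications by elements of R_{n−i}, of colength i over A, this is the published
value χ₁(R_{n−i}) = i·(n − 2) of χ₁(M) = dim Ext¹(M, M) − dim(End(M)/A). -/
theorem result (k : Type u) [Field k] [IsAlgClosed k] (n : ℕ) (hn : 2 ≤ n) (A : Subalgebra k (PowerSeries k)) (hmono : ∀ f : PowerSeries k, f ∈ A ↔ ∀ m : ℕ, PowerSeries.coeff m f ≠ 0 → (m = 0 ∨ n ≤ m)) (i : ℕ) (hi : i + 2 ≤ n) : Module.length ↥A (Abelian.Ext (ModuleCat.of ↥A ↥(Submodule.span ↥A ((fun a : ℕ => (PowerSeries.X : PowerSeries k) ^ a) '' ({0} ∪ Set.Icc (n - i) (n - 1))))) (ModuleCat.of ↥A ↥(Submodule.span ↥A ((fun a : ℕ => (PowerSeries.X : PowerSeries k) ^ a) '' ({0} ∪ Set.Icc (n - i) (n - 1))))) 1) = ((i * (n - 1) : ℕ) : ℕ∞) := by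
  classical
  have hS : (fun a : ℕ => (PowerSeries.X : PowerSeries k) ^ a) '' ({0} ∪ Set.Icc (n - i) (n - 1)) =
      Set.range fun j : Fin (i + 1) => (PowerSeries.X : PowerSeries k) ^ expo n i j := by
    rw [show (fun j : Fin (i + 1) => (PowerSeries.X : PowerSeries k) ^ expo n i j) =
      (fun a : ℕ => (PowerSeries.X : PowerSeries k) ^ a) ∘ expo n i from rfl, Set.range_comp]
    congr 1
    ext m
    simp only [Set.mem_union, Set.mem_singleton_iff, Set.mem_Icc, Set.mem_range]
    constructor
    · rintro (rfl | ⟨h, h'⟩)
      · exact ⟨0, rfl⟩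
      · exact ⟨(⟨m - (n - i), by omega⟩ : Fin i).succ, by simp [expo]; omega⟩
    · rintro ⟨j, rfl⟩
      refine Fin.cases (Or.inl rfl) (fun j => Or.inr ?_) j
      simp only [expo, Fin.cases_succ]
      omega
  rw [hS]
  have hmem : ∀ f, f ∈ Submodule.span ↥A (Set.range fun j => (PowerSeries.X : PowerSeries k) ^ expo n i j) ↔
      ∀ m, 1 ≤ m → m < n - i → PowerSeries.coeff m f = 0 := by
    intro f
    rw [Groth.Agent.TFSemigroup.Cubical.mem_span_monomials hmono (expo n i) rfl f]
    refine ⟨fun h m hm hm' => h m (by omega) fun j => ?_, fun h m hm hj => h m ?_ ?_⟩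
    · refine Fin.cases ?_ (fun j => ?_) j
      · simp [expo]; omega
      · simp only [expo, Fin.cases_succ]; omega
    · have := hj 0
      simp [expo] at this
      omega
    · by_contra hlt
      have := hj (⟨m - (n - i), by omega⟩ : Fin i).succ
      simp [expo] at this
      omega
  let E : Fin (n - 1) → ℕ := fun p => if (p : ℕ) < i then n - i + p else n + 1 + (p - i)
  let Φ : (Fin i → PowerSeries k) →ₗ[k] (Fin i → Fin (n - 1) → k) :=
    LinearMap.pi fun j => LinearMap.pi fun p => (PowerSeries.coeff (E p)).comp (LinearMap.proj j)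
  rw [Groth.Agent.TFSemigroup.Cubical.length_ext hmono (expo n i) rfl ?_ ?_ _ (Fin i → Fin (n - 1) → k) Φ ?_ ?_]
  · simp [Module.finrank_pi_fintype]
  · intro j
    refine Fin.cases ?_ (fun j => ?_) j
    · simp [expo]; omega
    · simp only [expo, Fin.cases_succ]; omega
  · intro a b hab
    induction a using Fin.cases with
    | zero => induction b using Fin.cases with
      | zero => rfl
      | succ b => simp only [expo, Fin.cases_zero, Fin.cases_succ] at hab; omega
    | succ a => induction b using Fin.cases with
      | zero => simp only [expo, Fin.cases_zero, Fin.cases_succ] at hab; omega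
      | succ b => simp only [expo, Fin.cases_succ] at hab; exact congrArg Fin.succ (Fin.ext (by omega))
  · intro t
    refine ⟨fun j => PowerSeries.mk fun m => if h : n - i ≤ m ∧ m < n then t j ⟨m - (n - i), by omega⟩
      else if h' : n < m ∧ m < 2 * n - i then t j ⟨i + (m - (n + 1)), by omega⟩ else 0, fun j f => ?_, ?_⟩
    · rw [hmem]
      intro m _ hm
      have hd : (PowerSeries.X : PowerSeries k) ^ (n - i) ∣
          (PowerSeries.mk fun m => if h : n - i ≤ m ∧ m < n then t j ⟨m - (n - i), by omega⟩
            else if h' : n < m ∧ m < 2 * n - i then t j ⟨i + (m - (n + 1)), by omega⟩ else 0) * f := by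
        refine Dvd.dvd.mul_right (PowerSeries.X_pow_dvd_iff.mpr fun q hq => ?_) f
        rw [PowerSeries.coeff_mk, dif_neg (by omega), dif_neg (by omega)]
      exact PowerSeries.X_pow_dvd_iff.mp hd m hm
    · funext j p
      simp only [Φ, LinearMap.pi_apply, LinearMap.comp_apply, LinearMap.proj_apply]
      rw [PowerSeries.coeff_mk]
      by_cases hp : (p : ℕ) < i
      · rw [dif_pos (by simp only [E, if_pos hp]; omega)]
        congr 1; ext; simp only [E, if_pos hp]; omega
      · rw [dif_neg (by simp only [E, if_neg hp]; omega), dif_pos (by simp only [E, if_neg hp]; omega)]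
        congr 1; ext; simp only [E, if_neg hp]; omega
  · intro w hw
    constructor
    · intro h
      have h1 : ∀ j p, PowerSeries.coeff (E p) (w j) = 0 := fun j p => congrFun (congrFun h j) p
      have h2 : ∀ j (m : ℕ), m < n → PowerSeries.coeff m (w j) = 0 := by
        intro j m hm
        rcases Nat.lt_or_ge m (n - i) with hlt | hge
        · rcases Nat.eq_zero_or_pos m with rfl | hpos
          · have h3 := (hmem _).mp (hw j PowerSeries.X) 1 le_rfl (by omega)
            rwa [PowerSeries.coeff_succ_mul_X 0 (w j)] at h3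
          · have h3 := (hmem _).mp (hw j 1) m hpos hlt
            rwa [mul_one] at h3
        · have h3 := h1 j ⟨m - (n - i), by omega⟩
          simp only [E] at h3
          rw [if_pos (by omega), show n - i + (m - (n - i)) = m by omega] at h3
          exact h3
      have hd : ∀ j, (PowerSeries.X : PowerSeries k) ^ n ∣ w j := fun j => PowerSeries.X_pow_dvd_iff.mpr (h2 j)
      choose z hz using hd
      refine ⟨Fin.cases 0 z, ?_, fun j => ?_⟩
      · refine Fin.cases (Submodule.zero_mem _) fun j => (hmem _).mpr fun m hm hm' => ?_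
        show PowerSeries.coeff m (z j) = 0
        have h3 := h1 j ⟨i + (m - 1), by omega⟩
        simp only [E] at h3
        rw [if_neg (by omega), hz j, show n + 1 + (i + (m - 1) - i) = m + n by omega,
          PowerSeries.coeff_X_pow_mul] at h3
        exact h3
      · show w j = _ * (z j - _ * 0)
        rw [hz j]; ring
    · rintro ⟨v, hv, hw'⟩
      funext j p
      show PowerSeries.coeff (E p) (w j) = 0
      rw [hw' j, PowerSeries.coeff_X_pow_mul']
      split_ifs with hp
      · have hp' : n < E p ∧ E p < 2 * n - i := by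
          simp only [E] at hp ⊢
          split_ifs at hp ⊢ <;> omega
        rw [map_sub, (hmem _).mp (hv j.succ) _ (by omega) (by omega), PowerSeries.coeff_X_pow_mul',
          if_neg (by simp only [expo, Fin.cases_succ]; omega), sub_zero]
      · rfl

end Groth.Agent.S15033
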