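import Groth.Statements.S15036
import Groth.Agent.TFSemigroup.Basic

set_option autoImplicit false
open TFCurv

namespace Groth.Agent.S15036

/-- Let Γ be a numerical semigroup (a submonoid of (ℕ, +) with finite complement), Γ ≠ ℕ, with conductor
c (every n ≥ c lies in Γ, c − 1 does not); let S ⊆ ℕ be a Γ-module in normal form (0 ∈ S, γ + s ∈ S
for γ ∈ Γ, s ∈ S) with conductor c(S) (all n ≥ c(S) in S, c(S) − 1 ∉ S), and let s be a gap of S
such that S ∪ {s} is again a Γ-module. Enumerate S increasingly as s_0 < s_1 < ⋯ and put τ_i(S) =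
s_i + ℓ(S), where ℓ counts the gaps of Γ filled; since ℓ(S ∪ {s}) = ℓ(S) + 1, the termwise
comparison τ(S) ≤ τ(S ∪ {s}) says that the i-th element of S is at most one more than the i-th
element of S ∪ {s} for every i. This holds if and only if s = c(S) − 1, the largest gap of S. -/
theorem result (Γ : AddSubmonoid ℕ) (c : ℕ) (hc : ∀ n : ℕ, c ≤ n → n ∈ Γ) (hc0 : c ≠ 0) (hc1 : c - 1 ∉ Γ) (S : Set ℕ) (hS0 : (0 : ℕ) ∈ S) (hS : ∀ γ : ℕ, γ ∈ Γ → ∀ s : ℕ, s ∈ S → γ + s ∈ S) (cS : ℕ) (hcS : ∀ n : ℕ, cS ≤ n → n ∈ S) (hcS0 : cS ≠ 0) (hcS1 : cS - 1 ∉ S) (s : ℕ) (hs : s ∉ S) (hs' : ∀ γ : ℕ, γ ∈ Γ → γ ≠ 0 → s + γ ∈ S) : (∀ i : ℕ, Nat.nth (fun m => m ∈ S) i ≤ Nat.nth (fun m => m ∈ insert s S) i + 1) ↔ s + 1 = cS := by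
  classical
  have hT : ∀ n, cS ≤ n → n ∈ insert s S := fun n hn => Set.mem_insert_of_mem _ (hcS n hn)
  have hSi : {m | m ∈ S}.Infinite := Groth.Agent.TFSemigroup.infinite_of_ge S cS hcS
  have hTi : {m | m ∈ insert s S}.Infinite := Groth.Agent.TFSemigroup.infinite_of_ge _ cS hT
  have hscS : s < cS := not_le.mp fun h => hs (hcS s h)
  have hcount : ∀ n, Nat.count (fun m => m ∈ insert s S) n =
      Nat.count (fun m => m ∈ S) n + (if s < n then 1 else 0) := by
    intro n
    induction n with
    | zero => simp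
    | succ n ih =>
      rw [Nat.count_succ, Nat.count_succ, ih]
      by_cases h : n = s
      · subst h
        simp [hs]
      · simp only [Set.mem_insert_iff, h, false_or]
        by_cases h' : s < n
        · simp [h', show s < n + 1 by omega]; omega
        · simp [h', show ¬ s < n + 1 by omega]
  constructor
  · intro h
    by_contra hne
    have hg : s < cS - 1 := by omega
    have hi := h (Nat.count (fun m => m ∈ S) (cS - 1))
    have h1 : cS - 1 ≤ Nat.nth (fun m => m ∈ S) (Nat.count (fun m => m ∈ S) (cS - 1)) :=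
      Nat.le_nth_count hSi (cS - 1)
    have h1' : Nat.nth (fun m => m ∈ S) (Nat.count (fun m => m ∈ S) (cS - 1)) ≠ cS - 1 := fun h' =>
      hcS1 (h' ▸ Nat.nth_mem_of_infinite hSi _)
    have h2 : Nat.nth (fun m => m ∈ insert s S) (Nat.count (fun m => m ∈ S) (cS - 1)) < cS - 1 :=
      Nat.nth_lt_of_lt_count (by rw [hcount, if_pos hg]; omega)
    omega
  · intro hsc i
    suffices h : i < Nat.count (fun m => m ∈ S) (Nat.nth (fun m => m ∈ insert s S) i + 2) by
      have := Nat.nth_lt_of_lt_count h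
      omega
    have hy : Nat.count (fun m => m ∈ insert s S) (Nat.nth (fun m => m ∈ insert s S) i) = i :=
      Nat.count_nth_of_infinite hTi i
    have hmem : Nat.nth (fun m => m ∈ insert s S) i ∈ insert s S := Nat.nth_mem_of_infinite hTi i
    generalize Nat.nth (fun m => m ∈ insert s S) i = y at hy hmem ⊢
    rw [hcount] at hy
    rw [show y + 2 = y + 1 + 1 from rfl, Nat.count_succ, Nat.count_succ]
    rcases hmem with h' | h'
    · subst h'
      have := hcS (y + 1) (by omega)
      simp [this, hs] at hy ⊢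
      omega
    · by_cases h2 : s < y
      · have := hcS (y + 1) (by omega)
        simp [this, h', h2] at hy ⊢
        omega
      · simp [h', h2] at hy ⊢
        omega

end Groth.Agent.S15036
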