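import Groth.Statements.S15037
import Groth.Agent.TFSemigroup.Basic

set_option autoImplicit false
open TFCurv

namespace Groth.Agent.S15037

/-- Let Γ be a numerical semigroup (a submonoid of (ℕ, +) with finite complement), Γ ≠ ℕ, with conductor
c (every n ≥ c lies in Γ, c − 1 does not); let S and S' ⊆ ℕ be Γ-modules in normal form with
conductors c(S), c(S'), let δ(S), δ(S') be their numbers of gaps and r(S), r(S') their numbers of
elements below the conductor, and enumerate them increasingly as s_i, s'_i (i ≥ 0). With τ_i(S) =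
s_i + ℓ(S) and ℓ(S) = δ(Γ) − δ(S), the termwise order τ(S) ≤ τ(S') reads s_i + δ(S') ≤ s'_i + δ(S)
for all i. It holds if and only if r(S') ≤ r(S) and s_i + δ(S') ≤ s'_i + δ(S) for all i < r(S')
(beyond r(S) the entries τ_i(S) = i + δ(Γ) are the largest possible). -/
theorem result (Γ : AddSubmonoid ℕ) (c : ℕ) (hc : ∀ n : ℕ, c ≤ n → n ∈ Γ) (hc0 : c ≠ 0) (hc1 : c - 1 ∉ Γ) (S : Set ℕ) (hS0 : (0 : ℕ) ∈ S) (hS : ∀ γ : ℕ, γ ∈ Γ → ∀ s : ℕ, s ∈ S → γ + s ∈ S) (cS : ℕ) (hcS : ∀ n : ℕ, cS ≤ n → n ∈ S) (hcS1 : cS = 0 ∨ cS - 1 ∉ S) (S' : Set ℕ) (hS'0 : (0 : ℕ) ∈ S') (hS' : ∀ γ : ℕ, γ ∈ Γ → ∀ s : ℕ, s ∈ S' → γ + s ∈ S') (cS' : ℕ) (hcS' : ∀ n : ℕ, cS' ≤ n → n ∈ S') (hcS'1 : cS' = 0 ∨ cS' - 1 ∉ S') : (∀ i : ℕ, Nat.nth (fun m => m ∈ S) i + S'ᶜ.ncard ≤ Nat.nth (fun m => m ∈ S') i + Sᶜ.ncard) ↔ ((S' ∩ Set.Iio cS').ncard ≤ (S ∩ Set.Iio cS).ncard ∧ ∀ i : ℕ, i < (S' ∩ Set.Iio cS').ncard → Nat.nth (fun m => m ∈ S) i + S'ᶜ.ncard ≤ Nat.nth (fun m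 => m ∈ S') i + Sᶜ.ncard) := by
  classical
  have hSi : {m | m ∈ S}.Infinite := Groth.Agent.TFSemigroup.infinite_of_ge S cS hcS
  have hS'i : {m | m ∈ S'}.Infinite := Groth.Agent.TFSemigroup.infinite_of_ge S' cS' hcS'
  have hr := (Groth.Agent.TFSemigroup.count_eq_ncard S cS).symm
  have hr' := (Groth.Agent.TFSemigroup.count_eq_ncard S' cS').symm
  have hd := Groth.Agent.TFSemigroup.compl_ncard_add_count S cS hcS
  have hd' := Groth.Agent.TFSemigroup.compl_ncard_add_count S' cS' hcS'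
  have tail : ∀ (T : Set ℕ) (a : ℕ), (∀ n, a ≤ n → n ∈ T) → ∀ j,
      Nat.count (fun m => m ∈ T) (a + j) = Nat.count (fun m => m ∈ T) a + j := by
    intro T a ha j
    induction j with
    | zero => simp
    | succ j ih => rw [← add_assoc, Nat.count_succ, ih, if_pos (ha _ (by omega))]; omega
  have hub : ∀ i, Nat.nth (fun m => m ∈ S) i ≤ i + Sᶜ.ncard := fun i => by
    have h1 : i < Nat.count (fun m => m ∈ S) (i + Sᶜ.ncard + 1) := by
      rcases Nat.lt_or_ge (i + Sᶜ.ncard + 1) cS with h | h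
      · have h2 := tail
        have hle : cS - (i + Sᶜ.ncard + 1) + Nat.count (fun m => m ∈ S) (i + Sᶜ.ncard + 1) ≥
            Nat.count (fun m => m ∈ S) cS := by
          conv_rhs => rw [show cS = (i + Sᶜ.ncard + 1) + (cS - (i + Sᶜ.ncard + 1)) by omega, Nat.count_add]
          have := Nat.count_le (p := fun j => i + Sᶜ.ncard + 1 + j ∈ S) (n := cS - (i + Sᶜ.ncard + 1))
          omega
        omega
      · have := tail S cS hcS (i + Sᶜ.ncard + 1 - cS)
        rw [Nat.add_sub_cancel' h] at this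
        omega
    have := Nat.nth_lt_of_lt_count h1
    omega
  have hlb : ∀ i, Nat.count (fun m => m ∈ S') cS' ≤ i → i + S'ᶜ.ncard ≤ Nat.nth (fun m => m ∈ S') i := by
    intro i hi
    by_contra h
    have h3 : Nat.count (fun m => m ∈ S') (i + S'ᶜ.ncard) ≤ i := by
      have h4 : cS' ≤ i + S'ᶜ.ncard := by omega
      have := tail S' cS' hcS' (i + S'ᶜ.ncard - cS')
      rw [Nat.add_sub_cancel' h4] at this
      omega
    have h5 := Nat.count_monotone (fun m => m ∈ S')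
      (show Nat.nth (fun m => m ∈ S') i + 1 ≤ i + S'ᶜ.ncard by omega)
    rw [Nat.count_succ, Nat.count_nth_of_infinite hS'i, if_pos (Nat.nth_mem_of_infinite hS'i i)] at h5
    omega
  rw [hr, hr']
  refine ⟨fun h => ⟨?_, fun i _ => h i⟩, fun ⟨_, h⟩ i => ?_⟩
  · by_contra hlt
    rw [not_le] at hlt
    rcases hcS'1 with h0 | h0
    · subst h0
      simp at hlt
    have hi := h (Nat.count (fun m => m ∈ S) cS)
    have h1 : cS ≤ Nat.nth (fun m => m ∈ S) (Nat.count (fun m => m ∈ S) cS) := Nat.le_nth_count hSi cS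
    have h2 : Nat.nth (fun m => m ∈ S') (Nat.count (fun m => m ∈ S) cS) < cS' := Nat.nth_lt_of_lt_count hlt
    have h3 : Nat.nth (fun m => m ∈ S') (Nat.count (fun m => m ∈ S) cS) ≠ cS' - 1 := fun h' =>
      h0 (h' ▸ Nat.nth_mem_of_infinite hS'i _)
    have h4 : Nat.count (fun m => m ∈ S') cS' ≤ Nat.count (fun m => m ∈ S') (cS' - 1) := by
      conv_lhs => rw [show cS' = cS' - 1 + 1 by omega, Nat.count_succ, if_neg h0, add_zero]
    have h5 : ∀ a b, a ≤ b → Nat.count (fun m => m ∈ S') b + a ≤ Nat.count (fun m => m ∈ S') a + b := by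
      intro a b hab
      obtain ⟨j, rfl⟩ := Nat.exists_eq_add_of_le hab
      rw [Nat.count_add]
      have := Nat.count_le (p := fun t => a + t ∈ S') (n := j)
      omega
    have h6 := h5 _ _ (show Nat.nth (fun m => m ∈ S') (Nat.count (fun m => m ∈ S) cS) ≤ cS' - 1 by omega)
    rw [Nat.count_nth_of_infinite hS'i] at h6
    omega
  · rcases Nat.lt_or_ge i (Nat.count (fun m => m ∈ S') cS') with hi | hi
    · exact h i hi
    · have := hub i
      have := hlb i hi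
      omega

end Groth.Agent.S15037
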