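import Groth.Statements.S15038
import Groth.Agent.TFSemigroup.Basic

set_option autoImplicit false
open TFCurv

namespace Groth.Agent.S15038

/-- Let Γ be a numerical semigroup (a submonoid of (ℕ, +) with finite complement), Γ ≠ ℕ, with conductor
c (every n ≥ c lies in Γ, c − 1 does not). If Γ is symmetric (for x < c, x is a gap exactly when c −
1 − x ∈ Γ) and its multiplicity e, the least nonzero element of Γ, is greater than 2, then Γ is
generated as an additive monoid by at most e − 1 elements. -/
theorem result (Γ : AddSubmonoid ℕ) (c : ℕ) (hc : ∀ n : ℕ, c ≤ n → n ∈ Γ) (hc0 : c ≠ 0) (hc1 : c - 1 ∉ Γ) (hsymm : ∀ x : ℕ, x < c → (x ∉ Γ ↔ c - 1 - x ∈ Γ)) (e : ℕ) (he : e ∈ Γ) (he0 : e ≠ 0) (hemin : ∀ γ : ℕ, γ ∈ Γ → γ ≠ 0 → e ≤ γ) (he2 : 2 < e) : ∃ G : Finset ℕ, G.card ≤ e - 1 ∧ AddSubmonoid.closure (↑G : Set ℕ) = Γ := by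
  classical
  choose w hw hwmod hwmin using fun r : Fin e => Groth.Agent.TFSemigroup.exists_least Γ c e hc he0 r r.isLt
  have he1 : 0 < e := Nat.pos_of_ne_zero he0
  let bad : Finset (Fin e) := {⟨0, he1⟩, ⟨(c - 1) % e, Nat.mod_lt _ he1⟩}
  have hne : (c - 1) % e ≠ 0 := by
    intro h
    obtain ⟨j, hj⟩ := Nat.dvd_of_mod_eq_zero h
    apply hc1
    rw [hj, mul_comm]
    simpa using Groth.Agent.TFSemigroup.add_mul_mem he Γ.zero_mem j
  refine ⟨insert e ((Finset.univ \ bad).image w), ?_, ?_⟩
  · refine (Finset.card_insert_le _ _).trans ?_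
    have h1 := Finset.card_image_le (s := Finset.univ \ bad) (f := w)
    have h2 : bad.card = 2 := Finset.card_pair fun h => hne (congrArg Fin.val h).symm
    have h3 := Finset.card_sdiff_of_subset (Finset.subset_univ bad)
    rw [Finset.card_univ, Fintype.card_fin, h2] at h3
    omega
  · set G := AddSubmonoid.closure (↑(insert e ((Finset.univ \ bad).image w)) : Set ℕ) with hG
    have heG : e ∈ G := AddSubmonoid.subset_closure (by simp)
    have hgood : ∀ x, x ∈ Γ → x % e ≠ (c - 1) % e → x ∈ G := by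
      intro x hx h
      by_cases h0 : x % e = 0
      · obtain ⟨j, rfl⟩ := Nat.dvd_of_mod_eq_zero h0
        simpa [mul_comm] using Groth.Agent.TFSemigroup.add_mul_mem heG G.zero_mem j
      · let r : Fin e := ⟨x % e, Nat.mod_lt _ he1⟩
        have hr : r ∉ bad := by
          simp [bad, r, Fin.ext_iff, h0, h]
        have hwG : w r ∈ G := AddSubmonoid.subset_closure (by
          simp only [Finset.coe_insert, Finset.coe_image, Set.mem_insert_iff, Set.mem_image]
          exact Or.inr ⟨r, by simp [hr], rfl⟩)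
        obtain ⟨j, hj⟩ := Groth.Agent.TFSemigroup.exists_add_mul (hwmod r) (hwmin r x hx rfl)
        rw [hj]
        exact Groth.Agent.TFSemigroup.add_mul_mem heG hwG j
    refine le_antisymm (AddSubmonoid.closure_le.mpr fun x hx => ?_) fun n hn => ?_
    · simp only [Finset.coe_insert, Finset.coe_image, Set.mem_insert_iff, Set.mem_image] at hx
      rcases hx with rfl | ⟨r, -, rfl⟩
      · exact he
      · exact hw r
    · by_cases h : n % e = (c - 1) % e
      · have hge : c - 1 + e ≤ n := by
          rcases Nat.lt_or_ge (c - 1) n with h' | h'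
          · obtain ⟨j, rfl⟩ := Groth.Agent.TFSemigroup.modEq_ne_of_lt h.symm h'
            rw [add_mul, one_mul]; omega
          · obtain ⟨j, hj⟩ := Groth.Agent.TFSemigroup.exists_add_mul h h'
            exact absurd (hj ▸ Groth.Agent.TFSemigroup.add_mul_mem he hn j) hc1
        obtain ⟨j, hj⟩ := Groth.Agent.TFSemigroup.exists_add_mul (x := c - 1 + e) (y := n) (e := e)
          (by rw [Nat.add_mod_right]; exact h.symm) hge
        obtain ⟨r₀, hr00, hre, hr⟩ : ∃ r, r ≠ 0 ∧ r < e ∧ r ≠ (c - 1) % e := by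
          by_cases h : 1 = (c - 1) % e
          · exact ⟨2, by omega, by omega, by omega⟩
          · exact ⟨1, by omega, by omega, h⟩
        let r : Fin e := ⟨r₀, hre⟩
        have hwr : w r % e = r₀ := hwmod r
        obtain ⟨w', hw', hsum, hw'mod, -⟩ := Groth.Agent.TFSemigroup.apery_complement hsymm hc hc0 he0
          hemin (hw r) (fun x h1 h2 => hwmin r x h1 (h2.trans hwr)) (by omega) (by omega)
        rw [hj, hsum]
        exact Groth.Agent.TFSemigroup.add_mul_mem heG
          (add_mem (hgood _ (hw r) (by omega)) (hgood _ hw' hw'mod)) j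
      · exact hgood n hn h

end Groth.Agent.S15038
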