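import Groth.Statements.S15039
import Groth.Agent.TFCurvLib.NormPushCurve
import Groth.Agent.EulerChar.Basic
import Groth.Agent.S1585

set_option autoImplicit false
universe u
open CategoryTheory CategoryTheory.Limits AlgebraicGeometry
open TFCurv

namespace Groth.Agent.S15039

/-- Let X be an integral proper curve (integral, proper, of dimension one) over an algebraically closed
field k, with normalisation ν : X~ → X, and write Õ_x for the integral closure of the local ring
O_{X,x} in the function field of X. Then ν_* induces a bijection from isomorphism classes of locally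
free modules of rank n on X~ to isomorphism classes of coherent O_X-modules all of whose stalks F_x
are isomorphic to Õ_x^n as O_{X,x}-modules: every such module is isomorphic to ν_*E for some locally
free E of rank n on X~, and two locally free modules of rank n on X~ with isomorphic direct images
are isomorphic. -/
theorem result (k : Type u) [Field k] [IsAlgClosed k] (X : Scheme.{u}) [X.Over (Spec (CommRingCat.of k))] [IsIntegral X] [IsProper (X ↘ Spec (CommRingCat.of k))] (hdim : topologicalKrullDim X = 1) [QuasiCompact (X.fromSpecStalk (genericPoint X))] [QuasiSeparated (X.fromSpecStalk (genericPoint X))] (n : ℕ) : (∀ F : X.Modules, Coh.IsCoh F → (∀ x : X, Nonempty (↑(F.presheaf.stalk x) ≃ₗ[↑(X.presheaf.stalk x)] (Fin n → ↥(integralClosure ↑(X.presheaf.stalk x) X.functionField)))) → ∃ E : (Curv2.normalization X).Modules, FlatMod.IsFinLocFreeOfRank n E ∧ Nonempty ((Coh.push (Curv2.normalizationι X)).obj E ≅ F)) ∧ (∀ E E' : (Curv2.normalization X).Modules, FlatMod.IsFinLocFreeOfRank n E → FlatMod.IsFinLocFreeOfRank n E' → Nonempty ((Coh.push (Curv2.normalizationι X)).obj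 E ≅ (Coh.push (Curv2.normalizationι X)).obj E') → Nonempty (E ≅ E')) := by
  haveI := Groth.Agent.EulerChar.isLocallyNoetherian k (X := X)
  haveI : IsFinite (Curv2.normalizationι X) := (Groth.Agent.S1585.result k X).1
  haveI := Groth.Agent.Curv2Norm.isIntegral X
  refine ⟨fun F hFc hF => Groth.Agent.TFCurvLib.exists_locFree_push_iso X hdim F hFc hF, ?_⟩
  rintro E E' hE hE' ⟨e⟩
  have hc : ∀ M : (Curv2.normalization X).Modules, FlatMod.IsFinLocFreeOfRank n M →
      M.IsQuasicoherent ∧ TorSh.IsTorsionFree M := fun M hM => by
    haveI := (Groth.Agent.VBLib.isCoh_of_ofRank hM).1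
    refine ⟨inferInstance, fun y => ?_⟩
    haveI := (Groth.Agent.Props.QProj.free_stalk M (Groth.Agent.VBLib.isFinLocFree_of_ofRank hM) y).1
    infer_instance
  haveI := (hc E hE).1
  haveI := (hc E' hE').1
  obtain ⟨V, hVd, hViso⟩ := Groth.Agent.Curv2Norm.exists_dense_isIso X
  obtain ⟨y, hy⟩ := hVd.nonempty
  have hη : Curv2.normalizationι X (genericPoint (Curv2.normalization X)) ∈ V := by
    rw [Groth.Agent.TFCurvLib.normalizationι_genericPoint X]
    exact (genericPoint_specializes y).mem_open V.2 hy
  obtain ⟨U, hU, hηU, hUV⟩ := exists_isAffineOpen_mem_and_subset hη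
  exact Groth.Agent.TFCurvLib.nonempty_iso_of_push_iso (Curv2.normalizationι X) E E' (hc E hE).2 (hc E' hE').2
    hU (Groth.Agent.TFCurvLib.bijective_app_of_le _ (U := V) hUV) hηU e

end Groth.Agent.S15039
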