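import Groth.Statements.S15040
import Groth.Agent.TFLoc.ExtDual
import Groth.Agent.TFLoc.Gor

set_option autoImplicit false
universe u
open CategoryTheory
open TFCurv

namespace Groth.Agent.S15040

/-- Let O be a one-dimensional Gorenstein local domain with algebraically closed residue field whose
integral closure O~ in its fraction field K is a finite O-module, and let M be an intermediate ring
O ⊆ M ⊆ O~ (an overring of O), viewed as an O-module. Put M⁻¹ = {x ∈ K | x·M ⊆ O}, which lies in O
and is identified with an ideal of O. Then Ext¹_O(M, M) and Hom_O(M⁻¹, O/M⁻¹) are isomorphic abelian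
groups (existence of an additive isomorphism only). -/
theorem result (O : Type u) [CommRing O] [IsDomain O] [LocCoh.IsGorensteinLocalRing O] (hdim : ringKrullDim O = 1) [IsAlgClosed (IsLocalRing.ResidueField O)] (K : Type u) [Field K] [Algebra O K] [IsFractionRing O K] (hfin : Module.Finite O ↥(integralClosure O K)) (M : Subalgebra O K) (hM : M ≤ integralClosure O K) : Nonempty (Abelian.Ext (ModuleCat.of O ↥M) (ModuleCat.of O ↥M) 1 ≃+ (↥((1 : Submodule O K) / Subalgebra.toSubmodule M) →ₗ[O] (O ⧸ Submodule.comap (Algebra.linearMap O K) ((1 : Submodule O K) / Subalgebra.toSubmodule M)))) := by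
  classical
  haveI := TFLoc.hasInjectiveDimensionLT_one' (O := O) (K := K) hdim
  have hone : (1 : Submodule O K) ≠ ⊥ := fun h =>
    one_ne_zero ((Submodule.mem_bot O).1 (h ▸ TFLoc.one_le_one' (O := O) (K := K)))
  have honefg : (1 : Submodule O K).FG := Submodule.one_eq_span (R := O) (A := K) ▸ Submodule.fg_span_singleton _
  haveI : Module.Finite O ↥(integralClosure O K) := hfin
  haveI : Module.Finite O ↥M := Module.Finite.of_injective (Subalgebra.inclusion hM).toLinearMap
    (Subalgebra.inclusion_injective hM)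
  haveI : NoZeroSMulDivisors O ↥M := ⟨fun {a x} h => by
    have h' : a • (x : K) = 0 := congrArg Subtype.val h
    rw [Algebra.smul_def, mul_eq_zero, map_eq_zero_iff _ (IsFractionRing.injective O K)] at h'
    exact h'.imp id Subtype.ext⟩
  let J : Submodule O K := (1 : Submodule O K) / Subalgebra.toSubmodule M
  let I : Ideal O := Submodule.comap (Algebra.linearMap O K) J
  -- the dual of `M` is the ideal
  have hJ1 : ∀ x ∈ J, ∃ a ∈ I, algebraMap O K a = x := fun x hx => by
    obtain ⟨a, ha⟩ := Submodule.mem_one.1 (by simpa using Submodule.mem_div_iff_forall_mul_mem.1 hx 1 (one_mem M))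
    exact ⟨a, show algebraMap O K a ∈ J from ha ▸ hx, ha⟩
  let Φ : ↥J →ₗ[O] (↥M →ₗ[O] ↥(1 : Submodule O K)) :=
    { toFun := fun x =>
        { toFun := fun m => ⟨(x : K) * (m : K), Submodule.mem_div_iff_forall_mul_mem.1 x.2 _ m.2⟩
          map_add' := fun a b => Subtype.ext (mul_add _ _ _)
          map_smul' := fun r a => Subtype.ext (mul_smul_comm r (x : K) (a : K)) }
      map_add' := fun a b => LinearMap.ext fun m => Subtype.ext (add_mul _ _ _)
      map_smul' := fun r a => LinearMap.ext fun m => Subtype.ext (smul_mul_assoc r (a : K) (m : K)) }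
  have hcross : ∀ (f : ↥M →ₗ[O] ↥(1 : Submodule O K)) (m : ↥M),
      (f m : K) = (f ⟨1, one_mem M⟩ : K) * (m : K) := by
    intro f m
    obtain ⟨a, ha, b, hb⟩ := TFLoc.exists_denom (O := O) (m : K)
    have e : a • m = b • (⟨1, one_mem M⟩ : ↥M) := Subtype.ext (by
      change a • (m : K) = b • (1 : K)
      rw [hb, Algebra.algebraMap_eq_smul_one])
    have e' := congrArg (fun z => (f z : K)) e
    simp only [map_smul, Submodule.coe_smul_of_tower] at e'
    refine TFLoc.smul_inj_K ha ?_
    rw [e', ← mul_smul_comm, hb, Algebra.smul_def, mul_comm]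
  have hΦ : Function.Bijective Φ := by
    refine ⟨fun a b h => Subtype.ext ?_, fun f => ?_⟩
    · have h2 := congrArg Subtype.val (LinearMap.congr_fun h ⟨1, one_mem M⟩)
      change (a : K) * 1 = (b : K) * 1 at h2
      simpa using h2
    · refine ⟨⟨(f ⟨1, one_mem M⟩ : K), Submodule.mem_div_iff_forall_mul_mem.2 fun m hm => ?_⟩,
        LinearMap.ext fun m => Subtype.ext (hcross f m).symm⟩
      rw [← hcross f ⟨m, hm⟩]
      exact (f ⟨m, hm⟩).2
  let eI : ↥I ≃ₗ[O] ↥J := LinearEquiv.ofBijective
    ((Algebra.linearMap O K ∘ₗ I.subtype).codRestrict J fun a => a.2)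
    ⟨fun a b h => Subtype.ext (IsFractionRing.injective O K (congrArg Subtype.val h)),
      fun x => by obtain ⟨a, ha, hax⟩ := hJ1 x x.2; exact ⟨⟨a, ha⟩, Subtype.ext hax⟩⟩
  let eD : ↥I ≃ₗ[O] (↥M →ₗ[O] ↥(1 : Submodule O K)) := eI.trans (LinearEquiv.ofBijective Φ hΦ)
  obtain ⟨E⟩ := TFLoc.ExtDual.main (1 : Submodule O K) honefg hdim hone 1 ↥M ↥M
  let E' := E.trans (TFLoc.ExtDual.extCongr eD.symm.toModuleIso eD.symm.toModuleIso 1)
  -- the sequence of the ideal
  have hc : I.mkQ ∘ₗ I.subtype = 0 := LinearMap.ext fun x => (Submodule.Quotient.mk_eq_zero I).2 x.2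
  have hS : (ModuleCat.shortComplexOfCompEqZero I.subtype I.mkQ hc).ShortExact :=
    ModuleCat.shortComplex_shortExact _ (LinearMap.exact_subtype_mkQ I) Subtype.val_injective (Submodule.mkQ_surjective _)
  haveI : NoZeroSMulDivisors O ↥I := ⟨fun {a x} h => (smul_eq_zero.1 (congrArg Subtype.val h : a • (x : O) = 0)).imp id Subtype.ext⟩
  haveI hIv := TFLoc.subsingleton_ext (O := O) (↥(1 : Submodule O K)) K ↥I 1 le_rfl
  let eO : O ≃ₗ[O] ↥(1 : Submodule O K) :=
    (LinearEquiv.ofInjective (Algebra.linearMap O K) (IsFractionRing.injective O K)).trans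
      (LinearEquiv.ofEq _ _ (Submodule.one_eq_range).symm)
  have hIO : Subsingleton (Abelian.Ext (ModuleCat.of O ↥I) (ModuleCat.of O O) 1) :=
    (TFLoc.ExtDual.extCongr (Iso.refl (ModuleCat.of O ↥I)) eO.toModuleIso 1).toEquiv.subsingleton
  let δ := (hS.extClass.postcomp (ModuleCat.of O ↥I) (a := 0) (b := 1) rfl)
  -- maps to the quotient do not lift
  have hzero : ∀ f : ↥I →ₗ[O] O, ∀ b : ↥I, f b ∈ I := by
    intro f
    let f₁ : (↥M →ₗ[O] ↥(1 : Submodule O K)) →ₗ[O] ↥(1 : Submodule O K) := eO.toLinearMap ∘ₗ f ∘ₗ eD.symm.toLinearMap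
    obtain ⟨m, hm⟩ := (TFLoc.ExtDual.eval_bijective (1 : Submodule O K) honefg hdim hone ↥M).2 f₁
    intro b
    have h1 := LinearMap.congr_fun hm (eD b)
    have h2 : (algebraMap O K (f b)) = algebraMap O K (b : O) * (m : K) := by
      have h3 : f₁ (eD b) = eO (f b) := by simp [f₁]
      exact ((congrArg Subtype.val h3).symm.trans (congrArg Subtype.val h1).symm :)
    refine (show algebraMap O K (f b) ∈ J from ?_)
    rw [h2]
    refine Submodule.mem_div_iff_forall_mul_mem.2 fun y hy => ?_
    rw [mul_assoc]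
    exact Submodule.mem_div_iff_forall_mul_mem.1 (show algebraMap O K (b : O) ∈ J from b.2) _ (M.mul_mem m.2 hy)
  have hδ : Function.Bijective δ := by
    refine ⟨(injective_iff_map_eq_zero _).2 fun x hx => ?_, fun x => ?_⟩
    · obtain ⟨y, hy⟩ := Abelian.Ext.covariant_sequence_exact₃ (ModuleCat.of O ↥I) hS x (n₁ := 1) rfl hx
      obtain ⟨g, rfl⟩ := (Abelian.Ext.mk₀_bijective _ _).2 y
      rw [← hy, Abelian.Ext.mk₀_comp_mk₀, Abelian.Ext.mk₀_eq_zero_iff]
      exact ModuleCat.hom_ext (LinearMap.ext fun b => (Submodule.Quotient.mk_eq_zero I).2 (hzero g.hom b))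
    · exact Abelian.Ext.covariant_sequence_exact₁ _ hS x (hIO.elim _ _) rfl
  exact ⟨E'.trans ((AddEquiv.ofBijective δ hδ).symm.trans
    (Abelian.Ext.addEquiv₀.trans ((ModuleCat.homAddEquiv (M := ModuleCat.of O ↥I) (N := ModuleCat.of O (O ⧸ I))).trans
      (LinearEquiv.congrLeft (O ⧸ I) O eI).toAddEquiv)))⟩

end Groth.Agent.S15040
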