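import Groth.Statements.S15041
import Groth.Agent.TFSemigroup.MonoExt

set_option autoImplicit false
universe u
open CategoryTheory
open TFCurv

namespace Groth.Agent.S15041

theorem mem_closure (n : ℕ) :
    n ∈ AddSubmonoid.closure ({3, 4} : Set ℕ) ↔ n = 0 ∨ n = 3 ∨ n = 4 ∨ 6 ≤ n := by
  constructor
  · intro h
    induction h using AddSubmonoid.closure_induction with
    | mem x hx => rcases hx with rfl | rfl <;> omega
    | zero => omega
    | add x y _ _ hx hy => omega
  · intro h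
    have h2 : ∀ a b, 3 * a + 4 * b ∈ AddSubmonoid.closure ({3, 4} : Set ℕ) := fun a b => by
      rw [mul_comm 3, mul_comm 4, ← smul_eq_mul, ← smul_eq_mul]
      exact add_mem (AddSubmonoid.nsmul_mem _ (AddSubmonoid.subset_closure (by simp)) a)
        (AddSubmonoid.nsmul_mem _ (AddSubmonoid.subset_closure (by simp)) b)
    obtain ⟨a, b, rfl⟩ : ∃ a b, n = 3 * a + 4 * b := by
      rcases (show n % 3 = 0 ∨ n % 3 = 1 ∨ n % 3 = 2 by omega) with h' | h' | h'
      · exact ⟨n / 3, 0, by omega⟩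
      · exact ⟨(n - 4) / 3, 1, by omega⟩
      · exact ⟨(n - 8) / 3, 2, by omega⟩
    exact h2 a b

open CategoryTheory PowerSeries in
theorem length_top {k : Type u} [Field k] {A : Subalgebra k (PowerSeries k)}
    (hmono : ∀ f : PowerSeries k, f ∈ A ↔ ∀ n : ℕ, coeff n f ≠ 0 → n ∈ AddSubmonoid.closure ({3, 4} : Set ℕ)) :
    Module.length ↥A (Abelian.Ext (ModuleCat.of ↥A ↥(Submodule.span ↥A ({1, (X : PowerSeries k), X ^ 2} : Set (PowerSeries k))))
      (ModuleCat.of ↥A ↥(Submodule.span ↥A ({1, (X : PowerSeries k), X ^ 2} : Set (PowerSeries k)))) 1) = 6 := by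
  classical
  let g : Fin 2 → PowerSeries k := ![X, X ^ 2]
  have hspan : Submodule.span ↥A ({1, (X : PowerSeries k), X ^ 2} : Set (PowerSeries k)) =
      Submodule.span ↥A (Set.range (Fin.cases 1 g : Fin (2 + 1) → PowerSeries k)) := by
    congr 1
    ext y
    simp [g, Fin.exists_fin_succ, eq_comm]
  have hN : ∀ f, f ∈ Submodule.span ↥A (Set.range (Fin.cases 1 g : Fin (2 + 1) → PowerSeries k)) := by
    intro f
    have e : (fun j : Fin (2 + 1) => (X : PowerSeries k) ^ (j : ℕ)) = (Fin.cases 1 g : Fin (2 + 1) → PowerSeries k) := by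
      funext j
      fin_cases j
      · exact pow_zero _
      · exact pow_one _
      · rfl
    rw [← e, Groth.Agent.TFSemigroup.MonoExt.mem_span_iff hmono (fun j : Fin (2 + 1) => (j : ℕ))]
    intro q _
    by_cases h0 : q ∈ AddSubmonoid.closure ({3, 4} : Set ℕ)
    · exact ⟨0, by simp, by simpa using h0⟩
    · rw [mem_closure] at h0
      by_cases h2 : q = 2
      · exact ⟨⟨2, by omega⟩, by simp only; omega, (mem_closure _).mpr (by simp only; omega)⟩
      · exact ⟨⟨1, by omega⟩, by simp only; omega, (mem_closure _).mpr (by simp only; omega)⟩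
  rw [hspan]
  have hA0 : ∀ a ∈ A, ∀ q, (q = 1 ∨ q = 2 ∨ q = 5) → coeff q a = 0 := fun a ha q hq => by
    by_contra h
    have := (mem_closure q).mp ((hmono a).mp ha q h)
    omega
  have hX : ∀ b, b = 3 ∨ b = 4 ∨ 6 ≤ b → (X : PowerSeries k) ^ b ∈ A := fun b hb =>
    Groth.Agent.TFSemigroup.MonoExt.X_pow_mem hmono ((mem_closure b).mpr (by omega))
  have hC : ∀ h : Fin 2 → PowerSeries k,
      h ∈ Groth.Agent.TFSemigroup.Monomial.condC g ((X : PowerSeries k) ^ 6)
        (Submodule.span ↥A (Set.range (Fin.cases 1 g : Fin (2 + 1) → PowerSeries k))) ↔ ∀ j, X ^ 3 ∣ h j := by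
    intro h
    constructor
    · intro hh
      have key : ∀ a₁ a₂ : ↥A, (a₁ : PowerSeries k) * X + (a₂ : PowerSeries k) * X ^ 2 ∈ A →
          X ^ 6 ∣ (a₁ : PowerSeries k) * h 0 + (a₂ : PowerSeries k) * h 1 := by
        intro a₁ a₂ hm
        obtain ⟨y, -, e⟩ := hh ![a₁, a₂] (by
          show ∑ j, ((![a₁, a₂] : Fin 2 → ↥A) j : PowerSeries k) * g j ∈ A
          rw [Fin.sum_univ_two]
          exact hm)
        rw [Fin.sum_univ_two] at e
        exact ⟨y, e⟩
      have h1 := key ⟨X ^ 3, hX 3 (by omega)⟩ 0 (by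
        show X ^ 3 * X + 0 * X ^ 2 ∈ A
        rw [zero_mul, add_zero, ← pow_succ]; exact hX 4 (by omega))
      have h2 := key ⟨X ^ 4, hX 4 (by omega)⟩ (-⟨X ^ 3, hX 3 (by omega)⟩) (by
        show X ^ 4 * X + -X ^ 3 * X ^ 2 ∈ A
        rw [show (X : PowerSeries k) ^ 4 * X + -X ^ 3 * X ^ 2 = 0 by ring]; exact A.zero_mem)
      have d0 : X ^ 3 ∣ h 0 := by
        change X ^ 6 ∣ X ^ 3 * h 0 + (0 : PowerSeries k) * h 1 at h1
        rw [zero_mul, add_zero, show (X : PowerSeries k) ^ 6 = X ^ 3 * X ^ 3 by ring] at h1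
        exact (mul_dvd_mul_iff_left (pow_ne_zero 3 X_ne_zero)).mp h1
      have d1 : X ^ 3 ∣ h 1 := by
        change X ^ 6 ∣ X ^ 4 * h 0 + -X ^ 3 * h 1 at h2
        obtain ⟨w, hw⟩ := d0
        have h3 : X ^ 6 ∣ X ^ 4 * h 0 := ⟨X * w, by rw [hw]; ring⟩
        have h4 : X ^ 6 ∣ X ^ 3 * h 1 := by
          have := dvd_sub h3 h2
          rwa [show X ^ 4 * h 0 - (X ^ 4 * h 0 + -X ^ 3 * h 1) = X ^ 3 * h 1 by ring] at this
        rw [show (X : PowerSeries k) ^ 6 = X ^ 3 * X ^ 3 by ring] at h4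
        exact (mul_dvd_mul_iff_left (pow_ne_zero 3 X_ne_zero)).mp h4
      intro j
      fin_cases j
      · exact d0
      · exact d1
    · intro hh a ha
      have hm : (a 0 : PowerSeries k) * X + (a 1 : PowerSeries k) * X ^ 2 ∈ A := by
        have : ∑ j, (a j : PowerSeries k) * g j ∈ A := ha
        rwa [Fin.sum_univ_two] at this
      have e1 := hA0 _ hm 1 (by omega)
      have e2 := hA0 _ hm 2 (by omega)
      rw [map_add, coeff_succ_mul_X, coeff_mul_X_pow', if_neg (by omega), add_zero] at e1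
      rw [map_add, coeff_succ_mul_X, coeff_mul_X_pow', if_pos le_rfl, hA0 _ (a 0).2 1 (by omega), zero_add] at e2
      have hd : ∀ j, X ^ 3 ∣ (a j : PowerSeries k) := fun j => X_pow_dvd_iff.mpr fun q hq => by
        rcases Nat.eq_zero_or_pos q with rfl | hpos
        · fin_cases j
          · exact e1
          · exact e2
        · exact hA0 _ (a j).2 q (by omega)
      obtain ⟨y, hy⟩ : X ^ 6 ∣ ∑ j, (a j : PowerSeries k) * h j := Finset.dvd_sum fun j _ => by
        rw [show (6 : ℕ) = 3 + 3 from rfl, pow_add]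
        exact mul_dvd_mul (hd j) (hh j)
      exact ⟨y, hN y, hy⟩
  let Φ : (Fin 2 → PowerSeries k) →ₗ[k] (Fin 2 → Fin 3 → k) :=
    LinearMap.pi fun j => LinearMap.pi fun p => (coeff (3 + (p : ℕ))).comp (LinearMap.proj j)
  rw [Groth.Agent.TFSemigroup.Monomial.length_ext (Groth.Agent.TFSemigroup.MonoExt.hloc hmono) g
    ((X : PowerSeries k) ^ 6) (IsRegular.of_ne_zero (pow_ne_zero 6 X_ne_zero)) (hX 6 (by omega)) ?_
    _ (Fin 2 → Fin 3 → k) Φ ?_ ?_]
  · simp [Module.finrank_pi_fintype]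
  · intro j
    fin_cases j
    · show X ^ 6 * X ∈ A
      rw [← pow_succ]; exact hX 7 (by omega)
    · show X ^ 6 * X ^ 2 ∈ A
      rw [← pow_add]; exact hX 8 (by omega)
  · intro t
    refine ⟨fun j => mk fun q => if hq : 3 ≤ q ∧ q < 6 then t j ⟨q - 3, by omega⟩ else 0,
      (hC _).mpr fun j => X_pow_dvd_iff.mpr fun q hq => by rw [coeff_mk, dif_neg (by omega)], ?_⟩
    funext j p
    simp only [Φ, LinearMap.pi_apply, LinearMap.comp_apply, LinearMap.proj_apply]
    rw [coeff_mk, dif_pos (by omega)]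
    congr 1
    ext
    simp
  · intro h hh
    rw [hC] at hh
    constructor
    · intro h0
      have hd : ∀ j, X ^ 6 ∣ h j := fun j => X_pow_dvd_iff.mpr fun q hq => by
        by_cases h3 : q < 3
        · exact X_pow_dvd_iff.mp (hh j) q h3
        · have := congrFun (congrFun h0 j) ⟨q - 3, by omega⟩
          simp only [Φ, LinearMap.pi_apply, LinearMap.comp_apply, LinearMap.proj_apply, Pi.zero_apply,
            show 3 + (q - 3) = q by omega] at this
          exact this
      choose z hz using hd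
      exact ⟨Fin.cases 0 z, fun _ => hN _, fun j => by
        show h j = _ * (z j - _ * 0)
        rw [hz j]; ring⟩
    · rintro ⟨v, -, hv⟩
      funext j p
      simp only [Φ, LinearMap.pi_apply, LinearMap.comp_apply, LinearMap.proj_apply]
      rw [hv j, coeff_X_pow_mul', if_neg (by omega)]
      rfl


/-- Let k be an algebraically closed field of characteristic zero and A ⊂ k[[t]] the complete local ring
of the E_6 singularity, i.e. the k-subalgebra of power series all of whose exponents lie in the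
semigroup generated by 3 and 4 (A = k[[t³, t⁴]]). Its rank-one torsion-free modules are A, M₁ = A +
A·t⁵, its dual M₁* = A + A·t, M₂ = A + A·t² and M₃ = A + A·t + A·t² = k[[t]], of index 0, 1, 1, 2,
3. Then Ext¹_A(M, M) has length 2·index(M): length 2 for M₁ and for M₁*, 4 for M₂ and 6 for M₃
(length over A equals k-dimension). As End_A(M₁) = End_A(M₁*) = M₁, End_A(M₂) = M₂, End_A(M₃) = M₃
have colength 1, 1, 2, 3 over A, this is the identity χ₁(M) = dim Ext¹(M, M) − dim(End(M)/A) =
index(M). -/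
theorem result (k : Type u) [Field k] [IsAlgClosed k] [CharZero k] (A : Subalgebra k (PowerSeries k)) (hmono : ∀ f : PowerSeries k, f ∈ A ↔ ∀ n : ℕ, PowerSeries.coeff n f ≠ 0 → n ∈ AddSubmonoid.closure ({3, 4} : Set ℕ)) : Module.length ↥A (Abelian.Ext (ModuleCat.of ↥A ↥(Submodule.span ↥A ({1, (PowerSeries.X : PowerSeries k) ^ 5} : Set (PowerSeries k)))) (ModuleCat.of ↥A ↥(Submodule.span ↥A ({1, (PowerSeries.X : PowerSeries k) ^ 5} : Set (PowerSeries k)))) 1) = 2 ∧ Module.length ↥A (Abelian.Ext (ModuleCat.of ↥A ↥(Submodule.span ↥A ({1, (PowerSeries.X : PowerSeries k)} : Set (PowerSeries k)))) (ModuleCat.of ↥A ↥(Submodule.span ↥A ({1, (PowerSeries.X : PowerSeries k)} : Set (PowerSeries k)))) 1) = 2 ∧ Module.length ↥A (Abelian.Ext (ModuleCat.of ↥A ↥(Submodule.span ↥A ({1, (PowerSeries.X : PowerSeries k) ^ 2} : Set (PowerSeries k)))) (ModuleCat.of ↥A ↥(Submodule.span ↥A ({1, (PowerSeries.X : PowerSeries k) ^ 2} : Set (PowerSeries k)))) 1) = 4 ∧ Module.length ↥A (Abelian.Ext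 (ModuleCat.of ↥A ↥(Submodule.span ↥A ({1, (PowerSeries.X : PowerSeries k), (PowerSeries.X : PowerSeries k) ^ 2} : Set (PowerSeries k)))) (ModuleCat.of ↥A ↥(Submodule.span ↥A ({1, (PowerSeries.X : PowerSeries k), (PowerSeries.X : PowerSeries k) ^ 2} : Set (PowerSeries k)))) 1) = 6 := by
  classical
  have hΓ := mem_closure
  have hc : ∀ n, 6 ≤ n → n ∈ AddSubmonoid.closure ({3, 4} : Set ℕ) := fun n hn => (hΓ n).mpr (by omega)
  refine ⟨?_, ?_, ?_, length_top hmono⟩
  · rw [Groth.Agent.TFSemigroup.MonoExt.length_ext_two hmono 6 5 hc _ {q | q = 0 ∨ 3 ≤ q} (fun f => by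
      rw [Groth.Agent.TFSemigroup.MonoExt.mem_span_pair_iff hmono]
      refine forall₂_congr fun q _ => ?_
      simp only [hΓ, Set.mem_setOf_eq]; omega) {7, 8} ?_]
    · rfl
    · intro q
      simp only [Finset.mem_insert, Finset.mem_singleton, hΓ, Set.mem_setOf_eq]
      refine ⟨fun h => ⟨fun b hb hb' => by omega, by omega⟩, fun ⟨h1, h2⟩ => ?_⟩
      have e1 := h1 3 (by omega) (by omega)
      have e2 := h1 4 (by omega) (by omega)
      omega
  · rw [show ({1, (PowerSeries.X : PowerSeries k)} : Set (PowerSeries k)) = {1, PowerSeries.X ^ 1} by rw [pow_one]]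
    rw [Groth.Agent.TFSemigroup.MonoExt.length_ext_two hmono 6 1 hc _ {q | q ≠ 2} (fun f => by
      rw [Groth.Agent.TFSemigroup.MonoExt.mem_span_pair_iff hmono]
      refine forall₂_congr fun q _ => ?_
      simp only [hΓ, Set.mem_setOf_eq]; omega) {3, 4} ?_]
    · rfl
    · intro q
      simp only [Finset.mem_insert, Finset.mem_singleton, hΓ, Set.mem_setOf_eq]
      refine ⟨fun h => ⟨fun b hb hb' => by omega, by omega⟩, fun ⟨h1, h2⟩ => ?_⟩
      have e1 := h1 3 (by omega) (by omega)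
      have e2 := h1 6 (by omega) (by omega)
      omega
  · rw [Groth.Agent.TFSemigroup.MonoExt.length_ext_two hmono 6 2 hc _ {q | q ≠ 1} (fun f => by
      rw [Groth.Agent.TFSemigroup.MonoExt.mem_span_pair_iff hmono]
      refine forall₂_congr fun q _ => ?_
      simp only [hΓ, Set.mem_setOf_eq]; omega) {2, 4, 5, 7} ?_]
    · rfl
    · intro q
      simp only [Finset.mem_insert, Finset.mem_singleton, hΓ, Set.mem_setOf_eq]
      refine ⟨fun h => ⟨fun b hb hb' => by omega, by omega⟩, fun ⟨h1, h2⟩ => ?_⟩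
      have e1 := h1 4 (by omega) (by omega)
      have e2 := h1 6 (by omega) (by omega)
      omega

end Groth.Agent.S15041
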