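import Groth.Statements.S15046
import Groth.Agent.QuietLib.Frobenius

set_option autoImplicit false
open CategoryTheory AlgebraicGeometry
universe u
open Quiet

namespace Groth.Agent.S15046

/-- Let `k` be a perfect field of prime characteristic `p` and `A` a smooth `k`-algebra of
characteristic `p`. Then the Frobenius endomorphism `a ↦ a ^ p` of `A` is faithfully flat, and the
endomorphism of `Spec A` it induces is an extraction of `p`-th roots: every point has an affine open
neighbourhood with affine preimage over which the induced ring map is a tower of finitely many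
elementary extractions `B → B[x]/(x^p - b)`. -/
theorem result (p : ℕ) [Fact p.Prime]
    (k : Type u) [Field k] [CharP k p] [PerfectRing k p] (A : Type u) [CommRing A] [Algebra k A]
    [CharP A p] [Algebra.Smooth k A] :
    (frobenius A p).FaithfullyFlat ∧
      Quiet.IsPthRoot p (Spec.map (CommRingCat.ofHom (frobenius A p))) := by
  let q : Spec (CommRingCat.of A) ⟶ Spec (CommRingCat.of k) :=
    Spec.map (CommRingCat.ofHom (algebraMap k A))
  have hq : Smooth q := (HasRingHomProperty.Spec_iff (P := @Smooth)).2
    (RingHom.smooth_algebraMap.2 inferInstance)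
  have hfrob : Spec.map (CommRingCat.ofHom (frobenius A p)) = FrobSch.frob (Spec (CommRingCat.of A)) p := by
    refine ext_of_isAffine ?_
    rw [← cancel_mono (Scheme.ΓSpecIso (CommRingCat.of A)).hom, Scheme.ΓSpecIso_naturality]
    refine CommRingCat.hom_ext (RingHom.ext fun s => ?_)
    simp [frobenius_def]
  have hroot : Quiet.IsPthRoot p (FrobSch.frob (Spec (CommRingCat.of A)) p) := by
    refine Groth.Agent.QuietLib.isPthRoot_frob _ fun x => ?_
    obtain ⟨U₀, hU₀, W, hW, hxW, hle, hstd⟩ := Smooth.exists_isStandardSmooth q x
    obtain ⟨d, g, -, hg⟩ := hstd.exists_etale_mvPolynomial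
    haveI : CharP Γ(Spec (CommRingCat.of A), W) p := Groth.Agent.QuietLib.charP_sections _ W hxW
    haveI : CharP Γ(Spec (CommRingCat.of k), U₀) p := Groth.Agent.QuietLib.charP_sections _ U₀ (hle hxW)
    have hU : U₀ = ⊤ := top_le_iff.1 fun y _ => by rw [Subsingleton.elim y (q x)]; exact hle hxW
    have hperf : Function.Bijective (frobenius Γ(Spec (CommRingCat.of k), U₀) p) := by
      subst hU
      let e := (Scheme.ΓSpecIso (CommRingCat.of k)).commRingCatIsoToRingEquiv
      have he : (frobenius Γ(Spec (CommRingCat.of k), ⊤) p : _ → _) = e.symm ∘ frobenius k p ∘ e := by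
        funext s
        apply e.injective
        simp only [Function.comp_apply, frobenius_def, map_pow, RingEquiv.apply_symm_apply]
      rw [he]
      exact e.symm.bijective.comp ((bijective_frobenius k p).comp e.bijective)
    letI := g.toAlgebra
    haveI : Algebra.Etale (MvPolynomial (Fin d) Γ(Spec (CommRingCat.of k), U₀)) Γ(Spec (CommRingCat.of A), W) := hg
    refine ⟨⟨W, hW⟩, hxW, d, ?_⟩
    have h := Groth.Agent.QuietLib.tower_frobenius p Γ(Spec (CommRingCat.of k), U₀)
      Γ(Spec (CommRingCat.of A), W) hperf d
    exact h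
  refine ⟨?_, hfrob ▸ hroot⟩
  have hflat : (frobenius A p).Flat := by
    have h := Groth.Agent.QuietLib.flat_of_isPthRoot (Fact.out : p.Prime).ne_zero _ hroot
    rw [← hfrob, HasRingHomProperty.Spec_iff (P := @Flat)] at h
    exact h
  rw [RingHom.FaithfullyFlat.iff_flat_and_comap_surjective]
  refine ⟨hflat, fun P => ⟨P, PrimeSpectrum.ext (Ideal.ext fun a => ?_)⟩⟩
  simp only [PrimeSpectrum.comap_asIdeal, Ideal.mem_comap, frobenius_def]
  exact P.isPrime.pow_mem_iff_mem p (Fact.out : p.Prime).pos

end Groth.Agent.S15046
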