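import Groth.Statements.S15047
import Groth.Agent.S1156
import Mathlib.RingTheory.Flat.FaithfullyFlat.Algebra

set_option autoImplicit false
universe u
open TensorProduct
open Desc

namespace Groth.Agent.S15047

/-- Let A → A' be a faithfully flat homomorphism of commutative rings and M, N any A-modules. An
A'-linear map f : A' ⊗_A M → A' ⊗_A N whose two base changes to A' ⊗_A A' (along a ↦ a ⊗ 1 and a ↦ 1
⊗ a) coincide is the base change of a unique A-linear map h : M → N. Since (A' ⊗_A A') ⊗_A M is
generated over A' ⊗_A A' by the elements 1 ⊗ m, the agreement of the two base changes is stated on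
these generators: for every m, the two images of f (1 ⊗ m) in (A' ⊗_A A') ⊗_A N agree. Equivalently,
the sequence Hom_A(M, N) → Hom_{A'}(A' ⊗ M, A' ⊗ N) ⇉ Hom_{A' ⊗ A'}(A' ⊗ A' ⊗ M, A' ⊗ A' ⊗ N) is an
equalizer diagram. -/
theorem result (A A' : Type u) [CommRing A] [CommRing A'] [Algebra A A']
    [Module.FaithfullyFlat A A'] (M N : Type u) [AddCommGroup M] [Module A M] [AddCommGroup N] [Module A N]
    (f : A' ⊗[A] M →ₗ[A'] A' ⊗[A] N)
    (hf : ∀ m : M,
      LinearMap.rTensor N (Algebra.TensorProduct.includeLeft : A' →ₐ[A] A' ⊗[A] A').toLinearMap (f (1 ⊗ₜ[A] m)) =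
        LinearMap.rTensor N (Algebra.TensorProduct.includeRight : A' →ₐ[A] A' ⊗[A] A').toLinearMap (f (1 ⊗ₜ[A] m))) :
    ∃! h : M →ₗ[A] N, h.baseChange A' = f := by
  let i0 : N →ₗ[A] A' ⊗[A] N := TensorProduct.mk A A' N 1
  have hinj : ∀ (P : Type u) [AddCommGroup P] [Module A P], Function.Injective (TensorProduct.mk A A' P 1) :=
    fun P _ _ => Module.FaithfullyFlat.tensorProduct_mk_injective _
  have h1 : ∀ m : M, ∃ n : N, (1 : A') ⊗ₜ[A] n = f (1 ⊗ₜ[A] m) := fun m => by
    refine S1156.result A A' N _ ?_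
    have e1 : (TensorProduct.assoc A A' A' N).toLinearMap ∘ₗ
        LinearMap.rTensor N (Algebra.TensorProduct.includeLeft : A' →ₐ[A] A' ⊗[A] A').toLinearMap =
        LinearMap.lTensor A' (TensorProduct.mk A A' N 1) := by
      ext b n; simp
    have e2 : (TensorProduct.assoc A A' A' N).toLinearMap ∘ₗ
        LinearMap.rTensor N (Algebra.TensorProduct.includeRight : A' →ₐ[A] A' ⊗[A] A').toLinearMap =
        TensorProduct.mk A A' (A' ⊗[A] N) 1 := by
      ext b n; simp
    rw [← e1, ← e2, LinearMap.comp_apply, LinearMap.comp_apply, hf m]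
  choose h0 hh0 using h1
  let h : M →ₗ[A] N :=
    { toFun := h0
      map_add' := fun a b => hinj N (by simp [hh0, TensorProduct.tmul_add, map_add])
      map_smul' := fun r a => hinj N (by
        simp only [TensorProduct.mk_apply, hh0, RingHom.id_apply, TensorProduct.tmul_smul]
        rw [← IsScalarTower.algebraMap_smul A' r ((1 : A') ⊗ₜ[A] a), map_smul, IsScalarTower.algebraMap_smul]) }
  refine ⟨h, ?_, fun h' hh' => ?_⟩
  · refine TensorProduct.AlgebraTensorModule.curry_injective (LinearMap.ext_ring (LinearMap.ext fun m => ?_))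
    simp [h, hh0]
  · refine LinearMap.ext fun m => hinj N ?_
    have := LinearMap.congr_fun hh' ((1 : A') ⊗ₜ[A] m)
    simp only [LinearMap.baseChange_tmul] at this
    simp [h, hh0, this]


end Groth.Agent.S15047
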