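import Mathlib.RingTheory.FormalGroup.Basic
import Mathlib.RingTheory.DiscreteValuationRing.Basic
import Mathlib.RingTheory.LocalRing.ResidueField.Defs
import Mathlib.SetTheory.Cardinal.Finite
import Groth.Agent.LTLib.LT

set_option autoImplicit false
universe u
namespace LubinTate
end LubinTate
open LubinTate

namespace Groth.Agent.S15049

/-- Let O be a discrete valuation ring with finite residue field of cardinality q, π a uniformizer of O,
and f = πT + T^q ∈ O[[T]]. Then there is a one-dimensional commutative formal group law F(X,Y) over
O for which f is an endomorphism, f(F(X,Y)) = F(f(X), f(Y)); and F is the unique power series in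
O[[X,Y]] with zero constant term and linear part X + Y satisfying this identity. (The published
statement is for the ring of integers of a finite extension of ℚ_p or of 𝔽_q((X)); completeness is
not used and any discrete valuation ring with finite residue field is allowed here.) -/
theorem result (O : Type u) [CommRing O] [IsDomain O] [IsDiscreteValuationRing O]
    [Finite (IsLocalRing.ResidueField O)] (π : O) (hπ : Irreducible π) (f : PowerSeries O)
    (hf : f = π • PowerSeries.X + PowerSeries.X ^ Nat.card (IsLocalRing.ResidueField O)) :
    ∃ F : FormalGroup O, F.IsComm ∧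
      PowerSeries.subst F.toPowerSeries f =
        MvPowerSeries.subst (fun i : Fin 2 => PowerSeries.subst (MvPowerSeries.X i : MvPowerSeries (Fin 2) O) f) F.toPowerSeries ∧
      ∀ G : MvPowerSeries (Fin 2) O, G.constantCoeff = 0 → G.coeff (Finsupp.single 0 1) = 1 →
        G.coeff (Finsupp.single 1 1) = 1 →
        PowerSeries.subst G f =
        MvPowerSeries.subst (fun i : Fin 2 => PowerSeries.subst (MvPowerSeries.X i : MvPowerSeries (Fin 2) O) f) G →
        G = F.toPowerSeries := by
  open Groth.Agent.LTLib MvPowerSeries Finsupp in
  classical
  have hq := two_le_resCard (O := O)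
  obtain ⟨F, hF0, hFc, hF1⟩ := exists_comm (σ := Fin 2) hπ (fun _ => (1 : O))
  have hX : ∀ {n : ℕ} (i : Fin n), constantCoeff (X i : MvPowerSeries (Fin n) O) = 0 :=
    fun i => constantCoeff_X i
  have hXX : ∀ {n : ℕ} (i j : Fin n), Comm π (resCard O)
      (subst ![X i, X j] F : MvPowerSeries (Fin n) O) := fun i j =>
    comm_subst π (by omega) hFc (fun s => by fin_cases s <;> simp)
      (fun s => by fin_cases s <;> exact comm_X π (by omega) _)
  have hXX0 : ∀ {n : ℕ} (i j : Fin n),
      constantCoeff (subst ![X i, X j] F : MvPowerSeries (Fin n) O) = 0 := fun i j =>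
    constantCoeff_subst_eq_zero HasSubst.X_X (fun s => by fin_cases s <;> simp) hF0
  let G : FormalGroup O :=
    { toPowerSeries := F
      zero_constantCoeff := hF0
      lin_coeff_X := hF1 0
      lin_coeff_Y := hF1 1
      assoc := by
        have hl0 : ∀ s : Fin 2, constantCoeff
            ((![subst ![X 0, X 1] F, X 2] : Fin 2 → MvPowerSeries (Fin 3) O) s) = 0 := fun s => by
          fin_cases s <;> simp [hXX0]
        have hr0 : ∀ s : Fin 2, constantCoeff
            ((![X 0, subst ![X 1, X 2] F] : Fin 2 → MvPowerSeries (Fin 3) O) s) = 0 := fun s => by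
          fin_cases s <;> simp [hXX0]
        refine comm_ext hπ (constantCoeff_subst_eq_zero (hasSubst_of_constantCoeff_zero hl0) hl0 hF0)
          (constantCoeff_subst_eq_zero (hasSubst_of_constantCoeff_zero hr0) hr0 hF0)
          (comm_subst π (by omega) hFc hl0 fun s => ?_) (comm_subst π (by omega) hFc hr0 fun s => ?_)
          fun j => ?_
        · fin_cases s
          · exact hXX 0 1
          · exact comm_X π (by omega) _
        · fin_cases s
          · exact comm_X π (by omega) _
          · exact hXX 1 2
        · rw [coeff_single_subst _ hl0, coeff_single_subst _ hr0, Fin.sum_univ_two, Fin.sum_univ_two]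
          have hlin : ∀ i k : Fin 3, coeff (single j 1) (subst ![X i, X k] F) =
              coeff (single j 1) (X i : MvPowerSeries (Fin 3) O) + coeff (single j 1) (X k) := by
            intro i k
            rw [coeff_single_subst _ (fun s => by fin_cases s <;> simp), Fin.sum_univ_two, hF1, hF1,
              one_mul, one_mul]
            rfl
          simp only [hF1, one_mul, Matrix.cons_val_zero, Matrix.cons_val_one,
            Matrix.cons_val_fin_one, hlin, add_assoc] }
  refine ⟨G, ⟨?_⟩, ?_, fun K hK0 hKX hKY hK => ?_⟩
  · refine comm_ext hπ hF0 (hXX0 1 0) hFc (hXX 1 0) fun j => ?_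
    show coeff (single j 1) F = coeff (single j 1) (subst ![X 1, X 0] F)
    rw [hF1, coeff_single_subst _ (fun s => by fin_cases s <;> simp), Fin.sum_univ_two, hF1, hF1]
    fin_cases j <;> simp [coeff_X, single_left_inj (one_ne_zero (α := ℕ))]
  · exact (comm_iff_subst π _ hF0 hf).1 hFc
  · refine comm_ext hπ hK0 hF0 ((comm_iff_subst π _ hK0 hf).2 hK) hFc fun i => ?_
    rw [hF1]
    fin_cases i
    · exact hKX
    · exact hKY

end Groth.Agent.S15049
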