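import Groth.Statements.S1505
import Groth.Agent.FlatMor.PC.Instances

set_option autoImplicit false
universe u
attribute [local instance] HasDerivedCategory.standard
open FlatMor
open Groth.Agent.FlatMor

namespace Groth.Agent.S1505

open AlgebraicGeometry CategoryTheory Limits in
/-- Let S' → S be flat, surjective and quasi-compact and f' the base change of f : X → S. If f' is
pseudo-coherent then so is f. -/
theorem result {X S X' S' : Scheme.{u}} (f : X ⟶ S) (f' : X' ⟶ S') (g' : X' ⟶ X) (g : S' ⟶ S)
    [Flat g] [Surjective g] [QuasiCompact g] (hc : IsPullback g' f' f g) (hf' : MoreMor.IsPseudoCoherentMor f') : MoreMor.IsPseudoCoherentMor f := by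
  exact PC.localHom_pc.mor_descend f f' g' g hc hf'

end Groth.Agent.S1505
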