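import Mathlib.RingTheory.FormalGroup.Basic
import Mathlib.RingTheory.DiscreteValuationRing.Basic
import Mathlib.RingTheory.LocalRing.ResidueField.Defs
import Mathlib.SetTheory.Cardinal.Finite
import Groth.Agent.LTLib.LT

set_option autoImplicit false
universe u
namespace LubinTate
end LubinTate
open LubinTate

namespace Groth.Agent.S15050

/-- Let O be a discrete valuation ring with finite residue field of cardinality q, π a uniformizer of O,
and f = πT + T^q ∈ O[[T]]. For every α ∈ O there is a unique power series g = [α] ∈ O[[T]] with zero
constant term and linear coefficient α which commutes with f under substitution, g(f(T)) = f(g(T)).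
(The published statement is for the ring of integers of a finite extension of ℚ_p or of 𝔽_q((X));
completeness is not used and any discrete valuation ring with finite residue field is allowed here.) -/
theorem result (O : Type u) [CommRing O] [IsDomain O] [IsDiscreteValuationRing O]
    [Finite (IsLocalRing.ResidueField O)] (π : O) (hπ : Irreducible π) (f : PowerSeries O)
    (hf : f = π • PowerSeries.X + PowerSeries.X ^ Nat.card (IsLocalRing.ResidueField O)) (α : O) :
    ∃! g : PowerSeries O, g.constantCoeff = 0 ∧ g.coeff 1 = α ∧
      PowerSeries.subst g f = PowerSeries.subst f g := by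
  open Groth.Agent.LTLib MvPowerSeries in
  classical
  have hfX : (fun i : Unit => PowerSeries.subst (MvPowerSeries.X i : MvPowerSeries Unit O) f) =
      fun _ => f := by
    funext i
    exact PowerSeries.X_subst f
  have key : ∀ g : PowerSeries O, PowerSeries.constantCoeff g = 0 →
      (Comm π (resCard O) (g : MvPowerSeries Unit O) ↔ PowerSeries.subst g f = PowerSeries.subst f g) := by
    intro g hg
    rw [comm_iff_subst π _ (φ := (g : MvPowerSeries Unit O)) hg hf, hfX]
    exact Iff.rfl
  obtain ⟨g, hg0, hgc, hg1⟩ := exists_comm (σ := Unit) hπ (fun _ => α)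
  refine ⟨g, ⟨hg0, hg1 (), (key g hg0).1 hgc⟩, ?_⟩
  rintro k ⟨hk0, hk1, hkf⟩
  exact comm_ext hπ hk0 hg0 ((key k hk0).2 hkf) hgc fun _ => hk1.trans (hg1 ()).symm

end Groth.Agent.S15050
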