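import Mathlib.RingTheory.FormalGroup.Basic
import Mathlib.RingTheory.DiscreteValuationRing.Basic
import Mathlib.RingTheory.LocalRing.ResidueField.Defs
import Mathlib.SetTheory.Cardinal.Finite
import Groth.Agent.LTLib.LT

set_option autoImplicit false
universe u
namespace LubinTate
end LubinTate
open LubinTate

namespace Groth.Agent.S15051

/-- Let O be a discrete valuation ring with finite residue field of cardinality q, π a uniformizer of O,
and f = πT + T^q ∈ O[[T]]; let F be a one-dimensional formal group law over O for which f is an
endomorphism, f(F(X,Y)) = F(f(X), f(Y)), and g ∈ O[[T]] a power series with zero constant term which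
commutes with f, g(f(T)) = f(g(T)). Then g is an endomorphism of F, that is g(F(X,Y)) = F(g(X),
g(Y)); so α ↦ [α] maps O into the endomorphisms of the Lubin–Tate formal group. (The published
statement is for the ring of integers of a finite extension of ℚ_p or of 𝔽_q((X)); completeness is
not used and any discrete valuation ring with finite residue field is allowed here.) -/
theorem result (O : Type u) [CommRing O] [IsDomain O] [IsDiscreteValuationRing O]
    [Finite (IsLocalRing.ResidueField O)] (π : O) (hπ : Irreducible π) (f : PowerSeries O)
    (hf : f = π • PowerSeries.X + PowerSeries.X ^ Nat.card (IsLocalRing.ResidueField O))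
    (F : FormalGroup O)
    (hF : PowerSeries.subst F.toPowerSeries f =
        MvPowerSeries.subst (fun i : Fin 2 => PowerSeries.subst (MvPowerSeries.X i : MvPowerSeries (Fin 2) O) f) F.toPowerSeries)
    (g : PowerSeries O) (hg0 : g.constantCoeff = 0)
    (hgf : PowerSeries.subst g f = PowerSeries.subst f g) :
    PowerSeries.subst F.toPowerSeries g =
      MvPowerSeries.subst (fun i : Fin 2 => PowerSeries.subst (MvPowerSeries.X i : MvPowerSeries (Fin 2) O) g)
        F.toPowerSeries := by
  open Groth.Agent.LTLib MvPowerSeries Finsupp in
  classical
  have hq := two_le_resCard (O := O)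
  have hfX : (fun i : Unit => PowerSeries.subst (MvPowerSeries.X i : MvPowerSeries Unit O) f) =
      fun _ => f := by
    funext i
    exact PowerSeries.X_subst f
  have key : ∀ g : PowerSeries O, PowerSeries.constantCoeff g = 0 →
      PowerSeries.subst g f = PowerSeries.subst f g →
      Comm π (resCard O) (g : MvPowerSeries Unit O) := by
    intro g hg hgf
    rw [comm_iff_subst π _ (φ := (g : MvPowerSeries Unit O)) hg hf, hfX]
    exact hgf
  have hFc : Comm π (resCard O) F.toPowerSeries :=
    (comm_iff_subst π _ F.zero_constantCoeff hf).2 hF
  have hlinF : ∀ i : Fin 2, coeff (single i 1) F.toPowerSeries = 1 := fun i => by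
    fin_cases i
    · exact F.lin_coeff_X
    · exact F.lin_coeff_Y
  have hgc := key g hg0 hgf
  have hgi : ∀ i : Fin 2, constantCoeff
      (PowerSeries.subst (X i : MvPowerSeries (Fin 2) O) g) = 0 := fun i =>
    PowerSeries.constantCoeff_subst_eq_zero (constantCoeff_X i) g hg0
  refine comm_ext hπ (PowerSeries.constantCoeff_subst_eq_zero F.zero_constantCoeff g hg0)
    (constantCoeff_subst_eq_zero (hasSubst_of_constantCoeff_zero hgi) hgi F.zero_constantCoeff)
    (comm_subst π (by omega) hgc (fun _ => F.zero_constantCoeff) fun _ => hFc)
    (comm_subst π (by omega) hFc hgi fun i =>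
      comm_subst π (by omega) hgc (fun _ => constantCoeff_X i) fun _ => comm_X π (by omega) i)
    fun j => ?_
  have h1 : coeff (single j 1) (PowerSeries.subst F.toPowerSeries g) =
      coeff (single () 1) g * coeff (single j 1) F.toPowerSeries :=
    (coeff_single_subst (σ := Unit) _ (fun _ => F.zero_constantCoeff) g j).trans
      (Finset.sum_singleton _ _)
  have h2 : ∀ i, coeff (single j 1) (PowerSeries.subst (X i : MvPowerSeries (Fin 2) O) g) =
      coeff (single () 1) g * coeff (single j 1) (X i : MvPowerSeries (Fin 2) O) := fun i =>
    (coeff_single_subst (σ := Unit) _ (fun _ => constantCoeff_X i) g j).trans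
      (Finset.sum_singleton _ _)
  rw [h1, coeff_single_subst _ hgi, Fin.sum_univ_two, h2, h2, hlinF, hlinF, hlinF, one_mul, one_mul,
    ← mul_add]
  fin_cases j <;> simp [coeff_X, single_left_inj (one_ne_zero (α := ℕ))]

end Groth.Agent.S15051
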