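import Mathlib.RingTheory.FormalGroup.Basic
import Mathlib.RingTheory.DiscreteValuationRing.Basic
import Mathlib.RingTheory.LocalRing.ResidueField.Defs
import Mathlib.SetTheory.Cardinal.Finite
import Mathlib.RingTheory.Localization.FractionRing
import Groth.Agent.LTLib.LT
import Groth.Agent.LTLib.Log

set_option autoImplicit false
universe u
namespace LubinTate
end LubinTate
open LubinTate

namespace Groth.Agent.S15052

/-- Let O be a discrete valuation ring with finite residue field of cardinality q, π a uniformizer of O,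
and f = πT + T^q ∈ O[[T]]; let K be the fraction field of O and F a one-dimensional formal group law
over O for which f is an endomorphism, f(F(X,Y)) = F(f(X), f(Y)). Then there is a unique power
series ℓ ∈ K[[T]] with zero constant term and linear coefficient 1 such that ℓ(f(T)) = π·ℓ(T); this
logarithm is a homomorphism to the additive formal group, ℓ(F(T,S)) = ℓ(T) + ℓ(S), and it is
O-linear in the sense that ℓ(g(T)) = α·ℓ(T) for every α ∈ O and every series g ∈ O[[T]] with zero
constant term and linear coefficient α commuting with f. (The published statement is for the ring of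
integers of a finite extension of ℚ_p; completeness is not used and any discrete valuation ring with
finite residue field is allowed here.) -/
theorem result (O : Type u) [CommRing O] [IsDomain O] [IsDiscreteValuationRing O]
    [Finite (IsLocalRing.ResidueField O)] (K : Type u) [Field K] [Algebra O K] [IsFractionRing O K]
    (π : O) (hπ : Irreducible π) (f : PowerSeries O)
    (hf : f = π • PowerSeries.X + PowerSeries.X ^ Nat.card (IsLocalRing.ResidueField O))
    (F : FormalGroup O)
    (hF : PowerSeries.subst F.toPowerSeries f =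
        MvPowerSeries.subst (fun i : Fin 2 => PowerSeries.subst (MvPowerSeries.X i : MvPowerSeries (Fin 2) O) f) F.toPowerSeries) :
    ∃ ℓ : PowerSeries K, (ℓ.constantCoeff = 0 ∧ ℓ.coeff 1 = 1 ∧
      PowerSeries.subst (PowerSeries.map (algebraMap O K) f) ℓ = algebraMap O K π • ℓ) ∧
      (∀ ℓ' : PowerSeries K, ℓ'.constantCoeff = 0 → ℓ'.coeff 1 = 1 →
        PowerSeries.subst (PowerSeries.map (algebraMap O K) f) ℓ' = algebraMap O K π • ℓ' → ℓ' = ℓ) ∧
      PowerSeries.subst ((F.toPowerSeries).map (algebraMap O K)) ℓ =
        PowerSeries.subst (MvPowerSeries.X (0 : Fin 2) : MvPowerSeries (Fin 2) K) ℓ +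
          PowerSeries.subst (MvPowerSeries.X (1 : Fin 2) : MvPowerSeries (Fin 2) K) ℓ ∧
      (∀ (α : O) (g : PowerSeries O), g.constantCoeff = 0 → g.coeff 1 = α →
        PowerSeries.subst g f = PowerSeries.subst f g →
        PowerSeries.subst (PowerSeries.map (algebraMap O K) g) ℓ = algebraMap O K α • ℓ) := by
  open Groth.Agent.LTLib MvPowerSeries in
  classical
  have hq := two_le_resCard (O := O)
  set h := algebraMap O K with hh
  have hu : ∀ m, 2 ≤ m → IsUnit (h π ^ m - h π) := by
    intro m hm
    rw [isUnit_iff_ne_zero, ← map_pow, ← map_sub, Ne, map_eq_zero_iff _ (IsFractionRing.injective O K),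
      ← neg_sub, neg_eq_zero, pi_sub_pow m (by omega), mul_eq_zero]
    rintro (h0 | h0)
    · exact hπ.ne_zero h0
    · exact (isUnit_one_sub hπ (show 1 ≤ m - 1 by omega)).ne_zero h0
  have hfK : PowerSeries.map h f =
      (h π • PowerSeries.X + PowerSeries.X ^ resCard O : PowerSeries K) := by
    rw [hf, map_add, map_pow, PowerSeries.smul_eq_C_mul, map_mul, PowerSeries.map_C,
      PowerSeries.map_X, ← PowerSeries.smul_eq_C_mul]
  have hfX : (fX (h π) (resCard O) : Unit → MvPowerSeries Unit K) = fun _ => PowerSeries.map h f := by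
    funext _
    rw [hfK]
    rfl
  have hdef : ∀ ψ : PowerSeries K, logDefect (h π) (resCard O) (ψ : MvPowerSeries Unit K) = 0 ↔
      PowerSeries.subst (PowerSeries.map h f) ψ = h π • ψ := by
    intro ψ
    rw [logDefect, sub_eq_zero, hfX]
    rfl
  obtain ⟨ℓ, hℓ0, hℓ1, hℓd⟩ := log_exists (σ := Unit) hq hu (MvPowerSeries.X ())
    (constantCoeff_X _)
  have hℓ1' : PowerSeries.coeff 1 (ℓ : PowerSeries K) = 1 :=
    (hℓ1 ()).trans (coeff_index_single_self_X ())
  have hℓs : PowerSeries.subst (h π • PowerSeries.X + PowerSeries.X ^ resCard O : PowerSeries K)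
      (ℓ : PowerSeries K) = h π • ℓ := by
    rw [← hfK]
    exact (hdef ℓ).1 hℓd
  refine ⟨ℓ, ⟨hℓ0, hℓ1', (hdef ℓ).1 hℓd⟩, fun ℓ' h0 h1 h2 => ?_, ?_, fun α g hg0 hg1 hgf => ?_⟩
  · exact log_unique hq hu h0 hℓ0 ((hdef ℓ').2 h2) hℓd fun _ => h1.trans hℓ1'.symm
  · have hF0 : constantCoeff (MvPowerSeries.map h F.toPowerSeries) = 0 := by
      rw [constantCoeff_map, F.zero_constantCoeff, map_zero]
    have hFc : Comm (h π) (resCard O) (MvPowerSeries.map h F.toPowerSeries) :=
      comm_map h (by omega) ((comm_iff_subst π _ F.zero_constantCoeff hf).2 hF)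
    have hX : ∀ i : Fin 2, logDefect (h π) (resCard O)
        (PowerSeries.subst (MvPowerSeries.X i : MvPowerSeries (Fin 2) K) ℓ) = 0 := fun i =>
      logDefect_subst hq hℓs (constantCoeff_X i) (comm_X _ (by omega) i)
    have hX0 : ∀ i : Fin 2, constantCoeff
        (PowerSeries.subst (MvPowerSeries.X i : MvPowerSeries (Fin 2) K) ℓ) = 0 := fun i =>
      PowerSeries.constantCoeff_subst_eq_zero (constantCoeff_X i) _ hℓ0
    refine log_unique hq hu (PowerSeries.constantCoeff_subst_eq_zero hF0 _ hℓ0)
      (by rw [map_add, hX0, hX0, add_zero]) (logDefect_subst hq hℓs hF0 hFc) ?_ fun j => ?_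
    · have h0 := hX 0
      have h1 := hX 1
      rw [logDefect, sub_eq_zero] at h0 h1 ⊢
      rw [subst_add (hasSubst_fX _ (by omega)), h0, h1, smul_add]
    · rw [map_add, coeff_single_powerSeries_subst hF0, coeff_single_powerSeries_subst (constantCoeff_X _),
        coeff_single_powerSeries_subst (constantCoeff_X _), hℓ1', one_mul, one_mul, one_mul, coeff_map]
      fin_cases j
      · simp [F.lin_coeff_X, coeff_X, Finsupp.single_left_inj]
      · simp [F.lin_coeff_Y, coeff_X, Finsupp.single_left_inj]
  · have hgc : Comm π (resCard O) (g : MvPowerSeries Unit O) := by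
      rw [comm_iff_subst π _ (φ := (g : MvPowerSeries Unit O)) hg0 hf]
      have e : (fun i : Unit => PowerSeries.subst (MvPowerSeries.X i : MvPowerSeries Unit O) f) =
          fun _ => f := by
        funext i
        exact PowerSeries.X_subst f
      rw [e]
      exact hgf
    have hgK0 : constantCoeff (MvPowerSeries.map h (g : MvPowerSeries Unit O)) = 0 := by
      rw [constantCoeff_map, show constantCoeff (g : MvPowerSeries Unit O) = 0 from hg0, map_zero]
    refine log_unique (σ := Unit) hq hu (PowerSeries.constantCoeff_subst_eq_zero hgK0 _ hℓ0)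
      (show constantCoeff ((h α • ℓ : MvPowerSeries Unit K)) = 0 by
        rw [smul_eq_C_mul, map_mul, hℓ0, mul_zero])
      (logDefect_subst hq hℓs hgK0 (comm_map h (by omega) hgc)) ?_ fun j => ?_
    · show logDefect (h π) (resCard O) (h α • ℓ) = 0
      rw [logDefect, sub_eq_zero] at hℓd ⊢
      rw [subst_smul (hasSubst_fX _ (by omega)), hℓd, smul_comm]
    · show coeff (Finsupp.single j 1) (PowerSeries.subst (MvPowerSeries.map h g) ℓ) =
        coeff (Finsupp.single j 1) (h α • ℓ)
      rw [coeff_single_powerSeries_subst hgK0, hℓ1', one_mul, coeff_map, map_smul, smul_eq_mul, hℓ1,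
        coeff_index_single_self_X, mul_one]
      exact congrArg h hg1

end Groth.Agent.S15052
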