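import Groth.Statements.S15055
import Groth.Agent.BTLib.Kernel
import Groth.Agent.BTLib.FibreFlat
import Groth.Agent.GrpScheme.KernelPair
import Mathlib.AlgebraicGeometry.Group.Affine
-- import your own Groth.Agent.* helpers here

set_option autoImplicit false
universe u
open CategoryTheory CategoryTheory.Limits MonoidalCategory CartesianMonoidalCategory MonObj GrpObj AlgebraicGeometry
open BTGrp

namespace Groth.Agent.S15055

theorem isKernel_proj {S : Scheme.{u}} {ℓ h : ℕ} (G : BTGrp.ProBT ℓ S h)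
    (i : (t : ℕ) → (G.G 1 ⟶ G.G (t + 1))) (hi0 : i 0 = 𝟙 (G.G 1))
    (hi : ∀ t : ℕ, i (t + 1) = i t ≫ G.incl (t + 1)) (t : ℕ) : AlgGrp.IsKernel (i t) (G.proj t) := by
  have := BTLib.mono_incl_iter G i hi0 hi t
  have := BTLib.mono_incl G t
  have hk := BTLib.isKernel_pow G i hi0 hi t
  refine BTLib.isKernel_of ?_ ?_
  · rw [← cancel_mono (G.incl t), Category.assoc, G.proj_incl, MonObj.one_comp]
    exact BTLib.kernel_w hk
  · intro T x hx
    refine BTLib.kernel_lift hk x ?_
    rw [← G.proj_incl, ← Category.assoc, hx, MonObj.one_comp]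

theorem exists_hopf {R : CommRingCat.{u}} (G : Over (Spec R)) [GrpObj G] [IsAffine G.left] :
    ∃ H : CommHopfAlgCat.{u} R, Nonempty ((hopfSpec R).obj (Opposite.op H) ≅ Grp.mk G) := by
  obtain ⟨H, he⟩ := (essImage_hopfSpec (G := Grp.mk G)).2 (inferInstance : IsAffine G.left)
  exact ⟨H.unop, he⟩

theorem finrank_comp_iso {X Y Z : Scheme.{u}} (f : X ⟶ Y) [AlgebraicGeometry.IsFinite f] [Flat f] (g : Y ⟶ Z) [IsIso g] (z : Z) :
    (f ≫ g).finrank z = f.finrank (inv g z) := by
  have h : IsPullback (𝟙 X) f (f ≫ g) g := IsPullback.of_horiz_isIso ⟨by simp⟩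
  conv_rhs => rw [Scheme.Hom.finrank_of_isPullback _ _ _ _ h (inv g z)]
  rw [← Scheme.Hom.comp_apply, IsIso.inv_hom_id]
  rfl

theorem rankAtStalk_of_iso {R : Type u} [CommRing R] (A : Type u) [CommRing A] [Algebra R A] {Y : Scheme.{u}}
    (g : Y ⟶ Spec (CommRingCat.of R)) (e : Spec (CommRingCat.of A) ⟶ Y) [IsIso e]
    (he : e ≫ g = Spec.map (CommRingCat.ofHom (algebraMap R A))) {d : ℕ} (hg : Mor2.IsFinLocFreeOfDeg d g) :
    Module.Finite R A ∧ Module.Flat R A ∧ ∀ p : PrimeSpectrum R, Module.rankAtStalk (R := R) A p = d := by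
  have := hg.1.1
  have := hg.1.2.1
  have h1 : AlgebraicGeometry.IsFinite (Spec.map (CommRingCat.ofHom (algebraMap R A))) := by rw [← he]; infer_instance
  have h2 : Flat (Spec.map (CommRingCat.ofHom (algebraMap R A))) := by rw [← he]; infer_instance
  rw [IsFinite.SpecMap_iff, CommRingCat.hom_ofHom, RingHom.finite_algebraMap] at h1
  rw [HasRingHomProperty.Spec_iff (P := @Flat), CommRingCat.hom_ofHom, RingHom.flat_algebraMap_iff] at h2
  refine ⟨h1, h2, fun p => ?_⟩
  rw [← Scheme.Hom.finrank_SpecMap_algebraMap R A p, ← he, Scheme.Hom.finrank_comp_left_of_isIso]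
  exact hg.2 p

theorem finLocFree_of_hom {R : Type u} [CommRing R] [IsNoetherianRing R] {N X Q : Over (Spec (CommRingCat.of R))}
    [GrpObj N] [GrpObj X] [GrpObj Q] (q : X ⟶ Q) [IsMonHom q] (i : N ⟶ X) (hk : AlgGrp.IsKernel i q)
    {n : ℕ} (hn : 0 < n) {m : ℕ}
    (hX : Mor2.IsFinLocFreeOfDeg (n * m) X.hom) (hQ : Mor2.IsFinLocFreeOfDeg m Q.hom)
    (hN : Mor2.IsFinLocFreeOfDeg n N.hom) :
    Mor2.IsFinLocFreeOfDeg n q.left ∧ Surjective q.left := by
  have := hX.1.1
  have := hQ.1.1
  have := hN.1.1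
  have : IsAffine X.left := isAffine_of_isAffineHom X.hom
  have : IsAffine Q.left := isAffine_of_isAffineHom Q.hom
  have : IsAffine N.left := isAffine_of_isAffineHom N.hom
  obtain ⟨HA, ⟨eA⟩⟩ := exists_hopf X
  obtain ⟨HC, ⟨eC⟩⟩ := exists_hopf Q
  obtain ⟨HB, ⟨eB⟩⟩ := exists_hopf N
  let φ : (hopfSpec (CommRingCat.of R)).obj (Opposite.op HA) ⟶ (hopfSpec (CommRingCat.of R)).obj (Opposite.op HC) :=
    eA.hom ≫ Grp.homMk' (Mon.Hom.mk' q) ≫ eC.inv
  obtain ⟨v, hv⟩ : ∃ v, (hopfSpec (CommRingCat.of R)).map v = φ := ⟨_, hopfSpec.fullyFaithful.map_preimage φ⟩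
  let f : HC →ₐc[R] HA := v.unop.hom
  let pX : Spec (CommRingCat.of HA) ⟶ X.left := eA.hom.hom.hom.left
  let pQ : Spec (CommRingCat.of HC) ⟶ Q.left := eC.hom.hom.hom.left
  let pN : Spec (CommRingCat.of HB) ⟶ N.left := eB.hom.hom.hom.left
  have : IsIso pX := ((Grp.forget _ ⋙ Over.forget _).mapIso eA).isIso_hom
  have : IsIso pQ := ((Grp.forget _ ⋙ Over.forget _).mapIso eC).isIso_hom
  have : IsIso pN := ((Grp.forget _ ⋙ Over.forget _).mapIso eB).isIso_hom
  have hpX : pX ≫ X.hom = Spec.map (CommRingCat.ofHom (algebraMap R HA)) := Over.w eA.hom.hom.hom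
  have hpQ : pQ ≫ Q.hom = Spec.map (CommRingCat.ofHom (algebraMap R HC)) := Over.w eC.hom.hom.hom
  have hpN : pN ≫ N.hom = Spec.map (CommRingCat.ofHom (algebraMap R HB)) := Over.w eB.hom.hom.hom
  have hsq : Spec.map (CommRingCat.ofHom (f : HC →+* HA)) ≫ pQ = pX ≫ q.left := by
    have h0 : (hopfSpec (CommRingCat.of R)).map v ≫ eC.hom = eA.hom ≫ Grp.homMk' (Mon.Hom.mk' q) := by
      rw [hv]; simp [φ]
    exact congrArg (fun k => CommaMorphism.left k.hom.hom) h0
  obtain ⟨fA, flA, rA⟩ := rankAtStalk_of_iso HA X.hom pX hpX hX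
  obtain ⟨fC, flC, rC⟩ := rankAtStalk_of_iso HC Q.hom pQ hpQ hQ
  obtain ⟨fB, flB, rB⟩ := rankAtStalk_of_iso HB N.hom pN hpN hN
  have := Module.finitePresentation_of_finite R HA
  have := Module.finitePresentation_of_finite R HC
  have := Module.finitePresentation_of_finite R HB
  have : Module.Projective R HA := Module.Flat.projective_of_finitePresentation
  have : Module.Projective R HC := Module.Flat.projective_of_finitePresentation
  have : Module.Projective R HB := Module.Flat.projective_of_finitePresentation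
  letI : Algebra HC HA := (f : HC →+* HA).toAlgebra
  haveI : IsScalarTower R HC HA := IsScalarTower.of_algebraMap_eq fun r => ((f : HC →ₐ[R] HA).commutes r).symm
  -- the torsor isomorphism
  have htor : Nonempty (TensorProduct HC HA HA ≃ₗ[HA] TensorProduct R HA HB) := by
    have hp := GrpdLib.GrpOver.isPullback_left (GrpScheme.KernelPair.isPullback hk)
    have h1 : IsPullback ((fst X N).left ≫ inv pX) ((fst X N * (snd X N ≫ i)).left ≫ inv pX)
        (Spec.map (CommRingCat.ofHom (algebraMap HC HA))) (Spec.map (CommRingCat.ofHom (algebraMap HC HA))) := by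
      refine hp.of_iso (Iso.refl _) (asIso (inv pX)) (asIso (inv pX)) (asIso (inv pQ)) (by simp) (by simp) ?_ ?_
      · rw [asIso_hom, asIso_hom, IsIso.eq_inv_comp, ← Category.assoc, IsIso.comp_inv_eq]; exact hsq.symm
      · rw [asIso_hom, asIso_hom, IsIso.eq_inv_comp, ← Category.assoc, IsIso.comp_inv_eq]; exact hsq.symm
    have h2 : IsPullback ((fst X N).left ≫ inv pX) ((snd X N).left ≫ inv pN)
        (Spec.map (CommRingCat.ofHom (algebraMap R HA))) (Spec.map (CommRingCat.ofHom (algebraMap R HB))) := by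
      refine (IsPullback.of_hasPullback X.hom N.hom).of_iso (Iso.refl _) (asIso (inv pX)) (asIso (inv pN)) (Iso.refl _)
        ((Category.id_comp _).symm) ((Category.id_comp _).symm) ?_ ?_
      · rw [Iso.refl_hom, Category.comp_id, asIso_hom, IsIso.eq_inv_comp]; exact hpX
      · rw [Iso.refl_hom, Category.comp_id, asIso_hom, IsIso.eq_inv_comp]; exact hpN
    let β : Spec (CommRingCat.of (TensorProduct HC HA HA)) ≅ Spec (CommRingCat.of (TensorProduct R HA HB)) :=
      (pullbackSpecIso HC HA HA).symm ≪≫ h1.isoPullback.symm ≪≫ h2.isoPullback ≪≫ pullbackSpecIso R HA HB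
    let ψ : CommRingCat.of (TensorProduct R HA HB) ⟶ CommRingCat.of (TensorProduct HC HA HA) := Spec.preimage β.hom
    have : IsIso ψ := by
      have h0 : IsIso (Spec.map ψ) := by rw [Spec.map_preimage]; infer_instance
      have : IsIso (Scheme.Spec.map ψ.op) := h0
      exact (isIso_op_iff ψ).1 (isIso_of_fully_faithful Scheme.Spec ψ.op)
    have hψ : ∀ a : HA, ψ.hom (algebraMap HA (TensorProduct R HA HB) a) = algebraMap HA (TensorProduct HC HA HA) a := by
      have h : CommRingCat.ofHom (algebraMap HA (TensorProduct R HA HB)) ≫ ψ =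
          CommRingCat.ofHom (algebraMap HA (TensorProduct HC HA HA)) := by
        apply Spec.map_injective
        rw [Spec.map_comp, Spec.map_preimage]
        show β.hom ≫ Spec.map (CommRingCat.ofHom Algebra.TensorProduct.includeLeftRingHom) =
          Spec.map (CommRingCat.ofHom Algebra.TensorProduct.includeLeftRingHom)
        rw [← pullbackSpecIso_inv_fst, ← pullbackSpecIso_inv_fst]
        simp [β]
      exact fun a => ConcreteCategory.congr_hom h a
    let ψA : TensorProduct R HA HB →ₐ[HA] TensorProduct HC HA HA := { ψ.hom with commutes' := hψ }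
    exact ⟨(AlgEquiv.ofBijective ψA (ConcreteCategory.bijective_of_isIso ψ)).symm.toLinearEquiv⟩
  obtain ⟨hff, hrank⟩ := BTLib.FibreFlat.faithfullyFlat_of_torsor f n hn
    (fun p => by rw [rA p, rC p]) rB htor
  have hfinA : Module.Finite HC HA := Module.Finite.of_restrictScalars_finite R HC HA
  have : IsNoetherianRing HC := IsNoetherianRing.of_finite R HC
  have hfp : Algebra.FinitePresentation HC HA := Algebra.FinitePresentation.of_finiteType.1 inferInstance
  have e : q.left = inv pX ≫ Spec.map (CommRingCat.ofHom (algebraMap HC HA)) ≫ pQ := by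
    rw [IsIso.eq_inv_comp]; exact hsq.symm
  have i1 : AlgebraicGeometry.IsFinite (Spec.map (CommRingCat.ofHom (algebraMap HC HA))) := by
    rw [IsFinite.SpecMap_iff, CommRingCat.hom_ofHom, RingHom.finite_algebraMap]; exact hfinA
  have i2 : Flat (Spec.map (CommRingCat.ofHom (algebraMap HC HA))) := by
    rw [HasRingHomProperty.Spec_iff (P := @Flat), CommRingCat.hom_ofHom, RingHom.flat_algebraMap_iff]; infer_instance
  have i3 : LocallyOfFinitePresentation (Spec.map (CommRingCat.ofHom (algebraMap HC HA))) := by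
    rw [HasRingHomProperty.Spec_iff (P := @LocallyOfFinitePresentation), CommRingCat.hom_ofHom,
      RingHom.finitePresentation_algebraMap]
    exact hfp
  have i4 : Surjective (Spec.map (CommRingCat.ofHom (algebraMap HC HA))) :=
    ⟨PrimeSpectrum.comap_surjective_of_faithfullyFlat (A := HC) (B := HA)⟩
  refine ⟨⟨⟨?_, ?_, ?_⟩, fun y => ?_⟩, ?_⟩
  · rw [e]; infer_instance
  · rw [e]; infer_instance
  · rw [e]; infer_instance
  · rw [e, Scheme.Hom.finrank_comp_left_of_isIso, finrank_comp_iso]
    exact (Scheme.Hom.finrank_SpecMap_algebraMap (↑HC : Type u) (↑HA : Type u) _).trans (hrank _)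
  · rw [e]; infer_instance

/-- Let R be a Noetherian ring, ℓ a prime and G = (G_ν)_ν an ℓ-divisible (Barsotti–Tate) group of height
h over Spec R, given as the system of its finite locally free layers G_ν of order ℓ^{νh} with
inclusions exhibiting G_ν as the ℓ^ν-torsion of G_{ν+1} and projections j_t : G_{t+1} → G_t through
which multiplication by ℓ on G_{t+1} factors. Let i_t : G_1 → G_{t+1} be the iterated inclusions
(i_0 = id, i_{t+1} = i_t followed by G_{t+1} → G_{t+2}). Then for every t the sequence 1 → G_1 →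
G_{t+1} → G_t → 1 is exact: i_t is the kernel of j_t, and j_t is finite locally free of degree ℓ^h
and surjective; in particular multiplication by ℓ is an epimorphism of fppf sheaves on the
ℓ-divisible group, with kernel of order ℓ^h. (The published statement treats the sequence 0 → G_v →
G_{v+t} → G_t → 0 for every v; this row is its case v = 1, combined with the consequence, stated
separately in the text, that multiplication by ℓ on the ℓ-divisible group is finite locally free of
degree ℓ^h and surjective.) -/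
theorem result (R : Type u) [CommRing R] [IsNoetherianRing R] (ℓ h : ℕ)
    [Fact ℓ.Prime] (G : BTGrp.ProBT ℓ (Spec (CommRingCat.of R)) h)
    (i : (t : ℕ) → (G.G 1 ⟶ G.G (t + 1))) (hi0 : i 0 = 𝟙 (G.G 1))
    (hi : ∀ t : ℕ, i (t + 1) = i t ≫ G.incl (t + 1)) (t : ℕ) :
    AlgGrp.IsKernel (i t) (G.proj t) ∧ Mor2.IsFinLocFreeOfDeg (ℓ ^ h) (G.proj t).left ∧
      Surjective (G.proj t).left := by
  have hker : AlgGrp.IsKernel (i t) (G.proj t) := isKernel_proj G i hi0 hi t
  obtain ⟨h1, h2⟩ := finLocFree_of_hom (G.proj t) (i t) hker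
    (pow_pos (Fact.out : ℓ.Prime).pos h) (m := ℓ ^ (t * h))
    (by rw [← pow_add, show h + t * h = (t + 1) * h by ring]; exact G.finLocFree (t + 1))
    (G.finLocFree t) (by simpa using G.finLocFree 1)
  exact ⟨hker, h1, h2⟩

end Groth.Agent.S15055
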