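import Groth.Statements.S15056
import Mathlib

set_option autoImplicit false
universe u
open scoped TensorProduct
open FrobAlg

namespace Groth.Agent.S15056

/-- Let p be a prime number, R a Noetherian ring of characteristic p and A a finitely generated
commutative Hopf algebra over R (an affine algebraic R-group G = Spec A). The n-fold relative
Frobenius of G is the trivial homomorphism exactly when a^(p^n) = 0 for every a in the augmentation
ideal; G has finite Frobenius height when this holds for some n. Then G has finite Frobenius height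
if and only if A is a finite R-module and, for every algebraically closed field K and every ring
homomorphism R → K, the base change K ⊗_R A is a local ring (G is finite over R with connected
geometric fibres). -/
theorem result (p : ℕ) [Fact p.Prime] (R : Type u) [CommRing R] [CharP R p]
    [IsNoetherianRing R] (A : Type u) [CommRing A] [HopfAlgebra R A] [Algebra.FiniteType R A] :
    (∃ n : ℕ, ∀ a : A, Bialgebra.counitAlgHom R A a = 0 → a ^ p ^ n = 0) ↔
      (Module.Finite R A ∧ ∀ (K : Type u) [Field K] [IsAlgClosed K] [Algebra R K], IsLocalRing (K ⊗[R] A)) := by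
  classical
  let ε : A →ₐ[R] R := Bialgebra.counitAlgHom R A
  have hε : ∀ a, ε (a - algebraMap R A (ε a)) = 0 := fun a => by rw [map_sub, ε.commutes]; exact sub_self _
  constructor
  · rintro ⟨n, hn⟩
    have hint : Algebra.IsIntegral R A := ⟨fun a => by
      have h0 : IsIntegral R (a - algebraMap R A (ε a)) :=
        IsIntegral.of_pow (pow_pos (Fact.out : p.Prime).pos n) (by rw [hn _ (hε a)]; exact isIntegral_zero)
      simpa using h0.add (isIntegral_algebraMap (x := ε a))⟩
    haveI : Module.Finite R A := Algebra.IsIntegral.finite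
    refine ⟨inferInstance, fun K _ _ _ => ?_⟩
    let ρ : K ⊗[R] A →ₐ[K] K := Algebra.TensorProduct.lift (AlgHom.id K K) ((Algebra.ofId R K).comp ε) fun _ _ => .all ..
    have hρ : ∀ x, IsNilpotent (x - algebraMap K (K ⊗[R] A) (ρ x)) := fun x => by
      induction x using TensorProduct.induction_on with
      | zero => simp
      | tmul c a =>
        have e : c ⊗ₜ[R] a - algebraMap K (K ⊗[R] A) (ρ (c ⊗ₜ[R] a)) = c ⊗ₜ[R] (a - algebraMap R A (ε a)) := by
          rw [TensorProduct.tmul_sub, Algebra.algebraMap_eq_smul_one (ε a), TensorProduct.tmul_smul,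
            Algebra.TensorProduct.algebraMap_apply]
          simp [ρ, TensorProduct.smul_tmul', Algebra.smul_def, mul_comm]
        rw [e]
        exact ⟨p ^ n, by rw [Algebra.TensorProduct.tmul_pow, hn _ (hε a), TensorProduct.tmul_zero]⟩
      | add x y hx hy =>
        rw [map_add, map_add, add_sub_add_comm]
        exact (Commute.all _ _).isNilpotent_add hx hy
    have hunit : ∀ x, ρ x ≠ 0 → IsUnit x := fun x hx => by
      have := ((isUnit_iff_ne_zero.2 hx).map (algebraMap K (K ⊗[R] A)))
      simpa using (hρ x).isUnit_add_left_of_commute this (Commute.all _ _)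
    haveI : Nontrivial (K ⊗[R] A) := ρ.toRingHom.domain_nontrivial
    refine IsLocalRing.of_isUnit_or_isUnit_one_sub_self fun x => ?_
    by_cases h : ρ x = 0
    · exact Or.inr (hunit _ (by simp [h]))
    · exact Or.inl (hunit _ h)
  · rintro ⟨hfin, hloc⟩
    haveI := hfin
    haveI : IsNoetherianRing A := Algebra.FiniteType.isNoetherianRing R A
    have hnil : RingHom.ker ε ≤ nilradical A := by
      rw [nilradical_eq_sInf]
      refine le_sInf fun P (hP : P.IsPrime) => ?_
      let K := AlgebraicClosure (FractionRing (A ⧸ P))
      -- the two points with values in `K`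
      letI : Algebra R K := ((algebraMap (FractionRing (A ⧸ P)) K).comp
        ((algebraMap (A ⧸ P) (FractionRing (A ⧸ P))).comp ((Ideal.Quotient.mk P).comp (algebraMap R A)))).toAlgebra
      let φ : A →ₐ[R] K :=
        { (algebraMap (FractionRing (A ⧸ P)) K).comp ((algebraMap (A ⧸ P) (FractionRing (A ⧸ P))).comp (Ideal.Quotient.mk P)) with
          commutes' := fun r => rfl }
      haveI := hloc K
      haveI : IsArtinianRing (K ⊗[R] A) := IsArtinianRing.of_finite K _
      let ρ : K ⊗[R] A →ₐ[K] K := Algebra.TensorProduct.lift (AlgHom.id K K) ((Algebra.ofId R K).comp ε) fun _ _ => .all ..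
      let ψ : K ⊗[R] A →ₐ[K] K := Algebra.TensorProduct.lift (AlgHom.id K K) φ fun _ _ => .all ..
      have hker : RingHom.ker ψ.toRingHom = RingHom.ker ρ.toRingHom := by
        haveI : (RingHom.ker ψ.toRingHom).IsPrime := RingHom.ker_isPrime _
        haveI : (RingHom.ker ρ.toRingHom).IsPrime := RingHom.ker_isPrime _
        rw [IsLocalRing.eq_maximalIdeal (inferInstance : (RingHom.ker ψ.toRingHom).IsMaximal),
          IsLocalRing.eq_maximalIdeal (inferInstance : (RingHom.ker ρ.toRingHom).IsMaximal)]
      intro a ha
      have hmem : (1 : K) ⊗ₜ[R] a ∈ RingHom.ker ρ.toRingHom := by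
        show ρ _ = 0
        simp [ρ, show ε a = 0 from ha]
      rw [← hker] at hmem
      have h0 : φ a = 0 := by simpa [ψ] using (show ψ _ = 0 from hmem)
      have h1 : algebraMap (A ⧸ P) (FractionRing (A ⧸ P)) (Ideal.Quotient.mk P a) = 0 :=
        (algebraMap (FractionRing (A ⧸ P)) K).injective (h0.trans (map_zero _).symm)
      exact Ideal.Quotient.eq_zero_iff_mem.1 (IsFractionRing.injective _ _ (h1.trans (map_zero _).symm))
    obtain ⟨m, hm⟩ : IsNilpotent (nilradical A) := IsNoetherianRing.isNilpotent_nilradical A
    refine ⟨m, fun a ha => ?_⟩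
    have h1 : a ^ m ∈ nilradical A ^ m := Ideal.pow_mem_pow (hnil ha) m
    rw [hm, Submodule.zero_eq_bot, Submodule.mem_bot] at h1
    exact pow_eq_zero_of_le (Nat.lt_pow_self (Fact.out : p.Prime).one_lt).le h1

end Groth.Agent.S15056
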