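import Groth.Statements.S15057
import Mathlib.Algebra.Homology.ShortComplex.Ab
import Mathlib.RingTheory.TensorProduct.Maps
import Mathlib.RingTheory.Flat.FaithfullyFlat.Basic
-- import your own Groth.Agent.* helpers here

set_option autoImplicit false
universe u
open CategoryTheory CategoryTheory.Limits
open Desc

namespace Groth.Agent.S15057

open scoped TensorProduct Simplicial

noncomputable section

variable (R A : Type u) [CommRing R] [CommRing A] [Algebra R A]

/-- the structure map in `CommRingCat` -/
abbrev str : CommRingCat.of R ⟶ CommRingCat.of A := CommRingCat.ofHom (algebraMap R A)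

/-- the terms of the Cech conerve -/
abbrev W (n : ℕ) : CommRingCat.{u} :=
  widePushout (CommRingCat.of R) (fun _ : Fin (n + 1) => CommRingCat.of A) (fun _ => str R A)

/-- the terms as types -/
def C (n : ℕ) : Type u := W R A n

instance (n : ℕ) : CommRing (C R A n) := inferInstanceAs (CommRing (W R A n))

instance (n : ℕ) : Algebra R (C R A n) :=
  RingHom.toAlgebra (WidePushout.head (fun _ : Fin (n + 1) => str R A)).hom

/-- the tensor factors -/
def inc (n : ℕ) (j : Fin (n + 1)) : A →ₐ[R] C R A n where
  toRingHom := (WidePushout.ι (fun _ : Fin (n + 1) => str R A) j).hom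
  commutes' r := congr_arg (fun φ : CommRingCat.of R ⟶ W R A n => φ.hom r)
    (WidePushout.arrow_ι (fun _ : Fin (n + 1) => str R A) j)

variable {R A}

theorem calgHom_ext {n : ℕ} {T : Type u} [CommRing T] [Algebra R T] (f g : C R A n →ₐ[R] T)
    (h : ∀ j, f.comp (inc R A n j) = g.comp (inc R A n j)) : f = g := by
  have : CommRingCat.ofHom (R := W R A n) f.toRingHom = CommRingCat.ofHom g.toRingHom :=
    WidePushout.hom_ext _ _ _
      (fun j => CommRingCat.hom_ext (congr_arg AlgHom.toRingHom (h j)))
      (CommRingCat.hom_ext (RingHom.ext fun r => (f.commutes r).trans (g.commutes r).symm))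
  exact AlgHom.ext fun x => congr_arg (fun φ : W R A n ⟶ CommRingCat.of T => φ.hom x) this

/-- descending out of the pushout -/
def cdesc {n : ℕ} {T : Type u} [CommRing T] [Algebra R T] (f : Fin (n + 1) → (A →ₐ[R] T)) :
    C R A n →ₐ[R] T where
  toRingHom := (WidePushout.desc (arrows := fun _ : Fin (n + 1) => str R A)
    (CommRingCat.ofHom (algebraMap R T)) (fun j => CommRingCat.ofHom (f j).toRingHom)
    (fun j => CommRingCat.hom_ext (RingHom.ext fun r => (f j).commutes r))).hom
  commutes' r := congr_arg (fun φ : CommRingCat.of R ⟶ CommRingCat.of T => φ.hom r)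
    (WidePushout.head_desc (arrows := fun _ : Fin (n + 1) => str R A) _ _ _)

theorem cdesc_inc {n : ℕ} {T : Type u} [CommRing T] [Algebra R T] (f : Fin (n + 1) → (A →ₐ[R] T))
    (j : Fin (n + 1)) : (cdesc f).comp (inc R A n j) = f j :=
  AlgHom.coe_ringHom_injective (congr_arg CommRingCat.Hom.hom
    (WidePushout.ι_desc (arrows := fun _ : Fin (n + 1) => str R A)
      (f := CommRingCat.ofHom (algebraMap R T)) (fs := fun j => CommRingCat.ofHom (f j).toRingHom)
      (w := fun j => CommRingCat.hom_ext (RingHom.ext fun r => (f j).commutes r)) j))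

@[simp] theorem cdesc_inc_apply {n : ℕ} {T : Type u} [CommRing T] [Algebra R T]
    (f : Fin (n + 1) → (A →ₐ[R] T)) (j : Fin (n + 1)) (a : A) :
    cdesc f (inc R A n j a) = f j a := AlgHom.congr_fun (cdesc_inc f j) a

variable (R A)

/-- the cofaces -/
def del (n : ℕ) (i : Fin (n + 2)) : C R A n →ₐ[R] C R A (n + 1) :=
  cdesc fun j => inc R A (n + 1) (i.succAbove j)

/-- the extra degeneracy -/
def sig (n : ℕ) : A ⊗[R] C R A (n + 1) →ₐ[R] A ⊗[R] C R A n :=
  Algebra.TensorProduct.lift Algebra.TensorProduct.includeLeft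
    (cdesc (Fin.cases Algebra.TensorProduct.includeLeft
      (fun j => Algebra.TensorProduct.includeRight.comp (inc R A n j))))
    (fun _ _ => Commute.all _ _)

/-- base change of the cofaces -/
def delT (n : ℕ) (i : Fin (n + 2)) : A ⊗[R] C R A n →ₐ[R] A ⊗[R] C R A (n + 1) :=
  Algebra.TensorProduct.map (AlgHom.id R A) (del R A n i)

theorem sig_delT_zero (n : ℕ) : (sig R A n).comp (delT R A n 0) = AlgHom.id R _ := by
  apply Algebra.TensorProduct.ext
  · ext a
    simp [sig, delT]
  · apply calgHom_ext
    intro j
    ext a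
    simp [sig, delT, del]

theorem sig_delT_succ (n : ℕ) (i : Fin (n + 2)) :
    (sig R A (n + 1)).comp (delT R A (n + 1) i.succ) = (delT R A n i).comp (sig R A n) := by
  apply Algebra.TensorProduct.ext
  · ext a
    simp [sig, delT]
  · apply calgHom_ext
    intro j
    ext a
    cases j using Fin.cases <;> simp [sig, delT, del]

/-- the Amitsur differential -/
def dd (n : ℕ) : C R A n →ₗ[R] C R A (n + 1) :=
  ∑ i : Fin (n + 2), (-1 : ℤ) ^ (i : ℕ) • (del R A n i).toLinearMap

theorem dd_lTensor (n : ℕ) (y : A ⊗[R] C R A n) :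
    (dd R A n).lTensor A y = ∑ i : Fin (n + 2), (-1 : ℤ) ^ (i : ℕ) • delT R A n i y := by
  induction y using TensorProduct.induction_on with
  | zero => simp
  | tmul a c => simp [dd, delT, TensorProduct.tmul_sum, LinearMap.sum_apply, -zsmul_eq_mul, -Int.cast_pow, TensorProduct.tmul_smul]
  | add a b ha hb => simp [map_add, ha, hb, Finset.sum_add_distrib, smul_add]

theorem homotopy (n : ℕ) (y : A ⊗[R] C R A (n + 1)) :
    sig R A (n + 1) ((dd R A (n + 1)).lTensor A y) + (dd R A n).lTensor A (sig R A n y) = y := by
  rw [dd_lTensor, dd_lTensor, map_sum, Fin.sum_univ_succ]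
  have h0 := AlgHom.congr_fun (sig_delT_zero R A (n + 1)) y
  have hs := fun i => AlgHom.congr_fun (sig_delT_succ R A n i) y
  simp only [AlgHom.comp_apply, AlgHom.id_apply] at h0 hs
  simp only [pow_succ, mul_neg_one, neg_smul, map_neg, map_zsmul, h0, hs, Fin.val_zero, pow_zero,
    one_smul, Fin.val_succ, Finset.sum_neg_distrib]
  rw [add_assoc, neg_add_cancel, add_zero]

theorem dd_exact [Module.FaithfullyFlat R A] (n : ℕ)
    (hdd : ∀ x, dd R A (n + 1) (dd R A n x) = 0) : Function.Exact (dd R A n) (dd R A (n + 1)) := by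
  rw [← Module.FaithfullyFlat.lTensor_exact_iff_exact R A]
  intro y
  refine ⟨fun hy => ⟨sig R A n y, ?_⟩, ?_⟩
  · have := homotopy R A n y
    rwa [hy, map_zero, zero_add] at this
  · rintro ⟨x, rfl⟩
    rw [← LinearMap.comp_apply, ← LinearMap.lTensor_comp,
      show (dd R A (n + 1)).comp (dd R A n) = 0 from LinearMap.ext hdd]
    simp

end


/-- Let R → A be a faithfully flat homomorphism of commutative rings. The Amitsur complex A → A ⊗_R A →
A ⊗_R A ⊗_R A → ⋯, whose differential is the alternating sum of the maps inserting a unit in each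
tensor slot, is realised here as the alternating coface complex (of underlying abelian groups) of
the Čech conerve of R → A in the category of commutative rings, whose degree-n term is the
(n+1)-fold coproduct of A under R, i.e. the (n+1)-fold tensor power over R. Then this complex is
exact in every degree n ≥ 1. (Exactness at the start, namely that R → A is injective with image the
equaliser of the two maps A → A ⊗_R A, is the degree-0 statement and is not part of this row.) -/
theorem result (R A : Type u) [CommRing R] [CommRing A] [Algebra R A] [Module.FaithfullyFlat R A]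
    (n : ℕ) (hn : 0 < n) :
    (AlgebraicTopology.AlternatingCofaceMapComplex.obj
      ((Arrow.mk (CommRingCat.ofHom (algebraMap R A))).cechConerve ⋙ forget₂ CommRingCat RingCat ⋙
        forget₂ RingCat AddCommGrpCat)).ExactAt n := by
  obtain ⟨m, rfl⟩ : ∃ m, n = m + 1 := ⟨n - 1, by omega⟩
  set K := AlgebraicTopology.AlternatingCofaceMapComplex.obj
      ((Arrow.mk (CommRingCat.ofHom (algebraMap R A))).cechConerve ⋙ forget₂ CommRingCat RingCat ⋙
        forget₂ RingCat AddCommGrpCat) with hK
  have hd : ∀ (k : ℕ) (x : C R A k), (K.d k (k + 1)).hom x = dd R A k x := by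
    intro k x
    simp only [K, AlgebraicTopology.AlternatingCofaceMapComplex.obj, CochainComplex.of_d,
      AlgebraicTopology.AlternatingCofaceMapComplex.objD]
    simp only [dd, LinearMap.sum_apply, LinearMap.smul_apply]
    refine (map_sum (AddMonoidHom.mk' (fun φ : _ ⟶ _ => (φ : AddCommGrpCat.of (C R A k) ⟶
      AddCommGrpCat.of (C R A (k + 1))).hom x) (fun _ _ => rfl)) _ _).trans ?_
    refine Finset.sum_congr rfl fun i _ => ?_
    simp only [AddMonoidHom.mk'_apply]
    erw [AddCommGrpCat.hom_zsmul]
    rfl
  rw [HomologicalComplex.exactAt_iff' K m (m + 1) (m + 1 + 1) (by simp) (by simp),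
    ShortComplex.ab_exact_iff]
  intro x hx
  have hdd : ∀ z, dd R A (m + 1) (dd R A m z) = 0 := fun z => by
    rw [← hd, ← hd]
    exact congr_arg (fun φ : K.X m ⟶ K.X (m + 1 + 1) => φ.hom z) (K.d_comp_d m (m + 1) (m + 1 + 1))
  obtain ⟨z, hz⟩ := (dd_exact R A m hdd x).1 ((hd (m + 1) x).symm.trans hx)
  exact ⟨z, (hd m z).trans hz⟩

end Groth.Agent.S15057
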