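import Mathlib.RingTheory.FormalGroup.Basic
import Groth.Agent.LTLib.Inverse

set_option autoImplicit false
universe u
namespace FmlGrp
end FmlGrp
open FmlGrp

namespace Groth.Agent.S15058

/-- Let R be a commutative ring and F(X,Y) ∈ R[[X,Y]] a one-dimensional formal group law (zero constant
term, linear part X + Y, associative). Then there is a power series g(X) ∈ R[[X]] with zero constant
term which is a two-sided inverse for F, F(X, g(X)) = 0 = F(g(X), X), and it is unique: every power
series with zero constant term which is a right inverse or a left inverse equals g. (The published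
text proves this for formal group laws of any finite dimension with coefficients in a complete
Noetherian local ring; the argument is a formal degree-by-degree construction, and this row states
the one-dimensional case over an arbitrary commutative ring.) -/
theorem result (R : Type u) [CommRing R] (F : FormalGroup R) :
    ∃ g : PowerSeries R, g.constantCoeff = 0 ∧
      F.toPowerSeries.subst ![PowerSeries.X, g] = (0 : PowerSeries R) ∧
      F.toPowerSeries.subst ![g, PowerSeries.X] = (0 : PowerSeries R) ∧
      ∀ k : PowerSeries R, k.constantCoeff = 0 →
        (F.toPowerSeries.subst ![PowerSeries.X, k] = (0 : PowerSeries R) ∨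
          F.toPowerSeries.subst ![k, PowerSeries.X] = (0 : PowerSeries R)) → k = g := by
  open Groth.Agent.LTLib MvPowerSeries in
  classical
  have hX : constantCoeff (PowerSeries.X : MvPowerSeries Unit R) = 0 := constantCoeff_X ()
  obtain ⟨g, hg0, hg⟩ := exists_pair_root (σ := Unit) F.toPowerSeries F.zero_constantCoeff F.lin_coeff_Y hX
  obtain ⟨g', hg'0, hg'⟩ := exists_left_root (σ := Unit) F hX
  obtain rfl := left_eq_right F hX hg'0 hg0 hg' hg
  refine ⟨g', hg0, hg, hg', fun k hk0 hk => ?_⟩
  rcases hk with hk | hk
  · exact pair_root_unique F.lin_coeff_Y hX hk0 hg0 hk hg
  · exact left_eq_right F hX hk0 hg0 hk hg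

end Groth.Agent.S15058
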