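import Mathlib.RingTheory.FormalGroup.Basic
import Mathlib.RingTheory.DiscreteValuationRing.Basic
import Mathlib.RingTheory.LocalRing.ResidueField.Defs
import Mathlib.SetTheory.Cardinal.Finite
import Groth.Agent.LTLib.LT

set_option autoImplicit false
universe u
namespace LubinTate
end LubinTate
open LubinTate

namespace Groth.Agent.S15060

/-- Let O be a discrete valuation ring with finite residue field of cardinality q, π a uniformizer of O,
f = πT + T^q ∈ O[[T]], and F a one-dimensional formal group law over O for which f is an
endomorphism, f(F(X,Y)) = F(f(X), f(Y)). For α ∈ O write [α] for a power series with zero constant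
term and linear coefficient α commuting with f (it is unique). Then for all α, β ∈ O and all such
series [α], [β], [αβ], [α+β] one has [α]([β](T)) = [αβ](T) and F([α](T), [β](T)) = [α+β](T): the map
α ↦ [α] is a ring homomorphism from O to the endomorphisms of F with their formal-group addition and
composition. (The published statement is for the ring of integers of a finite extension of ℚ_p or of
𝔽_q((X)); completeness is not used and any discrete valuation ring with finite residue field is
allowed here.) -/
theorem result (O : Type u) [CommRing O] [IsDomain O] [IsDiscreteValuationRing O]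
    [Finite (IsLocalRing.ResidueField O)] (π : O) (hπ : Irreducible π) (f : PowerSeries O)
    (hf : f = π • PowerSeries.X + PowerSeries.X ^ Nat.card (IsLocalRing.ResidueField O))
    (F : FormalGroup O)
    (hF : PowerSeries.subst F.toPowerSeries f =
        MvPowerSeries.subst (fun i : Fin 2 => PowerSeries.subst (MvPowerSeries.X i : MvPowerSeries (Fin 2) O) f)
          F.toPowerSeries)
    (α β : O) (gα gβ gαβ gs : PowerSeries O)
    (hα0 : gα.constantCoeff = 0) (hα1 : gα.coeff 1 = α) (hαf : PowerSeries.subst gα f = PowerSeries.subst f gα)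
    (hβ0 : gβ.constantCoeff = 0) (hβ1 : gβ.coeff 1 = β) (hβf : PowerSeries.subst gβ f = PowerSeries.subst f gβ)
    (hαβ0 : gαβ.constantCoeff = 0) (hαβ1 : gαβ.coeff 1 = α * β)
    (hαβf : PowerSeries.subst gαβ f = PowerSeries.subst f gαβ)
    (hs0 : gs.constantCoeff = 0) (hs1 : gs.coeff 1 = α + β) (hsf : PowerSeries.subst gs f = PowerSeries.subst f gs) :
    PowerSeries.subst gβ gα = gαβ ∧ F.toPowerSeries.subst ![gα, gβ] = gs := by
  open Groth.Agent.LTLib MvPowerSeries Finsupp in
  classical
  have hq := two_le_resCard (O := O)
  have hfX : (fun i : Unit => PowerSeries.subst (MvPowerSeries.X i : MvPowerSeries Unit O) f) =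
      fun _ => f := by
    funext i
    exact PowerSeries.X_subst f
  have key : ∀ g : PowerSeries O, PowerSeries.constantCoeff g = 0 →
      PowerSeries.subst g f = PowerSeries.subst f g →
      Comm π (resCard O) (g : MvPowerSeries Unit O) := by
    intro g hg hgf
    rw [comm_iff_subst π _ (φ := (g : MvPowerSeries Unit O)) hg hf, hfX]
    exact hgf
  have hFc : Comm π (resCard O) F.toPowerSeries :=
    (comm_iff_subst π _ F.zero_constantCoeff hf).2 hF
  have hlinF : ∀ i : Fin 2, coeff (single i 1) F.toPowerSeries = 1 := fun i => by
    fin_cases i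
    · exact F.lin_coeff_X
    · exact F.lin_coeff_Y
  have hα := key gα hα0 hαf
  have hβ := key gβ hβ0 hβf
  have hαβ0' : ∀ s : Fin 2, constantCoeff ((![gα, gβ] : Fin 2 → MvPowerSeries Unit O) s) = 0 :=
    fun s => by fin_cases s <;> assumption
  refine ⟨comm_ext hπ (PowerSeries.constantCoeff_subst_eq_zero hβ0 gα hα0) hαβ0
    (comm_subst π (by omega) hα (fun _ => hβ0) fun _ => hβ) (key gαβ hαβ0 hαβf) fun _ => ?_,
    comm_ext hπ (constantCoeff_subst_eq_zero (hasSubst_of_constantCoeff_zero hαβ0') hαβ0'
      F.zero_constantCoeff) hs0
    (comm_subst π (by omega) hFc hαβ0' fun s => by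
      fin_cases s
      · exact hα
      · exact hβ) (key gs hs0 hsf) fun _ => ?_⟩
  · refine ((coeff_single_subst (σ := Unit) _ (fun _ => hβ0) gα ()).trans
      (Finset.sum_singleton _ _)).trans ?_
    show PowerSeries.coeff 1 gα * PowerSeries.coeff 1 gβ = PowerSeries.coeff 1 gαβ
    rw [hα1, hβ1, hαβ1]
  · rw [coeff_single_subst _ hαβ0', Fin.sum_univ_two, hlinF, hlinF, one_mul, one_mul]
    show PowerSeries.coeff 1 gα + PowerSeries.coeff 1 gβ = PowerSeries.coeff 1 gs
    rw [hα1, hβ1, hs1]

end Groth.Agent.S15060
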