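import Groth.Statements.S15062
import Groth.Agent.CartKit.UnitComp

set_option autoImplicit false
universe u
open scoped TensorProduct
open Hopf

namespace Groth.Agent.S15062

open TensorProduct Groth.Agent.CartKit

/-- Let R be a henselian Noetherian local ring and A a commutative Hopf algebra over R which is finite
and flat as an R-module (a finite flat R-group G = Spec A, not assumed commutative); let e ∈ A be an
idempotent with ε(e) = 1 such that A/(1 − e) is a local ring, so that G⁰ = Spec A/(1 − e) is the
connected component of the unit section, and let B ⊆ A be the subalgebra of functions invariant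
under right translation by G⁰: the equaliser of a ↦ (id ⊗ π)(Δ a) and a ↦ a ⊗ 1 into A ⊗_R A/(1 − e)
(so Spec B = G^ét). Then: (2) for every commutative Hopf algebra C over R which is finite étale over
R (a finite étale R-group H) and every bialgebra homomorphism φ : C → A (a homomorphism G → H), the
image of φ lies in B — the homomorphism factors (necessarily uniquely, A being faithfully flat over
B) through G → G^ét; (3) for every commutative Hopf algebra D over R which is finite and flat over R
and a local ring (a connected finite flat R-group H) and every bialgebra homomorphism ψ : A → D (a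
homomorphism H → G), ψ(e) = 1, i.e. ψ kills the ideal (1 − e) and the homomorphism factors
(uniquely) through G⁰ → G. -/
theorem result (R : Type u) [CommRing R] [HenselianLocalRing R] [IsNoetherianRing R]
    (A : Type u) [CommRing A] [HopfAlgebra R A] [Module.Finite R A] [Module.Flat R A]
    (e : A) (he : IsIdempotentElem e) (hε : Bialgebra.counitAlgHom R A e = 1)
    [IsLocalRing (A ⧸ Ideal.span ({1 - e} : Set A))] :
    (∀ (C : Type u) [CommRing C] [HopfAlgebra R C] [Module.Finite R C] [Algebra.Etale R C] (φ : C →ₐc[R] A) (c : C),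
        φ c ∈ (AlgHom.equalizer
          ((Algebra.TensorProduct.map (AlgHom.id R A) (Ideal.Quotient.mkₐ R (Ideal.span ({1 - e} : Set A)))).comp
            (Bialgebra.comulAlgHom R A))
          (Algebra.TensorProduct.includeLeft : A →ₐ[R] A ⊗[R] (A ⧸ Ideal.span ({1 - e} : Set A))))) ∧
      ∀ (D : Type u) [CommRing D] [HopfAlgebra R D] [Module.Finite R D] [Module.Flat R D] [IsLocalRing D]
        (ψ : A →ₐc[R] D), ψ e = 1 := by
  set I := Ideal.span ({1 - e} : Set A)
  refine ⟨fun C _ _ _ _ φ c => ?_, fun D _ _ _ _ _ ψ =>
    idem_eq_one (Bialgebra.counitAlgHom R D).toRingHom (he.map ψ) ((CoalgHomClass.counit_comp_apply ψ e).trans hε)⟩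
  let ε' : A ⧸ I →ₐ[R] R := Ideal.Quotient.liftₐ I (Bialgebra.counitAlgHom R A) fun a ha => by
    obtain ⟨b, rfl⟩ := Ideal.mem_span_singleton'.1 ha
    rw [map_mul, map_sub, map_one, hε, sub_self, mul_zero]
  have hπ : (Ideal.Quotient.mkₐ R I).comp (φ : C →ₐ[R] A) =
      (Algebra.ofId R (A ⧸ I)).comp (Bialgebra.counitAlgHom R C) := by
    refine eq_of_unramified (C := A ⧸ I) _ _ fun a hu => ?_
    have h2 := hu.map ε'
    rw [map_sub] at h2
    have e1 : ε' (((Ideal.Quotient.mkₐ R I).comp (φ : C →ₐ[R] A)) a) = Coalgebra.counit (R := R) a :=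
      CoalgHomClass.counit_comp_apply φ a
    rw [e1, AlgHom.comp_apply, Algebra.ofId_apply, AlgHom.commutes, Bialgebra.counitAlgHom_apply,
      Algebra.algebraMap_self, RingHom.id_apply, sub_self] at h2
    exact not_isUnit_zero h2
  show Algebra.TensorProduct.map (AlgHom.id R A) (Ideal.Quotient.mkₐ R I) (Coalgebra.comul (R := R) (φ c)) =
    φ c ⊗ₜ[R] 1
  rw [← CoalgHomClass.map_comp_comul_apply φ]
  have h : ∀ t : C ⊗[R] C, Algebra.TensorProduct.map (AlgHom.id R A) (Ideal.Quotient.mkₐ R I)
      (TensorProduct.map (φ : C →ₗ[R] A) (φ : C →ₗ[R] A) t) =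
      φ (TensorProduct.rid R C ((Coalgebra.counit (R := R) (A := C)).lTensor C t)) ⊗ₜ[R] 1 := by
    intro t
    induction t using TensorProduct.induction_on with
    | zero => simp
    | add x y hx hy => simp only [map_add, hx, hy, TensorProduct.add_tmul]
    | tmul x y =>
      rw [TensorProduct.map_tmul, LinearMap.lTensor_tmul, TensorProduct.rid_tmul, map_smul,
        TensorProduct.smul_tmul, Algebra.TensorProduct.map_tmul, Algebra.smul_def, mul_one]
      show φ x ⊗ₜ[R] Ideal.Quotient.mkₐ R I (φ y) = _
      rw [show Ideal.Quotient.mkₐ R I (φ y) = ((Ideal.Quotient.mkₐ R I).comp (φ : C →ₐ[R] A)) y from rfl, hπ]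
      rfl
  rw [h, Coalgebra.lTensor_counit_comul, TensorProduct.rid_tmul, one_smul]

end Groth.Agent.S15062
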