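import Groth.Statements.S15063
import Groth.Agent.CartKit.Conn

set_option autoImplicit false
universe u
open Hopf

namespace Groth.Agent.S15063

open TensorProduct WithConv Groth.Agent.CartKit

/-- Let R be a henselian Noetherian local ring and A a commutative Hopf algebra over R which is finite
and flat as an R-module (a finite flat R-group G = Spec A, not assumed commutative); let e ∈ A be an
idempotent with ε(e) = 1 such that A/(1 − e) is a local ring, so that Spec A/(1 − e) is the
connected component G⁰ of G containing the unit section. Then G⁰ is normal in G: for every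
commutative R-algebra T, every T-valued point g of G and every T-valued point h of G killing the
ideal (1 − e), the conjugate g·h·g⁻¹ again kills (1 − e). (The published statement is for a flat
affine algebraic R-group and also asserts that G⁰ is an open and closed flat subgroup; this row
states the normality clause for finite flat G.) -/
theorem result (R : Type u) [CommRing R] [HenselianLocalRing R] [IsNoetherianRing R]
    (A : Type u) [CommRing A] [HopfAlgebra R A] [Module.Finite R A] [Module.Flat R A]
    (e : A) (he : IsIdempotentElem e) (hε : Bialgebra.counitAlgHom R A e = 1)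
    [IsLocalRing (A ⧸ Ideal.span ({1 - e} : Set A))] :
    SGA3.IsNormalHopfIdeal R A (Ideal.span ({1 - e} : Set A)) := by
  set I := Ideal.span ({1 - e} : Set A)
  intro T _ _ g h hh
  let ε' : A ⧸ I →ₐ[R] R := Ideal.Quotient.liftₐ I (Bialgebra.counitAlgHom R A) fun a ha => by
    obtain ⟨b, rfl⟩ := Ideal.mem_span_singleton'.1 ha
    rw [map_mul, map_sub, map_one, hε, sub_self, mul_zero]
  let g₀ : A →ₐ[R] (A ⧸ I) ⊗[R] A := Algebra.TensorProduct.includeRight
  let h₀ : A →ₐ[R] (A ⧸ I) ⊗[R] A := Algebra.TensorProduct.includeLeft.comp (Ideal.Quotient.mkₐ R I)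
  let c₀ : WithConv (A →ₐ[R] (A ⧸ I) ⊗[R] A) := toConv g₀ * toConv h₀ * toConv (g₀.comp (HopfAlgebra.antipodeAlgHom R A))
  let κ : (A ⧸ I) ⊗[R] A →ₐ[R] A :=
    (Algebra.TensorProduct.lid R A).toAlgHom.comp (Algebra.TensorProduct.map ε' (AlgHom.id R A))
  have hκ : κ.comp c₀.ofConv = (1 : WithConv (A →ₐ[R] A)).ofConv := by
    refine WithConv.toConv_injective ?_
    simp only [c₀, AlgHom.comp_convMul_distrib, toConv_ofConv]
    have e1 : κ.comp g₀ = AlgHom.id R A := AlgHom.ext fun a => by simp [κ, g₀]
    have e2 : toConv (κ.comp h₀) = 1 := WithConv.ofConv_injective (AlgHom.ext fun a => by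
      simp [κ, h₀, ε', Algebra.smul_def, AlgHom.convOne_def])
    rw [e1, e2, mul_one, ← AlgHom.comp_assoc, e1, AlgHom.id_comp]
    exact mul_inv_cancel (toConv (AlgHom.id R A))
  have hf : c₀.ofConv e = 1 := by
    refine idem_tensor_eq_one ε' (he.map c₀.ofConv) ?_
    show (κ.comp c₀.ofConv) e = 1
    rw [hκ, AlgHom.convOne_apply, show Coalgebra.counit (R := R) e = 1 from hε, map_one]
  let hbar : A ⧸ I →ₐ[R] T := Ideal.Quotient.liftₐ I h hh
  let ρ : (A ⧸ I) ⊗[R] A →ₐ[R] T := Algebra.TensorProduct.lift hbar g fun _ _ => Commute.all _ _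
  have hρ : Dyn.conv3 R A g h (g.comp (HopfAlgebra.antipodeAlgHom R A)) = ρ.comp c₀.ofConv := by
    refine WithConv.toConv_injective ?_
    simp only [c₀, toConv_conv3, AlgHom.comp_convMul_distrib, toConv_ofConv]
    have e1 : ρ.comp g₀ = g := AlgHom.ext fun a => by simp [ρ, g₀]
    have e2 : ρ.comp h₀ = h := AlgHom.ext fun a => by simp [ρ, h₀, hbar]
    rw [e1, e2, ← AlgHom.comp_assoc, e1]
  intro a ha
  obtain ⟨b, rfl⟩ := Ideal.mem_span_singleton'.1 ha
  rw [hρ, AlgHom.comp_apply, map_mul, map_mul, map_sub, map_one, hf, sub_self, map_zero, mul_zero]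

end Groth.Agent.S15063
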