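import Groth.Statements.S15064
import Mathlib

set_option autoImplicit false
universe u
open scoped TensorProduct
open Hopf

namespace Groth.Agent.S15064

open scoped TensorProduct
open Module WithConv

theorem comul_eq_of_forall {k : Type u} [Field k] {A : Type u} [AddCommGroup A] [Module k A]
    [FiniteDimensional k A] {z w : A ⊗[k] A}
    (h : ∀ f g : A →ₗ[k] k, TensorProduct.map f g z = TensorProduct.map f g w) : z = w := by
  let b := Module.finBasis k A
  apply (b.tensorProduct b).ext_elem
  rintro ⟨i, j⟩
  have key : ∀ t : A ⊗[k] A, (b.tensorProduct b).repr t (i, j) =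
      TensorProduct.lid k k (TensorProduct.map (b.coord i) (b.coord j) t) := by
    intro t
    induction t using TensorProduct.induction_on with
    | zero => simp
    | add x y hx hy => simp [hx, hy]
    | tmul x y => simp [mul_comm]
  rw [key, key, h]

/-- Evaluation at `1` on the dual. -/
noncomputable def ev1 (k : Type u) [Field k] (A : Type u) [CommRing A] [HopfAlgebra k A] [Coalgebra.IsCocomm k A] :
    WithConv (A →ₗ[k] k) →+* k where
  toFun y := y 1
  map_one' := by simp [LinearMap.convOne_def]
  map_mul' y z := by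
    simp [LinearMap.convMul_apply, Bialgebra.comul_one, Algebra.TensorProduct.one_def]
  map_zero' := by simp
  map_add' y z := by simp

@[simp] theorem ev1_apply (k : Type u) [Field k] (A : Type u) [CommRing A] [HopfAlgebra k A] [Coalgebra.IsCocomm k A]
    (y : WithConv (A →ₗ[k] k)) : ev1 k A y = y 1 := rfl

/-- A local dual has a nonzero primitive. -/
theorem exists_primitive (k : Type u) [Field k]
    (A : Type u) [CommRing A] [HopfAlgebra k A] [Coalgebra.IsCocomm k A] [FiniteDimensional k A]
    [IsLocalRing (WithConv (A →ₗ[k] k))] (hA : 1 < Module.finrank k A) :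
    ∃ x : A, x ≠ 0 ∧ Coalgebra.comul x = x ⊗ₜ[k] (1 : A) + (1 : A) ⊗ₜ[k] x := by
  haveI : Module.Finite k (WithConv (A →ₗ[k] k)) :=
    Module.Finite.equiv (WithConv.linearEquiv k (A →ₗ[k] k)).symm
  haveI : IsArtinianRing (WithConv (A →ₗ[k] k)) := IsArtinianRing.of_finite k _
  let M := IsLocalRing.maximalIdeal (WithConv (A →ₗ[k] k))
  let ev1 := ev1 k A
  have hker : RingHom.ker ev1 = M := by
    haveI : (RingHom.ker ev1).IsMaximal := RingHom.ker_isMaximal_of_surjective ev1 fun c => ⟨algebraMap k _ c, by
      simp [ev1, LinearMap.convAlgebraMap_apply]⟩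
    exact IsLocalRing.eq_maximalIdeal inferInstance
  let W : Submodule k (WithConv (A →ₗ[k] k)) := Submodule.span k {1} ⊔ (M * M).restrictScalars k
  have hW : W ≠ ⊤ := by
    intro htop
    have hMM : M ≤ M • M := fun y hy => by
      have : y ∈ W := htop ▸ Submodule.mem_top
      obtain ⟨a, ha, b, hb, rfl⟩ := Submodule.mem_sup.1 this
      obtain ⟨c, rfl⟩ := Submodule.mem_span_singleton.1 ha
      have h1 : ev1 (c • 1 + b) = 0 := RingHom.mem_ker.1 (hker ▸ hy)
      have h2 : ev1 b = 0 := RingHom.mem_ker.1 (hker ▸ (Ideal.mul_le_left hb : b ∈ M))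
      rw [map_add, h2, add_zero] at h1
      have : c = 0 := by simpa [ev1, LinearMap.convOne_def] using h1
      rw [this, zero_smul, zero_add]; exact hb
    have hM0 : M = ⊥ := Submodule.eq_bot_of_le_smul_of_le_jacobson_bot M M (IsNoetherian.noetherian M) hMM
      (IsLocalRing.maximalIdeal_le_jacobson ⊥)
    have hinj : Function.Injective (fun y : WithConv (A →ₗ[k] k) => y 1) :=
      (RingHom.injective_iff_ker_eq_bot ev1).2 (hker.trans hM0)
    let l : WithConv (A →ₗ[k] k) →ₗ[k] k :=
      { toFun := fun y => y 1, map_add' := fun _ _ => by simp, map_smul' := fun _ _ => by simp }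
    have := LinearMap.finrank_le_finrank_of_injective (f := l) hinj
    rw [Module.finrank_self, (WithConv.linearEquiv k (A →ₗ[k] k)).finrank_eq,
      Module.finrank_linearMap, Module.finrank_self, mul_one] at this
    omega
  obtain ⟨F, hF0, hF'⟩ := Submodule.exists_dual_map_eq_bot_of_lt_top (lt_top_iff_ne_top.2 hW) inferInstance
  have hF := LinearMap.le_ker_iff_map.2 hF'
  let x : A := (Module.evalEquiv k A).symm (F ∘ₗ (WithConv.linearEquiv k (A →ₗ[k] k)).symm.toLinearMap)
  have hx : ∀ y : A →ₗ[k] k, y x = F (toConv y) := fun y =>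
    Module.apply_evalEquiv_symm_apply (R := k) (M := A) y _
  refine ⟨x, fun h => hF0 (LinearMap.ext fun y => ?_), comul_eq_of_forall fun y z => ?_⟩
  · have := hx y.ofConv
    rw [h, map_zero] at this
    exact this.symm
  · apply (TensorProduct.lid k k).injective
    have h1 : F 1 = 0 := LinearMap.mem_ker.1 (hF (Submodule.mem_sup_left (Submodule.mem_span_singleton_self _)))
    have hm : ∀ w : WithConv (A →ₗ[k] k), w - ev1 w • 1 ∈ M := fun w => by
      rw [← hker, RingHom.mem_ker, map_sub]
      simp [ev1, LinearMap.convOne_def]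
    have h2 : F (toConv y * toConv z) = ev1 (toConv y) * F (toConv z) + ev1 (toConv z) * F (toConv y) := by
      have e : toConv y * toConv z = (toConv y - ev1 (toConv y) • 1) * (toConv z - ev1 (toConv z) • 1) +
          ev1 (toConv y) • toConv z + ev1 (toConv z) • toConv y -
            (ev1 (toConv y) * ev1 (toConv z)) • 1 := by
        simp only [mul_sub, sub_mul, smul_mul_assoc, mul_smul_comm, one_mul, mul_one, smul_smul]
        module
      have h0 : F ((toConv y - ev1 (toConv y) • 1) * (toConv z - ev1 (toConv z) • 1)) = 0 :=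
        LinearMap.mem_ker.1 (hF (Submodule.mem_sup_right (Ideal.mul_mem_mul (hm _) (hm _))))
      rw [e]
      simp only [map_sub, map_add, map_smul, h0, h1, smul_eq_mul]
      ring
    have : toConv y * toConv z =
        toConv ((TensorProduct.lid k k).toLinearMap ∘ₗ TensorProduct.map y z ∘ₗ Coalgebra.comul) := by
      apply WithConv.ext; ext a
      simp only [LinearMap.convMul_def, WithConv.ofConv_toConv, LinearMap.comp_apply]
      generalize Coalgebra.comul (R := k) a = t
      induction t using TensorProduct.induction_on with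
      | zero => simp
      | add p q hp hq => simp only [map_add, hp, hq]
      | tmul p q => simp
    rw [this, ← hx] at h2
    simp only [LinearMap.comp_apply, LinearEquiv.coe_coe] at h2
    rw [h2, map_add, map_add, TensorProduct.map_tmul, TensorProduct.map_tmul, TensorProduct.lid_tmul,
      TensorProduct.lid_tmul, ← hx, ← hx]
    simp [ev1]
    ring

theorem counit_eq_zero {k : Type u} [Field k] {A : Type u} [CommRing A] [HopfAlgebra k A] {y : A}
    (hy : Coalgebra.comul y = y ⊗ₜ[k] (1 : A) + (1 : A) ⊗ₜ[k] y) : Coalgebra.counit (R := k) y = 0 := by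
  have h := Coalgebra.rTensor_counit_comul (R := k) y
  rw [hy, map_add, LinearMap.rTensor_tmul, LinearMap.rTensor_tmul, Bialgebra.counit_one] at h
  have := congrArg (fun t => Coalgebra.counit (R := k) (TensorProduct.lid k A t)) h
  simpa using this

/-- The ideal generated by a primitive element. -/
theorem isHopfIdeal_span {k : Type u} [Field k] {A : Type u} [CommRing A] [HopfAlgebra k A]
    {y : A} (hy : Coalgebra.comul y = y ⊗ₜ[k] (1 : A) + (1 : A) ⊗ₜ[k] y) :
    (Ideal.span {y}).IsHopfIdeal k where
  counit_eq_zero x hx := by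
    obtain ⟨a, rfl⟩ := Ideal.mem_span_singleton'.1 hx
    simp [counit_eq_zero hy]
  map_mkQ_comul_eq_zero x hx := by
    obtain ⟨a, rfl⟩ := Ideal.mem_span_singleton'.1 hx
    let π := Ideal.Quotient.mkₐ k (Ideal.span {y})
    have hπ : π y = 0 := Ideal.Quotient.eq_zero_iff_mem.2 (Ideal.mem_span_singleton_self _)
    have : Algebra.TensorProduct.map π π (Bialgebra.comulAlgHom k A (a * y)) = 0 := by
      rw [map_mul, map_mul, show Bialgebra.comulAlgHom k A y = _ from hy, map_add,
        Algebra.TensorProduct.map_tmul, Algebra.TensorProduct.map_tmul, hπ]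
      simp
    exact this
  antipode_mem x hx := by
    obtain ⟨a, rfl⟩ := Ideal.mem_span_singleton'.1 hx
    have h := HopfAlgebra.mul_antipode_rTensor_comul_apply (R := k) y
    rw [hy] at h
    simp [counit_eq_zero hy] at h
    change HopfAlgebra.antipodeAlgHom k A (a * y) ∈ _
    rw [map_mul, show HopfAlgebra.antipodeAlgHom k A y = -y from eq_neg_of_add_eq_zero_left h]
    exact Ideal.mul_mem_left _ _ (Ideal.neg_mem_iff _ |>.2 (Ideal.mem_span_singleton_self _))

/-- Let k be a field of characteristic p > 0 and A a finite-dimensional commutative and cocommutative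
Hopf algebra over k (a finite commutative k-group G = Spec A) which is bi-infinitesimal — A is a
local ring and so is the dual algebra Hom_k(A, k) with the convolution product (G and its Cartier
dual are connected) — with dim_k A > 1, and assume G is simple: every Hopf ideal of A is either zero
or the augmentation ideal (G has no closed subgroup schemes other than G and 1). Then G is
isomorphic to α_p: A has a primitive element x (Δ(x) = x ⊗ 1 + 1 ⊗ x) with x^p = 0 whose powers 1,
x, …, x^(p−1) are linearly independent over k, and dim_k A = p (so A = k[x]/(x^p) with x primitive). -/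
theorem result (k : Type u) [Field k] (p : ℕ) [Fact p.Prime] [CharP k p]
    (A : Type u) [CommRing A] [HopfAlgebra k A] [Coalgebra.IsCocomm k A] [FiniteDimensional k A] [IsLocalRing A]
    (hdual : IsLocalRing (WithConv (A →ₗ[k] k))) (hA : 1 < Module.finrank k A)
    (hsimple : ∀ I : Ideal A, I.IsHopfIdeal k → I = ⊥ ∨ I = RingHom.ker (Bialgebra.counitAlgHom k A)) :
    ∃ x : A, Coalgebra.comul x = x ⊗ₜ[k] (1 : A) + (1 : A) ⊗ₜ[k] x ∧ x ^ p = 0 ∧
      LinearIndependent k (fun i : Fin p => x ^ (i : ℕ)) ∧ Module.finrank k A = p := by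
  haveI := hdual
  obtain ⟨x₀, hx₀, hprim₀⟩ := exists_primitive k A hA
  haveI : Nontrivial A := ⟨⟨x₀, 0, hx₀⟩⟩
  haveI : CharP A p := charP_of_injective_algebraMap (algebraMap k A).injective p
  haveI : CharP (A ⊗[k] A) p := charP_of_injective_algebraMap (algebraMap k (A ⊗[k] A)).injective p
  haveI : ExpChar (A ⊗[k] A) p := ExpChar.prime Fact.out
  haveI : IsArtinianRing A := IsArtinianRing.of_finite k A
  have hprimN : ∀ N, Coalgebra.comul (x₀ ^ p ^ N) =
      (x₀ ^ p ^ N) ⊗ₜ[k] (1 : A) + (1 : A) ⊗ₜ[k] (x₀ ^ p ^ N) := fun N => by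
    rw [Bialgebra.comul_pow, hprim₀, add_pow_expChar_pow, Algebra.TensorProduct.tmul_pow,
      Algebra.TensorProduct.tmul_pow, one_pow]
  obtain ⟨N, hN⟩ : IsNilpotent x₀ := by
    rw [nilpotent_iff_mem_prime]
    intro P hP
    haveI : P.IsPrime := hP
    rw [IsLocalRing.eq_maximalIdeal (IsArtinianRing.isMaximal_of_isPrime P)]
    by_contra hu
    rw [IsLocalRing.notMem_maximalIdeal] at hu
    simpa [counit_eq_zero hprim₀] using hu.map (Bialgebra.counitAlgHom k A)
  classical
  have hex : ∃ N, x₀ ^ p ^ N = 0 :=
    ⟨N, pow_eq_zero_of_le (Nat.lt_pow_self (Nat.Prime.one_lt Fact.out)).le hN⟩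
  have hpos : 0 < Nat.find hex := Nat.pos_of_ne_zero fun h => hx₀ (by
    have := Nat.find_spec hex; rwa [h, pow_zero, pow_one] at this)
  set y := x₀ ^ p ^ (Nat.find hex - 1) with hy
  have hy0 : y ≠ 0 := Nat.find_min hex (by omega)
  have hyp : y ^ p = 0 := by
    rw [hy, ← pow_mul, ← pow_succ, Nat.sub_add_cancel hpos]
    exact Nat.find_spec hex
  have hprim := hprimN (Nat.find hex - 1)
  rw [← hy] at hprim
  have hI : Ideal.span {y} = RingHom.ker (Bialgebra.counitAlgHom k A) :=
    (hsimple _ (isHopfIdeal_span hprim)).resolve_left (by simpa using hy0)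
  have hm : ∃ m, y ^ m = 0 := ⟨p, hyp⟩
  have hmp : Nat.find hm ≤ p := Nat.find_min' hm hyp
  have hm2 : 2 ≤ Nat.find hm := by
    rw [Nat.le_find_iff]
    intro i hi
    interval_cases i
    · simp
    · simpa using hy0
  generalize hmdef : Nat.find hm = m at hmp hm2
  have hym : y ^ m = 0 := hmdef ▸ Nat.find_spec hm
  have hmin : ∀ i < m, y ^ i ≠ 0 := fun i hi => Nat.find_min hm (hmdef ▸ hi)
  have hli : LinearIndependent k (fun i : Fin m => y ^ (i : ℕ)) := by
    rw [Fintype.linearIndependent_iff]
    intro c hc i
    induction i using WellFoundedLT.induction with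
    | ind i ih =>
      have := congrArg (fun z => z * y ^ (m - 1 - (i : ℕ))) hc
      rw [zero_mul, Finset.sum_mul, Finset.sum_eq_single i] at this
      · rw [smul_mul_assoc, ← pow_add] at this
        rcases smul_eq_zero.1 this with h | h
        · exact h
        · exact absurd h (hmin _ (by omega))
      · intro j _ hj
        rcases lt_or_gt_of_ne hj with h | h
        · rw [ih j h, zero_smul, zero_mul]
        · rw [smul_mul_assoc, ← pow_add, pow_eq_zero_of_le (by omega) hym, smul_zero]
      · simp
  have hspan : ∀ (n : ℕ) (a : A), ∃ s ∈ Submodule.span k (Set.range fun i : Fin n => y ^ (i : ℕ)),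
      ∃ r, a = s + y ^ n * r := by
    intro n
    induction n with
    | zero => exact fun a => ⟨0, Submodule.zero_mem _, a, by simp⟩
    | succ n ih =>
      intro a
      obtain ⟨s, hs, r, rfl⟩ := ih a
      obtain ⟨r', hr'⟩ := Ideal.mem_span_singleton'.1 (hI.ge (show r - algebraMap k A (Coalgebra.counit (R := k) r) ∈ RingHom.ker (Bialgebra.counitAlgHom k A) by
        rw [RingHom.mem_ker, map_sub, Bialgebra.counitAlgHom_apply, Bialgebra.counitAlgHom_apply,
          Bialgebra.counit_algebraMap, sub_self]))
      refine ⟨s + Coalgebra.counit (R := k) r • y ^ n, Submodule.add_mem _ ?_ ?_, r', ?_⟩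
      · refine Submodule.span_mono ?_ hs
        rintro _ ⟨i, rfl⟩
        exact ⟨i.castSucc, rfl⟩
      · exact Submodule.smul_mem _ _ (Submodule.subset_span ⟨Fin.last n, rfl⟩)
      · rw [Algebra.smul_def, pow_succ]
        linear_combination -(y ^ n) * hr'
  let b : Basis (Fin m) k A := Basis.mk hli (fun a _ => by
    obtain ⟨s, hs, r, rfl⟩ := hspan m a
    rw [hym, zero_mul, add_zero]; exact hs)
  have hb : ∀ i, b i = y ^ (i : ℕ) := fun i => Basis.mk_apply _ _ i
  have hmp' : m = p := by
    refine le_antisymm hmp ?_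
    let φ := b.coord ⟨1, by omega⟩
    let ψ := b.coord ⟨m - 1, by omega⟩
    have h : (TensorProduct.map φ ψ) (Coalgebra.comul (y ^ m)) = 0 := by rw [hym, map_zero, map_zero]
    rw [Bialgebra.comul_pow, hprim, add_pow, map_sum, Finset.sum_eq_single 1] at h
    · rw [Algebra.TensorProduct.tmul_pow, Algebra.TensorProduct.tmul_pow, one_pow, one_pow,
        Algebra.TensorProduct.tmul_mul_tmul, one_mul, pow_one, mul_one, Nat.choose_one_right,
        ← nsmul_eq_mul', map_nsmul, TensorProduct.map_tmul] at h
      have h1 : φ y = 1 := by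
        have := hb ⟨1, by omega⟩
        simp only [pow_one] at this
        rw [← this]; simp [φ]
      have h2 : ψ (y ^ (m - 1)) = 1 := by rw [← hb ⟨m - 1, by omega⟩]; simp [ψ]
      rw [h1, h2] at h
      have h3 := congrArg (TensorProduct.lid k k) h
      rw [map_nsmul, TensorProduct.lid_tmul, map_zero, one_smul, nsmul_eq_mul, mul_one] at h3
      exact Nat.le_of_dvd (by omega) ((CharP.cast_eq_zero_iff k p m).1 h3)
    · intro i hi hi1
      rw [Algebra.TensorProduct.tmul_pow, Algebra.TensorProduct.tmul_pow, one_pow, one_pow,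
        Algebra.TensorProduct.tmul_mul_tmul, one_mul, mul_one, ← nsmul_eq_mul', map_nsmul,
        TensorProduct.map_tmul]
      have : φ (y ^ i) = 0 := by
        rcases lt_or_ge i m with h' | h'
        · rw [← hb ⟨i, h'⟩]
          simp [φ, Finsupp.single_apply, hi1]
        · rw [pow_eq_zero_of_le h' hym, map_zero]
      rw [this, TensorProduct.zero_tmul, smul_zero]
    · intro h1; simp at h1; omega
  subst hmp'
  exact ⟨y, hprim, hym, hli, by rw [Module.finrank_eq_card_basis b, Fintype.card_fin]⟩

end Groth.Agent.S15064
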