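import Groth.Statements.S15065
import Groth.Agent.CAlg.FiniteAlgClosed
import Groth.Agent.FBase.TensorAlgClosed

set_option autoImplicit false
universe u
open Hopf

namespace Groth.Agent.S15065

open TensorProduct WithConv

/-- Let k be an algebraically closed field and A a finite-dimensional commutative and cocommutative Hopf
algebra over k which is reduced (a finite étale commutative k-group G = Spec A), with dim_k A > 1,
and assume G is simple: every Hopf ideal of A is either zero or the augmentation ideal (no closed
subgroup schemes other than G and 1). Then the order dim_k A is a prime number ℓ, so that G is the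
constant group ℤ/ℓℤ. (The published statement lists the simple finite commutative groups over an
algebraically closed field of characteristic p > 0; the étale case does not use the characteristic
and is stated here for any algebraically closed field.) -/
theorem result (k : Type u) [Field k] [IsAlgClosed k] (A : Type u) [CommRing A] [HopfAlgebra k A]
    [Coalgebra.IsCocomm k A] [FiniteDimensional k A] [IsReduced A] (hA : 1 < Module.finrank k A)
    (hsimple : ∀ I : Ideal A, I.IsHopfIdeal k → I = ⊥ ∨ I = RingHom.ker (Bialgebra.counitAlgHom k A)) :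
    (Module.finrank k A).Prime := by
  classical
  let P := WithConv (A →ₐ[k] k)
  haveI : Finite P := Finite.of_equiv _ (WithConv.equiv (A →ₐ[k] k)).symm
  have hev : Function.Bijective (AlgHom.pi (R := k) (fun f : A →ₐ[k] k => f)) := by
    refine ⟨?_, Groth.Agent.CAlg.FiniteAlgClosed.eval_surjective k A⟩
    rw [injective_iff_map_eq_zero]
    intro x hx
    have h : x ∈ RingHom.ker (AlgHom.pi (R := k) (fun f : A →ₐ[k] k => f)) := hx
    rw [Groth.Agent.CAlg.FiniteAlgClosed.ker_eval, nilradical_eq_zero] at h
    exact h
  have hcard : Nat.card P = Module.finrank k A := by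
    rw [Nat.card_congr (WithConv.equiv (A →ₐ[k] k))]
    haveI : Fintype (A →ₐ[k] k) := Fintype.ofFinite _
    rw [(AlgEquiv.ofBijective _ hev).toLinearEquiv.finrank_eq, Module.finrank_fintype_fun_eq_card,
      Nat.card_eq_fintype_card]
  by_contra hnp
  obtain ⟨q, hq, hqn⟩ : ∃ q, q.Prime ∧ q ∣ Nat.card P := Nat.exists_prime_and_dvd (by omega)
  haveI : Fact q.Prime := ⟨hq⟩
  obtain ⟨g, hg⟩ := exists_prime_orderOf_dvd_card' q hqn
  let H := Subgroup.zpowers g
  have hH : Nat.card H = q := by rw [Nat.card_zpowers, hg]
  let I : Ideal A := ⨅ h : H, RingHom.ker (h : P).ofConv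
  have hI : ∀ x, x ∈ I ↔ ∀ h ∈ H, h.ofConv x = 0 := fun x => by simp [I, Ideal.mem_iInf, RingHom.mem_ker]
  have hpts : ∀ χ : A →ₐ[k] k, (∀ x ∈ I, χ x = 0) → toConv χ ∈ H := by
    intro χ hχ
    by_contra hne
    obtain ⟨x, hx⟩ := hev.2 fun f => if f = χ then 1 else 0
    have h1 : χ x = 1 := by have := congrFun hx χ; simpa using this
    refine one_ne_zero (h1.symm.trans (hχ x ((hI x).2 fun h hh => ?_)))
    have h2 : h.ofConv x = if h.ofConv = χ then 1 else 0 := congrFun hx h.ofConv
    rw [h2, if_neg]
    rintro rfl
    exact hne hh
  haveI hred : IsReduced (A ⧸ I) := by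
    refine (Ideal.isRadical_iff_quotient_reduced I).1 ?_
    intro x hx
    obtain ⟨n, hn⟩ := hx
    refine (hI x).2 fun h hh => ?_
    have := (hI _).1 hn h hh
    rw [map_pow] at this
    exact eq_zero_of_pow_eq_zero this
  have hHopf : I.IsHopfIdeal k :=
    { counit_eq_zero := fun x hx => by
        have := (hI x).1 hx 1 H.one_mem
        rwa [AlgHom.convOne_apply, Algebra.algebraMap_self, RingHom.id_apply] at this
      map_mkQ_comul_eq_zero := fun x hx => by
        let π : A →ₐ[k] A ⧸ I := Ideal.Quotient.mkₐ k I
        show Algebra.TensorProduct.map π π (Bialgebra.comulAlgHom k A x) = 0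
        haveI : Algebra.IsGeometricallyReduced k (A ⧸ I) := Groth.Agent.FBase.TensorAlgClosed.isGeometricallyReduced_of_perfectField
        haveI : IsReduced ((A ⧸ I) ⊗[k] (A ⧸ I)) := Groth.Agent.FBase.TensorAlgClosed.isReduced_tensor_of_isReduced_of_isGeometricallyReduced
        have h : Algebra.TensorProduct.map π π (Bialgebra.comulAlgHom k A x) ∈
            RingHom.ker (AlgHom.pi (R := k) (fun f : (A ⧸ I) ⊗[k] (A ⧸ I) →ₐ[k] k => f)) := by
          rw [RingHom.mem_ker]
          funext ρ
          show ρ (Algebra.TensorProduct.map π π (Bialgebra.comulAlgHom k A x)) = 0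
          let a := (ρ.comp Algebra.TensorProduct.includeLeft).comp π
          let b := (ρ.comp Algebra.TensorProduct.includeRight).comp π
          have hmem : ∀ χ : A ⧸ I →ₐ[k] k, toConv (χ.comp π) ∈ H := fun χ =>
            hpts _ fun y hy => by
              show χ (Ideal.Quotient.mk I y) = 0
              rw [Ideal.Quotient.eq_zero_iff_mem.2 hy, map_zero]
          refine Eq.trans ?_ ((hI x).1 hx _ (H.mul_mem (hmem (ρ.comp Algebra.TensorProduct.includeLeft))
            (hmem (ρ.comp Algebra.TensorProduct.includeRight))))
          show _ = (toConv a * toConv b) x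
          rw [AlgHom.convMul_apply, Bialgebra.comulAlgHom_apply]
          generalize Coalgebra.comul (R := k) x = t
          induction t using TensorProduct.induction_on with
          | zero => simp
          | add p q hp hq => simp only [map_add, hp, hq]
          | tmul p q =>
            simp [a, b, ← map_mul]
        rw [Groth.Agent.CAlg.FiniteAlgClosed.ker_eval, nilradical_eq_zero] at h
        exact h
      antipode_mem := fun x hx => (hI _).2 fun h hh => (hI x).1 hx _ (H.inv_mem hh) }
  rcases hsimple I hHopf with hbot | htop
  · have hall : H = ⊤ := eq_top_iff.2 fun χ _ => by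
      have := hpts χ.ofConv fun x hx => by
        rw [hbot] at hx; rw [(Submodule.mem_bot A).1 hx, map_zero]
      exact this
    rw [hall, Subgroup.card_top, hcard] at hH
    exact hnp (hH ▸ hq)
  · have hg1 : g = 1 := by
      refine WithConv.ofConv_injective (AlgHom.ext fun x => ?_)
      have hx : x - algebraMap k A (Coalgebra.counit (R := k) x) ∈ I := by
        rw [htop]; simp [RingHom.mem_ker]
      have := (hI _).1 hx g (Subgroup.mem_zpowers g)
      rw [map_sub, AlgHom.commutes, sub_eq_zero] at this
      rw [this, AlgHom.convOne_def]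
      simp
    rw [hg1, orderOf_one] at hg
    exact hq.ne_one hg.symm

end Groth.Agent.S15065
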