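import Groth.Statements.S15066
import Mathlib

set_option autoImplicit false
universe u
open Hopf

namespace Groth.Agent.S15066

open scoped TensorProduct
open Module WithConv

theorem comul_eq_of_forall {k : Type u} [Field k] {A : Type u} [AddCommGroup A] [Module k A]
    [FiniteDimensional k A] {z w : A ⊗[k] A}
    (h : ∀ f g : A →ₗ[k] k, TensorProduct.map f g z = TensorProduct.map f g w) : z = w := by
  let b := Module.finBasis k A
  apply (b.tensorProduct b).ext_elem
  rintro ⟨i, j⟩
  have key : ∀ t : A ⊗[k] A, (b.tensorProduct b).repr t (i, j) =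
      TensorProduct.lid k k (TensorProduct.map (b.coord i) (b.coord j) t) := by
    intro t
    induction t using TensorProduct.induction_on with
    | zero => simp
    | add x y hx hy => simp [hx, hy]
    | tmul x y => simp [mul_comm]
  rw [key, key, h]

/-- With reduced dual over an algebraically closed field, group-like elements span. -/
theorem span_groupLike_eq_top (k : Type u) [Field k] [IsAlgClosed k]
    (A : Type u) [CommRing A] [HopfAlgebra k A] [Coalgebra.IsCocomm k A] [FiniteDimensional k A]
    (hdual : IsReduced (WithConv (A →ₗ[k] k))) :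
    Submodule.span k {a : A | IsGroupLikeElem k a} = ⊤ := by
  by_contra hne
  obtain ⟨f, hf0, hf'⟩ := Submodule.exists_dual_map_eq_bot_of_lt_top (lt_top_iff_ne_top.2 hne) inferInstance
  have hf := LinearMap.le_ker_iff_map.2 hf'
  haveI : Module.Finite k (WithConv (A →ₗ[k] k)) :=
    Module.Finite.equiv (WithConv.linearEquiv k (A →ₗ[k] k)).symm
  haveI : IsArtinianRing (WithConv (A →ₗ[k] k)) := IsArtinianRing.of_finite k _
  let x : WithConv (A →ₗ[k] k) := toConv f
  have hx : x ≠ 0 := fun h => hf0 (congrArg WithConv.ofConv h)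
  have : ¬ IsNilpotent x := fun h => hx h.eq_zero
  obtain ⟨m, hm, hxm⟩ : ∃ m : Ideal (WithConv (A →ₗ[k] k)), m.IsMaximal ∧ x ∉ m := by
    by_contra hall
    push Not at hall
    refine this ?_
    rw [nilpotent_iff_mem_prime]
    exact fun P hP => hall P (IsArtinianRing.isMaximal_of_isPrime P)
  haveI := hm
  letI : Field (WithConv (A →ₗ[k] k) ⧸ m) := Ideal.Quotient.field m
  let e : k ≃ₐ[k] WithConv (A →ₗ[k] k) ⧸ m :=
    AlgEquiv.ofBijective (Algebra.ofId k _) (IsAlgClosed.algebraMap_bijective_of_isIntegral)
  let χ : WithConv (A →ₗ[k] k) →ₐ[k] k := e.symm.toAlgHom.comp (Ideal.Quotient.mkₐ k m)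
  have hχx : χ x ≠ 0 := fun h => hxm (Ideal.Quotient.eq_zero_iff_mem.1 (e.symm.injective (h.trans (map_zero _).symm)))
  let g : A := (Module.evalEquiv k A).symm (χ.toLinearMap ∘ₗ (WithConv.linearEquiv k (A →ₗ[k] k)).symm.toLinearMap)
  have hg : ∀ y : A →ₗ[k] k, y g = χ (toConv y) := fun y =>
    Module.apply_evalEquiv_symm_apply (R := k) (M := A) y _
  have hgl : IsGroupLikeElem k g := by
    constructor
    · rw [hg]
      have : (toConv (Coalgebra.counit : A →ₗ[k] k)) = 1 := by
        apply WithConv.ext; ext a; simp [LinearMap.convOne_def]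
      rw [this, map_one]
    · apply comul_eq_of_forall
      intro y z
      apply (TensorProduct.lid k k).injective
      rw [TensorProduct.map_tmul, TensorProduct.lid_tmul, hg, hg, smul_eq_mul, ← map_mul]
      have : toConv y * toConv z =
          toConv ((TensorProduct.lid k k).toLinearMap ∘ₗ TensorProduct.map y z ∘ₗ Coalgebra.comul) := by
        apply WithConv.ext; ext a
        simp only [LinearMap.convMul_def, WithConv.ofConv_toConv, LinearMap.comp_apply]
        generalize Coalgebra.comul (R := k) a = t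
        induction t using TensorProduct.induction_on with
        | zero => simp
        | add p q hp hq => simp only [map_add, hp, hq]
        | tmul p q => simp
      rw [this, ← hg]
      rfl
  exact hχx ((hg f).symm.trans (LinearMap.mem_ker.1 (hf (Submodule.subset_span hgl))))

/-- The ideal generated by `g - 1` for a group-like `g`. -/
theorem isHopfIdeal_span {k : Type u} [Field k] {A : Type u} [CommRing A] [HopfAlgebra k A]
    {g : A} (hg : IsGroupLikeElem k g) : (Ideal.span {g - 1}).IsHopfIdeal k where
  counit_eq_zero x hx := by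
    obtain ⟨a, rfl⟩ := Ideal.mem_span_singleton'.1 hx
    simp [hg.counit_eq_one]
  map_mkQ_comul_eq_zero x hx := by
    obtain ⟨a, rfl⟩ := Ideal.mem_span_singleton'.1 hx
    let π := Ideal.Quotient.mkₐ k (Ideal.span {g - 1})
    have hπ : π g = 1 := by
      have : π (g - 1) = 0 := Ideal.Quotient.eq_zero_iff_mem.2 (Ideal.mem_span_singleton_self _)
      rwa [map_sub, map_one, sub_eq_zero] at this
    have : Algebra.TensorProduct.map π π (Bialgebra.comulAlgHom k A (a * (g - 1))) = 0 := by
      rw [map_mul, map_mul, map_sub, map_sub, map_one, map_one, Bialgebra.comulAlgHom_apply,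
        Bialgebra.comulAlgHom_apply, hg.comul_eq_tmul_self, Algebra.TensorProduct.map_tmul, hπ,
        ← Algebra.TensorProduct.one_def, sub_self, mul_zero]
    exact this
  antipode_mem x hx := by
    obtain ⟨a, rfl⟩ := Ideal.mem_span_singleton'.1 hx
    have h : HopfAlgebra.antipodeAlgHom k A (g - 1) = -(HopfAlgebra.antipode k g) * (g - 1) := by
      rw [map_sub, map_one, HopfAlgebra.antipodeAlgHom_apply, neg_mul, mul_sub, mul_one,
        hg.antipode_mul_cancel]
      ring
    change HopfAlgebra.antipodeAlgHom k A (a * (g - 1)) ∈ _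
    rw [map_mul, h, ← mul_assoc]
    exact Ideal.mul_mem_left _ _ (Ideal.mem_span_singleton_self _)

/-- Let k be an algebraically closed field of characteristic p > 0 and A a finite-dimensional
commutative and cocommutative Hopf algebra over k (a finite commutative k-group G = Spec A) which is
a local ring (G connected) and whose dual algebra Hom_k(A, k) with the convolution product is
reduced (the Cartier dual of G is étale, i.e. G is multiplicative), with dim_k A > 1, and assume G
is simple: every Hopf ideal of A is either zero or the augmentation ideal (no closed subgroup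
schemes other than G and 1). Then G is isomorphic to μ_p: A has a group-like element g (Δ(g) = g ⊗
g, ε(g) = 1) with g^p = 1 whose powers 1, g, …, g^(p−1) are linearly independent over k, and dim_k A
= p (so A = k[g]/(g^p − 1)). -/
theorem result (k : Type u) [Field k] [IsAlgClosed k] (p : ℕ) [Fact p.Prime]
    [CharP k p] (A : Type u) [CommRing A] [HopfAlgebra k A] [Coalgebra.IsCocomm k A] [FiniteDimensional k A]
    [IsLocalRing A] (hdual : IsReduced (WithConv (A →ₗ[k] k))) (hA : 1 < Module.finrank k A)
    (hsimple : ∀ I : Ideal A, I.IsHopfIdeal k → I = ⊥ ∨ I = RingHom.ker (Bialgebra.counitAlgHom k A)) :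
    ∃ g : A, IsGroupLikeElem k g ∧ g ^ p = 1 ∧ LinearIndependent k (fun i : Fin p => g ^ (i : ℕ)) ∧
      Module.finrank k A = p := by
  haveI := hdual
  have hspan := span_groupLike_eq_top k A hdual
  let b : Basis {a : A | IsGroupLikeElem k a} k A :=
    Basis.mk linearIndepOn_isGroupLikeElem.linearIndependent (by
      rw [← Set.image_eq_range, Set.image_id, hspan])
  have hbapp : ∀ a, b a = (a : A) := fun a => Basis.mk_apply _ _ a
  haveI : Finite {a : A | IsGroupLikeElem k a} := Module.Finite.finite_basis b
  -- a nontrivial group-like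
  obtain ⟨h₀, hh₀, hne₀⟩ : ∃ h : A, IsGroupLikeElem k h ∧ h ≠ 1 := by
    by_contra hall
    push Not at hall
    haveI : Subsingleton {a : A | IsGroupLikeElem k a} :=
      ⟨fun x y => Subtype.ext ((hall _ x.2).trans (hall _ y.2).symm)⟩
    have := Module.finrank_eq_nat_card_basis b
    have h2 : Nat.card {a : A | IsGroupLikeElem k a} ≤ 1 := Finite.card_le_one_iff_subsingleton.2 ‹_›
    omega
  haveI : Nontrivial A := ⟨⟨h₀, 1, hne₀⟩⟩
  haveI : CharP A p := charP_of_injective_algebraMap (algebraMap k A).injective p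
  haveI : ExpChar A p := ExpChar.prime Fact.out
  haveI : IsArtinianRing A := IsArtinianRing.of_finite k A
  have hpow : ∀ h : A, IsGroupLikeElem k h → ∃ N, h ^ p ^ N = 1 := fun h hh => by
    have hnil : IsNilpotent (h - 1) := by
      rw [← mem_nilradical, show nilradical A = IsLocalRing.maximalIdeal A from ?_]
      · by_contra hu
        rw [IsLocalRing.notMem_maximalIdeal] at hu
        have : IsUnit (Coalgebra.counit (R := k) (h - 1)) := hu.map (Bialgebra.counitAlgHom k A)
        simp [hh.counit_eq_one] at this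
      · refine le_antisymm (IsLocalRing.le_maximalIdeal (by simp [nilradical, Ideal.radical_eq_top])) ?_
        rw [nilradical_eq_sInf]
        refine le_sInf fun P hP => ?_
        haveI : P.IsPrime := hP
        exact (IsLocalRing.eq_maximalIdeal (IsArtinianRing.isMaximal_of_isPrime P)).ge
    obtain ⟨N, hN⟩ := hnil
    refine ⟨N, ?_⟩
    have h1 : (h - 1) ^ p ^ N = 0 := pow_eq_zero_of_le (Nat.lt_pow_self (Nat.Prime.one_lt Fact.out)).le hN
    rwa [sub_pow_expChar_pow, one_pow, sub_eq_zero] at h1
  obtain ⟨g, hg, hgp, hg1⟩ : ∃ g : A, IsGroupLikeElem k g ∧ g ^ p = 1 ∧ g ≠ 1 := by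
    classical
    have hN := hpow h₀ hh₀
    have hpos : 0 < Nat.find hN := Nat.pos_of_ne_zero fun h => hne₀ (by
      have := Nat.find_spec hN; rwa [h, pow_zero, pow_one] at this)
    refine ⟨h₀ ^ p ^ (Nat.find hN - 1), hh₀.pow, ?_,
      Nat.find_min hN (by omega)⟩
    rw [← pow_mul, ← pow_succ, Nat.sub_add_cancel hpos]
    exact Nat.find_spec hN
  have hI : Ideal.span {g - 1} = RingHom.ker (Bialgebra.counitAlgHom k A) := by
    refine (hsimple _ (isHopfIdeal_span hg)).resolve_left fun h => hg1 ?_
    rw [Ideal.span_singleton_eq_bot, sub_eq_zero] at h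
    exact h
  classical
  let L : A →ₗ[k] k := b.constr k fun a => if ∃ i : Fin p, g ^ (i : ℕ) = (a : A) then 1 else 0
  have hL : ∀ a, IsGroupLikeElem k a → L a = if ∃ i : Fin p, g ^ (i : ℕ) = a then 1 else 0 :=
    fun a ha => by
      have : L (b ⟨a, ha⟩) = _ := b.constr_basis k _ ⟨a, ha⟩
      rwa [hbapp] at this
  have hp0 : 0 < p := Nat.Prime.pos Fact.out
  have hmod : ∀ n : ℕ, g ^ n = g ^ (n % p) := fun n => by
    conv_lhs => rw [← Nat.mod_add_div n p, pow_add, pow_mul, hgp, one_pow, mul_one]
  have hinv : L ∘ₗ LinearMap.mulLeft k g = L := by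
    refine b.ext fun a => ?_
    rw [LinearMap.comp_apply, hbapp, LinearMap.mulLeft_apply, hL _ (hg.mul a.2), hL _ a.2]
    refine if_congr ⟨?_, ?_⟩ rfl rfl
    · rintro ⟨i, hi⟩
      refine ⟨⟨((i : ℕ) + (p - 1)) % p, Nat.mod_lt _ hp0⟩, ?_⟩
      show g ^ _ = _
      rw [← hmod, pow_add, hi, mul_comm g, mul_assoc, ← pow_succ', Nat.sub_add_cancel hp0, hgp, mul_one]
    · rintro ⟨i, hi⟩
      refine ⟨⟨((i : ℕ) + 1) % p, Nat.mod_lt _ hp0⟩, ?_⟩
      show g ^ _ = _
      rw [← hmod, pow_succ, hi, mul_comm]
  have hall : ∀ h, IsGroupLikeElem k h → ∃ i : Fin p, g ^ (i : ℕ) = h := by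
    intro h hh
    have hmem : h - 1 ∈ Ideal.span {g - 1} := by
      rw [hI, RingHom.mem_ker, map_sub, map_one, Bialgebra.counitAlgHom_apply, hh.counit_eq_one, sub_self]
    obtain ⟨a, ha⟩ := Ideal.mem_span_singleton'.1 hmem
    have h0 : L (h - 1) = 0 := by
      rw [← ha, mul_sub, mul_one, map_sub, mul_comm]
      exact sub_eq_zero.2 (LinearMap.congr_fun hinv a)
    by_contra hne
    rw [map_sub, hL h hh, hL 1 .one, if_neg hne, if_pos ⟨⟨0, hp0⟩, pow_zero g⟩, zero_sub, neg_eq_zero] at h0
    exact one_ne_zero h0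
  have hord : orderOf g = p := orderOf_eq_prime hgp hg1
  have hinj : Function.Injective fun i : Fin p => g ^ (i : ℕ) := fun i j h =>
    Fin.ext (pow_injOn_Iio_orderOf (by simp [hord, i.2]) (by simp [hord, j.2]) h)
  let e : Fin p ≃ {a : A | IsGroupLikeElem k a} :=
    Equiv.ofBijective (fun i => ⟨g ^ (i : ℕ), hg.pow⟩)
      ⟨fun i j h => hinj (congrArg Subtype.val h),
       fun a => (hall a a.2).imp fun i hi => Subtype.ext hi⟩
  refine ⟨g, hg, hgp, ?_, ?_⟩
  · have := b.linearIndependent.comp e e.injective
    convert this using 1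
    funext i
    exact (hbapp (e i)).symm
  · rw [Module.finrank_eq_nat_card_basis b, ← Nat.card_congr e, Nat.card_fin]

end Groth.Agent.S15066
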