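import Groth.Statements.S15068
import Groth.Agent.CartKit.Ext
import Mathlib.Tactic.Ring

set_option autoImplicit false
universe u
open scoped TensorProduct
open Hopf

namespace Groth.Agent.S15068

open Groth.Agent.CartKit

/-- Let R be a henselian Noetherian local ring, A and A'' commutative Hopf algebras over R which are
finite and flat as R-modules, and A'' → A an R-algebra homomorphism compatible with
comultiplications and counits making A faithfully flat over A'' (a faithfully flat homomorphism π :
G → G'' of finite flat R-groups); let J ⊆ A be the ideal generated by the image of the augmentation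
ideal of A'' (G' = Spec A/J = ker π, so 1 → G' → G → G'' → 1 is exact). Assume A'' is a local ring
(G'' connected) and A/J is étale over R (G' finite étale), and let e ∈ A be an idempotent with ε(e)
= 1 such that A/(1 − e) is local (G⁰ = Spec A/(1 − e), the unit component of G). Then the composite
A'' → A → A/(1 − e) is bijective: the restriction G⁰ → G'' of π is an isomorphism, whose inverse
splits the extension, G ≅ G' × G''. -/
theorem result (R : Type u) [CommRing R] [HenselianLocalRing R]
    [IsNoetherianRing R] (A A'' : Type u) [CommRing A] [HopfAlgebra R A] [Module.Finite R A] [Module.Flat R A]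
    [CommRing A''] [HopfAlgebra R A''] [Module.Finite R A''] [Module.Flat R A'']
    [Algebra A'' A] [IsScalarTower R A'' A] [Module.FaithfullyFlat A'' A]
    (hΔ : (Bialgebra.comulAlgHom R A).comp (IsScalarTower.toAlgHom R A'' A) =
      (Algebra.TensorProduct.map (IsScalarTower.toAlgHom R A'' A) (IsScalarTower.toAlgHom R A'' A)).comp
        (Bialgebra.comulAlgHom R A''))
    (hε : (Bialgebra.counitAlgHom R A).comp (IsScalarTower.toAlgHom R A'' A) = Bialgebra.counitAlgHom R A'')
    [IsLocalRing A''] [Algebra.Etale R (A ⧸ (RingHom.ker (Bialgebra.counitAlgHom R A'')).map (algebraMap A'' A))]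
    (e : A) (he : IsIdempotentElem e) (heε : Bialgebra.counitAlgHom R A e = 1)
    [IsLocalRing (A ⧸ Ideal.span ({1 - e} : Set A))] :
    Function.Bijective ((Ideal.Quotient.mkₐ R (Ideal.span ({1 - e} : Set A))).comp (IsScalarTower.toAlgHom R A'' A)) := by
  set I := Ideal.span ({1 - e} : Set A)
  set J := (RingHom.ker (Bialgebra.counitAlgHom R A'')).map (algebraMap A'' A)
  haveI : Module.Finite A'' A := Module.Finite.of_restrictScalars_finite R A'' A
  let ε' : A ⧸ I →ₐ[R] R := Ideal.Quotient.liftₐ I (Bialgebra.counitAlgHom R A) fun a ha => by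
    obtain ⟨b, rfl⟩ := Ideal.mem_span_singleton'.1 ha
    rw [map_mul, map_sub, map_one, heε, sub_self, mul_zero]
  have hJε : ∀ a ∈ J, Bialgebra.counitAlgHom R A a = 0 := by
    intro a ha
    have : J ≤ RingHom.ker (Bialgebra.counitAlgHom R A) := Ideal.map_le_iff_le_comap.2 fun x hx => by
      rw [Ideal.mem_comap, RingHom.mem_ker, ← RingHom.mem_ker.1 hx, ← hε]
      rfl
    exact this ha
  let q : A →ₐ[R] A ⧸ I := Ideal.Quotient.mkₐ R I
  let C := (A ⧸ I) ⧸ J.map q
  let εC : C →ₐ[R] R := Ideal.Quotient.liftₐ (J.map q) ε' fun a ha => by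
    have : J.map q ≤ RingHom.ker ε' := Ideal.map_le_iff_le_comap.2 fun x hx => hJε x hx
    exact this ha
  haveI : Nontrivial C := εC.toRingHom.domain_nontrivial
  haveI : IsLocalRing C := IsLocalRing.of_surjective' (Ideal.Quotient.mk (J.map q)) Ideal.Quotient.mk_surjective
  let s : A ⧸ J →ₐ[R] C := Ideal.Quotient.liftₐ J ((Ideal.Quotient.mkₐ R (J.map q)).comp q) fun a ha =>
    Ideal.Quotient.eq_zero_iff_mem.2 (Ideal.mem_map_of_mem q ha)
  have hs : ∀ a, s (Ideal.Quotient.mk J a) = Ideal.Quotient.mk (J.map q) (q a) := fun a => rfl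
  have hC : ∀ a : A, Ideal.Quotient.mk (J.map q) (q a) = algebraMap R C (Bialgebra.counitAlgHom R A a) := by
    intro a
    have h := AlgHom.congr_fun (eq_of_unramified (C := C) s ((Algebra.ofId R C).comp (εC.comp s)) fun x hu => by
      have h2 := hu.map εC
      rw [map_sub, AlgHom.comp_apply, Algebra.ofId_apply, AlgHom.commutes, Algebra.algebraMap_self, RingHom.id_apply,
        AlgHom.comp_apply, sub_self] at h2
      exact not_isUnit_zero h2) (Ideal.Quotient.mk J a)
    rw [hs] at h
    exact h
  have hkm : RingHom.ker (Bialgebra.counitAlgHom R A'') ≤ IsLocalRing.maximalIdeal A'' :=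
    IsLocalRing.le_maximalIdeal (RingHom.ker_ne_top _)
  let j : A'' →ₐ[R] A ⧸ I := q.comp (IsScalarTower.toAlgHom R A'' A)
  have hsurj : Function.Surjective (algebraMap A'' (A ⧸ I)) := by
    have hle : (⊤ : Submodule A'' (A ⧸ I)) ≤
        LinearMap.range (Algebra.linearMap A'' (A ⧸ I)) ⊔
          IsLocalRing.maximalIdeal A'' • (⊤ : Submodule A'' (A ⧸ I)) := by
      rintro y -
      obtain ⟨a, rfl⟩ := Ideal.Quotient.mk_surjective y
      have h := hC a
      rw [← Ideal.Quotient.mk_algebraMap, Ideal.Quotient.eq] at h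
      have hmem : q a - algebraMap R (A ⧸ I) (Bialgebra.counitAlgHom R A a) ∈
          IsLocalRing.maximalIdeal A'' • (⊤ : Submodule A'' (A ⧸ I)) := by
        rw [Ideal.smul_top_eq_map, Submodule.restrictScalars_mem]
        refine (Ideal.map_le_iff_le_comap.2 fun x hx => ?_) h
        have h3 : J ≤ ((IsLocalRing.maximalIdeal A'').map (algebraMap A'' (A ⧸ I))).comap q :=
          Ideal.map_le_iff_le_comap.2 fun x hx => Ideal.mem_map_of_mem _ (hkm hx)
        exact h3 hx
      refine Submodule.mem_sup.2 ⟨algebraMap R (A ⧸ I) (Bialgebra.counitAlgHom R A a), ⟨algebraMap R A'' (Bialgebra.counitAlgHom R A a), ?_⟩, _, hmem, ?_⟩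
      · exact (IsScalarTower.algebraMap_apply R A'' (A ⧸ I) _).symm
      · show _ + (q a - _) = _
        rw [add_sub_cancel]
        rfl
    have h := Submodule.le_of_le_smul_of_le_jacobson_bot (Module.Finite.fg_top)
      (IsLocalRing.maximalIdeal_le_jacobson ⊥) hle
    exact fun y => h (Submodule.mem_top)
  have hflat : Module.Flat A'' (A ⧸ I) := by
    refine Module.Flat.of_retract (M := A) ((Submodule.restrictScalars A'' (Submodule.restrictScalars A I)).liftQ
      ((LinearMap.mul A A e).restrictScalars A'') fun a ha => ?_) (Ideal.Quotient.mkₐ A'' I).toLinearMap ?_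
    · obtain ⟨b, rfl⟩ := Ideal.mem_span_singleton'.1 ha
      show e * (b * (1 - e)) = 0
      rw [mul_left_comm, mul_sub, mul_one, he.eq, sub_self, mul_zero]
    · refine LinearMap.ext fun y => ?_
      obtain ⟨a, rfl⟩ := Ideal.Quotient.mk_surjective y
      show Ideal.Quotient.mk I (e * a) = Ideal.Quotient.mk I a
      rw [Ideal.Quotient.eq]
      exact Ideal.mem_span_singleton'.2 ⟨-a, by ring⟩
  haveI := hflat
  haveI : Module.Free A'' (A ⧸ I) := Module.free_of_flat_of_isLocalRing
  exact ⟨(show Function.Injective (algebraMap A'' (A ⧸ I)) from FaithfulSMul.algebraMap_injective _ _), hsurj⟩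

end Groth.Agent.S15068
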