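import Groth.Statements.S1507
import Groth.Agent.FlatMor.PC.Flat

set_option autoImplicit false
universe u
attribute [local instance] HasDerivedCategory.standard
open FlatMor
open Groth.Agent.FlatMor

namespace Groth.Agent.S1507

/-- Let A → B be flat and of finite presentation and I an ideal of B. Then A → B/I is a pseudo-coherent
ring map if and only if I is a pseudo-coherent B-module. -/
theorem result {A B : Type u} [CommRing A] [CommRing B] [Algebra A B] [Module.Flat A B] [Algebra.FinitePresentation A B] (I : Ideal B) :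
    MoreMor.IsPseudoCoherentHom A (B ⧸ I) ↔ DRing.IsPseudoCoherentModule' B ↥I := by
  have hB : MoreMor.IsPseudoCoherentHom A B := PC.pcHom_of_flat_fp
  have hs : Function.Surjective (algebraMap B (B ⧸ I)) := Ideal.Quotient.mk_surjective
  rw [show MoreMor.IsPseudoCoherentHom A (B ⧸ I) ↔ DRing.IsPseudoCoherentModule' B (B ⧸ I) from
    ⟨fun h => (PC.pcHom_iff_of_surjective hs).1 (PC.pcHom_of_comp hB h),
      fun h => PC.pcHom_comp hB ((PC.pcHom_iff_of_surjective hs).2 h)⟩]
  refine (Groth.Agent.DRing.PC.pc'_iff _).trans (Iff.trans ?_ (Groth.Agent.DRing.PC.pc'_iff _).symm)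
  let e : LinearMap.ker (Algebra.linearMap B (B ⧸ I)) ≃ₗ[B] I :=
    LinearEquiv.ofEq _ _ (SetLike.ext fun x => Ideal.Quotient.eq_zero_iff_mem)
  constructor
  · intro h m
    exact Groth.Agent.DRing.PC.pcModule_congr e
      ((Groth.Agent.DRing.PC.pcModule_step_iff (Algebra.linearMap B (B ⧸ I)) hs m).1 (h (m - 1)))
  · intro h m
    have := (Groth.Agent.DRing.PC.pcModule_step_iff (Algebra.linearMap B (B ⧸ I)) hs (m + 1)).2
      (Groth.Agent.DRing.PC.pcModule_congr e.symm (h (m + 1)))
    rwa [add_sub_cancel_right] at this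

end Groth.Agent.S1507
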