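import Groth.Statements.S15077
import Groth.Agent.OrdSurfLib.Klein
import Groth.Agent.ProjProper.Basic

set_option autoImplicit false
universe u
open CategoryTheory CategoryTheory.Limits AlgebraicGeometry
open OrdSurf

namespace Groth.Agent.S15077

/-- Let k be an algebraically closed field of characteristic zero and X a smooth projective surface over
k (an integral k-scheme, smooth over k, of dimension two, admitting a closed immersion over k into
some projective space P^n_k). Let I and J be invertible O_X-modules that are two-torsion, I ⊗ I ≅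
O_X and J ⊗ J ≅ O_X, let K = I ⊗ J, and let F = O_X ⊕ I ⊕ J ⊕ K (so that O_X, I, J, K form a Klein
four-group of classes in Pic X when I, J, K are nontrivial and distinct). Then for every invertible
O_X-module L, the O_X-modules F ⊗ L and F are isomorphic if and only if L is isomorphic to one of
O_X, I, J, K. (The published statement is for the abelian surface E_1 × E_2, with I and J pulled
back from two-torsion line bundles on the two elliptic curves and F the underlying module of the
quaternion algebra built from them; this row is stated on any smooth projective surface for any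
two-torsion invertible I and J.) -/
theorem result (k : Type u) [Field k] [IsAlgClosed k] [CharZero k]
    (X : Scheme.{u}) [X.Over (Spec (CommRingCat.of k))] [IsIntegral X]
    [Smooth (X ↘ Spec (CommRingCat.of k))] (hdim : topologicalKrullDim X = 2)
    (hproj : ∃ (n : ℕ) (ι : X ⟶ CohB1.ProjSpace n k), IsClosedImmersion ι ∧
      ι ≫ CohB1.ProjSpace.toSpec n k = X ↘ Spec (CommRingCat.of k))
    (I J : X.Modules) (hI : PicF.IsInvertible I) (hJ : PicF.IsInvertible J)
    (hI2 : Nonempty (CohB1.tensorMod I I ≅ Coh.structureModule X))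
    (hJ2 : Nonempty (CohB1.tensorMod J J ≅ Coh.structureModule X))
    (L : X.Modules) (hL : PicF.IsInvertible L) :
    Nonempty (CohB1.tensorMod (Coh.structureModule X ⊞ I ⊞ J ⊞ CohB1.tensorMod I J) L ≅
        Coh.structureModule X ⊞ I ⊞ J ⊞ CohB1.tensorMod I J) ↔
      (Nonempty (L ≅ Coh.structureModule X) ∨ Nonempty (L ≅ I) ∨ Nonempty (L ≅ J) ∨
        Nonempty (L ≅ CohB1.tensorMod I J)) := by
  obtain ⟨eI⟩ := hI2
  obtain ⟨eJ⟩ := hJ2
  haveI : IsProper (X ↘ Spec (CommRingCat.of k)) := by
    obtain ⟨n, ι, hι, he⟩ := hproj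
    haveI := hι
    haveI : IsProper (CohB1.ProjSpace.toSpec n k) := Groth.Agent.ProjProper.Basic.isProper_toSpec n k
    rw [← he]
    infer_instance
  constructor
  · rintro ⟨e⟩
    obtain ⟨a, φ⟩ := Groth.Agent.OrdSurfLib.exists_iso_kFam k hI hJ hL e
    fin_cases a
    exacts [Or.inl φ, Or.inr (Or.inl φ), Or.inr (Or.inr (Or.inl φ)), Or.inr (Or.inr (Or.inr φ))]
  · rintro (⟨⟨φ⟩⟩ | ⟨⟨φ⟩⟩ | ⟨⟨φ⟩⟩ | ⟨⟨φ⟩⟩)
    exacts [Groth.Agent.OrdSurfLib.nonempty_sum_tensor I J eI eJ L 0 φ,
      Groth.Agent.OrdSurfLib.nonempty_sum_tensor I J eI eJ L 1 φ,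
      Groth.Agent.OrdSurfLib.nonempty_sum_tensor I J eI eJ L 2 φ,
      Groth.Agent.OrdSurfLib.nonempty_sum_tensor I J eI eJ L 3 φ]

end Groth.Agent.S15077
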