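import Groth.Statements.S15078
import Mathlib

set_option autoImplicit false
universe u v
open MovLem

namespace Groth.Agent.S15078

section

open Polynomial

variable {k : Type u} [Field k] {r : ℕ} {K : Type v} [Field K] [Algebra k K]

/-- the substitution -/
noncomputable abbrev sub (g : Fin r → K) (M : ℕ) : MvPolynomial (Fin r) k →ₐ[k] Polynomial (MvPolynomial (Fin r) K) :=
  MvPolynomial.aeval fun i => C (MvPolynomial.X i) + C (MvPolynomial.C (g i)) * X ^ M

theorem sub_monomial (g : Fin r → K) {M : ℕ} (hM : 0 < M) (e : Fin r →₀ ℕ) (c : k) :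
    (sub g M (MvPolynomial.monomial e c)).natDegree ≤ (∑ i, e i) * M ∧
      (sub g M (MvPolynomial.monomial e c)).coeff ((∑ i, e i) * M) =
        MvPolynomial.C (algebraMap k K c * ∏ i, g i ^ e i) := by
  let L : Fin r → Polynomial (MvPolynomial (Fin r) K) := fun i => C (MvPolynomial.X i) + C (MvPolynomial.C (g i)) * X ^ M
  have hL : ∀ i, (L i).natDegree ≤ M := fun i =>
    (natDegree_add_le _ _).trans (max_le (by simp) (natDegree_C_mul_X_pow_le _ _))
  have hLc : ∀ i, (L i).coeff M = MvPolynomial.C (g i) := fun i => by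
    simp only [L, coeff_add, coeff_C, hM.ne', if_false, coeff_C_mul_X_pow, if_true, zero_add]
  have hpow : ∀ i, ((L i) ^ e i).natDegree ≤ e i * M := fun i =>
    natDegree_pow_le.trans (Nat.mul_le_mul_left _ (hL i))
  have heq : sub g M (MvPolynomial.monomial e c) = C (MvPolynomial.C (algebraMap k K c)) * ∏ i, (L i) ^ e i := by
    rw [sub, MvPolynomial.aeval_monomial, Finsupp.prod_fintype _ _ (fun i => pow_zero _)]
    rfl
  have hpc : ∀ (S : Finset (Fin r)), (∏ i ∈ S, (L i) ^ e i).natDegree ≤ (∑ i ∈ S, e i) * M ∧
      (∏ i ∈ S, (L i) ^ e i).coeff ((∑ i ∈ S, e i) * M) = MvPolynomial.C (∏ i ∈ S, g i ^ e i) := by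
    classical
    intro S
    induction S using Finset.induction_on with
    | empty => simp
    | insert a S ha ih =>
      rw [Finset.prod_insert ha, Finset.sum_insert ha, add_mul, Finset.prod_insert ha]
      refine ⟨natDegree_mul_le.trans (add_le_add (hpow a) ih.1), ?_⟩
      rw [coeff_mul_add_eq_of_natDegree_le (hpow a) ih.1, ih.2, coeff_pow_of_natDegree_le (hL a), hLc,
        map_mul, map_pow]
  rw [heq]
  exact ⟨(natDegree_C_mul_le _ _).trans (hpc Finset.univ).1, by rw [coeff_C_mul, (hpc Finset.univ).2, map_mul]⟩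

theorem sub_top (g : Fin r → K) {M : ℕ} (hM : 0 < M) (a : MvPolynomial (Fin r) k) {D : ℕ} (hD : a.totalDegree ≤ D) :
    (sub g M a).natDegree ≤ D * M ∧
      (sub g M a).coeff (D * M) = MvPolynomial.C (MvPolynomial.aeval g (MvPolynomial.homogeneousComponent D a)) := by
  classical
  have he : ∀ e ∈ a.support, (∑ i, e i) ≤ D := fun e he => by
    have := (MvPolynomial.le_totalDegree he).trans hD
    rwa [Finsupp.sum_fintype _ _ (fun i => rfl)] at this
  have hdeg : ∀ e : Fin r →₀ ℕ, e.degree = ∑ i, e i := fun e => Finsupp.degree_eq_sum e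
  rw [a.as_sum, map_sum, map_sum]
  refine ⟨natDegree_sum_le_of_forall_le _ _ fun e hes =>
    (sub_monomial g hM e _).1.trans (Nat.mul_le_mul_right _ (he e hes)), ?_⟩
  rw [finsetSum_coeff, map_sum, map_sum]
  refine Finset.sum_congr rfl fun e hes => ?_
  by_cases heD : (∑ i, e i) = D
  · rw [← heD, (sub_monomial g hM e _).2,
      MvPolynomial.homogeneousComponent_of_mem (MvPolynomial.isHomogeneous_monomial _ (hdeg e)), if_pos rfl,
      MvPolynomial.aeval_monomial, Finsupp.prod_fintype _ _ (fun i => pow_zero _)]
  · rw [coeff_eq_zero_of_natDegree_lt ((sub_monomial g hM e _).1.trans_lt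
        ((Nat.mul_lt_mul_right hM).2 (lt_of_le_of_ne (he e hes) heD))),
      MvPolynomial.homogeneousComponent_of_mem (MvPolynomial.isHomogeneous_monomial _ (hdeg e)), if_neg (Ne.symm heD),
      map_zero, map_zero]

end

/-- Let k be an infinite perfect field, r, m ≥ 1, and let f be a nonzero polynomial in the variable t
with coefficients in the polynomial ring k[x_1, …, x_r]. Then there are a nonzero polynomial h in
k[x_1, …, x_r] and an integer s₀ such that for every s ≥ s₀, every field K over k and every point g
of K^r with h(g) ≠ 0, the polynomial obtained from f by the substitution x_i ↦ x_i + t^{s(m+1)} g_i,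
t ↦ t has as leading coefficient in t a nonzero constant of K; in particular, after dividing by that
constant it is monic in t over K[x_1, …, x_r]. (The published statement asks for a nonempty open
subset of affine r-space over k, independent of s, such that this holds at each of its points g with
residue field K = k(g); the locus h ≠ 0 used here is such an open subset, and every nonempty open
subset contains one of this form.) -/
theorem result
    {k : Type u} [Field k] [Infinite k] [PerfectField k] (r m : ℕ) (hr : 1 ≤ r) (hm : 1 ≤ m)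
    (f : Polynomial (MvPolynomial (Fin r) k)) (hf : f ≠ 0) :
    ∃ h : MvPolynomial (Fin r) k, h ≠ 0 ∧ ∃ s₀ : ℕ, ∀ s : ℕ, s₀ ≤ s →
      ∀ (K : Type v) [Field K] [Algebra k K] (g : Fin r → K), MvPolynomial.aeval g h ≠ 0 →
        ∃ c : K, c ≠ 0 ∧
          (Polynomial.eval₂ (MvPolynomial.aeval (fun i : Fin r => Polynomial.C (MvPolynomial.X i) + Polynomial.C (MvPolynomial.C (g i)) * Polynomial.X ^ (s * (m + 1))) : MvPolynomial (Fin r) k →ₐ[k] Polynomial (MvPolynomial (Fin r) K)).toRingHom Polynomial.X f).leadingCoeff = MvPolynomial.C c := by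
  classical
  let D := f.support.sup fun j => (f.coeff j).totalDegree
  have hne : f.support.Nonempty := Polynomial.support_nonempty.2 hf
  obtain ⟨j₁, hj₁, hj₁D⟩ := Finset.exists_mem_eq_sup f.support hne fun j => (f.coeff j).totalDegree
  let S := f.support.filter fun j => (f.coeff j).totalDegree = D
  have hS : S.Nonempty := ⟨j₁, Finset.mem_filter.2 ⟨hj₁, hj₁D.symm⟩⟩
  let j₀ := S.max' hS
  obtain ⟨hj₀, hj₀D⟩ := Finset.mem_filter.1 (S.max'_mem hS)
  refine ⟨MvPolynomial.homogeneousComponent D (f.coeff j₀), ?_, f.natDegree + 1, fun s hs K _ _ g hg => ?_⟩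
  · intro h0
    obtain ⟨e, he, hed⟩ := Finset.exists_mem_eq_sup (f.coeff j₀).support
      (MvPolynomial.support_nonempty.2 (Polynomial.mem_support_iff.1 hj₀)) fun e => e.sum fun _ x => x
    have h1 := congrArg (MvPolynomial.coeff e) h0
    rw [MvPolynomial.coeff_homogeneousComponent, if_pos, MvPolynomial.coeff_zero] at h1
    · exact MvPolynomial.mem_support_iff.1 he h1
    · exact (hed.symm.trans hj₀D : _)
  · set M := s * (m + 1) with hMdef
    have hM : f.natDegree < M := by
      calc f.natDegree < s := hs
        _ ≤ M := Nat.le_mul_of_pos_right _ (Nat.succ_pos m)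
    have hM0 : 0 < M := by omega
    set P := Polynomial.eval₂ (sub g M).toRingHom Polynomial.X f with hP
    have hD : ∀ j ∈ f.support, (f.coeff j).totalDegree ≤ D := fun j hj => Finset.le_sup (f := fun j => (f.coeff j).totalDegree) hj
    have hPsum : P = ∑ j ∈ f.support, sub g M (f.coeff j) * Polynomial.X ^ j := by
      rw [hP, Polynomial.eval₂_eq_sum, Polynomial.sum_def]
      rfl
    have hsmall : ∀ j ∈ f.support, j ≠ j₀ → (sub g M (f.coeff j) * Polynomial.X ^ j).natDegree < D * M + j₀ := by
      intro j hj hne
      refine Polynomial.natDegree_mul_le.trans_lt ?_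
      rw [Polynomial.natDegree_X_pow]
      have h1 := (sub_top g hM0 (f.coeff j) le_rfl).1
      rcases eq_or_lt_of_le (hD j hj) with h | h
      · rw [h] at h1
        have : j ≤ j₀ := S.le_max' j (Finset.mem_filter.2 ⟨hj, h⟩)
        omega
      · have h2 : ((f.coeff j).totalDegree + 1) * M ≤ D * M := Nat.mul_le_mul_right _ h
        rw [add_mul, one_mul] at h2
        have := Polynomial.le_natDegree_of_mem_supp j hj
        omega
    obtain ⟨htd, htc⟩ := sub_top g hM0 (f.coeff j₀) (hD j₀ hj₀)
    have hc : P.coeff (D * M + j₀) = MvPolynomial.C (MvPolynomial.aeval g (MvPolynomial.homogeneousComponent D (f.coeff j₀))) := by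
      rw [hPsum, Polynomial.finsetSum_coeff, Finset.sum_eq_single j₀]
      · rw [Polynomial.coeff_mul_X_pow, htc]
      · exact fun j hj hne => Polynomial.coeff_eq_zero_of_natDegree_lt (hsmall j hj hne)
      · exact fun h => absurd hj₀ h
    have hle : P.natDegree ≤ D * M + j₀ := by
      rw [hPsum]
      refine Polynomial.natDegree_sum_le_of_forall_le _ _ fun j hj => ?_
      by_cases hne : j = j₀
      · subst hne
        refine Polynomial.natDegree_mul_le.trans ?_
        rw [Polynomial.natDegree_X_pow]
        exact Nat.add_le_add_right htd _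
      · exact (hsmall j hj hne).le
    refine ⟨_, hg, ?_⟩
    show P.leadingCoeff = _
    rw [← hc, Polynomial.leadingCoeff, le_antisymm hle (Polynomial.le_natDegree_of_ne_zero ?_)]
    rw [hc]
    exact fun h => hg (MvPolynomial.C_injective _ _ (h.trans (map_zero _).symm))

end Groth.Agent.S15078
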