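import Groth.Statements.S15079
import Groth.Agent.S15078
import Mathlib

set_option autoImplicit false
universe u v
open MovLem

namespace Groth.Agent.S15079

/-- Let k be an infinite perfect field, r, m ≥ 1, and let f be an irreducible polynomial in t over
k[x_1, …, x_r] whose constant term in t is a unit of k[x_1, …, x_r], so that the hypersurface Z : f
= 0 in affine (r+1)-space with coordinates x_1, …, x_r, t is integral and does not meet the divisor
t = 0 (the modulus condition in cubical degree one). Then there are a nonzero polynomial h in k[x_1,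
…, x_r] and an integer s₀ such that for every s ≥ s₀, every field K over k and every point g of K^r
with h(g) ≠ 0, the translate of Z_K by the automorphism x_i ↦ x_i + t^{s(m+1)} g_i, t ↦ t is finite
and surjective over affine r-space over K: the quotient of K[x_1, …, x_r][t] by the translated
equation is a finitely generated K[x_1, …, x_r]-module and K[x_1, …, x_r] maps injectively into it.
(The published statement allows every nonzero point g of affine r-space; for r = 2 and f = x_1 t − 1
the point g = (0, 1) translates Z to itself, which is not finite over the affine plane, so the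
conclusion is stated here for g in a nonempty open subset h ≠ 0, which is what the published proof
establishes.) -/
theorem result
    {k : Type u} [Field k] [Infinite k] [PerfectField k] (r m : ℕ) (hr : 1 ≤ r) (hm : 1 ≤ m)
    (f : Polynomial (MvPolynomial (Fin r) k)) (hirr : Irreducible f) (h0 : IsUnit (f.coeff 0)) :
    ∃ h : MvPolynomial (Fin r) k, h ≠ 0 ∧ ∃ s₀ : ℕ, ∀ s : ℕ, s₀ ≤ s →
      ∀ (K : Type v) [Field K] [Algebra k K] (g : Fin r → K), MvPolynomial.aeval g h ≠ 0 →
        ∀ F : Polynomial (MvPolynomial (Fin r) K),
          F = Polynomial.eval₂ (MvPolynomial.aeval (fun i : Fin r => Polynomial.C (MvPolynomial.X i) + Polynomial.C (MvPolynomial.C (g i)) * Polynomial.X ^ (s * (m + 1))) : MvPolynomial (Fin r) k →ₐ[k] Polynomial (MvPolynomial (Fin r) K)).toRingHom Polynomial.X f →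
          Module.Finite (MvPolynomial (Fin r) K) (Polynomial (MvPolynomial (Fin r) K) ⧸ Ideal.span {F}) ∧
          Function.Injective ((Ideal.Quotient.mk (Ideal.span {F})).comp (algebraMap (MvPolynomial (Fin r) K) (Polynomial (MvPolynomial (Fin r) K)))) := by
  obtain ⟨h, hne, s₀, H⟩ := Groth.Agent.S15078.result r m hr hm f hirr.ne_zero
  refine ⟨h, hne, s₀, fun s hs K _ _ g hg F hF => ?_⟩
  obtain ⟨c, hc, hlead⟩ := H s hs K g hg
  rw [← hF] at hlead
  have hu : IsUnit F.leadingCoeff := by rw [hlead]; exact (isUnit_iff_ne_zero.2 hc).map MvPolynomial.C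
  constructor
  · have hm' := Polynomial.monic_of_isUnit_leadingCoeff_inv_smul hu
    have hspan : Ideal.span {(↑hu.unit⁻¹ : MvPolynomial (Fin r) K) • F} = Ideal.span {F} := by
      rw [Polynomial.smul_eq_C_mul]
      exact Ideal.span_singleton_mul_left_unit (Units.isUnit _ |>.map Polynomial.C) F
    exact hspan ▸ hm'.finite_quotient
  · intro a b hab
    simp only [RingHom.comp_apply, Ideal.Quotient.eq, Ideal.mem_span_singleton, Polynomial.algebraMap_eq] at hab
    rw [← map_sub] at hab
    by_contra hne'
    have hne0 : a - b ≠ 0 := sub_ne_zero.2 hne'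
    have hle := Polynomial.natDegree_le_of_dvd hab (Polynomial.C_ne_zero.2 hne0)
    rw [Polynomial.natDegree_C] at hle
    have hFc : F = Polynomial.C (MvPolynomial.C c) := by
      rw [Polynomial.eq_C_of_natDegree_eq_zero (Nat.le_zero.1 hle)]
      congr 1
      rw [← hlead, Polynomial.leadingCoeff, Nat.le_zero.1 hle]
    let ψ : Polynomial (MvPolynomial (Fin r) K) →+* Polynomial (MvPolynomial (Fin r) K) :=
      Polynomial.eval₂RingHom (MvPolynomial.eval₂Hom (Polynomial.C.comp MvPolynomial.C)
        fun i => Polynomial.C (MvPolynomial.X i) - Polynomial.C (MvPolynomial.C (g i)) * Polynomial.X ^ (s * (m + 1))) Polynomial.X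
    have hψ : ψ.comp (Polynomial.eval₂RingHom (MvPolynomial.aeval (fun i : Fin r => Polynomial.C (MvPolynomial.X i) + Polynomial.C (MvPolynomial.C (g i)) * Polynomial.X ^ (s * (m + 1))) : MvPolynomial (Fin r) k →ₐ[k] Polynomial (MvPolynomial (Fin r) K)).toRingHom Polynomial.X) =
        Polynomial.mapRingHom (MvPolynomial.map (algebraMap k K)) := by
      refine Polynomial.ringHom_ext' (MvPolynomial.ringHom_ext (fun x => ?_) fun i => ?_) ?_
      · simp [ψ]
      · simp [ψ]
      · simp [ψ]
    have e : f.map (MvPolynomial.map (algebraMap k K)) = Polynomial.C (MvPolynomial.C c) := by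
      rw [← Polynomial.coe_mapRingHom, ← hψ, RingHom.comp_apply]
      conv_lhs => arg 2; change Polynomial.eval₂ _ _ f; rw [← hF, hFc]
      simp [ψ]
    have hd : f.natDegree = 0 := by
      have := congrArg Polynomial.natDegree e
      rwa [Polynomial.natDegree_map_eq_of_injective (MvPolynomial.map_injective _ (algebraMap k K).injective),
        Polynomial.natDegree_C] at this
    exact hirr.not_isUnit ((Polynomial.eq_C_of_natDegree_eq_zero hd) ▸ h0.map Polynomial.C)

end Groth.Agent.S15079
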