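import Groth.Statements.S15083
import Mathlib.LinearAlgebra.Matrix.SpecialLinearGroup
import Mathlib.Algebra.Polynomial.Eval.Defs


set_option autoImplicit false
universe u
open MovLem

namespace Groth.Agent.S15083

/-- Let K be a field and r ≥ 1. For every element A of the special linear group SL_{r+1}(K) there is an
algebraic path in SL_{r+1} from the identity to A defined over K: a matrix M of determinant 1 with
entries in the polynomial ring K[y] such that M(0) is the identity matrix and M(1) = A. (The
published statement takes K to be the function field of SL_{r+1} over the ground field, A its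
generic point viewed as a K-rational point, and the parameter space to be the projective line minus
the point 1, with endpoints 0 and ∞; this row gives the path for an arbitrary K-point A on the
affine line with endpoints 0 and 1, which is what the published construction provides before
composing with the coordinate change y ↦ y/(y − 1).) -/
theorem result
    (K : Type u) [Field K] (r : ℕ) (hr : 1 ≤ r)
    (A : Matrix.SpecialLinearGroup (Fin (r + 1)) K) :
    ∃ M : Matrix.SpecialLinearGroup (Fin (r + 1)) (Polynomial K),
      Matrix.SpecialLinearGroup.map (Polynomial.evalRingHom (0 : K)) M = 1 ∧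
      Matrix.SpecialLinearGroup.map (Polynomial.evalRingHom (1 : K)) M = A := by
  classical
  haveI : Nontrivial (Fin (r + 1)) := Fin.nontrivial_iff_two_le.2 (by omega)
  let P : Matrix.SpecialLinearGroup (Fin (r + 1)) K → Prop := fun B =>
    ∃ M : Matrix.SpecialLinearGroup (Fin (r + 1)) (Polynomial K),
      Matrix.SpecialLinearGroup.map (Polynomial.evalRingHom (0 : K)) M = 1 ∧
      Matrix.SpecialLinearGroup.map (Polynomial.evalRingHom (1 : K)) M = B
  show P A
  have hmul : ∀ B C, P B → P C → P (B * C) := fun B C ⟨M, h0, h1⟩ ⟨N, h0', h1'⟩ =>
    ⟨M * N, by rw [map_mul, h0, h0', one_mul], by rw [map_mul, h1, h1']⟩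
  have htr : ∀ (i j : Fin (r + 1)) (hij : i ≠ j) (a : K), P (Matrix.SpecialLinearGroup.transvection hij a) :=
    fun i j hij a => by
    refine ⟨⟨Matrix.transvection i j (Polynomial.C a * Polynomial.X), Matrix.det_transvection_of_ne i j hij _⟩, ?_, ?_⟩
    · apply Subtype.ext
      ext x y
      simp [Matrix.transvection, Matrix.one_apply, Matrix.single_apply, apply_ite (Polynomial.eval (0 : K))]
    · apply Subtype.ext
      ext x y
      simp [Matrix.transvection, Matrix.SpecialLinearGroup.transvection_coe, Matrix.one_apply, Matrix.single_apply,
        apply_ite (Polynomial.eval (1 : K))]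
  refine Matrix.SpecialLinearGroup.diagonal_transvection_induction' P A (fun i j hij c hc => ?_) htr hmul
  have h : Matrix.SpecialLinearGroup.diag2n hij c hc = Matrix.SpecialLinearGroup.transvection hij c *
      Matrix.SpecialLinearGroup.transvection hij.symm (-c⁻¹) * Matrix.SpecialLinearGroup.transvection hij c *
      Matrix.SpecialLinearGroup.transvection hij (-1) * Matrix.SpecialLinearGroup.transvection hij.symm 1 *
      Matrix.SpecialLinearGroup.transvection hij (-1) := by
    apply Subtype.ext
    simp only [Matrix.SpecialLinearGroup.diag2n_coe, Matrix.SpecialLinearGroup.coe_mul,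
      Matrix.SpecialLinearGroup.transvection_coe, Matrix.transvection]
    simp [mul_add, add_mul, hij, hij.symm, Matrix.single_mul_single_same, Matrix.single_mul_single_of_ne, hc]
    ext x y
    simp only [Matrix.diagonal_apply, Matrix.add_apply, Matrix.one_apply, Matrix.single_apply, Matrix.neg_apply]
    have hji := hij.symm
    by_cases h1 : x = i <;> by_cases h2 : x = j <;> by_cases h3 : y = i <;> by_cases h4 : y = j <;>
      by_cases h5 : x = y <;> simp_all [eq_comm] <;> ring
  rw [h]
  refine hmul _ _ (hmul _ _ (hmul _ _ (hmul _ _ (hmul _ _ ?_ ?_) ?_) ?_) ?_) ?_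
  all_goals exact htr _ _ _ _

end Groth.Agent.S15083
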