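import Groth.Statements.S15084
import Mathlib.RingTheory.IntegralClosure.IntegrallyClosed
import Mathlib.RingTheory.Noetherian.Basic
import Mathlib.RingTheory.IntegralClosure.Algebra.Basic


set_option autoImplicit false
universe u
open MovLem

namespace Groth.Agent.S15084

/-- Let A be a Noetherian integrally closed domain with fraction field K, let B be a domain with
fraction field L, and let A → B be an injective ring homomorphism, with K → L the induced map of
fraction fields, such that Spec B → Spec A is surjective (every prime ideal of A is the contraction
of a prime ideal of B). If a ∈ K is such that its image in L lies in B, then a ∈ A. (The published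
statement: for a surjective morphism f : Y → X of normal integral separated schemes of finite type
over a perfect field and a Cartier divisor D on X, if f^*D is effective then D is effective; a
Cartier divisor is locally the divisor of a nonzero rational function a, effectivity of div(a) on a
normal scheme means that a is a regular function, and this row is that local statement, which is
what the published proof establishes.) -/
theorem result
    (A B K L : Type u) [CommRing A] [IsDomain A] [IsNoetherianRing A] [IsIntegrallyClosed A]
    [CommRing B] [IsDomain B] [Field K] [Field L]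
    [Algebra A B] [Algebra A K] [IsFractionRing A K] [Algebra B L] [IsFractionRing B L]
    [Algebra K L] [Algebra A L] [IsScalarTower A K L] [IsScalarTower A B L]
    (hinj : Function.Injective (algebraMap A B))
    (hsurj : ∀ p : Ideal A, p.IsPrime → ∃ q : Ideal B, q.IsPrime ∧ q.comap (algebraMap A B) = p)
    (a : K) (ha : algebraMap K L a ∈ (algebraMap B L).range) :
    a ∈ (algebraMap A K).range := by
  classical
  by_contra hna
  let J : K → Ideal A := fun c =>
    { carrier := {s | algebraMap A K s * c ∈ (algebraMap A K).range}
      zero_mem' := by
        show algebraMap A K 0 * c ∈ (algebraMap A K).range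
        rw [map_zero, zero_mul]; exact zero_mem _
      add_mem' := fun {x y} hx hy => by
        show algebraMap A K (x + y) * c ∈ (algebraMap A K).range
        rw [map_add, add_mul]; exact add_mem hx hy
      smul_mem' := fun r x hx => by
        show algebraMap A K (r • x) * c ∈ (algebraMap A K).range
        rw [smul_eq_mul, map_mul, mul_assoc]; exact mul_mem ⟨r, rfl⟩ hx }
  have hJ : ∀ c s, s ∈ J c ↔ algebraMap A K s * c ∈ (algebraMap A K).range := fun c s => Iff.rfl
  let S : Set (Ideal A) := {I | ∃ r : A, algebraMap A K r * a ∉ (algebraMap A K).range ∧ J (algebraMap A K r * a) = I}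
  obtain ⟨p, ⟨r, hr, hp⟩, hmax⟩ := set_has_maximal_iff_noetherian.2 ‹IsNoetherianRing A› S
    ⟨_, 1, by rwa [map_one, one_mul], rfl⟩
  set c := algebraMap A K r * a with hc
  have hprime : Ideal.IsPrime p := by
    constructor
    · intro h
      have h1 : (1 : A) ∈ J c := by rw [hp, h]; trivial
      rw [hJ, map_one, one_mul] at h1
      exact hr h1
    · intro x y hxy
      by_contra! hcon
      obtain ⟨hx, hy⟩ := hcon
      rw [← hp, hJ] at hx hxy
      have hmem : J (algebraMap A K (x * r) * a) ∈ S := ⟨x * r, by rwa [map_mul, mul_assoc, ← hc], rfl⟩
      refine hmax _ hmem (lt_of_le_of_ne (fun s hs => ?_) fun h => hy ?_)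
      · rw [← hp, hJ] at hs
        rw [hJ, map_mul, mul_assoc, ← hc, mul_left_comm]
        exact mul_mem ⟨x, rfl⟩ hs
      · rw [h, hJ, map_mul, mul_assoc, ← hc, ← mul_assoc, mul_comm (algebraMap A K y), ← map_mul]
        exact hxy
  obtain ⟨q, hq, hqp⟩ := hsurj p hprime
  obtain ⟨b, hb⟩ := ha
  have key : ∀ e ∈ p, ∀ v : A, algebraMap A K v = algebraMap A K e * c → v ∈ p := by
    intro e he v hv
    rw [← hqp, Ideal.mem_comap]
    have h1 : algebraMap A B v = algebraMap A B e * (algebraMap A B r * b) := by
      refine IsFractionRing.injective B L ?_
      rw [map_mul, map_mul, hb, ← IsScalarTower.algebraMap_apply, ← IsScalarTower.algebraMap_apply,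
        ← IsScalarTower.algebraMap_apply, IsScalarTower.algebraMap_apply A K L v, hv, hc, map_mul, map_mul,
        ← IsScalarTower.algebraMap_apply, ← IsScalarTower.algebraMap_apply]
    rw [h1]
    exact q.mul_mem_right _ (by rw [← hqp] at he; exact he)
  let N : Submodule A K := Submodule.map (Algebra.linearMap A K) p
  have hint : IsIntegral A c := by
    refine isIntegral_of_smul_mem_submodule N ?_ ((IsNoetherian.noetherian p).map _) c ?_
    · obtain ⟨⟨num, den⟩, hnd⟩ := IsLocalization.surj (nonZeroDivisors A) c
      have hden : (den : A) ∈ p := by
        rw [← hp, hJ, mul_comm]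
        exact ⟨num, hnd.symm⟩
      intro h
      have h1 : algebraMap A K (den : A) ∈ N := ⟨den, hden, rfl⟩
      rw [h, Submodule.mem_bot] at h1
      exact nonZeroDivisors.ne_zero den.2 (IsFractionRing.injective A K (h1.trans (map_zero _).symm))
    · rintro _ ⟨e, he, rfl⟩
      have he' : e ∈ J c := hp.symm ▸ he
      obtain ⟨v, hv⟩ := (hJ c e).1 he'
      exact ⟨v, key e he v hv, by rw [Algebra.linearMap_apply, Algebra.linearMap_apply, hv, smul_eq_mul, mul_comm]⟩
  exact hr (IsIntegrallyClosed.isIntegral_iff.1 hint)

end Groth.Agent.S15084
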