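import Groth.Statements.S15085
import Groth.Agent.VarDim.Scheme
import Mathlib.AlgebraicGeometry.Morphisms.QuasiFinite
import Mathlib.AlgebraicGeometry.Morphisms.Proper

set_option autoImplicit false
universe u
open CategoryTheory CategoryTheory.Limits AlgebraicGeometry
open MovLem

namespace Groth.Agent.S15085

/-- The dimension of the closure of a point. -/
lemma topDim_closure (k : Type u) [Field k] {X : Scheme.{u}} [X.Over (Spec (CommRingCat.of k))]
    [LocallyOfFiniteType (X ↘ Spec (CommRingCat.of k))] (η : X) :
    topologicalKrullDim (closure {η} : Set X) = (Groth.Agent.VarDim.dimPt k X η : WithBot ℕ∞) := by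
  have : QuasiSober (closure {η} : Set X) := isClosed_closure.isClosedEmbedding_subtypeVal.quasiSober
  rw [← WithBot.coe_natCast, ← Groth.Agent.VarDim.height_eq_dimPt k, Order.height_eq_krullDim_Iic]
  letI o : PartialOrder (closure {η} : Set X) := specializationOrder _
  have h1 : topologicalKrullDim (closure {η} : Set X) =
      @Order.krullDim (closure {η} : Set X) o.toPreorder :=
    @Order.krullDim_eq_of_orderIso _ _ _ o.toPreorder irreducibleSetEquivPoints
  rw [h1]
  refine @Order.krullDim_eq_of_orderIso _ _ o.toPreorder _ ?_
  exact
    { toFun := fun z ↦ ⟨z.1, (specializes_iff_mem_closure.mpr z.2 : η ⤳ z.1)⟩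
      invFun := fun z ↦ ⟨z.1, specializes_iff_mem_closure.mp (z.2 : η ⤳ z.1)⟩
      left_inv := fun _ ↦ rfl
      right_inv := fun _ ↦ rfl
      map_rel_iff' := fun {a b} ↦ (subtype_specializes_iff b a).symm }

/-- Let k be a field, X an affine scheme of finite type over k which is equidimensional (all irreducible
components have the same dimension), B̂ a proper smooth geometrically integral k-scheme and B ⊆ B̂ a
nonempty affine open subscheme. Let Z be an integral closed subscheme of X ×_k B of dimension dim X
(that is, of codimension dim B, the product X ×_k B being equidimensional of dimension dim X + dim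
B). Then the projection Z → X is finite and maps Z onto an irreducible component of X if and only if
Z is closed in X ×_k B̂. (The published statement allows X to be essentially of finite type, i.e.
also a localization of such a scheme at finitely many points, takes B̂ projective of positive
dimension, and phrases the dimension condition as codimension dim B; this row is the finite-type
case with properness in place of projectivity.) -/
theorem result
    {k : Type u} [Field k] {X Bhat Z : Scheme.{u}}
    (sX : X ⟶ Spec (CommRingCat.of k)) (sB : Bhat ⟶ Spec (CommRingCat.of k))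
    [IsAffine X] [LocallyOfFiniteType sX]
    (hXeq : ∀ T ∈ irreducibleComponents (X : Type u), topologicalKrullDim T = topologicalKrullDim X)
    [IsProper sB] [Smooth sB] [GeometricallyIntegral sB]
    (B : Bhat.Opens) (hB : IsAffineOpen B) (hBne : (B : Set Bhat).Nonempty)
    [IsIntegral Z] (ι : Z ⟶ ((pullback.snd sX sB) ⁻¹ᵁ B).toScheme) [IsClosedImmersion ι]
    (hZ : topologicalKrullDim Z = topologicalKrullDim X)
    (j : Z ⟶ pullback sX sB) (hj : j = ι ≫ ((pullback.snd sX sB) ⁻¹ᵁ B).ι) :
    (IsFinite (j ≫ pullback.fst sX sB) ∧
        Set.range (j ≫ pullback.fst sX sB).base ∈ irreducibleComponents (X : Type u)) ↔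
      IsClosed (Set.range j.base) := by
  constructor
  · rintro ⟨hfin, -⟩
    haveI := hfin
    haveI : IsProper (j ≫ pullback.fst sX sB) := inferInstance
    haveI : IsProper j := IsProper.of_comp j (pullback.fst sX sB)
    exact (Scheme.Hom.isClosedMap j).isClosed_range
  · intro hcl
    haveI : IsPreimmersion j := hj ▸ inferInstance
    haveI : IsClosedImmersion j := IsClosedImmersion.of_isPreimmersion j hcl
    haveI : IsAffine B := hB
    haveI : IsAffine ((pullback.snd sX sB) ⁻¹ᵁ B).toScheme :=
      IsAffine.of_isIso ((pullbackRestrictIsoRestrict (pullback.snd sX sB) B).inv ≫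
        (pullbackLeftPullbackSndIso sX sB B.ι).hom)
    haveI : IsAffine Z := isAffine_of_isAffineHom ι
    haveI : IsProper (j ≫ pullback.fst sX sB) := inferInstance
    haveI hfin : IsFinite (j ≫ pullback.fst sX sB) := IsFinite.iff_isProper_and_isAffineHom.2 ⟨inferInstance, inferInstance⟩
    refine ⟨hfin, ?_⟩
    set π := j ≫ pullback.fst sX sB with hπ
    letI : X.Over (Spec (CommRingCat.of k)) := ⟨sX⟩
    letI : Z.Over (Spec (CommRingCat.of k)) := ⟨π ≫ sX⟩
    haveI : LocallyOfFiniteType (X ↘ Spec (CommRingCat.of k)) := ‹LocallyOfFiniteType sX›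
    haveI : LocallyOfFiniteType (Z ↘ Spec (CommRingCat.of k)) := inferInstanceAs (LocallyOfFiniteType (π ≫ sX))
    let ξ := genericPoint Z
    have hmono : StrictMono π.base := by
      intro y x hyx
      have hle : π x ⤳ π y := (show x ⤳ y from hyx.le).map π.continuous
      refine lt_iff_le_not_ge.2 ⟨hle, fun hge => hyx.ne ?_⟩
      have he : π x = π y := (hle.antisymm hge).eq
      have hd := Scheme.Hom.isDiscrete_preimage_singleton π (π y)
      rw [isDiscrete_iff_discreteTopology] at hd
      have hs : (⟨x, he⟩ : π ⁻¹' {π y}) ⤳ ⟨y, rfl⟩ := subtype_specializes_iff _ _ |>.2 hyx.le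
      exact (congrArg Subtype.val hs.eq).symm
    have hξle : Groth.Agent.VarDim.dimPt k Z ξ ≤ Groth.Agent.VarDim.dimPt k X (π ξ) := by
      have := Order.height_le_height_apply_of_strictMono _ hmono ξ
      rw [Groth.Agent.VarDim.height_eq_dimPt k, Groth.Agent.VarDim.height_eq_dimPt k] at this
      exact_mod_cast this
    have hrange : Set.range π = closure {π ξ} := by
      rw [← Set.image_univ, ← (genericPoint_spec Z).def,
        ← (Scheme.Hom.isClosedMap π).closure_image_eq_of_continuous π.continuous, Set.image_singleton]
    obtain ⟨T, hT, hRT⟩ : ∃ T ∈ irreducibleComponents X, closure {π ξ} ⊆ T := by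
      exact ⟨irreducibleComponent (π ξ), irreducibleComponent_mem_irreducibleComponents _,
        closure_minimal (Set.singleton_subset_iff.2 mem_irreducibleComponent) isClosed_irreducibleComponent⟩
    show Set.range π.base ∈ _
    rw [hrange]
    obtain ⟨η, hη⟩ := QuasiSober.sober hT.1 (isClosed_of_mem_irreducibleComponents T hT)
    have hdT := hXeq T hT
    rw [← hη.def, topDim_closure k, ← hZ, Groth.Agent.VarDim.topologicalKrullDim_eq_of_irreducible k] at hdT
    have hd : Groth.Agent.VarDim.dimPt k X η = Groth.Agent.VarDim.dimPt k Z ξ := by exact_mod_cast hdT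
    have hle : π ξ ≤ η := hη.specializes (hRT (subset_closure rfl))
    by_cases he : π ξ = η
    · rw [he, hη.def]; exact hT
    · have := Groth.Agent.VarDim.dimPt_lt_of_lt k (lt_iff_le_not_ge.2 ⟨hle, fun hge =>
        he ((Specializes.antisymm (show π ξ ⤳ η from hge) hle).eq)⟩)
      omega

end Groth.Agent.S15085
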