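import Groth.Statements.S15086
import Mathlib.AlgebraicGeometry.Fiber
import Mathlib.AlgebraicGeometry.Morphisms.Finite
import Mathlib.AlgebraicGeometry.Morphisms.ClosedImmersion
import Mathlib.AlgebraicGeometry.Morphisms.FiniteType
import Mathlib.RingTheory.Etale.Field
import Mathlib.RingTheory.Unramified.Field
import Mathlib.RingTheory.Artinian.Module
import Mathlib.RingTheory.Jacobson.Artinian
import Mathlib.FieldTheory.IsAlgClosed.AlgebraicClosure
import Mathlib.FieldTheory.Perfect
import Mathlib.RingTheory.TensorProduct.Finite
import Mathlib.Tactic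

set_option autoImplicit false
universe u
open CategoryTheory CategoryTheory.Limits AlgebraicGeometry
open MovLem

namespace Groth.Agent.S15086

open TensorProduct in
/-- A finite field extension of a perfect field becomes a product of copies of the algebraic closure. -/
lemma card_primeSpectrum_tensor (k L : Type u) [Field k] [PerfectField k] [Field L] [Algebra k L]
    [Module.Finite k L] :
    ENat.card (PrimeSpectrum (L ⊗[k] AlgebraicClosure k)) = Module.finrank k L := by
  let K := AlgebraicClosure k
  let e := Algebra.TensorProduct.comm k L K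
  rw [ENat.card_congr (PrimeSpectrum.comapEquiv e.toRingEquiv).toEquiv]
  let A := K ⊗[k] L
  haveI : Algebra.FormallyUnramified k L := .of_isSeparable k L
  haveI : Algebra.FormallyUnramified K A := inferInstance
  haveI : Module.Finite K A := inferInstance
  haveI : IsReduced A := Algebra.FormallyUnramified.isReduced_of_field K A
  haveI : IsArtinianRing A := IsArtinianRing.of_finite K A
  haveI : Finite (PrimeSpectrum A) := inferInstance
  have h1 : Module.finrank K A = Module.finrank k L := Module.finrank_baseChange
  let π := ((IsArtinianRing.equivPi A).restrictScalars K).toLinearEquiv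
  haveI : Fintype (MaximalSpectrum A) := Fintype.ofFinite _
  have h2 : ∀ I : MaximalSpectrum A, Module.finrank K (A ⧸ I.asIdeal) = 1 := fun I => by
    haveI := I.isMaximal
    letI := Ideal.Quotient.field I.asIdeal
    haveI : Algebra.IsIntegral K (A ⧸ I.asIdeal) := inferInstance
    have hb := IsAlgClosed.algebraMap_bijective_of_isIntegral (k := K) (K := A ⧸ I.asIdeal)
    exact ((LinearEquiv.ofBijective (Algebra.linearMap K (A ⧸ I.asIdeal)) hb).finrank_eq).symm.trans
      (Module.finrank_self K)
  rw [π.finrank_eq, Module.finrank_pi_fintype] at h1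
  simp only [h2, Finset.sum_const, Finset.card_univ, smul_eq_mul, mul_one] at h1
  rw [ENat.card_congr IsArtinianRing.primeSpectrumEquivMaximalSpectrum, ENat.card_eq_coe_fintype_card, h1]

variable {k : Type u} [Field k] {X : Scheme.{u}} (sX : X ⟶ Spec (CommRingCat.of k))

/-- The map from the base field to a residue field. -/
noncomputable def resHom (x : X) : k →+* X.residueField x :=
  (Spec.preimage (X.fromSpecResidueField x ≫ sX)).hom

lemma resHom_spec (x : X) :
    Spec.map (CommRingCat.ofHom (resHom sX x)) = X.fromSpecResidueField x ≫ sX :=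
  Spec.map_preimage _

lemma resHom_comp {Y : Scheme.{u}} (sY : Y ⟶ Spec (CommRingCat.of k)) (φ : X ⟶ Y) (hφ : φ ≫ sY = sX) (x : X) :
    (φ.residueFieldMap x).hom.comp (resHom sY (φ x)) = resHom sX x := by
  have h : Spec.map (CommRingCat.ofHom ((φ.residueFieldMap x).hom.comp (resHom sY (φ x)))) =
      Spec.map (CommRingCat.ofHom (resHom sX x)) := by
    rw [CommRingCat.ofHom_comp, Spec.map_comp, resHom_spec, resHom_spec, CommRingCat.ofHom_hom, ← hφ,
      Scheme.Hom.SpecMap_residueFieldMap_fromSpecResidueField_assoc]
  exact congrArg CommRingCat.Hom.hom (Spec.map_injective h)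

lemma finite_resHom [LocallyOfFiniteType sX] {x : X} (hx : IsClosed ({x} : Set X)) :
    letI := (resHom sX x).toAlgebra
    Module.Finite k (X.residueField x) := by
  letI := (resHom sX x).toAlgebra
  haveI : IsClosedImmersion (X.fromSpecResidueField x) :=
    IsClosedImmersion.of_isPreimmersion _ (by rw [Scheme.range_fromSpecResidueField]; exact hx)
  have h : LocallyOfFiniteType (Spec.map (CommRingCat.ofHom (resHom sX x))) := by
    rw [resHom_spec]; infer_instance
  rw [HasRingHomProperty.Spec_iff (P := @LocallyOfFiniteType)] at h
  haveI : Algebra.FiniteType k (X.residueField x) := h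
  exact finite_of_finite_type_of_isJacobsonRing k (X.residueField x)

/-- The number of geometric points over a closed point is the degree of its residue field. -/
lemma encard_fibre [PerfectField k] [LocallyOfFiniteType sX]
    (i : Spec (CommRingCat.of (AlgebraicClosure k)) ⟶ Spec (CommRingCat.of k))
    (hi : i = Spec.map (CommRingCat.ofHom (algebraMap k (AlgebraicClosure k))))
    {x : X} (hx : IsClosed ({x} : Set X)) :
    letI := (resHom sX x).toAlgebra
    ((pullback.fst sX i).base ⁻¹' {x}).encard = Module.finrank k (X.residueField x) := by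
  letI := (resHom sX x).toAlgebra
  haveI := finite_resHom sX hx
  rw [← card_primeSpectrum_tensor k (X.residueField x)]
  let e : (pullback.fst sX i).fiber x ≅
      Spec (CommRingCat.of (TensorProduct k (X.residueField x) (AlgebraicClosure k))) :=
    pullbackSymmetry _ _ ≪≫ pullbackRightPullbackFstIso sX i (X.fromSpecResidueField x) ≪≫
      pullback.congrHom (resHom_spec sX x).symm hi ≪≫ pullbackSpecIso k (X.residueField x) (AlgebraicClosure k)
  exact ENat.card_congr (((pullback.fst sX i).fiberHomeo x).toEquiv.symm.trans (e.hom.homeomorph.toEquiv))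

/-- Let k be an infinite perfect field with algebraic closure k̄, let φ : X → Y be a finite morphism of
k-schemes locally of finite type, let x be a closed point of X and y = φ(x). Let π_X : X_{k̄} → X
and π_Y : Y_{k̄} → Y be the base-change projections and φ_{k̄} : X_{k̄} → Y_{k̄} the induced
morphism. Then the number of points of π_Y⁻¹(y) is at most the number of points of π_X⁻¹(x);
equality holds if and only if the residue field extension k(y) → k(x) is an isomorphism; and
equality holds whenever φ_{k̄} is injective on π_X⁻¹(x). (Cardinalities are taken in ℕ ∪ {∞}; both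
fibres are in fact finite.) -/
theorem result
    {k : Type u} [Field k] [Infinite k] [PerfectField k] {X Y : Scheme.{u}}
    (sX : X ⟶ Spec (CommRingCat.of k)) (sY : Y ⟶ Spec (CommRingCat.of k))
    [LocallyOfFiniteType sX] [LocallyOfFiniteType sY]
    (φ : X ⟶ Y) (hφ : φ ≫ sY = sX) [IsFinite φ]
    (i : Spec (CommRingCat.of (AlgebraicClosure k)) ⟶ Spec (CommRingCat.of k))
    (hi : i = Spec.map (CommRingCat.ofHom (algebraMap k (AlgebraicClosure k))))
    (φbar : pullback sX i ⟶ pullback sY i)
    (h1 : φbar ≫ pullback.fst sY i = pullback.fst sX i ≫ φ)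
    (h2 : φbar ≫ pullback.snd sY i = pullback.snd sX i)
    (x : X) (hx : IsClosed ({x} : Set X)) :
    ((pullback.fst sY i).base ⁻¹' {φ.base x}).encard ≤ ((pullback.fst sX i).base ⁻¹' {x}).encard ∧
      (((pullback.fst sY i).base ⁻¹' {φ.base x}).encard = ((pullback.fst sX i).base ⁻¹' {x}).encard ↔
          Function.Bijective (φ.residueFieldMap x).hom) ∧
      (Set.InjOn φbar.base ((pullback.fst sX i).base ⁻¹' {x}) →
        ((pullback.fst sY i).base ⁻¹' {φ.base x}).encard = ((pullback.fst sX i).base ⁻¹' {x}).encard) := by
  have hy : IsClosed ({φ.base x} : Set Y) := by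
    have := (Scheme.Hom.isClosedMap φ) _ hx
    rwa [Set.image_singleton] at this
  let y := φ x
  letI aX := (resHom sX x).toAlgebra
  letI aY := (resHom sY y).toAlgebra
  letI aXY := (φ.residueFieldMap x).hom.toAlgebra
  haveI : IsScalarTower k (Y.residueField y) (X.residueField x) :=
    IsScalarTower.of_algebraMap_eq fun c => (RingHom.congr_fun (resHom_comp sX sY φ hφ x) c).symm
  haveI := finite_resHom sX hx
  haveI := finite_resHom sY hy
  haveI : Module.Finite (Y.residueField y) (X.residueField x) :=
    Module.Finite.of_restrictScalars_finite k _ _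
  have hX := encard_fibre sX i hi hx
  have hY : ((pullback.fst sY i).base ⁻¹' {φ.base x}).encard = Module.finrank k (Y.residueField y) :=
    encard_fibre sY i hi hy
  have hmul := Module.finrank_mul_finrank k (Y.residueField y) (X.residueField x)
  have hpos : 0 < Module.finrank (Y.residueField y) (X.residueField x) := Module.finrank_pos
  have hposY : 0 < Module.finrank k (Y.residueField y) := Module.finrank_pos
  have hle : ((pullback.fst sY i).base ⁻¹' {φ.base x}).encard ≤ ((pullback.fst sX i).base ⁻¹' {x}).encard := by
    rw [hX, hY, ← hmul]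
    exact_mod_cast Nat.le_mul_of_pos_right _ hpos
  refine ⟨hle, ?_, fun hinj => le_antisymm hle ?_⟩
  · rw [hX, hY, ← hmul, Nat.cast_inj, eq_comm, Nat.mul_eq_left hposY.ne']
    constructor
    · intro h1
      have hinj : Function.Injective (Algebra.linearMap (Y.residueField y) (X.residueField x)) :=
        (algebraMap (Y.residueField y) (X.residueField x)).injective
      exact ⟨hinj, (LinearMap.injective_iff_surjective_of_finrank_eq_finrank
        (by rw [Module.finrank_self, h1])).1 hinj⟩
    · intro hb
      exact ((LinearEquiv.ofBijective (Algebra.linearMap (Y.residueField y) (X.residueField x)) hb).finrank_eq).symm.trans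
        (Module.finrank_self _)
  · rw [← hinj.encard_image]
    refine Set.encard_le_encard ?_
    rintro _ ⟨z, hz, rfl⟩
    show (pullback.fst sY i) (φbar z) = φ x
    rw [← Scheme.Hom.comp_apply, h1, Scheme.Hom.comp_apply]
    exact congrArg φ.base hz

end Groth.Agent.S15086
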