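import Groth.Statements.S15087
import Groth.Agent.MovTw.Relation


set_option autoImplicit false
universe u v w
open MovLem

namespace Groth.Agent.S15087

open MvPolynomial TensorProduct

theorem aux₀ {k A B : Type u} [Field k] [CommRing A] [Algebra k A] [Algebra.FiniteType k A]
    [CommRing B] [Algebra k B] [Module.Finite k B] {r : ℕ} (N : ℕ) (hdim : ringKrullDim A < r)
    (x : Fin r → A) (a : A) (z : Fin r → B) :
    ∃ h : MvPolynomial (Fin r) k, h ≠ 0 ∧
      ∀ (L : Type w) [Field L] [Algebra k L] (φ : A →ₐ[k] L) (ψ : B →ₐ[k] L) (g : Fin r → L) (t : L),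
        (∀ i, φ (x i) = ψ (z i) + t ^ N * g i) → φ a * t = 1 → aeval g h = 0 := by
  haveI : Algebra.FiniteType k (TensorProduct k A B) :=
    Algebra.FiniteType.trans (S := A) inferInstance inferInstance
  obtain ⟨h, h0, hh⟩ := MovTw.exists_relation (k := k) (C := A) (C' := TensorProduct k A B) hdim
    (fun i => (x i ⊗ₜ[k] (1 : B) - (1 : A) ⊗ₜ[k] z i) * ((a ^ N) ⊗ₜ[k] (1 : B)))
  refine ⟨h, h0, fun L _ _ φ ψ g t hx ha => ?_⟩
  have e : ∀ i, Algebra.TensorProduct.lift φ ψ (fun _ _ => Commute.all _ _)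
      ((x i ⊗ₜ[k] (1 : B) - (1 : A) ⊗ₜ[k] z i) * ((a ^ N) ⊗ₜ[k] (1 : B))) = g i := by
    intro i
    simp only [map_mul, map_sub, Algebra.TensorProduct.lift_tmul, map_one, one_mul, mul_one, hx,
      map_pow]
    have : t ^ N * φ a ^ N = 1 := by rw [← mul_pow, mul_comm, ha, one_pow]
    linear_combination g i * this
  have h1 := congrArg (Algebra.TensorProduct.lift φ ψ (fun _ _ => Commute.all _ _)) hh
  rw [map_zero, comp_aeval_apply] at h1
  rwa [funext e] at h1

theorem aux {k : Type u} [Field k] {r N d : ℕ}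
    (J : Ideal (MvPolynomial (Fin r ⊕ (Unit ⊕ Fin d)) k))
    (hdim : ringKrullDim (MvPolynomial (Fin r ⊕ (Unit ⊕ Fin d)) k ⧸ J) < r)
    (ht0 : J ⊔ Ideal.span {X (Sum.inr (Sum.inl ()))} = ⊤)
    (P : Ideal (MvPolynomial (Fin r) k)) [P.IsMaximal] :
    ∃ h : MvPolynomial (Fin r) k, h ≠ 0 ∧
      ∀ (L : Type w) [Field L] [Algebra k L] (g ξ : Fin r → L) (t : L) (y : Fin d → L),
        (∀ p ∈ P, aeval ξ p = 0) →
        (∀ q ∈ J, aeval (Sum.elim (fun i => ξ i + t ^ N * g i) (Sum.elim (fun _ : Unit => t) y)) q = 0) →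
          aeval g h = 0 := by
  obtain ⟨j, hj, b, hb, hjb⟩ := Submodule.mem_sup.mp ((Ideal.eq_top_iff_one _).mp ht0)
  obtain ⟨a, rfl⟩ := Ideal.mem_span_singleton'.mp hb
  letI : Field (MvPolynomial (Fin r) k ⧸ P) := Ideal.Quotient.field P
  haveI : Module.Finite k (MvPolynomial (Fin r) k ⧸ P) :=
    finite_of_finite_type_of_isJacobsonRing k _
  obtain ⟨h, h0, hh⟩ := aux₀.{u, w} (k := k) (A := MvPolynomial (Fin r ⊕ (Unit ⊕ Fin d)) k ⧸ J)
    (B := MvPolynomial (Fin r) k ⧸ P) N hdim (fun i => Ideal.Quotient.mkₐ k J (X (Sum.inl i)))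
    (Ideal.Quotient.mkₐ k J a) (fun i => Ideal.Quotient.mkₐ k P (X i))
  refine ⟨h, h0, fun L _ _ g ξ t y hξ hz =>
    hh L (Ideal.Quotient.liftₐ J _ hz) (Ideal.Quotient.liftₐ P (aeval ξ) hξ) g t (fun i => ?_) ?_⟩
  · exact (aeval_X _ _).trans (congrArg (· + t ^ N * g i) (aeval_X ξ i).symm)
  · have := congrArg (aeval (Sum.elim (fun i => ξ i + t ^ N * g i)
      (Sum.elim (fun _ : Unit => t) y))) hjb
    rw [map_add, hz j hj, map_mul, map_one, zero_add, aeval_X] at this
    exact this

/-- Let k be an infinite perfect field, r, m, s ≥ 1 and d ≥ 0, and put N = s(m+1). In affine space with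
coordinates x_1, …, x_r, t, y_1, …, y_d (the cube of dimension d taken as affine d-space with faces
given by setting some coordinates equal to 0 or 1), let Z = V(I) be an integral closed subscheme of
dimension r which does not meet the hyperplane t = 0 and which meets every face {y_i = ε_i for i ∈
S} (S nonempty, ε_i ∈ {0, 1}) in dimension at most r − |S|. Let Σ be a finite set of closed points
of affine r-space over k. Then there is a nonzero polynomial h in k[g_1, …, g_r] such that for every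
field K over k and every g ∈ K^r with h(g) ≠ 0, the translate of Z_K by x ↦ x + t^N g meets no set
{x ∈ Σ} × A^1 × F with F a proper face: for every field L over K, every point ξ of affine r-space
over L lying on a point of Σ, every t ∈ L and every y ∈ L^d lying on a proper face, the point (ξ +
t^N g, t, y) is not a zero of I. (The published statement assumes that Z is an irreducible
admissible additive cycle meeting the faces through Σ properly; the two consequences of
admissibility that its proof uses — Z misses t = 0, and Z meets all faces properly — are the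
hypotheses here, and the dense open subset of affine r-space is given as the locus h ≠ 0.) -/
theorem result
    {k : Type u} [Field k] [Infinite k] [PerfectField k] (r m s d : ℕ) (hr : 1 ≤ r) (hm : 1 ≤ m) (hs : 1 ≤ s)
    (I : Ideal (MvPolynomial (Fin r ⊕ (Unit ⊕ Fin d)) k)) (hI : I.IsPrime)
    (hdim : ringKrullDim (MvPolynomial (Fin r ⊕ (Unit ⊕ Fin d)) k ⧸ I) = r)
    (ht0 : I ⊔ Ideal.span {MvPolynomial.X (Sum.inr (Sum.inl ()))} = ⊤)
    (hface : ∀ (S : Finset (Fin d)), S.Nonempty → ∀ (ε : Fin d → k), (∀ i, ε i = 0 ∨ ε i = 1) →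
      ringKrullDim (MvPolynomial (Fin r ⊕ (Unit ⊕ Fin d)) k ⧸
        (I ⊔ Ideal.span ((fun i => MvPolynomial.X (Sum.inr (Sum.inr i)) - MvPolynomial.C (ε i)) '' (S : Set (Fin d))))) ≤ (r - S.card : ℕ))
    (Sigma : Finset (Ideal (MvPolynomial (Fin r) k))) (hSigma : ∀ P ∈ Sigma, P.IsMaximal) :
    ∃ h : MvPolynomial (Fin r) k, h ≠ 0 ∧
      ∀ (K : Type v) [Field K] [Algebra k K] (g : Fin r → K), MvPolynomial.aeval g h ≠ 0 →
        ∀ (L : Type w) [Field L] [Algebra k L] [Algebra K L] [IsScalarTower k K L]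
          (ξ : Fin r → L) (t : L) (y : Fin d → L),
          ∀ P ∈ Sigma, (∀ p ∈ P, MvPolynomial.aeval ξ p = 0) →
            ∀ (S : Finset (Fin d)), S.Nonempty → ∀ (ε : Fin d → k), (∀ i, ε i = 0 ∨ ε i = 1) →
              (∀ i ∈ S, y i = algebraMap k L (ε i)) →
                ¬ (∀ q ∈ I, MvPolynomial.aeval
                    (Sum.elim (fun i => ξ i + t ^ (s * (m + 1)) * algebraMap K L (g i))
                      (Sum.elim (fun _ : Unit => t) y)) q = 0) := by
  classical
  let εT : Finset (Fin d) → Fin d → k := fun T i => if i ∈ T then 1 else 0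
  have hεT : ∀ T i, εT T i = 0 ∨ εT T i = 1 := fun T i => by
    by_cases h : i ∈ T <;> simp [εT, h]
  let J : Finset (Fin d) → Finset (Fin d) → Ideal (MvPolynomial (Fin r ⊕ (Unit ⊕ Fin d)) k) := fun S T =>
    I ⊔ Ideal.span ((fun i => X (Sum.inr (Sum.inr i)) - C (εT T i)) '' (S : Set (Fin d)))
  have hex : ∀ P ∈ Sigma, ∀ S T : Finset (Fin d), ∃ h : MvPolynomial (Fin r) k, h ≠ 0 ∧
      (S.Nonempty → ∀ (L : Type w) [Field L] [Algebra k L] (g ξ : Fin r → L) (t : L) (y : Fin d → L),
        (∀ p ∈ P, aeval ξ p = 0) →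
        (∀ q ∈ J S T, aeval (Sum.elim (fun i => ξ i + t ^ (s * (m + 1)) * g i)
          (Sum.elim (fun _ : Unit => t) y)) q = 0) → aeval g h = 0) := by
    intro P hP S T
    by_cases hS : S.Nonempty
    · haveI := hSigma P hP
      obtain ⟨h, h0, hh⟩ := aux.{u, w} (N := s * (m + 1)) (J S T)
        (lt_of_le_of_lt (hface S hS (εT T) (hεT T)) (by
          have : r - S.card < r := Nat.sub_lt (by omega) (Finset.card_pos.mpr hS)
          exact_mod_cast this))
        (top_le_iff.mp (ht0 ▸ sup_le_sup_right le_sup_left _)) P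
      exact ⟨h, h0, fun _ => hh⟩
    · exact ⟨1, one_ne_zero, fun h => absurd h hS⟩
  choose H H0 HH using hex
  refine ⟨∏ P : Sigma, ∏ S : Finset (Fin d), ∏ T : Finset (Fin d), H P.1 P.2 S T, ?_, ?_⟩
  · exact Finset.prod_ne_zero_iff.mpr fun P _ => Finset.prod_ne_zero_iff.mpr fun S _ =>
      Finset.prod_ne_zero_iff.mpr fun T _ => H0 _ _ _ _
  · intro K _ _ g hg L _ _ _ _ ξ t y P hP hξ S hS ε hε hy hz
    apply hg
    set T : Finset (Fin d) := Finset.univ.filter fun i => ε i = 1
    have hT : εT T = ε := by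
      funext i
      rcases hε i with h | h <;> simp [εT, T, h]
    have hJ : ∀ q ∈ J S T, aeval (Sum.elim (fun i => ξ i + t ^ (s * (m + 1)) * algebraMap K L (g i))
        (Sum.elim (fun _ : Unit => t) y)) q = 0 := by
      intro q hq
      refine (show J S T ≤ RingHom.ker (aeval (Sum.elim
        (fun i => ξ i + t ^ (s * (m + 1)) * algebraMap K L (g i))
        (Sum.elim (fun _ : Unit => t) y)) : (MvPolynomial (Fin r ⊕ (Unit ⊕ Fin d)) k) →ₐ[k] L) from sup_le (fun q hq => hz q hq) ?_) hq
      rw [Ideal.span_le]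
      rintro _ ⟨i, hi, rfl⟩
      simp only [SetLike.mem_coe, RingHom.mem_ker, map_sub, hT]
      rw [aeval_X, aeval_C]
      exact sub_eq_zero.mpr (hy i hi)
    have h1 := HH P hP S T hS L (fun i => algebraMap K L (g i)) ξ t y hξ hJ
    have h2 : aeval g (H P hP S T) = 0 := by
      apply (algebraMap K L).injective
      rw [map_zero, ← h1]
      exact (aeval_algebraMap_apply L g _).symm
    rw [map_prod]
    refine Finset.prod_eq_zero (Finset.mem_univ ⟨P, hP⟩) ?_
    rw [map_prod]
    refine Finset.prod_eq_zero (Finset.mem_univ S) ?_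
    rw [map_prod]
    exact Finset.prod_eq_zero (Finset.mem_univ T) h2

end Groth.Agent.S15087
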