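import Groth.Statements.S15088
import Mathlib
-- import your own Groth.Agent.* helpers here

set_option autoImplicit false
universe u v
open MovLem

namespace Groth.Agent.S15088

open MvPolynomial

section

variable {k : Type u} [Field k] {r : ℕ}

/-- zeros of a maximal ideal in the algebraic closure form a finite set -/
theorem finite_zeros (P : Ideal (MvPolynomial (Fin r) k)) [P.IsMaximal] :
    {ξ : Fin r → AlgebraicClosure k | ∀ p ∈ P, aeval ξ p = 0}.Finite := by
  letI : Field (MvPolynomial (Fin r) k ⧸ P) := Ideal.Quotient.field P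
  haveI : Module.Finite k (MvPolynomial (Fin r) k ⧸ P) := finite_of_finite_type_of_isJacobsonRing k _
  let f : Fin r → Polynomial k := fun i => minpoly k (Ideal.Quotient.mkₐ k P (X i))
  refine (Set.Finite.pi fun i => (f i).rootSet_finite (AlgebraicClosure k)).subset fun ξ hξ i _ => ?_
  rw [Polynomial.mem_rootSet]
  refine ⟨minpoly.ne_zero (Algebra.IsIntegral.isIntegral _), ?_⟩
  have h := congrArg (Ideal.Quotient.liftₐ P (aeval ξ) hξ) (minpoly.aeval k (Ideal.Quotient.mkₐ k P (X i)))
  rw [map_zero, ← Polynomial.aeval_algHom_apply] at h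
  rwa [show Ideal.Quotient.liftₐ P (aeval ξ) hξ (Ideal.Quotient.mkₐ k P (X i)) = ξ i from aeval_X ξ i] at h

theorem substitution_ne_zero {F : Type*} [Field F] [Algebra k F] (q : MvPolynomial (Fin r) k)
    (hq : q ≠ 0) (ξ : Fin r → F) (c : F) (hc : c ≠ 0) :
    aeval (fun i => C (ξ i) + C c * X i : Fin r → MvPolynomial (Fin r) F) q ≠ 0 := by
  intro h
  let back : MvPolynomial (Fin r) F →ₐ[k] MvPolynomial (Fin r) F :=
    (aeval (fun i => C c⁻¹ * (X i - C (ξ i))) : MvPolynomial (Fin r) F →ₐ[F] _).restrictScalars k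
  have h1 := congrArg back h
  rw [map_zero, comp_aeval_apply] at h1
  have h2 : (fun i => back (C (ξ i) + C c * X i)) = (X : Fin r → MvPolynomial (Fin r) F) := by
    funext i
    simp only [back, AlgHom.restrictScalars_apply, map_add, map_mul, aeval_C, aeval_X,
      MvPolynomial.algebraMap_eq]
    rw [← mul_assoc, ← map_mul, mul_inv_cancel₀ hc, map_one, one_mul]
    ring
  rw [h2, aeval_X_left_apply'] at h1
  exact hq (map_injective (algebraMap k F) (algebraMap k F).injective (h1.trans (map_zero _).symm))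
where
  aeval_X_left_apply' {F : Type _} [Field F] [Algebra k F] : ∀ q : MvPolynomial (Fin r) k,
      aeval (X : Fin r → MvPolynomial (Fin r) F) q = map (algebraMap k F) q := fun q => by
    induction q using MvPolynomial.induction_on with
    | C a => simp [MvPolynomial.algebraMap_eq, IsScalarTower.algebraMap_apply k F (MvPolynomial (Fin r) F)]
    | add p q hp hq => simp [hp, hq]
    | mul_X p i hp => simp [hp]

end

/-- Let k be an infinite perfect field, r, m, s ≥ 1 and d ≥ 0, and put N = s(m+1). In affine space with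
coordinates x_1, …, x_r, t, y_1, …, y_d let Z = V(I) be an integral closed subscheme of dimension r
which does not meet t = 0 and such that neither the projection of Z to the x-coordinates nor its
projection to the t-line is dominant (I contains a nonzero polynomial in the x's alone and a nonzero
polynomial in t alone). Let Σ be a finite set of closed points of affine r-space over k. Then there
is a nonzero polynomial h in k[g_1, …, g_r] such that for every field K over k and every g ∈ K^r
with h(g) ≠ 0 the translate Z_g = {(x, t, y) : (x + t^N g, t, y) ∈ Z_K} of Z_K is empty over an open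
neighbourhood of the points of affine r-space over K lying over Σ: the closure of the image of Z_g
in affine r-space over K (the zero set of the contraction to K[x_1, …, x_r] of the ideal of Z_g)
contains no point lying over a point of Σ. (The published statement assumes that Z is an irreducible
admissible additive cycle meeting the faces through Σ properly; of this its proof uses only that Z
misses t = 0, which is a hypothesis here, and the dense open subset of affine r-space is given as
the locus h ≠ 0.) -/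
theorem result
    {k : Type u} [Field k] [Infinite k] [PerfectField k] (r m s d : ℕ) (hr : 1 ≤ r) (hm : 1 ≤ m) (hs : 1 ≤ s)
    (I : Ideal (MvPolynomial (Fin r ⊕ (Unit ⊕ Fin d)) k)) (hI : I.IsPrime)
    (hdim : ringKrullDim (MvPolynomial (Fin r ⊕ (Unit ⊕ Fin d)) k ⧸ I) = r)
    (ht0 : I ⊔ Ideal.span {MvPolynomial.X (Sum.inr (Sum.inl ()))} = ⊤)
    (hx : Ideal.comap (MvPolynomial.rename (Sum.inl : Fin r → Fin r ⊕ (Unit ⊕ Fin d)) :
        MvPolynomial (Fin r) k →ₐ[k] MvPolynomial (Fin r ⊕ (Unit ⊕ Fin d)) k) I ≠ ⊥)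
    (ht : Ideal.comap (MvPolynomial.rename (fun _ : Unit => (Sum.inr (Sum.inl ()) : Fin r ⊕ (Unit ⊕ Fin d))) :
        MvPolynomial Unit k →ₐ[k] MvPolynomial (Fin r ⊕ (Unit ⊕ Fin d)) k) I ≠ ⊥)
    (Sigma : Finset (Ideal (MvPolynomial (Fin r) k))) (hSigma : ∀ P ∈ Sigma, P.IsMaximal) :
    ∃ h : MvPolynomial (Fin r) k, h ≠ 0 ∧
      ∀ (K : Type v) [Field K] [Algebra k K] (g : Fin r → K), MvPolynomial.aeval g h ≠ 0 →
        ∀ P ∈ Sigma,
          Ideal.comap (MvPolynomial.rename (Sum.inl : Fin r → Fin r ⊕ (Unit ⊕ Fin d)) :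
              MvPolynomial (Fin r) K →ₐ[K] MvPolynomial (Fin r ⊕ (Unit ⊕ Fin d)) K)
            (Ideal.map (MvPolynomial.aeval
                (Sum.elim (fun i : Fin r => MvPolynomial.X (Sum.inl i) +
                    MvPolynomial.X (Sum.inr (Sum.inl ())) ^ (s * (m + 1)) * MvPolynomial.C (g i))
                  (fun j : Unit ⊕ Fin d => MvPolynomial.X (Sum.inr j))) :
                MvPolynomial (Fin r ⊕ (Unit ⊕ Fin d)) k →ₐ[k] MvPolynomial (Fin r ⊕ (Unit ⊕ Fin d)) K) I) ⊔
            Ideal.map (MvPolynomial.map (algebraMap k K) : MvPolynomial (Fin r) k →+* MvPolynomial (Fin r) K) P = ⊤ := by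
  classical
  obtain ⟨q, hq, q0⟩ := Submodule.exists_mem_ne_zero_of_ne_bot hx
  obtain ⟨p₁, hp₁, p₁0⟩ := Submodule.exists_mem_ne_zero_of_ne_bot ht
  haveI := hI
  let tb : (MvPolynomial (Fin r ⊕ (Unit ⊕ Fin d)) k) ⧸ I := Ideal.Quotient.mkₐ k I (X (Sum.inr (Sum.inl ())))
  have htb0 : tb ≠ 0 := by
    intro h
    have h' : (X (Sum.inr (Sum.inl ())) : (MvPolynomial (Fin r ⊕ (Unit ⊕ Fin d)) k)) ∈ I := Ideal.Quotient.eq_zero_iff_mem.mp h
    have : I ⊔ Ideal.span {(X (Sum.inr (Sum.inl ())) : (MvPolynomial (Fin r ⊕ (Unit ⊕ Fin d)) k))} = I :=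
      sup_eq_left.mpr ((Ideal.span_singleton_le_iff_mem _).mpr h')
    exact hI.ne_top (this ▸ ht0)
  have htbi : IsIntegral k tb := by
    apply IsAlgebraic.isIntegral
    refine ⟨(pUnitAlgEquiv k) p₁, (map_ne_zero_iff _ (pUnitAlgEquiv k).injective).mpr p₁0, ?_⟩
    have : ∀ p : MvPolynomial Unit k, Polynomial.aeval tb ((pUnitAlgEquiv k) p) =
        Ideal.Quotient.mkₐ k I (rename (fun _ : Unit => (Sum.inr (Sum.inl ()) : Fin r ⊕ (Unit ⊕ Fin d))) p) := by
      intro p
      induction p using MvPolynomial.induction_on with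
      | C a => simp [← MvPolynomial.algebraMap_eq, -AlgEquiv.commutes, AlgEquiv.commutes]
      | add p q hp hq => rw [map_add, map_add, map_add, map_add, hp, hq]
      | mul_X p i hp => rw [map_mul, map_mul, map_mul, map_mul, hp]; simp [tb]
    rw [this]
    exact Ideal.Quotient.eq_zero_iff_mem.mpr hp₁
  let p : Polynomial k := minpoly k tb
  have hp0 : p.coeff 0 ≠ 0 := minpoly.coeff_zero_ne_zero htbi htb0
  have hpI : Polynomial.aeval (X (Sum.inr (Sum.inl ())) : (MvPolynomial (Fin r ⊕ (Unit ⊕ Fin d)) k)) p ∈ I := by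
    rw [← Ideal.Quotient.eq_zero_iff_mem]
    exact ((Polynomial.aeval_algHom_apply (Ideal.Quotient.mkₐ k I) _ p).symm).trans (minpoly.aeval k tb)
  let Z : Set (Fin r → (AlgebraicClosure k)) := ⋃ P ∈ Sigma, {ξ : Fin r → (AlgebraicClosure k) | ∀ f ∈ P, aeval ξ f = 0}
  have hZ : Z.Finite := (Finset.finite_toSet Sigma).biUnion fun P hP => by
    haveI := hSigma P hP
    exact finite_zeros P
  let E : Finset ((Fin r → (AlgebraicClosure k)) × (AlgebraicClosure k)) := hZ.toFinset ×ˢ (p.rootSet_finite (AlgebraicClosure k)).toFinset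
  let φf : (Fin r → (AlgebraicClosure k)) × (AlgebraicClosure k) → MvPolynomial (Fin r) (AlgebraicClosure k) := fun e =>
    aeval (fun i => C (e.1 i) + C (e.2 ^ (s * (m + 1))) * X i) q
  let H : MvPolynomial (Fin r) (AlgebraicClosure k) := ∏ e ∈ E, φf e
  have H0 : H ≠ 0 := Finset.prod_ne_zero_iff.mpr fun e he => by
    refine substitution_ne_zero q q0 _ _ (pow_ne_zero _ fun h0 => hp0 ?_)
    have he2 := (Set.Finite.mem_toFinset _).mp (Finset.mem_product.mp he).2
    rw [Polynomial.mem_rootSet] at he2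
    have := he2.2
    rw [h0, Polynomial.aeval_def, Polynomial.eval₂_at_zero] at this
    exact (algebraMap k (AlgebraicClosure k)).injective (this.trans (map_zero _).symm)
  letI : Algebra (MvPolynomial (Fin r) k) (MvPolynomial (Fin r) (AlgebraicClosure k)) :=
    (map (algebraMap k (AlgebraicClosure k))).toAlgebra
  have hint : ∀ f : MvPolynomial (Fin r) (AlgebraicClosure k), IsIntegral (MvPolynomial (Fin r) k) f := by
    intro f
    induction f using MvPolynomial.induction_on with
    | C a =>
      obtain ⟨π, hπ, hπa⟩ := Algebra.IsIntegral.isIntegral (R := k) a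
      refine ⟨π.map C, hπ.map _, ?_⟩
      rw [Polynomial.eval₂_map]
      have : (algebraMap (MvPolynomial (Fin r) k) (MvPolynomial (Fin r) (AlgebraicClosure k))).comp C =
          (C : (AlgebraicClosure k) →+* MvPolynomial (Fin r) (AlgebraicClosure k)).comp (algebraMap k (AlgebraicClosure k)) :=
        RingHom.ext fun x => map_C _ _
      rw [this, ← Polynomial.hom_eval₂, hπa, map_zero]
    | add p q hp hq => exact hp.add hq
    | mul_X p i hp =>
      refine hp.mul ?_
      have : (X i : MvPolynomial (Fin r) (AlgebraicClosure k)) = algebraMap (MvPolynomial (Fin r) k) _ (X i) :=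
        (map_X _ _).symm
      rw [this]
      exact isIntegral_algebraMap
  obtain ⟨h, hh, h0⟩ := Submodule.exists_mem_ne_zero_of_ne_bot
    (Ideal.comap_ne_bot_of_integral_mem (I := Ideal.span {H}) H0 (Ideal.mem_span_singleton_self H) (hint H))
  refine ⟨h, h0, fun K _ _ g hg P hP => ?_⟩
  by_contra hne
  obtain ⟨M, hM, hJM⟩ := Ideal.exists_le_maximal _ hne
  set σ : (MvPolynomial (Fin r ⊕ (Unit ⊕ Fin d)) k) →ₐ[k] MvPolynomial (Fin r ⊕ (Unit ⊕ Fin d)) K := aeval
    (Sum.elim (fun i : Fin r => X (Sum.inl i) + X (Sum.inr (Sum.inl ())) ^ (s * (m + 1)) * C (g i))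
      (fun j : Unit ⊕ Fin d => X (Sum.inr j))) with hσ
  let J1 : Ideal (Polynomial (MvPolynomial (Fin r) K)) := Ideal.span {p.map (algebraMap k (MvPolynomial (Fin r) K)),
    aeval (fun i => Polynomial.C (X i) + Polynomial.X ^ (s * (m + 1)) * Polynomial.C (C (g i))) q}
  let ev : Polynomial (MvPolynomial (Fin r) K) →+* MvPolynomial (Fin r ⊕ (Unit ⊕ Fin d)) K :=
    Polynomial.eval₂RingHom (rename (Sum.inl : Fin r → Fin r ⊕ (Unit ⊕ Fin d)) : (MvPolynomial (Fin r) K) →ₐ[K] _).toRingHom
      (X (Sum.inr (Sum.inl ())))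
  have hev : ∀ a : k, ev (algebraMap k (Polynomial (MvPolynomial (Fin r) K)) a) =
      algebraMap k (MvPolynomial (Fin r ⊕ (Unit ⊕ Fin d)) K) a := by
    intro a
    simp [ev, IsScalarTower.algebraMap_apply k (MvPolynomial (Fin r) K) (Polynomial (MvPolynomial (Fin r) K)),
      IsScalarTower.algebraMap_apply k K (MvPolynomial (Fin r) K), MvPolynomial.algebraMap_eq,
      IsScalarTower.algebraMap_apply k K (MvPolynomial (Fin r ⊕ (Unit ⊕ Fin d)) K)]
  let evA : Polynomial (MvPolynomial (Fin r) K) →ₐ[k] MvPolynomial (Fin r ⊕ (Unit ⊕ Fin d)) K := { ev with commutes' := hev }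
  have hJ1 : J1 ≤ Ideal.comap ev (Ideal.map σ I) := by
    rw [Ideal.span_le]
    rintro f (rfl | rfl)
    · rw [SetLike.mem_coe, Ideal.mem_comap]
      have : ev (p.map (algebraMap k (MvPolynomial (Fin r) K))) = σ (Polynomial.aeval (X (Sum.inr (Sum.inl ())) : (MvPolynomial (Fin r ⊕ (Unit ⊕ Fin d)) k)) p) := by
        rw [← Polynomial.aeval_algHom_apply, Polynomial.aeval_def]
        simp only [ev, Polynomial.coe_eval₂RingHom, Polynomial.eval₂_map, hσ, aeval_X, Sum.elim_inr]
        congr 1
        ext a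
        simp [IsScalarTower.algebraMap_apply k K (MvPolynomial (Fin r) K), MvPolynomial.algebraMap_eq,
          IsScalarTower.algebraMap_apply k K (MvPolynomial (Fin r ⊕ (Unit ⊕ Fin d)) K)]
      rw [this]
      exact Ideal.mem_map_of_mem _ hpI
    · rw [SetLike.mem_coe, Ideal.mem_comap]
      have : evA (aeval (fun i => Polynomial.C (X i) + Polynomial.X ^ (s * (m + 1)) *
          Polynomial.C (C (g i))) q) = σ (rename Sum.inl q) := by
        rw [comp_aeval_apply, hσ, aeval_rename]
        congr 2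
        funext i
        show ev _ = _
        simp [ev]
        try ring
      exact (show ev _ = _ from this) ▸ Ideal.mem_map_of_mem _ hq
  haveI : Algebra.IsIntegral (MvPolynomial (Fin r) K) (Polynomial (MvPolynomial (Fin r) K) ⧸ J1) := by
    refine ⟨fun x => ?_⟩
    obtain ⟨f, rfl⟩ := Ideal.Quotient.mk_surjective x
    have hX : IsIntegral (MvPolynomial (Fin r) K) (Ideal.Quotient.mkₐ (MvPolynomial (Fin r) K) J1 Polynomial.X) := by
      refine ⟨p.map (algebraMap k (MvPolynomial (Fin r) K)), (minpoly.monic htbi).map _, ?_⟩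
      rw [← Polynomial.aeval_def, Polynomial.aeval_algHom_apply, Polynomial.aeval_X_left_apply]
      exact Ideal.Quotient.eq_zero_iff_mem.mpr (Ideal.subset_span (Set.mem_insert _ _))
    induction f using Polynomial.induction_on' with
    | add p q hp hq => rw [map_add]; exact Submodule.add_mem (integralClosure (MvPolynomial (Fin r) K) (Polynomial (MvPolynomial (Fin r) K) ⧸ J1)).toSubmodule hp hq
    | monomial n a =>
      rw [← Polynomial.C_mul_X_pow_eq_monomial, map_mul, map_pow]
      exact (integralClosure (MvPolynomial (Fin r) K) (Polynomial (MvPolynomial (Fin r) K) ⧸ J1)).mul_mem (Subalgebra.algebraMap_mem (integralClosure (MvPolynomial (Fin r) K) (Polynomial (MvPolynomial (Fin r) K) ⧸ J1)) a) ((integralClosure (MvPolynomial (Fin r) K) (Polynomial (MvPolynomial (Fin r) K) ⧸ J1)).pow_mem hX n)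
  obtain ⟨Q, -, hQp, hQM⟩ := Ideal.exists_ideal_over_prime_of_isIntegral (R := (MvPolynomial (Fin r) K)) (S := Polynomial (MvPolynomial (Fin r) K) ⧸ J1)
    M ⊥ (by
      intro a ha
      apply hJM
      refine Ideal.mem_sup_left ?_
      rw [Ideal.mem_comap] at ha ⊢
      have h1 : Polynomial.C a ∈ J1 := Ideal.Quotient.eq_zero_iff_mem.mp ha
      simpa [ev] using hJ1 h1)
  haveI := hQp
  let Ω := AlgebraicClosure (FractionRing ((Polynomial (MvPolynomial (Fin r) K) ⧸ J1) ⧸ Q))
  let π : Polynomial (MvPolynomial (Fin r) K) →ₐ[k] Ω := ((IsScalarTower.toAlgHom k ((Polynomial (MvPolynomial (Fin r) K) ⧸ J1) ⧸ Q) Ω).comp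
    (Ideal.Quotient.mkₐ k Q)).comp (Ideal.Quotient.mkₐ k J1)
  let ξ : Fin r → Ω := fun i => π (Polynomial.C (X i))
  let τ : Ω := π Polynomial.X
  let gΩ : Fin r → Ω := fun i => π (Polynomial.C (C (g i)))
  let φ : (AlgebraicClosure k) →ₐ[k] Ω := IsAlgClosed.lift
  have hrange : ∀ (x : Ω), IsIntegral k x → x ∈ Set.range φ := by
    intro x hx'
    have hsp : ((minpoly k x).map (algebraMap k (AlgebraicClosure k))).Splits := IsAlgClosed.splits _
    have hr := (Polynomial.Splits.image_rootSet hsp φ)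
    have : x ∈ (minpoly k x).rootSet Ω := by
      rw [Polynomial.mem_rootSet]
      exact ⟨minpoly.ne_zero hx', minpoly.aeval k x⟩
    rw [← hr] at this
    obtain ⟨y, -, hy⟩ := this
    exact ⟨y, hy⟩
  have hJ1π : ∀ f ∈ J1, π f = 0 := fun f hf => by
    simp [π, Ideal.Quotient.eq_zero_iff_mem.mpr hf]
  have hτ : Polynomial.aeval τ p = 0 := by
    rw [show τ = π Polynomial.X from rfl, Polynomial.aeval_algHom_apply]
    apply hJ1π
    refine Ideal.subset_span (Or.inl ?_)
    rw [Polynomial.aeval_def, Polynomial.eval₂_eq_eval_map,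
      IsScalarTower.algebraMap_eq k (MvPolynomial (Fin r) K) (Polynomial (MvPolynomial (Fin r) K)), ← Polynomial.map_map, Polynomial.eval_map]
    exact Polynomial.eval₂_C_X
  let ιK : K →ₐ[k] Ω := (π.comp (IsScalarTower.toAlgHom k (MvPolynomial (Fin r) K) (Polynomial (MvPolynomial (Fin r) K)))).comp
    (IsScalarTower.toAlgHom k K (MvPolynomial (Fin r) K))
  have hιg : ∀ i, ιK (g i) = gΩ i := fun i => rfl
  have hν : (aeval ξ : MvPolynomial (Fin r) k →ₐ[k] Ω) =
      (π.comp (IsScalarTower.toAlgHom k (MvPolynomial (Fin r) K) (Polynomial (MvPolynomial (Fin r) K)))).comp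
        (aeval (X : Fin r → MvPolynomial (Fin r) K)) := by
    apply algHom_ext
    intro i
    simp [ξ]
  have hPξ : ∀ f ∈ P, aeval ξ f = 0 := by
    intro f hf
    have hmem : map (algebraMap k K) f ∈ M :=
      hJM (Ideal.mem_sup_right (Ideal.mem_map_of_mem _ hf))
    rw [← hQM, Ideal.mem_comap] at hmem
    have h1 : π (Polynomial.C (map (algebraMap k K) f)) = 0 := by
      have : Ideal.Quotient.mk Q (algebraMap (MvPolynomial (Fin r) K) (Polynomial (MvPolynomial (Fin r) K) ⧸ J1) (map (algebraMap k K) f)) = 0 :=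
        Ideal.Quotient.eq_zero_iff_mem.mpr hmem
      show algebraMap ((Polynomial (MvPolynomial (Fin r) K) ⧸ J1) ⧸ Q) Ω _ = 0
      exact (congrArg _ this).trans (map_zero _)
    rw [hν]
    have h2 : aeval (X : Fin r → MvPolynomial (Fin r) K) f = map (algebraMap k K) f :=
      substitution_ne_zero.aeval_X_left_apply' f
    rw [AlgHom.comp_apply, h2]
    exact h1
  haveI := hSigma P hP
  letI : Field (MvPolynomial (Fin r) k ⧸ P) := Ideal.Quotient.field P
  haveI : Module.Finite k (MvPolynomial (Fin r) k ⧸ P) := finite_of_finite_type_of_isJacobsonRing k _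
  have hξi : ∀ i, ξ i ∈ Set.range φ := fun i => hrange _ (by
    have := (Algebra.IsIntegral.isIntegral (R := k) (Ideal.Quotient.mkₐ k P (X i))).map
      (Ideal.Quotient.liftₐ P (aeval ξ) hPξ)
    rwa [show Ideal.Quotient.liftₐ P (aeval ξ) hPξ (Ideal.Quotient.mkₐ k P (X i)) = ξ i from
      aeval_X ξ i] at this)
  choose ξ' hξ' using hξi
  obtain ⟨τ', hτ'⟩ := hrange τ ⟨p, minpoly.monic htbi, hτ⟩
  have he : (ξ', τ') ∈ E := by
    rw [Finset.mem_product]
    refine ⟨(Set.Finite.mem_toFinset _).mpr ?_, (Set.Finite.mem_toFinset _).mpr ?_⟩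
    · simp only [Z, Set.mem_iUnion]
      refine ⟨P, hP, fun f hf => φ.toRingHom.injective ?_⟩
      show φ (aeval ξ' f) = φ 0
      rw [comp_aeval_apply, map_zero, funext hξ']
      exact hPξ f hf
    · rw [Polynomial.mem_rootSet]
      refine ⟨(minpoly.monic htbi).ne_zero, φ.toRingHom.injective ?_⟩
      show φ (Polynomial.aeval τ' p) = φ 0
      rw [← Polynomial.aeval_algHom_apply, hτ', map_zero, hτ]
  let Φ : MvPolynomial (Fin r) (AlgebraicClosure k) →ₐ[k] Ω :=
    { eval₂Hom φ.toRingHom gΩ with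
      commutes' := fun a => by
        simp [IsScalarTower.algebraMap_apply k (AlgebraicClosure k) (MvPolynomial (Fin r) (AlgebraicClosure k)),
          MvPolynomial.algebraMap_eq] }
  have hΦC : ∀ a, Φ (C a) = φ a := fun a => eval₂_C _ _ a
  have hΦX : ∀ i, Φ (X i) = gΩ i := fun i => eval₂_X _ _ i
  have hf0 : Φ (φf (ξ', τ')) = 0 := by
    have h2 := hJ1π _ (Ideal.subset_span (Or.inr rfl) : aeval (fun i => Polynomial.C (X i) +
      Polynomial.X ^ (s * (m + 1)) * Polynomial.C (C (g i))) q ∈ J1)
    rw [comp_aeval_apply] at h2 ⊢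
    rw [← h2]
    congr 2
    funext i
    simp only [map_add, map_mul, map_pow, hΦC, hΦX, hξ', hτ']
    rfl
  have hH : Φ H = 0 := by
    rw [map_prod]
    exact Finset.prod_eq_zero he hf0
  obtain ⟨G, hG⟩ := Ideal.mem_span_singleton'.mp (Ideal.mem_comap.mp hh)
  have hΦh : Φ (map (algebraMap k (AlgebraicClosure k)) h) = 0 := by
    have : map (algebraMap k (AlgebraicClosure k)) h = G * H := hG.symm
    rw [this, map_mul, hH, mul_zero]
  apply hg
  apply ιK.toRingHom.injective
  show ιK (aeval g h) = ιK 0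
  rw [map_zero, comp_aeval_apply, funext hιg, ← hΦh]
  have : (aeval gΩ : MvPolynomial (Fin r) k →ₐ[k] Ω) =
      Φ.comp (aeval (X : Fin r → MvPolynomial (Fin r) (AlgebraicClosure k))) := by
    apply algHom_ext
    intro i
    simp [hΦX]
  rw [this, AlgHom.comp_apply]
  congr 1
  exact substitution_ne_zero.aeval_X_left_apply' h

end Groth.Agent.S15088
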