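import Groth.Statements.S1509
import Groth.Agent.FlatMor.PC.Koszul
import Groth.Agent.FlatMor.PC.Instances
import Groth.Agent.KReg44.Weakly

set_option autoImplicit false
universe u
attribute [local instance] HasDerivedCategory.standard
open FlatMor
open Groth.Agent.FlatMor

namespace Groth.Agent.S1509

open AlgebraicGeometry CategoryTheory Limits in
/-- A regular closed immersion (kernel ideal locally generated by a regular sequence) is a perfect
morphism. -/
theorem result {Z X : Scheme.{u}} (i : Z ⟶ X) (hi : Mor2.IsRegularClosedImmersion i) : MoreMor.IsPerfectMor i := by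
  obtain ⟨hci, h⟩ := hi
  rw [PC.perfectMor_eq, PC.localHom_perfect.iff_exists_chart]
  intro z
  obtain ⟨U, hU, hz, rs, hrs, hker⟩ := h z
  refine ⟨i ⁻¹ᵁ U, U, le_rfl, hU.preimage i, hU, hz, ?_⟩
  let := (i.appLE U (i ⁻¹ᵁ U) le_rfl).hom.toAlgebra
  have hs : Function.Surjective (algebraMap Γ(X, U) Γ(Z, i ⁻¹ᵁ U)) := by
    rw [RingHom.algebraMap_toAlgebra, Scheme.Hom.appLE_eq_app]
    exact i.app_surjective U hU
  have hk : RingHom.ker (algebraMap Γ(X, U) Γ(Z, i ⁻¹ᵁ U)) = Ideal.ofList rs := by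
    rw [RingHom.algebraMap_toAlgebra, Scheme.Hom.appLE_eq_app, ← hker]
    exact (Scheme.Hom.ker_apply i ⟨U, hU⟩).symm
  refine PC.perfectHom_of_perfectModule hs ?_
  exact Groth.Agent.DRing.Perfect.perfect_of_iso ((DerivedCategory.singleFunctor (ModuleCat.{u} Γ(X, U)) 0).mapIso
    ((Submodule.quotEquivOfEq _ _ hk.symm).trans
      (LinearMap.quotKerEquivOfSurjective (Algebra.linearMap Γ(X, U) Γ(Z, i ⁻¹ᵁ U)) hs)).toModuleIso)
    (PC.perfectModule_quotient rs
      (Groth.Agent.KReg44.isKoszulRegularSeq_of_isWeaklyRegular rs.length rs rfl hrs.toIsWeaklyRegular))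

end Groth.Agent.S1509
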