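import Groth.Statements.S15098
import Groth.Agent.HodgeIdx81.Proper


set_option autoImplicit false
universe u
open CategoryTheory CategoryTheory.Limits AlgebraicGeometry TopologicalSpace
open Surf

namespace Groth.Agent.S15098

open Groth.Agent.HodgeIdx81 Groth.Agent.ProjTwist

set_option linter.style.haveILetI false

/-- Let k be an algebraically closed field, X a smooth projective surface over k (integral, proper and
smooth, of dimension 2) and D an effective Cartier divisor on X, given by its ideal sheaf I_D, which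
is numerically positive: (D·D) > 0 and (D·Γ) ≥ 0 for every integral curve Γ ⊆ X, that is χ(O_Γ ⊗
I_D) − χ(O_Γ) ≤ 0. Then D is numerically connected: whenever D = D₁ + D₂ with D₁, D₂ non-zero
effective Cartier divisors (I_D = I_{D₁}·I_{D₂} with both ideal sheaves different from O_X), (D₁·D₂)
> 0. Intersection numbers of divisors are computed on their ideal sheaves: (D₁·D₂) = χ(O_X) −
χ(I_{D₁}) − χ(I_{D₂}) + χ(I_{D₁} ⊗ I_{D₂}). (The published lemma sits in a positive-characteristic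
setting; its argument does not use the characteristic, so none is assumed here.) -/
theorem result (k : Type u) [Field k] [IsAlgClosed k]
    (X : Scheme.{u}) [X.Over (Spec (CommRingCat.of k))] [IsProper (X ↘ (Spec (CommRingCat.of k)))]
    [Smooth (X ↘ (Spec (CommRingCat.of k)))] [IsIntegral X] (hdim : topologicalKrullDim X = 2)
    (D : X.IdealSheafData) (hD : FGA.IsEffCartier D)
    (hpos : 0 < FGA.intNum k X 2 ![(ClSub.idealMod D), (ClSub.idealMod D)] (Coh.structureModule X))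
    (hnef : ∀ Γ : X.IdealSheafData, IsIntegral Γ.subscheme → topologicalKrullDim (Γ.support : Set X) = 1 →
      Curv2.euler k X (CohB1.tensorMod (ClSub.quotMod Γ) (ClSub.idealMod D)) - Curv2.euler k X (ClSub.quotMod Γ) ≤ 0)
    (D₁ D₂ : X.IdealSheafData) (hD₁ : FGA.IsEffCartier D₁) (hD₂ : FGA.IsEffCartier D₂)
    (hne₁ : D₁ ≠ ⊤) (hne₂ : D₂ ≠ ⊤) (hsum : D = D₁ * D₂) :
    0 < FGA.intNum k X 2 ![(ClSub.idealMod D₁), (ClSub.idealMod D₂)] (Coh.structureModule X) := by
  have hd : topologicalKrullDim X = ((2 : ℕ) : WithBot ℕ∞) := by rw [hdim]; norm_num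
  have hreg : ∀ x : X, IsRegularLocalRing (X.presheaf.stalk x) :=
    CurveDVR.isRegularLocalRing_stalk (X ↘ (Spec (CommRingCat.of k)))
  obtain ⟨A, hA⟩ := exists_ample k hreg hd
  have hI₁ := IdealSh.IdealMod.isInvertible_of_isEffCartierIdeal D₁ hD₁
  have hI₂ := IdealSh.IdealMod.isInvertible_of_isEffCartierIdeal D₂ hD₂
  have hI := IdealSh.IdealMod.isInvertible_of_isEffCartierIdeal D hD
  have h1A := pr_ample_ideal_neg k hd hreg hA hD₁ hne₁
  have h2A := pr_ample_ideal_neg k hd hreg hA hD₂ hne₂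
  have hnef' : ∀ Γ : X.IdealSheafData, IsIntegral Γ.subscheme →
      topologicalKrullDim ↥(Γ.support : Set X) = ((1 : ℕ) : WithBot ℕ∞) →
      0 ≤ pr k (ClSub.idealMod D) (ClSub.idealMod Γ) := fun Γ hΓ hΓ1 => by
    haveI := hΓ
    have h := hnef Γ hΓ (hΓ1.trans rfl)
    change NumTriv.deg1 k (ClSub.quotMod Γ) (ClSub.idealMod D) ≤ 0 at h
    rw [deg1_quotMod k (isInvertible_of_curve k hreg hd Γ hΓ1) hI] at h
    omega
  have hx₁ := pr_ideal_nonneg k hd hreg hI hnef' hD₁
  have hx₂ := pr_ideal_nonneg k hd hreg hI hnef' hD₂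
  haveI := EulerChar.isNoetherian k (X := X)
  obtain ⟨e⟩ := VertInter.nonempty_idealMod_mul hD₁ hD₂
  subst hsum
  rw [intNum_eq_pr k hd hI hI] at hpos
  rw [intNum_eq_pr k hd hI₁ hI₂]
  rw [← pr_congr k e e, pr_add_left k hd.le hI₁ hI₂ (AmpleLib.isInvertible_tensorMod hI₁ hI₂),
    pr_comm k _ (CohB1.tensorMod _ _), pr_add_left k hd.le hI₁ hI₂ hI₁,
    pr_comm k (ClSub.idealMod D₂) (CohB1.tensorMod _ _), pr_add_left k hd.le hI₁ hI₂ hI₂,
    pr_comm k (ClSub.idealMod D₂) (ClSub.idealMod D₁)] at hpos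
  rw [← pr_congr k e (Iso.refl _), pr_add_left k hd.le hI₁ hI₂ hI₁,
    pr_comm k (ClSub.idealMod D₂) (ClSub.idealMod D₁)] at hx₁
  rw [← pr_congr k e (Iso.refl _), pr_add_left k hd.le hI₁ hI₂ hI₂] at hx₂
  by_contra hle
  push Not at hle
  obtain ⟨P, hP, hPC⟩ := exists_comb k hd.le hI₁ hI₂ (pr k A (ClSub.idealMod D₂)) (-pr k A (ClSub.idealMod D₁))
  have h := pr_self_nonpos k hd hA hP (by rw [hPC A hA.1, pr_comm k _ A, pr_comm k _ A]; ring)
  rw [hPC P hP, pr_comm k _ P, pr_comm k _ P, hPC _ hI₁, hPC _ hI₂,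
    pr_comm k (ClSub.idealMod D₂) (ClSub.idealMod D₁)] at h
  set a := pr k (ClSub.idealMod D₁) (ClSub.idealMod D₁)
  set b := pr k (ClSub.idealMod D₂) (ClSub.idealMod D₂)
  set x := pr k (ClSub.idealMod D₁) (ClSub.idealMod D₂)
  set u := pr k A (ClSub.idealMod D₁)
  set v := pr k A (ClSub.idealMod D₂)
  have ha : 0 ≤ a := by linarith
  have hb : 0 ≤ b := by linarith
  have hab : 0 < a + b := by linarith
  nlinarith [mul_nonneg (mul_self_nonneg v) ha, mul_nonneg (mul_self_nonneg u) hb,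
    mul_nonneg (mul_nonneg_of_nonpos_of_nonpos h1A.le h2A.le) (neg_nonneg.2 hle),
    mul_le_mul_of_nonneg_right (Int.add_one_le_iff.2 (mul_pos_of_neg_of_neg h1A h1A)) hb,
    mul_le_mul_of_nonneg_right (Int.add_one_le_iff.2 (mul_pos_of_neg_of_neg h2A h2A)) ha]

end Groth.Agent.S15098
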