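import Groth.Statements.S15099
import Groth.Agent.HodgeIdx81.Sub


set_option autoImplicit false
universe u
open CategoryTheory CategoryTheory.Limits AlgebraicGeometry TopologicalSpace
open Surf

namespace Groth.Agent.S15099

open Groth.Agent.HodgeIdx81 Groth.Agent.ProjTwist

set_option linter.style.haveILetI false

/-- Let k be an algebraically closed field, X a smooth projective surface over k (integral, proper and
smooth, of dimension 2) and D a non-zero effective Cartier divisor on X (ideal sheaf I_D ≠ O_X)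
which is numerically connected: whenever D = D₁ + D₂ with D₁, D₂ non-zero effective Cartier divisors
(I_D = I_{D₁}·I_{D₂}, both different from O_X), (D₁·D₂) = χ(O_X) − χ(I_{D₁}) − χ(I_{D₂}) + χ(I_{D₁}
⊗ I_{D₂}) > 0. Then H⁰(D, O_D) = k, i.e. it is one-dimensional over k (computed on X through the
direct image of O_D). (The published lemma sits in a positive-characteristic setting; the printed
argument does not use the characteristic, so none is assumed here.) -/
theorem result (k : Type u) [Field k] [IsAlgClosed k]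
    (X : Scheme.{u}) [X.Over (Spec (CommRingCat.of k))] [IsProper (X ↘ (Spec (CommRingCat.of k)))]
    [Smooth (X ↘ (Spec (CommRingCat.of k)))] [IsIntegral X] (hdim : topologicalKrullDim X = 2)
    (D : X.IdealSheafData) (hD : FGA.IsEffCartier D) (hD0 : D ≠ ⊤)
    (hnc : ∀ D₁ D₂ : X.IdealSheafData, FGA.IsEffCartier D₁ → FGA.IsEffCartier D₂ → D₁ ≠ ⊤ → D₂ ≠ ⊤ →
      D = D₁ * D₂ → 0 < FGA.intNum k X 2 ![(ClSub.idealMod D₁), (ClSub.idealMod D₂)] (Coh.structureModule X)) :
    Module.finrank k (Coh.HH X (ClSub.quotMod D) 0) = 1 := by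
  have hd : topologicalKrullDim X = ((2 : ℕ) : WithBot ℕ∞) := by rw [hdim]; norm_num
  have hreg : ∀ x : X, IsRegularLocalRing (X.presheaf.stalk x) :=
    CurveDVR.isRegularLocalRing_stalk (X ↘ (Spec (CommRingCat.of k)))
  obtain ⟨A, hA⟩ := exists_ample k hreg hd
  haveI := EulerChar.isNoetherian k (X := X)
  have hO := PicLoc.isInvertible_structureModule X
  have hle : Module.finrank k (Coh.HH X (CohB1.tensorMod (Coh.structureModule X) (ClSub.quotMod D)) 0) ≤ 1 :=
    Sub.finrank_le_one k hd hreg hD hD0 (fun Z₁ Z₂ h₁ h₂ n₁ n₂ e => by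
      rw [← intNum_eq_pr k hd (IdealSh.IdealMod.isInvertible_of_isEffCartierIdeal Z₁ h₁)
        (IdealSh.IdealMod.isInvertible_of_isEffCartierIdeal Z₂ h₂)]
      exact hnc Z₁ Z₂ h₁ h₂ n₁ n₂ e) hO (fun C _ _ _ => (NumTriv.deg1_one k _).le)
  rw [Pn.finrank_hh_iso (k := k) (oneTens _) 0] at hle
  have hI := IdealSh.IdealMod.isInvertible_of_isEffCartierIdeal D hD
  have hI0 : Subsingleton (Coh.HH X (ClSub.idealMod D) 0) := not_nontrivial_iff_subsingleton.1 fun hn => by
    obtain ⟨c, hc⟩ := @exists_ne _ hn 0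
    have h := pr_nonneg_of_section k hd.le hI hA ((ShStabLib.BC.secEquiv k _).symm c)
      fun h => hc ((LinearEquiv.map_eq_zero_iff _).1 h)
    rw [pr_comm] at h
    exact (pr_ample_ideal_neg k hd hreg hA hD hD0).not_ge h
  have hge := Sub.finrank_le_of_shortExact k (EulerChar.shortExact_ideal D)
    (EulerChar.isCoh_quotMod k D) hI0
  have h1 := VBLib.finrank_H0_structure_eq_one (k := k) (X := X) VBLib.bijective_toGlobal_of_isAlgClosed
  exact le_antisymm hle (h1.symm.trans_le hge)

end Groth.Agent.S15099
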