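import Groth.Statements.S1510
import Groth.Agent.FlatMor.PC.Instances
import Groth.Agent.FlatMor.PC.Cancel

set_option autoImplicit false
universe u
attribute [local instance] HasDerivedCategory.standard
open FlatMor
open Groth.Agent.FlatMor

namespace Groth.Agent.S1510

open AlgebraicGeometry CategoryTheory Limits in
/-- Let f : X → Y and g : Y → S with g smooth and f ≫ g perfect. Then f is perfect. -/
theorem result {X Y S : Scheme.{u}} (f : X ⟶ Y) (g : Y ⟶ S) [Smooth g] (h : MoreMor.IsPerfectMor (f ≫ g)) :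
    MoreMor.IsPerfectMor f := by
  rw [PC.perfectMor_eq, PC.localHom_perfect.iff_exists_chart]
  intro x
  obtain ⟨V, hV, hxV, -⟩ := exists_isAffineOpen_mem_and_subset (show g (f x) ∈ (⊤ : S.Opens) from trivial)
  obtain ⟨W, hW, hxW, eW⟩ := exists_isAffineOpen_mem_and_subset (show f x ∈ g ⁻¹ᵁ V from hxV)
  obtain ⟨U, hU, hxU, eU⟩ := exists_isAffineOpen_mem_and_subset (show x ∈ f ⁻¹ᵁ W from hxW)
  have eV : U ≤ (f ≫ g) ⁻¹ᵁ V := fun y hy => eW (eU hy)
  refine ⟨U, W, eU, hU, hW, hxU, ?_⟩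
  let := (f.appLE W U eU).hom.toAlgebra
  let := (g.appLE V W eW).hom.toAlgebra
  let := ((f ≫ g).appLE V U eV).hom.toAlgebra
  have : IsScalarTower Γ(S, V) Γ(Y, W) Γ(X, U) := IsScalarTower.of_algebraMap_eq fun r =>
    (congr($(Scheme.Hom.appLE_comp_appLE f g V W U eW eU).hom r)).symm
  have : Algebra.Smooth Γ(S, V) Γ(Y, W) :=
    HasRingHomProperty.appLE (P := @Smooth) g inferInstance ⟨V, hV⟩ ⟨W, hW⟩ eW
  exact PC.perfectHom_of_comp_smooth (A := Γ(S, V)) (h U V hU hV eV)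

end Groth.Agent.S1510
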