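import Groth.Statements.S15100
import Mathlib
-- import your own Groth.Agent.* helpers here

set_option autoImplicit false
universe u
open TensorProduct
open CAlg

namespace Groth.Agent.S15100

/-- Let V be a discrete valuation ring with uniformizer u and V → R → A commutative V-algebras with A an
R-algebra compatibly; assume A is a Noetherian local domain of Krull dimension 3 with u in its
maximal ideal, that Ω_{A/V} is a free A-module of rank 2 and that A ⊗_R Ω_{R/V} is a free A-module
of rank 1. Suppose that on the special fibre Ω_{A/R} is locally free exactly away from the closed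
point: for every prime P of A containing u other than the maximal ideal the localization (Ω_{A/R})_P
is free over A_P, while Ω_{A/R} is not free over A. Then Ω_{A/R} is not locally free on the generic
fibre: there is a prime Q of A not containing u with (Ω_{A/R})_Q not free over A_Q. (In the
published statement R is a regular local ring of dimension 2 and A a local ring of dimension 3, both
smooth over V, which yields the two freeness hypotheses used here, and the hypothesis is phrased as
local freeness of Ω of the special fibre of A over that of R away from the closed point.) -/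
theorem result
    (V R A : Type u) [CommRing V] [IsDomain V] [IsDiscreteValuationRing V] [CommRing R] [CommRing A]
    [IsDomain A] [IsNoetherianRing A] [IsLocalRing A]
    [Algebra V R] [Algebra V A] [Algebra R A] [IsScalarTower V R A]
    (u : V) (hu : Irreducible u) (huA : algebraMap V A u ∈ IsLocalRing.maximalIdeal A)
    (hdimA : ringKrullDim A = 3)
    (hΩA : Module.Free A (Ω[A⁄V])) (hrkA : Module.finrank A (Ω[A⁄V]) = 2)
    (hΩR : Module.Free A (A ⊗[R] Ω[R⁄V])) (hrkR : Module.finrank A (A ⊗[R] Ω[R⁄V]) = 1)
    (h0 : ∀ P : PrimeSpectrum A, algebraMap V A u ∈ P.asIdeal → P.asIdeal ≠ IsLocalRing.maximalIdeal A →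
      Module.Free (Localization.AtPrime P.asIdeal) (LocalizedModule P.asIdeal.primeCompl (Ω[A⁄R])))
    (hm : ¬ Module.Free A (Ω[A⁄R])) :
    ∃ Q : PrimeSpectrum A, algebraMap V A u ∉ Q.asIdeal ∧
      ¬ Module.Free (Localization.AtPrime Q.asIdeal) (LocalizedModule Q.asIdeal.primeCompl (Ω[A⁄R])) := by
  classical
  haveI : Module.Finite A (Ω[A⁄V]) := Module.finite_of_finrank_pos (by omega)
  haveI : Module.Finite A (A ⊗[R] Ω[R⁄V]) := Module.finite_of_finrank_pos (by omega)
  let e₂ : Ω[A⁄V] ≃ₗ[A] (Fin 2 → A) := (Module.finBasisOfFinrankEq A _ hrkA).equivFun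
  let b₁ := Module.finBasisOfFinrankEq A (A ⊗[R] Ω[R⁄V]) hrkR
  let w : Fin 2 → A := e₂ (KaehlerDifferential.mapBaseChange V R A (b₁ 0))
  let π : (Fin 2 → A) →ₗ[A] Ω[A⁄R] := (KaehlerDifferential.map V R A A) ∘ₗ e₂.symm.toLinearMap
  have hπ : Function.Surjective π :=
    (KaehlerDifferential.map_surjective V R A).comp e₂.symm.surjective
  have hker : LinearMap.ker π = Submodule.span A {w} := by
    ext x
    rw [LinearMap.mem_ker, Submodule.mem_span_singleton]
    constructor
    · intro hx
      obtain ⟨z, hz⟩ := (KaehlerDifferential.exact_mapBaseChange_map V R A (e₂.symm x)).mp hx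
      refine ⟨b₁.repr z 0, ?_⟩
      rw [← b₁.sum_repr z, Fin.sum_univ_one, map_smul] at hz
      simp only [w]
      rw [← map_smul, hz, LinearEquiv.apply_symm_apply]
    · rintro ⟨c, rfl⟩
      show KaehlerDifferential.map V R A A (e₂.symm (c • w)) = 0
      simp only [w, map_smul, LinearEquiv.symm_apply_apply]
      rw [(KaehlerDifferential.exact_mapBaseChange_map V R A).apply_apply_eq_zero, smul_zero]
  -- `w` is not zero
  have hw0 : w ≠ 0 := by
    intro h
    apply hm
    rw [h, Submodule.span_zero_singleton] at hker
    exact Module.Free.of_equiv (LinearEquiv.ofBijective π ⟨LinearMap.ker_eq_bot.mp hker, hπ⟩)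
  -- the entries of `w` lie in the maximal ideal
  have hwm : Ideal.span (Set.range w) ≤ IsLocalRing.maximalIdeal A := by
    refine IsLocalRing.le_maximalIdeal (fun h => ?_)
    apply hm
    obtain ⟨c, hc⟩ := Ideal.mem_span_range_iff_exists_fun.mp ((Ideal.eq_top_iff_one _).mp h)
    let r : (Fin 2 → A) →ₗ[A] (Fin 2 → A) :=
      LinearMap.id - (Fintype.linearCombination A c).smulRight w
    let s : Ω[A⁄R] →ₗ[A] (Fin 2 → A) := (LinearMap.ker π).liftQ r (by
      rw [hker, Submodule.span_le, Set.singleton_subset_iff]
      show w - (∑ i, w i • c i) • w = 0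
      simp only [smul_eq_mul]
      rw [show (∑ i, w i * c i) = 1 by simpa [mul_comm] using hc]
      simp) ∘ₗ (π.quotKerEquivOfSurjective hπ).symm.toLinearMap
    have hs : π ∘ₗ s = LinearMap.id := by
      refine LinearMap.ext fun z => ?_
      obtain ⟨x, rfl⟩ := hπ z
      have hx : (π.quotKerEquivOfSurjective hπ).symm (π x) = Submodule.Quotient.mk x := by
        rw [LinearEquiv.symm_apply_eq]
        rfl
      show π (s (π x)) = π x
      simp only [s, LinearMap.comp_apply, LinearEquiv.coe_coe, hx, Submodule.liftQ_apply]
      simp only [r, LinearMap.sub_apply, LinearMap.id_apply, LinearMap.smulRight_apply, map_sub, map_smul]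
      rw [show π w = 0 from LinearMap.mem_ker.mp (hker ▸ Submodule.mem_span_singleton_self w), smul_zero, sub_zero]
    haveI : Module.Projective A (Ω[A⁄R]) := Module.Projective.of_split s π hs
    haveI : Module.Finite A (Ω[A⁄R]) := Module.Finite.of_surjective π hπ
    exact Module.free_of_flat_of_isLocalRing
  -- a prime containing the entries, different from the maximal ideal
  obtain ⟨P, hP⟩ : (Ideal.span (Set.range w)).minimalPrimes.Nonempty :=
    Set.nonempty_coe_sort.mp (Ideal.nonempty_minimalPrimes (fun h => (IsLocalRing.maximalIdeal.isMaximal A).ne_top (top_le_iff.mp (h ▸ hwm))))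
  haveI hPp : P.IsPrime := hP.1.1
  have hPh : P.height ≤ 2 := by
    refine le_trans (Ideal.height_le_spanRank_toENat_of_mem_minimal_primes _ _ hP) ?_
    have : Submodule.spanRank (Ideal.span (Set.range w)) ≤ (2 : Cardinal) := by
      refine (Submodule.spanRank_span_le_card _).trans ?_
      simpa using Cardinal.mk_range_le_lift (f := w)
    calc Cardinal.toENat (Submodule.spanRank (Ideal.span (Set.range w))) ≤ Cardinal.toENat (2 : Cardinal) :=
          OrderHomClass.mono _ this
      _ = 2 := map_ofNat _ 2
  have hPm : P ≠ IsLocalRing.maximalIdeal A := by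
    intro h
    have h3 := IsLocalRing.maximalIdeal_height_eq_ringKrullDim (R := A)
    rw [← h, hdimA] at h3
    have h3' : P.height = 3 := (WithBot.coe_inj (b := (3 : ℕ∞))).mp h3
    rw [h3'] at hPh
    norm_num at hPh
  -- the localization at `P` is not free
  have hfree : ¬ Module.Free (Localization.AtPrime P) (LocalizedModule P.primeCompl (Ω[A⁄R])) := by
    intro hF
    let πP := LocalizedModule.map P.primeCompl π
    have hπP : Function.Surjective πP := LocalizedModule.map_surjective _ π hπ
    obtain ⟨s, hs⟩ := Module.projective_lifting_property πP LinearMap.id hπP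
    let wP : LocalizedModule P.primeCompl (Fin 2 → A) := LocalizedModule.mk w 1
    have hkerP : ∀ y, πP y = 0 → ∃ c : Localization.AtPrime P, y = c • wP := by
      intro y
      induction y using LocalizedModule.induction_on with
      | h m t =>
        intro hy
        rw [LocalizedModule.map_mk, ← LocalizedModule.zero_mk (1 : P.primeCompl), LocalizedModule.mk_eq] at hy
        obtain ⟨⟨v, hv⟩, hv'⟩ := hy
        simp only [one_smul, smul_zero, Submonoid.mk_smul] at hv'
        rw [← map_smul, ← LinearMap.mem_ker, hker, Submodule.mem_span_singleton] at hv'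
        obtain ⟨c, hc⟩ := hv'
        refine ⟨Localization.mk c (⟨v, hv⟩ * t), ?_⟩
        rw [LocalizedModule.mk_smul_mk, mul_one, LocalizedModule.mk_eq]
        refine ⟨1, ?_⟩
        rw [one_smul, one_smul, hc]
        simp only [Submonoid.smul_def, Submonoid.coe_mul, smul_smul, mul_comm]
    have hdecomp : ∀ i, ∃ c : Localization.AtPrime P,
        LocalizedModule.mk (Pi.single i 1 : Fin 2 → A) 1 - s (πP (LocalizedModule.mk (Pi.single i 1 : Fin 2 → A) 1)) = c • wP := by
      intro i
      apply hkerP
      rw [map_sub, sub_eq_zero]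
      exact (LinearMap.congr_fun hs _).symm
    choose c hc using hdecomp
    have hw : wP = ∑ i, algebraMap A (Localization.AtPrime P) (w i) • (LocalizedModule.mk (Pi.single i 1 : Fin 2 → A) 1) := by
      simp only [← Localization.mk_one_eq_algebraMap, LocalizedModule.mk_smul_mk, mul_one]
      simp only [← LocalizedModule.mkLinearMap_apply, wP, ← map_sum]
      congr 1
      exact pi_eq_sum_univ' w
    have hπw : πP wP = 0 := by
      show LocalizedModule.map P.primeCompl π (LocalizedModule.mk w 1) = 0
      rw [LocalizedModule.map_mk, show π w = 0 from LinearMap.mem_ker.mp (hker ▸ Submodule.mem_span_singleton_self w)]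
      simp
    have ht : (∑ i, algebraMap A (Localization.AtPrime P) (w i) * c i) • wP = wP := by
      rw [Finset.sum_smul]
      simp only [← smul_smul, ← hc, smul_sub, Finset.sum_sub_distrib]
      rw [← hw]
      simp only [← map_smul, ← map_sum]
      rw [← hw, hπw, map_zero, sub_zero]
    have hu : IsUnit (1 - ∑ i, algebraMap A (Localization.AtPrime P) (w i) * c i) := by
      refine IsLocalRing.isUnit_one_sub_self_of_mem_nonunits _ ?_
      rw [← IsLocalRing.mem_maximalIdeal]
      refine Ideal.sum_mem _ (fun i _ => Ideal.mul_mem_right _ _ ?_)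
      rw [← Localization.AtPrime.map_eq_maximalIdeal]
      exact Ideal.mem_map_of_mem _ (hP.1.2 (Ideal.subset_span ⟨i, rfl⟩))
    have hwP : wP = 0 := by
      have h1 : (1 - ∑ i, algebraMap A (Localization.AtPrime P) (w i) * c i) • wP = 0 := by
        refine (sub_smul (1 : Localization P.primeCompl) (∑ i, algebraMap A (Localization.AtPrime P) (w i) * c i) wP).trans ?_
        rw [one_smul]
        exact sub_eq_zero.mpr ht.symm
      exact hu.smul_eq_zero.mp h1
    apply hw0
    simp only [wP] at hwP
    rw [← LocalizedModule.zero_mk (1 : P.primeCompl), LocalizedModule.mk_eq] at hwP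
    obtain ⟨⟨v, hv⟩, hv'⟩ := hwP
    simp only [one_smul, smul_zero, Submonoid.mk_smul] at hv'
    exact (smul_eq_zero.mp hv').resolve_left (fun h => hv (h ▸ P.zero_mem))
  refine ⟨⟨P, hPp⟩, fun hu' => hfree (h0 ⟨P, hPp⟩ hu' hPm), hfree⟩

end Groth.Agent.S15100
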