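import Groth.Statements.S3253
import Groth.Agent.VertInter.VertForm
-- import your own Groth.Agent.* helpers here

set_option autoImplicit false
universe u
open AlgebraicGeometry CategoryTheory CategoryTheory.Limits
open ArSurf

namespace Groth.Agent.S3253

variable {R : Type u} [CommRing R] [IsDomain R] [IsDiscreteValuationRing R]
  {X : Over (Spec (CommRingCat.of R))}

theorem ker_eq_of_range_eq [IsLocallyNoetherian X.left] {Γ Δ : ArSurf.VertComp R X}
    (h : Set.range Γ.ι.base = Set.range Δ.ι.base) : Γ.ι.ker = Δ.ι.ker := by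
  have hgen : Γ.ι.base (genericPoint Γ.curve.left) = Δ.ι.base (genericPoint Δ.curve.left) := by
    rw [S3313.range_eq_closure, S3313.range_eq_closure] at h
    exact (Inseparable.eq (inseparable_iff_closure_eq.mpr h))
  refine IdealSh.Comap.ext_of_forall_exists _ _ fun x => IdealSh.exists_affine_ideal_eq _ _ x ?_
  by_cases hx : Γ.ι.base (genericPoint Γ.curve.left) ⤳ x
  · have hx' : Δ.ι.base (genericPoint Δ.curve.left) ⤳ x := hgen ▸ hx
    rw [S3313.stalkIdeal_ker Γ.ι hx, S3313.stalkIdeal_ker Δ.ι hx']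
    congr 1
  · rw [S3313.stalkIdeal_ker_eq_top Γ.ι hx, S3313.stalkIdeal_ker_eq_top Δ.ι (hgen ▸ hx)]

theorem inter_congr [IsProper X.hom] {Γ Δ : ArSurf.VertComp R X} (h : Γ.ι.ker = Δ.ι.ker)
    {L : X.left.Modules} (hL : PicF.IsInvertible L) :
    ArSurf.inter R X L Γ = ArSurf.inter R X L Δ := by
  have hO := PicLoc.isInvertible_structureModule X.left
  have h1 := (VertInter.finLen_restrict Γ hL).2
  have h2 := (VertInter.finLen_restrict Δ hL).2
  have h3 := (VertInter.finLen_restrict Γ hO).2
  have h4 := (VertInter.finLen_restrict Δ hO).2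
  rw [h] at h1 h3
  rw [VertInter.inter_structure Γ] at h3
  rw [VertInter.inter_structure Δ] at h4
  linarith

theorem quad_nonpos {k : ℕ} (A : Fin k → Fin k → ℚ) (m b : Fin k → ℚ) (hm : ∀ i, 0 < m i)
    (hsymm : ∀ i j, A i j = A j i) (hoff : ∀ i j, i ≠ j → 0 ≤ A i j) (hrow : ∀ i, ∑ j, m j * A i j ≤ 0) :
    ∑ i, ∑ j, b i * b j * A i j ≤ 0 := by
  have h1 : ∀ i j, 2 * (b i * b j * A i j) ≤
      b i ^ 2 / m i * (m j * A i j) + b j ^ 2 / m j * (m i * A j i) := by
    intro i j
    by_cases hij : i = j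
    · subst hij
      have h0 := (hm i).ne'
      refine le_of_eq ?_
      field_simp
      ring
    · have hi := hm i
      have hj := hm j
      have key : b i ^ 2 / m i * (m j * A i j) + b j ^ 2 / m j * (m i * A j i) - 2 * (b i * b j * A i j) =
          A i j * (b i * m j - b j * m i) ^ 2 / (m i * m j) := by
        rw [hsymm j i]
        field_simp
        ring
      have : 0 ≤ A i j * (b i * m j - b j * m i) ^ 2 / (m i * m j) :=
        div_nonneg (mul_nonneg (hoff i j hij) (sq_nonneg _)) (mul_pos hi hj).le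
      linarith
  have h2 : 2 * ∑ i, ∑ j, b i * b j * A i j ≤
      (∑ i, ∑ j, b i ^ 2 / m i * (m j * A i j)) + ∑ i, ∑ j, b j ^ 2 / m j * (m i * A j i) := by
    simp only [Finset.mul_sum, ← Finset.sum_add_distrib]
    exact Finset.sum_le_sum fun i _ => Finset.sum_le_sum fun j _ => h1 i j
  rw [Finset.sum_comm (f := fun i j => b j ^ 2 / m j * (m i * A j i))] at h2
  have h3 : ∑ i, ∑ j, b i ^ 2 / m i * (m j * A i j) ≤ 0 := Finset.sum_nonpos fun i _ => by
    rw [← Finset.mul_sum]
    exact mul_nonpos_of_nonneg_of_nonpos (div_nonneg (sq_nonneg _) (hm i).le) (hrow i)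
  linarith

/-- Let R be a discrete valuation ring, X an arithmetic surface over Spec R (regular, integral,
2-dimensional, flat and projective), Γ_1, …, Γ_r vertical prime divisors of X over the closed point
(integral curves over the residue field, closed in X) and L_1, …, L_r invertible O_X-modules with
L_j ⊗ I(Γ_j) ≅ O_X (L_j = O_X(Γ_j)). Then for all integers a_1, …, a_r, Σ_{i,j} a_i a_j (Γ_i · Γ_j)
≤ 0, where Γ_i · Γ_j = deg over the residue field of L_j restricted to Γ_i. -/
theorem result (R : Type u) [CommRing R] [IsDomain R] [IsDiscreteValuationRing R]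
    (X : Over (Spec (CommRingCat.of R))) (hX : ArSurf.IsArithSurface R X)
    {r : ℕ} (Γ : Fin r → ArSurf.VertComp R X) (L : Fin r → X.left.Modules)
    (hL : ∀ j, ClSub.IsInverseOf (L j) (ClSub.idealMod ((Γ j).ι.ker))) (a : Fin r → ℤ) :
    (Finset.univ : Finset (Fin r × Fin r)).sum
      (fun p => a p.1 * a p.2 * ArSurf.inter R X (L p.2) (Γ p.1)) ≤ 0 := by
  classical
  haveI : IsProper X.hom := VertInter.isProper_of_arith hX
  haveI : IsLocallyNoetherian X.left := LocallyOfFiniteType.isLocallyNoetherian X.hom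
  let ρ : Fin r → Set X.left := fun i => Set.range ((Γ i).ι.base : (Γ i).curve.left → X.left)
  let S : Finset (Set X.left) := Finset.univ.image ρ
  let e := S.equivFin
  have hrep : ∀ c : Fin S.card, ∃ i, ρ i = (e.symm c).1 := fun c => by
    obtain ⟨i, -, hi⟩ := Finset.mem_image.mp (e.symm c).2
    exact ⟨i, hi⟩
  choose rep hrep using hrep
  have hc := fun i => VertInter.isEffCartier_vert hX (Γ i)
  have hLi := fun i => VertInter.isInvertible_inverse (hc i) (hL i)
  obtain ⟨m, hm1, hrow⟩ := VertInter.exists_weights hX (fun c => Γ (rep c))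
    (fun c d h => e.symm.injective (Subtype.ext ((hrep c).symm.trans (h.trans (hrep d)))))
    (fun c => L (rep c)) fun c => hL (rep c)
  have hcls : ∀ i, ∃ c, ρ (rep c) = ρ i := fun i =>
    ⟨e ⟨ρ i, Finset.mem_image_of_mem ρ (Finset.mem_univ i)⟩, by rw [hrep, Equiv.symm_apply_apply]⟩
  choose cl hcl using hcls
  let A : Fin S.card → Fin S.card → ℚ := fun c d => (ArSurf.inter R X (L (rep d)) (Γ (rep c)) : ℚ)
  have hne : ∀ c d, c ≠ d → ρ (rep c) ≠ ρ (rep d) := fun c d hcd h =>
    hcd (e.symm.injective (Subtype.ext ((hrep c).symm.trans (h.trans (hrep d)))))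
  have hsupp : ∀ c d, c ≠ d → Models.genPtOf R X (Γ (rep c)) ∉ Set.range (Γ (rep d)).ι.base :=
    fun c d hcd => VertInter.genPt_not_mem_of_ne hX _ _ (hne c d hcd)
  have hA : ∀ i j, (ArSurf.inter R X (L j) (Γ i) : ℚ) = A (cl i) (cl j) := fun i j => by
    have h1 : ArSurf.inter R X (L j) (Γ i) = ArSurf.inter R X (L j) (Γ (rep (cl i))) :=
      inter_congr (ker_eq_of_range_eq (hcl i).symm) (hLi j)
    have h2 : ArSurf.inter R X (L j) (Γ (rep (cl i))) = ArSurf.inter R X (L (rep (cl j))) (Γ (rep (cl i))) := by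
      have a1 := VertInter.inter_inverse (Γ (rep (cl i))) (hc j) (hL j)
      have a2 := VertInter.inter_inverse (Γ (rep (cl i))) (hc (rep (cl j))) (hL (rep (cl j)))
      rw [ker_eq_of_range_eq (hcl j)] at a2
      linarith
    show _ = ((_ : ℤ) : ℚ)
    rw [h1, h2]
  have hq := quad_nonpos A (fun c => (m c : ℚ))
    (fun c => ∑ i ∈ Finset.univ.filter (fun i => cl i = c), (a i : ℚ))
    (fun c => by exact_mod_cast hm1 c)
    (fun c d => by
      by_cases hcd : c = d
      · rw [hcd]
      · exact congrArg (fun z : ℤ => (z : ℚ)) (VertInter.inter_symm (Γ (rep c)) (Γ (rep d)) (hc _) (hc _)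
          (hsupp c d hcd) (hsupp d c (Ne.symm hcd)) (hL _) (hL _)))
    (fun c d hcd => Int.cast_nonneg (VertInter.inter_nonneg (Γ (rep c)) (hc (rep d))
      (by rw [Scheme.Hom.support_ker, (Γ (rep d)).ι.isClosedEmbedding.isClosed_range.closure_eq]
          exact hsupp c d hcd) (hL _)).1)
    (fun c => by simp only [A]; exact_mod_cast hrow c)
  have hgoal : (((Finset.univ : Finset (Fin r × Fin r)).sum
      (fun p => a p.1 * a p.2 * ArSurf.inter R X (L p.2) (Γ p.1)) : ℤ) : ℚ) ≤ 0 := by
    refine le_trans (le_of_eq ?_) hq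
    push_cast
    rw [Fintype.sum_prod_type]
    simp only [hA, Finset.sum_mul, Finset.mul_sum]
    rw [← Finset.sum_fiberwise Finset.univ cl fun i => ∑ j, (a i : ℚ) * (a j : ℚ) * A (cl i) (cl j)]
    refine Finset.sum_congr rfl fun c _ => ?_
    rw [Finset.sum_comm, ← Finset.sum_fiberwise Finset.univ cl]
    refine Finset.sum_congr rfl fun d _ => Finset.sum_congr rfl fun j hj => Finset.sum_congr rfl fun i hi => ?_
    rw [(Finset.mem_filter.mp hi).2, (Finset.mem_filter.mp hj).2]
  exact_mod_cast hgoal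

end Groth.Agent.S3253
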