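import Groth.Statements.S3313
import Groth.Agent.CDivLib.Generisation
import Groth.Agent.IdealSh.Stalk
import Groth.Agent.IdealSh.EffCartier
import Groth.Agent.IdealSh.Regular
import Groth.Agent.RegLoc.UFD
import Mathlib.RingTheory.OrderOfVanishing.Basic
import Mathlib.RingTheory.Coprime.Lemmas

set_option autoImplicit false
universe u
open CategoryTheory CategoryTheory.Limits AlgebraicGeometry
open Models

namespace Groth.Agent.S3313

open IntMult (stalkIdeal)
open Groth.Agent.IdealSh Groth.Agent.IdealSh.Comap Groth.Agent.CDivLib TopologicalSpace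

/-- An element of a factorial domain is determined by the exact powers of its prime divisors. -/
theorem span_eq_prod {A : Type u} [CommRing A] [IsDomain A] [UniqueFactorizationMonoid A] {t : A} (ht : t ≠ 0)
    {ι : Type*} (s : Finset ι) (a : ι → A) (k : ι → ℕ) (ha : ∀ i ∈ s, Prime (a i))
    (hk : ∀ i ∈ s, ∃ c, ¬ a i ∣ c ∧ t = a i ^ k i * c)
    (hinj : ∀ i ∈ s, ∀ j ∈ s, Ideal.span {a i} = Ideal.span {a j} → i = j)
    (hcov : ∀ q, Prime q → q ∣ t → ∃ i ∈ s, Associated (a i) q) :
    Ideal.span {t} = ∏ i ∈ s, Ideal.span {a i} ^ k i := by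
  classical
  simp only [Ideal.span_singleton_pow]
  rw [Ideal.prod_span_singleton]
  have hdvd : (∏ i ∈ s, a i ^ k i) ∣ t := by
    refine Finset.prod_dvd_of_isRelPrime (fun i hi j hj hij => ?_) fun i hi => ?_
    · refine IsRelPrime.pow fun d hdi hdj => by_contra fun hd => hij (hinj i hi j hj ?_)
      rw [Ideal.span_singleton_eq_span_singleton]
      obtain ⟨e, he⟩ := hdi
      obtain ⟨e', he'⟩ := hdj
      rcases (ha i hi).irreducible.isUnit_or_isUnit he with h | h
      · exact absurd h hd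
      rcases (ha j hj).irreducible.isUnit_or_isUnit he' with h' | h'
      · exact absurd h' hd
      exact (he ▸ associated_mul_unit_left d e h).trans (he' ▸ associated_mul_unit_right d e' h')
    · obtain ⟨c, -, hc⟩ := hk i hi
      exact ⟨c, hc⟩
  obtain ⟨d, hd⟩ := hdvd
  refine Ideal.span_singleton_eq_span_singleton.mpr (Associated.symm ?_)
  rw [hd]
  refine associated_mul_unit_right _ d (by_contra fun hdu => ?_)
  have hd0 : d ≠ 0 := by
    rintro rfl
    exact ht (hd.trans (mul_zero _))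
  obtain ⟨q, hq, hqd⟩ := WfDvdMonoid.exists_irreducible_factor hdu hd0
  have hqp : Prime q := UniqueFactorizationMonoid.irreducible_iff_prime.mp hq
  obtain ⟨i, hi, hiq⟩ := hcov q hqp (hqd.trans (hd ▸ dvd_mul_left d _))
  obtain ⟨c, hc, htc⟩ := hk i hi
  obtain ⟨e, he⟩ := hiq.dvd.trans hqd
  refine hc ?_
  have hmem := Finset.mul_prod_erase s (fun j => a j ^ k j) hi
  rw [hd, ← hmem, he, mul_assoc] at htc
  have := mul_left_cancel₀ (pow_ne_zero _ (ha i hi).ne_zero) htc
  exact ⟨(∏ j ∈ s.erase i, a j ^ k j) * e, by rw [← this]; ring⟩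

theorem genPrime_le_iff {X : Scheme.{u}} {z w x : X} (h : z ⤳ x) (h' : w ⤳ x) :
    genPrime h ≤ genPrime h' ↔ z ⤳ w := by
  obtain ⟨V, hxV, -⟩ := exists_affine_le x ⊤ trivial
  have hz := h.mem_open V.1.isOpen hxV
  have hw := h'.mem_open V.1.isOpen hxV
  constructor
  · intro hle
    have h1 := Ideal.comap_mono (f := (X.presheaf.germ V.1 x hxV).hom) hle
    rw [genPrime_affine V.2 h hxV, genPrime_affine V.2 h' hxV] at h1
    have h2 := ((PrimeSpectrum.le_iff_specializes _ _).mp h1).map V.2.fromSpec.continuous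
    rwa [V.2.fromSpec_primeIdealOf, V.2.fromSpec_primeIdealOf] at h2
  · intro hzw a ha
    have e : X.presheaf.stalkSpecializes h a =
        X.presheaf.stalkSpecializes hzw (X.presheaf.stalkSpecializes h' a) :=
      (TopCat.Presheaf.stalkSpecializes_comp_apply X.presheaf hzw h' a).symm
    have ha' : ¬ IsUnit (X.presheaf.stalkSpecializes h a) := ha
    rw [e] at ha'
    exact fun hu => ha' (hu.map (X.presheaf.stalkSpecializes hzw).hom)

theorem range_eq_closure {Y X : Scheme.{u}} (ι : Y ⟶ X) [IsClosedImmersion ι] [IsIntegral Y] :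
    Set.range ι.base = closure {ι.base (genericPoint Y)} := by
  rw [← Set.image_singleton, ι.isClosedEmbedding.closure_image_eq]
  rw [(genericPoint_spec Y).def, Set.image_univ]

theorem ker_ideal_eq {Y X : Scheme.{u}} (ι : Y ⟶ X) [IsClosedImmersion ι] [IsIntegral Y]
    (U : X.affineOpens) (hU : ι.base (genericPoint Y) ∈ U.1) :
    ι.ker.ideal U = (U.2.primeIdealOf ⟨_, hU⟩).asIdeal := by
  ext a
  haveI : Nonempty (ι ⁻¹ᵁ U.1) := ⟨⟨genericPoint Y, hU⟩⟩
  rw [Scheme.Hom.ker_apply, RingHom.mem_ker,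
    ← (Scheme.germToFunctionField_injective Y (ι ⁻¹ᵁ U.1)).eq_iff' (map_zero _)]
  have h1 : Y.germToFunctionField (ι ⁻¹ᵁ U.1) (ι.app U.1 a) =
      ι.stalkMap (genericPoint Y) (X.presheaf.germ U.1 _ hU a) :=
    (ι.germ_stalkMap_apply U.1 (genericPoint Y) hU a).symm
  rw [h1]
  have h2 : IsUnit (X.presheaf.germ U.1 _ hU a) ↔ a ∉ (U.2.primeIdealOf ⟨_, hU⟩).asIdeal := by
    letI : Algebra Γ(X, U.1) (X.presheaf.stalk (ι.base (genericPoint Y))) :=
      (X.presheaf.germ U.1 _ hU).hom.toAlgebra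
    haveI : IsLocalization.AtPrime (X.presheaf.stalk (ι.base (genericPoint Y)))
        (U.2.primeIdealOf ⟨_, hU⟩).asIdeal := U.2.isLocalization_stalk ⟨_, hU⟩
    exact IsLocalization.AtPrime.isUnit_to_map_iff _ (U.2.primeIdealOf ⟨_, hU⟩).asIdeal a
  constructor
  · intro h0
    by_contra hm
    have := (h2.mpr hm).map (ι.stalkMap (genericPoint Y)).hom
    rw [h0] at this
    exact not_isUnit_zero (M₀ := Y.functionField) this
  · intro hm
    by_contra h0
    exact (h2.mp (isUnit_of_map_unit (ι.stalkMap (genericPoint Y)).hom _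
      (IsUnit.mk0 (G₀ := Y.functionField) _ h0))) hm

theorem stalkIdeal_ker {Y X : Scheme.{u}} (ι : Y ⟶ X) [IsClosedImmersion ι] [IsIntegral Y]
    {x : X} (h : ι.base (genericPoint Y) ⤳ x) : stalkIdeal ι.ker x = genPrime h := by
  obtain ⟨U, hx, -⟩ := exists_affine_le x ⊤ trivial
  letI : Algebra Γ(X, U.1) (X.presheaf.stalk x) := (X.presheaf.germ U.1 x hx).hom.toAlgebra
  haveI : IsLocalization.AtPrime (X.presheaf.stalk x) (U.2.primeIdealOf ⟨x, hx⟩).asIdeal :=
    U.2.isLocalization_stalk ⟨x, hx⟩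
  rw [stalkIdeal_eq _ U hx, ker_ideal_eq ι U (h.mem_open U.1.isOpen hx),
    ← genPrime_affine U.2 h hx]
  exact IsLocalization.map_comap (U.2.primeIdealOf ⟨x, hx⟩).asIdeal.primeCompl _ (genPrime h)

theorem stalkIdeal_ker_eq_top {Y X : Scheme.{u}} (ι : Y ⟶ X) [IsClosedImmersion ι] [IsIntegral Y]
    {x : X} (h : ¬ ι.base (genericPoint Y) ⤳ x) : stalkIdeal ι.ker x = ⊤ := by
  rw [stalkIdeal_eq_top_iff, ← SetLike.mem_coe, Scheme.Hom.support_ker,
    ι.isClosedEmbedding.isClosed_range.closure_eq, range_eq_closure ι]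
  exact fun hx => h (specializes_iff_mem_closure.mpr hx)

theorem stalkIdeal_prod {X : Scheme.{u}} {ι : Type*} (s : Finset ι) (I : ι → X.IdealSheafData)
    (x : X) : stalkIdeal (∏ i ∈ s, I i) x = ∏ i ∈ s, stalkIdeal (I i) x := by
  classical
  induction s using Finset.induction with
  | empty =>
    simpa using stalkIdeal_pow (⊤ : X.IdealSheafData) x 0
  | insert a s ha ih => rw [Finset.prod_insert ha, Finset.prod_insert ha, stalkIdeal_mul, ih]

variable {R : Type u} [CommRing R] [IsDomain R] [IsDiscreteValuationRing R]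
  (X : Over (Spec (CommRingCat.of R)))

theorem stalkHom_specializes {z x : X.left} (h : z ⤳ x) (a : R) :
    X.left.presheaf.stalkSpecializes h (stalkHom R X x a) = stalkHom R X z a :=
  TopCat.Presheaf.germ_stalkSpecializes_apply X.left.presheaf (U := ⊤) (hy := trivial) h _

theorem mem_fibre_iff {ϖ : R} (hϖ : Irreducible ϖ) (z : X.left) :
    z ∈ specialFibreSet R X ↔ ¬ IsUnit (stalkHom R X z ϖ) := by
  have h : IsUnit (stalkHom R X z ϖ) ↔ ϖ ∉ (X.hom.base z).asIdeal := by
    refine (Scheme.mem_basicOpen_top (X := X.left) (Coh.toGlobal X.hom ϖ) z).symm.trans ?_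
    show z ∈ X.left.basicOpen (X.hom.appTop ((Scheme.ΓSpecIso (CommRingCat.of R)).inv ϖ)) ↔ _
    rw [← Scheme.preimage_basicOpen_top]
    show X.hom z ∈ (Spec (CommRingCat.of R)).basicOpen _ ↔ _
    rw [basicOpen_eq_of_affine]
    exact Iff.rfl
  rw [h, not_not]
  change X.hom.base z = IsLocalRing.closedPoint R ↔ _
  constructor
  · intro e
    rw [e]
    show ϖ ∈ IsLocalRing.maximalIdeal R
    rw [hϖ.maximalIdeal_eq]
    exact Ideal.mem_span_singleton_self ϖ
  · intro hm
    refine PrimeSpectrum.ext (le_antisymm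
      (IsLocalRing.le_maximalIdeal (X.hom.base z).isPrime.ne_top) ?_)
    show IsLocalRing.maximalIdeal R ≤ _
    rw [hϖ.maximalIdeal_eq, Ideal.span_singleton_le_iff_mem]
    exact hm

theorem stalkIdeal_fibre {ϖ : R} (hϖ : Irreducible ϖ) (x : X.left) :
    stalkIdeal (specialFibreIdeal R X) x = Ideal.span {stalkHom R X x ϖ} := by
  obtain ⟨U, hx, -⟩ := exists_affine_le x ⊤ trivial
  rw [stalkIdeal_eq _ U hx]
  change (((Scheme.IdealSheafData.ofIdealTop _).comap X.hom).ideal U).map _ = _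
  rw [ofIdealTop_comap, hϖ.maximalIdeal_eq]
  simp only [Ideal.map_span, Set.image_singleton]
  congr 2
  exact TopCat.Presheaf.germ_res_apply X.left.presheaf (homOfLE le_top) x hx _

theorem isEffCartier_fibre [Flat X.hom] : BlowUp.IsEffCartierIdeal (specialFibreIdeal R X) := by
  obtain ⟨ϖ, hϖ⟩ := IsDiscreteValuationRing.exists_irreducible R
  refine IdealSh.EffCartier.comap_of_flat X.hom fun y => ⟨⟨⊤, isAffineOpen_top _⟩, trivial,
    (Scheme.ΓSpecIso (CommRingCat.of R)).inv ϖ, ?_, ?_⟩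
  · exact (MulEquivClass.map_nonZeroDivisors
      (Scheme.ΓSpecIso (CommRingCat.of R)).commRingCatIsoToRingEquiv.symm).le
        ⟨ϖ, mem_nonZeroDivisors_of_ne_zero hϖ.ne_zero, rfl⟩
  · rw [Curv2.idealSheaf, hϖ.maximalIdeal_eq, Ideal.map_span, Set.image_singleton]
    simp [Scheme.IdealSheafData.ofIdealTop]

theorem stalkHom_ne_zero [Flat X.hom] {ϖ : R} (hϖ : Irreducible ϖ) (x : X.left)
    [IsDomain (X.left.presheaf.stalk x)] : stalkHom R X x ϖ ≠ 0 := by
  intro h0
  obtain ⟨U, hx, -, f, hf, he⟩ := IdealSh.EffCartier.exists_equation (isEffCartier_fibre X) x ⊤ trivial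
  have h := stalkIdeal_fibre X hϖ x
  rw [stalkIdeal_eq _ U hx, he, Ideal.map_span, Set.image_singleton, h0,
    Ideal.span_singleton_eq_span_singleton, associated_zero_iff_eq_zero] at h
  exact nonZeroDivisors.ne_zero (IdealSh.Regular.germ_mem_nonZeroDivisors U.2 x hx hf) h

/-- The prime of a prime divisor of a uniformizer belongs to a maximal point of the closed fibre. -/
theorem exists_component_of_prime [Flat X.hom] {ϖ : R} (hϖ : Irreducible ϖ) {n : ℕ}
    (Γ : Fin n → ArSurf.VertComp R X) (hΓ : IsComponentList R X Γ) (x : X.left)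
    [IsDomain (X.left.presheaf.stalk x)] [UniqueFactorizationMonoid (X.left.presheaf.stalk x)]
    {q : X.left.presheaf.stalk x} (hq : Prime q) (hqt : q ∣ stalkHom R X x ϖ) :
    ∃ (z : X.left) (h : z ⤳ x), genPrime h = Ideal.span {q} ∧ (∃ i, genPtOf R X (Γ i) = z) ∧
      ∀ w ∈ specialFibreSet R X, w ⤳ z → w = z := by
  haveI : (Ideal.span {q}).IsPrime := (Ideal.span_singleton_prime hq.ne_zero).mpr hq
  obtain ⟨z, h, hz⟩ := exists_genPrime_eq (Ideal.span {q})
  have htz : stalkHom R X x ϖ ∈ genPrime h := by rw [hz]; exact Ideal.mem_span_singleton.mpr hqt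
  have hzf : z ∈ specialFibreSet R X := by
    rw [mem_fibre_iff X hϖ, ← stalkHom_specializes X h]
    exact htz
  have hmax : ∀ w ∈ specialFibreSet R X, w ⤳ z → w = z := by
    intro w hw hwz
    have hwx := hwz.trans h
    haveI := genPrime_isPrime hwx
    have hb : genPrime hwx ≠ ⊥ := by
      intro hb
      have : stalkHom R X x ϖ ∈ genPrime hwx := by
        show ¬ IsUnit _
        rw [stalkHom_specializes X hwx]
        exact (mem_fibre_iff X hϖ w).mp hw
      rw [hb] at this
      exact stalkHom_ne_zero X hϖ x this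
    obtain ⟨r, hr, hrp⟩ := Ideal.IsPrime.exists_mem_prime_of_ne_bot ‹_› hb
    have hle := (genPrime_le_iff hwx h).mpr hwz
    have hqr : q ∣ r := Ideal.mem_span_singleton.mp (hz ▸ hle hr)
    refine genPrime_injective hwx h (le_antisymm hle ?_)
    rw [hz, Ideal.span_singleton_le_iff_mem]
    exact Ideal.mem_of_dvd _ ((hq.associated_of_dvd hrp hqr).symm.dvd) hr
  refine ⟨z, h, hz, ?_, hmax⟩
  have hc : closure ({z} : Set X.left) ∈ fibreComponents R X := by
    refine ⟨⟨isIrreducible_singleton.closure,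
      closure_minimal (Set.singleton_subset_iff.mpr hzf) (isClosed_specialFibreSet R X)⟩, ?_⟩
    rintro S ⟨hS, hSf⟩ hle
    obtain ⟨w, hw⟩ : ∃ w, IsGenericPoint w (closure S) :=
      ⟨_, hS.isGenericPoint_genericPoint_closure⟩
    have e := hmax w (closure_minimal hSf (isClosed_specialFibreSet R X) hw.mem)
      (hw.specializes (subset_closure (hle (subset_closure rfl))))
    rw [← e, hw.def]
    exact subset_closure
  obtain ⟨i, hi⟩ := hΓ.2.symm ▸ hc
  refine ⟨i, ?_⟩
  have hi' : closure {genPtOf R X (Γ i)} = closure ({z} : Set X.left) :=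
    (range_eq_closure (Γ i).ι).symm.trans hi
  exact (Inseparable.eq (inseparable_iff_closure_eq.mpr hi'))

/-- At a point of a component, the multiplicity is the exact exponent of its equation. -/
theorem exists_generator [Flat X.hom] {ϖ : R} (hϖ : Irreducible ϖ) {n : ℕ}
    (Γ : Fin n → ArSurf.VertComp R X) (hΓ : IsComponentList R X Γ) (x : X.left)
    [IsDomain (X.left.presheaf.stalk x)] [UniqueFactorizationMonoid (X.left.presheaf.stalk x)]
    (i : Fin n) (h : genPtOf R X (Γ i) ⤳ x) [IsDomain (X.left.presheaf.stalk (genPtOf R X (Γ i)))] :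
    ∃ a c, Prime a ∧ genPrime h = Ideal.span {a} ∧ ¬ a ∣ c ∧
      stalkHom R X x ϖ = a ^ mult R X (Γ i) * c ∧ 1 ≤ mult R X (Γ i) := by
  have hsub : Set.range (Γ i).ι.base ⊆ specialFibreSet R X :=
    (show Set.range (Γ i).ι.base ∈ fibreComponents R X from hΓ.2 ▸ ⟨i, rfl⟩).1.2
  have ht : stalkHom R X x ϖ ∈ genPrime h := by
    show ¬ IsUnit _
    rw [stalkHom_specializes X h]
    exact (mem_fibre_iff X hϖ _).mp (hsub ⟨_, rfl⟩)
  haveI := genPrime_isPrime h
  have ht0 := stalkHom_ne_zero X hϖ x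
  obtain ⟨fs, hfs, hprod⟩ := UniqueFactorizationMonoid.exists_prime_factors _ ht0
  have hmem : fs.prod ∈ genPrime h := Ideal.mem_of_dvd _ hprod.symm.dvd ht
  obtain ⟨a, haf, ha⟩ := (Ideal.IsPrime.multiset_prod_mem_iff_exists_mem ‹_› fs).mp hmem
  have hap := hfs a haf
  obtain ⟨z, hzx, hz, ⟨j, hj⟩, hmax⟩ := exists_component_of_prime X hϖ Γ hΓ x hap
    ((Multiset.dvd_prod haf).trans hprod.dvd)
  have hzi : z ⤳ genPtOf R X (Γ i) := (genPrime_le_iff hzx h).mp (by
    rw [hz, Ideal.span_singleton_le_iff_mem]; exact ha)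
  have hzi' : j = i := by
    have hle : Set.range (Γ i).ι.base ⊆ Set.range (Γ j).ι.base := by
      rw [range_eq_closure (Γ i).ι, range_eq_closure (Γ j).ι]
      exact closure_minimal (Set.singleton_subset_iff.mpr
        (specializes_iff_mem_closure.mp (show genPtOf R X (Γ j) ⤳ genPtOf R X (Γ i) from by rw [hj]; exact hzi))) isClosed_closure
    exact hΓ.1 (le_antisymm
      ((show Set.range (Γ i).ι.base ∈ fibreComponents R X from hΓ.2 ▸ ⟨i, rfl⟩).2
        (show Set.range (Γ j).ι.base ∈ fibreComponents R X from hΓ.2 ▸ ⟨j, rfl⟩).1 hle) hle)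
  subst hzi'
  subst hj
  obtain ⟨k, c, hac, hc⟩ := WfDvdMonoid.max_power_factor ht0 hap.irreducible
  let φ := (X.left.presheaf.stalkSpecializes h).hom
  have hmax' : IsLocalRing.maximalIdeal _ = Ideal.span {φ a} := by
    rw [← map_genPrime h, hz, Ideal.map_span, Set.image_singleton]
  have hcu : IsUnit (φ c) := by
    by_contra hu
    exact hac (Ideal.mem_span_singleton.mp (hz ▸ (hu : c ∈ genPrime h)))
  have hφa : φ a ≠ 0 := by
    intro h0
    refine stalkHom_ne_zero X hϖ (genPtOf R X (Γ j)) ?_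
    have := hmax' ▸ (show stalkHom R X (genPtOf R X (Γ j)) ϖ ∈ IsLocalRing.maximalIdeal _ from
      (mem_fibre_iff X hϖ _).mp (hsub ⟨_, rfl⟩))
    rwa [h0, Ideal.span_singleton_zero, Ideal.mem_bot] at this
  have hord1 : Ring.ord (X.left.presheaf.stalk (genPtOf R X (Γ j))) (φ a) = 1 := by
    rw [Ring.ord, ← hmax', Module.length_eq_one_iff, isSimpleModule_iff_isCoatom, ← Ideal.isMaximal_def]
    infer_instance
  have hmult : mult R X (Γ j) = k := by
    have e : Ideal.map (stalkHom R X (genPtOf R X (Γ j))) (IsLocalRing.maximalIdeal R) =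
        Ideal.span {φ a ^ k * φ c} := by
      rw [hϖ.maximalIdeal_eq, Ideal.map_span, Set.image_singleton, ← stalkHom_specializes X h, hc,
        ← map_pow, ← map_mul]
    rw [mult, e]
    show (Ring.ord _ (φ a ^ k * φ c)).toNat = k
    rw [Ring.ord_mul_of_isUnit_right hcu, Ring.ord_pow (mem_nonZeroDivisors_of_ne_zero hφa), hord1]
    simp
  refine ⟨a, c, hap, hz, hac, hmult ▸ hc, ?_⟩
  rw [hmult]
  rcases Nat.eq_zero_or_pos k with rfl | hk
  · rw [pow_zero, one_mul] at hc
    exact absurd ((Multiset.dvd_prod haf).trans hprod.dvd) (hc ▸ hac)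
  · exact hk

/-- The closed fibre of a regular flat model is the sum of its components. -/
theorem eq_prod {R : Type u} [CommRing R] [IsDomain R] [IsDiscreteValuationRing R] {X : Scheme.{u}}
    (p : X ⟶ Spec (CommRingCat.of R)) (hfl : Flat p) (hft : LocallyOfFiniteType p)
    (hreg : Models.IsRegularScheme X) {n : ℕ} (Γ : Fin n → ArSurf.VertComp R (Over.mk p))
    (hΓ : Models.IsComponentList R (Over.mk p) Γ) :
    (∀ i, BlowUp.IsEffCartierIdeal (Γ i).ι.ker) ∧
      Models.specialFibreIdeal R (Over.mk p) = ∏ i, (Γ i).ι.ker ^ Models.mult R (Over.mk p) (Γ i) := by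
  haveI : Flat p := hfl
  haveI : LocallyOfFiniteType p := hft
  haveI : IsLocallyNoetherian X := LocallyOfFiniteType.isLocallyNoetherian p
  haveI : ∀ x : X, IsDomain (X.presheaf.stalk x) := fun x =>
    haveI := hreg x
    RegLoc.isDomain _
  haveI : ∀ x : X, UniqueFactorizationMonoid (X.presheaf.stalk x) := fun x =>
    haveI := hreg x
    RegLoc.UFD.uniqueFactorizationMonoid _
  haveI : Flat (Over.mk p).hom := hfl
  haveI : IsLocallyNoetherian (Over.mk p).left := ‹IsLocallyNoetherian X›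
  haveI : ∀ x : (Over.mk p).left, IsDomain ((Over.mk p).left.presheaf.stalk x) := ‹∀ x : X, IsDomain _›
  haveI : ∀ x : (Over.mk p).left, UniqueFactorizationMonoid ((Over.mk p).left.presheaf.stalk x) := ‹∀ x : X, UniqueFactorizationMonoid _›
  obtain ⟨ϖ, hϖ⟩ := IsDiscreteValuationRing.exists_irreducible R
  have heq : Models.specialFibreIdeal R (Over.mk p) =
      ∏ i, (Γ i).ι.ker ^ Models.mult R (Over.mk p) (Γ i) := by
    refine ext_of_forall_exists _ _ fun x => exists_affine_ideal_eq _ _ x ?_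
    classical
    rw [stalkIdeal_fibre (Over.mk p) hϖ, stalkIdeal_prod]
    have ha : ∀ i, ∃ a c, genPtOf R (Over.mk p) (Γ i) ⤳ x → Prime a ∧
        stalkIdeal (Γ i).ι.ker x = Ideal.span {a} ∧ ¬ a ∣ c ∧
        stalkHom R (Over.mk p) x ϖ = a ^ mult R (Over.mk p) (Γ i) * c := fun i => by
      by_cases h : genPtOf R (Over.mk p) (Γ i) ⤳ x
      · obtain ⟨a, c, h1, h2, h3, h4, -⟩ := exists_generator (Over.mk p) hϖ Γ hΓ x i h
        exact ⟨a, c, fun _ => ⟨h1, (stalkIdeal_ker (Γ i).ι h).trans h2, h3, h4⟩⟩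
      · exact ⟨1, 1, fun h' => absurd h' h⟩
    choose a c hac using ha
    let s := Finset.univ.filter fun i => genPtOf R (Over.mk p) (Γ i) ⤳ x
    rw [← Finset.prod_subset (Finset.subset_univ s) fun i _ hi => by
      rw [stalkIdeal_pow, stalkIdeal_ker_eq_top (Γ i).ι (by
          change ¬ genPtOf R (Over.mk p) (Γ i) ⤳ x
          simpa [s] using hi)]
      rw [← Ideal.one_eq_top, one_pow]]
    have hs : ∀ i ∈ s, genPtOf R (Over.mk p) (Γ i) ⤳ x := fun i hi => by simpa [s] using hi
    rw [Finset.prod_congr rfl fun i hi => by rw [stalkIdeal_pow, (hac i (hs i hi)).2.1]]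
    refine span_eq_prod (stalkHom_ne_zero (Over.mk p) hϖ x) s a _ (fun i hi => (hac i (hs i hi)).1)
      (fun i hi => ⟨c i, (hac i (hs i hi)).2.2⟩) (fun i hi j hj e => ?_) fun q hq hqt => ?_
    · rw [← (hac i (hs i hi)).2.1, ← (hac j (hs j hj)).2.1, stalkIdeal_ker (Γ i).ι (hs i hi),
        stalkIdeal_ker (Γ j).ι (hs j hj)] at e
      refine hΓ.1 ?_
      simp only [range_eq_closure]
      rw [genPrime_injective _ _ e]
    · obtain ⟨z, hz, hzq, ⟨i, hi⟩, -⟩ := exists_component_of_prime (Over.mk p) hϖ Γ hΓ x hq hqt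
      subst hi
      have his : i ∈ s := by simpa [s] using hz
      refine ⟨i, his, Ideal.span_singleton_eq_span_singleton.mp ?_⟩
      rw [← hzq, ← (hac i (hs i his)).2.1]
      exact stalkIdeal_ker (Γ i).ι hz
  refine ⟨fun i => ?_, heq⟩
  have hcart : BlowUp.IsEffCartierIdeal (∏ j, (Γ j).ι.ker ^ Models.mult R (Over.mk p) (Γ j)) :=
    heq ▸ isEffCartier_fibre (Over.mk p)
  rw [← Finset.mul_prod_erase _ _ (Finset.mem_univ i)] at hcart
  have hi := IdealSh.EffCartier.factor_left hcart
  obtain ⟨-, -, -, -, -, -, h1⟩ := exists_generator (Over.mk p) hϖ Γ hΓ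
    (genPtOf R (Over.mk p) (Γ i)) i specializes_rfl
  obtain ⟨k, hk⟩ := Nat.exists_eq_add_of_le h1
  rw [hk, pow_add, pow_one] at hi
  exact IdealSh.EffCartier.factor_left hi


/-- Let R be a discrete valuation ring with fraction field K, C a smooth proper curve over K and X a
regular model of C over R (flat, of finite type, all local rings regular, generic fibre C). Let Γ_1,
…, Γ_n be the irreducible components of the closed fibre, each an integral curve over the residue
field closed in X, with multiplicities m_i (length of O_{X,ξ_i}/𝔪_R O_{X,ξ_i} at the generic point).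
Then each Γ_i is an effective Cartier divisor on X and the ideal sheaf 𝔪_R O_X of the closed fibre
is the product of the ideal sheaves of the Γ_i raised to the powers m_i (the closed fibre is the sum
Σ m_i Γ_i of effective Cartier divisors). -/
theorem result (R : Type u) [CommRing R] [IsDomain R] [IsDiscreteValuationRing R]
    (C X : Scheme.{u}) (f : C ⟶ Spec (CommRingCat.of (FractionRing R))) (p : X ⟶ Spec (CommRingCat.of R))
    (hC : Curve.IsSmoothProperCurve (FractionRing R) C f) (hX : Models.IsModel R X p C f)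
    (hreg : Models.IsRegularScheme X)
    {n : ℕ} (Γ : Fin n → ArSurf.VertComp R (Over.mk p)) (hΓ : Models.IsComponentList R (Over.mk p) Γ) :
    (∀ i, BlowUp.IsEffCartierIdeal (Γ i).ι.ker) ∧
      Models.specialFibreIdeal R (Over.mk p) = ∏ i, (Γ i).ι.ker ^ Models.mult R (Over.mk p) (Γ i) := by
  exact eq_prod p hX.1 hX.2.1 hreg Γ hΓ

end Groth.Agent.S3313
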