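import Groth.Statements.S19553
import Groth.Agent.HorizPrescribed38.Main
import Groth.Agent.S3253
import Groth.Agent.S3313
import Groth.Agent.S1561
import Groth.Agent.S7915
import Groth.Agent.VertInter.List
import Groth.Agent.VertInter.Global
import Groth.Agent.VertInter.RatField
import Groth.Agent.CurveCoh.Integral
import Groth.Agent.StrictSSLib.OdpEtale
import Groth.Agent.DimIneq.Basic
import Groth.Agent.PicLaw.Basic
import Groth.Agent.AlgSpD.EtaleTop

set_option autoImplicit false
universe u
open CategoryTheory CategoryTheory.Limits AlgebraicGeometry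
open Models

namespace Groth.Agent.S19553

open TopologicalSpace

theorem henselian_of_complete (R : Type u) [CommRing R] [IsLocalRing R]
    [IsAdicComplete (IsLocalRing.maximalIdeal R) R] : HenselianLocalRing R :=
  ⟨fun f hf a₀ h₁ h₂ => HenselianRing.is_henselian (I := IsLocalRing.maximalIdeal R) f hf a₀ h₁ (h₂.map _)⟩

/-- A scheme whose ring of functions is a domain is preconnected. -/
theorem preconnectedSpace_of_isDomain (X : Scheme.{u}) (h : IsDomain Γ(X, ⊤)) : PreconnectedSpace X := by
  refine ⟨fun u v hu hv huv hun hvn => ?_⟩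
  by_contra hne
  rw [Set.not_nonempty_iff_eq_empty, Set.univ_inter] at hne
  rw [Set.univ_inter] at hun hvn
  haveI : Nonempty (⟨u, hu⟩ : X.Opens) := hun.to_subtype
  haveI : Nonempty (⟨v, hv⟩ : X.Opens) := hvn.to_subtype
  let e : Γ(X, _) ≅ CommRingCat.of _ :=
    (X.sheaf.isProductOfDisjoint ⟨u, hu⟩ ⟨v, hv⟩ (Opens.ext hne)).conePointUniqueUpToIso
      (CommRingCat.prodFanIsLimit _ _)
  have htop : (⟨u, hu⟩ ⊔ ⟨v, hv⟩ : X.Opens) = ⊤ := eq_top_iff.mpr fun x _ => huv trivial
  haveI : IsDomain Γ(X, (⟨u, hu⟩ ⊔ ⟨v, hv⟩ : X.Opens)) := by rw [htop]; exact h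
  have : IsDomain (Γ(X, ⟨u, hu⟩) × Γ(X, ⟨v, hv⟩)) := e.symm.commRingCatIsoToRingEquiv.toMulEquiv.isDomain _
  exact false_of_nontrivial_of_product_domain Γ(X, ⟨u, hu⟩) Γ(X, ⟨v, hv⟩)

/-- A closed set avoiding the generic point of an integral curve is a finite set of closed points. -/
theorem finite_and_closed_of_not_mem {E : Scheme.{u}} [IsIntegral E] [NoetherianSpace E]
    (hdim : topologicalKrullDim E = 1) {T : Set E} (hT : IsClosed T) (hη : genericPoint E ∉ T) :
    T.Finite ∧ ∀ e ∈ T, IsClosed ({e} : Set E) := by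
  have hcl : ∀ e : E, e ≠ genericPoint E → IsClosed ({e} : Set E) := fun e he => by
    rw [← closure_subset_iff_isClosed]
    intro z hz
    by_contra hze
    have lt : ∀ {p q : E}, p ⤳ q → p ≠ q → q < p := fun {p q} h n =>
      lt_iff_le_not_ge.2 ⟨h, fun h' => n (h.antisymm h').eq⟩
    let q₁ : LTSeries E := (RelSeries.singleton _ (genericPoint E)).cons e (lt (genericPoint_specializes e) (Ne.symm he))
    let q₂ : LTSeries E := q₁.cons z (lt (specializes_iff_mem_closure.mpr hz) fun h => hze h.symm)
    have h := Order.LTSeries.length_le_krullDim q₂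
    rw [Order.krullDim_eq_of_orderIso (irreducibleSetEquivPoints (α := E)).symm] at h
    have h' : ((q₂.length : ℕ) : WithBot ℕ∞) ≤ 1 := h.trans hdim.le
    simp [q₂, q₁] at h'
  obtain ⟨S, hSf, hSc, hSi, rfl⟩ := NoetherianSpace.exists_finite_set_isClosed_irreducible hT
  refine ⟨hSf.sUnion fun Z hZ => ?_, fun e he => hcl e fun h => hη (h ▸ he)⟩
  obtain ⟨w, hw⟩ : ∃ w, IsGenericPoint w Z := ⟨_, (hSi Z hZ).isGenericPoint_genericPoint (hSc Z hZ)⟩
  have hw' := hcl w fun h => hη (h ▸ ⟨Z, hZ, hw.mem⟩)
  exact (Set.finite_singleton w).subset (hw.def ▸ hw'.closure_subset_iff.mpr Set.Subset.rfl)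

/-- The surjectivity of the degree map, which is the assertion in the published proof that uses
completeness of R and an algebraically closed residue field. Let R be a complete discrete valuation
ring with algebraically closed residue field k and fraction field K, C a smooth proper curve over K
with H⁰(C, O_C) = K and dim_K H¹(C, O_C) = g ≥ 2, X → Spec R a regular proper model of C, and Γ₁, …,
Γ_n the irreducible components of the closed fibre. Then for each i there is an invertible
O_X-module M with deg_k(M|Γ_i) = 1 and deg_k(M|Γ_j) = 0 for j ≠ i; in other words the degree map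
from invertible modules on X to ℤ^n is surjective. (The published proposition, which also assumes
that the multiplicities of the Γ_j have no common divisor, is the exact sequence 0 → Pic⁰ X → Pic C
→ G → 0 with Pic⁰ X the classes of degree zero on every Γ_j and G the cokernel of the intersection
matrix; its other constituents — the kernel of restriction to C is generated by the O_X(Γ_j), a
class of degree zero on every Γ_j and trivial on C is trivial when the multiplicities are coprime,
and the kernel of the induced map on Pic C — hold over any discrete valuation ring and are stated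
separately; this row is the assertion whose published argument uses that R is complete with
algebraically closed residue field.) -/
theorem result
    (R : Type u) [CommRing R] [IsDomain R] [IsDiscreteValuationRing R]
    [IsAdicComplete (IsLocalRing.maximalIdeal R) R]
    (hk : IsAlgClosed (IsLocalRing.ResidueField R))
    (C : Scheme.{u}) (fC : C ⟶ (Spec (CommRingCat.of (FractionRing R)))) [IsProper fC] [Smooth fC]
    (hC0 : Models.hRank (FractionRing R) C fC (Coh.structureModule C) 0 = 1)
    (g : ℕ) (hg2 : 2 ≤ g) (hg : Models.curveGenus (FractionRing R) C fC = g)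
    (X : Scheme.{u}) (p : X ⟶ (Spec (CommRingCat.of R))) (hX : Models.IsRegularProperModel R X p C fC)
    {n : ℕ} (Γ : Fin n → ArSurf.VertComp R (Over.mk p)) (hΓ : Models.IsComponentList R (Over.mk p) Γ)
    (i : Fin n) :
    ∃ M : X.Modules, PicF.IsInvertible M ∧
      ∀ j : Fin n, ArSurf.inter R (Over.mk p) M (Γ j) = if j = i then 1 else 0 := by
  classical
  obtain ⟨gC, hgC⟩ := hX.1.2.2.2
  haveI : Flat p := hX.1.1
  haveI : IsProper p := hX.2.1
  haveI : Flat (Over.mk p).hom := hX.1.1
  haveI : IsProper (Over.mk p).hom := hX.2.1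
  haveI : IsLocallyNoetherian X := LocallyOfFiniteType.isLocallyNoetherian p
  haveI : IsLocallyNoetherian (Over.mk p).left := ‹IsLocallyNoetherian X›
  haveI : CompactSpace X := QuasiCompact.compactSpace_of_compactSpace p
  haveI : AlgebraicGeometry.IsNoetherian X := {}
  haveI := henselian_of_complete R
  haveI : ∀ x : X, IsDomain (X.presheaf.stalk x) := fun x => haveI := hX.2.2 x; RegLoc.isDomain _
  -- the ring of functions of the generic fibre
  have happ : IsIso fC.appTop := by
    letI : C.Over (Spec (CommRingCat.of (FractionRing R))) := ⟨fC⟩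
    have h1 : Module.finrank (FractionRing R) (Coh.HH C (Coh.structureModule C) 0) = 1 := hC0
    haveI : Nontrivial (Coh.HH C (Coh.structureModule C) 0) := Module.nontrivial_of_finrank_eq_succ h1
    let e := ProperFin.h0Sec (Coh.structureModule C)
    haveI : Nontrivial Γ(C, ⊤) := e.toEquiv.symm.nontrivial
    haveI : Nontrivial (Coh.Γtop C) := ‹Nontrivial Γ(C, ⊤)›
    have hK : Function.Bijective (Coh.toGlobal (A := FractionRing R) fC) := by
      refine ⟨(Coh.toGlobal (A := FractionRing R) fC).injective, fun b => ?_⟩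
      let o : Coh.HH C (Coh.structureModule C) 0 := e.symm (show Γ(C, ⊤) from 1)
      have ho : o ≠ 0 := fun h => one_ne_zero (α := Γ(C, ⊤))
        ((e.apply_symm_apply (show Γ(C, ⊤) from 1)).symm.trans ((congrArg e h).trans (map_zero e)))
      obtain ⟨r, hr⟩ := exists_smul_eq_of_finrank_eq_one h1 ho (e.symm b)
      refine ⟨r, ?_⟩
      have h2 := congrArg e hr
      rw [e.apply_symm_apply] at h2
      refine Eq.trans ?_ h2
      refine Eq.trans (mul_one _).symm (Eq.trans ?_ (ProperFin.h0Sec_smul (Coh.structureModule C) (Coh.toGlobal fC r) o).symm)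
      rw [e.apply_symm_apply]
      rfl
    rw [ConcreteCategory.isIso_iff_bijective]
    exact (Function.Bijective.of_comp_iff _
      (ConcreteCategory.bijective_of_isIso (Scheme.ΓSpecIso (CommRingCat.of (FractionRing R))).inv)).mp hK
  -- `X` is integral
  haveI hint : IsIntegral X := by
    have hb := VertInter.toGlobal_bijective (X := Over.mk p) hgC happ
    have hdom : IsDomain Γ(X, ⊤) := (RingEquiv.ofBijective _ hb).symm.toMulEquiv.isDomain R
    haveI := preconnectedSpace_of_isDomain X hdom
    haveI : Nonempty X := ⟨(Γ i).ι (genericPoint (Γ i).curve.left)⟩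
    haveI : ConnectedSpace X := { toNonempty := inferInstance }
    haveI := CurveCoh.irreducibleSpace_of_domain_stalks X inferInstance
    haveI : IsReduced X := isReduced_of_isReduced_stalk _
    exact isIntegral_of_irreducibleSpace_of_isReduced _
  -- a good point of the component
  let k := IsLocalRing.ResidueField R
  haveI : IsAlgClosed k := hk
  let E := (Γ i).curve
  let i₀ : Spec (CommRingCat.of k) ⟶ Spec (CommRingCat.of R) := Spec.map (CommRingCat.ofHom (IsLocalRing.residue R))
  haveI : IsProper E.hom := by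
    haveI : IsClosedImmersion i₀ := IsClosedImmersion.spec_of_surjective _ IsLocalRing.residue_surjective
    haveI : IsProper (E.hom ≫ i₀) := by rw [← (Γ i).w]; infer_instance
    exact IsProper.of_comp E.hom i₀
  haveI : IsLocallyNoetherian E.left := LocallyOfFiniteType.isLocallyNoetherian E.hom
  haveI : CompactSpace E.left := QuasiCompact.compactSpace_of_compactSpace E.hom
  haveI : AlgebraicGeometry.IsNoetherian E.left := {}
  haveI : JacobsonSpace E.left := LocallyOfFiniteType.jacobsonSpace E.hom
  letI : E.left.Over (Spec (CommRingCat.of k)) := ⟨E.hom⟩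
  haveI : LocallyOfFinitePresentation (E.left ↘ Spec (CommRingCat.of k)) :=
    inferInstanceAs (LocallyOfFinitePresentation E.hom)
  obtain ⟨hreg, hdense⟩ := S1561.result k E.left
  let ι : E.left ⟶ X := (Γ i).ι
  haveI : IsClosedImmersion ι := (Γ i).isClosedImmersion
  let O' : Set X := ⋃ j ∈ {j | j ≠ i}, Set.range (Γ j).ι.base
  have hO' : IsClosed O' := (Set.toFinite _).isClosed_biUnion fun j _ => (Γ j).ι.isClosedEmbedding.isClosed_range
  have hξO : ι (genericPoint E.left) ∉ O' := fun h => by
    obtain ⟨j, hj, hm⟩ := Set.mem_iUnion₂.mp h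
    exact VertInter.genPt_not_mem hΓ (Ne.symm hj) hm
  obtain ⟨c, hcV, hcc⟩ := nonempty_inter_closedPoints (X := E.left)
    (Z := ((E.left ↘ Spec (CommRingCat.of k)).smoothLocus : Set E.left) ∩ ι ⁻¹' O'ᶜ)
    (hdense.inter_open_nonempty _ (hO'.isOpen_compl.preimage ι.continuous) ⟨_, hξO⟩ |>.mono fun z hz => ⟨hz.2, hz.1⟩)
    (((E.left ↘ Spec (CommRingCat.of k)).smoothLocus.2.inter (hO'.isOpen_compl.preimage ι.continuous)).isLocallyClosed)
  have hcc' : IsClosed ({c} : Set E.left) := hcc
  set x : X := ι c with hxdef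
  have hxc : IsClosed ({x} : Set X) := by
    have := ι.isClosedEmbedding.isClosedMap _ hcc'
    rwa [Set.image_singleton] at this
  have hcη : c ≠ genericPoint E.left := fun h => by
    have h1 : ∀ z : E.left, z = c := fun z =>
      ((h ▸ genericPoint_specializes z : c ⤳ z).mem_closed hcc' rfl)
    haveI : Subsingleton E.left := ⟨fun a b => (h1 a).trans (h1 b).symm⟩
    have h2 := topologicalKrullDim_zero_of_discreteTopology E.left
    rw [(Γ i).dim_eq] at h2
    exact absurd h2 (by norm_num)
  have hsf : ∀ z : E.left, p (ι z) = IsLocalRing.closedPoint R := fun z =>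
    (hΓ.2 ▸ ⟨i, rfl⟩ : Set.range (Γ i).ι.base ∈ Models.fibreComponents R (Over.mk p)).1.2 ⟨z, rfl⟩
  -- the equation
  set B := E.left.presheaf.stalk c with hB
  haveI : IsRegularLocalRing B := (hreg c).mp hcV.1
  obtain ⟨b, hb⟩ : ∃ b, IsLocalRing.maximalIdeal B = Ideal.span {b} := by
    have h1 : ringKrullDim B ≤ 1 := by
      have h := (Γ i).dim_eq
      rw [DimIneq.topologicalKrullDim_eq_iSup_stalk] at h
      exact h ▸ le_iSup (fun z => ringKrullDim (E.left.presheaf.stalk z)) c
    rw [← IsRegularLocalRing.spanFinrank_maximalIdeal (R := B)] at h1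
    have h2 : (IsLocalRing.maximalIdeal B).spanFinrank ≤ 1 := by exact_mod_cast h1
    have hfg : (IsLocalRing.maximalIdeal B).FG := IsNoetherian.noetherian _
    rw [← Submodule.FG.generators_ncard hfg] at h2
    rcases (Set.ncard_le_one_iff_eq (Submodule.FG.finite_generators hfg)).mp h2 with h | ⟨b, hb⟩
    · exact ⟨0, (Submodule.span_generators _).symm.trans (by rw [h]; simp)⟩
    · exact ⟨b, (Submodule.span_generators _).symm.trans (by rw [hb])⟩
  have hb0 : b ≠ 0 := by
    rintro rfl
    refine hcη (CDivLib.genPrime_injective (specializes_rfl (x := c)) (genericPoint_specializes c) ?_)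
    haveI := CDivLib.genPrime_isPrime (genericPoint_specializes c)
    have h0 : IsLocalRing.maximalIdeal B = ⊥ := by simpa using hb
    exact (le_bot_iff.mp ((IsLocalRing.le_maximalIdeal (CDivLib.genPrime_isPrime (specializes_rfl (x := c))).ne_top).trans h0.le)).trans
      (le_bot_iff.mp ((IsLocalRing.le_maximalIdeal (CDivLib.genPrime_isPrime (genericPoint_specializes c)).ne_top).trans h0.le)).symm
  obtain ⟨a₀, ha₀⟩ := ι.stalkMap_surjective c b
  obtain ⟨_, ⟨U₀, hU₀, rfl⟩, hxU₀, -⟩ :=
    X.isBasis_affineOpens.exists_subset_of_mem_open (Set.mem_univ x) isOpen_univ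
  have hU₀ : IsAffineOpen U₀ := hU₀
  letI := X.presheaf.algebra_section_stalk ⟨x, hxU₀⟩
  haveI := hU₀.isLocalization_stalk ⟨x, hxU₀⟩
  obtain ⟨⟨s, t⟩, hst⟩ := IsLocalization.surj (hU₀.primeIdealOf ⟨x, hxU₀⟩).asIdeal.primeCompl a₀
  have htu : IsUnit (X.presheaf.germ U₀ x hxU₀ t.1) := IsLocalization.map_units (X.presheaf.stalk x) t
  have hst' : a₀ * X.presheaf.germ U₀ x hxU₀ t.1 = X.presheaf.germ U₀ x hxU₀ s := hst
  have hsb : ι.stalkMap c (X.presheaf.germ U₀ x hxU₀ s) = b * ι.stalkMap c (X.presheaf.germ U₀ x hxU₀ t.1) := by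
    rw [← hst', map_mul, ha₀]
  have hbnu : ¬ IsUnit b := fun hu => (IsLocalRing.maximalIdeal.isMaximal B).ne_top
    (hb.trans (Ideal.span_singleton_eq_top.mpr hu))
  -- the other zeros on the component
  let sE : Γ(E.left, ι ⁻¹ᵁ U₀) := ι.app U₀ s
  let Zs : Set E.left := closure ((ι ⁻¹ᵁ U₀ : Set E.left) \ E.left.basicOpen sE)
  have hgermE : ∀ (z : E.left) (hz : ι z ∈ U₀),
      E.left.presheaf.germ (ι ⁻¹ᵁ U₀) z hz sE = ι.stalkMap z (X.presheaf.germ U₀ (ι z) hz s) :=
    fun z hz => (ι.germ_stalkMap_apply U₀ z hz s).symm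
  have hηbo : genericPoint E.left ∈ E.left.basicOpen sE := by
    have hz : ι (genericPoint E.left) ∈ U₀ := ((genericPoint_specializes c).map ι.continuous).mem_open U₀.2 hxU₀
    refine (Scheme.mem_basicOpen E.left sE (genericPoint E.left) hz).mpr ?_
    refine (isUnit_iff_ne_zero (G₀ := E.left.functionField)).mpr fun h0 => hb0 ?_
    have h1 : E.left.presheaf.germ (ι ⁻¹ᵁ U₀) c hxU₀ sE = 0 := by
      refine (IsFractionRing.injective B E.left.functionField) ?_
      show E.left.presheaf.stalkSpecializes (genericPoint_specializes c) _ = _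
      rw [TopCat.Presheaf.germ_stalkSpecializes_apply, map_zero]
      exact h0
    rw [hgermE c hxU₀, hsb] at h1
    exact (mul_eq_zero.mp h1).resolve_right ((htu.map (ι.stalkMap c).hom).ne_zero)
  obtain ⟨hTfin, hTcl⟩ := finite_and_closed_of_not_mem (Γ i).dim_eq (T := Zs) isClosed_closure
    fun h => by
      obtain ⟨z, hz1, hz2⟩ := mem_closure_iff.mp h _ (E.left.basicOpen sE).2 hηbo
      exact hz2.2 hz1
  have hT' : IsClosed (ι '' (Zs \ {c})) := by
    refine ι.isClosedEmbedding.isClosedMap _ ?_
    rw [← Set.biUnion_of_singleton (Zs \ {c})]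
    exact (hTfin.subset Set.sdiff_subset).isClosed_biUnion fun z hz => hTcl z hz.1
  obtain ⟨_, ⟨U, hU, rfl⟩, hxU, hUsub⟩ := X.isBasis_affineOpens.exists_subset_of_mem_open
    (show x ∈ (U₀ : Set X) ∩ (O'ᶜ ∩ (ι '' (Zs \ {c}))ᶜ) from ⟨hxU₀, hcV.2, by
      rintro ⟨z, ⟨-, hzc⟩, hz⟩
      exact hzc (ι.isClosedEmbedding.injective hz)⟩)
    (U₀.2.inter (hO'.isOpen_compl.inter hT'.isOpen_compl))
  have hU : IsAffineOpen U := hU
  have hxU : x ∈ U := hxU
  have hUU₀ : U ≤ U₀ := fun z hz => (hUsub hz).1
  let a := X.presheaf.map (homOfLE hUU₀).op s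
  have hgerm : ∀ z (hz : z ∈ U), X.presheaf.germ U z hz a = X.presheaf.germ U₀ z (hUU₀ hz) s := fun z hz =>
    X.presheaf.germ_res_apply (homOfLE hUU₀) z hz s
  have hanu : ¬ IsUnit (X.presheaf.germ U x hxU a) := by
    rw [hgerm]
    intro hu
    have h1 := hu.map (ι.stalkMap c).hom
    rw [hsb] at h1
    exact hbnu (isUnit_of_mul_isUnit_left h1)
  have hcomp : ∀ z, p z = IsLocalRing.closedPoint R → ∃ j, z ∈ Set.range (Γ j).ι.base := fun z hz =>
    Set.mem_iUnion.mp ((VertInter.iUnion_range_eq (Y := X) (p := p) hΓ).ge hz)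
  obtain ⟨D, d, hd, hcart, hsupp, V, hxV, hVU, hVe⟩ := HorizPrescribed38.exists_divisor p x (hsf c) U hU hxU a
    (fun h0 => hb0 (by
      have h1 : X.presheaf.germ U₀ x hxU₀ s = 0 := by rw [← hgerm x hxU, h0, map_zero]
      rw [h1, map_zero] at hsb
      exact (mul_eq_zero.mp hsb.symm).resolve_right ((htu.map (ι.stalkMap c).hom).ne_zero)))
    hanu (fun z hz hzs hnu => by
      obtain ⟨j, hj⟩ := hcomp z hzs
      obtain rfl : j = i := by_contra fun h => (hUsub hz).2.1 (Set.mem_biUnion (show j ∈ {j | j ≠ i} from h) hj)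
      obtain ⟨e, rfl⟩ := hj
      have he : e ∈ Zs := subset_closure ⟨(hUsub hz).1, fun hb' => hnu (by
        rw [hgerm]
        refine (isUnit_map_iff (ι.stalkMap e).hom _).mp ?_
        rw [← hgermE e (hUU₀ hz)]
        exact (Scheme.mem_basicOpen _ _ _ _).mp hb')⟩
      by_contra hne
      exact (hUsub hz).2.2 ⟨e, ⟨he, fun h => hne (congrArg ι h)⟩, rfl⟩)
  haveI := hd
  let I : (Over.mk p).left.IdealSheafData := d.ker
  have hIs : (I.support : Set (Over.mk p).left) = Set.range d.base := by
    show ((d.ker).support : Set X) = _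
    rw [Scheme.Hom.support_ker, d.isClosedEmbedding.isClosed_range.closure_eq]
  obtain ⟨L, hLinv, ⟨eL⟩⟩ := PicLaw.exists_inverse
    (IdealSh.IdealMod.isInvertible_of_isEffCartierIdeal (X := (Over.mk p).left) I hcart)
  have hL : ClSub.IsInverseOf L (ClSub.idealMod I) := ⟨ProjTwist.tensComm _ _ ≪≫ eL⟩
  have honly : ∀ z ∈ (I.support : Set (Over.mk p).left), p z = IsLocalRing.closedPoint R → z = x := fun z hz hzs =>
    hsupp.le ⟨hIs.le hz, hzs⟩
  have hgen : ∀ j, Models.genPtOf R (Over.mk p) (Γ j) ∉ (I.support : Set (Over.mk p).left) := fun j hmem => by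
    have h1 := honly _ hmem ((hΓ.2 ▸ ⟨j, rfl⟩ :
      Set.range (Γ j).ι.base ∈ Models.fibreComponents R (Over.mk p)).1.2 ⟨_, rfl⟩)
    by_cases hji : j = i
    · subst hji
      exact hcη (ι.isClosedEmbedding.injective h1).symm
    · exact hcV.2 (Set.mem_biUnion (show j ∈ {j | j ≠ i} from hji) ⟨_, h1⟩)
  refine ⟨L, hLinv, fun j => ?_⟩
  split_ifs with hji
  swap
  · refine ((VertInter.inter_nonneg (X := Over.mk p) (Γ j) hcart (hgen j) hL).2).mpr ?_
    rw [Set.disjoint_left]
    intro z hz hzI
    have hzs := (hΓ.2 ▸ ⟨j, rfl⟩ : Set.range (Γ j).ι.base ∈ Models.fibreComponents R (Over.mk p)).1.2 hz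
    exact hcV.2 (Set.mem_biUnion (show j ∈ {j | j ≠ i} from hji) (Eq.subst (motive := fun w => w ∈ Set.range (Γ j).ι.base) (honly z hzI hzs) hz))
  rw [hji, VertInter.inter_eq_lengthH (X := Over.mk p) (Γ i) hcart (hgen i) hL]
  let J : (Over.mk p).left.IdealSheafData := I ⊔ (Γ i).ι.ker
  have hJs : (J.support : Set (Over.mk p).left) = {x} := by
    show (((d.ker ⊔ ι.ker).support : Closeds X) : Set X) = {x}
    rw [Scheme.IdealSheafData.support_sup, Closeds.coe_inf, Scheme.Hom.support_ker ι,
      ι.isClosedEmbedding.isClosed_range.closure_eq]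
    refine Set.Subset.antisymm ?_ ?_
    · intro z hz
      obtain ⟨hzI, e, he⟩ := hz
      exact honly z hzI ((congrArg p he).symm.trans (hsf e))
    rintro _ rfl
    exact ⟨hIs.ge (hsupp.ge rfl).1, ⟨c, rfl⟩⟩
  obtain ⟨y, hy⟩ : x ∈ Set.range J.subschemeι := by
    rw [Scheme.IdealSheafData.range_subschemeι, hJs]; rfl
  haveI : Subsingleton J.subscheme := ⟨fun u v => J.subschemeι.isClosedEmbedding.injective (by
    have hu : ∀ w, J.subschemeι w = x := fun w => by
      have := (Scheme.IdealSheafData.range_subschemeι J).le ⟨w, rfl⟩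
      rw [hJs] at this
      exact this
    rw [hu u, hu v])⟩
  have hstalk : IsField (J.subscheme.presheaf.stalk y) := by
    let π : X.presheaf.stalk (ι c) ⟶ J.subscheme.presheaf.stalk y :=
      X.presheaf.stalkSpecializes (specializes_of_eq hy : J.subschemeι y ⤳ x) ≫ J.subschemeι.stalkMap y
    have hsurj : Function.Surjective π := by
      haveI : IsIso (X.presheaf.stalkSpecializes (specializes_of_eq hy : J.subschemeι y ⤳ x)) := by
        have : ∀ {u v : X} (h : u ⤳ v), u = v → IsIso (X.presheaf.stalkSpecializes h) := by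
          intro u v h huv; subst huv; rw [TopCat.Presheaf.stalkSpecializes_refl]; infer_instance
        exact this _ hy
      intro z
      obtain ⟨w, rfl⟩ := J.subschemeι.stalkMap_surjective y z
      obtain ⟨v, rfl⟩ := (ConcreteCategory.bijective_of_isIso
        (X.presheaf.stalkSpecializes (specializes_of_eq hy : J.subschemeι y ⤳ x))).2 w
      exact ⟨v, rfl⟩
    have hkill : ∀ (W : X.affineOpens) (hW : x ∈ W.1) (r : Γ(X, W.1)), r ∈ J.ideal W →
        π (X.presheaf.germ W.1 x hW r) = 0 := fun W hW r hr => by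
      show J.subschemeι.stalkMap y (X.presheaf.stalkSpecializes _ (X.presheaf.germ W.1 x hW r)) = 0
      rw [TopCat.Presheaf.germ_stalkSpecializes_apply]
      erw [Scheme.Hom.germ_stalkMap_apply]
      have h1 : r ∈ J.subschemeι.ker.ideal W := by rw [Scheme.IdealSheafData.ker_subschemeι]; exact hr
      rw [Scheme.Hom.ker_apply] at h1
      exact (congrArg _ (h1 : J.subschemeι.app W.1 r = 0)).trans (map_zero _)
    have h2 : IntMult.stalkIdeal ι.ker (ι c) ≤ RingHom.ker π.hom := by
      refine iSup₂_le fun W hW => Ideal.map_le_iff_le_comap.mpr fun r hr => ?_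
      exact hkill W hW r ((le_sup_right : ι.ker ≤ d.ker ⊔ ι.ker) W hr)
    have hmax : IsLocalRing.maximalIdeal (X.presheaf.stalk (ι c)) ≤ RingHom.ker π.hom := by
      intro m hm
      obtain ⟨r, hr⟩ := Ideal.mem_span_singleton.mp (hb.le (show ι.stalkMap c m ∈ IsLocalRing.maximalIdeal B from
        fun hu => hm ((isUnit_map_iff (ι.stalkMap c).hom m).mp hu)))
      obtain ⟨r₀, rfl⟩ := ι.stalkMap_surjective c r
      have h3 : m - a₀ * r₀ ∈ IntMult.stalkIdeal ι.ker (ι c) := by
        rw [S3313.stalkIdeal_ker ι ((genericPoint_specializes c).map ι.continuous)]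
        show ¬ IsUnit _
        intro hu
        have h4 : ι.stalkMap c (m - a₀ * r₀) = 0 := by rw [map_sub, map_mul, ha₀, hr, sub_self]
        have h5 := hu.map (ι.stalkMap (genericPoint E.left)).hom
        rw [Scheme.Hom.stalkSpecializes_stalkMap_apply ι _ _ (genericPoint_specializes c), h4, map_zero] at h5
        exact not_isUnit_zero h5
      have h6 : π a₀ = 0 := by
        have h7 := hkill V hxV (X.presheaf.map (homOfLE hVU).op a)
          ((le_sup_left : d.ker ≤ d.ker ⊔ ι.ker) V (hVe ▸ Ideal.mem_span_singleton_self _))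
        rw [X.presheaf.germ_res_apply, hgerm, ← hst', map_mul] at h7
        exact (htu.map π.hom).mul_left_eq_zero.mp h7
      have h8 : π m - π a₀ * π r₀ = 0 := by rw [← map_mul, ← map_sub]; exact h2 h3
      rw [h6, zero_mul, sub_zero] at h8
      exact h8
    refine { exists_pair_ne := exists_pair_ne _, mul_comm := mul_comm, mul_inv_cancel := fun {z} hz => ?_ }
    obtain ⟨z, rfl⟩ := hsurj z
    obtain ⟨u, hu⟩ := (show IsUnit z from not_not.mp fun h => hz (hmax h)).map π.hom
    exact ⟨(u⁻¹ : _ˣ), by rw [← hu]; exact u.mul_inv⟩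
  haveI : IsReduced J.subscheme := by
    haveI : ∀ z : J.subscheme, _root_.IsReduced (J.subscheme.presheaf.stalk z) := fun z => by
      rw [Subsingleton.elim z y]
      letI := hstalk.toField
      infer_instance
    exact isReduced_of_isReduced_stalk _
  haveI : Nonempty J.subscheme := ⟨y⟩
  haveI : IrreducibleSpace J.subscheme := { toPreirreducibleSpace := ⟨Set.subsingleton_of_subsingleton.isPreirreducible⟩, toNonempty := ⟨y⟩ }
  haveI : IsIntegral J.subscheme := isIntegral_of_irreducibleSpace_of_isReduced _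
  rw [VertInter.lengthH_zero_eq_one (X := Over.mk p) (isField_of_isIntegral_of_subsingleton J.subscheme)
    (x := x) (hJs.ge rfl) ?_]
  · rfl
  -- rationality
  intro z
  have hbij : Function.Bijective (ι.residueFieldMap c).hom := by
    refine ⟨(ι.residueFieldMap c).hom.injective, fun w => ?_⟩
    obtain ⟨w, rfl⟩ := E.left.residue_surjective c w
    obtain ⟨w', rfl⟩ := ι.stalkMap_surjective c w
    exact ⟨X.residue (ι c) w', ConcreteCategory.congr_hom (Scheme.residue_residueFieldMap ι c) w'⟩
  obtain ⟨q, hq⟩ := StrictSSLib.residue_surjective_of_isClosed E.hom hcc' (ι.residueFieldMap c z)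
  obtain ⟨r, rfl⟩ := IsLocalRing.residue_surjective q
  refine ⟨r, hbij.1 ?_⟩
  refine Eq.trans ?_ hq
  refine (ConcreteCategory.congr_hom (Scheme.residue_residueFieldMap ι c)
    (Models.stalkHom R (Over.mk p) x r)).trans ?_
  refine congrArg (E.left.residue c) ?_
  refine (ι.germ_stalkMap_apply ⊤ c trivial _).trans ?_
  exact congrArg (E.left.presheaf.germ ⊤ c trivial) (S7915.toGlobal_square _ ι p E.hom (Γ i).w r)

end Groth.Agent.S19553
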