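import Groth.Statements.S2171
import Groth.Agent.NumType.QForm
import Mathlib.Tactic

set_option autoImplicit false
open Finset
open Models

namespace Groth.Agent.S2171

/-- Let A be a symmetric real n by n matrix with non-negative off-diagonal entries, m a vector with
positive entries such that A m = 0, and assume no proper non-empty index set I has A i j = 0 for all
i in I and j outside I. Then x^t A x is at most 0 for every real vector x, with equality exactly
when x is a real multiple of m. -/
theorem result {n : ℕ} (A : Matrix (Fin n) (Fin n) ℝ)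
    (m : Fin n → ℝ) (hsymm : A.IsSymm) (hA : ∀ i j, i ≠ j → 0 ≤ A i j) (hm : ∀ i, 0 < m i)
    (hAm : A.mulVec m = 0)
    (hconn : ∀ I : Finset (Fin n), I.Nonempty → I ≠ univ → ∃ i ∈ I, ∃ j ∉ I, A i j ≠ 0)
    (x : Fin n → ℝ) :
    dotProduct x (A.mulVec x) ≤ 0 ∧ (dotProduct x (A.mulVec x) = 0 ↔ ∃ q : ℝ, x = q • m) := by
  have hle : ∀ i, A.mulVec m i ≤ 0 := fun i => by simp [hAm]
  set y : Fin n → ℝ := fun i => x i / m i with hy
  have hx : (fun i => m i * y i) = x := funext fun i => by
    rw [hy]; field_simp [(hm i).ne']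
  have e : dotProduct x (A.mulVec x) = ∑ i, (m i * y i) * A.mulVec (fun j => m j * y j) i := by
    rw [hx]; simp only [congrFun hx, dotProduct]
  refine ⟨e ▸ NumType.QForm.quad_nonpos A m hsymm hA hm hle y, fun h => ?_, ?_⟩
  · have h' := (NumType.QForm.quad_eq_zero A m hsymm hA hm hle y (e ▸ h)).2
    rcases Nat.eq_zero_or_pos n with rfl | hn
    · exact ⟨0, Subsingleton.elim _ _⟩
    refine ⟨y ⟨0, hn⟩, funext fun i => ?_⟩
    rw [← congrFun hx i, NumType.QForm.const_of_connected A hconn y h' i ⟨0, hn⟩]
    simp [mul_comm]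
  · rintro ⟨q, rfl⟩
    simp [Matrix.mulVec_smul, hAm]

end Groth.Agent.S2171
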