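import Groth.Statements.S3320
import Groth.Agent.VertInter.List
import Groth.Agent.VertInter.Global
import Groth.Agent.S2171

set_option autoImplicit false
universe u
open CategoryTheory CategoryTheory.Limits AlgebraicGeometry
open Models

namespace Groth.Agent.S3320

/-- The intersection form: negative semidefinite with kernel spanned by the multiplicities. -/
theorem form {R : Type u} [CommRing R] [IsDomain R] [IsDiscreteValuationRing R] {Y : Scheme.{u}}
    (p : Y ⟶ Spec (CommRingCat.of R)) [IsProper p] [Flat p] (hreg : Models.IsRegularScheme Y) {n : ℕ}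
    (Δ : Fin n → ArSurf.VertComp R (Over.mk p)) (hΔ : Models.IsComponentList R (Over.mk p) Δ)
    (hconn : _root_.IsPreconnected (Models.specialFibreSet R (Over.mk p))) (L : Fin n → Y.Modules)
    (hL : ∀ i, ClSub.IsInverseOf (L i) (ClSub.idealMod (Δ i).ι.ker)) (a : Fin n → ℤ) :
    (∑ q : Fin n × Fin n, a q.1 * a q.2 * ArSurf.inter R (Over.mk p) (L q.2) (Δ q.1)) ≤ 0 ∧
      ((∑ q : Fin n × Fin n, a q.1 * a q.2 * ArSurf.inter R (Over.mk p) (L q.2) (Δ q.1)) = 0 ↔
        ∃ c : ℚ, ∀ i, (a i : ℚ) = c * (Models.mult R (Over.mk p) (Δ i) : ℚ)) := by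
  let A : Matrix (Fin n) (Fin n) ℝ := fun i j => (ArSurf.inter R (Over.mk p) (L j) (Δ i) : ℝ)
  let m : Fin n → ℝ := fun i => (Models.mult R (Over.mk p) (Δ i) : ℝ)
  let x : Fin n → ℝ := fun i => (a i : ℝ)
  have hm1 := VertInter.one_le_mult hΔ hreg
  have hAm : A.mulVec m = 0 := funext fun i => by
    have h := congrArg (fun z : ℤ => (z : ℝ)) (VertInter.sum_mult_eq_zero p hreg Δ hΔ L hL (Δ i))
    simp only [Matrix.mulVec, dotProduct, A, m, Pi.zero_apply]
    push_cast at h
    exact (Finset.sum_congr rfl fun j _ => mul_comm _ _).trans h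
  obtain ⟨h1, h2⟩ := S2171.result A m
    (Matrix.IsSymm.ext fun i j => congrArg (fun z : ℤ => (z : ℝ))
      (VertInter.inter_symm_list hΔ hreg L hL j i))
    (fun i j hij => Int.cast_nonneg (VertInter.inter_offDiag hΔ hreg L hL hij).1)
    (fun i => Nat.cast_pos.mpr (hm1 i)) hAm
    (fun I hI hI' => by
      obtain ⟨i, hi, j, hj, h⟩ := VertInter.inter_connected hΔ hreg L hL hconn I hI hI'
      exact ⟨i, hi, j, hj, Int.cast_ne_zero.mpr h⟩) x
  have hS : dotProduct x (A.mulVec x) =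
      ((∑ q : Fin n × Fin n, a q.1 * a q.2 * ArSurf.inter R (Over.mk p) (L q.2) (Δ q.1) : ℤ) : ℝ) := by
    simp only [dotProduct, Matrix.mulVec, Finset.mul_sum, A, x]
    push_cast
    rw [Fintype.sum_prod_type]
    exact Finset.sum_congr rfl fun i _ => Finset.sum_congr rfl fun j _ => by ring
  rw [hS] at h1 h2
  refine ⟨by exact_mod_cast h1, ⟨fun h => ?_, fun ⟨c, hc⟩ => ?_⟩⟩
  · obtain ⟨q, hq⟩ := h2.mp (by rw [h]; simp)
    rcases isEmpty_or_nonempty (Fin n) with hn | ⟨⟨i₀⟩⟩
    · exact ⟨0, fun i => (IsEmpty.false i).elim⟩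
    refine ⟨(a i₀ : ℚ) / (Models.mult R (Over.mk p) (Δ i₀) : ℚ), fun i => ?_⟩
    have e0 : (a i₀ : ℝ) = q * (Models.mult R (Over.mk p) (Δ i₀) : ℝ) := congrFun hq i₀
    have ei : (a i : ℝ) = q * (Models.mult R (Over.mk p) (Δ i) : ℝ) := congrFun hq i
    have hz : (Models.mult R (Over.mk p) (Δ i₀) : ℚ) ≠ 0 := by
      exact_mod_cast (Nat.pos_iff_ne_zero.mp (hm1 i₀))
    rw [div_mul_eq_mul_div, eq_div_iff hz]
    have hr : (a i : ℝ) * (Models.mult R (Over.mk p) (Δ i₀) : ℝ) =
        (a i₀ : ℝ) * (Models.mult R (Over.mk p) (Δ i) : ℝ) := by rw [e0, ei]; ring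
    exact_mod_cast hr
  · have h := h2.mpr ⟨(c : ℝ), funext fun i => by
      have := congrArg (fun z : ℚ => (z : ℝ)) (hc i)
      simpa [x, m] using this⟩
    exact_mod_cast h

/-- In the following situation (R a discrete valuation ring, C a smooth proper curve over its fraction
field with H^0(C, O_C) = K, X a regular proper model, Γ_1, …, Γ_n the irreducible components of the
closed fibre with multiplicities m_i, L_j ⊗ I(Γ_j) ≅ O_X), for every integer vector a one has
Σ_{i,j} a_i a_j (Γ_i · Γ_j) ≤ 0, with equality if and only if a is a rational multiple of (m_1, …,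
m_n). -/
theorem result (R : Type u) [CommRing R] [IsDomain R] [IsDiscreteValuationRing R]
    (C X : Scheme.{u}) (f : C ⟶ Spec (CommRingCat.of (FractionRing R))) (p : X ⟶ Spec (CommRingCat.of R))
    (hC : Curve.IsSmoothProperCurve (FractionRing R) C f) (hH0 : IsIso f.appTop)
    (hX : Models.IsRegularProperModel R X p C f)
    {n : ℕ} (Γ : Fin n → ArSurf.VertComp R (Over.mk p)) (hΓ : Models.IsComponentList R (Over.mk p) Γ)
    (L : Fin n → X.Modules) (hL : ∀ i, ClSub.IsInverseOf (L i) (ClSub.idealMod (Γ i).ι.ker)) (a : Fin n → ℤ) :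
    (∑ q : Fin n × Fin n, a q.1 * a q.2 * ArSurf.inter R (Over.mk p) (L q.2) (Γ q.1)) ≤ 0 ∧
      ((∑ q : Fin n × Fin n, a q.1 * a q.2 * ArSurf.inter R (Over.mk p) (L q.2) (Γ q.1)) = 0 ↔
        ∃ c : ℚ, ∀ i, (a i : ℚ) = c * (Models.mult R (Over.mk p) (Γ i) : ℚ)) := by
  haveI : Flat p := hX.1.1
  haveI : IsProper p := hX.2.1
  obtain ⟨g, hg⟩ := hX.1.2.2.2
  haveI : IsProper (Over.mk p).hom := hX.2.1
  haveI : Flat (Over.mk p).hom := hX.1.1
  haveI := VertInter.preconnectedSpace_fiber (X := Over.mk p)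
    (VertInter.toGlobal_bijective (X := Over.mk p) hg hH0).2
  refine form p hX.2.2 Γ hΓ ?_ L hL a
  have h := (isPreconnected_range ((Over.mk p).hom.fiberι (IsLocalRing.closedPoint R)).continuous)
  have e := Scheme.Hom.range_fiberι (Over.mk p).hom (IsLocalRing.closedPoint R)
  rw [e] at h
  exact h

end Groth.Agent.S3320
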