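import Groth.Statements.S3314
import Groth.Agent.VertInter.Twist

set_option autoImplicit false
universe u
open CategoryTheory CategoryTheory.Limits AlgebraicGeometry
open Models

namespace Groth.Agent.S3314

/-- Let R be a discrete valuation ring with fraction field K, C a smooth proper curve over K with H⁰(C,
O_C) = K, X a regular proper model of C over R, Γ_1, …, Γ_n the irreducible components of the closed
fibre with multiplicities m_i, and L_i invertible O_X-modules with L_i ⊗ I(Γ_i) ≅ O_X (that is, L_i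
= O_X(Γ_i)). For exponent vectors a, b with natural-number entries, the modules L_1^{a_1} ⊗ ⋯ ⊗
L_n^{a_n} and L_1^{b_1} ⊗ ⋯ ⊗ L_n^{b_n} are isomorphic if and only if a − b is an integer multiple
of (m_1, …, m_n). (Equivalently: the kernel of ℤⁿ → Pic(X), e_i ↦ [O_X(Γ_i)], is generated by (m_1,
…, m_n).) -/
theorem result (R : Type u) [CommRing R] [IsDomain R] [IsDiscreteValuationRing R]
    (C X : Scheme.{u}) (f : C ⟶ Spec (CommRingCat.of (FractionRing R))) (p : X ⟶ Spec (CommRingCat.of R))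
    (hC : Curve.IsSmoothProperCurve (FractionRing R) C f) (hH0 : IsIso f.appTop)
    (hX : Models.IsRegularProperModel R X p C f)
    {n : ℕ} (Γ : Fin n → ArSurf.VertComp R (Over.mk p)) (hΓ : Models.IsComponentList R (Over.mk p) Γ)
    (L : Fin n → X.Modules) (hL : ∀ i, ClSub.IsInverseOf (L i) (ClSub.idealMod (Γ i).ι.ker)) (a b : Fin n → ℕ) :
    Nonempty (FGA.multiTwist L a ≅ FGA.multiTwist L b) ↔
      ∃ c : ℤ, ∀ i, (a i : ℤ) - (b i : ℤ) = c * (Models.mult R (Over.mk p) (Γ i) : ℤ) := by
  haveI : Flat p := hX.1.1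
  haveI : IsProper p := hX.2.1
  haveI : Flat (Over.mk p).hom := hX.1.1
  haveI : IsProper (Over.mk p).hom := hX.2.1
  haveI : IsLocallyNoetherian (Over.mk p).left := LocallyOfFiniteType.isLocallyNoetherian p
  obtain ⟨g, hg⟩ := hX.1.2.2.2
  haveI : IsIntegral C := hC.2.2.1
  haveI : Nonempty (Over.mk p).left := ⟨g (Classical.arbitrary C)⟩
  obtain ⟨hcart, heq⟩ := S3313.eq_prod p hX.1.1 inferInstance hX.2.2 Γ hΓ
  let m := fun i => Models.mult R (Over.mk p) (Γ i)
  have hinv : ∀ i, VertInter.IsInv (X := (Over.mk p).left) (L i) (Γ i).ι.ker := fun i =>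
    ⟨VertInter.isInvertible_inverse (hcart i) (hL i), hL i⟩
  have hP := fun a : Fin n → ℕ => VertInter.inv_multiTwist (X := (Over.mk p).left) L _ hcart hinv a
  have hfib : ∀ c : ℕ, ∏ i, (Γ i).ι.ker ^ (c * m i) = Models.specialFibreIdeal R (Over.mk p) ^ c :=
    fun c => by
      rw [heq, ← Finset.prod_pow]
      exact Finset.prod_congr rfl fun i _ => by rw [mul_comm, pow_mul]
  have shift : ∀ (a b : Fin n → ℕ) (c : ℕ), (∀ i, a i = b i + c * m i) →
      Nonempty (FGA.multiTwist L a ≅ FGA.multiTwist L b) := by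
    intro a b c h
    have hprod : ∏ i, (Γ i).ι.ker ^ a i = (∏ i, (Γ i).ι.ker ^ b i) * Models.specialFibreIdeal R (Over.mk p) ^ c := by
      rw [← hfib c, ← Finset.prod_mul_distrib]
      exact Finset.prod_congr rfl fun i _ => by rw [← pow_add, h i]
    have h1 := VertInter.inv_mul (hP b).1 (IdealSh.EffCartier.pow (S3313.isEffCartier_fibre (Over.mk p)) c)
      (hP b).2 (VertInter.inv_fibre_pow c)
    rw [← hprod] at h1
    obtain ⟨e⟩ := VertInter.inv_unique (hP a).2 h1
    exact ⟨e ≪≫ ProjTwist.tensOne _⟩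
  constructor
  · rintro ⟨e⟩
    obtain ⟨N, hN⟩ : ∃ N : ℕ, ∀ i, b i ≤ a i + N * m i := by
      refine ⟨∑ i, b i, fun i => ?_⟩
      calc b i ≤ ∑ j, b j := Finset.single_le_sum (fun _ _ => Nat.zero_le _) (Finset.mem_univ i)
        _ ≤ (∑ j, b j) * m i := Nat.le_mul_of_pos_right _ (VertInter.one_le_mult hΓ hX.2.2 i)
        _ ≤ a i + (∑ j, b j) * m i := Nat.le_add_left _ _
    let a' := fun i => a i + N * m i
    let d := fun i => a' i - b i
    obtain ⟨e'⟩ := shift a' a N fun i => rfl
    have hprod : ∏ i, (Γ i).ι.ker ^ a' i = (∏ i, (Γ i).ι.ker ^ b i) * ∏ i, (Γ i).ι.ker ^ d i := by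
      rw [← Finset.prod_mul_distrib]
      exact Finset.prod_congr rfl fun i _ => by rw [← pow_add, Nat.add_sub_cancel' (hN i)]
    obtain ⟨u⟩ := VertInter.ideal_iso_of_mul (hP b).1 (hP d).1 (hprod ▸ (hP a').2) (hP b).2 (e' ≪≫ e)
    obtain ⟨v, hv⟩ := VertInter.eq_fibre_pow (VertInter.toGlobal_bijective (X := Over.mk p) hg hH0).2 (hP d).1 u
    rw [← hfib v] at hv
    have hd := VertInter.exponents_unique hX.2.2 hΓ hv
    refine ⟨(v : ℤ) - N, fun i => ?_⟩
    have h1 : a i + N * m i - b i = v * m i := congrFun hd i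
    have h2 : a i + N * m i = v * m i + b i := by have := hN i; omega
    have h3 : (a i : ℤ) + N * m i = v * m i + b i := by exact_mod_cast h2
    show _ = ((v : ℤ) - N) * (m i : ℤ)
    linear_combination h3
  · rintro ⟨c, hc⟩
    obtain ⟨k, rfl | rfl⟩ := c.eq_nat_or_neg
    · exact shift a b k fun i => by
        have h1 : (a i : ℤ) = b i + k * m i := by linear_combination hc i
        exact_mod_cast h1
    · obtain ⟨e⟩ := shift b a k fun i => by
        have h1 : (b i : ℤ) = a i + k * m i := by linear_combination -(hc i)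
        exact_mod_cast h1
      exact ⟨e.symm⟩

end Groth.Agent.S3314
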