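import Groth.Statements.S3315
import Groth.Agent.VertInter.Section

set_option autoImplicit false
universe u
open CategoryTheory CategoryTheory.Limits AlgebraicGeometry
open Models

namespace Groth.Agent.S3315

/-- Let R be a discrete valuation ring with fraction field K, C a smooth proper curve over K with H^0(C,
O_C) = K, X a regular proper model of C with generic-fibre inclusion g : C → X, Γ_1, …, Γ_n the
irreducible components of the closed fibre and L_i ⊗ I(Γ_i) ≅ O_X. If M is an invertible O_X-module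
whose pullback to C is trivial, then there are natural numbers a_i, b_i with M ⊗ L_1^{a_1} ⊗ ⋯ ⊗
L_n^{a_n} ≅ L_1^{b_1} ⊗ ⋯ ⊗ L_n^{b_n}, i.e. M ≅ O_X(Σ (b_i - a_i) Γ_i). -/
theorem result (R : Type u) [CommRing R] [IsDomain R] [IsDiscreteValuationRing R]
    (C X : Scheme.{u}) (f : C ⟶ Spec (CommRingCat.of (FractionRing R))) (p : X ⟶ Spec (CommRingCat.of R))
    (hC : Curve.IsSmoothProperCurve (FractionRing R) C f) (hH0 : IsIso f.appTop)
    (hX : Models.IsRegularProperModel R X p C f)
    {n : ℕ} (Γ : Fin n → ArSurf.VertComp R (Over.mk p)) (hΓ : Models.IsComponentList R (Over.mk p) Γ)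
    (g : C ⟶ X) (hg : IsPullback g f p (Spec.map (CommRingCat.ofHom (algebraMap R (FractionRing R)))))
    (L : Fin n → X.Modules) (hL : ∀ i, ClSub.IsInverseOf (L i) (ClSub.idealMod (Γ i).ι.ker)) (M : X.Modules) (hM : PicF.IsInvertible M)
    (htriv : Nonempty ((Scheme.Modules.pullback g).obj M ≅ Coh.structureModule C)) :
    ∃ a b : Fin n → ℕ, Nonempty (CohB1.tensorMod M (FGA.multiTwist L a) ≅ FGA.multiTwist L b) := by
  open Groth.Agent.QCoh Groth.Agent.Props.GenLocus TopologicalSpace in
  haveI : Flat p := hX.1.1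
  haveI : IsProper p := hX.2.1
  haveI : Flat (Over.mk p).hom := hX.1.1
  haveI : IsProper (Over.mk p).hom := hX.2.1
  haveI : IsLocallyNoetherian (Over.mk p).left := LocallyOfFiniteType.isLocallyNoetherian p
  haveI : IsLocallyNoetherian X := LocallyOfFiniteType.isLocallyNoetherian p
  haveI : CompactSpace X := QuasiCompact.compactSpace_of_compactSpace p
  haveI : QuasiSeparatedSpace X := inferInstance
  haveI : ∀ x : X, IsDomain (X.presheaf.stalk x) := fun x =>
    haveI : IsRegularLocalRing (X.presheaf.stalk x) := hX.2.2 x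
    RegLoc.isDomain _
  haveI : M.IsQuasicoherent := ProjTwist.isQCoh_of_isInvertible hM
  obtain ⟨hcart, -⟩ := S3313.eq_prod p hX.1.1 inferInstance hX.2.2 Γ hΓ
  obtain ⟨ϖ, hϖ⟩ := IsDiscreteValuationRing.exists_irreducible R
  let t : Γ(X, ⊤) := Coh.toGlobal p ϖ
  let U : X.Opens := X.basicOpen t
  have hU : ∀ x : X, x ∈ U ↔ x ∉ Models.specialFibreSet R (Over.mk p) := fun x => by
    rw [S3313.mem_fibre_iff (Over.mk p) hϖ x, not_not]
    exact Scheme.mem_basicOpen_top (X := X) t x
  haveI := CBC.PicDVR.isOpenImmersion_gen R (FractionRing R)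
  haveI : IsOpenImmersion g := MorphismProperty.of_isPullback (P := @IsOpenImmersion) hg.flip inferInstance
  have hrange : Set.range g = Set.range U.ι := by
    rw [Scheme.Opens.range_ι]
    ext x
    rw [SetLike.mem_coe, hU x]
    exact VertInter.mem_range_iff (X := Over.mk p) hg x
  let l : (U : Scheme.{u}) ⟶ C := IsOpenImmersion.lift g U.ι hrange.ge
  have hl : U.ι = l ≫ g := (IsOpenImmersion.lift_fac g U.ι hrange.ge).symm
  obtain ⟨φ⟩ : Nonempty (M.restrict U.ι ≅ Coh.structureModule (U : Scheme.{u})) :=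
    ⟨(Scheme.Modules.restrictFunctorIsoPullback U.ι).app M ≪≫ (Scheme.Modules.pullbackCongr hl).app M ≪≫
      ((Scheme.Modules.pullbackComp l g).app M).symm ≪≫ (Scheme.Modules.pullback l).mapIso htriv.some ≪≫
      QCoh.pullbackUnitIso l⟩
  obtain ⟨e, he⟩ := LFFrame.exists_isFrame_of_split (M := M) (fun _ : Fin 1 => φ.inv)
    (fun _ => φ.hom) (fun i j => by simp [Subsingleton.elim i j]) (by simp)
  have hgen : IsGen M U (e 0) := by
    refine (isGen_iff_isFrame _).mpr ?_
    rwa [show (fun _ : Fin 1 => e 0) = e from funext fun i => by rw [Subsingleton.elim i 0]]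
  obtain ⟨N, σ, hσ⟩ := (QCoh.isLocalizingAt_of_isCompact M (U := ⊤) isCompact_univ t).surj (e 0)
  let s : Coh.structureModule X ⟶ M := homOfSec σ
  have hsec : sec s U = (rres (X.basicOpen_le t) t) ^ N • e 0 := by
    rw [← sec_res s (le_top : U ≤ ⊤), sec_homOfSec, res_res]
    exact hσ
  have hunit : IsUnit ((rres (X.basicOpen_le t) t) ^ N) :=
    (RingedSpace.isUnit_res_basicOpen X.toLocallyRingedSpace.toRingedSpace t).pow N
  have hgenU : U ≤ CohB1.genLocus M s := by
    have h : CohB1.genLocus M s ⊓ U = X.basicOpen ((rres (X.basicOpen_le t) t) ^ N) := genLocus_inf hgen s hsec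
    rw [Scheme.basicOpen_of_isUnit _ hunit] at h
    exact inf_eq_right.mp h
  have hdense : ∀ x : X, ∃ z : X, z ⤳ x ∧ z ∈ CohB1.genLocus M s := by
    intro x
    haveI : IsDomain ((Over.mk p).left.presheaf.stalk x) := ‹∀ x : X, IsDomain (X.presheaf.stalk x)› x
    haveI : (⊥ : Ideal ((Over.mk p).left.presheaf.stalk x)).IsPrime := Ideal.isPrime_bot
    obtain ⟨z, hz, hzq⟩ := CDivLib.exists_genPrime_eq (X := (Over.mk p).left) (x := x) ⊥
    refine ⟨z, hz, hgenU ((hU z).mpr fun hzF => ?_)⟩
    have hmem : stalkHom R (Over.mk p) x ϖ ∈ CDivLib.genPrime hz := by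
      show ¬ IsUnit _
      rw [S3313.stalkHom_specializes (Over.mk p) hz]
      exact (S3313.mem_fibre_iff (Over.mk p) hϖ z).mp hzF
    rw [hzq, Ideal.mem_bot] at hmem
    exact S3313.stalkHom_ne_zero (Over.mk p) hϖ x hmem
  obtain ⟨D, hD, hdisj, hinvD⟩ := VertInter.exists_divisor_of_section hM s hdense
  obtain ⟨b, hb⟩ := VertInter.exists_exponents hX.2.2 hΓ (D := D) hD fun x hx => by
    by_contra hn
    exact Set.disjoint_left.mp hdisj (hgenU ((hU x).mpr hn)) hx
  have hinv : ∀ i, VertInter.IsInv (X := (Over.mk p).left) (L i) (Γ i).ι.ker := fun i =>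
    ⟨VertInter.isInvertible_inverse (hcart i) (hL i), hL i⟩
  have hP := fun a : Fin n → ℕ => VertInter.inv_multiTwist (X := (Over.mk p).left) L _ hcart hinv a
  refine ⟨0, b, ?_⟩
  obtain ⟨e0⟩ : Nonempty (FGA.multiTwist L (0 : Fin n → ℕ) ≅ Coh.structureModule X) := by
    refine VertInter.inv_unique (hP 0).2 ?_
    have h1 := VertInter.inv_one (X := (Over.mk p).left)
    simp only [Pi.zero_apply, pow_zero, Finset.prod_const_one]
    exact h1
  obtain ⟨eb⟩ := VertInter.inv_unique (X := (Over.mk p).left) (hb ▸ hinvD) (hP b).2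
  exact ⟨ProjTwist.tensCongr (Iso.refl M) e0 ≪≫ ProjTwist.tensOne M ≪≫ eb⟩

end Groth.Agent.S3315
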