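import Groth.Statements.S3340
import Groth.Agent.VertInter.Kernel
import Groth.Agent.S3320
-- import your own Groth.Agent.* helpers here

set_option autoImplicit false
universe u
open CategoryTheory CategoryTheory.Limits AlgebraicGeometry
open Models

namespace Groth.Agent.S3340

attribute [local instance] Groth.Agent.PicLaw.law

/-- In the following situation (R a discrete valuation ring, C a smooth proper curve over its fraction
field K with H^0(C, O_C) = K, X a regular proper model with generic-fibre inclusion g, Γ_1, …, Γ_n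
the irreducible components of the closed fibre with multiplicities m_i) let d = gcd(m_1, …, m_n). If
M is an invertible O_X-module whose pullback to C is trivial and whose degree on each Γ_i is zero,
then the d-th tensor power of M is trivial. -/
theorem result (R : Type u) [CommRing R] [IsDomain R] [IsDiscreteValuationRing R]
    (C X : Scheme.{u}) (f : C ⟶ Spec (CommRingCat.of (FractionRing R))) (p : X ⟶ Spec (CommRingCat.of R))
    (hC : Curve.IsSmoothProperCurve (FractionRing R) C f) (hH0 : IsIso f.appTop)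
    (hX : Models.IsRegularProperModel R X p C f)
    {n : ℕ} (Γ : Fin n → ArSurf.VertComp R (Over.mk p)) (hΓ : Models.IsComponentList R (Over.mk p) Γ)
    (g : C ⟶ X) (hg : IsPullback g f p (Spec.map (CommRingCat.ofHom (algebraMap R (FractionRing R))))) (M : X.Modules) (hM : PicF.IsInvertible M)
    (htriv : Nonempty ((Scheme.Modules.pullback g).obj M ≅ Coh.structureModule C))
    (hdeg : ∀ i, ArSurf.inter R (Over.mk p) M (Γ i) = 0) :
    Nonempty (CohB1.tensorPow M (Models.multGcd R (Over.mk p) Γ) ≅ Coh.structureModule X) := by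
  haveI : Flat p := hX.1.1
  haveI : IsProper p := hX.2.1
  haveI : IsProper (Over.mk p).hom := hX.2.1
  haveI : IsLocallyNoetherian (Over.mk p).left := LocallyOfFiniteType.isLocallyNoetherian p
  haveI : IsLocallyNoetherian X := LocallyOfFiniteType.isLocallyNoetherian p
  have hcart := (S3313.eq_prod p hX.1.1 inferInstance hX.2.2 Γ hΓ).1
  have hex : ∀ i, ∃ L : X.Modules, ClSub.IsInverseOf L (ClSub.idealMod (Γ i).ι.ker) := fun i => by
    obtain ⟨L', -, e⟩ := PicLaw.exists_inverse
      (IdealSh.IdealMod.isInvertible_of_isEffCartierIdeal (X := (Over.mk p).left) (Γ i).ι.ker (hcart i))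
    exact ⟨L', ⟨ProjTwist.tensComm _ _ ≪≫ e.some⟩⟩
  choose L hL using hex
  have hLi := VertInter.model_invertible hX hΓ L hL
  obtain ⟨v, hv⟩ := VertInter.exists_E_of_trivial hC hH0 hX hΓ hg L hL hM htriv
  have hdv : ∀ i, ∑ j, v j * ArSurf.inter R (Over.mk p) (L j) (Γ i) = 0 := fun i => by
    have hO := AmpleLib.isInvertible_tensorPow hM 0
    have h0 : PicGrp.cls (CohB1.tensorPow M 0) hO = 1 := by rw [VertInter.cls_pow hM 0, pow_zero]
    have h1 := VertInter.inter_of_cls (X := Over.mk p) (Γ i) L hLi hM hO v (by rw [h0, one_mul]; exact hv)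
    rw [hdeg i, VertInter.inter_tensorPow (X := Over.mk p) (Γ i) hM] at h1
    simpa using h1.symm
  have hconn : _root_.IsPreconnected (Models.specialFibreSet R (Over.mk p)) := by
    haveI : Flat (Over.mk p).hom := hX.1.1
    haveI := VertInter.preconnectedSpace_fiber (X := Over.mk p)
      (VertInter.toGlobal_bijective (X := Over.mk p) hg hH0).2
    have h1 := (isPreconnected_range ((Over.mk p).hom.fiberι (IsLocalRing.closedPoint R)).continuous)
    have e := Scheme.Hom.range_fiberι (Over.mk p).hom (IsLocalRing.closedPoint R)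
    rw [e] at h1
    exact h1
  obtain ⟨q, hq⟩ := (S3320.form p hX.2.2 Γ hΓ hconn L hL v).2.mp (by
    rw [Fintype.sum_prod_type]
    refine Finset.sum_eq_zero fun i _ => ?_
    calc ∑ j, v i * v j * ArSurf.inter R (Over.mk p) (L j) (Γ i)
        = v i * ∑ j, v j * ArSurf.inter R (Over.mk p) (L j) (Γ i) := by
          rw [Finset.mul_sum]; exact Finset.sum_congr rfl fun j _ => mul_assoc _ _ _
      _ = 0 := by rw [hdv i, mul_zero])
  set d := Models.multGcd R (Over.mk p) Γ with hd
  have hden : ∀ i, q.den ∣ Models.mult R (Over.mk p) (Γ i) := fun i => by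
    have h1 : (q.den : ℤ) * v i = q.num * (Models.mult R (Over.mk p) (Γ i) : ℤ) := by
      have h2 : ((q.den : ℤ) * v i : ℚ) = (q.num * (Models.mult R (Over.mk p) (Γ i) : ℤ) : ℚ) := by
        push_cast
        rw [hq i, ← mul_assoc, Rat.den_mul_eq_num]
      exact_mod_cast h2
    have h3 : (q.den : ℤ) ∣ q.num * (Models.mult R (Over.mk p) (Γ i) : ℤ) := ⟨_, h1.symm⟩
    have h4 := Int.natCast_dvd.mp h3
    rw [Int.natAbs_mul, Int.natAbs_natCast] at h4
    exact (q.reduced.symm).dvd_of_dvd_mul_left h4
  obtain ⟨t, ht⟩ : q.den ∣ d := Finset.dvd_gcd fun i _ => hden i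
  have hwd : ∀ i, (d : ℤ) * v i = q.num * t * (Models.mult R (Over.mk p) (Γ i) : ℤ) := fun i => by
    have h2 : ((d : ℤ) * v i : ℚ) = (q.num * t * (Models.mult R (Over.mk p) (Γ i) : ℤ) : ℚ) := by
      rw [ht]; push_cast
      rw [hq i]
      linear_combination (t : ℚ) * (Models.mult R (Over.mk p) (Γ i) : ℚ) * Rat.den_mul_eq_num q
    exact_mod_cast h2
  refine (PicGrp.cls_eq_one_iff (AmpleLib.isInvertible_tensorPow hM d)).mp ?_
  rw [VertInter.cls_pow hM d, hv]
  have : VertInter.E L hLi v ^ d = VertInter.E L hLi (fun i => (d : ℤ) * v i) := by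
    rw [VertInter.E_mul, zpow_natCast]
  rw [this, VertInter.E_eq_one_iff hC hH0 hX hΓ L hL]
  exact ⟨q.num * t, hwd⟩

end Groth.Agent.S3340
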