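import Groth.Statements.S15406
import Groth.Agent.S19553
import Groth.Agent.S3340
import Groth.Agent.S0403
import Groth.Agent.S0234
import Groth.Agent.S2821
import Groth.Agent.S0458
import Groth.Agent.CBC.PicDVR
import Groth.Agent.VertInter.Kernel
import Groth.Agent.PicLaw.Calc

set_option autoImplicit false
set_option linter.style.haveILetI false
set_option linter.unusedVariables false
set_option backward.isDefEq.respectTransparency false
set_option backward.isDefEq.respectTransparency.types false
universe u
open CategoryTheory CategoryTheory.Limits AlgebraicGeometry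
open Models

noncomputable section

namespace Groth.Agent.S15406

open TopologicalSpace
open Groth.Agent.PicLaw (pullMul)
open scoped Groth.Agent.PicLaw

/-- A finite-dimensional space of functions of rank one is the base field. -/
theorem isIso_appTop_of_rank {K : Type u} [Field K] {C : Scheme.{u}} (fC : C ⟶ Spec (CommRingCat.of K))
    (hC0 : Models.hRank K C fC (Coh.structureModule C) 0 = 1) : IsIso fC.appTop := by
  letI : C.Over (Spec (CommRingCat.of K)) := ⟨fC⟩
  have h1 : Module.finrank K (Coh.HH C (Coh.structureModule C) 0) = 1 := hC0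
  haveI : Nontrivial (Coh.HH C (Coh.structureModule C) 0) := Module.nontrivial_of_finrank_eq_succ h1
  let e := ProperFin.h0Sec (Coh.structureModule C)
  haveI : Nontrivial Γ(C, ⊤) := e.toEquiv.symm.nontrivial
  haveI : Nontrivial (Coh.Γtop C) := ‹Nontrivial Γ(C, ⊤)›
  have hK : Function.Bijective (Coh.toGlobal (A := K) fC) := by
    refine ⟨(Coh.toGlobal (A := K) fC).injective, fun b => ?_⟩
    let o : Coh.HH C (Coh.structureModule C) 0 := e.symm (show Γ(C, ⊤) from 1)
    have ho : o ≠ 0 := fun h => one_ne_zero (α := Γ(C, ⊤))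
      ((e.apply_symm_apply (show Γ(C, ⊤) from 1)).symm.trans ((congrArg e h).trans (map_zero e)))
    obtain ⟨r, hr⟩ := exists_smul_eq_of_finrank_eq_one h1 ho (e.symm b)
    refine ⟨r, ?_⟩
    have h2 := congrArg e hr
    rw [e.apply_symm_apply] at h2
    refine Eq.trans ?_ h2
    refine Eq.trans (mul_one _).symm (Eq.trans ?_ (ProperFin.h0Sec_smul (Coh.structureModule C) (Coh.toGlobal fC r) o).symm)
    rw [e.apply_symm_apply]
    rfl
  rw [ConcreteCategory.isIso_iff_bijective]
  exact (Function.Bijective.of_comp_iff _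
    (ConcreteCategory.bijective_of_isIso (Scheme.ΓSpecIso (CommRingCat.of K)).inv)).mp hK

/-- A scheme covered by finitely many closed curves has dimension at most one. -/
theorem dim_le_one_of_cover {T : Scheme.{u}} {ι : Type*} [Finite ι] (E : ι → Scheme.{u})
    (e : ∀ i, E i → T) (he : ∀ i, Topology.IsClosedEmbedding (e i))
    (hE : ∀ i, topologicalKrullDim (E i) ≤ 1) (hcov : ⋃ i, Set.range (e i) = Set.univ) :
    topologicalKrullDim T ≤ 1 := by
  refine iSup_le fun l => ?_
  obtain ⟨i, hi⟩ : ∃ i, (l.last : Set T) ⊆ Set.range (e i) := by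
    haveI := Fintype.ofFinite ι
    classical
    obtain ⟨z, hz, hlz⟩ := isIrreducible_iff_sUnion_isClosed.1 l.last.isIrreducible
      (Finset.univ.image fun i => Set.range (e i))
      (fun z hz => by
        obtain ⟨i, -, rfl⟩ := Finset.mem_image.1 hz
        exact (he i).isClosed_range)
      (fun x _ => by
        obtain ⟨i, hi⟩ := Set.mem_iUnion.1 (hcov.ge (Set.mem_univ x))
        exact Set.mem_sUnion.2 ⟨_, by simp, hi⟩)
    obtain ⟨i, -, rfl⟩ := Finset.mem_image.1 hz
    exact ⟨i, hlz⟩
  have hsub : ∀ j, (l j : Set T) ⊆ Set.range (e i) := fun j =>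
    (show (l j : Set T) ⊆ l.last from l.monotone (Fin.le_last j)).trans hi
  let m : LTSeries (IrreducibleCloseds (E i)) :=
    { length := l.length
      toFun := fun j => ⟨e i ⁻¹' (l j : Set T),
        ⟨by
          obtain ⟨x, hx⟩ := (l j).isIrreducible.1
          obtain ⟨z, rfl⟩ := hsub j hx
          exact ⟨z, hx⟩,
        fun u v hu hv hun hvn => by
          obtain ⟨u', hu', rfl⟩ := (he i).isInducing.isOpen_iff.1 hu
          obtain ⟨v', hv', rfl⟩ := (he i).isInducing.isOpen_iff.1 hv
          obtain ⟨a, ha, hau⟩ := hun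
          obtain ⟨b, hb, hbv⟩ := hvn
          obtain ⟨x, hx, hxu, hxv⟩ := (l j).isIrreducible.2 u' v' hu' hv' ⟨e i a, ha, hau⟩ ⟨e i b, hb, hbv⟩
          obtain ⟨z, rfl⟩ := hsub j hx
          exact ⟨z, hx, hxu, hxv⟩⟩,
        (l j).isClosed.preimage (he i).continuous⟩
      step := fun j => by
        have hlt : l j.castSucc < l j.succ := l.step j
        show (_ : IrreducibleCloseds (E i)) < _
        rw [lt_iff_le_and_ne]
        refine ⟨fun x hx => SetLike.coe_subset_coe.2 hlt.le hx, fun h => hlt.ne ?_⟩
        refine SetLike.coe_injective ?_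
        rw [← Set.image_preimage_eq_of_subset (hsub _), ← Set.image_preimage_eq_of_subset (hsub j.succ)]
        exact congrArg (fun s : IrreducibleCloseds (E i) => e i '' (s : Set (E i))) h }
  exact le_trans (le_of_eq rfl) (le_trans (Order.LTSeries.length_le_krullDim m) (hE i))


/-- Let R be a complete discrete valuation ring with algebraically closed residue field k and fraction
field K, C a smooth proper curve over K with H⁰(C, O_C) = K and dim_K H¹(C, O_C) ≥ 2, and X → Spec R
a regular proper model of C, with g : C → X exhibiting C as the generic fibre. Let Γ₁, …, Γ_n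
enumerate the irreducible components of the closed fibre, with multiplicities of greatest common
divisor 1, and for each i let L_i be an invertible O_X-module inverse to the ideal sheaf of Γ_i (so
that (L_i · Γ_j) is the intersection number Γ_i · Γ_j). Assume the Picard group laws on X and on C
and that pullback of invertible classes along g is multiplicative. Let G be the quotient of ℤⁿ by
the subgroup spanned by the vectors ((L_i · Γ_j))_j, i = 1, …, n. Then: (a) an invertible O_X-module
of degree 0 on every Γ_j whose pullback to C is trivial is itself trivial; (b) there is a surjective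
homomorphism ψ from Pic(C) (written additively) onto G which sends the class of g^*L, for every
invertible O_X-module L, to the class of the vector ((L · Γ_j))_j, and whose kernel consists exactly
of the classes g^*L with L invertible on X of degree 0 on every Γ_j. In other words 0 → Pic⁰(X) →
Pic(C) → G → 0 is exact, Pic⁰(X) denoting the classes of degree 0 on all components of the closed
fibre. -/
theorem result
    (R : Type u) [CommRing R] [IsDomain R] [IsDiscreteValuationRing R]
    [IsAdicComplete (IsLocalRing.maximalIdeal R) R] (hk : IsAlgClosed (IsLocalRing.ResidueField R))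
    (C : Scheme.{u}) (fC : C ⟶ Spec (CommRingCat.of (FractionRing R))) [IsProper fC] [Smooth fC]
    (hC0 : Models.hRank (FractionRing R) C fC (Coh.structureModule C) 0 = 1)
    (hg2 : 2 ≤ Models.curveGenus (FractionRing R) C fC)
    (X : Scheme.{u}) (p : X ⟶ Spec (CommRingCat.of R)) (hX : Models.IsRegularProperModel R X p C fC)
    (g : C ⟶ X) (hg : IsPullback g fC p (Spec.map (CommRingCat.ofHom (algebraMap R (FractionRing R)))))
    {n : ℕ} (Γ : Fin n → ArSurf.VertComp R (Over.mk p)) (hΓ : Models.IsComponentList R (Over.mk p) Γ)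
    (hgcd : Models.multGcd R (Over.mk p) Γ = 1)
    (LD : Fin n → X.Modules) (hLD : ∀ i, ClSub.IsInverseOf (LD i) (ClSub.idealMod (Γ i).ι.ker))
    [PicGrp.Law X] [PicGrp.Law C] (hgm : PicGrp.PullMul g) :
    (∀ (L : X.Modules) (hL : PicF.IsInvertible L), (∀ j, ArSurf.inter R (Over.mk p) L (Γ j) = 0) →
        PicGrp.pullHom g hgm (PicGrp.cls L hL) = 1 → PicGrp.cls L hL = 1) ∧
      ∃ ψ : Additive (PicLoc.PicSet C) →+
          ((Fin n → ℤ) ⧸ LinearMap.range (Matrix.mulVecLin
            (Matrix.of fun j i => ArSurf.inter R (Over.mk p) (LD i) (Γ j)))),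
        (∀ (L : X.Modules) (hL : PicF.IsInvertible L),
            ψ (Additive.ofMul (PicGrp.pullHom g hgm (PicGrp.cls L hL))) =
              Submodule.Quotient.mk (fun j => ArSurf.inter R (Over.mk p) L (Γ j))) ∧
          Function.Surjective ψ ∧
          (∀ c : PicLoc.PicSet C, ψ (Additive.ofMul c) = 0 →
            ∃ (L : X.Modules) (hL : PicF.IsInvertible L),
              (∀ j, ArSurf.inter R (Over.mk p) L (Γ j) = 0) ∧ PicGrp.pullHom g hgm (PicGrp.cls L hL) = c) := by
  obtain rfl : ‹PicGrp.Law X› = PicLaw.law X := Subsingleton.elim _ _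
  obtain rfl : ‹PicGrp.Law C› = PicLaw.law C := Subsingleton.elim _ _
  classical
  have hH0 := isIso_appTop_of_rank fC hC0
  haveI : Flat p := hX.1.1
  haveI : IsProper p := hX.2.1
  haveI : Flat (Over.mk p).hom := hX.1.1
  haveI : IsProper (Over.mk p).hom := hX.2.1
  haveI : IsLocallyNoetherian X := LocallyOfFiniteType.isLocallyNoetherian p
  haveI : CompactSpace X := QuasiCompact.compactSpace_of_compactSpace p
  haveI : IsLocallyNoetherian (Over.mk p).left := ‹IsLocallyNoetherian X›
  haveI : CompactSpace ↥(Over.mk p).left := ‹CompactSpace X›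
  haveI : IsLocallyNoetherian C := LocallyOfFiniteType.isLocallyNoetherian fC
  haveI : CompactSpace C := QuasiCompact.compactSpace_of_compactSpace fC
  haveI : AlgebraicGeometry.IsNoetherian C := {}
  haveI : IsOpenImmersion (Spec.map (CommRingCat.ofHom (algebraMap R (FractionRing R)))) :=
    CBC.PicDVR.isOpenImmersion_gen R (FractionRing R)
  haveI hgo : IsOpenImmersion g := MorphismProperty.of_isPullback hg.flip inferInstance
  -- genus two: positive dimension
  have hH1 : ¬ Subsingleton (Coh.HH C (Coh.structureModule C) 1) := fun h => by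
    letI : C.Over (Spec (CommRingCat.of (FractionRing R))) := ⟨fC⟩
    have h0 : Module.finrank (FractionRing R) (Coh.HH C (Coh.structureModule C) 1) = 0 :=
      Module.finrank_zero_of_subsingleton
    change 2 ≤ Module.finrank (FractionRing R) (Coh.HH C (Coh.structureModule C) 1) at hg2
    omega
  have hdim0 : ¬ topologicalKrullDim C ≤ 0 := fun h =>
    hH1 (Groth.Agent.S0458.result 0 (by exact_mod_cast h) _ 1 zero_lt_one)
  haveI hCne : Nonempty C := by
    by_contra h
    haveI := not_nonempty_iff.1 h
    haveI : IsEmpty (IrreducibleCloseds C) := ⟨fun Z => IsEmpty.false Z.isIrreducible.nonempty.some⟩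
    exact hdim0 (le_of_eq_of_le Order.krullDim_eq_bot bot_le)
  -- `C` is a smooth proper curve
  haveI : Nonempty X := hCne.map g
  haveI : ∀ x : X, IsDomain (X.presheaf.stalk x) := fun x => haveI := hX.2.2 x; RegLoc.isDomain _
  haveI : AlgebraicGeometry.IsNoetherian X := {}
  haveI : IsIntegral X := by
    have hb := VertInter.toGlobal_bijective (X := Over.mk p) hg hH0
    have hdom : IsDomain Γ(X, ⊤) := (RingEquiv.ofBijective _ hb).symm.toMulEquiv.isDomain R
    haveI := S19553.preconnectedSpace_of_isDomain X hdom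
    haveI : ConnectedSpace X := { toNonempty := inferInstance }
    haveI := CurveCoh.irreducibleSpace_of_domain_stalks X inferInstance
    haveI : IsReduced X := isReduced_of_isReduced_stalk _
    exact isIntegral_of_irreducibleSpace_of_isReduced _
  haveI : IsIntegral C := isIntegral_of_isOpenImmersion g
  have hC1 : topologicalKrullDim C = 1 := by
    let s₀ : Spec (CommRingCat.of R) := IsLocalRing.closedPoint R
    let η : Spec (CommRingCat.of R) := (⟨⊥, Ideal.isPrime_bot⟩ : PrimeSpectrum R)
    have hfib : topologicalKrullDim (p.fiber s₀) ≤ 1 := by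
      refine dim_le_one_of_cover (fun i => (Γ i).curve.left)
        (fun i z => (p.fiberHomeo s₀).symm ⟨(Γ i).ι.base z,
          ((show Set.range (Γ i).ι.base ∈ Models.fibreComponents R (Over.mk p) from hΓ.2 ▸ ⟨i, rfl⟩).1.2 ⟨z, rfl⟩)⟩)
        (fun i => (p.fiberHomeo s₀).symm.isClosedEmbedding.comp
          ((Models.isClosed_specialFibreSet R (Over.mk p)).isClosedEmbedding_subtypeVal.of_comp_iff.mp
            (Γ i).ι.isClosedEmbedding))
        (fun i => (Γ i).dim_eq.le) (Set.eq_univ_of_forall fun y => ?_)
      have hy : (p.fiberHomeo s₀ y).1 ∈ Models.specialFibreSet R (Over.mk p) := (p.fiberHomeo s₀ y).2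
      rw [← VertInter.iUnion_range_eq hΓ] at hy
      obtain ⟨i, z, hz⟩ := Set.mem_iUnion.1 hy
      refine Set.mem_iUnion.2 ⟨i, z, ?_⟩
      apply (p.fiberHomeo s₀).injective
      rw [Homeomorph.apply_symm_apply]
      exact Subtype.ext hz
    have hη : topologicalKrullDim (p.fiber η) ≤ 1 :=
      ((PrimeSpectrum.le_iff_specializes η s₀).1 (show (⊥ : Ideal R) ≤ _ from bot_le)).mem_open
        (Groth.Agent.S0403.result p 1) hfib
    have hr : Set.range g = p ⁻¹' {η} := by
      ext x
      refine (VertInter.mem_range_iff (X := Over.mk p) hg x).trans ?_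
      constructor
      · exact fun hx => PrimeSpectrum.ext (VertInter.asIdeal_eq_bot_of_not_mem (X := Over.mk p) hx)
      · intro hx hx'
        have h1 : η = s₀ := (show p x = η from hx).symm.trans hx'
        exact IsDiscreteValuationRing.not_a_field R (congrArg PrimeSpectrum.asIdeal h1).symm
    let e1 : C ≃ₜ p.fiber η :=
      g.isEmbedding.toHomeomorph.trans ((Homeomorph.setCongr hr).trans (p.fiberHomeo η).symm)
    rw [← IsHomeomorph.topologicalKrullDim_eq _ e1.isHomeomorph] at hη
    refine le_antisymm hη ?_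
    by_contra hlt
    refine hdim0 ?_
    generalize topologicalKrullDim C = d at hlt hη
    cases d with
    | bot => exact bot_le
    | coe d =>
      rw [not_le] at hlt
      change ((d : WithBot ℕ∞)) < ((1 : ℕ∞) : WithBot ℕ∞) at hlt
      rw [WithBot.coe_lt_coe, ENat.lt_one_iff_eq_zero] at hlt
      rw [hlt]; rfl
  have hC : Curve.IsSmoothProperCurve (FractionRing R) C fC := ⟨‹IsProper fC›, ‹Smooth fC›, ‹_›, hC1⟩
  have hLi := VertInter.model_invertible hX hΓ LD hLD
  -- every class on `C` extends
  have hsurj : Function.Surjective (PicGrp.pullHom g hgm) := fun c => by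
    obtain ⟨N, hN, rfl⟩ := PicGrp.exists_eq_cls c
    let e := g.isoOpensRange
    obtain ⟨L', hL', ⟨φ⟩⟩ := S0234.result X g.opensRange
      ((Scheme.Modules.pullback e.inv).obj N) (PicCl.isInvertible_pullback e.inv hN) fun x _ => by
        haveI := hX.2.2 x
        haveI := (S2821.result (X.presheaf.stalk x)).1
        exact (S2821.result _).2
    refine ⟨PicGrp.cls L' hL', ?_⟩
    rw [PicGrp.pullHom_cls, PicGrp.cls_eq_cls_iff]
    exact ⟨(Scheme.Modules.pullbackCongr (Scheme.Hom.isoOpensRange_hom_ι g)).symm.app L' ≪≫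
      ((Scheme.Modules.pullbackComp e.hom g.opensRange.ι).symm.app L') ≪≫
      (Scheme.Modules.pullback e.hom).mapIso
        ((Scheme.Modules.restrictFunctorIsoPullback g.opensRange.ι).symm.app L' ≪≫ φ) ≪≫
      (Scheme.Modules.pullbackComp e.hom e.inv).app N ≪≫
      (Scheme.Modules.pullbackCongr e.hom_inv_id).app N ≪≫ (Scheme.Modules.pullbackId C).app N⟩
  -- the degree map
  choose rep hrepI hrepC using fun x : PicLoc.PicSet X => PicGrp.exists_eq_cls x
  let D : PicLoc.PicSet X → Fin n → ℤ := fun x j => ArSurf.inter R (Over.mk p) (rep x) (Γ j)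
  have hD : ∀ (L : X.Modules) (hL : PicF.IsInvertible L),
      D (PicGrp.cls L hL) = fun j => ArSurf.inter R (Over.mk p) L (Γ j) := fun L hL => by
    funext j
    obtain ⟨e⟩ := (PicGrp.cls_eq_cls_iff hL (hrepI (PicGrp.cls L hL))).1 (hrepC (PicGrp.cls L hL))
    exact (VertInter.inter_iso (X := Over.mk p) (Γ j) e).symm
  have hDmul : ∀ x y, D (x * y) = D x + D y := fun x y => by
    obtain ⟨L, hL, rfl⟩ := PicGrp.exists_eq_cls x
    obtain ⟨M, hM, rfl⟩ := PicGrp.exists_eq_cls y
    rw [← PicLaw.cls_tensor hL hM, hD _ _, hD L hL, hD M hM]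
    funext j
    exact VertInter.inter_tensor (X := Over.mk p) (Γ j) hL hM
  let A := Matrix.mulVecLin (Matrix.of fun j i => ArSurf.inter R (Over.mk p) (LD i) (Γ j))
  let q : Additive (PicLoc.PicSet X) →+ (Fin n → ℤ) ⧸ LinearMap.range A :=
    AddMonoidHom.mk' (fun x => Submodule.Quotient.mk (D x.toMul)) fun x y => by
      rw [toMul_add, hDmul]; rfl
  let φ : Additive (PicLoc.PicSet X) →+ Additive (PicLoc.PicSet C) := (PicGrp.pullHom g hgm).toAdditive
  have hφ : Function.Surjective φ := fun c => (hsurj c.toMul).imp fun _ h => congrArg Additive.ofMul h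
  have hker : φ.ker ≤ q.ker := fun x hx => by
    obtain ⟨L, hL, hx'⟩ := PicGrp.exists_eq_cls x.toMul
    have h1 : PicGrp.pullHom g hgm (PicGrp.cls L hL) = 1 := by
      rw [← hx']; exact congrArg Additive.toMul hx
    rw [PicGrp.pullHom_cls, PicGrp.cls_eq_one_iff] at h1
    obtain ⟨v, hv⟩ := VertInter.exists_E_of_trivial hC hH0 hX hΓ hg LD hLD hL h1
    show Submodule.Quotient.mk (D x.toMul) = 0
    rw [Submodule.Quotient.mk_eq_zero, hx', hD L hL]
    refine ⟨v, funext fun j => ?_⟩
    have hO := PicLoc.isInvertible_structureModule X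
    have h2 := VertInter.inter_of_cls (X := Over.mk p) (Γ j) LD hLi hL hO v
      (by rw [(PicGrp.cls_eq_one_iff hO).2 ⟨Iso.refl _⟩, one_mul]; exact hv)
    rw [show ArSurf.inter R (Over.mk p) (Coh.structureModule X) (Γ j) = 0 from
      VertInter.inter_structure (X := Over.mk p) (Γ j), zero_add] at h2
    refine Eq.trans ?_ h2.symm
    show ∑ i, ArSurf.inter R (Over.mk p) (LD i) (Γ j) * v i = _
    exact Finset.sum_congr rfl fun i _ => Int.mul_comm _ _
  let ψ := φ.liftOfSurjective hφ ⟨q, hker⟩
  have hψ : ∀ (L : X.Modules) (hL : PicF.IsInvertible L),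
      ψ (Additive.ofMul (PicGrp.pullHom g hgm (PicGrp.cls L hL))) =
        Submodule.Quotient.mk (fun j => ArSurf.inter R (Over.mk p) L (Γ j)) := fun L hL => by
    rw [← hD L hL]
    exact AddMonoidHom.liftOfRightInverse_comp_apply φ _ _ ⟨q, hker⟩ (Additive.ofMul (PicGrp.cls L hL))
  refine ⟨fun L hL h0 h1 => ?_, ψ, hψ, ?_, fun c hc => ?_⟩
  · rw [PicGrp.pullHom_cls, PicGrp.cls_eq_one_iff] at h1
    have h2 := S3340.result R C X fC p hC hH0 hX Γ hΓ g hg L hL h1 h0
    rw [hgcd] at h2
    have h3 := (PicGrp.cls_eq_one_iff (AmpleLib.isInvertible_tensorPow hL 1)).2 h2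
    rwa [VertInter.cls_pow hL 1, pow_one] at h3
  · have hbasis : ∀ i, Pi.single i (1 : ℤ) ∈ AddMonoidHom.range (AddMonoidHom.mk' (fun x => D (Additive.toMul x))
        (fun x y => hDmul x.toMul y.toMul)) := fun i => by
      obtain ⟨M, hM, hMi⟩ := S19553.result R hk C fC hC0 _ hg2 rfl X p hX Γ hΓ i
      refine ⟨Additive.ofMul (PicGrp.cls M hM), ?_⟩
      show D (PicGrp.cls M hM) = _
      rw [hD M hM]
      funext j
      rw [hMi j, Pi.single_apply]
    intro γ
    obtain ⟨w, rfl⟩ := Submodule.Quotient.mk_surjective _ γ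
    have hw : w ∈ AddMonoidHom.range (AddMonoidHom.mk' (fun x => D (Additive.toMul x))
        (fun x y => hDmul x.toMul y.toMul)) := by
      rw [← Finset.univ_sum_single w]
      refine AddSubgroup.sum_mem _ fun i _ => ?_
      have : Pi.single i (w i) = (w i) • (Pi.single i (1 : ℤ) : Fin n → ℤ) := by
        rw [← Pi.single_smul, smul_eq_mul, mul_one]
      rw [this]
      exact AddSubgroup.zsmul_mem _ (hbasis i) _
    obtain ⟨x, hx⟩ := hw
    refine ⟨φ x, ?_⟩
    exact (AddMonoidHom.liftOfRightInverse_comp_apply φ _ _ ⟨q, hker⟩ x).trans (congrArg _ hx)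
  · obtain ⟨x, hx⟩ := hsurj c
    obtain ⟨M, hM, rfl⟩ := PicGrp.exists_eq_cls x
    subst hx
    rw [hψ M hM, Submodule.Quotient.mk_eq_zero] at hc
    obtain ⟨v, hv⟩ := hc
    obtain ⟨L, hL, hLc⟩ := VertInter.exists_rep (PicGrp.cls M hM / VertInter.E LD hLi v)
    refine ⟨L, hL, fun j => ?_, ?_⟩
    · have hcl := hLc
      rw [eq_div_iff_mul_eq'] at hcl
      have h1 := VertInter.inter_of_cls (X := Over.mk p) (Γ j) LD hLi hM hL v hcl.symm
      have h2 : ∑ i, v i * ArSurf.inter R (Over.mk p) (LD i) (Γ j) = ArSurf.inter R (Over.mk p) M (Γ j) := by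
        refine Eq.trans ?_ (congrFun hv j)
        exact Finset.sum_congr rfl fun i _ => Int.mul_comm _ _
      rw [h2] at h1
      linarith
    · rw [hLc, map_div, show PicGrp.pullHom g hgm (VertInter.E LD hLi v) = 1 from
        VertInter.restr_E hX hΓ hg LD hLD v, div_one]

end Groth.Agent.S15406
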