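import Groth.Statements.S3323
import Groth.Agent.VertInter.DivField
import Groth.Agent.VertInter.FibreChi
import Groth.Agent.VertInter.Kernel
import Groth.Agent.VertInter.List
import Groth.Agent.S3320
import Mathlib.AlgebraicGeometry.Morphisms.Proper

set_option autoImplicit false
universe u
open CategoryTheory CategoryTheory.Limits AlgebraicGeometry
open Models

namespace Groth.Agent.S3323

open Groth.Agent.VertInter

variable {R : Type u} [CommRing R] [IsDomain R] [IsDiscreteValuationRing R]
  {X : Over (Spec (CommRingCat.of R))} [IsProper X.hom] (Δ : ArSurf.VertComp R X)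

/-- Functions embedding into those of a curve form a finite extension of the base. -/
theorem finite_of_injective {J : X.left.IdealSheafData} (h : J ≤ Δ.ι.ker)
    (hinj : Function.Injective (Scheme.IdealSheafData.inclusion h).appTop) :
    ((J.subschemeι ≫ X.hom).appTop.hom.comp (Scheme.ΓSpecIso (CommRingCat.of R)).inv.hom).Finite := by
  let g : Δ.curve.left ⟶ J.subscheme := Δ.ι.toImage ≫ Scheme.IdealSheafData.inclusion h
  have hg : g ≫ J.subschemeι = Δ.ι := by
    simp only [g, Category.assoc, Scheme.IdealSheafData.inclusion_subschemeι]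
    exact Δ.ι.toImage_imageι
  haveI : IsIso Δ.ι.toImage := inferInstance
  haveI : IsIso Δ.ι.toImage.appTop := inferInstanceAs (IsIso (Scheme.Γ.map Δ.ι.toImage.op))
  have hψ : Function.Injective g.appTop.hom := by
    show Function.Injective g.appTop
    simp only [g, Scheme.Hom.comp_appTop]
    exact (ConcreteCategory.bijective_of_isIso Δ.ι.toImage.appTop).1.comp hinj
  let ρ : R →+* Γ(J.subscheme, ⊤) := (J.subschemeι ≫ X.hom).appTop.hom.comp (Scheme.ΓSpecIso (CommRingCat.of R)).inv.hom
  haveI : IsProper Δ.curve.hom := isProper_curve Δ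
  have hfin : (g.appTop.hom.comp ρ).Finite := by
    have e : g.appTop.hom.comp ρ = (Coh.toGlobal Δ.curve.hom).comp (IsLocalRing.residue R) := by
      ext r
      refine Eq.trans ?_ (S7915.toGlobal_square (IsLocalRing.residue R) Δ.ι X.hom Δ.curve.hom Δ.w r)
      exact congr(($hg).appTop (Coh.toGlobal X.hom r))
    rw [e]
    refine RingHom.Finite.comp ?_ (RingHom.Finite.of_surjective _ IsLocalRing.residue_surjective)
    exact RingHom.Finite.comp (by exact finite_appTop_of_universallyClosed _ Δ.curve.hom)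
      (RingHom.Finite.of_surjective _ (ConcreteCategory.bijective_of_isIso (Scheme.ΓSpecIso (CommRingCat.of (IsLocalRing.ResidueField R))).inv).2)
  algebraize [ρ, g.appTop.hom, g.appTop.hom.comp ρ]
  haveI : Module.Finite R Γ(Δ.curve.left, ⊤) := hfin
  exact Module.Finite.of_injective (IsScalarTower.toAlgHom R Γ(J.subscheme, ⊤) Γ(Δ.curve.left, ⊤)).toLinearMap hψ

/-- In the following situation (R a discrete valuation ring with residue field k, C a smooth proper
curve over its fraction field K with H^0(C, O_C) = K, X a regular proper model, Γ_1, …, Γ_n the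
irreducible components of the closed fibre with multiplicities m_i) let d = gcd(m_1, …, m_n) and let
D be the effective Cartier divisor Σ (m_i/d) Γ_i. Then there is a chain of effective Cartier
divisors Σ Γ_i = Z_0 ⊂ Z_1 ⊂ ⋯ ⊂ Z_s = D, each obtained from the previous one by adding a single
Γ_i, such that for every j the ring H^0(Z_j, O_{Z_j}) is a field, finite over R (equivalently over
k). Divisors are written through their ideal sheaves Π I(Γ_i)^{a_i}. -/
theorem result (R : Type u) [CommRing R] [IsDomain R] [IsDiscreteValuationRing R]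
    (C X : Scheme.{u}) (f : C ⟶ Spec (CommRingCat.of (FractionRing R))) (p : X ⟶ Spec (CommRingCat.of R))
    (hC : Curve.IsSmoothProperCurve (FractionRing R) C f) (hH0 : IsIso f.appTop)
    (hX : Models.IsRegularProperModel R X p C f)
    {n : ℕ} (Γ : Fin n → ArSurf.VertComp R (Over.mk p)) (hΓ : Models.IsComponentList R (Over.mk p) Γ) :
    ∃ (s : ℕ) (a : Fin (s + 1) → Fin n → ℕ), (a 0 = fun _ => 1) ∧
      (a (Fin.last s) = fun i => Models.mult R (Over.mk p) (Γ i) / Models.multGcd R (Over.mk p) Γ) ∧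
      (∀ j : Fin s, ∃ i, a j.succ = a j.castSucc + Pi.single i 1) ∧
      ∀ j, IsField ↑(Γ((∏ i, (Γ i).ι.ker ^ a j i).subscheme, ⊤)) ∧
        (((∏ i, (Γ i).ι.ker ^ a j i).subschemeι ≫ p).appTop.hom.comp
          (Scheme.ΓSpecIso (CommRingCat.of R)).inv.hom).Finite := by
  classical
  haveI : Flat p := hX.1.1
  haveI : IsProper p := hX.2.1
  haveI : IsProper (Over.mk p).hom := hX.2.1
  haveI : IsLocallyNoetherian (Over.mk p).left := LocallyOfFiniteType.isLocallyNoetherian p
  obtain ⟨g, hg⟩ := hX.1.2.2.2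
  obtain ⟨hc, heq⟩ := S3313.eq_prod p hX.1.1 inferInstance hX.2.2 Γ hΓ
  have hex : ∀ i, ∃ L : X.Modules, ClSub.IsInverseOf L (ClSub.idealMod (Γ i).ι.ker) := fun i => by
    obtain ⟨L', -, e⟩ := PicLaw.exists_inverse
      (IdealSh.IdealMod.isInvertible_of_isEffCartierIdeal (X := (Over.mk p).left) (Γ i).ι.ker (hc i))
    exact ⟨L', ⟨ProjTwist.tensComm _ _ ≪≫ e.some⟩⟩
  choose L hL using hex
  haveI : IsIntegral C := hC.2.2.1
  have hconn : _root_.IsPreconnected (Models.specialFibreSet R (Over.mk p)) := by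
    haveI : Flat (Over.mk p).hom := hX.1.1
    haveI := VertInter.preconnectedSpace_fiber (X := Over.mk p)
      (VertInter.toGlobal_bijective (X := Over.mk p) hg hH0).2
    have h1 := (isPreconnected_range ((Over.mk p).hom.fiberι (IsLocalRing.closedPoint R)).continuous)
    have e := Scheme.Hom.range_fiberι (Over.mk p).hom (IsLocalRing.closedPoint R)
    rw [e] at h1
    exact h1
  obtain ⟨i₀⟩ := VertInter.nonempty_fin hX hΓ inferInstance hg
  set d := Models.multGcd R (Over.mk p) Γ with hd
  let m : Fin n → ℕ := fun j => Models.mult R (Over.mk p) (Γ j) / d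
  have hm1 := fun j => VertInter.one_le_mult (p := p) hΓ hX.2.2 j
  have hdm : ∀ j, d * m j = Models.mult R (Over.mk p) (Γ j) := fun j =>
    Nat.mul_div_cancel' (Finset.gcd_dvd (Finset.mem_univ j))
  have hd0 : 0 < d := Nat.pos_of_ne_zero fun h => by
    have := hdm i₀; have := hm1 i₀; rw [h] at *; omega
  have hm0 : ∀ j, 1 ≤ m j := fun j => Nat.pos_of_ne_zero fun h => by
    have := hdm j; have := hm1 j; rw [h] at *; omega
  have hkill : ∀ i, ∑ j, (m j : ℤ) * ArSurf.inter R (Over.mk p) (L j) (Γ i) = 0 := fun i => by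
    have h := VertInter.sum_mult_eq_zero p hX.2.2 Γ hΓ L hL (Γ i)
    simp only [← hdm, Nat.cast_mul, mul_assoc, ← Finset.mul_sum] at h
    exact (mul_eq_zero.mp h).resolve_left (by exact_mod_cast hd0.ne')
  have hsymm : ∀ i j, ArSurf.inter R (Over.mk p) (L j) (Γ i) = ArSurf.inter R (Over.mk p) (L i) (Γ j) :=
    fun i j => VertInter.inter_symm_list hΓ hX.2.2 L hL i j
  -- a step is possible below the last divisor
  have hstep : ∀ z : Fin n → ℕ, (∀ j, z j ≤ m j) → 1 ≤ z i₀ → z ≠ m →
      ∃ i, z i < m i ∧ 0 < ∑ j, (z j : ℤ) * ArSurf.inter R (Over.mk p) (L j) (Γ i) := by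
    intro z hz hz1 hne
    by_contra hno
    push Not at hno
    let w : Fin n → ℤ := fun j => (m j : ℤ) - (z j : ℤ)
    have hw : ∀ i, ∑ j, w j * ArSurf.inter R (Over.mk p) (L j) (Γ i) =
        -∑ j, (z j : ℤ) * ArSurf.inter R (Over.mk p) (L j) (Γ i) := fun i => by
      simp only [w, sub_mul, Finset.sum_sub_distrib, hkill i, zero_sub]
    have hQ : 0 ≤ ∑ q : Fin n × Fin n, w q.1 * w q.2 * ArSurf.inter R (Over.mk p) (L q.2) (Γ q.1) := by
      rw [Fintype.sum_prod_type]
      simp only [mul_assoc, ← Finset.mul_sum]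
      refine Finset.sum_nonneg fun i _ => ?_
      rw [hw i]
      rcases Nat.lt_or_ge (z i) (m i) with h | h
      · exact mul_nonneg (by simp only [w]; omega) (by linarith [hno i h])
      · have : z i = m i := le_antisymm (hz i) h
        simp [w, this]
    have hform := S3320.form p hX.2.2 Γ hΓ hconn L hL w
    obtain ⟨c, hcw⟩ := hform.2.mp (le_antisymm hform.1 hQ)
    have hden : ∀ i, (c.num : ℤ) * (d * m i) = (c.den : ℤ) * w i := fun i => by
      have h2 : ((c.num : ℤ) * (d * m i) : ℚ) = ((c.den : ℤ) * w i : ℚ) := by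
        push_cast
        rw [hcw i, ← hdm i]
        push_cast
        linear_combination (-((d : ℚ) * (m i : ℚ))) * Rat.den_mul_eq_num c
      exact_mod_cast h2
    have hgcd : Finset.univ.gcd (fun j => m j) = 1 :=
      Finset.gcd_div_eq_one (Finset.mem_univ i₀) (by have := hm1 i₀; omega)
    have hdvd : ∀ i, c.den ∣ d * m i := fun i => by
      have h3 : (c.den : ℤ) ∣ c.num * ((d * m i : ℕ) : ℤ) := ⟨w i, by push_cast; exact hden i⟩
      have h4 := Int.natCast_dvd.mp h3
      rw [Int.natAbs_mul, Int.natAbs_natCast] at h4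
      exact (c.reduced.symm).dvd_of_dvd_mul_left h4
    have hdd : c.den ∣ d := by
      have := Finset.dvd_gcd (s := Finset.univ) (f := fun j => d * m j) fun i _ => hdvd i
      rwa [Finset.gcd_mul_left, hgcd, normalize_eq, mul_one] at this
    obtain ⟨t, ht⟩ := hdd
    have hwt : ∀ i, w i = (c.num * t) * m i := fun i => by
      have h1 := hden i
      have hcd : (c.den : ℤ) ≠ 0 := by exact_mod_cast c.den_ne_zero
      refine mul_left_cancel₀ hcd ?_
      rw [← h1, ht]; push_cast; ring
    have hlt : (c.num * t) < 1 := by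
      have h1 := hwt i₀
      simp only [w] at h1
      by_contra hge
      push Not at hge
      have h2 : (m i₀ : ℤ) ≤ (c.num * t) * m i₀ := le_mul_of_one_le_left (by positivity) hge
      omega
    refine hne (funext fun j => le_antisymm (hz j) ?_)
    have h1 := hwt j
    simp only [w] at h1
    have h2 : (c.num * t) * (m j : ℤ) ≤ 0 := mul_nonpos_of_nonpos_of_nonneg (by omega) (by positivity)
    omega
  -- the reduced divisor
  have hone : IsField Γ((VertInter.divIdeal (X := Over.mk p) Γ fun _ => 1).subscheme, ⊤) := by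
    refine VertInter.isField_divIdeal (X := Over.mk p) Γ hc L hL _ i₀ le_rfl fun z hz hz1 hne => ?_
    let I : Finset (Fin n) := Finset.univ.filter fun j => z j = 1
    have hI : i₀ ∈ I := Finset.mem_filter.mpr ⟨Finset.mem_univ _, le_antisymm (hz i₀) hz1⟩
    obtain ⟨i, hi, j, hj, hij⟩ := VertInter.inter_connected hΓ hX.2.2 L hL hconn I ⟨i₀, hI⟩ fun h => hne
      (funext fun j => (Finset.mem_filter.mp (h.symm ▸ Finset.mem_univ j : j ∈ I)).2)
    have hzj : z j = 0 := by
      have := hz j
      have : ¬ z j = 1 := fun h => hj (Finset.mem_filter.mpr ⟨Finset.mem_univ _, h⟩)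
      omega
    refine ⟨j, by omega, Finset.sum_pos' (fun l _ => ?_) ⟨i, Finset.mem_univ i, ?_⟩⟩
    · by_cases hl : l = j
      · subst hl; simp [hzj]
      · exact mul_nonneg (by positivity) (VertInter.inter_offDiag hΓ hX.2.2 L hL (Ne.symm hl)).1
    · have hij' : ArSurf.inter R (Over.mk p) (L i) (Γ j) ≠ 0 := hsymm i j ▸ hij
      have hne' : j ≠ i := fun e => hj (e ▸ hi)
      rw [show z i = 1 from (Finset.mem_filter.mp hi).2, Nat.cast_one, one_mul]
      exact lt_of_le_of_ne (VertInter.inter_offDiag hΓ hX.2.2 L hL hne').1 (Ne.symm hij')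
  -- the invariant: functions embed in those of a fixed component
  let P : (Fin n → ℕ) → Prop := fun z => ∃ h : VertInter.divIdeal (X := Over.mk p) Γ z ≤ (Γ i₀).ι.ker,
    Function.Injective (Scheme.IdealSheafData.inclusion h).appTop
  have hle : VertInter.divIdeal (X := Over.mk p) Γ (fun _ => 1) ≤ (Γ i₀).ι.ker := fun U => by
    show (VertInter.divIdeal (X := Over.mk p) Γ fun _ => 1).ideal U ≤ _
    unfold VertInter.divIdeal
    rw [← Finset.mul_prod_erase _ _ (Finset.mem_univ i₀), pow_one, Scheme.IdealSheafData.ideal_mul, Pi.mul_apply]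
    exact Ideal.mul_le.mpr fun a ha b _ => Ideal.mul_mem_right _ _ ha
  have hP1 : P fun _ => 1 := by
    refine ⟨hle, ?_⟩
    letI := hone.toField
    haveI : Nonempty (Γ i₀).ι.ker.subscheme := ⟨(Γ i₀).ι.toImage (genericPoint (Γ i₀).curve.left)⟩
    haveI : Nonempty ((⊤ : (Γ i₀).ι.ker.subscheme.Opens) : Scheme.{u}) := ⟨⟨(Γ i₀).ι.toImage (genericPoint (Γ i₀).curve.left), trivial⟩⟩
    haveI : Nonempty ((⊤ : (Γ i₀).ι.ker.subscheme.Opens)) := ⟨⟨(Γ i₀).ι.toImage (genericPoint (Γ i₀).curve.left), trivial⟩⟩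
    haveI : Nontrivial Γ((Γ i₀).ι.ker.subscheme, ⊤) := Scheme.component_nontrivial _ _
    exact RingHom.injective (Scheme.IdealSheafData.inclusion hle).appTop.hom
  have hchain : ∀ N, ∀ z : Fin n → ℕ, (∀ j, z j ≤ m j) → 1 ≤ z i₀ → P z → ∑ j, z j + N = ∑ j, m j →
      ∃ (s : ℕ) (a : Fin (s + 1) → Fin n → ℕ), a 0 = z ∧ a (Fin.last s) = m ∧
        (∀ j : Fin s, ∃ i, a j.succ = a j.castSucc + Pi.single i 1) ∧ ∀ j, P (a j) := by
    intro N
    induction N with
    | zero =>
      intro z hz _ hPz hN
      have e : z = m := funext fun j => le_antisymm (hz j) (by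
        by_contra hlt
        have := Finset.sum_lt_sum (fun l _ => hz l) ⟨j, Finset.mem_univ _, not_le.mp hlt⟩
        omega)
      exact ⟨0, fun _ => z, rfl, e, fun j => Fin.elim0 j, fun _ => hPz⟩
    | succ N ih =>
      intro z hz hz1 hPz hN
      obtain ⟨i, hi, hpos⟩ := hstep z hz hz1 (fun e => by subst e; omega)
      let z' : Fin n → ℕ := fun j => z j + if j = i then 1 else 0
      have hz' : ∀ j, z' j ≤ m j := fun j => by
        by_cases h : j = i
        · subst h; simpa [z'] using hi
        · simpa [z', h] using hz j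
      have hneg : ArSurf.inter R (Over.mk p) (ClSub.idealMod (VertInter.divIdeal Γ z)) (Γ i) < 0 := by
        rw [VertInter.inter_divIdeal Γ hc L hL]; linarith
      have hPz' : P z' := by
        obtain ⟨h, hinj⟩ := hPz
        have e : VertInter.divIdeal (X := Over.mk p) Γ z' = VertInter.divIdeal Γ z * (Γ i).ι.ker :=
          VertInter.divIdeal_succ Γ z i
        show ∃ h : VertInter.divIdeal (X := Over.mk p) Γ z' ≤ (Γ i₀).ι.ker, Function.Injective (Scheme.IdealSheafData.inclusion h).appTop
        rw [e]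
        have h1 : VertInter.divIdeal (X := Over.mk p) Γ z * (Γ i).ι.ker ≤ VertInter.divIdeal Γ z := fun U => by
          rw [Scheme.IdealSheafData.ideal_mul, Pi.mul_apply]
          exact Ideal.mul_le.mpr fun a ha b _ => Ideal.mul_mem_right _ _ ha
        refine ⟨h1.trans h, ?_⟩
        rw [← Scheme.IdealSheafData.inclusion_comp h1 h, Scheme.Hom.comp_appTop]
        exact hinj.comp (VertInter.injective_inclusion (Γ i) (VertInter.isEffCartier_divIdeal Γ hc z) (hc i) hneg h1)
      obtain ⟨s, a, h0, hlast, hsucc, hP⟩ := ih z' hz' (le_trans hz1 (Nat.le_add_right _ _)) hPz'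
        (by simp only [z']; rw [Finset.sum_add_distrib, Finset.sum_ite_eq']; simp; omega)
      refine ⟨s + 1, Fin.cons z a, rfl, ?_, ?_, ?_⟩
      · rw [← Fin.succ_last, Fin.cons_succ, hlast]
      · intro j
        refine Fin.cases ?_ (fun j => ?_) j
        · refine ⟨i, ?_⟩
          rw [Fin.cons_succ, h0, Fin.castSucc_zero, Fin.cons_zero]
          funext l
          simp [z', Pi.single_apply]
        · obtain ⟨l, hl⟩ := hsucc j
          exact ⟨l, by rw [Fin.cons_succ, ← Fin.succ_castSucc, Fin.cons_succ, hl]⟩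
      · intro j
        refine Fin.cases ?_ (fun j => ?_) j
        · rw [Fin.cons_zero]; exact hPz
        · rw [Fin.cons_succ]; exact hP j
  have hle1 : ∑ _j : Fin n, 1 ≤ ∑ j, m j := Finset.sum_le_sum fun j _ => hm0 j
  obtain ⟨s, a, h0, hlast, hsucc, hP⟩ := hchain (∑ j, m j - ∑ _j : Fin n, 1) (fun _ => 1) hm0 le_rfl hP1
    (by omega)
  refine ⟨s, a, h0, hlast, hsucc, fun j => ?_⟩
  obtain ⟨h, hinj⟩ := hP j
  exact ⟨VertInter.isField_of_injective (Γ i₀) h hinj, finite_of_injective (Γ i₀) h hinj⟩


end Groth.Agent.S3323
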