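import Groth.Statements.S1635
import Groth.Agent.CurveSimple.Degree
import Groth.Agent.VBLib.GenusZero

set_option autoImplicit false
universe u
open CategoryTheory CategoryTheory.Limits AlgebraicGeometry
open Curves

namespace Groth.Agent.S1635

/-- Let X be a proper curve over k with global functions k and genus 0, and L an invertible module of
degree d > 0. Then H^0(X, L) has dimension d + 1 and H^1(X, L) = 0. -/
theorem result (k : Type u) [Field k] (X : Scheme.{u}) [X.Over (Spec (CommRingCat.of k))]
    [IsIntegral X] [IsProper (X ↘ (Spec (CommRingCat.of k)))] (hdim : topologicalKrullDim X = 1)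
    (h0 : Module.finrank k (Coh.HH X (Coh.structureModule X) 0) = 1) (hg : Curv2.genus k X = 0)
    (L : X.Modules) (hL : PicF.IsInvertible L) (d : ℕ) (hd : 0 < d) (hdeg : Curv2.deg k X L 1 = d) :
    Module.finrank k (Coh.HH X L 0) = d + 1 ∧ Subsingleton (Coh.HH X L 1) := by
  have hO : Curv2.euler k X (Coh.structureModule X) = 1 := by
    rw [CurveSimple.euler_eq k hdim, h0, show Module.finrank k (Coh.HH X (Coh.structureModule X) 1) = 0 from hg]
    simp
  have hLe : Curv2.euler k X L = (d : ℤ) + 1 := by
    have := hdeg
    rw [Curv2.deg, hO] at this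
    push_cast at this
    linarith
  rw [CurveSimple.euler_eq k hdim] at hLe
  have hpos : 0 < Module.finrank k (Coh.HH X L 0) := by omega
  obtain ⟨h1, -⟩ := VBLib.GenusZero.finrank_H0_le k hdim h0 hL (Module.nontrivial_of_finrank_pos hpos)
  rw [hdeg] at h1
  haveI := EulerChar.finite_HH k L (VBLib.GenusZero.isCoh_of_invertible hL) 1
  exact ⟨by omega, (Module.finrank_zero_iff (R := k)).1 (by omega)⟩

end Groth.Agent.S1635
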