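import Groth.Statements.S1636
import Groth.Agent.CurveSimple.Embed
import Groth.Agent.S1635

set_option linter.style.haveILetI false
set_option backward.isDefEq.respectTransparency false
set_option backward.isDefEq.respectTransparency.types false

set_option autoImplicit false
universe u
open CategoryTheory CategoryTheory.Limits AlgebraicGeometry
open Curves

namespace Groth.Agent.S1636

/-- Let X be a proper curve over k with global functions k and genus 0, and L an invertible module of
degree d > 0. Then there is a closed immersion i : X → P^d_k over k with i^* O(1) ≅ L. -/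
theorem result (k : Type u) [Field k] (X : Scheme.{u}) [X.Over (Spec (CommRingCat.of k))]
    [IsIntegral X] [IsProper (X ↘ (Spec (CommRingCat.of k)))] (hdim : topologicalKrullDim X = 1)
    (h0 : Module.finrank k (Coh.HH X (Coh.structureModule X) 0) = 1) (hg : Curv2.genus k X = 0)
    (L : X.Modules) (hL : PicF.IsInvertible L) (d : ℕ) (hd : 0 < d) (hdeg : Curv2.deg k X L 1 = d) :
    ∃ i : X ⟶ CohB1.ProjSpace d k, IsClosedImmersion i ∧ i ≫ CohB1.ProjSpace.toSpec d k = X ↘ (Spec (CommRingCat.of k)) ∧
      Nonempty ((Scheme.Modules.pullback i).obj (Twist.twistProjSpace d k 1) ≅ L) := by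
  set B := Groth.Agent.CohDev.tens L (Coh.structureModule X)
  have hB : PicF.IsInvertible B :=
    AmpleLib.isInvertible_tensorMod hL (PicLoc.isInvertible_structureModule X)
  let w : B ≅ L := ProjTwist.tensOne L
  have hBd : Curv2.deg k X B 1 = d := (EulerChar.deg_iso k w).trans hdeg
  haveI := EulerChar.finite_HH k B (VBLib.isCoh_of_ofRank (ProjTwist.isFinLocFreeOfRank_one hB)) 0
  haveI := EulerChar.finite_HH k (Coh.structureModule X) (VBLib.isCoh_of_ofRank
    (ProjTwist.isFinLocFreeOfRank_one (PicLoc.isInvertible_structureModule X))) 1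
  obtain ⟨b, hb⟩ := CurveSimple.exists_generatedBy k (S1635.result k X hdim h0 hg B hB d hd hBd).1
    (CurveSimple.exists_genLocus_of_deg_ge k hdim h0 hL (by rw [hg, hdeg]; simp))
  obtain ⟨i, hi, hi', ⟨τ⟩⟩ := CurveSimple.exists_closedImmersion k hdim
    (Module.finrank_zero_iff.1 hg) hB (by rw [hBd]; exact_mod_cast hd.ne') _ hb (fun σ =>
      ⟨fun j => b.repr ((ProperFin.h0Sec B).symm σ) j, by
        conv_lhs => rw [← (ProperFin.h0Sec B).apply_symm_apply σ, ← b.sum_repr ((ProperFin.h0Sec B).symm σ),
          map_sum]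
        exact Finset.sum_congr rfl fun j _ => ProperFin.h0Sec_smul B
          (Coh.toGlobal (X ↘ Spec (CommRingCat.of k)) _) (b j)⟩)
  exact ⟨i, hi, hi', ⟨τ ≪≫ w⟩⟩

end Groth.Agent.S1636
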