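import Groth.Statements.S17660
import Groth.Agent.LiftLib.KerUnit
import Groth.Agent.EulerChar.Cartier
import Groth.Agent.EulerChar.Push
import Groth.Agent.EulerChar.AmpleCurve
import Groth.Agent.FFCurve.IsoP1
import Groth.Agent.FormalFun.TowerVan
import Groth.Agent.ProperFin.FiniteMap

set_option autoImplicit false
universe u
open CategoryTheory CategoryTheory.Limits AlgebraicGeometry
open Ribbon

namespace Groth.Agent.S17660

/-- The degree of the pullback of `O(m)` along an isomorphism with the line. -/
theorem deg_pullback_twist {D : Scheme.{u}} (k : Type u) [Field k] [D.Over (Spec (CommRingCat.of k))]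
    [IsProper (D ↘ Spec (CommRingCat.of k))] [IsIntegral D] (hdim : topologicalKrullDim D = 1)
    (e : D ≅ CohB1.ProjSpace 1 k) (he : e.hom ≫ CohB1.ProjSpace.toSpec 1 k = D ↘ Spec (CommRingCat.of k))
    (m : ℤ) : Curv2.deg k D ((Scheme.Modules.pullback e.hom).obj (Twist.twistProjSpace 1 k m)) 1 = m := by
  let f : ℤ → ℤ := fun m => Curv2.deg k D ((Scheme.Modules.pullback e.hom).obj (Twist.twistProjSpace 1 k m)) 1
  have hinv : ∀ m, PicF.IsInvertible ((Scheme.Modules.pullback e.hom).obj (Twist.twistProjSpace 1 k m)) :=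
    fun m => PicCl.isInvertible_pullback e.hom (ProjTwist.isInvertible_twistProjSpace 1 k m)
  have hadd : ∀ a b, f (a + b) = f a + f b := fun a b => by
    obtain ⟨t⟩ := ProjTwist.nonempty_twistProjSpace_tensor 1 k a b
    obtain ⟨p⟩ := PicLaw.pullback_tensor e.hom (ProjTwist.isInvertible_twistProjSpace 1 k a)
      (ProjTwist.isInvertible_twistProjSpace 1 k b)
    have h := EulerChar.deg_tens k (ProjTwist.isFinLocFreeOfRank_one (hinv a)) hdim.le
      (ProjTwist.isFinLocFreeOfRank_one (hinv b))
    show Curv2.deg k D _ 1 = _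
    rw [EulerChar.deg_iso k ((Scheme.Modules.pullback e.hom).mapIso t.symm ≪≫ p)]
    refine Eq.trans h ?_
    push_cast
    show (1 : ℤ) * f b + 1 * f a = _
    ring
  have h := map_zsmul (AddMonoidHom.mk' f hadd) m 1
  rw [smul_eq_mul, mul_one, smul_eq_mul] at h
  have h1 : f 1 = 1 := (FFCurve.pullback_twist_one k e he).1
  show f m = m
  exact h.trans (by rw [AddMonoidHom.mk'_apply, h1, mul_one])

/-- Let C be a proper scheme over a field k and I ⊂ O_C a quasi-coherent ideal with I² = 0 whose closed
subscheme D ⊂ C is isomorphic over k to the projective line, and suppose that I, regarded as an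
O_D-module, is isomorphic to O_{P^1}(-g-1) (so C is a ribbon of arithmetic genus g on P^1 with
conormal bundle I). If L is an invertible O_C-module whose restriction to D is isomorphic to
O_{P^1}(n), then the degree χ(C, L) - χ(C, O_C) of L equals 2n. (Stated over an arbitrary ground
field; the source works with rational ribbons over an algebraically closed field, and also
identifies I·L with O_{P^1}(n-g-1), which is not asserted here.) -/
theorem result (k : Type u) [Field k] (C : Scheme.{u}) [C.Over (Spec (CommRingCat.of k))]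
    [IsProper (C ↘ (Spec (CommRingCat.of k)))]
    (I : C.IdealSheafData) (hI : I ^ 2 = ⊥)
    (e : I.subscheme ≅ CohB1.ProjSpace 1 k)
    (he : e.hom ≫ CohB1.ProjSpace.toSpec 1 k = I.subschemeι ≫ (C ↘ (Spec (CommRingCat.of k))))
    (g : ℕ)
    (hconormal : Nonempty ((Scheme.Modules.pullback I.subschemeι).obj (ClSub.idealMod I) ≅
      (Scheme.Modules.pullback e.hom).obj (Twist.twistProjSpace 1 k (-((g : ℤ) + 1)))))
    (L : C.Modules) (hL : PicF.IsInvertible L) (n : ℤ)
    (hLD : Nonempty ((Scheme.Modules.pullback I.subschemeι).obj L ≅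
      (Scheme.Modules.pullback e.hom).obj (Twist.twistProjSpace 1 k n))) :
    Curv2.deg k C L 1 = 2 * n := by
  letI : I.subscheme.Over (Spec (CommRingCat.of k)) := ⟨I.subschemeι ≫ (C ↘ Spec (CommRingCat.of k))⟩
  haveI : IsProper (I.subscheme ↘ Spec (CommRingCat.of k)) :=
    inferInstanceAs (IsProper (I.subschemeι ≫ (C ↘ Spec (CommRingCat.of k))))
  obtain ⟨-, -, hPi, hPd⟩ := FFCurve.p1_facts k
  haveI := hPi
  haveI : Nonempty I.subscheme := e.inv.homeomorph.toEquiv.symm.nonempty
  haveI : IsIntegral I.subscheme := isIntegral_of_isOpenImmersion e.hom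
  have hdim : topologicalKrullDim I.subscheme = 1 := by
    rw [← hPd]; exact e.hom.homeomorph.isHomeomorph.topologicalKrullDim_eq _
  haveI := EulerChar.isNoetherian k (X := C)
  haveI := EulerChar.isNoetherian k (X := I.subscheme)
  let i := I.subschemeι
  let E := fun m => (Scheme.Modules.pullback e.hom).obj (Twist.twistProjSpace 1 k m)
  have hE : ∀ m, PicF.IsInvertible (E m) :=
    fun m => PicCl.isInvertible_pullback e.hom (ProjTwist.isInvertible_twistProjSpace 1 k m)
  have hEc : ∀ m, Coh.IsCoh (E m) := fun m =>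
    VBLib.isCoh_of_ofRank (ProjTwist.isFinLocFreeOfRank_one (hE m))
  have key : ∀ (F : C.Modules) (hF : PicF.IsInvertible F) (c : ℤ)
      (hc : Nonempty ((Scheme.Modules.pullback i).obj F ≅ E c)),
      Curv2.euler k C F =
        Curv2.euler k I.subscheme (E (-((g : ℤ) + 1) + c)) + Curv2.euler k I.subscheme (E c) := by
    intro F hF c ⟨ec⟩
    have hFr := ProjTwist.isFinLocFreeOfRank_one hF
    have hFl := VBLib.isFinLocFree_of_ofRank hFr
    have hS := ProjTwist.shortExact_tensor hF (EulerChar.shortExact_ideal I)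
    obtain ⟨eI⟩ := LiftLib.nonempty_idealTensorIso I hI hFl
    obtain ⟨eN⟩ := hconormal
    obtain ⟨t⟩ := ProjTwist.nonempty_twistProjSpace_tensor 1 k (-((g : ℤ) + 1)) c
    obtain ⟨p⟩ := PicLaw.pullback_tensor e.hom (ProjTwist.isInvertible_twistProjSpace 1 k (-((g : ℤ) + 1)))
      (ProjTwist.isInvertible_twistProjSpace 1 k c)
    let e1 : (LiftLib.tensR F).obj (ClSub.idealMod I) ≅ (Scheme.Modules.pushforward i).obj (E (-((g : ℤ) + 1) + c)) :=
      eI ≪≫ (Scheme.Modules.pushforward i).mapIso
        (ProjTwist.tensCongr eN ec ≪≫ p.symm ≪≫ (Scheme.Modules.pullback e.hom).mapIso t)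
    haveI := ProjForm.isIso_θ_of_isFinLocFree i (Coh.structureModule I.subscheme) hFl
    let e2 : (LiftLib.tensR F).obj (ClSub.quotMod I) ≅ (Scheme.Modules.pushforward i).obj (E c) :=
      asIso ((KFlat.ProjFormula.θ i (Coh.structureModule I.subscheme)).app F) ≪≫
        (Scheme.Modules.pushforward i).mapIso (ProjTwist.oneTens _ ≪≫ ec)
    let e3 : (LiftLib.tensR F).obj (Coh.structureModule C) ≅ F := ProjTwist.oneTens F
    have h1 : Coh.IsCoh ((Scheme.Modules.pushforward i).obj (E (-((g : ℤ) + 1) + c))) :=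
      ProperFin.isCoh_push_of_isFinite i _ (hEc _)
    have h2 : Coh.IsCoh ((Scheme.Modules.pushforward i).obj (E c)) :=
      ProperFin.isCoh_push_of_isFinite i _ (hEc _)
    have h := EulerChar.euler_add_map k (LiftLib.tensR F) (ClSub.idealModι I) (ClSub.toSubscheme I)
      (kernel.condition _) hS (CohDev.isCoh_of_iso e1.symm h1)
      (CohDev.isCoh_of_iso e3.symm (VBLib.isCoh_of_ofRank hFr)) (CohDev.isCoh_of_iso e2.symm h2)
    rw [EulerChar.euler_iso k e3, EulerChar.euler_iso k e1, EulerChar.euler_iso k e2,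
      EulerChar.euler_push i rfl _ (hEc _).1, EulerChar.euler_push i rfl _ (hEc _).1] at h
    exact h
  have hO : Nonempty ((Scheme.Modules.pullback i).obj (Coh.structureModule C) ≅ E 0) :=
    ⟨QCoh.pullbackUnitIso i ≪≫ (QCoh.pullbackUnitIso e.hom).symm ≪≫
      (Scheme.Modules.pullback e.hom).mapIso (ProjTwist.twistZeroIso (CohB1.polyGrading 1 k))⟩
  have hd : ∀ m, Curv2.euler k I.subscheme (E m) = m + Curv2.euler k I.subscheme (Coh.structureModule I.subscheme) :=
    fun m => by
      have := deg_pullback_twist k hdim e he m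
      rw [Curv2.deg] at this
      push_cast at this ⊢
      linarith
  rw [Curv2.deg, key L hL n hLD, key _ (PicLoc.isInvertible_structureModule C) 0 hO, hd, hd, hd, hd]
  push_cast
  ring

end Groth.Agent.S17660
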