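import Groth.Statements.S3326
import Groth.Agent.VertInter.DivField
import Groth.Agent.VertInter.Kernel
import Groth.Agent.S1636
import Groth.Agent.S17660
import Groth.Agent.S10830
-- import your own Groth.Agent.* helpers here

set_option linter.style.haveILetI false
set_option backward.isDefEq.respectTransparency false
set_option backward.isDefEq.respectTransparency.types false

set_option autoImplicit false
universe u
open CategoryTheory CategoryTheory.Limits AlgebraicGeometry
open Models

namespace Groth.Agent.S3326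

/-- Ranks of cohomology over a smaller field of scalars. -/
theorem hRank_tower {k F : Type u} [Field k] [Field F] {E : Scheme.{u}}
    (g : E ⟶ Spec (CommRingCat.of k)) (h : E ⟶ Spec (CommRingCat.of F)) (φ : k →+* F)
    (hφ : ∀ c, Coh.toGlobal h (φ c) = Coh.toGlobal g c) (M : E.Modules) (i : ℕ) :
    Models.hRank k E g M i = Models.homDegree φ * Models.hRank F E h M i := by
  unfold Models.hRank Models.homDegree
  letI := φ.toAlgebra
  letI : Module k (Coh.HH E M i) := Module.compHom _ (Coh.toGlobal g)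
  letI : Module F (Coh.HH E M i) := Module.compHom _ (Coh.toGlobal h)
  haveI : IsScalarTower k F (Coh.HH E M i) := IsScalarTower.of_algebraMap_smul fun c x => by
    show Coh.toGlobal h (φ c) • x = Coh.toGlobal g c • x
    rw [hφ]
  exact (Module.finrank_mul_finrank k F (Coh.HH E M i)).symm

/-- Degrees over a smaller field of scalars. -/
theorem deg_tower {k F : Type u} [Field k] [Field F] {E : Scheme.{u}} [iK : E.Over (Spec (CommRingCat.of k))]
    [iF : E.Over (Spec (CommRingCat.of F))] (φ : k →+* F)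
    (hφ : ∀ c, Coh.toGlobal (E ↘ Spec (CommRingCat.of F)) (φ c) = Coh.toGlobal (E ↘ Spec (CommRingCat.of k)) c)
    (M : E.Modules) :
    Curv2.deg k E M 1 = Models.homDegree φ * Curv2.deg F E M 1 := by
  have h : ∀ N : E.Modules, Curv2.euler k E N = Models.homDegree φ * Curv2.euler F E N := fun N => by
    rw [Curv2.euler, Curv2.euler, mul_finsum]
    exact finsum_congr fun j => by
      rw [show Module.finrank k (Coh.HH E N j) = Models.hRank k E (E ↘ Spec (CommRingCat.of k)) N j from rfl,
        hRank_tower _ (E ↘ Spec (CommRingCat.of F)) φ hφ]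
      push_cast
      rw [show Models.hRank F E (E ↘ Spec (CommRingCat.of F)) N j = Module.finrank F (Coh.HH E N j) from rfl]
      ring
  rw [Curv2.deg, Curv2.deg, h, h]
  push_cast
  ring

/-- Cohomology of the structure sheaf of a line. -/
theorem line_rank {F : Type u} [Field F] {E : Scheme.{u}} [E.Over (Spec (CommRingCat.of F))]
    (e : E ≅ CohB1.ProjSpace 1 F)
    (he : e.hom ≫ CohB1.ProjSpace.toSpec 1 F = E ↘ Spec (CommRingCat.of F)) :
    Module.finrank F (Coh.HH E (Coh.structureModule E) 0) = 1 ∧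
      Module.finrank F (Coh.HH E (Coh.structureModule E) 1) = 0 := by
  letI : (CohB1.ProjSpace 1 F).Over (Spec (CommRingCat.of F)) := ⟨CohB1.ProjSpace.toSpec 1 F⟩
  have hw : e.inv ≫ (E ↘ Spec (CommRingCat.of F)) = (CohB1.ProjSpace 1 F) ↘ Spec (CommRingCat.of F) := by
    rw [← he, e.inv_hom_id_assoc]; rfl
  let z : Coh.structureModule (CohB1.ProjSpace 1 F) ≅ Twist.twistProjSpace 1 F 0 :=
    ProjTwist.twistZeroIso (CohB1.polyGrading 1 F)
  let u : (Scheme.Modules.pullback e.hom).obj (Coh.structureModule (CohB1.ProjSpace 1 F)) ≅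
      Coh.structureModule E := QCoh.pullbackUnitIso e.hom
  have hH : ∀ j, Module.finrank F (Coh.HH E (Coh.structureModule E) j) =
      Module.finrank F (Coh.HH (CohB1.ProjSpace 1 F) (Twist.twistProjSpace 1 F 0) j) := fun j => by
    obtain ⟨q⟩ := EulerChar.nonempty_pushEquiv e.inv (A := F) hw (Twist.twistProjSpace 1 F 0)
      (ProjTwist.isQCoh_of_isInvertible (ProjTwist.isInvertible_twistProjSpace 1 F 0)) j
    let t : Coh.structureModule E ≅ (Scheme.Modules.pushforward e.inv).obj (Twist.twistProjSpace 1 F 0) :=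
      u.symm ≪≫ (FFCurve.pullbackIsoPush e).app _ ≪≫ (Scheme.Modules.pushforward e.inv).mapIso z
    exact (LinearEquiv.ofBijective (CohLin.overLin F (CohLin.hMap t.hom j))
      (CohLin.hIso t j).bijective).finrank_eq.trans q.finrank_eq
  refine ⟨?_, ?_⟩
  · rw [hH, show Twist.twistProjSpace 1 F 0 = Twist.twistProjSpace 1 F ((0 : ℕ) : ℤ) from rfl,
      (ProjTwist.Pn.h0Equiv 1 F 0).finrank_eq.symm, PlanePts.finrank_forms, add_comm, Nat.choose_one_right]
  · rw [hH]
    haveI := ProjTwist.Pn.subsingleton_twist (n := 1) (R := F) (0 : ℤ) 0 (Or.inr (by omega))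
    exact Module.finrank_zero_of_subsingleton (M := Coh.HH (CohB1.ProjSpace 1 F) (Twist.twistProjSpace 1 F 0) (0 + 1))

/-- A class of degree zero as a function. -/
noncomputable def secOf {E : Scheme.{u}} (x : Coh.HH E (Coh.structureModule E) 0) : Γ(E, ⊤) :=
  ProperFin.h0Sec (Coh.structureModule E) x

/-- The class of the constant function one. -/
noncomputable def one0 (E : Scheme.{u}) : Coh.HH E (Coh.structureModule E) 0 :=
  (ProperFin.h0Sec (Coh.structureModule E)).symm (show Γ(Coh.structureModule E, ⊤) from (1 : Γ(E, ⊤)))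

theorem secOf_one0 (E : Scheme.{u}) : secOf (one0 E) = 1 := AddEquiv.apply_symm_apply _ _

theorem secOf_smul_one {F : Type u} [CommRing F] {E : Scheme.{u}} (ρ : E ⟶ Spec (CommRingCat.of F)) (c : F) :
    secOf (Coh.toGlobal ρ c • one0 E) = Coh.toGlobal ρ c := by
  refine (ProperFin.h0Sec_smul _ (Coh.toGlobal ρ c) _).trans ?_
  exact (congrArg (Coh.toGlobal ρ c * ·) (secOf_one0 E)).trans (mul_one _)

variable {R : Type u} [CommRing R] [IsDomain R] [IsDiscreteValuationRing R]
  {X : Over (Spec (CommRingCat.of R))} [IsProper X.hom] (Γ : ArSurf.VertComp R X)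

local notation "k" => IsLocalRing.ResidueField R

theorem exists_field : ∃ (F : Type u) (_ : Field F) (ρ : Γ.curve.left ⟶ Spec (CommRingCat.of F)),
    IsProper ρ ∧ Function.Bijective (Coh.toGlobal ρ) := by
  haveI : IsProper Γ.curve.hom := VertInter.isProper_curve Γ
  refine ⟨Γ(Γ.curve.left, ⊤), (isField_of_universallyClosed k Γ.curve.hom).toField, Γ.curve.left.toSpecΓ, ?_, ?_⟩
  · haveI : IsProper (Γ.curve.left.toSpecΓ ≫ Spec.map Γ.curve.hom.appTop) := by
      rw [← Scheme.toSpecΓ_naturality]; infer_instance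
    exact IsProper.of_comp Γ.curve.left.toSpecΓ (Spec.map Γ.curve.hom.appTop)
  · have h : ∀ s, Coh.toGlobal (A := Γ(Γ.curve.left, ⊤)) Γ.curve.left.toSpecΓ s = s := fun s =>
      (congr($(Scheme.toSpecΓ_appTop Γ.curve.left) ((Scheme.ΓSpecIso (CommRingCat.of Γ(Γ.curve.left, ⊤))).inv s))).trans
        (congr($((Scheme.ΓSpecIso (CommRingCat.of Γ(Γ.curve.left, ⊤))).inv_hom_id) s))
    exact ⟨fun a b hab => (h a).symm.trans (hab.trans (h b)), fun b => ⟨b, h b⟩⟩

theorem criterion (hc : BlowUp.IsEffCartierIdeal Γ.ι.ker) {L : X.left.Modules} (hLi : PicF.IsInvertible L)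
    (hL : ClSub.IsInverseOf L (ClSub.idealMod Γ.ι.ker)) :
    Models.IsExcCurve Γ.ι ↔
      Models.h1 R X Γ = 0 ∧ ArSurf.inter R X L Γ = -(Models.wdeg R X Γ : ℤ) := by
  haveI : IsProper Γ.curve.hom := VertInter.isProper_curve Γ
  haveI : IsProper (Γ.curve.left ↘ Spec (CommRingCat.of k)) := VertInter.isProper_curve Γ
  have hI := IdealSh.IdealMod.isInvertible_of_isEffCartierIdeal Γ.ι.ker hc
  have hIn : ArSurf.inter R X (ClSub.idealMod Γ.ι.ker) Γ = -ArSurf.inter R X L Γ := by
    obtain ⟨e⟩ := hL
    have h := VertInter.inter_iso Γ e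
    rw [VertInter.inter_tensor Γ hLi hI, VertInter.inter_structure] at h
    linarith
  rw [show ArSurf.inter R X L Γ = -(Models.wdeg R X Γ : ℤ) ↔
    ArSurf.inter R X (ClSub.idealMod Γ.ι.ker) Γ = (Models.wdeg R X Γ : ℤ) by rw [hIn]; omega]
  constructor
  · rintro ⟨-, F, _, e, ⟨t⟩⟩
    obtain ⟨hPp, -, -, -⟩ := FFCurve.p1_facts F
    letI : Γ.curve.left.Over (Spec (CommRingCat.of F)) := ⟨e.inv ≫ CohB1.ProjSpace.toSpec 1 F⟩
    haveI : IsProper (Γ.curve.left ↘ Spec (CommRingCat.of F)) :=
      inferInstanceAs (IsProper (e.inv ≫ CohB1.ProjSpace.toSpec 1 F))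
    obtain ⟨h0, h1⟩ := line_rank (E := Γ.curve.left) e.symm rfl
    have hbij : Function.Bijective (Coh.toGlobal (Γ.curve.left ↘ Spec (CommRingCat.of F))) := by
      let l : F →ₗ[F] Coh.HH Γ.curve.left (Coh.structureModule Γ.curve.left) 0 :=
        LinearMap.toSpanSingleton F _ (one0 Γ.curve.left)
      have hl : ∀ c : F, secOf (l c) = Coh.toGlobal (Γ.curve.left ↘ Spec (CommRingCat.of F)) c :=
        fun c => secOf_smul_one (Γ.curve.left ↘ Spec (CommRingCat.of F)) c
      haveI : Nontrivial (Coh.Γtop Γ.curve.left) := inferInstanceAs (Nontrivial Γ(Γ.curve.left, ⊤))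
      have hinj : Function.Injective (Coh.toGlobal (Γ.curve.left ↘ Spec (CommRingCat.of F))) :=
        RingHom.injective _
      refine ⟨hinj, fun s => ?_⟩
      haveI : Module.Finite F (Coh.HH Γ.curve.left (Coh.structureModule Γ.curve.left) 0) :=
        Module.finite_of_finrank_eq_succ h0
      have li : Function.Injective l := fun a b h => hinj (by rw [← hl a, ← hl b, h])
      obtain ⟨c, hcs⟩ := (LinearMap.injective_iff_surjective_of_finrank_eq_finrank
        (by rw [h0, Module.finrank_self])).mp li ((ProperFin.h0Sec (Coh.structureModule Γ.curve.left)).symm s)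
      exact ⟨c, (hl c).symm.trans ((congrArg secOf hcs).trans (AddEquiv.apply_symm_apply _ s))⟩
    let φ : k →+* F := (RingEquiv.ofBijective _ hbij).symm.toRingHom.comp
      (Coh.toGlobal (Γ.curve.left ↘ Spec (CommRingCat.of k)))
    have hφ : ∀ c, Coh.toGlobal (Γ.curve.left ↘ Spec (CommRingCat.of F)) (φ c) =
        Coh.toGlobal (Γ.curve.left ↘ Spec (CommRingCat.of k)) c :=
      fun c => (RingEquiv.ofBijective _ hbij).apply_symm_apply _
    have hk : ∀ j, Module.finrank k (Coh.HH Γ.curve.left (Coh.structureModule Γ.curve.left) j) =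
        Models.homDegree φ * Module.finrank F (Coh.HH Γ.curve.left (Coh.structureModule Γ.curve.left) j) :=
      fun j => hRank_tower (Γ.curve.left ↘ Spec (CommRingCat.of k)) (Γ.curve.left ↘ Spec (CommRingCat.of F)) φ hφ _ j
    refine ⟨(hk 1).trans (by rw [h1, mul_zero]), ?_⟩
    let t' : (Scheme.Modules.pullback Γ.ι).obj (ClSub.idealMod Γ.ι.ker) ≅
        (Scheme.Modules.pullback e.inv).obj (Twist.twistProjSpace 1 F 1) :=
      ((Scheme.Modules.pullbackComp e.inv (e.hom ≫ Γ.ι)).app _ ≪≫
        (Scheme.Modules.pullbackCongr (e.inv_hom_id_assoc Γ.ι)).app _).symm ≪≫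
        (Scheme.Modules.pullback e.inv).mapIso t
    rw [VertInter.inter_eq_deg, deg_tower φ hφ, EulerChar.deg_iso F t',
      show e.inv = e.symm.hom from rfl, S17660.deg_pullback_twist F Γ.dim_eq e.symm rfl 1, mul_one]
    exact_mod_cast (by rw [Models.wdeg, hk 0, h0, mul_one] : Models.homDegree φ = Models.wdeg R X Γ)
  · rintro ⟨h1, hw⟩
    obtain ⟨F, _, ρ, hρp, hbij⟩ := exists_field Γ
    letI : Γ.curve.left.Over (Spec (CommRingCat.of F)) := ⟨ρ⟩
    haveI : IsProper (Γ.curve.left ↘ Spec (CommRingCat.of F)) := hρp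
    let φ : k →+* F := (RingEquiv.ofBijective _ hbij).symm.toRingHom.comp
      (Coh.toGlobal (Γ.curve.left ↘ Spec (CommRingCat.of k)))
    have hφ : ∀ c, Coh.toGlobal (Γ.curve.left ↘ Spec (CommRingCat.of F)) (φ c) =
        Coh.toGlobal (Γ.curve.left ↘ Spec (CommRingCat.of k)) c :=
      fun c => (RingEquiv.ofBijective _ hbij).apply_symm_apply _
    have hk : ∀ j, Module.finrank k (Coh.HH Γ.curve.left (Coh.structureModule Γ.curve.left) j) =
        Models.homDegree φ * Module.finrank F (Coh.HH Γ.curve.left (Coh.structureModule Γ.curve.left) j) :=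
      fun j => hRank_tower (Γ.curve.left ↘ Spec (CommRingCat.of k)) (Γ.curve.left ↘ Spec (CommRingCat.of F)) φ hφ _ j
    have h0 : Module.finrank F (Coh.HH Γ.curve.left (Coh.structureModule Γ.curve.left) 0) = 1 := by
      let l : F →ₗ[F] Coh.HH Γ.curve.left (Coh.structureModule Γ.curve.left) 0 :=
        LinearMap.toSpanSingleton F _ (one0 Γ.curve.left)
      have hl : Function.Bijective l := by
        have hlc : ∀ c : F, secOf (l c) = Coh.toGlobal (Γ.curve.left ↘ Spec (CommRingCat.of F)) c :=
          fun c => secOf_smul_one (Γ.curve.left ↘ Spec (CommRingCat.of F)) c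
        refine ⟨fun a b h => hbij.1 ((hlc a).symm.trans ((congrArg secOf h).trans (hlc b))), fun y => ?_⟩
        obtain ⟨c, hc'⟩ := hbij.2 (secOf y)
        exact ⟨c, (ProperFin.h0Sec _).injective ((hlc c).trans hc')⟩
      rw [← (LinearEquiv.ofBijective l hl).finrank_eq]
      exact Module.finrank_self _
    have hdeg : Models.homDegree φ = Models.wdeg R X Γ := by rw [Models.wdeg, hk 0, h0, mul_one]
    have hpos : Models.homDegree φ ≠ 0 := by
      haveI := EulerChar.finite_HH k (Coh.structureModule Γ.curve.left) (ProperFin.isCoh_structureModule _) 0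
      intro hz
      have hd0 : Models.homDegree φ = 0 := hz
      have h00 := hk 0
      rw [hd0, zero_mul] at h00
      have := Module.finrank_zero_iff.mp h00
      have hs := congrArg secOf (Subsingleton.elim (one0 Γ.curve.left) 0)
      rw [secOf_one0, show secOf (0 : Coh.HH Γ.curve.left (Coh.structureModule Γ.curve.left) 0) = 0 from map_zero _] at hs
      exact one_ne_zero hs
    have hg : Curv2.genus F Γ.curve.left = 0 :=
      (Nat.mul_eq_zero.mp ((hk 1).symm.trans h1)).resolve_left hpos
    have hd : Curv2.deg F Γ.curve.left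
        ((Scheme.Modules.pullback Γ.ι).obj (ClSub.idealMod Γ.ι.ker)) 1 = ((1 : ℕ) : ℤ) := by
      rw [VertInter.inter_eq_deg, deg_tower φ hφ, ← hdeg] at hw
      have hne : (Models.homDegree φ : ℤ) ≠ 0 := by exact_mod_cast hpos
      exact mul_left_cancel₀ hne (hw.trans (by simp))
    obtain ⟨i, hi, -, ⟨τ⟩⟩ := S1636.result _ Γ.curve.left Γ.dim_eq h0 hg _
      (PicLoc.isInvertible_pullback Γ.ι hI) 1 one_pos hd
    obtain ⟨-, -, hPi, hPd⟩ := FFCurve.p1_facts F
    haveI := hPi
    haveI : Surjective i := ⟨Set.range_eq_univ.mp (by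
      by_contra hne
      have hlt := S10830.result _ (by rw [hPd]; exact ne_of_lt (WithBot.coe_lt_coe.2 (ENat.coe_lt_top 1))) _ i.isClosedEmbedding.isClosed_range hne
      rw [← IsHomeomorph.topologicalKrullDim_eq _ (i.isEmbedding.toHomeomorph).isHomeomorph] at hlt
      rw [Γ.dim_eq, hPd] at hlt
      exact lt_irrefl _ hlt)⟩
    haveI : IsIso i := isIso_of_isClosedImmersion_of_surjective i
    refine ⟨hc, _, inferInstance, (asIso i).symm, ⟨?_⟩⟩
    exact ((Scheme.Modules.pullbackComp (asIso i).inv Γ.ι).app _).symm ≪≫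
      (Scheme.Modules.pullback (asIso i).inv).mapIso τ.symm ≪≫
      (Scheme.Modules.pullbackComp (asIso i).inv i).app _ ≪≫
      (Scheme.Modules.pullbackCongr (asIso i).inv_hom_id).app _ ≪≫ (Scheme.Modules.pullbackId _).app _

/-- Let R be a discrete valuation ring with residue field k and fraction field K, C a smooth proper
curve over K with H^0(C, O_C) = K, X a regular proper model of C over R, Γ_1, …, Γ_n the irreducible
components of the closed fibre of X, and L_i an O_X-module inverse to the ideal sheaf of Γ_i (L_i ⊗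
I(Γ_i) ≅ O_X). Then the component Γ_i is an exceptional curve of the first kind (an effective
Cartier divisor isomorphic to a projective line over a field, with conormal sheaf of degree one) if
and only if its genus is zero, i.e. H^1(Γ_i, O) = 0, and its self-intersection (Γ_i · Γ_i) =
deg_k(L_i|Γ_i) equals -[κ_i : k] = -dim_k H^0(Γ_i, O). The published statement is phrased
differently; this is a per-component form of it. -/
theorem result (R : Type u) [CommRing R] [IsDomain R] [IsDiscreteValuationRing R]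
    (C X : Scheme.{u}) (f : C ⟶ Spec (CommRingCat.of (FractionRing R))) (p : X ⟶ Spec (CommRingCat.of R))
    (hC : Curve.IsSmoothProperCurve (FractionRing R) C f) (hH0 : IsIso f.appTop)
    (hX : Models.IsRegularProperModel R X p C f)
    {n : ℕ} (Γ : Fin n → ArSurf.VertComp R (Over.mk p)) (hΓ : Models.IsComponentList R (Over.mk p) Γ)
    (L : Fin n → X.Modules) (hL : ∀ i, ClSub.IsInverseOf (L i) (ClSub.idealMod (Γ i).ι.ker)) (i : Fin n) :
    Models.IsExcCurve (Γ i).ι ↔
      Models.h1 R (Over.mk p) (Γ i) = 0 ∧ ArSurf.inter R (Over.mk p) (L i) (Γ i) = -(Models.wdeg R (Over.mk p) (Γ i) : ℤ) := by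
  haveI : IsProper (Over.mk p).hom := hX.2.1
  haveI : IsProper p := hX.2.1
  exact criterion (Γ i) ((S3313.eq_prod p hX.1.1 inferInstance hX.2.2 Γ hΓ).1 i)
    (VertInter.model_invertible hX hΓ L hL i) (hL i)

end Groth.Agent.S3326
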