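import Groth.Statements.S3347
import Groth.Agent.S3326
import Groth.Agent.VertInter.List
import Groth.Agent.RedSub.Basic
import Groth.Agent.S10830
-- import your own Groth.Agent.* helpers here

set_option autoImplicit false
universe u
open CategoryTheory CategoryTheory.Limits AlgebraicGeometry
open Models

namespace Groth.Agent.S3347

/-- In the following situation (R a discrete valuation ring with residue field k, C a smooth proper
curve over its fraction field K with H^0(C, O_C) = K, X a regular proper model, Γ_1, …, Γ_n the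
irreducible components of the closed fibre, L_i ⊗ I(Γ_i) ≅ O_X) the following are equivalent: X is a
minimal model (no vertical prime divisor of X is an exceptional curve of the first kind); the
numerical type of X is minimal, i.e. there is no index i with g_i = 0 (H^1(Γ_i, O) = 0) and (Γ_i ·
Γ_i) = deg_k(L_i|Γ_i) = -[κ_i : k] = -dim_k H^0(Γ_i, O). -/
theorem result (R : Type u) [CommRing R] [IsDomain R] [IsDiscreteValuationRing R]
    (C X : Scheme.{u}) (f : C ⟶ Spec (CommRingCat.of (FractionRing R))) (p : X ⟶ Spec (CommRingCat.of R))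
    (hC : Curve.IsSmoothProperCurve (FractionRing R) C f) (hH0 : IsIso f.appTop)
    (hX : Models.IsRegularProperModel R X p C f)
    {n : ℕ} (Γ : Fin n → ArSurf.VertComp R (Over.mk p)) (hΓ : Models.IsComponentList R (Over.mk p) Γ)
    (L : Fin n → X.Modules) (hL : ∀ i, ClSub.IsInverseOf (L i) (ClSub.idealMod (Γ i).ι.ker)) :
    Models.IsMinimalModel R X p C f ↔
      ∀ i, ¬ (Models.h1 R (Over.mk p) (Γ i) = 0 ∧ ArSurf.inter R (Over.mk p) (L i) (Γ i) = -(Models.wdeg R (Over.mk p) (Γ i) : ℤ)) := by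
  have hcr := fun i => S3326.result R C X f p hC hH0 hX Γ hΓ L hL i
  refine ⟨fun h i hi => h.2 (Γ i) ((hcr i).mpr hi), fun h => ⟨hX, fun Δ hΔ => ?_⟩⟩
  haveI : IsProper p := hX.2.1
  haveI : Flat p := hX.1.1
  haveI : CompactSpace X := QuasiCompact.compactSpace_of_compactSpace p
  haveI : IsLocallyNoetherian X := LocallyOfFiniteType.isLocallyNoetherian p
  have hmem : ∀ y, Δ.ι.base y ∈ Models.specialFibreSet R (Over.mk p) := fun y => by
    have hw : (Over.mk p).hom.base (Δ.ι.base y) = (Spec.map (CommRingCat.ofHom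
        (algebraMap R (IsLocalRing.ResidueField R)))).base (Δ.curve.hom.base y) :=
      congr(($(Δ.w)).base y)
    show (Over.mk p).hom.base (Δ.ι.base y) = _
    rw [hw]
    exact PrimeSpectrum.ext (by
      show Ideal.comap (algebraMap R (IsLocalRing.ResidueField R)) (Δ.curve.hom.base y).asIdeal = IsLocalRing.maximalIdeal R
      rw [(Ideal.eq_bot_or_top (Δ.curve.hom.base y).asIdeal).resolve_right (Δ.curve.hom.base y).isPrime.ne_top]
      exact IsLocalRing.ker_residue)
  obtain ⟨j, hj⟩ := Set.mem_iUnion.mp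
    ((VertInter.iUnion_range_eq hΓ).symm ▸ hmem (genericPoint Δ.curve.left))
  have hcj : IsClosed (Set.range (Γ j).ι.base) := (Γ j).ι.isClosedEmbedding.isClosed_range
  have hsub : Set.range Δ.ι.base ⊆ Set.range (Γ j).ι.base := by
    rintro _ ⟨y, rfl⟩
    exact ((genericPoint_specializes y).map Δ.ι.continuous).mem_closed hcj hj
  have heq : Set.range Δ.ι.base = Set.range (Γ j).ι.base := by
    by_contra hne
    have hY : IsClosed ((Γ j).ι.base ⁻¹' Set.range Δ.ι.base) :=
      Δ.ι.isClosedEmbedding.isClosed_range.preimage (Γ j).ι.continuous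
    have hlt := S10830.result (Γ j).curve.left
      (by rw [(Γ j).dim_eq]; exact ne_of_lt (WithBot.coe_lt_coe.2 (ENat.coe_lt_top 1))) _ hY
      (fun hu => hne (hsub.antisymm (by
        rintro _ ⟨y, rfl⟩
        exact Set.eq_univ_iff_forall.mp hu y)))
    let e : ↥Δ.curve.left ≃ₜ ↥((Γ j).ι.base ⁻¹' Set.range Δ.ι.base) :=
      (Δ.ι.isEmbedding.toHomeomorph).trans (((Γ j).ι.isEmbedding.homeomorphImage _).trans
        (Homeomorph.setCongr (Set.image_preimage_eq_of_subset hsub))).symm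
    rw [← IsHomeomorph.topologicalKrullDim_eq _ e.isHomeomorph, (Γ j).dim_eq, Δ.dim_eq] at hlt
    exact lt_irrefl _ hlt
  have hker : (Γ j).ι.ker = Δ.ι.ker := by
    rw [RedSub.ker_eq_vanishingIdeal (Γ j).ι ⟨_, hcj⟩ rfl, RedSub.ker_eq_vanishingIdeal Δ.ι ⟨_, hcj⟩ heq]
  let σ : Δ.curve.left ⟶ (Γ j).curve.left := IsClosedImmersion.lift (Γ j).ι Δ.ι hker.le
  let τ : (Γ j).curve.left ⟶ Δ.curve.left := IsClosedImmersion.lift Δ.ι (Γ j).ι hker.ge
  have hσ : σ ≫ (Γ j).ι = Δ.ι := IsClosedImmersion.lift_fac _ _ _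
  have hτ : τ ≫ Δ.ι = (Γ j).ι := IsClosedImmersion.lift_fac _ _ _
  let s : Δ.curve.left ≅ (Γ j).curve.left :=
    ⟨σ, τ, by rw [← cancel_mono Δ.ι, Category.assoc, hτ, hσ, Category.id_comp],
      by rw [← cancel_mono (Γ j).ι, Category.assoc, hσ, hτ, Category.id_comp]⟩
  refine h j ((hcr j).mp ?_)
  obtain ⟨hc, F, iF, e₁, ⟨t⟩⟩ := hΔ
  refine ⟨hker ▸ hc, F, iF, e₁ ≪≫ s, ⟨?_⟩⟩
  rw [hker]
  refine (Scheme.Modules.pullbackCongr ?_).app _ ≪≫ t
  show (e₁.hom ≫ σ) ≫ (Γ j).ι = e₁.hom ≫ Δ.ι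
  rw [Category.assoc, hσ]

end Groth.Agent.S3347
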