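import Groth.Statements.S3345
import Groth.Agent.S3347
import Groth.Agent.S3320
import Groth.Agent.VertInter.FibreChi
import Groth.Agent.VertInter.List
import Groth.Agent.BlowSep.Stalk
import Groth.Agent.RedSub.Basic
-- import your own Groth.Agent.* helpers here

set_option autoImplicit false
set_option linter.style.haveILetI false
set_option backward.isDefEq.respectTransparency false
set_option backward.isDefEq.respectTransparency.types false
universe u
open CategoryTheory CategoryTheory.Limits AlgebraicGeometry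
open Models

namespace Groth.Agent.S3345

open IntMult (stalkIdeal)

section Red

open Groth.Agent.IdealSh Groth.Agent.IdealSh.Comap Groth.Agent.CDivLib TopologicalSpace Groth.Agent.S3313

/-- The reduced closed fibre is the sum of the components. -/
theorem red_eq_prod {R : Type u} [CommRing R] [IsDomain R] [IsDiscreteValuationRing R] {X : Scheme.{u}}
    (p : X ⟶ Spec (CommRingCat.of R)) [Flat p] [IsProper p]
    (hreg : Models.IsRegularScheme X) {n : ℕ} (Γ : Fin n → ArSurf.VertComp R (Over.mk p))
    (hΓ : Models.IsComponentList R (Over.mk p) Γ) :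
    Models.redFibreIdeal R (Over.mk p) = ∏ i, (Γ i).ι.ker ^ (1 : ℕ) := by
  classical
  haveI : IsLocallyNoetherian X := LocallyOfFiniteType.isLocallyNoetherian p
  haveI : CompactSpace X := QuasiCompact.compactSpace_of_compactSpace p
  haveI : ∀ x : X, IsDomain (X.presheaf.stalk x) := fun x =>
    haveI := hreg x
    RegLoc.isDomain _
  haveI : ∀ x : X, UniqueFactorizationMonoid (X.presheaf.stalk x) := fun x =>
    haveI := hreg x
    RegLoc.UFD.uniqueFactorizationMonoid _
  haveI : Flat (Over.mk p).hom := ‹Flat p›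
  haveI : IsLocallyNoetherian (Over.mk p).left := ‹IsLocallyNoetherian X›
  haveI : ∀ x : (Over.mk p).left, IsDomain ((Over.mk p).left.presheaf.stalk x) := ‹∀ x : X, IsDomain _›
  haveI : ∀ x : (Over.mk p).left, UniqueFactorizationMonoid ((Over.mk p).left.presheaf.stalk x) :=
    ‹∀ x : X, UniqueFactorizationMonoid _›
  obtain ⟨ϖ, hϖ⟩ := IsDiscreteValuationRing.exists_irreducible R
  have hker : ∀ i, (Γ i).ι.ker = Scheme.IdealSheafData.vanishingIdeal
      (⟨Set.range (Γ i).ι.base, (Γ i).ι.isClosedEmbedding.isClosed_range⟩ : Closeds (Over.mk p).left) :=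
    fun i => RedSub.ker_eq_vanishingIdeal _ _ rfl
  have hred : Models.redFibreIdeal R (Over.mk p) = ⨅ i, (Γ i).ι.ker := by
    simp only [hker]
    rw [← Scheme.IdealSheafData.vanishingIdeal_iSup]
    refine congrArg _ (le_antisymm (fun y hy => ?_) (iSup_le fun i => ?_))
    · obtain ⟨i, hi⟩ := Set.mem_iUnion.mp ((VertInter.iUnion_range_eq hΓ).symm ▸
        (show y ∈ Models.specialFibreSet R (Over.mk p) from hy))
      exact le_iSup (fun i => (⟨Set.range (Γ i).ι.base, (Γ i).ι.isClosedEmbedding.isClosed_range⟩ : Closeds (Over.mk p).left)) i hi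
    · exact (show Set.range (Γ i).ι.base ∈ Models.fibreComponents R (Over.mk p) from hΓ.2 ▸ ⟨i, rfl⟩).1.2
  refine ext_of_forall_exists _ _ fun x => exists_affine_ideal_eq _ _ x ?_
  rw [stalkIdeal_prod]
  simp only [pow_one]
  have ha : ∀ i, ∃ a, genPtOf R (Over.mk p) (Γ i) ⤳ x → Prime a ∧
      stalkIdeal (Γ i).ι.ker x = Ideal.span {a} := fun i => by
    by_cases h : genPtOf R (Over.mk p) (Γ i) ⤳ x
    · obtain ⟨a, c, h1, h2, -⟩ := exists_generator (Over.mk p) hϖ Γ hΓ x i h
      exact ⟨a, fun _ => ⟨h1, (stalkIdeal_ker (Γ i).ι h).trans h2⟩⟩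
    · exact ⟨1, fun h' => absurd h' h⟩
  choose a hac using ha
  let s := Finset.univ.filter fun i => genPtOf R (Over.mk p) (Γ i) ⤳ x
  rw [← Finset.prod_subset (Finset.subset_univ s) fun i _ hi => by
    rw [stalkIdeal_ker_eq_top (Γ i).ι (by
        change ¬ genPtOf R (Over.mk p) (Γ i) ⤳ x
        simpa [s] using hi), Ideal.one_eq_top]]
  have hs : ∀ i ∈ s, genPtOf R (Over.mk p) (Γ i) ⤳ x := fun i hi => by simpa [s] using hi
  rw [Finset.prod_congr rfl fun i hi => (hac i (hs i hi)).2, Ideal.prod_span_singleton]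
  refine le_antisymm (fun y hy => Ideal.mem_span_singleton.mpr ?_) ?_
  · have hd : ∀ i ∈ s, a i ∣ y := fun i hi => by
      have h1 := BlowSep.stalkIdeal_mono (show Models.redFibreIdeal R (Over.mk p) ≤ (Γ i).ι.ker from
        hred.trans_le (iInf_le _ i)) x hy
      rw [(hac i (hs i hi)).2] at h1
      exact Ideal.mem_span_singleton.mp h1
    have hinj : ∀ i ∈ s, ∀ j ∈ s, Associated (a i) (a j) → i = j := fun i hi j hj e => by
      have e' := Ideal.span_singleton_eq_span_singleton.mpr e
      rw [← (hac i (hs i hi)).2, ← (hac j (hs j hj)).2, stalkIdeal_ker (Γ i).ι (hs i hi),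
        stalkIdeal_ker (Γ j).ι (hs j hj)] at e'
      refine hΓ.1 ?_
      simp only [range_eq_closure]
      rw [genPrime_injective _ _ e']
    clear hy
    clear_value s
    induction s using Finset.induction with
    | empty => simp
    | insert i t hit ih =>
      have ht : ∀ j ∈ t, genPtOf R (Over.mk p) (Γ j) ⤳ x := fun j hj => hs j (Finset.mem_insert_of_mem hj)
      obtain ⟨z, hz⟩ := ih ht (fun j hj => hd j (Finset.mem_insert_of_mem hj))
        (fun j hj l hl => hinj j (Finset.mem_insert_of_mem hj) l (Finset.mem_insert_of_mem hl))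
      rw [Finset.prod_insert hit]
      have hpi := (hac i (hs i (Finset.mem_insert_self i t))).1
      rcases hpi.dvd_or_dvd (hz ▸ hd i (Finset.mem_insert_self i t)) with h | h
      · obtain ⟨j, hj, hij⟩ := hpi.exists_mem_finset_dvd h
        exact absurd (hinj i (Finset.mem_insert_self i t) j (Finset.mem_insert_of_mem hj)
          (hpi.associated_of_dvd (hac j (ht j hj)).1 hij)) (fun e => hit (e ▸ hj))
      · obtain ⟨w, rfl⟩ := h
        exact ⟨w, by rw [hz]; ring⟩
  · have hle : ∏ i, (Γ i).ι.ker ≤ Models.redFibreIdeal R (Over.mk p) := by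
      rw [hred]
      refine le_iInf fun i => fun U => ?_
      rw [← Finset.mul_prod_erase _ _ (Finset.mem_univ i), Scheme.IdealSheafData.ideal_mul, Pi.mul_apply]
      exact Ideal.mul_le.mpr fun a ha b _ => Ideal.mul_mem_right _ _ ha
    refine le_trans (le_of_eq ?_) (BlowSep.stalkIdeal_mono hle x)
    rw [stalkIdeal_prod, ← Finset.prod_subset (Finset.subset_univ s) fun i _ hi => by
      rw [stalkIdeal_ker_eq_top (Γ i).ι (by
          change ¬ genPtOf R (Over.mk p) (Γ i) ⤳ x
          simpa [s] using hi), Ideal.one_eq_top],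
      Finset.prod_congr rfl fun i hi => (hac i (hs i hi)).2, Ideal.prod_span_singleton]

end Red

/-- Degrees on a vertical curve are multiples of the degree of its constants. -/
theorem wdeg_dvd_inter {R : Type u} [CommRing R] [IsDomain R] [IsDiscreteValuationRing R]
    {X : Over (Spec (CommRingCat.of R))} [IsProper X.hom] (Γ : ArSurf.VertComp R X) (M : X.left.Modules) :
    (Models.wdeg R X Γ : ℤ) ∣ ArSurf.inter R X M Γ := by
  obtain ⟨F, _, ρ, -, hbij⟩ := S3326.exists_field Γ
  letI : Γ.curve.left.Over (Spec (CommRingCat.of F)) := ⟨ρ⟩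
  let φ : IsLocalRing.ResidueField R →+* F := (RingEquiv.ofBijective _ hbij).symm.toRingHom.comp
    (Coh.toGlobal (Γ.curve.left ↘ Spec (CommRingCat.of (IsLocalRing.ResidueField R))))
  have hφ : ∀ c, Coh.toGlobal (Γ.curve.left ↘ Spec (CommRingCat.of F)) (φ c) =
      Coh.toGlobal (Γ.curve.left ↘ Spec (CommRingCat.of (IsLocalRing.ResidueField R))) c :=
    fun c => (RingEquiv.ofBijective _ hbij).apply_symm_apply _
  have h0 : Module.finrank F (Coh.HH Γ.curve.left (Coh.structureModule Γ.curve.left) 0) = 1 := by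
    let l : F →ₗ[F] Coh.HH Γ.curve.left (Coh.structureModule Γ.curve.left) 0 :=
      LinearMap.toSpanSingleton F _ (S3326.one0 Γ.curve.left)
    have hlc : ∀ c : F, S3326.secOf (l c) = Coh.toGlobal (Γ.curve.left ↘ Spec (CommRingCat.of F)) c :=
      fun c => S3326.secOf_smul_one (Γ.curve.left ↘ Spec (CommRingCat.of F)) c
    have hl : Function.Bijective l := by
      refine ⟨fun a b h => hbij.1 ((hlc a).symm.trans ((congrArg S3326.secOf h).trans (hlc b))), fun y => ?_⟩
      obtain ⟨c, hc'⟩ := hbij.2 (S3326.secOf y)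
      exact ⟨c, (ProperFin.h0Sec _).injective ((hlc c).trans hc')⟩
    rw [← (LinearEquiv.ofBijective l hl).finrank_eq]
    exact Module.finrank_self _
  have hw : Models.wdeg R X Γ = Models.homDegree φ :=
    (S3326.hRank_tower (Γ.curve.left ↘ Spec (CommRingCat.of (IsLocalRing.ResidueField R)))
      (Γ.curve.left ↘ Spec (CommRingCat.of F)) φ hφ _ 0).trans
        ((congrArg (Models.homDegree φ * ·) h0).trans (mul_one _))
  rw [hw, VertInter.inter_eq_deg, S3326.deg_tower φ hφ]
  exact dvd_mul_right _ _

/-- Euler characteristics drop from the reduced fibre to the fibre of a minimal model. -/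
theorem chi_le (R : Type u) [CommRing R] [IsDomain R] [IsDiscreteValuationRing R]
    (C X : Scheme.{u}) (f : C ⟶ Spec (CommRingCat.of (FractionRing R))) (p : X ⟶ Spec (CommRingCat.of R))
    (hC : Curve.IsSmoothProperCurve (FractionRing R) C f) (hH0 : IsIso f.appTop)
    (hX : Models.IsRegularProperModel R X p C f)
    {n : ℕ} (Γ : Fin n → ArSurf.VertComp R (Over.mk p)) (hΓ : Models.IsComponentList R (Over.mk p) Γ)
    (hmin : Models.IsMinimalModel R X p C f) (hgcd : Models.multGcd R (Over.mk p) Γ = 1) :
    VertInter.chi (ClSub.quotMod (Models.specialFibreIdeal R (Over.mk p))) ≤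
        VertInter.chi (ClSub.quotMod (Models.redFibreIdeal R (Over.mk p))) ∧
      ((∃ i, Models.mult R (Over.mk p) (Γ i) ≠ 1) →
        VertInter.chi (ClSub.quotMod (Models.specialFibreIdeal R (Over.mk p))) <
          VertInter.chi (ClSub.quotMod (Models.redFibreIdeal R (Over.mk p)))) ∧
      1 ≤ Models.lengthH R (Over.mk p) (ClSub.quotMod (Models.specialFibreIdeal R (Over.mk p))) 0 := by
  classical
  haveI : Flat p := hX.1.1
  haveI : IsProper p := hX.2.1
  haveI : Flat (Over.mk p).hom := hX.1.1
  haveI : IsProper (Over.mk p).hom := hX.2.1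
  haveI : IsLocallyNoetherian X := LocallyOfFiniteType.isLocallyNoetherian p
  haveI : IsLocallyNoetherian (Over.mk p).left := ‹IsLocallyNoetherian X›
  obtain ⟨g, hg⟩ := hX.1.2.2.2
  haveI : IsIntegral C := hC.2.2.1
  obtain ⟨hc, hfib⟩ := S3313.eq_prod p hX.1.1 inferInstance hX.2.2 Γ hΓ
  have hred := red_eq_prod p hX.2.2 Γ hΓ
  have hex : ∀ i, ∃ L : X.Modules, ClSub.IsInverseOf L (ClSub.idealMod (Γ i).ι.ker) := fun i => by
    obtain ⟨L', -, e⟩ := PicLaw.exists_inverse
      (IdealSh.IdealMod.isInvertible_of_isEffCartierIdeal (X := (Over.mk p).left) (Γ i).ι.ker (hc i))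
    exact ⟨L', ⟨ProjTwist.tensComm _ _ ≪≫ e.some⟩⟩
  choose L hL using hex
  have hconn : _root_.IsPreconnected (Models.specialFibreSet R (Over.mk p)) := by
    haveI := VertInter.preconnectedSpace_fiber (X := Over.mk p)
      (VertInter.toGlobal_bijective (X := Over.mk p) hg hH0).2
    have h1 := (isPreconnected_range ((Over.mk p).hom.fiberι (IsLocalRing.closedPoint R)).continuous)
    have e := Scheme.Hom.range_fiberι (Over.mk p).hom (IsLocalRing.closedPoint R)
    rw [e] at h1
    exact h1
  let m : Fin n → ℕ := fun j => Models.mult R (Over.mk p) (Γ j)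
  have hkill : ∀ i, ∑ j, (m j : ℤ) * ArSurf.inter R (Over.mk p) (L j) (Γ i) = 0 := fun i =>
    VertInter.sum_mult_eq_zero p hX.2.2 Γ hΓ L hL (Γ i)
  have hno := (S3347.result R C X f p hC hH0 hX Γ hΓ L hL).mp hmin
  have hm0 : ∀ j, 1 ≤ m j := fun j => VertInter.one_le_mult (p := p) hΓ hX.2.2 j
  have hstep : ∀ z : Fin n → ℕ, (∀ j, z j ≤ m j) → (∀ j, 1 ≤ z j) → z ≠ m →
      ∃ i, z i < m i ∧ 0 < ∑ j, (z j : ℤ) * ArSurf.inter R (Over.mk p) (L j) (Γ i) := by
    intro z hz hz1 hne
    by_contra hnone
    push Not at hnone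
    let w : Fin n → ℤ := fun j => (m j : ℤ) - (z j : ℤ)
    have hw : ∀ i, ∑ j, w j * ArSurf.inter R (Over.mk p) (L j) (Γ i) =
        -∑ j, (z j : ℤ) * ArSurf.inter R (Over.mk p) (L j) (Γ i) := fun i => by
      simp only [w, sub_mul, Finset.sum_sub_distrib, hkill i, zero_sub]
    have hQ : 0 ≤ ∑ q : Fin n × Fin n, w q.1 * w q.2 * ArSurf.inter R (Over.mk p) (L q.2) (Γ q.1) := by
      rw [Fintype.sum_prod_type]
      simp only [mul_assoc, ← Finset.mul_sum]
      refine Finset.sum_nonneg fun i _ => ?_
      rw [hw i]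
      rcases Nat.lt_or_ge (z i) (m i) with h | h
      · exact mul_nonneg (by simp only [w]; omega) (by linarith [hnone i h])
      · have : z i = m i := le_antisymm (hz i) h
        simp [w, this]
    have hform := S3320.form p hX.2.2 Γ hΓ hconn L hL w
    obtain ⟨c, hcw⟩ := hform.2.mp (le_antisymm hform.1 hQ)
    have hden : ∀ i, (c.num : ℤ) * m i = (c.den : ℤ) * w i := fun i => by
      have h2 : ((c.num : ℤ) * m i : ℚ) = ((c.den : ℤ) * w i : ℚ) := by
        push_cast
        rw [hcw i]
        linear_combination (-(m i : ℚ)) * Rat.den_mul_eq_num c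
      exact_mod_cast h2
    have hd : c.den ∣ Finset.univ.gcd m := Finset.dvd_gcd fun i _ => by
      have h4 := Int.natCast_dvd.mp (show (c.den : ℤ) ∣ c.num * (m i : ℤ) from ⟨w i, hden i⟩)
      rw [Int.natAbs_mul, Int.natAbs_natCast] at h4
      exact (c.reduced.symm).dvd_of_dvd_mul_left h4
    rw [show Finset.univ.gcd m = 1 from hgcd, Nat.dvd_one] at hd
    refine hne (funext fun j => le_antisymm (hz j) ?_)
    have h1 := hden j
    simp only [hd, w] at h1
    push_cast at h1
    have h2 : c.num < 1 := by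
      by_contra hge
      push Not at hge
      have := le_mul_of_one_le_left (show (0 : ℤ) ≤ (m j : ℤ) by positivity) hge
      have := hz1 j
      omega
    have h3 : c.num * (m j : ℤ) ≤ 0 := mul_nonpos_of_nonpos_of_nonneg (by omega) (by positivity)
    omega
  let χ : (Fin n → ℕ) → ℤ := fun z => VertInter.chi (X := Over.mk p) (ClSub.quotMod (VertInter.divIdeal Γ z))
  have hmain : ∀ N, ∀ z : Fin n → ℕ, (∀ j, z j ≤ m j) → (∀ j, 1 ≤ z j) → ∑ j, z j + N = ∑ j, m j →
      χ m ≤ χ z ∧ (z ≠ m → χ m < χ z) := by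
    intro N
    induction N with
    | zero =>
      intro z hz _ hN
      have e : z = m := funext fun j => le_antisymm (hz j) (by
        by_contra hlt
        have := Finset.sum_lt_sum (fun l _ => hz l) ⟨j, Finset.mem_univ _, not_le.mp hlt⟩
        omega)
      exact ⟨e ▸ le_rfl, fun h => absurd e h⟩
    | succ N ih =>
      intro z hz hz1 hN
      obtain ⟨i, hi, hpos⟩ := hstep z hz hz1 (fun e => by subst e; omega)
      let z' : Fin n → ℕ := fun j => z j + if j = i then 1 else 0
      have hz' : ∀ j, z' j ≤ m j := fun j => by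
        by_cases h : j = i
        · subst h; simpa [z'] using hi
        · simpa [z', h] using hz j
      have hχ : χ z' = χ z - (∑ j, (z j : ℤ) * ArSurf.inter R (Over.mk p) (L j) (Γ i)) +
          ((Models.wdeg R (Over.mk p) (Γ i) : ℤ) - (Models.h1 R (Over.mk p) (Γ i) : ℤ)) :=
        VertInter.chi_divIdeal_succ (X := Over.mk p) Γ hc L hL z i
      have hdvd : (Models.wdeg R (Over.mk p) (Γ i) : ℤ) ∣ ∑ j, (z j : ℤ) * ArSurf.inter R (Over.mk p) (L j) (Γ i) :=
        Finset.dvd_sum fun j _ => dvd_mul_of_dvd_right (wdeg_dvd_inter (X := Over.mk p) (Γ i) (L j)) _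
      have hge := Int.le_of_dvd hpos hdvd
      obtain ⟨ih1, ih2⟩ := ih z' hz' (fun j => le_trans (hz1 j) (Nat.le_add_right _ _))
        (by simp only [z']; rw [Finset.sum_add_distrib, Finset.sum_ite_eq']; simp; omega)
      refine ⟨by omega, fun _ => ?_⟩
      by_cases hlast : z' = m
      · -- the last component added is not exceptional
        have hlast' : ∀ j, (z j : ℤ) = (m j : ℤ) - (if j = i then 1 else 0) := fun j => by
          rw [← hlast]
          by_cases h : j = i <;> simp [z', h]
        have hself : ∑ j, (z j : ℤ) * ArSurf.inter R (Over.mk p) (L j) (Γ i) =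
            -ArSurf.inter R (Over.mk p) (L i) (Γ i) := by
          simp only [hlast', sub_mul, Finset.sum_sub_distrib, hkill i, ite_mul, one_mul, zero_mul,
            Finset.sum_ite_eq', Finset.mem_univ, if_true, zero_sub]
        have := hno i
        by_contra hcon
        exact this ⟨by omega, by omega⟩
      · have := ih2 hlast
        omega
  have h1 : ∀ j, (1 : ℕ) ≤ m j := hm0
  obtain ⟨hle, hlt⟩ := hmain (∑ j, m j - ∑ _j : Fin n, 1) (fun _ => 1) h1 (fun _ => le_rfl)
    (by have := Finset.sum_le_sum (s := Finset.univ) (fun j _ => hm0 j); omega)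
  have efib : χ m = VertInter.chi (ClSub.quotMod (Models.specialFibreIdeal R (Over.mk p))) := by rw [hfib]; rfl
  have ered : χ (fun _ => 1) = VertInter.chi (ClSub.quotMod (Models.redFibreIdeal R (Over.mk p))) := by rw [hred]; rfl
  refine ⟨efib ▸ ered ▸ hle, fun ⟨i, hi⟩ => ?_, ?_⟩
  · rw [← efib, ← ered]
    exact hlt fun e => hi (congrFun e i).symm
  · have hfin := (VertInter.finLen_divIdeal (X := Over.mk p) Γ hc m).1 0
    rw [show VertInter.divIdeal (X := Over.mk p) Γ m = Models.specialFibreIdeal R (Over.mk p) from hfib.symm] at hfin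
    haveI : Nonempty (Models.specialFibreIdeal R (Over.mk p)).subscheme := by
      obtain ⟨i₀⟩ := VertInter.nonempty_fin hX hΓ inferInstance hg
      haveI : Nonempty (Γ i₀).ι.ker.subscheme := ⟨(Γ i₀).ι.toImage (genericPoint (Γ i₀).curve.left)⟩
      have hle : Models.specialFibreIdeal R (Over.mk p) ≤ (Γ i₀).ι.ker := fun U => by
        rw [hfib, ← Finset.mul_prod_erase _ _ (Finset.mem_univ i₀), Scheme.IdealSheafData.ideal_mul, Pi.mul_apply]
        obtain ⟨t, ht⟩ := Nat.exists_eq_add_of_le (hm0 i₀)
        change Models.mult R (Over.mk p) (Γ i₀) = 1 + t at ht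
        rw [ht, pow_add, pow_one, Scheme.IdealSheafData.ideal_mul, Pi.mul_apply]
        exact Ideal.mul_le_left.trans Ideal.mul_le_left
      exact ⟨Scheme.IdealSheafData.inclusion hle (Classical.arbitrary _)⟩
    haveI : Nontrivial Γ((Models.specialFibreIdeal R (Over.mk p)).subscheme, ⊤) := by
      haveI : Nonempty ((⊤ : (Models.specialFibreIdeal R (Over.mk p)).subscheme.Opens)) := ⟨⟨Classical.arbitrary _, trivial⟩⟩
      exact Scheme.component_nontrivial _ _
    haveI : Nontrivial ↑Γ(ClSub.quotMod (Models.specialFibreIdeal R (Over.mk p)), (⊤ : (Over.mk p).left.Opens)) :=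
      ‹Nontrivial Γ((Models.specialFibreIdeal R (Over.mk p)).subscheme, ⊤)›
    haveI : Nontrivial (Coh.HH (Over.mk p).left (ClSub.quotMod (Models.specialFibreIdeal R (Over.mk p))) 0) :=
      (ProperFin.h0Sec _).toEquiv.nontrivial
    rw [Models.lengthH, Nat.one_le_iff_ne_zero]
    intro h
    rcases ENat.toNat_eq_zero.mp h with h0 | h0
    · exact Module.length_pos.ne' h0
    · exact hfin h0

/-- In the following situation (R a discrete valuation ring with residue field k, C a smooth proper
curve over its fraction field K with H^0(C, O_C) = K, X a regular proper model, Γ_1, …, Γ_n the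
irreducible components of the closed fibre with multiplicities m_i) assume X is a minimal model,
gcd(m_1, …, m_n) = 1 and H^0((X_k)_red, O) = k. Then dim_k H^1((X_k)_red, O) ≤ dim_k H^1(X_k, O),
and the inequality is strict when X_k is not reduced (k-dimensions computed as R-lengths of the
cohomology on X of the structure sheaves of the two closed subschemes). The published statement is
the stronger one that H^1(X_k, O_{X_k}) → H^1((X_k)_red, O) is surjective, with non-zero kernel when
X_k is not reduced; this is its form in terms of dimensions. -/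
theorem result (R : Type u) [CommRing R] [IsDomain R] [IsDiscreteValuationRing R]
    (C X : Scheme.{u}) (f : C ⟶ Spec (CommRingCat.of (FractionRing R))) (p : X ⟶ Spec (CommRingCat.of R))
    (hC : Curve.IsSmoothProperCurve (FractionRing R) C f) (hH0 : IsIso f.appTop)
    (hX : Models.IsRegularProperModel R X p C f)
    {n : ℕ} (Γ : Fin n → ArSurf.VertComp R (Over.mk p)) (hΓ : Models.IsComponentList R (Over.mk p) Γ)
    (hmin : Models.IsMinimalModel R X p C f) (hgcd : Models.multGcd R (Over.mk p) Γ = 1)
    (hH0k : Models.lengthH R (Over.mk p) (ClSub.quotMod (Models.redFibreIdeal R (Over.mk p))) 0 = 1) :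
    Models.lengthH R (Over.mk p) (ClSub.quotMod (Models.redFibreIdeal R (Over.mk p))) 1 ≤
        Models.lengthH R (Over.mk p) (ClSub.quotMod (Models.specialFibreIdeal R (Over.mk p))) 1 ∧
      (Models.specialFibreIdeal R (Over.mk p) ≠ Models.redFibreIdeal R (Over.mk p) →
        Models.lengthH R (Over.mk p) (ClSub.quotMod (Models.redFibreIdeal R (Over.mk p))) 1 <
          Models.lengthH R (Over.mk p) (ClSub.quotMod (Models.specialFibreIdeal R (Over.mk p))) 1) := by
  obtain ⟨h1, h2, h3⟩ := chi_le R C X f p hC hH0 hX Γ hΓ hmin hgcd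
  simp only [VertInter.chi] at h1 h2
  refine ⟨by omega, fun hne => ?_⟩
  haveI : Flat p := hX.1.1
  haveI : IsProper p := hX.2.1
  have hex : ∃ i, Models.mult R (Over.mk p) (Γ i) ≠ 1 := by
    by_contra hall
    push Not at hall
    refine hne ?_
    rw [(S3313.eq_prod p hX.1.1 inferInstance hX.2.2 Γ hΓ).2, red_eq_prod p hX.2.2 Γ hΓ]
    exact Finset.prod_congr rfl fun j _ => by rw [hall j]
  have := h2 hex
  omega

end Groth.Agent.S3345
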