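import Groth.Statements.S15104
import Groth.Agent.S3345
import Groth.Agent.S3323
import Groth.Agent.S15406
import Groth.Agent.VertInter.RatField
-- import your own Groth.Agent.* helpers here

set_option autoImplicit false
set_option linter.style.haveILetI false
set_option backward.isDefEq.respectTransparency false
set_option backward.isDefEq.respectTransparency.types false
universe u
open CategoryTheory CategoryTheory.Limits AlgebraicGeometry
open Models

namespace Groth.Agent.S15104

open TopologicalSpace

/-- A proper smooth scheme of genus at least two with a regular model is a smooth proper curve. -/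
theorem smoothProperCurve {R : Type u} [CommRing R] [IsDomain R] [IsDiscreteValuationRing R]
    {C : Scheme.{u}} (fC : C ⟶ Spec (CommRingCat.of (FractionRing R))) [IsProper fC] [Smooth fC]
    (hC0 : Models.hRank (FractionRing R) C fC (Coh.structureModule C) 0 = 1)
    (hg2 : 2 ≤ Models.curveGenus (FractionRing R) C fC)
    {X : Scheme.{u}} {p : X ⟶ Spec (CommRingCat.of R)} (hX : Models.IsRegularProperModel R X p C fC)
    {g : C ⟶ X} (hg : IsPullback g fC p (Spec.map (CommRingCat.ofHom (algebraMap R (FractionRing R)))))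
    {n : ℕ} (Γ : Fin n → ArSurf.VertComp R (Over.mk p)) (hΓ : Models.IsComponentList R (Over.mk p) Γ) :
    Curve.IsSmoothProperCurve (FractionRing R) C fC := by
  have hH0 := S15406.isIso_appTop_of_rank fC hC0
  haveI : Flat p := hX.1.1
  haveI : IsProper p := hX.2.1
  haveI : Flat (Over.mk p).hom := hX.1.1
  haveI : IsProper (Over.mk p).hom := hX.2.1
  haveI : IsLocallyNoetherian X := LocallyOfFiniteType.isLocallyNoetherian p
  haveI : CompactSpace X := QuasiCompact.compactSpace_of_compactSpace p
  haveI : IsLocallyNoetherian (Over.mk p).left := ‹IsLocallyNoetherian X›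
  haveI : CompactSpace ↥(Over.mk p).left := ‹CompactSpace X›
  haveI : IsLocallyNoetherian C := LocallyOfFiniteType.isLocallyNoetherian fC
  haveI : CompactSpace C := QuasiCompact.compactSpace_of_compactSpace fC
  haveI : AlgebraicGeometry.IsNoetherian C := {}
  haveI : IsOpenImmersion (Spec.map (CommRingCat.ofHom (algebraMap R (FractionRing R)))) :=
    CBC.PicDVR.isOpenImmersion_gen R (FractionRing R)
  haveI hgo : IsOpenImmersion g := MorphismProperty.of_isPullback hg.flip inferInstance
  have hH1 : ¬ Subsingleton (Coh.HH C (Coh.structureModule C) 1) := fun h => by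
    letI : C.Over (Spec (CommRingCat.of (FractionRing R))) := ⟨fC⟩
    have h0 : Module.finrank (FractionRing R) (Coh.HH C (Coh.structureModule C) 1) = 0 :=
      Module.finrank_zero_of_subsingleton
    change 2 ≤ Module.finrank (FractionRing R) (Coh.HH C (Coh.structureModule C) 1) at hg2
    omega
  have hdim0 : ¬ topologicalKrullDim C ≤ 0 := fun h =>
    hH1 (Groth.Agent.S0458.result 0 (by exact_mod_cast h) _ 1 zero_lt_one)
  haveI hCne : Nonempty C := by
    by_contra h
    haveI := not_nonempty_iff.1 h
    haveI : IsEmpty (IrreducibleCloseds C) := ⟨fun Z => IsEmpty.false Z.isIrreducible.nonempty.some⟩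
    exact hdim0 (le_of_eq_of_le Order.krullDim_eq_bot bot_le)
  -- `C` is a smooth proper curve
  haveI : Nonempty X := hCne.map g
  haveI : ∀ x : X, IsDomain (X.presheaf.stalk x) := fun x => haveI := hX.2.2 x; RegLoc.isDomain _
  haveI : AlgebraicGeometry.IsNoetherian X := {}
  haveI : IsIntegral X := by
    have hb := VertInter.toGlobal_bijective (X := Over.mk p) hg hH0
    have hdom : IsDomain Γ(X, ⊤) := (RingEquiv.ofBijective _ hb).symm.toMulEquiv.isDomain R
    haveI := S19553.preconnectedSpace_of_isDomain X hdom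
    haveI : ConnectedSpace X := { toNonempty := inferInstance }
    haveI := CurveCoh.irreducibleSpace_of_domain_stalks X inferInstance
    haveI : IsReduced X := isReduced_of_isReduced_stalk _
    exact isIntegral_of_irreducibleSpace_of_isReduced _
  haveI : IsIntegral C := isIntegral_of_isOpenImmersion g
  have hC1 : topologicalKrullDim C = 1 := by
    let s₀ : Spec (CommRingCat.of R) := IsLocalRing.closedPoint R
    let η : Spec (CommRingCat.of R) := (⟨⊥, Ideal.isPrime_bot⟩ : PrimeSpectrum R)
    have hfib : topologicalKrullDim (p.fiber s₀) ≤ 1 := by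
      refine S15406.dim_le_one_of_cover (fun i => (Γ i).curve.left)
        (fun i z => (p.fiberHomeo s₀).symm ⟨(Γ i).ι.base z,
          ((show Set.range (Γ i).ι.base ∈ Models.fibreComponents R (Over.mk p) from hΓ.2 ▸ ⟨i, rfl⟩).1.2 ⟨z, rfl⟩)⟩)
        (fun i => (p.fiberHomeo s₀).symm.isClosedEmbedding.comp
          ((Models.isClosed_specialFibreSet R (Over.mk p)).isClosedEmbedding_subtypeVal.of_comp_iff.mp
            (Γ i).ι.isClosedEmbedding))
        (fun i => (Γ i).dim_eq.le) (Set.eq_univ_of_forall fun y => ?_)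
      have hy : (p.fiberHomeo s₀ y).1 ∈ Models.specialFibreSet R (Over.mk p) := (p.fiberHomeo s₀ y).2
      rw [← VertInter.iUnion_range_eq hΓ] at hy
      obtain ⟨i, z, hz⟩ := Set.mem_iUnion.1 hy
      refine Set.mem_iUnion.2 ⟨i, z, ?_⟩
      apply (p.fiberHomeo s₀).injective
      rw [Homeomorph.apply_symm_apply]
      exact Subtype.ext hz
    have hη : topologicalKrullDim (p.fiber η) ≤ 1 :=
      ((PrimeSpectrum.le_iff_specializes η s₀).1 (show (⊥ : Ideal R) ≤ _ from bot_le)).mem_open
        (Groth.Agent.S0403.result p 1) hfib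
    have hr : Set.range g = p ⁻¹' {η} := by
      ext x
      refine (VertInter.mem_range_iff (X := Over.mk p) hg x).trans ?_
      constructor
      · exact fun hx => PrimeSpectrum.ext (VertInter.asIdeal_eq_bot_of_not_mem (X := Over.mk p) hx)
      · intro hx hx'
        have h1 : η = s₀ := (show p x = η from hx).symm.trans hx'
        exact IsDiscreteValuationRing.not_a_field R (congrArg PrimeSpectrum.asIdeal h1).symm
    let e1 : C ≃ₜ p.fiber η :=
      g.isEmbedding.toHomeomorph.trans ((Homeomorph.setCongr hr).trans (p.fiberHomeo η).symm)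
    rw [← IsHomeomorph.topologicalKrullDim_eq _ e1.isHomeomorph] at hη
    refine le_antisymm hη ?_
    by_contra hlt
    refine hdim0 ?_
    generalize topologicalKrullDim C = d at hlt hη
    cases d with
    | bot => exact bot_le
    | coe d =>
      rw [not_le] at hlt
      change ((d : WithBot ℕ∞)) < ((1 : ℕ∞) : WithBot ℕ∞) at hlt
      rw [WithBot.coe_lt_coe, ENat.lt_one_iff_eq_zero] at hlt
      rw [hlt]; rfl
  exact ⟨‹IsProper fC›, ‹Smooth fC›, ‹_›, hC1⟩

/-- Functions forming a field finite over `R` have length one when the residue field is algebraically closed. -/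
theorem lengthH_one_of_isField {R : Type u} [CommRing R] [IsDomain R] [IsDiscreteValuationRing R]
    (hk : IsAlgClosed (IsLocalRing.ResidueField R))
    {X : Over (Spec (CommRingCat.of R))} {J : X.left.IdealSheafData} (hF : IsField Γ(J.subscheme, ⊤))
    (hfin : ((J.subschemeι ≫ X.hom).appTop.hom.comp (Scheme.ΓSpecIso (CommRingCat.of R)).inv.hom).Finite) :
    Models.lengthH R X (ClSub.quotMod J) 0 = 1 := by
  let ρ : R →+* Γ(J.subscheme, ⊤) := J.subschemeι.appTop.hom.comp (Coh.toGlobal X.hom)
  have hρf : ρ.Finite := by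
    refine Eq.subst ?_ hfin
    ext r
    simp [ρ, Coh.toGlobal, Scheme.Hom.comp_appTop]
  letI := hF.toField
  letI : Algebra R Γ(J.subscheme, ⊤) := ρ.toAlgebra
  haveI : Module.Finite R Γ(J.subscheme, ⊤) := hρf
  have hker : RingHom.ker ρ = IsLocalRing.maximalIdeal R :=
    IsLocalRing.eq_maximalIdeal (by
      show (Ideal.comap ρ ⊥).IsMaximal
      haveI : (⊥ : Ideal Γ(J.subscheme, ⊤)).IsMaximal := Ideal.bot_isMaximal
      exact Ideal.isMaximal_comap_of_isIntegral_of_isMaximal (R := R) ⊥)
  have hρ : Function.Surjective ρ := by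
    let φ : IsLocalRing.ResidueField R →+* Γ(J.subscheme, ⊤) :=
      Ideal.Quotient.lift _ ρ fun r hr => (hker.ge hr : r ∈ RingHom.ker ρ)
    letI := φ.toAlgebra
    haveI : IsScalarTower R (IsLocalRing.ResidueField R) Γ(J.subscheme, ⊤) := IsScalarTower.of_algebraMap_eq fun r => rfl
    haveI : Module.Finite (IsLocalRing.ResidueField R) Γ(J.subscheme, ⊤) :=
      Module.Finite.of_restrictScalars_finite R _ _
    haveI := hk
    intro b
    obtain ⟨c, hc⟩ := (IsAlgClosed.algebraMap_bijective_of_isIntegral
      (k := IsLocalRing.ResidueField R) (K := Γ(J.subscheme, ⊤))).2 b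
    obtain ⟨r, rfl⟩ := IsLocalRing.residue_surjective c
    exact ⟨r, hc⟩
  let e := ProperFin.h0Sec (ClSub.quotMod J)
  have he : ∀ (r : R) (z : Coh.HH X.left (ClSub.quotMod J) 0),
      (show Γ(J.subscheme, ⊤) from e (r • z)) = ρ r * (show Γ(J.subscheme, ⊤) from e z) :=
    fun r z => ProperFin.h0Sec_smul (ClSub.quotMod J) (Coh.toGlobal X.hom r) z
  rw [Models.lengthH]
  suffices IsSimpleModule R (Coh.HH X.left (ClSub.quotMod J) 0) by
    rw [Module.length_eq_one_iff.mpr this]; rfl
  haveI : Nontrivial (Coh.HH X.left (ClSub.quotMod J) 0) :=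
    haveI : Nontrivial Γ(J.subscheme, ⊤) := hF.nontrivial
    haveI : Nontrivial ↑Γ(ClSub.quotMod J, (⊤ : X.left.Opens)) := ‹Nontrivial Γ(J.subscheme, ⊤)›
    e.toEquiv.nontrivial
  refine isSimpleModule_iff _ _ |>.mpr ⟨fun N => or_iff_not_imp_left.mpr fun hN => ?_⟩
  obtain ⟨z, hz, hz0⟩ := (Submodule.ne_bot_iff N).mp hN
  refine eq_top_iff.mpr fun w _ => ?_
  have hz' : (show Γ(J.subscheme, ⊤) from e z) ≠ 0 := fun h => hz0 (e.injective (h.trans (map_zero e).symm))
  obtain ⟨r, hr⟩ := hρ ((show Γ(J.subscheme, ⊤) from e w) / (show Γ(J.subscheme, ⊤) from e z))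
  have : w = r • z := e.injective (by
    refine Eq.trans ?_ (he r z).symm
    rw [hr]
    exact (div_mul_cancel₀ _ hz').symm)
  exact this ▸ N.smul_mem r hz

/-- Let R be a discrete valuation ring with algebraically closed residue field k and fraction field K, C
a smooth proper curve over K with H⁰(C, O_C) = K and dim_K H¹(C, O_C) = g ≥ 2, and X → Spec R a
minimal regular model of C: a regular proper model none of whose vertical prime divisors is an
exceptional curve of the first kind. Let Γ₁, …, Γ_n enumerate the irreducible components of the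
closed fibre, with multiplicities r_i having gcd 1, and suppose the closed fibre is not reduced
(some r_i ≥ 2). Then dim_k H¹((X_k)_red, O) < g, the left side computed as the R-length of H¹(X, O_X
/ I) for I the ideal sheaf of the reduced closed fibre. (The published lemma states this for any
regular model with gcd(r_i) = 1; its proof uses, in the last step, that the component added last is
not an exceptional curve, the standing hypothesis of the result it serves, and the inequality fails
after blowing up a node of a reduced semi-stable fibre, so minimality is assumed here.) -/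
theorem result
    (R : Type u) [CommRing R] [IsDomain R] [IsDiscreteValuationRing R]
    (hk : IsAlgClosed (IsLocalRing.ResidueField R))
    (C : Scheme.{u}) (fC : C ⟶ (Spec (CommRingCat.of (FractionRing R)))) [IsProper fC] [Smooth fC]
    (hC0 : Models.hRank (FractionRing R) C fC (Coh.structureModule C) 0 = 1)
    (g : ℕ) (hg2 : 2 ≤ g) (hg : Models.curveGenus (FractionRing R) C fC = g)
    (X : Scheme.{u}) (p : X ⟶ (Spec (CommRingCat.of R))) (hX : Models.IsMinimalModel R X p C fC)
    {n : ℕ} (Γ : Fin n → ArSurf.VertComp R (Over.mk p)) (hΓ : Models.IsComponentList R (Over.mk p) Γ)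
    (hgcd : Models.multGcd R (Over.mk p) Γ = 1) (hnr : ∃ i, 2 ≤ Models.mult R (Over.mk p) (Γ i)) :
    Models.lengthH R (Over.mk p) (ClSub.quotMod (Models.redFibreIdeal R (Over.mk p))) 1 < g := by
  have hH0 := S15406.isIso_appTop_of_rank fC hC0
  obtain ⟨g', hg'⟩ := hX.1.1.2.2.2
  obtain ⟨hflat, -⟩ := id hX.1.1
  haveI : Flat p := hflat
  haveI : IsProper p := hX.1.2.1
  have hC := smoothProperCurve fC hC0 (hg ▸ hg2) hX.1 hg' Γ hΓ
  obtain ⟨h1, h2, h3⟩ := S3345.chi_le R C X fC p hC hH0 hX.1 Γ hΓ hX hgcd
  have hred := S3345.red_eq_prod p hX.1.2.2 Γ hΓ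
  obtain ⟨i₁, hi₁⟩ := hnr
  have hlt := h2 ⟨i₁, by omega⟩
  obtain ⟨s, a, ha0, -, -, hF⟩ := S3323.result R C X fC p hC hH0 hX.1 Γ hΓ
  obtain ⟨hF0, hfin0⟩ := hF 0
  rw [ha0] at hF0 hfin0
  have hone := lengthH_one_of_isField hk (X := Over.mk p) hF0 hfin0
  rw [← hred] at hone
  rw [VertInter.chi_fibre hC hH0 hX.1 Γ hΓ, hg] at hlt
  simp only [VertInter.chi, hone] at hlt
  omega

end Groth.Agent.S15104
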