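import Groth.Statements.S15115
import Groth.Agent.Comod.Invariants
import Mathlib.RingTheory.IsTensorProduct

set_option autoImplicit false
universe u
open HopfRep

namespace Groth.Agent.S15115

open TensorProduct in
/-- Let k be an algebraically closed field, H a finite-dimensional commutative Hopf algebra over k all
of whose finite-dimensional comodules are semisimple (a finite linearly reductive group scheme G
over k), A a commutative k-algebra, and M an A-module with an H-coaction that is A-linear (G acts on
M by A-module maps, A carrying the trivial action). Let A' be a commutative A-algebra and N = A' ⊗_A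
M its base change, exhibited by an A-linear map φ : M → N, with the induced coaction: A'-linear and
compatible with φ. Then invariants commute with this base change: writing M^G for the A-submodule of
coinvariant elements of M, the natural map A' ⊗_A M^G → N, a' ⊗ m ↦ a' φ(m), is injective and its
image is exactly the set of coinvariant elements of N. (The published statement is the isomorphism
ρ^* π_* F → π'_* σ^* F for a tame Deligne–Mumford stack with coarse moduli space π and any base
change ρ of the coarse space; this row is the statement about invariants to which its proof reduces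
it, for modules that need not be finitely generated.) -/
theorem result (k : Type u) [Field k] [IsAlgClosed k]
    (H : Type u) [CommRing H] [HopfAlgebra k H] [Module.Finite k H] (hred : HopfRep.IsLinearlyReductive k H)
    (A : Type u) [CommRing A] [Algebra k A]
    (M : Type u) [AddCommGroup M] [Module k M] [Module A M] [IsScalarTower k A M] [HopfRep.Comod k H M]
    (hlin : ∀ (a : A) (m : M), HopfRep.Comod.coact (k := k) (A := H) (a • m) = a • HopfRep.Comod.coact (k := k) (A := H) m)
    (A' : Type u) [CommRing A'] [Algebra k A'] [Algebra A A'] [IsScalarTower k A A']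
    (N : Type u) [AddCommGroup N] [Module k N] [Module A N] [Module A' N]
    [IsScalarTower k A N] [IsScalarTower A A' N] [IsScalarTower k A' N] [HopfRep.Comod k H N]
    (φ : M →ₗ[A] N) (hφ : IsBaseChange A' φ)
    (hcomp : ∀ m : M, HopfRep.Comod.coact (k := k) (A := H) (φ m) =
      LinearMap.rTensor H (φ.restrictScalars k) (HopfRep.Comod.coact (k := k) (A := H) m))
    (hlinN : ∀ (a' : A') (n : N), HopfRep.Comod.coact (k := k) (A := H) (a' • n) = a' • HopfRep.Comod.coact (k := k) (A := H) n)
    (P : Submodule A M) (hP : (P : Set M) = (HopfRep.fixedPts k H M : Set M)) :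
    Function.Injective (TensorProduct.lift (((Algebra.lsmul A A N : A' →ₐ[A] Module.End A N).toLinearMap).compl₂ (φ ∘ₗ P.subtype))) ∧
      Set.range (TensorProduct.lift (((Algebra.lsmul A A N : A' →ₐ[A] Module.End A N).toLinearMap).compl₂ (φ ∘ₗ P.subtype))) =
        (HopfRep.fixedPts k H N : Set N) := by
  obtain ⟨α, hα⟩ := Comod.exists_integral_of_linRed hred
  have hsm : ∀ (a : A), Hoch.IsComodHom H (Algebra.lsmul k k M a) := fun a => by
    refine LinearMap.ext fun m => ?_
    simp only [LinearMap.comp_apply, Algebra.lsmul_coe, hlin]
    induction HopfRep.Comod.coact (k := k) (A := H) m using TensorProduct.induction_on with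
    | zero => simp
    | add y z hy hz => simp only [smul_add, map_add, hy, hz]
    | tmul y z => simp [TensorProduct.smul_tmul']
  have hsmN : ∀ (a' : A'), Hoch.IsComodHom H (Algebra.lsmul k k N a') := fun a => by
    refine LinearMap.ext fun m => ?_
    simp only [LinearMap.comp_apply, Algebra.lsmul_coe, hlinN]
    induction HopfRep.Comod.coact (k := k) (A := H) m using TensorProduct.induction_on with
    | zero => simp
    | add y z hy hz => simp only [smul_add, map_add, hy, hz]
    | tmul y z => simp [TensorProduct.smul_tmul']
  have hφc : Hoch.IsComodHom H (φ.restrictScalars k) := LinearMap.ext fun m => hcomp m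
  have hmem : ∀ m, m ∈ P ↔ m ∈ HopfRep.fixedPts k H M := fun m => Set.ext_iff.1 hP m
  let r : M →ₗ[A] P :=
    { toFun := fun m => ⟨Comod.avg α m, (hmem _).2 (Comod.avg_mem hα m)⟩
      map_add' := fun x y => Subtype.ext (map_add _ x y)
      map_smul' := fun a m => Subtype.ext (Comod.map_avg α (hsm a) m).symm }
  have hr : r ∘ₗ P.subtype = LinearMap.id :=
    LinearMap.ext fun p => Subtype.ext (Comod.avg_eq_self hα ((hmem _).1 p.2))
  let L := TensorProduct.lift (((Algebra.lsmul A A N : A' →ₐ[A] Module.End A N).toLinearMap).compl₂ (φ ∘ₗ P.subtype))
  have hL : ∀ (a : A') (p : P), L (a ⊗ₜ[A] p) = a • φ p := fun a p => by simp [L]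
  have hL' : ∀ z, L z = hφ.equiv ((P.subtype).lTensor A' z) := by
    intro z
    induction z using TensorProduct.induction_on with
    | zero => simp
    | add y z hy hz => simp only [map_add, hy, hz]
    | tmul a p => simp [hL, IsBaseChange.equiv_tmul]
  refine ⟨fun x y hxy => ?_, Set.ext fun n => ⟨?_, fun hn => ?_⟩⟩
  · change L x = L y at hxy
    rw [hL', hL', hφ.equiv.injective.eq_iff] at hxy
    have := congrArg (r.lTensor A') hxy
    simpa [← LinearMap.lTensor_comp_apply, hr] using this
  · rintro ⟨z, rfl⟩
    change L z ∈ HopfRep.fixedPts k H N
    induction z using TensorProduct.induction_on with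
    | zero => simp
    | add y z hy hz => rw [map_add]; exact add_mem hy hz
    | tmul a p =>
      rw [hL]
      have hp : HopfRep.Comod.coact (k := k) (A := H) (p : M) = (p : M) ⊗ₜ[k] (1 : H) := (hmem _).1 p.2
      change HopfRep.Comod.coact (k := k) (A := H) (a • φ p) = _
      rw [hlinN, hcomp, hp]
      simp [TensorProduct.smul_tmul']
  · change n ∈ Set.range L
    rw [← Comod.avg_eq_self hα hn]
    obtain ⟨z, rfl⟩ := hφ.equiv.surjective n
    refine ⟨r.lTensor A' z, ?_⟩
    induction z using TensorProduct.induction_on with
    | zero => simp
    | add y z hy hz =>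
      have hy' : ∀ (u : A' ⊗[A] M), L (r.lTensor A' u) = Comod.avg α (hφ.equiv u) := by
        intro u
        induction u using TensorProduct.induction_on with
        | zero => simp
        | add p q hp hq => simp only [map_add, hp, hq]
        | tmul a m =>
          rw [IsBaseChange.equiv_tmul, LinearMap.lTensor_tmul, hL]
          refine Eq.trans ?_ (Comod.map_avg α (hsmN a) (φ m))
          exact congrArg (a • ·) (Comod.map_avg α hφc m)
      exact hy' _
    | tmul a m =>
      rw [IsBaseChange.equiv_tmul, LinearMap.lTensor_tmul, hL]
      refine Eq.trans ?_ (Comod.map_avg α (hsmN a) (φ m))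
      exact congrArg (a • ·) (Comod.map_avg α hφc m)

end Groth.Agent.S15115
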