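import Groth.Statements.S15116


set_option autoImplicit false
universe u v
open NRGIT

namespace Groth.Agent.S15116

/-- Let k be a characteristic-zero field and A a commutative k-algebra, graded by the integers with all
pieces of positive degree zero, and D a k-derivation of A that raises degrees by a fixed positive
integer l. If no maximal ideal of A contains both every piece of negative degree and the image of D,
then there is f with D f = 1. (The published statement is for an affine variety with an action of
the semidirect product of the additive and multiplicative groups, the multiplicative group acting on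
the coordinate ring with non-positive weights and on the Lie algebra of the additive group with
positive weight: the derivation is a generator of that Lie algebra, the maximal ideals containing
the pieces of negative degree are the limit points under the multiplicative group, and a limit point
has trivial additive stabiliser exactly when the image of D is not contained in its ideal; this row
keeps only this algebraic content, for any such graded algebra. The first assertion of the published
lemma, that every point has a limit in the variety under the multiplicative group as t → 0, is not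
part of this row.) -/
theorem result (k : Type u) [Field k] [CharZero k]
    (A : Type v) [CommRing A] [Algebra k A] (𝒜 : ℤ → Submodule k A) [GradedAlgebra 𝒜]
    (hpos : ∀ i : ℤ, 0 < i → 𝒜 i = ⊥)
    (D : Derivation k A A) (l : ℤ) (hl : 0 < l)
    (hD : ∀ (i : ℤ) (a : A), a ∈ 𝒜 i → D a ∈ 𝒜 (i + l))
    (hfree : ∀ m : Ideal A, m.IsMaximal → (∀ i : ℤ, i < 0 → (𝒜 i : Set A) ⊆ m) → ∃ a : A, D a ∉ m) :
    ∃ f : A, D f = 1 := by
  classical
  let P : A →+ A :=
    { toFun := fun a => (DirectSum.decompose 𝒜 a (0 : ℤ) : A)
      map_zero' := by simp
      map_add' := fun a b => by simp }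
  have hP : ∀ {i : ℤ} {a : A}, a ∈ 𝒜 i → P a = if i = 0 then a else 0 := by
    intro i a ha
    show (DirectSum.decompose 𝒜 a (0 : ℤ) : A) = _
    split_ifs with h
    · subst h; exact DirectSum.decompose_of_mem_same 𝒜 ha
    · exact DirectSum.decompose_of_mem_ne 𝒜 ha h
  have hmul : ∀ a b : A, P (a * b) = P a * P b := by
    intro a b
    induction a using DirectSum.Decomposition.inductionOn 𝒜 with
    | zero => simp
    | add a a' ha ha' => rw [add_mul, map_add, map_add, ha, ha', add_mul]
    | @homogeneous i a =>
      induction b using DirectSum.Decomposition.inductionOn 𝒜 with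
      | zero => simp
      | add b b' hb hb' => rw [mul_add, map_add, map_add, hb, hb', mul_add]
      | @homogeneous j b =>
        rw [hP (SetLike.mul_mem_graded a.2 b.2), hP a.2, hP b.2]
        rcases lt_or_ge 0 i with hi | hi
        · have h0 : (a : A) = 0 := (Submodule.mem_bot k).mp (hpos i hi ▸ a.2)
          simp [h0]
        rcases lt_or_ge 0 j with hj | hj
        · have h0 : (b : A) = 0 := (Submodule.mem_bot k).mp (hpos j hj ▸ b.2)
          simp [h0]
        by_cases h : i + j = 0
        · rw [if_pos h, if_pos (by omega), if_pos (by omega)]
        · rcases eq_or_ne i 0 with hi0 | hi0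
          · rw [if_neg h, if_neg (show j ≠ 0 by omega), mul_zero]
          · rw [if_neg h, if_neg hi0, zero_mul]
  have hDP : ∀ c : A, ∃ f, D f = P (D c) := by
    intro c
    induction c using DirectSum.Decomposition.inductionOn 𝒜 with
    | zero => exact ⟨0, by simp⟩
    | add c c' h h' =>
      obtain ⟨f, hf⟩ := h
      obtain ⟨f', hf'⟩ := h'
      exact ⟨f + f', by simp [hf, hf']⟩
    | @homogeneous i c =>
      rw [hP (hD i c c.2)]
      split_ifs
      exacts [⟨c, rfl⟩, ⟨0, by simp⟩]
  let J : Ideal A := Ideal.span ({a | ∃ i : ℤ, i < 0 ∧ a ∈ 𝒜 i} ∪ Set.range D)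
  have hJ : J = ⊤ := by
    by_contra hne
    obtain ⟨m, hm, hle⟩ := Ideal.exists_le_maximal J hne
    obtain ⟨a, ha⟩ := hfree m hm fun i hi a ha => hle (Ideal.subset_span (Or.inl ⟨i, hi, ha⟩))
    exact ha (hle (Ideal.subset_span (Or.inr ⟨a, rfl⟩)))
  have key : ∀ x ∈ J, ∃ f, D f = P x := by
    intro x hx
    induction hx using Submodule.span_induction with
    | mem x hx =>
      rcases hx with ⟨i, hi, ha⟩ | ⟨c, rfl⟩
      · exact ⟨0, by rw [hP ha, if_neg hi.ne]; simp⟩
      · exact hDP c
    | zero => exact ⟨0, by simp⟩
    | add x y _ _ hx hy =>
      obtain ⟨f, hf⟩ := hx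
      obtain ⟨g, hg⟩ := hy
      exact ⟨f + g, by simp [hf, hg]⟩
    | smul r x _ hx =>
      obtain ⟨f, hf⟩ := hx
      have h0 : D (P r) = 0 := by
        have h1 := hD 0 (P r) (DirectSum.decompose 𝒜 r 0).2
        rw [zero_add, hpos l hl] at h1
        exact (Submodule.mem_bot k).mp h1
      refine ⟨P r * f, ?_⟩
      rw [Derivation.leibniz, h0, smul_zero, add_zero, smul_eq_mul, hf, smul_eq_mul, hmul]
  obtain ⟨f, hf⟩ := key 1 (hJ ▸ Submodule.mem_top)
  exact ⟨f, by rw [hf, hP SetLike.GradedOne.one_mem, if_pos rfl]⟩

end Groth.Agent.S15116
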