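import Groth.Statements.S15117
open scoped TensorProduct

set_option autoImplicit false
universe u v w
open TensorProduct
open NRGIT

namespace Groth.Agent.S15117

/-- Let k be a field, π : A → B a map of commutative bialgebras over k, W a right A-comodule and V ⊆ W a
subcomodule all of whose elements are coinvariant for the B-coaction induced through π. Then the
coaction of every v ∈ V lies in V ⊗ A' ⊆ W ⊗ A, where A' ⊆ A is the set of elements a with (π ⊗
id)(Δ a) = 1 ⊗ a, i.e. coinvariant for the coaction of B on A through π on the left factor; the row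
states membership in the span of the pure tensors w ⊗ a with w ∈ V and a ∈ A'. (The published
statement is for a linear algebraic group H over an algebraically closed field of characteristic
zero, a normal subgroup N and an H-stable space V of N-invariant sections of a linearised line
bundle, with the coaction landing in O(H)^N ⊗ V, where O(H)^N is the ring of functions on H
invariant under N acting by right multiplication; this row is the comodule form, for any bialgebra
map over a field, where normality of N is not needed.) -/
theorem result (k : Type u) [Field k]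
    (A B : Type v) [CommRing A] [CommRing B] [Bialgebra k A] [Bialgebra k B] (π : A →ₐc[k] B)
    (W : Type w) [AddCommGroup W] [Module k W] [HopfRep.Comod k A W]
    (V : Submodule k W) (hV : HopfRep.IsSubcomod (k := k) (A := A) V)
    (hfix : ∀ v ∈ V, (π.toLinearMap.lTensor W) (HopfRep.Comod.coact (k := k) (A := A) v) = v ⊗ₜ[k] (1 : B))
    (v : W) (hv : v ∈ V) :
    HopfRep.Comod.coact (k := k) (A := A) v ∈
      Submodule.span k {x : W ⊗[k] A | ∃ w ∈ V, ∃ a : A,
        (π.toLinearMap.rTensor A) (Coalgebra.comul (R := k) a) = (1 : B) ⊗ₜ[k] a ∧ x = w ⊗ₜ[k] a} := by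
  classical
  obtain ⟨t, ht⟩ := hV v hv
  let b := Module.Basis.ofVectorSpace k V
  let a := TensorProduct.equivFinsuppOfBasisLeft b t
  have htsum : t = a.sum fun i x => b i ⊗ₜ[k] x := by
    conv_lhs => rw [← (TensorProduct.equivFinsuppOfBasisLeft b).symm_apply_apply t]
    rw [TensorProduct.equivFinsuppOfBasisLeft_symm_apply]
  have hc : HopfRep.Comod.coact (k := k) (A := A) v = a.sum fun i x => (b i : W) ⊗ₜ[k] x := by
    rw [← ht, htsum, map_finsuppSum]
    rfl
  rw [hc]
  refine Submodule.sum_mem _ fun j hj => Submodule.subset_span ⟨b j, (b j).2, a j, ?_, rfl⟩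
  obtain ⟨f, hf⟩ := LinearMap.exists_extend (b.coord j)
  let L : W ⊗[k] (A ⊗[k] A) →ₗ[k] B ⊗[k] A :=
    (TensorProduct.lid k (B ⊗[k] A)).toLinearMap ∘ₗ TensorProduct.map f (π.toLinearMap.rTensor A)
  have h := congrArg L (LinearMap.congr_fun (HopfRep.Comod.coassoc (k := k) (A := A) (V := W)) v)
  simp only [LinearMap.comp_apply, hc, map_finsuppSum, LinearMap.rTensor_tmul, LinearMap.lTensor_tmul,
    LinearEquiv.coe_coe] at h
  have hfix' : ∀ i, TensorProduct.map f π.toLinearMap (HopfRep.Comod.coact (k := k) (A := A) (b i : W)) =
      f (b i : W) ⊗ₜ[k] (1 : B) := by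
    intro i
    rw [show TensorProduct.map f π.toLinearMap = f.rTensor B ∘ₗ π.toLinearMap.lTensor W from
      (LinearMap.rTensor_comp_lTensor _ _ _).symm, LinearMap.comp_apply, hfix _ (b i).2, LinearMap.rTensor_tmul]
  have hL : ∀ (z : W ⊗[k] A) (x : A), L (TensorProduct.assoc k W A A (z ⊗ₜ[k] x)) =
      (TensorProduct.lid k B (TensorProduct.map f π.toLinearMap z)) ⊗ₜ[k] x := by
    intro z x
    induction z with
    | zero => simp
    | tmul w y => simp [L, TensorProduct.smul_tmul']
    | add z z' hz hz' => simp only [TensorProduct.add_tmul, map_add, hz, hz']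
  have hfb : ∀ i, f (b i : W) = if i = j then 1 else 0 := fun i => by
    rw [show f (b i : W) = b.coord j (b i) from LinearMap.congr_fun hf (b i), b.coord_apply, b.repr_self,
      Finsupp.single_apply]
  simp only [hL, hfix', hfb] at h
  simp only [L, LinearMap.comp_apply, LinearEquiv.coe_coe, TensorProduct.map_tmul, hfb, TensorProduct.lid_tmul,
    Finsupp.sum, ite_smul, one_smul, zero_smul, TensorProduct.ite_tmul, TensorProduct.zero_tmul] at h
  rw [Finset.sum_eq_single j, Finset.sum_eq_single j] at h
  · simpa using h.symm
  all_goals first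
    | exact fun i _ hi => by simp [hi]
    | exact fun hn => absurd hj hn

end Groth.Agent.S15117
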