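import Groth.Statements.S1512
import Groth.Agent.FlatMor.PC.SourceScheme

set_option autoImplicit false
universe u
attribute [local instance] HasDerivedCategory.standard
open FlatMor
open Groth.Agent.FlatMor

namespace Groth.Agent.S1512

open AlgebraicGeometry CategoryTheory Limits in
/-- Let a : X' → X be flat, surjective and locally of finite presentation and f : X → S. Then f is
perfect if and only if a ≫ f is. -/
theorem result {X X' S : Scheme.{u}} (f : X ⟶ S) (a : X' ⟶ X) [Flat a] [Surjective a] [LocallyOfFinitePresentation a] :
    MoreMor.IsPerfectMor f ↔ MoreMor.IsPerfectMor (a ≫ f) := by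
  exact PC.localHom_perfect.mor_iff_source_cover (fun A B _ _ _ _ _ => PC.perfectHom_of_flat_fp)
    (fun A B B' _ _ _ _ _ _ _ _ _ h => PC.perfectHom_of_cover_source h) f a

end Groth.Agent.S1512
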