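import Groth.Statements.S15121

set_option autoImplicit false
universe u v w
open InvQ

namespace Groth.Agent.S15121

/-- Let k be a field of characteristic zero and A a commutative k-algebra graded by a finitely generated
free abelian group Λ (the character group of a torus acting on Spec A) whose grading monoid is
positive: if the pieces of degrees w and −w are both non-zero then w = 0. Let δ be a locally
nilpotent k-derivation of A (an action of the additive group) that is homogeneous of degree d, with
the piece of degree d equal to zero (the graded condition on the Lie algebra weight). Suppose that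
no maximal ideal of A contains both all graded pieces of non-zero degree and the image of δ (every
torus-fixed closed point has trivial stabiliser under the additive group). Then δ has a homogeneous
slice: some s of degree −d with δ s = 1. (The published statement is for the coordinate ring of an
affine variety over an algebraically closed field of characteristic zero and concludes moreover that
the quotient map by the additive group is a trivial principal bundle, which follows from the slice
by a standard argument not restated here; this row keeps the algebraic content, for any such graded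
algebra.) -/
theorem result
    (k : Type u) [Field k] [CharZero k]
    (A : Type v) [CommRing A] [Algebra k A]
    (Λ : Type w) [AddCommGroup Λ] [DecidableEq Λ] [Module.Free ℤ Λ] [Module.Finite ℤ Λ]
    (𝒜 : Λ → Submodule k A) [GradedAlgebra 𝒜]
    (hpos : ∀ w : Λ, 𝒜 w ≠ ⊥ → 𝒜 (-w) ≠ ⊥ → w = 0)
    (δ : Derivation k A A) (hnil : ∀ a : A, ∃ n : ℕ, ((δ : A →ₗ[k] A) ^ n) a = 0)
    (d : Λ) (hhom : ∀ (w : Λ) (a : A), a ∈ 𝒜 w → δ a ∈ 𝒜 (w + d)) (hd : 𝒜 d = ⊥)
    (hfix : ∀ m : Ideal A, m.IsMaximal → (∀ w : Λ, w ≠ 0 → (𝒜 w : Set A) ⊆ m) → ¬ (Set.range δ ⊆ m)) :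
    ∃ s ∈ 𝒜 (-d), δ s = 1 := by
  classical
  let π : A →ₗ[k] A := (𝒜 0).subtype ∘ₗ (DirectSum.component k Λ (fun i => 𝒜 i) 0) ∘ₗ (DirectSum.decomposeLinearEquiv 𝒜).toLinearMap
  have hπ_apply : ∀ x, π x = (DirectSum.decompose 𝒜 x 0 : A) := fun x => rfl
  have hπ0 : ∀ x ∈ 𝒜 0, π x = x := fun x hx => by rw [hπ_apply, DirectSum.decompose_of_mem_same 𝒜 hx]
  have hπne : ∀ w ≠ 0, ∀ x ∈ 𝒜 w, π x = 0 := fun w hw x hx => by
    rw [hπ_apply, DirectSum.decompose_of_mem_ne 𝒜 hx hw]
  have hπmem : ∀ x, π x ∈ 𝒜 0 := fun x => (DirectSum.decompose 𝒜 x 0).2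
  have hmul : ∀ x y, π (x * y) = π x * π y := by
    intro x y
    induction x using DirectSum.Decomposition.inductionOn 𝒜 with
    | zero => simp
    | add a b ha hb => simp only [add_mul, map_add, ha, hb]
    | @homogeneous u a =>
      induction y using DirectSum.Decomposition.inductionOn 𝒜 with
      | zero => simp
      | add b c hb hc => simp only [mul_add, map_add, hb, hc]
      | @homogeneous v b =>
        have hab : (a : A) * b ∈ 𝒜 (u + v) := SetLike.mul_mem_graded a.2 b.2
        by_cases h : u + v = 0
        · by_cases hu : u = 0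
          · obtain rfl : v = 0 := by rwa [hu, zero_add] at h
            subst hu
            rw [hπ0 _ (by simpa using hab), hπ0 _ a.2, hπ0 _ b.2]
          · have hv : v = -u := eq_neg_of_add_eq_zero_right h
            rw [hπne u hu _ a.2, zero_mul]
            have : (a : A) * b = 0 := by
              by_cases ha : 𝒜 u = ⊥
              · rw [(Submodule.mem_bot k).mp (ha.le a.2), zero_mul]
              · by_cases hb : 𝒜 (-u) = ⊥
                · rw [(Submodule.mem_bot k).mp (((congrArg 𝒜 hv).trans hb).le b.2), mul_zero]
                · exact absurd (hpos u ha hb) hu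
            rw [this, map_zero]
        · rw [hπne _ h _ hab]
          by_cases hu : u = 0
          · have hv : v ≠ 0 := fun hv => h (by rw [hu, hv, add_zero])
            rw [hπne v hv _ b.2, mul_zero]
          · rw [hπne u hu _ a.2, zero_mul]
  let G : Set A := {a | (∃ w, w ≠ 0 ∧ a ∈ 𝒜 w) ∨ a ∈ Set.range δ}
  have htop : Ideal.span G = ⊤ := by
    by_contra h
    obtain ⟨m, hm, hle⟩ := Ideal.exists_le_maximal _ h
    exact hfix m hm (fun w hw a ha => hle (Ideal.subset_span (Or.inl ⟨w, hw, ha⟩)))
      (fun a ha => hle (Ideal.subset_span (Or.inr ha)))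
  have key : ∀ x ∈ Ideal.span G, ∃ s ∈ 𝒜 (-d), δ s = π x := by
    intro x hx
    induction hx using Submodule.span_induction with
    | zero => exact ⟨0, zero_mem _, by simp⟩
    | add x y _ _ hx hy =>
      obtain ⟨s, hs, hs'⟩ := hx
      obtain ⟨t, ht, ht'⟩ := hy
      exact ⟨s + t, add_mem hs ht, by rw [map_add, map_add, hs', ht']⟩
    | smul r x _ hx =>
      obtain ⟨s, hs, hs'⟩ := hx
      have h0 : δ (π r) = 0 := by
        have := hhom 0 _ (hπmem r)
        rw [zero_add, hd] at this
        exact (Submodule.mem_bot k).mp this
      refine ⟨π r * s, by simpa using SetLike.mul_mem_graded (hπmem r) hs, ?_⟩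
      rw [smul_eq_mul, hmul, Derivation.leibniz, hs', h0, smul_zero, add_zero, smul_eq_mul]
    | mem x hx =>
      rcases hx with ⟨w, hw, hx⟩ | ⟨b, rfl⟩
      · exact ⟨0, zero_mem _, by rw [map_zero, hπne w hw x hx]⟩
      · refine ⟨(DirectSum.decompose 𝒜 b (-d) : A), (DirectSum.decompose 𝒜 b (-d)).2, ?_⟩
        induction b using DirectSum.Decomposition.inductionOn 𝒜 with
        | zero => simp
        | add a c ha hc =>
          simp only [DirectSum.decompose_add, DirectSum.add_apply, Submodule.coe_add, map_add, ha, hc]
        | @homogeneous v a =>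
          have h1 := hhom v _ a.2
          by_cases hv : v = -d
          · subst hv
            rw [DirectSum.decompose_of_mem_same 𝒜 a.2, hπ0 _ (by simpa using h1)]
          · rw [DirectSum.decompose_of_mem_ne 𝒜 a.2 hv, map_zero,
              hπne _ (fun h => hv (eq_neg_of_add_eq_zero_left h)) _ h1]
  obtain ⟨s, hs, hs'⟩ := key 1 (htop ▸ Submodule.mem_top)
  exact ⟨s, hs, by rw [hs', hπ0 1 SetLike.GradedOne.one_mem]⟩

end Groth.Agent.S15121
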