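import Groth.Statements.S15122


set_option autoImplicit false
universe u v w
open GIT

namespace Groth.Agent.S15122

/-- Let R be a commutative ring, A a commutative R-algebra graded by the natural numbers, σ a
homogeneous element of degree zero, and B the localisation of A away from σ, equipped with a grading
by the natural numbers for which the localisation map ι : A → B is a graded ring homomorphism (such
a grading is necessarily the one induced from A). Then the homogeneous ideal of B generated by the
image of the irrelevant ideal of A is the whole irrelevant ideal of B; in other words the induced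
rational map from Proj B to Proj A is defined everywhere. (The published statement also assumes σ a
non-zero-divisor, which this step does not use, and goes on to conclude that Proj B → Proj A is an
open immersion onto the basic open set of σ.) -/
theorem result
    (R : Type u) (A : Type v) (B : Type w) [CommRing R] [CommRing A] [CommRing B] [Algebra R A] [Algebra R B]
    [Algebra A B] [IsScalarTower R A B]
    (𝒜 : ℕ → Submodule R A) [GradedAlgebra 𝒜] (ℬ : ℕ → Submodule R B) [GradedAlgebra ℬ]
    (σ : A) (hσ0 : σ ∈ 𝒜 0) [IsLocalization.Away σ B]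
    (ι : 𝒜 →+*ᵍ ℬ) (hι : ∀ a : A, ι a = algebraMap A B a) :
    (HomogeneousIdeal.irrelevant 𝒜).map ι = HomogeneousIdeal.irrelevant ℬ := by
  refine le_antisymm (HomogeneousIdeal.map_le_iff_le_comap _ |>.2 ((HomogeneousIdeal.irrelevant_le 𝒜).2
    fun i hi a ha => HomogeneousIdeal.mem_irrelevant_of_mem ℬ hi (ι.map_mem ha))) ?_
  show (HomogeneousIdeal.irrelevant ℬ).toIdeal ≤ _
  rw [HomogeneousIdeal.toIdeal_irrelevant_le]
  intro i hi b hb
  show b ∈ Ideal.map ι (HomogeneousIdeal.irrelevant 𝒜).toIdeal
  obtain ⟨⟨a, ⟨_, n, rfl⟩⟩, hab⟩ := IsLocalization.surj (Submonoid.powers σ) b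
  have hb' : b * algebraMap A B (σ ^ n) ∈ ℬ (i + 0) :=
    SetLike.mul_mem_graded hb (hι _ ▸ ι.map_mem (by simpa using SetLike.pow_mem_graded n hσ0))
  have hu : IsUnit (algebraMap A B (σ ^ n)) := IsLocalization.map_units B (⟨σ ^ n, n, rfl⟩ : Submonoid.powers σ)
  rw [← Ideal.mul_unit_mem_iff_mem _ hu]
  simp only at hab
  rw [hab, add_zero] at hb'
  rw [hab, ← DirectSum.decompose_of_mem_same ℬ hb', ← hι, ← _root_.map_directSumDecompose (𝒜 := 𝒜) (ℬ := ℬ) ι]
  exact Ideal.mem_map_of_mem _ (HomogeneousIdeal.mem_irrelevant_of_mem 𝒜 hi (SetLike.coe_mem _))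

end Groth.Agent.S15122
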