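import Groth.Statements.S15123
import Mathlib
import Groth.Agent.InvQLib.Torus

set_option autoImplicit false
universe u v w
open InvQ

namespace Groth.Agent.S15123

open Groth.Agent.InvQLib

/-- Let k be an algebraically closed field of characteristic zero, Λ a finitely generated free abelian
group and k[Λ] its group algebra, the coordinate Hopf algebra of the torus with character group Λ.
Let R be a reduced finitely generated commutative k-algebra with a multiplicative coaction of k[Λ]
(an action of the torus on the affine variety Spec R), and suppose the grading monoid is positive: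
if R has a non-zero eigenvector of weight w and one of weight −w then w = 0. Then for every k-point
x of Spec R, the orbit of x is closed if and only if x is a fixed point. (The published statement
also asserts that the fixed-point subvariety is affine and is a good quotient for the action; only
the description of the closed orbits is stated here.) -/
theorem result
    (k : Type u) [Field k] [IsAlgClosed k] [CharZero k]
    (Λ : Type v) [AddCommGroup Λ] [Module.Free ℤ Λ] [Module.Finite ℤ Λ]
    (R : Type w) [CommRing R] [Algebra k R] [Algebra.FiniteType k R] [IsReduced R]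
    [HopfRep.Comod k (AddMonoidAlgebra k Λ) R] [GLin.IsCoactAlg k (AddMonoidAlgebra k Λ) R]
    (hpos : ∀ w : Λ, HopfRep.eigenspace k (AddMonoidAlgebra k Λ) R (AddMonoidAlgebra.single w 1) ≠ ⊥ →
      HopfRep.eigenspace k (AddMonoidAlgebra k Λ) R (AddMonoidAlgebra.single (-w) 1) ≠ ⊥ → w = 0)
    (x : R →ₐ[k] k) :
    GLin.IsClosedOrbit k (AddMonoidAlgebra k Λ) x ↔ GLin.IsFixedPt k (AddMonoidAlgebra k Λ) x := by
  classical
  let o := GLin.orbitHom k (AddMonoidAlgebra k Λ) x
  have horb : ∀ f, o f = (Torus.comps k Λ f).sum fun w m => x m • AddMonoidAlgebra.single w (1 : k) := by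
    intro f
    simp [o, GLin.orbitHom, Torus.coact_eq, Finsupp.sum, map_sum]
  constructor
  · intro hcl
    have hone : Torus.comps k Λ (1 : R) 0 = 1 := by
      rw [Torus.comps_of_mem Torus.one_mem, Finsupp.single_eq_same]
    let x0 : R →ₐ[k] k := AlgHom.ofLinearMap (x.toLinearMap ∘ₗ (Finsupp.lapply 0) ∘ₗ Torus.comps k Λ)
      (by simp [hone]) (fun f g => by simp [Torus.comps_zero_mul hpos])
    have hx0 : ∀ f, x0 f = x (Torus.comps k Λ f 0) := fun _ => rfl
    have hker : RingHom.ker o ≤ RingHom.ker x0 := by
      intro f hf
      rw [RingHom.mem_ker, horb] at hf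
      have := congrArg ((AddMonoidAlgebra.basis Λ k).coord 0) hf
      simp only [Finsupp.sum, map_sum, map_smul, Module.Basis.coord_apply, ← AddMonoidAlgebra.basis_apply,
        Module.Basis.repr_self, Finsupp.single_apply, map_zero, smul_eq_mul, mul_ite, mul_one, mul_zero,
        Finsupp.coe_zero, Pi.zero_apply, Finset.sum_ite_eq', Finsupp.mem_support_iff] at this
      rw [RingHom.mem_ker]
      by_cases h0 : Torus.comps k Λ f 0 = 0
      · simp [hx0, h0]
      · rw [if_pos h0] at this
        simpa [hx0] using this
    have hp : (RingHom.ker x0).IsPrime := RingHom.ker_isPrime _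
    have hmem : (⟨RingHom.ker x0, hp⟩ : PrimeSpectrum R) ∈ Set.range (PrimeSpectrum.comap o.toRingHom) := by
      rw [← hcl.closure_eq, PrimeSpectrum.closure_range_comap]
      exact hker
    obtain ⟨P, hP⟩ := hmem
    have hzero : ∀ (w : Λ), w ≠ 0 → ∀ f, x (Torus.comps k Λ f w) = 0 := by
      intro w hw f
      have hmemw := Torus.comps_mem (k := k) (Λ := Λ) f w
      generalize Torus.comps k Λ f w = m at hmemw ⊢
      have hm0 : m ∈ RingHom.ker x0 := by
        simp [RingHom.mem_ker, hx0, Torus.comps_of_mem hmemw, Finsupp.single_eq_of_ne hw.symm]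
      have hoP : o m ∈ P.asIdeal := by
        have h1 : m ∈ (⟨RingHom.ker x0, hp⟩ : PrimeSpectrum R).asIdeal := hm0
        rw [← hP] at h1
        exact h1
      rw [horb, Torus.comps_of_mem hmemw, Finsupp.sum_single_index (by simp)] at hoP
      by_contra hne
      apply P.isPrime.ne_top
      refine Ideal.eq_top_of_isUnit_mem _ hoP ?_
      refine ⟨⟨x m • AddMonoidAlgebra.single w (1 : k), (x m)⁻¹ • AddMonoidAlgebra.single (-w) (1 : k), ?_, ?_⟩, rfl⟩ <;>
        simp [AddMonoidAlgebra.single_mul_single, AddMonoidAlgebra.one_def, smul_smul, hne]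
    refine AlgHom.ext fun f => ?_
    have hxf : x f = x (Torus.comps k Λ f 0) := by
      conv_lhs => rw [← Torus.sum_comps (k := k) (Λ := Λ) f, Finsupp.sum, map_sum]
      refine Finset.sum_eq_single 0 (fun w _ hw => hzero w hw f) fun h => ?_
      simp [Finsupp.notMem_support_iff.1 h]
    change o f = algebraMap k _ (x f)
    rw [horb, hxf, Finsupp.sum, Finset.sum_eq_single 0 (fun w _ hw => by simp [hzero w hw f])
      (fun h => by simp [Finsupp.notMem_support_iff.1 h])]
    simp [Algebra.algebraMap_eq_smul_one, AddMonoidAlgebra.one_def]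
  · intro hfix
    have hr : Set.range (PrimeSpectrum.comap o.toRingHom) =
        {(⟨RingHom.ker x, RingHom.ker_isPrime _⟩ : PrimeSpectrum R)} := by
      have hval : ∀ f, o f = algebraMap k _ (x f) := fun f => DFunLike.congr_fun hfix f
      have hcomap : ∀ P : PrimeSpectrum (AddMonoidAlgebra k Λ),
          PrimeSpectrum.comap o.toRingHom P = ⟨RingHom.ker x, RingHom.ker_isPrime _⟩ := by
        intro P
        refine PrimeSpectrum.ext (Ideal.ext fun f => ?_)
        change o f ∈ P.asIdeal ↔ x f = 0
        rw [hval]
        refine ⟨fun h => ?_, fun h => by simp [h]⟩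
        by_contra hne
        exact P.isPrime.ne_top (Ideal.eq_top_of_isUnit_mem _ h ((isUnit_iff_ne_zero.2 hne).map _))
      refine Set.Subset.antisymm (by rintro _ ⟨P, rfl⟩; exact hcomap P) ?_
      rintro _ rfl
      obtain ⟨P⟩ : Nonempty (PrimeSpectrum (AddMonoidAlgebra k Λ)) := inferInstance
      exact ⟨P, hcomap P⟩
    change IsClosed (Set.range (PrimeSpectrum.comap o.toRingHom))
    rw [hr, PrimeSpectrum.isClosed_singleton_iff_isMaximal]
    exact RingHom.ker_isMaximal_of_surjective x fun c => ⟨algebraMap k R c, x.commutes c⟩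

end Groth.Agent.S15123
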