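import Groth.Statements.S15124
import Mathlib
import Groth.Agent.InvQLib.Torus

set_option autoImplicit false
universe u v w
open InvQ

namespace Groth.Agent.S15124

open Groth.Agent.InvQLib

/-- Let k be an algebraically closed field of characteristic zero, Λ a finitely generated free abelian
group with group algebra k[Λ] (the coordinate Hopf algebra of a torus T), and R a reduced finitely
generated commutative k-algebra with a multiplicative coaction of k[Λ] (an action of T on the affine
variety X = Spec R) whose grading monoid is positive: if R has non-zero eigenvectors of weights w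
and −w then w = 0. Let I be the ideal of R generated by all eigenvectors of non-zero weight (the
ideal of the fixed-point subscheme X^T). Then the composite of the inclusion of the ring of
invariants R^T into R with the projection R → R/I is bijective: the fixed-point subscheme maps
isomorphically onto the affine quotient Spec R^T. (The published statement phrases this as: X^T is
affine and X → X^T is a good quotient; the good-quotient property itself is not restated here.) -/
theorem result
    (k : Type u) [Field k] [IsAlgClosed k] [CharZero k]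
    (Λ : Type v) [AddCommGroup Λ] [Module.Free ℤ Λ] [Module.Finite ℤ Λ]
    (R : Type w) [CommRing R] [Algebra k R] [Algebra.FiniteType k R] [IsReduced R]
    [HopfRep.Comod k (AddMonoidAlgebra k Λ) R] [GLin.IsCoactAlg k (AddMonoidAlgebra k Λ) R]
    (hpos : ∀ w : Λ, HopfRep.eigenspace k (AddMonoidAlgebra k Λ) R (AddMonoidAlgebra.single w 1) ≠ ⊥ →
      HopfRep.eigenspace k (AddMonoidAlgebra k Λ) R (AddMonoidAlgebra.single (-w) 1) ≠ ⊥ → w = 0) :
    Function.Bijective
      ((Ideal.Quotient.mkₐ k (Ideal.span {f : R | ∃ w : Λ, w ≠ 0 ∧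
          f ∈ HopfRep.eigenspace k (AddMonoidAlgebra k Λ) R (AddMonoidAlgebra.single w 1)})).comp
        (GLin.invariants k (AddMonoidAlgebra k Λ) R).val) := by
  classical
  have hinv : ∀ f : R, f ∈ GLin.invariants k (AddMonoidAlgebra k Λ) R ↔
      f ∈ HopfRep.eigenspace k (AddMonoidAlgebra k Λ) R (AddMonoidAlgebra.single 0 1) := fun f => by
    rw [← AddMonoidAlgebra.one_def]; rfl
  have hI : ∀ f ∈ Ideal.span {f : R | ∃ w : Λ, w ≠ 0 ∧
      f ∈ HopfRep.eigenspace k (AddMonoidAlgebra k Λ) R (AddMonoidAlgebra.single w 1)},
      Torus.comps k Λ f 0 = 0 := by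
    intro f hf
    induction hf using Submodule.span_induction with
    | mem f hf =>
      obtain ⟨w, hw, hf⟩ := hf
      rw [Torus.comps_of_mem hf, Finsupp.single_eq_of_ne hw.symm]
    | zero => simp
    | add x y _ _ hx hy => simp [hx, hy]
    | smul r x _ hx => rw [smul_eq_mul, Torus.comps_zero_mul hpos, hx, mul_zero]
  refine ⟨fun a b hab => ?_, fun c => ?_⟩
  · refine Subtype.ext (sub_eq_zero.1 ?_)
    have h : ((a - b : GLin.invariants k (AddMonoidAlgebra k Λ) R) : R) ∈ Ideal.span {f : R | ∃ w : Λ, w ≠ 0 ∧
        f ∈ HopfRep.eigenspace k (AddMonoidAlgebra k Λ) R (AddMonoidAlgebra.single w 1)} := by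
      rw [← Ideal.Quotient.eq_zero_iff_mem]
      simpa [sub_eq_zero] using hab
    have := hI _ h
    rw [Torus.comps_of_mem ((hinv _).1 (a - b).2), Finsupp.single_eq_same] at this
    simpa using this
  · obtain ⟨f, rfl⟩ := Ideal.Quotient.mk_surjective c
    refine ⟨⟨Torus.comps k Λ f 0, (hinv _).2 (Torus.comps_mem f 0)⟩, ?_⟩
    change Ideal.Quotient.mk _ (Torus.comps k Λ f 0) = Ideal.Quotient.mk _ f
    refine ((Ideal.Quotient.mk_eq_mk_iff_sub_mem _ _).2 ?_).symm
    conv => arg 2; arg 1; rw [← Torus.sum_comps (k := k) (Λ := Λ) f, Finsupp.sum]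
    by_cases h0 : (0 : Λ) ∈ (Torus.comps k Λ f).support
    · rw [← Finset.add_sum_erase _ _ h0, add_sub_cancel_left]
      exact Ideal.sum_mem _ fun w hw =>
        Ideal.subset_span ⟨w, (Finset.mem_erase.1 hw).1, Torus.comps_mem f w⟩
    · rw [Finsupp.notMem_support_iff.1 h0, sub_zero]
      exact Ideal.sum_mem _ fun w hw =>
        Ideal.subset_span ⟨w, fun h => h0 (h ▸ hw), Torus.comps_mem f w⟩

end Groth.Agent.S15124
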