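import Groth.Statements.S15125
import Mathlib
-- import your own Groth.Agent.* helpers here

set_option autoImplicit false
universe u
open scoped TensorProduct
open Fields

namespace Groth.Agent.S15125
open scoped TensorProduct

/-- Let L be a finitely generated field extension of K, and I ⊆ L ⊗_K L the kernel of multiplication L
⊗_K L → L. An element x of L has the property that x ⊗ 1 and 1 ⊗ x have the same image in the I-adic
completion of L ⊗_K L if and only if x is separable algebraic over K. Equivalently, the equaliser of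
the two natural maps from L to that completion is the separable algebraic closure of K in L. -/
theorem result
    (K L : Type u) [Field K] [Field L] [Algebra K L]
    (hfg : (⊤ : IntermediateField K L).FG) (x : L) :
    AdicCompletion.of (KaehlerDifferential.ideal K L) (L ⊗[K] L) (x ⊗ₜ[K] (1 : L)) =
        AdicCompletion.of (KaehlerDifferential.ideal K L) (L ⊗[K] L) ((1 : L) ⊗ₜ[K] x) ↔
      x ∈ separableClosure K L := by
  have : Algebra.EssFiniteType K L := IntermediateField.fg_top_iff.1 hfg
  have : IsNoetherianRing (L ⊗[K] L) := Algebra.EssFiniteType.isNoetherianRing L (L ⊗[K] L)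
  set I := KaehlerDifferential.ideal K L
  set δ : L ⊗[K] L := x ⊗ₜ[K] (1 : L) - (1 : L) ⊗ₜ[K] x with hδ
  have hiff : AdicCompletion.of I (L ⊗[K] L) (x ⊗ₜ[K] (1 : L)) =
        AdicCompletion.of I (L ⊗[K] L) ((1 : L) ⊗ₜ[K] x) ↔
      δ ∈ ⨅ n : ℕ, (I ^ n • ⊤ : Submodule (L ⊗[K] L) (L ⊗[K] L)) := by
    rw [Submodule.mem_iInf, AdicCompletion.ext_iff]
    refine forall_congr' fun n => ?_
    rw [AdicCompletion.of_apply, AdicCompletion.of_apply, Submodule.mkQ_apply, Submodule.mkQ_apply,
      Submodule.Quotient.eq]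
  rw [hiff]
  constructor
  · intro h
    obtain ⟨r, hr⟩ := (Ideal.mem_iInf_smul_pow_eq_bot_iff I δ).1 h
    set e : L ⊗[K] L := 1 - (r : L ⊗[K] L) with he
    have heδ : e * δ = 0 := by
      rw [he, sub_mul, one_mul, ← smul_eq_mul, hr, sub_self]
    have hμe : Algebra.TensorProduct.lmul' K e = 1 := by
      rw [he, map_sub, map_one, show Algebra.TensorProduct.lmul' K (r : L ⊗[K] L) = 0 from r.2, sub_zero]
    let L₁ : IntermediateField K L := IntermediateField.adjoin K {x}
    let x₁ : L₁ := ⟨x, IntermediateField.mem_adjoin_simple_self K x⟩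
    set δ₁ : L₁ ⊗[K] L₁ := x₁ ⊗ₜ[K] (1 : L₁) - (1 : L₁) ⊗ₜ[K] x₁ with hδ₁
    let pr : (L →ₗ[L₁] L₁) → (L →ₗ[L₁] L₁) → (L ⊗[K] L →ₗ[K] L₁ ⊗[K] L₁) := fun f g =>
      TensorProduct.map (f.restrictScalars K) (g.restrictScalars K)
    have hpr : ∀ f g t, pr f g (δ * t) = δ₁ * pr f g t := by
      intro f g t
      induction t with
      | zero => simp
      | add a b ha hb => simp only [mul_add, map_add, ha, hb]
      | tmul a c =>
        have hf : f (x * a) = x₁ * f a := f.map_smul x₁ a
        have hg : g (x * c) = x₁ * g c := g.map_smul x₁ c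
        simp only [pr, hδ, hδ₁, sub_mul, Algebra.TensorProduct.tmul_mul_tmul, one_mul, map_sub,
          TensorProduct.map_tmul, LinearMap.coe_restrictScalars, hf, hg]
    obtain ⟨f, g, hfg'⟩ : ∃ f g : L →ₗ[L₁] L₁, Algebra.TensorProduct.lmul' K (pr f g e) ≠ 0 := by
      by_contra hcon
      push Not at hcon
      let b := Module.Free.chooseBasis L₁ L
      let q : L ⊗[K] L →ₗ[K] L ⊗[L₁] L :=
        TensorProduct.lift ((TensorProduct.mk L₁ L L).restrictScalars₁₂ K K)
      have hq : ∀ i j t, (b.tensorProduct b).repr (q t) (i, j) =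
          Algebra.TensorProduct.lmul' K (pr (b.coord i) (b.coord j) t) := by
        intro i j t
        induction t with
        | zero => simp
        | add a c ha hc => simp only [map_add, Finsupp.add_apply, ha, hc]
        | tmul a c => simp [q, pr, mul_comm]
      have hq0 : q e = 0 := (b.tensorProduct b).repr.injective (by
        ext ⟨i, j⟩
        rw [hq, hcon, map_zero, Finsupp.zero_apply])
      have hμ : ∀ t, Algebra.TensorProduct.lmul' K t = LinearMap.mul' L₁ L (q t) := by
        intro t
        induction t with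
        | zero => simp
        | add a c ha hc => simp only [map_add, ha, hc]
        | tmul a c => simp [q]
      exact one_ne_zero (by rw [← hμe, hμ, hq0, map_zero] : (1 : L) = 0)
    set e₁ := pr f g e
    set c₁ := Algebra.TensorProduct.lmul' K e₁
    have he₁ : δ₁ * e₁ = 0 := by rw [← hpr, mul_comm, heδ, map_zero]
    have hI₁ : δ₁ ∈ KaehlerDifferential.ideal K L₁ := by
      rw [hδ₁, ← neg_mem_iff, neg_sub]
      exact KaehlerDifferential.one_smul_sub_smul_one_mem_ideal K x₁
    have hsq : δ₁ ∈ KaehlerDifferential.ideal K L₁ ^ 2 := by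
      have e2 : δ₁ = δ₁ * (1 - e₁ * (c₁⁻¹ ⊗ₜ[K] (1 : L₁))) := by
        rw [mul_sub, mul_one, ← mul_assoc, he₁, zero_mul, sub_zero]
      rw [e2, sq]
      refine Ideal.mul_mem_mul hI₁ ?_
      show Algebra.TensorProduct.lmul' K (1 - e₁ * (c₁⁻¹ ⊗ₜ[K] (1 : L₁))) = 0
      rw [map_sub, map_mul, map_one, Algebra.TensorProduct.lmul'_apply_tmul, mul_one,
        mul_inv_cancel₀ hfg', sub_self]
    have hD : KaehlerDifferential.D K L₁ x₁ = 0 := by
      refine (Ideal.toCotangent_eq_zero (KaehlerDifferential.ideal K L₁) ⟨_, _⟩).2 ?_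
      show (1 : L₁) ⊗ₜ[K] x₁ - x₁ ⊗ₜ[K] (1 : L₁) ∈ _
      rw [← neg_sub, neg_mem_iff]
      exact hsq
    have hall : ∀ y : L₁, KaehlerDifferential.D K L₁ y = 0 := by
      rintro ⟨y, hy⟩
      induction hy using IntermediateField.adjoin_induction with
      | mem z hz =>
        obtain rfl : z = x := hz
        exact hD
      | algebraMap c => exact (KaehlerDifferential.D K L₁).map_algebraMap c
      | add a b ha hb iha ihb =>
        show KaehlerDifferential.D K L₁ ((⟨a, ha⟩ : L₁) + ⟨b, hb⟩) = 0
        rw [map_add, iha, ihb, add_zero]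
      | inv a ha iha =>
        show KaehlerDifferential.D K L₁ ((⟨a, ha⟩ : L₁)⁻¹) = 0
        rw [Derivation.leibniz_inv, iha, smul_zero]
      | mul a b ha hb iha ihb =>
        show KaehlerDifferential.D K L₁ ((⟨a, ha⟩ : L₁) * ⟨b, hb⟩) = 0
        rw [Derivation.leibniz, iha, ihb, smul_zero, smul_zero, add_zero]
    have : Algebra.FormallyUnramified K L₁ := ⟨subsingleton_of_forall_eq 0 fun w => by
      have hw : w ∈ Submodule.span L₁ (Set.range (KaehlerDifferential.D K L₁)) := by
        rw [KaehlerDifferential.span_range_derivation]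
        exact Submodule.mem_top
      rw [show Set.range (KaehlerDifferential.D K L₁) = {0} from Set.eq_singleton_iff_unique_mem.2
        ⟨⟨0, hall 0⟩, by rintro _ ⟨y, rfl⟩; exact hall y⟩, Submodule.span_zero_singleton] at hw
      exact hw⟩
    have : Algebra.EssFiniteType K L₁ :=
      IntermediateField.essFiniteType_iff.2 ⟨{x}, by simp [L₁]⟩
    have := Algebra.FormallyUnramified.isSeparable K L₁
    rw [mem_separableClosure_iff]
    have h1 : IsSeparable K x₁ := Algebra.IsSeparable.isSeparable K x₁
    have h2 : minpoly K (L₁.val x₁) = minpoly K x₁ := minpoly.algHom_eq L₁.val Subtype.val_injective x₁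
    show (minpoly K x).Separable
    rw [show x = L₁.val x₁ from rfl, h2]
    exact h1
  · intro hsep
    rw [mem_separableClosure_iff] at hsep
    set u : L ⊗[K] L := (1 : L) ⊗ₜ[K] x with hu
    have hx0 : Polynomial.aeval x (minpoly K x) = 0 := minpoly.aeval K x
    have hd : Polynomial.aeval x (Polynomial.derivative (minpoly K x)) ≠ 0 :=
      Polynomial.Separable.aeval_derivative_ne_zero hsep hx0
    let iR : L →ₐ[K] L ⊗[K] L := Algebra.TensorProduct.includeRight
    let iL : L →ₐ[K] L ⊗[K] L := Algebra.TensorProduct.includeLeft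
    obtain ⟨c, hc⟩ := Polynomial.binomExpansion
      ((minpoly K x).map (algebraMap K (L ⊗[K] L))) u δ
    rw [show u + δ = iL x from by simp [hu, hδ, iL], Polynomial.derivative_map] at hc
    simp only [Polynomial.eval_map_algebraMap] at hc
    rw [Polynomial.aeval_algHom_apply, show u = iR x from rfl, Polynomial.aeval_algHom_apply,
      Polynomial.aeval_algHom_apply, hx0, map_zero, map_zero, zero_add] at hc
    set d := Polynomial.aeval x (Polynomial.derivative (minpoly K x))
    have hδ2 : δ = (-(iR d⁻¹ * c)) * δ ^ 2 := by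
      have h1 : iR d⁻¹ * iR d = 1 := by rw [← map_mul, inv_mul_cancel₀ hd, map_one]
      linear_combination (-(iR d⁻¹)) * hc - δ * h1
    rw [Submodule.mem_iInf]
    intro n
    rw [smul_eq_mul, Ideal.mul_top]
    induction n with
    | zero => simp
    | succ n ih =>
      rw [hδ2, sq, pow_succ, ← mul_assoc]
      refine Ideal.mul_mem_mul (Ideal.mul_mem_left _ _ ih) ?_
      rw [hδ, ← neg_mem_iff, neg_sub]
      exact KaehlerDifferential.one_smul_sub_smul_one_mem_ideal K x

end Groth.Agent.S15125
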