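import Groth.Statements.S15126
import Mathlib.RingTheory.Ideal.Quotient.Operations
import Mathlib.Algebra.MvPolynomial.Equiv
import Mathlib.Data.Finsupp.Encodable
import Mathlib.Data.Countable.Basic
-- import your own Groth.Agent.* helpers here

set_option autoImplicit false
universe u
open Formal

namespace Groth.Agent.S15126

noncomputable section

variable (k : Type u) [Field k] (n : ℕ) (R : Type u) [CommRing R]
  [Algebra (MvPowerSeries (Fin n) k) R]

/-- the free algebra on the coefficients -/
abbrev S : Type u := MvPolynomial (R × (Fin n →₀ ℕ)) k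

/-- the tautological series -/
def u0 (r : R) : MvPowerSeries (Fin n) (S k n R) := fun m => MvPolynomial.X (r, m)

/-- the relations -/
def rels : Set (MvPowerSeries (Fin n) (S k n R)) :=
  {w | (∃ a b, w = u0 k n R (a + b) - u0 k n R a - u0 k n R b) ∨
    (∃ a b, w = u0 k n R (a * b) - u0 k n R a * u0 k n R b) ∨
    ∃ c, w = u0 k n R (algebraMap _ R c) - MvPowerSeries.map (algebraMap k (S k n R)) c}

/-- the ideal of coefficients of the relations -/
def I : Ideal (S k n R) :=
  Ideal.span {x | ∃ w ∈ rels k n R, ∃ m, x = MvPowerSeries.coeff m w}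

/-- the corepresenting algebra -/
abbrev P : Type u := S k n R ⧸ I k n R

/-- the reduction of series -/
def red : MvPowerSeries (Fin n) (S k n R) →+* MvPowerSeries (Fin n) (P k n R) :=
  MvPowerSeries.map (Ideal.Quotient.mk (I k n R))

theorem red_rel {w : MvPowerSeries (Fin n) (S k n R)} (hw : w ∈ rels k n R) : red k n R w = 0 := by
  ext m
  rw [red, MvPowerSeries.coeff_map, map_zero, Ideal.Quotient.eq_zero_iff_mem]
  exact Ideal.subset_span ⟨w, hw, m, rfl⟩

theorem u_add (a b : R) :
    red k n R (u0 k n R (a + b)) = red k n R (u0 k n R a) + red k n R (u0 k n R b) := by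
  have := red_rel k n R (Or.inl ⟨a, b, rfl⟩)
  rwa [map_sub, map_sub, sub_sub, sub_eq_zero] at this

theorem u_mul (a b : R) :
    red k n R (u0 k n R (a * b)) = red k n R (u0 k n R a) * red k n R (u0 k n R b) := by
  have := red_rel k n R (Or.inr (Or.inl ⟨a, b, rfl⟩))
  rwa [map_sub, map_mul, sub_eq_zero] at this

theorem u_algebraMap (c : MvPowerSeries (Fin n) k) :
    red k n R (u0 k n R (algebraMap _ R c)) = algebraMap _ (MvPowerSeries (Fin n) (P k n R)) c := by
  have := red_rel k n R (Or.inr (Or.inr ⟨c, rfl⟩))
  rw [map_sub, sub_eq_zero] at this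
  rw [this, MvPowerSeries.algebraMap_apply'']
  ext m
  simp only [red, MvPowerSeries.coeff_map]
  exact Ideal.Quotient.mk_algebraMap k _ _

/-- the universal section -/
def uu : R →ₐ[MvPowerSeries (Fin n) k] MvPowerSeries (Fin n) (P k n R) where
  toFun r := red k n R (u0 k n R r)
  map_one' := by
    have := u_algebraMap k n R 1
    rwa [map_one, map_one] at this
  map_mul' := u_mul k n R
  map_zero' := by
    have := u_algebraMap k n R 0
    rwa [map_zero, map_zero] at this
  map_add' := u_add k n R
  commutes' := u_algebraMap k n R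

theorem coeff_uu (r : R) (m : Fin n →₀ ℕ) :
    MvPowerSeries.coeff m (uu k n R r) = Ideal.Quotient.mk _ (MvPolynomial.X (r, m)) := by
  show MvPowerSeries.coeff m (red k n R (u0 k n R r)) = _
  rw [red, MvPowerSeries.coeff_map]
  rfl

theorem exists_desc (Q : Type u) [CommRing Q] [Algebra k Q]
    (f : R →ₐ[MvPowerSeries (Fin n) k] MvPowerSeries (Fin n) Q) :
    ∃ g : P k n R →ₐ[k] Q, (MvPowerSeries.map (σ := Fin n) (g : P k n R →+* Q)).comp
      (uu k n R : R →+* MvPowerSeries (Fin n) (P k n R)) = (f : R →+* MvPowerSeries (Fin n) Q) := by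
  let ψ : S k n R →ₐ[k] Q := MvPolynomial.aeval fun p => MvPowerSeries.coeff p.2 (f p.1)
  have h : ∀ r, MvPowerSeries.map (σ := Fin n) (ψ : S k n R →+* Q) (u0 k n R r) = f r := fun r =>
    MvPowerSeries.ext fun m => by
      rw [MvPowerSeries.coeff_map]
      exact MvPolynomial.aeval_X _ _
  refine ⟨Ideal.Quotient.liftₐ (I k n R) ψ fun x hx => ?_, RingHom.ext fun r => ?_⟩
  · refine (Ideal.span_le.2 ?_ : I k n R ≤ RingHom.ker (ψ : S k n R →+* Q)) hx
    rintro _ ⟨w, hw, m, rfl⟩
    show (ψ : S k n R →+* Q) (MvPowerSeries.coeff m w) = 0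
    rw [← MvPowerSeries.coeff_map]
    suffices MvPowerSeries.map (σ := Fin n) (ψ : S k n R →+* Q) w = 0 by rw [this, map_zero]
    rcases hw with ⟨a, b, rfl⟩ | ⟨a, b, rfl⟩ | ⟨c, rfl⟩
    · simp only [map_sub, h, map_add]; ring
    · simp only [map_sub, h, map_mul, sub_self]
    · rw [map_sub, h, AlgHom.commutes, MvPowerSeries.algebraMap_apply'', sub_eq_zero]
      ext d
      simp only [MvPowerSeries.coeff_map]
      exact (ψ.commutes _).symm
  · refine MvPowerSeries.ext fun m => ?_
    rw [RingHom.comp_apply, MvPowerSeries.coeff_map]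
    refine (congrArg _ (coeff_uu k n R r m)).trans ?_
    exact MvPolynomial.aeval_X _ _

theorem countable_gen (s : Set R) (hs : s.Countable)
    (htop : Algebra.adjoin (MvPowerSeries (Fin n) k) s = ⊤) :
    ∃ t : Set (P k n R), t.Countable ∧ Algebra.adjoin k t = ⊤ := by
  classical
  let t : Set (P k n R) :=
    (fun p : R × (Fin n →₀ ℕ) => MvPowerSeries.coeff p.2 (uu k n R p.1)) '' (s ×ˢ Set.univ)
  refine ⟨t, (hs.prod Set.countable_univ).image _, eq_top_iff.2 fun x _ => ?_⟩
  have key : ∀ r m, MvPowerSeries.coeff m (uu k n R r) ∈ Algebra.adjoin k t := by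
    intro r
    have hr : r ∈ Algebra.adjoin (MvPowerSeries (Fin n) k) s := htop ▸ trivial
    induction hr using Algebra.adjoin_induction with
    | mem r hr => exact fun m => Algebra.subset_adjoin ⟨(r, m), ⟨hr, trivial⟩, rfl⟩
    | algebraMap c =>
      intro m
      rw [AlgHom.commutes, MvPowerSeries.algebraMap_apply'', MvPowerSeries.coeff_map]
      exact Subalgebra.algebraMap_mem _ _
    | add a b _ _ ha hb => intro m; rw [map_add, map_add]; exact add_mem (ha m) (hb m)
    | mul a b _ _ ha hb =>
      intro m
      rw [map_mul, MvPowerSeries.coeff_mul]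
      exact sum_mem fun p _ => mul_mem (ha _) (hb _)
  obtain ⟨q, rfl⟩ := Ideal.Quotient.mk_surjective x
  induction q using MvPolynomial.induction_on with
  | C a => exact Subalgebra.algebraMap_mem (Algebra.adjoin k t) a
  | add p q hp hq => rw [map_add]; exact add_mem (hp trivial) (hq trivial)
  | mul_X p v hp =>
    rw [map_mul]
    exact mul_mem (hp trivial) ((coeff_uu k n R v.1 v.2) ▸ key v.1 v.2)

end


/-- Affine case. Let k be a field, n > 0, and R a commutative algebra over the power series ring
k[[z_1,…,z_n]]; for a commutative k-algebra Q regard Q[[z_1,…,z_n]] as a k[[z]]-algebra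
coefficientwise. Then the functor Q ↦ Hom_{k[[z]]-alg}(R, Q[[z]]) on commutative k-algebras is
corepresentable: there exist a commutative k-algebra P and a k[[z]]-algebra homomorphism u : R →
P[[z]] such that every k[[z]]-algebra homomorphism R → Q[[z]] arises from u by applying a unique
k-algebra homomorphism P → Q coefficientwise. If moreover R is countably generated as a
k[[z]]-algebra, P may be taken countably generated over k. (The published statement is for an adic
formal scheme Y over the formal disc Spf k[[z]], asserting that the sheaf of sections of Y over the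
disc is a scheme, affine over the fibre of Y at the origin, and of pro-finite type when Y is; this
row is the case Y = Spf R, to which the published argument reduces, stated for the underlying
algebra R; k is algebraically closed there, which is not used.) -/
theorem result
    (k : Type u) [Field k] (n : ℕ) (hn : 0 < n)
    (R : Type u) [CommRing R] [Algebra (MvPowerSeries (Fin n) k) R] :
    ∃ (P : Type u) (_ : CommRing P) (_ : Algebra k P)
      (u : R →ₐ[MvPowerSeries (Fin n) k] MvPowerSeries (Fin n) P),
      (∀ (Q : Type u) [CommRing Q] [Algebra k Q]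
          (f : R →ₐ[MvPowerSeries (Fin n) k] MvPowerSeries (Fin n) Q),
          ∃! g : P →ₐ[k] Q,
            (MvPowerSeries.map (σ := Fin n) (g : P →+* Q)).comp (u : R →+* MvPowerSeries (Fin n) P) =
              (f : R →+* MvPowerSeries (Fin n) Q)) ∧
      ((∃ s : Set R, s.Countable ∧ Algebra.adjoin (MvPowerSeries (Fin n) k) s = ⊤) →
        ∃ t : Set P, t.Countable ∧ Algebra.adjoin k t = ⊤) := by
  refine ⟨P k n R, inferInstance, inferInstance, uu k n R, fun Q _ _ f => ?_,
    fun ⟨s, hs, htop⟩ => countable_gen k n R s hs htop⟩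
  obtain ⟨g, hg⟩ := exists_desc k n R Q f
  refine ⟨g, hg, fun g' hg' => ?_⟩
  apply Ideal.Quotient.algHom_ext
  apply MvPolynomial.algHom_ext
  rintro ⟨r, m⟩
  have := congr_arg (fun φ : R →+* MvPowerSeries (Fin n) Q => MvPowerSeries.coeff m (φ r))
    (hg'.trans hg.symm)
  simp only [RingHom.comp_apply, MvPowerSeries.coeff_map] at this
  have e := coeff_uu k n R r m
  exact (congrArg g' e).symm.trans (this.trans (congrArg g e))

end Groth.Agent.S15126
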