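import Groth.Statements.S15127
import Groth.Agent.Comod.OrbitClosed
import Groth.Agent.Comod.Invariants
import Groth.Agent.Comod.Matrix
import Groth.Prelude.Def_ComodSub
import Groth.Agent.HopfPts.Extend
import Groth.Agent.S4103
import Mathlib.RingTheory.Flat.FaithfullyFlat.Algebra
import Mathlib.RingTheory.Noetherian.Nilpotent

set_option autoImplicit false
universe u
open scoped TensorProduct
open GLin

namespace Groth.Agent.S15127

open Groth.Agent

/-- an orbit is closed if every stable subspace of functions on the group contains the constants -/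
theorem isClosedOrbit_of_hfix {k : Type u} [Field k] [IsAlgClosed k] {A : Type u} [CommRing A] [HopfAlgebra k A]
    [Algebra.FiniteType k A] {R : Type u} [CommRing R] [Algebra k R] [HopfRep.Comod k A R] [GLin.IsCoactAlg k A R]
    [Algebra.FiniteType k R] (x : R →ₐ[k] k)
    (hfix : ∀ M : Submodule k A, HopfRep.IsSubcomod (k := k) (A := A) M → M ≠ ⊥ → (1 : A) ∈ M) :
    GLin.IsClosedOrbit k A x := by
  classical
  refine Comod.isClosedOrbit_of_points x fun z hz => ?_
  by_contra hcon
  have hz' : InvQLib.orbitIdeal k A x ≤ RingHom.ker z := (Ideal.IsPrime.radical_le_iff (RingHom.ker_isPrime _)).2 hz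
  obtain ⟨f, hf, hforall⟩ := InvQLib.exists_open_orbit (A := A) x
  have : IsNoetherianRing A := Algebra.FiniteType.isNoetherianRing k A
  obtain ⟨N, hN⟩ := IsNoetherianRing.isNilpotent_nilradical A
  let Z : Set (R →ₐ[k] k) :=
    {y | InvQLib.orbitIdeal k A x ≤ RingHom.ker y ∧ ¬ ∃ g : A →ₐ[k] k, y = InvQLib.move g x}
  let J : Submodule k R := ⨅ y ∈ Z, LinearMap.ker (GLin.orbitHom k A y).toLinearMap
  have hJ : HopfRep.IsSubcomod (k := k) (A := A) J := by
    refine Comod.isSubcomod_iff.2 fun φ v hv => ?_
    simp only [J, Submodule.mem_iInf, LinearMap.mem_ker, AlgHom.toLinearMap_apply] at hv ⊢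
    intro y hy
    rw [InvQLib.orbitHom_contract, hv y hy, map_zero]
  have hfJ : f ^ N ∈ J := by
    simp only [J, Submodule.mem_iInf, LinearMap.mem_ker, AlgHom.toLinearMap_apply]
    intro y hy
    have hnil : IsNilpotent (GLin.orbitHom k A y f) := by
      by_contra hnn
      obtain ⟨g, hg⟩ := HopfPts.exists_point_ne_zero (k := k) hnn
      have hle : InvQLib.orbitIdeal k A x ≤ RingHom.ker (InvQLib.move g y) :=
        (InvQLib.orbitIdeal_le_of_le_ker hy.1).trans (InvQLib.orbitIdeal_le_move g y)
      obtain ⟨g', hg'⟩ := hforall _ hle hg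
      refine hy.2 ⟨InvQLib.pmul g' (InvQLib.pinv g), ?_⟩
      rw [← InvQLib.move_move, ← hg', InvQLib.move_move, InvQLib.pmul_pinv_self, InvQLib.move_counit]
    rw [map_pow]
    have := Ideal.pow_mem_pow (mem_nilradical.2 hnil) N
    rw [hN] at this
    exact this
  have hM : HopfRep.IsSubcomod (k := k) (A := A) (J.map (GLin.orbitHom k A x).toLinearMap) :=
    Comod.isSubcomod_map (Comod.isComodHom_iff.2 fun φ v => InvQLib.orbitHom_contract (A := A) x φ v) hJ
  have hne : J.map (GLin.orbitHom k A x).toLinearMap ≠ ⊥ := fun h => by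
    have h0 : GLin.orbitHom k A x (f ^ N) = 0 := by
      have := Submodule.mem_map_of_mem (f := (GLin.orbitHom k A x).toLinearMap) hfJ
      rw [h, Submodule.mem_bot] at this
      exact this
    exact hf ⟨N, RingHom.mem_ker.2 h0⟩
  obtain ⟨r, hr, hr1⟩ := hfix _ hM hne
  have hrz : z r = 0 := by
    simp only [J, SetLike.mem_coe, Submodule.mem_iInf, LinearMap.mem_ker, AlgHom.toLinearMap_apply] at hr
    rw [← InvQLib.counit_orbitHom (A := A), hr z ⟨hz', hcon⟩, map_zero]
  have h1 : z (r - 1) = 0 := hz (RingHom.mem_ker.2 (by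
    rw [map_sub, map_one, sub_eq_zero]
    exact hr1))
  simp [hrz] at h1

open Groth.Agent.HopfSub in
/-- in a Hopf subalgebra of a unipotent one every nonzero stable subspace contains the constants -/
theorem one_mem_of_subcomod {k : Type u} [Field k] {H : Type u} [CommRing H] [HopfAlgebra k H]
    (hU : HopfRep.IsUnipotent k H) {B : Subalgebra k H} (hH : SGA3.IsHopfSubalgebra k H B)
    (M : Submodule k B) (hM : letI := hopfAlgebra hH; HopfRep.IsSubcomod (k := k) (A := B) M) (hne : M ≠ ⊥) :
    (1 : B) ∈ M := by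
  classical
  letI := hopfAlgebra hH
  let M' : Submodule k H := M.map B.val.toLinearMap
  have hM' : HopfRep.IsSubcomod (k := k) (A := H) M' := by
    rintro _ ⟨m, hm, rfl⟩
    obtain ⟨w, hw⟩ := hM m hm
    change Coalgebra.comul (R := k) (m : H) ∈ _
    rw [← ι₂_comulAux hH m]
    change Algebra.TensorProduct.map B.val B.val (HopfRep.Comod.coact (k := k) (A := B) m) ∈ _
    rw [← hw]
    clear hw
    induction w using TensorProduct.induction_on with
    | zero => simp
    | add p q hp hq => simp only [map_add]; exact add_mem hp hq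
    | tmul p c => exact ⟨⟨(p : B), ⟨p, p.2, rfl⟩⟩ ⊗ₜ (c : H), by simp⟩
  obtain ⟨m, hm, hm0⟩ := (Submodule.ne_bot_iff _).1 hne
  letI cM := ComodSub.Comod.restr (HopfRep.Comod.regular k H) M' hM'
  obtain ⟨W, hWfin, hmW, hW⟩ := Comod.exists_finite_subcomod (k := k) (A := H)
    ({⟨(m : H), ⟨m, hm, rfl⟩⟩} : Finset M')
  letI : AddCommGroup W := Submodule.addCommGroup W
  letI cW := ComodSub.Comod.restr cM W hW
  haveI : Nontrivial W := ⟨⟨_, hmW (Finset.mem_coe.2 (Finset.mem_singleton_self _))⟩, 0, fun h => hm0 (by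
    simpa using congrArg (fun w : W => (((w : M') : H))) h)⟩
  obtain ⟨w, hw, hw0⟩ := (Submodule.ne_bot_iff _).1 (hU W hWfin inferInstance)
  have hc1 : Hoch.IsComodHom H (W.subtype : W →ₗ[k] M') := by
    exact (ComodSub.rTensor_subtype_comp_restrCoact (c := _) (W := W) (hW := hW)).symm
  have hc2 : Hoch.IsComodHom H M'.subtype := by
    exact (ComodSub.rTensor_subtype_comp_restrCoact (c := _) (W := M') (hW := hM')).symm
  have h1 : Coalgebra.comul (R := k) ((w : M') : H) = ((w : M') : H) ⊗ₜ[k] (1 : H) := by
    have e1 := LinearMap.congr_fun hc1 w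
    have e2 := LinearMap.congr_fun hc2 (w : M')
    simp only [LinearMap.comp_apply, Submodule.subtype_apply] at e1 e2
    rw [show HopfRep.Comod.coact (k := k) (A := H) w = w ⊗ₜ (1 : H) from hw, LinearMap.rTensor_tmul] at e1
    rw [e1, LinearMap.rTensor_tmul] at e2
    exact e2
  have h2 := congrArg (fun t => TensorProduct.lid k H ((Coalgebra.counit (R := k) (A := H)).rTensor H t)) h1
  simp only [Coalgebra.rTensor_counit_comul, TensorProduct.lid_tmul, one_smul, LinearMap.rTensor_tmul] at h2
  obtain ⟨m', hm', hmw⟩ := (w : M').2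
  have hc : Coalgebra.counit (R := k) ((w : M') : H) ≠ 0 := fun h => hw0 (by
    apply Subtype.ext; apply Subtype.ext
    simpa [h] using h2)
  have h3 : m' = Coalgebra.counit (R := k) ((w : M') : H) • (1 : B) :=
    Subtype.ext (hmw.trans (h2.trans (by simp)))
  rw [h3] at hm'
  exact (Submodule.smul_mem_iff _ hc).1 hm'


/-- Let k be an algebraically closed field, H a commutative Hopf k-algebra such that every nonzero
finite-dimensional H-comodule has a nonzero fixed vector (the affine group U = Spec H is unipotent),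
which is the increasing union of a sequence of finitely generated subalgebras B_0 ⊆ B_1 ⊆ ⋯ each
stable under comultiplication and antipode, with H free as a module over each B_i (so U is the limit
of the unipotent algebraic quotients Spec B_i). Let A be a countably generated commutative k-algebra
with a multiplicative H-coaction (an action of U on the affine scheme Spec A) and x : A → k a
k-point. Then the orbit of x under U is closed: the image of the orbit morphism Spec H → Spec A is a
closed subset. (The published statement is for a pro-unipotent group — a countable successive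
extension of copies of the additive group — acting on an affine scheme that is a countable limit of
affine schemes of finite type; such a group has coordinate ring a polynomial ring in countably many
variables filtered by the finitely generated Hopf subalgebras of its algebraic quotients, hence
satisfies the hypotheses here, which are the ones the argument uses.) -/
theorem result
    (k : Type u) [Field k] [IsAlgClosed k]
    (H : Type u) [CommRing H] [HopfAlgebra k H]
    (hU : HopfRep.IsUnipotent k H)
    (B : ℕ → Subalgebra k H) (hmono : Monotone B) (hcov : ∀ h : H, ∃ i, h ∈ B i)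
    (hfg : ∀ i, (B i).FG)
    (hcomul : ∀ i, ∀ b ∈ B i, CoalgebraStruct.comul (R := k) (A := H) b ∈
      LinearMap.range (TensorProduct.map (B i).val.toLinearMap (B i).val.toLinearMap))
    (hanti : ∀ i, ∀ b ∈ B i, HopfAlgebraStruct.antipode (R := k) (A := H) b ∈ B i)
    (hfree : ∀ i, Module.Free (B i) H)
    (A : Type u) [CommRing A] [Algebra k A] [HopfRep.Comod k H A] [GLin.IsCoactAlg k H A]
    (hA : ∃ s : Set A, s.Countable ∧ Algebra.adjoin k s = ⊤)
    (x : A →ₐ[k] k) :
    GLin.IsClosedOrbit k H x := by
  classical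
  have hU_unip := hU
  unfold GLin.IsClosedOrbit
  set o := (GLin.orbitHom k H x).toRingHom with ho
  suffices hsub : PrimeSpectrum.zeroLocus (RingHom.ker o : Set A) ⊆ Set.range (PrimeSpectrum.comap o) by
    have : Set.range (PrimeSpectrum.comap o) = PrimeSpectrum.zeroLocus (RingHom.ker o : Set A) := by
      refine Set.Subset.antisymm ?_ hsub
      rintro _ ⟨q, rfl⟩
      exact fun a ha => by
        show o a ∈ q.asIdeal
        rw [RingHom.mem_ker.1 ha]; exact zero_mem _
    rw [this]; exact PrimeSpectrum.isClosed_zeroLocus _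
  intro p hp
  rw [PrimeSpectrum.mem_zeroLocus, SetLike.coe_subset_coe] at hp
  refine (PrimeSpectrum.mem_range_comap_iff o).2 (le_antisymm ?_ Ideal.le_comap_map)
  intro a ha
  rw [Ideal.mem_comap, Ideal.map] at ha
  obtain ⟨T, hTp, haT⟩ := Submodule.mem_span_finite_of_mem_span ha
  obtain ⟨t, htp, rfl⟩ := Finset.subset_set_image_iff.1 hTp
  -- a finite stable subspace through `a` and the equations, and a Hopf subalgebra through its matrix
  obtain ⟨U, hfin, htU, hU⟩ := Comod.exists_finite_subcomod (k := k) (A := H) (insert a t)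
  haveI : Module.Finite k U := hfin
  letI cU := ComodSub.Comod.restr ‹HopfRep.Comod k H A› U hU
  have hs : Hoch.IsComodHom H U.subtype := by
    exact (ComodSub.rTensor_subtype_comp_restrCoact (c := _) (W := U) (hW := hU)).symm
  let b := (Module.finBasis k U).reindex (Equiv.ulift.{u, 0}.symm)
  let ι : Type u := ULift.{u, 0} (Fin (Module.finrank k U))
  let e : ι → ι → H := Comod.mat H b
  have he : Comod.IsMat k e := Comod.isMat_mat b
  obtain ⟨j, hj⟩ : ∃ j, ∀ i l, e i l ∈ B j := by
    choose f hf using fun q : ι × ι => hcov (e q.1 q.2)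
    exact ⟨Finset.univ.sup f, fun i l => hmono (Finset.le_sup (Finset.mem_univ (i, l))) (hf (i, l))⟩
  have hH : SGA3.IsHopfSubalgebra k H (B j) := ⟨hcomul j, hanti j⟩
  letI := Groth.Agent.HopfSub.hopfAlgebra hH
  haveI : Algebra.FiniteType k (B j) := (Subalgebra.fg_iff_finiteType _).1 (hfg j)
  haveI : Module.FaithfullyFlat (B j) H := Groth.Agent.S4103.result k H (B j) hH
  let e' : ι → ι → B j := fun i l => ⟨e i l, hj i l⟩
  have he' : Comod.IsMat k e' := by
    constructor
    · intro i l
      apply Groth.Agent.HopfSub.ι₂_injective (B j)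
      refine (Groth.Agent.HopfSub.ι₂_comulAux hH (e' i l)).trans ((he.comul i l).trans ?_)
      simp [Groth.Agent.HopfSub.ι₂, e']
    · exact fun i l => he.counit i l
  letI cK : HopfRep.Comod k (B j) k := HopfRep.Comod.trivial k (B j) k
  haveI : GLin.IsCoactAlg k (B j) k := ⟨rfl, fun c d => by
    change (c * d) ⊗ₜ[k] (1 : B j) = (c ⊗ₜ[k] (1 : B j)) * (d ⊗ₜ[k] (1 : B j))
    rw [Algebra.TensorProduct.tmul_mul_tmul, one_mul]⟩
  letI cP : HopfRep.Comod k (B j) (MvPolynomial ι k) := Comod.polyComod k he'
  haveI : GLin.IsCoactAlg k (B j) (MvPolynomial ι k) :=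
    ⟨map_one (Comod.polyCoact k e'), map_mul (Comod.polyCoact k e')⟩
  let Φ : MvPolynomial ι k →ₐ[k] A := MvPolynomial.aeval fun i => (b i : A)
  have hcomp : (GLin.orbitHom k H x).comp Φ = (B j).val.comp (GLin.orbitHom k (B j) (x.comp Φ)) := by
    refine MvPolynomial.algHom_ext fun i => ?_
    have h1 := LinearMap.congr_fun hs (b i)
    simp only [LinearMap.comp_apply, Submodule.subtype_apply, Comod.coact_basis, map_sum,
      LinearMap.rTensor_tmul] at h1
    have h2 : HopfRep.Comod.coact (k := k) (A := B j) (MvPolynomial.X i : MvPolynomial ι k) =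
        ∑ l, (MvPolynomial.X l : MvPolynomial ι k) ⊗ₜ[k] e' l i := Comod.polyCoact_X k e' i
    simp only [AlgHom.comp_apply, GLin.orbitHom, GLin.coactAlgHom_apply, Φ, MvPolynomial.aeval_X, h1, h2, map_sum]
    refine Finset.sum_congr rfl fun l _ => ?_
    simp [e', e]
  have hclosed : GLin.IsClosedOrbit k (B j) (x.comp Φ) :=
    isClosedOrbit_of_hfix (x.comp Φ) fun M hM hne => one_mem_of_subcomod hU_unip hH M hM hne
  -- points of the closure lift
  have hmem : PrimeSpectrum.comap Φ.toRingHom p ∈
      Set.range (PrimeSpectrum.comap (GLin.orbitHom k (B j) (x.comp Φ)).toRingHom) := by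
    rw [← hclosed.closure_eq, PrimeSpectrum.closure_range_comap, PrimeSpectrum.mem_zeroLocus]
    intro y hy
    show Φ y ∈ p.asIdeal
    refine hp (RingHom.mem_ker.2 ?_)
    have := AlgHom.congr_fun hcomp y
    rw [AlgHom.comp_apply, AlgHom.comp_apply] at this
    exact this.trans (by rw [show GLin.orbitHom k (B j) (x.comp Φ) y = 0 from hy, map_zero])
  obtain ⟨q₀, hq₀⟩ := hmem
  obtain ⟨q, rfl⟩ := PrimeSpectrum.comap_surjective_of_faithfullyFlat (A := B j) (B := H) q₀
  have hkey : ∀ y : MvPolynomial ι k, Φ y ∈ p.asIdeal ↔ GLin.orbitHom k H x (Φ y) ∈ q.asIdeal := by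
    intro y
    change y ∈ (PrimeSpectrum.comap Φ.toRingHom p).asIdeal ↔ _
    rw [← hq₀, ← AlgHom.comp_apply, hcomp]
    exact Iff.rfl
  have hlift : ∀ z ∈ U, ∃ y, Φ y = z := by
    intro z hz
    refine ⟨∑ i, b.repr ⟨z, hz⟩ i • MvPolynomial.X i, ?_⟩
    have h := congrArg (fun u : U => (u : A)) (b.sum_repr ⟨z, hz⟩)
    simp only [Submodule.coe_sum, Submodule.coe_smul] at h
    simp only [map_sum, map_smul, Φ, MvPolynomial.aeval_X]
    exact h
  obtain ⟨la, rfl⟩ := hlift a (htU (Finset.mem_coe.2 (Finset.mem_insert_self _ _)))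
  refine (hkey la).2 (Ideal.span_le.2 ?_ haT)
  intro w hw
  rw [Finset.mem_coe, Finset.mem_image] at hw
  obtain ⟨z, hz, rfl⟩ := hw
  obtain ⟨ly, rfl⟩ := hlift z (htU (Finset.mem_coe.2 (Finset.mem_insert_of_mem hz)))
  exact (hkey ly).1 (htp hz)

end Groth.Agent.S15127
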