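import Groth.Statements.S15128
import Groth.Agent.NilFree.Basic
import Mathlib
-- import your own Groth.Agent.* helpers here

set_option autoImplicit false
universe u v
open CAlg

namespace Groth.Agent.S15128

open TensorProduct

theorem one_tmul_eq_zero_iff {A : Type u} [CommRing A] [IsLocalRing A] {N : Type v} [AddCommGroup N]
    [Module A N] (x : N) :
    (1 : IsLocalRing.ResidueField A) ⊗ₜ[A] x = 0 ↔ x ∈ IsLocalRing.maximalIdeal A • (⊤ : Submodule A N) := by
  have h : ((Ideal.Quotient.mk (IsLocalRing.maximalIdeal A) 1) ⊗ₜ[A] x : (A ⧸ IsLocalRing.maximalIdeal A) ⊗[A] N) = 0 ↔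
      x ∈ IsLocalRing.maximalIdeal A • (⊤ : Submodule A N) := by
    rw [← (TensorProduct.quotTensorEquivQuotSMul N (IsLocalRing.maximalIdeal A)).map_eq_zero_iff,
      TensorProduct.quotTensorEquivQuotSMul_mk_tmul, one_smul, Submodule.Quotient.mk_eq_zero]
  exact h


/-- Over an Artinian local ring A with residue field k, a linear map h between flat A-modules (of any
size) is injective, resp. surjective, as soon as its reduction k ⊗_A h is. (The published statement
is for local Artinian algebras over an algebraically closed field of characteristic zero having that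
field as residue field; this row allows any Artinian local ring.) -/
theorem result
    (A : Type u) [CommRing A] [IsLocalRing A] [IsArtinianRing A]
    (P L : Type v) [AddCommGroup P] [Module A P] [AddCommGroup L] [Module A L]
    [Module.Flat A P] [Module.Flat A L] (h : P →ₗ[A] L) :
    (Function.Injective (h.lTensor (IsLocalRing.ResidueField A)) → Function.Injective h) ∧
    (Function.Surjective (h.lTensor (IsLocalRing.ResidueField A)) → Function.Surjective h) := by
  have hm : IsNilpotent (IsLocalRing.maximalIdeal A) := by
    have := IsArtinianRing.isNilpotent_jacobson_bot (R := A)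
    rwa [IsLocalRing.jacobson_eq_maximalIdeal ⊥ bot_ne_top] at this
  refine ⟨fun hinj => ?_, fun hsurj => ?_⟩
  · have hfree : Module.Free (A ⧸ IsLocalRing.maximalIdeal A) ((A ⧸ IsLocalRing.maximalIdeal A) ⊗[A] P) := by
      let := Ideal.Quotient.field (IsLocalRing.maximalIdeal A)
      exact Module.Free.of_divisionRing _ _
    obtain ⟨ι, φ, hφ, hker⟩ := Groth.Agent.NilFree.exists_presentation _ hm hfree
    have hφi := Groth.Agent.NilFree.injective_of_ker_le_smul_of_flat φ hφ hm hker
    let b : Module.Basis ι A P := .ofRepr (LinearEquiv.ofBijective φ ⟨hφi, hφ⟩).symm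
    have hli : LinearIndependent A (h ∘ b) := by
      rw [linearIndependent_iff_finset_linearIndependent]
      intro s
      let e : ULift.{u} (Fin s.card) ≃ s := Equiv.ulift.trans s.equivFin.symm
      rw [← linearIndependent_equiv e]
      apply Module.IsLocalRing.linearIndependent_of_flat
      have hk := (b.baseChange (IsLocalRing.ResidueField A)).linearIndependent.map'
        (h.baseChange (IsLocalRing.ResidueField A)) (LinearMap.ker_eq_bot.mpr hinj)
      have := hk.comp ((Subtype.val : s → ι) ∘ e) (Subtype.val_injective.comp e.injective)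
      convert! this using 1
      ext i
      simp [Function.comp_def]
    intro x y hxy
    apply b.repr.injective
    apply hli.finsuppLinearCombination_injective
    have : ∀ z, Finsupp.linearCombination A (h ∘ b) (b.repr z) = h z := fun z => by
      rw [← Finsupp.apply_linearCombination, b.linearCombination_repr]
    rw [this, this, hxy]
  · rw [← LinearMap.range_eq_top]
    refine Groth.Agent.NilFree.eq_top_of_sup_smul_eq_top hm (eq_top_iff.mpr fun y _ => ?_)
    obtain ⟨z, hz⟩ := hsurj ((1 : IsLocalRing.ResidueField A) ⊗ₜ[A] y)
    obtain ⟨x, rfl⟩ := TensorProduct.mk_surjective A P (IsLocalRing.ResidueField A) Ideal.Quotient.mk_surjective z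
    rw [TensorProduct.mk_apply, LinearMap.lTensor_tmul] at hz
    have h2 : y - h x ∈ IsLocalRing.maximalIdeal A • (⊤ : Submodule A L) := by
      rw [← one_tmul_eq_zero_iff, TensorProduct.tmul_sub, hz, sub_self]
    exact Submodule.mem_sup.mpr ⟨h x, ⟨x, rfl⟩, _, h2, add_sub_cancel (h x) y⟩

end Groth.Agent.S15128
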