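import Groth.Statements.S15131
import Groth.Agent.ArtFunLib.Cotangent
import Groth.Agent.ArtFunLib.Pullback

set_option autoImplicit false
universe u v
open CategoryTheory
open ArtFun

namespace Groth.Agent.S15131

open Groth.Agent.ArtFunLib

/-- Let k be a field and F a functor on local Artinian k-algebras with residue field k with F(k) a
single point, satisfying (H1) (the comparison map of A₁ ×_A A₂ is surjective when A₂ → A is a small
extension) and (H2) (it is bijective when A = k and A₂ = k[ε]). If the tangent space F(k[ε]) is a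
single point then F is the one-point functor: every F(A) has exactly one element. (The converse is
clear.) -/
theorem result
    {k : Type u} [Field k] (F : ArtFun.Art k k ⥤ Type v)
    (h0 : ArtFun.H0 F) (h1 : ArtFun.Hbar F) (h2 : ArtFun.Heps F)
    (ht : Subsingleton (ArtFun.TangentSpace F)) (A : ArtFun.Art k k) :
    Nonempty (F.obj A) ∧ Subsingleton (F.obj A) := by
  haveI := h0.2
  obtain ⟨x₀⟩ := h0.1
  refine ⟨⟨F.map (⟨Algebra.ofId k A, AlgHom.ext fun c => A.res.commutes c⟩ : Art.base k k ⟶ A) x₀⟩, ?_⟩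
  haveI : Subsingleton (F.obj (Art.dual k k)) := ht
  refine surjective_induction (P := fun B X _ => Subsingleton (F.obj X) → Subsingleton (F.obj B))
    (fun B X e he h => ⟨fun a b => (map_bijective F e he).1 (Subsingleton.elim _ _)⟩)
    (fun B C X p q hp _ ih hX => ?_) (Art.toBase A) A.res_surjective h0.2
  haveI := ih hX
  obtain ⟨P, p₁, p₂, g, hT⟩ := exists_tangentSquare p hp
  obtain ⟨Δ, hΔ₁, hΔ₂⟩ := exists_lift hT.self (𝟙 B) (𝟙 B) rfl
  refine ⟨fun y₁ y₂ => ?_⟩
  obtain ⟨w, hw₁, hw₂⟩ := (cmp_surj_iff F hT.self).1 (h1 _ _ _ _ hT.self hp) y₁ y₂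
    (Subsingleton.elim _ _)
  have hw : w = F.map Δ y₁ := (cmp_inj_iff F hT.split).1 (h2 _ _ hT.split).1 _ _
    (by rw [hw₁, map_map, hΔ₁, map_id_app]) (Subsingleton.elim _ _)
  rw [← hw₂, hw, map_map, hΔ₂, map_id_app]

end Groth.Agent.S15131
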