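import Groth.Statements.S15133
import Groth.Agent.ArtTor88.Basic

set_option autoImplicit false
universe u
open CategoryTheory
open CAlg

namespace Groth.Agent.S15133

/-- Let A be an Artinian local ring with residue field k, n ≥ 1, and 0 → I → P₀ → P₁ → ⋯ → Pₙ a complex
of A-modules with P₀, …, Pₙ flat whose reduction 0 → k ⊗ I → k ⊗ P₀ → ⋯ → k ⊗ Pₙ is exact. Then I
and coker(Pₙ₋₁ → Pₙ) are flat. The complex is written as a cochain complex C indexed by ℕ with C⁰ =
I and Cⁱ⁺¹ = Pᵢ; its terms in degrees above n + 1 play no role. (The published statement adds that I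
maps onto the kernel of k ⊗ P₀ → k ⊗ P₁, which is already part of the exactness hypothesis, and is
for local Artinian algebras over an algebraically closed field of characteristic zero having that
field as residue field; this row allows any Artinian local ring.) -/
theorem result
    (A : Type u) [CommRing A] [IsLocalRing A] [IsArtinianRing A] (n : ℕ) (hn : 0 < n)
    (C : CochainComplex (ModuleCat.{u} A) ℕ)
    (hflat : ∀ i, i ≤ n → Module.Flat A (C.X (i + 1)))
    (hred : ∀ j, j ≤ n →
      (((MonoidalCategory.tensorLeft (ModuleCat.of A (IsLocalRing.ResidueField A))).mapHomologicalComplex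
        (ComplexShape.up ℕ)).obj C).ExactAt j) :
    Module.Flat A (C.X 0) ∧ Module.Flat A (C.X (n + 1) ⧸ LinearMap.range (C.d n (n + 1)).hom) := by
  haveI h1 : Module.Flat A (C.X 1) := hflat 0 (Nat.zero_le n)
  refine ⟨?_, ?_⟩
  · have e := hred 0 (Nat.zero_le n)
    rw [HomologicalComplex.exactAt_iff' _ 0 0 1 (by simp) (by simp),
      ShortComplex.moduleCat_exact_iff] at e
    refine ArtTor88.flat_of_injective_reduction (C.d 0 1).hom ((injective_iff_map_eq_zero _).mpr ?_)
    intro x hx
    obtain ⟨y, hy⟩ := e x hx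
    rw [← hy]
    have : C.d 0 0 = 0 := C.shape 0 0 (by simp)
    simp [HomologicalComplex.sc', this]
    rfl
  · obtain ⟨m, rfl⟩ : ∃ m, n = m + 1 := ⟨n - 1, by omega⟩
    haveI := hflat (m + 1) le_rfl
    have e := hred (m + 1) le_rfl
    rw [HomologicalComplex.exactAt_iff' _ m (m + 1) (m + 1 + 1) (by simp) (by simp),
      ShortComplex.moduleCat_exact_iff] at e
    refine ArtTor88.flat_coker_of_residue (C.d m (m + 1)).hom (C.d (m + 1) (m + 1 + 1)).hom
      (by rw [← ModuleCat.hom_comp, C.d_comp_d, ModuleCat.hom_zero]) ?_ _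
      (LinearMap.exact_map_mkQ_range _) (Submodule.mkQ_surjective _)
    intro x
    refine ⟨fun hx => e x hx, ?_⟩
    rintro ⟨y, rfl⟩
    rw [← LinearMap.comp_apply, ← LinearMap.lTensor_comp, ← ModuleCat.hom_comp, C.d_comp_d]
    simp

end Groth.Agent.S15133
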