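import Groth.Statements.S15134
import Groth.Agent.ArtFunLib.Basic

set_option autoImplicit false
universe u v
open CategoryTheory
open ArtFun

namespace Groth.Agent.S15134

open Groth.Agent.ArtFunLib

/-- Let k be a field and F a functor on local Artinian k-algebras with residue field k with F(k) a
point. If F satisfies (H2') — the comparison map F(A₁ ×_k A₂) → F(A₁) × F(A₂) is bijective for every
pair of objects — then F satisfies condition (L): for every small extension f : B → A with kernel J,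
writing P = B ×_k B, Q = A ×_k A, r : P → Q for the map induced by f, and C = P/K with K the ideal
of P consisting of the pairs (b, b) with b ∈ J, every element of F(Q) whose two images in F(A) agree
lifts along F(C) → F(Q). Here P and Q are pinned as fibre products over k, K is described through
the two projections, and the two inequalities on K (it lies in the maximal ideal of P and is killed
by r), which always hold, are taken as hypotheses so that the quotient object and the factored map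
can be named. -/
theorem result
    {k : Type u} [Field k] (F : ArtFun.Art k k ⥤ Type v) (h0 : ArtFun.H0 F)
    (h2' : ∀ ⦃P A' A'' : ArtFun.Art k k⦄ (p' : P ⟶ A') (p'' : P ⟶ A'')
      (h : ArtFun.Art.IsFibreProd p' p'' (ArtFun.Art.toBase A') (ArtFun.Art.toBase A'')),
      Function.Bijective (ArtFun.cmp F h))
    ⦃B A : ArtFun.Art k k⦄ (f : B ⟶ A) (hf : ArtFun.Art.IsSmallExt f)
    ⦃P : ArtFun.Art k k⦄ (p₁ p₂ : P ⟶ B)
    (hP : ArtFun.Art.IsFibreProd p₁ p₂ (ArtFun.Art.toBase B) (ArtFun.Art.toBase B))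
    ⦃Q : ArtFun.Art k k⦄ (q₁ q₂ : Q ⟶ A)
    (hQ : ArtFun.Art.IsFibreProd q₁ q₂ (ArtFun.Art.toBase A) (ArtFun.Art.toBase A))
    (r : P ⟶ Q) (hr₁ : r ≫ q₁ = p₁ ≫ f) (hr₂ : r ≫ q₂ = p₂ ≫ f)
    (hK : Ideal.span {z : P | p₁ z = p₂ z ∧ f (p₁ z) = 0} ≤ IsLocalRing.maximalIdeal P)
    (hKr : Ideal.span {z : P | p₁ z = p₂ z ∧ f (p₁ z) = 0} ≤ RingHom.ker r.toAlgHom)
    (y : F.obj Q) (hy : F.map q₁ y = F.map q₂ y) :
    ∃ z : F.obj (ArtFun.Art.quot P (Ideal.span {z : P | p₁ z = p₂ z ∧ f (p₁ z) = 0}) hK),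
      F.map (ArtFun.Art.quotFactor hK r hKr) z = y := by
  let Kp : Ideal P := Ideal.span {z : P | p₁ z = p₂ z ∧ f (p₁ z) = 0}
  let u := F.map q₁ y
  obtain ⟨d, hd₁, hd₂⟩ := exists_lift hQ (𝟙 A) (𝟙 A) rfl
  have hy' : F.map d u = y := (h2' q₁ q₂ hQ).1 (Subtype.ext (Prod.ext (by
      change F.map q₁ (F.map d u) = F.map q₁ y
      rw [map_map, hd₁, map_id_app]) (by
      change F.map q₂ (F.map d u) = F.map q₂ y
      rw [map_map, hd₂, map_id_app, ← hy])))
  obtain ⟨dB, hB₁, hB₂⟩ := exists_lift hP (𝟙 B) (𝟙 B) rfl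
  let g : B ⟶ ArtFun.Art.quot P Kp hK := dB ≫ ArtFun.Art.quotMk P Kp hK
  have hg : ∀ x, f x = 0 → g x = 0 := fun x hx => by
    change Ideal.Quotient.mk _ (dB x) = 0
    refine Ideal.Quotient.eq_zero_iff_mem.2 (Ideal.subset_span ?_)
    have e1 : p₁ (dB x) = x := by rw [← ArtFun.Art.comp_apply, hB₁]; rfl
    have e2 : p₂ (dB x) = x := by rw [← ArtFun.Art.comp_apply, hB₂]; rfl
    exact ⟨e1.trans e2.symm, by rw [e1]; exact hx⟩
  let g₀ := Ideal.Quotient.liftₐ (RingHom.ker f.toAlgHom) g.toAlgHom fun x hx => hg x hx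
  let s₀ : A →ₐ[k] (ArtFun.Art.quot P Kp hK) :=
    g₀.comp
      (Ideal.quotientKerAlgEquivOfSurjective hf.1).symm.toAlgHom
  have hs₀ : ∀ x, s₀ (f x) = g x := fun x => by
    have : (Ideal.quotientKerAlgEquivOfSurjective hf.1).symm (f x) = Ideal.Quotient.mk _ x :=
      (Ideal.quotientKerAlgEquivOfSurjective hf.1).injective (by
        rw [AlgEquiv.apply_symm_apply]; rfl)
    change g₀ ((Ideal.quotientKerAlgEquivOfSurjective hf.1).symm (f x)) = _
    rw [this]; rfl
  let s : A ⟶ ArtFun.Art.quot P Kp hK := ⟨s₀, AlgHom.ext fun a => by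
    obtain ⟨x, rfl⟩ := hf.1 a
    change (ArtFun.Art.quot P Kp hK).res (s₀ (f x)) = A.res (f x)
    rw [hs₀, ArtFun.Art.res_app, ArtFun.Art.res_app]⟩
  have hsd : s ≫ ArtFun.Art.quotFactor hK r hKr = d := by
    refine ArtFun.Art.hom_ext (AlgHom.ext fun a => ?_)
    obtain ⟨x, rfl⟩ := hf.1 a
    change ArtFun.Art.quotFactor hK r hKr (s₀ (f x)) = d (f x)
    rw [hs₀]
    change r (dB x) = d (f x)
    refine hQ.inj _ _ ?_ ?_
    · rw [← ArtFun.Art.comp_apply, hr₁, ArtFun.Art.comp_apply, ← ArtFun.Art.comp_apply dB, hB₁,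
        ← ArtFun.Art.comp_apply d, hd₁]
      rfl
    · rw [← ArtFun.Art.comp_apply, hr₂, ArtFun.Art.comp_apply, ← ArtFun.Art.comp_apply dB, hB₂,
        ← ArtFun.Art.comp_apply d, hd₂]
      rfl
  exact ⟨F.map s u, by rw [map_map, hsd, hy']⟩

end Groth.Agent.S15134
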