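import Groth.Statements.S15135

set_option autoImplicit false
universe u v
open Deform

namespace Groth.Agent.S15135

/-- For R-modules M ⊆ N, the first-order embedded deformations of M in N are in canonical bijection with
Hom_R(M, N/M). Writing N ⊗ k[ε] = N ⊕ εN as N × N (the pair (x, y) standing for x + εy), such a
deformation is an R-submodule L of N × N which is stable under multiplication by ε (if (x, y) ∈ L
then (0, x) ∈ L), reduces to M (x ∈ M exactly when (x, y) ∈ L for some y) and is flat over the dual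
numbers, flatness being stated elementwise as: (0, y) ∈ L only if y ∈ M (for a submodule reducing to
M this is the equality of the kernel and the image of ε on L, i.e. flatness over k[ε] when R is an
algebra over a field k). To φ : M → N/M corresponds the submodule of all (x, y) with x ∈ M and y ≡
φ(x) mod M. The first clause says this rule defines exactly one submodule for each φ; the second
says that a submodule has the three properties precisely when its membership is given by this rule
for some φ. (The published statement is a linear isomorphism t_G ≅ Hom_R(M, N/M) for the functor G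
of flat deformations of M inside N ⊗ A over local Artinian algebras A; this row states only the
underlying bijection, and the obstruction half is not stated here.) -/
theorem result
    (R : Type u) [CommRing R] (N : Type v) [AddCommGroup N] [Module R N] (M : Submodule R N) :
    (∀ φ : M →ₗ[R] (N ⧸ M), ∃! L : Submodule R (N × N),
        ∀ x y : N, (x, y) ∈ L ↔ ∃ h : x ∈ M, Submodule.Quotient.mk y = φ ⟨x, h⟩) ∧
    (∀ L : Submodule R (N × N),
      ((∀ x y : N, (x, y) ∈ L → ((0 : N), x) ∈ L) ∧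
        (∀ x : N, x ∈ M ↔ ∃ y : N, (x, y) ∈ L) ∧
        (∀ y : N, ((0 : N), y) ∈ L → y ∈ M)) ↔
      ∃ φ : M →ₗ[R] (N ⧸ M), ∀ x y : N, (x, y) ∈ L ↔ ∃ h : x ∈ M, Submodule.Quotient.mk y = φ ⟨x, h⟩) := by
  have main : ∀ φ : M →ₗ[R] (N ⧸ M), ∃ L : Submodule R (N × N),
      ∀ x y : N, (x, y) ∈ L ↔ ∃ h : x ∈ M, Submodule.Quotient.mk y = φ ⟨x, h⟩ := fun φ =>
    ⟨{ carrier := {p | ∃ h : p.1 ∈ M, Submodule.Quotient.mk p.2 = φ ⟨p.1, h⟩}
       add_mem' := fun {p q} ⟨hp, ep⟩ ⟨hq, eq⟩ => ⟨M.add_mem hp hq, by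
        change Submodule.Quotient.mk (p.2 + q.2) = _
        rw [Submodule.Quotient.mk_add, ep, eq, ← map_add]; rfl⟩
       zero_mem' := ⟨M.zero_mem, by
        change Submodule.Quotient.mk (0 : N) = _
        rw [Submodule.Quotient.mk_zero]; exact (map_zero φ).symm⟩
       smul_mem' := fun c p ⟨hp, ep⟩ => ⟨M.smul_mem c hp, by
        change Submodule.Quotient.mk (c • p.2) = _
        rw [Submodule.Quotient.mk_smul, ep, ← map_smul]; rfl⟩ }, fun x y => Iff.rfl⟩
  refine ⟨fun φ => ?_, fun L => ⟨fun ⟨h1, h2, h3⟩ => ?_, fun ⟨φ, hφ⟩ => ?_⟩⟩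
  · obtain ⟨L, hL⟩ := main φ
    exact ⟨L, hL, fun L' hL' => Submodule.ext fun ⟨x, y⟩ => (hL' x y).trans (hL x y).symm⟩
  · have key : ∀ x y y', (x, y) ∈ L → (x, y') ∈ L → Submodule.Quotient.mk y = (Submodule.Quotient.mk y' : N ⧸ M) := by
      intro x y y' a b
      rw [Submodule.Quotient.eq]
      exact h3 _ (by simpa using L.sub_mem a b)
    choose g hg using fun x : M => (h2 x).1 x.2
    refine ⟨{ toFun := fun x => Submodule.Quotient.mk (g x), map_add' := fun a b => ?_, map_smul' := fun c a => ?_ },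
      fun x y => ⟨fun h => ⟨(h2 x).2 ⟨y, h⟩, key _ _ _ h (hg ⟨x, _⟩)⟩, ?_⟩⟩
    · rw [← Submodule.Quotient.mk_add]
      exact key _ _ _ (hg (a + b)) (by simpa using L.add_mem (hg a) (hg b))
    · rw [RingHom.id_apply, ← Submodule.Quotient.mk_smul]
      exact key _ _ _ (hg (c • a)) (by simpa using L.smul_mem c (hg a))
    · rintro ⟨hx, e⟩
      have hd : y - g ⟨x, hx⟩ ∈ M := (Submodule.Quotient.eq _).1 e
      obtain ⟨z, hz⟩ := (h2 _).1 hd
      simpa using L.add_mem (hg ⟨x, hx⟩) (h1 _ _ hz)
  · have h0 : ∀ h : (0 : N) ∈ M, φ ⟨0, h⟩ = 0 := fun h => map_zero φ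
    refine ⟨fun x y h => ?_, fun x => ⟨fun hx => ?_, fun ⟨y, h⟩ => ((hφ x y).1 h).1⟩, fun y h => ?_⟩
    · rw [hφ] at h ⊢
      exact ⟨M.zero_mem, by rw [h0]; exact (Submodule.Quotient.mk_eq_zero _).2 h.1⟩
    · obtain ⟨y, hy⟩ := Submodule.Quotient.mk_surjective _ (φ ⟨x, hx⟩)
      exact ⟨y, (hφ x y).2 ⟨hx, hy⟩⟩
    · obtain ⟨h', e⟩ := (hφ _ _).1 h
      rw [h0] at e
      exact (Submodule.Quotient.mk_eq_zero _).1 e

end Groth.Agent.S15135
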