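import Groth.Statements.S15136
import Groth.Agent.CartFilt.Basic
import Groth.Agent.S3313
import Groth.Agent.EulerLES.Basic
-- import your own Groth.Agent.* helpers here

set_option autoImplicit false
universe u
open CategoryTheory CategoryTheory.Limits AlgebraicGeometry Opposite
open Models

namespace Groth.Agent.S15136

open Groth.Agent.CartFilt Groth.Agent.QCoh Groth.Agent.PullStalk.Sky Groth.Agent.PullStalk.Exact Groth.Agent.NegVan

/-- An ideal with a global equation is the image of multiplication by it. -/
theorem exists_iso_of_eqn {X : Scheme.{u}} [IsLocallyNoetherian X] {I : X.IdealSheafData}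
    (hI : BlowUp.IsEffCartierIdeal I) (π : Γ(X, ⊤))
    (hπ : ∀ U : X.affineOpens, I.ideal U = Ideal.span {rres (le_top : U.1 ≤ ⊤) π}) :
    ∃ e : Coh.structureModule X ≅ ClSub.idealMod I,
      e.hom ≫ ClSub.idealModι I = TwSh.scalarEnd (Coh.structureModule X) π := by
  have hreg : ∀ (U : X.affineOpens) (f : Γ(X, U.1)), IsEqn I U f → IsEqn I U (rres (le_top : U.1 ≤ ⊤) π) := by
    intro U f hf
    refine ⟨?_, hπ U⟩
    obtain ⟨a, ha⟩ := Ideal.mem_span_singleton'.1
      (show f ∈ Ideal.span {rres (le_top : U.1 ≤ ⊤) π} from hπ U ▸ hf.2 ▸ Ideal.subset_span rfl)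
    exact (mul_mem_nonZeroDivisors.1 (ha ▸ hf.1)).2
  have hφ : ∀ x, ∃ g ∈ nonZeroDivisors (X.presheaf.stalk x),
      RangeEq (TwSh.scalarEnd (Coh.structureModule X) π) x g ∧ RangeEq (ClSub.idealModι I) x g := fun x => by
    obtain ⟨U, hxU, f, hf, he⟩ := hI x
    have hπ' := hreg U f ⟨hf, he⟩
    refine ⟨_, IdealSh.Regular.germ_mem_nonZeroDivisors U.2 x hxU hπ'.1, ?_, range_idealModι hπ' hxU⟩
    intro t
    simp only [stalkLin_scalarEnd]
    rw [show X.presheaf.germ U.1 x hxU (rres (le_top : U.1 ≤ ⊤) π) = X.presheaf.germ ⊤ x trivial π from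
      X.presheaf.germ_res_apply _ x hxU π]
  haveI : Mono (TwSh.scalarEnd (Coh.structureModule X) π) :=
    KFlat.StalkTensor.mono_of_stalk_injective _ fun x a b hab => by
      obtain ⟨U, hxU, f, hf, he⟩ := hI x
      have hg := IdealSh.Regular.germ_mem_nonZeroDivisors U.2 x hxU (hreg U f ⟨hf, he⟩).1
      rw [show X.presheaf.germ U.1 x hxU (rres (le_top : U.1 ≤ ⊤) π) = X.presheaf.germ ⊤ x trivial π from
        X.presheaf.germ_res_apply _ x hxU π] at hg
      exact smulO_injective x (isLeftRegular_iff_mem_nonZeroDivisorsLeft.2 hg.1)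
        ((stalkLin_scalarEnd _ π x a).symm.trans (hab.trans (stalkLin_scalarEnd _ π x b)))
  exact exists_iso_idealMod I _ fun x => by
    obtain ⟨g, -, h⟩ := hφ x
    exact ⟨g, h⟩

theorem abMap_scalarEnd {X : Scheme.{u}} (M : X.Modules) (r : Γ(X, ⊤)) :
    CohLin.abMap (TwSh.scalarEnd M r) = Coh.smulAb M r := by
  ext U m
  rfl

/-- Let R be a discrete valuation ring with residue field k and let X be a scheme proper and flat over
Spec R, with closed fibre X_s = X ×_R Spec k, the closed subscheme cut out by the ideal sheaf 𝔪_R ·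
O_X. Then X is cohomologically flat over R in dimension 0, in the sense that the restriction map
H^0(X, O_X) → H^0(X_s, O_{X_s}) is surjective (equivalently H^0(X, O_X) ⊗_R k ≅ H^0(X_s, O_{X_s})),
precisely when H^1(X, O_X) has no R-torsion. (The published statement is for a proper relative curve
over R, normal with smooth geometrically connected generic fibre and with the fraction field of R of
characteristic zero, and phrases cohomological flatness as the formation of the direct image of O_X
commuting with every base change; the argument uses only properness and flatness, and for X proper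
and flat over R that condition amounts to surjectivity onto the sections of the closed fibre, which
is the form taken here.) -/
theorem result (R : Type u) [CommRing R] [IsDomain R]
    [IsDiscreteValuationRing R] (X : Scheme.{u}) [X.Over (Spec (CommRingCat.of R))]
    [IsProper (X ↘ Spec (CommRingCat.of R))] [Flat (X ↘ Spec (CommRingCat.of R))] :
    Function.Surjective (Sheaf.H.map ((SheafOfModules.toSheaf X.ringCatSheaf).map
      (ClSub.toSubscheme (Models.specialFibreIdeal R (Over.mk (X ↘ Spec (CommRingCat.of R)))))) 0) ↔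
      NoZeroSMulDivisors R (Coh.HH X (Coh.structureModule X) 1) := by
  set p := X ↘ Spec (CommRingCat.of R) with hp
  haveI : IsLocallyNoetherian X := LocallyOfFiniteType.isLocallyNoetherian p
  haveI : Flat (Over.mk p).hom := ‹Flat p›
  obtain ⟨ϖ, hϖ⟩ := IsDiscreteValuationRing.exists_irreducible R
  let I : X.IdealSheafData := Models.specialFibreIdeal R (Over.mk p)
  obtain ⟨e, he⟩ := exists_iso_of_eqn (X := X) (I := I) (S3313.isEffCartier_fibre (Over.mk p))
    (Coh.toGlobal p ϖ) (fun U => by
      refine (IdealSh.Comap.ofIdealTop_comap _ p U).trans ?_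
      rw [hϖ.maximalIdeal_eq, Ideal.map_span, Ideal.map_span, Set.image_singleton, Set.image_singleton]
      rfl)
  let S := ShortComplex.mk (ClSub.idealModι I) (ClSub.toSubscheme I) (kernel.condition _)
  have hS : S.ShortExact := EulerChar.shortExact_ideal I
  have hmul : ∀ x : Coh.HH X (Coh.structureModule X) 1,
      CohLin.hMap S.f 1 (CohLin.hMap e.hom 1 x) = ϖ • x := fun x => by
    refine ((CohLin.hMap_comp e.hom S.f 1 x).symm).trans ?_
    show CohLin.hMap (e.hom ≫ ClSub.idealModι I) 1 x = _
    rw [he, CohLin.hMap_apply]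
    refine (congrArg (fun z => Abelian.Ext.comp x (Abelian.Ext.mk₀ z) (add_zero 1))
      (abMap_scalarEnd (Coh.structureModule X) (Coh.toGlobal p ϖ))).trans ?_
    exact (CohLin.smul_eq_comp (Coh.structureModule X) (Coh.toGlobal p ϖ) x).symm
  have hbij : Function.Bijective (CohLin.hMap e.hom 1) := (CohLin.hIso e 1).bijective
  constructor
  · intro hsurj
    have hinj : ∀ x : Coh.HH X (Coh.structureModule X) 1, ϖ • x = 0 → x = 0 := fun x hx => by
      rw [← hmul] at hx
      obtain ⟨y, hy⟩ := CohLin.exists_hδ_eq hS (n := 0) _ hx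
      obtain ⟨w, hw⟩ := hsurj y
      refine hbij.1 (Eq.trans ?_ (map_zero _).symm)
      rw [← hy, ← hw]
      exact CohLin.hδ_hMap_g hS w
    refine ⟨fun {r x} hrx => or_iff_not_imp_left.mpr fun hr => ?_⟩
    obtain ⟨m, u, rfl⟩ := IsDiscreteValuationRing.eq_unit_mul_pow_irreducible hr hϖ
    rw [mul_smul] at hrx
    have h2 : ϖ ^ m • x = 0 := by
      have := congrArg (fun z => (↑u⁻¹ : R) • z) hrx
      simp only [smul_zero] at this
      rwa [smul_smul, Units.inv_mul, one_smul] at this
    clear hrx hr
    induction m generalizing x with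
    | zero => simpa using h2
    | succ m ih =>
      rw [pow_succ, mul_smul] at h2
      exact hinj x (ih h2)
  · intro hnz y
    obtain ⟨x, hx⟩ := hbij.2 (CohLin.hδ hS 0 y)
    have h0 : ϖ • x = 0 := by
      rw [← hmul, hx]
      exact CohLin.hMap_f_hδ hS y
    have hx0 : x = 0 := (hnz.eq_zero_or_eq_zero_of_smul_eq_zero h0).resolve_left hϖ.ne_zero
    rw [hx0, map_zero] at hx
    obtain ⟨w, hw⟩ := CohLin.exists_hMap_g_eq hS y hx.symm
    exact ⟨w, hw⟩

end Groth.Agent.S15136
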