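import Groth.Statements.S7338
import Groth.Agent.S13129
import Groth.Agent.ModifLib.CohVan
import Groth.Agent.ModifLib.Dim
import Mathlib.RingTheory.Length

set_option autoImplicit false
set_option linter.style.haveILetI false
set_option backward.isDefEq.respectTransparency false
set_option backward.isDefEq.respectTransparency.types false
set_option maxHeartbeats 1600000
universe u
open CategoryTheory CategoryTheory.Limits AlgebraicGeometry TopologicalSpace
open Resolve

namespace Groth.Agent.S7338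

/-- Iso over an open restricts to smaller opens. -/
theorem isIso_restrict_of_le {X Y : Scheme.{u}} (f : X ⟶ Y) {U W : Y.Opens} (hWU : W ≤ U)
    [IsIso (f ∣_ U)] : IsIso (f ∣_ W) := by
  haveI : IsIso (f ∣_ U ∣_ (U.ι ⁻¹ᵁ W)) := inferInstance
  have e : U.ι ''ᵁ (U.ι ⁻¹ᵁ W) = W := by
    rw [Scheme.Hom.image_preimage_eq_opensRange_inf, Scheme.Opens.opensRange_ι, inf_eq_right.2 hWU]
  exact ((MorphismProperty.isomorphisms Scheme.{u}).arrow_mk_iso_iff
    ((morphismRestrictRestrict f U (U.ι ⁻¹ᵁ W)).trans (morphismRestrictEq f e))).1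
      (show IsIso (f ∣_ U ∣_ (U.ι ⁻¹ᵁ W)) from inferInstance)

/-- A birational map of schemes of dimension at most two has finite fibres over non-closed points. -/
theorem fibre_dim_le_zero {X S : Scheme.{u}} (g : S ⟶ X) [UniversallyClosed g] [IrreducibleSpace S]
    [IrreducibleSpace X] (hdimS : topologicalKrullDim S ≤ 2) (V : X.Opens) (hV : (V : Set X).Nonempty)
    (hiso : IsIso (g ∣_ V)) (hgen : g (genericPoint S) = genericPoint X) {x : X}
    (hx : ¬ IsClosed ({x} : Set X)) : topologicalKrullDim ↥(g.fiber x) ≤ 0 := by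
  by_cases hxV : x ∈ V
  · exact (ResolveR1.fibre_dims g hdimS V hV hiso x).1 hxV
  have e : topologicalKrullDim ↥(g.fiber x) = Order.krullDim ↥(g.fiber x) := by
    letI : PartialOrder ↥(g.fiber x) := specializationOrder ↥(g.fiber x)
    exact Order.krullDim_eq_of_orderIso irreducibleSetEquivPoints
  have eS : topologicalKrullDim S = Order.krullDim S := by
    letI : PartialOrder S := specializationOrder S
    exact Order.krullDim_eq_of_orderIso irreducibleSetEquivPoints
  rw [e, Order.krullDim_nonpos_iff_forall_isMax]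
  intro a b hab
  by_contra hba
  have hlt : g.fiberι x a < g.fiberι x b :=
    lt_of_le_not_ge ((show b ⤳ a from hab).map (g.fiberι x).continuous) fun h =>
      hba ((g.fiberι x).isEmbedding.isInducing.specializes_iff.1 h)
  have ha : g (g.fiberι x a) = x := by
    have := Set.mem_range_self (f := g.fiberι x) a
    rwa [g.range_fiberι] at this
  have hb : g (g.fiberι x b) = x := by
    have := Set.mem_range_self (f := g.fiberι x) b
    rwa [g.range_fiberι] at this
  have hη : g.fiberι x b < genericPoint S := lt_of_le_not_ge (genericPoint_specializes _) fun h => by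
    have h1 : g.fiberι x b = genericPoint S := ((show g.fiberι x b ⤳ genericPoint S from h).antisymm
      (genericPoint_specializes _)).eq
    rw [h1, hgen] at hb
    exact hxV (hb ▸ ((genericPoint_spec X).mem_open_set_iff V.2).2 (by simpa using hV))
  obtain ⟨y, hxy, hyx⟩ : ∃ y, x ⤳ y ∧ y ≠ x := by
    by_contra h
    push Not at h
    exact hx (closure_subset_iff_isClosed.1 fun y hy => h y (specializes_iff_mem_closure.2 hy))
  obtain ⟨z, hz, hzy⟩ : ∃ z, g.fiberι x a ⤳ z ∧ g z = y := by
    have hc := g.isClosedMap _ (isClosed_closure (s := {g.fiberι x a}))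
    have hm := hxy.mem_closed hc ⟨_, subset_closure rfl, ha⟩
    obtain ⟨z, hz, hzy⟩ := hm
    exact ⟨z, specializes_iff_mem_closure.2 hz, hzy⟩
  have hlt2 : z < g.fiberι x a := lt_of_le_not_ge hz fun h => hyx (by
    have h1 : z = g.fiberι x a := ((show z ⤳ g.fiberι x a from h).antisymm hz).eq
    rw [← hzy, h1, ha])
  have h1 : (1 : ℕ∞) ≤ Order.coheight (g.fiberι x b) := le_trans (le_add_self) (Order.coheight_add_one_le hη)
  have h2 : (2 : ℕ∞) ≤ Order.coheight (g.fiberι x a) :=
    le_trans (le_of_eq (by norm_num)) ((add_le_add_left h1 1).trans (Order.coheight_add_one_le hlt))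
  have h3 : (2 : ℕ∞) + 1 ≤ Order.coheight z := (add_le_add_left h2 1).trans (Order.coheight_add_one_le hlt2)
  have h4 : ((Order.coheight z : ℕ∞) : WithBot ℕ∞) ≤ ((2 : ℕ∞) : WithBot ℕ∞) :=
    (Order.coheight_le_krullDim z).trans (eS ▸ hdimS)
  exact absurd (h3.trans (WithBot.coe_le_coe.1 h4)) (by decide)

open Groth.Agent Groth.Agent.CohAff in
/-- The five-term sequence in lengths. -/
theorem length_h1 {X Y : Scheme.{u}} {A : Type u} [CommRing A] [X.Over (Spec (CommRingCat.of A))]
    [Y.Over (Spec (CommRingCat.of A))] (f : Y ⟶ X)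
    (w : f ≫ (X ↘ Spec (CommRingCat.of A)) = Y ↘ Spec (CommRingCat.of A)) (R : FRes Y)
    (h2 : Subsingleton (Coh.HH X ((Scheme.Modules.pushforward f).obj (R.Z 0)) 2)) :
    Module.length A (Coh.HH Y (R.Z 0) 1) =
      Module.length A (Coh.HH X ((Scheme.Modules.pushforward f).obj (R.Z 0)) 1) +
        Module.length A (Coh.HH X (R.Rc f 0) 0) := by
  have hS := ProperFin.seq₁_shortExact f R 0
  have hS' := ProperFin.seq₂_shortExact f R 0
  let S := ProperFin.seq₂ f R 0
  let ι₀ := CohLin.overLin A (CohLin.hMap S.f 0)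
  let π₀ := CohLin.overLin A (CohLin.hMap S.g 0)
  let s := ProperFin.sect f R w 1
  let η := s.comp ι₀
  let δ := CohLin.overLin A (CohLin.hδ hS 0)
  have hker : LinearMap.ker η = LinearMap.ker δ := by
    ext x
    rw [LinearMap.mem_ker, LinearMap.mem_ker]
    constructor
    · intro hx
      obtain ⟨a, ha⟩ := ProperFin.exists_eq_hMap_of_sect_eq_zero f R w 0 _ hx
      have e : CohLin.hMap (Abelian.factorThruImage (R.pP f 0)) 0 a = x := by
        refine ProperFin.hMap_zero_injective (Abelian.image.ι (R.pP f 0)) ?_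
        rw [← CohLin.hMap_comp, Abelian.image.fac]
        exact ha
      rw [← e]
      exact CohLin.hδ_hMap_g hS a
    · intro hx
      obtain ⟨a, rfl⟩ := CohLin.exists_hMap_g_eq hS x hx
      refine (R.clsTop_eq_zero_iff 1 _).2 ⟨ProperFin.h0Sec ((Scheme.Modules.pushforward f).obj (R.J 0)) a, ?_⟩
      refine (ProperFin.h0Sec_hMap (R.pP f 0) a).symm.trans ?_
      refine congrArg (ProperFin.h0Sec _) ?_
      have hc := CohLin.hMap_comp (Abelian.factorThruImage (R.pP f 0)) (Abelian.image.ι (R.pP f 0)) 0 a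
      rw [Abelian.image.fac] at hc
      exact hc
  have hfl : TopCat.Sheaf.IsFlasque (X := X.toTopCat)
      (Coh.toAb ((Scheme.Modules.pushforward f).obj (R.J 0))) := EulerChar.isFlasque_pushJ f R 0
  haveI := ProperFin.subsingleton_of_flasque hfl 0
  haveI := ProperFin.subsingleton_of_flasque hfl 1
  have hδ : Function.Surjective δ := fun y => CohLin.exists_hδ_eq hS y (Subsingleton.elim _ _)
  -- `H¹` of the image vanishes
  haveI : Subsingleton (Coh.HH X (ProperFin.Img f R 0) 1) := subsingleton_of_forall_eq 0 fun x => by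
    obtain ⟨a, rfl⟩ := CohLin.exists_hMap_g_eq hS x (Subsingleton.elim _ _)
    rw [Subsingleton.elim a 0]
    exact map_zero _
  have hπ : Function.Surjective π₀ := fun c =>
    CohLin.exists_hMap_g_eq hS' c (Subsingleton.elim (α := Coh.HH X (ProperFin.Img f R 0) 1) _ _)
  have hsπ : LinearMap.ker s ≤ LinearMap.ker π₀ := fun x hx => by
    obtain ⟨a, rfl⟩ := ProperFin.exists_eq_hMap_of_sect_eq_zero f R w 0 x hx
    rw [LinearMap.mem_ker]
    refine Eq.trans ?_ (CohLin.hMap_g_hMap_f (S := S) (n := 0)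
      (CohLin.hMap (Abelian.factorThruImage (R.pP f 0)) 0 a))
    refine congrArg π₀ ?_
    have hc := CohLin.hMap_comp (Abelian.factorThruImage (R.pP f 0)) (Abelian.image.ι (R.pP f 0)) 0 a
    rw [Abelian.image.fac] at hc
    exact hc
  let φ : Coh.HH Y (R.Z 0) 1 →ₗ[A] Coh.HH X S.X₃ 0 :=
    ((LinearMap.ker s).liftQ π₀ hsπ).comp
      (s.quotKerEquivOfSurjective (EulerChar.sect_surjective f w R 1)).symm.toLinearMap
  have hφ : ∀ x, φ (s x) = π₀ x := fun x => by
    show (LinearMap.ker s).liftQ π₀ hsπ ((s.quotKerEquivOfSurjective _).symm (s x)) = _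
    rw [show (s.quotKerEquivOfSurjective (EulerChar.sect_surjective f w R 1)).symm (s x) =
      Submodule.Quotient.mk x from (LinearEquiv.symm_apply_eq _).2 rfl]
    rfl
  have hφs : Function.Surjective φ := fun c => by
    obtain ⟨x, rfl⟩ := hπ c
    exact ⟨s x, hφ x⟩
  let e₁ := ((Submodule.quotEquivOfEq _ _ hker).trans (δ.quotKerEquivOfSurjective hδ)).symm.trans η.quotKerEquivRange
  have hex : Function.Exact (LinearMap.range η).subtype φ := by
    intro a
    obtain ⟨x, rfl⟩ := EulerChar.sect_surjective f w R 1 a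
    rw [hφ]
    constructor
    · intro hx
      obtain ⟨y, hy⟩ := CohLin.exists_hMap_f_eq hS' x hx
      exact ⟨⟨η y, y, rfl⟩, congrArg s hy⟩
    · rintro ⟨⟨_, y, rfl⟩, hy⟩
      have h0 : π₀ (ι₀ y) = 0 := CohLin.hMap_g_hMap_f (S := S) y
      rw [← hφ, ← show η y = s x from hy]
      exact (hφ _).trans h0
  rw [Module.length_eq_add_of_exact (LinearMap.range η).subtype φ (Submodule.subtype_injective _) hφs hex,
    ← e₁.length_eq]

/-- Cohomology of isomorphic modules, linearly over the base. -/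
noncomputable def hIsoLin {X : Scheme.{u}} {A : Type u} [CommRing A] [X.Over (Spec (CommRingCat.of A))]
    {M N : X.Modules} (e : M ≅ N) (n : ℕ) : Coh.HH X M n ≃ₗ[A] Coh.HH X N n :=
  { CohLin.overLin A (CohLin.hIso e n).toLinearMap with
    invFun := (CohLin.hIso e n).symm
    left_inv := (CohLin.hIso e n).symm_apply_apply
    right_inv := (CohLin.hIso e n).apply_symm_apply }

open Groth.Agent in
theorem result (A : Type u) [CommRing A] [IsDomain A] [IsLocalRing A] [IsNoetherianRing A]
    [IsIntegrallyClosed A] (hdim : ringKrullDim A = 2)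
    (X X' : Scheme.{u}) [X.Over (Spec (CommRingCat.of A))] [X'.Over (Spec (CommRingCat.of A))]
    [IsProper (X ↘ Spec (CommRingCat.of A))] [IsProper (X' ↘ Spec (CommRingCat.of A))] [IsIntegral X] [IsIntegral X']
    (hX : ∃ U : (Spec (CommRingCat.of A)).Opens, (U : Set (Spec (CommRingCat.of A))).Nonempty ∧ IsIso ((X ↘ Spec (CommRingCat.of A)) ∣_ U))
    (hX' : ∃ U : (Spec (CommRingCat.of A)).Opens, (U : Set (Spec (CommRingCat.of A))).Nonempty ∧ IsIso ((X' ↘ Spec (CommRingCat.of A)) ∣_ U))
    (hXn : Pi1.IsNormalScheme X) (g : X' ⟶ X) (hg : g ≫ (X ↘ Spec (CommRingCat.of A)) = X' ↘ Spec (CommRingCat.of A))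
    [HasInjectiveResolutions X'.Modules] :
    Curv2.IsGloballyGenerated ((Coh.Rpush g 1).obj (Coh.structureModule X')) ∧
      {x : X | Nontrivial (((Coh.Rpush g 1).obj (Coh.structureModule X')).presheaf.stalk x)}.Finite ∧
      (∀ x : X, Nontrivial (((Coh.Rpush g 1).obj (Coh.structureModule X')).presheaf.stalk x) → IsClosed ({x} : Set X)) ∧
      Module.length A (Coh.HH X' (Coh.structureModule X') 1) =
        Module.length A (Coh.HH X (Coh.structureModule X) 1) +
          Module.length A (Coh.HH X ((Coh.Rpush g 1).obj (Coh.structureModule X')) 0) := by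
  let p := X ↘ Spec (CommRingCat.of A)
  let p' := X' ↘ Spec (CommRingCat.of A)
  haveI : IsLocallyNoetherian X := LocallyOfFiniteType.isLocallyNoetherian p
  haveI : CompactSpace X := QuasiCompact.compactSpace_of_compactSpace p
  haveI : IsNoetherian X := {}
  haveI : IsLocallyNoetherian X' := LocallyOfFiniteType.isLocallyNoetherian p'
  haveI : IsProper (g ≫ p) := by rw [hg]; infer_instance
  haveI : IsProper g := IsProper.of_comp g p
  have hd' : topologicalKrullDim X' ≤ 2 := (ModifLib.topologicalKrullDim_le p' hX').2.trans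
    ((PrimeSpectrum.topologicalKrullDim_eq_ringKrullDim A).trans hdim).le
  -- the common open
  obtain ⟨U₁, hU₁, i₁⟩ := hX
  obtain ⟨U₂, hU₂, i₂⟩ := hX'
  let W := U₁ ⊓ U₂
  have hWne : genericPoint (Spec (CommRingCat.of A)) ∈ W :=
    ⟨((genericPoint_spec _).mem_open_set_iff U₁.2).2 (by simpa using hU₁),
      ((genericPoint_spec _).mem_open_set_iff U₂.2).2 (by simpa using hU₂)⟩
  haveI : IsIso (p ∣_ W) := @isIso_restrict_of_le _ _ p U₁ W inf_le_left i₁
  haveI : IsIso ((g ≫ p) ∣_ W) := by
    rw [hg]; exact @isIso_restrict_of_le _ _ p' U₂ W inf_le_right i₂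
  haveI : IsIso (g ∣_ (p ⁻¹ᵁ W) ≫ p ∣_ W) := by rw [← morphismRestrict_comp]; infer_instance
  haveI hgV : IsIso (g ∣_ (p ⁻¹ᵁ W)) := IsIso.of_isIso_comp_right (g ∣_ (p ⁻¹ᵁ W)) (p ∣_ W)
  have hV : ((p ⁻¹ᵁ W : X.Opens) : Set X).Nonempty := by
    obtain ⟨z, -⟩ := (p ∣_ W).homeomorph.surjective ⟨_, hWne⟩
    exact ⟨z.1, z.2⟩
  have hgen := (ModifLib.topologicalKrullDim_le g ⟨_, hV, hgV⟩).1
  have hηV : genericPoint X' ∈ g ⁻¹ᵁ (p ⁻¹ᵁ W) := by
    show g (genericPoint X') ∈ p ⁻¹ᵁ W
    rw [hgen]
    exact ((genericPoint_spec X).mem_open_set_iff (p ⁻¹ᵁ W).2).2 (by simpa using hV)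
  haveI : IsIso (g.stalkMap (genericPoint X')) :=
    ((MorphismProperty.isomorphisms CommRingCat.{u}).arrow_mk_iso_iff
      (morphismRestrictStalkMap g (p ⁻¹ᵁ W) ⟨_, hηV⟩)).1
        (show IsIso ((g ∣_ (p ⁻¹ᵁ W)).stalkMap ⟨_, hηV⟩) from inferInstance)
  haveI hO : IsIso (ClSub.unitToPush g) := by
    rw [Scheme.Modules.Hom.isIso_iff_isIso_app]
    intro V
    haveI := S13129.isIso_app_of_birational g hXn hgen V
    rw [ConcreteCategory.isIso_iff_bijective]
    exact ConcreteCategory.bijective_of_isIso (g.app V)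
  have hOS : Coh.IsCoh (Coh.structureModule X') := ProperFin.isCoh_structureModule X'
  set R1 := (Coh.Rpush g 1).obj (Coh.structureModule X') with hR1
  have hR1c : Coh.IsCoh R1 := Groth.Agent.S0036.result g _ hOS 1
  have hsupp : ∀ x ∈ CohB1.support R1, IsClosed ({x} : Set X) := fun x hx => by
    by_contra hcl
    refine hx (IntProd70.subsingleton_stalk_rpush g x 0 _ hOS ?_ 1 one_pos)
    exact_mod_cast (Topology.IsInducing.subtypeVal.topologicalKrullDim_le).trans
      (fibre_dim_le_zero g hd' _ hV hgV hgen hcl)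
  have hfin := DefAmple27.finite_support_of_closed_points hR1c hsupp
  have hset : {x : X | Nontrivial (R1.presheaf.stalk x)} = CohB1.support R1 := by
    ext x
    exact not_subsingleton_iff_nontrivial.symm
  refine ⟨DefAmple27.gg_of_punctual hfin hsupp, hset ▸ hfin, fun x hx => hsupp x (hset ▸ hx), ?_⟩
  let R := CohAff.FRes.ofMod (Coh.structureModule X')
  haveI : (R.Z 0).IsQuasicoherent := hOS.1
  let eO : Coh.structureModule X ≅ (Scheme.Modules.pushforward g).obj (R.Z 0) := asIso (ClSub.unitToPush g)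
  haveI : (Coh.structureModule X).IsQuasicoherent := ProjTwist.isQuasicoherent_structureModule X
  have h2 : Subsingleton (Coh.HH X ((Scheme.Modules.pushforward g).obj (R.Z 0)) 2) :=
    haveI := ModifLib.subsingleton_HH_of_fiber_le A p 1 (ModifLib.topologicalKrullDim_fiber_le_one A hdim p ⟨U₁, hU₁, i₁⟩) (Coh.structureModule X) 2 one_lt_two
    (hIsoLin (A := A) eO 2).symm.toEquiv.subsingleton
  refine (length_h1 g hg R h2).trans ?_
  rw [← (hIsoLin (A := A) eO 1).length_eq]
  congr 1
  exact (hIsoLin (A := A) (R.rpushIsoRc g 0) 0).length_eq.symm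

end Groth.Agent.S7338
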