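import Groth.Statements.S15137
import Groth.Agent.S7338
import Groth.Agent.FormalFun.StalkH
import Groth.Agent.QCoh.Pullback
import Mathlib.AlgebraicGeometry.Geometrically.Connected

set_option autoImplicit false
set_option linter.style.haveILetI false
set_option backward.isDefEq.respectTransparency false
set_option backward.isDefEq.respectTransparency.types false
set_option maxHeartbeats 1600000
universe u
open CategoryTheory CategoryTheory.Limits AlgebraicGeometry TopologicalSpace
open Models

namespace Groth.Agent.S15137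

/-- A connected normal Noetherian scheme is integral. -/
theorem isIntegral_of_normal {X : Scheme.{u}} [IsLocallyNoetherian X] [CompactSpace X] [ConnectedSpace X]
    (hX : Pi1.IsNormalScheme X) : IsIntegral X := by
  haveI : IsNoetherian X := ⟨⟩
  have hmin : ∀ y : X, ∃ g : X, g ⤳ y ∧ ∀ z : X, z ⤳ y → g ⤳ z := by
    intro y
    haveI := (hX y).1
    let b : PrimeSpectrum (X.presheaf.stalk y) := ⟨⊥, Ideal.isPrime_bot⟩
    refine ⟨X.fromSpecStalk y b, ?_, fun z hz => ?_⟩
    · have : X.fromSpecStalk y b ∈ Set.range (X.fromSpecStalk y) := ⟨b, rfl⟩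
      rwa [Scheme.range_fromSpecStalk] at this
    · obtain ⟨q, rfl⟩ : z ∈ Set.range (X.fromSpecStalk y) := by rw [Scheme.range_fromSpecStalk]; exact hz
      exact ((PrimeSpectrum.le_iff_specializes b q).mp (show b.asIdeal ≤ q.asIdeal from bot_le)).map
        (X.fromSpecStalk y).continuous
  choose g hgy hg using hmin
  have hmax : ∀ y z : X, z ⤳ g y → z = g y := fun y z hz =>
    (hz.antisymm (hg y z (hz.trans (hgy y)))).eq
  have hgg : ∀ y z : X, g y ⤳ z → g z = g y := fun y z hz => hmax y _ (hg z _ hz)
  have hfin : (Set.range g).Finite := by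
    classical
    refine Set.Finite.subset ((NoetherianSpace.finite_irreducibleComponents (α := X)).image
      (fun Z => if h : IsIrreducible Z then h.genericPoint else g (Classical.arbitrary X))) ?_
    rintro _ ⟨y, rfl⟩
    have hirr := isIrreducible_irreducibleComponent (x := g y)
    refine ⟨_, irreducibleComponent_mem_irreducibleComponents (g y), ?_⟩
    show dite _ _ _ = g y
    rw [dif_pos hirr]
    refine hmax y _ ?_
    exact (hirr.isGenericPoint_genericPoint isClosed_irreducibleComponent).specializes mem_irreducibleComponent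
  obtain ⟨y₀⟩ := ConnectedSpace.toNonempty (α := X)
  have hclopen : IsClopen (closure {g y₀}) := by
    refine ⟨isClosed_closure, ?_⟩
    have hc : closure {g y₀} = (⋃ a ∈ Set.range g \ {g y₀}, closure {a})ᶜ := by
      ext z
      simp only [Set.mem_compl_iff, Set.mem_iUnion, exists_prop, ← specializes_iff_mem_closure, not_exists,
        not_and]
      refine ⟨fun hz a ha haz => ?_, fun H => ?_⟩
      · obtain ⟨⟨b, rfl⟩, hne⟩ := ha
        exact hne ((hgg b z haz).symm.trans (hgg y₀ z hz))
      · by_contra hz
        exact H (g z) ⟨⟨z, rfl⟩, fun e => hz ((Set.mem_singleton_iff.1 e) ▸ hgy z)⟩ (hgy z)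
    rw [hc]
    exact ((hfin.subset Set.sdiff_subset).isClosed_biUnion fun _ _ => isClosed_closure).isOpen_compl
  have hc : closure {g y₀} = (Set.univ : Set X) := hclopen.eq_univ ⟨_, subset_closure rfl⟩
  have : IrreducibleSpace X :=
    { toPreirreducibleSpace := ⟨hc ▸ isIrreducible_singleton.closure.isPreirreducible⟩
      toNonempty := ⟨y₀⟩ }
  have : ∀ y, _root_.IsReduced (X.presheaf.stalk y) := fun y => by
    haveI := (hX y).1
    infer_instance
  have : IsReduced X := isReduced_of_isReduced_stalk _
  exact isIntegral_of_irreducibleSpace_of_isReduced _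



/-- Stalk inclusions are flat. -/
theorem flat_fromSpecStalk {U : Scheme.{u}} (x : U) : Flat (U.fromSpecStalk x) := by
  obtain ⟨W, hW, hx, -⟩ := exists_isAffineOpen_mem_and_subset (x := x) (U := ⊤) trivial
  rw [← hW.fromSpecStalk_eq_fromSpecStalk hx, IsAffineOpen.fromSpecStalk]
  letI := TopCat.Presheaf.algebra_section_stalk U.presheaf (⟨x, hx⟩ : W)
  haveI := hW.isLocalization_stalk ⟨x, hx⟩
  haveI : Flat (Spec.map (U.presheaf.germ W x hx)) := by
    rw [HasRingHomProperty.Spec_iff (P := @Flat), RingHom.Flat]
    exact IsLocalization.flat (U.presheaf.stalk x) (hW.primeIdealOf ⟨x, hx⟩).asIdeal.primeCompl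
  infer_instance

open Groth.Agent in
/-- The stalk of `R¹ρ_* O` at a rational singularity vanishes. -/
theorem subsingleton_stalk_R1 {X Y : Scheme.{u}} (ρ : Y ⟶ X) [IsProper ρ] [IsIntegral Y] [IsIntegral X]
    [IsLocallyNoetherian X] (hY : Pi1.IsNormalScheme Y) (V : X.Opens) (hV : (V : Set X).Nonempty)
    [IsIso (ρ ∣_ V)] (hgen : ρ (genericPoint Y) = genericPoint X) (x : X)
    (hx : Curv2.IsRationalSing (X.presheaf.stalk x)) :
    Subsingleton (((Coh.Rpush ρ 1).obj (Coh.structureModule Y)).presheaf.stalk x) := by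
  let j := X.fromSpecStalk x
  let Y₁ := pullback ρ j
  let g : Y₁ ⟶ Y := pullback.fst ρ j
  let q : Y₁ ⟶ Spec (X.presheaf.stalk x) := pullback.snd ρ j
  letI : Y₁.Over (Spec (CommRingCat.of (X.presheaf.stalk x))) := ⟨q⟩
  have hsq : IsPullback g q ρ j := IsPullback.of_hasPullback ρ j
  haveI : IsProper q := MorphismProperty.of_isPullback hsq ‹_›
  haveI : IsPreimmersion g := MorphismProperty.of_isPullback hsq.flip inferInstance
  haveI : Flat j := flat_fromSpecStalk x
  haveI : Flat g := MorphismProperty.of_isPullback hsq.flip inferInstance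
  have hst : ∀ z : Y₁, IsIso (g.stalkMap z) := fun z => by
    rw [ConcreteCategory.isIso_iff_bijective]
    refine ⟨?_, g.stalkMap_surjective z⟩
    letI := (g.stalkMap z).hom.toAlgebra
    haveI : Module.Flat (Y.presheaf.stalk (g z)) (Y₁.presheaf.stalk z) := Flat.stalkMap g z
    haveI : IsLocalHom (algebraMap (Y.presheaf.stalk (g z)) (Y₁.presheaf.stalk z)) :=
      inferInstanceAs (IsLocalHom (g.stalkMap z).hom)
    haveI : Module.FaithfullyFlat (Y.presheaf.stalk (g z)) (Y₁.presheaf.stalk z) :=
      Module.FaithfullyFlat.of_flat_of_isLocalHom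
    exact FaithfulSMul.algebraMap_injective (Y.presheaf.stalk (g z)) (Y₁.presheaf.stalk z)
  have hn : Pi1.IsNormalScheme Y₁ := fun z => by
    haveI := hst z
    let e := (asIso (g.stalkMap z)).commRingCatIsoToRingEquiv
    haveI := (hY (g z)).1
    haveI := (hY (g z)).2
    exact ⟨e.symm.toMulEquiv.isDomain _, IsIntegrallyClosed.of_equiv e⟩
  haveI : ∀ z, _root_.IsReduced (Y₁.presheaf.stalk z) := fun z => by
    haveI := (hn z).1
    infer_instance
  haveI : IsReduced Y₁ := isReduced_of_isReduced_stalk Y₁
  haveI : IrreducibleSpace Y₁ := by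
    obtain ⟨η, hη, -⟩ := Scheme.Pullback.exists_preimage_pullback (f := ρ) (g := j) (genericPoint Y)
      ((show genericPoint X ∈ Set.range j by
        rw [Scheme.range_fromSpecStalk]; exact genericPoint_specializes x).choose) (by
        rw [hgen]
        exact (show genericPoint X ∈ Set.range j by
          rw [Scheme.range_fromSpecStalk]; exact genericPoint_specializes x).choose_spec.symm)
    exact
      { toPreirreducibleSpace := ⟨by
          have : (Set.univ : Set Y₁) = closure {η} := (Set.eq_univ_of_forall fun z =>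
            specializes_iff_mem_closure.1 (g.isEmbedding.isInducing.specializes_iff.1
              (by rw [show g η = genericPoint Y from hη]; exact genericPoint_specializes _))).symm
          rw [this]; exact isIrreducible_singleton.closure.isPreirreducible⟩
        toNonempty := ⟨η⟩ }
  haveI : IsIntegral Y₁ := isIntegral_of_irreducibleSpace_of_isReduced Y₁
  let U : (Spec (X.presheaf.stalk x)).Opens := j ⁻¹ᵁ V
  have hU : (U : Set (Spec (X.presheaf.stalk x))).Nonempty := by
    obtain ⟨t, ht⟩ : genericPoint X ∈ Set.range j := by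
      rw [Scheme.range_fromSpecStalk]; exact genericPoint_specializes x
    refine ⟨t, ?_⟩
    show j t ∈ V
    rw [ht]
    exact ((genericPoint_spec X).mem_open_set_iff V.2).2 (by simpa using hV)
  have hiso : IsIso (q ∣_ U) := by
    have big := (isPullback_morphismRestrict q U).flip.paste_horiz hsq
    rw [show U.ι ≫ j = (j ∣_ V) ≫ V.ι from (morphismRestrict_ι j V).symm] at big
    have hle : q ⁻¹ᵁ U ≤ g ⁻¹ᵁ (ρ ⁻¹ᵁ V) := fun z hz => by
      show ρ (g z) ∈ V
      rw [← Scheme.Hom.comp_apply, pullback.condition, Scheme.Hom.comp_apply]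
      exact hz
    rw [← Scheme.Hom.resLE_comp_ι g hle] at big
    have sq := IsPullback.of_right big (by
      rw [← cancel_mono V.ι, Category.assoc, Category.assoc, morphismRestrict_ι,
        Scheme.Hom.resLE_comp_ι_assoc, pullback.condition, morphismRestrict_ι, morphismRestrict_ι_assoc])
      (isPullback_morphismRestrict ρ V).flip
    exact (MorphismProperty.isomorphisms Scheme.{u}).of_isPullback sq (show IsIso (ρ ∣_ V) from inferInstance)
  haveI := hx Y₁ q inferInstance inferInstance hn ⟨U, hU, hiso⟩
  haveI : (Coh.structureModule Y).IsQuasicoherent := ProjTwist.isQuasicoherent_structureModule Y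
  haveI : Coh.IsQCoh (Coh.structureModule Y) := ProjTwist.isQuasicoherent_structureModule Y
  obtain ⟨e⟩ := FormalFun.nonempty_stalkEquiv ρ (Coh.structureModule Y) x 1 Y₁ g hsq
  haveI : Subsingleton (Coh.HH Y₁ ((Scheme.Modules.pullback g).obj (Coh.structureModule Y)) 1) :=
    (CohLin.hIso (QCoh.pullbackUnitIso g) 1).toEquiv.subsingleton_congr.mpr inferInstance
  exact e.toEquiv.subsingleton

open Groth.Agent Groth.Agent.CohAff in
/-- `H¹(X, f_* O) ≃ H¹(Y, O)` when the first higher direct image vanishes. -/
theorem nonempty_edge {X Y : Scheme.{u}} {A : Type u} [CommRing A] [X.Over (Spec (CommRingCat.of A))]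
    [Y.Over (Spec (CommRingCat.of A))] (f : Y ⟶ X)
    (w : f ≫ (X ↘ Spec (CommRingCat.of A)) = Y ↘ Spec (CommRingCat.of A)) (R : FRes Y)
    (hz : IsZero (R.Rc f 0)) :
    Nonempty (Coh.HH X ((Scheme.Modules.pushforward f).obj (R.Z 0)) 1 ≃ₗ[A] Coh.HH Y (R.Z 0) 1) := by
  have hS := ProperFin.seq₁_shortExact f R 0
  have hS' := ProperFin.seq₂_shortExact f R 0
  let S := ProperFin.seq₂ f R 0
  let s := ProperFin.sect f R w 1
  let η := s.comp (CohLin.overLin A (CohLin.hMap S.f 0))
  let δ := CohLin.overLin A (CohLin.hδ hS 0)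
  have hker : LinearMap.ker η = LinearMap.ker δ := by
    ext x
    rw [LinearMap.mem_ker, LinearMap.mem_ker]
    constructor
    · intro hx
      obtain ⟨a, ha⟩ := ProperFin.exists_eq_hMap_of_sect_eq_zero f R w 0 _ hx
      have e : CohLin.hMap (Abelian.factorThruImage (R.pP f 0)) 0 a = x := by
        refine ProperFin.hMap_zero_injective (Abelian.image.ι (R.pP f 0)) ?_
        rw [← CohLin.hMap_comp, Abelian.image.fac]
        exact ha
      rw [← e]
      exact CohLin.hδ_hMap_g hS a
    · intro hx
      obtain ⟨a, rfl⟩ := CohLin.exists_hMap_g_eq hS x hx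
      refine (R.clsTop_eq_zero_iff 1 _).2 ⟨ProperFin.h0Sec ((Scheme.Modules.pushforward f).obj (R.J 0)) a, ?_⟩
      refine (ProperFin.h0Sec_hMap (R.pP f 0) a).symm.trans ?_
      refine congrArg (ProperFin.h0Sec _) ?_
      have hc := CohLin.hMap_comp (Abelian.factorThruImage (R.pP f 0)) (Abelian.image.ι (R.pP f 0)) 0 a
      rw [Abelian.image.fac] at hc
      exact hc
  haveI := ProperFin.subsingleton_of_flasque (EulerChar.isFlasque_pushJ f R 0) 0
  have hδ : Function.Surjective δ := fun y => CohLin.exists_hδ_eq hS y (Subsingleton.elim _ _)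
  have hη : Function.Surjective η := fun c => by
    obtain ⟨x, rfl⟩ := EulerChar.sect_surjective f w R 1 c
    haveI : Subsingleton (Coh.HH X S.X₃ 0) := subsingleton_of_forall_eq 0 fun y => by
      rw [← CohLin.hMap_id S.X₃ 0 y, show (𝟙 S.X₃) = 0 from hz.eq_zero_of_src (𝟙 (R.Rc f 0))]
      exact (CohLin.hMapHom _ _ 0 y).map_zero
    obtain ⟨y, hy⟩ := CohLin.exists_hMap_f_eq hS' x (Subsingleton.elim _ _)
    exact ⟨y, congrArg s hy⟩
  exact ⟨((δ.quotKerEquivOfSurjective hδ).symm.trans (Submodule.quotEquivOfEq _ _ hker.symm)).trans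
    (η.quotKerEquivOfSurjective hη)⟩

open Groth.Agent in
/-- Let R be a discrete valuation ring whose fraction field K has characteristic zero, let C be a proper
K-curve, smooth of relative dimension 1 and geometrically connected over K, and let X be a model of
C over R (flat and of finite type over R with generic fibre C) which is proper over R and normal, so
that X is a proper relative curve over R; assume X has rational singularities: the local ring of X
at every closed point defines a rational singularity (every proper morphism onto its spectrum from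
an integral normal scheme which is an isomorphism over a nonempty open has H^1 of the structure
sheaf zero). Let ρ : X' → X be a proper morphism over R from an integral normal scheme X' which is
an isomorphism over some nonempty open of X (a proper birational morphism). Then the first higher
direct image R^1ρ_*O_{X'} (of abelian sheaves) vanishes, the map H^1(X, O_X) → H^1(X, ρ_*O_{X'})
induced by the canonical map O_X → ρ_*O_{X'} is bijective, and consequently the R-modules H^1(X,
O_X) and H^1(X', O_{X'}) are isomorphic (the published statement asserts that the canonical pullback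
map is an isomorphism; this row records the existence of an R-linear isomorphism only). -/
theorem result (R : Type u) [CommRing R]
    [IsDomain R] [IsDiscreteValuationRing R] [CharZero (FractionRing R)]
    (X C : Scheme.{u}) [X.Over (Spec (CommRingCat.of R))]
    (f : C ⟶ Spec (CommRingCat.of (FractionRing R)))
    [SmoothOfRelativeDimension 1 f] [IsProper f] [GeometricallyConnected f]
    (hX : Models.IsModel R X (X ↘ Spec (CommRingCat.of R)) C f)
    [IsProper (X ↘ Spec (CommRingCat.of R))] (hn : Pi1.IsNormalScheme X)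
    (hrat : ∀ x : X, IsClosed ({x} : Set X) → Curv2.IsRationalSing (X.presheaf.stalk x))
    (X' : Scheme.{u}) [X'.Over (Spec (CommRingCat.of R))] (ρ : X' ⟶ X) [IsProper ρ]
    (hρ : ρ ≫ (X ↘ Spec (CommRingCat.of R)) = X' ↘ Spec (CommRingCat.of R))
    [IsIntegral X'] (hn' : Pi1.IsNormalScheme X')
    (hbir : ∃ U : X.Opens, (U : Set X).Nonempty ∧ IsIso (ρ ∣_ U)) :
    IsZero ((Coh.RpushAb ρ 1).obj (Coh.toAb (Coh.structureModule X'))) ∧
      Function.Bijective (Sheaf.H.map ((SheafOfModules.toSheaf X.ringCatSheaf).map (ClSub.unitToPush ρ)) 1) ∧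
      Nonempty (Coh.HH X (Coh.structureModule X) 1 ≃ₗ[R] Coh.HH X' (Coh.structureModule X') 1) := by
  let p := X ↘ Spec (CommRingCat.of R)
  haveI : IsLocallyNoetherian X := LocallyOfFiniteType.isLocallyNoetherian p
  haveI : CompactSpace X := QuasiCompact.compactSpace_of_compactSpace p
  obtain ⟨hfl, -, -, g₀, hsq⟩ := hX
  haveI := hfl
  haveI : Subsingleton ↥(Spec (CommRingCat.of (FractionRing R))) :=
    inferInstanceAs (Subsingleton (PrimeSpectrum (FractionRing R)))
  haveI : ConnectedSpace C := GeometricallyConnected.connectedSpace_of_subsingleton f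
  haveI : ConnectedSpace X := by
    refine { toPreconnectedSpace := ⟨?_⟩, toNonempty := ⟨g₀ (Classical.arbitrary C)⟩ }
    refine (isPreconnected_range g₀.continuous).subset_closure (Set.subset_univ _) fun x _ => ?_
    let t₀ : Spec (CommRingCat.of (FractionRing R)) := ⟨⊥, Ideal.isPrime_bot⟩
    let b₀ := Spec.map (CommRingCat.ofHom (algebraMap R (FractionRing R))) t₀
    have hb : b₀ = (⟨⊥, Ideal.isPrime_bot⟩ : PrimeSpectrum R) := PrimeSpectrum.ext (by
      show Ideal.comap (algebraMap R (FractionRing R)) ⊥ = ⊥
      exact Ideal.comap_bot_of_injective _ (IsFractionRing.injective R (FractionRing R)))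
    obtain ⟨y, hy, hyb⟩ := Flat.generalizingMap p (show b₀ ⤳ p x by
      rw [hb]; exact (PrimeSpectrum.le_iff_specializes _ _).1 bot_le)
    obtain ⟨c, hc, -⟩ := Scheme.exists_preimage_of_isPullback hsq y t₀ hyb
    exact closure_mono (Set.singleton_subset_iff.2 (Set.mem_range_self c))
      (specializes_iff_mem_closure.1 (show g₀ c ⤳ x from hc ▸ hy))
  haveI : IsIntegral X := isIntegral_of_normal hn
  obtain ⟨V, hV, hiso⟩ := hbir
  haveI := hiso
  have hgen := (ModifLib.topologicalKrullDim_le ρ ⟨V, hV, hiso⟩).1
  have hηV : genericPoint X' ∈ ρ ⁻¹ᵁ V := by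
    show ρ (genericPoint X') ∈ V
    rw [hgen]
    exact ((genericPoint_spec X).mem_open_set_iff V.2).2 (by simpa using hV)
  haveI : IsIso (ρ.stalkMap (genericPoint X')) :=
    ((MorphismProperty.isomorphisms CommRingCat.{u}).arrow_mk_iso_iff
      (morphismRestrictStalkMap ρ V ⟨_, hηV⟩)).1
        (show IsIso ((ρ ∣_ V).stalkMap ⟨_, hηV⟩) from inferInstance)
  haveI hO : IsIso (ClSub.unitToPush ρ) := by
    rw [Scheme.Modules.Hom.isIso_iff_isIso_app]
    intro W
    haveI := S13129.isIso_app_of_birational ρ hn hgen W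
    rw [ConcreteCategory.isIso_iff_bijective]
    exact ConcreteCategory.bijective_of_isIso (ρ.app W)
  haveI : IsLocallyNoetherian X' := LocallyOfFiniteType.isLocallyNoetherian ρ
  have hOS : Coh.IsCoh (Coh.structureModule X') := ProperFin.isCoh_structureModule X'
  have hR1 : IsZero ((Coh.Rpush ρ 1).obj (Coh.structureModule X')) := by
    refine ChiPoly.isZero_of_stalks fun x => ?_
    by_contra hx
    obtain ⟨z, hz, hzc⟩ := IsClosed.exists_closed_singleton
      (CohDev.isClosed_support (Groth.Agent.S0036.result ρ _ hOS 1)) ⟨x, hx⟩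
    exact hz (subsingleton_stalk_R1 ρ hn' V hV hgen z (hrat z hzc))
  refine ⟨((ModShf.toAbFunctor X).map_isZero hR1).of_iso ((ModShf.rpushCompToAb ρ 1).app _).symm, ?_, ?_⟩
  · exact (CohLin.hIso (asIso (ClSub.unitToPush ρ)) 1).bijective
  let Rr := CohAff.FRes.ofMod (Coh.structureModule X')
  haveI : (Rr.Z 0).IsQuasicoherent := hOS.1
  obtain ⟨e⟩ := S15137.nonempty_edge ρ hρ Rr (hR1.of_iso (Rr.rpushIsoRc ρ 0).symm)
  exact ⟨(S7338.hIsoLin (A := R) (asIso (ClSub.unitToPush ρ)) 1).trans e⟩

end Groth.Agent.S15137
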