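import Groth.Statements.S15140
import Groth.Agent.NormGen.Basic
import Groth.Agent.ZCorrLib.Finite
import Groth.Agent.FlatOpen.Scheme
import Groth.Agent.DimLift.Basic
import Mathlib.RingTheory.Flat.TorsionFree
import Mathlib.AlgebraicGeometry.Morphisms.QuasiFinite
-- import your own Groth.Agent.* helpers here

set_option autoImplicit false
set_option linter.style.haveILetI false
universe u
open CategoryTheory CategoryTheory.Limits AlgebraicGeometry
open Models

namespace Groth.Agent.S15140

/-- Local rings on a scheme have dimension at most the dimension of the scheme. -/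
theorem ringKrullDim_stalk_le (Z : Scheme.{u}) (z : Z) :
    ringKrullDim (Z.presheaf.stalk z) ≤ topologicalKrullDim Z := by
  rw [ringKrullDim_stalk_eq_coheight]
  exact (Order.coheight_le_krullDim z).trans_eq DimLift.topDim_eq_krullDim_points.symm

/-- A specialization relation strictly drops the coheight. -/
theorem eq_of_specializes_of_two_le {Z : Scheme.{u}} (hd : topologicalKrullDim Z = 2) {y z : Z}
    (hy : (2 : ℕ∞) ≤ Order.coheight y) (h : y ⤳ z) : z = y := by
  by_contra hne
  have hlt : z < y := lt_of_le_not_ge h fun h' =>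
    hne (Specializes.antisymm (show z ⤳ y from h') h).eq
  have h1 := (add_le_add_left hy 1).trans (Order.coheight_add_one_le hlt)
  have h2 : Order.coheight z ≤ 2 := WithBot.coe_le_coe.mp
    ((Order.coheight_le_krullDim z).trans_eq (DimLift.topDim_eq_krullDim_points.symm.trans hd))
  have := h1.trans h2
  norm_num at this

/-- A closed set of points of maximal coheight in a Noetherian scheme of dimension two is finite. -/
theorem finite_of_two_le {Z : Scheme.{u}} [IsNoetherian Z] (hd : topologicalKrullDim Z = 2)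
    {S : Set Z} (hS : IsClosed S) (h : ∀ y ∈ S, (2 : ℕ∞) ≤ Order.coheight y) : S.Finite := by
  obtain ⟨T, hTf, hTc, hTi, rfl⟩ :=
    TopologicalSpace.NoetherianSpace.exists_finite_set_isClosed_irreducible hS
  refine hTf.sUnion fun W hW => ?_
  obtain ⟨w, hw⟩ : ∃ w, IsGenericPoint w W := ⟨_, (hTi W hW).isGenericPoint_genericPoint (hTc W hW)⟩
  refine (Set.finite_singleton w).subset fun z hz => ?_
  exact eq_of_specializes_of_two_le hd (h w ⟨W, hW, hw.mem⟩) (hw.specializes hz)

/-- Generalizing maps do not decrease coheight (here up to two). -/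
theorem two_le_coheight_of_generalizing {X Y : Scheme.{u}} (f : X ⟶ Y) (hf : GeneralizingMap f)
    (x : X) (h : (2 : ℕ∞) ≤ Order.coheight (f x)) : (2 : ℕ∞) ≤ Order.coheight x := by
  obtain ⟨p, hp, hl⟩ := Order.exists_series_of_le_coheight (f x) (n := 2) (by exact_mod_cast h)
  have h01 : f x < p ⟨1, by omega⟩ := hp ▸ p.strictMono (show (0 : Fin (p.length + 1)) < ⟨1, by omega⟩ by
    simp [Fin.lt_def])
  have h12 : p ⟨1, by omega⟩ < p ⟨2, by omega⟩ := p.strictMono (by simp [Fin.lt_def])
  obtain ⟨b, hb, hfb⟩ := hf (show p ⟨1, by omega⟩ ⤳ f x from h01.le)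
  obtain ⟨c, hc, hfc⟩ := hf (show p ⟨2, by omega⟩ ⤳ f b from hfb ▸ h12.le)
  have hxb : x < b := lt_of_le_not_ge hb fun h' => h01.not_ge (hfb ▸ h'.map f.continuous)
  have hbc : b < c := lt_of_le_not_ge hc fun h' => h12.not_ge (hfb ▸ hfc ▸ h'.map f.continuous)
  have h1 := (add_le_add_left (Order.coheight_add_one_le hbc) 1).trans (Order.coheight_add_one_le hxb)
  exact le_trans (by rw [add_assoc]; norm_num) h1

/-- Over a normal point of dimension at most one a dominant map of integral schemes is flat. -/
theorem flat_stalkMap {X Y : Scheme.{u}} [IsIntegral X] [IsIntegral Y] [IsLocallyNoetherian Y]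
    (f : X ⟶ Y) [IsDominant f] (x : X) [IsIntegrallyClosed (Y.presheaf.stalk (f x))]
    (h : ringKrullDim (Y.presheaf.stalk (f x)) ≤ 1) : (f.stalkMap x).hom.Flat := by
  haveI : Ring.KrullDimLE 1 (Y.presheaf.stalk (f x)) := Ring.krullDimLE_iff.mpr h
  haveI : Ring.DimensionLEOne (Y.presheaf.stalk (f x)) := ⟨fun {p} hp hp' =>
    (Ring.krullDimLE_one_iff_of_noZeroDivisors.mp inferInstance p) hp hp'⟩
  haveI : IsDedekindDomain (Y.presheaf.stalk (f x)) := { }
  algebraize [(f.stalkMap x).hom]
  haveI : FaithfulSMul (Y.presheaf.stalk (f x)) (X.presheaf.stalk x) :=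
    (faithfulSMul_iff_algebraMap_injective _ _).mpr (ZCorrLib.stalkMap_injective f x)
  exact RingHom.flat_algebraMap_iff.mpr inferInstance

/-- Let R be a discrete valuation ring whose fraction field has characteristic zero and let X and Y be
relative curves over R: flat, of finite type and separated over Spec R, normal and integral, of
dimension two (pure relative dimension one; properness is not assumed). Let f : X → Y be a finite
surjective morphism over R. Then there is an open subset V ⊆ Y such that the complement of V in Y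
and the complement of f⁻¹(V) in X are finite sets of points at which the local rings have Krull
dimension two (closed points of the closed fibres), and f is flat over V. -/
theorem result (R : Type u) [CommRing R] [IsDomain R]
    [IsDiscreteValuationRing R] [CharZero (FractionRing R)]
    (X Y : Scheme.{u}) (pX : X ⟶ Spec (CommRingCat.of R)) (pY : Y ⟶ Spec (CommRingCat.of R))
    [Flat pX] [LocallyOfFiniteType pX] [QuasiCompact pX] [IsSeparated pX]
    [Flat pY] [LocallyOfFiniteType pY] [QuasiCompact pY] [IsSeparated pY]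
    [IsIntegral X] [IsIntegral Y] (hnX : Pi1.IsNormalScheme X) (hnY : Pi1.IsNormalScheme Y)
    (hdX : topologicalKrullDim X = 2) (hdY : topologicalKrullDim Y = 2)
    (f : X ⟶ Y) [IsFinite f] [Surjective f] (hf : f ≫ pY = pX) :
    ∃ V : Y.Opens, ((V : Set Y)ᶜ).Finite ∧ (∀ y : Y, y ∉ V → ringKrullDim (Y.presheaf.stalk y) = 2) ∧
      (((f ⁻¹ᵁ V : X.Opens) : Set X)ᶜ).Finite ∧ (∀ x : X, x ∉ f ⁻¹ᵁ V → ringKrullDim (X.presheaf.stalk x) = 2) ∧
      Flat (f ∣_ V) := by
  haveI : IsLocallyNoetherian Y := LocallyOfFiniteType.isLocallyNoetherian pY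
  haveI : IsLocallyNoetherian X := LocallyOfFiniteType.isLocallyNoetherian pX
  haveI : CompactSpace Y := QuasiCompact.compactSpace_of_compactSpace pY
  haveI : CompactSpace X := QuasiCompact.compactSpace_of_compactSpace pX
  haveI : IsNoetherian Y := {}
  haveI : IsNoetherian X := {}
  haveI : IsDominant f := ⟨f.surjective.denseRange⟩
  haveI : LocallyOfFinitePresentation f := inferInstance
  let N : Set X := {x : X | (f.stalkMap x).hom.Flat}ᶜ
  have hN : IsClosed N := (FlatOpen.Scheme.isOpen_stalkMap_flat f).isClosed_compl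
  let V : Y.Opens := ⟨(f '' N)ᶜ, (f.isClosedMap N hN).isOpen_compl⟩
  have h2 : ∀ y : Y, y ∉ V → (2 : ℕ∞) ≤ Order.coheight y := by
    intro y hy
    obtain ⟨x, hx, rfl⟩ : y ∈ f '' N := not_not.mp hy
    by_contra hlt
    haveI := (hnY (f x)).2
    refine hx (flat_stalkMap f x ?_)
    rw [ringKrullDim_stalk_eq_coheight]
    exact_mod_cast ENat.lt_add_one_iff ENat.one_ne_top |>.mp (by simpa [one_add_one_eq_two] using hlt)
  have h2X : ∀ x : X, x ∉ f ⁻¹ᵁ V → (2 : ℕ∞) ≤ Order.coheight x := fun x hx =>
    two_le_coheight_of_generalizing f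
      (NormGen.Basic.generalizingMap f fun y => (hnY y).2) x (h2 (f x) hx)
  refine ⟨V, finite_of_two_le hdY V.2.isClosed_compl h2, fun y hy => ?_,
    finite_of_two_le hdX (f ⁻¹ᵁ V).2.isClosed_compl h2X, fun x hx => ?_, ?_⟩
  · refine ((ringKrullDim_stalk_le Y y).trans_eq hdY).antisymm ?_
    rw [ringKrullDim_stalk_eq_coheight]
    exact WithBot.coe_le_coe.mpr (h2 y hy)
  · refine ((ringKrullDim_stalk_le X x).trans_eq hdX).antisymm ?_
    rw [ringKrullDim_stalk_eq_coheight]
    exact WithBot.coe_le_coe.mpr (h2X x hx)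
  · rw [Flat.iff_flat_stalkMap]
    intro x
    refine (RingHom.Flat.respectsIso.arrow_mk_iso_iff (morphismRestrictStalkMap f V x)).mpr ?_
    by_contra hx
    exact x.2 ⟨x.1, hx, rfl⟩

end Groth.Agent.S15140
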