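import Groth.Statements.S1515
import Groth.Agent.S1509
import Groth.Agent.S1510
import Groth.Agent.S1676
import Groth.Agent.S2206
import Groth.Agent.FlatMor.PC.Instances

set_option autoImplicit false
universe u
attribute [local instance] HasDerivedCategory.standard
open FlatMor

namespace Groth.Agent.S1515

open AlgebraicGeometry CategoryTheory Limits in
/-- A flat morphism of finite type with perfect diagonal over a locally Noetherian base is smooth. -/
theorem smooth_of_perfect {X Y : Scheme.{u}} (f : X ⟶ Y) [Flat f] [LocallyOfFiniteType f]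
    [IsLocallyNoetherian Y] (h : MoreMor.IsPerfectMor (pullback.diagonal f)) : Smooth f := by
  rw [HasRingHomProperty.iff_appLE (P := @Smooth)]
  rintro ⟨V, hV⟩ ⟨U, hU⟩ e
  replace hV : IsAffineOpen V := hV
  replace hU : IsAffineOpen U := hU
  replace e : U ≤ f ⁻¹ᵁ V := e
  show (f.appLE V U e).hom.Smooth
  haveI : IsNoetherianRing Γ(Y, V) := IsLocallyNoetherian.component_noetherian ⟨V, hV⟩
  letI := (f.appLE V U e).hom.toAlgebra
  haveI : Algebra.FiniteType Γ(Y, V) Γ(X, U) :=
    HasRingHomProperty.appLE (P := @LocallyOfFiniteType) f inferInstance ⟨V, hV⟩ ⟨U, hU⟩ e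
  haveI : Module.Flat Γ(Y, V) Γ(X, U) :=
    HasRingHomProperty.appLE (P := @Flat) f inferInstance ⟨V, hV⟩ ⟨U, hU⟩ e
  let f' := Spec.map (f.appLE V U e)
  have hw : f' ≫ hV.fromSpec = hU.fromSpec ≫ f := IsAffineOpen.SpecMap_appLE_fromSpec f hV hU e
  let j := pullback.map f' f' f f hU.fromSpec hU.fromSpec hV.fromSpec hw hw
  have hcomp : pullback.diagonal f' ≫ j = hU.fromSpec ≫ pullback.diagonal f := by
    refine pullback.hom_ext ?_ ?_
    · rw [Category.assoc, pullback.lift_fst, pullback.diagonal_fst_assoc, Category.assoc, pullback.diagonal_fst, Category.comp_id]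
    · rw [Category.assoc, pullback.lift_snd, pullback.diagonal_snd_assoc, Category.assoc, pullback.diagonal_snd, Category.comp_id]
  haveI : IsOpenImmersion hV.fromSpec := IsAffineOpen.isOpenImmersion_fromSpec hV
  haveI : IsOpenImmersion hU.fromSpec := IsAffineOpen.isOpenImmersion_fromSpec hU
  haveI : IsOpenImmersion j := inferInstanceAs (IsOpenImmersion (pullback.map f' f' f f hU.fromSpec hU.fromSpec hV.fromSpec hw hw))
  have hd : MoreMor.IsPerfectMor (pullback.diagonal f') := by
    refine S1510.result (pullback.diagonal f') j ?_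
    rw [hcomp, FlatMor.PC.perfectMor_eq]
    exact FlatMor.PC.localHom_perfect.mor_comp _ _ (FlatMor.PC.localHom_perfect.mor_of_isOpenImmersion _)
      ((FlatMor.PC.perfectMor_eq _).1 h)
  haveI := FlatMor.PC.localHom_perfect.{u}.hasRingHomProperty
  let Q := FlatMor.PC.Mor.{u} (fun A B _ _ _ => MoreMor.IsPerfectHom A B)
  have hQ : Q (Spec.map (CommRingCat.ofHom (Algebra.TensorProduct.lmul' Γ(Y, V) (S := Γ(X, U))).toRingHom)) := by
    have hd' : Q (pullback.diagonal (Spec.map (CommRingCat.ofHom (algebraMap Γ(Y, V) Γ(X, U))))) := hd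
    rwa [diagonal_SpecMap Γ(Y, V) Γ(X, U),
      MorphismProperty.cancel_right_of_respectsIso (P := Q)] at hd'
  have hp := (HasRingHomProperty.Spec_iff (P := Q)).1 hQ
  letI : Algebra (TensorProduct Γ(Y, V) Γ(X, U) Γ(X, U)) Γ(X, U) :=
    (Algebra.TensorProduct.lmul' Γ(Y, V) (S := Γ(X, U))).toRingHom.toAlgebra
  exact RingHom.smooth_algebraMap.2 (S2206.result (fun x y => Algebra.TensorProduct.lmul'_apply_tmul x y) hp.2)

open AlgebraicGeometry CategoryTheory Limits in
/-- (1) ⇔ (2) ⇔ (4): let f : X → Y be separated and of finite type between locally Noetherian schemes,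
with diagonal Δ (a closed immersion). Then f is smooth iff f is flat and Δ is a regular closed
immersion, iff f is flat and Δ is a perfect morphism. -/
theorem result {X Y : Scheme.{u}} (f : X ⟶ Y) [IsSeparated f] [LocallyOfFiniteType f] [QuasiCompact f] [IsLocallyNoetherian X] [IsLocallyNoetherian Y] :
    (Smooth f ↔ Flat f ∧ Mor2.IsRegularClosedImmersion (pullback.diagonal f)) ∧
    (Smooth f ↔ Flat f ∧ MoreMor.IsPerfectMor (pullback.diagonal f)) := by
  haveI hd : IsClosedImmersion (pullback.diagonal f) := inferInstance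
  have h1 : Smooth f → Flat f ∧ Mor2.IsRegularClosedImmersion (pullback.diagonal f) := fun _ =>
    ⟨inferInstance, S1676.result (pullback.snd f f) (pullback.diagonal f) (pullback.diagonal_snd f)⟩
  have h3 : Flat f ∧ MoreMor.IsPerfectMor (pullback.diagonal f) → Smooth f := fun h =>
    haveI := h.1
    smooth_of_perfect f h.2
  exact ⟨⟨h1, fun h => h3 ⟨h.1, S1509.result _ h.2⟩⟩,
    ⟨fun h => ⟨(h1 h).1, S1509.result _ (h1 h).2⟩, h3⟩⟩

end Groth.Agent.S1515
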