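import Groth.Statements.S15150
import Mathlib.RingTheory.Spectrum.Prime.FreeLocus
import Mathlib.RingTheory.Noetherian.Nilpotent
import Mathlib.RingTheory.Nilpotent.Lemmas
import Mathlib.RingTheory.LocalRing.ResidueField.Fiber
open TensorProduct

set_option autoImplicit false
universe u
open HilbZeta

namespace Groth.Agent.S15150

theorem nil_pow_eq_bot {K B : Type*} [Field K] [CommRing B] [Algebra K B] [Module.Finite K B]
    {N : Ideal B} (hN : N ≤ nilradical B) {d : ℕ} (hd : Module.finrank K B ≤ d) : N ^ d = ⊥ := by
  haveI : IsNoetherianRing B := IsNoetherianRing.of_finite K B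
  have key : ∀ i, N ^ i = ⊥ ∨ Module.finrank K ((N ^ i).restrictScalars K) + i ≤ d := by
    intro i
    induction i with
    | zero =>
      refine Or.inr ?_
      rw [pow_zero, add_zero]
      exact (Submodule.finrank_le _).trans hd
    | succ i ih =>
      rcases eq_or_ne (N ^ (i + 1)) ⊥ with h | h
      · exact Or.inl h
      refine Or.inr ?_
      rcases ih with h0 | h0
      · exact absurd (le_bot_iff.mp (h0 ▸ Ideal.pow_le_pow_right (Nat.le_succ i))) h
      have hlt : N ^ (i + 1) < N ^ i := by
        refine lt_of_le_of_ne (Ideal.pow_le_pow_right (Nat.le_succ i)) fun he => h ?_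
        have hstab : ∀ m, N ^ (i + m) = N ^ i := by
          intro m
          induction m with
          | zero => rfl
          | succ m ihm => rw [← add_assoc, pow_succ, ihm, ← pow_succ, he]
        obtain ⟨m, hm⟩ := IsNoetherianRing.isNilpotent_nilradical B
        have : N ^ m = ⊥ := le_bot_iff.mp ((Ideal.pow_right_mono hN m).trans hm.le)
        rw [he, ← hstab m, pow_add, this, Ideal.mul_bot]
      have hlt' : (N ^ (i + 1)).restrictScalars K < (N ^ i).restrictScalars K := hlt
      have := Submodule.finrank_lt_finrank_of_lt hlt'
      omega
  rcases key d with h | h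
  · exact h
  · rw [← Submodule.restrictScalars_eq_bot_iff (S := K) (R := B), ← Submodule.finrank_eq_zero]
    omega

theorem eq_zero_of_fibres {A : Type*} [CommRing A] [IsReduced A] {Q : Type*} [AddCommGroup Q] [Module A Q]
    [Module.Finite A Q] [Module.Projective A Q] (x : Q)
    (h : ∀ p : PrimeSpectrum A, (1 : p.asIdeal.ResidueField) ⊗ₜ[A] x = 0) : x = 0 := by
  obtain ⟨ι, hι⟩ := Module.projective_def'.mp ‹Module.Projective A Q›
  have h0 : ι x = 0 := by
    ext i
    refine IsReduced.eq_zero _ ?_
    rw [← mem_nilradical, nilradical_eq_sInf, Ideal.mem_sInf]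
    intro p hp
    haveI : p.IsPrime := hp
    rw [← Ideal.algebraMap_residueField_eq_zero]
    have h2 := congrArg ((TensorProduct.rid A p.ResidueField).toLinearMap ∘ₗ
      ((Finsupp.lapply i).comp ι).lTensor p.ResidueField) (h ⟨p, hp⟩)
    simpa [Algebra.smul_def] using h2
  have := LinearMap.congr_fun hι x
  rw [LinearMap.comp_apply, h0, map_zero] at this
  exact this.symm


/-- Let A be a reduced commutative ring, S an A-algebra together with an A-algebra homomorphism π : S →
A (a section of Spec S → Spec A), with kernel m, and I an ideal of S such that S/I is a finite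
projective A-module of constant rank d and m is contained in the radical of I (the finite flat
subscheme Spec S/I of degree d lies, as a set, on the section). Then m^d ⊆ I: the subscheme lies in
the (d−1)-st infinitesimal neighbourhood of the section. (The published statement is for a closed
subscheme, flat and proper of degree d over a Noetherian base, of a family of reduced curve
singularities with a section, with no reducedness assumption on the base; over the dual numbers k[ε]
the ideal (x − ε) of k[ε][x] has quotient free of rank one and radical containing x but does not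
contain x, so the base is taken reduced here, and the statement is given in its affine form, to
which the argument reduces at once; the curve hypotheses play no role and are dropped; the condition
that Spec S/I lies set-theoretically on the section, which the published argument deduces from
properness of Z inside the germ, is a hypothesis here.) -/
theorem result (A : Type u) [CommRing A] [IsReduced A]
    (S : Type u) [CommRing S] [Algebra A S] (π : S →ₐ[A] A) (I : Ideal S) (d : ℕ)
    [Module.Finite A (S ⧸ I)] [Module.Projective A (S ⧸ I)]
    (hrank : ∀ p : PrimeSpectrum A, Module.rankAtStalk (R := A) (S ⧸ I) p = d)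
    (hsupp : RingHom.ker π ≤ I.radical) :
    RingHom.ker π ^ d ≤ I := by
  intro x hx
  rw [← Ideal.Quotient.eq_zero_iff_mem]
  refine eq_zero_of_fibres (A := A) _ fun p => ?_
  let κ := p.asIdeal.ResidueField
  let ψ : S ⧸ I →+* κ ⊗[A] (S ⧸ I) := Algebra.TensorProduct.includeRight.toRingHom
  let N := Ideal.map (ψ.comp (Ideal.Quotient.mk I)) (RingHom.ker π)
  have hN : N ≤ nilradical (κ ⊗[A] (S ⧸ I)) := by
    refine Ideal.map_le_iff_le_comap.mpr fun y hy => ?_
    obtain ⟨n, hn⟩ := hsupp hy
    refine mem_nilradical.mpr ⟨n, ?_⟩
    rw [← map_pow, RingHom.comp_apply, Ideal.Quotient.eq_zero_iff_mem.mpr hn, map_zero]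
  have hd : Module.finrank κ (κ ⊗[A] (S ⧸ I)) ≤ d := by
    refine le_of_eq ?_
    rw [← hrank p]
    exact (Module.rankAtStalk_eq p).symm
  have h := nil_pow_eq_bot hN hd
  have hmem : ψ (Ideal.Quotient.mk I x) ∈ N ^ d := by
    rw [← Ideal.map_pow]
    exact Ideal.mem_map_of_mem (ψ.comp (Ideal.Quotient.mk I)) hx
  rw [h, Ideal.mem_bot] at hmem
  exact hmem

end Groth.Agent.S15150
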