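import Groth.Statements.S15151
import Mathlib.AlgebraicGeometry.Morphisms.Flat
import Mathlib.RingTheory.Flat.TorsionFree
import Mathlib.RingTheory.PrincipalIdealDomain

set_option autoImplicit false
universe u
open CategoryTheory AlgebraicGeometry
open HilbZeta

namespace Groth.Agent.S15151

/-- Let k be a field, and let f : X → Y and g : Y → Spec k[t] be morphisms of schemes with f
quasi-compact and with zero kernel ideal sheaf (Y is the scheme-theoretic image of f), such that the
composite X → Spec k[t] is flat. Then g is flat; in particular a k[t]-subalgebra of a flat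
k[t]-algebra is flat. (The published statement has no quasi-compactness hypothesis on f and is over
an algebraically closed field; this row assumes f quasi-compact and allows any field.) -/
theorem result (k : Type u) [Field k]
    (X Y : Scheme.{u}) (f : X ⟶ Y) (g : Y ⟶ Spec (CommRingCat.of (Polynomial k)))
    [QuasiCompact f] (hker : f.ker = ⊥) [Flat (f ≫ g)] : Flat g := by
  have hU : ∀ U : Y.affineOpens, RingHom.Flat (g.appLE ⊤ U.1 le_top).hom := by
    intro U
    let σ : Polynomial k →+* Γ(Spec (CommRingCat.of (Polynomial k)), ⊤) :=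
      (Scheme.ΓSpecIso (CommRingCat.of (Polynomial k))).inv.hom
    let e := (Scheme.ΓSpecIso (CommRingCat.of (Polynomial k))).symm.commRingCatIsoToRingEquiv
    suffices h : ((g.appLE ⊤ U.1 le_top).hom.comp σ).Flat by
      have h2 := (RingHom.Flat.of_bijective (f := e.symm.toRingHom) e.symm.bijective).comp h
      convert h2 using 1
      refine RingHom.ext fun x => ?_
      exact congrArg _ (e.apply_symm_apply x).symm
    set a := (g.appLE ⊤ U.1 le_top).hom.comp σ with ha
    algebraize [a]
    show Module.Flat (Polynomial k) Γ(Y, U.1)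
    rw [Module.Flat.flat_iff_torsion_eq_bot_of_isBezout, eq_bot_iff]
    rintro s ⟨⟨p, hp⟩, hps⟩
    rw [Submodule.mem_bot]
    replace hps : a p * s = 0 := hps
    have hinj : Function.Injective (f.app U.1).hom := by
      rw [RingHom.injective_iff_ker_eq_bot, ← Scheme.Hom.ker_apply f U, hker]
      rfl
    refine hinj (Eq.trans ?_ (map_zero _).symm)
    refine TopCat.Sheaf.eq_of_locally_eq' X.sheaf
      (fun V : {V : X.affineOpens // V.1 ≤ f ⁻¹ᵁ U.1} => V.1.1) (f ⁻¹ᵁ U.1)
      (fun V => homOfLE V.2) (fun x hx => ?_) _ _ fun V => ?_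
    · obtain ⟨V, hV, hxV, hle⟩ := exists_isAffineOpen_mem_and_subset hx
      exact TopologicalSpace.Opens.mem_iSup.mpr ⟨⟨⟨V, hV⟩, hle⟩, hxV⟩
    refine Eq.trans ?_ (map_zero (X.sheaf.obj.map (homOfLE V.2).op).hom).symm
    set b := (f.appLE U.1 V.1.1 V.2).hom with hb
    show b s = 0
    have hflat : (((f ≫ g).appLE ⊤ V.1.1 le_top).hom.comp σ).Flat :=
      RingHom.Flat.comp (RingHom.Flat.of_bijective (f := e.toRingHom) e.bijective)
        (HasRingHomProperty.appLE (P := @Flat) (f ≫ g) inferInstance ⟨⊤, isAffineOpen_top _⟩ V.1 le_top)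
    have hcomp : b.comp a = ((f ≫ g).appLE ⊤ V.1.1 le_top).hom.comp σ := by
      rw [ha, hb, ← RingHom.comp_assoc, ← CommRingCat.hom_comp, Scheme.Hom.appLE_comp_appLE]
    algebraize [b.comp a]
    haveI : Module.Flat (Polynomial k) Γ(X, V.1.1) := by
      have h := hflat
      rw [← hcomp] at h
      exact h
    have h0 : (b.comp a) p * b s = 0 := by rw [RingHom.comp_apply, ← map_mul, hps, map_zero]
    have hmem : b s ∈ Submodule.torsion (Polynomial k) Γ(X, V.1.1) := ⟨⟨p, hp⟩, h0⟩
    rw [(Module.Flat.flat_iff_torsion_eq_bot_of_isBezout).mp inferInstance] at hmem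
    exact (Submodule.mem_bot _).mp hmem
  exact (HasRingHomProperty.iff_of_iSup_eq_top (P := @Flat) (fun U : Y.affineOpens => U)
    (iSup_affineOpens_eq_top Y)).mpr hU

end Groth.Agent.S15151
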