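import Groth.Statements.S15152
import Groth.Agent.HilbZetaLib.Strata
import Mathlib.RingTheory.PowerSeries.Trunc
import Mathlib.RingTheory.Polynomial.Basic
import Mathlib.RingTheory.MvPolynomial.Basic
import Mathlib.RingTheory.FiniteType
import Mathlib.RingTheory.Noetherian.Basic

set_option autoImplicit false
universe u
open HilbZeta

namespace Groth.Agent.S15152

/-- Let k be a field, s a natural number and R a k-subalgebra of the product of s copies of the power
series ring k[[x]], of finite codimension δ over k and local with residue field k (all components of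
an element of R have the same constant term); write v_i for the x-adic order of the i-th component
of an s-tuple, and let c = (c_1, …, c_s) be the conductor exponents, so that an s-tuple f satisfies
f·g ∈ R for every s-tuple g exactly when v_i(f) ≥ c_i for all i (over an algebraically closed field
such an R is precisely the completed local ring of a reduced curve singularity having s branches
sitting inside its normalisation, δ is its delta invariant and the conductor ideal is generated by
the x_i^{c_i}). Let A be the k-subalgebra of the product of s polynomial rings k[x] consisting of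
the tuples whose image in the power series product lies in R, and m₀ its ideal of tuples with zero
constant terms. Then: A is of finite type over k and has no idempotents besides 0 and 1; the product
of polynomial rings is a finite A-module, and for some N every product of N elements of m₀
multiplies all of it into A; every element of R is approximated to any x-adic order by elements of
A; and for every N there is an M such that every element of A whose components are all divisible by
x^M lies in m₀^N. In words: Y = Spec A is a connected affine curve whose normalisation is the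
disjoint union of s affine lines and is an isomorphism away from the origin, and the completed local
ring of Y at the origin is R, compatibly with the inclusion of the polynomial product in the power
series product. (The published statement asserts the existence of such a curve Y and is over an
algebraically closed field; this row names Y and allows any field.) -/
theorem result (k : Type u) [Field k] (s : ℕ)
    (R : Subalgebra k (Fin s → PowerSeries k))
    (hfin : Module.Finite k ((Fin s → PowerSeries k) ⧸ Subalgebra.toSubmodule R))
    (hloc : ∀ f ∈ R, ∀ i j : Fin s, PowerSeries.constantCoeff (f i) = PowerSeries.constantCoeff (f j))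
    (c : Fin s → ℕ)
    (hc : ∀ f : Fin s → PowerSeries k,
      (∀ g : Fin s → PowerSeries k, g * f ∈ R) ↔ ∀ i, ((c i : ℕ) : ℕ∞) ≤ (f i).order)
    (A : Subalgebra k (Fin s → Polynomial k))
    (hA : ∀ g : Fin s → Polynomial k, g ∈ A ↔ (fun i => ((g i : Polynomial k) : PowerSeries k)) ∈ R) :
    Algebra.FiniteType k ↥A ∧
    (∀ e ∈ A, e * e = e → e = 0 ∨ e = 1) ∧
    Module.Finite ↥A (Fin s → Polynomial k) ∧
    (∃ N : ℕ, ∀ g : Fin N → (Fin s → Polynomial k),
      (∀ n, g n ∈ A ∧ ∀ i, (g n i).coeff 0 = 0) → ∀ p : Fin s → Polynomial k, p * ∏ n, g n ∈ A) ∧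
    (∀ f ∈ R, ∀ N : ℕ, ∃ g ∈ A, ∀ i : Fin s, (N : ℕ∞) ≤ (f i - ((g i : Polynomial k) : PowerSeries k)).order) ∧
    (∀ N : ℕ, ∃ M : ℕ, ∀ g : ↥A, (∀ i : Fin s, Polynomial.X ^ M ∣ (g : Fin s → Polynomial k) i) →
      g ∈ (Ideal.span {h : ↥A | ∀ i : Fin s, ((h : Fin s → Polynomial k) i).coeff 0 = 0}) ^ N) := by
  classical
  obtain ⟨K, hK0, hK⟩ : ∃ K : ℕ, 0 < K ∧ ∀ i, c i ≤ K :=
    ⟨∑ i, c i + 1, Nat.succ_pos _, fun i => (Finset.single_le_sum (fun _ _ => Nat.zero_le _) (Finset.mem_univ i)).trans (Nat.le_succ _)⟩
  -- tuples divisible by `X ^ K` lie in `A`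
  have hmem : ∀ p : Fin s → Polynomial k, (∀ i, Polynomial.X ^ K ∣ p i) → p ∈ A := fun p hp => (hA p).mpr
    (HilbZetaLib.mem_of_le_order hc fun i => HilbZetaLib.natCast_le_order_iff.mpr
      ((pow_dvd_pow _ (hK i)).trans (by simpa using map_dvd (Polynomial.coeToPowerSeries.ringHom (R := k)) (hp i))))
  have hcoeff : ∀ (p : Polynomial k), p.coeff 0 = 0 → Polynomial.X ∣ p := fun p h => Polynomial.X_dvd_iff.mpr h
  -- the element `t`
  let t : ↥A := ⟨fun _ => Polynomial.X ^ K, hmem _ fun _ => dvd_rfl⟩
  have hfinP : Module.Finite ↥A (Fin s → Polynomial k) ∧ Algebra.FiniteType k ↥A := by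
    let φ : MvPolynomial (Fin 1) k →ₐ[k] ↥A := MvPolynomial.aeval fun _ => t
    letI := φ.toRingHom.toAlgebra
    letI := (A.val.comp φ).toRingHom.toAlgebra
    have hsmul : ∀ (x : MvPolynomial (Fin 1) k) (p : Fin s → Polynomial k), x • p = ((φ x : ↥A) : Fin s → Polynomial k) * p :=
      fun x p => Algebra.smul_def x p
    haveI : IsScalarTower (MvPolynomial (Fin 1) k) ↥A (Fin s → Polynomial k) := ⟨fun x a p => by
      rw [hsmul, Algebra.smul_def]
      show ((φ x * a : ↥A) : Fin s → Polynomial k) * p = _ * ((a : Fin s → Polynomial k) * p)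
      rw [MulMemClass.coe_mul, mul_assoc]⟩
    haveI : IsScalarTower k (MvPolynomial (Fin 1) k) ↥A := IsScalarTower.of_algebraMap_eq' φ.comp_algebraMap.symm
    haveI : IsScalarTower k (MvPolynomial (Fin 1) k) (Fin s → Polynomial k) := IsScalarTower.of_algebraMap_eq' (A.val.comp φ).comp_algebraMap.symm
    haveI : Module.Finite (MvPolynomial (Fin 1) k) (Fin s → Polynomial k) := by
      let G : Set (Fin s → Polynomial k) := Set.range fun x : Fin s × Fin K => Pi.single x.1 (Polynomial.X ^ (x.2 : ℕ))
      refine ⟨(Submodule.fg_def).mpr ⟨G, Set.finite_range _, top_le_iff.mp ?_⟩⟩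
      have hX : ∀ (i : Fin s) (m : ℕ), Pi.single i (Polynomial.X ^ m) ∈ Submodule.span (MvPolynomial (Fin 1) k) G := by
        intro i m
        have h : Pi.single i (Polynomial.X ^ m) =
            ((MvPolynomial.X 0 : MvPolynomial (Fin 1) k) ^ (m / K)) • (Pi.single i (Polynomial.X ^ (m % K)) : Fin s → Polynomial k) := by
          rw [Algebra.smul_def, map_pow, show algebraMap (MvPolynomial (Fin 1) k) (Fin s → Polynomial k) (MvPolynomial.X 0) = fun _ => Polynomial.X ^ K from
            congrArg Subtype.val (MvPolynomial.aeval_X (fun _ => t) 0)]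
          funext j
          rcases eq_or_ne j i with rfl | hj
          · simp only [Pi.mul_apply, Pi.pow_apply, Pi.single_eq_same, ← pow_mul, ← pow_add, Nat.div_add_mod]
          · simp [hj]
        rw [h]
        exact Submodule.smul_mem _ _ (Submodule.subset_span ⟨(i, ⟨m % K, Nat.mod_lt m hK0⟩), rfl⟩)
      intro p _
      rw [← Finset.univ_sum_single p]
      refine Submodule.sum_mem _ fun i _ => ?_
      induction p i using Polynomial.induction_on' with
      | add a b ha hb => rw [Pi.single_add]; exact add_mem ha hb
      | monomial m a =>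
        rw [← Polynomial.C_mul_X_pow_eq_monomial]
        have h : Pi.single i (Polynomial.C a * Polynomial.X ^ m) =
            (MvPolynomial.C a : MvPolynomial (Fin 1) k) • (Pi.single i (Polynomial.X ^ m) : Fin s → Polynomial k) := by
          rw [← MvPolynomial.algebraMap_eq, IsScalarTower.algebraMap_smul]
          funext j
          rcases eq_or_ne j i with rfl | hj <;> simp [*, Polynomial.smul_eq_C_mul]
        rw [h]
        exact Submodule.smul_mem _ _ (hX i m)
    refine ⟨Module.Finite.of_restrictScalars_finite (MvPolynomial (Fin 1) k) ↥A _, ?_⟩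
    haveI : Module.Finite (MvPolynomial (Fin 1) k) ↥A :=
      Module.Finite.of_injective ((IsScalarTower.toAlgHom (MvPolynomial (Fin 1) k) ↥A (Fin s → Polynomial k)).toLinearMap)
        Subtype.val_injective
    exact Algebra.FiniteType.trans (S := MvPolynomial (Fin 1) k) inferInstance inferInstance
  refine ⟨hfinP.2, fun e he hee => ?_, hfinP.1, ⟨K, fun g hg p => hmem _ fun i => ?_⟩, fun f hf N => ?_, fun N => ⟨K * (N + 1), fun g hg => ?_⟩⟩
  · have h01 : ∀ i, e i = 0 ∨ e i = 1 := fun i => by
      have h : e i * (e i - 1) = 0 := by rw [mul_sub, mul_one, ← Pi.mul_apply, hee, sub_self]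
      rcases mul_eq_zero.mp h with h | h
      · exact Or.inl h
      · exact Or.inr (sub_eq_zero.mp h)
    by_cases h : ∃ i, e i = 1
    · obtain ⟨i, hi⟩ := h
      refine Or.inr (funext fun j => (h01 j).resolve_left fun hj => ?_)
      have := hloc _ ((hA e).mp he) i j
      simp [hi, hj] at this
    · push Not at h
      exact Or.inl (funext fun j => (h01 j).resolve_right (h j))
  · rw [Pi.mul_apply, Finset.prod_apply]
    refine dvd_mul_of_dvd_right ?_ _
    calc Polynomial.X ^ K = ∏ _n : Fin K, (Polynomial.X : Polynomial k) := by simp
      _ ∣ _ := Finset.prod_dvd_prod_of_dvd _ _ fun n _ => hcoeff _ ((hg n).2 i)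
  · have hord : ∀ i, ((max N K : ℕ) : ℕ∞) ≤ (f i - ((PowerSeries.trunc (max N K) (f i) : Polynomial k) : PowerSeries k)).order :=
      fun i => PowerSeries.nat_le_order _ _ fun m hm => by
        rw [map_sub, Polynomial.coeff_coe, PowerSeries.coeff_trunc, if_pos hm, sub_self]
    refine ⟨fun i => PowerSeries.trunc (max N K) (f i), (hA _).mpr ?_, fun i =>
      le_trans (by exact_mod_cast le_max_left N K) (hord i)⟩
    rw [show (fun i => ((PowerSeries.trunc (max N K) (f i) : Polynomial k) : PowerSeries k)) =
      f - (fun i => f i - ((PowerSeries.trunc (max N K) (f i) : Polynomial k) : PowerSeries k)) from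
        funext fun i => by simp]
    exact sub_mem hf (HilbZetaLib.mem_of_le_order hc fun i =>
      le_trans (by exact_mod_cast (hK i).trans (le_max_right N K)) (hord i))
  · choose q hq using hg
    have hmem' : (fun i => Polynomial.X ^ K * q i) ∈ A := hmem _ fun i => dvd_mul_right _ _
    have hg' : g = t ^ N * ⟨_, hmem'⟩ := Subtype.ext (funext fun i => by
      simp only [hq i, MulMemClass.coe_mul, SubmonoidClass.coe_pow, Pi.mul_apply, Pi.pow_apply, t]
      ring)
    rw [hg']
    refine Ideal.mul_mem_right _ _ (Ideal.pow_mem_pow (Ideal.subset_span ?_) N)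
    intro i
    show (Polynomial.X ^ K : Polynomial k).coeff 0 = 0
    simp [Polynomial.coeff_X_pow, hK0.ne]

end Groth.Agent.S15152
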