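import Groth.Statements.S15153
import Groth.Agent.HilbZetaLib.RankStrata
import Mathlib.RingTheory.Finiteness.Projective
import Mathlib.RingTheory.TensorProduct.Free
import Mathlib.RingTheory.Flat.EquationalCriterion

set_option autoImplicit false
universe u
open TensorProduct
open HilbZeta

namespace Groth.Agent.S15153

/-- Let A be a Noetherian commutative ring, S a commutative A-algebra and Q an S-module which is finite
and flat as an A-module. For a prime p of A with residue field κ(p), multiplication by an element of
S induces a κ(p)-linear endomorphism of the fibre κ(p) ⊗_A Q; let φ(p) be the κ(p)-dimension of the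
span of these endomorphisms, which is the colength of the annihilator of the fibre module κ(p) ⊗_A Q
in the fibre algebra κ(p) ⊗_A S (the length of the smallest subscheme of the fibre carrying it).
Then p ↦ φ(p) is a constructible function: for every n the primes with φ(p) = n form a constructible
subset of Spec A. (The published statement is for a coherent sheaf, flat and finite over a
Noetherian base, on a family of reduced curve singularities with a section, and its function of the
base point is this colength; the curve hypotheses play no role and the row is the affine form over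
any Noetherian ring.) -/
theorem result (A : Type u) [CommRing A] [IsNoetherianRing A]
    (S : Type u) [CommRing S] [Algebra A S]
    (Q : Type u) [AddCommGroup Q] [Module A Q] [Module S Q] [IsScalarTower A S Q]
    [Module.Finite A Q] [Module.Flat A Q] (n : ℕ) :
    Topology.IsConstructible {p : PrimeSpectrum A |
      Module.finrank p.asIdeal.ResidueField
        (Submodule.span p.asIdeal.ResidueField
          (Set.range fun s : S =>
            LinearMap.baseChange p.asIdeal.ResidueField (DistribSMul.toLinearMap A Q s))) = n} := by
  classical
  haveI : Module.FinitePresentation A Q := Module.finitePresentation_of_finite A Q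
  haveI : Module.Projective A Q := Module.Flat.projective_of_finitePresentation
  obtain ⟨N, π, ι, hπ, hι, hcomp⟩ := Module.Finite.exists_comp_eq_id_of_projective A Q
  -- matrices of the endomorphisms
  let Θ : (Q →ₗ[A] Q) →ₗ[A] (Fin N × Fin N → A) :=
    { toFun := fun L x => ι (L (π (Pi.single x.2 1))) x.1
      map_add' := fun L L' => by ext x; simp
      map_smul' := fun r L => by ext x; simp }
  obtain ⟨T, hT⟩ := IsNoetherian.noetherian (Submodule.span A (Set.range fun s : S => Θ (DistribSMul.toLinearMap A Q s)))
  let w : T → Fin N × Fin N → A := fun v => v.1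
  convert HilbZetaLib.isConstructible_rank_eq w n using 1
  ext p
  simp only [Set.mem_ofPred_eq]
  set κ := p.asIdeal.ResidueField
  let Λ : (κ ⊗[A] Q →ₗ[κ] κ ⊗[A] Q) →ₗ[κ] (Fin N × Fin N → κ) :=
    { toFun := fun E x => TensorProduct.piScalarRight A κ κ (Fin N) (ι.baseChange κ (E (π.baseChange κ (1 ⊗ₜ Pi.single x.2 1)))) x.1
      map_add' := fun E E' => by ext x; simp
      map_smul' := fun r E => by ext x; simp }
  have hΛ : Function.Injective Λ := by
    intro E E' h
    have hb : π.baseChange κ ∘ₗ ι.baseChange κ = LinearMap.id := by
      rw [← LinearMap.baseChange_comp, hcomp, LinearMap.baseChange_id]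
    have key : (ι.baseChange κ ∘ₗ E) ∘ₗ π.baseChange κ = (ι.baseChange κ ∘ₗ E') ∘ₗ π.baseChange κ := by
      refine ((Pi.basisFun A (Fin N)).baseChange κ).ext fun j => ?_
      refine (TensorProduct.piScalarRight A κ κ (Fin N)).injective (funext fun i => ?_)
      have h2 := congrFun h (i, j)
      simpa [Λ, Pi.basisFun_apply] using h2
    have h3 := congrArg (fun F => π.baseChange κ ∘ₗ F ∘ₗ ι.baseChange κ) key
    simp only [LinearMap.comp_assoc] at h3
    rw [hb, ← LinearMap.comp_assoc, ← LinearMap.comp_assoc, hb] at h3
    simpa [← LinearMap.comp_assoc, hb] using h3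
  have hΛs : ∀ L : Q →ₗ[A] Q, Λ (L.baseChange κ) = HilbZetaLib.red p (Θ L) := fun L => by
    ext x
    simp [Λ, Θ, HilbZetaLib.red, Algebra.smul_def, κ]
  rw [LinearEquiv.finrank_eq (Submodule.equivMapOfInjective Λ hΛ _), Submodule.map_span, ← Set.range_comp]
  suffices h : Submodule.span κ (Set.range (Λ ∘ fun s : S => LinearMap.baseChange κ (DistribSMul.toLinearMap A Q s))) =
      Submodule.span κ (Set.range fun v => HilbZetaLib.red p (w v)) by rw [h]
  let ρ : (Fin N × Fin N → A) →ₗ[A] (Fin N × Fin N → κ) :=
    LinearMap.pi fun i => (Algebra.linearMap A κ).comp (LinearMap.proj i)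
  have hρ : ∀ v, ρ v = HilbZetaLib.red p v := fun v => rfl
  have hmap : ∀ U : Set (Fin N × Fin N → A),
      Submodule.span κ (ρ '' U) = Submodule.span κ (ρ '' (Submodule.span A U : Set _)) := fun U => by
    refine le_antisymm (Submodule.span_mono (Set.image_mono Submodule.subset_span)) ?_
    rw [Submodule.span_le, ← Submodule.map_coe, Submodule.map_span]
    exact Submodule.span_subset_span A κ _
  have h1 : Set.range (Λ ∘ fun s : S => LinearMap.baseChange κ (DistribSMul.toLinearMap A Q s)) =
      ρ '' Set.range fun s : S => Θ (DistribSMul.toLinearMap A Q s) := by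
    rw [← Set.range_comp]; exact congrArg Set.range (funext fun s => hΛs _)
  have h2 : (Set.range fun v => HilbZetaLib.red p (w v)) = ρ '' (T : Set (Fin N × Fin N → A)) := by
    rw [show (T : Set (Fin N × Fin N → A)) = Set.range w from Subtype.range_coe.symm, ← Set.range_comp]; rfl
  rw [h1, h2, hmap, hmap (T : Set (Fin N × Fin N → A)), hT]

end Groth.Agent.S15153
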