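import Groth.Statements.S15155
import Mathlib

set_option autoImplicit false
open CAlg

namespace Groth.Agent.S15155

open Matrix

theorem isSquare_det_field {K : Type} [Field K] (h2 : (2 : K) ≠ 0) :
    ∀ (c : ℕ) (n : Type) [Fintype n] [DecidableEq n], Fintype.card n = c →
      ∀ B : Matrix n n K, Bᵀ = -B → IsSquare B.det := by
  intro c
  induction c using Nat.strong_induction_on with
  | _ c ih =>
  intro n _ _ hc B hB
  rcases isEmpty_or_nonempty n with hn | ⟨⟨i⟩⟩
  · exact ⟨1, by rw [det_isEmpty, one_mul]⟩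
  by_cases hrow : ∀ j, B i j = 0
  · exact ⟨0, by rw [det_eq_zero_of_row_eq_zero i hrow, zero_mul]⟩
  obtain ⟨j, hj⟩ := not_forall.mp hrow
  have hsk : ∀ a b, B b a = -B a b := fun a b => congrFun (congrFun hB a) b
  have hdiag : ∀ a, B a a = 0 := fun a => by
    have := hsk a a
    rw [eq_neg_iff_add_eq_zero, ← two_mul] at this
    exact (mul_eq_zero.mp this).resolve_left h2
  have hij : i ≠ j := fun h => hj (h ▸ hdiag i)
  let e : Fin 2 ⊕ {x // x ≠ i ∧ x ≠ j} ≃ n :=
    Equiv.ofBijective (Sum.elim ![i, j] Subtype.val) ⟨by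
      rintro (a | ⟨a, ha⟩) (b | ⟨b, hb⟩) h
      · fin_cases a <;> fin_cases b <;> first | rfl | exact absurd h hij | exact absurd h hij.symm
      · fin_cases a
        · exact absurd h.symm hb.1
        · exact absurd h.symm hb.2
      · fin_cases b
        · exact absurd h ha.1
        · exact absurd h ha.2
      · exact congrArg Sum.inr (Subtype.ext h), fun x => by
      by_cases hi : x = i
      · exact ⟨Sum.inl 0, hi.symm⟩
      by_cases hj' : x = j
      · exact ⟨Sum.inl 1, hj'.symm⟩
      exact ⟨Sum.inr ⟨x, hi, hj'⟩, rfl⟩⟩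
  rw [← det_submatrix_equiv_self e, ← fromBlocks_toBlocks (B.submatrix e e)]
  have hP : (B.submatrix e e).toBlocks₁₁ = !![0, B i j; -B i j, 0] := by
    ext a b
    fin_cases a <;> fin_cases b <;> first | exact hdiag _ | exact hsk i j | rfl
  have hPdet : (B.submatrix e e).toBlocks₁₁.det = B i j * B i j := by
    rw [hP, det_fin_two]; simp
  haveI : Invertible (B.submatrix e e).toBlocks₁₁.det :=
    invertibleOfNonzero (by rw [hPdet]; exact mul_ne_zero hj hj)
  haveI := invertibleOfDetInvertible (B.submatrix e e).toBlocks₁₁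
  rw [det_fromBlocks₁₁, hPdet]
  refine (IsSquare.mul_self (B i j)).mul (ih _ ?_ _ rfl _ ?_)
  · have := Fintype.card_congr e
    rw [Fintype.card_sum, Fintype.card_fin] at this
    omega
  · have h22 : (B.submatrix e e).toBlocks₂₂ᵀ = -(B.submatrix e e).toBlocks₂₂ := by
      ext a b; exact hsk _ _
    have h11 : (B.submatrix e e).toBlocks₁₁ᵀ = -(B.submatrix e e).toBlocks₁₁ := by
      ext a b; exact hsk _ _
    have h12 : (B.submatrix e e).toBlocks₁₂ᵀ = -(B.submatrix e e).toBlocks₂₁ := by
      ext a b; exact hsk _ _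
    have h21 : (B.submatrix e e).toBlocks₂₁ᵀ = -(B.submatrix e e).toBlocks₁₂ := by
      ext a b; exact hsk _ _
    have hinv : (⅟(B.submatrix e e).toBlocks₁₁)ᵀ = -⅟(B.submatrix e e).toBlocks₁₁ := by
      rw [invOf_eq_nonsing_inv, transpose_nonsing_inv, h11]
      refine inv_eq_right_inv ?_
      rw [neg_mul_neg, ← invOf_eq_nonsing_inv, mul_invOf_self]
    rw [transpose_sub, transpose_mul, transpose_mul, h22, h12, h21, hinv]
    simp only [Matrix.mul_neg, Matrix.neg_mul, neg_neg, ← Matrix.mul_assoc, neg_sub]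
    abel

theorem isSquare_det {S : Type} [CommRing S] [Algebra ℚ S] (n : Type) [Fintype n] [DecidableEq n]
    (M : Matrix n n S) : IsSquare (M - Mᵀ).det := by
  let G : Matrix n n (MvPolynomial (n × n) ℚ) := Matrix.of fun a b => MvPolynomial.X (a, b)
  let R := MvPolynomial (n × n) ℚ
  have h2 : (2 : FractionRing R) ≠ 0 := two_ne_zero
  obtain ⟨y, hy⟩ := isSquare_det_field h2 _ n rfl ((G - Gᵀ).map (algebraMap R (FractionRing R))) (by
    ext a b
    show algebraMap R (FractionRing R) (MvPolynomial.X (b, a) - MvPolynomial.X (a, b)) =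
      -algebraMap R (FractionRing R) (MvPolynomial.X (a, b) - MvPolynomial.X (b, a))
    rw [← map_neg, neg_sub])
  rw [← RingHom.mapMatrix_apply, ← RingHom.map_det] at hy
  have hint : IsIntegral R y := by
    refine IsIntegral.of_pow (n := 2) two_pos ?_
    rw [pow_two, ← hy]
    exact isIntegral_algebraMap
  obtain ⟨q, rfl⟩ := IsIntegrallyClosed.algebraMap_eq_of_integral hint
  rw [← map_mul] at hy
  refine ⟨MvPolynomial.aeval (fun ab => M ab.1 ab.2) q, ?_⟩
  rw [← map_mul, ← IsFractionRing.injective R (FractionRing R) hy, AlgHom.map_det]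
  congr 1
  ext a b
  simp [G]

/-- Let J be the 2m × 2m block matrix with blocks 0, I_m in the first row and −I_m, 0 in the second,
over the complex numbers. On the set of complex 2m × 2m matrices A with ᵗA · J = J · A (equivalently
ᵗA = J A J⁻¹, J being invertible), the characteristic polynomial is the square of a single
polynomial in the entries of A with coefficients in ℂ[X], and the determinant is the square of a
single polynomial in the entries of A. -/
theorem result (m : ℕ) :
    (∃ P : MvPolynomial ((Fin m ⊕ Fin m) × (Fin m ⊕ Fin m)) (Polynomial ℂ),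
      ∀ A : Matrix (Fin m ⊕ Fin m) (Fin m ⊕ Fin m) ℂ,
        A.transpose * Matrix.fromBlocks 0 1 (-1) 0 = Matrix.fromBlocks 0 1 (-1) 0 * A →
        A.charpoly = (MvPolynomial.eval (fun ij => Polynomial.C (A ij.1 ij.2)) P) ^ 2) ∧
    (∃ Q : MvPolynomial ((Fin m ⊕ Fin m) × (Fin m ⊕ Fin m)) ℂ,
      ∀ A : Matrix (Fin m ⊕ Fin m) (Fin m ⊕ Fin m) ℂ,
        A.transpose * Matrix.fromBlocks 0 1 (-1) 0 = Matrix.fromBlocks 0 1 (-1) 0 * A →
        A.det = (MvPolynomial.eval (fun ij => A ij.1 ij.2) Q) ^ 2) := by
  let n := Fin m ⊕ Fin m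
  let σ := n × n
  let J₀ : Matrix n n ℂ := Matrix.fromBlocks 0 1 (-1) 0
  have hJ : J₀.det ≠ 0 := fun h0 => by
    have := Matrix.J_det_mul_J_det (R := ℂ) (Fin m)
    have hneg : Matrix.J (Fin m) ℂ = -J₀ := by
      ext (a | a) (b | b) <;> simp [Matrix.J, J₀]
    rw [hneg, Matrix.det_neg, h0] at this
    simp at this
  obtain ⟨s, hs⟩ := IsAlgClosed.exists_eq_mul_self (J₀.det)⁻¹
  have hJT : J₀.transpose = -J₀ := by
    ext (a | a) (b | b) <;> simp [J₀, Matrix.one_apply, eq_comm]
  have sym : ∀ A : Matrix n n ℂ, A.transpose * J₀ = J₀ * A → (J₀ * A).transpose = -(J₀ * A) := by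
    intro A hA
    rw [Matrix.transpose_mul, hJT, Matrix.mul_neg, hA]
  constructor
  · let R := MvPolynomial σ (Polynomial ℂ)
    let G : Matrix n n R := Matrix.of fun a b => MvPolynomial.X (a, b)
    let N : Matrix n n R := (J₀.map (algebraMap ℂ R)) *
      (Matrix.scalar n (MvPolynomial.C Polynomial.X : R) - G)
    obtain ⟨q, hq⟩ := isSquare_det n (algebraMap ℂ R (1/2) • N)
    refine ⟨algebraMap ℂ R s * q, fun A hA => ?_⟩
    let ev : R →+* Polynomial ℂ := MvPolynomial.eval (fun ij => Polynomial.C (A ij.1 ij.2))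
    have hev : ∀ c, ev (algebraMap ℂ R c) = Polynomial.C c := fun c => MvPolynomial.eval_C _
    have hN : N.map ev = J₀.map Polynomial.C * A.charmatrix := by
      rw [Matrix.map_mul]
      congr 1
      · ext a b; simp [hev]
      · ext a b
        by_cases hab : a = b
        · subst hab; simp [ev, G, R, Matrix.scalar_apply]
        · simp [ev, G, R, Matrix.scalar_apply, hab]
    have hskew : (N.map ev).transpose = -(N.map ev) := by
      have : N.map ev = J₀.map Polynomial.C * Matrix.scalar n Polynomial.X - (J₀ * A).map Polynomial.C := by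
        rw [hN, Matrix.charmatrix, RingHom.mapMatrix_apply, Matrix.mul_sub, ← Matrix.map_mul]
      rw [this, Matrix.transpose_sub, Matrix.transpose_mul, ← Matrix.transpose_map, ← Matrix.transpose_map,
        hJT, sym A hA, Matrix.scalar_apply, Matrix.diagonal_transpose]
      ext a b
      simp only [Matrix.sub_apply, Matrix.neg_apply, Matrix.mul_diagonal, Matrix.diagonal_mul, Matrix.map_apply, map_neg]
      ring
    have key := congrArg ev hq
    rw [RingHom.map_det, map_mul] at key
    have hmap : ev.mapMatrix (algebraMap ℂ R (1/2) • N - (algebraMap ℂ R (1/2) • N).transpose) =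
        N.map ev := by
      have half : Polynomial.C (1/2 : ℂ) + Polynomial.C (1/2) = 1 := by
        rw [← Polynomial.C_add]; norm_num
      ext a b
      have hab : ev (N b a) = -ev (N a b) := congrFun (congrFun hskew a) b
      simp only [RingHom.mapMatrix_apply, Matrix.map_apply, Matrix.sub_apply, Matrix.smul_apply,
        Matrix.transpose_apply, smul_eq_mul, map_sub, map_mul, hev, hab]
      rw [mul_neg, sub_neg_eq_add, ← add_mul, half, one_mul]
    rw [hmap, hN, Matrix.det_mul, ← RingHom.mapMatrix_apply, ← RingHom.map_det] at key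
    change A.charpoly = (ev (algebraMap ℂ R s * q)) ^ 2
    rw [map_mul, hev, mul_pow, pow_two, pow_two, ← key, ← Polynomial.C_mul, ← hs, ← mul_assoc,
      ← Polynomial.C_mul, inv_mul_cancel₀ hJ, Polynomial.C_1, one_mul]
    rfl
  · let R := MvPolynomial σ ℂ
    let G : Matrix n n R := Matrix.of fun a b => MvPolynomial.X (a, b)
    let N : Matrix n n R := (J₀.map (algebraMap ℂ R)) * G
    obtain ⟨q, hq⟩ := isSquare_det n (algebraMap ℂ R (1/2) • N)
    refine ⟨algebraMap ℂ R s * q, fun A hA => ?_⟩
    let ev : R →+* ℂ := MvPolynomial.eval (fun ij => A ij.1 ij.2)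
    have hev : ∀ c, ev (algebraMap ℂ R c) = c := fun c => MvPolynomial.eval_C _
    have hN : N.map ev = J₀ * A := by
      rw [Matrix.map_mul]
      congr 1
      · ext a b; simp [hev]
      · ext a b; simp [ev, G, R]
    have key := congrArg ev hq
    rw [RingHom.map_det, map_mul] at key
    have hmap : ev.mapMatrix (algebraMap ℂ R (1/2) • N - (algebraMap ℂ R (1/2) • N).transpose) =
        N.map ev := by
      ext a b
      have hab : ev (N b a) = -ev (N a b) := congrFun (congrFun (hN ▸ sym A hA : (N.map ev).transpose = -(N.map ev)) a) b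
      simp only [RingHom.mapMatrix_apply, Matrix.map_apply, Matrix.sub_apply, Matrix.smul_apply,
        Matrix.transpose_apply, smul_eq_mul, map_sub, map_mul, hev, hab]
      ring
    rw [hmap, hN, Matrix.det_mul] at key
    change A.det = (ev (algebraMap ℂ R s * q)) ^ 2
    rw [map_mul, hev, mul_pow, pow_two, pow_two, ← key, ← hs, ← mul_assoc, inv_mul_cancel₀ hJ, one_mul]

end Groth.Agent.S15155
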