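import Groth.Statements.S15156
import Groth.Agent.VBLib.Slope
import Groth.Agent.EulerChar.Push
import Groth.Agent.PerfTri.Cone
import Groth.Agent.ParaFormal.Elkik.RankN
-- import your own Groth.Agent.* helpers here

set_option autoImplicit false
open CategoryTheory CategoryTheory.Limits AlgebraicGeometry
open VBCurve

namespace Groth.Agent.S15156

open Groth.Agent.VBLib

/-- The push-forward by an involution, as an equivalence. -/
noncomputable def pushEquivalence {X : Scheme.{0}} (σ : X ⟶ X) (hσ : σ ≫ σ = 𝟙 X) : X.Modules ≌ X.Modules :=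
  let e := Scheme.Modules.pushforwardComp σ σ ≪≫ Scheme.Modules.pushforwardCongr hσ ≪≫
    Scheme.Modules.pushforwardId X
  CategoryTheory.Equivalence.mk (Scheme.Modules.pushforward σ) (Scheme.Modules.pushforward σ) e.symm e

/-- The pull-back by an involution is the push-forward. -/
noncomputable def pullIsoPush {X : Scheme.{0}} (σ : X ⟶ X) (hσ : σ ≫ σ = 𝟙 X) :
    Scheme.Modules.pullback σ ≅ Scheme.Modules.pushforward σ :=
  (Scheme.Modules.pullbackPushforwardAdjunction σ).leftAdjointUniq (pushEquivalence σ hσ).toAdjunction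


/-- Let X be a smooth proper integral curve of genus at least 2 over the complex numbers with an
involution σ ≠ id over the complex numbers, and (E, φ) a σ-linearized finite locally free module of
rank r ≥ 1: φ : σ^*E ≅ E with φ ∘ σ^*φ equal to the canonical identification σ^*σ^*E ≅ E. A
submodule F ⊂ E is σ-invariant when the composite σ^*F → σ^*E → E factors through F. Then (E, φ) is
semistable with respect to σ-invariant finite locally free submodules (deg F · r ≤ deg E · rk F for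
each such F of positive rank) if and only if E is slope-semistable (the same inequality for every
finite locally free submodule of positive rank); degrees are χ − rank · χ(O). -/
theorem result
    (X : Scheme.{0}) [X.Over (Spec (CommRingCat.of ℂ))] [IsIntegral X] [IsProper (X ↘ Spec (CommRingCat.of ℂ))] [Smooth (X ↘ Spec (CommRingCat.of ℂ))]
    (hdim : topologicalKrullDim X = 1) (hg : 2 ≤ Curv2.genus ℂ X)
    (σ : X ⟶ X) (hσS : σ ≫ (X ↘ Spec (CommRingCat.of ℂ)) = X ↘ Spec (CommRingCat.of ℂ)) (hσ : σ ≫ σ = 𝟙 X) (hσ1 : σ ≠ 𝟙 X)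
    (r : ℕ) (hr : 0 < r) (E : X.Modules) (hE : FlatMod.IsFinLocFreeOfRank r E)
    (φ : (Scheme.Modules.pullback σ).obj E ≅ E)
    (hφ : (Scheme.Modules.pullback σ).map φ.hom ≫ φ.hom =
      (Scheme.Modules.pullbackComp σ σ).hom.app E ≫ (Scheme.Modules.pullbackCongr hσ).hom.app E ≫
        (Scheme.Modules.pullbackId X).hom.app E) :
    (∀ (F : X.Modules) (r' : ℕ) (i : F ⟶ E), Mono i → 0 < r' → FlatMod.IsFinLocFreeOfRank r' F →
      (∃ j : (Scheme.Modules.pullback σ).obj F ⟶ F, j ≫ i = (Scheme.Modules.pullback σ).map i ≫ φ.hom) →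
      Curv2.deg ℂ X F r' * (r : ℤ) ≤ Curv2.deg ℂ X E r * (r' : ℤ)) ↔
    (∀ (F : X.Modules) (r' : ℕ) (i : F ⟶ E), Mono i → 0 < r' → FlatMod.IsFinLocFreeOfRank r' F →
      Curv2.deg ℂ X F r' * (r : ℤ) ≤ Curv2.deg ℂ X E r * (r' : ℤ)) := by
  refine ⟨fun hinv => ?_, fun h F r' i hi hpos hF _ => h F r' i hi hpos hF⟩
  have hX := goodCurve_of_smooth (k := ℂ) (X := X) hdim
  haveI := hX.isLocallyNoetherian
  haveI : IsIso σ := ⟨σ, hσ, hσ⟩
  let P := Scheme.Modules.pullback σ
  haveI : P.PreservesMonomorphisms :=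
    Functor.PreservesMonomorphisms.of_iso (pullIsoPush σ hσ).symm
  have hEf := isFinLocFree_of_ofRank hE
  have hr1 : 0 < rk E := rk_eq hE ▸ hr
  obtain ⟨E₁, i₁, hi₁, hE₁, hpos, hmax⟩ := hX.exists_max_slope hEf hr1
  have hE₁' := ofRank_rk hE₁
  have hP₁ := ParaFormal.Elkik.isFinLocFreeOfRank_pullback σ hE₁'
  have hPf := isFinLocFree_of_ofRank hP₁
  -- the pull-back has the same rank and degree
  have hdP : dg ℂ (P.obj E₁) = dg ℂ E₁ := by
    rw [← dg_eq hP₁, ← dg_eq hE₁']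
    have hq : Coh.IsQCoh E₁ := (isCoh_of_isFinLocFree hE₁).1
    have he : Curv2.euler ℂ X (P.obj E₁) = Curv2.euler ℂ X E₁ := by
      refine finsum_congr fun q => ?_
      obtain ⟨a₀⟩ := EulerChar.nonempty_pushEquiv σ (A := ℂ) hσS E₁ hq q
      have b₀ := CohLin.hIso ((pullIsoPush σ hσ).app E₁) q
      exact congrArg (fun a : ℕ => (-1 : ℤ) ^ q * (a : ℤ))
        ((LinearEquiv.ofBijective (CohLin.overLin ℂ b₀.toLinearMap) b₀.bijective).finrank_eq.trans a₀.finrank_eq)
    simp only [Curv2.deg]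
    exact congrArg (· - _) he
  let i₂ : P.obj E₁ ⟶ E := P.map i₁ ≫ φ.hom
  haveI : Mono i₂ := mono_comp _ _
  let f : E₁ ⊞ P.obj E₁ ⟶ E := biprod.desc i₁ i₂
  have hsum : FlatMod.IsFinLocFree (E₁ ⊞ P.obj E₁) := PerfTri.Cone.isFinLocFree_biprod hE₁ hPf
  have hsc := isCoh_of_isFinLocFree hsum
  let S := ShortComplex.mk (biprod.inl : E₁ ⟶ E₁ ⊞ P.obj E₁) biprod.snd biprod.inl_snd
  have hS : S.ShortExact := ShortComplex.Splitting.shortExact
    { r := biprod.fst, s := biprod.inr, f_r := biprod.inl_fst, s_g := biprod.inr_snd, id := biprod.total }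
  have hd2 : dg ℂ (E₁ ⊞ P.obj E₁) = dg ℂ E₁ + dg ℂ E₁ :=
    (hX.dg_add hS (isCoh_of_isFinLocFree hE₁) hsc (isCoh_of_isFinLocFree hPf)).trans (by rw [hdP])
  have hr2 : rk (E₁ ⊞ P.obj E₁) = rk E₁ + rk E₁ :=
    (rk_add hS hsc).trans (congrArg (rk E₁ + ·) (rk_eq hP₁))
  obtain ⟨hd3, hr3⟩ := hX.dg_kernel_image f hsc (isCoh_of_isFinLocFree hEf)
  have hK := isFinLocFree_kernel hX.pid f hsum (isCoh_of_isFinLocFree hEf)
  have hI := isFinLocFree_image hX.pid f hsc hEf
  -- the kernel sits in `E₁`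
  haveI : Mono (kernel.ι f ≫ biprod.fst) := Preadditive.mono_of_cancel_zero _ fun {Z} g hg => by
    have h0 := kernel.condition f
    have h1 : g ≫ kernel.ι f ≫ biprod.snd ≫ i₂ = 0 := by
      have h2 : g ≫ kernel.ι f ≫ (biprod.fst ≫ i₁ + biprod.snd ≫ i₂) = 0 := by
        rw [← biprod.desc_eq, show kernel.ι f ≫ biprod.desc i₁ i₂ = 0 from h0, comp_zero]
      rw [Preadditive.comp_add, Preadditive.comp_add] at h2
      have h3 : g ≫ kernel.ι f ≫ biprod.fst ≫ i₁ = 0 := by
        rw [← Category.assoc (kernel.ι f), ← Category.assoc g, hg, zero_comp]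
      rwa [h3, zero_add] at h2
    have h4 : g ≫ kernel.ι f ≫ biprod.snd = 0 := by
      rw [← cancel_mono i₂, zero_comp]
      simpa only [Category.assoc] using h1
    rw [← cancel_mono (kernel.ι f), zero_comp]
    exact biprod.hom_ext _ _ (by simpa using hg) (by simpa using h4)
  have hKle : dg ℂ (kernel f) * (rk E₁ : ℤ) ≤ dg ℂ E₁ * (rk (kernel f) : ℤ) := by
    rcases Nat.eq_zero_or_pos (rk (kernel f)) with h0 | h0
    · rw [h0, hX.dg_eq_zero_of_isZero (isCoh_of_isFinLocFree hK) (isZero_of_rk_eq_zero hK h0)]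
      simp
    · exact (hmax _ ((kernel.ι f ≫ biprod.fst) ≫ i₁) inferInstance hK h0).1
  -- `E₁` sits in the image
  let l : E₁ ⟶ Abelian.image f := biprod.inl ≫ Abelian.factorThruImage f
  have hl : l ≫ Abelian.image.ι f = i₁ := by simp [l, f]
  haveI : Mono (l ≫ Abelian.image.ι f) := hl ▸ hi₁
  haveI : Mono l := mono_of_mono l (Abelian.image.ι f)
  have hge := rk_le_of_mono l (isCoh_of_isFinLocFree hI)
  obtain ⟨hIle, hIeq⟩ := hmax _ (Abelian.image.ι f) inferInstance hI (hpos.trans_le hge)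
  rw [hd2] at hd3
  rw [hr2] at hr3
  have hr3' : (rk E₁ : ℤ) + rk E₁ = rk (kernel f) + rk (Abelian.image f) := by exact_mod_cast hr3
  have heq : dg ℂ (Abelian.image f) * (rk E₁ : ℤ) = dg ℂ E₁ * (rk (Abelian.image f) : ℤ) := by
    refine le_antisymm hIle ?_
    rw [show (rk (Abelian.image f) : ℤ) = rk E₁ + rk E₁ - rk (kernel f) by omega,
      show dg ℂ (Abelian.image f) = dg ℂ E₁ + dg ℂ E₁ - dg ℂ (kernel f) by omega]
    linarith
  have hrI : rk E₁ = rk (Abelian.image f) := le_antisymm hge (hIeq heq)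
  rw [← hrI] at heq
  have hdI : dg ℂ E₁ = dg ℂ (Abelian.image f) :=
    (mul_right_cancel₀ (by exact_mod_cast hpos.ne' : (rk E₁ : ℤ) ≠ 0) heq).symm
  haveI : IsIso l := (hX.dg_le_of_mono l (isCoh_of_isFinLocFree hE₁) (isCoh_of_isFinLocFree hI) hrI).2 hdI
  have h1 := hinv E₁ (rk E₁) i₁ hi₁ hpos hE₁'
    ⟨biprod.inr ≫ Abelian.factorThruImage f ≫ inv l, by
      conv_lhs => rw [← hl]
      simp [f, i₂, P]⟩
  intro G r' j hj hpos' hG
  have hGf := isFinLocFree_of_ofRank hG
  have h2 := (hmax G j hj hGf (rk_eq hG ▸ hpos')).1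
  rw [dg_eq hE₁', dg_eq hE] at h1
  rw [rk_eq hG] at h2
  rw [dg_eq hG, dg_eq hE]
  have hp : (0 : ℤ) < (rk E₁ : ℤ) := by exact_mod_cast hpos
  refine le_of_mul_le_mul_right ?_ hp
  nlinarith [mul_le_mul_of_nonneg_right h2 (Int.natCast_nonneg r),
    mul_le_mul_of_nonneg_right h1 (Int.natCast_nonneg r')]

end Groth.Agent.S15156
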