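import Groth.Statements.S15159
import Mathlib

set_option autoImplicit false
open CAlg

namespace Groth.Agent.S15159

open Module DirectSum in
theorem isInternal_aux {H : Type} [AddCommGroup H] [Module ℂ H] [FiniteDimensional ℂ H] {ι : Type} [Fintype ι] [DecidableEq ι]
    (Hs : ι → Submodule ℂ H) (htop : ⨆ i, Hs i = ⊤) (hd : ∑ i, finrank ℂ (Hs i) = finrank ℂ H) : DirectSum.IsInternal Hs := by
  have hs : Function.Surjective (DirectSum.coeLinearMap Hs) := by
    rw [← LinearMap.range_eq_top, DirectSum.range_coeLinearMap, htop]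
  have hfr : finrank ℂ (⨁ i, Hs i) = finrank ℂ H := by rw [Module.finrank_directSum, hd]
  exact ⟨(LinearMap.injective_iff_surjective_of_finrank_eq_finrank hfr).2 hs, hs⟩

open Module in
theorem finrank_biSup_aux {H : Type} [AddCommGroup H] [Module ℂ H] [FiniteDimensional ℂ H] {ι : Type} [DecidableEq ι]
    (Hs : ι → Submodule ℂ H) (h : iSupIndep Hs) (S : Finset ι) :
    finrank ℂ (⨆ i ∈ S, Hs i : Submodule ℂ H) = ∑ i ∈ S, finrank ℂ (Hs i) := by
  induction S using Finset.induction with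
  | empty => simp
  | @insert a S ha ih =>
    rw [Finset.iSup_insert, Finset.sum_insert ha, ← ih, ← Submodule.finrank_sup_add_finrank_inf_eq,
      show Hs a ⊓ (⨆ i ∈ S, Hs i) = ⊥ from (h.disjoint_biSup (x := a) (y := (S : Set ι)) (by simpa using ha)).eq_bot, finrank_bot, add_zero]

theorem ortho_aux {W H : Type} [AddCommGroup W] [Module ℂ W] [AddCommGroup H] [Module ℂ H]
    (q : H →ₗ[ℂ] H →ₗ[ℂ] W) {ι : Type} (Hs : ι → Submodule ℂ H) (S T : Finset ι)
    (h : ∀ i ∈ S, ∀ j ∈ T, ∀ x ∈ Hs i, ∀ y ∈ Hs j, q x y = 0) :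
    ∀ x ∈ (⨆ i ∈ S, Hs i : Submodule ℂ H), ∀ y ∈ (⨆ j ∈ T, Hs j : Submodule ℂ H), q x y = 0 := by
  intro x hx y hy
  have h1 : ∀ i ∈ S, ∀ z ∈ Hs i, q z y = 0 := by
    intro i hi z hz
    have : (⨆ j ∈ T, Hs j : Submodule ℂ H) ≤ LinearMap.ker (q z) :=
      iSup₂_le fun j hj w hw => h i hi j hj z hz w hw
    exact this hy
  have : (⨆ i ∈ S, Hs i : Submodule ℂ H) ≤ LinearMap.ker (q.flip y) := iSup₂_le fun i hi z hz => h1 i hi z hz
  exact this hx

open Module in
/-- subspace violation from a destabilising one-parameter subgroup -/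
theorem to_subspace {W : Type} [AddCommGroup W] [Module ℂ W] {H : Type} [AddCommGroup H] [Module ℂ H] [FiniteDimensional ℂ H]
    (q : H →ₗ[ℂ] H →ₗ[ℂ] W) {ι : Type} [Fintype ι] [DecidableEq ι] (Hs : ι → Submodule ℂ H) (m : ι → ℤ)
    (hint : DirectSum.IsInternal Hs) (hsum : (∑ i, m i * (finrank ℂ (Hs i) : ℤ)) = 0) (hne : ∃ i, m i ≠ 0 ∧ Hs i ≠ ⊥)
    (e : ℤ) (he : e = 0 ∨ e = 1)
    (h : ∀ i j, m i + m j ≤ -e → ∀ x ∈ Hs i, ∀ y ∈ Hs j, q x y = 0) :
    ∃ V : Submodule ℂ H, V ≠ ⊥ ∧ (∀ x ∈ V, ∀ y ∈ V, q x y = 0) ∧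
      (finrank ℂ H : ℤ) + (1 - e) ≤ finrank ℂ V + finrank ℂ ↥(⨅ (y : H) (_ : y ∈ V), LinearMap.ker (q.flip y) : Submodule ℂ H) := by
  classical
  set d : ι → ℤ := fun i => (finrank ℂ (Hs i) : ℤ) with hd
  have hd0 : ∀ i, 0 ≤ d i := fun i => Int.natCast_nonneg _
  set M : ℤ := ∑ i, |m i| with hM
  have hMb : ∀ i, |m i| ≤ M := fun i => Finset.single_le_sum (fun j _ => abs_nonneg (m j)) (Finset.mem_univ i)
  have hn : (finrank ℂ H : ℤ) = ∑ i, d i := by
    have h1 := finrank_biSup_aux Hs hint.submodule_iSupIndep Finset.univ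
    rw [show (⨆ i ∈ (Finset.univ : Finset ι), Hs i) = ⊤ by simpa using hint.submodule_iSup_eq_top, finrank_top] at h1
    rw [h1]; push_cast; rfl
  by_contra hcon
  push Not at hcon
  -- `lo t` : weights at most `-t`; `hi t` : weights at least `t`
  let lo : ℤ → ℤ := fun t => ∑ i, if m i ≤ -t then d i else 0
  let hi : ℤ → ℤ := fun t => ∑ i, if t ≤ m i then d i else 0
  have hkey : ∀ t, 1 ≤ t → 0 < lo t → lo t < hi (t + (1 - e)) + (1 - e) := by
    intro t ht hpos
    set S := Finset.univ.filter fun i => m i ≤ -t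
    set T := Finset.univ.filter fun i => m i ≤ t - e
    have hV : (⨆ i ∈ S, Hs i : Submodule ℂ H) ≠ ⊥ := by
      intro h0
      have h1 := finrank_biSup_aux Hs hint.submodule_iSupIndep S
      rw [h0, finrank_bot] at h1
      have : lo t = 0 := by
        show (∑ i, if m i ≤ -t then d i else 0) = 0
        rw [← Finset.sum_filter, show S.sum d = ((∑ i ∈ S, finrank ℂ (Hs i) : ℕ) : ℤ) by push_cast; rfl, ← h1, Nat.cast_zero]
      omega
    have hiso : ∀ x ∈ (⨆ i ∈ S, Hs i : Submodule ℂ H), ∀ y ∈ (⨆ i ∈ S, Hs i : Submodule ℂ H), q x y = 0 :=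
      ortho_aux q Hs S S fun i hi j hj => h i j (by simp [S] at hi hj; omega)
    have hlt := hcon _ hV hiso
    have hle : (⨆ i ∈ T, Hs i : Submodule ℂ H) ≤ ⨅ (y : H) (_ : y ∈ (⨆ i ∈ S, Hs i : Submodule ℂ H)), LinearMap.ker (q.flip y) :=
      le_iInf₂ fun y hy x hx => ortho_aux q Hs T S (fun i hi j hj => h i j (by simp [S, T] at hi hj; omega)) x hx y hy
    have hfr := Submodule.finrank_mono hle
    rw [finrank_biSup_aux Hs hint.submodule_iSupIndep] at hfr hlt
    have h1 : ((∑ i ∈ S, finrank ℂ (Hs i) : ℕ) : ℤ) = lo t := by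
      push_cast; rw [Finset.sum_filter]
    have h2 : ((∑ i ∈ T, finrank ℂ (Hs i) : ℕ) : ℤ) + hi (t + (1 - e)) = ∑ i, d i := by
      push_cast
      rw [Finset.sum_filter, ← Finset.sum_add_distrib]
      refine Finset.sum_congr rfl fun i _ => ?_
      split_ifs <;> simp [hd] <;> omega
    rw [hn] at hlt
    omega
  have hlohi : ∀ t, 1 ≤ t → lo t ≤ hi t ∧ (0 < lo t → e = 1 → lo t < hi t) ∧ (e = 0 → lo t + (∑ i, if m i = t then d i else 0) ≤ hi t) := by
    intro t ht
    have hlo : 0 ≤ lo t := Finset.sum_nonneg fun i _ => by split_ifs <;> simp [hd0]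
    have hmono : hi (t + 1) + (∑ i, if m i = t then d i else 0) = hi t := by
      show (∑ i, _) + _ = ∑ i, _
      rw [← Finset.sum_add_distrib]
      refine Finset.sum_congr rfl fun i _ => ?_
      split_ifs <;> simp <;> omega
    have heq0 : 0 ≤ ∑ i, if m i = t then d i else 0 := Finset.sum_nonneg fun i _ => by split_ifs <;> simp [hd0]
    have hhi : 0 ≤ hi (t + 1) := Finset.sum_nonneg fun i _ => by split_ifs <;> simp [hd0]
    have hk := hkey t ht
    rcases he with rfl | rfl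
    · rw [sub_zero] at hk
      refine ⟨by omega, by omega, fun _ => by omega⟩
    · rw [sub_self, add_zero, add_zero] at hk
      refine ⟨by omega, by omega, by omega⟩
  have htotal : ∑ t ∈ Finset.Icc 1 M, (hi t - lo t) = 0 := by
    simp only [hi, lo, ← Finset.sum_sub_distrib]
    rw [Finset.sum_comm]
    refine Eq.trans (Finset.sum_congr rfl fun i _ => ?_) hsum
    rw [Finset.sum_sub_distrib, ← Finset.sum_filter, ← Finset.sum_filter, Finset.sum_const, Finset.sum_const]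
    have h1 : (Finset.Icc 1 M).filter (fun t => t ≤ m i) = Finset.Icc 1 (m i) := by
      ext t; simp; have := abs_le.1 (hMb i); omega
    have h2 : (Finset.Icc 1 M).filter (fun t => m i ≤ -t) = Finset.Icc 1 (-m i) := by
      ext t; simp; have := abs_le.1 (hMb i); omega
    rw [h1, h2, Int.card_Icc, Int.card_Icc, nsmul_eq_mul, nsmul_eq_mul, ← sub_mul]
    congr 1
    omega
  have hzero := (Finset.sum_eq_zero_iff_of_nonneg (fun t ht => sub_nonneg.2 (hlohi t (Finset.mem_Icc.1 ht).1).1)).1 htotal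
  obtain ⟨i₀, hm₀, hH₀⟩ := hne
  have hd₀ : 0 < d i₀ := by
    have : finrank ℂ (Hs i₀) ≠ 0 := fun h0 => hH₀ (Submodule.finrank_eq_zero.1 h0)
    show (0 : ℤ) < (finrank ℂ (Hs i₀) : ℤ)
    omega
  set t := |m i₀|
  have ht1 : 1 ≤ t := Int.one_le_abs hm₀
  have htM : t ∈ Finset.Icc 1 M := Finset.mem_Icc.2 ⟨ht1, hMb i₀⟩
  have h0 := hzero t htM
  obtain ⟨hle, hlt1, hlt0⟩ := hlohi t ht1
  rcases le_or_gt 0 (m i₀) with hpos | hneg
  · have hti : m i₀ = t := (abs_of_nonneg hpos).symm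
    have hhi : 0 < hi t := Finset.sum_pos' (fun i _ => by split_ifs <;> simp [hd0]) ⟨i₀, Finset.mem_univ _, by rw [if_pos hti.ge]; exact hd₀⟩
    rcases he with rfl | rfl
    · have h1 := hlt0 rfl
      have : 0 < ∑ i, if m i = t then d i else 0 :=
        Finset.sum_pos' (fun i _ => by split_ifs <;> simp [hd0]) ⟨i₀, Finset.mem_univ _, by rw [if_pos hti]; exact hd₀⟩
      omega
    · have := hlt1 (by omega) rfl
      omega
  · have hti : m i₀ ≤ -t := by rw [show t = -m i₀ from abs_of_neg hneg]; omega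
    have hlo : 0 < lo t := Finset.sum_pos' (fun i _ => by split_ifs <;> simp [hd0]) ⟨i₀, Finset.mem_univ _, by rw [if_pos hti]; exact hd₀⟩
    rcases he with rfl | rfl
    · -- the weights `≥ t` have positive multiplicity
      obtain ⟨i₁, -, hi₁⟩ := Finset.exists_ne_zero_of_sum_ne_zero (show hi t ≠ 0 by omega)
      split_ifs at hi₁ with hti₁
      · have htM₁ : m i₁ ∈ Finset.Icc 1 M := Finset.mem_Icc.2 ⟨by omega, (le_abs_self _).trans (hMb i₁)⟩
        have h1 := hzero _ htM₁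
        have h2 := (hlohi (m i₁) (by omega)).2.2 rfl
        have : 0 < ∑ i, if m i = m i₁ then d i else 0 :=
          Finset.sum_pos' (fun i _ => by split_ifs <;> simp [hd0]) ⟨i₁, Finset.mem_univ _, by rw [if_pos rfl]; exact lt_of_le_of_ne (hd0 i₁) (Ne.symm hi₁)⟩
        omega
      · exact hi₁ rfl
    · have := hlt1 hlo rfl
      omega

open Module in
/-- one-parameter subgroup from a destabilising subspace -/
theorem to_weights {W : Type} [AddCommGroup W] [Module ℂ W] (s : W →ₗ[ℂ] W) {H : Type} [AddCommGroup H] [Module ℂ H] [FiniteDimensional ℂ H]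
    (q : H →ₗ[ℂ] H →ₗ[ℂ] W) (hq : ∀ x y : H, q x y = s (q y x)) (hq0 : q ≠ 0) (V : Submodule ℂ H) (hV : V ≠ ⊥)
    (hiso : ∀ x ∈ V, ∀ y ∈ V, q x y = 0) (δ : ℤ) (hδ0 : 0 ≤ δ)
    (hδ : (finrank ℂ H : ℤ) + δ = finrank ℂ V + finrank ℂ ↥(⨅ (y : H) (_ : y ∈ V), LinearMap.ker (q.flip y) : Submodule ℂ H)) :
    ∃ (ι : Type) (_ : Fintype ι) (_ : DecidableEq ι) (Hs : ι → Submodule ℂ H) (m : ι → ℤ),
      DirectSum.IsInternal Hs ∧ (∑ i, m i * (finrank ℂ (Hs i) : ℤ)) = 0 ∧ (∃ i, m i ≠ 0 ∧ Hs i ≠ ⊥) ∧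
      ∀ i j, (∃ x ∈ Hs i, ∃ y ∈ Hs j, q x y ≠ 0) → δ ≤ m i + m j := by
  set U := (⨅ (y : H) (_ : y ∈ V), LinearMap.ker (q.flip y) : Submodule ℂ H) with hU
  have hmem : ∀ x, x ∈ U ↔ ∀ y ∈ V, q x y = 0 := fun x => by simp [hU]
  have hVU : V ≤ U := fun x hx => (hmem x).2 (hiso x hx)
  obtain ⟨P, hP⟩ := exists_isCompl V
  obtain ⟨Q, hQ⟩ := exists_isCompl U
  have hdim2 : finrank ℂ V + finrank ℂ ↥(U ⊓ P) = finrank ℂ U := by
    have h1 := Submodule.finrank_sup_add_finrank_inf_eq V (U ⊓ P)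
    rw [(hP.disjoint.mono_right inf_le_right).eq_bot, finrank_bot, add_zero,
      show V ⊔ U ⊓ P = U by rw [inf_comm, ← sup_inf_assoc_of_le P hVU, hP.sup_eq_top, top_inf_eq]] at h1
    omega
  have hdim3 : finrank ℂ U + finrank ℂ Q = finrank ℂ H := Submodule.finrank_add_eq_of_isCompl hQ
  let Hs : Fin 3 → Submodule ℂ H := ![V, U ⊓ P, Q]
  set a : ℤ := (finrank ℂ ↥(U ⊓ P) : ℤ) + finrank ℂ Q with ha
  refine ⟨Fin 3, inferInstance, inferInstance, Hs, ![-a, δ, a + δ], ?_, ?_, ⟨0, ?_, hV⟩, ?_⟩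
  · refine isInternal_aux Hs ?_ ?_
    · refine top_le_iff.1 ?_
      rw [← hQ.sup_eq_top, ← show V ⊔ U ⊓ P = U by rw [inf_comm, ← sup_inf_assoc_of_le P hVU, hP.sup_eq_top, top_inf_eq]]
      exact sup_le (sup_le (le_iSup Hs 0) (le_iSup Hs 1)) (le_iSup Hs 2)
    · rw [Fin.sum_univ_three]
      show finrank ℂ V + finrank ℂ ↥(U ⊓ P) + finrank ℂ Q = _
      omega
  · rw [Fin.sum_univ_three]
    show -a * (finrank ℂ V : ℤ) + δ * (finrank ℂ ↥(U ⊓ P) : ℤ) + (a + δ) * (finrank ℂ Q : ℤ) = 0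
    have h1 : (finrank ℂ V : ℤ) = finrank ℂ Q + δ := by omega
    rw [h1, ha]; ring
  · simp
    intro h
    refine hq0 (LinearMap.ext fun x => LinearMap.ext fun y => ?_)
    have htop : V = ⊤ := Submodule.eq_top_of_finrank_eq (by omega)
    exact hiso x (htop ▸ Submodule.mem_top) y (htop ▸ Submodule.mem_top)
  · intro i j ⟨x, hx, y, hy, hxy⟩
    have hs : ∀ u v, q u v = 0 → q v u = 0 := fun u v huv => by rw [hq, huv, map_zero]
    fin_cases i <;> fin_cases j <;> simp [Hs] at hx hy ⊢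
    all_goals first
      | omega
      | exact absurd (hiso x hx y hy) hxy
      | exact absurd (hs y x ((hmem y).1 hy.1 x hx)) hxy
      | exact absurd ((hmem x).1 hx.1 y hy) hxy

/-- Let W be a finite-dimensional complex vector space with an involution s, H a finite-dimensional
complex vector space and q : H → H → W a nonzero bilinear map with q(x)(y) = s(q(y)(x)). Write V^⊥ =
{x | q(x)(y) = 0 for all y ∈ V} and call V totally isotropic when q vanishes on V × V. The pair (H,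
q) is semistable (dim V + dim V^⊥ ≤ dim H for every nonzero totally isotropic subspace V),
respectively stable (strict inequality), if and only if the line of q is semistable, respectively
stable, for the action of SL(H), the latter being expressed through one-parameter subgroups: for
every decomposition H = ⊕_i H_i into subspaces with integer weights m_i such that Σ_i m_i dim H_i =
0 and some nonzero H_i has nonzero weight, there are indices i, j with q(H_i, H_j) ≠ 0 and m_i + m_j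
≤ 0, respectively m_i + m_j < 0. (The published statement speaks of semistability and stability of
the point of the projective space of such forms under SL(H); this row states the numerical condition
on one-parameter subgroups to which that is equivalent and which the published argument verifies.) -/
theorem result
    (W : Type) [AddCommGroup W] [Module ℂ W] [FiniteDimensional ℂ W]
    (s : W →ₗ[ℂ] W) (hs : s ∘ₗ s = LinearMap.id)
    (H : Type) [AddCommGroup H] [Module ℂ H] [FiniteDimensional ℂ H]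
    (q : H →ₗ[ℂ] H →ₗ[ℂ] W) (hq : ∀ x y : H, q x y = s (q y x)) (hq0 : q ≠ 0) :
    ((∀ V : Submodule ℂ H, V ≠ ⊥ → (∀ x ∈ V, ∀ y ∈ V, q x y = 0) →
        Module.finrank ℂ V + Module.finrank ℂ ↥(⨅ (y : H) (_ : y ∈ V), LinearMap.ker (q.flip y) : Submodule ℂ H) ≤ Module.finrank ℂ H) ↔
      (∀ (ι : Type) [Fintype ι] [DecidableEq ι] (Hs : ι → Submodule ℂ H) (m : ι → ℤ),
        DirectSum.IsInternal Hs → (∑ i, m i * (Module.finrank ℂ (Hs i) : ℤ)) = 0 →
        (∃ i, m i ≠ 0 ∧ Hs i ≠ ⊥) →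
        ∃ i j, (∃ x ∈ Hs i, ∃ y ∈ Hs j, q x y ≠ 0) ∧ m i + m j ≤ 0)) ∧
    ((∀ V : Submodule ℂ H, V ≠ ⊥ → (∀ x ∈ V, ∀ y ∈ V, q x y = 0) →
        Module.finrank ℂ V + Module.finrank ℂ ↥(⨅ (y : H) (_ : y ∈ V), LinearMap.ker (q.flip y) : Submodule ℂ H) < Module.finrank ℂ H) ↔
      (∀ (ι : Type) [Fintype ι] [DecidableEq ι] (Hs : ι → Submodule ℂ H) (m : ι → ℤ),
        DirectSum.IsInternal Hs → (∑ i, m i * (Module.finrank ℂ (Hs i) : ℤ)) = 0 →
        (∃ i, m i ≠ 0 ∧ Hs i ≠ ⊥) →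
        ∃ i j, (∃ x ∈ Hs i, ∃ y ∈ Hs j, q x y ≠ 0) ∧ m i + m j < 0)) := by
  refine ⟨⟨fun hss ι _ _ Hs m hint hsum hne => ?_, fun hw V hV hiso => ?_⟩,
    ⟨fun hss ι _ _ Hs m hint hsum hne => ?_, fun hw V hV hiso => ?_⟩⟩
  · by_contra hcon
    push Not at hcon
    obtain ⟨V, hV, hiso, hle⟩ := to_subspace q Hs m hint hsum hne 0 (Or.inl rfl) (fun i j hij x hx y hy => by
      by_contra hxy
      have := hcon i j ⟨x, hx, y, hy, hxy⟩
      omega)
    have := hss V hV hiso
    omega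
  · by_contra hcon
    obtain ⟨ι, _, _, Hs, m, hint, hsum, hne, hall⟩ := to_weights s q hq hq0 V hV hiso _ (by omega)
      (show (Module.finrank ℂ H : ℤ) + ((Module.finrank ℂ V : ℤ) + Module.finrank ℂ ↥(⨅ (y : H) (_ : y ∈ V), LinearMap.ker (q.flip y) : Submodule ℂ H) - Module.finrank ℂ H) = _ by ring)
    obtain ⟨i, j, hex, hij⟩ := hw ι Hs m hint hsum hne
    have := hall i j hex
    omega
  · by_contra hcon
    push Not at hcon
    obtain ⟨V, hV, hiso, hle⟩ := to_subspace q Hs m hint hsum hne 1 (Or.inr rfl) (fun i j hij x hx y hy => by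
      by_contra hxy
      have := hcon i j ⟨x, hx, y, hy, hxy⟩
      omega)
    have := hss V hV hiso
    omega
  · by_contra hcon
    obtain ⟨ι, _, _, Hs, m, hint, hsum, hne, hall⟩ := to_weights s q hq hq0 V hV hiso _ (by omega)
      (show (Module.finrank ℂ H : ℤ) + ((Module.finrank ℂ V : ℤ) + Module.finrank ℂ ↥(⨅ (y : H) (_ : y ∈ V), LinearMap.ker (q.flip y) : Submodule ℂ H) - Module.finrank ℂ H) = _ by ring)
    obtain ⟨i, j, hex, hij⟩ := hw ι Hs m hint hsum hne
    have := hall i j hex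
    omega

end Groth.Agent.S15159
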