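import Groth.Statements.S1516
import Groth.Agent.InfLift.Glue

set_option autoImplicit false
universe u
open FlatMor

namespace Groth.Agent.S1516

open AlgebraicGeometry CategoryTheory Limits in
/-- Let f : X → S be formally étale (unique infinitesimal lifting against first order thickenings of
affine schemes). Then for every first order thickening t : T → T' of schemes and every commutative
square with T → X on top and T' → S at the bottom there is exactly one lift T' → X. -/
theorem result {X S : Scheme.{u}} (f : X ⟶ S) (hf : MoreMor.IsFormallyEtaleHom f)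
    {T T' : Scheme.{u}} (t : T ⟶ T') (ht : MoreMor.IsFirstOrderThickening t) (a : T ⟶ X) (b : T' ⟶ S) (w : t ≫ b = a ≫ f) :
    ∃! l : T' ⟶ X, t ≫ l = a ∧ l ≫ f = b := by
  obtain ⟨⟨hcl, -⟩, hker⟩ := ht
  refine Groth.Agent.InfLift.Glue.existsUnique_lift_of_local w (fun _ ↦ True) (fun _ _ _ _ ↦ trivial) ?_ ?_
  · intro p
    obtain ⟨W, hW, hp, -⟩ := exists_isAffineOpen_mem_and_subset (x := p) (U := ⊤) trivial
    exact ⟨W, hW, hp, trivial⟩
  · intro W hW _
    exact Groth.Agent.InfLift.Glue.existsUnique_isLiftOn hker w W hW
      fun A _ I hI a' b' w' _ ↦ hf A I hI a' b' w' 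

end Groth.Agent.S1516
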