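import Groth.Statements.S15162
import Mathlib.Tactic
import Mathlib.LinearAlgebra.Matrix.Determinant.Basic
import Mathlib.GroupTheory.OrderOfElement

set_option autoImplicit false
open Matrix
open BddFin

namespace Groth.Agent.S15162

/-- Let Γ be a finite subgroup of GL_2(ℤ) acting on ℤ² by matrix multiplication. If every element of Γ
has a non-zero fixed vector in ℤ², then there is a non-zero vector of ℤ² fixed by all of Γ. -/
theorem result
    (Γ : Subgroup (Matrix.GeneralLinearGroup (Fin 2) ℤ)) [Finite Γ]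
    (h : ∀ γ ∈ Γ, ∃ v : Fin 2 → ℤ, v ≠ 0 ∧ (γ : Matrix (Fin 2) (Fin 2) ℤ) *ᵥ v = v) :
    ∃ v : Fin 2 → ℤ, v ≠ 0 ∧ ∀ γ ∈ Γ, (γ : Matrix (Fin 2) (Fin 2) ℤ) *ᵥ v = v := by
  classical
  -- determinant one and a fixed vector force the identity
  have key : ∀ γ ∈ Γ, ((γ : Matrix (Fin 2) (Fin 2) ℤ)).det = 1 → γ = 1 := by
    intro γ hγ hd
    obtain ⟨v, hv, hfix⟩ := h γ hγ
    obtain ⟨m, hm, hpow⟩ := (isOfFinOrder_of_finite (⟨γ, hγ⟩ : Γ)).exists_pow_eq_one
    have hpow' : (γ : Matrix (Fin 2) (Fin 2) ℤ) ^ m = 1 := by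
      rw [← Units.val_pow_eq_pow_val, show γ ^ m = 1 from congrArg Subtype.val hpow]; rfl
    set M := (γ : Matrix (Fin 2) (Fin 2) ℤ) with hM
    have hdet0 : (M - 1).det = 0 := by
      rw [← Matrix.exists_mulVec_eq_zero_iff]
      exact ⟨v, hv, by rw [Matrix.sub_mulVec, hfix, Matrix.one_mulVec, sub_self]⟩
    have hN : (M - 1) * (M - 1) = 0 := by
      rw [Matrix.det_fin_two] at hd hdet0
      simp [Matrix.one_apply] at hdet0
      have htr : M 0 0 + M 1 1 = 2 := by linear_combination hd - hdet0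
      ext i j
      fin_cases i <;> fin_cases j <;> simp [Matrix.mul_apply, Fin.sum_univ_two, Matrix.one_apply]
      · linear_combination M 0 0 * htr - hd
      · linear_combination M 0 1 * htr
      · linear_combination M 1 0 * htr
      · linear_combination M 1 1 * htr - hd
    have hk : ∀ k : ℕ, M ^ k = 1 + k • (M - 1) := by
      intro k
      induction k with
      | zero => simp
      | succ k ih =>
        calc M ^ (k + 1) = (1 + k • (M - 1)) * (1 + (M - 1)) := by rw [pow_succ, ih]; congr 1; abel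
          _ = 1 + (k + 1) • (M - 1) + k • ((M - 1) * (M - 1)) := by
              rw [add_mul, mul_add, mul_add, one_mul, one_mul, mul_one, smul_mul_assoc, succ_nsmul]; abel
          _ = _ := by rw [hN, smul_zero, add_zero]
    have := hk m
    rw [hpow'] at this
    have h0 : m • (M - 1) = 0 := by simpa using this.symm
    apply Units.ext
    show M = 1
    rw [← sub_eq_zero]
    ext i j
    have := congrFun (congrFun h0 i) j
    simp only [Matrix.smul_apply, Matrix.zero_apply, smul_eq_zero] at this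
    exact this.resolve_left (by omega)
  by_cases hall : ∀ γ ∈ Γ, γ = 1
  · refine ⟨![1, 0], by simp, fun γ hγ => ?_⟩
    rw [hall γ hγ]; simp
  push_neg at hall
  obtain ⟨g, hg, hg1⟩ := hall
  obtain ⟨v, hv, hfix⟩ := h g hg
  have hdet : ∀ γ : Matrix.GeneralLinearGroup (Fin 2) ℤ, (γ : Matrix (Fin 2) (Fin 2) ℤ).det = 1 ∨
      (γ : Matrix (Fin 2) (Fin 2) ℤ).det = -1 := fun γ =>
    Int.isUnit_iff.1 ((Matrix.isUnit_iff_isUnit_det _).1 γ.isUnit)
  refine ⟨v, hv, fun γ hγ => ?_⟩
  rcases hdet γ with hd | hd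
  · rw [key γ hγ hd]; simp
  · rcases hdet g with hd' | hd'
    · exact absurd (key g hg hd') hg1
    · have e1 : g * γ = 1 := key _ (Γ.mul_mem hg hγ) (by rw [Units.val_mul, Matrix.det_mul, hd, hd']; norm_num)
      have e2 : g * g = 1 := key _ (Γ.mul_mem hg hg) (by rw [Units.val_mul, Matrix.det_mul, hd']; norm_num)
      rw [mul_left_cancel (e1.trans e2.symm)]
      exact hfix

end Groth.Agent.S15162
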