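import Groth.Statements.S15163
import Mathlib

set_option autoImplicit false
open Matrix
open BddFin

namespace Groth.Agent.S15163

section

open Matrix

theorem pow_eq (γ : Matrix (Fin 2) (Fin 2) ℤ) (hdet : γ.det = 1) :
    γ * γ = γ.trace • γ - 1 := by
  rw [det_fin_two] at hdet
  ext i j
  fin_cases i <;> fin_cases j <;> simp [Matrix.mul_apply, trace_fin_two, Fin.sum_univ_two, -zsmul_eq_mul, smul_eq_mul, Matrix.smul_apply] <;>
    first | linear_combination -hdet | ring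

theorem finite_order (γ : Matrix (Fin 2) (Fin 2) ℤ) (hdet : γ.det = 1) {n : ℕ} (hn : 0 < n) (hpow : γ ^ n = 1) :
    |γ.trace| ≤ 2 ∧ (γ.trace = 2 → γ = 1) := by
  constructor
  · by_contra! ht
    have key : ∀ m, ∃ a b : ℤ, γ ^ (m + 1) = a • γ + b • (1 : Matrix (Fin 2) (Fin 2) ℤ) ∧ |b| < |a| := by
      intro m
      induction m with
      | zero => exact ⟨1, 0, by simp, by simp⟩
      | succ m ih =>
        obtain ⟨a, b, e, hab⟩ := ih
        refine ⟨a * γ.trace + b, -a, ?_, ?_⟩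
        · rw [pow_succ, e, add_mul, smul_mul_assoc, smul_mul_assoc, one_mul, pow_eq γ hdet]
          module
        · rw [abs_neg]
          have h1 : |a * γ.trace| ≤ |a * γ.trace + b| + |b| := by
            have := abs_sub (a * γ.trace + b) b
            rwa [add_sub_cancel_right] at this
          rw [abs_mul] at h1
          nlinarith [abs_nonneg a, abs_nonneg b]
    obtain ⟨a, b, e, hab⟩ := key (n - 1)
    rw [Nat.sub_add_cancel hn, hpow] at e
    have ha : a ≠ 0 := by rintro rfl; simp at hab; linarith [abs_nonneg b]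
    have e01 := congrFun (congrFun e 0) 1
    have e10 := congrFun (congrFun e 1) 0
    have e00 := congrFun (congrFun e 0) 0
    have e11 := congrFun (congrFun e 1) 1
    simp [-zsmul_eq_mul, -zsmul_one, Matrix.smul_apply, ha] at e01 e10 e00 e11
    have h01 : γ 0 1 = 0 := by simpa [ha, eq_comm] using e01
    have h10 : γ 1 0 = 0 := by simpa [ha, eq_comm] using e10
    rw [det_fin_two, h01] at hdet
    simp at hdet
    rw [trace_fin_two] at ht
    rcases Int.mul_eq_one_iff_eq_one_or_neg_one.1 hdet with ⟨h1, h2⟩ | ⟨h1, h2⟩ <;> rw [h1, h2] at ht <;> norm_num at ht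
  · intro ht
    have hN : (γ - 1) * (γ - 1) = 0 := by
      rw [mul_sub, sub_mul, pow_eq γ hdet, ht, mul_one, one_mul, two_smul]; abel
    have key : ∀ m : ℕ, γ ^ m = 1 + m • (γ - 1) := by
      intro m
      induction m with
      | zero => simp
      | succ m ih =>
        have hγ : γ = 1 + (γ - 1) := by abel
        rw [pow_succ, ih]
        nth_rw 2 [hγ]
        rw [mul_add, mul_one, add_mul, one_mul, smul_mul_assoc, hN, smul_zero, add_zero, succ_nsmul]
        abel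
    have := key n
    rw [hpow, left_eq_add] at this
    refine sub_eq_zero.1 ?_
    ext i j
    have h' := congrFun (congrFun this i) j
    simp [Matrix.smul_apply, hn.ne'] at h'
    simpa using h'

end

/-- Let Γ be a finite subgroup of GL_2(ℤ) and d > 6 an integer. Suppose some vector w of (ℤ/dℤ)², with
m·w ≠ 0 for all 0 < m < d, is fixed by the reduction modulo d of every element of Γ. Then some
non-zero vector of ℤ² is fixed by all of Γ. -/
theorem result
    (Γ : Subgroup (Matrix.GeneralLinearGroup (Fin 2) ℤ)) [Finite Γ] (d : ℕ) (hd : 6 < d)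
    (w : Fin 2 → ZMod d) (hw : ∀ m : ℕ, 0 < m → m < d → m • w ≠ 0)
    (hfix : ∀ γ ∈ Γ, ((γ : Matrix (Fin 2) (Fin 2) ℤ).map (Int.castRingHom (ZMod d))) *ᵥ w = w) :
    ∃ v : Fin 2 → ℤ, v ≠ 0 ∧ ∀ γ ∈ Γ, (γ : Matrix (Fin 2) (Fin 2) ℤ) *ᵥ v = v := by
  classical
  have hdvd : ∀ γ ∈ Γ, (d : ℤ) ∣ ((γ : Matrix (Fin 2) (Fin 2) ℤ) - 1).det := by
    intro γ hγ
    set M : Matrix (Fin 2) (Fin 2) ℤ := (γ : Matrix (Fin 2) (Fin 2) ℤ) - 1
    have h0 : M.map (Int.castRingHom (ZMod d)) *ᵥ w = 0 := by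
      rw [Matrix.map_sub _ (map_sub _), Matrix.map_one _ (map_zero _) (map_one _), Matrix.sub_mulVec,
        Matrix.one_mulVec, hfix γ hγ, sub_self]
    have h1 := congrArg ((M.map (Int.castRingHom (ZMod d))).adjugate *ᵥ ·) h0
    simp only [Matrix.mulVec_mulVec, Matrix.adjugate_mul, Matrix.mulVec_zero, Matrix.smul_mulVec,
      Matrix.one_mulVec] at h1
    rw [← RingHom.mapMatrix_apply, ← RingHom.map_det] at h1
    haveI : NeZero d := ⟨by omega⟩
    rw [← ZMod.intCast_zmod_eq_zero_iff_dvd]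
    set x := (Int.castRingHom (ZMod d)) M.det with hx
    by_contra hne
    refine hw x.val (Nat.pos_of_ne_zero fun h => hne ((ZMod.val_eq_zero x).1 h)) (ZMod.val_lt x) ?_
    rw [← h1]
    ext i
    simp
  have hfo : ∀ γ ∈ Γ, ∃ n, 0 < n ∧ (γ : Matrix (Fin 2) (Fin 2) ℤ) ^ n = 1 := by
    intro γ hγ
    obtain ⟨n, hn, h⟩ := (isOfFinOrder_iff_pow_eq_one (x := (⟨γ, hγ⟩ : Γ))).1 (isOfFinOrder_of_finite _)
    exact ⟨n, hn, by simpa using congrArg (fun x : Γ => ((x : Matrix.GeneralLinearGroup (Fin 2) ℤ) : Matrix (Fin 2) (Fin 2) ℤ)) h⟩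
  have hchar : ∀ M : Matrix (Fin 2) (Fin 2) ℤ, (M - 1).det = M.det - M.trace + 1 := fun M => by
    simp [Matrix.det_fin_two, Matrix.trace_fin_two]; ring
  have hpos : ∀ γ ∈ Γ, (γ : Matrix (Fin 2) (Fin 2) ℤ).det = 1 → γ = 1 := by
    intro γ hγ hdet
    obtain ⟨n, hn, hp⟩ := hfo γ hγ
    obtain ⟨hle, huni⟩ := finite_order _ hdet hn hp
    rw [abs_le] at hle
    have h := hdvd γ hγ
    rw [hchar, hdet] at h
    have h2 : (1 : ℤ) - (γ : Matrix (Fin 2) (Fin 2) ℤ).trace + 1 = 0 :=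
      Int.eq_zero_of_dvd_of_nonneg_of_lt (by omega) (by omega) h
    exact Units.ext (huni (by omega))
  have hdets : ∀ γ ∈ Γ, (γ : Matrix (Fin 2) (Fin 2) ℤ).det = 1 ∨ (γ : Matrix (Fin 2) (Fin 2) ℤ).det = -1 :=
    fun γ _ => Int.isUnit_iff.1 ((Matrix.isUnit_iff_isUnit_det _).1 γ.isUnit)
  by_cases hall : ∀ γ ∈ Γ, γ = 1
  · exact ⟨![1, 0], by simp, fun γ hγ => by simp [hall γ hγ]⟩
  push Not at hall
  obtain ⟨γ₀, hγ₀, hne⟩ := hall
  have hd0 : (γ₀ : Matrix (Fin 2) (Fin 2) ℤ).det = -1 :=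
    (hdets γ₀ hγ₀).resolve_left fun h => hne (hpos γ₀ hγ₀ h)
  have htr : (γ₀ : Matrix (Fin 2) (Fin 2) ℤ).trace = 0 := by
    have hdd : (γ₀ * γ₀ : Matrix.GeneralLinearGroup (Fin 2) ℤ) = 1 :=
      hpos _ (Γ.mul_mem hγ₀ hγ₀) (by simp [hd0])
    have e : (γ₀ : Matrix (Fin 2) (Fin 2) ℤ) * γ₀ = 1 := by rw [← Units.val_mul, hdd, Units.val_one]
    have e' := congrArg Matrix.trace e
    rw [Matrix.det_fin_two] at hd0
    simp [Matrix.trace_fin_two, Matrix.mul_apply, Fin.sum_univ_two] at e' ⊢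
    nlinarith
  obtain ⟨v, hv, hv0⟩ := Matrix.exists_mulVec_eq_zero_iff.2
    (show ((γ₀ : Matrix (Fin 2) (Fin 2) ℤ) - 1).det = 0 by rw [hchar, hd0, htr]; norm_num)
  refine ⟨v, hv, fun γ hγ => ?_⟩
  rw [Matrix.sub_mulVec, Matrix.one_mulVec, sub_eq_zero] at hv0
  rcases hdets γ hγ with h | h
  · simp [hpos γ hγ h]
  · have : γ * γ₀ = 1 := hpos _ (Γ.mul_mem hγ hγ₀) (by simp [h, hd0])
    have h2 : γ₀ * γ₀ = 1 := hpos _ (Γ.mul_mem hγ₀ hγ₀) (by simp [hd0])
    rw [show γ = γ₀ from mul_right_cancel (this.trans h2.symm)]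
    exact hv0

end Groth.Agent.S15163
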