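import Groth.Statements.S15166
import Groth.Agent.BddFin.Isometry


set_option autoImplicit false
universe u v
open Polynomial
open BddFin

namespace Groth.Agent.S15166



/-- Let K be a field of characteristic different from 2 such that K contains all roots of unity (for
every n ≥ 1 the polynomial X^n − 1 splits into linear factors over K), V a finite-dimensional
K-vector space and q a quadratic form on V that does not represent zero. Then every finite subgroup
of the group of K-linear automorphisms of V preserving q is abelian and has order at most 2 ^ (dim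
V). (The published statement also covers perfect fields of characteristic 2; this row is the case of
characteristic ≠ 2.) -/
theorem result
    (K : Type u) [Field K] (hK : ∀ n : ℕ, 0 < n → (X ^ n - 1 : K[X]).Splits) (h2 : (2 : K) ≠ 0)
    (V : Type v) [AddCommGroup V] [Module K V] [FiniteDimensional K V]
    (q : QuadraticForm K V) (hq : q.Anisotropic)
    (G : Subgroup (V ≃ₗ[K] V)) [Finite G] (hG : ∀ g ∈ G, ∀ x : V, q (g x) = q x) :
    (∀ g ∈ G, ∀ h ∈ G, g * h = h * g) ∧ Nat.card G ≤ 2 ^ Module.finrank K V := by
  classical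
  cases nonempty_fintype G
  have hsq : ∀ g ∈ G, g * g = 1 := fun g hg => by
    obtain ⟨d, hd, hgd⟩ := isOfFinOrder_iff_pow_eq_one.1 (isOfFinOrder_of_finite (⟨g, hg⟩ : G))
    rw [← pow_two]
    exact Groth.Agent.BddFin.isometry_sq_eq_one q hK h2 hq g (hG g hg) d hd (congrArg Subtype.val hgd)
  have hcomm : ∀ g ∈ G, ∀ h ∈ G, g * h = h * g := fun g hg h hh => by
    have hinv : ∀ a ∈ G, a⁻¹ = a := fun a ha => inv_eq_of_mul_eq_one_right (hsq a ha)
    rw [← hinv _ (G.mul_mem hg hh), mul_inv_rev, hinv h hh, hinv g hg]
  refine ⟨hcomm, ?_⟩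
  let f : G → Module.End K V := fun a => ((a : V ≃ₗ[K] V) : V →ₗ[K] V)
  have hf : Function.Injective f := fun a b hab => Subtype.ext (LinearEquiv.toLinearMap_injective hab)
  have hmul : ∀ a b : V ≃ₗ[K] V, ((a * b : V ≃ₗ[K] V) : Module.End K V) = (a : Module.End K V) * (b : Module.End K V) :=
    fun a b => rfl
  rw [Nat.card_eq_fintype_card, ← Finset.card_univ, ← Finset.card_image_of_injective Finset.univ hf]
  refine Groth.Agent.BddFin.card_le_of_commuting_involutions h2 _ V rfl _ ?_ ?_
  · simp only [Finset.mem_image]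
    rintro _ ⟨a, -, rfl⟩
    rw [← hmul, hsq _ a.2]
    rfl
  · simp only [Finset.mem_image]
    rintro _ ⟨a, -, rfl⟩ _ ⟨b, -, rfl⟩
    rw [← hmul, ← hmul, hcomm _ a.2 _ b.2]

end Groth.Agent.S15166
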