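import Groth.Statements.S15167
import Groth.Agent.CSA.RedCharpoly
import Mathlib.Data.Nat.Factorization.Basic
import Mathlib.Algebra.CharP.Frobenius
import Mathlib.RingTheory.Coprime.Lemmas


set_option autoImplicit false
universe u v
open Polynomial
open BddFin

namespace Groth.Agent.S15167

open Groth.Agent.CSA

/-- Let K be a field such that K contains all roots of unity (for every n ≥ 1 the polynomial X^n − 1
splits into linear factors over K), A a central simple K-algebra of dimension n ^ 2, and x an
invertible element of A some power x ^ m (m ≥ 1) of which lies in K. Then there are a positive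
integer r dividing n and elements a_i of K such that the minimal polynomial of x over K is the
product of the polynomials X ^ r − a_i. -/
theorem result
    (K : Type u) [Field K] (hK : ∀ n : ℕ, 0 < n → (X ^ n - 1 : K[X]).Splits)
    (A : Type v) [Ring A] [Algebra K A] [Algebra.IsCentral K A] [IsSimpleRing A] [FiniteDimensional K A]
    (n : ℕ) (hn : Module.finrank K A = n ^ 2)
    (x : A) (hx : IsUnit x) (hxm : ∃ m : ℕ, 0 < m ∧ x ^ m ∈ (algebraMap K A).range) :
    ∃ r : ℕ, 0 < r ∧ r ∣ n ∧ ∃ s : Multiset K, minpoly K x = (s.map fun a : K => X ^ r - C a).prod := by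
  classical
  obtain ⟨m, hm, hxm'⟩ := hxm
  obtain ⟨r, hr, hrd, hq⟩ := exists_binomial_factors hK hx hm hxm'
  refine ⟨r, hr, deg_eq_of_finrank K A hn ▸ hrd, (UniqueFactorizationMonoid.normalizedFactors (minpoly K x)).map fun q => -q.coeff 0, ?_⟩
  have hint : IsIntegral K x := Algebra.IsIntegral.isIntegral x
  have hmon : ∀ q ∈ UniqueFactorizationMonoid.normalizedFactors (minpoly K x), q.Monic := fun q hq2 => by
    rw [← UniqueFactorizationMonoid.normalize_normalized_factor q hq2]
    exact Polynomial.monic_normalize (UniqueFactorizationMonoid.irreducible_of_normalized_factor q hq2).ne_zero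
  have h := UniqueFactorizationMonoid.prod_normalizedFactors (minpoly.ne_zero hint)
  rw [Multiset.map_map]
  conv_lhs => rw [(Polynomial.eq_of_monic_of_associated (minpoly.monic hint)
    (Polynomial.monic_multiset_prod_of_monic _ id hmon) (by simpa using h.symm) : minpoly K x = _)]
  refine congrArg Multiset.prod (Multiset.map_congr rfl fun q hq2 => ?_)
  obtain ⟨a, rfl⟩ := hq q (hmon q hq2) (UniqueFactorizationMonoid.irreducible_of_normalized_factor q hq2)
    (UniqueFactorizationMonoid.dvd_of_mem_normalizedFactors hq2)
  simp [Polynomial.coeff_X_pow, hr.ne]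

end Groth.Agent.S15167
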