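import Groth.Statements.S15168
import Groth.Agent.CSA.RedCharpoly
import Mathlib.Data.Nat.Factorization.Basic
import Mathlib.Algebra.CharP.Frobenius
import Mathlib.RingTheory.Coprime.Lemmas


set_option autoImplicit false
universe u v
open Polynomial
open BddFin

namespace Groth.Agent.S15168

open Groth.Agent.CSA

/-- Let K be a field such that K contains all roots of unity (for every n ≥ 1 the polynomial X^n − 1
splits into linear factors over K), A a central division algebra of dimension n ^ 2 over K, and x an
element of A some power x ^ m (m ≥ 1) of which lies in K. Then x ^ n lies in K; that is, the order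
of the class of x in the quotient of the unit group of A by that of K divides n. -/
theorem result
    (K : Type u) [Field K] (hK : ∀ n : ℕ, 0 < n → (X ^ n - 1 : K[X]).Splits)
    (A : Type v) [DivisionRing A] [Algebra K A] [Algebra.IsCentral K A] [FiniteDimensional K A]
    (n : ℕ) (hn : Module.finrank K A = n ^ 2)
    (x : A) (hxm : ∃ m : ℕ, 0 < m ∧ x ^ m ∈ (algebraMap K A).range) :
    x ^ n ∈ (algebraMap K A).range := by
  rcases eq_or_ne x 0 with rfl | hx
  · have hn0 : n ≠ 0 := fun h => by
      have := Module.finrank_pos (R := K) (M := A)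
      simp [hn, h] at this
    exact ⟨0, by rw [map_zero, zero_pow hn0]⟩
  obtain ⟨m, hm, hxm'⟩ := hxm
  obtain ⟨r, a, hr, hrd, hmin, -⟩ := exists_binomial_minpoly hK hx hm hxm'
  obtain ⟨t, ht⟩ := deg_eq_of_finrank K A hn ▸ hrd
  refine ⟨a ^ t, ?_⟩
  have h := minpoly.aeval K x
  rw [hmin, map_sub, map_pow, Polynomial.aeval_X, Polynomial.aeval_C, sub_eq_zero] at h
  rw [ht, pow_mul, h, map_pow]

end Groth.Agent.S15168
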