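import Groth.Statements.S15169
import Groth.Agent.CSA.CharPDegree


set_option autoImplicit false
universe u v
open BddFin

namespace Groth.Agent.S15169

open Groth.Agent.CSA

/-- (1) ⇒ (2): let K be a field with char K = p > 0 and A a central division K-algebra with dim_K A = p
^ 2. If some element of A is not separable over K, then there are v, u in A with v ^ p and u ^ p in
K and v * u - u * v = 1 which generate A as a K-algebra. -/
theorem result
    (K : Type u) [Field K] (p : ℕ) [Fact p.Prime] [CharP K p]
    (A : Type v) [DivisionRing A] [Algebra K A] [Algebra.IsCentral K A] [FiniteDimensional K A]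
    (hA : Module.finrank K A = p ^ 2) (h : ∃ v : A, ¬ IsSeparable K v) :
    ∃ v u : A, v ^ p ∈ (algebraMap K A).range ∧ u ^ p ∈ (algebraMap K A).range ∧ v * u - u * v = 1 ∧
      Algebra.adjoin K {v, u} = ⊤ := by
  obtain ⟨v, hv⟩ := h
  obtain ⟨hvK, hvp⟩ := pow_char_mem_of_not_isSeparable hA hv
  obtain ⟨u, hu⟩ := exists_commutator_eq_one hvK hvp
  have hne : v * u ≠ u * v := fun h => one_ne_zero (hu.symm.trans (sub_eq_zero.2 h))
  obtain ⟨htop, hcentral⟩ := adjoin_pair_eq_top_of_prime (Fact.out : p.Prime) hA hne
  exact ⟨v, u, hvp, hcentral _ (commute_pow_char_of_commutator_eq_one (k := K) hu) (pow_mul_comm' u p), hu, htop⟩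

end Groth.Agent.S15169
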