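import Groth.Statements.S1517
import Mathlib.RingTheory.TwoSidedIdeal.Operations


set_option autoImplicit false
universe u
open Brauer

namespace Groth.Agent.S1517

/-- Let A be a ring with no nontrivial two-sided ideals and M a nonzero right ideal, viewed as a right
A-module with endomorphism ring A'. Then every A'-linear endomorphism of M is right multiplication
by exactly one element of A; that is, the natural map from A to the bicommutant of M is a bijection. -/
theorem result (A : Type u) [Ring A] [IsSimpleRing A]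
    (M : Submodule Aᵐᵒᵖ A) (hM : M ≠ ⊥)
    (g : Module.End (Module.End Aᵐᵒᵖ M) M) :
    ∃! a : A, ∀ m : M, (g m : A) = (m : A) * a := by
  classical
  let J : TwoSidedIdeal A := TwoSidedIdeal.span {x : A | x ∈ M}
  obtain ⟨m0, hm0, hm0'⟩ := (Submodule.ne_bot_iff M).1 hM
  have hJ : J = ⊤ := by
    refine (eq_bot_or_eq_top J).resolve_left fun h => hm0' ?_
    have h1 : m0 ∈ J := TwoSidedIdeal.subset_span hm0
    rwa [h, TwoSidedIdeal.mem_bot] at h1
  have hMr : ∀ m ∈ M, ∀ a : A, m * a ∈ M := fun m hm a => M.smul_mem (MulOpposite.op a) hm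
  let P : AddSubgroup A := AddSubgroup.closure {z | ∃ a : A, ∃ m : M, z = a * m}
  have hP : ∀ z, z ∈ P ↔ z ∈ AddSubgroup.closure {z | ∃ a : A, ∃ m : M, z = a * m} := fun z => Iff.rfl
  have hall : ∀ z : A, z ∈ P := fun z => by
    have hz : z ∈ J := hJ ▸ TwoSidedIdeal.mem_top A
    let J' : TwoSidedIdeal A := TwoSidedIdeal.mk' (P : Set A) (zero_mem P) (fun h h' => add_mem h h') (fun h => neg_mem h)
      (fun {x y} h => by
        induction h using AddSubgroup.closure_induction with
        | mem w hw => obtain ⟨a, m, rfl⟩ := hw; exact AddSubgroup.subset_closure ⟨x * a, m, (mul_assoc _ _ _).symm⟩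
        | zero => rw [mul_zero]; exact zero_mem P
        | add u v _ _ hu hv => rw [mul_add]; exact add_mem hu hv
        | neg u _ hu => rw [mul_neg]; exact neg_mem hu)
      (fun {x y} h => by
        induction h using AddSubgroup.closure_induction with
        | mem w hw => obtain ⟨a, m, rfl⟩ := hw; exact AddSubgroup.subset_closure ⟨a, ⟨_, hMr _ m.2 y⟩, mul_assoc _ _ _⟩
        | zero => rw [zero_mul]; exact zero_mem P
        | add u v _ _ hu hv => rw [add_mul]; exact add_mem hu hv
        | neg u _ hu => rw [neg_mul]; exact neg_mem hu)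
    have hle : J ≤ J' := TwoSidedIdeal.span_le.2 fun w hw => by
      rw [SetLike.mem_coe, TwoSidedIdeal.mem_mk']
      exact AddSubgroup.subset_closure ⟨1, ⟨w, hw⟩, (one_mul w).symm⟩
    simpa [J'] using hle hz
  have key : ∀ z : A, ∃ a' : A, ∀ m : M, ∀ hmz : (m : A) * z ∈ M, (g ⟨(m : A) * z, hmz⟩ : A) = (m : A) * a' := by
    intro z
    induction hall z using AddSubgroup.closure_induction with
    | mem w hw =>
        obtain ⟨a, m', rfl⟩ := hw
        refine ⟨a * g m', fun m hmz => ?_⟩
        let lam : Module.End Aᵐᵒᵖ M :=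
          { toFun := fun x => ⟨(m : A) * a * (x : A), hMr _ (hMr _ m.2 a) _⟩
            map_add' := fun x y => Subtype.ext (mul_add _ _ _)
            map_smul' := fun r x => Subtype.ext (mul_assoc _ _ _).symm }
        have h : (g (lam • m') : M) = lam • g m' := g.map_smul lam m'
        rw [show (⟨(m : A) * (a * m'), hmz⟩ : M) = lam • m' from Subtype.ext (mul_assoc _ _ _).symm, h]
        exact mul_assoc _ _ _
    | zero =>
        exact ⟨0, fun m hmz => by rw [show (⟨(m : A) * 0, hmz⟩ : M) = 0 from Subtype.ext (mul_zero _), map_zero, mul_zero]; rfl⟩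
    | add u v _ _ hu hv =>
        obtain ⟨a, ha⟩ := hu
        obtain ⟨b, hb⟩ := hv
        refine ⟨a + b, fun m hmz => ?_⟩
        rw [show (⟨(m : A) * (u + v), hmz⟩ : M) = ⟨_, hMr _ m.2 u⟩ + ⟨_, hMr _ m.2 v⟩ from Subtype.ext (mul_add _ _ _),
          map_add, Submodule.coe_add, ha, hb, mul_add]
    | neg u _ hu =>
        obtain ⟨a, ha⟩ := hu
        refine ⟨-a, fun m hmz => ?_⟩
        rw [show (⟨(m : A) * -u, hmz⟩ : M) = -⟨_, hMr _ m.2 u⟩ from Subtype.ext (mul_neg _ _), map_neg, Submodule.coe_neg,
          ha, mul_neg]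
  obtain ⟨a, ha⟩ := key 1
  have ha' : ∀ m : M, (g m : A) = (m : A) * a := fun m => by
    have h := ha m (by rw [mul_one]; exact m.2)
    rwa [show (⟨(m : A) * 1, _⟩ : M) = m from Subtype.ext (mul_one _)] at h
  refine ⟨a, ha', fun b hb => sub_eq_zero.1 ?_⟩
  have h0 : ∀ z : A, z * (b - a) = 0 := fun z => by
    induction hall z using AddSubgroup.closure_induction with
    | mem w hw => obtain ⟨c, m, rfl⟩ := hw; rw [mul_assoc, mul_sub, ← ha', ← hb, sub_self, mul_zero]
    | zero => rw [zero_mul]
    | add u v _ _ hu hv => rw [add_mul, hu, hv, add_zero]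
    | neg u _ hu => rw [neg_mul, hu, neg_zero]
  simpa using h0 1

end Groth.Agent.S1517
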