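import Groth.Statements.S15172
import Mathlib.Algebra.Polynomial.Roots
import Mathlib.Tactic.LinearCombination


set_option autoImplicit false
universe u v
open Polynomial
open BddFin

namespace Groth.Agent.S15172

/-- Let L be a field of characteristic p > 0 and s a finite subset of L containing 0 and closed under
addition (a finite additive subgroup). Then the polynomial f = ∏_{a ∈ s} (X - a) is additive: f (x +
y) = f x + f y for all x, y in any commutative L-algebra (equivalently, as an identity of
polynomials in two variables). -/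
theorem result
    (L : Type u) [Field L] (p : ℕ) [Fact p.Prime] [CharP L p] (s : Finset L) (h0 : (0 : L) ∈ s)
    (hadd : ∀ a ∈ s, ∀ b ∈ s, a + b ∈ s) (R : Type v) [CommRing R] [Algebra L R] (x y : R) :
    aeval (x + y) (∏ a ∈ s, (X - C a)) = aeval x (∏ a ∈ s, (X - C a)) + aeval y (∏ a ∈ s, (X - C a)) := by
  classical
  have hs : ∀ a ∈ s, s.image (fun b => b + a) = s := fun a ha =>
    Finset.eq_of_subset_of_card_le (fun c hc => by
      obtain ⟨b, hb, rfl⟩ := Finset.mem_image.1 hc
      exact hadd b hb a ha) (le_of_eq (Finset.card_image_of_injective _ (add_left_injective a)).symm)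
  set f : L[X] := ∏ a ∈ s, (X - C a) with hf
  set G : L[X][X] := (∏ a ∈ s, (X - C (C a - X))) - (∏ a ∈ s, (X - C (C a))) - C f with hG
  have hdeg : G.natDegree < s.card := by
    have h1 : ∀ g : L → L[X], (∏ a ∈ s, (X - C (g a))).Monic := fun g => monic_prod_of_monic _ _ fun a _ => monic_X_sub_C _
    have h2 : ∀ g : L → L[X], (∏ a ∈ s, (X - C (g a))).natDegree = s.card := fun g => by
      rw [natDegree_prod_of_monic _ _ fun a _ => monic_X_sub_C (g a)]
      simp
    have hpos : 0 < s.card := Finset.card_pos.2 ⟨0, h0⟩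
    refine lt_of_le_of_lt ((natDegree_sub_C (a := f)).le) ?_
    by_cases hz : (∏ a ∈ s, (X - C (C a - X))) - (∏ a ∈ s, (X - C (C a))) = (0 : L[X][X])
    · rw [hz, natDegree_zero]; exact hpos
    · rw [natDegree_lt_iff_degree_lt hz]
      refine lt_of_lt_of_eq (degree_sub_lt ?_ (h1 _).ne_zero ((h1 _).leadingCoeff.trans (h1 _).leadingCoeff.symm)) ?_
      · rw [degree_eq_natDegree (h1 _).ne_zero, degree_eq_natDegree (h1 _).ne_zero, h2, h2]
      · rw [degree_eq_natDegree (h1 _).ne_zero, h2]
  have hG0 : G = 0 := by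
    refine eq_zero_of_natDegree_lt_card_of_eval_eq_zero' G (s.image C) ?_ ?_
    · intro c hc
      obtain ⟨a, ha, rfl⟩ := Finset.mem_image.1 hc
      have h3 : ∏ b ∈ s, (C a - C b : L[X]) = 0 := Finset.prod_eq_zero ha (sub_self _)
      simp only [hG, eval_sub, eval_prod, eval_X, eval_C, h3, sub_zero]
      rw [sub_eq_zero, hf]
      refine Eq.trans ?_ (Finset.prod_congr rfl fun b _ => show (C a - (C (b + a) - X) : L[X]) = X - C b by rw [map_add]; ring)
      conv_lhs => rw [← hs a ha, Finset.prod_image (fun b _ c _ h => add_right_cancel h)]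
    · rw [Finset.card_image_of_injective _ C_injective]
      exact hdeg
  have h := congrArg (eval₂ (aeval y : L[X] →ₐ[L] R).toRingHom x) hG0
  simp only [hG, eval₂_sub, eval₂_finsetProd, eval₂_X, eval₂_C, eval₂_zero, AlgHom.toRingHom_eq_coe, RingHom.coe_coe,
    map_sub, aeval_C, aeval_X] at h
  simp only [hf, map_prod, map_sub, aeval_X, aeval_C] at h ⊢
  rw [show ∏ a ∈ s, (x + y - algebraMap L R a) = ∏ a ∈ s, (x - (algebraMap L R a - y)) from
    Finset.prod_congr rfl fun a _ => by ring]
  linear_combination h

end Groth.Agent.S15172
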