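import Groth.Statements.S15173
import Groth.Agent.SBTaut.Unbounded
import Mathlib.FieldTheory.Finite.Basic

set_option autoImplicit false
universe u v
open Polynomial
open BddFin

namespace Groth.Agent.S15173

open Groth.Agent in

/-- Let K be a field of characteristic p > 0 such that K contains all roots of unity (for every n ≥ 1
the polynomial X^n − 1 splits into linear factors over K), and A a finite-dimensional central
division algebra over K. If A contains an element w not in K with w ^ p in K, then the quotient of
the unit group of A by that of K has unbounded finite subgroups: for every N there is a subgroup H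
of the units of A containing the units of K as a subgroup of finite index greater than N. (The
published statement assumes only that some element of A is inseparable over K and passes at once to
a purely inseparable subfield of degree p; this row assumes an element generating such a subfield
directly, which is what the rest of the printed argument uses.) -/
theorem result
    (K : Type u) [Field K] (p : ℕ) [Fact p.Prime] [CharP K p] (hK : ∀ n : ℕ, 0 < n → (X ^ n - 1 : K[X]).Splits)
    (A : Type v) [DivisionRing A] [Algebra K A] [Algebra.IsCentral K A] [FiniteDimensional K A]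
    (w : A) (hw : w ^ p ∈ (algebraMap K A).range) (hwK : w ∉ (algebraMap K A).range) (N : ℕ) :
    ∃ H : Subgroup Aˣ, (Units.map (algebraMap K A : K →* A)).range ≤ H ∧
      N < ((Units.map (algebraMap K A : K →* A)).range).relIndex H := by
  haveI : Infinite K := by
    by_contra hfin
    haveI : Finite K := not_infinite_iff_finite.mp hfin
    haveI := Fintype.ofFinite K
    have hm : ((Fintype.card K + 1 : ℕ) : K) ≠ 0 := by
      rw [Nat.cast_add, Nat.cast_one, FiniteField.cast_card_eq_zero, zero_add]
      exact one_ne_zero
    have hsep : (X ^ (Fintype.card K + 1) - C (1 : K)).Separable :=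
      separable_X_pow_sub_C 1 hm one_ne_zero
    rw [map_one] at hsep
    have hd := (hK _ (Nat.succ_pos (Fintype.card K))).natDegree_eq_card_roots
    rw [show (X ^ (Fintype.card K + 1) - 1 : K[X]).natDegree = Fintype.card K + 1 by
      rw [← map_one (C : K →+* K[X]), natDegree_X_pow_sub_C]] at hd
    classical
    have h1 := Finset.card_le_univ (X ^ (Fintype.card K + 1) - 1 : K[X]).roots.toFinset
    rw [Multiset.toFinset_card_of_nodup (nodup_roots hsep)] at h1
    simp only [Nat.succ_eq_add_one] at hd
    omega
  let R : Subgroup Aˣ := (Units.map (algebraMap K A : K →* A)).range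
  haveI : R.Normal := ⟨fun x hx g => by
    obtain ⟨r, rfl⟩ := hx
    refine ⟨r, Units.ext ?_⟩
    simp only [Units.val_mul, Units.coe_map, MonoidHom.coe_coe]
    rw [← Algebra.commutes (r : K) (g : A), mul_assoc, Units.mul_inv, mul_one]⟩
  obtain ⟨G, hG, hN⟩ := SBTaut.exists_finite_subgroup p w hw hwK (QuotientGroup.mk' R) (QuotientGroup.ker_mk' R) N
  refine ⟨G.comap (QuotientGroup.mk' R), ?_, ?_⟩
  · exact (QuotientGroup.ker_mk' R).ge.trans (fun x hx => by
      rw [Subgroup.mem_comap, MonoidHom.mem_ker.mp hx]; exact one_mem G)
  · refine lt_of_lt_of_eq hN ?_
    conv_rhs => rw [show (Units.map (algebraMap K A : K →* A)).range = (⊥ : Subgroup (Aˣ ⧸ R)).comap (QuotientGroup.mk' R) by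
      rw [MonoidHom.comap_bot, QuotientGroup.ker_mk']]
    rw [Subgroup.relIndex_comap, Subgroup.map_comap_eq_self_of_surjective (QuotientGroup.mk'_surjective R),
      Subgroup.relIndex_bot_left]

end Groth.Agent.S15173
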