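import Groth.Statements.S15174
import Groth.Agent.TorusFld.Torsion


set_option autoImplicit false
universe u
open CategoryTheory MonoidalCategory CartesianMonoidalCategory MonObj GrpObj AlgebraicGeometry
open BddFin

namespace Groth.Agent.S15174

/-- Let n and d be positive integers with d larger than the order of every finite subgroup of GL_n(ℤ);
let K be a field whose characteristic does not divide d and which contains a primitive d-th root of
unity; let T be a K-group scheme that is an n-dimensional torus (it becomes isomorphic, as a group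
scheme, to the split torus D(ℤ^n) = 𝔾_m^n after some field extension L of K). Write T(K) for the
group of sections Spec K → T. If T(K) has an element of order d, then some homomorphism 𝔾_m → T of
K-group schemes is a monomorphism (T has a subtorus isomorphic to 𝔾_m). -/
theorem result
    (n d : ℕ) (hn : 0 < n) (hd : 0 < d)
    (hΥ : ∀ H : Subgroup (Matrix.GeneralLinearGroup (Fin n) ℤ), Finite H → Nat.card H < d)
    (K : Type u) [Field K] (hdK : (d : K) ≠ 0) (ζ : K) (hζ : IsPrimitiveRoot ζ d)
    (T : Over (Spec (CommRingCat.of K))) [GrpObj T]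
    (hT : ∃ (L : Type u) (_ : Field L) (_ : Algebra K L),
      Red.IsSplitTorusWith (Fin n → ℤ) (Red.bc (Spec.map (CommRingCat.ofHom (algebraMap K L))) T))
    (x : 𝟙_ (Over (Spec (CommRingCat.of K))) ⟶ T) (hx : orderOf x = d) :
    ∃ i : Red.Gm (Spec (CommRingCat.of K)) ⟶ T, IsMonHom i ∧ Mono i := by
  classical
  obtain ⟨D⟩ := Groth.Agent.TorusFld.exists_ptData n T hT
  haveI := D.finH
  letI : Fintype D.H := Fintype.ofFinite D.H
  by_contra hno
  have htr : ∀ m : Fin n → ℤ, ∑ h : D.H, Matrix.mulVec ((h : Matrix.GeneralLinearGroup (Fin n) ℤ) : Matrix (Fin n) (Fin n) ℤ) m = 0 :=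
    fun m => by_contra fun hm => hno (D.mono m hm)
  have h := D.pow_card_eq_one htr hd (hx ▸ pow_orderOf_eq_one x) (Polynomial.X_pow_sub_one_splits hζ)
  have h2 := Nat.le_of_dvd Fintype.card_pos (hx ▸ orderOf_dvd_of_pow_eq_one h)
  have h3 := hΥ D.H D.finH
  rw [Nat.card_eq_fintype_card] at h3
  omega

end Groth.Agent.S15174
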