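import Groth.Statements.S15175
import Groth.Agent.TorusFld.Torsion


set_option autoImplicit false
universe u
open CategoryTheory MonoidalCategory CartesianMonoidalCategory MonObj GrpObj AlgebraicGeometry
open Polynomial
open BddFin

namespace Groth.Agent.S15175

/-- Let K be a field such that K contains all roots of unity (for every n ≥ 1 the polynomial X^n − 1
splits into linear factors over K), and T a K-group scheme that is an n-dimensional torus (it
becomes isomorphic, as a group scheme, to the split torus D(ℤ^n) = 𝔾_m^n after some field extension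
L of K) and is anisotropic (no homomorphism 𝔾_m → T of K-group schemes is a monomorphism, i.e. T
contains no subtorus isomorphic to 𝔾_m); T(K) is the group of sections Spec K → T. Then a torsion
element of T(K) has order invertible in K (prime to the characteristic) and at most |H| for some
finite subgroup H of GL_n(ℤ) (that is, at most Υ(n), the largest such order), and a finite subgroup
of T(K) has at most |H| ^ n elements for some finite subgroup H of GL_n(ℤ) (at most Υ(n) ^ n). (The
published corollary also records that a finite subgroup of T(K) has order prime to the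
characteristic; that follows from the first clause applied to its elements of prime order and is not
restated.) -/
theorem result
    (K : Type u) [Field K] (hK : ∀ n : ℕ, 0 < n → (X ^ n - 1 : K[X]).Splits) (n : ℕ)
    (T : Over (Spec (CommRingCat.of K))) [GrpObj T]
    (hT : ∃ (L : Type u) (_ : Field L) (_ : Algebra K L),
      Red.IsSplitTorusWith (Fin n → ℤ) (Red.bc (Spec.map (CommRingCat.ofHom (algebraMap K L))) T))
    (haniso : ∀ i : Red.Gm (Spec (CommRingCat.of K)) ⟶ T, IsMonHom i → Mono i → False) :
    (∀ x : 𝟙_ (Over (Spec (CommRingCat.of K))) ⟶ T, IsOfFinOrder x →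
        ((orderOf x : ℕ) : K) ≠ 0 ∧
        ∃ H : Subgroup (Matrix.GeneralLinearGroup (Fin n) ℤ), Finite H ∧ orderOf x ≤ Nat.card H) ∧
    (∀ G : Subgroup (𝟙_ (Over (Spec (CommRingCat.of K))) ⟶ T), Finite G →
        ∃ H : Subgroup (Matrix.GeneralLinearGroup (Fin n) ℤ), Finite H ∧ Nat.card G ≤ Nat.card H ^ n) := by
  classical
  obtain ⟨D⟩ := Groth.Agent.TorusFld.exists_ptData n T hT
  haveI := D.finH
  letI : Fintype D.H := Fintype.ofFinite D.H
  have htr : ∀ m : Fin n → ℤ, ∑ h : D.H, Matrix.mulVec ((h : Matrix.GeneralLinearGroup (Fin n) ℤ) : Matrix (Fin n) (Fin n) ℤ) m = 0 :=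
    fun m => by_contra fun hm => let ⟨i, hi, hi'⟩ := D.mono m hm; haniso i hi hi'
  have key : ∀ x : 𝟙_ (Over (Spec (CommRingCat.of K))) ⟶ T, IsOfFinOrder x → x ^ Fintype.card D.H = 1 := fun x hx =>
    D.pow_card_eq_one htr hx.orderOf_pos (pow_orderOf_eq_one x) (hK _ hx.orderOf_pos)
  refine ⟨fun x hx => ⟨D.natCast_orderOf_ne_zero x hx, D.H, D.finH, ?_⟩, fun G hG => ⟨D.H, D.finH, ?_⟩⟩
  · rw [Nat.card_eq_fintype_card]
    exact Nat.le_of_dvd Fintype.card_pos (orderOf_dvd_of_pow_eq_one (key x hx))
  · rw [Nat.card_eq_fintype_card (α := D.H)]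
    exact D.card_le G Fintype.card_pos (fun x hx => key x (isOfFinOrder_iff_pow_eq_one.2 ⟨orderOf (⟨x, hx⟩ : G), orderOf_pos _, congrArg Subtype.val (pow_orderOf_eq_one (⟨x, hx⟩ : G))⟩)) hG

end Groth.Agent.S15175
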