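import Groth.Statements.S15176
import Groth.Agent.TorusFld.Torsion
import Groth.Agent.TorusFld.GL2


set_option autoImplicit false
universe u
open CategoryTheory MonoidalCategory CartesianMonoidalCategory MonObj GrpObj AlgebraicGeometry
open Polynomial
open BddFin

namespace Groth.Agent.S15176

/-- Let K be a field such that K contains all roots of unity (for every n ≥ 1 the polynomial X^n − 1
splits into linear factors over K), and T a K-group scheme that is a 2-dimensional torus (it becomes
isomorphic, as a group scheme, to the split torus D(ℤ^2) = 𝔾_m^2 after some field extension L of K)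
and is anisotropic (no homomorphism 𝔾_m → T of K-group schemes is a monomorphism, i.e. T contains no
subtorus isomorphic to 𝔾_m); T(K) is the group of sections Spec K → T. Then torsion elements of T(K)
have order ≤ 6, and finite subgroups of T(K) have at most 36 elements. -/
theorem result
    (K : Type u) [Field K] (hK : ∀ n : ℕ, 0 < n → (X ^ n - 1 : K[X]).Splits)
    (T : Over (Spec (CommRingCat.of K))) [GrpObj T]
    (hT : ∃ (L : Type u) (_ : Field L) (_ : Algebra K L),
      Red.IsSplitTorusWith (Fin 2 → ℤ) (Red.bc (Spec.map (CommRingCat.ofHom (algebraMap K L))) T))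
    (haniso : ∀ i : Red.Gm (Spec (CommRingCat.of K)) ⟶ T, IsMonHom i → Mono i → False) :
    (∀ x : 𝟙_ (Over (Spec (CommRingCat.of K))) ⟶ T, IsOfFinOrder x → orderOf x ≤ 6) ∧
    (∀ G : Subgroup (𝟙_ (Over (Spec (CommRingCat.of K))) ⟶ T), Finite G → Nat.card G ≤ 36) := by
  classical
  obtain ⟨D⟩ := Groth.Agent.TorusFld.exists_ptData 2 T hT
  haveI := D.finH
  letI : Fintype D.H := Fintype.ofFinite D.H
  have htr : ∀ m : Fin 2 → ℤ, ∑ h : D.H, Matrix.mulVec ((h : Matrix.GeneralLinearGroup (Fin 2) ℤ) : Matrix (Fin 2) (Fin 2) ℤ) m = 0 :=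
    fun m => by_contra fun hm => let ⟨i, hi, hi'⟩ := D.mono m hm; haniso i hi hi'
  obtain ⟨h, hh, hpos, hle⟩ := Groth.Agent.TorusFld.exists_small_det D.H htr
  have key : ∀ x : 𝟙_ (Over (Spec (CommRingCat.of K))) ⟶ T, IsOfFinOrder x → x ^ ((h : Matrix (Fin 2) (Fin 2) ℤ) - 1).det.natAbs = 1 := fun x hx =>
    D.pow_det_eq_one hx.orderOf_pos (pow_orderOf_eq_one x) (hK _ hx.orderOf_pos) hh
  refine ⟨fun x hx => ?_, fun G hG => ?_⟩
  · have := Nat.le_of_dvd hpos (orderOf_dvd_of_pow_eq_one (key x hx))
    omega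
  · have h1 := D.card_le G hpos (fun x hx => key x (isOfFinOrder_iff_pow_eq_one.2 ⟨orderOf (⟨x, hx⟩ : G), orderOf_pos _, congrArg Subtype.val (pow_orderOf_eq_one (⟨x, hx⟩ : G))⟩)) hG
    have h2 := Nat.pow_le_pow_left hle 2
    omega

end Groth.Agent.S15176
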