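import Groth.Statements.S15177
import Groth.Agent.S7960
import Groth.Agent.Comod.Basic
import Groth.Prelude.Def_ComodSub
import Mathlib.RingTheory.Nilpotent.Basic


set_option autoImplicit false
universe u v
open BddFin

namespace Groth.Agent.S15177

/-- Let K be a field and Γ a unipotent linear algebraic group over K, given here by its coordinate Hopf
algebra A (a finitely generated, formally smooth commutative Hopf algebra over K all of whose
non-zero finite-dimensional comodules have a non-zero fixed vector). Then the group Γ(K) of K-points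
(K-algebra maps A → K under convolution) has no non-trivial element of finite order coprime to the
characteristic of K: an element of finite order whose order is non-zero in K is the identity. -/
theorem result
    (K : Type u) [Field K] (A : Type v) [CommRing A] [HopfAlgebra K A] [Algebra.FiniteType K A]
    [Algebra.FormallySmooth K A] (hU : HopfRep.IsUnipotent K A)
    (g : WithConv (A →ₐ[K] K)) (hg : IsOfFinOrder g) (hcop : ((orderOf g : ℕ) : K) ≠ 0) : g = 1 := by
  classical
  set N := orderOf g
  let T : A →ₗ[K] A := Groth.Agent.Comod.contract (k := K) (A := A) (V := A) g.ofConv.toLinearMap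
  have hlin : ∀ f₁ f₂ : WithConv (A →ₐ[K] K), (f₁ * f₂).ofConv.toLinearMap =
      (WithConv.toConv f₁.ofConv.toLinearMap * WithConv.toConv f₂.ofConv.toLinearMap).ofConv := fun f₁ f₂ => rfl
  have hone : (1 : WithConv (A →ₐ[K] K)).ofConv.toLinearMap = Coalgebra.counit (R := K) (A := A) := by
    ext a
    simp
  have hpow : ∀ n : ℕ, ∀ a : A, (T ^ n) a = Groth.Agent.Comod.contract (k := K) (A := A) (g ^ n).ofConv.toLinearMap a := by
    intro n
    induction n with
    | zero => intro a; rw [pow_zero, pow_zero, hone, Groth.Agent.Comod.contract_counit]; rfl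
    | succ n ih =>
      intro a
      rw [pow_succ, pow_succ, Module.End.mul_apply, ih, hlin, ← Groth.Agent.Comod.contract_contract]
  have hTN : T ^ N = 1 := by
    ext a
    rw [hpow, pow_orderOf_eq_one, hone, Groth.Agent.Comod.contract_counit]
    rfl
  suffices h : ∀ a : A, T a = a by
    refine WithConv.ofConv_injective (AlgHom.ext fun a => ?_)
    have h' := congrArg (Coalgebra.counit (R := K) (A := A)) (h a)
    have hc : ∀ x : TensorProduct K A A, Coalgebra.counit (R := K) (A := A) (Groth.Agent.Comod.slice g.ofConv.toLinearMap x) =
        g.ofConv.toLinearMap ((TensorProduct.lid K A) ((Coalgebra.counit (R := K) (A := A)).rTensor A x)) := by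
      intro x
      induction x using TensorProduct.induction_on with
      | zero => simp
      | add u v hu hv => simp only [map_add, hu, hv]
      | tmul u v => simp [mul_comm]
    rw [show T a = Groth.Agent.Comod.slice g.ofConv.toLinearMap (Coalgebra.comul (R := K) a) from rfl, hc,
      Coalgebra.rTensor_counit_comul] at h'
    simpa using h'
  intro a
  obtain ⟨U, hUf, hSU, hUsub⟩ := Groth.Agent.Comod.exists_finite_subcomod (k := K) (A := A) (V := A) {a}
  letI cU : HopfRep.Comod K A U := ComodSub.Comod.restr (HopfRep.Comod.regular K A) U hUsub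
  obtain ⟨m, F, -, h0, hm, -, hF⟩ := (Groth.Agent.S7960.result K A).1 hU U hUf
  let TU : Module.End K U := Groth.Agent.Comod.contract (k := K) (A := A) (V := U) g.ofConv.toLinearMap
  have hsub : ∀ x : U, (TU x : A) = T x := fun x =>
    Groth.Agent.Comod.map_contract (ComodSub.isComodHom_subtype (HopfRep.Comod.regular K A) U hUsub) _ x
  have hstep : ∀ i, ∀ v ∈ F (i + 1), (TU - 1) v ∈ F i := by
    intro i v hv
    have h := Groth.Agent.Comod.slice_mem_of_mem_range g.ofConv.toLinearMap (F i) (hF i v hv)
    rw [map_sub, Groth.Agent.Comod.slice_tmul] at h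
    simpa [TU, Groth.Agent.Comod.contract_apply] using h
  have hnil : ∀ i, ∀ v ∈ F i, ((TU - 1) ^ i) v = 0 := by
    intro i
    induction i with
    | zero => intro v hv; rw [h0, Submodule.mem_bot] at hv; simp [hv]
    | succ i ih => intro v hv; rw [pow_succ, Module.End.mul_apply]; exact ih _ (hstep i v hv)
  set u : Module.End K U := TU - 1 with hu
  have hu0 : IsNilpotent u := ⟨m, LinearMap.ext fun v => hnil m v (by rw [hm]; trivial)⟩
  have hTUN : TU ^ N = 1 := by
    have key : ∀ n : ℕ, ∀ x : U, ((TU ^ n) x : A) = (T ^ n) x := by
      intro n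
      induction n with
      | zero => intro x; rfl
      | succ n ih => intro x; rw [pow_succ, pow_succ, Module.End.mul_apply, Module.End.mul_apply, ih, hsub]
    exact LinearMap.ext fun x => Subtype.ext (by rw [key, hTN]; rfl)
  have hexp : ∀ n : ℕ, ∃ y, Commute u y ∧ (1 + u) ^ n = 1 + u * ((n : Module.End K U) + u * y) := by
    intro n
    induction n with
    | zero => exact ⟨0, Commute.zero_right _, by simp⟩
    | succ n ih =>
      obtain ⟨y, hy, hyn⟩ := ih
      refine ⟨y + (n : Module.End K U) + y * u, ((hy.add_right (Nat.cast_commute n u).symm).add_right (hy.mul_right (Commute.refl u))), ?_⟩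
      rw [pow_succ, hyn, Nat.cast_succ]
      simp only [mul_add, add_mul, mul_one, one_mul, mul_assoc]
      rw [(Nat.cast_commute n u).eq]
      abel
  obtain ⟨y, hy, hyN⟩ := hexp N
  rw [show 1 + u = TU from LinearMap.ext fun x => by simp [hu, LinearMap.add_apply, LinearMap.sub_apply], hTUN] at hyN
  replace hyN : u * ((N : Module.End K U) + u * y) = 0 := LinearMap.ext fun x => by
    have := LinearMap.congr_fun hyN x
    rw [LinearMap.add_apply] at this
    exact left_eq_add.1 this
  have hunit : IsUnit ((N : Module.End K U) + u * y) := by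
    refine (hy.isNilpotent_mul_right hu0).isUnit_add_left_of_commute ?_ (Nat.cast_commute N _).symm
    rw [← map_natCast (algebraMap K (Module.End K U))]
    exact (isUnit_iff_ne_zero.2 hcop).map _
  have hu1 : u = 0 := (IsUnit.mul_left_eq_zero hunit).1 hyN
  have := hsub ⟨a, hSU (Finset.mem_singleton_self a)⟩
  rw [show TU = 1 from sub_eq_zero.1 hu1] at this
  exact this.symm

end Groth.Agent.S15177
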