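import Groth.Statements.S15179
import Groth.Agent.PuncP1.Aut
import Mathlib.RingTheory.AdjoinRoot
import Mathlib.Algebra.Polynomial.SpecificDegree

set_option autoImplicit false
universe u
attribute [local instance] MvPolynomial.gradedAlgebra
open BddFin

namespace Groth.Agent.S15179

/-- Let K be a field such that K contains all roots of unity (for every n ≥ 1 the polynomial X^n − 1
splits into linear factors over K). Let q be an irreducible binary quadratic form over K with
non-zero discriminant, so that its zero locus in the projective line over K is a single closed point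
with separable quadratic residue field over K (a pair of distinct conjugate geometric points), and
let U be the complement of that point: the affine curve whose coordinate ring is the ring of
degree-0 fractions f / q ^ k (f a binary form of degree 2k). Then for every finite group G of
K-automorphisms of U (K-linear ring automorphisms of its coordinate ring), every g ∈ G satisfies g ^
2 = 1 and G has at most 4 elements. -/
theorem result
    (K : Type u) [Field K] (hK : ∀ n : ℕ, 0 < n → (Polynomial.X ^ n - 1 : Polynomial K).Splits)
    (q : MvPolynomial (Fin 2) K) (hq : q.IsHomogeneous 2) (hirr : Irreducible q)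
    (hdisc : (q.coeff (Finsupp.single 0 1 + Finsupp.single 1 1)) ^ 2 -
      4 * q.coeff (Finsupp.single 0 2) * q.coeff (Finsupp.single 1 2) ≠ 0)
    (G : Subgroup (HomogeneousLocalization.Away (MvPolynomial.homogeneousSubmodule (Fin 2) K) q ≃+* HomogeneousLocalization.Away (MvPolynomial.homogeneousSubmodule (Fin 2) K) q)) [Finite G]
    (hG : ∀ g ∈ G, ∀ (k : K) (z : HomogeneousLocalization.Away (MvPolynomial.homogeneousSubmodule (Fin 2) K) q), g (k • z) = k • g z) :
    (∀ g ∈ G, g ^ 2 = 1) ∧ Nat.card G ≤ 4 := by
  classical
  set a : K := q.coeff (Finsupp.single 0 2) with ha'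
  set b : K := q.coeff (Finsupp.single 0 1 + Finsupp.single 1 1) with hb'
  set d : K := q.coeff (Finsupp.single 1 2) with hd'
  have hform : q = MvPolynomial.C a * (MvPolynomial.X 0 * MvPolynomial.X 0) +
      MvPolynomial.C b * (MvPolynomial.X 0 * MvPolynomial.X 1) +
      MvPolynomial.C d * (MvPolynomial.X 1 * MvPolynomial.X 1) := by
    ext m
    simp only [MvPolynomial.X, MvPolynomial.monomial_mul, mul_one, MvPolynomial.C_mul_monomial,
      MvPolynomial.coeff_add, MvPolynomial.coeff_monomial, ← Finsupp.single_add]
    by_cases hm : m 0 + m 1 = 2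
    · have h3 : m = Finsupp.single 0 2 ∨ m = Finsupp.single 0 1 + Finsupp.single 1 1 ∨
          m = Finsupp.single 1 2 := by
        rcases (show m 0 = 2 ∨ m 0 = 1 ∨ m 0 = 0 by omega) with h | h | h
        · exact Or.inl (Finsupp.ext fun i => by fin_cases i <;> simp <;> omega)
        · exact Or.inr (Or.inl (Finsupp.ext fun i => by fin_cases i <;> simp <;> omega))
        · exact Or.inr (Or.inr (Finsupp.ext fun i => by fin_cases i <;> simp <;> omega))
      have n1 : Finsupp.single (0 : Fin 2) 2 ≠ Finsupp.single 0 1 + Finsupp.single 1 1 := fun h => by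
        simpa using DFunLike.congr_fun h 0
      have n2 : Finsupp.single (0 : Fin 2) 2 ≠ Finsupp.single 1 2 := fun h => by
        simpa using DFunLike.congr_fun h 0
      have n3 : Finsupp.single (0 : Fin 2) 1 + Finsupp.single 1 1 ≠ Finsupp.single 1 2 := fun h => by
        simpa using DFunLike.congr_fun h 0
      rcases h3 with rfl | rfl | rfl <;> simp [a, b, d, n1, n2, n3, n1.symm, n2.symm, n3.symm]
    · have hz : q.coeff m = 0 := by
        apply hq.coeff_eq_zero
        simpa [Finsupp.degree_eq_sum, Fin.sum_univ_two] using hm
      rw [hz]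
      repeat rw [if_neg (fun h => hm (by subst h; simp))]
      simp
  have hnotunit : ∀ p : MvPolynomial (Fin 2) K, ∀ v : Fin 2 → K, MvPolynomial.eval v p = 0 →
      ¬ IsUnit p := fun p v hv hu => by simpa [hv] using hu.map (MvPolynomial.eval v)
  have ha : a ≠ 0 := by
    intro h0
    have : q = MvPolynomial.X 1 * (MvPolynomial.C b * MvPolynomial.X 0 + MvPolynomial.C d * MvPolynomial.X 1) := by
      rw [hform, h0, map_zero]; ring
    rcases hirr.isUnit_or_isUnit this with h | h
    · exact hnotunit _ 0 (by simp) h
    · exact hnotunit _ 0 (by simp) h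
  set s' : K := -(b / a) with hs'
  set n' : K := d / a with hn'
  have hb : b = -(a * s') := by rw [hs']; field_simp
  have hd : d = a * n' := by rw [hn']; field_simp
  let f : Polynomial K := Polynomial.X ^ 2 - Polynomial.C s' * Polynomial.X + Polynomial.C n'
  have hfdeg : f.natDegree = 2 := by simp only [f]; compute_degree!
  have hroot : ∀ r : K, ¬ f.IsRoot r := by
    intro r hr
    have hr' : r ^ 2 - s' * r + n' = 0 := by simpa [f] using hr
    have : q = (MvPolynomial.X 0 - MvPolynomial.C r * MvPolynomial.X 1) *
        (MvPolynomial.C a * (MvPolynomial.X 0 + MvPolynomial.C (r - s') * MvPolynomial.X 1)) := by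
      rw [hform, hb, hd]
      have hc : (MvPolynomial.C (r ^ 2 - s' * r + n') : MvPolynomial (Fin 2) K) = 0 := by rw [hr', map_zero]
      simp only [map_add, map_sub, map_mul, map_neg, map_pow] at hc ⊢
      linear_combination (MvPolynomial.C a * MvPolynomial.X 1 * MvPolynomial.X 1) * hc
    rcases hirr.isUnit_or_isUnit this with h | h
    · exact hnotunit _ 0 (by simp) h
    · exact hnotunit _ 0 (by simp) h
  have : Fact (Irreducible f) := ⟨Polynomial.irreducible_of_degree_le_three_of_not_isRoot
    (by rw [hfdeg]; decide) hroot⟩
  let α : AdjoinRoot f := AdjoinRoot.root f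
  have hα : α ^ 2 - algebraMap K _ s' * α + algebraMap K _ n' = 0 := by
    simpa [α, f, AdjoinRoot.algebraMap_eq] using AdjoinRoot.eval₂_root f
  let β : AdjoinRoot f := algebraMap K _ s' - α
  have hβ : f.eval₂ (algebraMap K (AdjoinRoot f)) β = 0 := by
    simp only [f, Polynomial.eval₂_add, Polynomial.eval₂_sub, Polynomial.eval₂_mul,
      Polynomial.eval₂_pow, Polynomial.eval₂_X, Polynomial.eval₂_C, β]
    linear_combination hα
  let σ : AdjoinRoot f →+* AdjoinRoot f := AdjoinRoot.lift (algebraMap K (AdjoinRoot f)) β hβ
  have hσK : ∀ r : K, σ (algebraMap K _ r) = algebraMap K _ r := fun r => by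
    rw [AdjoinRoot.algebraMap_eq]
    exact AdjoinRoot.lift_of hβ
  have hσα : σ α = β := AdjoinRoot.lift_root hβ
  let D : Groth.Agent.PuncP1.Split K (AdjoinRoot f) :=
    { a := a, s := s', n := n', ha := ha, α := α, β := β
      hne := by
        intro h
        apply hdisc
        have h2 : (α - β) ^ 2 = algebraMap K _ (s' ^ 2 - 4 * n') := by
          simp only [β, map_sub, map_mul, map_pow, map_ofNat]
          linear_combination 4 * hα
        rw [h, sub_self, zero_pow two_ne_zero] at h2
        have h3 := (algebraMap K (AdjoinRoot f)).injective (h2.symm.trans (map_zero _).symm)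
        rw [hb, hd]
        linear_combination (a * a) * h3
      hs := by simp [β]
      hn := by simp only [β]; linear_combination -hα
      σ := σ, hσK := hσK, hσα := hσα
      hσβ := by rw [show β = algebraMap K _ s' - α from rfl, map_sub, hσK, hσα]; simp [β] }
  have hqD : q = D.q := by
    rw [hform, hb, hd, Groth.Agent.PuncP1.Split.q]
    simp only [D, map_neg, map_mul]
    ring
  clear_value a b d
  subst hqD
  exact D.aut_exponent_two hK G hG

end Groth.Agent.S15179
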