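import Groth.Statements.S15180
import Groth.Agent.GaGm.Quotient


set_option autoImplicit false
universe u
open CategoryTheory MonoidalCategory CartesianMonoidalCategory MonObj GrpObj AlgebraicGeometry
open BddFin

namespace Groth.Agent.S15180

/-- Let K be an arbitrary field, G a K-group scheme isomorphic (as a group scheme) to 𝔾_a (additive) or
to 𝔾_m (multiplicative), and H a finite subgroup scheme of G (a monomorphic homomorphism H → G with
H finite over K). Then the quotient G/H is isomorphic to G; equivalently, there is a homomorphism of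
K-group schemes G → G which is flat and surjective and whose kernel is H. -/
theorem result
    (K : Type u) [Field K] (G H : Over (Spec (CommRingCat.of K))) [GrpObj G] [GrpObj H]
    (hG : Nonempty (Grp.mk G ≅ Grp.mk (Red.Ga (Spec (CommRingCat.of K)))) ∨
      Nonempty (Grp.mk G ≅ Grp.mk (Red.Gm (Spec (CommRingCat.of K)))))
    (i : H ⟶ G) [IsMonHom i] [Mono i] [IsFinite H.hom] :
    ∃ φ : G ⟶ G, IsMonHom φ ∧ AlgGrp.IsKernel i φ ∧ Flat φ.left ∧ Surjective φ.left := by
  suffices key : ∀ (G₀ : Over (Spec (CommRingCat.of K))) [GrpObj G₀] (e : Grp.mk G ≅ Grp.mk G₀),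
      (∀ (j : H ⟶ G₀) [IsMonHom j] [Mono j], ∃ φ : G₀ ⟶ G₀, IsMonHom φ ∧ AlgGrp.IsKernel j φ ∧ Flat φ.left ∧ Surjective φ.left) →
      ∃ φ : G ⟶ G, IsMonHom φ ∧ AlgGrp.IsKernel i φ ∧ Flat φ.left ∧ Surjective φ.left by
    rcases hG with ⟨⟨e⟩⟩ | ⟨⟨e⟩⟩
    · exact key _ e fun j _ _ => Groth.Agent.GaGm.exists_ga j
    · exact key _ e fun j _ _ => Groth.Agent.GaGm.exists_gm j
  intro G₀ _ e hk
  let a : G ⟶ G₀ := e.hom.hom.hom
  let b : G₀ ⟶ G := e.inv.hom.hom
  have hab : a ≫ b = 𝟙 G := congr($(e.hom_inv_id).hom.hom)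
  have hba : b ≫ a = 𝟙 G₀ := congr($(e.inv_hom_id).hom.hom)
  haveI : IsIso a := ⟨b, hab, hba⟩
  haveI : IsIso b := ⟨a, hba, hab⟩
  haveI : IsMonHom a := e.hom.hom.isMonHom_hom
  haveI : IsMonHom b := e.inv.hom.isMonHom_hom
  obtain ⟨φ, hφ, hker, hflat, hsurj⟩ := hk (i ≫ a)
  haveI := hφ
  haveI := hflat
  haveI := hsurj
  haveI : IsIso a.left := inferInstanceAs (IsIso ((Over.forget _).map a))
  haveI : IsIso b.left := inferInstanceAs (IsIso ((Over.forget _).map b))
  refine ⟨a ≫ φ ≫ b, inferInstance, ?_, ?_, ?_⟩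
  · refine IsPullback.of_iso hker (Iso.refl H) (asIso b) (Iso.refl _) (asIso b) ?_ ?_ ?_ ?_
    · simp [hab]
    · simp
    · simp [reassoc_of% hba]
    · simp [IsMonHom.one_hom]
  · simp only [Over.comp_left]; infer_instance
  · simp only [Over.comp_left]; infer_instance

end Groth.Agent.S15180
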