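import Groth.Statements.S15181
import Groth.Agent.CylLib.Geo

set_option autoImplicit false
universe u
open CategoryTheory MonoidalCategory CartesianMonoidalCategory MonObj GrpObj AlgebraicGeometry
open BddFin

namespace Groth.Agent.S15181

open CylLib

variable {K : Type u} [Field K] {G : Over (Spec (CommRingCat.of K))} [GrpObj G]

/-- The coordinate of a copy of the additive group. -/
noncomputable def coordGa (i : G ≅ Red.Ga (Spec (CommRingCat.of K))) [IsMonHom i.hom] : Coord G false where
  fn g := Red.gaFn (g ≫ i.hom)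
  fn_comp h g := by rw [Category.assoc, RedPts.ga_comp]
  fn_inj := fun h => (cancel_mono i.hom).1 (RedPts.ga_injective h)
  fn_unit g := by simp [ex]
  exists_fn := fun {T b} _ => by
    obtain ⟨y, hy⟩ := RedPts.ga_surjective (X := T) b
    exact ⟨y ≫ i.inv, by rw [Category.assoc, i.inv_hom_id, Category.comp_id, hy]⟩
  fn_mul g h := (congrArg Red.gaFn (MonObj.mul_comp g h i.hom)).trans (RedPts.ga_mul _ _)
  fn_one := by
    intro T
    refine (congrArg Red.gaFn (MonObj.one_comp (X := T) i.hom)).trans ?_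
    have h := (congrArg Red.gaFn (_root_.mul_one (1 : T ⟶ Red.Ga (Spec (CommRingCat.of K))))).symm.trans
      (RedPts.ga_mul (1 : T ⟶ Red.Ga (Spec (CommRingCat.of K))) 1)
    exact (add_eq_left.1 h.symm)

/-- The coordinate of a copy of the multiplicative group. -/
noncomputable def coordGm (i : G ≅ Red.Gm (Spec (CommRingCat.of K))) [IsMonHom i.hom] : Coord G true where
  fn g := Red.gmFn (g ≫ i.hom)
  fn_comp h g := by rw [Category.assoc, RedPts.gm_comp]
  fn_inj := fun h => (cancel_mono i.hom).1 (RedPts.gm_injective h)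
  fn_unit g := (RedPts.gm_isUnit _).pow _
  exists_fn := fun {T b} hb => by
    obtain ⟨y, hy⟩ := RedPts.gm_surjective (S := Spec (CommRingCat.of K)) (X := T) (c := b) (by simpa [ex] using hb)
    exact ⟨y ≫ i.inv, by rw [Category.assoc, i.inv_hom_id, Category.comp_id, hy]⟩
  fn_mul g h := (congrArg Red.gmFn (MonObj.mul_comp g h i.hom)).trans (RedPts.gm_mul _ _)
  fn_one := by
    intro T
    refine (congrArg Red.gmFn (MonObj.one_comp (X := T) i.hom)).trans ?_
    have h := (congrArg Red.gmFn (_root_.mul_one (1 : T ⟶ Red.Gm (Spec (CommRingCat.of K))))).symm.trans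
      (RedPts.gm_mul (1 : T ⟶ Red.Gm (Spec (CommRingCat.of K))) 1)
    exact ((RedPts.gm_isUnit (1 : T ⟶ Red.Gm (Spec (CommRingCat.of K)))).mul_eq_left.1 h.symm)

theorem main {m : Bool} (cd : Coord G m) (X : Over (Spec (CommRingCat.of K)))
    [IsIntegral X.left] [LocallyOfFiniteType X.hom] [IsSeparated X.hom]
    (a : AlgGrp.Action G X) (ha : a.act ≠ snd G X) :
    ∃ (Y : Over (Spec (CommRingCat.of K))) (_ : IsIntegral Y.left) (_ : LocallyOfFiniteType Y.hom)
      (U : X.left.Opens) (V : (𝔸(ULift.{u} (Fin 1); Y.left)).Opens), (U : Set X.left).Nonempty ∧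
      Nonempty (Over.mk (U.ι ≫ X.hom) ≅
        Over.mk (V.ι ≫ (𝔸(ULift.{u} (Fin 1); Y.left) ↘ Y.left) ≫ Y.hom)) := by
  letI := fAlg X
  obtain ⟨σ, hσ, r, hr⟩ := exists_ratAct cd a (genPt X)
  have hne : r.σ ≠ RatFunc.C := fun h => ha (act_eq_snd cd a fun hu => by
    rw [← hσ hu]
    congr 2
    ext x
    exact RingHom.congr_fun (hr.symm.trans h) x)
  have hK : ∀ x, r.σ (fStr X x) = RatFunc.C (fStr X x) := fun x => by
    rw [hr]; exact (σ.commutes x).trans (ratFunc_algebraMap _ x)
  cases m
  · obtain ⟨s, hs, htop⟩ := exists_slice_add r hne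
    exact cylinder X _ hK s hs htop
  · obtain ⟨s, hs, htop⟩ := exists_slice_mul r hne
    exact cylinder X _ hK s hs htop

/-- Let K be a field, G a K-group scheme isomorphic (as a group scheme) to 𝔾_a or to 𝔾_m, and X an
integral separated K-scheme of finite type with an action of G that is not the trivial action. Then
X is birational over K to ℙ¹ × Y for some K-variety Y: there are an integral K-scheme Y locally of
finite type, a non-empty open subscheme U of X and an open subscheme V of the affine line over Y,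
with U and V isomorphic over K. -/
theorem result
    (K : Type u) [Field K] (G X : Over (Spec (CommRingCat.of K))) [GrpObj G]
    (hG : Nonempty (Grp.mk G ≅ Grp.mk (Red.Ga (Spec (CommRingCat.of K)))) ∨
      Nonempty (Grp.mk G ≅ Grp.mk (Red.Gm (Spec (CommRingCat.of K)))))
    [IsIntegral X.left] [LocallyOfFiniteType X.hom] [QuasiCompact X.hom] [IsSeparated X.hom]
    (a : AlgGrp.Action G X) (ha : a.act ≠ snd G X) :
    ∃ (Y : Over (Spec (CommRingCat.of K))) (_ : IsIntegral Y.left) (_ : LocallyOfFiniteType Y.hom)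
      (U : X.left.Opens) (V : (𝔸(ULift.{u} (Fin 1); Y.left)).Opens), (U : Set X.left).Nonempty ∧
      Nonempty (Over.mk (U.ι ≫ X.hom) ≅
        Over.mk (V.ι ≫ (𝔸(ULift.{u} (Fin 1); Y.left) ↘ Y.left) ≫ Y.hom)) := by
  rcases hG with ⟨⟨e⟩⟩ | ⟨⟨e⟩⟩
  · let i : G ≅ Red.Ga (Spec (CommRingCat.of K)) := (Grp.forget _).mapIso e
    haveI : IsMonHom i.hom := e.hom.hom.isMonHom_hom
    exact main (coordGa i) X a ha
  · let i : G ≅ Red.Gm (Spec (CommRingCat.of K)) := (Grp.forget _).mapIso e
    haveI : IsMonHom i.hom := e.hom.hom.isMonHom_hom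
    exact main (coordGm i) X a ha

end Groth.Agent.S15181
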