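import Groth.Statements.S15183
import Groth.Agent.CSA.CharPDegree
import Mathlib.RingTheory.Polynomial.Cyclotomic.Roots


set_option autoImplicit false
universe u v
open Polynomial
open BddFin

namespace Groth.Agent.S15183

open Groth.Agent.CSA

/-- Let K be a field such that K contains all roots of unity (for every n ≥ 1 the polynomial X^n − 1
splits into linear factors over K), and A a finite-dimensional central simple K-algebra which is not
a division algebra (some non-zero element is not a unit). Then the quotient of the unit group of A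
by that of K has elements of every finite order invertible in K: for every d ≥ 1 with d ≠ 0 in K
there is a unit x of A with x ^ d in K and x ^ k not in K for 0 < k < d. (The published assertion is
phrased for the automorphism group of the Severi–Brauer variety of A, which is isomorphic to the
units of A modulo those of K; this row is the algebra-side statement its proof establishes.) -/
theorem result
    (K : Type u) [Field K] (hK : ∀ n : ℕ, 0 < n → (X ^ n - 1 : K[X]).Splits)
    (A : Type v) [Ring A] [Algebra K A] [Algebra.IsCentral K A] [IsSimpleRing A] [FiniteDimensional K A]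
    (hA : ∃ y : A, y ≠ 0 ∧ ¬ IsUnit y) (d : ℕ) (hd : 0 < d) (hdK : (d : K) ≠ 0) :
    ∃ x : A, IsUnit x ∧ x ^ d ∈ (algebraMap K A).range ∧
      ∀ k : ℕ, 0 < k → k < d → x ^ k ∉ (algebraMap K A).range := by
  classical
  obtain ⟨m, hm, D, _, _, _, _, ⟨e⟩⟩ := Groth.Agent.CSA.exists_algEquiv_matrix_divisionRing K A
  have hm2 : 2 ≤ m := by
    by_contra hlt
    obtain ⟨y, hy0, hy⟩ := hA
    obtain rfl : m = 1 := by have := hm.out; omega
    have hsc : e y = Matrix.scalar (Fin 1) (e y 0 0) := Matrix.ext fun i j => by
      fin_cases i; fin_cases j; simp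
    have h00 : e y 0 0 ≠ 0 := fun h => hy0 ((map_eq_zero_iff e e.injective).1 (hsc.trans (by rw [h, map_zero])))
    have hu : IsUnit (e y) := hsc ▸ (isUnit_iff_ne_zero.2 h00).map (Matrix.scalar (Fin 1))
    exact hy (by simpa using hu.map e.symm)
  obtain ⟨ζ, hζ⟩ : ∃ ζ : K, IsPrimitiveRoot ζ d := by
    have : NeZero (d : K) := ⟨hdK⟩
    have hs : (Polynomial.cyclotomic d K).Splits :=
      (hK d hd).of_dvd (Polynomial.X_pow_sub_C_ne_zero hd 1) (Polynomial.cyclotomic.dvd_X_pow_sub_one d K)
    obtain ⟨ζ, hζ⟩ := hs.exists_eval_eq_zero (Polynomial.degree_cyclotomic_pos d K hd).ne'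
    exact ⟨ζ, Polynomial.isRoot_cyclotomic_iff.1 hζ⟩
  set i0 : Fin m := ⟨0, by omega⟩
  set i1 : Fin m := ⟨1, by omega⟩
  set g : Fin m → K := Function.update 1 i0 ζ with hg
  set M : Matrix (Fin m) (Fin m) D := Matrix.diagonal (fun i => algebraMap K D (g i))
  have hMpow : ∀ j : ℕ, M ^ j = Matrix.diagonal (fun i => algebraMap K D (g i ^ j)) := fun j => by
    rw [Matrix.diagonal_pow]
    congr 1
    funext i
    simp
  have hMd : M ^ d = 1 := by
    rw [hMpow, ← Matrix.diagonal_one]
    congr 1
    funext i
    rcases eq_or_ne i i0 with h | h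
    · simp [hg, h, hζ.pow_eq_one]
    · simp [hg, h]
  refine ⟨e.symm M, ?_, ⟨1, by rw [← map_pow, hMd, map_one, map_one]⟩, fun j hj hjd h => ?_⟩
  · exact (IsUnit.of_pow_eq_one hMd hd.ne').map e.symm
  · obtain ⟨c, hc⟩ := h
    rw [← map_pow, eq_comm, AlgEquiv.symm_apply_eq, AlgEquiv.commutes, hMpow] at hc
    have h0 := congrFun (congrFun hc i0) i0
    have h1 := congrFun (congrFun hc i1) i1
    rw [Matrix.diagonal_apply_eq, Matrix.algebraMap_matrix_apply, if_pos rfl] at h0 h1
    have h01 : i1 ≠ i0 := by simp [i0, i1, Fin.ext_iff]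
    rw [hg, Function.update_self] at h0
    rw [hg, Function.update_of_ne h01, Pi.one_apply, one_pow] at h1
    exact hζ.pow_ne_one_of_pos_of_lt hj.ne' hjd ((algebraMap K D).injective (h0.trans h1.symm))

end Groth.Agent.S15183
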