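import Groth.Statements.S15185
import Groth.Agent.CSA.RedCharpoly
import Mathlib.Data.Nat.Factorization.Basic
import Mathlib.Algebra.CharP.Frobenius
import Mathlib.RingTheory.Coprime.Lemmas


set_option autoImplicit false
universe u v
open Polynomial
open BddFin

namespace Groth.Agent.S15185

open Groth.Agent.CSA

/-- Let K be a field of characteristic p > 0 such that K contains all roots of unity (for every n ≥ 1
the polynomial X^n − 1 splits into linear factors over K), A a central division algebra of dimension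
n ^ 2 over K, and write n = n' · p ^ m with n' prime to p; let N be the reduced norm of A. Consider
the kernel of the homomorphism from the units of A modulo those of K to Kˣ/(Kˣ)^(p^m) induced by N.
Every element of finite order of that kernel has order dividing n': if x ≠ 0 in A has x ^ r in K for
some r ≥ 1 and N x is a (p ^ m)-th power of a non-zero element of K, then x ^ n' lies in K. -/
theorem result
    (K : Type u) [Field K] (p : ℕ) [Fact p.Prime] [CharP K p] (hK : ∀ n : ℕ, 0 < n → (X ^ n - 1 : K[X]).Splits)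
    (A : Type v) [DivisionRing A] [Algebra K A] [Algebra.IsCentral K A] [FiniteDimensional K A]
    (n n' m : ℕ) (hA : Module.finrank K A = n ^ 2) (hn : n = n' * p ^ m) (hn' : ¬ p ∣ n')
    (N : A →* K) (hN : CSAGal.IsRedNorm K A N)
    (x : A) (hx : x ≠ 0) (hxr : ∃ r : ℕ, 0 < r ∧ x ^ r ∈ (algebraMap K A).range)
    (hNx : ∃ b : K, b ≠ 0 ∧ N x = b ^ (p ^ m)) :
    x ^ n' ∈ (algebraMap K A).range := by
  classical
  obtain ⟨s, hs, hxs⟩ := hxr
  obtain ⟨b, hb, hNb⟩ := hNx
  have hdeg : deg K A = n := deg_eq_of_finrank K A hA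
  obtain ⟨r, a, hr, hrd, hmin, hchar⟩ := exists_binomial_minpoly hK hx hs hxs
  rw [hdeg] at hrd
  have hp : p.Prime := Fact.out
  have hxr' : x ^ r = algebraMap K A a := by
    have h := minpoly.aeval K x
    rwa [hmin, map_sub, map_pow, Polynomial.aeval_X, Polynomial.aeval_C, sub_eq_zero] at h
  by_cases hpr : p ∣ r
  swap
  · obtain ⟨t, ht⟩ : r ∣ n' := ((Nat.Coprime.pow_left m ((hp.coprime_iff_not_dvd).2 hpr)).symm).dvd_of_dvd_mul_right (hn ▸ hrd)
    exact ⟨a ^ t, by rw [ht, pow_mul, hxr', map_pow]⟩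
  exfalso
  have hn0 : n ≠ 0 := fun h => by
    have := Module.finrank_pos (R := K) (M := A)
    simp [hA, h] at this
  obtain ⟨t, ht⟩ := hrd
  have ht0 : t ≠ 0 := fun h => hn0 (by rw [ht, h, mul_zero])
  obtain ⟨j, t', hp't, htj⟩ := Nat.exists_eq_pow_mul_and_not_dvd ht0 p hp.ne_one
  -- the reduced norm
  obtain ⟨f, hf⟩ := exists_hom_of_isRedNorm hN
  have hNa : N x = (-1 : K) ^ n * (-a) ^ t := by
    refine (algebraMap K (AlgebraicClosure K)).injective ?_
    rw [hf, Matrix.det_eq_sign_charpoly_coeff, hchar f, Polynomial.coeff_map, Fintype.card_fin, hdeg, ht,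
      Nat.mul_div_cancel_left t hr, Polynomial.coeff_zero_eq_eval_zero]
    simp [hr.ne']
  -- `a` is a `p`-th power up to sign
  have hjm : j < m := by
    by_contra hle
    have h1 : p ^ (m + 1) ∣ n := by
      rw [ht]
      exact (pow_succ' p m ▸ Nat.mul_dvd_mul hpr (Nat.pow_dvd_pow p (not_lt.1 hle) |>.trans ⟨t', htj⟩))
    rw [hn, pow_succ'] at h1
    exact hn' ((Nat.mul_dvd_mul_iff_right (pow_pos hp.pos m)).1 h1)
  obtain ⟨l, hl⟩ : ∃ l, m = j + (l + 1) := ⟨m - j - 1, by omega⟩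
  have hneg : ∀ i : ℕ, (-1 : K) ^ (p ^ i) = -1 := fun i => by rw [← iterateFrobenius_def, map_neg, map_one]
  have hroot : ((-1 : K) ^ n * (-1) ^ t' * a ^ t') ^ (p ^ j) = (b ^ (p ^ (l + 1))) ^ (p ^ j) := by
    have e1 : (b ^ (p ^ (l + 1))) ^ (p ^ j) = N x := by
      rw [hNb, ← pow_mul, ← pow_add, hl, Nat.add_comm]
    rw [e1, hNa, htj, mul_pow, mul_pow, pow_right_comm _ n, hneg, pow_right_comm _ t', hneg, pow_mul,
      neg_pow a (p ^ j), hneg, mul_pow, pow_right_comm a, mul_assoc]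
  have h2 : (-1 : K) ^ n * (-1) ^ t' * a ^ t' = b ^ (p ^ (l + 1)) :=
    iterateFrobenius_inj K p j (by simpa only [iterateFrobenius_def] using hroot)
  have ha0 : a ≠ 0 := fun h => by
    rw [h, map_zero] at hxr'
    exact hx (eq_zero_of_pow_eq_zero hxr')
  obtain ⟨c, hc⟩ : ∃ c : K, a = c ^ p := by
    set d : K := (-1) ^ n * (-1) ^ t' * b ^ p ^ l
    have hd : a ^ t' = d ^ p := by
      simp only [d, mul_pow, ← pow_mul b, ← pow_succ, ← h2]
      have h1 : ((-1 : K) ^ n) ^ p * ((-1 : K) ^ n) = 1 := by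
        rw [pow_right_comm, show (-1 : K) ^ p = -1 by rw [← frobenius_def, map_neg, map_one], ← mul_pow, neg_one_mul, neg_neg, one_pow]
      have h3 : ((-1 : K) ^ t') ^ p * ((-1 : K) ^ t') = 1 := by
        rw [pow_right_comm, show (-1 : K) ^ p = -1 by rw [← frobenius_def, map_neg, map_one], ← mul_pow, neg_one_mul, neg_neg, one_pow]
      linear_combination -(a ^ t' * ((-1 : K) ^ t') ^ p * (-1 : K) ^ t') * h1 - a ^ t' * h3
    have hco : Nat.Coprime t' p := ((hp.coprime_iff_not_dvd).2 hp't).symm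
    refine ⟨d ^ (Nat.gcdA t' p) * a ^ (Nat.gcdB t' p), ?_⟩
    rw [mul_pow, ← zpow_natCast (d ^ _), ← zpow_natCast (a ^ Nat.gcdB t' p), ← zpow_mul, ← zpow_mul,
      mul_comm (Nat.gcdA t' p), zpow_mul, zpow_natCast, ← hd, ← zpow_natCast, ← zpow_mul, ← zpow_add₀ ha0,
      mul_comm (Nat.gcdB t' p), ← Nat.gcd_eq_gcd_ab, hco, Nat.cast_one, zpow_one]
  have hirr : Irreducible (X ^ r - C a : K[X]) := hmin ▸ minpoly.irreducible (Algebra.IsIntegral.isIntegral x)
  obtain ⟨r1, rfl⟩ := hpr
  rw [hc, C_pow, mul_comm p r1, pow_mul, ← sub_pow_char] at hirr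
  exact not_irreducible_pow hp.ne_one hirr

end Groth.Agent.S15185
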