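import Groth.Statements.S15189
import Groth.Agent.SBTaut.AutGroup
import Groth.Agent.SBTaut.Unbounded

set_option autoImplicit false
universe u
open CategoryTheory CategoryTheory.Limits AlgebraicGeometry
open BddFin

namespace Groth.Agent.S15189

open Groth.Agent in

/-- Let p be 2 or 3, k an infinite field of characteristic p, A a central simple k-algebra of dimension
p², and X → Spec k the Severi–Brauer variety of A (X represents the functor of left ideals of A with
projective quotient of corank p² − p; X has dimension p − 1). Then the group of automorphisms of X
over k has unbounded finite subgroups: for every N it has a finite subgroup of order greater than N. -/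
theorem result
    (k : Type u) [Field k] [Infinite k] (p : ℕ) [Fact p.Prime] [CharP k p] (hp : p = 2 ∨ p = 3)
    (A : Type u) [Ring A] [Algebra k A] [Algebra.IsCentral k A] [IsSimpleRing A]
    (hA : Module.finrank k A = p * p)
    {X : Scheme.{u}} (f : X ⟶ Spec (CommRingCat.of k)) (hX : BrSev.IsSBOf k A (p * p - p) f) (N : ℕ) :
    ∃ G : Subgroup (Aut (Over.mk f)), Finite G ∧ N < Nat.card G := by
  obtain ⟨ξ, -, hker⟩ := SBTaut.exists_aut_hom (Fact.out : p.Prime).pos hA hX
  obtain ⟨w, hw, hwk⟩ := SBTaut.exists_insep p hp hA
  exact SBTaut.exists_finite_subgroup p w hw hwk ξ hker N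

end Groth.Agent.S15189
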