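import Groth.Statements.S15217
import Groth.Agent.HilbPolyX.Sheaf
import Groth.Agent.S15222
-- import your own Groth.Agent.* helpers here

set_option autoImplicit false
open CategoryTheory CategoryTheory.Limits AlgebraicGeometry Polynomial
universe u
open ShStab

namespace Groth.Agent.S15217

/-- Let X be a scheme proper over a field k with an ample invertible sheaf L, all Hilbert polynomials
being taken with respect to L, and let d ≥ 1. For an O_X-module E the following are equivalent: (i)
E is semistable of dimension d in the sense of Gieseker, i.e. coherent, nonzero, pure of dimension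
d, with reduced Hilbert polynomial p(F) ≤ p(E) for every nonzero proper coherent submodule F; (ii) E
is ℓ-semistable of dimension d for ℓ = d, i.e. coherent, nonzero, pure of dimension d, and for every
coherent submodule F whose multiplicity satisfies 0 < α_d(F) < α_d(E) the reduced d-truncated
Hilbert polynomials (all coefficients α_{d-1}/α_d, …, α_0/α_d, compared lexicographically) satisfy
p_d(F) ≤ p_d(E). (The published remark is made for coherent sheaves on a connected smooth projective
variety with a very ample polarisation and records no argument; this row states the equivalence for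
X proper over any field with L ample.) -/
theorem result (k : Type u) [Field k] (X : Scheme.{u})
    [X.Over (Spec (CommRingCat.of k))] [IsProper (X ↘ Spec (CommRingCat.of k))]
    (L : X.Modules) (hL : CohB1.IsAmple L) (d : ℕ) (hd : 1 ≤ d) (E : X.Modules) :
    ShStab.IsSemistable k X L E d ↔ ShStab.IsEllSemistable k X L E d d := by
  open Groth.Agent.HilbPolyX in
  refine ⟨fun h => Groth.Agent.S15222.result k X L hL d d hd le_rfl E h, fun ⟨hc, h0, hp, hS⟩ => ?_⟩
  refine ⟨hc, h0, hp, fun F ι hι hF hz hi pF pE hpF hpE => ?_⟩
  rw [eq_hilb k hL hF hpF, eq_hilb k hL hc hpE]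
  have hdE := dim_of_isPure hc h0 hp
  have hdF := hp F ι hι hF hz
  have haF := alpha_hilb_pos k hL hF hdF
  have hdC := dim_le_of_epi (cokernel.π ι) hdE.le
  have hC := isCoh_of_monoCokernel ι hF hc
  have hadd := hilb_mono k hL ι hF hc
  have haC := alpha_hilb_nonneg k hL hC hdC
  rcases haC.eq_or_lt with h | h
  · have hCnn := polyLE_smul haF.le (hilb_nonneg k hL hC)
    rw [smul_zero] at hCnn
    rw [hadd]
    refine (show StabCat.PolyLE _ _ from ?_)
    rw [alpha_add, ← h, add_zero, smul_add]
    rw [polyLE_iff, sub_zero] at hCnn
    rw [polyLE_iff, add_sub_cancel_left]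
    exact hCnn
  · have hlt : StabCat.alpha d (hilb k L F) < StabCat.alpha d (hilb k L E) := by
      rw [hadd, alpha_add]; linarith
    have := hS F ι hι hF _ _ (isHilbPoly_hilb k hL hF) (isHilbPoly_hilb k hL hc) haF hlt
    rwa [topPart_self d (natDegree_hilb_le k hL hF hdF.le),
      topPart_self d (natDegree_hilb_le k hL hc hdE.le)] at this

end Groth.Agent.S15217
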