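import Groth.Statements.S15218
import Groth.Agent.HilbPolyX.Sheaf
-- import your own Groth.Agent.* helpers here

set_option autoImplicit false
open CategoryTheory CategoryTheory.Limits AlgebraicGeometry Polynomial
universe u
open ShStab

namespace Groth.Agent.S15218

/-- Let X be a scheme proper over a field k with an ample invertible sheaf L, all Hilbert polynomials
being taken with respect to L, and let d ≥ 1. For an O_X-module E the following are equivalent: (i)
E is stable of dimension d in the sense of Gieseker, i.e. coherent, nonzero, pure of dimension d,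
with reduced Hilbert polynomial p(F) < p(E) for every nonzero proper coherent submodule F; (ii) E is
ℓ-stable of dimension d for ℓ = d, i.e. coherent, nonzero, pure of dimension d, and p_d(F) < p_d(E)
for the reduced d-truncated Hilbert polynomials of every coherent submodule F whose multiplicity
satisfies 0 < α_d(F) < α_d(E). (The published remark is made for coherent sheaves on a connected
smooth projective variety with a very ample polarisation and records no argument; this row states
the equivalence for X proper over any field with L ample.) -/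
theorem result (k : Type u) [Field k] (X : Scheme.{u})
    [X.Over (Spec (CommRingCat.of k))] [IsProper (X ↘ Spec (CommRingCat.of k))]
    (L : X.Modules) (hL : CohB1.IsAmple L) (d : ℕ) (hd : 1 ≤ d) (E : X.Modules) :
    ShStab.IsStable k X L E d ↔ ShStab.IsEllStable k X L E d d := by
  open Groth.Agent.HilbPolyX in
  constructor
  · rintro ⟨hc, h0, hp, hS⟩
    refine ⟨hc, h0, hp, fun F ι hι hF pF pE hpF hpE ha hlt => ?_⟩
    have hdE := dim_of_isPure hc h0 hp
    rw [eq_hilb k hL hF hpF] at ha hlt ⊢
    rw [eq_hilb k hL hc hpE] at hlt ⊢
    have hz : ¬ IsZero F := fun hz => by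
      rw [hilb_eq_zero_of_isZero k hL hz] at ha
      simp [StabCat.alpha] at ha
    have hi : ¬ IsIso ι := fun hi => by
      rw [hilb_iso k hL (asIso ι) hF] at hlt
      exact lt_irrefl _ hlt
    rw [topPart_self d (natDegree_hilb_le k hL hF (hp F ι hι hF hz).le),
      topPart_self d (natDegree_hilb_le k hL hc hdE.le)]
    exact hS F ι hι hF hz hi _ _ (isHilbPoly_hilb k hL hF) (isHilbPoly_hilb k hL hc)
  rintro ⟨hc, h0, hp, hS⟩
  refine ⟨hc, h0, hp, fun F ι hι hF hz hi pF pE hpF hpE => ?_⟩
  rw [eq_hilb k hL hF hpF, eq_hilb k hL hc hpE]
  have hdE := dim_of_isPure hc h0 hp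
  have hdF := hp F ι hι hF hz
  have haF := alpha_hilb_pos k hL hF hdF
  have hdC := dim_le_of_epi (cokernel.π ι) hdE.le
  have hC := isCoh_of_monoCokernel ι hF hc
  have hadd := hilb_mono k hL ι hF hc
  rcases (alpha_hilb_nonneg k hL hC hdC).eq_or_lt with h | h
  · have hCp := polyLT_smul haF
      (hilb_pos k hL hC fun h => hi (isIso_of_mono_of_cokernel ι h))
    rw [smul_zero] at hCp
    rw [hadd]
    refine (show StabCat.PolyLT _ _ from ?_)
    rw [alpha_add, ← h, add_zero, smul_add]
    rw [polyLT_iff, sub_zero] at hCp
    rw [polyLT_iff, add_sub_cancel_left]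
    exact hCp
  · have hlt : StabCat.alpha d (hilb k L F) < StabCat.alpha d (hilb k L E) := by
      rw [hadd, alpha_add]; linarith
    have := hS F ι hι hF _ _ (isHilbPoly_hilb k hL hF) (isHilbPoly_hilb k hL hc) haF hlt
    rwa [topPart_self d (natDegree_hilb_le k hL hF hdF.le),
      topPart_self d (natDegree_hilb_le k hL hc hdE.le)] at this

end Groth.Agent.S15218
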