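import Groth.Statements.S15225
import Groth.Agent.WeilFin27.Slope
import Groth.Agent.VBLib.Deg
import Groth.Agent.VBLib.LineCalc
import Groth.Agent.FFCurve.Canonical

set_option autoImplicit false
open CategoryTheory CategoryTheory.Limits AlgebraicGeometry MonoidalCategory
open VBCurve
open Groth.Agent Groth.Agent.VBLib

namespace Groth.Agent.S15225

theorem criterion {X : Scheme.{0}} [X.Over (Spec (CommRingCat.of ℂ))] [IsIntegral X] (hX : GoodCurve ℂ X)
    {E : X.Modules} (hE : FlatMod.IsFinLocFreeOfRank 2 E)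
    (T : X.Modules ⥤ X.Modules) [T.Additive] (hEKf : FlatMod.IsFinLocFree (T.obj E))
    (hTmono : ∀ {A B : X.Modules} (f : A ⟶ B) [Mono f], Mono (T.map f))
    (hTse : ∀ {S : ShortComplex X.Modules}, S.ShortExact → (S.map T).ShortExact) :
    (¬ ∀ α : E ⟶ T.obj E, α ≫ T.map α = 0 → α = 0) ↔
      ∃ (L : X.Modules) (j : L ⟶ E), PicF.IsInvertible L ∧ Mono j ∧ PicF.IsInvertible (cokernel j) ∧
        ∃ β : cokernel j ⟶ T.obj L, β ≠ 0 := by
  haveI := hX.isLocallyNoetherian
  constructor
  · intro h
    push Not at h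
    obtain ⟨α, hα, hne⟩ := h
    have hEf := isFinLocFree_of_ofRank hE
    have hEc := isCoh_of_isFinLocFree hEf
    have hEKc := isCoh_of_isFinLocFree hEKf
    have hLf := isFinLocFree_kernel hX.pid α hEf hEKc
    have hIf := isFinLocFree_image hX.pid α hEc hEKf
    obtain ⟨-, hr⟩ := hX.dg_kernel_image α hEc hEKc
    rw [rk_eq hE] at hr
    have h0 : rk (kernel α) ≠ 0 := fun h0 => by
      haveI := mono_of_rk_kernel α hLf h0
      haveI := hTmono α
      exact hne ((cancel_mono (T.map α)).1 (hα.trans zero_comp.symm))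
    have h1 : rk (Abelian.image α) ≠ 0 := fun h1 => hne (eq_zero_of_rk_image α hIf h1)
    let C := cokernel (kernel.ι α)
    let eC : C ≅ Abelian.image α := Abelian.coimageIsoImage α
    have hCf : FlatMod.IsFinLocFree C := KFlat.LocFree.isFinLocFree_of_iso eC.symm hIf
    have hC1 : rk C = 1 :=
      (hX.dg_iso eC (isCoh_of_isFinLocFree hCf) (isCoh_of_isFinLocFree hIf)).2.trans (by omega)
    let α' : C ⟶ T.obj E := cokernel.desc (kernel.ι α) α (kernel.condition α)
    have hπα : cokernel.π (kernel.ι α) ≫ α' = α := cokernel.π_desc _ _ _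
    let S := ShortComplex.mk (kernel.ι α) (Abelian.factorThruImage α)
      ((cancel_mono (Abelian.image.ι α)).mp (by simp))
    have hS : S.ShortExact := by
      refine { exact := ShortComplex.exact_of_f_is_kernel _ ?_ }
      refine KernelFork.IsLimit.ofι' _ _ fun {A} a ha => ⟨kernel.lift α a ?_, kernel.lift_ι _ _ _⟩
      rw [← Abelian.image.fac α, ← Category.assoc]
      exact (congrArg (· ≫ Abelian.image.ι α) ha).trans zero_comp
    have hSK := hTse hS
    haveI := hSK.mono_f
    haveI := hTmono (Abelian.image.ι α)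
    have hz : α' ≫ T.map (Abelian.factorThruImage α) = 0 := by
      rw [← cancel_mono (T.map (Abelian.image.ι α)), zero_comp, Category.assoc, ← T.map_comp, Abelian.image.fac,
        ← cancel_epi (cokernel.π (kernel.ι α)), ← Category.assoc, hπα, hα, comp_zero]
    refine ⟨kernel α, kernel.ι α, LineCalc.isInvertible_of_rk_one hLf (by omega), inferInstance,
      LineCalc.isInvertible_of_rk_one hCf hC1, hSK.exact.lift α' hz, fun hb => hne ?_⟩
    have h2 : hSK.exact.lift α' hz ≫ T.map (kernel.ι α) = α' := hSK.exact.lift_f α' hz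
    rw [← hπα, ← h2, hb]
    exact (congrArg (cokernel.π (kernel.ι α) ≫ ·) zero_comp).trans comp_zero
  · rintro ⟨L, j, -, hj, -, β, hβ⟩ h
    haveI := hTmono j
    refine hβ ?_
    have h0 := h (cokernel.π j ≫ β ≫ T.map j) (by
      have hz : T.map j ≫ T.map (cokernel.π j) = 0 := by rw [← T.map_comp, cokernel.condition, T.map_zero]
      simp only [T.map_comp, Category.assoc]
      rw [reassoc_of% hz, zero_comp, comp_zero, comp_zero])
    rw [← cancel_mono (T.map j), zero_comp, ← cancel_epi (cokernel.π j), comp_zero]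
    exact h0

/-- Let X be a smooth proper integral curve over ℂ of genus at least 2 which is non-hyperelliptic (no
invertible module of degree 2 has two independent global sections), K a module isomorphic to its
sheaf of differentials, and E a slope-stable finite locally free module of rank 2 and degree 0 or 1
(degrees are χ(−) minus rank times χ(O_X)). Call E very stable when every O_X-linear map α : E → E ⊗
K with α ∘ α = 0 (the composite E → E ⊗ K → (E ⊗ K) ⊗ K) is zero; for rank 2 this is the absence of
non-zero nilpotent K-valued endomorphisms. Then E fails to be very stable exactly when E has a line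
subbundle L, i.e. an invertible submodule whose quotient E/L is invertible, together with a non-zero
O_X-linear map E/L → L ⊗ K. (With det E = Λ and L the dual of a line bundle L₀ the space of such
maps is H^0(K ⊗ L₀^{-2} ⊗ Λ^{-1}), which is how the criterion is usually written.) -/
theorem result
    (X : Scheme.{0}) [X.Over (Spec (CommRingCat.of ℂ))] [IsIntegral X]
    [IsProper (X ↘ Spec (CommRingCat.of ℂ))] [Smooth (X ↘ Spec (CommRingCat.of ℂ))]
    (hdim : topologicalKrullDim X = 1) (hg : 2 ≤ Curv2.genus ℂ X)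
    (hnh : ∀ M : X.Modules, PicF.IsInvertible M → Curv2.deg ℂ X M 1 = 2 →
      Module.finrank ℂ (Coh.HH X M 0) ≤ 1)
    (K : X.Modules) (eK : K ≅ Omega.sheaf (X ↘ Spec (CommRingCat.of ℂ)))
    (E : X.Modules) (hE : FlatMod.IsFinLocFreeOfRank 2 E)
    (hdegE : Curv2.deg ℂ X E 2 = 0 ∨ Curv2.deg ℂ X E 2 = 1)
    (hst : ModFun.IsSlopeStable ℂ X E 2) :
    (¬ ∀ α : E ⟶ CohB1.tensorMod E K,
        α ≫ (CohB1.sheafifyMod X).map
          (MonoidalCategoryStruct.whiskerRight (C := CohB1.PMod X) α.val (CohB1.toPMod K)) = 0 → α = 0) ↔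
      ∃ (L : X.Modules) (j : L ⟶ E), PicF.IsInvertible L ∧ Mono j ∧ PicF.IsInvertible (cokernel j) ∧
        ∃ β : cokernel j ⟶ CohB1.tensorMod L K, β ≠ 0 := by
  haveI := FFCurve.regCurve_of_smooth ℂ (X := X) hdim
  have hK : PicF.IsInvertible K := PicCl.isInvertible_of_iso eK.symm (FFCurve.isInvertible_omega ℂ hdim)
  haveI : ((DCoh.tensorBi (X := X)).flip.obj K).Additive := KSMod.additive_tR K
  haveI := (goodCurve_of_smooth (k := ℂ) hdim).isLocallyNoetherian
  have hKf := isFinLocFree_of_ofRank (ofRank_one_of_invertible hK)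
  have h1 : FlatMod.IsFinLocFree (CohB1.tensorMod E K) :=
    KFlat.TensorLocFree.isFinLocFree_tensM (isFinLocFree_of_ofRank hE) hKf
  exact criterion (goodCurve_of_smooth hdim) hE ((DCoh.tensorBi (X := X)).flip.obj K) h1
    (fun f _ => WeilFin27.mono_tens_right hKf f) (fun hS => ProjTwist.shortExact_tensor hK hS)

end Groth.Agent.S15225
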