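import Groth.Statements.S15226
import Groth.Agent.WeilFin27.Slope
import Groth.Agent.VBLib.Deg
import Groth.Agent.FFCurve.Canonical

set_option autoImplicit false
open CategoryTheory CategoryTheory.Limits AlgebraicGeometry MonoidalCategory
open VBCurve
open Groth.Agent Groth.Agent.VBLib

namespace Groth.Agent.S15226

/-- Let X be a smooth proper integral curve over ℂ of genus at least 2 which is non-hyperelliptic, K a
module isomorphic to its sheaf of differentials, and E a slope-stable finite locally free module of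
rank 2 and degree 0 or 1 which is very stable: every O_X-linear α : E → E ⊗ K with α ∘ α = 0 (as a
map E → (E ⊗ K) ⊗ K) vanishes. Let L be an invertible module occurring as a line subbundle of E of
maximal degree (a monomorphism L → E with invertible quotient exists, and every invertible module
mapping monomorphically into E has degree at most deg L). Then for every non-zero s : L → E and
every non-zero t : E → L ⊗ K the composite L → E → L ⊗ K is non-zero; in other words the pairing
Hom(L, E) × Hom(E, L ⊗ K) → Hom(L, L ⊗ K) ≅ H^0(K) vanishes on no pair of non-zero elements. -/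
theorem result
    (X : Scheme.{0}) [X.Over (Spec (CommRingCat.of ℂ))] [IsIntegral X]
    [IsProper (X ↘ Spec (CommRingCat.of ℂ))] [Smooth (X ↘ Spec (CommRingCat.of ℂ))]
    (hdim : topologicalKrullDim X = 1) (hg : 2 ≤ Curv2.genus ℂ X)
    (hnh : ∀ M : X.Modules, PicF.IsInvertible M → Curv2.deg ℂ X M 1 = 2 →
      Module.finrank ℂ (Coh.HH X M 0) ≤ 1)
    (K : X.Modules) (eK : K ≅ Omega.sheaf (X ↘ Spec (CommRingCat.of ℂ)))
    (E : X.Modules) (hE : FlatMod.IsFinLocFreeOfRank 2 E)
    (hdegE : Curv2.deg ℂ X E 2 = 0 ∨ Curv2.deg ℂ X E 2 = 1)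
    (hst : ModFun.IsSlopeStable ℂ X E 2)
    (hvs : ∀ α : E ⟶ CohB1.tensorMod E K,
        α ≫ (CohB1.sheafifyMod X).map
          (MonoidalCategoryStruct.whiskerRight (C := CohB1.PMod X) α.val (CohB1.toPMod K)) = 0 → α = 0)
    (L : X.Modules) (hL : PicF.IsInvertible L)
    (hmax : ∃ j : L ⟶ E, Mono j ∧ PicF.IsInvertible (cokernel j) ∧
      ∀ (M : X.Modules) (i : M ⟶ E), PicF.IsInvertible M → Mono i → Curv2.deg ℂ X M 1 ≤ Curv2.deg ℂ X L 1)
    (s : L ⟶ E) (hs : s ≠ 0) (t : E ⟶ CohB1.tensorMod L K) (ht : t ≠ 0) :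
    s ≫ t ≠ 0 := by
  intro hst0
  have hX : GoodCurve ℂ X := goodCurve_of_smooth hdim
  haveI := hX.isLocallyNoetherian
  have hLf := isFinLocFree_of_ofRank (ofRank_one_of_invertible hL)
  have hEf := isFinLocFree_of_ofRank hE
  have hLc := isCoh_of_isFinLocFree hLf
  have hEc := isCoh_of_isFinLocFree hEf
  haveI : Mono s := by
    have hKf := isFinLocFree_kernel hX.pid s hLf hEc
    have hIf := isFinLocFree_image hX.pid s hLc hEf
    obtain ⟨-, h2⟩ := hX.dg_kernel_image s hLc hEc
    rw [rk_eq (ofRank_one_of_invertible hL)] at h2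
    by_cases h0 : rk (kernel s) = 0
    · exact mono_of_rk_kernel s hKf h0
    · exact absurd (eq_zero_of_rk_image s hIf (by omega)) hs
  have hKf : FlatMod.IsFinLocFree K := by
    haveI := FFCurve.regCurve_of_smooth ℂ (X := X) hdim
    exact KFlat.LocFree.isFinLocFree_of_iso eK.symm
      (isFinLocFree_of_ofRank (ofRank_one_of_invertible (FFCurve.isInvertible_omega ℂ hdim)))
  let T := (DCoh.tensorBi (X := X)).flip.obj K
  have hzero : T.map s ≫ T.map t = 0 := by rw [← T.map_comp, hst0, T.map_zero]
  haveI : Mono (T.map s) := WeilFin27.mono_tens_right hKf s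
  have hα : t ≫ T.map s = 0 := by
    refine hvs _ ?_
    show (t ≫ T.map s) ≫ T.map (t ≫ T.map s) = 0
    calc (t ≫ T.map s) ≫ T.map (t ≫ T.map s)
        = t ≫ (T.map s ≫ T.map t) ≫ T.map (T.map s) := by rw [T.map_comp]; simp only [Category.assoc]
      _ = 0 := (congrArg (fun z => t ≫ z ≫ T.map (T.map s)) hzero).trans ((congrArg (t ≫ ·) zero_comp).trans comp_zero)
  exact ht ((cancel_mono (T.map s)).1 (hα.trans zero_comp.symm))

end Groth.Agent.S15226
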