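import Groth.Statements.S15227
import Groth.Agent.VBLib.LineCalc
import Groth.Agent.VBLib.SplitOne

set_option autoImplicit false
open CategoryTheory CategoryTheory.Limits AlgebraicGeometry MonoidalCategory
open VBCurve

namespace Groth.Agent.S15227

/-- Let X be a smooth proper integral curve over ℂ of genus g ≥ 3 which is non-hyperelliptic, K a module
isomorphic to its sheaf of differentials, and N an invertible module of degree g − 1 with H^0(N) =
0, so that the complete linear system of K ⊗ N maps X to a projective space of dimension 2g − 3 as a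
curve of degree 3g − 3. An effective divisor D of degree d, recorded through its invertible ideal
sheaf I ⊂ O_X (of degree −d), is a d-secant when its linear span has dimension d − 2, i.e. h^0(I ⊗ K
⊗ N) = h^0(K ⊗ N) − d + 1. Then there is no (g − 1)-secant: no invertible ideal I ⊂ O_X of degree 1
− g satisfies h^0(I ⊗ K ⊗ N) + (g − 2) = h^0(K ⊗ N). -/
theorem result
    (X : Scheme.{0}) [X.Over (Spec (CommRingCat.of ℂ))] [IsIntegral X]
    [IsProper (X ↘ Spec (CommRingCat.of ℂ))] [Smooth (X ↘ Spec (CommRingCat.of ℂ))]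
    (hdim : topologicalKrullDim X = 1) (hg : 2 ≤ Curv2.genus ℂ X)
    (hnh : ∀ M : X.Modules, PicF.IsInvertible M → Curv2.deg ℂ X M 1 = 2 →
      Module.finrank ℂ (Coh.HH X M 0) ≤ 1)
    (K : X.Modules) (eK : K ≅ Omega.sheaf (X ↘ Spec (CommRingCat.of ℂ)))
    (g : ℕ) (hg3 : 3 ≤ g) (hgen : Curv2.genus ℂ X = g)
    (N : X.Modules) (hN : PicF.IsInvertible N) (hdN : Curv2.deg ℂ X N 1 = (g : ℤ) - 1)
    (h0 : Module.finrank ℂ (Coh.HH X N 0) = 0) :
    ¬ ∃ (I : X.Modules) (ι : I ⟶ Coh.structureModule X),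
        PicF.IsInvertible I ∧ Mono ι ∧ Curv2.deg ℂ X I 1 = -((g : ℤ) - 1) ∧
        Module.finrank ℂ (Coh.HH X (CohB1.tensorMod I (CohB1.tensorMod K N)) 0) + (g - 2) =
          Module.finrank ℂ (Coh.HH X (CohB1.tensorMod K N) 0) := by
  have hX := VBLib.goodCurve_of_smooth (k := ℂ) hdim
  haveI := FFCurve.regCurve_of_smooth ℂ (X := X) hdim
  have hb := VBLib.bijective_toGlobal_of_isAlgClosed (k := ℂ) (X := X)
  have hK : PicF.IsInvertible K := PicCl.isInvertible_of_iso eK.symm (FFCurve.isInvertible_omega (X := X) ℂ hdim)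
  have hKr := VBLib.ofRank_one_of_invertible hK
  have hKd : VBLib.dg ℂ K = 2 * (g : ℤ) - 2 := by
    have hΩr := VBLib.ofRank_one_of_invertible (FFCurve.isInvertible_omega (X := X) ℂ hdim)
    rw [(hX.dg_iso eK (VBLib.isCoh_of_ofRank hKr) (VBLib.isCoh_of_ofRank hΩr)).1, ← VBLib.dg_eq hΩr,
      FFCurve.deg_omega (X := X) ℂ hdim, hgen]
  have hNr := VBLib.ofRank_one_of_invertible hN
  have hNd := (VBLib.dg_eq (k := ℂ) hNr).symm.trans hdN
  obtain ⟨hKNf, hKN1, hKNd⟩ := hX.dg_tensor_line (VBLib.isFinLocFree_of_ofRank hKr) hN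
  rw [VBLib.rk_eq hKr, hKd, hNd] at hKNd
  push_cast at hKNd
  have hKNi := VBLib.LineCalc.isInvertible_of_rk_one hKNf (hKN1.trans (VBLib.rk_eq hKr))
  have hKN0 := hX.finrank_H0_line hKNf (hKN1.trans (VBLib.rk_eq hKr)) (by rw [hgen]; omega)
  rw [hKNd, hgen] at hKN0
  have key : ∀ (I : X.Modules) (ι : I ⟶ Coh.structureModule X), PicF.IsInvertible I → Mono ι →
      VBLib.dg ℂ I = -(VBLib.dg ℂ N) →
      (Module.finrank ℂ (Coh.HH X (CohB1.tensorMod I (CohB1.tensorMod K N)) 0) : ℤ) = g →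
      Nonempty (N ≅ RefHull.dual I) := by
    intro I ι hI hιm hId hh
    have hIr := VBLib.ofRank_one_of_invertible hI
    obtain ⟨hLf, hL1, hLd⟩ := hX.dg_tensor_line (VBLib.isFinLocFree_of_ofRank hIr) hKNi
    rw [VBLib.rk_eq hIr, hId, hKNd, hNd] at hLd
    rw [VBLib.rk_eq hIr] at hL1
    push_cast at hLd
    have hLi := VBLib.LineCalc.isInvertible_of_rk_one hLf hL1
    have hrr := hX.riemannRoch hb (VBLib.isCoh_of_isFinLocFree hLf)
    rw [hh, hL1, hLd, hgen] at hrr
    push_cast at hrr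
    obtain ⟨hD, ⟨d⟩⟩ := VBLib.DualDeg.invertible_dual hLi
    have hΩ := FFCurve.isInvertible_omega (X := X) ℂ hdim
    have hdu := FFCurve.finrank_one_eq_dual (X := X) ℂ hdim hLi ⟨d⟩ hD
    obtain ⟨hMf, hM1, hMd⟩ := hX.dg_tensor_line (VBLib.isFinLocFree_of_ofRank (VBLib.ofRank_one_of_invertible hΩ)) hD
    rw [hX.dg_dual hLf, VBLib.rk_eq (VBLib.ofRank_one_of_invertible hΩ), ← VBLib.dg_eq (VBLib.ofRank_one_of_invertible hΩ),
      FFCurve.deg_omega (X := X) ℂ hdim, hgen, hLd] at hMd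
    rw [VBLib.rk_eq (VBLib.ofRank_one_of_invertible hΩ)] at hM1
    push_cast at hMd
    have hns : Nontrivial (Coh.HH X (CohB1.tensorMod (Omega.sheaf (X ↘ Spec (CommRingCat.of ℂ))) (RefHull.dual (CohB1.tensorMod I (CohB1.tensorMod K N)))) 0) :=
      Module.nontrivial_of_finrank_pos (R := ℂ) (by rw [← hdu]; omega)
    obtain ⟨a⟩ := hX.iso_structure_of_section (VBLib.LineCalc.isInvertible_of_rk_one hMf hM1) (by omega) hns
    obtain ⟨b⟩ := VBLib.LineCalc.cancel hD (d ≪≫ a)
    obtain ⟨c⟩ := VBLib.LineCalc.cancel hK (A := CohB1.tensorMod I N) (B := Coh.structureModule X)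
      (ProjTwist.tensAssoc I N K ≪≫ ProjTwist.tensCongr (Iso.refl I) (ProjTwist.tensComm N K) ≪≫ b ≪≫
        eK.symm ≪≫ (ProjTwist.tensOne K).symm ≪≫ ProjTwist.tensComm K (Coh.structureModule X))
    exact (VBLib.LineCalc.iso_dual_of_inverse hI ⟨ProjTwist.tensComm N I ≪≫ c⟩).2
  have hsec : ∀ (I : X.Modules) (ι : I ⟶ Coh.structureModule X), PicF.IsInvertible I → Mono ι →
      Nonempty (N ≅ RefHull.dual I) → Nontrivial (Coh.HH X N 0) := by
    intro I ι hI hιm ⟨e⟩
    by_contra hn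
    haveI := not_nontrivial_iff_subsingleton.mp hn
    haveI : Subsingleton (Coh.HH X (RefHull.dual I) 0) :=
      (ProperFin.hMap_zero_injective e.inv).subsingleton
    have h0 : ι = 0 := by
      have hh : RefHull.ofHom ι ⊤ = RefHull.ofHom (0 : I ⟶ Coh.structureModule X) ⊤ :=
        (ProperFin.h0Sec _).symm.injective (Subsingleton.elim _ _)
      refine VBLib.Serre.toHom_ext _ _ fun y t => ?_
      exact LinearMap.congr_fun (congrFun (congrArg Subtype.val hh) ⟨y, trivial⟩) t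
    have hz : IsZero I := by
      rw [IsZero.iff_id_eq_zero, ← cancel_mono ι, h0, comp_zero, comp_zero]
    have := VBLib.rk_eq_zero_of_isZero hz
    rw [VBLib.rk_eq (VBLib.ofRank_one_of_invertible hI)] at this
    omega
  rintro ⟨I, ι, hI, hιm, hId, hh⟩
  rw [VBLib.dg_eq (VBLib.ofRank_one_of_invertible hI)] at hId
  haveI := hsec I ι hI hιm (key I ι hI hιm (by rw [hId, hNd]) (by omega))
  haveI := CurveCoh.finite_HH_zero (k := ℂ) N hX.val hX.dim (VBLib.isCoh_of_ofRank hNr)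
  have := Module.finrank_pos (R := ℂ) (M := Coh.HH X N 0)
  omega

end Groth.Agent.S15227
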