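import Groth.Statements.S15228
import Groth.Agent.VBLib.LineCalc
import Groth.Agent.VBLib.SplitOne

set_option autoImplicit false
open CategoryTheory CategoryTheory.Limits AlgebraicGeometry MonoidalCategory
open VBCurve

namespace Groth.Agent.S15228

/-- Let X be a smooth proper integral curve over ℂ of genus g ≥ 3 which is non-hyperelliptic, K a module
isomorphic to its sheaf of differentials, and N an invertible module of degree g with h^0(N) ≤ 1, so
that the complete linear system of K ⊗ N maps X to a projective space of dimension 2g − 2 as a curve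
of degree 3g − 2. An effective divisor D of degree d, recorded through its invertible ideal sheaf I
⊂ O_X (of degree −d), is a d-secant when its linear span has dimension d − 2, i.e. h^0(I ⊗ K ⊗ N) =
h^0(K ⊗ N) − d + 1. Then X has exactly one g-secant: some invertible ideal I ⊂ O_X of degree −g
satisfies h^0(I ⊗ K ⊗ N) + (g − 1) = h^0(K ⊗ N), and any two such ideals are equal as subobjects of
O_X (an isomorphism between them commutes with the inclusions). -/
theorem result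
    (X : Scheme.{0}) [X.Over (Spec (CommRingCat.of ℂ))] [IsIntegral X]
    [IsProper (X ↘ Spec (CommRingCat.of ℂ))] [Smooth (X ↘ Spec (CommRingCat.of ℂ))]
    (hdim : topologicalKrullDim X = 1) (hg : 2 ≤ Curv2.genus ℂ X)
    (hnh : ∀ M : X.Modules, PicF.IsInvertible M → Curv2.deg ℂ X M 1 = 2 →
      Module.finrank ℂ (Coh.HH X M 0) ≤ 1)
    (K : X.Modules) (eK : K ≅ Omega.sheaf (X ↘ Spec (CommRingCat.of ℂ)))
    (g : ℕ) (hg3 : 3 ≤ g) (hgen : Curv2.genus ℂ X = g)
    (N : X.Modules) (hN : PicF.IsInvertible N) (hdN : Curv2.deg ℂ X N 1 = (g : ℤ))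
    (h0 : Module.finrank ℂ (Coh.HH X N 0) ≤ 1) :
    (∃ (I : X.Modules) (ι : I ⟶ Coh.structureModule X),
        PicF.IsInvertible I ∧ Mono ι ∧ Curv2.deg ℂ X I 1 = -((g : ℤ)) ∧
        Module.finrank ℂ (Coh.HH X (CohB1.tensorMod I (CohB1.tensorMod K N)) 0) + (g - 1) =
          Module.finrank ℂ (Coh.HH X (CohB1.tensorMod K N) 0)) ∧
      ∀ (I I' : X.Modules) (ι : I ⟶ Coh.structureModule X) (ι' : I' ⟶ Coh.structureModule X),
        (PicF.IsInvertible I ∧ Mono ι ∧ Curv2.deg ℂ X I 1 = -((g : ℤ)) ∧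
        Module.finrank ℂ (Coh.HH X (CohB1.tensorMod I (CohB1.tensorMod K N)) 0) + (g - 1) =
          Module.finrank ℂ (Coh.HH X (CohB1.tensorMod K N) 0)) →
        (PicF.IsInvertible I' ∧ Mono ι' ∧ Curv2.deg ℂ X I' 1 = -((g : ℤ)) ∧
        Module.finrank ℂ (Coh.HH X (CohB1.tensorMod I' (CohB1.tensorMod K N)) 0) + (g - 1) =
          Module.finrank ℂ (Coh.HH X (CohB1.tensorMod K N) 0)) →
        ∃ φ : I' ≅ I, φ.hom ≫ ι = ι' := by
  have hX := VBLib.goodCurve_of_smooth (k := ℂ) hdim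
  haveI := FFCurve.regCurve_of_smooth ℂ (X := X) hdim
  have hb := VBLib.bijective_toGlobal_of_isAlgClosed (k := ℂ) (X := X)
  have hK : PicF.IsInvertible K := PicCl.isInvertible_of_iso eK.symm (FFCurve.isInvertible_omega (X := X) ℂ hdim)
  have hKr := VBLib.ofRank_one_of_invertible hK
  have hKd : VBLib.dg ℂ K = 2 * (g : ℤ) - 2 := by
    have hΩr := VBLib.ofRank_one_of_invertible (FFCurve.isInvertible_omega (X := X) ℂ hdim)
    rw [(hX.dg_iso eK (VBLib.isCoh_of_ofRank hKr) (VBLib.isCoh_of_ofRank hΩr)).1, ← VBLib.dg_eq hΩr,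
      FFCurve.deg_omega (X := X) ℂ hdim, hgen]
  have hNr := VBLib.ofRank_one_of_invertible hN
  have hNd := (VBLib.dg_eq (k := ℂ) hNr).symm.trans hdN
  obtain ⟨hKNf, hKN1, hKNd⟩ := hX.dg_tensor_line (VBLib.isFinLocFree_of_ofRank hKr) hN
  rw [VBLib.rk_eq hKr, hKd, hNd] at hKNd
  push_cast at hKNd
  have hKNi := VBLib.LineCalc.isInvertible_of_rk_one hKNf (hKN1.trans (VBLib.rk_eq hKr))
  have hKN0 := hX.finrank_H0_line hKNf (hKN1.trans (VBLib.rk_eq hKr)) (by rw [hgen]; omega)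
  rw [hKNd, hgen] at hKN0
  have key : ∀ (I : X.Modules) (ι : I ⟶ Coh.structureModule X), PicF.IsInvertible I → Mono ι →
      VBLib.dg ℂ I = -(VBLib.dg ℂ N) →
      (Module.finrank ℂ (Coh.HH X (CohB1.tensorMod I (CohB1.tensorMod K N)) 0) : ℤ) = g →
      Nonempty (N ≅ RefHull.dual I) := by
    intro I ι hI hιm hId hh
    have hIr := VBLib.ofRank_one_of_invertible hI
    obtain ⟨hLf, hL1, hLd⟩ := hX.dg_tensor_line (VBLib.isFinLocFree_of_ofRank hIr) hKNi
    rw [VBLib.rk_eq hIr, hId, hKNd, hNd] at hLd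
    rw [VBLib.rk_eq hIr] at hL1
    push_cast at hLd
    have hLi := VBLib.LineCalc.isInvertible_of_rk_one hLf hL1
    have hrr := hX.riemannRoch hb (VBLib.isCoh_of_isFinLocFree hLf)
    rw [hh, hL1, hLd, hgen] at hrr
    push_cast at hrr
    obtain ⟨hD, ⟨d⟩⟩ := VBLib.DualDeg.invertible_dual hLi
    have hΩ := FFCurve.isInvertible_omega (X := X) ℂ hdim
    have hdu := FFCurve.finrank_one_eq_dual (X := X) ℂ hdim hLi ⟨d⟩ hD
    obtain ⟨hMf, hM1, hMd⟩ := hX.dg_tensor_line (VBLib.isFinLocFree_of_ofRank (VBLib.ofRank_one_of_invertible hΩ)) hD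
    rw [hX.dg_dual hLf, VBLib.rk_eq (VBLib.ofRank_one_of_invertible hΩ), ← VBLib.dg_eq (VBLib.ofRank_one_of_invertible hΩ),
      FFCurve.deg_omega (X := X) ℂ hdim, hgen, hLd] at hMd
    rw [VBLib.rk_eq (VBLib.ofRank_one_of_invertible hΩ)] at hM1
    push_cast at hMd
    have hns : Nontrivial (Coh.HH X (CohB1.tensorMod (Omega.sheaf (X ↘ Spec (CommRingCat.of ℂ))) (RefHull.dual (CohB1.tensorMod I (CohB1.tensorMod K N)))) 0) :=
      Module.nontrivial_of_finrank_pos (R := ℂ) (by rw [← hdu]; omega)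
    obtain ⟨a⟩ := hX.iso_structure_of_section (VBLib.LineCalc.isInvertible_of_rk_one hMf hM1) (by omega) hns
    obtain ⟨b⟩ := VBLib.LineCalc.cancel hD (d ≪≫ a)
    obtain ⟨c⟩ := VBLib.LineCalc.cancel hK (A := CohB1.tensorMod I N) (B := Coh.structureModule X)
      (ProjTwist.tensAssoc I N K ≪≫ ProjTwist.tensCongr (Iso.refl I) (ProjTwist.tensComm N K) ≪≫ b ≪≫
        eK.symm ≪≫ (ProjTwist.tensOne K).symm ≪≫ ProjTwist.tensComm K (Coh.structureModule X))
    exact (VBLib.LineCalc.iso_dual_of_inverse hI ⟨ProjTwist.tensComm N I ≪≫ c⟩).2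
  have hsec : ∀ (I : X.Modules) (ι : I ⟶ Coh.structureModule X), PicF.IsInvertible I → Mono ι →
      Nonempty (N ≅ RefHull.dual I) → Nontrivial (Coh.HH X N 0) := by
    intro I ι hI hιm ⟨e⟩
    by_contra hn
    haveI := not_nontrivial_iff_subsingleton.mp hn
    haveI : Subsingleton (Coh.HH X (RefHull.dual I) 0) :=
      (ProperFin.hMap_zero_injective e.inv).subsingleton
    have h0 : ι = 0 := by
      have hh : RefHull.ofHom ι ⊤ = RefHull.ofHom (0 : I ⟶ Coh.structureModule X) ⊤ :=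
        (ProperFin.h0Sec _).symm.injective (Subsingleton.elim _ _)
      refine VBLib.Serre.toHom_ext _ _ fun y t => ?_
      exact LinearMap.congr_fun (congrFun (congrArg Subtype.val hh) ⟨y, trivial⟩) t
    have hz : IsZero I := by
      rw [IsZero.iff_id_eq_zero, ← cancel_mono ι, h0, comp_zero, comp_zero]
    have := VBLib.rk_eq_zero_of_isZero hz
    rw [VBLib.rk_eq (VBLib.ofRank_one_of_invertible hI)] at this
    omega
  have hΩK : (Module.finrank ℂ (Coh.HH X K 0) : ℤ) = g := by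
    have hΩc := VBLib.isCoh_of_ofRank (VBLib.ofRank_one_of_invertible (FFCurve.isInvertible_omega (X := X) ℂ hdim))
    have h1 := hX.finrank_H0_le eK.hom hΩc
    have h2 := hX.finrank_H0_le eK.inv (VBLib.isCoh_of_ofRank hKr)
    have h3 := FFCurve.finrank_omega_zero (X := X) ℂ hdim
    rw [hgen] at h3
    omega
  have hN1 : Module.finrank ℂ (Coh.HH X N 0) = 1 := by
    have hrr := hX.riemannRoch hb (VBLib.isCoh_of_ofRank hNr)
    rw [VBLib.rk_eq hNr, hNd, hgen] at hrr
    push_cast at hrr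
    omega
  refine ⟨?_, ?_⟩
  · haveI : Nontrivial (Coh.HH X N 0) := Module.nontrivial_of_finrank_pos (R := ℂ) (by omega)
    obtain ⟨c, hc⟩ := exists_ne (0 : Coh.HH X N 0)
    have hO := VBLib.ofRank_one_of_invertible (LFFrame.isInvertible_structureModule X)
    let s := Props.GenLocus.homOfSec (VBLib.GenusZero.toSec N c)
    have hs : s ≠ 0 := fun h0 => hc ((VBLib.GenusZero.toSec N).injective (by
      rw [map_zero (VBLib.GenusZero.toSec N)]
      have h1 := Props.GenLocus.sec_homOfSec (VBLib.GenusZero.toSec N c) ⊤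
      rw [show Props.GenLocus.homOfSec (VBLib.GenusZero.toSec N c) = 0 from h0, QCoh.res_self] at h1
      exact h1.symm))
    haveI := (hX.line_hom (VBLib.isFinLocFree_of_ofRank hO) (VBLib.isFinLocFree_of_ofRank hNr)
      (VBLib.rk_eq hO) (VBLib.rk_eq hNr) s hs).1
    obtain ⟨hD, ⟨d⟩⟩ := VBLib.DualDeg.invertible_dual hN
    obtain ⟨s', hs'⟩ := VBLib.exists_mono_tensor hD s
    haveI := hs'
    let ι : RefHull.dual N ⟶ Coh.structureModule X := (ProjTwist.tensOne (RefHull.dual N)).inv ≫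
      (ProjTwist.tensComm (RefHull.dual N) (Coh.structureModule X)).hom ≫ s' ≫ d.hom
    have hd' : Curv2.deg ℂ X (RefHull.dual N) 1 = -(g : ℤ) := by
      rw [VBLib.dg_eq (VBLib.ofRank_one_of_invertible hD), hX.dg_dual (VBLib.isFinLocFree_of_ofRank hNr), hNd]
    refine ⟨RefHull.dual N, ι, hD, inferInstanceAs (Mono (_ ≫ _ ≫ _ ≫ _)), hd', ?_⟩
    let e : CohB1.tensorMod (RefHull.dual N) (CohB1.tensorMod K N) ≅ K :=
      ProjTwist.tensComm _ _ ≪≫ ProjTwist.tensAssoc K N (RefHull.dual N) ≪≫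
        ProjTwist.tensCongr (Iso.refl K) d ≪≫ ProjTwist.tensOne K
    obtain ⟨hLf, -, -⟩ := hX.dg_tensor_line (VBLib.isFinLocFree_of_ofRank (VBLib.ofRank_one_of_invertible hD)) hKNi
    have h1 := hX.finrank_H0_le e.hom (VBLib.isCoh_of_ofRank hKr)
    have h2 := hX.finrank_H0_le e.inv (VBLib.isCoh_of_isFinLocFree hLf)
    omega
  · rintro I I' ι ι' ⟨hI, hιm, hId, hh⟩ ⟨hI', hι'm, hI'd, hh'⟩
    have hIr := VBLib.ofRank_one_of_invertible hI
    have hI'r := VBLib.ofRank_one_of_invertible hI'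
    rw [VBLib.dg_eq hIr] at hId
    rw [VBLib.dg_eq hI'r] at hI'd
    obtain ⟨a⟩ := key I ι hI hιm (by rw [hId, hNd]) (by omega)
    obtain ⟨a'⟩ := key I' ι' hI' hι'm (by rw [hI'd, hNd]) (by omega)
    obtain ⟨hD, ⟨d⟩⟩ := VBLib.DualDeg.invertible_dual hI
    obtain ⟨-, ⟨d'⟩⟩ := VBLib.DualDeg.invertible_dual hI'
    obtain ⟨φ₀⟩ := VBLib.LineCalc.cancel hD (A := I') (B := I)
      (ProjTwist.tensCongr (Iso.refl I') (a.symm ≪≫ a') ≪≫ d' ≪≫ d.symm)
    haveI := hιm
    haveI := hι'm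
    have hιne : ∀ (J : X.Modules) (j : J ⟶ Coh.structureModule X), Mono j → PicF.IsInvertible J → j ≠ 0 := by
      intro J j hj hJ h0
      have hz : IsZero J := by
        rw [IsZero.iff_id_eq_zero, ← cancel_mono j, h0, comp_zero, comp_zero]
      have := VBLib.rk_eq_zero_of_isZero hz
      rw [VBLib.rk_eq (VBLib.ofRank_one_of_invertible hJ)] at this
      omega
    have hto : ∀ f : I' ⟶ Coh.structureModule X, VBLib.Serre.toHom I' _ (RefHull.ofHom f ⊤) = f := fun f =>
      VBLib.Serre.toHom_ext _ _ fun y t => VBLib.Serre.stalkLin_toHom _ _ _ y t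
    let u := (ProperFin.h0Sec _).symm (RefHull.ofHom (φ₀.hom ≫ ι) ⊤)
    have hu : u ≠ 0 := fun h0 => hιne I' (φ₀.hom ≫ ι) (mono_comp _ _) hI' (by
      rw [← hto (φ₀.hom ≫ ι)]
      have h1 : RefHull.ofHom (φ₀.hom ≫ ι) ⊤ = 0 := by
        have := congrArg (ProperFin.h0Sec _) h0
        rwa [AddEquiv.apply_symm_apply, map_zero] at this
      rw [h1]
      have h2 := VBLib.Serre.toHom_add I' (Coh.structureModule X) 0 0
      rw [add_zero] at h2
      exact left_eq_add.mp h2)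
    have hdim1 : Module.finrank ℂ (Coh.HH X (RefHull.dual I') 0) = 1 := by
      have h1 := hX.finrank_H0_le a'.hom (VBLib.isCoh_of_ofRank
        (VBLib.ofRank_one_of_invertible (VBLib.DualDeg.invertible_dual hI').1))
      have h2 := hX.finrank_H0_le a'.inv (VBLib.isCoh_of_ofRank hNr)
      omega
    obtain ⟨c, hc⟩ := (finrank_eq_one_iff_of_nonzero' u hu).mp hdim1
      ((ProperFin.h0Sec _).symm (RefHull.ofHom ι' ⊤))
    have hc1 := congrArg (ProperFin.h0Sec _) hc
    rw [show (c • u) = (Coh.toGlobal (X ↘ Spec (CommRingCat.of ℂ)) c) • u from rfl, ProperFin.h0Sec_smul,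
      AddEquiv.apply_symm_apply, AddEquiv.apply_symm_apply] at hc1
    have hc2 := congrArg (VBLib.Serre.toHom I' (Coh.structureModule X)) hc1
    rw [VBLib.Serre.toHom_smul, hto, hto] at hc2
    let φ := Formal.smulModΓ I' (Coh.toGlobal (X ↘ Spec (CommRingCat.of ℂ)) c) ≫ φ₀.hom
    have hφ : φ ≫ ι = ι' := by rw [← hc2]; exact Category.assoc _ _ _
    have hφne : φ ≠ 0 := fun h0 => hιne I' ι' hι'm hI' (by rw [← hφ, h0, zero_comp])
    haveI := (hX.line_hom (VBLib.isFinLocFree_of_ofRank hI'r) (VBLib.isFinLocFree_of_ofRank hIr)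
      (VBLib.rk_eq hI'r) (VBLib.rk_eq hIr) φ hφne).2.2 (by omega)
    exact ⟨asIso φ, hφ⟩

end Groth.Agent.S15228
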