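import Groth.Statements.S1523
import Groth.Agent.EulerChar.CurvePoint

set_option autoImplicit false
universe u
open CategoryTheory CategoryTheory.Limits AlgebraicGeometry
open Variety

namespace Groth.Agent.S1523

/-- On a proper curve over an algebraically closed field there is an invertible module whose H^0 is
one-dimensional and whose H^1 vanishes, and an invertible module whose H^0 and H^1 both vanish. -/
theorem result (k : Type u) [Field k] [IsAlgClosed k] (X : Scheme.{u}) [X.Over (Spec (CommRingCat.of k))]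
    [IsIntegral X] [IsProper (X ↘ (Spec (CommRingCat.of k)))] (hdim : topologicalKrullDim X = 1) :
    (∃ L : X.Modules, PicF.IsInvertible L ∧ Module.finrank k (Coh.HH X L 0) = 1 ∧ Subsingleton (Coh.HH X L 1)) ∧
    (∃ N : X.Modules, PicF.IsInvertible N ∧ Subsingleton (Coh.HH X N 0) ∧ Subsingleton (Coh.HH X N 1)) := by
  haveI := EulerChar.isNoetherian k (X := X)
  obtain ⟨n₀, h⟩ := EulerChar.exists_h0_eq k hdim
  obtain ⟨L, hL, hL0, hL1⟩ := h 1 (by omega)
  obtain ⟨N, hN, hN0, hN1⟩ := h 0 (by omega)
  haveI := EulerChar.finite_HH k _ (VBLib.isCoh_of_ofRank (ProjTwist.isFinLocFreeOfRank_one hN)) 0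
  exact ⟨⟨L, hL, hL0, hL1⟩, ⟨N, hN, Module.finrank_zero_iff.1 hN0, hN1⟩⟩

end Groth.Agent.S1523
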