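import Groth.Prelude.Def_DRing2
import Groth.Prelude.Def_DDual2
import Mathlib.Algebra.Homology.DerivedCategory.HomologySequence
import Mathlib.RingTheory.Ideal.Quotient.Operations
import Mathlib.RingTheory.Jacobson.Ideal
import Mathlib.RingTheory.Noetherian.Defs
import Groth.Agent.DRing.TwoIdeals
import Groth.Agent.DRing.FibreAmp
-- import your own Groth.Agent.* helpers here

set_option autoImplicit false
universe u
open CategoryTheory CategoryTheory.Limits
attribute [local instance] HasDerivedCategory.standard
open DRing

namespace Groth.Agent.S15232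

/-- Let R be a Noetherian commutative ring and I an ideal contained in the Jacobson radical of R, and
assume the derived base change D(R) → D(R/I) exists. Let P be a pseudo-coherent object of D(R) and
a, b integers. If P ⊗^L_R R/I has tor amplitude in [a, b] as an object of D(R/I), then P has tor
amplitude in [a, b] as an object of D(R). Tor amplitude is taken in the flat-representative form
(isomorphic in the derived category to a complex of flat modules vanishing outside [a, b]). -/
theorem result (R : Type u) [CommRing R] [IsNoetherianRing R]
    (I : Ideal R) (hI : I ≤ Ideal.jacobson (⊥ : Ideal R)) [DRing.HasLBaseChange (Ideal.Quotient.mk I)]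
    (P : Dual.D R) (hP : DRing.IsPseudoCoherent' R P) (a b : ℤ)
    (h : DRing.HasTorAmplitudeIn (R ⧸ I) a b ((DRing.LBaseChange (Ideal.Quotient.mk I)).obj P)) :
    DRing.HasTorAmplitudeIn R a b P := by
  have := fun m : Ideal R => Agent.DRing.LTensor.hasLBaseChange (Ideal.Quotient.mk m)
  refine (Agent.DRing.FibreAmp.perfect_of_fibres P hP a b fun m hm i hi => ?_).2
  have hle : I ≤ m := hI.trans (sInf_le ⟨bot_le, hm⟩)
  let f : R ⧸ I →+* R ⧸ m := Ideal.Quotient.factor hle
  have := Agent.DRing.LTensor.hasLBaseChange f
  obtain ⟨e⟩ := Agent.DRing.Nilp.nonempty_comp (Ideal.Quotient.mk m) (Ideal.Quotient.mk I) f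
    (Ideal.Quotient.factor_comp_mk _) P
  exact Agent.DRing.TorAmp.torAmp_boundedHD
    (Agent.DRing.TorAmp.torAmp_of_iso e (Agent.DRing.Perfect.torAmp_baseChange f h)) i hi

end Groth.Agent.S15232
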