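import Groth.Statements.S15235
import Mathlib

set_option autoImplicit false
universe u
open CategoryTheory Opposite
open HomAlg3

namespace Groth.Agent.S15235

variable (G : ℕᵒᵖ ⥤ AddCommGrpCat.{u}) (j₀ : ℕ)

lemma map_map {a b c : ℕ} (hab : a ≤ b) (hbc : b ≤ c) (x : G.obj (op c)) :
    (G.map (homOfLE hab).op).hom ((G.map (homOfLE hbc).op).hom x) = (G.map (homOfLE (hab.trans hbc)).op).hom x := by
  rw [show (homOfLE (hab.trans hbc)).op = (homOfLE hbc).op ≫ (homOfLE hab).op from Subsingleton.elim _ _,
    G.map_comp]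
  rfl

lemma map_self {a : ℕ} (x : G.obj (op a)) : (G.map (homOfLE (le_refl a)).op).hom x = x := by
  rw [show (homOfLE (le_refl a)).op = 𝟙 (op a) from Subsingleton.elim _ _, G.map_id]
  rfl

lemma surj (hs : ∀ j : ℕ, j₀ ≤ j → Function.Surjective (G.map (homOfLE (Nat.le_succ j)).op).hom) {a : ℕ}
    (ha : j₀ ≤ a) : ∀ {b : ℕ} (hab : a ≤ b), Function.Surjective (G.map (homOfLE hab).op).hom := by
  intro b hab
  induction b, hab using Nat.le_induction with
  | base => exact fun x => ⟨x, map_self G x⟩
  | succ n hn ih =>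
    intro x
    obtain ⟨y, rfl⟩ := ih x
    obtain ⟨z, rfl⟩ := hs n (ha.trans hn) y
    exact ⟨z, (map_map G _ _ z).symm⟩

/-- a compatible choice of lifts -/
noncomputable def lifts (hs : ∀ j : ℕ, j₀ ≤ j → Function.Surjective (G.map (homOfLE (Nat.le_succ j)).op).hom)
    (x : G.obj (op j₀)) : (m : ℕ) → G.obj (op (j₀ + m))
  | 0 => x
  | m + 1 => (hs (j₀ + m) (Nat.le_add_right _ _) (lifts hs x m)).choose

lemma lifts_map (hs : ∀ j : ℕ, j₀ ≤ j → Function.Surjective (G.map (homOfLE (Nat.le_succ j)).op).hom)
    (x : G.obj (op j₀)) : ∀ (m m' : ℕ) (h : m ≤ m'),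
      (G.map (homOfLE (Nat.add_le_add_left h j₀)).op).hom (lifts G j₀ hs x m') = lifts G j₀ hs x m := by
  intro m m' h
  induction m', h using Nat.le_induction with
  | base => exact map_self G _
  | succ n hn ih =>
    refine (map_map G (Nat.add_le_add_left hn j₀) (Nat.le_succ _) _).symm.trans ?_
    have := (hs (j₀ + n) (Nat.le_add_right _ _) (lifts G j₀ hs x n)).choose_spec
    exact (congrArg _ this).trans ih

/-- Let (G_j) be an inverse system of abelian groups indexed by the natural numbers, with transition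
maps G_{j+1} → G_j, and let j₀ be a natural number such that the transition map G_{j+1} → G_j is
surjective for every j ≥ j₀. Then: (a) the system satisfies the Mittag-Leffler condition; (b) the
evaluation map from the inverse limit (realised as the set of compatible families) to G_{j₀} is
surjective; (c) if in addition the transition maps G_{j+1} → G_j are injective for every j ≥ j₀,
that evaluation map is bijective. (The published statement indexes the system by the negative
integers and assumes j₀ ≥ 1; this row indexes it by the natural numbers and allows j₀ = 0, which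
changes nothing.) -/
theorem result (G : ℕᵒᵖ ⥤ AddCommGrpCat.{u})
    (j₀ : ℕ) (hs : ∀ j : ℕ, j₀ ≤ j → Function.Surjective (G.map (homOfLE (Nat.le_succ j)).op).hom) :
    (G ⋙ forget AddCommGrpCat.{u}).IsMittagLeffler ∧
      Function.Surjective (fun s : (G ⋙ forget AddCommGrpCat.{u}).sections => s.1 (op j₀)) ∧
      ((∀ j : ℕ, j₀ ≤ j → Function.Injective (G.map (homOfLE (Nat.le_succ j)).op).hom) →
        Function.Bijective (fun s : (G ⋙ forget AddCommGrpCat.{u}).sections => s.1 (op j₀))) := by
  refine ⟨fun j => ?_, ?_⟩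
  · refine ⟨op (max j.unop j₀), (homOfLE (le_max_left j.unop j₀)).op, fun k g => ?_⟩
    rintro y ⟨x, rfl⟩
    obtain ⟨z, hz⟩ := surj G j₀ hs (le_max_right j.unop j₀) (le_max_right k.unop (max j.unop j₀)) x
    refine ⟨(G.map (homOfLE (le_max_left k.unop (max j.unop j₀))).op).hom z, ?_⟩
    change (G.map g).hom _ = (G.map (homOfLE (le_max_left j.unop j₀)).op).hom x
    rw [← hz, show g = (homOfLE g.unop.le).op from Subsingleton.elim _ _, map_map, map_map]
  have hsurj : Function.Surjective (fun s : (G ⋙ forget AddCommGrpCat.{u}).sections => s.1 (op j₀)) := by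
    intro x
    refine ⟨⟨fun j => (G.map (homOfLE (Nat.le_add_left j.unop j₀)).op).hom (lifts G j₀ hs x j.unop), ?_⟩, ?_⟩
    · intro j j' f
      change (G.map f).hom ((G.map (homOfLE (Nat.le_add_left j.unop j₀)).op).hom (lifts G j₀ hs x j.unop)) = _
      rw [show f = (homOfLE f.unop.le).op from Subsingleton.elim _ _, map_map]
      dsimp only
      rw [← lifts_map G j₀ hs x j'.unop j.unop f.unop.le, map_map]
    · change (G.map (homOfLE (Nat.le_add_left j₀ j₀)).op).hom (lifts G j₀ hs x j₀) = x
      exact lifts_map G j₀ hs x 0 j₀ (Nat.zero_le _)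
  refine ⟨hsurj, fun hi => ⟨fun s t hst => ?_, hsurj⟩⟩
  have key : ∀ j, j₀ ≤ j → s.1 (op j) = t.1 (op j) := by
    intro j hj
    induction j, hj using Nat.le_induction with
    | base => exact hst
    | succ n hn ih =>
      refine hi n hn ?_
      exact (s.2 (homOfLE (Nat.le_succ n)).op).trans (ih.trans (t.2 (homOfLE (Nat.le_succ n)).op).symm)
  apply Subtype.ext
  funext j
  rw [← s.2 (homOfLE (le_max_left j.unop j₀)).op, ← t.2 (homOfLE (le_max_left j.unop j₀)).op,
    key _ (le_max_right _ _)]

end Groth.Agent.S15235
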