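import Groth.Statements.S15245
import Groth.Agent.RootWord.Basic
-- import your own Groth.Agent.* helpers here

set_option autoImplicit false
universe u
open CategoryTheory AlgebraicGeometry
open RedSub

namespace Groth.Agent.S15245

/-- Let Φ be a finite reduced root system (a reduced root pairing over ℤ on a finite index set) with a
base b, w an element of its Weyl group, given as the product of the reflections along a word l and
acting on the roots, and γ a positive root. Writing ℓ(u) for the number of positive roots a with
u(a) negative, one has ℓ(w) < ℓ(σ_γ w) if and only if w⁻¹(γ) is positive. (Here the length is taken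
as the number of inverted positive roots.) -/
theorem result {idx M N : Type}
    [AddCommGroup M] [AddCommGroup N] [Finite idx]
    (P : RootPairing idx ℤ M N) [P.IsReduced] (b : P.Base) (l : List idx) (c : idx)
    (hc : c ∈ RedSub.posRoots P b) :
    Set.ncard {a : idx | a ∈ RedSub.posRoots P b ∧ RedSub.wordPerm P l a ∈ RedSub.negRoots P b} <
        Set.ncard {a : idx | a ∈ RedSub.posRoots P b ∧
          (P.reflectionPerm c * RedSub.wordPerm P l) a ∈ RedSub.negRoots P b} ↔
      (RedSub.wordPerm P l)⁻¹ c ∈ RedSub.posRoots P b := by
  classical
  open Groth.Agent.RootWord.Basic in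
  have hw := isLin_wordPerm (P := P) l
  set w := RedSub.wordPerm P l with hwdef
  have hcpos : b.IsPos c := (Groth.Agent.RootWord.Basic.mem_posRoots_iff b c).mp hc
  set v := w⁻¹ c with hv
  have hwv : w v = c := by simp [hv]
  have hsc : P.reflectionPerm c * w = w * P.reflectionPerm v := by
    rw [← hwv, hwdef, Groth.Agent.RootWord.Basic.reflectionPerm_wordPerm]
    group
  simp only [Groth.Agent.RootWord.Basic.mem_posRoots_iff, Groth.Agent.RootWord.Basic.mem_negRoots_iff,
    hsc, Equiv.Perm.mul_apply]
  constructor
  · intro hlt
    by_contra hneg
    have hv' : b.IsPos (P.reflectionPerm v v) :=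
      (Groth.Agent.RootWord.Basic.isPos_neg_iff b v).mpr hneg
    have hw' := hw.mul (Groth.Agent.RootWord.Basic.isLin_reflectionPerm P v)
    have hpos : b.IsPos ((w * P.reflectionPerm v) (P.reflectionPerm v v)) := by
      rw [Equiv.Perm.mul_apply, P.reflectionPerm_self, hwv]; exact hcpos
    have := Groth.Agent.RootWord.Basic.inversions_lt b hw' hv' hpos
    have e : P.reflectionPerm (P.reflectionPerm v v) = P.reflectionPerm v := by
      rw [Groth.Agent.RootWord.Basic.reflectionPerm_conj_reflection, ← sq, P.reflectionPerm_sq, one_mul]
    simp only [e, Equiv.Perm.mul_apply, P.reflectionPerm_self] at this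
    omega
  · intro hvpos
    exact Groth.Agent.RootWord.Basic.inversions_lt b hw hvpos (by rw [hwv]; exact hcpos)

end Groth.Agent.S15245
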