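import Groth.Statements.S15248
import Groth.Agent.GenPt.Locus
import Groth.Agent.GenPt.Transfer

set_option autoImplicit false
open Fano

namespace Groth.Agent.S15248

/-- Over ℂ, let m and d be integers with 1 ≤ d ≤ m − 2, and consider sequences (X_1, …, X_d) of
hypersurfaces of projective m-space with X_j of degree j. The sequences whose intersection X_1 ∩ ⋯ ∩
X_d has dimension greater than m − d form a locus of codimension greater than m in the product of
the projective spaces of hypersurfaces of degrees 1, …, d. Here a sequence is a point G of the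
affine space of tuples of forms in the m + 1 homogeneous coordinates with G_j of degree j (zero
forms allowed), the dimension condition reads dim ℂ[x_0, …, x_m]/(G_1, …, G_d) ≥ m + 2 − d, and the
conclusion is that this locus has codimension at least m + 1 in that affine space (the ideal of
polynomial functions vanishing on it has height at least m + 1). The tuples with some G_j = 0 belong
to the locus and form a closed subset of codimension exactly m + 1, and away from them the locus is
the inverse image of the projective one, so this affine form carries the same content as the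
projective one. -/
theorem result (m d : ℕ) (hd : 1 ≤ d) (hdm : d + 2 ≤ m) :
    LefPen.CodimGE ℂ
      {G : (j : Fin d) → LefPen.Form m ℂ (j.1 + 1) |
        ((m + 2 - d : ℕ) : WithBot ℕ∞) ≤
          ringKrullDim (MvPolynomial (Fin (m + 1)) ℂ ⧸
            Ideal.span (Set.range fun j : Fin d => (G j).1))}
      (m + 1) := by
  classical
  let e : ((j : Fin d) → LefPen.Form m ℂ (j.1 + 1)) ≃ₗ[ℂ]
      ((Σ j : Fin d, GenericFibre.Mon m (j.1 + 1)) → ℂ) :=
    (LinearEquiv.piCongrRight fun j => GenericFibre.coeffEquiv ℂ m (j.1 + 1)).trans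
      (LinearEquiv.piCurry ℂ (fun _ _ => ℂ)).symm
  refine GenPt.codimGE_of_generic e _ (m + 1) ?_
  intro A _ _ _ x S hS hD Ω _ _ _ j hj
  let g : Fin d → MvPolynomial (Fin (m + 1)) A := fun l =>
    ∑ q : GenericFibre.Mon m (l.1 + 1), MvPolynomial.monomial q.1 (x ⟨l, q⟩)
  have hg : ∀ l, (g l).IsHomogeneous (l.1 + 1) := fun l =>
    MvPolynomial.IsHomogeneous.sum _ _ _ fun q _ => MvPolynomial.isHomogeneous_monomial _ q.2
  have hbad : ∀ φ ∈ S, ¬ ringKrullDim (MvPolynomial (Fin (m + 1)) ℂ ⧸
      Ideal.span (Set.range fun l => MvPolynomial.map (φ : A →+* ℂ) (g l))) ≤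
      ((m + 1 - d : ℕ) : WithBot ℕ∞) := by
    intro φ hφ hle
    have h1 : ((m + 2 - d : ℕ) : WithBot ℕ∞) ≤ _ := hD φ hφ
    have hsame : ∀ l : Fin d, MvPolynomial.map (φ : A →+* ℂ) (g l) =
        ((e.symm fun i => φ (x i)) l).1 := by
      intro l
      simp only [g, map_sum, MvPolynomial.map_monomial]
      rfl
    rw [show (fun l => MvPolynomial.map (φ : A →+* ℂ) (g l)) =
      fun l => ((e.symm fun i => φ (x i)) l).1 from funext hsame] at hle
    have h2 : ((m + 2 - d : ℕ) : WithBot ℕ∞) ≤ ((m + 1 - d : ℕ) : WithBot ℕ∞) := h1.trans hle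
    have h3 : m + 2 - d ≤ m + 1 - d := by exact_mod_cast h2
    omega
  have hgen := GenPt.transfer j hj g (fun l => l.1 + 1) hg S hS (m + 1 - d) hbad
  obtain ⟨T, -, hT, hcoef⟩ := GenPt.exists_few (k := ℂ) (by omega) (fun l => l.1 + 1) (fun _ => rfl)
    _ (fun l => (hg l).map _) hgen ∅
  refine ⟨T, ?_, ?_⟩
  · simp only [Finset.card_empty, zero_add] at hT
    rw [Fintype.card_sigma]
    simpa [GenericFibre.card_mon] using hT
  · rintro ⟨l, q⟩
    have := hcoef l q.1
    rwa [MvPolynomial.coeff_map, show MvPolynomial.coeff q.1 (g l) = x ⟨l, q⟩ from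
      GenericFibre.coeff_sum_monomial (fun q => x ⟨l, q⟩) q] at this

end Groth.Agent.S15248
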