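import Groth.Statements.S15251
import Groth.Agent.StFib.StackSpace

set_option autoImplicit false
set_option backward.isDefEq.respectTransparency false
set_option backward.isDefEq.respectTransparency.types false
open CategoryTheory AlgebraicGeometry
universe u
open AlgSt

namespace Groth.Agent.S15251

/-- Let S be a scheme and f : 𝒳 → 𝒴 a 1-morphism of stacks in groupoids over the category of schemes
over S. If 𝒴 is a Deligne–Mumford stack and for every scheme U over S and every 1-morphism g : U → 𝒴
the 2-fibre product U ×_𝒴 𝒳 is a Deligne–Mumford stack, then 𝒳 is a Deligne–Mumford stack. All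
stacks here are for the étale topology on schemes over S; an algebraic stack is a stack in groupoids
whose diagonal is representable by algebraic spaces and which has a smooth surjective atlas from a
scheme, and a Deligne–Mumford stack is an algebraic stack with an étale surjective atlas from a
scheme. (The published statement asks the fibre-product condition only for affine schemes U and uses
Deligne–Mumford stacks whose diagonal is moreover separated and quasi-compact; this row asks the
condition for every scheme U over S and uses Deligne–Mumford stacks with no condition on the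
diagonal beyond representability by algebraic spaces.) -/
theorem result {S : Scheme.{u}} {𝒳 𝒴 : AlgSt.Cat S}
    (h𝒳 : Stk.IsStack (QuotSh.J Scheme.etalePrecoverage S) 𝒳)
    (h𝒴 : AlgSt.IsDM Scheme.etalePrecoverage 𝒴) (f : 𝒳 ⥤ᵇ 𝒴)
    (hf : ∀ (U : Over S) (g : FibCat.overCat U ⥤ᵇ 𝒴),
      AlgSt.IsDM Scheme.etalePrecoverage (FibCat.fp g f)) :
    AlgSt.IsDM Scheme.etalePrecoverage 𝒳 := by
  open Groth.Agent.StFib FibCat in
  have key : ∀ (P : MorphismProperty (AlgSp.Sp S)), Good P → AlgSt.HasAtlas P 𝒴 →
      (∀ (U : Over S) (g : overCat U ⥤ᵇ 𝒴), AlgSt.HasAtlas P (fp g f)) → AlgSt.HasAtlas P 𝒳 := by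
    intro P hP hY h'
    obtain ⟨V, y, hy, hys⟩ := hY
    obtain ⟨W, w, hw, hws⟩ := h' V y
    exact ⟨W, BasedFunctor.comp w (fpSnd y f),
      repByAlgSpWith_comp hP.bc hP.comp hP.det (isFibGrpd_overCat W) (hf V y).1.isStack.1 hw
        (repByAlgSpWith_fpSnd _ y hy),
      repByAlgSpWith_comp good_surjective.bc good_surjective.comp good_surjective.det (isFibGrpd_overCat W)
        (hf V y).1.isStack.1 hws (repByAlgSpWith_fpSnd _ y hys)⟩
  exact ⟨isAlgStack_of_atlas_etale h𝒳 (key _ good_smooth h𝒴.1.atlas fun U g => (hf U g).1.atlas),
    key _ good_etale h𝒴.2 fun U g => (hf U g).2⟩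

end Groth.Agent.S15251
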