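import Groth.Statements.S15253
import Groth.Agent.CohTop.Basic
import Groth.Agent.KFlat.StalkTensor
import Groth.Agent.CohDev.Piece
import Groth.Agent.IdealSh.Stalk
import Groth.Agent.Omega.ConormalZero
import Groth.Agent.LFFrame.Basic
import Groth.Agent.PullStalk.Basic

set_option autoImplicit false
set_option backward.isDefEq.respectTransparency false
set_option backward.isDefEq.respectTransparency.types false
universe u
open CategoryTheory CategoryTheory.Limits AlgebraicGeometry TopologicalSpace
open W4c2seshadripos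
open Groth.Agent.PullStalk.Sky
open scoped TensorProduct

namespace Groth.Agent.S15253

theorem smul_tmul_mem {A M N : Type*} [CommRing A] [AddCommGroup M] [Module A M] [AddCommGroup N] [Module A N]
    {I J : Ideal A} {u : M} {v : N} (hu : u ∈ I • (⊤ : Submodule A M)) (hv : v ∈ J • (⊤ : Submodule A N)) :
    u ⊗ₜ[A] v ∈ (I * J) • (⊤ : Submodule A (M ⊗[A] N)) := by
  induction hu using Submodule.smul_induction_on' with
  | smul a ha m _ =>
    induction hv using Submodule.smul_induction_on' with
    | smul b hb n _ =>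
      rw [← TensorProduct.smul_tmul', TensorProduct.tmul_smul, smul_smul]
      exact Submodule.smul_mem_smul (Ideal.mul_mem_mul ha hb) trivial
    | add b hb b' hb' ih ih' => rw [TensorProduct.tmul_add]; exact add_mem ih ih'
  | add a ha a' ha' ih ih' => rw [TensorProduct.add_tmul]; exact add_mem ih ih'

/-- the algebra of jets of a tensor product -/
theorem exists_approx {A M N : Type*} [CommRing A] [AddCommGroup M] [Module A M] [AddCommGroup N] [Module A N]
    (m : Ideal A) (S : AddSubgroup M) (T : AddSubgroup N) (R : AddSubgroup (M ⊗[A] N))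
    (hR : ∀ s ∈ S, ∀ t ∈ T, s ⊗ₜ[A] t ∈ R) (i j : ℕ)
    (hS : ∀ u : M, ∃ s ∈ S, u - s ∈ m ^ (i + 1) • (⊤ : Submodule A M))
    (hT : ∀ v : N, ∃ t ∈ T, v - t ∈ m ^ (j + 1) • (⊤ : Submodule A N)) :
    ∀ n ≤ i + j + 1, ∀ w : M ⊗[A] N, ∃ g ∈ R, w - g ∈ m ^ n • (⊤ : Submodule A (M ⊗[A] N)) := by
  intro n
  induction n with
  | zero => exact fun _ w => ⟨0, zero_mem _, by simp⟩
  | succ n ih =>
    intro hn w
    obtain ⟨g, hg, hgw⟩ := ih (by omega) w
    obtain ⟨p, q, hp, hq, rfl⟩ : ∃ p q, p ≤ i ∧ q ≤ j ∧ n = p + q := ⟨min n i, n - min n i, by omega, by omega, by omega⟩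
    suffices h : ∀ z ∈ m ^ (p + q) • (⊤ : Submodule A (M ⊗[A] N)),
        ∃ r ∈ R, z - r ∈ m ^ (p + q + 1) • (⊤ : Submodule A (M ⊗[A] N)) by
      obtain ⟨r, hr, hrz⟩ := h _ hgw
      exact ⟨g + r, add_mem hg hr, by rwa [← sub_sub]⟩
    intro z hz
    induction hz using Submodule.smul_induction_on' with
    | add a ha b hb iha ihb =>
      obtain ⟨r, hr, h1⟩ := iha
      obtain ⟨r', hr', h2⟩ := ihb
      exact ⟨r + r', add_mem hr hr', by rw [add_sub_add_comm]; exact add_mem h1 h2⟩
    | smul c hc y _ =>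
      rw [pow_add] at hc
      revert y
      refine Submodule.mul_induction_on hc (fun a ha b hb => ?_) (fun a b iha ihb y hy => ?_)
      · intro y _
        induction y using TensorProduct.induction_on with
        | zero => exact ⟨0, zero_mem _, by simp⟩
        | add y y' iy iy' =>
          obtain ⟨r, hr, h1⟩ := iy trivial
          obtain ⟨r', hr', h2⟩ := iy' trivial
          exact ⟨r + r', add_mem hr hr', by rw [smul_add, add_sub_add_comm]; exact add_mem h1 h2⟩
        | tmul u v =>
          obtain ⟨s, hs, he⟩ := hS (a • u)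
          obtain ⟨t, ht, he'⟩ := hT (b • v)
          refine ⟨_, hR s hs t ht, ?_⟩
          have hau : a • u ∈ m ^ p • (⊤ : Submodule A M) := Submodule.smul_mem_smul ha trivial
          have hbv : b • v ∈ m ^ q • (⊤ : Submodule A N) := Submodule.smul_mem_smul hb trivial
          have hsm : s ∈ m ^ p • (⊤ : Submodule A M) := by
            have := Submodule.smul_mono_left (Ideal.pow_le_pow_right (show p ≤ i + 1 by omega)) he
            simpa using sub_mem hau this
          have key : (a * b) • (u ⊗ₜ[A] v) - s ⊗ₜ[A] t =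
              (a • u - s) ⊗ₜ[A] (b • v) + s ⊗ₜ[A] (b • v - t) := by
            rw [TensorProduct.sub_tmul, TensorProduct.tmul_sub, sub_add_sub_cancel, mul_smul]
            congr 1
            rw [← TensorProduct.smul_tmul', TensorProduct.tmul_smul]
          rw [key]
          refine add_mem ?_ ?_
          · refine Submodule.smul_mono_left ?_ (smul_tmul_mem he hbv)
            rw [← pow_add]; exact Ideal.pow_le_pow_right (by omega)
          · refine Submodule.smul_mono_left ?_ (smul_tmul_mem hsm he')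
            rw [← pow_add]; exact Ideal.pow_le_pow_right (by omega)
      · obtain ⟨r, hr, h1⟩ := iha y hy
        obtain ⟨r', hr', h2⟩ := ihb y hy
        exact ⟨r + r', add_mem hr hr', by rw [add_smul, add_sub_add_comm]; exact add_mem h1 h2⟩

/-- separation of jets on the stalk -/
theorem separatesJets_iff {X : Scheme.{u}} (x : X) (hx : IsClosed ({x} : Set X)) (F : X.Modules) (l : ℕ) :
    SeparatesJets F x hx l ↔ ∀ u : F.presheaf.stalk x, ∃ s : Γ(F, ⊤),
      u - germM F ⊤ x trivial s ∈
        IsLocalRing.maximalIdeal (X.presheaf.stalk x) ^ (l + 1) • (⊤ : Submodule (X.presheaf.stalk x) (F.presheaf.stalk x)) := by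
  suffices haux : ∀ (I : X.IdealSheafData) (z : I.subscheme), x = I.subschemeι z → Set.range I.subschemeι = {x} →
      I = pointIdeal x hx ^ (l + 1) → (Function.Surjective (resH I F) ↔ ∀ u : F.presheaf.stalk x, ∃ s : Γ(F, ⊤),
        u - germM F ⊤ x trivial s ∈ IsLocalRing.maximalIdeal (X.presheaf.stalk x) ^ (l + 1) •
          (⊤ : Submodule (X.presheaf.stalk x) (F.presheaf.stalk x))) by
    have hsupp : ((pointIdeal x hx ^ (l + 1)).support : Set X) = {x} := by
      rw [Scheme.IdealSheafData.support_pow_succ]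
      exact Scheme.IdealSheafData.coe_support_vanishingIdeal _
    have hrange := (pointIdeal x hx ^ (l + 1)).range_subschemeι.trans hsupp
    obtain ⟨z, hz⟩ := hrange.ge (Set.mem_singleton x)
    exact haux _ z hz.symm hrange rfl
  intro I z hz hrange hI
  subst hz
  let ι := I.subschemeι
  let P := (Scheme.Modules.pullback ι).obj F
  have hone : ∀ w : I.subscheme, w = z := fun w =>
    ι.isClosedEmbedding.injective (hrange.le ⟨w, rfl⟩)
  have hU : ∀ U : I.subscheme.Opens, z ∈ U → U = ⊤ := fun U h => top_unique fun w _ => hone w ▸ h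
  have hglob : Function.Bijective (germM P ⊤ z trivial) := by
    refine ⟨fun a b hab => ?_, fun t => ?_⟩
    · refine TopCat.Presheaf.section_ext (⟨P.presheaf, P.isSheaf⟩ : TopCat.Sheaf Ab _) ⊤ a b fun w hw => ?_
      obtain rfl := hone w
      exact hab
    · obtain ⟨U, hzU, m, rfl⟩ := exists_germM_eq P z t
      obtain rfl := hU U hzU
      exact ⟨m, rfl⟩
  have hker : RingHom.ker (ι.stalkMap z).hom = IsLocalRing.maximalIdeal (X.presheaf.stalk (ι z)) ^ (l + 1) := by
    obtain ⟨U, hU', hzU, -⟩ := exists_isAffineOpen_mem_and_subset (X := X) (TopologicalSpace.Opens.mem_top (ι z))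
    have : IsAffine U.toScheme := hU'
    obtain ⟨hV, hsurj⟩ := IsClosedImmersion.isAffine_surjective_of_isAffine (f := ι ∣_ U)
    rw [← Scheme.Hom.resLE_eq_morphismRestrict] at hsurj
    have hsurj' : Function.Surjective (ι.app U) := by
      rw [Scheme.Hom.app_eq_appLE]
      exact ((MorphismProperty.surjective CommRingCat).arrow_mk_iso_iff
        (arrowResLEAppIso ι U (ι ⁻¹ᵁ U) le_rfl)).1 hsurj
    rw [Omega.ConormalZero.ker_stalkMap_eq ι hU' hV hzU hsurj',
      show RingHom.ker (ι.app U).hom = (pointIdeal (ι z) hx ^ (l + 1)).ideal ⟨U, hU'⟩ from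
        (I.ker_subschemeι_app ⟨U, hU'⟩).trans (congrArg (fun J : X.IdealSheafData => J.ideal ⟨U, hU'⟩) hI),
      Scheme.IdealSheafData.ideal_pow, Pi.pow_apply, Ideal.map_pow]
    congr 1
    have hpt : pointIdeal (ι z) hx = IntMult.ptIdeal (ι z) :=
      congrArg Scheme.IdealSheafData.vanishingIdeal (TopologicalSpace.Closeds.ext hx.closure_eq.symm)
    rw [hpt, CohDev.ideal_ptIdeal (ι z) (V := ⟨U, hU'⟩) hzU]
    letI := TopCat.Presheaf.algebra_section_stalk X.presheaf (⟨ι z, hzU⟩ : U)
    haveI := hU'.isLocalization_stalk ⟨ι z, hzU⟩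
    exact IsLocalization.AtPrime.map_eq_maximalIdeal (hU'.primeIdealOf ⟨ι z, hzU⟩).asIdeal (X.presheaf.stalk (ι z))
  let := (ι.stalkMap z).hom.toAlgebra
  let := PullStalk.Basic.moduleOver ι F z
  have : IsScalarTower (X.presheaf.stalk (ι z)) (I.subscheme.presheaf.stalk z) (P.presheaf.stalk z) :=
    IsScalarTower.of_algebraMap_smul fun _ _ => rfl
  have hbc := PullStalk.Basic.isBaseChange_unitStalk ι F z
  have hsj : Function.Surjective (algebraMap (X.presheaf.stalk (ι z)) (I.subscheme.presheaf.stalk z)) :=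
    ι.stalkMap_surjective z
  have hus : Function.Surjective (PullStalk.Basic.unitStalk ι F z) := fun y => by
    induction y using hbc.inductionOn with
    | zero => exact ⟨0, map_zero _⟩
    | tmul m => exact ⟨m, rfl⟩
    | add a b ha hb =>
      obtain ⟨a, rfl⟩ := ha; obtain ⟨b, rfl⟩ := hb
      exact ⟨a + b, map_add _ _ _⟩
    | smul c y hy =>
      obtain ⟨a, rfl⟩ := hy
      obtain ⟨c, rfl⟩ := hsj c
      exact ⟨c • a, (map_smul _ _ _).trans (algebraMap_smul _ _ _).symm⟩
  let N₀ := (IsLocalRing.maximalIdeal (X.presheaf.stalk (ι z)) ^ (l + 1)) •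
    (⊤ : Submodule (X.presheaf.stalk (ι z)) (F.presheaf.stalk (ι z)))
  have hkerU : LinearMap.ker (PullStalk.Basic.unitStalk ι F z) = N₀ := by
    refine le_antisymm (fun a ha => ?_) (Submodule.smul_le.2 fun c hc a _ => ?_)
    · refine (Submodule.Quotient.mk_eq_zero N₀).1 ?_
      have hN : ∀ c ∈ IsLocalRing.maximalIdeal (X.presheaf.stalk (ι z)) ^ (l + 1), ∀ q : F.presheaf.stalk (ι z) ⧸ N₀,
          c • q = 0 := fun c hc q => by
        induction q using Submodule.Quotient.induction_on with
        | H q => exact (Submodule.Quotient.mk_eq_zero N₀).2 (Submodule.smul_mem_smul hc trivial)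
      have hle : RingHom.ker (algebraMap (X.presheaf.stalk (ι z)) (I.subscheme.presheaf.stalk z)) ≤
          RingHom.ker (Module.toModuleEnd (X.presheaf.stalk (ι z)) (S := X.presheaf.stalk (ι z))
            (F.presheaf.stalk (ι z) ⧸ N₀)) := fun c hc => LinearMap.ext fun q => hN c (hker.le hc) q
      let L := RingHom.liftOfSurjective (algebraMap (X.presheaf.stalk (ι z)) (I.subscheme.presheaf.stalk z)) hsj ⟨_, hle⟩
      have hL : ∀ c, L (algebraMap _ _ c) = Module.toModuleEnd (X.presheaf.stalk (ι z))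
          (S := X.presheaf.stalk (ι z)) (F.presheaf.stalk (ι z) ⧸ N₀) c :=
        fun c => RingHom.liftOfRightInverse_comp_apply _ _ _ _ c
      let := Module.compHom (F.presheaf.stalk (ι z) ⧸ N₀) L
      have : IsScalarTower (X.presheaf.stalk (ι z)) (I.subscheme.presheaf.stalk z) (F.presheaf.stalk (ι z) ⧸ N₀) :=
        IsScalarTower.of_algebraMap_smul fun c q => LinearMap.congr_fun (hL c) q
      have h1 := hbc.lift_eq N₀.mkQ a
      rw [show PullStalk.Basic.unitStalk ι F z a = 0 from ha, map_zero] at h1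
      exact h1.symm
    · rw [LinearMap.mem_ker, map_smul, ← algebraMap_smul (I.subscheme.presheaf.stalk z) c,
        show algebraMap _ _ c = (0 : I.subscheme.presheaf.stalk z) from hker.ge hc, zero_smul]
  have hsq : ∀ s : Γ(F, ⊤), germM P ⊤ z trivial (((Scheme.Modules.pullbackPushforwardAdjunction ι).unit.app F).app ⊤ s) =
      PullStalk.Basic.unitStalk ι F z (germM F ⊤ (ι z) trivial s) :=
    fun s => (PullStalk.Basic.unitStalkHom_germ ι F z ⊤ trivial s).symm
  have hsep : Function.Surjective (resH I F) ↔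
      Function.Surjective (fun s : Γ(F, ⊤) => ((Scheme.Modules.pullbackPushforwardAdjunction ι).unit.app F).app ⊤ s) := by
    let φ := (SheafOfModules.toSheaf X.ringCatSheaf).map ((Scheme.Modules.pullbackPushforwardAdjunction ι).unit.app F)
    refine ⟨fun h y => ?_, fun h y => ?_⟩
    · obtain ⟨a, ha⟩ := h ((CohTop.Basic.H0Equiv _).symm y)
      refine ⟨CohTop.Basic.H0Equiv _ a, ?_⟩
      refine (CohTop.Basic.H0Equiv_map φ a).symm.trans ?_
      exact (congrArg _ ha).trans (AddEquiv.apply_symm_apply _ _)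
    · obtain ⟨a, ha⟩ := h (CohTop.Basic.H0Equiv _ y)
      refine ⟨(CohTop.Basic.H0Equiv _).symm a, (CohTop.Basic.H0Equiv _).injective ?_⟩
      refine (CohTop.Basic.H0Equiv_map φ _).trans ?_
      exact (congrArg _ (AddEquiv.apply_symm_apply _ a)).trans ha
  rw [hsep]
  refine ⟨fun h u => ?_, fun h y => ?_⟩
  · obtain ⟨s, hs⟩ := h (hglob.2 (PullStalk.Basic.unitStalk ι F z u)).choose
    refine ⟨s, hkerU.le ?_⟩
    rw [LinearMap.mem_ker, map_sub]
    exact sub_eq_zero.2 ((hglob.2 _).choose_spec.symm.trans ((congrArg (germM P ⊤ z trivial) hs.symm).trans (hsq s)))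
  · obtain ⟨u, hu⟩ := hus (germM P ⊤ z trivial y)
    obtain ⟨s, hs⟩ := h u
    refine ⟨s, hglob.1 ?_⟩
    have := hkerU.ge hs
    rw [LinearMap.mem_ker, map_sub, hu, ← hsq, sub_eq_zero] at this
    exact this.symm

/-- Let X be a scheme, x a closed point of X with ideal sheaf m_x, and F, G quasi-coherent O_X-modules
of finite type (coherent modules when X is locally Noetherian). A module M separates l-jets at x
when the restriction map H^0(X, M) → H^0(X, M / m_x^(l+1) M) is surjective. If F separates i-jets at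
x and G separates j-jets at x, with i, j ≥ 0, then F ⊗ G separates (i+j)-jets at x; in other words
s(F; x) + s(G; x) ≤ s(F ⊗ G; x) whenever both terms are ≥ 0, where s(M; x) is the largest l such
that M separates l-jets at x. -/
theorem result (X : Scheme.{u}) (x : X) (hx : IsClosed ({x} : Set X))
    (F G : X.Modules) (hF : Coh.IsCoh F) (hG : Coh.IsCoh G) (i j : ℕ)
    (hi : W4c2seshadripos.SeparatesJets F x hx i) (hj : W4c2seshadripos.SeparatesJets G x hx j) :
    W4c2seshadripos.SeparatesJets (CohB1.tensorMod F G) x hx (i + j) := by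
  rw [separatesJets_iff] at hi hj ⊢
  intro w
  let A := X.presheaf.stalk x
  let e := KFlat.StalkTensor.stalkTensorEquiv F G x
  obtain ⟨g, ⟨y, rfl⟩, hy⟩ := exists_approx (IsLocalRing.maximalIdeal A)
    (F.presheaf.germ ⊤ x trivial).hom.range (G.presheaf.germ ⊤ x trivial).hom.range
    ((e.toLinearMap.toAddMonoidHom.comp ((CohB1.tensorMod F G).presheaf.germ ⊤ x trivial).hom).range)
    (fun s hs t ht => by
      obtain ⟨s, rfl⟩ := hs
      obtain ⟨t, rfl⟩ := ht
      exact ⟨KFlat.StalkTensor.tmulSec ⊤ s t, KFlat.StalkTensor.toTensor_tgerm ⊤ trivial s t⟩)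
    i j (fun v => let ⟨s, h⟩ := hi v; ⟨_, ⟨s, rfl⟩, h⟩) (fun v => let ⟨s, h⟩ := hj v; ⟨_, ⟨s, rfl⟩, h⟩)
    (i + j + 1) le_rfl (e w)
  refine ⟨y, ?_⟩
  have h1 : e (w - germM (CohB1.tensorMod F G) ⊤ x trivial y) ∈
      (IsLocalRing.maximalIdeal A ^ (i + j + 1)) • (⊤ : Submodule A _) := by
    rw [map_sub]; exact hy
  have h2 := Submodule.mem_map_of_mem (f := e.symm.toLinearMap) h1
  rw [Submodule.map_smul'', Submodule.map_top, LinearMap.range_eq_top.2 e.symm.surjective] at h2
  simpa using h2

end Groth.Agent.S15253
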