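import Groth.Statements.S15256
import Groth.Agent.S15253
import Groth.Agent.ParaFLib.QSepBC

set_option autoImplicit false
set_option linter.style.haveILetI false
set_option backward.isDefEq.respectTransparency false
set_option backward.isDefEq.respectTransparency.types false
universe u
open CategoryTheory CategoryTheory.Limits AlgebraicGeometry TopologicalSpace
open W4c2seshadripos


namespace Groth.Agent.S15256

open Groth.Agent.PullStalk.Sky
open scoped TensorProduct

/-- every element is congruent to a section, on the stalk and at the maximal ideal of a chart -/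
theorem crit {X : Scheme.{u}} (F : X.Modules) [F.IsQuasicoherent] {U : X.Opens} (hU : IsAffineOpen U)
    {x : X} (hx : x ∈ U) (hmax : (hU.primeIdealOf ⟨x, hx⟩).asIdeal.IsMaximal) (n : ℕ) :
    (∀ u : F.presheaf.stalk x, ∃ s : Γ(F, ⊤), u - germM F ⊤ x trivial s ∈
      IsLocalRing.maximalIdeal (X.presheaf.stalk x) ^ n •
        (⊤ : Submodule (X.presheaf.stalk x) (F.presheaf.stalk x))) ↔
    ∀ a : Γ(F, U), ∃ s : Γ(F, ⊤), a - QCoh.res F le_top s ∈
      (hU.primeIdealOf ⟨x, hx⟩).asIdeal ^ n • (⊤ : Submodule Γ(X, U) Γ(F, U)) := by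
  let A := X.presheaf.stalk x
  let p := (hU.primeIdealOf ⟨x, hx⟩).asIdeal
  letI : Algebra Γ(X, U) A := (X.presheaf.germ U x hx).hom.toAlgebra
  letI := LimTop.stalkModule F hx
  haveI : IsScalarTower Γ(X, U) A (F.presheaf.stalk x) := IsScalarTower.of_algebraMap_smul fun _ _ => rfl
  haveI : IsLocalization.AtPrime A p := hU.isLocalization_stalk ⟨x, hx⟩
  haveI := LimTop.isLocalizedModule_germLin F hU hx
  let L := LimTop.germLin F hx
  have hm : Ideal.map (algebraMap Γ(X, U) A) p = IsLocalRing.maximalIdeal A :=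
    IsLocalization.AtPrime.map_eq_maximalIdeal p A
  let P : Submodule Γ(X, U) Γ(F, U) := p ^ n • ⊤
  have hL : ∀ w ∈ P, L w ∈ IsLocalRing.maximalIdeal A ^ n • (⊤ : Submodule A (F.presheaf.stalk x)) := by
    intro w hw
    induction hw using Submodule.smul_induction_on' with
    | smul r hr m _ =>
      rw [map_smul, ← algebraMap_smul A r]
      refine Submodule.smul_mem_smul ?_ trivial
      rw [← hm, ← Ideal.map_pow]
      exact Ideal.mem_map_of_mem _ hr
    | add a _ b _ ha hb => rw [map_add]; exact add_mem ha hb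
  have hinv : ∀ c : Γ(X, U), c ∉ p → ∃ t : Γ(X, U), 1 - t * c ∈ p ^ n := by
    intro c hc
    have h1 : Ideal.span {c} ⊔ p ^ n = ⊤ := by
      refine Ideal.sup_pow_eq_top ?_
      rw [sup_comm]
      exact hmax.out.2 _ (lt_of_le_of_ne le_sup_left fun e =>
        hc (e.ge (Submodule.mem_sup_right (Ideal.mem_span_singleton_self c))))
    obtain ⟨a, ha, b, hb, hab⟩ := Submodule.mem_sup.1 ((Ideal.eq_top_iff_one _).1 h1)
    obtain ⟨t, rfl⟩ := Ideal.mem_span_singleton'.1 ha
    exact ⟨t, by rw [← hab, add_sub_cancel_left]; exact hb⟩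
  have hP : ∀ (r : Γ(X, U)) (w : Γ(F, U)), r ∈ p ^ n → r • w ∈ P := fun r w hr =>
    Submodule.smul_mem_smul hr trivial
  have hg : ∀ s : Γ(F, ⊤), L (QCoh.res F le_top s) = germM F ⊤ x trivial s := fun s =>
    F.presheaf.germ_res_apply (homOfLE (le_top : U ≤ ⊤)) x hx s
  constructor
  · intro h a
    obtain ⟨s, hs⟩ := h (L a)
    refine ⟨s, ?_⟩
    rw [← hg, ← map_sub] at hs
    have key : ∀ z ∈ IsLocalRing.maximalIdeal A ^ n • (⊤ : Submodule A (F.presheaf.stalk x)),
        ∃ c : Γ(X, U), c ∉ p ∧ ∃ w ∈ P, c • z = L w := by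
      intro z hz
      induction hz using Submodule.smul_induction_on' with
      | smul r hr y _ =>
        rw [← hm, ← Ideal.map_pow, IsLocalization.mem_map_algebraMap_iff p.primeCompl] at hr
        obtain ⟨⟨⟨a, ha⟩, ⟨c, hc⟩⟩, hac⟩ := hr
        obtain ⟨⟨m, ⟨c', hc'⟩⟩, hmc⟩ := IsLocalizedModule.surj p.primeCompl L y
        refine ⟨c * c', p.primeCompl.mul_mem hc hc', a • m, hP a m ha, ?_⟩
        rw [map_smul, ← algebraMap_smul A (c * c'), smul_smul, map_mul, mul_comm _ r, ← mul_assoc,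
          hac, mul_smul, algebraMap_smul, algebraMap_smul]
        exact congrArg (a • ·) hmc
      | add y _ y' _ hy hy' =>
        obtain ⟨c, hc, w, hw, e⟩ := hy
        obtain ⟨c', hc', w', hw', e'⟩ := hy'
        refine ⟨c * c', p.primeCompl.mul_mem hc hc', c' • w + c • w',
          add_mem (P.smul_mem _ hw) (P.smul_mem _ hw'), ?_⟩
        rw [map_add, map_smul, map_smul, ← e, ← e', smul_add, smul_smul, smul_smul, mul_comm c' c]
    obtain ⟨c, hc, w, hw, e⟩ := key _ hs
    rw [← map_smul] at e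
    obtain ⟨⟨c', hc'⟩, e'⟩ := IsLocalizedModule.exists_of_eq (S := p.primeCompl) e
    set d := a - QCoh.res F le_top s
    obtain ⟨t, ht⟩ := hinv (c' * c) (p.primeCompl.mul_mem hc' hc)
    have h2 : (c' * c) • d ∈ P := by
      rw [mul_smul, show c' • c • d = c' • w from e']
      exact P.smul_mem _ hw
    have : d = (1 - t * (c' * c)) • d + t • (c' * c) • d := by
      rw [smul_smul, ← add_smul, sub_add_cancel, one_smul]
    rw [this]
    exact add_mem (hP _ _ ht) (P.smul_mem _ h2)
  · intro h u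
    obtain ⟨⟨m, ⟨c, hc⟩⟩, hmc⟩ := IsLocalizedModule.surj p.primeCompl L u
    have hmc' : c • u = L m := hmc
    obtain ⟨t, ht⟩ := hinv c hc
    obtain ⟨s, hs⟩ := h (t • m)
    refine ⟨s, ?_⟩
    have : u - germM F ⊤ x trivial s = (1 - t * c) • u + L (t • m - QCoh.res F le_top s) := by
      rw [map_sub, map_smul, hg, ← hmc', sub_smul, one_smul, mul_smul]
      abel
    rw [this]
    refine add_mem ?_ (hL _ hs)
    rw [← algebraMap_smul A (1 - t * c)]
    refine Submodule.smul_mem_smul ?_ trivial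
    rw [← hm, ← Ideal.map_pow]
    exact Ideal.mem_map_of_mem _ ht

theorem maximal_mem_iff {X : Scheme.{u}} {U : X.Opens} (hU : IsAffineOpen U) {x : X} (hx : x ∈ U) (a : Γ(X, U)) :
    a ∈ (hU.primeIdealOf ⟨x, hx⟩).asIdeal ↔
      X.presheaf.germ U x hx a ∈ IsLocalRing.maximalIdeal (X.presheaf.stalk x) := by
  letI : Algebra Γ(X, U) (X.presheaf.stalk x) := (X.presheaf.germ U x hx).hom.toAlgebra
  haveI : IsLocalization.AtPrime (X.presheaf.stalk x) (hU.primeIdealOf ⟨x, hx⟩).asIdeal :=
    hU.isLocalization_stalk ⟨x, hx⟩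
  exact (IsLocalization.AtPrime.to_map_mem_maximal_iff (X.presheaf.stalk x) _ a).symm

set_option maxHeartbeats 3000000 in
theorem main {X S S' X' : Scheme.{u}} {f : X ⟶ S} {g : S' ⟶ S} {π : X' ⟶ X} {q : X' ⟶ S'}
    (H : IsPullback π q f g) [QuasiCompact f] [QuasiSeparated f] [Flat g] [IsAffine S] [IsAffine S']
    (hK : IsField Γ(S, ⊤)) (hK' : IsField Γ(S', ⊤)) (F : X.Modules) [F.IsQuasicoherent] (x' : X')
    (hx : IsClosed ({π x'} : Set X)) (hx' : IsClosed ({x'} : Set X'))
    (hrat : ∀ z : X.presheaf.stalk (π x'), ∃ c : Γ(S, ⊤),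
      z - X.presheaf.germ ⊤ (π x') trivial (f.appTop c) ∈ IsLocalRing.maximalIdeal (X.presheaf.stalk (π x')))
    (l : ℕ) :
    SeparatesJets F (π x') hx l ↔ SeparatesJets ((Scheme.Modules.pullback π).obj F) x' hx' l := by
  haveI := QCoh.isQuasicoherent_pullback π F
  obtain ⟨U, hU, hxU, -⟩ :=
    exists_isAffineOpen_mem_and_subset (X := X) (TopologicalSpace.Opens.mem_top (π x'))
  have hS : IsAffineOpen (⊤ : S.Opens) := isAffineOpen_top S
  have hS' : IsAffineOpen (⊤ : S'.Opens) := isAffineOpen_top S'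
  have hT : (⊤ : S'.Opens) ≤ g ⁻¹ᵁ ⊤ := fun _ _ => trivial
  have hUle : U ≤ f ⁻¹ᵁ ⊤ := fun _ _ => trivial
  let U' := LFDesc.over π q (⊤ : S'.Opens) U
  have hxU' : x' ∈ U' := ⟨hxU, trivial⟩
  have hU' : IsAffineOpen U' := by
    haveI : IsAffine _ := hS
    haveI : IsAffine _ := hS'
    haveI : IsAffine _ := hU
    exact .of_isIso (Scheme.Hom.isPullback_resLE H hT hUle rfl).isoPullback.hom
  have hpo := (isIso_pushoutSection_iff H hT hUle rfl).1
    (isIso_pushoutSection_of_isAffineOpen H hT hUle rfl hS hS' hU)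
  letI : Field Γ(S, ⊤) := hK.toField
  let K := Γ(S, ⊤)
  let K' := Γ(S', ⊤)
  let R := Γ(X, U)
  let R' := Γ(X', U')
  letI := (g.appLE ⊤ ⊤ hT).hom.toAlgebra
  letI := (f.appLE ⊤ U hUle).hom.toAlgebra
  letI := (π.appLE U U' inf_le_left).hom.toAlgebra
  letI := (q.appLE ⊤ U' inf_le_right).hom.toAlgebra
  letI : Algebra Γ(S, ⊤) Γ(X', U') := (g.appLE ⊤ ⊤ hT ≫ q.appLE ⊤ U' inf_le_right).hom.toAlgebra
  haveI : IsScalarTower Γ(S, ⊤) Γ(S', ⊤) Γ(X', U') := IsScalarTower.of_algebraMap_eq fun _ => rfl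
  haveI : IsScalarTower Γ(S, ⊤) Γ(X, U) Γ(X', U') :=
    IsScalarTower.of_algebraMap_eq fun x => (ConcreteCategory.congr_hom hpo.w x).symm
  haveI hpush : Algebra.IsPushout Γ(S, ⊤) Γ(S', ⊤) Γ(X, U) Γ(X', U') :=
    CommRingCat.isPushout_iff_isPushout.1 hpo.flip
  let p : Ideal R := (hU.primeIdealOf ⟨π x', hxU⟩).asIdeal
  let p' : Ideal R' := (hU'.primeIdealOf ⟨x', hxU'⟩).asIdeal
  have hconst : ∀ a : R, ∃ c : K, a - algebraMap K R c ∈ p := by
    intro a
    obtain ⟨c, hc⟩ := hrat (X.presheaf.germ U (π x') hxU a)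
    refine ⟨c, (maximal_mem_iff hU hxU _).2 ?_⟩
    rw [map_sub]
    convert hc using 2
    exact X.presheaf.germ_res_apply (homOfLE (le_top : U ≤ ⊤)) (π x') hxU (f.appTop c)
  have hpmax : p.IsMaximal := by
    refine Ideal.isMaximal_iff.2 ⟨fun h => (hU.primeIdealOf ⟨π x', hxU⟩).isPrime.ne_top
      ((Ideal.eq_top_iff_one _).2 h), fun J a hJ ha haJ => ?_⟩
    obtain ⟨c, hc⟩ := hconst a
    have hc0 : c ≠ 0 := fun e => ha (by simpa [e] using hc)
    have hu : IsUnit (algebraMap K R c) := (Ne.isUnit hc0).map _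
    have : algebraMap K R c ∈ J := by simpa using sub_mem haJ (hJ hc)
    exact (Ideal.eq_top_iff_one J).1 (Ideal.eq_top_of_isUnit_mem _ this hu)
  let ψ : R →+* R' := algebraMap R R'
  let pR : Ideal R' := Ideal.map ψ p
  have hle : pR ≤ p' := Ideal.map_le_iff_le_comap.2 fun a ha => by
    refine (maximal_mem_iff hU' hxU' _).2 ?_
    have h1 : X'.presheaf.germ U' x' hxU' (ψ a) = π.stalkMap x' (X.presheaf.germ U (π x') hxU a) := by
      refine Eq.trans ?_ (Scheme.Hom.germ_stalkMap_apply π U x' hxU a).symm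
      exact X'.presheaf.germ_res_apply (homOfLE (inf_le_left : U' ≤ π ⁻¹ᵁ U)) x' hxU' (π.app U a)
    rw [h1]
    exact map_nonunit (π.stalkMap x').hom _ ((maximal_mem_iff hU hxU a).1 ha)
  have hR' : ∀ r : R', ∃ b : K', r - algebraMap K' R' b ∈ pR := by
    intro r
    induction r using hpush.out.inductionOn with
    | zero => exact ⟨0, by simp⟩
    | tmul a =>
      obtain ⟨c, hc⟩ := hconst a
      refine ⟨algebraMap K K' c, ?_⟩
      change ψ a - _ ∈ pR
      rw [← IsScalarTower.algebraMap_apply, IsScalarTower.algebraMap_apply K R R', ← map_sub]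
      exact Ideal.mem_map_of_mem _ hc
    | smul b r hr =>
      obtain ⟨b', hb'⟩ := hr
      refine ⟨b * b', ?_⟩
      rw [map_mul, Algebra.smul_def, ← mul_sub]
      exact pR.mul_mem_left _ hb'
    | add r r' hr hr' =>
      obtain ⟨b, hb⟩ := hr
      obtain ⟨b', hb'⟩ := hr'
      refine ⟨b + b', ?_⟩
      rw [map_add, add_sub_add_comm]
      exact add_mem hb hb'
  have hpr : p'.IsPrime := (hU'.primeIdealOf ⟨x', hxU'⟩).isPrime
  have hunit : ∀ b : K', b ≠ 0 → IsUnit (algebraMap K' R' b) := fun b hb => by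
    obtain ⟨b', hb'⟩ := hK'.mul_inv_cancel hb
    exact IsUnit.of_mul_eq_one (algebraMap K' R' b') (by rw [← map_mul, hb', map_one])
  have hpp : p' = pR := le_antisymm (fun z hz => by
    obtain ⟨b, hb⟩ := hR' z
    by_cases hb0 : b = 0
    · simpa [hb0] using hb
    · exact absurd (Ideal.eq_top_of_isUnit_mem p' (by simpa using sub_mem hz (hle hb)) (hunit b hb0))
        hpr.ne_top) hle
  have hpmax' : p'.IsMaximal := by
    refine Ideal.isMaximal_iff.2 ⟨fun h => hpr.ne_top ((Ideal.eq_top_iff_one _).2 h), fun J a hJ ha haJ => ?_⟩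
    obtain ⟨b, hb⟩ := hR' a
    have hb0 : b ≠ 0 := fun e => ha (hle (by simpa [e] using hb))
    exact (Ideal.eq_top_iff_one J).1 (Ideal.eq_top_of_isUnit_mem _
      (by simpa using sub_mem haJ (hJ (hle hb))) (hunit b hb0))
  rw [Groth.Agent.S15253.separatesJets_iff, Groth.Agent.S15253.separatesJets_iff,
    crit F hU hxU hpmax, crit _ hU' hxU' hpmax']
  -- sections over the chart
  let M := LFDesc.Sec f F hUle
  letI : Module R M := (inferInstance : Module Γ(X, U) Γ(F, U))
  haveI : IsScalarTower K R M := IsScalarTower.of_algebraMap_smul fun _ _ => rfl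
  let F' := (Scheme.Modules.pullback π).obj F
  let G0 := LFDesc.Sec f F (le_refl (f ⁻¹ᵁ (⊤ : S.Opens)))
  let r0 : G0 →ₗ[K] M := LFDesc.secRes f F (le_refl _) hUle hUle
  let Φ0 := LFDesc.Φ f g π q F hT H.w (le_refl (f ⁻¹ᵁ (⊤ : S.Opens)))
  let ΦU := LFDesc.Φ f g π q F hT H.w hUle
  have hΦ0 : Function.Bijective Φ0 := ParaFLib.QSepBC.Φ_bijective f g π q F hT H hS hS'
  have hΦU : Function.Bijective ΦU := LFDesc.Φ_bijective_of_isAffineOpen f g π q F hT H hS hS' hUle hU
  let T : Submodule R' Γ(F', U') := p' ^ (l + 1) • ⊤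
  let W : Submodule K M := LinearMap.range r0 ⊔ (p ^ (l + 1) • (⊤ : Submodule R M)).restrictScalars K
  have hW : W = ⊤ ↔ ∀ a : Γ(F, U), ∃ s : Γ(F, ⊤), a - QCoh.res F le_top s ∈
      p ^ (l + 1) • (⊤ : Submodule Γ(X, U) Γ(F, U)) := by
    rw [eq_top_iff]
    constructor
    · intro h a
      obtain ⟨_, ⟨s, rfl⟩, w, hw, hsw⟩ := Submodule.mem_sup.1 (h (show (show M from a) ∈ ⊤ from trivial))
      refine ⟨s, ?_⟩
      have : (show M from a) - r0 s = w := by rw [← hsw, add_sub_cancel_left]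
      exact this ▸ hw
    · intro h a _
      obtain ⟨s, hs⟩ := h a
      exact Submodule.mem_sup.2 ⟨r0 s, ⟨s, rfl⟩, _, hs, add_sub_cancel _ _⟩
  rw [← hW]
  have hres : ∀ s' : Γ(F', ⊤), ∃ z, QCoh.res F' le_top s' = ΦU (LinearMap.lTensor K' r0 z) := by
    intro s'
    obtain ⟨z, hz⟩ := hΦ0.2 (QCoh.res F' le_top s')
    refine ⟨z, ?_⟩
    rw [← LFDesc.res_Φ f g π q F hT H.w (le_refl _) hUle hUle z]
    exact ((QCoh.res_res F' le_top _ s').symm.trans (congrArg (QCoh.res F' _) hz.symm))
  have hres' : ∀ z, ∃ s' : Γ(F', ⊤), QCoh.res F' le_top s' = ΦU (LinearMap.lTensor K' r0 z) := by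
    intro z
    have htop : (⊤ : X'.Opens) ≤ LFDesc.over π q (⊤ : S'.Opens) (f ⁻¹ᵁ ⊤) := fun _ _ => ⟨trivial, trivial⟩
    refine ⟨QCoh.res F' htop (Φ0 z), ?_⟩
    rw [← LFDesc.res_Φ f g π q F hT H.w (le_refl _) hUle hUle z, QCoh.res_res]
  let img : AddSubgroup Γ(F', U') := (ΦU.comp (LinearMap.lTensor K' W.subtype).toAddMonoidHom).range
  have himgI : ∀ a ∈ p ^ (l + 1), ∀ m' : Γ(F', U'), ψ a • m' ∈ img := by
    intro a ha m'
    obtain ⟨z, rfl⟩ := hΦU.2 m'
    induction z using TensorProduct.induction_on with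
    | zero => rw [map_zero, smul_zero]; exact zero_mem _
    | add z z' hz hz' => rw [map_add, smul_add]; exact add_mem hz hz'
    | tmul b m =>
      have h1 : a • m ∈ p ^ (l + 1) • (⊤ : Submodule R M) :=
        Submodule.smul_mem_smul (N := (⊤ : Submodule R M)) ha Submodule.mem_top
      have h2 : a • m ∈ W :=
        Submodule.mem_sup_right ((Submodule.restrictScalars_mem K (p ^ (l + 1) • (⊤ : Submodule R M)) (a • m)).2 h1)
      refine ⟨b ⊗ₜ ⟨a • m, h2⟩, ?_⟩
      change ΦU (b ⊗ₜ (a • m)) = _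
      rw [LFDesc.Φ_tmul, LFDesc.Φ_tmul]
      erw [LimTop.unitSec_smul]
      rw [smul_comm]
      rfl
  have hT' : ∀ w ∈ T, w ∈ img := by
    intro w hw
    induction hw using Submodule.smul_induction_on' with
    | add a _ b _ ha hb => exact add_mem ha hb
    | smul r hr m _ =>
      rw [hpp, ← Ideal.map_pow] at hr
      revert m
      induction hr using Submodule.span_induction with
      | mem r hr =>
        obtain ⟨a, ha, rfl⟩ := hr
        exact fun m _ => himgI a ha m
      | zero => intro m _; rw [zero_smul]; exact zero_mem _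
      | add r r' _ _ h h' => intro m hm; rw [add_smul]; exact add_mem (h m hm) (h' m hm)
      | smul c r _ h => intro m hm; rw [smul_eq_mul, mul_comm, mul_smul]; exact h _ trivial
  have hμ : ∀ w ∈ p ^ (l + 1) • (⊤ : Submodule Γ(X, U) Γ(F, U)),
      LimTop.unitSec π F (inf_le_left : U' ≤ π ⁻¹ᵁ U) w ∈ T := by
    intro w hw
    induction hw using Submodule.smul_induction_on' with
    | smul r hr y _ =>
      rw [LimTop.unitSec_smul]
      refine Submodule.smul_mem_smul ?_ Submodule.mem_top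
      rw [hpp, ← Ideal.map_pow]
      exact Ideal.mem_map_of_mem ψ hr
    | add a _ b _ ha hb => rw [map_add]; exact add_mem ha hb
  constructor
  · intro h a
    obtain ⟨z, hz⟩ := hΦU.2 a
    have : ∀ z, ∃ s' : Γ(F', ⊤), ΦU z - QCoh.res F' le_top s' ∈ T := by
      intro z
      induction z using TensorProduct.induction_on with
      | zero => exact ⟨0, by rw [map_zero, map_zero, sub_zero]; exact zero_mem _⟩
      | add z z' hz hz' =>
        obtain ⟨s, hs⟩ := hz
        obtain ⟨s', hs'⟩ := hz'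
        exact ⟨s + s', by rw [map_add, map_add, add_sub_add_comm]; exact add_mem hs hs'⟩
      | tmul b m =>
        obtain ⟨_, ⟨s, rfl⟩, w, hw, hsw⟩ := Submodule.mem_sup.1 (h.ge (show m ∈ ⊤ from trivial))
        obtain ⟨s', hs'⟩ := hres' (b ⊗ₜ s)
        refine ⟨s', ?_⟩
        rw [hs', LinearMap.lTensor_tmul, ← map_sub, ← TensorProduct.tmul_sub,
          show m - r0 s = w by rw [← hsw, add_sub_cancel_left], LFDesc.Φ_tmul]
        refine T.smul_mem _ ?_
        exact hμ w ((Submodule.restrictScalars_mem K (p ^ (l + 1) • (⊤ : Submodule R M)) w).1 hw)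
    exact hz ▸ this z
  · intro h
    haveI : Nontrivial K' := ⟨hK'.exists_pair_ne⟩
    have hsurj : Function.Surjective (LinearMap.lTensor K' W.subtype) := by
      intro z
      obtain ⟨s', hs'⟩ := h (ΦU z)
      obtain ⟨y, hy⟩ := hres s'
      obtain ⟨w, hw⟩ := hT' _ hs'
      have hfac : r0 = W.subtype.comp (r0.codRestrict W fun s => Submodule.mem_sup_left ⟨s, rfl⟩) := rfl
      refine ⟨w + LinearMap.lTensor K' (r0.codRestrict W fun s => Submodule.mem_sup_left ⟨s, rfl⟩) y,
        hΦU.1 ?_⟩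
      have hw' : ΦU (LinearMap.lTensor K' W.subtype w) = ΦU z - QCoh.res F' le_top s' := hw
      rw [map_add, map_add, hw', hy, ← LinearMap.lTensor_comp_apply, ← hfac, sub_add_cancel]
    have := (Module.FaithfullyFlat.lTensor_surjective_iff_surjective K K' W.subtype).1 hsurj
    rw [eq_top_iff]
    intro m _
    obtain ⟨w, rfl⟩ := this m
    exact w.2

end Groth.Agent.S15256

namespace Groth.Agent.S15256

/-- For a field k, let X be a projective k-variety (an integral scheme, proper over k, carrying an ample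
invertible module), F a quasi-coherent O_X-module of finite type, and x a closed point of X that is
k-rational. Let k'/k be a field extension for which X_{k'} = X ×_k k' is still integral, write π :
X_{k'} → X for the projection, and let x' be a closed point of X_{k'} mapping to x (over a
k-rational point the fibre of π is one k'-rational point, so x' is determined by x). Then, for each
l ≥ 0, F separates l-jets at x exactly when π^* F separates l-jets at x'; here a module M separates
l-jets at a closed point y when H^0(M) → H^0(M / m_y^(l+1) M) is surjective. -/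
theorem result (k : Type u) [Field k] (X : Scheme.{u})
    [X.Over (Spec (CommRingCat.of k))] [IsProper (X ↘ (Spec (CommRingCat.of k)))] [IsIntegral X]
    (hproj : ∃ A : X.Modules, CohB1.IsAmple A)
    (F : X.Modules) (hF : Coh.IsCoh F) (x : X) (hx : IsClosed ({x} : Set X))
    (hrat : Function.Surjective (Curv2.resMap k X x))
    (k' : Type u) [Field k'] [Algebra k k'] [IsIntegral (Curv2.bc k X k')]
    (x' : ↥(Curv2.bc k X k')) (hx' : Curv2.bcFst k X k' x' = x) (hx'c : IsClosed ({x'} : Set ↥(Curv2.bc k X k')))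
    (l : ℕ) :
    W4c2seshadripos.SeparatesJets F x hx l ↔
      W4c2seshadripos.SeparatesJets ((Scheme.Modules.pullback (Curv2.bcFst k X k')).obj F) x' hx'c l := by
  haveI : F.IsQuasicoherent := hF.1
  subst hx'
  refine main (IsPullback.of_hasPullback _ _) ((Scheme.ΓSpecIso _).commRingCatIsoToRingEquiv.toMulEquiv.isField (Field.toIsField k))
    ((Scheme.ΓSpecIso _).commRingCatIsoToRingEquiv.toMulEquiv.isField (Field.toIsField k')) F x' hx hx'c
    (fun z => ?_) l
  obtain ⟨c, hc⟩ := hrat (X.residue _ z)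
  refine ⟨(Scheme.ΓSpecIso _).inv c, ?_⟩
  rw [← IsLocalRing.residue_eq_zero_iff, map_sub, sub_eq_zero]
  exact hc.symm

end Groth.Agent.S15256
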