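import Groth.Statements.S15259
import Groth.Agent.EssFT.Basic

set_option autoImplicit false
universe u
open CategoryTheory CategoryTheory.Limits AlgebraicGeometry TopologicalSpace
open W4c2seshadripos

open CategoryTheory CategoryTheory.Limits AlgebraicGeometry

set_option backward.isDefEq.respectTransparency.types false
set_option backward.isDefEq.respectTransparency false

namespace Groth.Agent.S15259

/-- Call f : X → Y locally essentially of finite type when Y has a cover by affine opens U = Spec A such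
that each f⁻¹(U) has a cover by affine opens Spec B with A → B essentially of finite type (a
localization of a finite-type A-algebra; Mathlib's RingHom.EssFiniteType), and essentially of finite
type when moreover f is quasi-compact. Then f is essentially of finite type exactly when every
affine open U = Spec A of Y has f⁻¹(U) covered by finitely many affine opens V = Spec B of X with A
→ B essentially of finite type. -/
theorem result {X Y : Scheme.{u}} (f : X ⟶ Y) :
    ((∃ S : Set Y.affineOpens, (⋃ U ∈ S, ((U : Y.Opens) : Set ↥Y)) = Set.univ ∧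
      ∀ U ∈ S, ∃ T : Set X.affineOpens, (⋃ V ∈ T, ((V : X.Opens) : Set ↥X)) = ((f ⁻¹ᵁ (U : Y.Opens)) : Set ↥X) ∧
        ∀ V ∈ T, ∃ e : (V : X.Opens) ≤ f ⁻¹ᵁ (U : Y.Opens), (f.appLE (U : Y.Opens) (V : X.Opens) e).hom.EssFiniteType) ∧ QuasiCompact f) ↔
    ∀ U : Y.affineOpens, ∃ T : Set X.affineOpens, T.Finite ∧ (⋃ V ∈ T, ((V : X.Opens) : Set ↥X)) = ((f ⁻¹ᵁ (U : Y.Opens)) : Set ↥X) ∧
        ∀ V ∈ T, ∃ e : (V : X.Opens) ≤ f ⁻¹ᵁ (U : Y.Opens), (f.appLE (U : Y.Opens) (V : X.Opens) e).hom.EssFiniteType := by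
  constructor
  · rintro ⟨⟨S, hS, h⟩, hqc⟩ U
    exact Groth.Agent.EssFT.Basic.exists_finite U (Groth.Agent.EssFT.Basic.forall_of_cover S hS
      (fun U' hU' => (Groth.Agent.EssFT.Basic.iff_essAt f U').1 (h U' hU')) U)
  · intro h
    refine ⟨⟨Set.univ, ?_, fun U _ => (h U).imp fun T hT => hT.2⟩, ?_⟩
    · rw [Set.eq_univ_iff_forall]
      intro y
      obtain ⟨_, ⟨U, hU, rfl⟩, hy, -⟩ := Y.isBasis_affineOpens.exists_subset_of_mem_open
        (Set.mem_univ y) isOpen_univ
      exact Set.mem_iUnion₂.2 ⟨⟨U, hU⟩, trivial, hy⟩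
    · rw [quasiCompact_iff_forall_isAffineOpen]
      intro U hU
      obtain ⟨T, hfin, hcov, -⟩ := h ⟨U, hU⟩
      rw [← hcov]
      exact hfin.isCompact_biUnion fun V _ => V.2.isCompact

end Groth.Agent.S15259
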