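import Groth.Statements.S15267
import Groth.Agent.ShStabLib.JHLocFree
import Groth.Agent.KRRLib.PullVb
import Groth.Agent.S4357
import Groth.Agent.S10830
import Groth.Agent.CycLib.ModStalk

set_option autoImplicit false
open CategoryTheory CategoryTheory.Limits AlgebraicGeometry
open Coherent

namespace Groth.Agent.S15267

/-- Over the complex numbers, let X be an irreducible proper scheme of dimension d with an ample
invertible sheaf L, and let ξ be a complex point of X. Let E and F be coherent sheaves on X which
are semistable of dimension d with respect to L (nonzero, pure of dimension d, and the reduced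
Hilbert polynomial of every nonzero proper coherent subsheaf is at most that of the sheaf for large
arguments), with the same reduced Hilbert polynomial (r(F)·p_E = r(E)·p_F for Hilbert polynomials
p_E, p_F, r denoting d! times the degree-d coefficient), and suppose that each of E and F has a
filtration by coherent subsheaves with stable d-dimensional successive quotients of the same reduced
Hilbert polynomial whose associated graded sheaf (the direct sum of the quotients) is finite locally
free on some open neighbourhood of ξ. Then every morphism f from E to F whose pull-back along ξ is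
the zero map is zero. (The published statement is for modules over a sheaf of rings of differential
operators on a projective flat family X over S with irreducible fibres of dimension d and a section
ξ, the conditions being imposed on all closed fibres; this row is the case of the structure sheaf
over a single complex fibre, to which the published proof reduces.) -/
theorem result
    (X : Scheme.{0}) [X.Over (Spec (CommRingCat.of ℂ))] [IsProper (X ↘ Spec (CommRingCat.of ℂ))]
    [IrreducibleSpace X] (d : ℕ) (hX : topologicalKrullDim X = (d : WithBot ℕ∞))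
    (L : X.Modules) (hL : CohB1.IsAmple L)
    (E F : X.Modules) (hE : ShStab.IsSemistable ℂ X L E d) (hF : ShStab.IsSemistable ℂ X L F d)
    (pE pF : Polynomial ℚ) (hpE : ShStab.IsHilbPoly ℂ X L E pE) (hpF : ShStab.IsHilbPoly ℂ X L F pF)
    (hred : StabCat.RedEq d pE pF)
    (ξ : Spec (CommRingCat.of ℂ) ⟶ X) (hξ : ξ ≫ (X ↘ Spec (CommRingCat.of ℂ)) = 𝟙 (Spec (CommRingCat.of ℂ)))
    (sE : LTSeries (Subobject E)) (hsE : ShStab.IsJHFiltration ℂ X L E d sE)
    (hgrE : ∀ x ∈ Set.range ξ.base, ∃ U : X.Opens, x ∈ U ∧ FlatMod.IsFinLocFree ((StabCat.grObj sE).restrict U.ι))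
    (sF : LTSeries (Subobject F)) (hsF : ShStab.IsJHFiltration ℂ X L F d sF)
    (hgrF : ∀ x ∈ Set.range ξ.base, ∃ U : X.Opens, x ∈ U ∧ FlatMod.IsFinLocFree ((StabCat.grObj sF).restrict U.ι))
    (f : E ⟶ F) (hf : (Scheme.Modules.pullback ξ).map f = 0) : f = 0 := by
  open Groth.Agent.HilbPolyX in
  rw [eq_hilb ℂ hL hE.1 hpE, eq_hilb ℂ hL hF.1 hpF] at hred
  have := Groth.Agent.EulerChar.isNoetherian ℂ (X := X)
  let x : X := ξ.base default
  let p := Abelian.factorThruImage f
  let q := Abelian.image.ι f
  have hfac : p ≫ q = f := Abelian.image.fac f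
  have hI : Coh.IsCoh (Abelian.image f) := Groth.Agent.CohDev.isCoh_image f hE.1 hF.1.1
  obtain ⟨-, hIF⟩ := Groth.Agent.ShStabLib.redEq_image ℂ hL hE hF hred p q hI
  obtain ⟨⟨sI, hsI, hI'⟩, ⟨sQ, hsQ, hQ'⟩⟩ :=
    Groth.Agent.ShStabLib.exists_jh_lfAt ℂ hL hF (x := x) sF hsF (hgrF x ⟨default, rfl⟩) q hI hIF
  obtain ⟨W, hxW, hW⟩ := Groth.Agent.ShStabLib.LFAt.of_series sQ hsQ.1 hsQ.2.1 hQ'
  have hrange : Set.range ξ.base ⊆ Set.range W.ι.base := by
    rintro _ ⟨p, rfl⟩
    rw [Scheme.Opens.range_ι, Subsingleton.elim p default]
    exact hxW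
  let ξ' := IsOpenImmersion.lift W.ι ξ hrange
  let Φ : Scheme.Modules.restrictFunctor W.ι ⋙ Scheme.Modules.pullback ξ' ≅ Scheme.Modules.pullback ξ :=
    Functor.isoWhiskerRight (Scheme.Modules.restrictFunctorIsoPullback W.ι) _ ≪≫
      Scheme.Modules.pullbackComp ξ' W.ι ≪≫
      Scheme.Modules.pullbackCongr (IsOpenImmersion.lift_fac W.ι ξ hrange)
  have hse := Groth.Agent.KRRLib.shortExact_pull ξ'
    (Groth.Agent.CohAff.restrict_shortExact W.ι (Groth.Agent.HilbPolyX.shortExact_of_mono q)) hW
  have : Mono ((Scheme.Modules.pullback ξ).map q) := by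
    have : Mono ((Scheme.Modules.restrictFunctor W.ι ⋙ Scheme.Modules.pullback ξ').map q) := hse.mono_f
    rw [← NatIso.naturality_1 Φ q]
    infer_instance
  have : (Scheme.Modules.pullback ξ).IsLeftAdjoint :=
    (Scheme.Modules.pullbackPushforwardAdjunction ξ).isLeftAdjoint
  have : Epi ((Scheme.Modules.pullback ξ).map p) := inferInstance
  have hq0 : (Scheme.Modules.pullback ξ).map q = 0 := by
    rw [← cancel_epi ((Scheme.Modules.pullback ξ).map p), comp_zero, ← Functor.map_comp, hfac, hf]
  have hzero : IsZero ((Scheme.Modules.pullback ξ).obj (Abelian.image f)) := IsZero.of_mono_eq_zero _ hq0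
  by_contra hne
  have hI0 : ¬ IsZero (Abelian.image f) := fun h => hne (by
    rw [← hfac, show q = 0 from h.eq_of_src _ _, comp_zero])
  have hx : x ∉ CohB1.support (Abelian.image f) := fun h => by
    have h1 := Groth.Agent.HilbPolyX.support_eq_empty_of_isZero hzero
    have : Coh.IsQCoh (Abelian.image f) := hI.1
    rw [Groth.Agent.S4357.result ξ (Abelian.image f) hI.2] at h1
    exact Set.notMem_empty (default : ↥(Spec (CommRingCat.of ℂ))) (h1 ▸ h)
  have hlt := Groth.Agent.S10830.result X (by rw [hX]; exact WithBot.coe_injective.ne (ENat.natCast_ne_top d))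
    (CohB1.support (Abelian.image f)) (by convert @Groth.Agent.CycLib.isClosed_support X (Abelian.image f) hI.1 hI using 2; ext; exact not_subsingleton_iff_nontrivial)
    (fun h => hx (h ▸ Set.mem_univ x))
  rw [hX] at hlt
  exact hlt.ne (hF.2.2.1 _ q inferInstance hI hI0)

end Groth.Agent.S15267
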