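import Groth.Statements.S15270
import Groth.Agent.FreeAlong.Stalk
import Groth.Agent.QCoh.FiniteType
import Groth.Agent.ProjProper.Basic

set_option autoImplicit false
set_option linter.style.haveILetI false
open CategoryTheory CategoryTheory.Limits AlgebraicGeometry
open Coherent

namespace Groth.Agent.S15270

/-- Over the complex numbers, let S be a separated scheme of finite type, X a closed subscheme of
projective n-space over S which is flat over S, and ξ a section of X over S. Let F be a coherent
sheaf on X, flat over S, such that for every complex point t of S the restriction F_t to the fibre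
X_t, polarised by the pull-back of O(1), is semistable of dimension d (nonzero, pure of dimension d,
reduced Hilbert polynomials of nonzero proper coherent subsheaves at most that of F_t for large
arguments) and has a filtration by coherent subsheaves with stable d-dimensional successive
quotients of the reduced Hilbert polynomial of F_t whose associated graded sheaf is finite locally
free on an open neighbourhood of the point ξ(t). Then F is locally free along ξ: for every complex
point t of S, F is finite locally free on an open neighbourhood of the point ξ(t) of X. (The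
published statement is for modules over a sheaf of rings of differential operators, on a projective
flat family with irreducible fibres of dimension d, and uses closed points; this row is the case of
the structure sheaf with complex points, which are the closed points here, and does not assume the
fibres irreducible.) -/
theorem result
    (S : Scheme.{0}) (sS : S ⟶ Spec (CommRingCat.of ℂ)) [LocallyOfFiniteType sS] [QuasiCompact sS] [IsSeparated sS]
    (n : ℕ) (X : Scheme.{0}) (i : X ⟶ CohB1.ProjSpaceOver n S) [IsClosedImmersion i] [Flat (i ≫ (CohB1.ProjSpaceOver n S ↘ S))] (d : ℕ)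
    (ξ : S ⟶ X) (hξ : ξ ≫ (i ≫ (CohB1.ProjSpaceOver n S ↘ S)) = 𝟙 S)
    (F : X.Modules) (hF : Coh.IsCoh F) (hFfl : FlatMod.IsFlatOver (i ≫ (CohB1.ProjSpaceOver n S ↘ S)) F)
    (hss : ∀ (t : Spec (CommRingCat.of ℂ) ⟶ S), t ≫ sS = 𝟙 (Spec (CommRingCat.of ℂ)) →
      @ShStab.IsSemistable ℂ _ (PicF.XT (i ≫ (CohB1.ProjSpaceOver n S ↘ S)) (Over.mk t)) ⟨PicF.XTproj (i ≫ (CohB1.ProjSpaceOver n S ↘ S)) (Over.mk t)⟩ ((Scheme.Modules.pullback (pullback.fst (i ≫ (CohB1.ProjSpaceOver n S ↘ S)) (Over.mk t).hom ≫ i)).obj (Twist.twistOver n S 1)) ((Scheme.Modules.pullback (pullback.fst (i ≫ (CohB1.ProjSpaceOver n S ↘ S)) (Over.mk t).hom)).obj F) d)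
    (hLF : ∀ (t : Spec (CommRingCat.of ℂ) ⟶ S), t ≫ sS = 𝟙 (Spec (CommRingCat.of ℂ)) →
      ∃ sF : LTSeries (Subobject ((Scheme.Modules.pullback (pullback.fst (i ≫ (CohB1.ProjSpaceOver n S ↘ S)) (Over.mk t).hom)).obj F)), @ShStab.IsJHFiltration ℂ _ (PicF.XT (i ≫ (CohB1.ProjSpaceOver n S ↘ S)) (Over.mk t)) ⟨PicF.XTproj (i ≫ (CohB1.ProjSpaceOver n S ↘ S)) (Over.mk t)⟩ ((Scheme.Modules.pullback (pullback.fst (i ≫ (CohB1.ProjSpaceOver n S ↘ S)) (Over.mk t).hom ≫ i)).obj (Twist.twistOver n S 1)) ((Scheme.Modules.pullback (pullback.fst (i ≫ (CohB1.ProjSpaceOver n S ↘ S)) (Over.mk t).hom)).obj F) d sF ∧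
        ∀ x ∈ Set.range (PicF.secT (i ≫ (CohB1.ProjSpaceOver n S ↘ S)) ξ hξ (Over.mk t)).base, ∃ V : (PicF.XT (i ≫ (CohB1.ProjSpaceOver n S ↘ S)) (Over.mk t)).Opens, x ∈ V ∧ FlatMod.IsFinLocFree ((StabCat.grObj sF).restrict V.ι))
    (t : Spec (CommRingCat.of ℂ) ⟶ S) (ht : t ≫ sS = 𝟙 (Spec (CommRingCat.of ℂ))) :
    ∀ x ∈ Set.range (t ≫ ξ).base, ∃ U : X.Opens, x ∈ U ∧ FlatMod.IsFinLocFree (F.restrict U.ι) := by
  rintro x ⟨z, rfl⟩
  let f := i ≫ (CohB1.ProjSpaceOver n S ↘ S)
  let p := pullback.fst f (Over.mk t).hom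
  let x' := (PicF.secT f ξ hξ (Over.mk t)).base z
  have hx : p x' = (t ≫ ξ).base z := by
    show (PicF.secT f ξ hξ (Over.mk t) ≫ p).base z = _
    rw [PicF.secT, pullback.lift_fst]
    rfl
  obtain ⟨sF, hJH, hV⟩ := hLF t ht
  obtain ⟨V, hxV, hlf⟩ := hV x' ⟨z, rfl⟩
  haveI : IsLocallyNoetherian S := LocallyOfFiniteType.isLocallyNoetherian sS
  haveI hpr : IsProper (CohB1.ProjSpaceOver n S ↘ S) := ProjProper.Basic.isProper_toBase n S
  haveI : IsLocallyNoetherian X := LocallyOfFiniteType.isLocallyNoetherian f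
  haveI := hF.1
  haveI : SheafOfModules.IsFiniteType F := hF.2
  have hfac : ∀ j, (StabCat.factor sF j).IsQuasicoherent := fun j => (hJH.2.2 j).1.1.1
  haveI : (StabCat.grObj sF).IsQuasicoherent :=
    @QCoh.isQuasicoherent_coproduct _ _ (StabCat.factor sF) hfac
  have hg := FreeAlong.free_stalk_of_restrict (StabCat.grObj sF) hlf hxV
  haveI := Module.Projective.of_free (R := (PicF.XT f (Over.mk t)).presheaf.stalk x')
    (P := (StabCat.grObj sF).presheaf.stalk x')
  haveI hproj := FreeAlong.projective_stalk_of_filtration sF hJH.1 hJH.2.1 x'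
    (FreeAlong.projective_factor_of_grObj sF x')
  haveI hfin : Module.Finite (X.presheaf.stalk (p x')) (F.presheaf.stalk (p x')) :=
    FDesc.QuasiFlat.finite_stalk_of_isCoh F hF _
  haveI : Module.Finite ((PicF.XT f (Over.mk t)).presheaf.stalk x')
      (((Scheme.Modules.pullback p).obj F).presheaf.stalk x') := by
    letI := (p.stalkMap x').hom.toAlgebra
    letI := PullStalk.Basic.moduleOver p F x'
    haveI : IsScalarTower (X.presheaf.stalk (p x')) ((PicF.XT f (Over.mk t)).presheaf.stalk x')
        (((Scheme.Modules.pullback p).obj F).presheaf.stalk x') :=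
      IsScalarTower.of_algebraMap_smul fun _ _ => rfl
    exact Module.Finite.equiv (PullStalk.Basic.isBaseChange_unitStalk p F x').equiv
  haveI : Module.FinitePresentation (X.presheaf.stalk (p x')) (F.presheaf.stalk (p x')) :=
    Module.finitePresentation_of_finite _ _
  have hfree : Module.Free (X.presheaf.stalk (p x')) (F.presheaf.stalk (p x')) :=
    FreeAlong.free_stalk_of_isPullback (IsPullback.of_hasPullback f (Over.mk t).hom) F x'
      (hFfl _) Module.free_of_flat_of_isLocalRing
  rw [← hx]
  obtain ⟨U, hU, hxU, -⟩ := exists_isAffineOpen_mem_and_subset (TopologicalSpace.Opens.mem_top (p x'))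
  haveI := QCoh.finite_sections_of_isFiniteType F hU
  haveI : IsNoetherianRing Γ(X, U) := IsLocallyNoetherian.component_noetherian ⟨U, hU⟩
  obtain ⟨W, k, hxW, ⟨e⟩⟩ := Props.QProj.exists_free_nhd F hU hxU
    (Module.finitePresentation_of_finite _ _) hfree
  exact ⟨W, hxW, fun y => ⟨⊤, k, trivial,
    ⟨(Scheme.Modules.restrictFunctor (⊤ : Scheme.Opens W).ι).mapIso (e ≪≫ (Props.QProj.freeModIso _ k).symm) ≪≫
      Props.QProj.restrictFreeIso _ _ ≪≫ Props.QProj.freeModIso _ k⟩⟩⟩

end Groth.Agent.S15270
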