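import Groth.Statements.S15283
import Mathlib

set_option autoImplicit false
universe u
open CAlg

namespace Groth.Agent.S15283

section
open MvPolynomial

variable {R S : Type u} [CommRing R] [IsDomain R] [ValuationRing R] [CommRing S] [IsDomain S]
  [Algebra R S] (P : Ideal S) [P.IsPrime]

lemma dvd_of_notMem {p : Ideal R} {t a : R} (ht : t ∉ p) (ha : a ∈ p) : t ∣ a :=
  (ValuationRing.dvd_total t a).resolve_right fun h => ht (p.mem_of_dvd h ha)

/-- Every element coming from a composed place is determined by the two pieces. -/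
lemma composed_main (hinj : Function.Injective (algebraMap R S))
    (hcof : ∀ s : S, s ∉ P → ∃ (t : R) (u : S), t ∉ P.comap (algebraMap R S) ∧ u * s = algebraMap R S t)
    (hA : (Localization.localRingHom (P.comap (algebraMap R S)) P (algebraMap R S) rfl).Etale)
    (hB : (Ideal.quotientMap P (algebraMap R S) (le_refl (P.comap (algebraMap R S)))).Etale) :
    Algebra.Etale R S := by
  classical
  set p := P.comap (algebraMap R S) with hp
  let Rp := Localization.AtPrime p
  let SP := Localization.AtPrime P
  letI algP : Algebra Rp SP := (Localization.localRingHom p P (algebraMap R S) rfl).toAlgebra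
  haveI : IsScalarTower R Rp SP := IsScalarTower.of_algebraMap_eq fun r => by
    rw [IsScalarTower.algebraMap_apply R S SP]
    exact (Localization.localRingHom_to_map p P (algebraMap R S) rfl r).symm
  haveI : Algebra.Etale Rp SP := hA
  haveI : IsLocalHom (algebraMap Rp SP) := Localization.isLocalHom_localRingHom p P _ rfl
  letI algQ : Algebra (R ⧸ p) (S ⧸ P) := (Ideal.quotientMap P (algebraMap R S) (le_refl p)).toAlgebra
  haveI : IsScalarTower R (R ⧸ p) (S ⧸ P) := IsScalarTower.of_algebraMap_eq fun r => rfl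
  haveI : Algebra.Etale (R ⧸ p) (S ⧸ P) := hB
  let ι := algebraMap S SP
  have hι : Function.Injective ι :=
    IsLocalization.injective SP (M := P.primeCompl) (Ideal.primeCompl_le_nonZeroDivisors P)
  have hp0 : ∀ t : R, t ∉ p → algebraMap R S t ≠ 0 := fun t ht h => ht (by simp [hp, h])
  -- `P = pS`
  have hPgen : ∀ x ∈ P, x ∈ p.map (algebraMap R S) := by
    intro x hx
    have h1 : ι x ∈ (p.map (algebraMap R S)).map ι := by
      rw [Ideal.map_map, ← IsScalarTower.algebraMap_eq R S SP, IsScalarTower.algebraMap_eq R Rp SP,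
        ← Ideal.map_map, Localization.AtPrime.map_eq_maximalIdeal,
        Algebra.FormallyUnramified.map_maximalIdeal]
      exact (IsLocalization.AtPrime.to_map_mem_maximal_iff SP P x).mpr hx
    obtain ⟨s, hs, hsx⟩ := (IsLocalization.algebraMap_mem_map_algebraMap_iff P.primeCompl SP _ x).mp h1
    obtain ⟨t, w, ht, htw⟩ := hcof s hs
    have htx : algebraMap R S t * x ∈ p.map (algebraMap R S) := by
      rw [← htw, mul_assoc]; exact Ideal.mul_mem_left _ w hsx
    have hp' : p.map (algebraMap R S) ≤ Ideal.span {algebraMap R S t} * p.map (algebraMap R S) := by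
      rw [Ideal.map_le_iff_le_comap]
      intro a ha
      obtain ⟨a', rfl⟩ := dvd_of_notMem ht ha
      rw [Ideal.mem_comap, map_mul]
      exact Ideal.mul_mem_mul (Ideal.mem_span_singleton_self _)
        (Ideal.mem_map_of_mem _ ((Ideal.IsPrime.mem_or_mem inferInstance ha).resolve_left ht))
    obtain ⟨z, hz, hzx⟩ := Ideal.mem_span_singleton_mul.mp (hp' htx)
    exact mul_left_cancel₀ (hp0 t ht) hzx ▸ hz
  -- finite type
  obtain ⟨T, hT⟩ := Algebra.FiniteType.out (R := Rp) (A := SP)
  obtain ⟨G, hG⟩ := Algebra.FiniteType.out (R := R ⧸ p) (A := S ⧸ P)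
  choose nm hnm using fun y : SP => IsLocalization.surj P.primeCompl y
  choose tt cf htt hcf using fun y : SP => hcof (nm y).2 (nm y).2.2
  let g := fun y : SP => cf y * (nm y).1
  choose lift hlift using fun z : S ⧸ P => Ideal.Quotient.mk_surjective z
  let B0 := Algebra.adjoin R ((T.image g ∪ G.image lift : Finset S) : Set S)
  have hB0T : ∀ y ∈ T, g y ∈ B0 := fun y hy =>
    Algebra.subset_adjoin (Finset.mem_coe.mpr (Finset.mem_union_left _ (Finset.mem_image_of_mem g hy)))
  have hloc : ∀ z : SP, ∃ (t : R) (b : S), t ∉ p ∧ b ∈ B0 ∧ algebraMap R SP t * z = ι b := by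
    intro z
    have hz : z ∈ Algebra.adjoin Rp (T : Set SP) := hT ▸ Algebra.mem_top
    induction hz using Algebra.adjoin_induction with
    | mem y hy =>
      refine ⟨tt y, g y, htt y, hB0T y hy, ?_⟩
      rw [IsScalarTower.algebraMap_apply R S SP, ← hcf y, map_mul, map_mul, mul_assoc, mul_comm _ y, hnm y]
    | algebraMap r =>
      obtain ⟨⟨a, t⟩, hat⟩ := IsLocalization.surj p.primeCompl r
      refine ⟨t, algebraMap R S a, t.2, Subalgebra.algebraMap_mem _ a, ?_⟩
      rw [← IsScalarTower.algebraMap_apply R S SP, IsScalarTower.algebraMap_apply R Rp SP,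
        IsScalarTower.algebraMap_apply R Rp SP a, ← map_mul, mul_comm, hat]
    | add x y _ _ hx hy =>
      obtain ⟨t, b, ht, hb, h⟩ := hx
      obtain ⟨t', b', ht', hb', h'⟩ := hy
      refine ⟨t * t', algebraMap R S t' * b + algebraMap R S t * b', fun hc => ?_,
        add_mem (mul_mem (Subalgebra.algebraMap_mem _ _) hb) (mul_mem (Subalgebra.algebraMap_mem _ _) hb'), ?_⟩
      · exact (Ideal.IsPrime.mem_or_mem inferInstance hc).elim ht ht'
      · simp only [map_add, map_mul, ← h, ← h', ← IsScalarTower.algebraMap_apply, ι]; ring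
    | mul x y _ _ hx hy =>
      obtain ⟨t, b, ht, hb, h⟩ := hx
      obtain ⟨t', b', ht', hb', h'⟩ := hy
      refine ⟨t * t', b * b', fun hc => (Ideal.IsPrime.mem_or_mem inferInstance hc).elim ht ht',
        mul_mem hb hb', ?_⟩
      rw [map_mul, map_mul, ← h, ← h']; ring
  have hPB0 : ∀ a ∈ p, ∀ y : S, algebraMap R S a * y ∈ B0 := by
    intro a ha y
    obtain ⟨t, b, ht, hb, h⟩ := hloc (ι y)
    rw [IsScalarTower.algebraMap_apply R S SP, ← map_mul] at h
    obtain ⟨a', rfl⟩ := dvd_of_notMem ht ha
    rw [map_mul, mul_comm (algebraMap R S t), mul_assoc, hι h]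
    exact mul_mem (Subalgebra.algebraMap_mem _ _) hb
  have hPle : ∀ x ∈ P, x ∈ B0 := by
    intro x hx
    have hx' := hPgen x hx
    rw [Ideal.map, Submodule.mem_span_iff_exists_finset_subset] at hx'
    obtain ⟨f, s, hs, -, rfl⟩ := hx'
    refine sum_mem fun i hi => ?_
    obtain ⟨a, ha, rfl⟩ := hs hi
    rw [smul_eq_mul, mul_comm]
    exact hPB0 a ha _
  have htop : B0 = ⊤ := by
    refine eq_top_iff.mpr fun x _ => ?_
    have hx : Ideal.Quotient.mk P x ∈ Algebra.adjoin (R ⧸ p) (G : Set (S ⧸ P)) := hG ▸ Algebra.mem_top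
    suffices ∀ z : S ⧸ P, z ∈ Algebra.adjoin (R ⧸ p) (G : Set (S ⧸ P)) →
        ∃ b ∈ B0, Ideal.Quotient.mk P b = z by
      obtain ⟨b, hb, hbx⟩ := this _ hx
      rw [show x = b + (x - b) by ring]
      exact add_mem hb (hPle _ (Ideal.Quotient.eq.mp hbx.symm))
    intro z hz
    induction hz using Algebra.adjoin_induction with
    | mem y hy =>
      exact ⟨lift y, Algebra.subset_adjoin (Finset.mem_coe.mpr
        (Finset.mem_union_right _ (Finset.mem_image_of_mem lift hy))), hlift y⟩
    | algebraMap r =>
      obtain ⟨r, rfl⟩ := Ideal.Quotient.mk_surjective r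
      exact ⟨algebraMap R S r, Subalgebra.algebraMap_mem _ _, rfl⟩
    | add a b _ _ ha hb =>
      obtain ⟨a', ha', rfl⟩ := ha; obtain ⟨b', hb', rfl⟩ := hb
      exact ⟨a' + b', add_mem ha' hb', map_add _ _ _⟩
    | mul a b _ _ ha hb =>
      obtain ⟨a', ha', rfl⟩ := ha; obtain ⟨b', hb', rfl⟩ := hb
      exact ⟨a' * b', mul_mem ha' hb', map_mul _ _ _⟩
  haveI hft : Algebra.FiniteType R S := ⟨⟨_, htop⟩⟩
  -- flat
  haveI : Module.IsTorsionFree R S := by
    have := (faithfulSMul_iff_algebraMap_injective R S).mpr hinj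
    infer_instance
  haveI : Module.Flat R S := Module.Flat.flat_iff_torsion_eq_bot_of_isBezout.mpr (Submodule.isTorsionFree_iff_torsion_eq_bot.mp inferInstance)
  -- unramified
  haveI : Algebra.FormallyUnramified R SP := by
    haveI : Algebra.FormallyUnramified R Rp := Algebra.FormallyUnramified.of_isLocalization p.primeCompl
    exact Algebra.FormallyUnramified.comp R Rp SP
  haveI : Algebra.FormallyUnramified R (S ⧸ P) := by
    haveI : Algebra.FormallyUnramified R (R ⧸ p) :=
      Algebra.FormallyUnramified.of_surjective (Algebra.ofId R (R ⧸ p)) Ideal.Quotient.mk_surjective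
    exact Algebra.FormallyUnramified.comp R (R ⧸ p) (S ⧸ P)
  have htor : ∀ ω : Ω[S⁄R], ∀ a ∈ p, algebraMap R S a • ω = 0 := by
    intro ω a ha
    obtain ⟨⟨s, hs⟩, hsω⟩ := (IsLocalizedModule.eq_zero_iff P.primeCompl
      (KaehlerDifferential.map R R S SP) (m := ω)).mp (Subsingleton.elim _ _)
    obtain ⟨t, w, ht, htw⟩ := hcof s hs
    obtain ⟨a', rfl⟩ := dvd_of_notMem ht ha
    rw [map_mul, ← htw, mul_comm, ← mul_assoc, mul_smul]
    exact (congrArg _ hsω).trans (smul_zero _)
  have htorP : ∀ ω : Ω[S⁄R], ∀ x ∈ P, x • ω = 0 := by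
    intro ω x hx
    have hle : p.map (algebraMap R S) ≤ LinearMap.ker (LinearMap.toSpanSingleton S _ ω) :=
      Ideal.map_le_iff_le_comap.mpr fun a ha => htor ω a ha
    exact hle (hPgen x hx)
  haveI hun : Algebra.FormallyUnramified R S := by
    let D := KaehlerDifferential.D R S
    have hDP : ∀ x ∈ P, D x = 0 := by
      intro x hx
      have hx' := hPgen x hx
      rw [Ideal.map, Submodule.mem_span_iff_exists_finset_subset] at hx'
      obtain ⟨f, s, hs, -, rfl⟩ := hx'
      rw [map_sum]
      refine Finset.sum_eq_zero fun i hi => ?_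
      obtain ⟨a, ha, rfl⟩ := hs hi
      rw [smul_eq_mul, D.leibniz, D.map_algebraMap, smul_zero, zero_add, htor _ a ha]
    have hbs : Module.IsTorsionBySet S (Ω[S⁄R]) P := fun ω x => htorP ω x x.2
    letI := hbs.module
    haveI : IsScalarTower R (S ⧸ P) (Ω[S⁄R]) := hbs.isScalarTower
    let L : (S ⧸ P) →ₗ[R] Ω[S⁄R] :=
      ((P.restrictScalars R).liftQ D.toLinearMap fun x hx => hDP x hx).comp
        (Submodule.Quotient.restrictScalarsEquiv R P).symm.toLinearMap
    let D' : Derivation R (S ⧸ P) (Ω[S⁄R]) := Derivation.mk' L fun a b => by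
      obtain ⟨a, rfl⟩ := Ideal.Quotient.mk_surjective a
      obtain ⟨b, rfl⟩ := Ideal.Quotient.mk_surjective b
      exact D.leibniz a b
    have hD0 : ∀ x, D x = 0 := fun x => by
      have h := D'.liftKaehlerDifferential_comp_D (Ideal.Quotient.mk P x)
      rw [Subsingleton.elim (KaehlerDifferential.D R (S ⧸ P) (Ideal.Quotient.mk P x)) 0, map_zero] at h
      exact h.symm
    rw [Algebra.formallyUnramified_iff]
    refine subsingleton_of_forall_eq 0 fun ω => ?_
    have hω : ω ∈ Submodule.span S (Set.range D) := KaehlerDifferential.span_range_derivation R S ▸ trivial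
    rw [show Set.range D = {0} from Set.eq_singleton_iff_unique_mem.mpr
      ⟨⟨0, hD0 0⟩, by rintro _ ⟨x, rfl⟩; exact hD0 x⟩, Submodule.span_zero_singleton] at hω
    exact (Submodule.mem_bot S).mp hω
  -- finite presentation
  obtain ⟨n, π, hπ⟩ := Algebra.FiniteType.iff_quotient_mvPolynomial''.mp hft
  haveI : Algebra.FinitePresentation R S := by
    refine Algebra.FinitePresentation.of_surjective hπ ?_
    let v := fun i => π (X i)
    let πp : MvPolynomial (Fin n) Rp →ₐ[Rp] SP := aeval fun i => ι (v i)
    have hπp : ∀ f : MvPolynomial (Fin n) R, πp (map (algebraMap R Rp) f) = ι (π f) := by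
      intro f
      have : π = aeval v := MvPolynomial.algHom_ext fun i => by simp [v]
      rw [this, aeval_map_algebraMap, ← IsScalarTower.coe_toAlgHom' R S SP, ← AlgHom.comp_apply,
        comp_aeval]
    have hπps : Function.Surjective πp := fun z => by
      obtain ⟨t, b, ht, -, h⟩ := hloc z
      obtain ⟨f, rfl⟩ := hπ b
      obtain ⟨w, hw⟩ := (IsLocalization.map_units Rp (⟨t, ht⟩ : p.primeCompl)).exists_left_inv
      refine ⟨C w * map (algebraMap R Rp) f, ?_⟩
      rw [map_mul, hπp, ← h, aeval_C, IsScalarTower.algebraMap_apply R Rp SP, ← mul_assoc, ← map_mul,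
        hw, map_one, one_mul]
    let ρ : MvPolynomial (Fin n) (R ⧸ p) →ₐ[R ⧸ p] S ⧸ P := aeval fun i => Ideal.Quotient.mk P (v i)
    have hρ : ∀ f : MvPolynomial (Fin n) R, ρ (map (Ideal.Quotient.mk p) f) = Ideal.Quotient.mk P (π f) := by
      intro f
      have : π = aeval v := MvPolynomial.algHom_ext fun i => by simp [v]
      rw [this, ← Ideal.Quotient.algebraMap_eq, aeval_map_algebraMap,
        show Ideal.Quotient.mk P (aeval v f) = (IsScalarTower.toAlgHom R S (S ⧸ P)) (aeval v f) from rfl,
        ← AlgHom.comp_apply, comp_aeval]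
      rfl
    have hρs : Function.Surjective ρ := fun z => by
      obtain ⟨b, rfl⟩ := Ideal.Quotient.mk_surjective z
      obtain ⟨f, rfl⟩ := hπ b
      exact ⟨_, hρ f⟩
    obtain ⟨K1, hK1⟩ := Algebra.FinitePresentation.ker_fG_of_surjective πp hπps
    obtain ⟨K2, hK2⟩ := Algebra.FinitePresentation.ker_fG_of_surjective ρ hρs
    let Q := RingHom.ker π.toRingHom
    let M := p.primeCompl.map (C (σ := Fin n))
    letI algM : Algebra (MvPolynomial (Fin n) R) (MvPolynomial (Fin n) Rp) :=
      (map (algebraMap R Rp)).toAlgebra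
    haveI : IsLocalization M (MvPolynomial (Fin n) Rp) := MvPolynomial.isLocalization p.primeCompl Rp
    have hlift1 : ∀ g ∈ K1, ∃ q ∈ Q, ∃ t : R, t ∉ p ∧ map (algebraMap R Rp) q = g * map (algebraMap R Rp) (C t) := by
      intro g hg
      obtain ⟨⟨f, m⟩, hf⟩ := IsLocalization.surj M g
      obtain ⟨t, ht, hm⟩ := m.2
      refine ⟨f, hι ?_, t, ht, ?_⟩
      · show ι (π f) = ι 0
        rw [← hπp, show map (algebraMap R Rp) f = _ from hf.symm, map_mul,
          show πp g = 0 from RingHom.mem_ker.mp (hK1.le (Submodule.subset_span hg)), zero_mul, map_zero]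
      · exact hf.symm.trans (by rw [← hm]; rfl)
    have hlift2 : ∀ g ∈ K2, ∃ q ∈ Q, map (Ideal.Quotient.mk p) q = g := by
      intro g hg
      obtain ⟨f, rfl⟩ := map_surjective _ Ideal.Quotient.mk_surjective g
      have hf : π f ∈ (p.map C).map π.toRingHom := by
        rw [Ideal.map_map, show π.toRingHom.comp C = algebraMap R S from RingHom.ext fun r => π.commutes r]
        refine hPgen _ (Ideal.Quotient.eq_zero_iff_mem.mp ?_)
        rw [← hρ]
        exact RingHom.mem_ker.mp (hK2.le (Submodule.subset_span hg))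
      obtain ⟨f', hf', he⟩ := (Ideal.mem_map_iff_of_surjective π.toRingHom hπ).mp hf
      refine ⟨f - f', ?_, ?_⟩
      · show π (f - f') = 0
        rw [map_sub, show π f' = π f from he, sub_self]
      · rw [map_sub, sub_eq_self, ← RingHom.mem_ker, ker_map, Ideal.mk_ker]
        exact hf'
    choose l1 hl1 t1 ht1 he1 using hlift1
    choose l2 hl2 he2 using hlift2
    let Q0 := Ideal.span ((K1.attach.image fun g => l1 g.1 g.2) ∪ (K2.attach.image fun g => l2 g.1 g.2) :
      Set (MvPolynomial (Fin n) R))
    have hQ0 : Q0 ≤ Q := by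
      refine Ideal.span_le.mpr ?_
      rintro y (hy | hy) <;> rw [Finset.mem_coe, Finset.mem_image] at hy <;> obtain ⟨g, -, rfl⟩ := hy
      exacts [hl1 _ _, hl2 _ _]
    have hK1' : RingHom.ker πp.toRingHom ≤ Q0.map (algebraMap _ (MvPolynomial (Fin n) Rp)) := by
      rw [← hK1]
      refine Ideal.span_le.mpr fun g hg => ?_
      have hu : IsUnit (map (algebraMap R Rp) (C (σ := Fin n) (t1 g hg))) := by
        rw [map_C]; exact (IsLocalization.map_units Rp (⟨_, ht1 g hg⟩ : p.primeCompl)).map C
      obtain ⟨w, hw⟩ := hu.exists_left_inv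
      have : g = w * map (algebraMap R Rp) (l1 g hg) := by rw [he1 g hg, mul_left_comm, hw, mul_one]
      show g ∈ Q0.map (algebraMap _ (MvPolynomial (Fin n) Rp))
      rw [this]
      exact Ideal.mul_mem_left _ _ (Ideal.mem_map_of_mem _ (Submodule.subset_span (Or.inl
        (Finset.mem_image.mpr ⟨⟨g, hg⟩, Finset.mem_attach _ _, rfl⟩))))
    have hlocQ : ∀ q ∈ Q, ∃ t : R, t ∉ p ∧ C t * q ∈ Q0 := by
      intro q hq
      have h1 : algebraMap _ (MvPolynomial (Fin n) Rp) q ∈ RingHom.ker πp.toRingHom := by
        show πp (map (algebraMap R Rp) q) = 0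
        rw [hπp, show π q = 0 from hq, map_zero]
      obtain ⟨m, hm, hmq⟩ := (IsLocalization.algebraMap_mem_map_algebraMap_iff M _ Q0 q).mp (hK1' h1)
      obtain ⟨t, ht, rfl⟩ := hm
      exact ⟨t, ht, hmq⟩
    have hQp : ∀ q ∈ Q, map (Ideal.Quotient.mk p) q = 0 → q ∈ Q0 := by
      intro q hq hq0
      have hc : ∀ m, q.coeff m ∈ p := fun m => Ideal.Quotient.eq_zero_iff_mem.mp (by
        rw [← coeff_map, hq0, coeff_zero])
      obtain ⟨a, ha⟩ := (IsBezout.isPrincipal_of_FG _
        ⟨q.support.image q.coeff, rfl⟩ : (Ideal.span ((q.support.image q.coeff : Finset R) : Set R)).IsPrincipal)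
      have hap : a ∈ p := by
        have hle : Ideal.span ((q.support.image q.coeff : Finset R) : Set R) ≤ p := Ideal.span_le.mpr
          fun y hy => by
            obtain ⟨m, -, rfl⟩ := Finset.mem_image.mp (Finset.mem_coe.mp hy); exact hc m
        exact hle (ha ▸ Submodule.mem_span_singleton_self a)
      obtain ⟨q', rfl⟩ : C a ∣ q := (C_dvd_iff_dvd_coeff a q).mpr fun m => by
        by_cases hm : m ∈ q.support
        · have : q.coeff m ∈ Submodule.span R {a} :=
            ha ▸ Submodule.subset_span (Finset.mem_coe.mpr (Finset.mem_image_of_mem _ hm))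
          obtain ⟨c, hc⟩ := Submodule.mem_span_singleton.mp this
          exact ⟨c, by rw [← hc, smul_eq_mul, mul_comm]⟩
        · rw [notMem_support_iff.mp hm]; exact dvd_zero a
      rcases eq_or_ne a 0 with rfl | ha0
      · rw [map_zero, zero_mul]; exact zero_mem _
      have hq' : q' ∈ Q := by
        have h : π (C a * q') = 0 := hq
        rw [map_mul, show π (C a) = algebraMap R S a from π.commutes a] at h
        exact (mul_eq_zero.mp h).resolve_left ((map_ne_zero_iff _ hinj).mpr ha0)
      obtain ⟨t, ht, htq⟩ := hlocQ q' hq'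
      obtain ⟨a', rfl⟩ := dvd_of_notMem ht hap
      rw [map_mul, mul_comm (C t), mul_assoc]
      exact Ideal.mul_mem_left _ _ htq
    have hK2' : RingHom.ker ρ.toRingHom ≤ Q0.map (map (Ideal.Quotient.mk p)) := by
      rw [← hK2]
      refine Ideal.span_le.mpr fun g hg => ?_
      rw [SetLike.mem_coe, ← he2 g hg]
      exact Ideal.mem_map_of_mem _ (Submodule.subset_span (Or.inr
        (Finset.mem_image.mpr ⟨⟨g, hg⟩, Finset.mem_attach _ _, rfl⟩)))
    have hQeq : Q = Q0 := by
      refine le_antisymm (fun q hq => ?_) hQ0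
      have h1 : map (Ideal.Quotient.mk p) q ∈ RingHom.ker ρ.toRingHom := by
        show ρ _ = 0
        rw [hρ, show π q = 0 from hq, map_zero]
      obtain ⟨q0, hq0, he⟩ := (Ideal.mem_map_iff_of_surjective _
        (map_surjective _ Ideal.Quotient.mk_surjective)).mp (hK2' h1)
      rw [show q = q0 + (q - q0) by ring]
      exact add_mem hq0 (hQp _ (sub_mem hq (hQ0 hq0)) (by rw [map_sub, he, sub_self]))
    show Q.FG
    rw [hQeq]
    exact Submodule.fg_span ((Finset.finite_toSet _).union (Finset.finite_toSet _))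
  exact Algebra.Etale.of_formallyUnramified_of_flat

end

/-- Let L/K be a finite extension of valued fields, v_L extending v_K up to equivalence, such that the
valuation rings K° and L° both have finitely many prime ideals, and let P be a prime ideal of L°
lying over the prime p of K°. Then v_K is composed from the valuation of K with ring the
localization (K°)_p and the valuation of the residue field of (K°)_p with ring K°/p, and similarly
for v_L with (L°)_P and L°/P. If the induced homomorphisms (K°)_p → (L°)_P and K°/p → L°/P are both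
étale, then K° → L° is étale. (For finite extensions of valued fields of finite height, being
unramified is the same as the map of valuation rings being étale, so this is the statement that an
extension composed from two unramified extensions is unramified.) -/
theorem result
    {K L Γ₀ Γ₁ : Type u} [Field K] [Field L] [Algebra K L] [FiniteDimensional K L]
    [LinearOrderedCommGroupWithZero Γ₀] [LinearOrderedCommGroupWithZero Γ₁]
    (vK : Valuation K Γ₀) (vL : Valuation L Γ₁) [vK.HasExtension vL]
    [Finite (PrimeSpectrum vK.valuationSubring)] [Finite (PrimeSpectrum vL.valuationSubring)]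
    (P : Ideal vL.valuationSubring) [P.IsPrime]
    (hA : (Localization.localRingHom (Ideal.comap (algebraMap vK.valuationSubring vL.valuationSubring) P) P
      (algebraMap vK.valuationSubring vL.valuationSubring) rfl).Etale)
    (hB : (Ideal.quotientMap P (algebraMap vK.valuationSubring vL.valuationSubring)
      (le_refl (Ideal.comap (algebraMap vK.valuationSubring vL.valuationSubring) P))).Etale) :
    Algebra.Etale vK.valuationSubring vL.valuationSubring := by
  refine composed_main P (Valuation.HasExtension.algebraMap_injective (vK := vK) (vA := vL))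
    (fun s hs => ?_) hA hB
  have hs0 : (s : L) ≠ 0 := fun h => hs (by rw [show s = 0 from Subtype.ext h]; exact zero_mem _)
  have hv0 : vL (s : L) ≠ 0 := (Valuation.ne_zero_iff vL).mpr hs0
  have hs1 : vL (s : L) ≤ 1 := s.2
  obtain ⟨c, k, hk, hc⟩ : ∃ (c : K) (k : ℕ), 0 < k ∧ vL (algebraMap K L c) = vL (s : L) ^ k := by
    classical
    let f := minpoly K (s : L)
    have hf : Polynomial.aeval (s : L) f = 0 := minpoly.aeval K _
    have hf0 : f ≠ 0 := minpoly.ne_zero (Algebra.IsIntegral.isIntegral _)
    rw [Polynomial.aeval_eq_sum_range' (lt_add_one f.natDegree)] at hf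
    let F := fun i => f.coeff i • (s : L) ^ i
    obtain ⟨j, hj, hmax⟩ := Finset.exists_max_image (Finset.range (f.natDegree + 1)) (fun i => vL (F i))
      ⟨0, by simp⟩
    have hFj : vL (F j) ≠ 0 := by
      intro h
      have := hmax f.natDegree (by simp)
      rw [h, le_zero_iff, Valuation.zero_iff, smul_eq_zero] at this
      exact this.elim (Polynomial.leadingCoeff_ne_zero.mpr hf0) (pow_ne_zero _ hs0)
    obtain ⟨i, hi, hij, hieq⟩ : ∃ i ∈ Finset.range (f.natDegree + 1), i ≠ j ∧ vL (F i) = vL (F j) := by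
      by_contra hh
      push Not at hh
      refine hFj ?_
      rw [← Valuation.map_sum_eq_of_lt vL hj fun i hi => lt_of_le_of_ne (hmax i (Finset.mem_sdiff.mp hi).1)
        (hh i (Finset.mem_sdiff.mp hi).1 (by simpa using (Finset.mem_sdiff.mp hi).2)), hf, map_zero]
    wlog hlt : i < j generalizing i j
    · exact this i hi (fun m hm => (hmax m hm).trans hieq.ge) (hieq ▸ hFj) j hj hij.symm hieq.symm
        (lt_of_le_of_ne (not_lt.mp hlt) hij.symm)
    have hcj : vL (algebraMap K L (f.coeff j)) ≠ 0 := by
      intro h; apply hFj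
      simp only [F, Algebra.smul_def, map_mul, h, zero_mul]
    simp only [F, Algebra.smul_def, map_mul, map_pow] at hieq
    refine ⟨f.coeff i / f.coeff j, j - i, by omega, ?_⟩
    rw [map_div₀, map_div₀, div_eq_iff hcj]
    refine mul_right_cancel₀ (pow_ne_zero i hv0) ?_
    rw [hieq, mul_comm (vL (s : L) ^ (j - i)), mul_assoc, ← pow_add, Nat.sub_add_cancel hlt.le]
  have hc1 : vK c ≤ 1 := (Valuation.HasExtension.val_map_le_one_iff vK vL c).mp (hc ▸ pow_le_one' hs1 k)
  refine ⟨⟨c, hc1⟩, ⟨algebraMap K L c / (s : L), ?_⟩, fun ht => ?_, Subtype.ext (div_mul_cancel₀ _ hs0)⟩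
  · rw [Valuation.mem_valuationSubring_iff, map_div₀, hc, div_le_one₀ (zero_lt_iff.mpr hv0)]
    exact pow_le_of_le_one zero_le hs1 hk.ne'
  · refine hs (Ideal.IsPrime.mem_of_pow_mem inferInstance k ?_)
    have hne : algebraMap K L c ≠ 0 := fun h => hv0 (eq_zero_of_pow_eq_zero (by rw [← hc, h, map_zero]))
    have hw : (s : L) ^ k / algebraMap K L c ∈ vL.valuationSubring := by
      rw [Valuation.mem_valuationSubring_iff, map_div₀, map_pow, hc, div_self (pow_ne_zero k hv0)]
    rw [show s ^ k = ⟨_, hw⟩ * algebraMap vK.valuationSubring vL.valuationSubring ⟨c, hc1⟩ from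
      Subtype.ext (by push_cast; exact (div_mul_cancel₀ _ hne).symm)]
    exact Ideal.mul_mem_left _ _ ht

end Groth.Agent.S15283
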