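import Groth.Statements.S15285
import Groth.Agent.PicCat.Translate
-- import your own Groth.Agent.* helpers here

set_option autoImplicit false
universe v v' u u'
open PicCat

namespace Groth.Agent.S15285

open CategoryTheory MonoidalCategory in
/-- Let C and D be Picard categories (monoidal groupoids in which tensoring on either side with any
object is an equivalence of categories) and F : C ⥤ D a lax monoidal functor. If F induces a
bijection on isomorphism classes of objects (it is essentially surjective, and F X ≅ F Y only when X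
≅ Y) and a bijection on endomorphisms of the unit object, then F is an equivalence of categories. -/
theorem result
    {C : Type u} [Category.{v} C] [MonoidalCategory C] [IsGroupoid C]
    {D : Type u'} [Category.{v'} D] [MonoidalCategory D] [IsGroupoid D]
    (hC : ∀ X : C, (tensorLeft X).IsEquivalence ∧ (tensorRight X).IsEquivalence)
    (hD : ∀ X : D, (tensorLeft X).IsEquivalence ∧ (tensorRight X).IsEquivalence)
    (F : C ⥤ D) [F.LaxMonoidal] [F.EssSurj]
    (h0 : ∀ X Y : C, Nonempty (F.obj X ≅ F.obj Y) → Nonempty (X ≅ Y))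
    (h1 : Function.Bijective (fun φ : 𝟙_ C ⟶ 𝟙_ C => F.map φ)) :
    F.IsEquivalence := by
  open Groth.Agent.PicCat Functor.LaxMonoidal in
  have hend : ∀ X : C, Function.Bijective (fun a : X ⟶ X => F.map a) := by
    intro X
    have hconj : Function.Bijective
        (fun b : F.obj (𝟙_ C) ⟶ F.obj (𝟙_ C) => ε F ≫ b ≫ CategoryTheory.inv (ε F)) :=
      Function.bijective_iff_has_inverse.2
        ⟨fun a => CategoryTheory.inv (ε F) ≫ a ≫ ε F, fun b => by simp, fun a => by simp⟩
    refine ((act_bijective X (hC X).2).of_comp_iff _).1 ?_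
    have e : (fun a : X ⟶ X => F.map a) ∘ act X =
        act (F.obj X) ∘ (fun b => ε F ≫ b ≫ CategoryTheory.inv (ε F)) ∘
          (fun φ : 𝟙_ C ⟶ 𝟙_ C => F.map φ) := by
      funext φ
      exact map_act F X φ
    rw [e]
    exact (act_bijective _ (hD _).2).comp (hconj.comp h1)
  have : F.Faithful := ⟨fun {X Y} f f' h => by
    have : f ≫ CategoryTheory.inv f' = 𝟙 X := (hend X).1 (show F.map _ = F.map _ by rw [Functor.map_comp, h, ← Functor.map_comp, IsIso.hom_inv_id])
    calc f = (f ≫ CategoryTheory.inv f') ≫ f' := by simp
      _ = f' := by rw [this, Category.id_comp]⟩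
  have : F.Full := ⟨fun {X Y} g => by
    obtain ⟨e⟩ := h0 X Y ⟨asIso g⟩
    obtain ⟨a, ha⟩ := (hend X).2 (g ≫ F.map e.inv)
    exact ⟨a ≫ e.hom, by rw [Functor.map_comp, show F.map a = g ≫ F.map e.inv from ha, Category.assoc,
      ← Functor.map_comp, e.inv_hom_id, F.map_id, Category.comp_id]⟩⟩
  exact { }

end Groth.Agent.S15285
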