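import Groth.Statements.S15286
import Groth.Agent.PicCat.Translate
-- import your own Groth.Agent.* helpers here

set_option autoImplicit false
universe v v' u u'
open PicCat

namespace Groth.Agent.S15286

open CategoryTheory MonoidalCategory in
/-- Let C be a Picard category, D a commutative (braided) Picard category, F, G : C ⥤ D lax monoidal
functors and θ₀ : F ⟶ G a monoidal natural transformation. Identify an endomorphism φ of the unit of
D with the automorphism λ⁻¹ ≫ (φ ▷ Z) ≫ λ of any object Z. Then the monoidal natural transformations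
F ⟶ G form a torsor under the monoid homomorphisms χ from the monoid of isomorphism classes of C to
End(𝟙_D): every monoidal θ : F ⟶ G is X ↦ θ₀_X ≫ (action of χ[X] on G X) for a unique such χ, and
for every χ this formula defines a monoidal natural transformation. (The published statement allows
D non-commutative; for a non-braided monoidal groupoid the classes so obtained are crossed rather
than plain homomorphisms, so D is taken braided here.) -/
theorem result
    {C : Type u} [Category.{v} C] [MonoidalCategory C] [IsGroupoid C]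
    {D : Type u'} [Category.{v'} D] [MonoidalCategory D] [BraidedCategory D] [IsGroupoid D]
    (hC : ∀ X : C, (tensorLeft X).IsEquivalence ∧ (tensorRight X).IsEquivalence)
    (hD : ∀ X : D, (tensorLeft X).IsEquivalence ∧ (tensorRight X).IsEquivalence)
    (F G : C ⥤ D) [F.LaxMonoidal] [G.LaxMonoidal] (θ₀ : F ⟶ G) [NatTrans.IsMonoidal θ₀] :
    (∀ θ : F ⟶ G, NatTrans.IsMonoidal θ →
      ∃! χ : Skeleton C →* End (𝟙_ D), ∀ X : C,
        θ.app X = θ₀.app X ≫ (λ_ (G.obj X)).inv ≫
          ((χ (toSkeleton X) : 𝟙_ D ⟶ 𝟙_ D) ▷ G.obj X) ≫ (λ_ (G.obj X)).hom) ∧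
    (∀ χ : Skeleton C →* End (𝟙_ D), ∃ θ : F ⟶ G, NatTrans.IsMonoidal θ ∧ ∀ X : C,
        θ.app X = θ₀.app X ≫ (λ_ (G.obj X)).inv ≫
          ((χ (toSkeleton X) : 𝟙_ D ⟶ 𝟙_ D) ▷ G.obj X) ≫ (λ_ (G.obj X)).hom) := by
  open Groth.Agent.PicCat Functor.LaxMonoidal in
  have hbij : ∀ X : C, Function.Bijective (act (G.obj X)) := fun X => act_bijective _ (hD _).2
  have key : ∀ (χ : Skeleton C →* End (𝟙_ D)) (X Y : C),
      μ F X Y ≫ θ₀.app (X ⊗ Y) ≫ act (G.obj (X ⊗ Y)) (χ (toSkeleton (X ⊗ Y))) =
      ((θ₀.app X ≫ act (G.obj X) (χ (toSkeleton X))) ⊗ₘ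
        (θ₀.app Y ≫ act (G.obj Y) (χ (toSkeleton Y)))) ≫ μ G X Y := by
    intro χ X Y
    rw [NatTrans.IsMonoidal.tensor_assoc, ← act_naturality, Skeleton.toSkeleton_tensorObj, map_mul,
      End.mul_def, ← MonoidalCategory.tensorHom_comp_tensorHom, act_tensor, Category.assoc]
  constructor
  · intro θ hθ
    choose c hc using fun X : C => (hbij X).2 (CategoryTheory.inv (θ₀.app X) ≫ θ.app X)
    have hθc : ∀ X, θ.app X = θ₀.app X ≫ act (G.obj X) (c X) := fun X => by simp [hc]
    have hinv : ∀ X Y : C, (X ≅ Y) → c X = c Y := by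
      intro X Y e
      refine (hbij X).1 ?_
      rw [← cancel_mono (G.map e.hom), act_naturality (G.map e.hom) (c Y), ← cancel_epi (θ₀.app X),
        ← Category.assoc, ← hθc, ← θ₀.naturality_assoc, ← hθc]
      exact (θ.naturality e.hom).symm
    refine ⟨{ toFun := fun s => c s.out, map_one' := ?_, map_mul' := ?_ }, ?_, ?_⟩
    · have e : c (Quotient.out (1 : Skeleton C)) = c (𝟙_ C) :=
        hinv _ _ ((fromSkeletonToSkeletonIso (𝟙_ C)))
      refine e.trans ((hbij (𝟙_ C)).1 ?_)
      rw [hc, End.one_def, act_id, ← cancel_epi (θ₀.app _), IsIso.hom_inv_id_assoc,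
        Category.comp_id, ← cancel_epi (ε F), NatTrans.IsMonoidal.unit, NatTrans.IsMonoidal.unit]
    · intro s t
      have e : c (Quotient.out (s * t)) = c (s.out ⊗ t.out) := by
        rw [Skeleton.mul_eq]
        exact hinv _ _ (fromSkeletonToSkeletonIso _)
      refine e.trans ((hbij (s.out ⊗ t.out)).1 ?_)
      change _ = act _ (c t.out ≫ c s.out)
      rw [← cancel_epi (θ₀.app _), ← hθc, ← cancel_epi (μ F _ _), NatTrans.IsMonoidal.tensor,
        NatTrans.IsMonoidal.tensor_assoc, ← act_naturality, hθc, hθc,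
        ← MonoidalCategory.tensorHom_comp_tensorHom, act_tensor, Category.assoc]
    · intro X
      have e : c (Quotient.out (toSkeleton X)) = c X := hinv _ _ (fromSkeletonToSkeletonIso X)
      exact (hθc X).trans (congrArg (fun a => θ₀.app X ≫ act (G.obj X) a) e.symm)
    · intro χ hχ
      refine MonoidHom.ext fun s => ?_
      change χ s = c s.out
      refine (hbij s.out).1 ?_
      rw [← cancel_epi (θ₀.app s.out), ← hθc s.out]
      exact ((hχ s.out).trans (congrArg (fun a => θ₀.app s.out ≫ act (G.obj s.out) (χ a))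
        (toSkeleton_fromSkeleton_obj s))).symm
  · intro χ
    refine ⟨{ app := fun X => θ₀.app X ≫ act (G.obj X) (χ (toSkeleton X)), naturality := ?_ },
      ⟨?_, fun X Y => key χ X Y⟩, fun X => rfl⟩
    · intro X Y f
      rw [θ₀.naturality_assoc, Category.assoc, act_naturality,
        (congr_toSkeleton_of_iso (asIso f) : toSkeleton X = toSkeleton Y)]
    · change ε F ≫ θ₀.app _ ≫ act _ (χ (toSkeleton (𝟙_ C))) = ε G
      rw [← Skeleton.one_eq, map_one, End.one_def, act_id, Category.comp_id,
        NatTrans.IsMonoidal.unit]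

end Groth.Agent.S15286
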