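import Groth.Statements.S15288
import Groth.Agent.RpushAmp.Local
import Groth.Agent.TensorExact.Sheaf
import Groth.Agent.CohDerLib.QC.CohPush
import Groth.Agent.ModShf.Flasque
import Groth.Agent.S7411
import Groth.Agent.S5792
import Groth.Agent.CanonTriv.Basic
import Groth.Agent.PerfExt.Affine
import Groth.Agent.KFlat.LTensorMod
-- import your own Groth.Agent.* helpers here

set_option autoImplicit false
universe u
open CategoryTheory CategoryTheory.Limits AlgebraicGeometry
attribute [local instance] HasDerivedCategory.standard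
open Perf

namespace Groth.Agent.S15288

open Groth.Agent Groth.Agent.KFlat Groth.Agent.KFlat.Pull Groth.Agent.KFlat.RPush Groth.Agent.CohDerLib.QC

/-- The derived direct image of a module in degrees `> 0` computes the higher direct images. -/
theorem nonempty_HD_iso {X Y : Scheme.{u}} (f : X ⟶ Y) [DCoh.HasRpush f] [HasInjectiveResolutions X.Modules]
    (M : X.Modules) (j : ℕ) :
    Nonempty (DCoh.HD ((DCoh.Rpush f).obj (DCoh.inD X M)) ((j : ℤ) + 1) ≅ (Coh.Rpush f (j + 1)).obj M) := by
  let I : InjectiveResolution M := InjectiveResolution.of M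
  let F := Scheme.Modules.pushforward f
  let J := I.cochainComplex
  have : J.IsKInjective := CochainComplex.isKInjective_of_injective J 0
  have := isIso_toRpush f J
  let eM : DerivedCategory.Q.obj J ≅ DCoh.inD X M :=
    (asIso (DerivedCategory.Q.map I.ι')).symm ≪≫
      ((SingleFunctors.evaluation _ _ 0).mapIso (DerivedCategory.singleFunctorsPostcompQIso X.Modules)).symm.app M
  let C := (F.mapHomologicalComplex (ComplexShape.up ℤ)).obj J
  let eC : DerivedCategory.Q.obj C ≅ (DCoh.Rpush f).obj (DCoh.inD X M) :=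
    asIso ((toRpush f).app J) ≪≫ (DCoh.Rpush f).mapIso eM
  let er : C.restriction ComplexShape.embeddingUpNat ≅ (F.mapHomologicalComplex (ComplexShape.up ℕ)).obj I.cocomplex :=
    HomologicalComplex.Hom.isoOfComponents (fun k => F.mapIso (I.cochainComplexXIso _ k rfl)) fun k l _ => by
      change F.map _ ≫ F.map _ = F.map (J.d (k : ℤ) (l : ℤ)) ≫ F.map _
      have key : (I.cochainComplexXIso (k : ℤ) k rfl).hom ≫ I.cocomplex.d k l =
          J.d (k : ℤ) (l : ℤ) ≫ (I.cochainComplexXIso (l : ℤ) l rfl).hom := by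
        simp [J, I.cochainComplex_d _ _ k l rfl rfl]
      exact (F.map_comp _ _).symm.trans ((congrArg (fun t => F.map t) key).trans (F.map_comp _ _))
  let e2 : (C.restriction ComplexShape.embeddingUpNat).homology (j + 1) ≅ C.homology ((j : ℤ) + 1) :=
    C.restrictionHomologyIso ComplexShape.embeddingUpNat j (j + 1) (j + 2) (by simp) (by simp)
      (i' := (j : ℤ)) (j' := (j : ℤ) + 1) (k' := (j : ℤ) + 2) rfl (by simp) (by simp) (by simp) (by simp; omega)
  exact ⟨(DerivedCategory.homologyFunctor Y.Modules _).mapIso eC.symm ≪≫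
    (DerivedCategory.homologyFunctorFactors Y.Modules _).app C ≪≫ e2.symm ≪≫
    (HomologicalComplex.homologyFunctor Y.Modules _ (j + 1)).mapIso er ≪≫ (I.isoRightDerivedObj F (j + 1)).symm⟩

/-- Higher direct images vanish above the fibre dimension. -/
theorem isZero_HD {X Y : Scheme.{u}} (f : X ⟶ Y) [IsProper f] [DCoh.HasRpush f] (n : ℕ)
    (hd : ∀ y : Y, topologicalKrullDim ↥(f.fiber y) ≤ n) (M : X.Modules) (hM : Coh.IsQCoh M) (i : ℤ)
    (hi : (n : ℤ) < i) : IsZero (DCoh.HD ((DCoh.Rpush f).obj (DCoh.inD X M)) i) := by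
  haveI : EnoughInjectives X.Modules := IsGrothendieckAbelian.enoughInjectives
  haveI := hM
  obtain ⟨j, rfl⟩ : ∃ j : ℕ, i = (j : ℤ) + 1 := ⟨(i - 1).toNat, by omega⟩
  obtain ⟨e⟩ := nonempty_HD_iso f M j
  refine IsZero.of_iso ?_ e
  have hz : IsZero ((ModShf.toAbFunctor Y).obj ((Coh.Rpush f (j + 1)).obj M)) :=
    (VanQC.isZero_of_stalks _ fun y => AddCommGrpCat.subsingleton_of_isZero
      (S7411.result f y n (hd y) M (j + 1) (by omega))).of_iso ((ModShf.rpushCompToAb f (j + 1)).app M)
  rw [IsZero.iff_id_eq_zero]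
  have : (ModShf.toAbFunctor Y).Faithful := inferInstanceAs (SheafOfModules.toSheaf Y.ringCatSheaf).Faithful
  exact (ModShf.toAbFunctor Y).map_injective (hz.eq_of_src _ _)

/-- The fibres have dimension at most `n`. -/
theorem dim_fiber_le {X Y : Scheme.{u}} (f : X ⟶ Y) (n : ℕ) (h : ∀ x : X, FlatMor.fibreDimAt f x = n) (y : Y) :
    topologicalKrullDim ↥(f.fiber y) ≤ n := by
  rw [S5792.result]
  refine iSup_le fun z => ?_
  have aux : ∀ (x : X) (hx : f x = y),
      FlatMor.localDim ↥(f.fiber y) ((f.fiberHomeo y).symm ⟨x, hx⟩) ≤ (n : WithBot ℕ∞) := by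
    intro x hx
    subst hx
    exact (h x).le
  have := aux (f.fiberHomeo y z).1 (f.fiberHomeo y z).2
  rwa [Homeomorph.symm_apply_apply] at this

/-- A termwise flat complex has tor amplitude in its range relative to a flat morphism. -/
theorem hasTorAmplitude_flat {X Y : Scheme.{u}} (f : X ⟶ Y) [Flat f] (P : CochainComplex X.Modules ℤ) (a b : ℤ)
    (hv : DCoh.VanishesOutside P a b) (hfl : ∀ i, FlatMod.IsFlat (P.X i)) : DerSch.HasTorAmplitude f a b P :=
  fun x => ⟨(DerSch.stalkCxOver f x).obj P, fun i hi => (DerSch.stalkOver f x).map_isZero (hv i hi), fun i => by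
    let φ := (f.stalkMap x).hom
    let := φ.toAlgebra
    have h1 : Module.Flat (Y.presheaf.stalk (f x)) (X.presheaf.stalk x) := Flat.stalkMap f x
    let M := (DerSch.stalkFunctor X x).obj (P.X i)
    have h2 : Module.Flat (X.presheaf.stalk x) M := hfl i x
    let := Module.compHom M φ
    have : IsScalarTower (Y.presheaf.stalk (f x)) (X.presheaf.stalk x) M := IsScalarTower.of_compHom _ _ _
    exact Module.Flat.trans (Y.presheaf.stalk (f x)) (X.presheaf.stalk x) M, ⟨Iso.refl _⟩⟩

/-- Stalkwise tor amplitude over the base itself gives tor amplitude. -/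
theorem hasTorAmplitudeIn_of_id {Y : Scheme.{u}} (R : CochainComplex Y.Modules ℤ) (hR : DCoh.IsKFlat R) (a b : ℤ)
    (h : DerSch.HasTorAmplitude (𝟙 Y) a b R) (K : DCoh.D Y) (e : DCoh.toD Y R ≅ K) :
    DCoh.HasTorAmplitudeIn a b K := by
  intro F _ i hi
  refine IsZero.of_iso ?_ (((DerivedCategory.homologyFunctor _ i).mapIso
    ((DCoh.LTensorMod F).mapIso e.symm ≪≫ LTensorMod.ltensorModIso F hR)) ≪≫
    (DerivedCategory.homologyFunctorFactors Y.Modules i).app _)
  refine StalkCx.isZero_of_isZero_stalk fun z => ?_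
  let S := (StalkCx.stCx z).obj R
  have hS : DRing.KFlat.IsKFlat S := (StalkCx.isKFlat_iff_stalk R).1 hR z
  have hT : DRing.HasTorAmplitudeIn (Y.presheaf.stalk z) a b (DRing.toD S) := by
    let θ := ((𝟙 Y : Y ⟶ Y).stalkMap z).hom
    have hθ : θ = RingHom.id _ := by simp [θ, Scheme.Hom.stalkMap_id]; rfl
    have h0 := h z
    let e0 : (DerSch.stalkCxOver (𝟙 Y) z).obj R ≅ S :=
      HomologicalComplex.Hom.isoOfComponents
        (fun k => (ModuleCat.restrictScalarsId'.{u} θ hθ).app ((DerSch.stalkFunctor Y z).obj (R.X k)))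
        fun k l _ => ((ModuleCat.restrictScalarsId'.{u} θ hθ).hom.naturality _).symm
    obtain ⟨E, hv, hf, ⟨eE⟩⟩ := h0
    exact ⟨E, hv, hf, ⟨eE ≪≫ DerivedCategory.Q.mapIso e0⟩⟩
  have hv := (DRing.TorAmp.hasTorAmp_iff hS (Iso.refl _) a b).1 hT ((DerSch.stalkFunctor Y z).obj F) i hi
  exact (((HomologicalComplex.exactAt_iff_isZero_homology _ _).1 hv).of_iso
    ((HomologicalComplex.homologyFunctor _ _ i).mapIso ((TensorExact.Sheaf.stTermIso R z).app F))).of_iso
      ((((TensorExact.Sheaf.termCx R).obj F).sc i).mapHomologyIso (DerSch.stalkFunctor Y z)).symm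


/-- Let f : X ⟶ Y be locally projective (locally on Y, X is a closed subscheme of some projective space
ℙ^N_Y), flat, surjective and locally of finite presentation, with every fibre of local dimension n
at each of its points, and assume the derived direct image Rf_* exists on D(O_X). If E ∈ D(O_X) is
perfect and is represented by a complex of flat O_X-modules concentrated in degrees [a, b], then
Rf_*E has tor amplitude in [a, b + n]: for every O_Y-module F the cohomology sheaves of Rf_*E ⊗^L F
vanish outside [a, b + n]. (Rf_*E is moreover perfect; that part is the flat proper finitely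
presented case stated separately.) -/
theorem result
    {X Y : Scheme.{u}} (f : X ⟶ Y) (n : ℕ)
    (hproj : RedSub.IsLocallyProjective (Over.mk f))
    [Flat f] [Surjective f] [LocallyOfFinitePresentation f]
    (hdim : ∀ x : ↥X, FlatMor.fibreDimAt f x = n)
    [DCoh.HasRpush f] (E : DCoh.D X) (hE : DCoh.IsPerfect E) (a b : ℤ)
    (hab : DCoh.HasFlatAmplitudeIn a b E) :
    DCoh.HasTorAmplitudeIn a (b + n) ((DCoh.Rpush f).obj E) := by
  obtain ⟨P, hv, hfl, ⟨eP⟩⟩ := hab
  haveI : IsProper f := CanonTriv.isProper_of_locallyProjective f hproj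
  have hqc : DCoh.IsQCohD (DCoh.toD X P) :=
    QCohModel.isQCohD_of_iso eP.symm (PerfExt.isQCohD_of_isPerfect hE)
  let R := (resY Y).obj (DerivedCategory.Q.objPreimage ((DCoh.Rpush f).obj E))
  have hR : DCoh.IsKFlat R := isKFlat_resY _
  haveI := quasiIso_resYπ (Y := Y) (DerivedCategory.Q.objPreimage ((DCoh.Rpush f).obj E))
  let eR : DCoh.toD Y R ≅ (DCoh.Rpush f).obj E :=
    asIso (DerivedCategory.Q.map ((resYπ Y).app _)) ≪≫ DerivedCategory.Q.objObjPreimageIso _
  have hb := RpushAmp.bound_of_sheaf f n fun M hM i hi => isZero_HD f n (dim_fiber_le f n hdim) M hM i hi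
  exact hasTorAmplitudeIn_of_id R hR a (b + n)
    (RpushAmp.hasTorAmplitude_Rpush_bound f (𝟙 Y) n hb P hqc a b
      (by rw [Category.comp_id]; exact hasTorAmplitude_flat f P a b hv hfl) R (eR ≪≫ (DCoh.Rpush f).mapIso eP.symm))
    _ eR

end Groth.Agent.S15288
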