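import Groth.Statements.S1529
import Groth.Agent.TopDimLib.Basic
import Groth.Agent.VarDim.Scheme


set_option autoImplicit false
set_option backward.isDefEq.respectTransparency.types false
universe u
open CategoryTheory CategoryTheory.Limits AlgebraicGeometry
open Variety

namespace Groth.Agent.S1529

/-- A scheme of finite type over a field whose underlying topological space has Krull dimension at most
zero is affine, and its structure morphism is finite. -/
theorem result (k : Type u) [Field k] (X : Scheme.{u}) [X.Over (Spec (CommRingCat.of k))]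
    [LocallyOfFiniteType (X ↘ (Spec (CommRingCat.of k)))] [QuasiCompact (X ↘ (Spec (CommRingCat.of k)))]
    (hdim : topologicalKrullDim X ≤ 0) :
    IsAffine X ∧ IsFinite (X ↘ (Spec (CommRingCat.of k))) := by
  haveI : CompactSpace X := QuasiCompact.compactSpace_of_compactSpace (X ↘ Spec (CommRingCat.of k))
  haveI : IsLocallyNoetherian X := LocallyOfFiniteType.isLocallyNoetherian (X ↘ Spec (CommRingCat.of k))
  haveI : IsNoetherian X := ⟨⟩
  obtain ⟨hfin, hdisc⟩ := TopDimLib.finite_and_discrete_of_topDim_le_zero hdim
  haveI := hfin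
  haveI := hdisc
  haveI : IsAffine X := inferInstance
  refine ⟨inferInstance, ?_⟩
  rw [HasAffineProperty.iff_of_isAffine (P := @IsFinite)]
  refine ⟨inferInstance, ?_⟩
  letI := VarDim.secAlgebra k X ⊤
  haveI := VarDim.finiteType_sections k (isAffineOpen_top X)
  haveI : Ring.KrullDimLE 0 Γ(X, ⊤) := by
    rw [Ring.krullDimLE_iff, ← PrimeSpectrum.topologicalKrullDim_eq_ringKrullDim]
    refine le_trans (le_of_eq ?_) (hdim.trans (by simp))
    exact ((Scheme.homeoOfIso X.isoSpec).isHomeomorph.topologicalKrullDim_eq _).symm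
  haveI : IsNoetherianRing Γ(X, ⊤) := Algebra.FiniteType.isNoetherianRing k _
  haveI : Module.Finite k Γ(X, ⊤) := (Module.finite_iff_isArtinianRing k _).2
    (isArtinianRing_iff_isNoetherianRing_krullDimLE_zero.2 ⟨inferInstance, inferInstance⟩)
  have h2 : (X ↘ Spec (CommRingCat.of k)).appTop.hom =
      (algebraMap k Γ(X, ⊤)).comp (Scheme.ΓSpecIso (CommRingCat.of k)).hom.hom := by
    ext c
    obtain ⟨a, rfl⟩ := (Scheme.ΓSpecIso (CommRingCat.of k)).commRingCatIsoToRingEquiv.symm.surjective c
    simp [VarDim.secAlgebra, RingHom.algebraMap_toAlgebra, Coh.toGlobal]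
  rw [h2]
  exact RingHom.Finite.comp (RingHom.finite_algebraMap.2 inferInstance)
    (RingHom.Finite.of_surjective _ (ConcreteCategory.bijective_of_isIso (Scheme.ΓSpecIso _).hom).2)

end Groth.Agent.S1529
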