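import Groth.Statements.S15291
import Groth.Agent.PicCat.Picardification
-- import your own Groth.Agent.* helpers here

set_option autoImplicit false
universe v v' u u'
open PicCat

namespace Groth.Agent.S15291

open CategoryTheory MonoidalCategory in
/-- Every symmetric monoidal groupoid A has a Picardification: a commutative Picard category V (a
symmetric monoidal groupoid in which tensoring with any object on either side is an equivalence of
categories) with a symmetric lax monoidal functor i : A ⥤ V such that, for every commutative Picard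
category P, (a) every symmetric lax monoidal functor Φ : A ⥤ P is isomorphic through a monoidal
natural isomorphism to i ⋙ Ψ for some symmetric lax monoidal Ψ : V ⥤ P, and (b) for symmetric lax
monoidal Ψ, Ψ' : V ⥤ P, whiskering with i is a bijection from the monoidal natural transformations Ψ
⟶ Ψ' onto the monoidal natural transformations i ⋙ Ψ ⟶ i ⋙ Ψ'. Here V has its objects in the
universe of the objects of A and its morphisms in the larger of A's two universe levels, and P
ranges over one arbitrary pair of universe levels. -/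
theorem result
    (A : Type u) [Category.{v} A] [MonoidalCategory A] [SymmetricCategory A] [IsGroupoid A] :
    ∃ (V : Type u) (_ : Category.{max u v} V) (_ : MonoidalCategory V) (_ : SymmetricCategory V)
      (i : A ⥤ V) (_ : i.LaxBraided),
      IsGroupoid V ∧ (∀ X : V, (tensorLeft X).IsEquivalence ∧ (tensorRight X).IsEquivalence) ∧
      ∀ (P : Type u') [Category.{v'} P] [MonoidalCategory P] [SymmetricCategory P] [IsGroupoid P],
        (∀ X : P, (tensorLeft X).IsEquivalence ∧ (tensorRight X).IsEquivalence) →
        (∀ (Φ : A ⥤ P) [Φ.LaxBraided], ∃ (Ψ : V ⥤ P) (_ : Ψ.LaxBraided) (η : i ⋙ Ψ ≅ Φ),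
            NatTrans.IsMonoidal η.hom) ∧
        (∀ (Ψ Ψ' : V ⥤ P) [Ψ.LaxBraided] [Ψ'.LaxBraided] (τ : i ⋙ Ψ ⟶ i ⋙ Ψ'),
            NatTrans.IsMonoidal τ →
              ∃! θ : Ψ ⟶ Ψ', NatTrans.IsMonoidal θ ∧ Functor.whiskerLeft i θ = τ) := by
  refine ⟨Groth.Agent.PicCat.Picardify.Obj A, inferInstance, inferInstance, inferInstance,
    Groth.Agent.PicCat.Picardify.incl, inferInstance, inferInstance, fun X =>
      ⟨Groth.Agent.PicCat.Picardify.tensorLeft_isEquivalence X,
        Groth.Agent.PicCat.Picardify.tensorRight_isEquivalence X⟩, ?_⟩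
  intro P _ _ _ _ hP
  refine ⟨fun Φ _ => ⟨Groth.Agent.PicCat.Picardify.eval (fun X => (hP X).1) Φ, inferInstance,
    Groth.Agent.PicCat.Picardify.evalIncl _ Φ,
    Groth.Agent.PicCat.Picardify.evalIncl_isMonoidal _ Φ⟩, fun Ψ Ψ' _ _ τ hτ => ?_⟩
  refine ⟨Groth.Agent.PicCat.Picardify.extend (fun X => (hP X).1) τ hτ,
    ⟨Groth.Agent.PicCat.Picardify.extend_isMonoidal _ τ hτ,
      Groth.Agent.PicCat.Picardify.whiskerLeft_extend _ τ hτ⟩, fun θ hθ => ?_⟩
  haveI := hθ.1
  haveI := Groth.Agent.PicCat.Picardify.extend_isMonoidal (fun X => (hP X).1) τ hτ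
  exact Groth.Agent.PicCat.Picardify.extend_unique (fun X => (hP X).1) θ _
    (hθ.2.trans (Groth.Agent.PicCat.Picardify.whiskerLeft_extend _ τ hτ).symm)

end Groth.Agent.S15291
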