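import Groth.Statements.S15295
import Groth.Agent.DeRham.ExtBaseChange

set_option autoImplicit false
universe u
open DeRham

namespace Groth.Agent.S15295

open exteriorPower TensorProduct in
/-- The de Rham complex commutes with base change. Let R → A and R → S be ring maps and B = S ⊗_R A (an
R-algebra over A and S with the pushout property), and let ψ be the induced map of de Rham complexes
from the p-forms of A over R to the p-forms of B over S (additive maps sending b₀ db₁ ∧ … ∧ db_p to
g(b₀) d(g b₁) ∧ … ∧ d(g b_p), g : A → B the structure map). Then in each degree p the S-linear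
extension S ⊗_R ⋀^p Ω_{A/R} → ⋀^p Ω_{B/S}, s ⊗ x ↦ s · ψ_p(x), is bijective. (This row states the
degreewise bijectivity, with the base change written S ⊗_R − rather than − ⊗_R S; the compatibility
of ψ with the differentials, which makes this an isomorphism of complexes, holds for any square of
ring maps.) -/
theorem result (R S A B : Type u) [CommRing R] [CommRing S] [CommRing A] [CommRing B]
    [Algebra R S] [Algebra R A] [Algebra R B] [Algebra A B] [Algebra S B]
    [IsScalarTower R A B] [IsScalarTower R S B] [Algebra.IsPushout R S A B]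
    (ψ : ∀ p : ℕ, ↥(⋀[A]^p (Ω[A⁄R])) →+ ↥(⋀[B]^p (Ω[B⁄S])))
    (hψ : DeRham.IsCxMap (KaehlerDifferential.D R A) (KaehlerDifferential.D S B) (algebraMap A B) ψ)
    (p : ℕ) (Φ : S ⊗[R] ↥(⋀[A]^p (Ω[A⁄R])) →+ ↥(⋀[B]^p (Ω[B⁄S])))
    (hΦ : ∀ (s : S) (x : ↥(⋀[A]^p (Ω[A⁄R]))), Φ (s ⊗ₜ[R] x) = s • ψ p x) :
    Function.Bijective Φ := by
  let X := ↥(⋀[A]^p (Ω[A⁄R]))
  let G : B ⊗[A] X ≃ₗ[B] ↥(⋀[B]^p (Ω[B⁄S])) :=
    (DeRham.ExtBaseChange.equiv A B (Ω[A⁄R]) p).trans (LinearEquiv.ofBijective
      (exteriorPower.map p (KaehlerDifferential.tensorKaehlerEquiv R S A B).toLinearMap)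
      ⟨exteriorPower.map_injective (KaehlerDifferential.tensorKaehlerEquiv R S A B).symm.toLinearMap
        (by ext; simp),
       exteriorPower.map_surjective (KaehlerDifferential.tensorKaehlerEquiv R S A B).surjective⟩)
  have hG : ∀ x : X, G ((1 : B) ⊗ₜ x) = ψ p x := by
    refine fun x => DeRham.Basic.gen_induction (KaehlerDifferential.D R A)
      (KaehlerDifferential.span_range_derivation R A) (P := fun x => G ((1 : B) ⊗ₜ x) = ψ p x) ?_ ?_ ?_ x
    · simp
    · intro a b ha hb; rw [TensorProduct.tmul_add, map_add, map_add, ha, hb]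
    · intro b₀ b
      show exteriorPower.map p _ (DeRham.ExtBaseChange.cmp A B (Ω[A⁄R]) p _) = _
      rw [hψ p b₀ b, DeRham.Basic.gen_eq, DeRham.Basic.gen_eq, ← TensorProduct.smul_tmul,
        DeRham.ExtBaseChange.cmp_tmul_ιMulti, map_smul, exteriorPower.map_apply_ιMulti,
        Algebra.smul_def, mul_one]
      congr 2
      funext i
      simp
  let c : S ⊗[R] X ≃ₗ[S] B ⊗[A] X := (Algebra.IsPushout.cancelBaseChange R S A B X).symm
  have hΦG : ∀ z, Φ z = G (c z) := by
    intro z
    induction z using TensorProduct.induction_on with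
    | zero => simp
    | tmul s x =>
      rw [hΦ, ← hG x, ← algebraMap_smul B s (G _), ← map_smul, TensorProduct.smul_tmul', smul_eq_mul,
        mul_one]
      simp [c, X]
    | add a b ha hb => simp [ha, hb]
  rw [show (⇑Φ) = G ∘ c from funext hΦG]
  exact G.bijective.comp c.bijective

end Groth.Agent.S15295
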