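import Groth.Statements.S15296
import Groth.Agent.DeRham.Basic
import Groth.Prelude.Def_Conn

set_option autoImplicit false
universe u
open DeRham

namespace Groth.Agent.S15296

open exteriorPower in
/-- Let R → A be a ring map, π a surjective A-linear map from the Kähler differentials of A over R onto
an A-module Ω', δ = π ∘ d the induced derivation A → Ω', and d_A a de Rham differential of the
Kähler differentials. Suppose the kernel of π is generated over A by elements ω with π(ω) = 0 whose
differential d_A(ω) is killed by the second exterior power of π. Then the exterior powers of Ω' over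
A carry a de Rham differential for δ: a family of R-linear maps d from p-forms to (p+1)-forms with
d(f₀ δf₁ ∧ … ∧ δf_p) = δf₀ ∧ δf₁ ∧ … ∧ δf_p and d ∘ d = 0; moreover d is compatible with d_A through
the exterior powers of π. -/
theorem result (R A Ω' : Type u) [CommRing R] [CommRing A] [Algebra R A]
    [AddCommGroup Ω'] [Module A Ω'] [Module R Ω'] [IsScalarTower R A Ω']
    (π : Ω[A⁄R] →ₗ[A] Ω') (hπ : Function.Surjective π)
    (dA : ∀ p : ℕ, ↥(⋀[A]^p (Ω[A⁄R])) →ₗ[R] ↥(⋀[A]^(p + 1) (Ω[A⁄R])))
    (hdA : DeRham.IsDiff (KaehlerDifferential.D R A) dA)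
    (hker : LinearMap.ker π ≤ Submodule.span A {ω : Ω[A⁄R] | π ω = 0 ∧
      exteriorPower.map 2 π (dA 1 ((exteriorPower.oneEquiv A (Ω[A⁄R])).symm ω)) = 0}) :
    ∃ d : ∀ p : ℕ, ↥(⋀[A]^p Ω') →ₗ[R] ↥(⋀[A]^(p + 1) Ω'),
      DeRham.IsDiff (π.compDer (KaehlerDifferential.D R A)) d ∧
        ∀ (p : ℕ) (x : ↥(⋀[A]^p (Ω[A⁄R]))),
          d p (exteriorPower.map p π x) = exteriorPower.map (p + 1) π (dA p x) := by
  classical
  let D := KaehlerDifferential.D R A
  have hgen : Submodule.span A (Set.range D) = ⊤ := KaehlerDifferential.span_range_derivation R A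
  let E := ExteriorAlgebra.map π
  have hmap : ∀ (q : ℕ) (x : ↥(⋀[A]^q (Ω[A⁄R]))),
      E (x : ExteriorAlgebra A (Ω[A⁄R])) = (exteriorPower.map q π x : ExteriorAlgebra A Ω') := by
    intro q
    have h : E.toLinearMap ∘ₗ (⋀[A]^q (Ω[A⁄R])).subtype =
        (⋀[A]^q Ω').subtype ∘ₗ exteriorPower.map q π :=
      exteriorPower.linearMap_ext (AlternatingMap.ext fun v => by
        simp [E, ExteriorAlgebra.map_apply_ιMulti])
    exact LinearMap.congr_fun h
  have hw : ∀ {q : ℕ} (e : Ω[A⁄R]) (v : Fin q → Ω[A⁄R]),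
      ((ιMulti A (q + 1) (Fin.cons e v)) : ExteriorAlgebra A (Ω[A⁄R])) =
        ExteriorAlgebra.ι A e * (ιMulti A q v : ExteriorAlgebra A (Ω[A⁄R])) := fun e v => by
    rw [ιMulti_apply_coe, ιMulti_apply_coe, ExteriorAlgebra.ιMulti_succ_apply, Fin.cons_zero]; rfl
  have hfun : ∀ {q : ℕ} (e : A) (b : Fin q → A),
      (fun i => D ((Fin.cons e b : Fin (q + 1) → A) i)) = Fin.cons (D e) (fun i => D (b i)) := fun e b => by
    funext i; refine Fin.cases ?_ ?_ i <;> simp
  let W : Ω[A⁄R] → ∀ q : ℕ, ↥(⋀[A]^q (Ω[A⁄R])) → ↥(⋀[A]^(q + 1) (Ω[A⁄R])) := fun e q η =>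
    Conn.wedge q ((oneEquiv A (Ω[A⁄R])).symm e) η
  have hone : ∀ e : Ω[A⁄R], (oneEquiv A (Ω[A⁄R])).symm e = ιMulti A 1 (fun _ => e) := fun e => by
    rw [LinearEquiv.symm_apply_eq, oneEquiv_ιMulti]
  have hιone : ∀ e : Ω[A⁄R], (((oneEquiv A (Ω[A⁄R])).symm e : ↥(⋀[A]^1 (Ω[A⁄R]))) : ExteriorAlgebra A (Ω[A⁄R])) =
      ExteriorAlgebra.ι A e := fun e => by
    rw [hone, ιMulti_apply_coe, ExteriorAlgebra.ιMulti_succ_apply, ExteriorAlgebra.ιMulti_zero_apply, mul_one]
  have hsingle : ∀ v : Fin 1 → Ω[A⁄R], ((ιMulti A 1 v) : ExteriorAlgebra A (Ω[A⁄R])) = ExteriorAlgebra.ι A (v 0) :=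
    fun v => by rw [ιMulti_apply_coe, ExteriorAlgebra.ιMulti_succ_apply, ExteriorAlgebra.ιMulti_zero_apply, mul_one]
  -- Leibniz in degree one
  have leib : ∀ (c : A) (x : ↥(⋀[A]^1 (Ω[A⁄R]))),
      (dA 1 (c • x) : ExteriorAlgebra A (Ω[A⁄R])) = ExteriorAlgebra.ι A (D c) * (x : ExteriorAlgebra A (Ω[A⁄R])) +
        c • (dA 1 x : ExteriorAlgebra A (Ω[A⁄R])) := by
    intro c x
    refine DeRham.Basic.gen_induction D hgen (P := fun x : ↥(⋀[A]^1 (Ω[A⁄R])) =>
      (dA 1 (c • x) : ExteriorAlgebra A (Ω[A⁄R])) = ExteriorAlgebra.ι A (D c) * (x : ExteriorAlgebra A (Ω[A⁄R])) +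
        c • (dA 1 x : ExteriorAlgebra A (Ω[A⁄R]))) ?_ ?_ ?_ x
    · simp
    · intro a b ha hb
      simp only [smul_add, map_add, Submodule.coe_add, mul_add, ha, hb]; abel
    · intro a b
      rw [DeRham.Basic.smul_gen, hdA.1, hdA.1, DeRham.Basic.gen_eq, Submodule.coe_smul, hw, hw,
        Derivation.leibniz, map_add, map_smul, map_smul, add_mul, smul_mul_assoc, smul_mul_assoc,
        mul_smul_comm, add_comm]
  -- moving a factor `D b` past `dA`
  have hmul : ∀ (q : ℕ) (c : A) (e : Ω[A⁄R]) (b : Fin q → A),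
      (dA (q + 1) (c • W e q (ιMulti A q (fun i => D (b i)))) : ExteriorAlgebra A (Ω[A⁄R])) =
        (dA 1 (c • (oneEquiv A (Ω[A⁄R])).symm e) : ExteriorAlgebra A (Ω[A⁄R])) *
          (ιMulti A q (fun i => D (b i)) : ExteriorAlgebra A (Ω[A⁄R])) := by
    intro q c e b
    simp only [W]
    generalize (oneEquiv A (Ω[A⁄R])).symm e = x
    refine DeRham.Basic.gen_induction D hgen (P := fun x : ↥(⋀[A]^1 (Ω[A⁄R])) =>
      (dA (q + 1) (c • Conn.wedge q x (ιMulti A q (fun i => D (b i)))) : ExteriorAlgebra A (Ω[A⁄R])) =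
        (dA 1 (c • x) : ExteriorAlgebra A (Ω[A⁄R])) *
          (ιMulti A q (fun i => D (b i)) : ExteriorAlgebra A (Ω[A⁄R]))) ?_ ?_ ?_ x
    · simp
    · intro y z hy hz
      simp only [map_add, LinearMap.add_apply, smul_add, Submodule.coe_add, add_mul, hy, hz]
    · intro a f
      have h1 : c • Conn.wedge q (DeRham.gen D 1 a f) (ιMulti A q (fun i => D (b i))) =
          DeRham.gen D (q + 1) (c * a) (Fin.cons (f 0) b) := by
        apply Subtype.ext
        rw [Submodule.coe_smul, Conn.wedge_apply_coe, DeRham.Basic.gen_eq, DeRham.Basic.gen_eq,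
          Submodule.coe_smul, Submodule.coe_smul, hfun, hw, smul_mul_assoc, smul_smul,
          hsingle]
      rw [h1, DeRham.Basic.smul_gen, hdA.1, hdA.1, hw, hw, hfun, hw,
        hsingle, mul_assoc]
  have hzero : ∀ (q : ℕ) (c : A) (e : Ω[A⁄R]), π e = 0 → ∀ η : ↥(⋀[A]^q (Ω[A⁄R])),
      E (dA (q + 1) (c • W e q η) : ExteriorAlgebra A (Ω[A⁄R])) = 0 := by
    intro q c e he
    have hspan := hker (show e ∈ LinearMap.ker π from he)
    clear he
    induction hspan using Submodule.span_induction generalizing c with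
    | mem e he =>
      intro η
      refine DeRham.Basic.gen_induction D hgen (P := fun η : ↥(⋀[A]^q (Ω[A⁄R])) =>
        ∀ c : A, E (dA (q + 1) (c • W e q η) : ExteriorAlgebra A (Ω[A⁄R])) = 0) ?_ ?_ ?_ η c
      · intro c; simp [W]
      · intro y z hy hz c
        simp only [W, map_add, smul_add, Submodule.coe_add] at hy hz ⊢
        rw [hy, hz, add_zero]
      · intro b₀ b c
        have h1 : c • W e q (DeRham.gen D q b₀ b) = (c * b₀) • W e q (ιMulti A q (fun i => D (b i))) := by
          simp only [W, DeRham.Basic.gen_eq, map_smul, smul_smul]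
        have h2 : E (dA 1 ((oneEquiv A (Ω[A⁄R])).symm e) : ExteriorAlgebra A (Ω[A⁄R])) = 0 := by
          rw [hmap 2, he.2, Submodule.coe_zero]
        rw [h1, hmul, map_mul, leib, map_add, map_smul, h2, hιone, map_mul, ExteriorAlgebra.map_apply_ι,
          ExteriorAlgebra.map_apply_ι, he.1, map_zero, mul_zero, smul_zero, add_zero, zero_mul]
    | zero => intro η; simp [W]
    | add a b _ _ ha hb =>
      intro η
      simp only [W, map_add, LinearMap.add_apply, smul_add, Submodule.coe_add] at ha hb ⊢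
      rw [ha, hb, add_zero]
    | smul a x _ hx =>
      intro η
      simp only [W, map_smul, LinearMap.smul_apply, smul_smul] at hx ⊢
      exact hx _ η
  -- kills the kernel
  have hK : ∀ (q : ℕ) (x : ↥(⋀[A]^q (Ω[A⁄R]))), exteriorPower.map q π x = 0 →
      exteriorPower.map (q + 1) π (dA q x) = 0 := by
    intro q x hx
    let K : Submodule A ↥(⋀[A]^q (Ω[A⁄R])) :=
      Submodule.span A {y | ∃ v, (∃ i, π (v i) = 0) ∧ y = ιMulti A q v}
    have hxK : x ∈ K := by
      let s := Function.surjInv hπ
      have hs : ∀ y, π (s y) = y := Function.surjInv_eq hπ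
      let μ := K.mkQ.compAlternatingMap (ιMulti A q)
      have hμ : ∀ v w, (∀ i, π (v i) = π (w i)) → μ v = μ w := by
        intro v w h
        suffices H : ∀ S : Finset (Fin q), μ (S.piecewise w v) = μ v by
          have := H Finset.univ
          rw [Finset.piecewise_univ] at this
          exact this.symm
        intro S
        induction S using Finset.induction_on with
        | empty => rw [Finset.piecewise_empty]
        | insert a S ha ih =>
          rw [Finset.piecewise_insert, ← ih]
          set u := S.piecewise w v with hu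
          have hua : u a = v a := Finset.piecewise_eq_of_notMem _ _ _ ha
          rw [← sub_eq_zero]
          conv_lhs => arg 2; rw [← Function.update_eq_self a u]
          rw [← AlternatingMap.map_update_sub]
          show K.mkQ (ιMulti A q _) = 0
          rw [Submodule.mkQ_apply, Submodule.Quotient.mk_eq_zero]
          exact Submodule.subset_span ⟨_, ⟨a, by rw [Function.update_self, map_sub, hua, h a, sub_self]⟩, rfl⟩
      let inv : Ω' [⋀^Fin q]→ₗ[A] (↥(⋀[A]^q (Ω[A⁄R])) ⧸ K) :=
        { toFun := fun v => μ (fun i => s (v i))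
          map_update_add' := fun v i a b => by
            simp only [Function.apply_update (fun _ => s)]
            rw [← AlternatingMap.map_update_add]
            refine hμ _ _ fun j => ?_
            by_cases h : j = i
            · subst h; simp [Function.update_self, hs]
            · simp [Function.update_of_ne h]
          map_update_smul' := fun v i c a => by
            simp only [Function.apply_update (fun _ => s)]
            rw [← AlternatingMap.map_update_smul]
            refine hμ _ _ fun j => ?_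
            by_cases h : j = i
            · subst h; simp [Function.update_self, hs]
            · simp [Function.update_of_ne h]
          map_eq_zero_of_eq' := fun v i j hv hij => μ.map_eq_zero_of_eq _ (by rw [hv]) hij }
      have hinv : alternatingMapLinearEquiv inv ∘ₗ exteriorPower.map q π = K.mkQ := by
        refine exteriorPower.linearMap_ext (AlternatingMap.ext fun v => ?_)
        simp only [LinearMap.compAlternatingMap_apply, LinearMap.comp_apply, map_apply_ιMulti,
          alternatingMapLinearEquiv_apply_ιMulti]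
        exact hμ _ _ fun i => hs _
      rw [← Submodule.Quotient.mk_eq_zero (p := K), ← Submodule.mkQ_apply, ← hinv, LinearMap.comp_apply, hx,
        map_zero]
    clear hx
    apply Subtype.ext
    rw [Submodule.coe_zero, ← hmap]
    suffices H : ∀ c : A, E (dA q (c • x) : ExteriorAlgebra A (Ω[A⁄R])) = 0 by simpa using H 1
    induction hxK using Submodule.span_induction with
    | mem y hy =>
      intro c
      obtain ⟨v, ⟨i, hi⟩, rfl⟩ := hy
      obtain ⟨q', rfl⟩ : ∃ q', q = q' + 1 := ⟨q - 1, by have := i.isLt; omega⟩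
      have hv : ιMulti A (q' + 1) v = (Equiv.Perm.sign (Equiv.swap 0 i) : ℤˣ) •
          W (v i) q' (ιMulti A q' (Fin.tail (v ∘ Equiv.swap 0 i))) := by
        have h2 : W (v i) q' (ιMulti A q' (Fin.tail (v ∘ Equiv.swap 0 i))) =
            ιMulti A (q' + 1) (v ∘ Equiv.swap 0 i) := by
          apply Subtype.ext
          simp only [W]
          rw [Conn.wedge_apply_coe, hιone, ← hw]
          congr
          conv_rhs => rw [← Fin.cons_self_tail (v ∘ Equiv.swap 0 i)]
          simp
        rw [h2, AlternatingMap.map_perm, smul_smul, Int.units_mul_self, one_smul]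
      rcases Int.units_eq_one_or (Equiv.Perm.sign (Equiv.swap 0 i)) with h | h
      · rw [hv, h, one_smul]; exact hzero _ c _ hi _
      · rw [hv, h, Units.neg_smul, one_smul, smul_neg, map_neg, Submodule.coe_neg, map_neg,
          hzero _ c _ hi _, neg_zero]
    | zero => intro c; simp
    | add a b _ _ ha hb => intro c; simp only [smul_add, map_add, Submodule.coe_add, ha c, hb c, add_zero]
    | smul a y _ hy => intro c; rw [smul_smul]; exact hy _
  have hwd : ∀ (q : ℕ) (x y : ↥(⋀[A]^q (Ω[A⁄R]))), exteriorPower.map q π x = exteriorPower.map q π y →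
      exteriorPower.map (q + 1) π (dA q x) = exteriorPower.map (q + 1) π (dA q y) := fun q x y h => by
    rw [← sub_eq_zero, ← map_sub, ← map_sub]
    exact hK q _ (by rw [map_sub, h, sub_self])
  let σ := fun q => Function.surjInv (exteriorPower.map_surjective (n := q) hπ)
  have hσ : ∀ q y, exteriorPower.map q π (σ q y) = y := fun q => Function.surjInv_eq _
  let d : ∀ q : ℕ, ↥(⋀[A]^q Ω') →ₗ[R] ↥(⋀[A]^(q + 1) Ω') := fun q =>
    { toFun := fun y => exteriorPower.map (q + 1) π (dA q (σ q y))
      map_add' := fun y z => by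
        rw [← map_add, ← map_add]; exact hwd q _ _ (by rw [map_add, hσ, hσ, hσ])
      map_smul' := fun r y => by
        rw [RingHom.id_apply, ← LinearMap.map_smul_of_tower, ← map_smul]
        exact hwd q _ _ (by rw [LinearMap.map_smul_of_tower, hσ, hσ]) }
  have hdmap : ∀ (q : ℕ) (x : ↥(⋀[A]^q (Ω[A⁄R]))),
      d q (exteriorPower.map q π x) = exteriorPower.map (q + 1) π (dA q x) := fun q x =>
    hwd q _ _ (hσ q _)
  refine ⟨d, DeRham.Basic.isDiff_of_isRule (DeRham.Basic.span_range_compDer D hgen π hπ) ?_, hdmap⟩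
  intro q b₀ b
  have h1 : DeRham.gen (π.compDer D) q b₀ b = exteriorPower.map q π (DeRham.gen D q b₀ b) := by
    rw [DeRham.Basic.gen_eq, DeRham.Basic.gen_eq, map_smul, map_apply_ιMulti]; rfl
  rw [h1, hdmap, hdA.1, map_apply_ιMulti]
  congr 1
  funext i
  refine Fin.cases ?_ ?_ i <;> simp [D]

end Groth.Agent.S15296
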