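import Groth.Statements.S15297
import Groth.Agent.DeRham.Basic

set_option autoImplicit false
universe u
open DeRham

namespace Groth.Agent.S15297

open exteriorPower in
/-- Let R → A be a ring map and d a de Rham differential of the Kähler differentials of A over R. Then
each d from p-forms to (p+1)-forms, an R-linear map between A-modules, is a differential operator of
order at most 1 relative to R → A: every commutator of d with multiplication by an element of A is
A-linear. -/
theorem result (R A : Type u) [CommRing R] [CommRing A] [Algebra R A]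
    (d : ∀ p : ℕ, ↥(⋀[A]^p (Ω[A⁄R])) →ₗ[R] ↥(⋀[A]^(p + 1) (Ω[A⁄R])))
    (hd : DeRham.IsDiff (KaehlerDifferential.D R A) d) (p : ℕ) :
    Diff16.IsDiffOpLE R A ↥(⋀[A]^p (Ω[A⁄R])) ↥(⋀[A]^(p + 1) (Ω[A⁄R])) 1 (d p) := by
  intro b c x
  have hgen := KaehlerDifferential.span_range_derivation R A
  have hK : ∀ (b₀ : A) (bs : Fin p → A),
      Diff16.commutator R A _ _ (d p) b (DeRham.gen (KaehlerDifferential.D R A) p b₀ bs) =
        DeRham.gen (KaehlerDifferential.D R A) (p + 1) b₀ (Fin.cons b bs) := by
    intro b₀ bs
    simp only [Diff16.commutator, LinearMap.sub_apply, LinearMap.comp_apply,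
      LinearMap.restrictScalars_apply, LinearMap.lsmul_apply, DeRham.Basic.smul_gen]
    rw [hd.1, hd.1, DeRham.Basic.gen_eq, Derivation.leibniz]
    have hc : ∀ a : A, (fun i => KaehlerDifferential.D R A (Fin.cons (α := fun _ => A) a bs i)) =
        Fin.cons (KaehlerDifferential.D R A a) (fun i => KaehlerDifferential.D R A (bs i)) := by
      intro a; ext i; refine Fin.cases ?_ ?_ i <;> simp
    rw [hc b]
    simp only [← AlternatingMap.coe_multilinearMap, MultilinearMap.cons_add, MultilinearMap.cons_smul,
      add_sub_cancel_left]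
  refine DeRham.Basic.gen_induction _ hgen
    (P := fun x => Diff16.commutator R A _ _ (d p) b (c • x) =
      c • Diff16.commutator R A _ _ (d p) b x) ?_ ?_ ?_ x
  · simp
  · intro y z hy hz; simp only [smul_add, map_add, hy, hz]
  · intro b₀ bs
    rw [DeRham.Basic.smul_gen, hK, hK, DeRham.Basic.smul_gen]

end Groth.Agent.S15297
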