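import Groth.Statements.S15298
import Mathlib

set_option autoImplicit false
universe u
open CAlg

namespace Groth.Agent.S15298

/-- Let k be a field, A a Noetherian k-algebra and x a non-zero-divisor of A such that A is separated
and complete for the (x)-adic topology, and assume that B = A/xA is formally smooth over k. Then A
is a power series ring over B in the variable x: there is a k-algebra isomorphism e : B[[T]] ≅ A
with e(T) = x whose reduction modulo x is the constant-coefficient map, i.e. e(f) ≡ f(0) mod x for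
every power series f. -/
theorem result (k A : Type u) [Field k]
    [CommRing A] [Algebra k A] [IsNoetherianRing A] (x : A) (hx : x ∈ nonZeroDivisors A)
    [IsAdicComplete (Ideal.span {x}) A] [Algebra.FormallySmooth k (A ⧸ Ideal.span {x})] :
    ∃ e : PowerSeries (A ⧸ Ideal.span {x}) ≃ₐ[k] A,
      e PowerSeries.X = x ∧
      ∀ f : PowerSeries (A ⧸ Ideal.span {x}),
        Ideal.Quotient.mk (Ideal.span {x}) (e f) = PowerSeries.constantCoeff f := by
  classical
  set I := Ideal.span {x}
  set B := A ⧸ I
  have hpow : ∀ (n : ℕ), 1 ≤ n → IsNilpotent (I.map (Ideal.Quotient.mk (I ^ n))) := fun n hn =>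
    ⟨n, by rw [← Ideal.map_pow, Ideal.map_quotient_self]; rfl⟩
  -- compatible lifts B → A / I ^ (n + 1)
  have hstep : ∀ (n : ℕ) (g : B →ₐ[k] A ⧸ I ^ (n + 1)), ∃ g' : B →ₐ[k] A ⧸ I ^ (n + 2),
      (Ideal.Quotient.factorₐ k (Ideal.pow_le_pow_right (Nat.le_succ (n + 1)))).comp g' = g := by
    intro n g
    let φ := Ideal.Quotient.factorₐ k (Ideal.pow_le_pow_right (I := I) (Nat.le_succ (n + 1)))
    have hφ : Function.Surjective φ := Ideal.Quotient.factor_surjective (Ideal.pow_le_pow_right (I := I) (Nat.le_succ (n + 1)))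
    have hker : IsNilpotent (RingHom.ker (φ : A ⧸ I ^ (n + 2) →+* A ⧸ I ^ (n + 1))) := by
      refine ⟨2, ?_⟩
      show RingHom.ker (Ideal.Quotient.factor (Ideal.pow_le_pow_right (I := I) (Nat.le_succ (n + 1)))) ^ 2 = ⊥
      rw [Ideal.Quotient.factor_ker, ← Ideal.map_pow, Ideal.map_eq_bot_iff_le_ker, Ideal.mk_ker, ← pow_mul]
      exact Ideal.pow_le_pow_right (by omega)
    exact ⟨Algebra.FormallySmooth.liftOfSurjective g φ hφ hker, Algebra.FormallySmooth.comp_liftOfSurjective g φ hφ hker⟩
  choose next hnext using hstep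
  let g0 : B →ₐ[k] A ⧸ I ^ 1 := (Ideal.quotientEquivAlgOfEq k (pow_one I).symm).toAlgHom
  let g : ∀ n, B →ₐ[k] A ⧸ I ^ (n + 1) := fun n => Nat.rec (motive := fun n => B →ₐ[k] A ⧸ I ^ (n + 1)) g0 (fun n gn => next n gn) n
  have hgc : ∀ n m (hm : m ≤ n) (b : B),
      Ideal.Quotient.factor (Ideal.pow_le_pow_right (I := I) (Nat.succ_le_succ hm)) (g n b) = g m b := by
    intro n
    induction n with
    | zero =>
      intro m hm b
      obtain rfl : m = 0 := by omega
      obtain ⟨a, ha⟩ := Ideal.Quotient.mk_surjective (g 0 b)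
      rw [← ha]; rfl
    | succ n ih =>
      intro m hm b
      rcases Nat.lt_or_ge m (n + 1) with h | h
      · rw [← ih m (by omega) b]
        conv_rhs => rw [← AlgHom.congr_fun (hnext n (g n)) b]
        obtain ⟨a, ha⟩ := Ideal.Quotient.mk_surjective (g (n + 1) b)
        show _ = Ideal.Quotient.factor (Ideal.pow_le_pow_right (I := I) (Nat.succ_le_succ (by omega : m ≤ n)))
          (Ideal.Quotient.factor (Ideal.pow_le_pow_right (I := I) (Nat.le_succ (n + 1))) (g (n + 1) b))
        rw [← ha]; rfl
      · obtain rfl : m = n + 1 := by omega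
        obtain ⟨a, ha⟩ := Ideal.Quotient.mk_surjective (g (n + 1) b)
        rw [← ha]; rfl
  let G : ∀ n, B →ₐ[k] A ⧸ I ^ n := fun n =>
    (Ideal.Quotient.factorₐ k (Ideal.pow_le_pow_right (Nat.le_succ n))).comp (g n)
  have hG : ∀ {m n : ℕ} (hle : m ≤ n), (Ideal.Quotient.factorₐ k (Ideal.pow_le_pow_right hle)).comp (G n) = G m := by
    intro m n hle
    refine AlgHom.ext fun b => ?_
    show Ideal.Quotient.factor (Ideal.pow_le_pow_right (I := I) hle) (Ideal.Quotient.factor (Ideal.pow_le_pow_right (I := I) (Nat.le_succ n)) (g n b)) =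
      Ideal.Quotient.factor (Ideal.pow_le_pow_right (I := I) (Nat.le_succ m)) (g m b)
    rw [← hgc n m hle b]
    obtain ⟨a, ha⟩ := Ideal.Quotient.mk_surjective (g n b)
    rw [← ha]; rfl
  let s : B →ₐ[k] A := IsAdicComplete.liftAlgHom I G hG
  have hs : ∀ b, Ideal.Quotient.mk I (s b) = b := by
    intro b
    have h := IsAdicComplete.mk_liftAlgHom I G hG 1 b
    have h1 : G 1 b = g 0 b := by
      show Ideal.Quotient.factor (Ideal.pow_le_pow_right (I := I) (Nat.le_succ 1)) (g 1 b) = g0 b
      exact AlgHom.congr_fun (hnext 0 g0) b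
    rw [h1] at h
    obtain ⟨a, rfl⟩ := Ideal.Quotient.mk_surjective b
    have h2 : s (Ideal.Quotient.mk I a) - a ∈ I ^ 1 := Ideal.Quotient.eq.1 h
    rw [pow_one] at h2
    exact Ideal.Quotient.eq.2 h2
  let ev : Polynomial B →+* A := Polynomial.eval₂RingHom s.toRingHom x
  have hev : ∀ (n : ℕ) (q : Polynomial B), (∀ i < n, q.coeff i = 0) → ev q ∈ I ^ n := by
    intro n q hq
    obtain ⟨r, rfl⟩ := Polynomial.X_pow_dvd_iff.2 hq
    rw [map_mul, map_pow, Ideal.span_singleton_pow]
    exact Ideal.mul_mem_right _ _ (by simp [ev, Ideal.mem_span_singleton])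
  let F : ∀ n, PowerSeries B →ₐ[k] A ⧸ I ^ n := fun n =>
    { toFun := fun f => Ideal.Quotient.mk _ (ev (PowerSeries.trunc n f))
      map_one' := by
        rcases n with _ | n
        · rw [pow_zero, Ideal.one_eq_top]; exact Subsingleton.elim _ _
        · rw [PowerSeries.trunc_one, map_one, map_one]
      map_mul' := fun f h => by
        rw [← map_mul, ← map_mul, Ideal.Quotient.eq, ← map_sub]
        refine hev n _ fun i hi => ?_
        rw [Polynomial.coeff_sub, PowerSeries.coeff_trunc, if_pos hi, PowerSeries.coeff_mul, Polynomial.coeff_mul, sub_eq_zero]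
        refine Finset.sum_congr rfl fun ij hij => ?_
        have hij' := Finset.HasAntidiagonal.mem_antidiagonal.1 hij
        rw [PowerSeries.coeff_trunc, if_pos (by omega), PowerSeries.coeff_trunc, if_pos (by omega)]
      map_zero' := by rw [map_zero, map_zero, map_zero]
      map_add' := fun f h => by rw [map_add, map_add, map_add]
      commutes' := fun r => by
        rw [← Ideal.Quotient.mk_algebraMap, Ideal.Quotient.eq]
        rcases n with _ | n
        · rw [pow_zero, Ideal.one_eq_top]; trivial
        · rw [PowerSeries.algebraMap_apply, PowerSeries.trunc_C]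
          simp [ev] }
  have hF : ∀ {m n : ℕ} (hle : m ≤ n), (Ideal.Quotient.factorₐ k (Ideal.pow_le_pow_right hle)).comp (F n) = F m := by
    intro m n hle
    refine AlgHom.ext fun f => ?_
    show Ideal.Quotient.mk (I ^ m) _ = Ideal.Quotient.mk (I ^ m) _
    rw [Ideal.Quotient.eq, ← map_sub]
    refine hev m _ fun i hi => ?_
    rw [Polynomial.coeff_sub, PowerSeries.coeff_trunc, if_pos (by omega), PowerSeries.coeff_trunc, if_pos hi, sub_self]
  let e₀ : PowerSeries B →ₐ[k] A := IsAdicComplete.liftAlgHom I F hF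
  have he : ∀ n f, e₀ f - ev (PowerSeries.trunc n f) ∈ I ^ n := fun n f =>
    Ideal.Quotient.eq.1 (IsAdicComplete.mk_liftAlgHom I F hF n f)
  have hH : ∀ a : A, (∀ n, a ∈ I ^ n) → a = 0 := fun a ha =>
    IsHausdorff.haus (inferInstance : IsHausdorff I A) a fun n => by
      rw [SModEq.zero, Ideal.smul_eq_mul, Ideal.mul_top]; exact ha n
  have heX : e₀ PowerSeries.X = x := by
    refine sub_eq_zero.1 (hH _ fun n => ?_)
    have h2 : ev (PowerSeries.trunc (n + 2) (PowerSeries.X : PowerSeries B)) = x := by
      rw [PowerSeries.trunc_X]; simp [ev]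
    have := he (n + 2) PowerSeries.X
    rw [h2] at this
    exact Ideal.pow_le_pow_right (by omega) this
  have hemod : ∀ f, Ideal.Quotient.mk I (e₀ f) = PowerSeries.constantCoeff f := by
    intro f
    have h := he 1 f
    rw [pow_one] at h
    rw [Ideal.Quotient.eq.2 h, ← hs (PowerSeries.constantCoeff f)]
    congr 1
    rw [PowerSeries.trunc_one_left]
    simp [ev]
  have hinj : Function.Injective e₀ := by
    rw [injective_iff_map_eq_zero]
    intro f hf
    have key : ∀ (j : ℕ) (f : PowerSeries B), e₀ f = 0 → PowerSeries.coeff j f = 0 := by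
      intro j
      induction j with
      | zero =>
        intro f hf
        rw [PowerSeries.coeff_zero_eq_constantCoeff_apply, ← hemod, hf, map_zero]
      | succ j ih =>
        intro f hf
        have h0 : PowerSeries.constantCoeff f = 0 := by rw [← hemod, hf, map_zero]
        obtain ⟨h, rfl⟩ := PowerSeries.X_dvd_iff.2 h0
        rw [map_mul, heX] at hf
        rw [PowerSeries.coeff_succ_X_mul]
        exact ih h ((mul_left_mem_nonZeroDivisors_eq_zero_iff hx).1 hf)
    exact PowerSeries.ext fun j => by rw [key j f hf, map_zero]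
  have hsurj : Function.Surjective e₀ := by
    intro a
    have hd : ∀ b : A, ∃ c, b = s (Ideal.Quotient.mk I b) + x * c := by
      intro b
      have h : b - s (Ideal.Quotient.mk I b) ∈ I := by rw [← Ideal.Quotient.eq, hs]
      obtain ⟨c, hc⟩ := Ideal.mem_span_singleton'.1 h
      exact ⟨c, by rw [mul_comm, hc, add_sub_cancel]⟩
    choose r hr using hd
    refine ⟨PowerSeries.mk fun i => Ideal.Quotient.mk I (r^[i] a), sub_eq_zero.1 (hH _ fun n => ?_)⟩
    have key : ∀ n, a = ev (PowerSeries.trunc n (PowerSeries.mk fun i => Ideal.Quotient.mk I (r^[i] a))) + x ^ n * r^[n] a := by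
      intro n
      induction n with
      | zero => simp
      | succ n ih =>
        rw [PowerSeries.trunc_succ, map_add, PowerSeries.coeff_mk, Function.iterate_succ_apply']
        conv_lhs => rw [ih, hr (r^[n] a)]
        simp [ev, pow_succ]
        ring
    have h1 := he n (PowerSeries.mk fun i => Ideal.Quotient.mk I (r^[i] a))
    have h2 : x ^ n * r^[n] a ∈ I ^ n := by
      rw [Ideal.span_singleton_pow]; exact Ideal.mul_mem_right _ _ (Ideal.mem_span_singleton_self _)
    have := sub_mem h1 h2
    nth_rewrite 2 [key n]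
    rw [← sub_sub]
    exact this
  exact ⟨AlgEquiv.ofBijective e₀ ⟨hinj, hsurj⟩, heX, hemod⟩

end Groth.Agent.S15298
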