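import Groth.Statements.S15302
import Mathlib.CategoryTheory.Abelian.Injective.Resolution
import Mathlib.Algebra.Homology.HomologicalComplexBiprod
-- import your own Groth.Agent.* helpers here

set_option autoImplicit false
universe v u
open HomAlg3

namespace Groth.Agent.S15302

open CategoryTheory CategoryTheory.Limits ZeroObject

noncomputable section

variable {C : Type u} [Category.{v} C] [Abelian C] (X : CochainComplex C ℕ)

/-- the shifted terms -/
def Y : ℕ → C
  | 0 => (0 : C)
  | n + 1 => X.X n

/-- into the shifted terms -/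
def sY (n : ℕ) : X.X n ⟶ Y X (n + 1) := 𝟙 (X.X n)

/-- out of the shifted terms -/
def rY (n : ℕ) : Y X (n + 1) ⟶ X.X n := 𝟙 (X.X n)

@[reassoc (attr := simp)] theorem sY_rY (n : ℕ) : sY X n ≫ rY X n = 𝟙 _ := Category.comp_id _

@[reassoc (attr := simp)] theorem rY_sY (n : ℕ) : rY X n ≫ sY X n = 𝟙 _ := Category.comp_id (𝟙 (X.X n))

/-- the differential from the shifted terms -/
def δ : (n : ℕ) → Y X n ⟶ X.X n
  | 0 => 0
  | n + 1 => rY X n ≫ X.d n (n + 1)

@[reassoc (attr := simp)] theorem δ_d (n : ℕ) : δ X n ≫ X.d n (n + 1) = 0 := by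
  cases n <;> simp [δ]

@[reassoc (attr := simp)] theorem sY_δ (n : ℕ) : sY X n ≫ δ X (n + 1) = X.d n (n + 1) := by
  simp [δ]

/-- the differential of the contractible cover -/
def pd (n : ℕ) : X.X n ⊞ Y X n ⟶ X.X (n + 1) ⊞ Y X (n + 1) :=
  biprod.lift (biprod.fst ≫ X.d n (n + 1)) ((biprod.fst - biprod.snd ≫ δ X n) ≫ sY X n)

theorem pd_pd (n : ℕ) : pd X n ≫ pd X (n + 1) = 0 := by
  apply biprod.hom_ext <;> simp [pd, Preadditive.sub_comp, Preadditive.comp_sub]

/-- the contractible cover of a complex -/
def P : CochainComplex C ℕ :=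
  CochainComplex.of (fun n => X.X n ⊞ Y X n) (pd X) (pd_pd X)

/-- the terms of the contractible cover -/
def pIso (n : ℕ) : X.X n ⊞ Y X n ≅ (P X).X n := Iso.refl _

/-- the projection of the contractible cover -/
def q : P X ⟶ X where
  f n := (pIso X n).inv ≫ biprod.fst
  comm' i j hij := by
    obtain rfl : i + 1 = j := hij
    erw [Category.id_comp, Category.id_comp]
    simp only [P, CochainComplex.of_d]
    erw [biprod.lift_fst]

/-- one step of the contraction -/
def h0 (n : ℕ) : X.X (n + 1) ⊞ Y X (n + 1) ⟶ X.X n ⊞ Y X n :=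
  biprod.snd ≫ rY X n ≫ biprod.inl

theorem h0_zero : pd X 0 ≫ h0 X 0 = 𝟙 _ := by
  apply biprod.hom_ext'
  · simp [pd, h0]
  · exact (isZero_zero C).eq_of_src _ _

theorem h0_succ (n : ℕ) : pd X (n + 1) ≫ h0 X (n + 1) + h0 X n ≫ pd X n = 𝟙 _ := by
  apply biprod.hom_ext <;> apply biprod.hom_ext' <;>
    simp [pd, h0, δ, Preadditive.sub_comp, Preadditive.comp_sub]

/-- the contraction -/
def hmap : ∀ (i j : ℕ), (ComplexShape.up ℕ).Rel j i → ((P X).X i ⟶ (P X).X j)
  | _, j, rfl => h0 X j

theorem nullHomotopic_eq : Homotopy.nullHomotopicMap' (hmap X) = 𝟙 (P X) := by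
  apply HomologicalComplex.hom_ext
  rintro (_ | n)
  · rw [Homotopy.nullHomotopicMap'_f_of_not_rel_right (k₀ := 1) rfl (fun l => by simp)]
    rw [show (P X).d 0 1 = pd X 0 by simp only [P]; exact CochainComplex.of_d _ _ 0]
    exact h0_zero X
  · rw [Homotopy.nullHomotopicMap'_f (k₂ := n) (k₀ := n + 1 + 1) rfl rfl]
    rw [show (P X).d (n + 1) (n + 1 + 1) = pd X (n + 1) by simp only [P]; exact CochainComplex.of_d _ _ _,
      show (P X).d n (n + 1) = pd X n by simp only [P]; exact CochainComplex.of_d _ _ _]
    exact h0_succ X n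

/-- the contractible cover is contractible -/
def contraction : Homotopy (𝟙 (P X)) 0 :=
  (Homotopy.ofEq (nullHomotopic_eq X).symm).trans (Homotopy.nullHomotopy' (hmap X))

/-- adding the contractible cover does not change the homotopy type -/
def inlEquiv (A : CochainComplex C ℕ) : HomotopyEquiv A (A ⊞ P X) where
  hom := biprod.inl
  inv := biprod.fst
  homotopyHomInvId := Homotopy.ofEq biprod.inl_fst
  homotopyInvHomId :=
    ((Homotopy.ofEq (by simp)).trans
      ((Homotopy.refl (biprod.fst ≫ biprod.inl : A ⊞ P X ⟶ A ⊞ P X)).add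
        (((contraction X).symm.compRight biprod.inr).compLeft (biprod.snd : A ⊞ P X ⟶ P X)))).trans
      (Homotopy.ofEq (by simp [biprod.total]))

end


open CategoryTheory CategoryTheory.Limits in
/-- In an abelian category with enough injectives, let α : G ⟶ F be a morphism and I an injective
resolution of F. Then G has an injective resolution J together with a morphism of cochain complexes
β : J ⟶ I lying over α (the augmentations commute with α and β) such that for every p there are an
object K^p and an isomorphism J^p ≅ I^p ⊕ K^p identifying β^p with the projection onto the first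
factor (so K^p is injective as well). (The published statement is for abelian sheaves on a
topological space; its proof uses only an embedding of G into an injective object and cokernels, so
the row is stated in any abelian category with enough injectives.) -/
theorem result {C : Type u} [Category.{v} C] [Abelian C]
    [EnoughInjectives C] {G F : C} (α : G ⟶ F) (I : InjectiveResolution F) :
    ∃ (J : InjectiveResolution G) (β : J.cocomplex ⟶ I.cocomplex),
      J.ι ≫ β = (CochainComplex.single₀ C).map α ≫ I.ι ∧
      ∀ p : ℕ, ∃ (K : C) (e : J.cocomplex.X p ≅ I.cocomplex.X p ⊞ K), β.f p = e.hom ≫ biprod.fst := by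
  let J₀ : InjectiveResolution G := InjectiveResolution.of G
  let β₀ := InjectiveResolution.desc α I J₀
  let T := J₀.cocomplex ⊞ P I.cocomplex
  have hY : ∀ n, Injective (Y I.cocomplex n) := fun n => by
    cases n with
    | zero => exact (isZero_zero C).injective
    | succ n => exact I.injective n
  have hinj : ∀ n, Injective (T.X n) := fun n => by
    haveI := hY n
    haveI : Injective ((P I.cocomplex).X n) :=
      inferInstanceAs (Injective (I.cocomplex.X n ⊞ Y I.cocomplex n))
    exact Injective.of_iso (HomologicalComplex.biprodXIso _ _ n).symm inferInstance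
  haveI : QuasiIso (biprod.inl : J₀.cocomplex ⟶ T) := (inlEquiv I.cocomplex J₀.cocomplex).quasiIso_hom
  let J : InjectiveResolution G :=
    { cocomplex := T, injective := hinj, ι := J₀.ι ≫ biprod.inl }
  let β : T ⟶ I.cocomplex := biprod.fst ≫ β₀ + biprod.snd ≫ q I.cocomplex
  refine ⟨J, β, ?_, fun p => ⟨J₀.cocomplex.X p ⊞ Y I.cocomplex p, ?_, ?_⟩⟩
  · simp [J, β, β₀, Preadditive.comp_add, InjectiveResolution.desc_commutes]
  · refine
      { hom := biprod.lift (β.f p)
          (biprod.lift ((biprod.fst : T ⟶ _).f p) ((biprod.snd : T ⟶ _).f p ≫ (pIso _ p).inv ≫ biprod.snd))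
        inv := biprod.desc (biprod.inl ≫ ((pIso I.cocomplex p).hom ≫ (biprod.inr : P I.cocomplex ⟶ T).f p))
          (biprod.desc ((biprod.inl : _ ⟶ T).f p -
              β₀.f p ≫ biprod.inl ≫ ((pIso I.cocomplex p).hom ≫ (biprod.inr : P I.cocomplex ⟶ T).f p))
            (biprod.inr ≫ ((pIso I.cocomplex p).hom ≫ (biprod.inr : P I.cocomplex ⟶ T).f p)))
        hom_inv_id := ?_
        inv_hom_id := ?_ }
    · rw [← cancel_epi (HomologicalComplex.biprodXIso J₀.cocomplex (P I.cocomplex) p).inv]
      apply biprod.hom_ext'
      · simp [T, J, β, q, Preadditive.comp_sub, Preadditive.add_comp]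
      · simp [T, J, β, q, Preadditive.comp_sub, Preadditive.add_comp]
        rw [← cancel_epi (pIso I.cocomplex p).hom]
        apply biprod.hom_ext' <;> simp
    · apply biprod.hom_ext'
      · apply biprod.hom_ext
        · simp [T, J, β, q, Preadditive.comp_sub, Preadditive.add_comp, Preadditive.sub_comp]
        · apply biprod.hom_ext <;>
            simp [T, J, β, q, Preadditive.comp_sub, Preadditive.add_comp, Preadditive.sub_comp]
      · apply biprod.hom_ext'
        · apply biprod.hom_ext
          · simp [T, J, β, q, Preadditive.comp_sub, Preadditive.add_comp, Preadditive.sub_comp]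
          · apply biprod.hom_ext <;>
              simp [T, J, β, q, Preadditive.comp_sub, Preadditive.add_comp, Preadditive.sub_comp]
        · apply biprod.hom_ext
          · simp [T, J, β, q, Preadditive.comp_sub, Preadditive.add_comp, Preadditive.sub_comp]
          · apply biprod.hom_ext <;>
              simp [T, J, β, q, Preadditive.comp_sub, Preadditive.add_comp, Preadditive.sub_comp]
  · exact (biprod.lift_fst _ _).symm

end Groth.Agent.S15302
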