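import Groth.Statements.S15303
import Groth.Agent.EtSlice12.Alg
import Mathlib.AlgebraicGeometry.Morphisms.Etale
import Mathlib.AlgebraicGeometry.Morphisms.ClosedImmersion
-- import your own Groth.Agent.* helpers here

set_option autoImplicit false
universe u
open EtBase

namespace Groth.Agent.S15303

open CategoryTheory AlgebraicGeometry in
/-- Let k be a field of characteristic zero, X and Y smooth k-schemes, f : X ⟶ Y a smooth k-morphism and
i : Z ⟶ X a closed immersion such that the composite Z ⟶ Y is again a closed immersion. Then for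
every point z of Z there are an open neighbourhood U of i(z) in X and a closed subscheme j : W ⟶ U
of U which is étale over Y (through U ⊆ X ⟶ Y) and contains Z ∩ U, i.e. the restriction of i over U
factors through j. -/
theorem result (k : Type u) [Field k] [CharZero k]
    {X Y Z : Scheme.{u}} [X.Over (Spec (CommRingCat.of k))] [Y.Over (Spec (CommRingCat.of k))]
    [Smooth (X ↘ Spec (CommRingCat.of k))] [Smooth (Y ↘ Spec (CommRingCat.of k))]
    (f : X ⟶ Y) [f.IsOver (Spec (CommRingCat.of k))] [Smooth f]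
    (i : Z ⟶ X) [IsClosedImmersion i] [IsClosedImmersion (i ≫ f)] (z : Z) :
    ∃ (U : X.Opens) (_ : i.base z ∈ U) (W : Scheme.{u}) (j : W ⟶ (U : Scheme.{u})) (_ : IsClosedImmersion j)
      (_ : Etale (j ≫ U.ι ≫ f)) (g : ((i ⁻¹ᵁ U : Z.Opens) : Scheme.{u}) ⟶ W), g ≫ j = i ∣_ U := by
  obtain ⟨_, ⟨V, hV, rfl⟩, hxV, -⟩ := Y.isBasis_affineOpens.exists_subset_of_mem_open
    (Set.mem_univ (f.base (i.base z))) isOpen_univ
  obtain ⟨_, ⟨U₀, hU₀, rfl⟩, hxU₀, hle⟩ := X.isBasis_affineOpens.exists_subset_of_mem_open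
    (show i.base z ∈ f ⁻¹ᵁ V from hxV) (f ⁻¹ᵁ V).2
  have e : U₀ ≤ f ⁻¹ᵁ V := hle
  let A := Γ(Y, V)
  let B := Γ(X, U₀)
  let φ : A →+* B := (f.appLE V U₀ e).hom
  letI : Algebra A B := φ.toAlgebra
  haveI : Algebra.Smooth A B :=
    (HasRingHomProperty.appLE @Smooth f inferInstance ⟨V, hV⟩ ⟨U₀, hU₀⟩ e : φ.Smooth)
  let π : B →+* Γ(Z, i ⁻¹ᵁ U₀) := (i.app U₀).hom
  have hπ : Function.Surjective π := i.app_surjective (U := U₀) hU₀
  let I : Ideal B := RingHom.ker π
  have hcomp : (i ≫ f).appLE V (i ⁻¹ᵁ U₀) (fun x hx => e hx) = f.appLE V U₀ e ≫ i.app U₀ := by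
    rw [Scheme.Hom.app_eq_appLE, Scheme.Hom.appLE_comp_appLE]
  have hu : (π.comp φ).FormallyUnramified := by
    have h := HasRingHomProperty.appLE @FormallyUnramified (i ≫ f) inferInstance ⟨V, hV⟩
      ⟨i ⁻¹ᵁ U₀, hU₀.preimage i⟩ (fun x hx => e hx)
    rw [hcomp] at h
    exact h
  haveI : Algebra.FormallyUnramified A (B ⧸ I) := by
    letI : Algebra A Γ(Z, i ⁻¹ᵁ U₀) := (π.comp φ).toAlgebra
    haveI : Algebra.FormallyUnramified A Γ(Z, i ⁻¹ᵁ U₀) := hu
    let eq : (B ⧸ I) ≃ₐ[A] Γ(Z, i ⁻¹ᵁ U₀) :=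
      Ideal.quotientKerAlgEquivOfSurjective (f := (⟨π, fun _ => rfl⟩ : B →ₐ[A] Γ(Z, i ⁻¹ᵁ U₀))) hπ
    exact Algebra.FormallyUnramified.of_equiv eq.symm
  let x : U₀ := ⟨i.base z, hxU₀⟩
  have hmem : ∀ s : B, i.base z ∈ X.basicOpen s ↔ s ∉ (hU₀.primeIdealOf x).asIdeal := fun s => by
    have h1 : hU₀.primeIdealOf x ∈ hU₀.fromSpec ⁻¹ᵁ X.basicOpen s ↔ i.base z ∈ X.basicOpen s := by
      show hU₀.fromSpec.base (hU₀.primeIdealOf x) ∈ X.basicOpen s ↔ _
      rw [hU₀.fromSpec_primeIdealOf]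
    rw [← h1, hU₀.fromSpec_preimage_basicOpen]
    rfl
  have hIp : I ≤ (hU₀.primeIdealOf x).asIdeal := fun s hs => by
    by_contra h
    have h' : z ∈ i ⁻¹ᵁ X.basicOpen s := (hmem s).2 h
    rw [Scheme.preimage_basicOpen, show i.app U₀ s = 0 from hs, Scheme.basicOpen_zero] at h'
    exact h'
  obtain ⟨g, hg, J, hJ, hEt⟩ := Groth.Agent.EtSlice12.exists_slice (A := A) I _ hIp
  let U : X.Opens := X.basicOpen g
  have hUU₀ : U ≤ U₀ := X.basicOpen_le g
  let ιg : Spec (CommRingCat.of (Localization.Away g)) ⟶ X :=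
    Spec.map (CommRingCat.ofHom (algebraMap B (Localization.Away g))) ≫ hU₀.fromSpec
  haveI : IsOpenImmersion (Spec.map (CommRingCat.ofHom (algebraMap B (Localization.Away g)))) :=
    IsOpenImmersion.of_isLocalization g
  haveI : IsOpenImmersion ιg := inferInstanceAs (IsOpenImmersion (_ ≫ _))
  have hr : Set.range ιg = Set.range U.ι := by
    rw [Scheme.Opens.range_ι]
    simp only [ιg, Scheme.Hom.comp_base, TopCat.coe_comp, Set.range_comp]
    refine (congrArg (hU₀.fromSpec.base '' ·) (PrimeSpectrum.localization_away_comap_range (Localization.Away g) g)).trans ?_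
    exact congrArg (fun O : X.Opens => (O : Set X)) (hU₀.fromSpec_image_basicOpen g)
  let eU := IsOpenImmersion.isoOfRangeEq ιg U.ι hr
  have heU : eU.hom ≫ U.ι = ιg := IsOpenImmersion.isoOfRangeEq_hom_fac _ _ _
  let C := Localization.Away g ⧸ J
  let q : Spec (CommRingCat.of C) ⟶ Spec (CommRingCat.of (Localization.Away g)) :=
    Spec.map (CommRingCat.ofHom (Ideal.Quotient.mk J))
  haveI : IsClosedImmersion q := IsClosedImmersion.spec_of_surjective _ Ideal.Quotient.mk_surjective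
  let j : Spec (CommRingCat.of C) ⟶ (U : Scheme.{u}) := q ≫ eU.hom
  have hjU : j ≫ U.ι = q ≫ ιg := by rw [Category.assoc, heU]
  have hEtale : Etale (j ≫ U.ι ≫ f) := by
    have h1 : j ≫ U.ι ≫ f = Spec.map (CommRingCat.ofHom (algebraMap A C)) ≫ hV.fromSpec := by
      rw [← Category.assoc, hjU]
      simp only [q, ιg, Category.assoc]
      rw [← IsAffineOpen.SpecMap_appLE_fromSpec f hV hU₀ e, ← Spec.map_comp_assoc, ← Spec.map_comp_assoc]
      rfl
    rw [h1]
    haveI : Etale (Spec.map (CommRingCat.ofHom (algebraMap A C))) := by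
      rw [HasRingHomProperty.Spec_iff (P := @Etale)]
      exact RingHom.etale_algebraMap.2 hEt
    infer_instance
  have hUaff : IsAffineOpen U := hU₀.basicOpen g
  have hZU : IsAffineOpen (i ⁻¹ᵁ U) := hUaff.preimage i
  let ψ₀ : B →+* Γ(Z, i ⁻¹ᵁ U) := (i.appLE U₀ (i ⁻¹ᵁ U) (fun y hy => hUU₀ hy)).hom
  have hgu : IsUnit (ψ₀ g) := by
    have h2 := RingedSpace.isUnit_res_basicOpen _ (i.app U₀ g)
    have h3 : i ⁻¹ᵁ U = Z.basicOpen (i.app U₀ g) := Scheme.preimage_basicOpen i g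
    have h4 := h2.map (Z.presheaf.map (eqToHom h3).op).hom
    convert h4 using 1
    simp only [ψ₀, Scheme.Hom.appLE, CommRingCat.hom_comp, RingHom.comp_apply]
    exact DFunLike.congr_fun (congrArg CommRingCat.Hom.hom
      (Z.presheaf.map_comp (homOfLE (Z.basicOpen_le (i.app U₀ g))).op (eqToHom h3).op)) ((i.app U₀).hom g)
  let ψ₁ : Localization.Away g →+* Γ(Z, i ⁻¹ᵁ U) := IsLocalization.Away.lift g hgu
  have hJ0 : ∀ a ∈ J, ψ₁ a = 0 := fun a ha => by
    have : I.map (algebraMap B (Localization.Away g)) ≤ RingHom.ker ψ₁ := by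
      rw [Ideal.map_le_iff_le_comap]
      intro s hs
      rw [Ideal.mem_comap, RingHom.mem_ker, IsLocalization.Away.lift_eq]
      simp only [ψ₀, Scheme.Hom.appLE, CommRingCat.hom_comp, RingHom.comp_apply,
        show (i.app U₀).hom s = 0 from hs, map_zero]
    exact this (hJ ha)
  let ψ : C →+* Γ(Z, i ⁻¹ᵁ U) := Ideal.Quotient.lift J ψ₁ hJ0
  refine ⟨U, (hmem g).2 hg, Spec (CommRingCat.of C), j, inferInstanceAs (IsClosedImmersion (q ≫ eU.hom)), hEtale,
    (i ⁻¹ᵁ U).toSpecΓ ≫ Spec.map (CommRingCat.ofHom ψ), ?_⟩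
  rw [← cancel_mono U.ι, Category.assoc, Category.assoc, hjU, morphismRestrict_ι]
  simp only [q, ιg]
  rw [← Spec.map_comp_assoc, ← Spec.map_comp_assoc]
  have h5 : CommRingCat.ofHom (algebraMap B (Localization.Away g)) ≫ CommRingCat.ofHom (Ideal.Quotient.mk J) ≫
      CommRingCat.ofHom ψ = i.appLE U₀ (i ⁻¹ᵁ U) (fun y hy => hUU₀ hy) := by
    ext s
    exact IsLocalization.Away.lift_eq g hgu s
  rw [h5, IsAffineOpen.SpecMap_appLE_fromSpec i hU₀ hZU, ← Category.assoc, IsAffineOpen.toSpecΓ_fromSpec]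

end Groth.Agent.S15303
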