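import Groth.Statements.S15305
import Groth.Agent.CntQC88.LimMono
import Groth.Agent.QCoh.FiniteType

set_option autoImplicit false
universe u
open Coh

namespace Groth.Agent.S15305

open CategoryTheory CategoryTheory.Limits AlgebraicGeometry Opposite in
/-- Let X be a finite-type scheme over a field k, and let (F_n) be a tower of quasi-coherent O_X-modules
whose limit lim F_n receives an epimorphism from a countably quasi-coherent module G
(quasi-coherent, with countably generated sections over every affine open), resp. from a coherent G.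
Then lim F_n is itself countably quasi-coherent, resp. coherent. -/
theorem result (k : Type u) [Field k] (X : Scheme.{u})
    [X.Over (Spec (CommRingCat.of k))] [LocallyOfFiniteType (X ↘ Spec (CommRingCat.of k))] [CompactSpace X]
    (F : ℕᵒᵖ ⥤ X.Modules) (hF : ∀ n : ℕ, Coh.IsQCoh (F.obj (op n)))
    (G : X.Modules) (hG : Coh.IsQCoh G)
    (hGc : (∀ U : X.affineOpens, ∃ s : Set (G.val.obj (op (U : X.Opens))),
        s.Countable ∧ Submodule.span (X.ringCatSheaf.obj.obj (op (U : X.Opens))) s = ⊤))
    (φ : G ⟶ limit F) [Epi φ] :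
    Coh.IsQCoh (limit F) ∧
      (∀ U : X.affineOpens, ∃ s : Set ((limit F).val.obj (op (U : X.Opens))),
        s.Countable ∧ Submodule.span (X.ringCatSheaf.obj.obj (op (U : X.Opens))) s = ⊤) ∧
      (Coh.IsCoh G → Coh.IsCoh (limit F)) := by
  haveI : G.IsQuasicoherent := hG
  obtain ⟨N, hN⟩ := Groth.Agent.CntQC88.LimMono.exists_mono_π (X ↘ Spec (CommRingCat.of k)) F hF G hGc φ
  haveI := hN N le_rfl
  haveI : (F.obj (op N)).IsQuasicoherent := hF N
  haveI : (kernel φ).IsQuasicoherent := Groth.Agent.QCoh.isQuasicoherent_of_iso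
    (kernelCompMono φ (limit.π F (op N)))
  haveI hq : (limit F).IsQuasicoherent := by
    have h := Abelian.epiIsCokernelOfKernel (KernelFork.ofι (kernel.ι φ) (kernel.condition φ))
      (kernelIsKernel φ)
    haveI : (cokernel (kernel.ι φ)).IsQuasicoherent := inferInstance
    exact Groth.Agent.QCoh.isQuasicoherent_of_iso
      (show cokernel (kernel.ι φ) ≅ limit F from (cokernelIsCokernel (kernel.ι φ)).coconePointUniqueUpToIso h)
  have hsurj : ∀ U : X.affineOpens, Function.Surjective (φ.app (U : X.Opens)) := fun U =>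
    Groth.Agent.QCoh.app_surjective_of_epi φ U.2
  refine ⟨hq, Groth.Agent.CntQC88.LimMono.CG.of_surjective hGc φ hsurj, fun hc => ⟨hq, ?_⟩⟩
  haveI := hc.2
  refine (Groth.Agent.QCoh.isFiniteType_iff _).2 fun U hU => ?_
  haveI : Module.Finite Γ(X, U) Γ(G, U) := Groth.Agent.QCoh.finite_sections_of_isFiniteType G hU
  let L : Γ(G, U) →ₗ[Γ(X, U)] Γ(limit F, U) :=
    { toFun := φ.app U
      map_add' := map_add _
      map_smul' := fun a x => Scheme.Modules.Hom.app_smul φ a x }
  exact Module.Finite.of_surjective L (hsurj ⟨U, hU⟩)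

end Groth.Agent.S15305
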