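import Groth.Statements.S15306
import Groth.Agent.CntQC88.LimOne
import Groth.Agent.KFlat.StalkFlat

set_option autoImplicit false
universe u
open Coh

namespace Groth.Agent.S15306

open CategoryTheory CategoryTheory.Limits AlgebraicGeometry Opposite in
/-- Let X be a finite-type scheme over a field k, (F_n) a tower of countably quasi-coherent O_X-modules
(quasi-coherent, countably generated sections over affine opens), E a flat O_X-module (every stalk
flat), and α : (lim F_n) ⊗ E → lim (F_n ⊗ E) the natural comparison map. If lim F_n is countably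
quasi-coherent then α is a monomorphism; if moreover lim¹ F, the cokernel of (x_n) ↦ (x_n −
φ_n(x_{n+1})) on ∏ F_n, vanishes, then α is an isomorphism. (The published statement assumes for the
second assertion only that lim¹ F is countably quasi-coherent; this row assumes that lim¹ F
vanishes, which the weaker hypothesis implies at least over a countable field.) -/
theorem result (k : Type u) [Field k] (X : Scheme.{u})
    [X.Over (Spec (CommRingCat.of k))] [LocallyOfFiniteType (X ↘ Spec (CommRingCat.of k))] [CompactSpace X]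
    (F : ℕᵒᵖ ⥤ X.Modules) (hF : ∀ n : ℕ, Coh.IsQCoh (F.obj (op n)))
    (hFc : ∀ n : ℕ, (∀ U : X.affineOpens, ∃ s : Set ((F.obj (op n)).val.obj (op (U : X.Opens))),
          s.Countable ∧ Submodule.span (X.ringCatSheaf.obj.obj (op (U : X.Opens))) s = ⊤))
    (E : X.Modules) (hE : FlatMod.IsFlat E)
    (hL : Coh.IsQCoh (limit F)) (hLc : (∀ U : X.affineOpens, ∃ s : Set ((limit F).val.obj (op (U : X.Opens))),
        s.Countable ∧ Submodule.span (X.ringCatSheaf.obj.obj (op (U : X.Opens))) s = ⊤)) :
    Mono (limit.post F (LimSh.tensorRight E)) ∧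
      (IsZero (LimSh.limOneSh F) → IsIso (limit.post F (LimSh.tensorRight E))) := by
  haveI : ∀ n : ℕ, (F.obj (op n)).IsQuasicoherent := hF
  haveI : (limit F).IsQuasicoherent := hL
  haveI : (LimSh.tensorRight E).PreservesMonomorphisms := ⟨fun {M N} f hf =>
    @Functor.PreservesMonomorphisms.preserves _ _ _ _ _
      (Groth.Agent.KFlat.StalkTensor.tensorMono_of_flat hE) _ _ f hf⟩
  obtain ⟨N, hN⟩ := Groth.Agent.CntQC88.LimMono.exists_mono_π (X ↘ Spec (CommRingCat.of k)) F hF (limit F)
    hLc (𝟙 _)
  let T := LimSh.tensorRight E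
  have hmono : Mono (limit.post F T) := by
    haveI := hN N le_rfl
    haveI : Mono (limit.post F T ≫ limit.π (F ⋙ T) (op N)) := by
      rw [limit.post_π]
      exact T.map_mono _
    exact mono_of_mono (limit.post F T) (limit.π (F ⋙ T) (op N))
  refine ⟨hmono, fun hz => ?_⟩
  have hq : Coh.IsQCoh (LimSh.limOneSh F) ∧ ∀ U : X.affineOpens,
      ∃ s : Set ((LimSh.limOneSh F).val.obj (op (U : X.Opens))),
        s.Countable ∧ Submodule.span (X.ringCatSheaf.obj.obj (op (U : X.Opens))) s = ⊤ := by
    refine ⟨Groth.Agent.QCoh.isQuasicoherent_of_iso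
      ((isZero_cokernel_of_epi (𝟙 (F.obj (op 0)))).iso hz), fun U => ⟨∅, Set.countable_empty,
        eq_top_iff.2 fun y _ => ?_⟩⟩
    have hy : (𝟙 (LimSh.limOneSh F) : LimSh.limOneSh F ⟶ _).app (U : X.Opens) y = 0 := by
      rw [hz.eq_of_src (𝟙 (LimSh.limOneSh F)) 0]
      rfl
    have hy' : y = 0 := hy
    rw [hy']
    exact zero_mem _
  have hcomp : ∀ {a b c : ℕ} (h : a ≤ b) (h' : b ≤ c), imageSubobject (Groth.Agent.CntQC88.LimOne.tr F (h.trans h')) ≤
      imageSubobject (Groth.Agent.CntQC88.LimOne.tr F h) := fun {a b c} h h' => by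
    refine imageSubobject_le _ (Groth.Agent.CntQC88.LimOne.tr F h' ≫
      factorThruImageSubobject (Groth.Agent.CntQC88.LimOne.tr F h)) ?_
    rw [Category.assoc, imageSubobject_arrow_comp]
    exact (F.map_comp (homOfLE h').op (homOfLE h).op).symm
  -- transition maps factor through the limit far out
  have key : ∀ n, N ≤ n → ∃ (m : ℕ) (hm : n ≤ m) (q : F.obj (op m) ⟶ limit F),
      q ≫ limit.π F (op n) = F.map (homOfLE hm).op := by
    intro n hn
    haveI := hN n hn
    choose μ hμ hst using fun i => Groth.Agent.CntQC88.LimOne.ml_of_cg F (X ↘ Spec (CommRingCat.of k))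
      hFc hq.2 i
    have hcov : ∀ x : X, ∃ U : X.affineOpens, x ∈ (U : X.Opens) := fun x => by
      obtain ⟨_, ⟨U, hU, rfl⟩, hxU, -⟩ :=
        X.isBasis_affineOpens.exists_subset_of_mem_open (Set.mem_univ x) isOpen_univ
      exact ⟨⟨U, hU⟩, hxU⟩
    have hle : imageSubobject (F.map (homOfLE (hμ n)).op) ≤ imageSubobject (limit.π F (op n)) := by
      refine Groth.Agent.CntQC88.LimOne.le_of_range_subset (fun U : X.affineOpens => (U : X.Opens))
        (fun U => U.2) hcov _ _ fun U x => ?_
      -- lift the element step by step through the stable images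
      let ν : ℕ → ℕ := fun j => Nat.rec (μ n) (fun i p => max (μ (n + i + 1)) p) j
      have hν1 : ∀ j, μ (n + j) ≤ ν j := fun j => by
        cases j
        · exact le_rfl
        · exact le_max_left _ _
      have hge : ∀ j, n + j ≤ ν j := fun j => (hμ (n + j)).trans (hν1 j)
      have step : ∀ (j : ℕ) (a : Γ(F.obj (op (ν j)), (U : X.Opens))), ∃ b : Γ(F.obj (op (ν (j + 1))), (U : X.Opens)),
          (Groth.Agent.CntQC88.LimOne.tr F ((Nat.le_add_right _ 1).trans (hge (j + 1)))).app (U : X.Opens) b =
            (Groth.Agent.CntQC88.LimOne.tr F (hge j)).app (U : X.Opens) a := by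
        intro j a
        have hνs : ν j ≤ ν (j + 1) := le_max_right _ _
        have hin : imageSubobject (Groth.Agent.CntQC88.LimOne.tr F (hge j)) ≤
            imageSubobject (Groth.Agent.CntQC88.LimOne.tr F ((Nat.le_add_right _ 1).trans (hge (j + 1)))) := by
          refine le_trans ?_ ((hst (n + j) _ ((hν1 j).trans hνs)).ge)
          exact hcomp (hμ (n + j)) (hν1 j)
        exact Groth.Agent.CntQC88.LimOne.range_subset_of_le _ _ hin U.2 a
      choose nxt hnxt using step
      let a : ∀ j, Γ(F.obj (op (ν j)), (U : X.Opens)) := fun j => Nat.rec x (fun i p => nxt i p) j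
      obtain ⟨z, hz⟩ := Groth.Agent.CntQC88.LimMono.exists_limit_section F (U := (U : X.Opens))
        (fun i => (Groth.Agent.CntQC88.LimOne.tr F (Nat.le_add_left i n)).app _
          ((Groth.Agent.CntQC88.LimOne.tr F (hge i)).app _ (a i))) (fun i => by
          show (Groth.Agent.CntQC88.LimOne.tr F (Nat.le_succ i)).app _ _ = _
          rw [← hnxt i (a i)]
          simp only [Groth.Agent.CntQC88.LimOne.tr_tr]
          rfl)
      refine ⟨z, ?_⟩
      rw [hz n, ← show (Groth.Agent.CntQC88.LimOne.tr F (hge 0)).app (U : X.Opens) (a 0) =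
        (F.map (homOfLE (hμ n)).op).app (U : X.Opens) x from rfl]
      have : ∀ j, (Groth.Agent.CntQC88.LimOne.tr F ((Nat.le_add_right n j).trans (hge j))).app (U : X.Opens) (a j) =
          (Groth.Agent.CntQC88.LimOne.tr F (hge 0)).app (U : X.Opens) (a 0) := by
        intro j
        induction j with
        | zero => rfl
        | succ j ih =>
          rw [← ih, ← Groth.Agent.CntQC88.LimOne.tr_tr F (Nat.le_add_right n j)
            ((Nat.le_add_right _ 1).trans (hge (j + 1))) (a (j + 1))]
          show (Groth.Agent.CntQC88.LimOne.tr F _).app _ ((Groth.Agent.CntQC88.LimOne.tr F _).app _ (nxt j (a j))) = _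
          rw [hnxt, Groth.Agent.CntQC88.LimOne.tr_tr]
      rw [Groth.Agent.CntQC88.LimOne.tr_tr]
      exact this n
    let f := F.map (homOfLE (hμ n)).op
    refine ⟨μ n, hμ n, Abelian.monoLift (limit.π F (op n)) f ?_, Abelian.monoLift_comp _ _ _⟩
    have h0 : (imageSubobject (limit.π F (op n))).arrow ≫ cokernel.π (limit.π F (op n)) = 0 :=
      imageSubobject_arrow_comp_eq_zero (cokernel.condition _)
    rw [← imageSubobject_arrow_comp f, ← Subobject.ofLE_arrow hle]
    simp only [Category.assoc, h0, comp_zero]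
  obtain ⟨m₀, hm₀, p, hp⟩ := key N le_rfl
  haveI := hN N le_rfl
  have hfac : ∀ n : ℕ, ∃ (m : ℕ) (hm : m₀ ≤ m) (hnm : n ≤ m),
      F.map (homOfLE hm).op ≫ p ≫ limit.π F (op n) = F.map (homOfLE hnm).op := by
    intro n
    obtain ⟨m, hm, q, hq'⟩ := key (max n N) (le_max_right _ _)
    refine ⟨max m m₀, le_max_right _ _, (le_max_left n N).trans (hm.trans (le_max_left _ _)), ?_⟩
    have hqp : F.map (homOfLE (le_max_right m m₀)).op ≫ p = F.map (homOfLE (le_max_left m m₀)).op ≫ q := by
      rw [← cancel_mono (limit.π F (op N)), Category.assoc, Category.assoc, hp,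
        ← limit.w F (homOfLE (le_max_right n N)).op, reassoc_of% hq', ← F.map_comp, ← F.map_comp, ← F.map_comp]
      exact congrArg F.map (Subsingleton.elim _ _)
    rw [reassoc_of% hqp, ← limit.w F (homOfLE (le_max_left n N)).op, reassoc_of% hq', ← F.map_comp,
      ← F.map_comp]
    exact congrArg F.map (Subsingleton.elim _ _)
  refine ⟨limit.π (F ⋙ T) (op m₀) ≫ T.map p, ?_, ?_⟩
  · rw [← Category.assoc]
    show (limit.post F T ≫ limit.π (F ⋙ T) (op m₀)) ≫ T.map p = 𝟙 _
    rw [limit.post_π, ← T.map_comp, ← T.map_id]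
    congr 1
    rw [← cancel_mono (limit.π F (op N)), Category.assoc, hp, limit.w, Category.id_comp]
  · apply limit.hom_ext
    rintro ⟨n⟩
    obtain ⟨m, hm, hnm, h⟩ := hfac n
    rw [Category.id_comp, Category.assoc, Category.assoc]
    show limit.π (F ⋙ T) (op m₀) ≫ T.map p ≫ limit.post F T ≫ limit.π (F ⋙ T) (op n) = _
    rw [limit.post_π, ← limit.w (F ⋙ T) (homOfLE hm).op, Category.assoc, Functor.comp_map, ← T.map_comp,
      ← T.map_comp, h]
    exact limit.w (F ⋙ T) (homOfLE hnm).op

end Groth.Agent.S15306
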