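import Groth.Statements.S15307
import Groth.Agent.LimTower.Milnor
import Groth.Agent.LimTower.InjTower

set_option autoImplicit false
universe u
open HomAlg3

namespace Groth.Agent.S15307

open CategoryTheory CategoryTheory.Limits Opposite in
/-- For abelian groups, for an inverse system (A_n) of abelian groups indexed by the natural numbers,
the right derived functors lim^(i) A_n of the inverse limit vanish for every i ≥ 2. (The two
instance hypotheses, enough injectives in the category of towers of abelian groups and additivity of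
the limit functor, always hold. The published statement is made in an axiomatic setting that also
covers quasi-coherent sheaves; this row is the case of abelian groups.) -/
theorem result
    [EnoughInjectives (ℕᵒᵖ ⥤ AddCommGrpCat.{u})]
    [(lim : (ℕᵒᵖ ⥤ AddCommGrpCat.{u}) ⥤ AddCommGrpCat.{u}).Additive]
    (A : ℕᵒᵖ ⥤ AddCommGrpCat.{u}) (i : ℕ) (hi : 2 ≤ i) :
    IsZero (((lim : (ℕᵒᵖ ⥤ AddCommGrpCat.{u}) ⥤ AddCommGrpCat.{u}).rightDerived i).obj A) := by
  obtain ⟨j, rfl⟩ : ∃ j, i = j + 2 := ⟨i - 2, by omega⟩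
  let R := injectiveResolution A
  let L : (ℕᵒᵖ ⥤ AddCommGrpCat.{u}) ⥤ AddCommGrpCat.{u} := lim
  refine IsZero.of_iso ?_ (R.isoRightDerivedObj L (j + 2))
  rw [HomologicalComplex.homologyFunctor_obj, ← HomologicalComplex.exactAt_iff_isZero_homology,
    HomologicalComplex.exactAt_iff' _ (j + 1) (j + 2) (j + 3) (by simp) (by simp),
    ShortComplex.ab_exact_iff]
  intro (x : (limit (R.cocomplex.X (j + 2)) : AddCommGrpCat.{u})) hx
  -- components
  let K := R.cocomplex
  have hπ : ∀ (p q : ℕ) (n : ℕᵒᵖ) (z : (limit (K.X p) : AddCommGrpCat.{u})),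
      (limit.π (K.X q) n).hom ((limMap (K.d p q)).hom z) =
        ((K.d p q).app n).hom ((limit.π (K.X p) n).hom z) := fun p q n z =>
    ConcreteCategory.congr_hom (limMap_π (K.d p q) n) z
  have hex : ∀ (p : ℕ) (n : ℕᵒᵖ) (z : (K.X (p + 1)).obj n),
      ((K.d (p + 1) (p + 2)).app n).hom z = 0 → ∃ y, ((K.d p (p + 1)).app n).hom y = z := by
    intro p n z hz
    have h := R.cocomplex_exactAt_succ p
    rw [HomologicalComplex.exactAt_iff' _ p (p + 1) (p + 2) (by simp) (by simp)] at h
    exact (ShortComplex.ab_exact_iff _).1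
      (h.map ((evaluation ℕᵒᵖ AddCommGrpCat.{u}).obj n)) z hz
  have hnat : ∀ (p q : ℕ) (n : ℕ) (z : (K.X p).obj (op (n + 1))),
      ((K.X q).map (homOfLE (Nat.le_succ n)).op).hom (((K.d p q).app (op (n + 1))).hom z) =
        ((K.d p q).app (op n)).hom (((K.X p).map (homOfLE (Nat.le_succ n)).op).hom z) :=
    fun p q n z => (ConcreteCategory.congr_hom
      ((K.d p q).naturality (homOfLE (Nat.le_succ n)).op) z).symm
  have hxn : ∀ n : ℕ, ((K.d (j + 2) (j + 3)).app (op n)).hom ((limit.π (K.X (j + 2)) (op n)).hom x) = 0 := by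
    intro n
    rw [← hπ]
    exact (congrArg (limit.π (K.X (j + 3)) (op n)).hom hx).trans (map_zero _)
  choose y hy using fun n : ℕ => hex (j + 1) (op n) _ (hxn n)
  have hc : ∀ n : ℕ, ((K.d (j + 1) (j + 2)).app (op n)).hom
      (y n - ((K.X (j + 1)).map (homOfLE (Nat.le_succ n)).op).hom (y (n + 1))) = 0 := by
    intro n
    rw [map_sub, ← hnat, hy, hy, sub_eq_zero]
    exact (Groth.Agent.LimTower.Basic.limit_app_compat (K.X (j + 2)) x (op (n + 1)) (op n) _).symm
  choose w hw using fun n : ℕ => hex j (op n) _ (hc n)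
  have hsurj : ∀ n : ℕ, Function.Surjective ((K.X j).map (homOfLE (Nat.le_succ n)).op).hom := by
    intro n
    have := Groth.Agent.LimTower.InjTower.isSplitEpi_map (K.X j) n
    exact (AddCommGrpCat.epi_iff_surjective _).1 inferInstance
  obtain ⟨v, hv⟩ := Groth.Agent.LimTower.Milnor.towerDiff_surjective (fun n => (K.X j).obj (op n))
    (fun n => ((K.X j).map (homOfLE (Nat.le_succ n)).op).hom) hsurj w
  let y' : ∀ n : ℕ, (K.X (j + 1)).obj (op n) := fun n =>
    y n - ((K.d j (j + 1)).app (op n)).hom (v n)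
  have hy' : ∀ n : ℕ, ((K.X (j + 1)).map (homOfLE (Nat.le_succ n)).op).hom (y' (n + 1)) = y' n := by
    intro n
    have hvn : v n - ((K.X j).map (homOfLE (Nat.le_succ n)).op).hom (v (n + 1)) = w n := congrFun hv n
    have h := hw n
    rw [← hvn, map_sub] at h
    simp only [y', map_sub, hnat]
    rw [sub_eq_sub_iff_sub_eq_sub] at h
    exact (neg_sub _ _).symm.trans ((congrArg Neg.neg h.symm).trans (neg_sub _ _))
  obtain ⟨Y, hY⟩ := Groth.Agent.LimTower.Basic.exists_limit_eq (K.X (j + 1))
    (limit.isLimit (K.X (j + 1))) (fun n => y' n.unop)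
    (Groth.Agent.LimTower.Milnor.compat_of_succ (K.X (j + 1)) y' hy')
  refine ⟨Y, Concrete.limit_ext (K.X (j + 2)) _ _ fun n => ?_⟩
  refine (hπ (j + 1) (j + 2) n Y).trans ((congrArg _ (hY n)).trans ?_)
  show ((K.d (j + 1) (j + 2)).app (op n.unop)).hom (y n.unop - _) = _
  rw [map_sub, hy]
  refine sub_eq_self.2 ?_
  exact ConcreteCategory.congr_hom (congr_app (K.d_comp_d j (j + 1) (j + 2)) (op n.unop)) (v n.unop)

end Groth.Agent.S15307
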