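import Groth.Statements.S15311
import Groth.Agent.HdRVan.Affine
import Groth.Agent.HdRVan.Poincare

set_option autoImplicit false
set_option backward.isDefEq.respectTransparency.types false
attribute [-instance] CategoryTheory.catToReflQuiver
universe u
open DeRhamSh

namespace Groth.Agent.S15311

open CategoryTheory CategoryTheory.Limits AlgebraicGeometry TopologicalSpace in
/-- Hypercohomology of a de Rham complex of an affine scheme vanishes in negative degrees. -/
theorem subsingleton_of_neg {R A : Type u} [CommRing R] [CommRing A] [Algebra R A]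
    (D : DeRhamSh.OmegaCx (Groth.Agent.Omega.SpecDer.π R A))
    [HasDerivedCategory.{u} (Sheaf (Opens.grothendieckTopology ↥(Spec (CommRingCat.of A))) AddCommGrpCat.{u})]
    (i : ℤ) (hi : i < 0) : Subsingleton (DeRhamSh.HdR D i) := by
  let X := Spec (CommRingCat.of A)
  let J := Opens.grothendieckTopology X
  have hneg : ∀ j : ℤ, j < 0 → IsZero (D.KZ.X j) := fun j hj =>
    D.K.isZero_extend_X ComplexShape.embeddingUpNat j fun p hp => by
      simp only [ComplexShape.embeddingUpNat_f] at hp
      omega
  refine subsingleton_of_forall_eq 0 fun x => ?_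
  haveI : D.KZ.IsStrictlyGE 0 := (CochainComplex.isStrictlyGE_iff _ _).2 hneg
  haveI : (DerivedCategory.Q.obj D.KZ).IsGE 0 := inferInstance
  exact DerivedCategory.TStructure.t.zero_of_isLE_of_isGE x 0 (-i) (by omega) inferInstance
    (DerivedCategory.TStructure.t.isGE_shift (DerivedCategory.Q.obj D.KZ) 0 i (-i) (by omega))

open CategoryTheory AlgebraicGeometry TopologicalSpace in
/-- Let k be a field of characteristic zero and n ≥ 0. Then the algebraic de Rham cohomology of affine
n-space Spec k[x_1, …, x_n] over k, the hypercohomology of its de Rham complex, vanishes in every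
degree i ≠ 0, and in degree 0 it is additively isomorphic to k (existence of an additive
isomorphism; the identification of H^0 with the constants is canonical). (The published computation
also gives the de Rham homology of affine space; this row is the cohomology statement, for any de
Rham complex of affine n-space over k.) -/
theorem result (k : Type u) [Field k] [CharZero k] (n : ℕ)
    [QuasiSeparated (Spec.map (CommRingCat.ofHom (algebraMap k (MvPolynomial (Fin n) k))))]
    (D : DeRhamSh.OmegaCx (Spec.map (CommRingCat.ofHom (algebraMap k (MvPolynomial (Fin n) k)))))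
    [HasDerivedCategory.{u} (Sheaf (Opens.grothendieckTopology ↥(Spec (CommRingCat.of (MvPolynomial (Fin n) k)))) AddCommGrpCat.{u})] :
    (∀ i : ℤ, i ≠ 0 → Subsingleton (DeRhamSh.HdR D i)) ∧ Nonempty (DeRhamSh.HdR D 0 ≃+ k) := by
  obtain ⟨d, hd⟩ := Groth.Agent.HdRVan.Poincare.exists_isDiff k (MvPolynomial (Fin n) k)
  obtain ⟨h₁, h₀⟩ := Groth.Agent.HdRVan.Poincare.mvPolynomial k n d hd
  refine ⟨fun i hi => ?_, ?_⟩
  · rcases lt_or_gt_of_ne hi with hlt | hgt
    · exact subsingleton_of_neg D i hlt
    · obtain ⟨m, rfl⟩ : ∃ m : ℕ, i = (m : ℤ) := ⟨i.toNat, by omega⟩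
      obtain ⟨Ψ, hΨ, hΨ'⟩ := Groth.Agent.HdRVan.Affine.exists_cocyclesHom D hd m
      refine subsingleton_of_forall_eq 0 fun y => ?_
      obtain ⟨z, rfl⟩ := hΨ y
      exact (hΨ' z).2 (h₁ m (by omega) z.2)
  · obtain ⟨Ψ, hΨ, hΨ'⟩ := Groth.Agent.HdRVan.Affine.exists_cocyclesHom D hd 0
    let e := exteriorPower.zeroEquiv (MvPolynomial (Fin n) k) (Ω[MvPolynomial (Fin n) k⁄k])
    have hc : ∀ c : k, e.symm (algebraMap k _ c) ∈ DeRham.cocycles d 0 := fun c => by
      show d 0 _ = 0
      have h : e.symm (algebraMap k _ c) = DeRham.gen (KaehlerDifferential.D k _) 0 (algebraMap k _ c) ![] :=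
        e.injective (by rw [e.apply_symm_apply, DeRham.gen, map_smul, exteriorPower.zeroEquiv_ιMulti, smul_eq_mul, mul_one])
      rw [h, hd.1, Derivation.map_algebraMap]
      exact (exteriorPower.ιMulti _ 1).map_coord_zero (0 : Fin 1) rfl
    let F : k →+ DeRhamSh.HdR D 0 := Ψ.comp (AddMonoidHom.mk' (fun c => ⟨_, hc c⟩)
      (fun a b => Subtype.ext (by simp [map_add])))
    refine ⟨(AddEquiv.ofBijective F ⟨(injective_iff_map_eq_zero F).2 fun c hc0 => ?_, fun y => ?_⟩).symm⟩
    · have h := (Submodule.mem_bot k).1 ((hΨ' _).1 hc0)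
      have h2 := congrArg e h
      rw [map_zero] at h2
      exact (algebraMap k (MvPolynomial (Fin n) k)).injective (by simpa [e] using h2)
    · obtain ⟨z, rfl⟩ := hΨ y
      obtain ⟨c, hc'⟩ := h₀ z.1 z.2
      exact ⟨c, congrArg Ψ (Subtype.ext (e.injective ((e.apply_symm_apply _).trans hc'.symm)))⟩

end Groth.Agent.S15311
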