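import Groth.Statements.S15315
import Mathlib

set_option autoImplicit false
universe u
open ArLef

namespace Groth.Agent.S15315

/-- For a Noetherian commutative ring A, elements a, b with a a non-zero-divisor on A/(b), and an ideal
I, one has length(A/(aI + bA)) = length(A/(a, b)) + length(A/(I + bA)) as extended natural numbers;
in particular when two of the three quotients have finite length so does the third. -/
theorem result (A : Type u) [CommRing A] [IsNoetherianRing A] (a b : A) (I : Ideal A)
    (ha : IsSMulRegular (A ⧸ Ideal.span ({b} : Set A)) a) :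
    Module.length A (A ⧸ (Ideal.span {a} * I ⊔ Ideal.span {b})) =
      Module.length A (A ⧸ Ideal.span ({a, b} : Set A)) + Module.length A (A ⧸ (I ⊔ Ideal.span {b})) := by
  let J : Ideal A := I ⊔ Ideal.span {b}
  let K : Ideal A := Ideal.span {a} * I ⊔ Ideal.span {b}
  let L : Ideal A := Ideal.span {a, b}
  have hKL : K ≤ L := by
    refine sup_le (le_trans Ideal.mul_le_left ?_) ?_ <;> refine Ideal.span_le.2 (Set.singleton_subset_iff.2 (Ideal.subset_span ?_))
    · exact Set.mem_insert _ _
    · exact Set.mem_insert_of_mem _ rfl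
  have hmul : J ≤ Submodule.comap (LinearMap.mulLeft A a) K := by
    refine sup_le (fun x hx => ?_) (fun x hx => ?_)
    · exact Ideal.mem_sup_left (Ideal.mul_mem_mul (Ideal.mem_span_singleton_self a) hx)
    · exact Ideal.mem_sup_right (Ideal.mul_mem_left _ a hx)
  let f : (A ⧸ J) →ₗ[A] (A ⧸ K) := Submodule.mapQ J K (LinearMap.mulLeft A a) hmul
  let g : (A ⧸ K) →ₗ[A] (A ⧸ L) := Submodule.factor hKL
  have hf : Function.Injective f := by
    rw [← LinearMap.ker_eq_bot, eq_bot_iff]
    intro x hx
    obtain ⟨x, rfl⟩ := Submodule.Quotient.mk_surjective J x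
    rw [LinearMap.mem_ker, Submodule.mapQ_apply, Submodule.Quotient.mk_eq_zero] at hx
    obtain ⟨p, hp, q, hq, hpq⟩ := Submodule.mem_sup.1 hx
    obtain ⟨z, hz, rfl⟩ := Ideal.mem_span_singleton_mul.1 hp
    have h2 : a • (Ideal.Quotient.mk (Ideal.span {b}) (x - z)) = a • (0 : A ⧸ Ideal.span {b}) := by
      rw [smul_zero]
      change Submodule.Quotient.mk (a • (x - z)) = (0 : A ⧸ Ideal.span {b})
      rw [Submodule.Quotient.mk_eq_zero]
      have : a • (x - z) = q := by
        simp only [smul_eq_mul, LinearMap.mulLeft_apply] at hpq ⊢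
        linear_combination -hpq
      rw [this]
      exact hq
    rw [Submodule.mem_bot, Submodule.Quotient.mk_eq_zero]
    refine Submodule.mem_sup.2 ⟨z, hz, x - z, Ideal.Quotient.eq_zero_iff_mem.1 (ha h2), ?_⟩
    ring
  have hg : Function.Surjective g := Submodule.factor_surjective hKL
  have hex : Function.Exact f g := by
    intro y
    obtain ⟨y, rfl⟩ := Submodule.Quotient.mk_surjective K y
    constructor
    · intro h
      change Submodule.Quotient.mk y = (0 : A ⧸ L) at h
      rw [Submodule.Quotient.mk_eq_zero] at h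
      obtain ⟨p, q, hpq⟩ := Ideal.mem_span_pair.1 h
      refine ⟨Submodule.Quotient.mk p, ?_⟩
      rw [Submodule.mapQ_apply, Submodule.Quotient.eq]
      refine Ideal.mem_sup_right (Ideal.mem_span_singleton'.2 ⟨-q, ?_⟩)
      simp only [LinearMap.mulLeft_apply]
      linear_combination -hpq
    · rintro ⟨x, hx⟩
      obtain ⟨x, rfl⟩ := Submodule.Quotient.mk_surjective J x
      rw [← hx]
      change Submodule.Quotient.mk (a * x) = (0 : A ⧸ L)
      rw [Submodule.Quotient.mk_eq_zero]
      exact Ideal.mul_mem_right _ _ (Ideal.subset_span (by simp))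
  rw [Module.length_eq_add_of_exact f g hf hg hex, add_comm]

end Groth.Agent.S15315
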