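import Groth.Statements.S15322
import Mathlib

set_option autoImplicit false
universe u
open CategoryTheory AlgebraicGeometry
open ArLef

namespace Groth.Agent.S15322

open CategoryTheory.Limits in
/-- Two morphisms from a connected scheme to a separated étale scheme agreeing at one point are equal. -/
theorem eq_of_eq_at_point {X Y S : Scheme.{u}} (x : X ⟶ S) [Etale x] [IsSeparated x] [ConnectedSpace Y]
    (a b : Y ⟶ X) (h : a ≫ x = b ≫ x) (y : Y)
    (hy : Y.fromSpecResidueField y ≫ a = Y.fromSpecResidueField y ≫ b) : a = b := by
  let l : Y ⟶ pullback x x := pullback.lift a b h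
  let ι : pullback (pullback.diagonal x) l ⟶ Y := pullback.snd _ _
  let m : Spec (Y.residueField y) ⟶ pullback (pullback.diagonal x) l :=
    pullback.lift (Y.fromSpecResidueField y ≫ a) (Y.fromSpecResidueField y) (by
      apply pullback.hom_ext
      · simp only [l, Category.assoc, pullback.diagonal_fst, Category.comp_id]
        erw [pullback.lift_fst]
      · simp only [l, Category.assoc, pullback.diagonal_snd, Category.comp_id]
        erw [pullback.lift_snd]
        exact hy)
  haveI : Surjective ι := by
    have hne : (Set.range ι).Nonempty := ⟨_, m (IsLocalRing.closedPoint _), rfl⟩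
    have hu := IsClopen.eq_univ ⟨ι.isClosedEmbedding.isClosed_range, ι.isOpenEmbedding.isOpen_range⟩ hne
    exact ⟨Set.range_eq_univ.1 hu⟩
  haveI : Epi ι.base := (TopCat.epi_iff_surjective _).2 ι.surjective
  haveI : IsIso ι := IsOpenImmersion.isIso ι
  have h1 : ι ≫ a = pullback.fst (pullback.diagonal x) l := by
    have h0 := congrArg (· ≫ pullback.fst x x) (pullback.condition (f := pullback.diagonal x) (g := l))
    simp only [Category.assoc, pullback.diagonal_fst, Category.comp_id] at h0
    exact ((congrArg (ι ≫ ·) (pullback.lift_fst a b h)).symm.trans h0.symm)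
  have h2 : ι ≫ b = pullback.fst (pullback.diagonal x) l := by
    have h0 := congrArg (· ≫ pullback.snd x x) (pullback.condition (f := pullback.diagonal x) (g := l))
    simp only [Category.assoc, pullback.diagonal_snd, Category.comp_id] at h0
    exact ((congrArg (ι ≫ ·) (pullback.lift_snd a b h)).symm.trans h0.symm)
  exact (cancel_epi ι).1 (h1.trans h2.symm)


/-- Let f : D → C be a morphism, τ an automorphism of C and σ an automorphism of D with σ f = f τ; call
σ a good lifting of τ when the fixed-point scheme of σ is the full preimage of that of τ, i.e. every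
morphism z : Z → D with z f τ = z f has z σ = z. If f is etale, separated and surjective with D
connected and the fixed-point scheme of τ is non-empty (some point of C, with its residue field, is
fixed by τ), then τ has at most one good lifting. (The published statement is for a finite etale
cover of smooth projective irreducible curves over a field and a non-trivial τ; the argument uses
only the hypotheses stated here.) -/
theorem result {C D : Scheme.{u}} (f : D ⟶ C) [Etale f] [IsSeparated f] [Surjective f]
    [ConnectedSpace D] (τ : C ≅ C) (σ σ' : D ≅ D)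
    (hσ : σ.hom ≫ f = f ≫ τ.hom) (hσ' : σ'.hom ≫ f = f ≫ τ.hom)
    (good : ∀ (Z : Scheme.{u}) (z : Z ⟶ D), z ≫ f ≫ τ.hom = z ≫ f → z ≫ σ.hom = z)
    (good' : ∀ (Z : Scheme.{u}) (z : Z ⟶ D), z ≫ f ≫ τ.hom = z ≫ f → z ≫ σ'.hom = z)
    (x : C) (hx : C.fromSpecResidueField x ≫ τ.hom = C.fromSpecResidueField x) :
    σ = σ' := by
  obtain ⟨y, rfl⟩ := f.surjective x
  have hz : D.fromSpecResidueField y ≫ f ≫ τ.hom = D.fromSpecResidueField y ≫ f := by
    rw [← Category.assoc, ← Scheme.Hom.SpecMap_residueFieldMap_fromSpecResidueField, Category.assoc, hx]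
  refine Iso.ext (eq_of_eq_at_point f σ.hom σ'.hom (hσ.trans hσ'.symm) y ?_)
  rw [good _ _ hz, good' _ _ hz]

end Groth.Agent.S15322
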