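import Groth.Statements.S15326
import Mathlib

set_option autoImplicit false
universe u
open ArLef

namespace Groth.Agent.S15326

/-- Let A be a commutative ring, t an element generating a prime ideal (a local equation of an
irreducible component C of the closed fibre), v an element outside (t) with π = vt the uniformizer,
and σ a ring automorphism of A with σ(vt) = vt whose fixed-point ideal is contained in (t^i) for
some i ≥ 1 (C has multiplicity at least i in the fixed locus). Then σ(t) - t lies in t^(i+1) A_(t),
the localization at the prime (t): σ - 1 vanishes on (t)/(t^(i+1)) at the generic point of C. -/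
theorem result (A : Type u) [CommRing A] (t v : A)
    [ht : (Ideal.span ({t} : Set A)).IsPrime] (hv : v ∉ Ideal.span ({t} : Set A))
    (σ : A ≃+* A) (hσ : σ (v * t) = v * t) (i : ℕ) (hi : 1 ≤ i)
    (hI : ArLef.fixIdeal σ ≤ Ideal.span ({t ^ i} : Set A)) :
    algebraMap A (Localization.AtPrime (Ideal.span ({t} : Set A))) (σ t - t) ∈
      Ideal.span ({algebraMap A (Localization.AtPrime (Ideal.span ({t} : Set A))) (t ^ (i + 1))} :
        Set (Localization.AtPrime (Ideal.span ({t} : Set A)))) := by
  set P : Ideal A := Ideal.span {t}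
  set L := Localization.AtPrime P
  have h1 : σ t - t ∈ Ideal.span ({t ^ i} : Set A) := hI (Ideal.subset_span ⟨t, rfl⟩)
  have h2 : σ v - v ∈ Ideal.span ({t ^ i} : Set A) := hI (Ideal.subset_span ⟨v, rfl⟩)
  obtain ⟨c, hc⟩ := Ideal.mem_span_singleton'.1 h1
  obtain ⟨e, he⟩ := Ideal.mem_span_singleton'.1 h2
  have hσv : σ v ∉ P := by
    intro hmem
    have h3 : σ v - v ∈ P := by
      rw [← he]
      exact P.mul_mem_left _ (P.pow_mem_of_mem (Ideal.mem_span_singleton_self t) i hi)
    exact hv (by simpa using P.sub_mem hmem h3)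
  have key : σ v * (σ t - t) = t ^ (i + 1) * (-e) := by
    rw [map_mul] at hσ
    linear_combination hσ + t * he
  obtain ⟨w, hw⟩ := (IsLocalization.map_units L (⟨σ v, hσv⟩ : P.primeCompl))
  refine Ideal.mem_span_singleton'.2 ⟨(↑w⁻¹ : L) * algebraMap A L (-e), ?_⟩
  have h4 := congrArg (algebraMap A L) key
  rw [map_mul, map_mul, show algebraMap A L (σ v) = (w : L) from hw.symm] at h4
  rw [mul_assoc, mul_comm (algebraMap A L (-e)), ← h4, ← mul_assoc, Units.inv_mul, one_mul]

end Groth.Agent.S15326
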