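import Groth.Statements.S15329
import Mathlib

set_option autoImplicit false
open TensorProduct LaurentPolynomial
universe u v
open CAlg

namespace Groth.Agent.S15329

/-- Let k be a field, E a k-vector space and F an increasing ℤ-indexed filtration of E by subspaces. In
E[T, T⁻¹] = k[T, T⁻¹] ⊗ E the Rees module of (E, F) is the k-span of the elements T^n ⊗ v with v ∈ F
n; it is the module of global sections of the equivariant bundle on the affine line attached to (E,
F), and E[T, T⁻¹] that of its sections away from the origin. For a linear form α on E and an integer
p, the k[T, T⁻¹]-linear form m ↦ T^p · (id ⊗ α)(m) is the invariant section α of the dual bundle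
away from the origin multiplied by T^p, and it extends over the origin exactly when it maps the Rees
module into the polynomial subring k[T]. This happens if and only if α vanishes on F(−p − 1); so the
dual equivariant bundle corresponds to the dual space filtered by the annihilators of the F(−p − 1).
(The published statement has the annihilator of F(−p + 1), over the complex numbers; for E = k with
F n = 0 for n < 0 and F n = E for n ≥ 0 the form with p = 0 and α ≠ 0 maps the Rees module into k[T]
although α does not vanish on F(1) = E, and the published argument gives the index −p − 1, which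
this row states, over any field.) -/
theorem result
    (k : Type u) [Field k] (E : Type v) [AddCommGroup E] [Module k E]
    (F : ℤ → Submodule k E) (hF : Monotone F)
    (α : Module.Dual k E) (p : ℤ) :
    (∀ m ∈ Submodule.span k {x : k[T;T⁻¹] ⊗[k] E | ∃ (n : ℤ) (v : E), v ∈ F n ∧ x = T n ⊗ₜ[k] v},
      T p * (TensorProduct.AlgebraTensorModule.rid k k[T;T⁻¹] k[T;T⁻¹]) (LinearMap.baseChange k[T;T⁻¹] α m)
        ∈ (Polynomial.toLaurent : Polynomial k →+* k[T;T⁻¹]).range) ↔
    ∀ v ∈ F (-p - 1), α v = 0 := by
  classical
  constructor
  · intro h v hv
    have h1 := h _ (Submodule.subset_span ⟨-p - 1, v, hv, rfl⟩)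
    simp only [LinearMap.baseChange_tmul, TensorProduct.AlgebraTensorModule.rid_tmul] at h1
    rw [Algebra.smul_def, LaurentPolynomial.algebraMap_apply, mul_left_comm, ← T_add,
      show p + (-p - 1) = (-1 : ℤ) by ring] at h1
    obtain ⟨q, hq⟩ := h1
    have h2 : Polynomial.toLaurent (q * Polynomial.X) = Polynomial.toLaurent (Polynomial.C (α v)) := by
      rw [map_mul, hq, Polynomial.toLaurent_X, mul_assoc, ← T_add, Polynomial.toLaurent_C]
      simp
    have h3 := congrArg (fun r => r.coeff 0) (Polynomial.toLaurent_injective h2)
    simpa using h3.symm
  · intro h m hm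
    induction hm using Submodule.span_induction with
    | mem x hx =>
      obtain ⟨n, v, hv, rfl⟩ := hx
      simp only [LinearMap.baseChange_tmul, TensorProduct.AlgebraTensorModule.rid_tmul]
      rw [Algebra.smul_def, LaurentPolynomial.algebraMap_apply, mul_left_comm, ← T_add]
      by_cases hpn : 0 ≤ p + n
      · obtain ⟨l, hl⟩ := Int.eq_ofNat_of_zero_le hpn
        exact ⟨Polynomial.C (α v) * Polynomial.X ^ l, by simp [hl]⟩
      · rw [h v (hF (by omega) hv)]
        exact ⟨0, by simp⟩
    | zero => exact ⟨0, by simp⟩
    | add x y _ _ hx hy => rw [map_add, map_add, mul_add]; exact add_mem hx hy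
    | smul a x _ hx =>
      rw [LinearMap.map_smul_of_tower, LinearMapClass.map_smul_of_tower, mul_smul_comm, Algebra.smul_def]
      exact mul_mem ⟨Polynomial.C a, by simp [LaurentPolynomial.algebraMap_apply]⟩ hx

end Groth.Agent.S15329
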