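import Groth.Statements.S15330
import Groth.Agent.VBHom27.Higgs
import Groth.Agent.VBLib.Deg
import Groth.Agent.S15328

set_option autoImplicit false
open CategoryTheory AlgebraicGeometry CategoryTheory.Limits
open VBCurve
open Groth.Agent Groth.Agent.VBLib

namespace Groth.Agent.S15330

theorem inv_of {X : Scheme.{0}} {T : X.Modules ⥤ X.Modules} [T.IsEquivalence] {A B E : X.Modules} {ι : B ⟶ E}
    [Mono ι] {ι' : A ⟶ E} (a : A ⟶ B) (ha : a ≫ ι = ι') (ψA : A ⟶ T.obj A) (ψB : B ⟶ T.obj B)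
    (φ : E ⟶ T.obj E) (hA : ψA ≫ T.map ι' = ι' ≫ φ) (hB : ψB ≫ T.map ι = ι ≫ φ) :
    ψA ≫ T.map a = a ≫ ψB := by
  rw [← cancel_mono (T.map ι), Category.assoc, ← T.map_comp, ha, Category.assoc, hA, hB, ← Category.assoc, ha]

/-- Let X be a smooth proper integral curve over the complex numbers, L an invertible module on X, and
(E, φ_E), (F, φ_F) two L-valued Higgs bundles on X of the same rank r ≥ 1 and the same degree d
(degree = χ − rank · χ(O)), each semistable: deg G · r ≤ d · s for every finite locally free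
submodule G of rank s ≥ 1 to which the Higgs field restricts. Let E_0 ⊂ E_1 ⊂ … ⊂ E_n = E with E_0 =
0 and F = F_0 ⊃ F_1 ⊃ … ⊃ F_n = 0 be chains of finite locally free submodules to which the Higgs
fields restrict, of ranks with rk E_i + rk F_i = r, which are opposite: E_{i+1}/E_i ≅ F_i/F_{i+1} as
O-modules for i < n. Then every E_i of positive rank and every F_i of positive rank has slope d/r,
that is deg · r = d · rank, and is semistable for its restricted Higgs field; and each graded piece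
E_{i+1}/E_i of positive rank is finite locally free of rank rk E_{i+1} − rk E_i, of slope d/r, and
semistable for every Higgs field on it compatible with that of E_{i+1} along the projection. (The
published statement indexes the second chain so that F_i/F_{i+1} matches E_i/E_{i−1} and takes the
isomorphisms of graded pieces as Higgs bundles; here they are assumed as O-modules only, together
with the rank bookkeeping rk E_i + rk F_i = r that they imply.) -/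
theorem result
    (X : Scheme.{0}) [X.Over (Spec (CommRingCat.of ℂ))] [IsIntegral X]
    [IsProper (X ↘ Spec (CommRingCat.of ℂ))] [Smooth (X ↘ Spec (CommRingCat.of ℂ))]
    (hdim : topologicalKrullDim X = 1)
    (L : X.Modules) (hL : PicF.IsInvertible L) (r : ℕ) (hr : 0 < r) (d : ℤ)
    (E : X.Modules) (hE : FlatMod.IsFinLocFreeOfRank r E) (φE : E ⟶ CohB1.tensorMod E L)
    (hEd : Curv2.deg ℂ X E r = d)
    (hEss : (∀ (G : X.Modules) (s : ℕ) (j : G ⟶ E) (χ : G ⟶ CohB1.tensorMod G L), Mono j → 0 < s →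
        FlatMod.IsFinLocFreeOfRank s G →
        χ ≫ (CohB1.sheafifyMod X).map (MonoidalCategoryStruct.whiskerRight (C := CohB1.PMod X) j.val (CohB1.toPMod L)) = j ≫ φE →
        Curv2.deg ℂ X G s * (r : ℤ) ≤ Curv2.deg ℂ X E r * (s : ℤ)))
    (F : X.Modules) (hF : FlatMod.IsFinLocFreeOfRank r F) (φF : F ⟶ CohB1.tensorMod F L)
    (hFd : Curv2.deg ℂ X F r = d)
    (hFss : (∀ (G : X.Modules) (s : ℕ) (j : G ⟶ F) (χ : G ⟶ CohB1.tensorMod G L), Mono j → 0 < s →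
        FlatMod.IsFinLocFreeOfRank s G →
        χ ≫ (CohB1.sheafifyMod X).map (MonoidalCategoryStruct.whiskerRight (C := CohB1.PMod X) j.val (CohB1.toPMod L)) = j ≫ φF →
        Curv2.deg ℂ X G s * (r : ℤ) ≤ Curv2.deg ℂ X F r * (s : ℤ)))
    (n : ℕ)
    (Es : ℕ → X.Modules) (rE : ℕ → ℕ) (hEs : ∀ i, FlatMod.IsFinLocFreeOfRank (rE i) (Es i))
    (ιE : ∀ i, Es i ⟶ E) (hιE : ∀ i, Mono (ιE i))
    (ψE : ∀ i, Es i ⟶ CohB1.tensorMod (Es i) L)
    (hψE : ∀ i, ψE i ≫ (CohB1.sheafifyMod X).map (MonoidalCategoryStruct.whiskerRight (C := CohB1.PMod X) (ιE i).val (CohB1.toPMod L)) = ιE i ≫ φE)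
    (a : ∀ i, Es i ⟶ Es (i + 1)) (ha : ∀ i, a i ≫ ιE (i + 1) = ιE i)
    (hE0 : IsZero (Es 0)) (hEn : IsIso (ιE n))
    (Fs : ℕ → X.Modules) (rF : ℕ → ℕ) (hFs : ∀ i, FlatMod.IsFinLocFreeOfRank (rF i) (Fs i))
    (ιF : ∀ i, Fs i ⟶ F) (hιF : ∀ i, Mono (ιF i))
    (ψF : ∀ i, Fs i ⟶ CohB1.tensorMod (Fs i) L)
    (hψF : ∀ i, ψF i ≫ (CohB1.sheafifyMod X).map (MonoidalCategoryStruct.whiskerRight (C := CohB1.PMod X) (ιF i).val (CohB1.toPMod L)) = ιF i ≫ φF)
    (b : ∀ i, Fs (i + 1) ⟶ Fs i) (hb : ∀ i, b i ≫ ιF i = ιF (i + 1))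
    (hF0 : IsIso (ιF 0)) (hFn : IsZero (Fs n))
    (hrk : ∀ i, i ≤ n → rE i + rF i = r)
    (hopp : ∀ i, i < n → Nonempty (cokernel (a i) ≅ cokernel (b i))) :
    (∀ i, i ≤ n → 0 < rE i →
      Curv2.deg ℂ X (Es i) (rE i) * (r : ℤ) = d * (rE i : ℤ) ∧
      (∀ (G : X.Modules) (s : ℕ) (j : G ⟶ (Es i)) (χ : G ⟶ CohB1.tensorMod G L), Mono j → 0 < s →
        FlatMod.IsFinLocFreeOfRank s G →
        χ ≫ (CohB1.sheafifyMod X).map (MonoidalCategoryStruct.whiskerRight (C := CohB1.PMod X) j.val (CohB1.toPMod L)) = j ≫ ψE i →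
        Curv2.deg ℂ X G s * (rE i : ℤ) ≤ Curv2.deg ℂ X (Es i) (rE i) * (s : ℤ))) ∧
    (∀ i, i ≤ n → 0 < rF i →
      Curv2.deg ℂ X (Fs i) (rF i) * (r : ℤ) = d * (rF i : ℤ) ∧
      (∀ (G : X.Modules) (s : ℕ) (j : G ⟶ (Fs i)) (χ : G ⟶ CohB1.tensorMod G L), Mono j → 0 < s →
        FlatMod.IsFinLocFreeOfRank s G →
        χ ≫ (CohB1.sheafifyMod X).map (MonoidalCategoryStruct.whiskerRight (C := CohB1.PMod X) j.val (CohB1.toPMod L)) = j ≫ ψF i →
        Curv2.deg ℂ X G s * (rF i : ℤ) ≤ Curv2.deg ℂ X (Fs i) (rF i) * (s : ℤ))) ∧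
    (∀ i, i < n → rE i < rE (i + 1) →
      FlatMod.IsFinLocFreeOfRank (rE (i + 1) - rE i) (cokernel (a i)) ∧
      Curv2.deg ℂ X (cokernel (a i)) (rE (i + 1) - rE i) * (r : ℤ) = d * ((rE (i + 1) - rE i : ℕ) : ℤ) ∧
      ∀ (φ' : cokernel (a i) ⟶ CohB1.tensorMod (cokernel (a i)) L),
        cokernel.π (a i) ≫ φ' = ψE (i + 1) ≫ (CohB1.sheafifyMod X).map (MonoidalCategoryStruct.whiskerRight (C := CohB1.PMod X) (cokernel.π (a i)).val (CohB1.toPMod L)) →
        (∀ (G : X.Modules) (s : ℕ) (j : G ⟶ cokernel (a i)) (χ : G ⟶ CohB1.tensorMod G L), Mono j → 0 < s →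
        FlatMod.IsFinLocFreeOfRank s G →
        χ ≫ (CohB1.sheafifyMod X).map (MonoidalCategoryStruct.whiskerRight (C := CohB1.PMod X) j.val (CohB1.toPMod L)) = j ≫ φ' →
        Curv2.deg ℂ X G s * ((rE (i + 1) - rE i : ℕ) : ℤ) ≤ Curv2.deg ℂ X (cokernel (a i)) (rE (i + 1) - rE i) * (s : ℤ))) := by
  have hX : GoodCurve ℂ X := goodCurve_of_smooth hdim
  haveI := hX.isLocallyNoetherian
  haveI := VBHom27.isEquivalence_tw hL
  let T := VBHom27.tw L
  have pE := Groth.Agent.S15328.pss_of L hE φE hEss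
  have pF := Groth.Agent.S15328.pss_of L hF φF hFss
  have hEf := fun i => isFinLocFree_of_ofRank (hEs i)
  have hFf := fun i => isFinLocFree_of_ofRank (hFs i)
  haveI := hιE
  haveI := hιF
  haveI : ∀ i, Mono (a i) := fun i => mono_of_mono_fac (ha i)
  haveI : ∀ i, Mono (b i) := fun i => mono_of_mono_fac (hb i)
  have hEd' : dg ℂ E = d := by rw [← dg_eq hE]; exact hEd
  have hFd' : dg ℂ F = d := by rw [← dg_eq hF]; exact hFd
  have hEr : rk E = r := rk_eq hE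
  have hFr : rk F = r := rk_eq hF
  have leE : ∀ i, dg ℂ (Es i) * (r : ℤ) ≤ d * (rE i : ℤ) := fun i => by
    have := pE.le_any hX (ιE i) (hEf i) (ψE i) (hψE i)
    rwa [hEr, hEd', rk_eq (hEs i)] at this
  have leF : ∀ i, dg ℂ (Fs i) * (r : ℤ) ≤ d * (rF i : ℤ) := fun i => by
    have := pF.le_any hX (ιF i) (hFf i) (ψF i) (hψF i)
    rwa [hFr, hFd', rk_eq (hFs i)] at this
  have hsum : ∀ i, i ≤ n → dg ℂ (Es i) + dg ℂ (Fs i) = d := by
    intro i
    induction i with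
    | zero =>
      intro _
      haveI := hF0
      rw [hX.dg_eq_zero_of_isZero (isCoh_of_isFinLocFree (hEf 0)) hE0, zero_add,
        (hX.dg_iso (asIso (ιF 0)) (isCoh_of_isFinLocFree (hFf 0)) (isCoh_of_ofRank hF)).1, hFd']
    | succ i ih =>
      intro hi
      obtain ⟨e⟩ := hopp i hi
      have h1 := (hX.dg_mono_cokernel (a i) (isCoh_of_isFinLocFree (hEf i)) (isCoh_of_isFinLocFree (hEf (i + 1)))).1
      have h2 := (hX.dg_mono_cokernel (b i) (isCoh_of_isFinLocFree (hFf (i + 1))) (isCoh_of_isFinLocFree (hFf i))).1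
      have h3 := (hX.dg_iso e (isCoh_cokernel _ (isCoh_of_isFinLocFree (hEf i)) (isCoh_of_isFinLocFree (hEf (i + 1))))
        (isCoh_cokernel _ (isCoh_of_isFinLocFree (hFf (i + 1))) (isCoh_of_isFinLocFree (hFf i)))).1
      have := ih (Nat.le_of_succ_le hi)
      omega
  have eqs : ∀ i, i ≤ n → dg ℂ (Es i) * (r : ℤ) = d * (rE i : ℤ) ∧ dg ℂ (Fs i) * (r : ℤ) = d * (rF i : ℤ) := by
    intro i hi
    have h1 := leE i
    have h2 := leF i
    have h3 : dg ℂ (Es i) * (r : ℤ) + dg ℂ (Fs i) * (r : ℤ) = d * (rE i : ℤ) + d * (rF i : ℤ) := by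
      rw [← add_mul, hsum i hi, ← mul_add, ← Nat.cast_add, hrk i hi]
    omega
  have slE : ∀ i, i ≤ n → dg ℂ (Es i) * (rk E : ℤ) = dg ℂ E * (rk (Es i) : ℤ) := fun i hi => by
    rw [hEr, hEd', rk_eq (hEs i)]; exact (eqs i hi).1
  have slF : ∀ i, i ≤ n → dg ℂ (Fs i) * (rk F : ℤ) = dg ℂ F * (rk (Fs i) : ℤ) := fun i hi => by
    rw [hFr, hFd', rk_eq (hFs i)]; exact (eqs i hi).2
  refine ⟨fun i hi hpos => ⟨?_, ?_⟩, fun i hi hpos => ⟨?_, ?_⟩, fun i hi hlt => ?_⟩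
  · rw [dg_eq (hEs i)]; exact (eqs i hi).1
  · exact Groth.Agent.S15328.of_pss L (hEs i) (ψE i)
      (pE.sub hX (ιE i) (ψE i) (hψE i) (hEr ▸ hr) (slE i hi))
  · rw [dg_eq (hFs i)]; exact (eqs i hi).2
  · exact Groth.Agent.S15328.of_pss L (hFs i) (ψF i)
      (pF.sub hX (ιF i) (ψF i) (hψF i) (hFr ▸ hr) (slF i hi))
  · have hinv : ψE i ≫ T.map (a i) = a i ≫ ψE (i + 1) := by
      exact inv_of (T := T) (a i) (ha i) (ψE i) (ψE (i + 1)) φE (hψE i) (hψE (i + 1))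
    have pE1 := pE.sub hX (ιE (i + 1)) (ψE (i + 1)) (hψE (i + 1)) (hEr ▸ hr) (slE (i + 1) hi)
    have hs : dg ℂ (Es i) * (rk (Es (i + 1)) : ℤ) = dg ℂ (Es (i + 1)) * (rk (Es i) : ℤ) := by
      rw [rk_eq (hEs i), rk_eq (hEs (i + 1))]
      refine mul_right_cancel₀ (show (r : ℤ) ≠ 0 by exact_mod_cast hr.ne') ?_
      rw [mul_right_comm, (eqs i hi.le).1, mul_right_comm (dg ℂ (Es (i + 1))), (eqs (i + 1) hi).1]
      ring
    obtain ⟨hC, hrC, hdC, hq⟩ := pE1.quot hX (fun hA => (VBHom27.dg_tw hX hL hA).1) (hEf (i + 1))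
      (by rw [rk_eq (hEs (i + 1))]; omega) (a i) (hEf i) (ψE i) hinv hs
    rw [rk_eq (hEs i), rk_eq (hEs (i + 1))] at hrC
    have hCr : FlatMod.IsFinLocFreeOfRank (rE (i + 1) - rE i) (cokernel (a i)) := by
      rw [show rE (i + 1) - rE i = rk (cokernel (a i)) by omega]; exact ofRank_rk hC
    refine ⟨hCr, ?_, fun φ' hφ' => Groth.Agent.S15328.of_pss L hCr φ' (hq φ' hφ')⟩
    rw [dg_eq hCr, Nat.cast_sub hlt.le, show dg ℂ (cokernel (a i)) = dg ℂ (Es (i + 1)) - dg ℂ (Es i) by omega,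
      sub_mul, (eqs i hi.le).1, (eqs (i + 1) hi).1]
    ring

end Groth.Agent.S15330
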