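import Groth.Statements.S15335
import Groth.Agent.VBLib.Slope

set_option autoImplicit false
universe u
open CategoryTheory CategoryTheory.Limits AlgebraicGeometry
open VBCurve

namespace Groth.Agent.S15335

/-- Let X be a smooth proper integral curve (integral, smooth and proper of dimension one) over an
algebraically closed field k, and E₁, E₂ finite locally free O_X-modules of ranks r₁ ≥ 1, r₂ ≥ 1.
The maximal slope of E₁ ⊕ E₂ is at most the larger of the maximal slopes of E₁ and E₂: if m₁, m₂ are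
rational numbers such that every finite locally free submodule of positive rank of E₁ (resp. E₂) has
slope deg/rank ≤ m₁ (resp. ≤ m₂), degree meaning χ − rank·χ(O_X), then every finite locally free
submodule F of the biproduct E₁ ⊞ E₂ of rank r' ≥ 1 has slope deg F / r' ≤ max(m₁, m₂). -/
theorem result (k : Type u) [Field k] [IsAlgClosed k] (X : Scheme.{u}) [X.Over (Spec (CommRingCat.of k))]
    [IsIntegral X] [IsProper (X ↘ Spec (CommRingCat.of k))] [Smooth (X ↘ Spec (CommRingCat.of k))]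
    (hdim : topologicalKrullDim X = 1)
    (r₁ r₂ : ℕ) (hr₁ : 0 < r₁) (hr₂ : 0 < r₂) (E₁ E₂ : X.Modules)
    (hE₁ : FlatMod.IsFinLocFreeOfRank r₁ E₁) (hE₂ : FlatMod.IsFinLocFreeOfRank r₂ E₂) (m₁ m₂ : ℚ)
    (h₁ : ∀ (G : X.Modules) (r' : ℕ) (i : G ⟶ E₁), Mono i → 0 < r' → FlatMod.IsFinLocFreeOfRank r' G →
      (Curv2.deg k X G r' : ℚ) / r' ≤ m₁)
    (h₂ : ∀ (G : X.Modules) (r' : ℕ) (i : G ⟶ E₂), Mono i → 0 < r' → FlatMod.IsFinLocFreeOfRank r' G →
      (Curv2.deg k X G r' : ℚ) / r' ≤ m₂)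
    (F : X.Modules) (r' : ℕ) (i : F ⟶ E₁ ⊞ E₂) (hi : Mono i) (hr' : 0 < r')
    (hF : FlatMod.IsFinLocFreeOfRank r' F) :
    (Curv2.deg k X F r' : ℚ) / r' ≤ max m₁ m₂ := by
  have hX : VBLib.GoodCurve k X := VBLib.goodCurve_of_smooth hdim
  haveI := hi
  haveI := hX.isLocallyNoetherian
  have hFc := VBLib.isCoh_of_ofRank hF
  have h2c := VBLib.isCoh_of_ofRank hE₂
  let g := i ≫ biprod.snd
  have hK := VBLib.isFinLocFree_kernel hX.pid g (VBLib.isFinLocFree_of_ofRank hF) h2c
  have hI := VBLib.isFinLocFree_image hX.pid g hFc (VBLib.isFinLocFree_of_ofRank hE₂)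
  obtain ⟨e1, e2⟩ := hX.dg_kernel_image g hFc h2c
  haveI : Mono (kernel.ι g ≫ i ≫ biprod.fst) := by
    refine Preadditive.mono_of_cancel_zero _ fun {A} a ha => ?_
    rw [← cancel_mono (kernel.ι g), zero_comp, ← cancel_mono i, zero_comp]
    apply biprod.hom_ext
    · simpa [Category.assoc] using ha
    · rw [zero_comp, Category.assoc, Category.assoc, kernel.condition, comp_zero]
  have b1 : (VBLib.dg k (kernel g) : ℚ) ≤ max m₁ m₂ * VBLib.rk (kernel g) := by
    rcases Nat.eq_zero_or_pos (VBLib.rk (kernel g)) with h0 | hpos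
    · rw [h0, hX.dg_eq_zero_of_isZero (VBLib.isCoh_of_isFinLocFree hK)
        (VBLib.isZero_of_rk_eq_zero hK h0)]
      simp
    · have h := h₁ _ _ (kernel.ι g ≫ i ≫ biprod.fst) inferInstance hpos (VBLib.ofRank_rk hK)
      rw [div_le_iff₀ (by exact_mod_cast hpos)] at h
      exact h.trans (mul_le_mul_of_nonneg_right (le_max_left _ _) (Nat.cast_nonneg _))
  have b2 : (VBLib.dg k (Abelian.image g) : ℚ) ≤ max m₁ m₂ * VBLib.rk (Abelian.image g) := by
    rcases Nat.eq_zero_or_pos (VBLib.rk (Abelian.image g)) with h0 | hpos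
    · rw [h0, hX.dg_eq_zero_of_isZero (VBLib.isCoh_of_isFinLocFree hI)
        (VBLib.isZero_of_rk_eq_zero hI h0)]
      simp
    · have h := h₂ _ _ (Abelian.image.ι g) inferInstance hpos (VBLib.ofRank_rk hI)
      rw [div_le_iff₀ (by exact_mod_cast hpos)] at h
      exact h.trans (mul_le_mul_of_nonneg_right (le_max_right _ _) (Nat.cast_nonneg _))
  rw [div_le_iff₀ (by exact_mod_cast hr'), VBLib.dg_eq hF, ← VBLib.rk_eq hF, e1, e2]
  push_cast
  linarith

end Groth.Agent.S15335
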