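import Groth.Statements.S15336
import Groth.Agent.TorsorSq27.Push
import Groth.Agent.GITLib.TorsorSch
import Groth.Agent.GITLib.TorsorSchMore
import Groth.Agent.FpqcDesc.Props
import Groth.Agent.InjMod.ProjFramed
import Groth.Agent.EulerChar.Basic
import Groth.Agent.HomShQC.Stalk
import Groth.Agent.ProjTwist.Tensor
import Groth.Agent.S12131
-- import your own Groth.Agent.* helpers here

set_option autoImplicit false
universe u
open CategoryTheory CategoryTheory.Limits AlgebraicGeometry
open VBCurve

namespace Groth.Agent.S15336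

open MonoidalCategory CartesianMonoidalCategory

/-- The square of a pseudo-torsor. -/
theorem isPullback_of_pseudoTorsor {S : Scheme.{u}} {G X : Over S} [GrpObj G] {a : AlgGrp.Action G X}
    (h : NonAbH1.IsPseudoTorsorSch a) :
    IsPullback a.act.left (pullback.snd G.hom X.hom) X.hom X.hom := by
  haveI : IsIso (lift a.act (snd G X)) := h
  let τ : G ⊗ X ≅ X ⊗ X := asIso (lift a.act (snd G X))
  let τ' : pullback G.hom X.hom ≅ pullback X.hom X.hom := (Over.forget S).mapIso τ
  refine IsPullback.of_iso (IsPullback.of_hasPullback X.hom X.hom) τ'.symm (Iso.refl _) (Iso.refl _) (Iso.refl _)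
    ?_ ?_ (by simp) (by simp)
  · rw [Iso.symm_hom, Iso.refl_hom, Category.comp_id, Iso.eq_inv_comp]
    exact congrArg Over.Hom.left (lift_fst a.act (snd G X))
  · rw [Iso.symm_hom, Iso.refl_hom, Category.comp_id, Iso.eq_inv_comp]
    exact congrArg Over.Hom.left (lift_snd a.act (snd G X))

/-- Affine base change for the structure sheaf. -/
theorem nonempty_baseChange {X S X' S' : Scheme.{u}} {f : X ⟶ S} {g : S' ⟶ S} {g' : X' ⟶ X}
    {f' : X' ⟶ S'} (h : IsPullback g' f' f g) [IsAffineHom f] :
    Nonempty ((Scheme.Modules.pullback g).obj ((Scheme.Modules.pushforward f).obj (Coh.structureModule X)) ≅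
      (Scheme.Modules.pushforward f').obj (Coh.structureModule X')) := by
  haveI : Coh.IsQCoh (Coh.structureModule X) := ProjTwist.isQuasicoherent_structureModule X
  haveI := S12131.result f g g' f' h (Coh.structureModule X)
  exact ⟨asIso (((Scheme.Modules.pullbackPushforwardAdjunction g).homEquiv
      ((Scheme.Modules.pushforward f).obj (Coh.structureModule X))
      ((Scheme.Modules.pushforward f').obj ((Scheme.Modules.pullback g').obj (Coh.structureModule X)))).symm
      ((Scheme.Modules.pushforward f).map ((Scheme.Modules.pullbackPushforwardAdjunction g').unit.app (Coh.structureModule X)) ≫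
        (Scheme.Modules.pushforwardComp g' f).hom.app _ ≫
        (Scheme.Modules.pushforwardCongr h.w).hom.app _ ≫
        (Scheme.Modules.pushforwardComp f' g).inv.app _)) ≪≫
    (Scheme.Modules.pushforward f').mapIso (QCoh.pullbackUnitIso g')⟩


/-- Let X be a smooth proper integral curve (integral, smooth and proper of dimension one) over an
algebraically closed field k, G a finite group scheme over k of order n, meaning dim_k H^0(G, O_G) =
n, and j : P → X a torsor (fppf-locally trivial) under the X-group scheme G ×_k X. Put E = j_*O_P.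
Then there is an isomorphism of O_X-modules E ⊗ E ≅ E ⊕ ⋯ ⊕ E (n copies); in particular E is a
finite vector bundle in the sense of Weil (two distinct polynomials in E agree). Existence of an
isomorphism only. (The published statement asserts only that E is finite in this sense; this row
states the isomorphism its argument gives, with n = dim_k H^0(G, O_G).) -/
theorem result (k : Type u) [Field k] [IsAlgClosed k] (X : Scheme.{u}) [X.Over (Spec (CommRingCat.of k))]
    [IsIntegral X] [IsProper (X ↘ Spec (CommRingCat.of k))] [Smooth (X ↘ Spec (CommRingCat.of k))]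
    (hdim : topologicalKrullDim X = 1)
    (G : Scheme.{u}) [G.Over (Spec (CommRingCat.of k))] [GrpObj (G.asOver (Spec (CommRingCat.of k)))]
    [IsFinite (G ↘ Spec (CommRingCat.of k))] (n : ℕ)
    (hn : Module.finrank k (Coh.HH G (Coh.structureModule G) 0) = n)
    (P : Over X) (a : AlgGrp.Action (Red.bc (X ↘ Spec (CommRingCat.of k)) (G.asOver (Spec (CommRingCat.of k)))) P)
    (hP : NonAbH1.IsTorsorFor Scheme.fppfPrecoverage a) :
    Nonempty (CohB1.tensorMod ((Coh.push P.hom).obj (Coh.structureModule P.left))
        ((Coh.push P.hom).obj (Coh.structureModule P.left)) ≅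
      ∐ fun _ : Fin n => (Coh.push P.hom).obj (Coh.structureModule P.left)) := by
  let pX := X ↘ Spec (CommRingCat.of k)
  let f₀ := G ↘ Spec (CommRingCat.of k)
  let G₀ := G.asOver (Spec (CommRingCat.of k))
  let GX := Red.bc pX G₀
  haveI : IsLocallyNoetherian X := LocallyOfFiniteType.isLocallyNoetherian pX
  haveI hf₀ : IsFinite f₀ := inferInstanceAs (IsFinite (G ↘ Spec (CommRingCat.of k)))
  haveI : IsFinite G₀.hom := hf₀
  haveI : Flat G₀.hom := inferInstance
  haveI hGX : IsFinite GX.hom := inferInstanceAs (IsFinite (pullback.snd G₀.hom pX))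
  haveI hGX' : Flat GX.hom := inferInstanceAs (Flat (pullback.snd G₀.hom pX))
  have hq := GITLib.isTorsorFor_mono Scheme.fppfPrecoverage_le_fpqcPrecoverage hP
  haveI : MorphismProperty.DescendsAlong @IsFinite.{u} AlgSpCov.Fpqc := FpqcDesc.descendsAlong_isFinite
  haveI hPfin : IsFinite P.hom := GITLib.property_of_torsor @IsFinite hq hGX
  haveI hPflat : Flat P.hom := GITLib.property_of_torsor @Flat hq hGX'
  haveI : LocallyOfFinitePresentation P.hom := inferInstance
  let O := Coh.structureModule P.left
  let N := (Scheme.Modules.pushforward P.hom).obj O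
  have hN : FlatMod.IsFinLocFree N := TorsorSq27.isFinLocFree_push P.hom
  -- projection formula
  let e₁ : CohB1.tensorMod N N ≅ (Scheme.Modules.pushforward P.hom).obj
      (CohB1.tensorMod O ((Scheme.Modules.pullback P.hom).obj N)) :=
    (InjMod.projFramedIso P.hom (InjMod.hasFrames_of_isFinLocFree hN)).app O
  let e₂ : CohB1.tensorMod O ((Scheme.Modules.pullback P.hom).obj N) ≅ (Scheme.Modules.pullback P.hom).obj N :=
    ProjTwist.oneTens _
  -- base change along the torsor
  obtain ⟨e₃⟩ := nonempty_baseChange (isPullback_of_pseudoTorsor hP.1)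
  have sq : IsPullback (pullback.fst GX.hom P.hom ≫ pullback.fst G₀.hom pX) (pullback.snd GX.hom P.hom)
      f₀ (P.hom ≫ pX) :=
    IsPullback.paste_horiz (IsPullback.of_hasPullback GX.hom P.hom) (IsPullback.of_hasPullback G₀.hom pX)
  obtain ⟨e₄⟩ := @nonempty_baseChange _ _ _ _ _ _ _ _ sq (@IsFinite.toIsAffineHom _ _ _ hf₀)
  haveI : IsProper f₀ := inferInstance
  obtain ⟨e₅⟩ := TorsorSq27.nonempty_push_iso_freeMod k G
    (EulerChar.finite_HH k (Coh.structureModule G)
      (haveI := LocallyOfFiniteType.isLocallyNoetherian f₀; HomShQC.isCoh_structureModule) 0) hn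
  let e₆ : (Scheme.Modules.pullback P.hom).obj N ≅ FlatMod.freeMod P.left n :=
    e₃ ≪≫ e₄.symm ≪≫ (Scheme.Modules.pullback (P.hom ≫ pX)).mapIso e₅ ≪≫
      ParaFormal.Elkik.pullbackFreeMod (P.hom ≫ pX) n
  haveI : (Scheme.Modules.pushforward P.hom).Additive := Functor.additive_of_preserves_binary_products _
  haveI : PreservesFiniteCoproducts (Scheme.Modules.pushforward P.hom) :=
    ⟨fun n => preservesCoproductsOfShape_of_preservesBiproductsOfShape _⟩
  exact ⟨e₁ ≪≫ (Scheme.Modules.pushforward P.hom).mapIso (e₂ ≪≫ e₆) ≪≫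
    PreservesCoproduct.iso (Scheme.Modules.pushforward P.hom) (fun _ : Fin n => O)⟩

end Groth.Agent.S15336
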