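import Groth.Statements.S1534
import Mathlib
import Groth.Agent.Depth.CM
import Groth.Agent.Props.NormalCM
import Groth.Agent.AbVarLib.H0Field

set_option autoImplicit false
universe u
open CategoryTheory CategoryTheory.Limits AlgebraicGeometry
open Curves

namespace Groth.Agent.S1534

open TopologicalSpace Opposite

lemma glue2 {X : Scheme.{u}} (U V : X.Opens) (hUV : (⊤ : X.Opens) ≤ U ⊔ V) (a : Γ(X, U)) (b : Γ(X, V))
    (h : X.presheaf.map (homOfLE (inf_le_left : U ⊓ V ≤ U)).op a =
      X.presheaf.map (homOfLE (inf_le_right : U ⊓ V ≤ V)).op b) :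
    ∃ g : Γ(X, ⊤), X.presheaf.map (homOfLE (le_top : U ≤ ⊤)).op g = a ∧
      X.presheaf.map (homOfLE (le_top : V ≤ ⊤)).op g = b := by
  let W : ULift.{u} Bool → X.Opens := fun i => match i with
    | ⟨true⟩ => U
    | ⟨false⟩ => V
  let sf : ∀ i, Γ(X, W i) := fun i => match i with
    | ⟨true⟩ => a
    | ⟨false⟩ => b
  have hcov : (⊤ : X.Opens) ≤ iSup W :=
    hUV.trans (sup_le (le_iSup W ⟨true⟩) (le_iSup W ⟨false⟩))
  have hc : TopCat.Presheaf.IsCompatible X.sheaf.obj W sf := by
    rintro ⟨_ | _⟩ ⟨_ | _⟩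
    · rfl
    · show X.presheaf.map (homOfLE (inf_le_left : V ⊓ U ≤ V)).op b =
        X.presheaf.map (homOfLE (inf_le_right : V ⊓ U ≤ U)).op a
      have := congrArg (X.presheaf.map (homOfLE (inf_comm V U).le).op) h
      rw [← CommRingCat.comp_apply, ← CommRingCat.comp_apply, ← Functor.map_comp,
        ← Functor.map_comp] at this
      exact this.symm
    · exact h
    · rfl
  obtain ⟨g, hg, -⟩ := X.sheaf.existsUnique_gluing' W ⊤ (fun i => homOfLE le_top) hcov sf hc
  exact ⟨g, hg ⟨true⟩, hg ⟨false⟩⟩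

lemma preconnectedSpace_of_isUnit {X : Scheme.{u}} (hu : ∀ g : Γ(X, ⊤), g ≠ 0 → IsUnit g) :
    PreconnectedSpace X := by
  refine preconnectedSpace_iff_clopen.mpr fun s hs => ?_
  by_contra hne
  push Not at hne
  obtain ⟨⟨a, ha⟩, hne2⟩ := (⟨hne.1, hne.2⟩ : s.Nonempty ∧ s ≠ Set.univ)
  obtain ⟨b, hb⟩ := (Set.ne_univ_iff_exists_notMem s).mp hne2
  obtain ⟨g, hgU, hgV⟩ := glue2 (⟨s, hs.2⟩ : X.Opens) (⟨sᶜ, hs.1.isOpen_compl⟩ : X.Opens)
    (fun x _ => by by_cases h : x ∈ s; exacts [Or.inl h, Or.inr h]) 1 0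
    (by
      rw [map_one, map_zero]
      haveI : Subsingleton Γ(X, (⟨s, hs.2⟩ : X.Opens) ⊓ ⟨sᶜ, hs.1.isOpen_compl⟩) := by
        have e : (⟨s, hs.2⟩ : X.Opens) ⊓ ⟨sᶜ, hs.1.isOpen_compl⟩ = ⊥ := by
          ext x; simp
        rw [e]; infer_instance
      exact Subsingleton.elim _ _)
  have ga : X.presheaf.germ (⊤ : X.Opens) a trivial g = 1 := by
    rw [← X.presheaf.germ_res_apply (homOfLE le_top : (⟨s, hs.2⟩ : X.Opens) ⟶ ⊤) a ha g, hgU, map_one]
  have gb : X.presheaf.germ (⊤ : X.Opens) b trivial g = 0 := by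
    rw [← X.presheaf.germ_res_apply (homOfLE le_top : (⟨sᶜ, hs.1.isOpen_compl⟩ : X.Opens) ⟶ ⊤) b hb g, hgV, map_zero]
  have hg0 : g ≠ 0 := by
    rintro rfl
    rw [map_zero] at ga
    exact zero_ne_one ga
  have := (hu g hg0).map (X.presheaf.germ (⊤ : X.Opens) b trivial).hom
  rw [show (X.presheaf.germ (⊤ : X.Opens) b trivial).hom g = 0 from gb] at this
  exact not_isUnit_zero this

lemma eq_zero_of_maximalIdeal_mul {X : Scheme.{u}} [IsLocallyNoetherian X]
    (hu : ∀ g : Γ(X, ⊤), g ≠ 0 → IsUnit g) (x : X) (hx : IsClosed ({x} : Set X))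
    (hy : ∃ y : X, y ≠ x) (s : X.presheaf.stalk x)
    (hs : ∀ m ∈ IsLocalRing.maximalIdeal (X.presheaf.stalk x), m * s = 0) : s = 0 := by
  classical
  by_contra hs0
  obtain ⟨W, hW, hxW, -⟩ := exists_isAffineOpen_mem_and_subset (x := x) (U := ⊤) trivial
  haveI : IsNoetherianRing Γ(X, W) := IsLocallyNoetherian.component_noetherian ⟨W, hW⟩
  letI := TopCat.Presheaf.algebra_section_stalk X.presheaf (⟨x, hxW⟩ : W)
  set p := hW.primeIdealOf ⟨x, hxW⟩
  haveI hloc : IsLocalization.AtPrime (X.presheaf.stalk x) p.asIdeal := hW.isLocalization_stalk ⟨x, hxW⟩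
  obtain ⟨⟨a, t⟩, hat⟩ := IsLocalization.surj p.asIdeal.primeCompl s
  have ht : IsUnit (algebraMap Γ(X, W) (X.presheaf.stalk x) t) :=
    IsLocalization.map_units (X.presheaf.stalk x) t
  obtain ⟨G, hG⟩ := IsNoetherian.noetherian (R := Γ(X, W)) p.asIdeal
  have hex : ∀ b ∈ p.asIdeal, ∃ r ∉ p.asIdeal, r * (b * a) = 0 := fun b hb => by
    have h0 : algebraMap Γ(X, W) (X.presheaf.stalk x) (b * a) = 0 := by
      rw [map_mul, ← hat, ← mul_assoc,
        hs _ ((IsLocalization.AtPrime.to_map_mem_maximal_iff (X.presheaf.stalk x) p.asIdeal b).mpr hb),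
        zero_mul]
    obtain ⟨⟨r, hr⟩, hr0⟩ :=
      (IsLocalization.map_eq_zero_iff p.asIdeal.primeCompl (X.presheaf.stalk x) _).mp h0
    exact ⟨r, hr, hr0⟩
  choose r hr hr0 using hex
  have hGp : ∀ b ∈ G, b ∈ p.asIdeal := fun b hb => hG ▸ Submodule.subset_span hb
  let T := ∏ b ∈ G.attach, r b.1 (hGp b.1 b.2)
  have hT : T ∉ p.asIdeal := show T ∈ p.asIdeal.primeCompl from prod_mem fun b _ => hr _ _
  have hTa : ∀ b ∈ p.asIdeal, b * (T * a) = 0 := by
    intro b hb
    rw [← hG] at hb
    refine Submodule.span_induction (fun c hc => ?_) (zero_mul _) (fun c d _ _ hc hd => ?_)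
      (fun c d _ hd => ?_) hb
    · obtain ⟨R, hR⟩ := Finset.dvd_prod_of_mem (fun b : {b // b ∈ G} => r b.1 (hGp b.1 b.2))
        (Finset.mem_attach G ⟨c, hc⟩)
      calc c * (T * a) = (r c (hGp c hc) * (c * a)) * R := by rw [show T = _ from hR]; ring
        _ = 0 := by rw [hr0, zero_mul]
    · rw [add_mul, hc, hd, add_zero]
    · rw [smul_eq_mul, mul_assoc, hd, mul_zero]
  -- `T * a` vanishes at all points of `W` other than `x`, on a neighbourhood of `x`
  have hxT : x ∈ X.basicOpen T := by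
    rw [X.mem_basicOpen T x hxW]
    exact (IsLocalization.AtPrime.isUnit_to_map_iff (X.presheaf.stalk x) p.asIdeal T).mpr hT
  let O := X.basicOpen T
  let C : X.Opens := ⟨{x}ᶜ, hx.isOpen_compl⟩
  let a' : Γ(X, O) := X.presheaf.map (homOfLE (X.basicOpen_le T)).op (T * a)
  have hO : X.presheaf.map (homOfLE (inf_le_left : O ⊓ C ≤ O)).op a' =
      X.presheaf.map (homOfLE (inf_le_right : O ⊓ C ≤ C)).op 0 := by
    refine TopCat.Presheaf.section_ext X.sheaf _ _ _ fun y hy => ?_
    show X.presheaf.germ _ y hy _ = X.presheaf.germ _ y hy _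
    have hyW : y ∈ W := X.basicOpen_le T hy.1
    have hyx : y ≠ x := hy.2
    rw [map_zero, map_zero, X.presheaf.germ_res_apply, X.presheaf.germ_res_apply]
    letI := TopCat.Presheaf.algebra_section_stalk X.presheaf (⟨y, hyW⟩ : W)
    haveI : IsLocalization.AtPrime (X.presheaf.stalk y) (hW.primeIdealOf ⟨y, hyW⟩).asIdeal :=
      hW.isLocalization_stalk ⟨y, hyW⟩
    have hpq : ¬ p.asIdeal ≤ (hW.primeIdealOf ⟨y, hyW⟩).asIdeal := fun hle => by
      have hsp : p ⤳ hW.primeIdealOf ⟨y, hyW⟩ := (PrimeSpectrum.le_iff_specializes _ _).mp hle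
      have := hsp.map hW.fromSpec.continuous
      rw [hW.fromSpec_primeIdealOf, hW.fromSpec_primeIdealOf] at this
      exact hyx (this.mem_closed hx rfl)
    obtain ⟨b, hbp, hbq⟩ := SetLike.not_le_iff_exists.mp hpq
    exact (IsLocalization.map_eq_zero_iff (hW.primeIdealOf ⟨y, hyW⟩).asIdeal.primeCompl
      (X.presheaf.stalk y) (T * a)).mpr ⟨⟨b, hbq⟩, hTa b hbp⟩
  obtain ⟨g, hgO, hgC⟩ := glue2 O C (fun y _ => by
    by_cases h : y = x
    · exact Or.inl (h ▸ hxT)
    · exact Or.inr h) a' 0 hO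
  have gx : X.presheaf.germ (⊤ : X.Opens) x trivial g =
      algebraMap Γ(X, W) (X.presheaf.stalk x) (T * a) := by
    rw [← X.presheaf.germ_res_apply (homOfLE le_top : O ⟶ ⊤) x hxT g, hgO, X.presheaf.germ_res_apply]
    rfl
  have hg0 : g ≠ 0 := by
    rintro rfl
    rw [map_zero, map_mul, ← hat] at gx
    rcases (((IsLocalization.AtPrime.isUnit_to_map_iff (X.presheaf.stalk x) p.asIdeal T).mpr hT).mul_right_eq_zero).mp gx.symm with h
    exact hs0 (ht.mul_left_eq_zero.mp h)
  obtain ⟨y, hy⟩ := hy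
  have := (hu g hg0).map (X.presheaf.germ (⊤ : X.Opens) y trivial).hom
  rw [show (X.presheaf.germ (⊤ : X.Opens) y trivial).hom g = 0 from by
    rw [← X.presheaf.germ_res_apply (homOfLE le_top : C ⟶ ⊤) y hy g, hgC, map_zero]] at this
  exact not_isUnit_zero this

/-- A proper scheme of dimension one over a field k whose global functions are k is connected, all of
its local rings are Cohen–Macaulay, and every irreducible component has dimension one. -/
theorem result (k : Type u) [Field k] (X : Scheme.{u}) [X.Over (Spec (CommRingCat.of k))]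
    [IsProper (X ↘ (Spec (CommRingCat.of k)))] (hdim : topologicalKrullDim X = 1) (h0 : Module.finrank k (Coh.HH X (Coh.structureModule X) 0) = 1) :
    ConnectedSpace X ∧ (∀ x : X, LocCoh.IsCohenMacaulayLocalRing (X.presheaf.stalk x)) ∧
      ∀ Z ∈ irreducibleComponents (X : Type u), topologicalKrullDim Z = 1 := by
  classical
  set pX := X ↘ (Spec (CommRingCat.of k))
  haveI : IsLocallyNoetherian X := LocallyOfFiniteType.isLocallyNoetherian pX
  haveI : CompactSpace X := QuasiCompact.compactSpace_of_compactSpace pX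
  haveI : IsNoetherian X := ⟨⟩
  have hbij := AbVarLib.H0Field.bijective_toGlobal h0
  have hu : ∀ g : Γ(X, ⊤), g ≠ 0 → IsUnit g := fun g hg => by
    obtain ⟨c, rfl⟩ := hbij.2 g
    exact (Ne.isUnit fun hc => hg ((congrArg _ hc).trans (map_zero _))).map _
  haveI hne : Nonempty X := by
    by_contra hc
    haveI := not_nonempty_iff.mp hc
    haveI : IsEmpty (TopologicalSpace.IrreducibleCloseds X) := ⟨fun Z => isEmptyElim Z.isIrreducible.1.some⟩
    rw [show topologicalKrullDim X = ⊥ from Order.krullDim_eq_bot] at hdim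
    exact absurd hdim WithBot.bot_ne_one
  haveI := preconnectedSpace_of_isUnit hu
  haveI hconn : ConnectedSpace X := ⟨hne⟩
  have hcomp : ∀ Z ∈ irreducibleComponents (X : Type u), topologicalKrullDim Z = 1 := by
    intro Z hZ
    have hZc := isClosed_of_mem_irreducibleComponents Z hZ
    refine le_antisymm ((topologicalKrullDim_subspace_le X Z).trans_eq hdim) ?_
    by_contra hlt
    obtain ⟨ξ, hξ⟩ := QuasiSober.sober hZ.1 hZc
    have hsing : Z = {ξ} := by
      refine Set.eq_singleton_iff_unique_mem.mpr ⟨hξ.mem, fun z hz => ?_⟩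
      by_contra hzξ
      apply hlt
      let A : TopologicalSpace.IrreducibleCloseds Z :=
        ⟨closure {(⟨ξ, hξ.mem⟩ : Z)}, isIrreducible_singleton.closure, isClosed_closure⟩
      let B : TopologicalSpace.IrreducibleCloseds Z :=
        ⟨closure {(⟨z, hz⟩ : Z)}, isIrreducible_singleton.closure, isClosed_closure⟩
      have hsp : (⟨ξ, hξ.mem⟩ : Z) ⤳ ⟨z, hz⟩ :=
        Topology.IsInducing.subtypeVal.specializes_iff.mp (hξ.specializes hz)
      have hnsp : ¬ (⟨z, hz⟩ : Z) ⤳ ⟨ξ, hξ.mem⟩ := fun h =>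
        hzξ ((h.map continuous_subtype_val).antisymm (hξ.specializes hz)).eq
      have hlt' : B < A := lt_of_le_not_ge hsp.closure_subset fun h =>
        hnsp (specializes_iff_mem_closure.mpr (h (subset_closure rfl)))
      exact Order.one_le_krullDim_iff.mpr ⟨B, A, hlt'⟩
    have hopen : IsOpen ({ξ} : Set X) := by
      have hfin := TopologicalSpace.NoetherianSpace.finite_irreducibleComponents (α := X)
      have hc : IsClosed (⋃ W ∈ irreducibleComponents (X : Type u) \ {Z}, W) :=
        (hfin.sdiff).isClosed_biUnion fun W hW => isClosed_of_mem_irreducibleComponents W hW.1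
      convert hc.isOpen_compl using 1
      ext y
      simp only [Set.mem_singleton_iff, Set.mem_compl_iff, Set.mem_iUnion, not_exists]
      constructor
      · rintro rfl W hW hyW
        have hsub : Z ⊆ W := hsing ▸ Set.singleton_subset_iff.mpr hyW
        exact hW.2 ((hsub.antisymm (hZ.2 hW.1.1 hsub)).symm)
      · intro h
        obtain ⟨W, hW, hyW⟩ : ∃ W ∈ irreducibleComponents (X : Type u), y ∈ W :=
          ⟨irreducibleComponent y, irreducibleComponent_mem_irreducibleComponents y, mem_irreducibleComponent⟩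
        have : W = Z := by
          by_contra hWZ
          exact h W ⟨hW, hWZ⟩ hyW
        rw [this, hsing] at hyW
        exact hyW
    have huniv : ({ξ} : Set X) = Set.univ :=
      IsClopen.eq_univ ⟨hsing ▸ hZc, hopen⟩ ⟨ξ, rfl⟩
    haveI : Subsingleton X := Set.subsingleton_univ_iff.mp (huniv ▸ Set.subsingleton_singleton)
    haveI : Subsingleton (TopologicalSpace.IrreducibleCloseds X) :=
      ⟨fun A B => TopologicalSpace.IrreducibleCloseds.ext (by
        rcases Set.eq_univ_of_forall (fun y => Subsingleton.elim A.isIrreducible.1.some y ▸ A.isIrreducible.1.some_mem) with hA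
        rcases Set.eq_univ_of_forall (fun y => Subsingleton.elim B.isIrreducible.1.some y ▸ B.isIrreducible.1.some_mem) with hB
        exact hA.trans hB.symm)⟩
    have : topologicalKrullDim X ≤ 0 := Order.krullDim_nonpos_of_subsingleton
    rw [hdim] at this
    exact absurd this (by simp)
  refine ⟨hconn, fun x => ?_, hcomp⟩
  haveI : IsNoetherianRing (X.presheaf.stalk x) := inferInstance
  have hd1 : ringKrullDim (X.presheaf.stalk x) ≤ 1 :=
    (Props.NormalCM.ringKrullDim_stalk_le X x).trans hdim.le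
  refine ⟨?_⟩
  rw [Module.supportDim_self_eq_ringKrullDim]
  have hle : ((LocCoh.depth (X.presheaf.stalk x) (X.presheaf.stalk x) : ℕ∞) : WithBot ℕ∞) ≤
      ringKrullDim (X.presheaf.stalk x) := by
    rw [← Module.supportDim_self_eq_ringKrullDim]
    exact Depth.depth_le_supportDim
  refine le_antisymm ?_ hle
  by_cases hd0 : ringKrullDim (X.presheaf.stalk x) ≤ 0
  · exact hd0.trans (WithBot.coe_le_coe.mpr bot_le)
  refine hd1.trans (WithBot.coe_le_coe.mpr (Depth.one_le_idealDepth_iff.mpr fun q hq hmq => hd0 ?_))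
  have hqm : q = IsLocalRing.maximalIdeal (X.presheaf.stalk x) :=
    ((IsLocalRing.maximalIdeal.isMaximal _).eq_of_le (Depth.isPrime_of_mem_associatedPrimes hq).ne_top hmq).symm
  subst hqm
  obtain ⟨-, s, hs⟩ := isAssociatedPrime_iff.mp hq
  have hsm : ∀ m ∈ IsLocalRing.maximalIdeal (X.presheaf.stalk x), m * s = 0 := fun m hm => by
    have := hs ▸ hm
    simpa [Submodule.mem_colon_singleton] using this
  have hs0 : s ≠ 0 := by
    rintro rfl
    exact (IsLocalRing.maximalIdeal.isMaximal _).ne_top (by rw [hs]; ext; simp [Submodule.mem_colon_singleton])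
  by_cases hcl : IsClosed ({x} : Set X)
  · refine absurd (eq_zero_of_maximalIdeal_mul hu x hcl ?_ s hsm) hs0
    by_contra hc
    push Not at hc
    haveI : Subsingleton X := ⟨fun a b => (hc a).trans (hc b).symm⟩
    haveI : Subsingleton (TopologicalSpace.IrreducibleCloseds X) :=
      ⟨fun A B => TopologicalSpace.IrreducibleCloseds.ext (by
        rcases Set.eq_univ_of_forall (fun y => Subsingleton.elim A.isIrreducible.1.some y ▸ A.isIrreducible.1.some_mem) with hA
        rcases Set.eq_univ_of_forall (fun y => Subsingleton.elim B.isIrreducible.1.some y ▸ B.isIrreducible.1.some_mem) with hB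
        exact hA.trans hB.symm)⟩
    have : topologicalKrullDim X ≤ 0 := Order.krullDim_nonpos_of_subsingleton
    rw [hdim] at this
    exact absurd this (by simp)
  · -- a point which is not closed has no proper generalization
    rw [ringKrullDim_stalk_eq_coheight]
    rw [WithBot.coe_le_zero]
    refine le_of_eq (Order.coheight_eq_zero.mpr fun y hxy => ?_)
    obtain ⟨z, hz, hzx⟩ : ∃ z ∈ closure ({x} : Set X), z ≠ x := by
      by_contra hc
      push Not at hc
      exact hcl (closure_eq_iff_isClosed.mp (Set.Subset.antisymm hc subset_closure))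
    by_contra hyx
    have h2 : (2 : WithBot ℕ∞) ≤ topologicalKrullDim X := by
      have e : topologicalKrullDim X = Order.krullDim X :=
        @Order.krullDim_eq_of_orderIso _ _ _ _ (irreducibleSetEquivPoints (α := X))
      rw [e]
      have hzx' : z < x := lt_of_le_not_ge (specializes_iff_mem_closure.mpr hz) fun h =>
        hzx ((specializes_iff_mem_closure.mpr hz).antisymm h).eq.symm
      have hxy' : x < y := lt_of_le_not_ge hxy hyx
      exact le_iSup_of_le ⟨2, ![z, x, y], fun i => by fin_cases i <;> assumption⟩ le_rfl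
    rw [hdim] at h2
    exact absurd h2 (by decide)

end Groth.Agent.S1534
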