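import Groth.Statements.S15340
import Groth.Agent.VBLib.Slope

set_option autoImplicit false
universe u
open CategoryTheory CategoryTheory.Limits AlgebraicGeometry
open VBCurve

namespace Groth.Agent.S15340

/-- Let X be a smooth proper integral curve (integral, smooth and proper of dimension one) over an
algebraically closed field k and E a finite locally free O_X-module of rank r ≥ 1 which is
slope-semistable and slope-stable (deg G · r ≤ deg E · r' for finite locally free submodules G of
rank r' ≥ 1, strictly when r' < r; degree = χ − rank·χ(O_X)). Then E is indecomposable: it is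
nonzero and whenever E ≅ E₁ ⊞ E₂ as O_X-modules, one of E₁, E₂ is zero. -/
theorem result (k : Type u) [Field k] [IsAlgClosed k] (X : Scheme.{u}) [X.Over (Spec (CommRingCat.of k))]
    [IsIntegral X] [IsProper (X ↘ Spec (CommRingCat.of k))] [Smooth (X ↘ Spec (CommRingCat.of k))]
    (hdim : topologicalKrullDim X = 1)
    (r : ℕ) (hr : 0 < r) (E : X.Modules) (hE : FlatMod.IsFinLocFreeOfRank r E)
    (hEss : ModFun.IsSlopeSemistable k X E r) (hEst : ModFun.IsSlopeStable k X E r) :
    ¬ IsZero E ∧ ∀ (E₁ E₂ : X.Modules), Nonempty (E ≅ E₁ ⊞ E₂) → IsZero E₁ ∨ IsZero E₂ := by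
  have hX : VBLib.GoodCurve k X := VBLib.goodCurve_of_smooth hdim
  have hE' := VBLib.isFinLocFree_of_ofRank hE
  have hst : VBLib.Stable k E := VBLib.stable_of hE hEst
  have hss := hX.ss_of_stable hE' hst
  refine ⟨fun hz => ?_, fun E₁ E₂ ⟨e⟩ => ?_⟩
  · haveI := hX.isLocallyNoetherian
    have hC : Coh.IsCoh E := VBLib.isCoh_of_ofRank hE
    obtain ⟨-, h⟩ := hX.dg_mono_cokernel (𝟙 E) hC hC
    have h' := (hX.dg_iso (hz.iso (isZero_cokernel_of_epi (𝟙 E))) hC
      (VBLib.isCoh_cokernel _ hC hC)).2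
    rw [VBLib.rk_eq hE] at h h'
    omega
  by_cases h0 : e.hom ≫ biprod.fst ≫ biprod.inl ≫ e.inv = 0
  · refine Or.inl ((IsZero.iff_id_eq_zero _).mpr ?_)
    have h1 := congrArg (fun f => biprod.inl ≫ e.inv ≫ f ≫ e.hom ≫ biprod.fst) h0
    simpa using h1
  · haveI := hX.isIso_of_stable hE' hE' hss hss (Or.inl ⟨hst, hst⟩) rfl _ h0
    haveI : Mono (e.hom ≫ biprod.fst) := by
      haveI : Mono ((e.hom ≫ biprod.fst) ≫ biprod.inl ≫ e.inv) := by
        rw [Category.assoc]; infer_instance
      exact mono_of_mono _ (biprod.inl ≫ e.inv)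
    refine Or.inr ((IsZero.iff_id_eq_zero _).mpr ?_)
    have h1 : (biprod.inr ≫ e.inv : E₂ ⟶ E) = 0 := by
      rw [← cancel_mono (e.hom ≫ biprod.fst)]
      simp
    have h2 := congrArg (fun f => f ≫ e.hom ≫ biprod.snd) h1
    simpa using h2

end Groth.Agent.S15340
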