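import Groth.Statements.S15343
import Groth.Agent.WeilFin27.Cover
import Groth.Agent.PrincFP.Basic


set_option autoImplicit false
universe u
open CategoryTheory CategoryTheory.Limits AlgebraicGeometry
open VBCurve
open Groth.Agent

namespace Groth.Agent.S15343

/-- Let X be a smooth proper integral curve (integral, smooth and proper of dimension one) over an
algebraically closed field k of characteristic zero, G a finite group scheme over k and j : P → X a
torsor (fppf-locally trivial) under the X-group scheme G ×_k X. If E is a finite locally free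
O_X-module of rank r with j^*E ≅ O_P^{⊕ r}, then E is finite in the sense of Weil: there are
distinct polynomials P' ≠ Q' with natural-number coefficients and P'(E) ≅ Q'(E), P'(E) being the
direct sum over i of P'_i copies of E^{⊗ i}. (The published statement says that in characteristic
zero an essentially finite bundle is finite; this row takes as hypothesis the characterisation of
essentially finite bundles as those trivialised by a torsor under a finite group scheme.) -/
theorem result (k : Type u) [Field k] [IsAlgClosed k] (X : Scheme.{u}) [X.Over (Spec (CommRingCat.of k))]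
    [IsIntegral X] [IsProper (X ↘ Spec (CommRingCat.of k))] [Smooth (X ↘ Spec (CommRingCat.of k))]
    (hdim : topologicalKrullDim X = 1) [CharZero k]
    (G : Scheme.{u}) [G.Over (Spec (CommRingCat.of k))] [GrpObj (G.asOver (Spec (CommRingCat.of k)))]
    [IsFinite (G ↘ Spec (CommRingCat.of k))]
    (P : Over X) (a : AlgGrp.Action (Red.bc (X ↘ Spec (CommRingCat.of k)) (G.asOver (Spec (CommRingCat.of k)))) P)
    (hP : NonAbH1.IsTorsorFor Scheme.fppfPrecoverage a)
    (r : ℕ) (E : X.Modules) (hE : FlatMod.IsFinLocFreeOfRank r E)
    (htriv : Nonempty ((Scheme.Modules.pullback P.hom).obj E ≅ FlatMod.freeMod P.left r)) :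
    ∃ P' Q' : Polynomial ℕ, P' ≠ Q' ∧ Nonempty ((∐ fun i : Fin (P'.natDegree + 1) => ∐ fun _ : Fin (P'.coeff ↑i) => CohB1.tensorPow E ↑i) ≅
      (∐ fun i : Fin (Q'.natDegree + 1) => ∐ fun _ : Fin (Q'.coeff ↑i) => CohB1.tensorPow E ↑i)) := by
  have hf := VBLib.isFinLocFree_of_ofRank hE
  obtain ⟨e⟩ := htriv
  haveI : IsFinite (G.asOver (Spec (CommRingCat.of k))).hom := ‹IsFinite (G ↘ Spec (CommRingCat.of k))›
  obtain ⟨h1, h2, h3⟩ := PrincFP.torsor_props (X ↘ Spec (CommRingCat.of k)) hP
  haveI : Surjective P.hom := by
    haveI : Surjective (G.asOver (Spec (CommRingCat.of k))).hom := by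
      refine ⟨fun y => ?_⟩
      obtain ⟨g⟩ : Nonempty G := ⟨(MonObj.one (X := G.asOver (Spec (CommRingCat.of k)))).left (default : (Spec (CommRingCat.of k) : Scheme.{u}))⟩
      exact ⟨g, Subsingleton.elim _ _⟩
    exact GITLib.property_of_torsor @Surjective
      (GITLib.isTorsorFor_mono Scheme.fppfPrecoverage_le_fpqcPrecoverage hP)
      (MorphismProperty.pullback_snd _ _ inferInstance)
  exact (WeilFin27.weilFinite_iff k hf).2 (WeilFin27.powGen_of_trivial P.hom k hf e)

end Groth.Agent.S15343
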