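import Groth.Statements.S15354
import Mathlib.AlgebraicGeometry.Morphisms.Immersion
import Mathlib.AlgebraicGeometry.Morphisms.Separated
import Mathlib.AlgebraicGeometry.FunctionField
import Mathlib.RingTheory.Valuation.ValuationRing
-- import your own Groth.Agent.* helpers here

set_option autoImplicit false
universe u
open CategoryTheory CategoryTheory.Limits AlgebraicGeometry
open Mor

namespace Groth.Agent.S15354
lemma asIdeal_SpecMap_field {A K : Type u} [CommRing A] [Field K] (φ : A →+* K)
    (p : Spec (CommRingCat.of K)) :
    (Spec.map (CommRingCat.ofHom φ) p).asIdeal = RingHom.ker φ := by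
  show Ideal.comap φ p.asIdeal = RingHom.ker φ
  have h : p.asIdeal = (⊥ : Ideal K) := (Ideal.eq_bot_or_top _).resolve_right p.isPrime.ne_top
  rw [h]; rfl

lemma isOpenImmersion_of_isImmersion_of_dense {Z T : Scheme.{u}} (i : Z ⟶ T) [IsImmersion i]
    [IsReduced T] (hd : DenseRange i.base) :
    IsIso i.liftCoborder ∧ (i.coborderRange : Set T) = Set.range i.base := by
  have hr : (i.coborderRange : Set T) = Set.range i.base := by
    show coborder (Set.range i.base) = Set.range i.base
    rw [coborder_eq_union_closure_compl, hd.closure_range, Set.compl_univ, Set.union_empty]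
  have : Surjective i.liftCoborder := by
    refine ⟨fun ⟨y, hy⟩ => ?_⟩
    have hy' : y ∈ Set.range i.base := hr ▸ hy
    obtain ⟨z, hz⟩ := hy'
    refine ⟨z, Subtype.ext ?_⟩
    exact (congrArg (fun φ : Z ⟶ T => φ z) i.liftCoborder_ι).trans hz
  exact ⟨isIso_of_isClosedImmersion_of_surjective _, hr⟩


/-- Let f : Y ⟶ X be a morphism of schemes, A a valuation ring with fraction field K and residue field
k, and ξ, η : Spec A ⟶ Y two A-points of Y over the same A-point of X. If ξ and η restrict to the
same K-point and to the same k-point of Y, then ξ = η. (The published statement is an equivalence,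
for algebraic spaces locally of finite presentation over a Noetherian scheme, between local
separatedness of f and conditions (a), (b); this row is the necessity of (a) in the case of schemes,
where no hypothesis on f is needed.) -/
theorem result {X Y : Scheme.{u}} (f : Y ⟶ X)
    (A : Type u) [CommRing A] [IsDomain A] [ValuationRing A] (K : Type u) [Field K] [Algebra A K]
    [IsFractionRing A K] (ξ η : Spec (CommRingCat.of A) ⟶ Y) (hf : ξ ≫ f = η ≫ f)
    (hK : Spec.map (CommRingCat.ofHom (algebraMap A K)) ≫ ξ = Spec.map (CommRingCat.ofHom (algebraMap A K)) ≫ η)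
    (hk : Spec.map (CommRingCat.ofHom (IsLocalRing.residue A)) ≫ ξ =
      Spec.map (CommRingCat.ofHom (IsLocalRing.residue A)) ≫ η) :
    ξ = η := by
  have hgen : genericPoint ↥(Spec (CommRingCat.of A)) ∈ Set.range (equalizer.ι ξ η).base := by
    refine ⟨(equalizer.lift _ hK).base default, ?_⟩
    rw [← Scheme.Hom.comp_apply, equalizer.lift_ι, genericPoint_eq_bot_of_affine]
    exact PrimeSpectrum.ext ((asIdeal_SpecMap_field _ _).trans
      ((RingHom.injective_iff_ker_eq_bot _).mp (IsFractionRing.injective A K)))
  have hcl : IsLocalRing.closedPoint A ∈ Set.range (equalizer.ι ξ η).base := by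
    refine ⟨(equalizer.lift _ hk).base default, ?_⟩
    rw [← Scheme.Hom.comp_apply, equalizer.lift_ι]
    exact PrimeSpectrum.ext ((asIdeal_SpecMap_field _ _).trans IsLocalRing.ker_residue)
  obtain ⟨hiso, hr⟩ := isOpenImmersion_of_isImmersion_of_dense (equalizer.ι ξ η)
    ((dense_iff_closure_eq.mpr (genericPoint_spec _)).mono
      (Set.singleton_subset_iff.mpr hgen))
  have htop : (equalizer.ι ξ η).coborderRange = ⊤ := by
    refine top_le_iff.mp fun p _ => ?_
    have hc : IsLocalRing.closedPoint A ∈ (equalizer.ι ξ η).coborderRange := by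
      exact hr.ge hcl
    exact (IsLocalRing.specializes_closedPoint p).mem_open (equalizer.ι ξ η).coborderRange.2 hc
  haveI : Surjective (equalizer.ι ξ η).coborderRange.ι := ⟨fun p =>
    ⟨⟨p, htop ▸ trivial⟩, rfl⟩⟩
  haveI : IsIso (equalizer.ι ξ η).coborderRange.ι :=
    ((Scheme.isoOfEq _ htop).trans (Scheme.topIso _)).isIso_hom |> fun h => by
      convert h using 1
      simp
  haveI : IsIso (equalizer.ι ξ η) := by
    rw [← (equalizer.ι ξ η).liftCoborder_ι]; infer_instance
  rw [← cancel_epi (equalizer.ι ξ η)]
  exact equalizer.condition ξ η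

end Groth.Agent.S15354
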