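import Groth.Statements.S15347
import Groth.Agent.S15354
import Mathlib.AlgebraicGeometry.ValuativeCriterion
import Mathlib.AlgebraicGeometry.Morphisms.IsIso
-- import your own Groth.Agent.* helpers here

set_option autoImplicit false
universe u
open CategoryTheory CategoryTheory.Limits AlgebraicGeometry
open Mor

namespace Groth.Agent.S15347

/-- Let f : Y ⟶ X be an immersion of schemes. Then: for every valuation ring A with fraction field K and
every commutative square Spec K ⟶ Y, Spec A ⟶ X over f such that some morphism from the spectrum of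
the residue field of A to Y lies over Spec A ⟶ X, the square admits a lift; and for every integral
domain A and every morphism s : Spec A ⟶ X such that the points of a dense subset of Spec A lift to
Y (the residue field of each such point maps to Y over s), there is a nonempty open subscheme U of
Spec A with a morphism U ⟶ Y over s. (The published statement is for a representable, locally
finitely presented morphism of algebraic stacks with locally Noetherian target and a quasi-compact
immersion, and also lists that f is a monomorphism; this row is the case of schemes, for any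
immersion and any target.) -/
theorem result {X Y : Scheme.{u}} (f : Y ⟶ X) [IsImmersion f] :
    (∀ S : ValuativeCommSq f,
        (∃ l₀ : Spec (CommRingCat.of (IsLocalRing.ResidueField S.R)) ⟶ Y,
            l₀ ≫ f = Spec.map (CommRingCat.ofHom (IsLocalRing.residue S.R)) ≫ S.i₂) →
          S.commSq.HasLift) ∧
      ∀ (A : Type u) [CommRing A] [IsDomain A] (s : Spec (CommRingCat.of A) ⟶ X) (D : Set ↥(Spec (CommRingCat.of A))),
        Dense D →
        (∀ p ∈ D, ∃ l : Spec ((Spec (CommRingCat.of A)).residueField p) ⟶ Y,
            l ≫ f = (Spec (CommRingCat.of A)).fromSpecResidueField p ≫ s) →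
          ∃ U : (Spec (CommRingCat.of A)).Opens, (U : Set ↥(Spec (CommRingCat.of A))).Nonempty ∧
            ∃ l : (U : Scheme.{u}) ⟶ Y, l ≫ f = U.ι ≫ s := by
  refine ⟨fun S ⟨l₀, hl₀⟩ => ?_, fun A _ _ s D hD hl => ?_⟩
  · set q := pullback.snd f S.i₂
    have hgen : Set.range (Spec.map (CommRingCat.ofHom (algebraMap S.R S.K))).base ⊆ Set.range q.base := by
      rintro _ ⟨p, rfl⟩
      exact ⟨(pullback.lift S.i₁ _ S.commSq.w).base p, by
        rw [← Scheme.Hom.comp_apply, pullback.lift_snd]⟩
    have hclo : Set.range (Spec.map (CommRingCat.ofHom (IsLocalRing.residue S.R))).base ⊆ Set.range q.base := by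
      rintro _ ⟨p, rfl⟩
      exact ⟨(pullback.lift l₀ _ hl₀).base p, by rw [← Scheme.Hom.comp_apply, pullback.lift_snd]⟩
    have hcl : IsLocalRing.closedPoint S.R ∈ Set.range q.base := by
      refine hclo ⟨default, PrimeSpectrum.ext ?_⟩
      exact (Groth.Agent.S15354.asIdeal_SpecMap_field _ _).trans IsLocalRing.ker_residue
    obtain ⟨hiso, hr⟩ := Groth.Agent.S15354.isOpenImmersion_of_isImmersion_of_dense q
      ((dense_iff_closure_eq.mpr (genericPoint_spec _)).mono (Set.singleton_subset_iff.mpr
        (hgen ⟨default, by
          rw [genericPoint_eq_bot_of_affine]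
          exact PrimeSpectrum.ext ((Groth.Agent.S15354.asIdeal_SpecMap_field _ _).trans
            ((RingHom.injective_iff_ker_eq_bot _).mp (IsFractionRing.injective S.R S.K)))⟩)))
    have htop : ∀ p, p ∈ q.coborderRange := fun p =>
      (IsLocalRing.specializes_closedPoint p).mem_open q.coborderRange.2 (hr.ge hcl)
    haveI : Surjective q.coborderRange.ι := ⟨fun p => ⟨⟨p, htop p⟩, rfl⟩⟩
    haveI : IsIso q.coborderRange.ι := (isIso_iff_isOpenImmersion_and_surjective _).mpr ⟨inferInstance, ‹_›⟩
    haveI : IsIso q := by rw [← q.liftCoborder_ι]; infer_instance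
    have hfac : (inv q ≫ pullback.fst f S.i₂) ≫ f = S.i₂ := by
      simp [q, pullback.condition]
    exact ⟨⟨⟨inv q ≫ pullback.fst f S.i₂, by
      rw [← cancel_mono f, Category.assoc, hfac]; exact S.commSq.w.symm, hfac⟩⟩⟩
  · set q := pullback.snd f s
    have hsub : D ⊆ Set.range q.base := fun p hp => by
      obtain ⟨l, hl⟩ := hl p hp
      exact ⟨(pullback.lift l _ hl).base default, by
        rw [← Scheme.Hom.comp_apply, pullback.lift_snd, Scheme.fromSpecResidueField_apply]⟩
    obtain ⟨hiso, hr⟩ := Groth.Agent.S15354.isOpenImmersion_of_isImmersion_of_dense q (hD.mono hsub)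
    refine ⟨q.coborderRange, ?_, inv q.liftCoborder ≫ pullback.fst f s, ?_⟩
    · rw [hr]; exact hD.nonempty.mono hsub
    · rw [Category.assoc, pullback.condition, IsIso.inv_comp_eq, ← Category.assoc,
        Scheme.Hom.liftCoborder_ι]

end Groth.Agent.S15347
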