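import Groth.Statements.S15350
import Groth.Agent.S1327
import Groth.Agent.VarBC.Conn
import Groth.Agent.AbVarLib.Basics

set_option autoImplicit false
set_option linter.style.haveILetI false
universe u
open CategoryTheory CategoryTheory.Limits AlgebraicGeometry
open MoreMor

namespace Groth.Agent.S15350

variable {S S' X : Scheme.{u}}

set_option maxHeartbeats 400000 in
/-- The image of a component of a fibre of a base change is a component of the fibre. -/
theorem image_component (f : X ⟶ S) (g : S' ⟶ S) (z : ↥(pullback f g)) :
    pullback.fst f g '' connectedComponentIn (pullback.snd f g ⁻¹' {pullback.snd f g z}) z =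
      connectedComponentIn (f ⁻¹' {g (pullback.snd f g z)}) (pullback.fst f g z) := by
  let f' := pullback.snd f g
  let g' := pullback.fst f g
  generalize hs : pullback.snd f g z = s'
  let fy := f.fiberToSpecResidueField (g s')
  let i := Spec.map (g.residueFieldMap s')
  have hc : IsPullback g' f' f g := IsPullback.of_hasPullback f g
  have h1 : IsPullback (pullback.fst fy i ≫ f.fiberι (g s')) (pullback.snd fy i) f
      (S'.fromSpecResidueField s' ≫ g) := by
    rw [← g.SpecMap_residueFieldMap_fromSpecResidueField]
    exact (IsPullback.of_hasPullback fy i).paste_horiz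
      (IsPullback.of_hasPullback f (S.fromSpecResidueField (g s')))
  let a := hc.lift (pullback.fst fy i ≫ f.fiberι (g s'))
    (pullback.snd fy i ≫ S'.fromSpecResidueField s') (h1.w.trans (Category.assoc _ _ _).symm)
  have ha : IsPullback a (pullback.snd fy i) f' (S'.fromSpecResidueField s') :=
    IsPullback.of_right (by rw [hc.lift_fst]; exact h1) (hc.lift_snd _ _ _) hc
  let e : pullback fy i ≅ f'.fiber s' := ha.isoPullback
  have hea : ∀ p, f'.fiberι s' (e.hom p) = a p := fun p => by
    rw [← Scheme.Hom.comp_apply]
    exact congrArg (fun m : pullback fy i ⟶ _ => m p) ha.isoPullback_hom_fst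
  have hga : ∀ p, g' (a p) = f.fiberι (g s') (pullback.fst fy i p) := fun p => by
    rw [← Scheme.Hom.comp_apply, hc.lift_fst, Scheme.Hom.comp_apply]
  obtain ⟨q, hq, -⟩ := Scheme.exists_preimage_of_isPullback ha z (IsLocalRing.closedPoint _)
    (by show f' z = _; rw [Scheme.fromSpecResidueField_apply]; exact hs)
  have hz : z = f'.fiberι s' (e.hom q) := (hea q).trans hq |>.symm
  have h2 : pullback.fst fy i '' connectedComponent q = connectedComponent (pullback.fst fy i q) := by
    letI := (g.residueFieldMap s').hom.toAlgebra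
    exact Groth.Agent.VarBC.image_connectedComponent (k := S.residueField (g s')) (K := S'.residueField s') fy q
  have h3 : (Scheme.homeoOfIso e) '' connectedComponent q = connectedComponent (e.hom q) := by
    have h := (Scheme.homeoOfIso e).image_connectedComponentIn (Set.mem_univ q)
    rw [Set.image_univ, (Scheme.homeoOfIso e).surjective.range_eq, connectedComponentIn_univ,
      connectedComponentIn_univ] at h
    exact h
  rw [hz, SecComp.connectedComponentIn_fibre, ← h3, Set.image_image, Set.image_image]
  have hpt : g' (f'.fiberι s' (e.hom q)) = f.fiberι (g s') (pullback.fst fy i q) :=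
    (congrArg g' (hea q)).trans (hga q)
  rw [show pullback.fst f g (f'.fiberι s' (e.hom q)) = _ from hpt, SecComp.connectedComponentIn_fibre,
    ← h2, Set.image_image]
  exact Set.image_congr fun p _ => (congrArg g' (hea p)).trans (hga p)

/-- Let f : X ⟶ S be smooth, quasi-compact and quasi-separated, let g : S' ⟶ S be universally open and
let e : S' ⟶ X satisfy e ≫ f = g. Then there is an open subset U of X (necessarily unique) such that
for every point s of S, U ∩ f⁻¹(s) is the union of those connected components of the fibre f⁻¹(s),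
with its subspace topology, which meet e(S'). -/
theorem result {S S' X : Scheme.{u}} (f : X ⟶ S)
    [Smooth f] [QuasiCompact f] [QuasiSeparated f] (g : S' ⟶ S) [UniversallyOpen g] (e : S' ⟶ X)
    (he : e ≫ f = g) :
    ∃ U : X.Opens, ∀ s : S, (U : Set ↥X) ∩ f.base ⁻¹' {s} =
      ⋃ x ∈ Set.range e.base ∩ f.base ⁻¹' {s}, connectedComponentIn (f.base ⁻¹' {s}) x := by
  let f' := pullback.snd f g
  let σ : S' ⟶ pullback f g := pullback.lift e (𝟙 S') (by rw [Category.id_comp, he])
  have hσ : σ ≫ f' = 𝟙 S' := pullback.lift_snd _ _ _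
  have hσe : ∀ t, pullback.fst f g (σ t) = e t := fun t => by
    rw [← Scheme.Hom.comp_apply, pullback.lift_fst]
  have hσ' : ∀ t, f' (σ t) = t := fun t => by rw [← Scheme.Hom.comp_apply, hσ]; rfl
  have hE : IsOpen (MoreMor.sectionComponents f' σ) := by
    rw [← interior_eq_iff_isOpen]
    refine subset_antisymm interior_subset fun x hx => ?_
    haveI : Smooth (f'.fiberToSpecResidueField (f' x)) :=
      inferInstanceAs (Smooth (pullback.snd f' (S'.fromSpecResidueField (f' x))))
    exact Groth.Agent.S1327.result f' σ hσ (f' x)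
      (AbVarLib.Basics.geometricallyReduced_of_smooth (K := S'.residueField (f' x)) _) hx
  refine ⟨⟨pullback.fst f g '' MoreMor.sectionComponents f' σ, (pullback.fst f g).isOpenMap _ hE⟩, fun s => ?_⟩
  have himg : ∀ t, pullback.fst f g '' connectedComponentIn (f' ⁻¹' {t}) (σ t) =
      connectedComponentIn (f ⁻¹' {g t}) (e t) := fun t => by
    have h := image_component f g (σ t)
    rw [hσe] at h
    simp only [show pullback.snd f g (σ t) = t from hσ' t] at h
    exact h
  ext x
  simp only [Set.mem_inter_iff, Set.mem_iUnion]
  constructor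
  · rintro ⟨⟨z, hz, rfl⟩, hs⟩
    have hz' : z ∈ connectedComponentIn (f' ⁻¹' {f' z}) (σ (f' z)) := hz
    have hgs : g (f' z) = s := by
      rw [← Scheme.Hom.comp_apply, ← pullback.condition, Scheme.Hom.comp_apply]; exact hs
    refine ⟨e (f' z), ⟨⟨_, rfl⟩, ?_⟩, ?_⟩
    · show f (e (f' z)) = s
      rw [← Scheme.Hom.comp_apply, he, hgs]
    · have h : pullback.fst f g z ∈ _ := (himg (f' z)).le ⟨z, hz', rfl⟩
      rwa [hgs] at h
  · rintro ⟨_, ⟨⟨t, rfl⟩, hts⟩, hx⟩
    have hgt : g t = s := by rw [← he, Scheme.Hom.comp_apply]; exact hts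
    refine ⟨?_, connectedComponentIn_subset _ _ hx⟩
    rw [← hgt] at hx
    obtain ⟨z, hz, rfl⟩ := (himg t).ge hx
    refine ⟨z, ?_, rfl⟩
    show z ∈ connectedComponentIn (f' ⁻¹' {f' z}) (σ (f' z))
    rw [show f' z = t from connectedComponentIn_subset (f' ⁻¹' {t}) _ hz]
    exact hz

end Groth.Agent.S15350
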