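import Groth.Statements.S15352
import Groth.Agent.GrpScheme.DenseOpen
import Groth.Agent.GrpScheme.Smooth
import Groth.Agent.GrpScheme.IdSubgroup

set_option autoImplicit false
universe u
open CategoryTheory CategoryTheory.Limits MonoidalCategory CartesianMonoidalCategory MonObj GrpObj AlgebraicGeometry
open GrpSch

namespace Groth.Agent.S15352

/-- Let k be an algebraically closed field, G a group scheme locally of finite type over k, G⁰ ⊆ G the
connected component of the unit point, and U a nonempty open subscheme of G contained in G⁰. Then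
every point of G⁰ is in the image of the morphism U ×_k U ⟶ G, (g, h) ↦ g·h⁻¹. (The published
statement writes U as an open of G mapping to G⁰ × G⁰; this row makes the containment U ⊆ G⁰
explicit.) -/
theorem result (k : Type u) [Field k] [IsAlgClosed k]
    (G : Over (Spec (CommRingCat.of k))) [GrpObj G] [LocallyOfFiniteType G.hom] (U : G.left.Opens)
    (hne : (U : Set ↥G.left).Nonempty)
    (hU : (U : Set ↥G.left) ⊆ connectedComponent (η[G].left.base (IsLocalRing.closedPoint k))) :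
    connectedComponent (η[G].left.base (IsLocalRing.closedPoint k)) ⊆ Set.range
      ((((Over.homMk U.ι rfl : Over.mk (U.ι ≫ G.hom) ⟶ G) ⊗ₘ
          ((Over.homMk U.ι rfl : Over.mk (U.ι ≫ G.hom) ⟶ G) ≫ ι[G])) ≫ μ[G]).left.base) := by
  intro x hx
  let G₀ := GrpScheme.IdSubgroup.G₀ G
  let incl := GrpScheme.IdSubgroup.incl G
  have hr := GrpScheme.IdSubgroup.range_incl G
  have hirr : IrreducibleSpace G₀.left := by
    have : Subsingleton (Spec (CommRingCat.of k)) := inferInstance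
    exact GeometricallyIrreducible.irreducibleSpace_of_subsingleton G₀.hom
  obtain ⟨x₀, rfl⟩ : x ∈ Set.range incl.left := hr.symm ▸ hx
  let U' : G₀.left.Opens := incl.left ⁻¹ᵁ U
  let V' : G₀.left.Opens := ι[G₀].left ⁻¹ᵁ U'
  have hU' : (U' : Set G₀.left).Nonempty := by
    obtain ⟨u, hu⟩ := hne
    obtain ⟨u₀, hu₀⟩ : u ∈ Set.range incl.left := hr.symm ▸ hU hu
    exact ⟨u₀, show incl.left u₀ ∈ U from hu₀.symm ▸ hu⟩
  have : IsIso ι[G₀].left := GrpScheme.Basic.isIso_left _
  have hV' : (V' : Set G₀.left).Nonempty := hU'.preimage ι[G₀].left.homeomorph.surjective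
  obtain ⟨p, hp1, hp2, hp3⟩ := GrpScheme.DenseOpen.exists_mul U' V' (U'.2.dense hU') (V'.2.dense hV') x₀
  let T := GrpScheme.Points.pointObj (G₀ ⊗ G₀) p
  let π := GrpScheme.Points.pointHom (G₀ ⊗ G₀) p
  let o : Over.mk (U.ι ≫ G.hom) ⟶ G := Over.homMk U.ι rfl
  have lift' : ∀ c : T ⟶ G, (∀ t, c.left t ∈ U) → ∃ d : T ⟶ Over.mk (U.ι ≫ G.hom), d ≫ o = c := by
    intro c hc
    have h : Set.range c.left ⊆ Set.range U.ι := by
      rintro _ ⟨t, rfl⟩; rw [Scheme.Opens.range_ι]; exact hc t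
    exact ⟨Over.homMk (IsOpenImmersion.lift U.ι c.left h) (by
      show _ ≫ U.ι ≫ G.hom = T.hom
      rw [IsOpenImmersion.lift_fac_assoc, Over.w]), Over.OverMorphism.ext (IsOpenImmersion.lift_fac _ _ h)⟩
  obtain ⟨d₁, hd₁⟩ := lift' (π ≫ fst _ _ ≫ incl) fun t => by
    rw [GrpScheme.Points.comp_apply, GrpScheme.Points.comp_apply, GrpScheme.Points.pointHom_apply]
    exact hp1
  obtain ⟨d₂, hd₂⟩ := lift' (π ≫ snd _ _ ≫ ι[G₀] ≫ incl) fun t => by
    rw [GrpScheme.Points.comp_apply, GrpScheme.Points.comp_apply, GrpScheme.Points.pointHom_apply,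
      GrpScheme.Points.comp_apply]
    exact hp2
  obtain ⟨t⟩ := (inferInstance : Nonempty T.left)
  refine ⟨(lift d₁ d₂).left t, ?_⟩
  have e : lift d₁ d₂ ≫ (o ⊗ₘ (o ≫ ι[G])) ≫ μ[G] = π ≫ μ[G₀] ≫ incl := by
    rw [lift_map_assoc, reassoc_of% hd₂, hd₁, ← GrpObj.inv_hom incl, reassoc_of% (GrpObj.inv_comp_inv G₀), IsMonHom.mul_hom]
    rw [← Category.assoc π (incl ⊗ₘ incl)]
    congr 1
    ext <;> simp
  show _ = incl.left x₀
  rw [← hp3, ← GrpScheme.Points.comp_apply μ[G₀] incl]
  refine (GrpScheme.Points.comp_apply _ _ _).symm.trans ?_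
  rw [e, GrpScheme.Points.comp_apply, GrpScheme.Points.pointHom_apply]

end Groth.Agent.S15352
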