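import Groth.Statements.S15353
import Groth.Agent.CAlg76.LiftProj

set_option autoImplicit false
universe u
open CAlg

namespace Groth.Agent.S15353

open TensorProduct in
theorem nonempty_equiv_of_baseChange {A' A : Type u} [CommRing A'] [CommRing A] [Algebra A' A]
    (hs : Function.Surjective (algebraMap A' A)) (hnil : IsNilpotent (RingHom.ker (algebraMap A' A)))
    (P : Type u) [AddCommGroup P] [Module A' P] [Module.Finite A' P] [Module.Projective A' P]
    (e : A ⊗[A'] P ≃ₗ[A] A) : Nonempty (A' ≃ₗ[A'] P) := by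
  set I := RingHom.ker (algebraMap A' A)
  have hIj : I ≤ (⊥ : Ideal A').jacobson := by
    obtain ⟨n, hn⟩ := hnil
    intro x hx
    refine Ideal.radical_le_jacobson ⟨n, ?_⟩
    show x ^ n ∈ (⊥ : Ideal A')
    rw [Ideal.mem_bot]
    have := Ideal.pow_mem_pow hx n
    rw [hn] at this
    exact this
  obtain ⟨m, hm⟩ := TensorProduct.mk_surjective A' P A hs (e.symm 1)
  let g : A' →ₗ[A'] P := LinearMap.toSpanSingleton A' P m
  have hg : Function.Surjective g := by
    rw [← LinearMap.range_eq_top, ← top_le_iff]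
    refine Submodule.le_of_le_smul_of_le_jacobson_bot Module.Finite.fg_top hIj fun y _ => ?_
    obtain ⟨a, ha⟩ := hs (e ((1 : A) ⊗ₜ[A'] y))
    have h0 : (1 : A) ⊗ₜ[A'] (y - a • m) = 0 := by
      apply e.injective
      rw [tmul_sub, map_sub, map_zero, tmul_smul, ← algebraMap_smul A a ((1 : A) ⊗ₜ[A'] m), map_smul,
        show (1 : A) ⊗ₜ[A'] m = e.symm 1 from hm, LinearEquiv.apply_symm_apply, smul_eq_mul, mul_one, ha, sub_self]
    have hmem : y - a • m ∈ I • (⊤ : Submodule A' P) := by
      let eq : (A' ⧸ I) ≃ₗ[A'] A := LinearEquiv.ofBijective ((Submodule.liftQ I (Algebra.linearMap A' A) (fun x hx => hx))) (by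
        constructor
        · rw [← LinearMap.ker_eq_bot]; exact Submodule.ker_liftQ_eq_bot _ _ _ (fun x hx => hx)
        · intro z; obtain ⟨z, rfl⟩ := hs z; exact ⟨Submodule.Quotient.mk z, rfl⟩)
      have h1 : (TensorProduct.congr eq (LinearEquiv.refl A' P)).symm ((1 : A) ⊗ₜ[A'] (y - a • m)) = 0 := by rw [h0, map_zero]
      rw [TensorProduct.congr_symm_tmul, show eq.symm (1 : A) = Ideal.Quotient.mk I 1 from eq.symm_apply_eq.2 (map_one (algebraMap A' A)).symm,
        ← (TensorProduct.quotTensorEquivQuotSMul P I).map_eq_zero_iff, LinearEquiv.refl_symm, LinearEquiv.refl_apply,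
        TensorProduct.quotTensorEquivQuotSMul_mk_tmul, one_smul, Submodule.Quotient.mk_eq_zero] at h1
      exact h1
    exact Submodule.mem_sup.2 ⟨a • m, ⟨a, rfl⟩, y - a • m, hmem, add_sub_cancel _ _⟩
  refine ⟨LinearEquiv.ofBijective g ⟨?_, hg⟩⟩
  refine Groth.Agent.CAlg76.LiftProj.injective_of_ker_le I hIj g hg fun x hx => ?_
  rw [smul_eq_mul, Ideal.mul_top]
  show algebraMap A' A x = 0
  have h1 : e ((1 : A) ⊗ₜ[A'] (x • m)) = algebraMap A' A x := by
    rw [tmul_smul, ← algebraMap_smul A x ((1 : A) ⊗ₜ[A'] m), map_smul,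
      show (1 : A) ⊗ₜ[A'] m = e.symm 1 from hm, LinearEquiv.apply_symm_apply, smul_eq_mul, mul_one]
  rw [← h1, show x • m = 0 from hx, tmul_zero, map_zero]

/-- Let f : A' → A be a surjective ring homomorphism whose kernel is a nilpotent ideal. Then the induced
homomorphism of Picard groups Pic(A') → Pic(A), base change of invertible modules along f, is
bijective. -/
theorem result {A' A : Type u} [CommRing A'] [CommRing A]
    (f : A' →+* A) (hf : Function.Surjective f) (hker : IsNilpotent (RingHom.ker f)) :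
    Function.Bijective (CommRing.Pic.mapRingHom f) := by
  classical
  letI := f.toAlgebra
  change Function.Bijective (CommRing.Pic.mapAlgebra A' A)
  constructor
  · rw [injective_iff_map_eq_one]
    intro M hM
    obtain ⟨e⟩ := CommRing.Pic.mk_eq_one_iff.1 hM
    obtain ⟨g⟩ := nonempty_equiv_of_baseChange hf hker M.AsModule e
    rw [← CommRing.Pic.mk_eq_self (M := M), CommRing.Pic.mk_eq_one_iff]
    exact ⟨g.symm⟩
  · intro L
    have hbot : IsAdicComplete (⊥ : Ideal A) A := inferInstance
    have hlift : ∀ (n : ℕ) (m : Matrix (Fin n) (Fin n) A), m * m = m →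
        ∃ e : Matrix (Fin n) (Fin n) A', e * e = e ∧ ∀ i j, f (e i j) - m i j ∈ (⊥ : Ideal A) := by
      intro n m hm
      obtain ⟨e, he, hem⟩ := Groth.Agent.CAlg76.LiftProj.exists_idempotent_matrix_of_nil f hf (fun x hx => by
        obtain ⟨k, hk⟩ := hker
        exact ⟨k, by have := Ideal.pow_mem_pow (RingHom.mem_ker.2 hx : x ∈ RingHom.ker f) k; rwa [hk] at this⟩) m hm
      exact ⟨e, he, fun i j => by rw [← hem, Matrix.map_apply, sub_self]; exact zero_mem _⟩
    have key : ∀ (Q : Type u) [AddCommGroup Q] [Module A Q] [Module.Finite A Q] [Module.Projective A Q],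
        ∃ (Q' : Type u) (_ : AddCommGroup Q') (_ : Module A' Q'), Module.Finite A' Q' ∧ Module.Projective A' Q' ∧
          Nonempty (TensorProduct A' A Q' ≃ₗ[A] Q) := by
      intro Q _ _ _ _
      obtain ⟨Q', i1, i2, hfin, hproj, π, hπ, hπk⟩ :=
        Groth.Agent.CAlg76.LiftProj.exists_lift f hf ⊥ hlift Q
      refine ⟨Q', i1, i2, hfin, hproj, ?_⟩
      letI : Module A' Q := Module.compHom Q f
      haveI : IsScalarTower A' A Q := ⟨fun a b q => by
        show (a • b) • q = f a • b • q
        rw [Algebra.smul_def, mul_smul]; rfl⟩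
      let π' : Q' →ₗ[A'] Q := { toFun := π, map_add' := map_add π, map_smul' := fun b x => map_smulₛₗ π b x }
      refine ⟨LinearEquiv.ofBijective (LinearMap.liftBaseChange A π') ⟨?_, ?_⟩⟩
      · rw [injective_iff_map_eq_zero]
        intro z hz
        obtain ⟨q, rfl⟩ := TensorProduct.mk_surjective A' Q' A hf z
        have hq : q ∈ LinearMap.ker π := by
          have : (1 : A) • π q = 0 := hz
          rwa [one_smul] at this
        rw [hπk] at hq
        show (1 : A) ⊗ₜ[A'] q = 0
        clear hz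
        induction hq using Submodule.smul_induction_on' with
        | smul a ha x _ =>
          rw [TensorProduct.tmul_smul, TensorProduct.smul_tmul', show a • (1 : A) = 0 by
            rw [Algebra.smul_def, mul_one]; exact ha, TensorProduct.zero_tmul]
        | add x _ y _ hx hy => rw [TensorProduct.tmul_add, hx, hy, add_zero]
      · intro q
        obtain ⟨q', rfl⟩ := hπ q
        exact ⟨(1 : A) ⊗ₜ q', one_smul A _⟩
    obtain ⟨P, i1, i2, hPf, hPp, ⟨eP⟩⟩ := key L.AsModule
    obtain ⟨P₂, j1, j2, hP₂f, hP₂p, ⟨eP₂⟩⟩ := key (Module.Dual A L.AsModule)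
    let e : TensorProduct A' A (TensorProduct A' P₂ P) ≃ₗ[A] A :=
      TensorProduct.AlgebraTensorModule.distribBaseChange A' A P₂ P ≪≫ₗ TensorProduct.congr eP₂ eP ≪≫ₗ Module.Invertible.linearEquiv A L.AsModule
    obtain ⟨g⟩ := nonempty_equiv_of_baseChange hf hker (TensorProduct A' P₂ P) e
    haveI : Module.Invertible A' P := Module.Invertible.right g.symm
    refine ⟨CommRing.Pic.mk A' P, ?_⟩
    rw [← CommRing.Pic.mk_eq_self (M := L)]
    show CommRing.Pic.mk A (TensorProduct A' A (CommRing.Pic.mk A' P).AsModule) = _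
    rw [CommRing.Pic.mk_eq_mk_iff]
    exact ⟨(TensorProduct.AlgebraTensorModule.congr (LinearEquiv.refl A A) (CommRing.Pic.mk_eq_iff.1 rfl).some.symm) ≪≫ₗ eP⟩

end Groth.Agent.S15353
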