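import Groth.Statements.S15355
import Mathlib.AlgebraicGeometry.Morphisms.Immersion
import Mathlib.AlgebraicGeometry.Morphisms.Separated
-- import your own Groth.Agent.* helpers here

set_option autoImplicit false
universe u
open CategoryTheory CategoryTheory.Limits AlgebraicGeometry
open Mor

namespace Groth.Agent.S15355
lemma isOpenImmersion_of_isImmersion_of_dense {Z T : Scheme.{u}} (i : Z ⟶ T) [IsImmersion i]
    [IsReduced T] (hd : DenseRange i.base) :
    IsIso i.liftCoborder ∧ (i.coborderRange : Set T) = Set.range i.base := by
  have hr : (i.coborderRange : Set T) = Set.range i.base := by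
    show coborder (Set.range i.base) = Set.range i.base
    rw [coborder_eq_union_closure_compl, hd.closure_range, Set.compl_univ, Set.union_empty]
  have : Surjective i.liftCoborder := by
    refine ⟨fun ⟨y, hy⟩ => ?_⟩
    have hy' : y ∈ Set.range i.base := hr ▸ hy
    obtain ⟨z, hz⟩ := hy'
    refine ⟨z, Subtype.ext ?_⟩
    exact (congrArg (fun φ : Z ⟶ T => φ z) i.liftCoborder_ι).trans hz
  exact ⟨isIso_of_isClosedImmersion_of_surjective _, hr⟩


/-- Let f : Y ⟶ X be a morphism of schemes, A an integral domain and ξ, η : Spec A ⟶ Y two A-points of Y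
over the same A-point of X. If ξ and η induce the same κ(p)-point of Y at every point p of some
dense subset of Spec A, then ξ and η agree on a nonempty open subscheme of Spec A. (The published
statement is an equivalence, for algebraic spaces locally of finite presentation over a Noetherian
scheme, between local separatedness of f and conditions (a), (b); this row is the necessity of (b)
in the case of schemes, where no hypothesis on f is needed.) -/
theorem result {X Y : Scheme.{u}} (f : Y ⟶ X)
    (A : Type u) [CommRing A] [IsDomain A] (ξ η : Spec (CommRingCat.of A) ⟶ Y) (hf : ξ ≫ f = η ≫ f)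
    (D : Set ↥(Spec (CommRingCat.of A))) (hD : Dense D)
    (hpt : ∀ p ∈ D, (Spec (CommRingCat.of A)).fromSpecResidueField p ≫ ξ =
      (Spec (CommRingCat.of A)).fromSpecResidueField p ≫ η) :
    ∃ U : (Spec (CommRingCat.of A)).Opens, (U : Set ↥(Spec (CommRingCat.of A))).Nonempty ∧ U.ι ≫ ξ = U.ι ≫ η := by
  obtain ⟨hiso, hr⟩ := isOpenImmersion_of_isImmersion_of_dense (equalizer.ι ξ η) (hD.mono fun p hp =>
    ⟨(equalizer.lift _ (hpt p hp)).base default, by
      rw [← Scheme.Hom.comp_apply, equalizer.lift_ι, Scheme.fromSpecResidueField_apply]⟩)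
  refine ⟨(equalizer.ι ξ η).coborderRange, ?_, ?_⟩
  · obtain ⟨p, hp⟩ := hD.nonempty
    rw [hr]
    exact ⟨p, (equalizer.lift _ (hpt p hp)).base default, by
      rw [← Scheme.Hom.comp_apply, equalizer.lift_ι, Scheme.fromSpecResidueField_apply]⟩
  · rw [← cancel_epi (equalizer.ι ξ η).liftCoborder]
    simp only [← Category.assoc, Scheme.Hom.liftCoborder_ι]
    exact equalizer.condition ξ η

end Groth.Agent.S15355
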