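import Groth.Statements.S15362
import Mathlib

set_option autoImplicit false
universe u v w
open CAlg

namespace Groth.Agent.S15362

open Polynomial

theorem exists_sub_eq {p : ℕ} [Fact p.Prime] {L : Type u} [Field L] [IsAlgClosed L] [CharP L p]
    {M : Type w} [AddCommGroup M] [Module L M] (ψ : M → M) (hadd : ∀ a b, ψ (a + b) = ψ a + ψ b)
    (hsmul : ∀ (l : L) m, ψ (l • m) = l ^ p • ψ m) (y : M) (d : ℕ) (a : ℕ → L)
    (ha : ψ^[d + 1] y = ∑ i ∈ Finset.range (d + 1), a i • ψ^[i] y) :
    ∃ x, ψ x - x = y := by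
  let P : ℕ → L[X] := fun i => Nat.rec (C (a 0) * X ^ p - 1) (fun k Pk => Pk ^ p + C (a (k + 1)) * X ^ p) i
  have hder : ∀ i, derivative (P i) = 0 := by
    intro i
    induction i with
    | zero => simp [P, derivative_X_pow]
    | succ k _ =>
      show derivative (P k ^ p + C (a (k + 1)) * X ^ p) = 0
      simp [derivative_X_pow, derivative_pow]
  have hdeg : (P d - X).degree ≠ 0 := by
    intro h
    have := congrArg derivative (eq_C_of_degree_eq_zero h)
    simp [hder] at this
  obtain ⟨t, ht⟩ := IsAlgClosed.exists_root (P d - X) hdeg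
  simp only [IsRoot.def, eval_sub, eval_X, sub_eq_zero] at ht
  let c : ℕ → L := fun i => (P i).eval t
  refine ⟨∑ i ∈ Finset.range (d + 1), c i • ψ^[i] y, ?_⟩
  let Ψ : M →+ M := AddMonoidHom.mk' ψ hadd
  have h1 : ψ (∑ i ∈ Finset.range (d + 1), c i • ψ^[i] y) =
      ∑ i ∈ Finset.range (d + 1), c i ^ p • ψ^[i + 1] y := by
    refine (map_sum Ψ _ _).trans (Finset.sum_congr rfl fun i _ => ?_)
    show ψ (c i • ψ^[i] y) = _
    rw [hsmul, Function.iterate_succ_apply']
  rw [h1, Finset.sum_range_succ, show c d = t from ht, ha, Finset.smul_sum, Finset.sum_range_succ' (fun i => t ^ p • a i • ψ^[i] y),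
    Finset.sum_range_succ' (fun i => c i • ψ^[i] y), ← add_assoc, ← Finset.sum_add_distrib]
  have hc : ∀ i, c (i + 1) = c i ^ p + a (i + 1) * t ^ p := fun i => by
    show (P i ^ p + C (a (i + 1)) * X ^ p).eval t = _
    simp [c]
  have hc0 : c 0 = a 0 * t ^ p - 1 := by
    show (C (a 0) * X ^ p - 1).eval t = _
    simp
  simp only [Function.iterate_zero_apply, smul_smul, ← add_smul, hc, hc0, sub_smul, one_smul,
    mul_comm (t ^ p)]
  abel

theorem exists_sub_eq_of_finite {p : ℕ} [Fact p.Prime] {L : Type u} [Field L] [IsAlgClosed L] [CharP L p]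
    {M : Type w} [AddCommGroup M] [Module L M] (ψ : M → M) (hadd : ∀ a b, ψ (a + b) = ψ a + ψ b)
    (hsmul : ∀ (l : L) m, ψ (l • m) = l ^ p • ψ m) (V : Submodule L M) [Module.Finite L V]
    (hV : ∀ m ∈ V, ψ m ∈ V) (y : M) (hy : y ∈ V) : ∃ x, ψ x - x = y := by
  have hmem : ∀ i, ψ^[i] y ∈ V := fun i => by
    induction i with
    | zero => exact hy
    | succ k ih => rw [Function.iterate_succ_apply']; exact hV _ ih
  let f : ℕ → V := fun i => ⟨ψ^[i] y, hmem i⟩
  let S : ℕ →o Submodule L V :=
    ⟨fun n => Submodule.span L (f '' (Finset.range n : Set ℕ)), fun m n hmn =>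
      Submodule.span_mono (Set.image_mono (Finset.coe_subset.mpr (Finset.range_mono hmn)))⟩
  obtain ⟨n, hn⟩ := monotone_stabilizes_iff_noetherian.mpr (inferInstance : IsNoetherian L V) S
  have : f (n + 1) ∈ S (n + 1) := by
    rw [← hn (n + 1) (Nat.le_succ n), hn (n + 2) (by omega)]
    exact Submodule.subset_span ⟨n + 1, by simp, rfl⟩
  obtain ⟨a, ha⟩ := (Submodule.mem_span_image_finset_iff_exists_fun L).mp this
  classical
  refine exists_sub_eq ψ hadd hsmul y n (fun i => if h : i < n + 1 then a ⟨i, by simpa using h⟩ else 0) ?_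
  have := congrArg Subtype.val ha
  simp only [Submodule.coe_sum, Submodule.coe_smul, f] at this
  rw [← this, ← Finset.sum_coe_sort (Finset.range (n + 1))]
  refine Finset.sum_congr rfl fun i _ => ?_
  rw [dif_pos (Finset.mem_range.mp i.2)]

/-- For an algebraically closed field L of characteristic p > 0, a commutative L-algebra R integral over
L, and a finitely presented R-module M carrying an additive endomorphism φ with φ(r·m) = r^p·φ(m)
for r ∈ R, m ∈ M, the map m ↦ φ(m) − m is onto. (R is taken of exponential characteristic p so that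
its Frobenius is a ring endomorphism; for a non-zero L-algebra this is automatic.) -/
theorem result (p : ℕ) [Fact p.Prime]
    (L : Type u) [Field L] [IsAlgClosed L] [CharP L p]
    (R : Type v) [CommRing R] [Algebra L R] [Algebra.IsIntegral L R] [ExpChar R p]
    (M : Type w) [AddCommGroup M] [Module R M] [Module.FinitePresentation R M]
    (φ : M →ₛₗ[frobenius R p] M) :
    Function.Surjective fun m : M => φ m - m := by
  letI : Module L M := Module.compHom M (algebraMap L R)
  haveI : IsScalarTower L R M := IsScalarTower.of_algebraMap_smul fun _ _ => rfl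
  intro y
  obtain ⟨k, s, hs⟩ := Module.Finite.exists_fin (R := R) (M := M)
  have hsurj : ∀ m : M, ∃ c : Fin k → R, ∑ i, c i • s i = m := fun m =>
    (Submodule.mem_span_range_iff_exists_fun R).mp (hs ▸ Submodule.mem_top)
  choose cy hcy using hsurj
  let T : Set R := Set.range (cy y) ∪ Set.range (fun ij : Fin k × Fin k => cy (φ (s ij.1)) ij.2)
  have hT : T.Finite := (Set.finite_range _).union (Set.finite_range _)
  let R₀ : Subalgebra L R := Algebra.adjoin L T
  haveI : Module.Finite L R₀ :=
    Algebra.finite_adjoin_of_finite_of_isIntegral hT fun x _ => Algebra.IsIntegral.isIntegral x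
  let g : (Fin k → R₀) →ₗ[L] M :=
    { toFun := fun c => ∑ i, (c i : R) • s i
      map_add' := fun a b => by simp [add_smul, Finset.sum_add_distrib]
      map_smul' := fun l a => by simp [Finset.smul_sum, smul_assoc] }
  have hV : ∀ m ∈ LinearMap.range g, φ m ∈ LinearMap.range g := by
    rintro _ ⟨c, rfl⟩
    refine ⟨fun j => ∑ i, ⟨(c i : R) ^ p * cy (φ (s i)) j, R₀.mul_mem (R₀.pow_mem (c i).2 p)
      (Algebra.subset_adjoin (Or.inr ⟨(i, j), rfl⟩))⟩, ?_⟩
    show ∑ j, ((∑ i, ⟨(c i : R) ^ p * cy (φ (s i)) j, _⟩ : R₀) : R) • s j = φ (∑ i, (c i : R) • s i)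
    simp only [AddSubmonoidClass.coe_finset_sum, Finset.sum_smul, map_sum, LinearMap.map_smulₛₗ,
      frobenius_def]
    rw [Finset.sum_comm]
    refine Finset.sum_congr rfl fun i _ => ?_
    conv_rhs => rw [← hcy (φ (s i))]
    simp [Finset.smul_sum, mul_smul]
  have hy : y ∈ LinearMap.range g :=
    ⟨fun i => ⟨cy y i, Algebra.subset_adjoin (Or.inl ⟨i, rfl⟩)⟩, hcy y⟩
  refine exists_sub_eq_of_finite (p := p) (fun m => φ m) (fun a b => map_add φ a b) (fun l m => ?_)
    (LinearMap.range g) hV y hy
  show φ (algebraMap L R l • m) = algebraMap L R (l ^ p) • φ m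
  rw [LinearMap.map_smulₛₗ, frobenius_def, map_pow]

end Groth.Agent.S15362
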