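import Groth.Statements.S15364
import Groth.Agent.GITLib.RigidGroup
import Mathlib.Topology.Separation.Connected
-- import your own Groth.Agent.* helpers here

set_option autoImplicit false
universe u
open CategoryTheory CategoryTheory.Limits MonoidalCategory CartesianMonoidalCategory AlgebraicGeometry
open AbSch

namespace Groth.Agent.S15364

/-- For an abelian scheme f : A → T (a commutative T-group scheme, proper and smooth over T with
geometrically connected fibres) and a commutative group scheme H finite and locally free over T, the
adjunction map H → f_* f^* H of fppf sheaves on T is an isomorphism, i.e. for every T-scheme U the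
map H(U) → H(A ×_T U), s ↦ s ∘ pr, is bijective. This row states the case U = T, to which the
general case reduces by base change: composition with the structure morphism A → T is a bijection
from the sections of H over T onto the T-morphisms A → H. The group structure of H plays no role and
is not assumed. (The published statement has an arbitrary base T; the published argument rests on
the rigidity lemma in its form for Noetherian schemes, so T is taken locally Noetherian here.) -/
theorem result {T : Scheme.{u}} [IsLocallyNoetherian T]
    (A : Over T) [GrpObj A] [IsCommMonObj A] [IsProper A.hom] [Smooth A.hom] [GeometricallyConnected A.hom]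
    (H : Over T) [IsFinite H.hom] [Flat H.hom] [LocallyOfFinitePresentation H.hom] :
    Function.Bijective fun s : (𝟙_ (Over T) ⟶ H) => toUnit A ≫ s := by
  open Groth.Agent.GITLib.Rigid in
  exact (by
    have hc : ∀ s : T, ConnectedSpace (Red.geomFibre s A).left := fun s =>
      GeometricallyConnected.geometrically_connectedSpace (f := A.hom) (Red.geomPt s) _ _ (IsPullback.of_hasPullback _ _)
    have h0 := constFibres_of_geomFibre A hc
    refine ⟨fun s s' h => ?_, fun φ => ?_⟩
    · have h2 := congrArg (MonObj.one (X := A) ≫ ·) h
      simp only [← Category.assoc, toUnit_unique (MonObj.one (X := A) ≫ toUnit A) (𝟙 _), Category.id_comp] at h2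
      exact h2
    · have : IsLocallyNoetherian A.left := LocallyOfFiniteType.isLocallyNoetherian A.hom
      have hall : ∀ s, Collapsed A.hom φ.left s := by
        intro s x x' hx hx'
        have : PreconnectedSpace (A.hom.base ⁻¹' {s}) :=
          isPreconnected_iff_preconnectedSpace.1 (isConnected_fibre A hc s)
        have : DiscreteTopology (H.hom.base ⁻¹' {s}) :=
          isDiscrete_iff_discreteTopology.1 (H.hom.isDiscrete_preimage_singleton s)
        have hm : ∀ a : A.left, A.hom.base a = s → H.hom.base (φ.left.base a) = s := fun a ha => by
          rw [← Scheme.Hom.comp_apply, Over.w φ, ha]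
        let g : (A.hom.base ⁻¹' {s}) → (H.hom.base ⁻¹' {s}) := fun a => ⟨φ.left.base a.1, hm a.1 a.2⟩
        have hg : Continuous g := (φ.left.base.hom.continuous.comp continuous_subtype_val).subtype_mk _
        exact congrArg Subtype.val (PreconnectedSpace.constant ‹_› hg (x := ⟨x, hx⟩) (y := ⟨x', hx'⟩))
      obtain ⟨t, ht1, ht2⟩ := (proper_rigidity A.hom H.hom φ.left (Over.w φ) h0).2 hall
      exact ⟨Over.homMk t ht1, Over.OverMorphism.ext ht2.symm⟩)

end Groth.Agent.S15364
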