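import Groth.Statements.S15365
import Mathlib

set_option autoImplicit false
universe u
open scoped BigOperators
open CAlg

namespace Groth.Agent.S15365

open MvPolynomial

variable (p : ℕ) {A : Type u} [CommRing A] {n : ℕ} (h : Matrix (Fin n) (Fin n) A)

noncomputable abbrev rel : Ideal (MvPolynomial (Fin n) A) :=
  Ideal.span (Set.range fun j : Fin n =>
        (MvPolynomial.X j : MvPolynomial (Fin n) A) ^ p -
          ∑ i : Fin n, MvPolynomial.C (h i j) * MvPolynomial.X i)

theorem aeval_rel {C : Type u} [CommRing C] [Algebra A C] (v : Fin n → C) (j : Fin n) :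
    aeval v ((MvPolynomial.X j : MvPolynomial (Fin n) A) ^ p -
          ∑ i : Fin n, MvPolynomial.C (h i j) * MvPolynomial.X i) =
      v j ^ p - Matrix.vecMul v (h.map (algebraMap A C)) j := by
  simp [Matrix.vecMul, dotProduct, mul_comm]

noncomputable def point {C : Type u} [CommRing C] [Algebra A C] (v : Fin n → C)
    (hv : ∀ j, v j ^ p - Matrix.vecMul v (h.map (algebraMap A C)) j = 0) :
    (MvPolynomial (Fin n) A ⧸ rel p h) →ₐ[A] C :=
  Ideal.Quotient.liftₐ _ (aeval v) (by
    intro a ha
    refine (Ideal.span_le (I := RingHom.ker (aeval (R := A) v)) |>.mpr ?_) ha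
    rintro _ ⟨j, rfl⟩
    exact (aeval_rel p h v j).trans (hv j))

theorem point_X {C : Type u} [CommRing C] [Algebra A C] (v : Fin n → C)
    (hv : ∀ j, v j ^ p - Matrix.vecMul v (h.map (algebraMap A C)) j = 0) (i : Fin n) :
    point p h v hv (Ideal.Quotient.mk _ (X i)) = v i := by
  exact aeval_X v i

theorem hom_rel {C : Type u} [CommRing C] [Algebra A C]
    (g : (MvPolynomial (Fin n) A ⧸ rel p h) →ₐ[A] C) (j : Fin n) :
    g (Ideal.Quotient.mk _ (X j)) ^ p -
      Matrix.vecMul (fun i => g (Ideal.Quotient.mk _ (X i))) (h.map (algebraMap A C)) j = 0 := by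
  rw [← aeval_rel p h (fun i => g (Ideal.Quotient.mk _ (X i))) j]
  have : (aeval fun i => g (Ideal.Quotient.mk _ (X i))) = g.comp (Ideal.Quotient.mkₐ A (rel p h)) := by
    ext i; simp
  have hm : ((X j : MvPolynomial (Fin n) A) ^ p - ∑ i, MvPolynomial.C (h i j) * X i) ∈ rel p h :=
    Ideal.subset_span ⟨j, rfl⟩
  rw [this, AlgHom.comp_apply, Ideal.Quotient.mkₐ_eq_mk,
    Ideal.Quotient.eq_zero_iff_mem.mpr hm, map_zero]

theorem add_pow_prime (hp : p.Prime) {C : Type u} [CommRing C] (hp0 : (p : C) = 0) {x d : C}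
    (hd : d * d = 0) : (x + d) ^ p = x ^ p := by
  obtain ⟨r, hr⟩ := exists_add_pow_prime_eq hp x d
  have : d ^ p = 0 := by
    obtain ⟨k, rfl⟩ := Nat.exists_eq_add_of_le hp.two_le
    rw [pow_add, pow_two, hd, zero_mul]
  rw [hr, hp0, this]
  simp

theorem formallyEtale [Fact p.Prime] [CharP A p] (hdet : IsUnit h.det) :
    Algebra.FormallyEtale A (MvPolynomial (Fin n) A ⧸ rel p h) := by
  rw [Algebra.FormallyEtale.iff_comp_bijective]
  intro C _ _ I hI
  have hp := (Fact.out : p.Prime)
  have hp0 : (p : C) = 0 := by rw [← map_natCast (algebraMap A C), CharP.cast_eq_zero, map_zero]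
  have hII : ∀ {d : C}, d ∈ I → d * d = 0 := fun {d} hd => by
    have := Ideal.mul_mem_mul hd hd
    rwa [← pow_two, hI, Ideal.mem_bot] at this
  have hM : IsUnit (h.map (algebraMap A C)).det := by
    rw [← RingHom.mapMatrix_apply, ← RingHom.map_det]; exact hdet.map _
  constructor
  · intro g g' hgg
    refine Ideal.Quotient.algHom_ext _ (MvPolynomial.algHom_ext fun i => ?_)
    change g (Ideal.Quotient.mk _ (X i)) = g' (Ideal.Quotient.mk _ (X i))
    have hd : ∀ i, g (Ideal.Quotient.mk _ (X i)) - g' (Ideal.Quotient.mk _ (X i)) ∈ I := fun i => by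
      rw [← Ideal.Quotient.eq]
      exact AlgHom.congr_fun hgg _
    have key : Matrix.vecMul (fun i => g (Ideal.Quotient.mk _ (X i)) - g' (Ideal.Quotient.mk _ (X i)))
        (h.map (algebraMap A C)) = 0 := by
      funext j
      change Matrix.vecMul ((fun i => g (Ideal.Quotient.mk _ (X i))) -
        fun i => g' (Ideal.Quotient.mk _ (X i))) _ j = _
      rw [Matrix.sub_vecMul, Pi.sub_apply, ← sub_eq_zero.mp (hom_rel p h g j),
        ← sub_eq_zero.mp (hom_rel p h g' j)]
      have := add_pow_prime p hp hp0 (x := g' (Ideal.Quotient.mk _ (X j))) (hII (hd j))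
      rw [add_sub_cancel] at this
      rw [this, sub_self, Pi.zero_apply]
    have key' := congrArg (fun v => Matrix.vecMul v (h.map (algebraMap A C))⁻¹) key
    simp only [Matrix.vecMul_vecMul, Matrix.mul_nonsing_inv _ hM, Matrix.vecMul_one, Matrix.zero_vecMul] at key'
    exact sub_eq_zero.mp (congrFun key' i)
  · intro g
    choose x hx using fun i => Ideal.Quotient.mk_surjective (g (Ideal.Quotient.mk _ (X i)))
    let r : Fin n → C := fun j => x j ^ p - Matrix.vecMul x (h.map (algebraMap A C)) j
    have hr : ∀ j, r j ∈ I := fun j => by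
      rw [← Ideal.Quotient.eq_zero_iff_mem, map_sub, map_pow, hx]
      refine Eq.trans ?_ (hom_rel p h g j)
      congr 1
      simp only [Matrix.vecMul, dotProduct, map_sum, map_mul, hx, Matrix.map_apply]
      rfl
    let d : Fin n → C := Matrix.vecMul r (h.map (algebraMap A C))⁻¹
    have hd : ∀ i, d i ∈ I := fun i => by
      simp only [d, Matrix.vecMul, dotProduct]
      exact I.sum_mem fun j _ => I.mul_mem_right _ (hr j)
    have hsol : ∀ j, (x + d) j ^ p - Matrix.vecMul (x + d) (h.map (algebraMap A C)) j = 0 := fun j => by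
      rw [Pi.add_apply, add_pow_prime p hp hp0 (hII (hd j)), Matrix.add_vecMul, Pi.add_apply]
      simp only [d, Matrix.vecMul_vecMul, Matrix.nonsing_inv_mul _ hM, Matrix.vecMul_one, r]
      ring
    refine ⟨point p h (x + d) hsol, ?_⟩
    refine Ideal.Quotient.algHom_ext _ (MvPolynomial.algHom_ext fun i => ?_)
    change Ideal.Quotient.mk I (point p h (x + d) hsol (Ideal.Quotient.mk _ (X i))) =
        g (Ideal.Quotient.mk _ (X i))
    rw [point_X, Pi.add_apply, map_add, hx, Ideal.Quotient.eq_zero_iff_mem.mpr (hd i), add_zero]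

theorem isUnit_det [Fact p.Prime] [Algebra.FormallyUnramified A (MvPolynomial (Fin n) A ⧸ rel p h)] :
    IsUnit h.det := by
  by_contra hdet
  obtain ⟨m, hm, hmem⟩ := Ideal.exists_le_maximal _ (Ideal.span_singleton_ne_top hdet)
  letI := Ideal.Quotient.field m
  have h0 : (h.map (Ideal.Quotient.mk m)).det = 0 := by
    rw [← RingHom.mapMatrix_apply, ← RingHom.map_det, Ideal.Quotient.eq_zero_iff_mem]
    exact hmem (Ideal.mem_span_singleton_self _)
  obtain ⟨v, hv0, hv⟩ := Matrix.exists_vecMul_eq_zero_iff.mpr h0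
  have hp := (Fact.out : p.Prime)
  have heps : (DualNumber.eps : DualNumber (A ⧸ m)) * DualNumber.eps = 0 := DualNumber.eps_mul_eps
  let w : Fin n → DualNumber (A ⧸ m) := fun i => v i • DualNumber.eps
  have hw : ∀ j, w j ^ p - Matrix.vecMul w (h.map (algebraMap A (DualNumber (A ⧸ m)))) j = 0 := by
    intro j
    have h1 : w j ^ p = 0 := by
      obtain ⟨k, rfl⟩ := Nat.exists_eq_add_of_le hp.two_le
      simp [w, pow_add, pow_two, smul_mul_smul_comm, heps]
    have h2 : Matrix.vecMul w (h.map (algebraMap A (DualNumber (A ⧸ m)))) j =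
        (Matrix.vecMul v (h.map (Ideal.Quotient.mk m)) j) • DualNumber.eps := by
      simp only [Matrix.vecMul, dotProduct, Finset.sum_smul, w, Matrix.map_apply]
      refine Finset.sum_congr rfl fun i _ => ?_
      rw [mul_smul, IsScalarTower.algebraMap_apply A (A ⧸ m) (DualNumber (A ⧸ m)), ← Algebra.commutes,
        ← Algebra.smul_def, smul_comm]
      rfl
    rw [h1, h2, hv]
    simp
  have hz : ∀ j : Fin n, (0 : Fin n → DualNumber (A ⧸ m)) j ^ p -
      Matrix.vecMul 0 (h.map (algebraMap A (DualNumber (A ⧸ m)))) j = 0 := by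
    intro j; simp [hp.ne_zero]
  have hI : (Ideal.span {(DualNumber.eps : DualNumber (A ⧸ m))}) ^ 2 = ⊥ := by
    rw [Ideal.span_singleton_pow, pow_two, heps, Ideal.span_singleton_eq_bot]
  have := Algebra.FormallyUnramified.comp_injective _ hI
    (a₁ := point p h w hw) (a₂ := point p h 0 hz) (by
      refine Ideal.Quotient.algHom_ext _ (MvPolynomial.algHom_ext fun i => ?_)
      change Ideal.Quotient.mk _ (point p h w hw _) = Ideal.Quotient.mk _ (point p h 0 hz _)
      rw [Ideal.Quotient.eq]
      change point p h w hw (Ideal.Quotient.mk _ (X i)) - point p h 0 hz (Ideal.Quotient.mk _ (X i)) ∈ _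
      rw [point_X, point_X, Pi.zero_apply, sub_zero, Ideal.mem_span_singleton']
      exact ⟨algebraMap _ _ (v i), (Algebra.smul_def _ _).symm⟩)
  apply hv0
  funext i
  have := congrArg TrivSqZeroExt.snd (AlgHom.congr_fun this (Ideal.Quotient.mk _ (X i)))
  simpa [point_X, w] using this

/-- Let A be a commutative ring of characteristic p > 0 and (h_{ij})_{1 ≤ i,j ≤ n} a square matrix over
A, the matrix of a commutative p-Lie algebra (L, φ) with L free with basis e_1, …, e_n and φ(e_j) =
Σ_i h_{ij} e_i. The associated finite group scheme Spec A[X_1, …, X_n]/(X_j^p − Σ_i h_{ij} X_i)_{1 ≤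
j ≤ n} is étale over A if and only if the matrix (h_{ij}) is invertible, i.e. its determinant is a
unit of A. Only the algebra structure enters this assertion. -/
theorem result (p : ℕ) [Fact p.Prime]
    (A : Type u) [CommRing A] [CharP A p] (n : ℕ) (h : Matrix (Fin n) (Fin n) A) :
    Algebra.Etale A (MvPolynomial (Fin n) A ⧸ Ideal.span (Set.range fun j : Fin n =>
        (MvPolynomial.X j : MvPolynomial (Fin n) A) ^ p -
          ∑ i : Fin n, MvPolynomial.C (h i j) * MvPolynomial.X i)) ↔
      IsUnit h.det := by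
  constructor
  · intro _
    exact isUnit_det p h
  · intro hdet
    exact { formallyEtale := formallyEtale p h hdet
            finitePresentation := Algebra.FinitePresentation.quotient (Submodule.fg_span (Set.finite_range _)) }

end Groth.Agent.S15365
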