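import Groth.Statements.S15366
import Mathlib

set_option autoImplicit false
universe u
open CAlg

namespace Groth.Agent.S15366

/-- Let k be an algebraically closed field of characteristic p > 0, R = k[[t₁, t₂]], and O = R_{(t₁)}
the local ring of Spec R at the generic point x of the divisor t₁ = 0 (a discrete valuation ring,
with uniformizer t₁ and residue field k((t₂))). Then O embeds, by an injective local k-algebra map
φ, into some complete discrete valuation ring A containing k whose residue field is algebraically
closed and in which φ(t₁) is still a uniformizer. The prime ideal (t₁) is passed as an ideal P equal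
to it together with its primality. -/
theorem result
    (p : ℕ) [Fact p.Prime] (k : Type u) [Field k] [IsAlgClosed k] [CharP k p]
    (P : Ideal (MvPowerSeries (Fin 2) k))
    (hP : P = Ideal.span {(MvPowerSeries.X 0 : MvPowerSeries (Fin 2) k)}) [P.IsPrime] :
    ∃ (A : Type u) (_ : CommRing A) (_ : IsDomain A) (_ : IsDiscreteValuationRing A) (_ : Algebra k A)
      (φ : Localization.AtPrime P →ₐ[k] A),
      IsAdicComplete (IsLocalRing.maximalIdeal A) A ∧ IsAlgClosed (IsLocalRing.ResidueField A) ∧
        Function.Injective φ ∧ IsLocalHom φ.toRingHom ∧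
          Irreducible (φ (algebraMap (MvPowerSeries (Fin 2) k) (Localization.AtPrime P)
            (MvPowerSeries.X 0))) := by
  classical
  let K := LaurentSeries k
  let C := AlgebraicClosure K
  let e₁ : MvPowerSeries (Fin 1) k ≃ₐ[k] PowerSeries k :=
    MvPowerSeries.renameEquiv k (Equiv.ofUnique (Fin 1) Unit)
  let κ : MvPowerSeries (Fin 1) k →ₐ[k] C :=
    ((IsScalarTower.toAlgHom k K C).comp ({ HahnSeries.ofPowerSeries ℤ k with commutes' := fun r => rfl } : PowerSeries k →ₐ[k] K)).comp e₁.toAlgHom
  have hκ : Function.Injective κ :=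
    ((algebraMap K C).injective.comp HahnSeries.ofPowerSeries_injective).comp e₁.injective
  let e := MvPowerSeries.finSuccEquiv k 1
  let ψ : MvPowerSeries (Fin 2) k →ₐ[k] PowerSeries C := (PowerSeries.mapAlgHom κ).comp e.toAlgHom
  have hψ : Function.Injective ψ := by
    intro a b hab
    apply e.injective
    refine PowerSeries.ext fun n => hκ ?_
    have h1 : PowerSeries.map κ.toRingHom (e a) = PowerSeries.map κ.toRingHom (e b) := hab
    have h2 := congrArg (PowerSeries.coeff n) h1
    simp only [PowerSeries.coeff_map] at h2
    exact h2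
  have hX : ψ (MvPowerSeries.X 0) = PowerSeries.X := by
    show PowerSeries.map κ.toRingHom (e (MvPowerSeries.X 0)) = _
    rw [MvPowerSeries.finSuccEquiv_X_zero, PowerSeries.map_X]
  have hunit : ∀ g : P.primeCompl, IsUnit (ψ g) := by
    rintro ⟨g, hg⟩
    rw [PowerSeries.isUnit_iff_constantCoeff, isUnit_iff_ne_zero]
    intro h0
    apply hg
    change PowerSeries.constantCoeff (PowerSeries.map κ.toRingHom (e g)) = 0 at h0
    rw [← PowerSeries.coeff_zero_eq_constantCoeff_apply, PowerSeries.coeff_map,
      PowerSeries.coeff_zero_eq_constantCoeff_apply] at h0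
    obtain ⟨q, hq⟩ := PowerSeries.X_dvd_iff.mpr (hκ (h0.trans (map_zero κ).symm))
    refine hP ▸ Ideal.mem_span_singleton.mpr ⟨e.symm q, e.injective ?_⟩
    rw [map_mul, MvPowerSeries.finSuccEquiv_X_zero, AlgEquiv.apply_symm_apply, hq]
  let φ : Localization.AtPrime P →ₐ[k] PowerSeries C :=
    IsLocalization.liftAlgHom (M := P.primeCompl) (f := ψ) hunit
  have hφ : ∀ r, φ (algebraMap (MvPowerSeries (Fin 2) k) (Localization.AtPrime P) r) = ψ r := fun r => by
    rw [IsLocalization.liftAlgHom_apply]; exact IsLocalization.lift_eq _ r
  refine ⟨PowerSeries C, inferInstance, inferInstance, inferInstance, inferInstance, φ, ?_, ?_, ?_, ?_, ?_⟩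
  · rw [PowerSeries.maximalIdeal_eq_span_X]
    infer_instance
  · exact IsAlgClosed.of_ringEquiv C _ (PowerSeries.residueFieldOfPowerSeries (k := C)).symm
  · intro a b hab
    rw [IsLocalization.liftAlgHom_apply, IsLocalization.liftAlgHom_apply] at hab
    refine (IsLocalization.lift_injective_iff _).mpr (fun x y => ⟨fun h => ?_, fun h => ?_⟩) hab
    · rw [IsLocalization.eq_iff_exists P.primeCompl] at h
      obtain ⟨c, hc⟩ := h
      exact (hunit c).mul_left_cancel (by
        change ψ c * ψ x = ψ c * ψ y
        rw [← map_mul, ← map_mul, hc])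
    · exact congrArg _ (hψ h)
  · constructor
    intro a ha
    by_contra hna
    have ha' : a ∈ IsLocalRing.maximalIdeal (Localization.AtPrime P) :=
      (IsLocalRing.mem_maximalIdeal a).mpr hna
    rw [← Localization.AtPrime.map_eq_maximalIdeal] at ha'
    have : φ a ∈ IsLocalRing.maximalIdeal (PowerSeries C) := by
      have h2 : (P.map (algebraMap (MvPowerSeries (Fin 2) k) (Localization.AtPrime P))).map φ ≤
          IsLocalRing.maximalIdeal (PowerSeries C) := by
        have e2 : P.map (algebraMap (MvPowerSeries (Fin 2) k) (Localization.AtPrime P)) =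
            (Ideal.span {(MvPowerSeries.X 0 : MvPowerSeries (Fin 2) k)}).map
              (algebraMap (MvPowerSeries (Fin 2) k) (Localization.AtPrime P)) := congrArg _ hP
        rw [e2, Ideal.map_span, Ideal.map_span, Set.image_singleton, Set.image_singleton, hφ, hX,
          PowerSeries.maximalIdeal_eq_span_X]
      exact h2 (Ideal.mem_map_of_mem φ ha')
    exact (IsLocalRing.mem_maximalIdeal _).mp this ha
  · rw [hφ, hX]
    exact PowerSeries.X_irreducible

end Groth.Agent.S15366
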