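import Groth.Statements.S15367
import Groth.Agent.CAlg.DVRTorsion

set_option autoImplicit false
universe u v
open TensorProduct
open CAlg

namespace Groth.Agent.S15367

/-- Let R be a discrete valuation ring with uniformizer π and residue field k, n ≥ 0, and M₀ a finitely
generated module over R/πⁿR, viewed as an R-module killed by πⁿ; put M₀* = Hom_R(M₀, R/πⁿR). Then
dim_k(M₀*/πM₀*) = dim_k(M₀/πM₀). The published lemma is stated for a finitely presented module over
the quotient of the ring of integers of an algebraic closure of K by the elements of valuation ≥ t,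
with its dual into that quotient ring, and the published proof reduces it by descent to exactly this
statement over the valuation ring of a finite extension of K; the row states that step. -/
theorem result
    (R : Type u) [CommRing R] [IsDomain R] [IsDiscreteValuationRing R] (ϖ : R) (hϖ : Irreducible ϖ) (n : ℕ)
    (M : Type v) [AddCommGroup M] [Module R M] [Module.Finite R M] (hM : ∀ m : M, ϖ ^ n • m = 0) :
    Module.finrank (IsLocalRing.ResidueField R)
        (IsLocalRing.ResidueField R ⊗[R] (M →ₗ[R] (R ⧸ Ideal.span {ϖ ^ n}))) =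
      Module.finrank (IsLocalRing.ResidueField R) (IsLocalRing.ResidueField R ⊗[R] M) := by
  classical
  rcases Nat.eq_zero_or_pos n with rfl | hn
  · haveI : Subsingleton M := ⟨fun a b => by
      have ha := hM a; have hb := hM b
      rw [pow_zero, one_smul] at ha hb; rw [ha, hb]⟩
    haveI : Subsingleton (M →ₗ[R] (R ⧸ Ideal.span {ϖ ^ 0})) := ⟨fun f g => LinearMap.ext fun m => by rw [Subsingleton.elim m 0, map_zero, map_zero]⟩
    rw [Module.finrank_zero_of_subsingleton, Module.finrank_zero_of_subsingleton]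
  obtain ⟨n, rfl⟩ : ∃ m, n = m + 1 := ⟨n - 1, by omega⟩
  set Q := R ⧸ Ideal.span {ϖ ^ (n + 1)}
  set D := M →ₗ[R] Q
  set k := IsLocalRing.ResidueField R
  haveI : Module.Finite R D := inferInstance
  have hD : ∀ f : D, ϖ ^ (n + 1) • f = 0 := fun f => LinearMap.ext fun m => by
    show ϖ ^ (n + 1) • f m = 0
    rw [← map_smul, hM, map_zero]
  have h := Groth.Agent.CAlg.DVRTorsion.finrank_tensor_eq_length hϖ D hD
  let j' : R →ₗ[R] Q := (Ideal.span {ϖ ^ (n + 1)}).mkQ.comp (LinearMap.lsmul R R (ϖ ^ n))
  have hj' : LinearMap.ker j' = IsLocalRing.maximalIdeal R := by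
    ext x
    rw [LinearMap.mem_ker]
    show Submodule.Quotient.mk (p := Ideal.span {ϖ ^ (n + 1)}) (ϖ ^ n * x) = 0 ↔ _
    rw [Submodule.Quotient.mk_eq_zero, Ideal.mem_span_singleton, hϖ.maximalIdeal_eq, Ideal.mem_span_singleton, pow_succ]
    exact mul_dvd_mul_iff_left (pow_ne_zero n hϖ.ne_zero)
  let j : k →ₗ[R] Q := (IsLocalRing.maximalIdeal R).liftQ j' hj'.ge
  have hj : Function.Injective j := by
    rw [← LinearMap.ker_eq_bot]
    exact Submodule.ker_liftQ_eq_bot _ j' _ hj'.le
  have hjr : ∀ y : Q, ϖ • y = 0 ↔ y ∈ LinearMap.range j := by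
    intro y
    constructor
    · obtain ⟨x, rfl⟩ := Submodule.mkQ_surjective _ y
      intro hy
      have hd : ϖ ^ n ∣ x := by
        rw [← map_smul, Submodule.mkQ_apply] at hy
        have h' := Ideal.mem_span_singleton.1 ((Submodule.Quotient.mk_eq_zero _).1 hy)
        rw [smul_eq_mul, pow_succ'] at h'
        exact (mul_dvd_mul_iff_left hϖ.ne_zero).1 h'
      obtain ⟨c, rfl⟩ := hd
      exact ⟨Submodule.Quotient.mk c, rfl⟩
    · rintro ⟨x, rfl⟩
      rw [← map_smul]
      obtain ⟨x, rfl⟩ := Submodule.Quotient.mk_surjective _ x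
      have hm : ϖ • x ∈ LinearMap.ker j' := by
        rw [hj', hϖ.maximalIdeal_eq, smul_eq_mul]
        exact Ideal.mul_mem_right _ _ (Ideal.mem_span_singleton_self ϖ)
      exact LinearMap.mem_ker.1 hm
  let c : (M →ₗ[R] k) →ₗ[R] LinearMap.ker (LinearMap.lsmul R D ϖ) :=
    (LinearMap.llcomp R M k Q j).codRestrict _ fun ψ => LinearMap.mem_ker.2 (LinearMap.ext fun m => (hjr _).2 ⟨ψ m, rfl⟩)
  have hc : Function.Bijective c := by
    refine ⟨fun a b hab => LinearMap.ext fun m => hj ?_, fun f => ?_⟩
    · have := congrArg Subtype.val hab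
      exact LinearMap.congr_fun this m
    · have hf : ∀ m, (f : D) m ∈ LinearMap.range j := fun m => (hjr _).1 (LinearMap.congr_fun (LinearMap.mem_ker.1 f.2) m)
      refine ⟨(LinearEquiv.ofInjective j hj).symm.toLinearMap.comp ((f : D).codRestrict _ hf), Subtype.ext (LinearMap.ext fun m => ?_)⟩
      show j ((LinearEquiv.ofInjective j hj).symm ⟨(f : D) m, hf m⟩) = (f : D) m
      exact LinearEquiv.ofInjective_symm_apply (h := hj) _ ⟨(f : D) m, hf m⟩
  rw [← (LinearEquiv.ofBijective c hc).length_eq, ((LinearMap.liftBaseChangeEquiv k : (M →ₗ[R] k) ≃ₗ[k] _).restrictScalars R).length_eq,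
    Module.length_eq_of_surjective (R := k) IsLocalRing.residue_surjective, Module.length_eq_finrank,
    Subspace.dual_finrank_eq] at h
  exact_mod_cast h

end Groth.Agent.S15367
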