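import Groth.Statements.S15368
import Groth.Agent.CAlg.DVRTorsion

set_option autoImplicit false
universe u v
open TensorProduct
open CAlg

namespace Groth.Agent.S15368

/-- Let R be a discrete valuation ring with uniformizer π and residue field k, n ≥ 0, M₀ a finitely
generated R-module killed by πⁿ and N₀ a submodule of M₀. Then dim_k(N₀/πN₀) ≤ dim_k(M₀/πM₀). The
published lemma is stated for a finitely presented submodule N of a finitely presented module M over
the quotient of the ring of integers of an algebraic closure of K by the elements of valuation ≥ t,
and the published proof reduces it by descent to exactly this statement over the valuation ring of a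
finite extension of K (comparing π-torsion with π-cotorsion by additivity of length); the row states
that step. -/
theorem result
    (R : Type u) [CommRing R] [IsDomain R] [IsDiscreteValuationRing R] (ϖ : R) (hϖ : Irreducible ϖ) (n : ℕ)
    (M : Type v) [AddCommGroup M] [Module R M] [Module.Finite R M] (hM : ∀ m : M, ϖ ^ n • m = 0)
    (N : Submodule R M) :
    Module.finrank (IsLocalRing.ResidueField R) (IsLocalRing.ResidueField R ⊗[R] N) ≤
      Module.finrank (IsLocalRing.ResidueField R) (IsLocalRing.ResidueField R ⊗[R] M) := by
  have hN : ∀ x : N, ϖ ^ n • x = 0 := fun x => Subtype.ext (hM x)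
  haveI : Module.Finite R N := Module.Finite.of_fg (IsNoetherian.noetherian N)
  have h1 := Groth.Agent.CAlg.DVRTorsion.finrank_tensor_eq_length hϖ M hM
  have h2 := Groth.Agent.CAlg.DVRTorsion.finrank_tensor_eq_length hϖ N hN
  let g : LinearMap.ker (LinearMap.lsmul R N ϖ) →ₗ[R] LinearMap.ker (LinearMap.lsmul R M ϖ) :=
    N.subtype.restrict fun x hx => by
      have h0 := congrArg Subtype.val (LinearMap.mem_ker.1 hx)
      exact h0
  have hg : Function.Injective g := by
    intro a b h
    apply Subtype.ext
    apply Subtype.ext
    have h' := congrArg (fun z : LinearMap.ker (LinearMap.lsmul R M ϖ) => (z : M)) h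
    exact h'
  have h3 := Module.length_le_of_injective g hg
  rw [← h1, ← h2] at h3
  exact_mod_cast h3

end Groth.Agent.S15368
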