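import Groth.Statements.S1537
import Groth.Agent.VarBC.Basic
-- import your own Groth.Agent.* helpers here

set_option autoImplicit false
universe u
open CategoryTheory CategoryTheory.Limits AlgebraicGeometry
open Variety

namespace Groth.Agent.S1537

open Groth.Agent.VarBC Groth.Agent.FBase.BC Groth.Agent.FBase.BC2

/-- A connected k-scheme is geometrically connected as soon as it has a point whose residue field
contains no element integral over k other than the elements of k. -/
theorem result (k : Type u) [Field k] (X : Scheme.{u}) [X.Over (Spec (CommRingCat.of k))] [ConnectedSpace X]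
    (x : X) (hx : ∀ a : X.residueField x, (Curv2.resMap k X x).IsIntegralElem a → a ∈ (Curv2.resMap k X x).range) :
    GeometricallyConnected (X ↘ (Spec (CommRingCat.of k))) := by
  obtain ⟨κ, _, _, ι, _, hι, hr, hs⟩ := exists_point_res (k := k) X x
    (fun (F : Type u) [Field F] [Algebra k F] ↦ ∀ a : F, (algebraMap k F).IsIntegralElem a → a ∈ (algebraMap k F).range)
    hx
  refine geometricallyConnected_of_point _ ι hι (le_antisymm (fun a ha ↦ ?_) bot_le)
  obtain ⟨c, hc⟩ := hs a (mem_separableClosure_iff.mp ha).isIntegral
  exact IntermediateField.mem_bot.mpr ⟨c, hc⟩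

end Groth.Agent.S1537
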