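import Groth.Statements.S15376
import Groth.Agent.SurfRR.Basic
import Groth.Agent.NumTriv.Section
import Groth.Agent.S14810
import Groth.Agent.BigVol.Basic
import Groth.Agent.DefAmple27.Point

set_option autoImplicit false
universe u
open CategoryTheory CategoryTheory.Limits AlgebraicGeometry
open Biell

namespace Groth.Agent.S15376

/-- Let k be an algebraically closed field and X a (quasi-)bielliptic surface over k, meaning here: X is
an integral k-scheme, proper and smooth of relative dimension 2 over k and carrying an ample
invertible sheaf, whose canonical sheaf ω (a second exterior power of Ω_{X/k}) is numerically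
trivial (degree 0 on every integral closed curve in X) and whose second ℓ-adic Betti number (the
rank of lim_ν H²(X_et, Z/ℓ^ν)) equals 2 for every prime ℓ invertible in k. Then the geometric genus
p_g(X) = dim_k H²(X, O_X) equals 1 if and only if ω ≅ O_X, i.e. ω has order 1 in Pic(X). (The
published statement is for bielliptic surfaces and has a third equivalent condition, non-reducedness
of the identity component of the Picard scheme, which is not stated here; the equivalence of the two
conditions stated rests only on the numerical triviality of ω on an integral smooth projective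
surface, so this row states it for quasi-bielliptic surfaces as well.) -/
theorem result (k : Type u) [Field k] [IsAlgClosed k] (X : Scheme.{u}) [X.Over (Spec (CommRingCat.of k))]
    [IsIntegral X] [IsProper (X ↘ Spec (CommRingCat.of k))] [SmoothOfRelativeDimension 2 (X ↘ Spec (CommRingCat.of k))]
    (hproj : ∃ H : X.Modules, CohB1.IsAmple H)
    (ω : X.Modules) (hω : Canon.IsTopDiff (X ↘ Spec (CommRingCat.of k)) 2 ω) (hnum : Pic13.IsNumEquivZero k X ω)
    (hb2 : ∀ ℓ : ℕ, ℓ.Prime → (ℓ : k) ≠ 0 → EtAdic.betti X ℓ 2 = 2) :
    Module.finrank k (Coh.HH X (Coh.structureModule X) 2) = 1 ↔ Nonempty (ω ≅ Coh.structureModule X) := by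
  obtain ⟨H, hH⟩ := hproj
  obtain ⟨a, n, i, -, hic, hi, -⟩ := NumTriv.Section.exists_embedding_pow (k := k) hH
  haveI := hic
  have hO : PicF.IsInvertible (Coh.structureModule X) := LFFrame.isInvertible_structureModule X
  have hone : Module.finrank k (Coh.HH X (Coh.structureModule X) 0) = 1 :=
    VBLib.finrank_H0_structure_eq_one VBLib.bijective_toGlobal_of_isAlgClosed
  have hdual : Module.finrank k (Coh.HH X ω 0) = Module.finrank k (Coh.HH X (Coh.structureModule X) 2) := by
    have h := SurfRR.finrank_dual k i hi ω hω hO (ProjTwist.oneTens (Coh.structureModule X)) 2 le_rfl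
    rw [show (2 - 2 : ℕ) = 0 from rfl] at h
    exact (ProjTwist.Pn.finrank_hh_iso (ProjTwist.oneTens ω).symm 0).trans h
  constructor
  · intro h2
    have hωi : PicF.IsInvertible ω := SurfRR.isInvertible_canonical k i hi ω hω
    obtain ⟨φ, hφ⟩ := BigVol.sub_of_h0_pos k hωi (show 0 < BigVol.h0 k ω by
      show 0 < Module.finrank k (Coh.HH X ω 0)
      omega)
    have hφ0 : φ ≠ 0 := by
      rintro rfl
      exact BigVol.not_isZero_of_isInvertible hO ((IsZero.iff_id_eq_zero _).2
        ((cancel_mono (0 : Coh.structureModule X ⟶ ω)).1 (by simp)))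
    have hfield : IsField (Γ(X, ⊤) : Type u) :=
      (RingEquiv.ofBijective (Coh.toGlobal (X ↘ Spec (CommRingCat.of k)))
        VBLib.bijective_toGlobal_of_isAlgClosed).symm.toMulEquiv.isField (Field.toIsField k)
    exact S14810.result k X hfield ω hωi hnum φ hφ0
  · rintro ⟨e⟩
    rw [← hdual, ProjTwist.Pn.finrank_hh_iso e 0, hone]

end Groth.Agent.S15376
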