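import Groth.Statements.S1538
import Groth.Agent.VarBC.Basic
-- import your own Groth.Agent.* helpers here

set_option autoImplicit false
universe u
open CategoryTheory CategoryTheory.Limits AlgebraicGeometry
open Variety

namespace Groth.Agent.S1538

open Groth.Agent.VarBC Groth.Agent.FBase.BC Groth.Agent.FBase.BC2

/-- A scheme X over a field k is geometrically irreducible as soon as its base change to a separable
algebraic closure of k is irreducible. -/
theorem result (k : Type u) [Field k] (X : Scheme.{u}) [X.Over (Spec (CommRingCat.of k))]
    [IrreducibleSpace (Curv2.bc k X (SeparableClosure k))] :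
    GeometricallyIrreducible (X ↘ (Spec (CommRingCat.of k))) := by
  have : IrreducibleSpace ↥(pullback (X ↘ Spec (CommRingCat.of k)) (specMap k (SeparableClosure k))) := ‹_›
  exact (Groth.Agent.FBase.BC.geometricallyIrreducible_iff _).mpr
    (geometricallyIrreducible_of_isSepClosed (k := SeparableClosure k) _)

end Groth.Agent.S1538
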