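import Groth.Statements.S15385
import Groth.Agent.GalCohAux.StackFrob
import Mathlib.FieldTheory.IsAlgClosed.AlgebraicClosure

set_option autoImplicit false
universe u
open StackCount

namespace Groth.Agent.S15385

open GalCohAux GalCohAux.StackCount GalCohAux.StackFrob CategoryTheory.MonoidalCategory CategoryTheory.CartesianMonoidalCategory CategoryTheory.MonObj

open CategoryTheory AlgebraicGeometry in
/-- Let k be a finite field and G a finite etale group scheme over k (in particular affine over k, so
that every G-torsor is a scheme). For every finite field extension k' of k, the point count of the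
classifying stack B(G) over k' — the sum, over the isomorphism classes of the groupoid of
etale-locally trivial G-torsors over Spec k', of the inverse orders of their automorphism groups —
equals 1. The finiteness of that groupoid (finitely many classes, finite automorphism groups) is
carried as a hypothesis. -/
theorem result (k : Type u) [Field k] [Finite k]
    (G : Over (Spec (CommRingCat.of k))) [GrpObj G] [IsFinite G.hom] [Etale G.hom]
    (k' : Type u) [Field k'] [Algebra k k'] [Module.Finite k k']
    (h : StkCnt.IsEssFinite (StkCnt.pts (AlgSt.BG Scheme.etalePrecoverage G) k')) :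
    StkCnt.ptCount (AlgSt.BG Scheme.etalePrecoverage G) k' h = 1 := by
  classical
  letI : MulDistribMulAction (AlgebraicClosure k' ≃ₐ[k'] AlgebraicClosure k')
      (SGA7.pt (K := k) (AlgebraicClosure k') ⟶ G) := StackFrob.act
  have : Finite k' := Module.finite_of_finite k
  have := Fintype.ofFinite k'
  have : IsGalois k' (AlgebraicClosure k') := ⟨⟩
  have : LocallyOfFiniteType (𝟙_ (Over (Spec (CommRingCat.of k)))).hom :=
    inferInstanceAs (LocallyOfFiniteType (𝟙 _))
  let π : AlgebraicClosure k' ≃ₐ[k'] AlgebraicClosure k' :=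
    FiniteField.frobeniusAlgEquivOfAlgebraic k' (AlgebraicClosure k')
  have hπ : ∀ x, π x = x ^ Nat.card k' := fun x => by
    rw [Nat.card_eq_fintype_card]; rfl
  have : Finite (SGA7.pt (K := k) (AlgebraicClosure k') ⟶ G) := StackFrob.finite_points
  let f : (SGA7.pt (K := k) (AlgebraicClosure k') ⟶ G) →* (SGA7.pt (K := k) (AlgebraicClosure k') ⟶ G) :=
    MulDistribMulAction.toMonoidHom _ π
  have : Finite (Tw _ f) := Finite.of_injective Tw.val fun a b h => Tw.ext h
  let C := MulAction.orbitRel.Quotient (SGA7.pt (K := k) (AlgebraicClosure k') ⟶ G) (Tw _ f)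
  letI : Fintype C := Fintype.ofFinite _
  let cls : (SGA7.pt (K := k) (AlgebraicClosure k') ⟶ G) → C := fun a =>
    Quotient.mk (MulAction.orbitRel (SGA7.pt (K := k) (AlgebraicClosure k') ⟶ G) (Tw _ f)) ⟨a⟩
  choose z hz using fun c : C => StackFrob.exists_cocycle (k := k) (G := G) hπ c.out.val
  refine (StackCount.count_eq (kb := AlgebraicClosure k') (k' := k') (AlgSt.trivAction G)
    (fun c σ => (z c).1 σ) (fun c => StackFrob.isLCCocycle (z c)) (fun b hb => ?_) (fun c c' g hg => ?_) h).trans ?_
  · let B : GpH1.OneCocycleLC (AlgebraicClosure k' ≃ₐ[k'] AlgebraicClosure k')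
        (SGA7.pt (K := k) (AlgebraicClosure k') ⟶ G) := ⟨⟨b, hb.mul⟩, hb.lc⟩
    obtain ⟨g, hg⟩ := MulAction.orbitRel_apply.1
      (Quotient.exact (Quotient.out_eq (cls (b π))))
    have hcl : B.cl = (z (cls (b π))).cl := by
      rw [FiniteFieldCocycle.cohomologous_iff hπ StackFrob.isOpen_stabilizer]
      exact ⟨g, (hz _).trans (congrArg Tw.val hg).symm⟩
    obtain ⟨d, hd⟩ := (GpH1.OneCocycleLC.cl_eq_cl_iff _ _).1 hcl
    refine ⟨cls (b π), d, fun σ => ?_⟩
    have h1 : b σ = d⁻¹ * (z (cls (b π))).1 σ * σ • d := hd σ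
    rw [h1, ← StackFrob.smul_def]
    group
  · rw [← Quotient.out_eq c, ← Quotient.out_eq c']
    refine Quotient.sound ⟨g, Tw.ext ?_⟩
    have h1 := hg π
    simp only [hz] at h1
    exact h1.symm
  · have hU : ∀ a, Nat.card (Fix (k' := k') (AlgSt.trivAction G) (fun σ => (z a).1 σ)) = 1 := fun a => by
      rw [Nat.card_eq_one_iff_unique]
      exact ⟨⟨fun x y => Subtype.ext (toUnit_unique _ _)⟩, ⟨⟨toUnit _, fun σ => toUnit_unique _ _⟩⟩⟩
    have hS : ∀ a, Nat.card (cent (fun σ => (z a).1 σ)) =
        Nat.card (MulAction.stabilizer (SGA7.pt (K := k) (AlgebraicClosure k') ⟶ G) a.out) := fun a => by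
      refine Nat.card_congr (Equiv.subtypeEquivRight fun g => ?_)
      rw [StackFrob.cent_iff hπ, MulAction.mem_stabilizer_iff, hz, Tw.ext_iff]
      rfl
    simp only [hU, hS, Nat.cast_one, one_div]
    rw [StackCount.sum_orbits_inv, StackFrob.card_tw, div_self]
    exact_mod_cast Nat.card_pos.ne'

end Groth.Agent.S15385
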