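import Groth.Statements.S15391
import Mathlib.RingTheory.Ideal.MinimalPrime.Noetherian
import Mathlib.RingTheory.Localization.AtPrime.Basic
import Mathlib.RingTheory.TensorProduct.IsBaseChangeHom
import Mathlib.RingTheory.LocalProperties.Reduced
import Mathlib.RingTheory.Localization.BaseChange

set_option autoImplicit false
universe u
open TensorProduct
open TorFree

namespace Groth.Agent.S15391

/-- Let R be a reduced Noetherian commutative ring, M a finitely generated torsion-free R-module (no
non-zero element of M is annihilated by a non-zero-divisor of R), and t an element of M whose image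
1 ⊗ t in the fibre κ(p) ⊗_R M vanishes for every prime ideal p of R, κ(p) being the residue field at
p. Then t = 0. This is the affine form of the claim that a global section of a coherent torsion-free
module on a reduced Noetherian scheme which vanishes in every fibre is zero. -/
theorem result (R : Type u) [CommRing R] [IsReduced R] [IsNoetherianRing R]
    (M : Type u) [AddCommGroup M] [Module R M] [Module.Finite R M] [Module.IsTorsionFree R M]
    (t : M) (ht : ∀ p : PrimeSpectrum R, (1 : p.asIdeal.ResidueField) ⊗ₜ[R] t = (0 : p.asIdeal.ResidueField ⊗[R] M)) :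
    t = 0 := by
  have hmin : ∀ p ∈ minimalPrimes R, ¬ (Ideal.torsionOf R M t : Ideal R) ≤ p := by
    intro p hp hle
    haveI hpp : p.IsPrime := hp.1.1
    let Rp := Localization.AtPrime p
    have hbot : IsLocalRing.maximalIdeal Rp = ⊥ := by
      rw [Submodule.eq_bot_iff]
      intro x hx
      apply IsReduced.eq_zero
      rw [← mem_nilradical, nilradical_eq_sInf, Ideal.mem_sInf]
      intro Q hQ
      haveI : Q.IsPrime := hQ
      have hle' : Q.comap (algebraMap R Rp) ≤ p := by
        exact le_of_le_of_eq (Ideal.comap_mono (IsLocalRing.le_maximalIdeal Ideal.IsPrime.ne_top'))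
          Localization.AtPrime.comap_maximalIdeal
      have heq : p ≤ Q.comap (algebraMap R Rp) :=
        hp.2 ⟨Ideal.comap_isPrime _ _, bot_le⟩ hle'
      obtain ⟨a, b, rfl⟩ := IsLocalization.exists_mk'_eq p.primeCompl x
      have ha : a ∈ p := (IsLocalization.AtPrime.mk'_mem_maximal_iff Rp p a b).1 hx
      rw [IsLocalization.mk'_eq_mul_mk'_one]
      exact Q.mul_mem_right _ (heq ha)
    have hinj : Function.Injective (algebraMap Rp p.ResidueField) := by
      rw [RingHom.injective_iff_ker_eq_bot]
      exact (IsLocalRing.ker_residue (R := Rp)).trans hbot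
    let e : Rp ≃ₗ[R] p.ResidueField :=
      LinearEquiv.ofBijective (IsScalarTower.toAlgHom R Rp p.ResidueField).toLinearMap
        ⟨hinj, IsLocalRing.residue_surjective⟩
    have h0 : (1 : Rp) ⊗ₜ[R] t = 0 := by
      apply (LinearEquiv.rTensor M e).injective
      rw [map_zero, LinearEquiv.rTensor_tmul]
      have he1 : e 1 = 1 := map_one (algebraMap Rp p.ResidueField)
      rw [he1]
      exact ht ⟨p, hpp⟩
    haveI : IsLocalizedModule p.primeCompl (TensorProduct.mk R Rp M 1) := inferInstance
    have h1 : TensorProduct.mk R Rp M 1 t = TensorProduct.mk R Rp M 1 0 := by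
      rw [map_zero]; exact h0
    obtain ⟨c, hc⟩ := (IsLocalizedModule.eq_iff_exists p.primeCompl _).1 h1
    rw [smul_zero] at hc
    exact c.2 (hle hc)
  obtain ⟨s, hs, hs'⟩ : ∃ s ∈ (Ideal.torsionOf R M t : Ideal R), s ∈ nonZeroDivisors R := by
    by_contra hcon
    have hsub : (Ideal.torsionOf R M t : Set R) ⊆ ⋃ p ∈ minimalPrimes R, (p : Set R) := by
      intro s hs
      have hs' : s ∉ nonZeroDivisors R := fun h => hcon ⟨s, hs, h⟩
      rw [mem_nonZeroDivisors_iff_right] at hs'
      push Not at hs'
      obtain ⟨y, hy, hy0⟩ := hs'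
      by_contra hmem
      apply hy0
      apply IsReduced.eq_zero
      rw [← mem_nilradical, nilradical_eq_sInf, Ideal.mem_sInf]
      intro q hq
      haveI : q.IsPrime := hq
      obtain ⟨p, hp, hpq⟩ := Ideal.exists_minimalPrimes_le (J := q) (bot_le (a := q))
      haveI hpp : p.IsPrime := hp.1.1
      rcases hpp.mem_or_mem (show y * s ∈ p by rw [hy]; exact p.zero_mem) with h | h
      · exact hpq h
      · exact absurd (Set.mem_biUnion hp h) hmem
    obtain ⟨p, hp, hle⟩ := (Ideal.subset_union_prime_finite (minimalPrimes.finite_of_isNoetherianRing R)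
      ⊥ ⊥ (fun p hp _ _ => hp.1.1)).1 hsub
    exact hmin p hp hle
  exact Module.IsTorsionFree.isSMulRegular (isRegular_iff_mem_nonZeroDivisors.2 hs') (by simpa using hs)

end Groth.Agent.S15391
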