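import Groth.Statements.S15392
import Groth.Agent.S12131
import Groth.Agent.S14587
import Groth.Agent.GrpScheme.AffineHom
import Groth.Agent.GrpScheme.Cartier
import Groth.Agent.GrpScheme.HomFlat
import Groth.Agent.QCoh.Exact
import Groth.Agent.WeakAssSch.Unit
import Mathlib.AlgebraicGeometry.AlgClosed.Basic
import Mathlib.AlgebraicGeometry.Morphisms.FlatMono
import Mathlib.AlgebraicGeometry.Morphisms.LocalFlatDescent

set_option autoImplicit false
universe u
open CategoryTheory CategoryTheory.Limits MonoidalCategory CartesianMonoidalCategory MonObj GrpObj AlgebraicGeometry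
open AbVar

namespace Groth.Agent.S15392

open CategoryTheory.Limits TopologicalSpace
set_option backward.isDefEq.respectTransparency false

variable {k : Type u} [Field k] [IsAlgClosed k]

/-- The point of a rational point. -/
noncomputable def pt {X : Over (Spec (CommRingCat.of k))} (p : 𝟙_ _ ⟶ X) : X.left :=
  p.left (IsLocalRing.closedPoint k)

lemma pt_comp {X Y : Over (Spec (CommRingCat.of k))} (p : 𝟙_ _ ⟶ X) (g : X ⟶ Y) :
    pt (p ≫ g) = g.left (pt p) := rfl

lemma exists_pt {X : Over (Spec (CommRingCat.of k))} [LocallyOfFiniteType X.hom] {z : X.left}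
    (hz : z ∈ closedPoints X.left) : ∃ p : 𝟙_ _ ⟶ X, pt p = z :=
  ⟨Over.homMk _ ((pointEquivClosedPoint X.hom).symm ⟨z, hz⟩).2, by
    show ((pointEquivClosedPoint X.hom).symm ⟨z, hz⟩).1 (IsLocalRing.closedPoint k) = z
    exact congr($((pointEquivClosedPoint X.hom).apply_symm_apply ⟨z, hz⟩).1)⟩

lemma pt_inj {X : Over (Spec (CommRingCat.of k))} [LocallyOfFiniteType X.hom] {p q : 𝟙_ _ ⟶ X}
    (h : pt p = pt q) : p = q :=
  Over.OverMorphism.ext (ext_of_apply_closedPoint_eq X.hom (Over.w p) (Over.w q) h)

lemma isQuasicoherent_freeMod (V : Scheme.{u}) (n : ℕ) : (FlatMod.freeMod V n).IsQuasicoherent := by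
  haveI : ∀ i : ULift.{u} (Fin n), (Coh.structureModule V).IsQuasicoherent :=
    fun _ => WeakAssSch.isQuasicoherent_unit V
  exact @Groth.Agent.QCoh.isQuasicoherent_of_iso V _ _
    (Sigma.whiskerEquiv (C := V.Modules) (f := fun _ : ULift.{u} (Fin n) => Coh.structureModule V)
      (g := fun _ : Fin n => Coh.structureModule V) Equiv.ulift (fun _ => Iso.refl _))
    (@Groth.Agent.QCoh.isQuasicoherent_coproduct V (ULift.{u} (Fin n)) (fun _ => Coh.structureModule V)
      (fun _ => WeakAssSch.isQuasicoherent_unit V))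

lemma isQuasicoherent_of_isFinLocFree {X : Scheme.{u}} {M : X.Modules} (h : FlatMod.IsFinLocFree M) :
    M.IsQuasicoherent := by
  choose U n hx e using h
  haveI : ∀ i, (M.restrict (U i).ι).IsQuasicoherent := fun i =>
    @Groth.Agent.QCoh.isQuasicoherent_of_iso _ _ _ (e i).some.symm (isQuasicoherent_freeMod _ _)
  exact Groth.Agent.QCoh.isQuasicoherent_of_isOpenCover M U
    (TopologicalSpace.IsOpenCover.mk (top_le_iff.mp fun x _ =>
      TopologicalSpace.Opens.mem_iSup.mpr ⟨x, hx x⟩))

/-- A module on a scheme which is a finite disjoint union of open pieces is the product of the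
pushforwards of its restrictions. -/
lemma nonempty_decomp {Z : Scheme.{u}} {κ : Type u} (W : κ → Scheme.{u}) (j : ∀ i, W i ⟶ Z)
    [∀ i, IsOpenImmersion (j i)]
    (hdisj : ∀ a b : κ, ∀ z, z ∈ Set.range (j a).base → z ∈ Set.range (j b).base → a = b)
    (hcov : ∀ z, ∃ i, z ∈ Set.range (j i).base) (F : Z.Modules) :
    Nonempty (F ≅ ∏ᶜ fun i => (Scheme.Modules.pushforward (j i)).obj
      ((Scheme.Modules.pullback (j i)).obj F)) := by
  let f : κ → Z.Modules := fun i => (Scheme.Modules.pushforward (j i)).obj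
      ((Scheme.Modules.restrictFunctor (j i)).obj F)
  let φ : F ⟶ ∏ᶜ f := Pi.lift fun i => (Scheme.Modules.restrictAdjunction (j i)).unit.app F
  suffices IsIso φ from ⟨asIso φ ≪≫ Pi.mapIso fun i => (Scheme.Modules.pushforward (j i)).mapIso
    ((Scheme.Modules.restrictFunctorIsoPullback (j i)).app F)⟩
  rw [Scheme.Modules.Hom.isIso_iff_isIso_app]
  intro U
  let G : Z.Modules ⥤ Ab.{u} := Scheme.Modules.toPresheaf Z ⋙ (evaluation _ Ab.{u}).obj (Opposite.op U)
  haveI : PreservesLimit (Discrete.functor f ⋙ Scheme.Modules.toPresheaf Z)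
      ((evaluation _ Ab.{u}).obj (Opposite.op U)) :=
    evaluation_preservesLimit _ _
  haveI : PreservesLimit (Discrete.functor f) G := comp_preservesLimit _ _
  let e := PreservesProduct.iso G f
  let c := Concrete.productEquiv (fun i => G.obj (f i))
  have hπ : ∀ (x : ToType (G.obj (∏ᶜ f))) (i : κ), c (e.hom x) i = G.map (Pi.π f i) x := by
    intro x i
    rw [Concrete.productEquiv_apply_apply]
    exact congr($(piComparison_comp_π G f i) x)
  let V : κ → Z.Opens := fun i => (j i) ''ᵁ ((j i) ⁻¹ᵁ U)
  have hV : ∀ i, V i ≤ U := fun i => (j i).image_preimage_le U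
  have hVr : ∀ i z, z ∈ V i → z ∈ Set.range (j i).base := fun i z hz => by
    obtain ⟨w, -, rfl⟩ := hz
    exact ⟨w, rfl⟩
  have hφ : ∀ (s : ToType (G.obj F)) (i : κ),
      c (e.hom (G.map φ s)) i = F.presheaf.map (homOfLE (hV i)).op s := by
    intro s i
    rw [hπ, ← ConcreteCategory.comp_apply, ← G.map_comp, Pi.lift_π]
    rfl
  have hcovU : U ≤ iSup V := fun z hz => by
    obtain ⟨i, w, rfl⟩ := hcov z
    exact Opens.mem_iSup.mpr ⟨i, w, hz, rfl⟩
  let S : TopCat.Sheaf Ab.{u} Z := ⟨F.presheaf, F.isSheaf⟩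
  have hbij : Function.Bijective (fun s : ToType (G.obj F) => fun i => c (e.hom (G.map φ s)) i) := by
    refine ⟨fun s t hst => ?_, fun t => ?_⟩
    · refine S.eq_of_locally_eq' V U (fun i => homOfLE (hV i)) hcovU s t fun i => ?_
      exact ((hφ s i).symm.trans (congrFun hst i)).trans (hφ t i)
    · have hcomp : TopCat.Presheaf.IsCompatible S.1 V t := fun a b => by
        rcases eq_or_ne a b with rfl | hab
        · rfl
        · have hbot : V a ⊓ V b = ⊥ := le_bot_iff.mp fun z hz =>
            (hab (hdisj a b z (hVr a z hz.1) (hVr b z hz.2))).elim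
          have hsub : Subsingleton (ToType (S.1.obj (Opposite.op (V a ⊓ V b)))) := by
            have := S.isTerminalOfEqEmpty hbot
            exact AddCommGrpCat.subsingleton_of_isZero
              (IsZero.of_iso (isZero_zero _) (this.uniqueUpToIso HasZeroObject.zeroIsTerminal))
          exact hsub.elim _ _
      obtain ⟨s, hs, -⟩ := S.existsUnique_gluing' V U (fun i => homOfLE (hV i)) hcovU t hcomp
      exact ⟨s, funext fun i => (hφ s i).trans (hs i)⟩
  rw [ConcreteCategory.isIso_iff_bijective]
  have he : Function.Bijective (fun x => c (e.hom x)) :=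
    c.bijective.comp ((ConcreteCategory.isIso_iff_bijective e.hom).mp inferInstance)
  exact (Function.Bijective.of_comp_iff' he (G.map φ)).mp hbij

/-- Let k be an algebraically closed field of characteristic zero, A and B abelian varieties over k
(proper smooth k-group schemes with geometrically connected fibres), π : A → B a homomorphism which
is an isogeny (finite and surjective), and E a finite locally free O_A-module. For a k-rational
point a of A write t_a : A → A for the translation by a (the product of the identity and the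
constant map a in the group Hom(A, A)). Then π^*π_*E is isomorphic to the direct sum of the
translates t_a^*E over the k-rational points a of A with π(a) equal to the unit of B, that is over
the k-points of the kernel of π (existence of an isomorphism). -/
theorem result (k : Type u) [Field k] [IsAlgClosed k] [CharZero k]
    (A B : Over (Spec (CommRingCat.of k))) [GrpObj A] [IsProper A.hom] [Smooth A.hom] [GeometricallyConnected A.hom]
    [GrpObj B] [IsProper B.hom] [Smooth B.hom] [GeometricallyConnected B.hom]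
    (π : A ⟶ B) [IsMonHom π] [IsFinite π.left] [Surjective π.left]
    (E : A.left.Modules) (hE : FlatMod.IsFinLocFree E) :
    Nonempty ((Scheme.Modules.pullback π.left).obj ((Scheme.Modules.pushforward π.left).obj E) ≅
      ∐ fun a : {a : 𝟙_ (Over (Spec (CommRingCat.of k))) ⟶ A // a ≫ π = 1} =>
        (Scheme.Modules.pullback (𝟙 A * (toUnit A ≫ a.1)).left).obj E) := by
  classical
  have hflat : Flat π.left := by
    have : IsReduced B.left := GrpScheme.HomFlat.isReduced_of_smooth B.hom
    exact GrpScheme.HomFlat.flat_of_surjective π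
  have het : Etale π.left := by
    obtain ⟨N, gN, i, hi, hker⟩ := GrpScheme.AffineHom.exists_kernel π
    have : IsFinite N.hom :=
      MorphismProperty.of_isPullback (P := @IsFinite) (GrpdLib.GrpOver.isPullback_left hker) inferInstance
    have : Smooth N.hom := GrpScheme.Cartier.smooth_of_charZero N
    have : IsReduced N.left := GrpScheme.HomFlat.isReduced_of_smooth N.hom
    exact GrpScheme.KernelPair.mem_of_kernel hker @Etale (@Surjective ⊓ @Flat ⊓ @QuasiCompact)
      ⟨⟨‹_›, hflat⟩, inferInstance⟩ (S14587.etale_hom k N)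
  let P := pullback π.left π.left
  let p1 : P ⟶ A.left := pullback.fst π.left π.left
  let p2 : P ⟶ A.left := pullback.snd π.left π.left
  let Po : Over (Spec (CommRingCat.of k)) := Over.mk (p2 ≫ A.hom)
  let q1 : Po ⟶ A := Over.homMk p1 (by
    show p1 ≫ A.hom = p2 ≫ A.hom
    rw [← Over.w π, pullback.condition_assoc])
  let q2 : Po ⟶ A := Over.homMk p2 rfl
  have hq : q1 ≫ π = q2 ≫ π := Over.OverMorphism.ext pullback.condition
  let κ := {a : 𝟙_ (Over (Spec (CommRingCat.of k))) ⟶ A // a ≫ π = 1}
  let t : κ → (A ⟶ A) := fun a => 𝟙 A * (toUnit A ≫ a.1)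
  have ht : ∀ a, t a ≫ π = π := fun a => by
    rw [MonObj.mul_comp, Category.id_comp, Category.assoc, a.2, MonObj.comp_one, _root_.mul_one]
  let σ : κ → (A ⟶ Po) := fun a => Over.homMk
    (pullback.lift (t a).left (𝟙 A.left) (by
      rw [Category.id_comp]; exact congrArg Over.Hom.left (ht a)))
    (by show pullback.lift _ _ _ ≫ p2 ≫ A.hom = _; rw [pullback.lift_snd_assoc, Category.id_comp])
  have hσ1 : ∀ a, (σ a).left ≫ p1 = (t a).left := fun a => pullback.lift_fst _ _ _
  have hσ2 : ∀ a, (σ a).left ≫ p2 = 𝟙 _ := fun a => pullback.lift_snd _ _ _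
  haveI : Etale p2 := MorphismProperty.pullback_snd (P := @Etale) _ _ het
  haveI hop : ∀ a, IsOpenImmersion (σ a).left := fun a => by
    have : Etale ((σ a).left ≫ p2) := by rw [hσ2 a]; infer_instance
    have : Etale (σ a).left := Etale.of_comp (σ a).left p2
    have : Mono (σ a).left := (IsSplitMono.mk' ⟨p2, hσ2 a⟩).mono
    exact IsOpenImmersion.of_flat_of_mono _
  have : LocallyOfFiniteType Po.hom := inferInstanceAs (LocallyOfFiniteType (p2 ≫ A.hom))
  have : JacobsonSpace Po.left := LocallyOfFiniteType.jacobsonSpace Po.hom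
  have hclosedImg : ∀ (p : P ⟶ A.left) [IsFinite p] (z : P), IsClosed ({z} : Set P) →
      p z ∈ closedPoints A.left := fun p _ z hz => by
    have := p.isClosedMap _ hz
    rwa [Set.image_singleton] at this
  have : IsFinite p1 := inferInstance
  have : IsFinite p2 := inferInstance
  have hmul : ∀ (y : 𝟙_ _ ⟶ A) (a : κ), y ≫ t a = y * a.1 := fun y a => by
    rw [MonObj.comp_mul, Category.comp_id, ← Category.assoc,
      toUnit_unique (y ≫ toUnit A) (𝟙 _), Category.id_comp]
  have hcov : ∀ z : P, ∃ a, z ∈ Set.range (σ a).left.base := by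
    by_contra hne
    push_neg at hne
    obtain ⟨z₀, hz₀⟩ := hne
    have hcl : IsClosed (⋃ a, Set.range (σ a).left.base)ᶜ :=
      (isOpen_iUnion fun a => (σ a).left.isOpenEmbedding.isOpen_range).isClosed_compl
    obtain ⟨z, hz, hzc⟩ := nonempty_inter_closedPoints (X := Po.left)
      ⟨z₀, by simpa using hz₀⟩ hcl.isLocallyClosed
    obtain ⟨r, hr⟩ := exists_pt (X := Po) hzc
    have ha : ((r ≫ q2)⁻¹ * (r ≫ q1)) ≫ π = 1 := by
      rw [MonObj.mul_comp, GrpObj.inv_comp, Category.assoc, Category.assoc, hq, inv_mul_cancel]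
    have h1 : (r ≫ q2) ≫ t ⟨_, ha⟩ = r ≫ q1 := by rw [hmul, mul_inv_cancel_left]
    have h2 : (r ≫ q2) ≫ σ ⟨_, ha⟩ = r := by
      refine Over.OverMorphism.ext (pullback.hom_ext ?_ ?_)
      · rw [Over.comp_left, Category.assoc]
        exact (congrArg (_ ≫ ·) (hσ1 _)).trans (congrArg Over.Hom.left h1)
      · rw [Over.comp_left, Category.assoc]
        exact (congrArg (_ ≫ ·) (hσ2 _)).trans (Category.comp_id _)
    refine hz (Set.mem_iUnion.mpr ⟨⟨_, ha⟩, pt (r ≫ q2), ?_⟩)
    rw [← hr, ← pt_comp, h2]
  have hdisj : ∀ a b : κ, ∀ z, z ∈ Set.range (σ a).left.base → z ∈ Set.range (σ b).left.base → a = b := by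
    intro a b z hza hzb
    obtain ⟨w, ⟨⟨y, hy⟩, ⟨y', hy'⟩⟩, hwc⟩ := nonempty_inter_closedPoints (X := Po.left)
      (Z := Set.range (σ a).left.base ∩ Set.range (σ b).left.base) ⟨z, hza, hzb⟩
      (((σ a).left.isOpenEmbedding.isOpen_range.inter
        (σ b).left.isOpenEmbedding.isOpen_range).isLocallyClosed)
    obtain ⟨r, hr⟩ := exists_pt (X := Po) hwc
    have key : ∀ (c : κ) (y : A.left), (σ c).left y = w → r ≫ q1 = (r ≫ q2) * c.1 := by
      intro c y hy
      have hy2 : y = pt (r ≫ q2) := by
        rw [pt_comp, hr, ← hy]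
        show y = p2 ((σ c).left y)
        exact ((Scheme.Hom.comp_apply (σ c).left p2 y).symm.trans (congrArg (fun m : A.left ⟶ A.left => m y) (hσ2 c))).symm
      rw [← hmul]
      refine pt_inj ?_
      rw [pt_comp _ (t c), ← hy2, pt_comp, hr, ← hy]
      show p1 ((σ c).left y) = _
      exact (Scheme.Hom.comp_apply (σ c).left p1 y).symm.trans (congrArg (fun m : A.left ⟶ A.left => m y) (hσ1 c))
    exact Subtype.ext (mul_left_cancel ((key a y hy).symm.trans (key b y' hy')))
  have : Finite κ := by
    have : CompactSpace P := by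
      have : CompactSpace A.left := QuasiCompact.compactSpace_of_compactSpace A.hom
      exact QuasiCompact.compactSpace_of_compactSpace p2
    haveI : CompactSpace Po.left := this
    obtain ⟨s, hs⟩ := isCompact_univ.elim_finite_subcover (fun a : κ => Set.range (σ a).left.base)
      (fun a => (σ a).left.isOpenEmbedding.isOpen_range)
      (fun z _ => Set.mem_iUnion.mpr (hcov z))
    refine Finite.of_surjective (fun a : s => a.1) fun b => ?_
    have : Nonempty A.left := ⟨η[A].left (IsLocalRing.closedPoint k)⟩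
    obtain ⟨y⟩ := this
    obtain ⟨a, has, hz⟩ := Set.mem_iUnion₂.mp (hs (Set.mem_univ ((σ b).left y)))
    exact ⟨⟨a, has⟩, hdisj a b _ hz ⟨y, rfl⟩⟩
  haveI : Coh.IsQCoh E := isQuasicoherent_of_isFinLocFree hE
  haveI := S12131.result π.left π.left p1 p2 (IsPullback.of_hasPullback _ _) E
  let F := (Scheme.Modules.pullback p1).obj E
  obtain ⟨ψ⟩ := nonempty_decomp (fun _ : κ => A.left) (fun a => (σ a).left) hdisj hcov F
  haveI : HasFiniteBiproducts A.left.Modules := HasFiniteBiproducts.of_hasFiniteProducts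
  let g : κ → A.left.Modules := fun a => (Scheme.Modules.pullback (t a).left).obj E
  refine ⟨@asIso _ _ _ _ _ (S12131.result π.left π.left p1 p2 (IsPullback.of_hasPullback _ _) E) ≪≫
    (Scheme.Modules.pushforward p2).mapIso ψ ≪≫ PreservesProduct.iso _ _ ≪≫
    Pi.mapIso (fun a => ?_) ≪≫ (biproduct.isoProduct g).symm ≪≫ biproduct.isoCoproduct g⟩
  exact (Scheme.Modules.pushforwardComp (σ a).left p2).app _ ≪≫
    (Scheme.Modules.pushforwardCongr (hσ2 a)).app _ ≪≫ (Scheme.Modules.pushforwardId _).app _ ≪≫
    (Scheme.Modules.pullbackComp (σ a).left p1).app E ≪≫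
    (Scheme.Modules.pullbackCongr (hσ1 a)).app E

end Groth.Agent.S15392
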