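import Groth.Statements.S15399
import Groth.Agent.S15400
import Groth.Agent.IdealSh.IdealMod

set_option autoImplicit false
universe u
open CategoryTheory CategoryTheory.Limits AlgebraicGeometry
open PicGrp

namespace Groth.Agent.S15399

open CategoryTheory CategoryTheory.Limits AlgebraicGeometry Opposite TopologicalSpace in
/-- Units lift along a square-zero thickening. -/
theorem surjective_units_map {X : Scheme.{u}} (J : X.IdealSheafData) (hJ : J * J = ⊥)
    (hsurj : Function.Surjective J.subschemeι.appTop.hom) :
    Function.Surjective (Units.map J.subschemeι.appTop.hom.toMonoidHom) := by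
  intro v
  obtain ⟨a, ha⟩ := hsurj v.val
  obtain ⟨b, hb⟩ := hsurj v⁻¹.val
  have hab : J.subschemeι.app ⊤ (a * b - 1) = 0 := by
    change J.subschemeι.appTop.hom (a * b - 1) = 0
    rw [map_sub, map_mul, ha, hb, map_one, Units.mul_inv, sub_self]
  have hsq : (a * b - 1) * (a * b - 1) = 0 := by
    refine Groth.Agent.DefSchLib.eq_of_affine fun V => ?_
    rw [map_zero, map_mul]
    have h1 := (Groth.Agent.IdealSh.IdealMod.mem_ideal_iff J V.1 _).2
      (Groth.Agent.UnitsThick.Step.app_eq_zero_res J.subschemeι V.2 hab)
    have h3 := Ideal.mul_mem_mul h1 h1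
    have h4 : J.ideal V.1 * J.ideal V.1 = ⊥ := by
      simpa using congrArg (fun I : X.IdealSheafData => I.ideal V.1) hJ
    rwa [h4, Ideal.mem_bot] at h3
  have hu : IsUnit (a * b) := by
    have hn : IsNilpotent (a * b - 1) := ⟨2, by rw [pow_two]; exact hsq⟩
    have := hn.isUnit_one_add
    simpa using this
  exact ⟨(isUnit_of_mul_isUnit_left hu).unit, Units.ext ha⟩


/-- Let X be a quasi-compact separated scheme, J a quasi-coherent ideal of O_X with J² = 0 and X₀ the
closed subscheme it cuts out, with inclusion i, and assume that the restriction of global functions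
O_X(X) → O_{X₀}(X₀) is surjective. Assume the Picard group laws on X and X₀ and that pullback of
invertible classes along i is multiplicative. Then the kernel of the pullback homomorphism Pic(X) →
Pic(X₀) is isomorphic, as a group, to the additive group H¹(X, J) (J viewed as an O_X-module),
written multiplicatively. (Existence of a group isomorphism only; the compatibility of the
isomorphism with pullback along morphisms Y → X is not stated.) -/
theorem result (X : Scheme.{u}) [CompactSpace X] [X.IsSeparated]
    (J : X.IdealSheafData) (hJ : J * J = ⊥)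
    [PicGrp.Law X] [PicGrp.Law J.subscheme] (hi : PicGrp.PullMul J.subschemeι)
    (hsurj : Function.Surjective J.subschemeι.appTop.hom) :
    Nonempty ((PicGrp.pullHom J.subschemeι hi).ker ≃* Multiplicative (Coh.HH X (ClSub.idealMod J) 1)) := by
  obtain ⟨ε, δ₀, α, δ₁, -, -, hδ₀, hα, hp, -⟩ := Groth.Agent.S15400.result X J hJ hi
  have hs := surjective_units_map J hJ hsurj
  have hinj : Function.Injective α := by
    rw [← MonoidHom.ker_eq_bot_iff, hα, MonoidHom.range_eq_bot_iff]
    ext u
    obtain ⟨w, rfl⟩ := hs u
    have : Units.map J.subschemeι.appTop.hom.toMonoidHom w ∈ δ₀.ker := hδ₀ ▸ ⟨w, rfl⟩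
    rw [MonoidHom.mem_ker.1 this]
    rfl
  exact ⟨((MonoidHom.ofInjective hinj).trans (MulEquiv.subgroupCongr hp.symm)).symm⟩

end Groth.Agent.S15399
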