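import Groth.Statements.S1540
import Groth.Agent.VarBC.Basic
-- import your own Groth.Agent.* helpers here

set_option autoImplicit false
universe u
open CategoryTheory CategoryTheory.Limits AlgebraicGeometry
attribute [local instance] Curv2.resAlgebra Curv2.stalkAlgebra
open Variety

namespace Groth.Agent.S1540

open Groth.Agent.VarBC Groth.Agent.FBase.BC Groth.Agent.FBase.BC2

/-- Separable elements lie in the base. -/
def SepCond (k F : Type*) [Field k] [Field F] [Algebra k F] : Prop :=
  ∀ a : F, IsSeparable k a → a ∈ Set.range (algebraMap k F)

/-- An irreducible scheme X over k with generic point ξ is geometrically irreducible if and only if the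
separable algebraic closure of k in the residue field of ξ is k itself. -/
theorem result (k : Type u) [Field k] (X : Scheme.{u}) [X.Over (Spec (CommRingCat.of k))] [IrreducibleSpace X] :
    GeometricallyIrreducible (X ↘ (Spec (CommRingCat.of k))) ↔
      ∀ a : X.residueField (genericPoint X), IsSeparable k a → a ∈ Set.range (algebraMap k (X.residueField (genericPoint X))) := by
  let f := X ↘ Spec (CommRingCat.of k)
  obtain ⟨κ, _, _, ι, _, hι, hr, hC⟩ := exists_point_res X (genericPoint X)
    (fun (F : Type u) [Field F] [Algebra k F] ↦ SepCond k F ↔ SepCond k (X.residueField (genericPoint X))) Iff.rfl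
  refine Iff.trans ?_ hC
  constructor
  · intro h a ha
    have hbot := separableClosure_eq_bot_of_finite f ι hι hr fun K _ _ _ _ ↦
      pullback_of_geometrically GeometricallyIrreducible.geometrically_irreducibleSpace K _
    obtain ⟨c, hc⟩ := IntermediateField.mem_bot.mp (hbot ▸ mem_separableClosure_iff.mpr ha)
    exact ⟨c, hc⟩
  · intro h
    refine geometricallyIrreducible_of_separableClosure_eq_bot f ι hι hr
      (le_antisymm (fun a ha ↦ ?_) bot_le)
    obtain ⟨c, hc⟩ := h a (mem_separableClosure_iff.mp ha)
    exact IntermediateField.mem_bot.mpr ⟨c, hc⟩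

end Groth.Agent.S1540
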