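import Groth.Statements.S15404
import Groth.Agent.UnitsThick.Union
import Groth.Agent.UnitsThick.PushO

set_option autoImplicit false
set_option backward.isDefEq.respectTransparency false
set_option backward.isDefEq.respectTransparency.types false
universe u
open CategoryTheory CategoryTheory.Limits AlgebraicGeometry
open PicGrp

namespace Groth.Agent.S15404

section
open CategoryTheory CategoryTheory.Limits AlgebraicGeometry Opposite TopologicalSpace
open Groth.Agent.UnitsThick Groth.Agent.UnitsThick.Union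
open Groth.Agent.CohAff (sec)
open Groth.Agent.PicUnits (uP pmapEq psi psiX psiX_bijective psi_comap psi_bijective psi_injective psi_pmapEq)

variable {X B : Scheme.{u}}

/-- Units pulled back from the base restrict to units pulled back from the base. -/
theorem sec_pmapEq_comp {Y W : Scheme.{u}} (π : X ⟶ B) (h : W ⟶ Y) (i : Y ⟶ X) (k : W ⟶ X) (w : h ≫ i = k)
    (b : (Γ(B, ⊤))ˣ) :
    sec (pmapEq h i k w) ⊤ (uP i ⊤ (Units.map (i ≫ π).appTop.hom.toMonoidHom b)) =
      uP k ⊤ (Units.map (k ≫ π).appTop.hom.toMonoidHom b) := by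
  subst w
  simp only [pmapEq, eqToHom_refl, Category.comp_id]
  apply val_injective (Z := W)
  change h.appTop ((i ≫ π).appTop (b : Γ(B, ⊤))) = ((h ≫ i) ≫ π).appTop (b : Γ(B, ⊤))
  rw [Category.assoc, Scheme.Hom.comp_appTop h]
  rfl

theorem main (π : X ⟶ B) (I J : X.IdealSheafData) (hIJ : I ⊓ J = ⊥)
    (s : B ⟶ (I ⊔ J).subscheme) (hs : s ≫ (I ⊔ J).subschemeι ≫ π = 𝟙 B)
    (hO : IsIso ((I ⊔ J).subschemeι ≫ π).appTop)
    [PicGrp.Law B] [PicGrp.Law X] [PicGrp.Law I.subscheme] [PicGrp.Law J.subscheme] [PicGrp.Law (I ⊔ J).subscheme]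
    (hπ : PicGrp.PullMul π) (hY : PicGrp.PullMul I.subschemeι) (hZ : PicGrp.PullMul J.subschemeι)
    (hπY : PicGrp.PullMul (I.subschemeι ≫ π)) (hπZ : PicGrp.PullMul (J.subschemeι ≫ π))
    (hπW : PicGrp.PullMul ((I ⊔ J).subschemeι ≫ π))
    (hWY : PicGrp.PullMul (Scheme.IdealSheafData.inclusion (le_sup_left : I ≤ I ⊔ J)))
    (hWZ : PicGrp.PullMul (Scheme.IdealSheafData.inclusion (le_sup_right : J ≤ I ⊔ J))) :
    (∀ c : PicLoc.PicSet X,
        (∃ b₁ : PicLoc.PicSet B, PicGrp.pullHom I.subschemeι hY c = PicGrp.pullHom (I.subschemeι ≫ π) hπY b₁) →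
        (∃ b₂ : PicLoc.PicSet B, PicGrp.pullHom J.subschemeι hZ c = PicGrp.pullHom (J.subschemeι ≫ π) hπZ b₂) →
          ∃ b : PicLoc.PicSet B, c = PicGrp.pullHom π hπ b) ∧
      (∀ (y : PicLoc.PicSet I.subscheme) (z : PicLoc.PicSet J.subscheme),
        (∃ b : PicLoc.PicSet B,
            PicGrp.pullHom (Scheme.IdealSheafData.inclusion (le_sup_left : I ≤ I ⊔ J)) hWY y =
              PicGrp.pullHom (Scheme.IdealSheafData.inclusion (le_sup_right : J ≤ I ⊔ J)) hWZ z *
                PicGrp.pullHom ((I ⊔ J).subschemeι ≫ π) hπW b) →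
          ∃ (c : PicLoc.PicSet X) (b₁ b₂ : PicLoc.PicSet B),
            PicGrp.pullHom I.subschemeι hY c = y * PicGrp.pullHom (I.subschemeι ≫ π) hπY b₁ ∧
              PicGrp.pullHom J.subschemeι hZ c = z * PicGrp.pullHom (J.subschemeι ≫ π) hπZ b₂) := by
  have hS := shortExact I J hIJ
  -- units of `W` come from `Y`, so `Pic X → Pic Y × Pic Z` is injective
  have hδ : ∀ w : Sheaf.H (P (I ⊔ J).subschemeι) 0, LES.δ hS 0 w = 0 := by
    intro w
    obtain ⟨a, ha⟩ := PicUnits.uP_surjective (I ⊔ J).subschemeι ⊤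
      (Sheaf.H.equiv₀ (P (I ⊔ J).subschemeι) isTerminalTop w)
    let φ := (asIso ((I ⊔ J).subschemeι ≫ π).appTop).commRingCatIsoToRingEquiv
    let b : (Γ(B, ⊤))ˣ := Units.map φ.symm.toRingHom.toMonoidHom a
    have hb : Units.map ((I ⊔ J).subschemeι ≫ π).appTop.hom.toMonoidHom b = a :=
      Units.ext (φ.apply_symm_apply (show Γ((I ⊔ J).subscheme, ⊤) from a.val))
    let y := (Sheaf.H.equiv₀ (P I.subschemeι) isTerminalTop).symm
      (uP I.subschemeι ⊤ (Units.map (I.subschemeι ≫ π).appTop.hom.toMonoidHom b))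
    have hy : Sheaf.H.map (rY I J) 0 y = w := by
      apply (Sheaf.H.equiv₀ (P (I ⊔ J).subschemeι) isTerminalTop).injective
      rw [← Sheaf.H.equiv₀_naturality isTerminalTop (rY I J) y]
      simp only [y, AddEquiv.apply_symm_apply]
      refine (sec_pmapEq_comp π _ _ _ _ b).trans ?_
      rw [hb, ha]
    have : Sheaf.H.map (diff I J) 0
        (Sheaf.H.map (biprod.inl : P I.subschemeι ⟶ P I.subschemeι ⊞ P J.subschemeι) 0 y) = w := by
      rw [← Sheaf.H.map_comp_apply, biprod.inl_desc, hy]
    rw [← this]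
    exact LES.δ_map_g hS 0 _
  have hinj : Function.Injective (Sheaf.H.map (res₂ I J) 1) := by
    refine (injective_iff_map_eq_zero _).2 fun x hx => ?_
    obtain ⟨w, rfl⟩ := LES.exact₁ hS 0 x hx
    exact hδ w
  -- components
  let mY := Sheaf.H.map (biprod.fst : P I.subschemeι ⊞ P J.subschemeι ⟶ P I.subschemeι) 1
  let mZ := Sheaf.H.map (biprod.snd : P I.subschemeι ⊞ P J.subschemeι ⟶ P J.subschemeι) 1
  have hcY : ∀ x, (psi I.subschemeι (mY (Sheaf.H.map (res₂ I J) 1 x))).toMul =
      PicGrp.pullHom I.subschemeι hY (psiX X x).toMul := fun x => by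
    simp only [mY]
    rw [← Sheaf.H.map_comp_apply, biprod.lift_fst]
    exact psi_comap I.subschemeι hY x
  have hcZ : ∀ x, (psi J.subschemeι (mZ (Sheaf.H.map (res₂ I J) 1 x))).toMul =
      PicGrp.pullHom J.subschemeι hZ (psiX X x).toMul := fun x => by
    simp only [mZ]
    rw [← Sheaf.H.map_comp_apply, biprod.lift_snd]
    exact psi_comap J.subschemeι hZ x
  have htot : ∀ p : Sheaf.H (P I.subschemeι ⊞ P J.subschemeι) 1,
      p = Sheaf.H.map (biprod.inl : P I.subschemeι ⟶ P I.subschemeι ⊞ P J.subschemeι) 1 (mY p) +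
        Sheaf.H.map (biprod.inr : P J.subschemeι ⟶ P I.subschemeι ⊞ P J.subschemeι) 1 (mZ p) := fun p => by
    simp only [mY, mZ]
    rw [← Sheaf.H.map_comp_apply, ← Sheaf.H.map_comp_apply, ← Sheaf.H.map_add_apply, biprod.total,
      Sheaf.H.map_id_apply]
  have hPicInj : ∀ c c' : PicLoc.PicSet X,
      PicGrp.pullHom I.subschemeι hY c = PicGrp.pullHom I.subschemeι hY c' →
      PicGrp.pullHom J.subschemeι hZ c = PicGrp.pullHom J.subschemeι hZ c' → c = c' := by
    intro c c' h1 h2
    obtain ⟨x, hx⟩ := (psiX_bijective X).2 (Additive.ofMul c)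
    obtain ⟨x', hx'⟩ := (psiX_bijective X).2 (Additive.ofMul c')
    have e : Sheaf.H.map (res₂ I J) 1 x = Sheaf.H.map (res₂ I J) 1 x' := by
      rw [htot (Sheaf.H.map (res₂ I J) 1 x), htot (Sheaf.H.map (res₂ I J) 1 x')]
      congr 2
      · apply psi_injective I.subschemeι
        apply Additive.toMul.injective
        rw [hcY, hcY, hx, hx']
        exact h1
      · apply psi_injective J.subschemeι
        apply Additive.toMul.injective
        rw [hcZ, hcZ, hx, hx']
        exact h2
    exact congrArg Additive.toMul (hx.symm.trans ((congrArg (psiX X) (hinj e)).trans hx'))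
  have hcompY : ∀ b, PicGrp.pullHom I.subschemeι hY (PicGrp.pullHom π hπ b) =
      PicGrp.pullHom (I.subschemeι ≫ π) hπY b := fun b => (PicGrp.pullHom_comp_apply _ _ hY hπ hπY b).symm
  have hcompZ : ∀ b, PicGrp.pullHom J.subschemeι hZ (PicGrp.pullHom π hπ b) =
      PicGrp.pullHom (J.subschemeι ≫ π) hπZ b := fun b => (PicGrp.pullHom_comp_apply _ _ hZ hπ hπZ b).symm
  have hWcomp : ∀ (K : X.IdealSheafData) (hK : K ≤ I ⊔ J) (c : PicF.Cl B),
      PicF.pullCl (Scheme.IdealSheafData.inclusion hK) (PicF.pullCl (K.subschemeι ≫ π) c) =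
        PicF.pullCl ((I ⊔ J).subschemeι ≫ π) c := fun K hK c => by
    rw [← PicLoc.pullCl_comp, ← Category.assoc, Scheme.IdealSheafData.inclusion_subschemeι]
  refine ⟨fun c ⟨b₁, h₁⟩ ⟨b₂, h₂⟩ => ⟨b₁, ?_⟩, fun y z ⟨b, hb⟩ => ?_⟩
  · have hb : b₁ = b₂ := by
      have e1 := congrArg (fun t : PicLoc.PicSet I.subscheme =>
        PicF.pullCl (Scheme.IdealSheafData.inclusion (le_sup_left : I ≤ I ⊔ J)) t.1) h₁
      have e2 := congrArg (fun t : PicLoc.PicSet J.subscheme =>
        PicF.pullCl (Scheme.IdealSheafData.inclusion (le_sup_right : J ≤ I ⊔ J)) t.1) h₂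
      simp only [PicGrp.pullHom_apply_val] at e1 e2
      rw [← PicLoc.pullCl_comp, Scheme.IdealSheafData.inclusion_subschemeι, hWcomp] at e1 e2
      have e := congrArg (PicF.pullCl s) (e1.symm.trans e2)
      rw [← PicLoc.pullCl_comp, ← PicLoc.pullCl_comp, hs, PicLoc.pullCl_id, PicLoc.pullCl_id] at e
      exact Subtype.ext e
    subst hb
    exact hPicInj c _ (h₁.trans (hcompY b₁).symm) (h₂.trans (hcompZ b₁).symm)
  · let z' := z * PicGrp.pullHom (J.subschemeι ≫ π) hπZ b
    obtain ⟨yc, hyc⟩ := (psi_bijective I.subschemeι).2 (Additive.ofMul y)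
    obtain ⟨zc, hzc⟩ := (psi_bijective J.subschemeι).2 (Additive.ofMul z')
    have hW : PicGrp.pullHom (Scheme.IdealSheafData.inclusion (le_sup_left : I ≤ I ⊔ J)) hWY y =
        PicGrp.pullHom (Scheme.IdealSheafData.inclusion (le_sup_right : J ≤ I ⊔ J)) hWZ z' := by
      simp only [z', map_mul]
      rw [hb]
      congr 1
      exact Subtype.ext (hWcomp J le_sup_right b.1).symm
    let p := Sheaf.H.map (biprod.inl : P I.subschemeι ⟶ P I.subschemeι ⊞ P J.subschemeι) 1 yc +
      Sheaf.H.map (biprod.inr : P J.subschemeι ⟶ P I.subschemeι ⊞ P J.subschemeι) 1 zc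
    have hp : Sheaf.H.map (diff I J) 1 p = 0 := by
      simp only [p, map_add]
      rw [← Sheaf.H.map_comp_apply, ← Sheaf.H.map_comp_apply, biprod.inl_desc, biprod.inr_desc]
      have e : Sheaf.H.map (rY I J) 1 yc = Sheaf.H.map (rZ I J) 1 zc := by
        apply psi_injective (I ⊔ J).subschemeι
        apply Additive.toMul.injective
        rw [psi_pmapEq _ _ _ _ hWY, psi_pmapEq _ _ _ _ hWZ, hyc, hzc]
        exact hW
      rw [e, ← Sheaf.H.map_add_apply, add_neg_cancel, Sheaf.H.map_apply, Abelian.Ext.mk₀_zero]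
      exact Abelian.Ext.comp_zero (Y := P J.subschemeι) zc _ 0 1 (add_zero 1)
    obtain ⟨x, hx⟩ := LES.exact₂ hS 1 p hp
    have hmY : mY p = yc := by
      simp only [mY, p, map_add]
      rw [← Sheaf.H.map_comp_apply, ← Sheaf.H.map_comp_apply, biprod.inl_fst, biprod.inr_fst,
        Sheaf.H.map_id_apply, Sheaf.H.map_apply, Abelian.Ext.mk₀_zero]
      erw [Abelian.Ext.comp_zero (Y := P J.subschemeι) zc _ 0 1 (add_zero 1)]
      exact add_zero _
    have hmZ : mZ p = zc := by
      simp only [mZ, p, map_add]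
      rw [← Sheaf.H.map_comp_apply, ← Sheaf.H.map_comp_apply, biprod.inl_snd, biprod.inr_snd,
        Sheaf.H.map_id_apply, Sheaf.H.map_apply, Abelian.Ext.mk₀_zero]
      erw [Abelian.Ext.comp_zero (Y := P I.subschemeι) yc _ 0 1 (add_zero 1)]
      exact zero_add _
    refine ⟨(psiX X x).toMul, 1, b, ?_, ?_⟩
    · rw [← hcY, hx, hmY, hyc, map_one, mul_one]
      rfl
    · rw [← hcZ, hx, hmZ, hzc]
      rfl

end

/-- Let π : X ⟶ B be quasi-compact and separated and let X be the union of the closed subschemes Y =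
V(I) and Z = V(J), I and J quasi-coherent ideals with I ∩ J = 0 (so that O_X → O_Y × O_Z is
injective with cokernel O_W, W = Y ∩ Z = V(I + J)); assume that W is flat, proper and of finite
presentation over B, that W → B has a section, and that the geometric fibres of W → B are reduced
and connected. Assume the Picard group laws on B, X, Y, Z, W and that pullback of invertible classes
along π, along the inclusions of Y, Z in X and of W in Y, Z, and along the structure maps of Y, Z, W
is multiplicative. Then the square of groups formed by Pic(X)/π^*Pic(B), Pic(Y)/Pic(B),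
Pic(Z)/Pic(B) and Pic(W)/Pic(B) under restriction is cartesian: (a) an invertible class on X whose
restrictions to Y and to Z are pulled back from B is itself pulled back from B; (b) for invertible
classes y on Y and z on Z whose restrictions to W agree up to a class pulled back from B, there is a
class on X whose restrictions to Y and Z are y and z up to classes pulled back from B. (The
published statement asserts this for the functor T ↦ Pic(X ×_B T)/Pic(T) on all B-schemes T and
assumes only that π is quasi-compact and separated, W flat over B with a section and geometrically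
reduced connected fibres; its proof uses that every global unit on W comes from B, through a lemma
on flat proper morphisms, and without properness the assertion fails — over a field, two affine
planes glued along the hyperbola ts = 1 have non-trivial Picard group — so W is taken proper and of
finite presentation over B here (finite presentation being automatic over a locally Noetherian
base), and only the value at T = B is stated.) -/
theorem result {X B : Scheme.{u}} (π : X ⟶ B)
    [QuasiCompact π] [IsSeparated π] (I J : X.IdealSheafData) (hIJ : I ⊓ J = ⊥)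
    [Flat ((I ⊔ J).subschemeι ≫ π)] [IsProper ((I ⊔ J).subschemeι ≫ π)]
    [LocallyOfFinitePresentation ((I ⊔ J).subschemeι ≫ π)]
    (s : B ⟶ (I ⊔ J).subscheme) (hs : s ≫ (I ⊔ J).subschemeι ≫ π = 𝟙 B)
    (hfib : ∀ (K : Type u) [Field K] [IsAlgClosed K] (g : Spec (CommRingCat.of K) ⟶ B),
      IsReduced (pullback ((I ⊔ J).subschemeι ≫ π) g) ∧ ConnectedSpace ↥(pullback ((I ⊔ J).subschemeι ≫ π) g))
    [PicGrp.Law B] [PicGrp.Law X] [PicGrp.Law I.subscheme] [PicGrp.Law J.subscheme] [PicGrp.Law (I ⊔ J).subscheme]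
    (hπ : PicGrp.PullMul π) (hY : PicGrp.PullMul I.subschemeι) (hZ : PicGrp.PullMul J.subschemeι)
    (hπY : PicGrp.PullMul (I.subschemeι ≫ π)) (hπZ : PicGrp.PullMul (J.subschemeι ≫ π))
    (hπW : PicGrp.PullMul ((I ⊔ J).subschemeι ≫ π))
    (hWY : PicGrp.PullMul (Scheme.IdealSheafData.inclusion (le_sup_left : I ≤ I ⊔ J)))
    (hWZ : PicGrp.PullMul (Scheme.IdealSheafData.inclusion (le_sup_right : J ≤ I ⊔ J))) :
    (∀ c : PicLoc.PicSet X,
        (∃ b₁ : PicLoc.PicSet B, PicGrp.pullHom I.subschemeι hY c = PicGrp.pullHom (I.subschemeι ≫ π) hπY b₁) →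
        (∃ b₂ : PicLoc.PicSet B, PicGrp.pullHom J.subschemeι hZ c = PicGrp.pullHom (J.subschemeι ≫ π) hπZ b₂) →
          ∃ b : PicLoc.PicSet B, c = PicGrp.pullHom π hπ b) ∧
      (∀ (y : PicLoc.PicSet I.subscheme) (z : PicLoc.PicSet J.subscheme),
        (∃ b : PicLoc.PicSet B,
            PicGrp.pullHom (Scheme.IdealSheafData.inclusion (le_sup_left : I ≤ I ⊔ J)) hWY y =
              PicGrp.pullHom (Scheme.IdealSheafData.inclusion (le_sup_right : J ≤ I ⊔ J)) hWZ z *
                PicGrp.pullHom ((I ⊔ J).subschemeι ≫ π) hπW b) →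
          ∃ (c : PicLoc.PicSet X) (b₁ b₂ : PicLoc.PicSet B),
            PicGrp.pullHom I.subschemeι hY c = y * PicGrp.pullHom (I.subschemeι ≫ π) hπY b₁ ∧
              PicGrp.pullHom J.subschemeι hZ c = z * PicGrp.pullHom (J.subschemeι ≫ π) hπZ b₂) := by
  exact main π I J hIJ s hs
    (UnitsThick.PushO.isIso_app ((I ⊔ J).subschemeι ≫ π) hfib ⊤) hπ hY hZ hπY hπZ hπW hWY hWZ

end Groth.Agent.S15404
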