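import Groth.Statements.S15405
import Groth.Agent.KSMod.Tensor
import Groth.Agent.KFlat.TensorLocFree

set_option autoImplicit false
universe u
open CategoryTheory CategoryTheory.Limits AlgebraicGeometry
open ASBun

namespace Groth.Agent.S15405

open W4c1astiltbs12
open Groth.Agent

open W4c1astiltbs12 in
/-- Let X be proper over a field k, K an algebraic closure of k such that X_K is connected, and π : X_K
→ X the projection; assume the Picard group laws on X and on X_K and that pullback of invertible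
classes along π is multiplicative. Suppose that Pic(X_K) is infinite cyclic, generated by the class
of an invertible module L; that J is an invertible O_X-module with π^*J ≅ L^{⊗r} for some r ≥ 1; and
that there is an indecomposable finite locally free O_X-module (nonzero, and in any direct-sum
decomposition one summand is zero) whose pullback to X_K is isomorphic to L^{⊕d} for some d. Then:
(a) every indecomposable finite locally free O_X-module E whose pullback to X_K is a finite direct
sum of invertible modules is isomorphic to M ⊗ J_a, where 0 ≤ j < r, M is an indecomposable finite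
locally free O_X-module with π^*M ≅ (L^{⊗j})^{⊕d} for some d, a is an integer and J_a is an
invertible O_X-module whose class in Pic(X) is the a-th power of the class of J; (b) the integers a
and j in such an expression are determined by E. (The published statement takes r to be the least
such integer, the period, and leaves the connectedness of X_K implicit; the argument treats
invertible modules on X_K as indecomposable, whence that hypothesis, and does not use the minimality
of r.) -/
theorem result (k : Type u) [Field k] {X : Scheme.{u}}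
    (p : X ⟶ Spec (CommRingCat.of k)) [IsProper p] (K : Type u) [Field K] [Algebra k K] [IsAlgClosure k K]
    [ConnectedSpace ↥(W4bk4gw11416.baseChange p K)]
    [PicGrp.Law X] [PicGrp.Law (W4bk4gw11416.baseChange p K)] (hπ : PicGrp.PullMul (proj p K))
    (L : (W4bk4gw11416.baseChange p K).Modules) (hL : PicF.IsInvertible L)
    (e : PicLoc.PicSet (W4bk4gw11416.baseChange p K) ≃* Multiplicative ℤ)
    (he : e (PicGrp.cls L hL) = Multiplicative.ofAdd 1)
    (r : ℕ) (hr : 1 ≤ r) (J : X.Modules) (hJ : PicF.IsInvertible J)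
    (hJL : Nonempty (bcMod p K J ≅ CohB1.tensorPow L r))
    (hML : ∃ (M₁ : X.Modules) (d₁ : ℕ), FlatMod.IsFinLocFree M₁ ∧
      (¬ IsZero M₁ ∧ ∀ A B : X.Modules, Nonempty (M₁ ≅ A ⊞ B) → IsZero A ∨ IsZero B) ∧
      Nonempty (bcMod p K M₁ ≅ pow L d₁))
    (E : X.Modules) (hE : FlatMod.IsFinLocFree E)
    (hEi : (¬ IsZero E ∧ ∀ A B : X.Modules, Nonempty (E ≅ A ⊞ B) → IsZero A ∨ IsZero B))
    (n : ℕ) (Ls : Fin n → (W4bk4gw11416.baseChange p K).Modules) (hLs : ∀ i, PicF.IsInvertible (Ls i))
    (hEs : Nonempty (bcMod p K E ≅ ∐ Ls)) :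
    (∃ (a : ℤ) (j : ℕ), j < r ∧ ∃ (M : X.Modules) (d : ℕ) (Ja : X.Modules) (hJa : PicF.IsInvertible Ja),
      FlatMod.IsFinLocFree M ∧ (¬ IsZero M ∧ ∀ A B : X.Modules, Nonempty (M ≅ A ⊞ B) → IsZero A ∨ IsZero B) ∧
      Nonempty (bcMod p K M ≅ pow (CohB1.tensorPow L j) d) ∧
      PicGrp.cls Ja hJa = PicGrp.cls J hJ ^ a ∧ Nonempty (E ≅ CohB1.tensorMod M Ja)) ∧
    (∀ (a a' : ℤ) (j j' : ℕ) (M M' : X.Modules) (d d' : ℕ) (Ja Ja' : X.Modules)
      (hJa : PicF.IsInvertible Ja) (hJa' : PicF.IsInvertible Ja'),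
      j < r → j' < r →
      (¬ IsZero M ∧ ∀ A B : X.Modules, Nonempty (M ≅ A ⊞ B) → IsZero A ∨ IsZero B) → (¬ IsZero M' ∧ ∀ A B : X.Modules, Nonempty (M' ≅ A ⊞ B) → IsZero A ∨ IsZero B) →
      Nonempty (bcMod p K M ≅ pow (CohB1.tensorPow L j) d) → Nonempty (bcMod p K M' ≅ pow (CohB1.tensorPow L j') d') →
      PicGrp.cls Ja hJa = PicGrp.cls J hJ ^ a → PicGrp.cls Ja' hJa' = PicGrp.cls J hJ ^ a' →
      Nonempty (E ≅ CohB1.tensorMod M Ja) → Nonempty (E ≅ CohB1.tensorMod M' Ja') → a = a' ∧ j = j') := by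
  haveI : Algebra.IsAlgebraic k K := IsAlgClosure.isAlgebraic
  haveI := KSMod.isLocallyNoetherian p
  have hEc := VBLib.isCoh_of_isFinLocFree hE

  set ℓ := PicGrp.cls L hL with hℓ
  have hpow : ∀ z : ℤ, e (ℓ ^ z) = Multiplicative.ofAdd z := fun z => by
    rw [map_zpow, he, ← ofAdd_zsmul, smul_eq_mul, mul_one]
  have hJr : PicGrp.pullHom (proj p K) hπ (PicGrp.cls J hJ) = ℓ ^ (r : ℤ) := by
    rw [PicGrp.pullHom_cls (proj p K) hπ J hJ, zpow_natCast, ← KSMod.cls_tensorPow hL r]
    exact (PicGrp.cls_eq_cls_iff _ _).mpr hJL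
  -- the class of the type attached to `(j, a)`
  have hclass : ∀ (j : ℕ) (a : ℤ) (Ja : X.Modules) (hJa : PicF.IsInvertible Ja),
      PicGrp.cls Ja hJa = PicGrp.cls J hJ ^ a →
      PicGrp.cls (CohB1.tensorMod (CohB1.tensorPow L j) (bcMod p K Ja))
        (PicLaw.isInvertible_tensor (KSMod.isInvertible_tensorPow hL j)
          (PicLoc.isInvertible_pullback (proj p K) hJa)) = ℓ ^ ((j : ℤ) + r * a) := by
    intro j a Ja hJa h
    rw [KSMod.cls_tens (KSMod.isInvertible_tensorPow hL j) (PicLoc.isInvertible_pullback (proj p K) hJa),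
      KSMod.cls_tensorPow hL j, ← PicGrp.pullHom_cls (proj p K) hπ Ja hJa, h, map_zpow, hJr,
      ← zpow_natCast, ← zpow_mul, ← zpow_add]
  have hLj : ∀ j, KSMod.Indec (CohB1.tensorPow L j) := fun j =>
    KSMod.indec_of_isInvertible (KSMod.isInvertible_tensorPow hL j)
  refine ⟨?_, ?_⟩
  · -- tensor powers of an isotypical module of type `L`
    have hT : ∀ j : ℕ, ∃ (T : X.Modules) (m : ℕ), FlatMod.IsFinLocFree T ∧ 0 < m ∧
        Nonempty (KSMod.Dec (bcMod p K T) (fun _ : Fin m => CohB1.tensorPow L j)) := by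
      obtain ⟨M₁, d₁, hM₁, hM₁i, ⟨eM⟩⟩ := hML
      have dM := KSMod.powDec eM
      have hd₁ := KSMod.pos_of_dec dM
        (KSMod.not_isZero_bcMod p K (VBLib.isCoh_of_isFinLocFree hM₁) hM₁i.1)
      intro j
      induction j with
      | zero =>
        obtain ⟨e0⟩ : Nonempty (bcMod p K (Coh.structureModule X) ≅ Coh.structureModule _) :=
          (PicGrp.cls_eq_one_iff
            (PicLoc.isInvertible_pullback (proj p K) (PicLoc.isInvertible_structureModule X))).mp (by
            rw [← PicGrp.pullHom_cls (proj p K) hπ _ (PicLoc.isInvertible_structureModule X),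
              PicGrp.cls_structureModule_eq_one, map_one])
        refine ⟨Coh.structureModule X, 1,
          VBLib.isFinLocFree_of_ofRank
            (ProjTwist.isFinLocFreeOfRank_one (PicLoc.isInvertible_structureModule X)), one_pos, ⟨?_⟩⟩
        exact
          { inj := fun _ => e0.inv
            proj := fun _ => e0.hom
            inj_proj := fun _ => e0.inv_hom_id
            inj_proj_ne := fun i j h => absurd (Subsingleton.elim i j) h
            total := by simp }
      | succ j ih =>
        obtain ⟨T, m, hTf, hm, ⟨dT⟩⟩ := ih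
        refine ⟨CohB1.tensorMod T M₁, m * d₁, KFlat.TensorLocFree.isFinLocFree_tensM hTf hM₁,
          Nat.mul_pos hm hd₁, ⟨?_⟩⟩
        have g : KSMod.Dec ((KSMod.tR (bcMod p K M₁)).obj (CohB1.tensorPow L j))
            (fun _ : Fin d₁ => CohB1.tensorPow L (j + 1)) :=
          (dM.map (KSMod.tR (CohB1.tensorPow L j))).congr
            (ProjTwist.tensComm (bcMod p K M₁) (CohB1.tensorPow L j))
            (fun _ => ProjTwist.tensComm L (CohB1.tensorPow L j))
        exact (((dT.map (KSMod.tR (bcMod p K M₁))).congr (KSMod.pullTens (proj p K) T M₁).symm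
          (fun _ => Iso.refl _)).trans (fun _ => g)).reindex finProdFinEquiv.symm
    choose T m hTf hm hdT using hT
    haveI : HasFiniteBiproducts (W4bk4gw11416.baseChange p K).Modules := Abelian.hasFiniteBiproducts
    obtain ⟨eE⟩ := hEs
    have dE : KSMod.Dec (bcMod p K E) Ls := KSMod.Dec.ofIso (eE ≪≫ (biproduct.isoCoproduct _).symm)
    let z : Fin n → ℤ := fun i => Multiplicative.toAdd (e (PicGrp.cls (Ls i) (hLs i)))
    let j : Fin n → ℕ := fun i => (z i % r).toNat
    let a : Fin n → ℤ := fun i => z i / r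
    have hjr : ∀ i, j i < r ∧ z i = (j i : ℤ) + r * a i := fun i => by
      have h1 := Int.emod_nonneg (z i) (show (r : ℤ) ≠ 0 by omega)
      have h2 := Int.emod_lt_of_pos (z i) (show (0 : ℤ) < r by omega)
      have h3 : (j i : ℤ) = z i % r := Int.toNat_of_nonneg h1
      refine ⟨by omega, ?_⟩
      rw [h3]
      exact (Int.emod_add_mul_ediv (z i) r).symm
    choose Ja hJa hJae using fun i => PicGrp.exists_eq_cls (PicGrp.cls J hJ ^ a i)
    have hiso : ∀ i, Nonempty (CohB1.tensorMod (CohB1.tensorPow L (j i)) (bcMod p K (Ja i)) ≅ Ls i) :=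
      fun i => by
        refine (PicGrp.cls_eq_cls_iff (PicLaw.isInvertible_tensor (KSMod.isInvertible_tensorPow hL (j i))
          (PicLoc.isInvertible_pullback (proj p K) (hJa i))) (hLs i)).mp ?_
        rw [hclass _ _ _ _ (hJae i).symm]
        refine e.injective ?_
        rw [hpow, ← (hjr i).2]
        rfl
    let C : Fin n → X.Modules := fun i => (KSMod.tR (Ja i)).obj (T (j i))
    have hCf : ∀ i, FlatMod.IsFinLocFree (C i) := fun i =>
      KFlat.TensorLocFree.isFinLocFree_tensM (hTf (j i))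
        (VBLib.isFinLocFree_of_ofRank (ProjTwist.isFinLocFreeOfRank_one (hJa i)))
    let dC : ∀ i, KSMod.Dec (bcMod p K (C i)) (fun _ : Fin (m (j i)) => Ls i) := fun i =>
      ((hdT (j i)).some.map (KSMod.tR (bcMod p K (Ja i)))).congr
        (KSMod.pullTens (proj p K) (T (j i)) (Ja i)).symm (fun _ => (hiso i).some)
    obtain ⟨i, -, φ, γ, hφγ⟩ := KSMod.exists_retract p K hEc hEi Finset.univ C
      (fun i => VBLib.isCoh_of_isFinLocFree (hCf i))
      (fun i => dE.proj i ≫ (dC i).inj ⟨0, hm (j i)⟩) (fun i => (dC i).proj ⟨0, hm (j i)⟩ ≫ dE.inj i)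
      (Eq.trans (Finset.sum_congr rfl fun i _ => by
        rw [Category.assoc, reassoc_of% ((dC i).inj_proj ⟨0, hm (j i)⟩)]) dE.total)
    obtain ⟨J', hJ', ⟨eJ⟩⟩ := KSMod.exists_inverse (hJa i)
    let M := (KSMod.tR J').obj E
    let ι : M ⟶ T (j i) := (KSMod.tR J').map φ ≫ (KSMod.tCancel eJ (T (j i))).hom
    let π : T (j i) ⟶ M := (KSMod.tCancel eJ (T (j i))).inv ≫ (KSMod.tR J').map γ
    have hιπ : ι ≫ π = 𝟙 M := by
      simp only [ι, π, Category.assoc, Iso.hom_inv_id_assoc]
      exact ((KSMod.tR J').map_comp φ γ).symm.trans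
        ((congrArg (KSMod.tR J').map hφγ).trans ((KSMod.tR J').map_id E))
    have hMf : FlatMod.IsFinLocFree M := KSMod.isFinLocFree_of_retract ι π hιπ (hTf (j i))
    obtain ⟨d, ⟨dM⟩⟩ := KSMod.exists_dec_of_retract p K
      (KSMod.isCoh_bcMod p K (VBLib.isCoh_of_isFinLocFree hMf)) (hLj (j i)) (hdT (j i)).some
      ((Scheme.Modules.pullback (proj p K)).map ι) ((Scheme.Modules.pullback (proj p K)).map π)
      (by rw [← Functor.map_comp, hιπ, CategoryTheory.Functor.map_id])
    exact ⟨a i, j i, (hjr i).1, M, d, Ja i, hJa i, hMf,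
      KSMod.indec_tR hJ' (hJa i) (ProjTwist.tensComm J' (Ja i) ≪≫ eJ) hEi,
      ⟨dM.powIso⟩, (hJae i).symm,
      ⟨(KSMod.tCancel (ProjTwist.tensComm J' (Ja i) ≪≫ eJ) E).symm⟩⟩
  · intro a a' j j' M M' d d' Ja Ja' hJa hJa' hj hj' hMi hMi' ⟨eM⟩ ⟨eM'⟩ hca hca' ⟨f⟩ ⟨f'⟩
    let mk : ∀ (j : ℕ) (M : X.Modules) (d : ℕ) (Ja : X.Modules), (bcMod p K M ≅ pow (CohB1.tensorPow L j) d) →
        (E ≅ CohB1.tensorMod M Ja) → KSMod.Dec (bcMod p K E)
          (fun _ : Fin d => CohB1.tensorMod (CohB1.tensorPow L j) (bcMod p K Ja)) :=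
      fun j M d Ja eM f => ((KSMod.powDec eM).map (KSMod.tR (bcMod p K Ja))).congr
        ((KSMod.pullTens (proj p K) M Ja).symm ≪≫ ((Scheme.Modules.pullback (proj p K)).mapIso f).symm)
        (fun _ => Iso.refl _)
    have hd := KSMod.pos_of_dec (mk j M d Ja eM f) (KSMod.not_isZero_bcMod p K hEc hEi.1)
    have h := KSMod.type_iso_of_dec p K (KSMod.isCoh_bcMod p K hEc)
      (KSMod.indec_of_isInvertible (PicLaw.isInvertible_tensor (KSMod.isInvertible_tensorPow hL j)
        (PicLoc.isInvertible_pullback (proj p K) hJa)))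
      (KSMod.indec_of_isInvertible (PicLaw.isInvertible_tensor (KSMod.isInvertible_tensorPow hL j')
        (PicLoc.isInvertible_pullback (proj p K) hJa'))) hd (mk j M d Ja eM f) (mk j' M' d' Ja' eM' f')
    rw [← PicGrp.cls_eq_cls_iff (PicLaw.isInvertible_tensor (KSMod.isInvertible_tensorPow hL j)
        (PicLoc.isInvertible_pullback (proj p K) hJa)) (PicLaw.isInvertible_tensor
        (KSMod.isInvertible_tensorPow hL j') (PicLoc.isInvertible_pullback (proj p K) hJa')),
      hclass _ _ _ _ hca, hclass _ _ _ _ hca'] at h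
    have h' := congrArg e h
    rw [hpow, hpow] at h'
    have h2 : (j : ℤ) + r * a = j' + r * a' := Multiplicative.ofAdd.injective h'
    have hjj : (j : ℤ) = j' := by
      have := congrArg (· % (r : ℤ)) h2
      simpa [Int.emod_eq_of_lt (Int.natCast_nonneg j) (by exact_mod_cast hj : (j : ℤ) < r),
        Int.emod_eq_of_lt (Int.natCast_nonneg j') (by exact_mod_cast hj' : (j' : ℤ) < r)] using this
    refine ⟨?_, by exact_mod_cast hjj⟩
    rw [hjj, add_right_inj] at h2
    exact mul_left_cancel₀ (by exact_mod_cast (by omega : r ≠ 0)) h2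

end Groth.Agent.S15405
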