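import Groth.Statements.S15407
import Groth.Agent.LiftLib.KerDivisible
import Groth.Agent.S11763
import Groth.Agent.S0458
import Groth.Agent.S0404
import Groth.Agent.PicThk19.Algebraize
import Groth.Agent.PicThickTriv.Main
import Groth.Agent.PicLaw.Calc
import Groth.Agent.CBC.GeomRedEtale
import Groth.Agent.UnitsThick.Flat

set_option autoImplicit false
set_option linter.style.haveILetI false
set_option linter.unusedVariables false
set_option backward.isDefEq.respectTransparency false
set_option backward.isDefEq.respectTransparency.types false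
universe u
open CategoryTheory CategoryTheory.Limits AlgebraicGeometry
open Models

noncomputable section

namespace Groth.Agent.S15407

open Groth.Agent.UnitsThick Groth.Agent.LiftLib
open Groth.Agent.PicLaw (pullMul)

section Fibre

variable {R : Type u} [CommRing R] [IsDomain R] [IsDiscreteValuationRing R]

/-- The closed fibre of a flat proper model of a curve has dimension at most one. -/
theorem dim_closedFibre {C : Scheme.{u}} {fC : C ⟶ Spec (CommRingCat.of (FractionRing R))}
    (hC1 : topologicalKrullDim C = 1) {X : Scheme.{u}} (p : X ⟶ Spec (CommRingCat.of R)) [IsProper p] [Flat p]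
    {g : C ⟶ X} (hg : IsPullback g fC p (Spec.map (CommRingCat.ofHom (algebraMap R (FractionRing R))))) :
    topologicalKrullDim ↥(pullback p (Spec.map (CommRingCat.ofHom
      (algebraMap R (IsLocalRing.ResidueField R))))) ≤ 1 := by
  let η : Spec (CommRingCat.of R) := (⟨⊥, Ideal.isPrime_bot⟩ : PrimeSpectrum R)
  let s₀ : Spec (CommRingCat.of R) := IsLocalRing.closedPoint R
  haveI : IsPreimmersion (Spec.map (CommRingCat.ofHom (algebraMap R (FractionRing R)))) :=
    IsPreimmersion.of_isLocalization (nonZeroDivisors R)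
  haveI : IsClosedImmersion (Spec.map (CommRingCat.ofHom (algebraMap R (IsLocalRing.ResidueField R)))) :=
    IsClosedImmersion.spec_of_surjective _ IsLocalRing.residue_surjective
  haveI : IsPreimmersion g := MorphismProperty.of_isPullback hg.flip inferInstance
  have r1 : Set.range g = p ⁻¹' {η} := by
    have h1 : Set.range g = p ⁻¹' Set.range (Spec.map (CommRingCat.ofHom (algebraMap R (FractionRing R)))) := by
      have e : g = hg.isoPullback.hom ≫ pullback.fst _ _ := hg.isoPullback_hom_fst.symm
      rw [e, Scheme.Hom.comp_base, TopCat.coe_comp, Set.range_comp,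
        Set.range_eq_univ.2 hg.isoPullback.hom.surjective, Set.image_univ,
        Scheme.Pullback.range_fst]
    rw [h1]
    congr 1
    refine Set.eq_singleton_iff_unique_mem.2 ⟨?_, ?_⟩
    · exact ⟨(⟨⊥, Ideal.isPrime_bot⟩ : PrimeSpectrum (FractionRing R)),
        PrimeSpectrum.ext (Ideal.comap_bot_of_injective _ (IsFractionRing.injective R (FractionRing R)))⟩
    · rintro _ ⟨y, rfl⟩
      refine PrimeSpectrum.ext ?_
      show Ideal.comap (algebraMap R (FractionRing R)) y.asIdeal = ⊥
      rw [(Ideal.eq_bot_or_top y.asIdeal).resolve_right y.isPrime.ne_top]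
      exact Ideal.comap_bot_of_injective _ (IsFractionRing.injective R (FractionRing R))
  have r2 : Set.range (pullback.fst p (Spec.map (CommRingCat.ofHom
      (algebraMap R (IsLocalRing.ResidueField R))))) = p ⁻¹' {s₀} := by
    rw [Scheme.Pullback.range_fst]
    congr 1
    refine Set.eq_singleton_iff_unique_mem.2 ⟨⟨(⊥ : PrimeSpectrum (IsLocalRing.ResidueField R)), ?_⟩, ?_⟩
    · exact PrimeSpectrum.ext (IsLocalRing.ker_residue (R := R))
    · rintro _ ⟨y, rfl⟩
      refine PrimeSpectrum.ext ?_
      show Ideal.comap (IsLocalRing.residue R) y.asIdeal = IsLocalRing.maximalIdeal R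
      rw [(Ideal.eq_bot_or_top y.asIdeal).resolve_right y.isPrime.ne_top]
      exact IsLocalRing.ker_residue
  let e1 : C ≃ₜ p.fiber η :=
    g.isEmbedding.toHomeomorph.trans ((Homeomorph.setCongr r1).trans (p.fiberHomeo η).symm)
  let e2 := (pullback.fst p (Spec.map (CommRingCat.ofHom
    (algebraMap R (IsLocalRing.ResidueField R))))).isEmbedding.toHomeomorph.trans
      ((Homeomorph.setCongr r2).trans (p.fiberHomeo s₀).symm)
  rw [IsHomeomorph.topologicalKrullDim_eq _ e2.isHomeomorph]
  by_contra hlt
  rw [not_le] at hlt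
  have hη : η ⤳ s₀ := (PrimeSpectrum.le_iff_specializes _ _).1 (show (⊥ : Ideal R) ≤ _ from bot_le)
  have h := hη.mem_open (Groth.Agent.S0404.result p (1 : WithBot ℕ∞)) hlt
  change (1 : WithBot ℕ∞) < topologicalKrullDim (p.fiber η) at h
  rw [← IsHomeomorph.topologicalKrullDim_eq _ e1.isHomeomorph, hC1] at h
  exact lt_irrefl _ h

end Fibre

section Thick

variable {R : Type u} [CommRing R] [IsLocalRing R] {X : Scheme.{u}} (p : X ⟶ Spec (CommRingCat.of R))

local notation "k" => IsLocalRing.ResidueField R
local notation "m" => IsLocalRing.maximalIdeal R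

/-- The residue map of a truncation. -/
def red (n : ℕ) : R ⧸ (IsLocalRing.maximalIdeal R) ^ (n + 1) →+* IsLocalRing.ResidueField R :=
  Ideal.Quotient.lift _ (algebraMap R (IsLocalRing.ResidueField R)) fun a ha =>
    (IsLocalRing.residue_eq_zero_iff a).2 (Ideal.pow_le_self n.succ_ne_zero ha)

lemma spec_red (n : ℕ) : Spec.map (CommRingCat.ofHom (red (R := R) n)) ≫ CohB1.specQuot m n =
    Spec.map (CommRingCat.ofHom (algebraMap R k)) := by
  rw [CohB1.specQuot, ← Spec.map_comp, ← CommRingCat.ofHom_comp, red, Ideal.Quotient.lift_comp_mk]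

/-- The inclusion of the closed fibre in a thickening. -/
def jn (n : ℕ) : pullback p (Spec.map (CommRingCat.ofHom (algebraMap R k))) ⟶ CohB1.thick p m n :=
  pullback.lift (pullback.fst _ _) (pullback.snd _ _ ≫ Spec.map (CommRingCat.ofHom (red n)))
    (by rw [Category.assoc, spec_red n]; exact pullback.condition)

lemma jn_fst (n : ℕ) : jn p n ≫ CohB1.thickι p m n = pullback.fst _ _ := pullback.lift_fst _ _ _

lemma red_surjective (n : ℕ) : Function.Surjective (red (R := R) n) := fun y => by
  obtain ⟨a, rfl⟩ := IsLocalRing.residue_surjective y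
  exact ⟨Ideal.Quotient.mk _ a, rfl⟩

lemma ker_red (n : ℕ) : RingHom.ker (red (R := R) n) ≤ nilradical (R ⧸ (IsLocalRing.maximalIdeal R) ^ (n + 1)) := by
  intro c hc
  obtain ⟨a, rfl⟩ := Ideal.Quotient.mk_surjective c
  refine mem_nilradical.2 ⟨n + 1, ?_⟩
  rw [← map_pow, Ideal.Quotient.eq_zero_iff_mem]
  exact Ideal.pow_mem_pow ((IsLocalRing.residue_eq_zero_iff a).1 hc) _

lemma isPullback_jn (n : ℕ) :
    IsPullback (jn p n) (pullback.snd p (Spec.map (CommRingCat.ofHom (algebraMap R k))))
      (CohB1.thickToBase p m n) (Spec.map (CommRingCat.ofHom (red n))) := by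
  refine IsPullback.of_right (h₁₂ := CohB1.thickι p m n) (v₁₃ := p)
    (h₂₂ := CohB1.specQuot m n) ?_ (pullback.lift_snd _ _ _) (IsPullback.of_hasPullback _ _)
  rw [jn_fst, spec_red n]
  exact IsPullback.of_hasPullback _ _

lemma isClosedImmersion_jn (n : ℕ) : IsClosedImmersion (jn p n) :=
  MorphismProperty.of_isPullback (isPullback_jn p n).flip
    (IsClosedImmersion.spec_of_surjective _ (red_surjective n))

lemma isClosedImmersion_thickι (n : ℕ) : IsClosedImmersion (CohB1.thickι p m n) := by
  haveI : IsClosedImmersion (CohB1.specQuot m n) :=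
    IsClosedImmersion.spec_of_surjective _ Ideal.Quotient.mk_surjective
  exact MorphismProperty.pullback_fst p (CohB1.specQuot m n) inferInstance

lemma trans_ι (n : ℕ) : CohB1.thickTrans p m n ≫ CohB1.thickι p m (n + 1) = CohB1.thickι p m n :=
  (pullback.lift_fst _ _ _).trans (Category.comp_id _)

lemma jn_trans (n : ℕ) : jn p n ≫ CohB1.thickTrans p m n = jn p (n + 1) := by
  haveI := isClosedImmersion_thickι p (n + 1)
  rw [← cancel_mono (CohB1.thickι p m (n + 1)), Category.assoc, trans_ι, jn_fst, jn_fst]

attribute [local instance] VarBC.H0.topAlgebra in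
theorem exists_root_closedFibre [IsProper p] (hk : IsAlgClosed (IsLocalRing.ResidueField R)) {q : ℕ}
    (hq : 1 ≤ q) (hqk : (q : IsLocalRing.ResidueField R) ≠ 0)
    (u : Γ(pullback p (Spec.map (CommRingCat.ofHom (algebraMap R k))), ⊤)) (hu : IsUnit u) :
    ∃ r, r ^ q = u := by
  letI : (pullback p (Spec.map (CommRingCat.ofHom (algebraMap R k)))).Over (Spec (CommRingCat.of k)) :=
    ⟨pullback.snd _ _⟩
  haveI : IsProper ((pullback p (Spec.map (CommRingCat.ofHom (algebraMap R k)))) ↘ Spec (CommRingCat.of k)) :=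
    MorphismProperty.pullback_snd p _ ‹_›
  haveI := CBC.GeomRedEtale.finite_top k (pullback p (Spec.map (CommRingCat.ofHom (algebraMap R k))))
  exact KerDiv.exists_root_of_finite hq hqk hu

open scoped Groth.Agent.PicLaw in
theorem ker_thick [IsProper p] (hk : IsAlgClosed (IsLocalRing.ResidueField R)) {q : ℕ} (hq : 1 ≤ q)
    (hqk : (q : IsLocalRing.ResidueField R) ≠ 0) (n : ℕ)
    [PicGrp.Law (pullback p (Spec.map (CommRingCat.ofHom (algebraMap R (IsLocalRing.ResidueField R)))))] :
    (∀ x, PicGrp.pullHom (jn p n) (pullMul _) x = 1 →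
        ∃ d, PicGrp.pullHom (jn p n) (pullMul _) d = 1 ∧ d ^ q = x) ∧
      ∀ x, PicGrp.pullHom (jn p n) (pullMul _) x = 1 → x ^ q = 1 → x = 1 := by
  haveI := isClosedImmersion_jn p n
  have hcl := cl_of_isPullback (red_surjective n) (isPullback_jn p n)
  have hqR : IsUnit (q : R) :=
    (IsLocalRing.residue_ne_zero_iff_isUnit _).1 (by rw [map_natCast]; exact hqk)
  refine KerDiv.ker_divisible (jn p n) q hcl.surj (fun W hW a ha => ?_) hq ?_ (pullMul _)
    (exists_root_closedFibre p hk hq hqk)
  · rw [hcl.ker W hW] at ha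
    refine mem_nilradical.1 ((Ideal.map_le_iff_le_comap.2 fun c hc => ?_) ha)
    exact mem_nilradical.2 ((mem_nilradical.1 (ker_red n hc)).map _)
  · have := (hqR.map (Ideal.Quotient.mk ((IsLocalRing.maximalIdeal R) ^ (n + 1)))).map
      (DefSchLib.str (CohB1.thickToBase p m n) ⊤)
    rwa [map_natCast, map_natCast] at this

end Thick

open scoped Groth.Agent.PicLaw in
theorem core {R : Type u} [CommRing R] [IsLocalRing R] [IsNoetherianRing R]
    [IsAdicComplete (IsLocalRing.maximalIdeal R) R] (hk : IsAlgClosed (IsLocalRing.ResidueField R))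
    {X : Scheme.{u}} (p : X ⟶ Spec (CommRingCat.of R)) [IsProper p] {q : ℕ} (hq : 1 ≤ q)
    (hqk : (q : IsLocalRing.ResidueField R) ≠ 0) [PicGrp.Law X]
    [PicGrp.Law (pullback p (Spec.map (CommRingCat.ofHom (algebraMap R (IsLocalRing.ResidueField R)))))]
    (hi : PicGrp.PullMul (pullback.fst p (Spec.map (CommRingCat.ofHom (algebraMap R (IsLocalRing.ResidueField R))))))
    (c : PicLoc.PicSet X) (hc : PicGrp.pullHom _ hi c = 1) :
    ∃! d : PicLoc.PicSet X, PicGrp.pullHom _ hi d = 1 ∧ d ^ q = c := by
  let ι := fun n => CohB1.thickι p (IsLocalRing.maximalIdeal R) n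
  let tr := fun n => CohB1.thickTrans p (IsLocalRing.maximalIdeal R) n
  let P := fun n => PicGrp.pullHom (ι n) (pullMul _)
  let J := fun n => PicGrp.pullHom (jn p n) (pullMul _)
  let T := fun n => PicGrp.pullHom (tr n) (pullMul _)
  have hJP : ∀ n a, J n (P n a) = PicGrp.pullHom _ hi a := fun n a => by
    rw [← PicGrp.pullHom_comp_apply _ _ (pullMul _) (pullMul _) (pullMul _)]
    exact Subtype.ext (congrArg (fun φ => PicF.pullCl φ a.1) (jn_fst p n))
  have hTP : ∀ n a, T n (P (n + 1) a) = P n a := fun n a => by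
    rw [← PicGrp.pullHom_comp_apply _ _ (pullMul _) (pullMul _) (pullMul _)]
    exact Subtype.ext (congrArg (fun φ => PicF.pullCl φ a.1) (trans_ι p n))
  have hJT : ∀ n a, J n (T n a) = J (n + 1) a := fun n a => by
    rw [← PicGrp.pullHom_comp_apply _ _ (pullMul _) (pullMul _) (pullMul _)]
    exact Subtype.ext (congrArg (fun φ => PicF.pullCl φ a.1) (jn_trans p n))
  have hinj : ∀ a, (∀ n, P n a = 1) → a = 1 := fun a h => by
    obtain ⟨L, hL, rfl⟩ := PicGrp.exists_eq_cls a
    rw [PicGrp.cls_eq_one_iff]
    refine PicThickTriv.main _ le_rfl p L hL fun n => ?_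
    have h1 : P n (PicGrp.cls L hL) = 1 := h n
    rwa [PicGrp.pullHom_cls, PicGrp.cls_eq_one_iff] at h1
  have hK := fun n => ker_thick p hk hq hqk n
  choose D hD1 hD2 using fun n => (hK n).1 (P n c) (by rw [← hJP n c] at hc; exact hc)
  have hD : ∀ n, T n (D (n + 1)) = D n := fun n => by
    rw [← mul_inv_eq_one]
    refine (hK n).2 _ ?_ ?_
    · show J n _ = 1
      rw [map_mul, map_inv, hJT, show J (n + 1) (D (n + 1)) = 1 from hD1 (n + 1),
        show J n (D n) = 1 from hD1 n, inv_one, one_mul]
    · rw [mul_pow, inv_pow, ← map_pow, hD2, hD2, hTP, mul_inv_cancel]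
  choose L hL hLD using fun n => PicGrp.exists_eq_cls (D n)
  obtain ⟨M, hM, hMn⟩ := PicThk19.exists_algebraization p L hL (fun n => by
    have h := hD n
    rw [hLD (n + 1), hLD n, PicGrp.pullHom_cls, PicGrp.cls_eq_cls_iff] at h
    exact h)
  have hMD : ∀ n, P n (PicGrp.cls M hM) = D n := fun n => by
    rw [PicGrp.pullHom_cls, hLD n, PicGrp.cls_eq_cls_iff]
    exact hMn n
  refine ⟨PicGrp.cls M hM, ⟨?_, ?_⟩, ?_⟩
  · rw [← hJP 0, hMD 0]
    exact hD1 0
  · rw [← mul_inv_eq_one]
    refine hinj _ fun n => ?_
    rw [map_mul, map_inv, map_pow, hMD n, hD2, mul_inv_cancel]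
  · rintro d ⟨hd1, hd2⟩
    rw [← mul_inv_eq_one]
    refine hinj _ fun n => ?_
    refine (hK n).2 _ ?_ ?_
    · show J n _ = 1
      rw [hJP, map_mul, map_inv, hd1, ← hJP n (PicGrp.cls M hM), hMD n, show J n (D n) = 1 from hD1 n,
        inv_one, one_mul]
    · rw [← map_pow, mul_pow, inv_pow, hd2, map_mul, map_inv, map_pow, hMD n, hD2, mul_inv_cancel]

/-- Let R be a complete discrete valuation ring with algebraically closed residue field k and fraction
field K, C a smooth proper K-scheme of Krull dimension one (a curve) with H⁰(C, O_C) = K and dim_K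
H¹(C, O_C) ≥ 2, X → Spec R a regular proper model of C, X_k = X ×_R Spec k its closed fibre with
inclusion i : X_k → X, and q ≥ 1 an integer which is nonzero in k. Assume the Picard group laws on X
and X_k and that pullback of invertible classes along i is multiplicative. Then (a) the restriction
Pic(X) → Pic(X_k) is surjective, and (b) its kernel N is uniquely q-divisible: for every c in N
there is exactly one d in N with d^q = c. (The published statement introduces N as the kernel of
Pic⁰(X) → Pic⁰(X_k), Pic⁰ denoting the classes of degree 0 on every component of the closed fibre,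
and asserts that this map is surjective; a class trivial on X_k has degree 0 on every component, so
N is the kernel in (b), and (a) is the equivalent surjectivity of the unrestricted map.) -/
theorem result
    (R : Type u) [CommRing R] [IsDomain R] [IsDiscreteValuationRing R]
    [IsAdicComplete (IsLocalRing.maximalIdeal R) R] (hk : IsAlgClosed (IsLocalRing.ResidueField R))
    (C : Scheme.{u}) (fC : C ⟶ Spec (CommRingCat.of (FractionRing R))) [IsProper fC] [Smooth fC]
    (hC0 : Models.hRank (FractionRing R) C fC (Coh.structureModule C) 0 = 1)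
    (hg2 : 2 ≤ Models.curveGenus (FractionRing R) C fC) (hC1 : topologicalKrullDim C = 1)
    (X : Scheme.{u}) (p : X ⟶ Spec (CommRingCat.of R)) (hX : Models.IsRegularProperModel R X p C fC)
    (q : ℕ) (hq : 1 ≤ q) (hqk : (q : IsLocalRing.ResidueField R) ≠ 0)
    [PicGrp.Law X]
    [PicGrp.Law (pullback p (Spec.map (CommRingCat.ofHom (algebraMap R (IsLocalRing.ResidueField R)))))]
    (hi : PicGrp.PullMul (pullback.fst p (Spec.map (CommRingCat.ofHom (algebraMap R (IsLocalRing.ResidueField R)))))) :
    Function.Surjective (PicGrp.pullHom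
        (pullback.fst p (Spec.map (CommRingCat.ofHom (algebraMap R (IsLocalRing.ResidueField R))))) hi) ∧
      ∀ c ∈ (PicGrp.pullHom
          (pullback.fst p (Spec.map (CommRingCat.ofHom (algebraMap R (IsLocalRing.ResidueField R))))) hi).ker,
        ∃! d : PicLoc.PicSet X,
          d ∈ (PicGrp.pullHom
            (pullback.fst p (Spec.map (CommRingCat.ofHom (algebraMap R (IsLocalRing.ResidueField R))))) hi).ker ∧
          d ^ q = c := by
  obtain ⟨⟨hflat, -, -, g, hg⟩, hprop, -⟩ := hX
  haveI := hprop
  haveI := hflat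
  refine ⟨fun z => ?_, fun c hc => ?_⟩
  · obtain ⟨L', hL', rfl⟩ := PicGrp.exists_eq_cls z
    haveI : CompactSpace ↥(pullback p (Spec.map (CommRingCat.ofHom
        (algebraMap R (IsLocalRing.ResidueField R))))) :=
      QuasiCompact.compactSpace_of_compactSpace (pullback.snd _ _)
    haveI : IsLocallyNoetherian (pullback p (Spec.map (CommRingCat.ofHom
        (algebraMap R (IsLocalRing.ResidueField R))))) :=
      LocallyOfFiniteType.isLocallyNoetherian (pullback.snd _ _)
    haveI : IsNoetherian (pullback p (Spec.map (CommRingCat.ofHom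
        (algebraMap R (IsLocalRing.ResidueField R))))) := { }
    have h2 : Subsingleton (Coh.HH (pullback p (Spec.map (CommRingCat.ofHom
        (algebraMap R (IsLocalRing.ResidueField R))))) (Coh.structureModule _) 2) :=
      Groth.Agent.S0458.result 1 (by exact_mod_cast dim_closedFibre hC1 p hg) _ 2 one_lt_two
    obtain ⟨L, hL, ⟨e⟩⟩ := Groth.Agent.S11763.result R p h2 L' hL'
    exact ⟨PicGrp.cls L hL, by rw [PicGrp.pullHom_cls, PicGrp.cls_eq_cls_iff]; exact ⟨e⟩⟩
  · exact core hk p hq hqk hi c hc

end Groth.Agent.S15407
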