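import Groth.Statements.S15409
import Groth.Agent.KSMod.Global

set_option autoImplicit false
universe u
open CategoryTheory CategoryTheory.Limits AlgebraicGeometry
open ASBun

namespace Groth.Agent.S15409

open W4c1astiltbs12
open Groth.Agent

open W4c1astiltbs12 in
/-- Let X be proper over a field k with k ≅ H⁰(X, O_X), K an algebraic closure of k with X_K connected
and projection π : X_K → X; assume the Picard group laws on X and X_K with pullback along π
multiplicative, that Pic(X_K) is infinite cyclic generated by the class of an invertible module L,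
and that J is an invertible O_X-module whose pullback to X_K has class the r-th power of the class
of L, r ≥ 1. Let j and a be integers and N, N' invertible O_{X_K}-modules with classes (cls L)^j and
(cls L)^{j'} where either j' = −j or j' = j + a·r. If W, W' are indecomposable finite locally free
O_X-modules (nonzero, and in any direct-sum decomposition one summand is zero) with π^*W ≅ N^{⊕d}
and π^*W' ≅ N'^{⊕d'}, then d = d': the rank of the indecomposable absolutely isotypical sheaf of
type L^{⊗j} depends only on ±j modulo r. (The published statement phrases this for the sheaves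
W_{L^{⊗j}}, whose existence for every j it assumes through an indecomposable absolutely isotypical
sheaf of type L; here the two sheaves are given, and r need not be minimal.) -/
theorem result (k : Type u) [Field k] {X : Scheme.{u}}
    (p : X ⟶ Spec (CommRingCat.of k)) [IsProper p] (hO : IsIso p.appTop) (K : Type u) [Field K] [Algebra k K] [IsAlgClosure k K]
    [ConnectedSpace ↥(W4bk4gw11416.baseChange p K)]
    [PicGrp.Law X] [PicGrp.Law (W4bk4gw11416.baseChange p K)] (hπ : PicGrp.PullMul (proj p K))
    (L : (W4bk4gw11416.baseChange p K).Modules) (hL : PicF.IsInvertible L)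
    (e : PicLoc.PicSet (W4bk4gw11416.baseChange p K) ≃* Multiplicative ℤ)
    (he : e (PicGrp.cls L hL) = Multiplicative.ofAdd 1)
    (r : ℕ) (hr : 1 ≤ r) (J : X.Modules) (hJ : PicF.IsInvertible J)
    (hJL : PicGrp.cls (bcMod p K J) (PicLoc.isInvertible_pullback (proj p K) hJ) = PicGrp.cls L hL ^ r)
    (j a j' : ℤ) (hj' : j' = -j ∨ j' = j + a * r)
    (N N' : (W4bk4gw11416.baseChange p K).Modules) (hN : PicF.IsInvertible N) (hN' : PicF.IsInvertible N')
    (hNj : PicGrp.cls N hN = PicGrp.cls L hL ^ j) (hN'j : PicGrp.cls N' hN' = PicGrp.cls L hL ^ j')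
    (W W' : X.Modules) (hW : FlatMod.IsFinLocFree W) (hW' : FlatMod.IsFinLocFree W')
    (hWi : (¬ IsZero W ∧ ∀ A B : X.Modules, Nonempty (W ≅ A ⊞ B) → IsZero A ∨ IsZero B)) (hW'i : (¬ IsZero W' ∧ ∀ A B : X.Modules, Nonempty (W' ≅ A ⊞ B) → IsZero A ∨ IsZero B))
    (d d' : ℕ) (eW : Nonempty (bcMod p K W ≅ pow N d)) (eW' : Nonempty (bcMod p K W' ≅ pow N' d')) :
    d = d' := by
  haveI : Algebra.IsAlgebraic k K := IsAlgClosure.isAlgebraic
  haveI := KSMod.isLocallyNoetherian p
  have hWc := VBLib.isCoh_of_isFinLocFree hW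
  have hW'c := VBLib.isCoh_of_isFinLocFree hW'
  obtain ⟨eW⟩ := eW
  obtain ⟨eW'⟩ := eW'
  rcases hj' with h | h
  · have hY := KSMod.surjective_appTop_baseChange p K
      (ConcreteCategory.bijective_of_isIso p.appTop).2
    obtain ⟨eN⟩ : Nonempty (CohB1.tensorMod N N' ≅ Coh.structureModule _) :=
      (PicGrp.cls_mul_cls_eq_one_iff hN hN').mp (by rw [hNj, hN'j, h, ← zpow_add, add_neg_cancel, zpow_zero])
    exact Nat.dvd_antisymm
      (KSMod.mult_dvd p K hY hN hN' eN hW hW' hWi (KSMod.powDec eW) (KSMod.powDec eW'))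
      (KSMod.mult_dvd p K hY hN' hN (ProjTwist.tensComm N' N ≪≫ eN) hW' hW hW'i (KSMod.powDec eW')
        (KSMod.powDec eW))
  · obtain ⟨Ja, hJa, hJae⟩ := PicGrp.exists_eq_cls (PicGrp.cls J hJ ^ a)
    obtain ⟨J', hJ', ⟨eJ⟩⟩ := KSMod.exists_inverse hJa
    obtain ⟨φ⟩ : Nonempty (CohB1.tensorMod N (bcMod p K Ja) ≅ N') := by
      refine (PicGrp.cls_eq_cls_iff (PicLaw.isInvertible_tensor hN (PicLoc.isInvertible_pullback (proj p K) hJa))
        hN').mp ?_
      rw [KSMod.cls_tens hN (PicLoc.isInvertible_pullback (proj p K) hJa),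
        ← PicGrp.pullHom_cls (proj p K) hπ Ja hJa, ← hJae, map_zpow,
        PicGrp.pullHom_cls (proj p K) hπ J hJ, hJL, hNj, hN'j, h, ← zpow_natCast, ← zpow_mul, ← zpow_add,
        mul_comm a]
    let W'' := (KSMod.tR Ja).obj W
    have dW'' : KSMod.Dec (bcMod p K W'') (fun _ : Fin d => N') :=
      ((KSMod.powDec eW).map (KSMod.tR (bcMod p K Ja))).congr (KSMod.pullTens (proj p K) W Ja).symm
        (fun _ => φ)
    have hW''c : Coh.IsCoh W'' := VBLib.isCoh_of_isFinLocFree
      (KFlat.TensorLocFree.isFinLocFree_tensM hW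
        (VBLib.isFinLocFree_of_ofRank (ProjTwist.isFinLocFreeOfRank_one hJa)))
    obtain ⟨i⟩ := KSMod.indecomposable_unique p K N' hW''c hW'c (KSMod.indec_tR hJa hJ' eJ hWi) hW'i
      dW'' (KSMod.powDec eW')
    exact KSMod.card_eq_of_dec p K (KSMod.isCoh_bcMod p K hW'c) (KSMod.indec_of_isInvertible hN')
      (KSMod.indec_of_isInvertible hN')
      (dW''.congr ((Scheme.Modules.pullback (proj p K)).mapIso i) fun _ => Iso.refl _) (KSMod.powDec eW')

end Groth.Agent.S15409
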