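import Groth.Statements.S15411
import Groth.Agent.CartKit.Basic

set_option autoImplicit false
universe u
open scoped TensorProduct
open Hopf

namespace Groth.Agent.S15411

/-- Let K be a field and let finitely many commutative K-algebras be given in two layers, K_i for each
vertex i and K_k for each edge k, with K-algebra maps from K_{l k} and from K_{r k} into K_k for
every edge k, such that K is the equalizer of the system: every family (x_i) whose two images in K_k
agree for every k comes from exactly one element of K. Let A and B be commutative K-bialgebras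
(coordinate rings of affine group or monoid schemes over K) and let u_i : K_i ⊗ B ≅ K_i ⊗ A be
isomorphisms of K_i-bialgebras such that, for every edge k, the base changes of u_{l k} and u_{r k}
to K_k agree. Then there is exactly one isomorphism of K-bialgebras v : B ≅ A inducing every u_i,
that is with u_i (1 ⊗ b) = 1 ⊗ v b. (The published statement is for the system obtained from a
finite inverse factorization system of fields by base change to a finite separable extension K, and
for linear algebraic groups; this row keeps from that setting only what the argument uses: K is a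
field and is the equalizer of the finite system, and the group schemes are affine.) -/
theorem result
    (K : Type u) [Field K] (ιv ιe : Type u) [Finite ιv] [Finite ιe]
    (Kv : ιv → Type u) [∀ i, CommRing (Kv i)] [∀ i, Algebra K (Kv i)]
    (Ke : ιe → Type u) [∀ k, CommRing (Ke k)] [∀ k, Algebra K (Ke k)]
    (l r : ιe → ιv) (ρl : ∀ k, Kv (l k) →ₐ[K] Ke k) (ρr : ∀ k, Kv (r k) →ₐ[K] Ke k)
    (hlim : ∀ x : (∀ i, Kv i), (∀ k, ρl k (x (l k)) = ρr k (x (r k))) →
      ∃! a : K, ∀ i, algebraMap K (Kv i) a = x i)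
    (A B : Type u) [CommRing A] [CommRing B] [Bialgebra K A] [Bialgebra K B]
    (u : ∀ i, (Kv i ⊗[K] B) ≃ₐc[Kv i] (Kv i ⊗[K] A))
    (hu : ∀ (k : ιe) (b : B),
      Algebra.TensorProduct.map (ρl k) (AlgHom.id K A) (u (l k) (1 ⊗ₜ[K] b)) =
        Algebra.TensorProduct.map (ρr k) (AlgHom.id K A) (u (r k) (1 ⊗ₜ[K] b))) :
    ∃! v : B ≃ₐc[K] A, ∀ (i : ιv) (b : B), u i (1 ⊗ₜ[K] b) = 1 ⊗ₜ[K] v b := by
  classical
  obtain ⟨i₀, hi₀⟩ : ∃ i, Nontrivial (Kv i) := by
    by_contra h
    simp only [not_exists, not_nontrivial_iff_subsingleton] at h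
    have : ∀ x : (∀ i, Kv i), ∀ a : K, ∀ i, algebraMap K (Kv i) a = x i := fun x a i =>
      @Subsingleton.elim _ (h i) _ _
    obtain ⟨a, -, ha⟩ := hlim 0 (fun k => by simp)
    exact one_ne_zero ((ha 1 (this 0 1)).trans (ha 0 (this 0 0)).symm)
  have hinjK : Function.Injective (algebraMap K (Kv i₀)) := (algebraMap K (Kv i₀)).injective
  have hinjA : Function.Injective fun a : A => (1 : Kv i₀) ⊗ₜ[K] a :=
    Algebra.TensorProduct.includeRight_injective hinjK
  let bA := Module.Basis.ofVectorSpace K A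
  have hnat : ∀ {S T : Type u} [CommRing S] [Algebra K S] [CommRing T] [Algebra K T] (ρ : S →ₐ[K] T)
      (t : S ⊗[K] A) (j : _), (bA.baseChange T).repr (Algebra.TensorProduct.map ρ (AlgHom.id K A) t) j =
      ρ ((bA.baseChange S).repr t j) := by
    intro S T _ _ _ _ ρ t j
    induction t using TensorProduct.induction_on with
    | zero => simp
    | add x y hx hy => simp only [map_add, Finsupp.add_apply, hx, hy]
    | tmul x y => simp [Algebra.smul_def]
  have hex : ∀ b : B, ∃ a : A, ∀ i, u i (1 ⊗ₜ[K] b) = 1 ⊗ₜ[K] a := by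
    intro b
    have hc : ∀ j, ∃ a : K, ∀ i, algebraMap K (Kv i) a = (bA.baseChange (Kv i)).repr (u i (1 ⊗ₜ[K] b)) j :=
      fun j => (hlim _ (fun k => by simp only [← hnat, hu k b])).exists
    choose c hc using hc
    let f : _ →₀ K := Finsupp.onFinset ((bA.baseChange (Kv i₀)).repr (u i₀ (1 ⊗ₜ[K] b))).support c
      (fun j hj => Finsupp.mem_support_iff.2 (by
        rw [← hc j i₀]
        exact fun h => hj (hinjK (by rw [h, map_zero]))))
    refine ⟨bA.repr.symm f, fun i => (bA.baseChange (Kv i)).repr.injective (Finsupp.ext fun j => ?_)⟩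
    rw [← hc j i]
    simp [f, Algebra.smul_def]
  choose v₀ hv₀ using hex
  let v : B →ₐ[K] A :=
    { toFun := v₀
      map_one' := hinjA (by
        show (1 : Kv i₀) ⊗ₜ[K] v₀ 1 = 1 ⊗ₜ[K] 1
        rw [← hv₀, ← Algebra.TensorProduct.one_def, map_one, ← Algebra.TensorProduct.one_def])
      map_mul' := fun x y => hinjA (by
        show (1 : Kv i₀) ⊗ₜ[K] v₀ (x * y) = 1 ⊗ₜ[K] (v₀ x * v₀ y)
        rw [← hv₀, show (1 : Kv i₀) ⊗ₜ[K] (v₀ x * v₀ y) = (1 ⊗ₜ v₀ x) * (1 ⊗ₜ v₀ y) by simp,
          ← hv₀ x i₀, ← hv₀ y i₀, ← map_mul]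
        simp)
      map_zero' := hinjA (by
        show (1 : Kv i₀) ⊗ₜ[K] v₀ 0 = 1 ⊗ₜ[K] 0
        rw [← hv₀, TensorProduct.tmul_zero, map_zero, TensorProduct.tmul_zero])
      map_add' := fun x y => hinjA (by
        show (1 : Kv i₀) ⊗ₜ[K] v₀ (x + y) = 1 ⊗ₜ[K] (v₀ x + v₀ y)
        rw [← hv₀, TensorProduct.tmul_add, TensorProduct.tmul_add, map_add, hv₀, hv₀])
      commutes' := fun c => hinjA (by
        show (1 : Kv i₀) ⊗ₜ[K] v₀ (algebraMap K B c) = 1 ⊗ₜ[K] algebraMap K A c
        rw [← hv₀, Algebra.algebraMap_eq_smul_one, Algebra.algebraMap_eq_smul_one, TensorProduct.tmul_smul,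
          TensorProduct.tmul_smul, ← Algebra.TensorProduct.one_def, ← Algebra.TensorProduct.one_def,
          ← algebraMap_smul (Kv i₀) c (1 : Kv i₀ ⊗[K] B), map_smul, map_one, algebraMap_smul]) }
  have hv : ∀ i b, u i (1 ⊗ₜ[K] b) = 1 ⊗ₜ[K] v b := fun i b => hv₀ b i
  have hvc : ∀ b, Coalgebra.counit (R := K) (v b) = Coalgebra.counit b := by
    intro b
    refine hinjK ?_
    have h := CoalgHomClass.counit_comp_apply (R := Kv i₀) (u i₀) (1 ⊗ₜ[K] b)
    rw [hv, TensorProduct.counit_tmul, TensorProduct.counit_tmul, CommSemiring.counit_apply] at h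
    simpa [Algebra.smul_def] using h
  have hvm : ∀ b, TensorProduct.map v.toLinearMap v.toLinearMap (Coalgebra.comul (R := K) b) =
      Coalgebra.comul (R := K) (v b) := by
    intro b
    let Φ : (A ⊗[K] A) → (Kv i₀ ⊗[K] A) ⊗[Kv i₀] (Kv i₀ ⊗[K] A) := fun t =>
      TensorProduct.AlgebraTensorModule.tensorTensorTensorComm K (Kv i₀) K (Kv i₀) (Kv i₀) (Kv i₀) A A
        ((1 ⊗ₜ 1) ⊗ₜ[K] t)
    have hΦ : Function.Injective Φ := by
      intro s t h
      have h2 := congrArg (TensorProduct.AlgebraTensorModule.congr (TensorProduct.lid (Kv i₀) (Kv i₀))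
        (LinearEquiv.refl K (A ⊗[K] A))) ((LinearEquiv.injective _) h)
      exact Algebra.TensorProduct.includeRight_injective hinjK (by simpa using h2)
    refine hΦ ?_
    have h := CoalgHomClass.map_comp_comul_apply (R := Kv i₀) (u i₀) (1 ⊗ₜ[K] b)
    rw [hv, TensorProduct.comul_tmul, TensorProduct.comul_tmul, CommSemiring.comul_apply] at h
    show Φ _ = _
    refine Eq.trans ?_ h
    generalize Coalgebra.comul (R := K) b = t
    induction t using TensorProduct.induction_on with
    | zero => simp [Φ]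
    | add x y hx hy =>
      simp only [Φ, map_add, TensorProduct.tmul_add] at hx hy ⊢
      rw [hx, hy]
    | tmul x y => simp [Φ, hv]
  let vc : B →ₐc[K] A := BialgHom.ofAlgHom v (AlgHom.ext hvc) (AlgHom.ext fun b => hvm b)
  have hvinj : Function.Injective v := fun x y h =>
    Algebra.TensorProduct.includeRight_injective hinjK
      ((u i₀).toEquiv.injective (show u i₀ (1 ⊗ₜ[K] x) = u i₀ (1 ⊗ₜ[K] y) by rw [hv, hv, h]))
  have hvsurj : Function.Surjective v := by
    intro a
    by_contra ha
    obtain ⟨φ, hφa, hφ⟩ := Submodule.exists_dual_map_eq_bot_of_notMem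
      (p := LinearMap.range v.toLinearMap) (x := a) (by simpa using ha) inferInstance
    refine hφa (hinjK ?_)
    rw [map_zero]
    let φ' : Kv i₀ ⊗[K] A →ₗ[Kv i₀] Kv i₀ := (Algebra.linearMap K (Kv i₀) ∘ₗ φ).liftBaseChange (Kv i₀)
    have h0 : ∀ z, φ' (u i₀ z) = 0 := by
      intro z
      induction z using TensorProduct.induction_on with
      | zero => simp
      | add x y hx hy => simp only [map_add, hx, hy, add_zero]
      | tmul r b =>
        have hb : φ (v b) = 0 := LinearMap.mem_ker.1 ((LinearMap.le_ker_iff_map.2 hφ) ⟨b, rfl⟩)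
        rw [show r ⊗ₜ[K] b = r • ((1 : Kv i₀) ⊗ₜ[K] b) by rw [TensorProduct.smul_tmul', smul_eq_mul, mul_one],
          map_smul, map_smul, hv]
        simp [φ', hb]
    obtain ⟨z, hz⟩ := (u i₀).toEquiv.surjective (1 ⊗ₜ[K] a)
    have h := h0 z
    rw [show u i₀ z = 1 ⊗ₜ[K] a from hz] at h
    simpa [φ'] using h
  obtain ⟨e, he⟩ := Groth.Agent.CartKit.exists_equiv_of_bijective vc ⟨hvinj, hvsurj⟩
  refine ⟨e, fun i b => ?_, fun e' he' => ?_⟩
  · rw [he]; exact hv i b
  · refine DFunLike.ext _ _ fun b => hinjA ?_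
    show (1 : Kv i₀) ⊗ₜ[K] e' b = 1 ⊗ₜ[K] e b
    rw [he, ← he']
    exact hv i₀ b

end Groth.Agent.S15411
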