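import Groth.Statements.S15412
import Mathlib
-- import your own Groth.Agent.* helpers here

set_option autoImplicit false
universe w v u
open CategoryTheory Opposite
open Bitors

namespace Groth.Agent.S15412

/-- On a site, let G and H be sheaves of groups and P a sheaf of sets with a left G-action which is
simply transitive on every set of sections P(U). The right H-actions on P that are compatible with
restriction, commute with the G-action and are simply transitive on every P(U) (for P a G-torsor:
the structures of (G, H)-bitorsor on P) correspond exactly to the families of group isomorphisms φ_p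
: H(U) ≃ G(U), one for each section p of P over each U, compatible with restriction and with φ_{g·p}
= g φ_p g⁻¹ (the equivariant maps from P to the sheaf of isomorphisms from H to G); the
correspondence is the rule p · h = φ_p(h) · p, and the statement is that every right structure
arises by this rule from exactly one family and every family from exactly one right structure. (The
published statement takes P a left G-torsor; only the simple transitivity of the G-action on
sections enters, so local existence of sections is not assumed.) -/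
theorem result
    {C : Type u} [Category.{v} C] {J : GrothendieckTopology C}
    (G H : Sheaf J GrpCat.{w}) (P : NonAbH1.GSheaf G) (hP : P.IsPseudoTorsor) :
    (∀ ρ : Bitors.RightStr P H, ∃! φ : Bitors.IsomFamily P H,
        ∀ (U : Cᵒᵖ) (p : P.P.obj.obj U) (h : H.obj.obj U), ρ.rsmul p h = P.smul (φ.φ p h) p) ∧
    (∀ φ : Bitors.IsomFamily P H, ∃! ρ : Bitors.RightStr P H,
        ∀ (U : Cᵒᵖ) (p : P.P.obj.obj U) (h : H.obj.obj U), ρ.rsmul p h = P.smul (φ.φ p h) p) := by
  constructor
  · intro ρ
    have hex : ∀ (U : Cᵒᵖ) (p : P.P.obj.obj U) (h : H.obj.obj U), ∃ g : G.obj.obj U, P.smul g p = ρ.rsmul p h :=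
      fun U p h => (hP U p _).exists
    choose φ₀ hφ₀ using hex
    have uq : ∀ {U : Cᵒᵖ} (p : P.P.obj.obj U) (g g' : G.obj.obj U), P.smul g p = P.smul g' p → g = g' :=
      fun {U} p g g' e => (hP U p _).unique e rfl
    have hmul : ∀ (U : Cᵒᵖ) (p : P.P.obj.obj U) (h h' : H.obj.obj U),
        φ₀ U p (h * h') = φ₀ U p h * φ₀ U p h' := fun U p h h' => uq p _ _ (by
      rw [hφ₀, P.mul_smul, hφ₀, ρ.rsmul_mul, ← hφ₀ U p h, ρ.smul_rsmul])
    let φ₁ : Bitors.IsomFamily P H :=
      { φ := fun {U} p => MulEquiv.ofBijective (MonoidHom.mk' (φ₀ U p) (hmul U p))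
          ⟨fun a b e => (ρ.existsUnique_rsmul p _).unique (hφ₀ U p a).symm
            (by rw [← hφ₀]; exact congrArg (fun g => P.smul g p) e.symm),
           fun g => by
            obtain ⟨h, hh, -⟩ := ρ.existsUnique_rsmul p (P.smul g p)
            exact ⟨h, uq p _ _ (by rw [← hh]; exact hφ₀ U p h)⟩⟩
        map_φ := fun {U V} f p h => uq (P.P.obj.map f p) _ _ (by
          show P.smul (G.obj.map f (φ₀ U p h)) _ = P.smul (φ₀ V _ _) _
          rw [← P.map_smul, hφ₀, hφ₀, ρ.map_rsmul])
        φ_smul := fun {U} g p h => uq (P.smul g p) _ _ (by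
          show P.smul (φ₀ U _ h) _ = P.smul (g * φ₀ U p h * g⁻¹) _
          rw [hφ₀, ρ.smul_rsmul, ← P.mul_smul, inv_mul_cancel_right, P.mul_smul, hφ₀]) }
    refine ⟨φ₁, fun U p h => (hφ₀ U p h).symm, fun ψ hψ => ?_⟩
    obtain ⟨ψ₀, _, _⟩ := ψ
    simp only [φ₁, Bitors.IsomFamily.mk.injEq]
    funext U p
    refine MulEquiv.ext fun h => uq p _ _ ?_
    show P.smul (ψ₀ p h) p = P.smul (φ₀ U p h) p
    rw [hφ₀]
    exact (hψ U p h).symm
  · intro φ
    let ρ₁ : Bitors.RightStr P H :=
      { rsmul := fun p h => P.smul (φ.φ p h) p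
        rsmul_one := fun p => by rw [map_one, P.one_smul]
        rsmul_mul := fun p h h' => by
          rw [φ.φ_smul, ← P.mul_smul, inv_mul_cancel_right, map_mul]
        map_rsmul := fun f p h => by rw [P.map_smul, φ.map_φ]
        smul_rsmul := fun g p h => by
          rw [φ.φ_smul, ← P.mul_smul, inv_mul_cancel_right, P.mul_smul]
        existsUnique_rsmul := fun {U} p q => by
          obtain ⟨g, hg, hu⟩ := hP U p q
          refine ⟨(φ.φ p).symm g, by simp [hg], fun h hh => ?_⟩
          rw [← hu _ hh, MulEquiv.symm_apply_apply] }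
    refine ⟨ρ₁, fun U p h => rfl, fun σ hσ => ?_⟩
    obtain ⟨σ₀⟩ := σ
    simp only [ρ₁, Bitors.RightStr.mk.injEq]
    funext U p h
    exact hσ U p h

end Groth.Agent.S15412
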