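import Groth.Statements.S15421
import Groth.Agent.GrSyz.RegOps
-- import your own Groth.Agent.* helpers here

set_option autoImplicit false
set_option maxRecDepth 20000
universe u
open GrSyz

namespace Groth.Agent.S15421

/-- Let k be a field, S = k[x_0, …, x_r] graded by degree, 𝔪 = (x_0, …, x_r), M a finitely generated
ℤ-graded S-module, x ∈ S_1 a linear form quasi-regular on M (the elements of M killed by x form a
submodule of finite length) and N = M/xM, given as a graded module with a surjective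
degree-preserving S-linear map π : M → N with kernel xM. Then reg M = max(end H^0_𝔪(M), reg N),
where reg is the Castelnuovo–Mumford regularity in the sense of minimal graded free resolutions (as
an extended integer, −∞ for the zero module) and end H^0_𝔪(M) is the largest degree of a nonzero
piece of the graded local cohomology H^0_𝔪(M), computed from any *injective resolution of M in the
graded category. (The published statement takes x quasi-regular without repeating that it is a
linear form; a linear form is meant, as in the proposition it rests on.) -/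
theorem result (k : Type u) [Field k] (r : ℕ)
    (M : Type u) [AddCommGroup M] [Module k M] [Module (MvPolynomial (Fin (r + 1)) k) M]
    [IsScalarTower k (MvPolynomial (Fin (r + 1)) k) M] [Module.Finite (MvPolynomial (Fin (r + 1)) k) M]
    (ℳ : ℤ → Submodule k M) [DirectSum.Decomposition ℳ] [SetLike.GradedSMul (GrSyz.stdGr k (Fin (r + 1))) ℳ]
    (x : MvPolynomial (Fin (r + 1)) k) (hx : x ∈ GrSyz.stdGr k (Fin (r + 1)) 1)
    (hq : IsFiniteLength (MvPolynomial (Fin (r + 1)) k) ↥(Submodule.torsionBy (MvPolynomial (Fin (r + 1)) k) M x))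
    (N : Type u) [AddCommGroup N] [Module k N] [Module (MvPolynomial (Fin (r + 1)) k) N]
    [IsScalarTower k (MvPolynomial (Fin (r + 1)) k) N] [Module.Finite (MvPolynomial (Fin (r + 1)) k) N]
    (𝒩 : ℤ → Submodule k N) [DirectSum.Decomposition 𝒩] [SetLike.GradedSMul (GrSyz.stdGr k (Fin (r + 1))) 𝒩]
    (π : M →ₗ[MvPolynomial (Fin (r + 1)) k] N) (hπ : Function.Surjective π) (hπg : GrLC.IsGrHom ℳ 𝒩 π)
    (hker : LinearMap.ker π = LinearMap.range (x • (LinearMap.id : M →ₗ[MvPolynomial (Fin (r + 1)) k] M)))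
    (E : GrLC.StarInjRes (GrSyz.stdGr k (Fin (r + 1))) ℳ) :
    GrSyz.reg (GrSyz.stdGr k (Fin (r + 1))) ℳ (GrSyz.irrel (GrSyz.stdGr k (Fin (r + 1)))).toIdeal =
      GrLC.endDeg (E.Hgr (GrSyz.irrel (GrSyz.stdGr k (Fin (r + 1)))) 0) ⊔ GrSyz.reg (GrSyz.stdGr k (Fin (r + 1))) 𝒩 (GrSyz.irrel (GrSyz.stdGr k (Fin (r + 1)))).toIdeal := by
  have hK : ∀ m : M, x • m = 0 → m ∈ GrLC.gam (GrSyz.irrel (GrSyz.stdGr k (Fin (r + 1)))).toIdeal M := by
    intro m hm
    have hh := Groth.Agent.GrLC.isHomogeneous_kerDeg ℳ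
      (Groth.Agent.GrLC.LC.isGrHomDeg_smul (M := M) (ℳ := ℳ) hx)
    let K := Groth.Agent.GrLC.subGMod (GrSyz.stdGr k (Fin (r + 1))) ℳ hh
    have hfl : IsFiniteLength (MvPolynomial (Fin (r + 1)) k) K.carrier :=
      (LinearEquiv.ofEq _ (LinearMap.ker (x • (LinearMap.id :
        M →ₗ[MvPolynomial (Fin (r + 1)) k] M))) (Submodule.ext fun _ => Iff.rfl)).isFiniteLength hq
    obtain ⟨e, he⟩ := Groth.Agent.GrSyz.mem_gam_of_isFiniteLength Groth.Agent.GrSyz.stdGr_eq_zero_of_neg K.gr hfl ⟨m, hm⟩
    exact ⟨e, fun s hs => congrArg Subtype.val (he s hs)⟩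
  refine Groth.Agent.GrSyz.eq_of_forall_le_int_iff fun d => ?_
  rw [Groth.Agent.GrSyz.reg_le_iff, sup_le_iff, Groth.Agent.GrSyz.reg_le_iff, Groth.Agent.GrSyz.endDeg_zero_le_iff ℳ E d,
    Groth.Agent.GrSyz.cohReg_iff_quotient hx hK π hπ hπg hker d, and_comm]

end Groth.Agent.S15421
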