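import Groth.Statements.S15423
import Groth.Agent.GrSyz.Std
import Groth.Agent.GrSyz.Compare

set_option autoImplicit false
universe u
open GrSyz

namespace Groth.Agent.S15423

/-- Let k be a field, S = k[x_0, …, x_r] graded by degree, 𝔪 = (x_0, …, x_r), M a finitely generated
ℤ-graded S-module and F a minimal graded free resolution of M by finite-rank free modules with
homogeneous bases (all matrix entries in 𝔪). Then the Castelnuovo–Mumford regularity of M (an
extended integer) is the supremum over i ≥ 0 of t_i − i, where t_i is the largest degree of a basis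
vector of F_i, that is the largest nonzero degree of Tor_i^S(M, k) (−∞ when F_i = 0). In particular
the value does not depend on the minimal resolution chosen. -/
theorem result (k : Type u) [Field k] (r : ℕ)
    (M : Type u) [AddCommGroup M] [Module k M] [Module (MvPolynomial (Fin (r + 1)) k) M]
    [IsScalarTower k (MvPolynomial (Fin (r + 1)) k) M] [Module.Finite (MvPolynomial (Fin (r + 1)) k) M]
    (ℳ : ℤ → Submodule k M) [DirectSum.Decomposition ℳ] [SetLike.GradedSMul (GrSyz.stdGr k (Fin (r + 1))) ℳ]
    (F : GrSyz.FreeRes (GrSyz.stdGr k (Fin (r + 1))) ℳ) (hF : F.IsMinimal (GrSyz.irrel (GrSyz.stdGr k (Fin (r + 1)))).toIdeal) :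
    GrSyz.reg (GrSyz.stdGr k (Fin (r + 1))) ℳ (GrSyz.irrel (GrSyz.stdGr k (Fin (r + 1)))).toIdeal =
      ⨆ i : ℕ, WithBot.map (fun t : ℤ => ((t - (i : ℤ) : ℤ) : WithTop ℤ)) (F.maxGenDeg i) := by
  have hreg : ∀ t : ℤ, F.IsGenLE t →
      GrSyz.reg (GrSyz.stdGr k (Fin (r + 1))) ℳ (GrSyz.irrel (GrSyz.stdGr k (Fin (r + 1)))).toIdeal
        ≤ ((t : WithTop ℤ) : WithBot (WithTop ℤ)) := fun t ht => iInf₂_le t ⟨F, hF, ht⟩
  apply le_antisymm
  · generalize hS : (⨆ i : ℕ, WithBot.map (fun t : ℤ => ((t - (i : ℤ) : ℤ) : WithTop ℤ)) (F.maxGenDeg i)) = S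
    have hgen : ∀ t : ℤ, S ≤ ((t : WithTop ℤ) : WithBot (WithTop ℤ)) → F.IsGenLE t := by
      intro t ht i b
      have h2 : (F.deg i b : WithBot ℤ) ≤ F.maxGenDeg i :=
        Finset.le_sup (f := fun b => (F.deg i b : WithBot ℤ)) (Finset.mem_univ b)
      have h1 : WithBot.map (fun t : ℤ => ((t - (i : ℤ) : ℤ) : WithTop ℤ)) (F.maxGenDeg i) ≤ S :=
        hS ▸ le_iSup (fun i : ℕ => WithBot.map (fun t : ℤ => ((t - (i : ℤ) : ℤ) : WithTop ℤ)) (F.maxGenDeg i)) i
      revert h1 h2
      generalize F.maxGenDeg i = m
      induction m with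
      | bot => intro h2 _; simp at h2
      | coe a =>
        intro h2 h1
        have h3 := h1.trans ht
        rw [WithBot.map_coe, WithBot.coe_le_coe, WithTop.coe_le_coe] at h3
        rw [WithBot.coe_le_coe] at h2
        omega
    induction S with
    | bot =>
      revert hreg
      generalize GrSyz.reg (GrSyz.stdGr k (Fin (r + 1))) ℳ
        (GrSyz.irrel (GrSyz.stdGr k (Fin (r + 1)))).toIdeal = v
      intro hreg
      induction v with
      | bot => exact le_rfl
      | coe w =>
        induction w with
        | top =>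
          have := hreg 0 (hgen 0 bot_le)
          rw [WithBot.coe_le_coe] at this
          exact absurd this (by simp)
        | coe a =>
          have := hreg (a - 1) (hgen (a - 1) bot_le)
          rw [WithBot.coe_le_coe, WithTop.coe_le_coe] at this
          omega
    | coe w =>
      induction w with
      | top => exact le_top
      | coe a => exact hreg a (hgen a le_rfl)
  · refine iSup_le fun i => le_iInf₂ fun t ht => ?_
    obtain ⟨G, -, hG⟩ := ht
    have hFg := Groth.Agent.GrSyz.isGenLE_of_minimal F G Groth.Agent.GrSyz.stdGr_eq_zero_of_neg hF hG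
    have h2 : F.maxGenDeg i ≤ ((t + i : ℤ) : WithBot ℤ) :=
      Finset.sup_le fun b _ => WithBot.coe_le_coe.2 (hFg i b)
    revert h2
    generalize F.maxGenDeg i = m
    induction m with
    | bot => intro _; exact bot_le
    | coe a =>
      intro h2
      rw [WithBot.coe_le_coe] at h2
      rw [WithBot.map_coe, WithBot.coe_le_coe, WithTop.coe_le_coe]
      omega

end Groth.Agent.S15423
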