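import Groth.Statements.S15432
import Groth.Agent.GrSyz.Hilbert
import Mathlib.LinearAlgebra.Matrix.ToLinearEquiv
import Mathlib.LinearAlgebra.InvariantBasisNumber
import Mathlib.LinearAlgebra.FreeModule.StrongRankCondition
import Mathlib.Tactic.LinearCombination
import Mathlib.Tactic.Linarith
import Mathlib.LinearAlgebra.Dimension.Constructions
import Mathlib.LinearAlgebra.Matrix.NonsingularInverse
-- import your own Groth.Agent.* helpers here

set_option autoImplicit false
universe u
open GrSyz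

namespace Groth.Agent.S15432

/-- A quadratic polynomial that is bounded on a half line is constant. -/
theorem quad_bounded {α β γ D B : ℤ} (h : ∀ d, D ≤ d → |α * d ^ 2 + β * d + γ| ≤ B) :
    α = 0 ∧ β = 0 := by
  have hB : 0 ≤ B := le_trans (abs_nonneg _) (h D le_rfl)
  have e1 := abs_nonneg β
  have e2 := abs_nonneg γ
  have hα : α = 0 := by
    by_contra hne
    set d := |D| + |β| + |γ| + B + 1 with hd
    have hdD : D ≤ d := by have := le_abs_self D; omega
    have hb := abs_le.1 (h d hdD)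
    have e3 := abs_nonneg D
    have hd1 : 1 ≤ d := by omega
    have hdb : |β| + |γ| + B + 1 ≤ d := by omega
    have hbd : |β * d| ≤ |β| * d := by rw [abs_mul, abs_of_nonneg (by omega : (0:ℤ) ≤ d)]
    have hbd' := abs_le.1 hbd
    have hg := abs_le.1 (le_refl |γ|)
    rcases lt_or_gt_of_ne hne with hneg | hpos
    · have : α * d ^ 2 ≤ -1 * d ^ 2 := mul_le_mul_of_nonneg_right (by omega) (sq_nonneg d)
      nlinarith
    · have : 1 * d ^ 2 ≤ α * d ^ 2 := mul_le_mul_of_nonneg_right (by omega) (sq_nonneg d)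
      nlinarith
  refine ⟨hα, ?_⟩
  by_contra hne
  set d := |D| + |γ| + B + 1 with hd
  have hdD : D ≤ d := by have := le_abs_self D; omega
  have hb := abs_le.1 (h d hdD)
  have e3 := abs_nonneg D
  have hg := abs_le.1 (le_refl |γ|)
  rw [hα] at hb
  rcases lt_or_gt_of_ne hne with hneg | hpos
  · have : β * d ≤ -1 * d := mul_le_mul_of_nonneg_right (by omega) (by omega)
    nlinarith
  · have : 1 * d ≤ β * d := mul_le_mul_of_nonneg_right (by omega) (by omega)
    nlinarith

theorem two_mul_choose_two (n : ℤ) (hn : 0 ≤ n) :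
    2 * ((Nat.choose (2 + n.toNat) 2 : ℕ) : ℤ) = (n + 2) * (n + 1) := by
  obtain ⟨m, rfl⟩ := Int.eq_ofNat_of_zero_le hn
  rw [Int.toNat_natCast, Nat.choose_two_right]
  have h2 : 2 ∣ (2 + m) * (2 + m - 1) := by
    rw [show 2 + m - 1 = m + 1 by omega, show 2 + m = m + 1 + 1 by omega, mul_comm]
    exact (Nat.even_mul_succ_self (m + 1)).two_dvd
  have := Nat.mul_div_cancel' h2
  rw [show 2 + m - 1 = m + 1 by omega] at this ⊢
  have h3 : (((2 * ((2 + m) * (m + 1) / 2)) : ℕ) : ℤ) = (((2 + m) * (m + 1) : ℕ) : ℤ) := by rw [this]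
  push_cast at h3 ⊢
  linarith

/-- A matrix over a domain with a square zero-free block that is injective admits no relation among
its rows. -/
theorem block_rel_eq_zero {S : Type*} [CommRing S] [IsDomain S] {n : ℕ}
    (A : Matrix (Fin n) (Fin n) S) (hA : ∀ v, A.mulVec v = 0 → v = 0) (g : Fin n → S)
    (hg : Matrix.vecMul g A = 0) : g = 0 := by
  refine Matrix.eq_zero_of_vecMul_eq_zero ?_ hg
  intro hdet
  obtain ⟨v, hv, hAv⟩ := Matrix.exists_mulVec_eq_zero_iff.2 hdet
  exact hv (hA v hAv)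

section

variable {S : Type*} [CommRing S] [IsDomain S] {t : ℕ}
  (D : Matrix (Fin (t + 1)) (Fin t) S) (hinj : ∀ v, D.mulVec v = 0 → v = 0)
  (g : Fin (t + 1) → S) (hg : ∀ r, g r ≠ 0) (hrel : Matrix.vecMul g D = 0)

include hinj hg hrel in
/-- Above the staircase: no block of zeros in rows `≤ i` and columns `≥ i`. -/
theorem exists_ne_zero_above (i : Fin t) :
    ∃ (r : Fin (t + 1)) (c : Fin t), r.val ≤ i.val ∧ i.val ≤ c.val ∧ D r c ≠ 0 := by
  by_contra hc
  push Not at hc
  let n := t - i.val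
  let ρ : Fin n → Fin (t + 1) := fun x => ⟨i.val + 1 + x.val, by omega⟩
  let κ : Fin n → Fin t := fun x => ⟨i.val + x.val, by omega⟩
  have hρ : Function.Injective ρ := fun x y h => Fin.ext (by simpa [ρ] using h)
  have hκ : Function.Injective κ := fun x y h => Fin.ext (by simpa [κ] using h)
  let A : Matrix (Fin n) (Fin n) S := Matrix.of fun x y => D (ρ x) (κ y)
  have hA : ∀ v, A.mulVec v = 0 → v = 0 := by
    intro v hv
    let w : Fin t → S := fun c => if h : i.val ≤ c.val then v ⟨c.val - i.val, by omega⟩ else 0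
    have hwκ : ∀ y, w (κ y) = v y := fun y => by
      simp only [w, κ]
      rw [dif_pos (Nat.le_add_right _ _)]
      congr 1
      exact Fin.ext (Nat.add_sub_cancel_left _ _)
    have hw0 : ∀ c, c ∉ Set.range κ → w c = 0 := fun c hc' => by
      simp only [w]
      rw [dif_neg]
      exact fun h => hc' ⟨⟨c.val - i.val, by omega⟩, Fin.ext (Nat.add_sub_cancel' h)⟩
    have hw : D.mulVec w = 0 := by
      funext r
      show ∑ c, D r c * w c = 0
      rw [← Fintype.sum_of_injective κ hκ (fun y => D r (κ y) * v y) _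
        (fun c hc' => by rw [hw0 c hc', mul_zero]) (fun y => by rw [hwκ])]
      by_cases hr : r.val ≤ i.val
      · exact Finset.sum_eq_zero fun y _ => by rw [hc r (κ y) hr (Nat.le_add_right _ _), zero_mul]
      · have : r = ρ ⟨r.val - (i.val + 1), by omega⟩ := Fin.ext (by simp [ρ]; omega)
        rw [this]
        exact congrFun hv _
    funext y
    rw [← hwκ, hinj w hw]
    rfl
  have hgA : Matrix.vecMul (fun x => g (ρ x)) A = 0 := by
    funext y
    show ∑ x, g (ρ x) * D (ρ x) (κ y) = 0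
    rw [Fintype.sum_of_injective ρ hρ (fun x => g (ρ x) * D (ρ x) (κ y)) (fun r => g r * D r (κ y))
      (fun r hr => ?_) (fun x => rfl)]
    · exact congrFun hrel (κ y)
    · by_cases h : r.val ≤ i.val
      · rw [hc r (κ y) h (Nat.le_add_right _ _), mul_zero]
      · exact absurd ⟨⟨r.val - (i.val + 1), by omega⟩, Fin.ext (by simp [ρ]; omega)⟩ hr
  exact hg (ρ ⟨0, by omega⟩) (congrFun (block_rel_eq_zero A hA _ hgA) _)

include hinj in
/-- Below the staircase: no block of zeros in rows `≤ i + 1` and columns `≥ i`. -/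
theorem exists_ne_zero_below (i : Fin t) :
    ∃ (r : Fin (t + 1)) (c : Fin t), r.val ≤ i.val + 1 ∧ i.val ≤ c.val ∧ D r c ≠ 0 := by
  by_contra hc
  push Not at hc
  let n := t - i.val
  let κ : Fin n → Fin t := fun x => ⟨i.val + x.val, by omega⟩
  let ρ : Fin (n - 1) → Fin (t + 1) := fun x => ⟨i.val + 2 + x.val, by omega⟩
  have hκ : Function.Injective κ := fun x y h => Fin.ext (by simpa [κ] using h)
  let A : Matrix (Fin (n - 1)) (Fin n) S := Matrix.of fun x y => D (ρ x) (κ y)
  have hA : Function.Injective A.mulVecLin := by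
    rw [injective_iff_map_eq_zero]
    intro v hv
    let w : Fin t → S := fun c => if h : i.val ≤ c.val then v ⟨c.val - i.val, by omega⟩ else 0
    have hwκ : ∀ y, w (κ y) = v y := fun y => by
      simp only [w, κ]
      rw [dif_pos (Nat.le_add_right _ _)]
      congr 1
      exact Fin.ext (Nat.add_sub_cancel_left _ _)
    have hw0 : ∀ c, c ∉ Set.range κ → w c = 0 := fun c hc' => by
      simp only [w]
      rw [dif_neg]
      exact fun h => hc' ⟨⟨c.val - i.val, by omega⟩, Fin.ext (Nat.add_sub_cancel' h)⟩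
    have hw : D.mulVec w = 0 := by
      funext r
      show ∑ c, D r c * w c = 0
      rw [← Fintype.sum_of_injective κ hκ (fun y => D r (κ y) * v y) _
        (fun c hc' => by rw [hw0 c hc', mul_zero]) (fun y => by rw [hwκ])]
      by_cases hr : r.val ≤ i.val + 1
      · exact Finset.sum_eq_zero fun y _ => by rw [hc r (κ y) hr (Nat.le_add_right _ _), zero_mul]
      · have : r = ρ ⟨r.val - (i.val + 2), by omega⟩ := Fin.ext (by simp [ρ]; omega)
        rw [this]
        exact congrFun hv _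
    funext y
    rw [← hwκ, hinj w hw]
    rfl
  have h := LinearMap.finrank_le_finrank_of_injective hA
  rw [Module.finrank_fin_fun, Module.finrank_fin_fun] at h
  omega

end

/-- Let k be a field, Z a nonempty finite set of nonzero vectors of k^3, regarded as points of the
projective plane, I ⊆ S = k[x_0, x_1, x_2] the homogeneous vanishing ideal of Z (a polynomial lies
in I exactly when each of its homogeneous components vanishes at every vector of Z), M = S/I given
as a ℤ-graded S-module with a surjective degree-preserving S-linear map π : S → M with kernel I, and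
F a minimal graded free resolution of M of length at most 2 whose terms F_1 and F_2 have ranks t + 1
and t, with basis degrees a_1 ≥ … ≥ a_{t+1} for F_1 and b_1 ≥ … ≥ b_t for F_2 (non-increasing along
the chosen bases), so that the (i, j) entry of the matrix F_2 → F_1 has degree b_j − a_i. Put e_i =
b_i − a_i and f_i = b_i − a_{i+1}. Then e_i ≥ 1 and f_i ≥ 1 for every i, and Σ_i a_i = Σ_j b_j
(equivalently a_i = Σ_{j < i} e_j + Σ_{j ≥ i} f_j for every i). (The ordering of both bases is the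
standing assumption under which the published statement is made; this row carries it as the
hypotheses on the basis degrees. The further inequalities f_i ≥ e_i and f_i ≥ e_{i+1} follow at once
from the ordering and are not restated.) -/
theorem result (k : Type u) [Field k]
    (Z : Finset (Fin 3 → k)) (hZ : ∀ p ∈ Z, p ≠ 0) (hZne : Z.Nonempty) (I : Ideal (MvPolynomial (Fin 3) k))
    (hI : ∀ f : MvPolynomial (Fin 3) k, f ∈ I ↔
      ∀ p ∈ Z, ∀ j : ℕ, MvPolynomial.eval p (MvPolynomial.homogeneousComponent j f) = 0)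
    (M : Type u) [AddCommGroup M] [Module k M] [Module (MvPolynomial (Fin 3) k) M] [IsScalarTower k (MvPolynomial (Fin 3) k) M]
    (ℳ : ℤ → Submodule k M) [DirectSum.Decomposition ℳ] [SetLike.GradedSMul (GrSyz.stdGr k (Fin 3)) ℳ]
    (π : MvPolynomial (Fin 3) k →ₗ[MvPolynomial (Fin 3) k] M) (hπ : Function.Surjective π)
    (hπg : GrLC.IsGrHom (GrSyz.stdGr k (Fin 3)) ℳ π) (hker : LinearMap.ker π = I)
    (F : GrSyz.FreeRes (GrSyz.stdGr k (Fin 3)) ℳ) (hF : F.IsMinimal (GrSyz.irrel (GrSyz.stdGr k (Fin 3))).toIdeal) (hlen : F.HasLengthLE 2)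
    (t : ℕ) (h1 : F.rk 1 = t + 1) (h2 : F.rk 2 = t)
    (ha : ∀ i j : Fin (t + 1), i ≤ j → F.deg 1 (Fin.cast h1.symm j) ≤ F.deg 1 (Fin.cast h1.symm i))
    (hb : ∀ i j : Fin t, i ≤ j → F.deg 2 (Fin.cast h2.symm j) ≤ F.deg 2 (Fin.cast h2.symm i)) :
    (∀ i : Fin t, 1 ≤ F.deg 2 (Fin.cast h2.symm i) - F.deg 1 (Fin.cast h1.symm i.castSucc) ∧
        1 ≤ F.deg 2 (Fin.cast h2.symm i) - F.deg 1 (Fin.cast h1.symm i.succ)) ∧
      ∑ i : Fin (t + 1), F.deg 1 (Fin.cast h1.symm i) = ∑ j : Fin t, F.deg 2 (Fin.cast h2.symm j) := by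
  have hpos := Groth.Agent.GrSyz.stdGr_eq_zero_of_neg (k := k) (σ := Fin 3)
  have hd3 : F.HasLengthLE 2 := hlen
  -- the Hilbert function of `M` is bounded by the number of points
  have hbound : ∀ d : ℤ, Module.finrank k (ℳ d) ≤ Z.card := by
    intro d
    by_cases hd : d < 0
    · have : ℳ d = ⊥ := by
        refine (Submodule.eq_bot_iff _).2 fun x hx => ?_
        obtain ⟨q, rfl⟩ := hπ x
        rw [← GrLC.cpt_of_mem ℳ hx, ← GrLC.map_cpt hπg,
          hpos d hd _ (GrLC.cpt_mem (GrSyz.stdGr k (Fin 3)) d q), map_zero]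
      rw [this, finrank_bot]
      exact Nat.zero_le _
    obtain ⟨n, rfl⟩ := Int.eq_ofNat_of_zero_le (not_lt.1 hd)
    let Sn := GrSyz.stdGr k (Fin 3) (n : ℤ)
    have := (GrSyz.finrank_stdGr (k := k) (r := 2) (n : ℤ)).1
    let π' : Sn →ₗ[k] M := (π.restrictScalars k).comp Sn.subtype
    let ev : Sn →ₗ[k] (Z → k) :=
      { toFun := fun q p => MvPolynomial.eval (p : Fin 3 → k) (q : MvPolynomial (Fin 3) k)
        map_add' := fun a b => by funext p; simp
        map_smul' := fun a b => by funext p; simp [MvPolynomial.smul_eval] }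
    have hrange : LinearMap.range π' = ℳ (n : ℤ) := by
      refine le_antisymm ?_ fun x hx => ?_
      · rintro _ ⟨q, rfl⟩
        exact hπg _ _ q.2
      · obtain ⟨q, rfl⟩ := hπ x
        refine ⟨⟨GrLC.cpt (GrSyz.stdGr k (Fin 3)) (n : ℤ) q,
          GrLC.cpt_mem (GrSyz.stdGr k (Fin 3)) (n : ℤ) q⟩, ?_⟩
        show π (GrLC.cpt (GrSyz.stdGr k (Fin 3)) (n : ℤ) q) = π q
        rw [GrLC.map_cpt hπg, GrLC.cpt_of_mem ℳ hx]
    have hkern : LinearMap.ker ev ≤ LinearMap.ker π' := by
      intro q hq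
      rw [LinearMap.mem_ker] at hq ⊢
      show π _ = 0
      rw [← LinearMap.mem_ker, hker, hI]
      intro p hp j
      have hqn : (q : MvPolynomial (Fin 3) k).IsHomogeneous n := by
        intro e he
        have := GrSyz.stdGr_degree_eq q.2 he
        rw [show (1 : Fin 3 → ℕ) = fun _ => 1 from rfl, ← Finsupp.degree_eq_weight_one]
        exact_mod_cast this
      rw [Submodule.subtype_apply, MvPolynomial.homogeneousComponent_of_mem hqn]
      split_ifs
      · exact congrFun hq ⟨p, hp⟩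
      · simp
    have h1' := π'.finrank_range_add_finrank_ker
    have h2' := ev.finrank_range_add_finrank_ker
    have h3' := Submodule.finrank_mono hkern
    have h4' := Submodule.finrank_le (LinearMap.range ev)
    rw [Module.finrank_fintype_fun_eq_card, Fintype.card_coe] at h4'
    rw [← hrange]
    omega
  -- compare with the Euler characteristic of the resolution
  let P : ℤ → ℤ → ℤ := fun a d => d ^ 2 + (3 - 2 * a) * d + (2 - a) * (1 - a)
  let σ₁ := ∑ b, F.deg 1 b
  let σ₂ := ∑ b, F.deg 2 b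
  let σ₀ := ∑ b, F.deg 0 b
  let D₀ : ℤ := ∑ i ∈ Finset.range 3, ∑ b : Fin (F.rk i), |F.deg i b|
  have hD₀ : ∀ i < 3, ∀ b : Fin (F.rk i), F.deg i b ≤ D₀ := fun i hi b =>
    (le_abs_self _).trans ((Finset.single_le_sum (f := fun c => |F.deg i c|)
      (fun c _ => abs_nonneg _) (Finset.mem_univ b)).trans
      (Finset.single_le_sum (f := fun i => ∑ c : Fin (F.rk i), |F.deg i c|)
        (fun i _ => Finset.sum_nonneg fun c _ => abs_nonneg _) (Finset.mem_range.2 hi)))
  let γ : ℤ → ℤ := fun a => (2 - a) * (1 - a)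
  have hquad : ∀ d : ℤ, D₀ ≤ d →
      |((F.rk 0 : ℤ) - 1) * d ^ 2 + (3 * ((F.rk 0 : ℤ) - 1) - 2 * (σ₀ - σ₁ + σ₂)) * d +
        (∑ b, γ (F.deg 0 b) - ∑ b, γ (F.deg 1 b) + ∑ b, γ (F.deg 2 b))| ≤ 2 * (Z.card : ℤ) := by
    intro d hd
    have hsum : ∀ i < 3, 2 * (∑ b : Fin (F.rk i),
        (if F.deg i b ≤ d then ((Nat.choose (2 + (d - F.deg i b).toNat) 2 : ℕ) : ℤ) else 0)) =
        (F.rk i : ℤ) * d ^ 2 + (3 * (F.rk i : ℤ) - 2 * ∑ b, F.deg i b) * d + ∑ b, γ (F.deg i b) := by
      intro i hi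
      have : ∀ b : Fin (F.rk i), 2 * (if F.deg i b ≤ d then
          ((Nat.choose (2 + (d - F.deg i b).toNat) 2 : ℕ) : ℤ) else 0) = P (F.deg i b) d := fun b => by
        have := (hD₀ i hi b).trans hd
        rw [if_pos this, two_mul_choose_two _ (sub_nonneg.2 this)]
        simp only [P]
        ring
      rw [Finset.mul_sum, Finset.sum_congr rfl fun b _ => this b]
      simp only [P, γ, Finset.sum_add_distrib, ← Finset.sum_mul, Finset.sum_sub_distrib,
        ← Finset.mul_sum, Finset.sum_const, Finset.card_univ, Fintype.card_fin, nsmul_eq_mul]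
      ring
    have hH := GrSyz.finrank_piece_eq_sum F 2 hd3 d
    rw [Finset.sum_range_succ, Finset.sum_range_succ, Finset.sum_range_succ, Finset.sum_range_zero] at hH
    have e0 := hsum 0 (by norm_num)
    have e1 := hsum 1 (by norm_num)
    have e2 := hsum 2 (by norm_num)
    have c1 : (F.rk 1 : ℤ) = (t : ℤ) + 1 := by rw [h1]; push_cast; rfl
    have c2 : (F.rk 2 : ℤ) = (t : ℤ) := by rw [h2]
    have key : ((F.rk 0 : ℤ) - 1) * d ^ 2 + (3 * ((F.rk 0 : ℤ) - 1) - 2 * (σ₀ - σ₁ + σ₂)) * d +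
        (∑ b, γ (F.deg 0 b) - ∑ b, γ (F.deg 1 b) + ∑ b, γ (F.deg 2 b)) =
        2 * (Module.finrank k (ℳ d) : ℤ) := by
      rw [hH]
      rw [c1] at e1
      rw [c2] at e2
      simp only [σ₀, σ₁, σ₂]
      linear_combination -e0 + e1 - e2
    rw [key, abs_of_nonneg (by positivity)]
    exact mul_le_mul_of_nonneg_left (by exact_mod_cast hbound d) (by norm_num)
  obtain ⟨hα, hβ⟩ := quad_bounded hquad
  have hrk0 : F.rk 0 = 1 := by omega
  -- the generator of `F_0` sits in degree 0
  have h1M : π 1 ≠ 0 := by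
    intro h
    rw [← LinearMap.mem_ker, hker, hI] at h
    obtain ⟨p, hp⟩ := hZne
    have := h p hp 0
    rw [MvPolynomial.homogeneousComponent_zero] at this
    simp at this
  have hdeg0 : ∀ b : Fin (F.rk 0), F.deg 0 b = 0 := by
    intro b
    have hsub : ∀ c : Fin (F.rk 0), c = b := fun c => Fin.ext (by omega)
    have hπ1 : π 1 ∈ ℳ 0 := hπg _ _ (SetLike.one_mem_graded (GrSyz.stdGr k (Fin 3)))
    obtain ⟨v, hv⟩ := F.aug_surjective (π 1)
    rw [Fintype.linearCombination_apply, Fintype.sum_eq_single b (fun c hc => absurd (hsub c) hc)] at hv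
    rcases lt_trichotomy (F.deg 0 b) 0 with hneg | h0 | hgt
    · refine absurd ?_ h1M
      obtain ⟨q, hq⟩ := hπ (F.aug b)
      rw [← hv, ← GrLC.cpt_of_mem ℳ (F.aug_mem b), ← hq, ← GrLC.map_cpt hπg,
        hpos _ hneg _ (GrLC.cpt_mem (GrSyz.stdGr k (Fin 3)) _ q), map_zero, smul_zero]
    · exact h0
    · refine absurd ?_ h1M
      rw [← GrLC.cpt_of_mem ℳ hπ1, ← hv,
        GrLC.cpt_smul_right' (𝒜 := GrSyz.stdGr k (Fin 3)) ℳ (F.aug_mem b),
        hpos (0 - F.deg 0 b) (by omega) _ (GrLC.cpt_mem (GrSyz.stdGr k (Fin 3)) _ _), zero_smul]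
  have hσ : σ₁ = σ₂ := by
    have : σ₀ = 0 := Finset.sum_eq_zero fun b _ => hdeg0 b
    omega
  -- the matrices in the given bases
  let b₀ : Fin (F.rk 0) := ⟨0, by omega⟩
  let D : Matrix (Fin (t + 1)) (Fin t) (MvPolynomial (Fin 3) k) :=
    Matrix.of fun r c => F.d 1 (Fin.cast h1.symm r) (Fin.cast h2.symm c)
  let g : Fin (t + 1) → MvPolynomial (Fin 3) k := fun r => F.d 0 b₀ (Fin.cast h1.symm r)
  have hg : ∀ r, g r ≠ 0 := fun r h => by
    obtain ⟨a, ha⟩ := GrSyz.exists_ne_zero_of_minimal hpos F hF 0 (Fin.cast h1.symm r)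
    exact ha ((Fin.ext (by omega) : a = b₀) ▸ h)
  have hrel : Matrix.vecMul g D = 0 := by
    funext c
    have := congrFun (congrFun (GrSyz.d_mul_d F 0) b₀) (Fin.cast h2.symm c)
    rw [Matrix.mul_apply] at this
    exact (Fintype.sum_equiv (finCongr h1.symm) _ _ (fun r => rfl)).trans this
  have hinj : ∀ v, D.mulVec v = 0 → v = 0 := by
    intro v hv
    let w : Fin (F.rk 2) → MvPolynomial (Fin 3) k := fun c => v (Fin.cast h2 c)
    have hw : F.dLin 1 w = 0 := by
      funext r
      have := congrFun hv (Fin.cast h1 r)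
      refine Eq.trans ?_ this
      exact Fintype.sum_equiv (finCongr h2) _ _ (fun c => rfl)
    obtain ⟨u, hu⟩ := (F.exact_succ 1).le (LinearMap.mem_ker.2 hw)
    have hz : F.rk 3 = 0 := hlen 3 (by norm_num)
    have : u = 0 := funext fun x => absurd x.2 (by simp [hz])
    rw [this, map_zero] at hu
    funext c
    exact (congrFun hu.symm (Fin.cast h2.symm c) : _)
  have hdeg : ∀ r c, D r c ≠ 0 →
      1 ≤ F.deg 2 (Fin.cast h2.symm c) - F.deg 1 (Fin.cast h1.symm r) := by
    intro r c h
    by_contra hle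
    have hm := F.d_mem 1 (Fin.cast h1.symm r) (Fin.cast h2.symm c)
    rcases lt_or_eq_of_le (show F.deg 2 (Fin.cast h2.symm c) - F.deg 1 (Fin.cast h1.symm r) ≤ 0 by omega)
      with hlt | heq
    · exact h (hpos _ hlt _ hm)
    · have hc := (GrSyz.mem_irrel_iff hpos).1 (hF 1 (Fin.cast h1.symm r) (Fin.cast h2.symm c))
      rw [heq] at hm
      exact h ((GrLC.cpt_of_mem (GrSyz.stdGr k (Fin 3)) hm).symm.trans hc)
  refine ⟨fun i => ⟨?_, ?_⟩, ?_⟩
  · obtain ⟨r, c, hr, hc, hne⟩ := exists_ne_zero_above D hinj g hg hrel i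
    have := hdeg r c hne
    have := ha r i.castSucc (by simpa [Fin.le_def] using hr)
    have := hb i c hc
    omega
  · obtain ⟨r, c, hr, hc, hne⟩ := exists_ne_zero_below D hinj i
    have := hdeg r c hne
    have := ha r i.succ (by simpa [Fin.le_def] using hr)
    have := hb i c hc
    omega
  · rw [Fintype.sum_equiv (finCongr h1.symm) (fun r => F.deg 1 (Fin.cast h1.symm r)) (F.deg 1) (fun r => rfl),
      Fintype.sum_equiv (finCongr h2.symm) (fun r => F.deg 2 (Fin.cast h2.symm r)) (F.deg 2) (fun r => rfl)]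
    exact hσ

end Groth.Agent.S15432
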