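import Groth.Statements.S15433
import Groth.Agent.GrSyz.RegOps
import Groth.Agent.GrSyz.Hilbert
import Mathlib.RingTheory.Length
import Mathlib.LinearAlgebra.FiniteDimensional.Lemmas
-- import your own Groth.Agent.* helpers here

set_option autoImplicit false
set_option maxRecDepth 20000
universe u
open GrSyz

namespace Groth.Agent.S15433

open Groth.Agent.GrLC DirectSum in
theorem length_bound {k : Type u} [Field k] {r : ℕ} {N : Type u} [AddCommGroup N] [Module k N]
    [Module (MvPolynomial (Fin (r + 1)) k) N] [IsScalarTower k (MvPolynomial (Fin (r + 1)) k) N]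
    (𝒩 : ℤ → Submodule k N) [DirectSum.Decomposition 𝒩]
    [SetLike.GradedSMul (GrSyz.stdGr k (Fin (r + 1))) 𝒩]
    (θ : MvPolynomial (Fin (r + 1)) k →ₗ[MvPolynomial (Fin (r + 1)) k] N) (hθ : Function.Surjective θ)
    (hθg : GrLC.IsGrHom (GrSyz.stdGr k (Fin (r + 1))) 𝒩 θ) {c : ℕ} (v : Fin c → N)
    (hv : ∀ i, v i ∈ 𝒩 1) (hli : LinearIndependent k v) {j : ℕ} (hj : 1 ≤ j)
    (hne : ∃ x ∈ 𝒩 (j : ℤ), x ≠ 0) :
    ((j + c : ℕ) : ℕ∞) ≤ Module.length (MvPolynomial (Fin (r + 1)) k) N := by
  let S := MvPolynomial (Fin (r + 1)) k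
  let 𝒜 := GrSyz.stdGr k (Fin (r + 1))
  have hpos := Groth.Agent.GrSyz.stdGr_eq_zero_of_neg (k := k) (σ := Fin (r + 1))
  let B : ℕ → Submodule S N := fun i => Submodule.span S {x : N | ∃ g : ℤ, (i : ℤ) ≤ g ∧ x ∈ 𝒩 g}
  have hlowB : ∀ (i : ℕ), ∀ g : ℤ, g < (i : ℤ) → ∀ x ∈ B i, cpt 𝒩 g x = 0 := by
    intro i g hg x hx
    induction hx using Submodule.span_induction generalizing g with
    | mem x hx =>
      obtain ⟨e, he, hxe⟩ := hx
      exact cpt_of_mem_ne 𝒩 hxe (by omega)
    | zero => rw [map_zero]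
    | add a b _ _ ha hb => rw [map_add, ha g hg, hb g hg, add_zero]
    | smul s a _ ha =>
      rw [← sum_cpt 𝒜 s, Finset.sum_smul, map_sum]
      refine Finset.sum_eq_zero fun e _ => ?_
      rw [cpt_smul_left' (𝒜 := 𝒜) 𝒩 (cpt_mem 𝒜 e s)]
      by_cases he : e < 0
      · rw [hpos e he _ (cpt_mem 𝒜 e s), zero_smul]
      · rw [ha (g - e) (by omega), smul_zero]
  -- every piece up to `j` is nonzero
  have hstep : ∀ n : ℕ, (∀ x ∈ 𝒩 (n : ℤ), x = 0) → ∀ x ∈ 𝒩 ((n : ℤ) + 1), x = 0 := by
    intro n h0 x hx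
    obtain ⟨p, rfl⟩ := hθ x
    rw [← cpt_of_mem 𝒩 hx, ← map_cpt hθg]
    generalize hq : cpt 𝒜 ((n : ℤ) + 1) p = q
    have hqm : q ∈ 𝒜 ((n : ℤ) + 1) := hq ▸ cpt_mem 𝒜 _ p
    rw [q.as_sum, map_sum]
    refine Finset.sum_eq_zero fun d hd => ?_
    have hdeg := Groth.Agent.GrSyz.stdGr_degree_eq hqm (MvPolynomial.mem_support_iff.1 hd)
    obtain ⟨b, hb⟩ : ∃ b, d b ≠ 0 := by
      by_contra hc
      push Not at hc
      rw [(Finsupp.degree_eq_zero_iff d).2 (Finsupp.ext hc)] at hdeg
      omega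
    obtain ⟨d', rfl⟩ : ∃ d', d = Finsupp.single b 1 + d' :=
      exists_add_of_le (Finsupp.single_le_iff.2 (Nat.one_le_iff_ne_zero.2 hb))
    rw [map_add, Finsupp.degree_single] at hdeg
    have hm : θ (MvPolynomial.monomial d' (MvPolynomial.coeff (Finsupp.single b 1 + d') q)) = 0 := by
      refine h0 _ (hθg _ _ ?_)
      rw [GrSyz.mem_stdGr_iff]
      refine MvPolynomial.isWeightedHomogeneous_monomial _ _ _ ?_
      rw [Finsupp.weight_apply, Finsupp.sum]
      simp only [nsmul_eq_mul, mul_one]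
      rw [← Nat.cast_sum, ← Finsupp.degree_apply]
      push_cast at hdeg
      omega
    rw [MvPolynomial.monomial_single_add, pow_one, ← smul_eq_mul, map_smul, hm, smul_zero]
  have hnz : ∀ i : ℕ, i ≤ j → ∃ x ∈ 𝒩 (i : ℤ), x ≠ 0 := by
    intro i hi
    induction hi using Nat.decreasingInduction with
    | self => exact hne
    | of_succ i hi ih =>
      by_contra hc
      push Not at hc
      obtain ⟨x, hx, hx0⟩ := ih
      exact hx0 (hstep i hc x (by exact_mod_cast hx))
  have hBle : ∀ i, B (i + 1) ≤ B i := fun i =>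
    Submodule.span_mono fun x ⟨g, hg, hx⟩ => ⟨g, by push_cast at hg; omega, hx⟩
  have hB : ∀ t i : ℕ, i + t = j + 1 → (t : ℕ∞) ≤ Order.height (B i) := by
    intro t
    induction t with
    | zero => intro i _; exact zero_le
    | succ t ih =>
      intro i hi
      obtain ⟨x, hx, hx0⟩ := hnz i (by omega)
      have hlt : B (i + 1) < B i := lt_of_le_of_ne (hBle i) fun heq => hx0 (by
        have hmem : x ∈ B (i + 1) := by
          rw [heq]
          exact Submodule.subset_span ⟨i, le_rfl, hx⟩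
        have := hlowB (i + 1) i (by push_cast; omega) x hmem
        rwa [cpt_of_mem 𝒩 hx] at this)
      push_cast
      exact le_trans (add_le_add (ih (i + 1) (by omega)) le_rfl) (Order.height_add_one_le hlt)
  let A : ℕ → Submodule S N := fun i => B 2 ⊔ Submodule.span S (v '' {l | (l : ℕ) < i})
  have hAcpt : ∀ i, ∀ x ∈ A i, cpt 𝒩 1 x ∈ Submodule.span k (v '' {l | (l : ℕ) < i}) := by
    intro i x hx
    obtain ⟨y, hy, z, hz, rfl⟩ := Submodule.mem_sup.1 hx
    rw [map_add, hlowB 2 1 (by norm_num) y hy, zero_add]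
    clear hx
    induction hz using Submodule.span_induction with
    | mem w hw =>
      obtain ⟨l, hl, rfl⟩ := hw
      rw [cpt_of_mem 𝒩 (hv l)]
      exact Submodule.subset_span ⟨l, hl, rfl⟩
    | zero => rw [map_zero]; exact zero_mem _
    | add a b _ _ ha hb => rw [map_add]; exact add_mem ha hb
    | smul s a ha' ha =>
      rw [← sum_cpt 𝒜 s, Finset.sum_smul, map_sum]
      refine sum_mem fun e _ => ?_
      rw [cpt_smul_left' (𝒜 := 𝒜) 𝒩 (cpt_mem 𝒜 e s)]
      rcases lt_trichotomy e 0 with he | rfl | he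
      · rw [hpos e he _ (cpt_mem 𝒜 e s), zero_smul]; exact zero_mem _
      · rw [sub_zero, Groth.Agent.GrSyz.stdGr_zero_eq_C (cpt_mem 𝒜 0 s),
          ← MvPolynomial.algebraMap_eq, algebraMap_smul]
        exact Submodule.smul_mem _ _ ha
      · have hB1 : a ∈ B 1 := by
          refine (Submodule.span_le.2 ?_) ha'
          rintro - ⟨l, -, rfl⟩
          exact Submodule.subset_span ⟨1, le_rfl, hv l⟩
        rw [hlowB 1 (1 - e) (by omega) a hB1, smul_zero]
        exact zero_mem _
  have hA : ∀ i : ℕ, i ≤ c → ((j - 1 + i : ℕ) : ℕ∞) ≤ Order.height (A i) := by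
    intro i
    induction i with
    | zero =>
      intro _
      refine le_trans (hB (j - 1) 2 (by omega)) (Order.height_mono ?_)
      exact le_sup_left
    | succ i ih =>
      intro hic
      have hsub : v '' {l | (l : ℕ) < i} ⊆ v '' {l | (l : ℕ) < i + 1} := by
        rintro - ⟨l, hl, rfl⟩
        exact ⟨l, Nat.lt_succ_of_lt hl, rfl⟩
      have hle : A i ≤ A (i + 1) := sup_le_sup (le_refl (B 2)) (Submodule.span_mono hsub)
      have hlt : A i < A (i + 1) := lt_of_le_of_ne hle fun heq => by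
        have hmem : v ⟨i, hic⟩ ∈ A i := by
          rw [heq]
          exact Submodule.mem_sup_right (Submodule.subset_span ⟨⟨i, hic⟩, Nat.lt_succ_self i, rfl⟩)
        have h1 := hAcpt i _ hmem
        rw [cpt_of_mem 𝒩 (hv ⟨i, hic⟩)] at h1
        exact hli.notMem_span_image (by simp) h1
      rw [show j - 1 + (i + 1) = j - 1 + i + 1 by omega, Nat.cast_add, Nat.cast_one]
      exact le_trans (add_le_add (ih (by omega)) le_rfl) (Order.height_add_one_le hlt)
  have htop : A c < ⊤ := by
    refine lt_top_iff_ne_top.2 fun htop => ?_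
    have hle : A c ≤ B 1 := sup_le (hBle 1) (Submodule.span_le.2 (by
      rintro - ⟨l, -, rfl⟩
      exact Submodule.subset_span ⟨1, le_rfl, hv l⟩))
    have h1 := hlowB 1 0 (by norm_num) (θ 1) (hle (by rw [htop]; trivial))
    rw [cpt_of_mem 𝒩 (hθg 0 1 (SetLike.one_mem_graded 𝒜))] at h1
    obtain ⟨x, -, hx0⟩ := hne
    obtain ⟨p, rfl⟩ := hθ x
    rw [← mul_one p, ← smul_eq_mul, map_smul, h1, smul_zero] at hx0
    exact hx0 rfl
  rw [Module.length_eq_height, show j + c = j - 1 + c + 1 by omega, Nat.cast_add, Nat.cast_one]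
  exact le_trans (add_le_add (hA c le_rfl) le_rfl) (Order.height_add_one_le htop)

set_option maxHeartbeats 1000000 in
/-- Let k be a field, S = k[x_0, …, x_r] graded by degree, 𝔪 = (x_0, …, x_r), and M = S/I a graded
quotient of S, given with a surjective degree-preserving S-linear map π : S → M whose kernel I
contains no nonzero linear form. Let y_0, …, y_t be linear forms forming a weakly regular sequence
on M (each a non-zerodivisor modulo the previous ones) and N = M/(y_0, …, y_t)M, given as a graded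
module with a surjective degree-preserving S-linear map σ : M → N with kernel (y_0, …, y_t)M, and
suppose N has finite length ℓ. Then reg M + (r − t) ≤ ℓ, reg being the Castelnuovo–Mumford
regularity of M in the sense of minimal graded free resolutions. (The published statement is reg S_X
≤ deg X − codim X for an arithmetically Cohen–Macaulay subvariety X of P^r not contained in a
hyperplane; this row is the algebraic statement its proof establishes, with S_X any graded quotient
of S by an ideal without linear forms, the maximal regular sequence of linear forms given, deg X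
replaced by the length of S_X/(y_0, …, y_t)S_X and codim X by r − t, which agree with the degree and
the codimension in that situation.) -/
theorem result (k : Type u) [Field k] (r : ℕ)
    (M : Type u) [AddCommGroup M] [Module k M] [Module (MvPolynomial (Fin (r + 1)) k) M]
    [IsScalarTower k (MvPolynomial (Fin (r + 1)) k) M] [Module.Finite (MvPolynomial (Fin (r + 1)) k) M]
    (ℳ : ℤ → Submodule k M) [DirectSum.Decomposition ℳ] [SetLike.GradedSMul (GrSyz.stdGr k (Fin (r + 1))) ℳ]
    (π : MvPolynomial (Fin (r + 1)) k →ₗ[MvPolynomial (Fin (r + 1)) k] M) (hπ : Function.Surjective π)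
    (hπg : GrLC.IsGrHom (GrSyz.stdGr k (Fin (r + 1))) ℳ π)
    (hlin : ∀ x : MvPolynomial (Fin (r + 1)) k, x ∈ GrSyz.stdGr k (Fin (r + 1)) 1 → π x = 0 → x = 0)
    (ys : List (MvPolynomial (Fin (r + 1)) k)) (hys : ∀ y ∈ ys, y ∈ GrSyz.stdGr k (Fin (r + 1)) 1)
    (hreg : RingTheory.Sequence.IsWeaklyRegular M ys)
    (N : Type u) [AddCommGroup N] [Module k N] [Module (MvPolynomial (Fin (r + 1)) k) N]
    [IsScalarTower k (MvPolynomial (Fin (r + 1)) k) N]
    (𝒩 : ℤ → Submodule k N) [DirectSum.Decomposition 𝒩] [SetLike.GradedSMul (GrSyz.stdGr k (Fin (r + 1))) 𝒩]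
    (σ : M →ₗ[MvPolynomial (Fin (r + 1)) k] N) (hσ : Function.Surjective σ) (hσg : GrLC.IsGrHom ℳ 𝒩 σ)
    (hker : LinearMap.ker σ = Ideal.ofList ys • (⊤ : Submodule (MvPolynomial (Fin (r + 1)) k) M))
    (ℓ : ℕ) (hℓ : Module.length (MvPolynomial (Fin (r + 1)) k) N = (ℓ : ℕ∞)) :
    GrSyz.reg (GrSyz.stdGr k (Fin (r + 1))) ℳ (GrSyz.irrel (GrSyz.stdGr k (Fin (r + 1)))).toIdeal + ((((r : ℤ) + 1 - (ys.length : ℤ) : ℤ) : WithTop ℤ) : WithBot (WithTop ℤ)) ≤
      (((ℓ : ℤ) : WithTop ℤ) : WithBot (WithTop ℤ)) := by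
  open Groth.Agent.GrLC in
  let S := MvPolynomial (Fin (r + 1)) k
  haveI : Module.Finite S N := Module.Finite.of_surjective σ hσ
  have hfl : IsFiniteLength S N := Module.length_ne_top_iff.1 (by rw [hℓ]; exact ENat.coe_ne_top ℓ)
  rw [Groth.Agent.GrSyz.add_int_le_iff, Groth.Agent.GrSyz.reg_le_iff,
    Groth.Agent.GrSyz.cohReg_iff_regularSeq' ys hys hreg σ hσ hσg hker,
    Groth.Agent.GrSyz.cohReg_iff_of_torsion
      (Groth.Agent.GrSyz.mem_gam_of_isFiniteLength Groth.Agent.GrSyz.stdGr_eq_zero_of_neg 𝒩 hfl)]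
  intro j hj x hx
  by_contra hx0
  let θ : S →ₗ[S] N := σ ∘ₗ π
  have hθg : GrLC.IsGrHom (GrSyz.stdGr k (Fin (r + 1))) 𝒩 θ := fun g p hp => hσg g _ (hπg g p hp)
  have hθ : Function.Surjective θ := hσ.comp hπ
  have hj0 : 0 ≤ j := by
    by_contra hc
    obtain ⟨p, rfl⟩ := hθ x
    rw [← Groth.Agent.GrLC.cpt_of_mem 𝒩 hx, ← Groth.Agent.GrLC.map_cpt hθg,
      Groth.Agent.GrSyz.stdGr_eq_zero_of_neg j (by omega) _ (Groth.Agent.GrLC.cpt_mem _ j p),
      map_zero] at hx0
    exact hx0 rfl
  -- the image of the linear forms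
  let φ : GrSyz.stdGr k (Fin (r + 1)) 1 →ₗ[k] N :=
    (θ.restrictScalars k) ∘ₗ (GrSyz.stdGr k (Fin (r + 1)) 1).subtype
  have hfin := Groth.Agent.GrSyz.finrank_stdGr (k := k) (r := r) 1
  haveI := hfin.1
  have hdim : Module.finrank k (GrSyz.stdGr k (Fin (r + 1)) 1) = r + 1 := by
    have h := hfin.2
    rw [if_pos zero_le_one, show r + (1 : ℤ).toNat = r + 1 from rfl, Nat.choose_succ_self_right] at h
    exact_mod_cast h
  classical
  let Y : Submodule k S := Submodule.span k (↑ys.toFinset : Set S)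
  have hkerφ : (LinearMap.ker φ).map (GrSyz.stdGr k (Fin (r + 1)) 1).subtype ≤ Y := by
    rintro - ⟨⟨p, hp⟩, hp0, rfl⟩
    have hp0 : σ (π p) = 0 := hp0
    have hmem : π p ∈ Ideal.ofList ys • (⊤ : Submodule S M) := hker ▸ hp0
    have hmap : Submodule.map π (Ideal.ofList ys • (⊤ : Submodule S S)) = Ideal.ofList ys • ⊤ := by
      rw [Submodule.map_smul'', Submodule.map_top, LinearMap.range_eq_top.2 hπ]
    rw [← hmap] at hmem
    obtain ⟨y, hy, hye⟩ := hmem
    rw [smul_eq_mul, Ideal.mul_top] at hy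
    have hz : π (Groth.Agent.GrLC.cpt (GrSyz.stdGr k (Fin (r + 1))) 1 (p - y)) = 0 := by
      rw [Groth.Agent.GrLC.map_cpt hπg, map_sub, hye, sub_self, map_zero]
    have h0 := hlin _ (Groth.Agent.GrLC.cpt_mem _ 1 _) hz
    rw [map_sub, Groth.Agent.GrLC.cpt_of_mem _ hp, sub_eq_zero] at h0
    change p ∈ Y
    rw [h0]
    clear h0 hz hye
    induction hy using Submodule.span_induction with
    | mem y hy =>
      rw [Groth.Agent.GrLC.cpt_of_mem _ (hys y hy)]
      exact Submodule.subset_span (List.mem_toFinset.2 hy)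
    | zero => rw [map_zero]; exact zero_mem _
    | add a b _ _ ha hb => rw [map_add]; exact add_mem ha hb
    | smul s a ha' ha =>
      rw [smul_eq_mul, mul_comm, ← smul_eq_mul, ← Groth.Agent.GrLC.sum_cpt (GrSyz.stdGr k (Fin (r + 1))) s,
        Finset.smul_sum, map_sum]
      refine sum_mem fun e _ => ?_
      rw [smul_eq_mul, mul_comm, ← smul_eq_mul,
        Groth.Agent.GrLC.cpt_smul_left' (𝒜 := GrSyz.stdGr k (Fin (r + 1))) _ (Groth.Agent.GrLC.cpt_mem _ e s)]
      rcases lt_trichotomy e 0 with he | rfl | he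
      · rw [Groth.Agent.GrSyz.stdGr_eq_zero_of_neg e he _ (Groth.Agent.GrLC.cpt_mem _ e s), zero_smul]
        exact zero_mem _
      · rw [sub_zero, Groth.Agent.GrSyz.stdGr_zero_eq_C (Groth.Agent.GrLC.cpt_mem _ 0 s),
          ← MvPolynomial.algebraMap_eq, algebraMap_smul]
        exact Submodule.smul_mem _ _ ha
      · rcases eq_or_lt_of_le (show (1 : ℤ) ≤ e by omega) with rfl | he1
        · have hcpt : Groth.Agent.GrLC.cpt (GrSyz.stdGr k (Fin (r + 1))) 0 a = 0 := by
            refine (Groth.Agent.GrSyz.mem_irrel_iff Groth.Agent.GrSyz.stdGr_eq_zero_of_neg).1 ?_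
            exact (Ideal.span_le.2 fun z hz =>
              Groth.Agent.GrSyz.mem_irrel_of_pos zero_lt_one (hys z hz)) ha'
          rw [sub_self, hcpt, smul_zero]
          exact zero_mem _
        · rw [Groth.Agent.GrSyz.stdGr_eq_zero_of_neg (1 - e) (by omega) _
            (Groth.Agent.GrLC.cpt_mem _ _ a), smul_zero]
          exact zero_mem _
  have hkle : Module.finrank k (LinearMap.ker φ) ≤ ys.length := by
    rw [← Submodule.finrank_map_subtype_eq (GrSyz.stdGr k (Fin (r + 1)) 1) (LinearMap.ker φ)]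
    haveI : FiniteDimensional k Y := FiniteDimensional.span_finset k ys.toFinset
    exact (Submodule.finrank_mono hkerφ).trans
      ((finrank_span_finset_le_card ys.toFinset).trans ys.toFinset_card_le)
  have hrk := LinearMap.finrank_range_add_finrank_ker φ
  rw [hdim] at hrk
  by_cases hj1 : j = 0
  · subst hj1
    have hr1 : Module.finrank k (LinearMap.range φ) = 0 ∨ 1 ≤ Module.finrank k (LinearMap.range φ) := by
      omega
    have hl1 : (1 : ℕ∞) ≤ (ℓ : ℕ∞) := by
      rw [← hℓ]
      haveI : Nontrivial N := nontrivial_of_ne x 0 hx0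
      exact Order.one_le_iff_pos.2 Module.length_pos
    have hl1' : 1 ≤ ℓ := by exact_mod_cast hl1
    rcases hr1 with h | h
    · omega
    · obtain ⟨w, hw⟩ : ∃ w : LinearMap.range φ, w ≠ 0 := by
        haveI := Module.finrank_pos_iff.1 (show 0 < Module.finrank k (LinearMap.range φ) by omega)
        exact exists_ne 0
      let b := Module.finBasis k (LinearMap.range φ)
      have := length_bound (r := r) 𝒩 θ hθ hθg (c := Module.finrank k (LinearMap.range φ))
        (fun i => (b i : N)) (fun i => by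
          obtain ⟨p, hp⟩ := (b i).2
          rw [← hp]
          exact hθg 1 p.1 p.2)
        (b.linearIndependent.map' _ (Submodule.ker_subtype _)) (j := 1) le_rfl
        ⟨(w : N), by
          obtain ⟨p, hp⟩ := w.2
          rw [← hp]
          exact hθg 1 p.1 p.2, fun h => hw (Subtype.ext h)⟩
      rw [hℓ, ENat.coe_le_coe] at this
      omega
  · obtain ⟨n, rfl⟩ := Int.eq_ofNat_of_zero_le hj0
    let b := Module.finBasis k (LinearMap.range φ)
    have := length_bound (r := r) 𝒩 θ hθ hθg (c := Module.finrank k (LinearMap.range φ))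
      (fun i => (b i : N)) (fun i => by
        obtain ⟨p, hp⟩ := (b i).2
        rw [← hp]
        exact hθg 1 p.1 p.2)
      (b.linearIndependent.map' _ (Submodule.ker_subtype _)) (j := n) (by omega) ⟨x, hx, hx0⟩
    rw [hℓ, ENat.coe_le_coe] at this
    omega

end Groth.Agent.S15433
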