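import Groth.Statements.S15435
import Groth.Agent.GrSyz.TildeGlobal
-- import your own Groth.Agent.* helpers here

set_option autoImplicit false
universe u
open GrSyz

namespace Groth.Agent.S15435

/-- Let k be a field, S = k[x_0, …, x_r] graded by degree, 𝔪 = (x_0, …, x_r), and M a finitely generated
ℤ-graded S-module; M̃ and the M(d)~ denote the O-modules on P^r_k associated with the pieces M_n, n
≥ 0 (they depend only on the pieces of large degree), with the canonical maps M_d → H^0(P^r_k,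
M(d)~); graded local cohomology is computed from any *injective resolution in the graded category;
let d ≥ 0. Then M is d-regular, that is H^0_𝔪(M) has no nonzero piece above degree d and H^i_𝔪(M)
vanishes in degree d − i + 1 for every i > 0, if and only if: (1) the sheaf M̃ is d-regular,
H^i(P^r_k, M̃(d − i)) = 0 for 1 ≤ i ≤ r; (2) H^0_𝔪(M) vanishes in every degree e > d; and (3) the
canonical map from M_d to the global sections of M(d)~ is surjective. (The published statement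
allows any integer d; it is stated here for d ≥ 0.) -/
theorem result (k : Type u) [Field k] (r : ℕ)
    (M : Type u) [AddCommGroup M] [Module k M] [Module (MvPolynomial (Fin (r + 1)) k) M]
    [IsScalarTower k (MvPolynomial (Fin (r + 1)) k) M] [Module.Finite (MvPolynomial (Fin (r + 1)) k) M]
    (ℳ : ℤ → Submodule k M) [DirectSum.Decomposition ℳ] [SetLike.GradedSMul (GrSyz.stdGr k (Fin (r + 1))) ℳ]
    [SetLike.GradedSMul (CohB1.polyGrading r k) (fun n : ℕ => ℳ (n : ℤ))]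
    (E : GrLC.StarInjRes (GrSyz.stdGr k (Fin (r + 1))) ℳ) (d : ℕ) :
    (GrLC.endDeg (E.Hgr (GrSyz.irrel (GrSyz.stdGr k (Fin (r + 1)))) 0) ≤ (((d : ℤ) : WithTop ℤ) : WithBot (WithTop ℤ)) ∧
        ∀ i : ℕ, 0 < i → E.Hcomp (GrSyz.irrel (GrSyz.stdGr k (Fin (r + 1)))) i ((d : ℤ) - (i : ℤ) + 1) = ⊥) ↔
      (Curv2.IsMRegular k r (GrTilde.tilde (CohB1.polyGrading r k) (fun n : ℕ => ℳ (n : ℤ)) 0) (d : ℤ) ∧
        (∀ e : ℤ, (d : ℤ) < e → E.Hcomp (GrSyz.irrel (GrSyz.stdGr k (Fin (r + 1)))) 0 e = ⊥) ∧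
        Function.Surjective (fun m : ↥(ℳ ((d : ℕ) : ℤ)) => GrTilde.globalOf (CohB1.polyGrading r k) (fun n : ℕ => ℳ (n : ℤ)) m)) := by
  have hd := Groth.Agent.GrSyz.diag_iff ℳ E (d : ℤ)
  have hpieces : ∀ e : ℤ, E.Hcomp (GrSyz.irrel (GrSyz.stdGr k (Fin (r + 1)))) 0 e = ⊥ ↔
      Groth.Agent.GrLC.LC.gr ℳ (GrSyz.irrel (GrSyz.stdGr k (Fin (r + 1)))) 0 e = ⊥ :=
    Groth.Agent.GrLC.LC.Hcomp_eq_bot_iff _ 0 E
  refine hd.trans (Iff.trans (Groth.Agent.GrSyz.cohReg_iff_diagReg ℳ).symm ⟨fun h => ?_, ?_⟩)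
  · obtain ⟨F, hF, hgen⟩ := (Groth.Agent.GrSyz.isRegLE_iff ℳ (d : ℤ)).2 h
    refine ⟨Groth.Agent.GrSyzTilde.isMRegular_of_isRegLE ⟨F, hF, hgen⟩,
      fun e he => (hpieces e).2 (h 0 e (by simpa using he)), fun s => ?_⟩
    obtain ⟨y, hy, hval⟩ := Groth.Agent.GrSyzTilde.gSurj_of_isGenLE F
      (Groth.Agent.GrSyz.hasLengthLE_of_minimal F hF) hgen s
    exact ⟨⟨y, hy⟩, Groth.Agent.GrModLib.sect_ext fun x hx => (hval x hx).symm⟩
  · rintro ⟨hreg, htor, hsurj⟩
    obtain ⟨F, hF⟩ := Groth.Agent.GrSyz.exists_minimal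
      (𝒜 := GrSyz.stdGr k (Fin (r + 1))) (ℳ := ℳ)
      Groth.Agent.GrSyz.stdGr_eq_zero_of_neg Groth.Agent.GrSyz.stdGr_isUnit
    refine (Groth.Agent.GrSyz.cohReg_iff_isGenLE ℳ hF (d : ℤ)).1
      (Groth.Agent.GrSyzTilde.isGenLE_of_sheaf F hF
        ((Groth.Agent.GrSyzTilde.reg_iff r _ _).2 hreg) (fun e he y hy h => ?_) fun s => ?_)
    · by_contra hne
      exact Groth.Agent.GrLC.LC.exists_mem_gr_zero_ne _ hy
        (Groth.Agent.GrSyzTilde.mem_gam_of_forall hy h) hne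
        ((hpieces _).1 (htor _ (by exact_mod_cast he)))
    · obtain ⟨m, hm⟩ := hsurj s
      exact ⟨m.1, m.2, fun x hx => by rw [← hm]; rfl⟩

end Groth.Agent.S15435
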