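import Groth.Statements.S15436
import Groth.Agent.GrInt.Tor
import Groth.Agent.GrSyz.Std

set_option autoImplicit false
universe u
open GrSyz

namespace Groth.Agent.S15436

/-- Let k be a field, S = k[x_0, …, x_r] graded by degree, 𝔪 = (x_0, …, x_r), M a finitely generated
ℤ-graded S-module and F a minimal graded free resolution of M by free modules of finite rank with
homogeneous bases (all matrix entries in 𝔪). Then for every i the rank of F_i (the number of
elements of a minimal generating set of the i-th syzygy module) equals the length, i.e. the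
dimension over k = S/𝔪, of Tor_i^S(S/𝔪, M), where Tor_i is the i-th left derived functor of S/𝔪 ⊗_S
− on S-modules. (The published statement is the degree-by-degree refinement: F_i has exactly dim_k
Tor_i^S(k, M)_j basis vectors of degree j; the grading on Tor is not available here, so the counts
are summed over j.) -/
theorem result (k : Type u) [Field k] (r : ℕ)
    (M : Type u) [AddCommGroup M] [Module k M] [Module (MvPolynomial (Fin (r + 1)) k) M]
    [IsScalarTower k (MvPolynomial (Fin (r + 1)) k) M] [Module.Finite (MvPolynomial (Fin (r + 1)) k) M]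
    (ℳ : ℤ → Submodule k M) [DirectSum.Decomposition ℳ] [SetLike.GradedSMul (GrSyz.stdGr k (Fin (r + 1))) ℳ]
    (F : GrSyz.FreeRes (GrSyz.stdGr k (Fin (r + 1))) ℳ) (hF : F.IsMinimal (GrSyz.irrel (GrSyz.stdGr k (Fin (r + 1)))).toIdeal) (i : ℕ) :
    Module.length (MvPolynomial (Fin (r + 1)) k)
        (((CategoryTheory.Tor (ModuleCat.{u} (MvPolynomial (Fin (r + 1)) k)) i).obj
            (ModuleCat.of (MvPolynomial (Fin (r + 1)) k) ((MvPolynomial (Fin (r + 1)) k) ⧸ (GrSyz.irrel (GrSyz.stdGr k (Fin (r + 1)))).toIdeal))).obj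
          (ModuleCat.of (MvPolynomial (Fin (r + 1)) k) M)) = (F.rk i : ℕ∞) := by
  let J := (GrSyz.irrel (GrSyz.stdGr k (Fin (r + 1)))).toIdeal
  have hJ : ∀ x : MvPolynomial (Fin (r + 1)) k, MvPolynomial.constantCoeff x = 0 → x ∈ J := by
    intro x hx
    have key : ∀ y : MvPolynomial (Fin (r + 1)) k,
        y - MvPolynomial.C (MvPolynomial.constantCoeff y) ∈ J := fun y => by
      induction y using MvPolynomial.induction_on with
      | C a => simp
      | add p q hp hq =>
        simp only [map_add]
        rw [add_sub_add_comm]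
        exact J.add_mem hp hq
      | mul_X p v _ =>
        simp only [map_mul, MvPolynomial.constantCoeff_X, mul_zero, map_zero, sub_zero]
        refine J.mul_mem_left p (Groth.Agent.GrSyz.mem_irrel_of_pos (n := 1) one_pos ?_)
        exact MvPolynomial.isWeightedHomogeneous_X k (fun _ => (1 : ℤ)) v
    simpa [hx] using key x
  have hJ' : J = RingHom.ker (MvPolynomial.constantCoeff (σ := Fin (r + 1)) (R := k)) := by
    refine le_antisymm (Ideal.span_le.2 ?_) fun x hx => hJ x hx
    rintro x ⟨n, hn, hx⟩
    by_contra h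
    have := Groth.Agent.GrSyz.stdGr_degree_eq hx (d := 0) h
    simp only [map_zero] at this
    omega
  haveI hmax : J.IsMaximal := by
    rw [hJ']
    exact RingHom.ker_isMaximal_of_surjective _ fun c => ⟨MvPolynomial.C c, MvPolynomial.constantCoeff_C _ c⟩
  let N := MvPolynomial (Fin (r + 1)) k ⧸ J
  let P := Groth.Agent.GrInt.Tor.res (d := F.dLin) F.aug_surjective F.exact_zero.symm fun j => (F.exact_succ j).symm
  let e2 := P.isoLeftDerivedObj
    (CategoryTheory.MonoidalCategory.tensorLeft (ModuleCat.of (MvPolynomial (Fin (r + 1)) k) N)) i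
  let e3 := (HomologicalComplex.homologyFunctor _ _ i).mapIso
    (Groth.Agent.GrInt.Tor.cxIso N (d := F.dLin) fun j => (F.exact_succ j).symm)
  have hΦ : ∀ j, Groth.Agent.GrInt.Tor.Φ N (F.dLin j) = 0 := fun j => by
    refine LinearMap.ext fun v => funext fun a => ?_
    rw [Groth.Agent.GrInt.Tor.Φ_apply]
    refine Finset.sum_eq_zero fun b _ => ?_
    obtain ⟨w, hw⟩ := Ideal.Quotient.mk_surjective (v b)
    rw [← hw, show F.dLin j (Pi.single b 1) a = F.d j a b by simp [GrSyz.FreeRes.dLin]]
    exact Ideal.Quotient.eq_zero_iff_mem.2 (Ideal.mul_mem_right _ _ (hF j a b))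
  have hd : ∀ a b, (Groth.Agent.GrInt.Tor.cxN N (d := F.dLin) fun j => (F.exact_succ j).symm).d a b = 0 := fun a b => by
    by_cases hab : b + 1 = a
    · subst hab
      rw [Groth.Agent.GrInt.Tor.cxN_d, hΦ]
      rfl
    · exact (Groth.Agent.GrInt.Tor.cxN N (d := F.dLin) fun j => (F.exact_succ j).symm).shape a b hab
  refine (e2 ≪≫ e3).toLinearEquiv.length_eq.trans ?_
  refine (((Groth.Agent.GrInt.Tor.cxN N (d := F.dLin) fun j => (F.exact_succ j).symm).isoHomologyπ _ i rfl (hd _ _)).symm ≪≫
    (Groth.Agent.GrInt.Tor.cxN N (d := F.dLin) fun j => (F.exact_succ j).symm).iCyclesIso i _ rfl (hd _ _)).toLinearEquiv.length_eq.trans ?_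
  haveI : IsSimpleModule (MvPolynomial (Fin (r + 1)) k) N :=
    isSimpleModule_iff_isCoatom.2 (Ideal.isMaximal_def.1 hmax)
  change Module.length (MvPolynomial (Fin (r + 1)) k) (Fin (F.rk i) → N) = _
  simp

end Groth.Agent.S15436
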