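import Groth.Statements.S15437
import Groth.Agent.GrSyz.Hilbert

set_option autoImplicit false
universe u
open GrSyz

namespace Groth.Agent.S15437

/-- Let k be a field, S = k[x_0, …, x_r] graded by degree and M a ℤ-graded S-module with a finite graded
free resolution F of length at most m by free modules of finite rank with homogeneous bases; write
β_{i,j} for the number of basis vectors of F_i of degree j (the graded Betti numbers when F is
minimal) and B_j = Σ_{i ≤ m} (−1)^i β_{i,j}. Then for every integer d, dim_k M_d = Σ_j B_j C(r + d −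
j, r), where a binomial with d < j counts as zero and only finitely many j contribute; and the B_j
are recovered from the Hilbert function by B_j = dim_k M_j − Σ_{n < j} B_n C(r + j − n, r). (Stated
for any finite graded free resolution; the published statement takes the minimal one.) -/
theorem result (k : Type u) [Field k] (r : ℕ)
    (M : Type u) [AddCommGroup M] [Module k M] [Module (MvPolynomial (Fin (r + 1)) k) M]
    [IsScalarTower k (MvPolynomial (Fin (r + 1)) k) M] [Module.Finite (MvPolynomial (Fin (r + 1)) k) M]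
    (ℳ : ℤ → Submodule k M) [DirectSum.Decomposition ℳ] [SetLike.GradedSMul (GrSyz.stdGr k (Fin (r + 1))) ℳ]
    (F : GrSyz.FreeRes (GrSyz.stdGr k (Fin (r + 1))) ℳ) (m : ℕ) (hF : F.HasLengthLE m) :
    (∀ d : ℤ, (Module.finrank k ↥(ℳ d) : ℤ) =
        ∑ᶠ j : ℤ, (∑ i ∈ Finset.range (m + 1), (-1 : ℤ) ^ i * (F.betti i j : ℤ)) *
          (if j ≤ d then ((Nat.choose (r + (d - j).toNat) r : ℕ) : ℤ) else 0)) ∧
      ∀ j : ℤ, (∑ i ∈ Finset.range (m + 1), (-1 : ℤ) ^ i * (F.betti i j : ℤ)) =
        (Module.finrank k ↥(ℳ j) : ℤ) -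
          ∑ᶠ n : ℤ, (if n < j then (∑ i ∈ Finset.range (m + 1), (-1 : ℤ) ^ i * (F.betti i n : ℤ)) * ((Nat.choose (r + (j - n).toNat) r : ℕ) : ℤ) else 0) := by
  classical
  let S : Finset ℤ := (Finset.range (m + 1)).biUnion fun i => Finset.univ.image (F.deg i)
  let B : ℤ → ℤ := fun j => ∑ i ∈ Finset.range (m + 1), (-1 : ℤ) ^ i * (F.betti i j : ℤ)
  let C : ℤ → ℤ → ℤ := fun d j =>
    if j ≤ d then ((Nat.choose (r + (d - j).toNat) r : ℕ) : ℤ) else 0
  have hB : ∀ j, j ∉ S → B j = 0 := by
    intro j hj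
    refine Finset.sum_eq_zero fun i hi => ?_
    have : F.betti i j = 0 := by
      refine Finset.card_eq_zero.2 (Finset.filter_eq_empty_iff.2 fun b _ hb => hj ?_)
      exact Finset.mem_biUnion.2 ⟨i, hi, Finset.mem_image.2 ⟨b, Finset.mem_univ b, hb⟩⟩
    simp [this]
  have hsupp : ∀ g : ℤ → ℤ, (Function.support fun j => B j * g j) ⊆ ↑S := by
    intro g j hj
    by_contra hjS
    exact hj (by simp only [hB j hjS, zero_mul])
  have h1 : ∀ d : ℤ, (Module.finrank k ↥(ℳ d) : ℤ) = ∑ j ∈ S, B j * C d j := by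
    intro d
    rw [Groth.Agent.GrSyz.finrank_piece_eq_sum F m hF d]
    simp only [B, Finset.sum_mul]
    rw [Finset.sum_comm]
    refine Finset.sum_congr rfl fun i hi => ?_
    simp only [mul_assoc, ← Finset.mul_sum]
    congr 1
    rw [← Finset.sum_fiberwise_of_maps_to (t := S) (g := F.deg i) (fun b _ => Finset.mem_biUnion.2
      ⟨i, hi, Finset.mem_image.2 ⟨b, Finset.mem_univ b, rfl⟩⟩)]
    refine Finset.sum_congr rfl fun j _ => ?_
    rw [Finset.sum_congr rfl (g := fun _ => C d j) (fun b hb => by
      rw [(Finset.mem_filter.1 hb).2]), Finset.sum_const, GrSyz.FreeRes.betti, nsmul_eq_mul]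
  refine ⟨fun d => ?_, fun j => ?_⟩
  · rw [h1 d, finsum_eq_sum_of_support_subset _ (hsupp (C d))]
  · have hlt : (fun n : ℤ => if n < j then B n * ((Nat.choose (r + (j - n).toNat) r : ℕ) : ℤ) else 0) =
        fun n => B n * (if n = j then 0 else C j n) := by
      funext n
      simp only [C]
      split_ifs <;> first | rfl | omega | simp
    change B j = _ - ∑ᶠ n : ℤ, (if n < j then B n * ((Nat.choose (r + (j - n).toNat) r : ℕ) : ℤ) else 0)
    rw [hlt, finsum_eq_sum_of_support_subset _ (hsupp _), h1 j, ← Finset.sum_sub_distrib]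
    rw [Finset.sum_eq_single j]
    · simp [C]
    · intro n _ hn; simp [hn]
    · intro hj; simp [hB j hj]

end Groth.Agent.S15437
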