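import Groth.Statements.S15438
import Groth.Agent.CycLib.SpecPt
import Groth.Agent.ProjProper.Basic
import Mathlib.AlgebraicGeometry.FunctionField

set_option autoImplicit false
universe u
open AlgEqCyc

namespace Groth.Agent.S15438

open AlgebraicGeometry CategoryTheory CategoryTheory.Limits

/-- The multiplicity of the diagonal of an integral scheme at a point of a slice is one. -/
theorem fibreMult_diag {P C : Scheme.{u}} [IsIntegral C] (Δ : C ⟶ P) [IsClosedImmersion Δ] (g : P ⟶ C)
    (hΔ : Δ ≫ g = 𝟙 C) (c : C) (h : Δ (genericPoint C) ⤳ Δ c) :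
    AlgEqCyc.fibreMult g (Δ c) (Δ (genericPoint C)) h = 1 := by
  have hηc : genericPoint C ⤳ c := genericPoint_specializes c
  have hinj : Function.Injective (Cyc.specMap c (genericPoint C) hηc) :=
    (C.residue (genericPoint C)).hom.injective.comp
      (FaithfulSMul.algebraMap_injective (C.presheaf.stalk c) C.functionField)
  have hK : RingHom.ker (Cyc.specMap (Δ c) (Δ (genericPoint C)) h) = RingHom.ker (Δ.stalkMap c).hom := by
    rw [← Groth.Agent.CycLib.comap_ker_specMap Δ hηc, (RingHom.injective_iff_ker_eq_bot _).1 hinj,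
      ← RingHom.ker_eq_comap_bot]
  let I : Ideal (P.presheaf.stalk (Δ c)) :=
    (IsLocalRing.maximalIdeal (C.presheaf.stalk (g (Δ c)))).map (g.stalkMap (Δ c)).hom
  have hsurj : Function.Surjective (Δ.stalkMap c).hom := Δ.stalkMap_surjective c
  have hI : I.map (Δ.stalkMap c).hom = IsLocalRing.maximalIdeal (C.presheaf.stalk c) := by
    have e1 : (g.stalkMap (Δ c) ≫ Δ.stalkMap c) = (Δ ≫ g).stalkMap c :=
      (Scheme.Hom.stalkMap_comp Δ g c).symm
    haveI : IsIso (Δ ≫ g) := by rw [hΔ]; infer_instance
    haveI : IsIso ((Δ ≫ g).stalkMap c) := inferInstance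
    rw [Ideal.map_map, ← CommRingCat.hom_comp, e1]
    exact IsLocalRing.map_ringEquiv_maximalIdeal (asIso ((Δ ≫ g).stalkMap c)).commRingCatIsoToRingEquiv
  have hsup : RingHom.ker (Cyc.specMap (Δ c) (Δ (genericPoint C)) h) ⊔ I =
      IsLocalRing.maximalIdeal (P.presheaf.stalk (Δ c)) := by
    haveI : IsLocalHom (Δ.stalkMap c).hom := inferInstanceAs (IsLocalHom (Δ.stalkMap c).hom)
    rw [hK, sup_comm, RingHom.ker_eq_comap_bot, ← Ideal.comap_map_of_surjective _ hsurj I, hI]
    exact ((IsLocalRing.local_hom_TFAE (Δ.stalkMap c).hom).out 0 4 rfl rfl).1 inferInstance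
  let mk₁ := Ideal.Quotient.mk (RingHom.ker (Cyc.specMap (Δ c) (Δ (genericPoint C)) h))
  let J := (IsLocalRing.maximalIdeal (C.presheaf.stalk (g (Δ c)))).map (mk₁.comp (g.stalkMap (Δ c)).hom)
  have hJc : J.comap mk₁ = IsLocalRing.maximalIdeal (P.presheaf.stalk (Δ c)) := by
    simp only [J, mk₁, ← Ideal.map_map]
    rw [Ideal.comap_map_of_surjective _ Ideal.Quotient.mk_surjective, ← RingHom.ker_eq_comap_bot,
      Ideal.mk_ker, sup_comm]
    exact hsup
  let π : P.presheaf.stalk (Δ c) →ₗ[P.presheaf.stalk (Δ c)]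
      (Cyc.LocQuot (Δ c) (Δ (genericPoint C)) h ⧸ J) :=
    (J.mkQ.restrictScalars (P.presheaf.stalk (Δ c))).comp (Submodule.mkQ _)
  have hπker : LinearMap.ker π = IsLocalRing.maximalIdeal (P.presheaf.stalk (Δ c)) := by
    ext a
    rw [LinearMap.mem_ker, ← hJc, Ideal.mem_comap]
    exact Submodule.Quotient.mk_eq_zero J
  have hsimple : IsSimpleModule (P.presheaf.stalk (Δ c))
      (Cyc.LocQuot (Δ c) (Δ (genericPoint C)) h ⧸ J) := by
    have e := LinearMap.quotKerEquivOfSurjective π
      ((Submodule.mkQ_surjective J).comp (Submodule.mkQ_surjective _))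
    haveI : IsSimpleModule (P.presheaf.stalk (Δ c)) (P.presheaf.stalk (Δ c) ⧸ LinearMap.ker π) := by
      rw [hπker]
      exact isSimpleModule_iff_isCoatom.2 (IsLocalRing.maximalIdeal.isMaximal _).out
    exact IsSimpleModule.congr e.symm
  unfold AlgEqCyc.fibreMult
  rw [Module.length_eq_one_iff.2 hsimple]
  rfl

open Classical in
theorem fibreFun_diag {C : Scheme.{u}} [IsIntegral C] {k : Type u} [Field k]
    (q : C ⟶ Spec (CommRingCat.of k)) [IsSeparated q] (t : Spec (CommRingCat.of k) ⟶ C) (ht : t ≫ q = 𝟙 _)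
    (x : C) :
    AlgEqCyc.fibreFun q q
      (Function.locallyFinsuppWithin.single (pullback.lift (𝟙 C) (𝟙 C) rfl (genericPoint C)) (1 : ℤ)) t ht x =
      if x = t (IsLocalRing.closedPoint k) then 1 else 0 := by
  let Δ : C ⟶ pullback q q := pullback.lift (𝟙 C) (𝟙 C) rfl
  haveI : IsClosedImmersion Δ := by
    have : Δ = pullback.diagonal q := by
      apply pullback.hom_ext
      · exact (pullback.lift_fst _ _ _).trans (pullback.diagonal_fst q).symm
      · exact (pullback.lift_snd _ _ _).trans (pullback.diagonal_snd q).symm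
    rw [this]; infer_instance
  have hΔg : Δ ≫ pullback.snd q q = 𝟙 C := pullback.lift_snd _ _ _
  let c := t (IsLocalRing.closedPoint k)
  have hW : ∀ w, (Function.locallyFinsuppWithin.single (Δ (genericPoint C)) (1 : ℤ)) w ≠ 0 →
      w = Δ (genericPoint C) := fun w hw => by
    by_contra hne
    exact hw (Pi.single_eq_of_ne hne _)
  have hsnd : pullback.snd q q (AlgEqCyc.slice q q t ht x) = c := by
    rw [← Scheme.Hom.comp_apply, AlgEqCyc.slice]
    erw [pullback.lift_snd]
    exact congrArg t (Subsingleton.elim _ _)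
  have hfst : pullback.fst q q (AlgEqCyc.slice q q t ht x) = x := by
    rw [← Scheme.Hom.comp_apply, AlgEqCyc.slice]
    erw [pullback.lift_fst]
    rfl
  have htc : t ≫ AlgEqCyc.slice q q t ht = t ≫ Δ := by
    apply pullback.hom_ext
    · simp only [AlgEqCyc.slice, Δ, Category.assoc, pullback.lift_fst]
    · simp only [AlgEqCyc.slice, Δ, Category.assoc, pullback.lift_snd, Category.comp_id]
      rw [← Category.assoc, ht, Category.id_comp]
  rw [AlgEqCyc.fibreFun]
  split_ifs with hx
  · have hz : AlgEqCyc.slice q q t ht x = Δ c := by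
      rw [hx, ← Scheme.Hom.comp_apply, htc, Scheme.Hom.comp_apply]
    rw [finsum_eq_single _ ⟨Δ (genericPoint C), by simp [Δ],
      hz ▸ (genericPoint_specializes c).map Δ.continuous⟩ (fun b hb => absurd (Subtype.ext (hW b.1 b.2.1)) hb)]
    simp only [hz]
    rw [fibreMult_diag Δ _ hΔg c]
    simp [Δ]
  · haveI : IsEmpty {w : ↥(pullback q q) //
        (Function.locallyFinsuppWithin.single (Δ (genericPoint C)) (1 : ℤ)) w ≠ 0 ∧
          w ⤳ AlgEqCyc.slice q q t ht x} := by
      refine ⟨fun ⟨w, hw, hwz⟩ => hx ?_⟩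
      rw [hW w hw] at hwz
      obtain ⟨d, hd⟩ := hwz.mem_closed Δ.isClosedEmbedding.isClosed_range ⟨_, rfl⟩
      have h1 : d = c := by
        rw [← hsnd, ← hd, ← Scheme.Hom.comp_apply, hΔg]; rfl
      have h2 : d = x := by
        rw [← hfst, ← hd, ← Scheme.Hom.comp_apply]
        erw [pullback.lift_fst]
        rfl
      exact h2.symm.trans h1
    exact finsum_of_isEmpty _

/-- Let C be a scheme over a field k that is smooth over k, projective over k, integral and of dimension
one, and let P₁, P₂ be two k-rational points of C. Then the zero-cycle [P₁] − [P₂] on C is an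
elementary algebraically trivial cycle: it is the difference of the members, at two k-rational
points, of a single family of cycles on C parametrised by a smooth projective integral curve over k,
every component of the family dominating the parameter curve. In particular [P₁] and [P₂] are
algebraically equivalent on C. (The published statement is over an algebraically closed field of
characteristic zero, where the points are closed points and algebraic equivalence is considered on
smooth projective schemes; this row allows any field, asks the two points to be k-rational and asks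
C to be projective over k.) -/
theorem result (k : Type u) [Field k]
    (C : Scheme.{u}) [DecidableEq ↥C] (q : C ⟶ Spec (CommRingCat.of k)) (hs : Smooth q)
    (hp : Neron.IsProjectiveOver k (Over.mk q)) (hi : IsIntegral C) (hd : topologicalKrullDim ↥C = 1)
    (P₁ P₂ : Spec (CommRingCat.of k) ⟶ C) (h₁ : P₁ ≫ q = 𝟙 _) (h₂ : P₂ ≫ q = 𝟙 _) :
    AlgEqCyc.IsElemAlgTriv q
      (Function.locallyFinsuppWithin.single (P₁ (IsLocalRing.closedPoint k)) (1 : ℤ) -
        Function.locallyFinsuppWithin.single (P₂ (IsLocalRing.closedPoint k)) (1 : ℤ)) := by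
  classical
  haveI : IsProper q := Groth.Agent.ProjProper.Basic.isProper_of_isProjectiveOver k (Over.mk q) hp
  refine ⟨C, q, hs, hp, hi, hd,
    Function.locallyFinsuppWithin.single (pullback.lift (𝟙 C) (𝟙 C) rfl (genericPoint C)) (1 : ℤ),
    fun w hw => ?_, P₁, P₂, h₁, h₂, fun x => ?_⟩
  · have : w = pullback.lift (𝟙 C) (𝟙 C) rfl (genericPoint C) := by
      by_contra hne
      exact hw (Pi.single_eq_of_ne hne _)
    subst this
    rw [← Scheme.Hom.comp_apply, pullback.lift_snd]
    exact genericPoint_spec C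
  · rw [fibreFun_diag q P₁ h₁ x, fibreFun_diag q P₂ h₂ x]
    show (Pi.single (P₁ (IsLocalRing.closedPoint k)) (1 : ℤ) : C → ℤ) x -
      (Pi.single (P₂ (IsLocalRing.closedPoint k)) (1 : ℤ) : C → ℤ) x = _
    simp only [Pi.single_apply]
    split_ifs <;> rfl

end Groth.Agent.S15438
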