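import Groth.Statements.S15439
import Groth.Agent.AlgEqCurve47.Basic

set_option autoImplicit false
universe u
open AlgEqCyc

namespace Groth.Agent.S15439

open AlgebraicGeometry CategoryTheory CategoryTheory.Limits in
/-- Let k be an algebraically closed field, X a scheme over k and C₁, …, Cₙ finitely many closed
subschemes of X, given as closed immersions ιᵢ : Cᵢ → X over k, such that each Cᵢ is smooth over k,
projective over k, integral and of dimension one and such that the union of the ιᵢ(Cᵢ) is a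
connected subset of X. Then for any two k-rational points P and Q of X lying on this union, the
zero-cycles [P] and [Q] on X are algebraically equivalent: [P] − [Q] lies in the subgroup of cycles
on X generated by the elementary algebraically trivial ones. (The published statement speaks of a
connected curve whose irreducible components are smooth and integral and of two of its points,
inside an ambient smooth projective scheme over an algebraically closed field of characteristic
zero; this row takes any finite family of such curves with connected union in any k-scheme X, k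
algebraically closed, and k-rational points.) -/
theorem result (k : Type u) [Field k]
    [IsAlgClosed k] (X : Scheme.{u}) [DecidableEq ↥X] (p : X ⟶ Spec (CommRingCat.of k)) (n : ℕ)
    (C : Fin n → Scheme.{u}) (q : (i : Fin n) → (C i ⟶ Spec (CommRingCat.of k)))
    (ι : (i : Fin n) → (C i ⟶ X)) (hι : ∀ i, IsClosedImmersion (ι i)) (hq : ∀ i, ι i ≫ p = q i)
    (hs : ∀ i, Smooth (q i)) (hpr : ∀ i, Neron.IsProjectiveOver k (Over.mk (q i)))
    (hint : ∀ i, IsIntegral (C i)) (hd : ∀ i, topologicalKrullDim ↥(C i) = 1)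
    (hconn : _root_.IsConnected (⋃ i, Set.range ⇑(ι i)))
    (P Q : Spec (CommRingCat.of k) ⟶ X) (hP : P ≫ p = 𝟙 _) (hQ : Q ≫ p = 𝟙 _)
    (hPC : P (IsLocalRing.closedPoint k) ∈ ⋃ i, Set.range ⇑(ι i))
    (hQC : Q (IsLocalRing.closedPoint k) ∈ ⋃ i, Set.range ⇑(ι i)) :
    AlgEqCyc.IsAlgEquiv p (Function.locallyFinsuppWithin.single (P (IsLocalRing.closedPoint k)) (1 : ℤ))
      (Function.locallyFinsuppWithin.single (Q (IsLocalRing.closedPoint k)) (1 : ℤ)) := by
  classical
  haveI := hι
  haveI := hint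
  haveI : ∀ i, IsProper (q i) := fun i =>
    Groth.Agent.ProjProper.Basic.isProper_of_isProjectiveOver k (Over.mk (q i)) (hpr i)
  obtain ⟨iP, hiP⟩ := Set.mem_iUnion.1 hPC
  obtain ⟨tP, htP, hPι⟩ := Groth.Agent.AlgEqCurve47.exists_lift (ι iP) (hq iP) P hP hiP
  let y₀ := P (IsLocalRing.closedPoint k)
  let G : Fin n → Prop := fun i => ∀ t : Spec (CommRingCat.of k) ⟶ C i, t ≫ q i = 𝟙 _ →
    AlgEqCyc.IsAlgEquiv p (Function.locallyFinsuppWithin.single y₀ (1 : ℤ))
      (Function.locallyFinsuppWithin.single (ι i (t (IsLocalRing.closedPoint k))) (1 : ℤ))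
  have trans' : ∀ {a b c : AlgebraicCycle X ℤ}, AlgEqCyc.IsAlgEquiv p a b → AlgEqCyc.IsAlgEquiv p b c →
      AlgEqCyc.IsAlgEquiv p a c := fun {a b c} hab hbc => by
    have := add_mem hab hbc
    rwa [sub_add_sub_cancel] at this
  have same : ∀ i (t₁ t₂ : Spec (CommRingCat.of k) ⟶ C i), t₁ ≫ q i = 𝟙 _ → t₂ ≫ q i = 𝟙 _ →
      AlgEqCyc.IsAlgEquiv p
        (Function.locallyFinsuppWithin.single (ι i (t₁ (IsLocalRing.closedPoint k))) (1 : ℤ))
        (Function.locallyFinsuppWithin.single (ι i (t₂ (IsLocalRing.closedPoint k))) (1 : ℤ)) := fun i =>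
    Groth.Agent.AlgEqCurve47.isAlgEquiv_of_curve p (q i) (hs i) (hpr i) (hint i) (hd i) (ι i) (hq i)
  -- meeting curves
  have meet : ∀ i j, (Set.range (ι i) ∩ Set.range (ι j)).Nonempty → G i → G j := by
    rintro i j ⟨y, ⟨a, ha⟩, hyj⟩ hGi t ht
    haveI : JacobsonSpace (C i) := LocallyOfFiniteType.jacobsonSpace (q i)
    obtain ⟨c, hcj, hcc⟩ := nonempty_inter_closedPoints (Z := ι i ⁻¹' Set.range (ι j))
      ⟨a, show ι i a ∈ Set.range (ι j) from ha ▸ hyj⟩
      (((ι j).isClosedEmbedding.isClosed_range).preimage (ι i).continuous).isLocallyClosed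
    let T := (pointEquivClosedPoint (q i)).symm ⟨c, hcc⟩
    have hTc : T.1 (IsLocalRing.closedPoint k) = c :=
      congrArg Subtype.val ((pointEquivClosedPoint (q i)).apply_symm_apply ⟨c, hcc⟩)
    obtain ⟨T', hT', hTT'⟩ := Groth.Agent.AlgEqCurve47.exists_lift (ι j) (hq j) (T.1 ≫ ι i)
      (by rw [Category.assoc, hq i]; exact T.2) (by rw [Scheme.Hom.comp_apply, hTc]; exact hcj)
    have hpt : ι i (T.1 (IsLocalRing.closedPoint k)) = ι j (T' (IsLocalRing.closedPoint k)) := by
      rw [← Scheme.Hom.comp_apply, ← Scheme.Hom.comp_apply, hTT']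
    exact trans' (hpt ▸ hGi T.1 T.2) (same j T' t hT' ht)
  have hGP : G iP := fun t ht => by
    have : y₀ = ι iP (tP (IsLocalRing.closedPoint k)) := by
      rw [← Scheme.Hom.comp_apply, hPι]
    rw [this]
    exact same iP tP t htP ht
  have hall : ∀ j, G j := by
    intro j
    by_contra hj
    have hclosed : ∀ S : Set (Fin n), IsClosed (⋃ i ∈ S, Set.range (ι i)) := fun S =>
      S.toFinite.isClosed_biUnion fun i _ => (ι i).isClosedEmbedding.isClosed_range
    obtain ⟨z, hz⟩ := (isPreconnected_closed_iff.1 hconn.isPreconnected)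
      (⋃ i ∈ {i | G i}, Set.range (ι i)) (⋃ i ∈ {i | ¬ G i}, Set.range (ι i)) (hclosed _) (hclosed _)
      (fun z hz => by
        obtain ⟨i, hi⟩ := Set.mem_iUnion.1 hz
        by_cases h : G i
        · exact Or.inl (Set.mem_biUnion h hi)
        · exact Or.inr (Set.mem_biUnion h hi))
      ⟨y₀, hPC, Set.mem_biUnion (show iP ∈ {i | G i} from hGP) hiP⟩
      (by
        obtain ⟨c⟩ : Nonempty (C j) := inferInstance
        exact ⟨ι j c, Set.mem_iUnion.2 ⟨j, c, rfl⟩, Set.mem_biUnion (show j ∈ {i | ¬ G i} from hj) ⟨c, rfl⟩⟩)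
    obtain ⟨i, hi, hzi⟩ := Set.mem_iUnion₂.1 hz.2.1
    obtain ⟨i', hi', hzi'⟩ := Set.mem_iUnion₂.1 hz.2.2
    exact hi' (meet i i' ⟨z, hzi, hzi'⟩ hi)
  obtain ⟨iQ, hiQ⟩ := Set.mem_iUnion.1 hQC
  obtain ⟨tQ, htQ, hQι⟩ := Groth.Agent.AlgEqCurve47.exists_lift (ι iQ) (hq iQ) Q hQ hiQ
  have hQpt : Q (IsLocalRing.closedPoint k) = ι iQ (tQ (IsLocalRing.closedPoint k)) := by
    rw [← Scheme.Hom.comp_apply, hQι]
  rw [hQpt]
  exact hall iQ tQ htQ

end Groth.Agent.S15439
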