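import Groth.Statements.S2344
import Groth.Agent.CurveExt.Basic
import Groth.Agent.VarDim.Curve

set_option autoImplicit false
universe u
open CategoryTheory CategoryTheory.Limits AlgebraicGeometry
open EGA2

namespace Groth.Agent.S2344

/-- Let X be a normal algebraic curve over k (separated, of finite type, nonempty, local rings at closed
points of dimension one, all local rings integrally closed domains), Y proper over k, U a dense open
of X and g : U → Y a k-morphism. Then g extends uniquely to a k-morphism X → Y. -/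
theorem result (k : Type u) [Field k] (X Y : Scheme.{u}) [X.Over (Spec (CommRingCat.of k))] [Y.Over (Spec (CommRingCat.of k))]
    [LocallyOfFiniteType (X ↘ (Spec (CommRingCat.of k)))] [QuasiCompact (X ↘ (Spec (CommRingCat.of k)))] [IsSeparated (X ↘ (Spec (CommRingCat.of k)))] [Nonempty X] (hcurve : (∀ x : X, IsClosed ({x} : Set X) → ringKrullDim (X.presheaf.stalk x) = 1)) (hnorm : Pi1.IsNormalScheme X)
    [IsProper (Y ↘ (Spec (CommRingCat.of k)))] (U : X.Opens) (hU : Dense (U : Set X)) (g : (U : Scheme.{u}) ⟶ Y)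
    (hg : g ≫ (Y ↘ (Spec (CommRingCat.of k))) = U.ι ≫ (X ↘ (Spec (CommRingCat.of k)))) :
    ∃! g' : X ⟶ Y, U.ι ≫ g' = g ∧ g' ≫ (Y ↘ (Spec (CommRingCat.of k))) = X ↘ (Spec (CommRingCat.of k)) := by
  set pX := X ↘ Spec (CommRingCat.of k)
  set pY := Y ↘ Spec (CommRingCat.of k)
  have : IsLocallyNoetherian X := LocallyOfFiniteType.isLocallyNoetherian pX
  have : ∀ x : X, _root_.IsReduced (X.presheaf.stalk x) := fun x ↦ by
    have := (hnorm x).1; infer_instance
  have : IsReduced X := isReduced_of_isReduced_stalk X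
  have : CompactSpace X := QuasiCompact.compactSpace_of_compactSpace pX
  obtain ⟨W, hUW, w, hP, hw, hres⟩ := CurveExt.exists_glue_extensions pX pY hU g hg
    {x : X | IsClosed ({x} : Set X)} fun x hx ↦ by
    have := (hnorm x).1
    have := (hnorm x).2
    have := VarDim.isDiscreteValuationRing_of_ringKrullDim_eq_one (X.presheaf.stalk x) (hcurve x hx)
    refine CurveExt.exists_extend_at pX pY hU g hg x fun i hi _ ↦ ?_
    have hex : ValuativeCriterion.Existence pY := by
      have h := (inferInstance : UniversallyClosed pY)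
      rw [UniversallyClosed.eq_valuativeCriterion] at h
      exact h.1
    let S : ValuativeCommSq pY :=
      { R := X.presheaf.stalk x
        domain := (hnorm x).1
        valuationRing := inferInstanceAs (ValuationRing (X.presheaf.stalk x))
        K := FractionRing (X.presheaf.stalk x)
        i₁ := i
        i₂ := X.fromSpecStalk x ≫ pX
        commSq := ⟨hi⟩ }
    obtain ⟨l, hl₁, hl₂⟩ := (hex S).exists_lift
    exact ⟨(l : Spec (CommRingCat.of (X.presheaf.stalk x)) ⟶ Y), hl₂, hl₁⟩
  have htop : W = ⊤ := by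
    by_contra hne
    obtain ⟨x, hx, hxc⟩ := IsClosed.exists_closed_singleton (S := ((W : Set X))ᶜ) W.2.isClosed_compl
      (Set.nonempty_compl.mpr fun h ↦ hne (TopologicalSpace.Opens.coe_eq_univ.mp h))
    exact hx (hP x hxc)
  subst htop
  refine ⟨X.topIso.inv ≫ w, ⟨?_, ?_⟩, ?_⟩
  · rw [← hres, ← Category.assoc]
    congr 1
    rw [← cancel_mono (⊤ : X.Opens).ι, Category.assoc, Scheme.homOfLE_ι, ← Scheme.topIso_hom,
      Iso.inv_hom_id, Category.comp_id]
  · rw [Category.assoc, hw, ← Scheme.topIso_hom, Iso.inv_hom_id_assoc]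
  · rintro g' ⟨h1, h2⟩
    have : (⊤ : X.Opens).ι ≫ g' = w := by
      refine CurveExt.ext_of_dense pY hU ?_ ?_
      · rw [Category.assoc, h2, hw]
      · have e1 : X.homOfLE (inf_le_right : U ⊓ ⊤ ≤ ⊤) ≫ w =
            X.homOfLE (inf_le_left : U ⊓ ⊤ ≤ U) ≫ g := by
          rw [← hres, Scheme.homOfLE_homOfLE_assoc]
        rw [e1, ← h1, Scheme.homOfLE_ι_assoc, Scheme.homOfLE_ι_assoc]
    rw [← this, ← Scheme.topIso_hom, Iso.inv_hom_id_assoc]

end Groth.Agent.S2344
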