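import Groth.Statements.S15440
import Groth.Agent.SquareRel51.GraphCycle
import Groth.Agent.S2344
import Groth.Agent.CycLib.DevDeg
import Groth.Agent.Weil.Geometry
import Groth.Agent.CurveCoh.Integral
import Groth.Agent.ProjProper.Basic
-- import your own Groth.Agent.* helpers here

set_option autoImplicit false
set_option backward.isDefEq.respectTransparency.types false
universe u
open AlgEqCyc

namespace Groth.Agent.S15440

open CategoryTheory AlgebraicGeometry
open CategoryTheory.MonoidalCategory CategoryTheory.CartesianMonoidalCategory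
open Groth.Agent
open scoped Classical

theorem residueDegree_eq_one {k : Type u} [Field k] [IsAlgClosed k] {X : Scheme.{u}}
    (p : X ⟶ Spec (CommRingCat.of k)) [LocallyOfFiniteType p] (x : X) (hx : IsClosed ({x} : Set X)) :
    p.residueDegree x = 1 := by
  let a : Spec (CommRingCat.of k) := IsLocalRing.closedPoint k
  have h : (pointOfClosedPoint p x hx ≫ p).residueDegree a = 1 := by
    rw [pointOfClosedPoint_comp]; exact Scheme.Hom.residueDegree_id _
  rw [Weil.residueDegree_comp] at h
  have := Nat.eq_one_of_mul_eq_one_right h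
  rwa [pointOfClosedPoint_apply] at this

open AlgebraicGeometry CategoryTheory CategoryTheory.Limits in
/-- Let k be an algebraically closed field of characteristic zero and X a connected scheme, smooth and
projective over k, with structure morphism p; let δ be the weight function on X induced from weight
0 on the point Spec k and let α be a zero-cycle on X for δ whose degree over k is zero. Then α is
algebraically equivalent to zero on X. (This is one inclusion of the published statement, which
asserts that on such an X the zero-cycles of degree zero, identified there with the homologically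
trivial ones for a fixed Weil cohomology, are exactly the algebraically trivial zero-cycles; the
reverse inclusion is not stated here.) -/
theorem result (k : Type u) [Field k]
    [IsAlgClosed k] [CharZero k] (X : Scheme.{u}) (p : X ⟶ Spec (CommRingCat.of k)) [QuasiCompact p]
    (hs : Smooth p) (hp : Neron.IsProjectiveOver k (Over.mk p)) (hc : ConnectedSpace ↥X)
    (δ : ↥X → ℤ) (hδ : Cyc.DeltaCompat p δ (fun _ => 0)) (α : AlgebraicCycle X ℤ)
    (hα : α ∈ Cyc.Zk X δ 0) (hdeg : ChowOps.deg p δ α = 0) :
    AlgEqCyc.IsAlgEquivZero p α := by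
  haveI := hs
  haveI := hc
  haveI : IsProper p := ProjProper.Basic.isProper_of_isProjectiveOver k (Over.mk p) hp
  letI : X.Over (Spec (CommRingCat.of k)) := ⟨p⟩
  haveI : Smooth (X ↘ Spec (CommRingCat.of k)) := hs
  haveI : IsProper (X ↘ Spec (CommRingCat.of k)) := ‹IsProper p›
  haveI : IsLocallyNoetherian X := LocallyOfFiniteType.isLocallyNoetherian p
  haveI : CompactSpace X := QuasiCompact.compactSpace_of_compactSpace p
  haveI : IsNoetherian X := { }
  haveI := CurveCoh.irreducibleSpace_of_domain_stalks X (CurveCoh.isDomain_stalk k X)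
  haveI : ∀ x : X, _root_.IsReduced (X.presheaf.stalk x) := fun x =>
    haveI := CurveCoh.isDomain_stalk k X x
    inferInstance
  haveI : IsReduced X := isReduced_of_isReduced_stalk X
  haveI : IsIntegral X := isIntegral_of_irreducibleSpace_of_isReduced X
  let X' : Over (Spec (CommRingCat.of k)) := Over.mk p
  haveI : LocallyOfFiniteType X'.hom := inferInstanceAs (LocallyOfFiniteType p)
  haveI : IsIntegral X'.left := inferInstanceAs (IsIntegral X)
  let pc : Spec (CommRingCat.of k) := IsLocalRing.closedPoint k
  let E : (𝟙_ (Over (Spec (CommRingCat.of k))) ⟶ X') → (𝟙_ (Over (Spec (CommRingCat.of k))) ⟶ X') → Prop :=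
    fun a b => (Function.locallyFinsuppWithin.single (X := X) (a.left pc) (1 : ℤ) -
      Function.locallyFinsuppWithin.single (X := X) (b.left pc) (1 : ℤ) : AlgebraicCycle X ℤ) ∈ AlgEqCyc.algTriv p
  have hE : Equivalence E := ⟨fun a => by simp [E], fun h => by
    simpa [E] using (AlgEqCyc.algTriv p).neg_mem h, fun h h' => by
    simpa [E] using (AlgEqCyc.algTriv p).add_mem h h'⟩
  have hrel : ∀ a b, E a b := by
    refine SquareRel51.Curve.related E hE ?_
    rintro a b ⟨C, Co, j, g, c, c', hCs, hCp, hCi, hj, rfl, rfl, hd, n, i, hi, hiw⟩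
    haveI := hCs
    haveI := hCi
    haveI := hCp
    haveI := hj
    letI : C.left.Over (Spec (CommRingCat.of k)) := ⟨C.hom⟩
    haveI : Smooth (C.left ↘ Spec (CommRingCat.of k)) := hCs
    haveI : IsProper (C.left ↘ Spec (CommRingCat.of k)) := hCp
    have hdvr : ∀ z : C.left, IsClosed ({z} : Set C.left) → ringKrullDim (C.left.presheaf.stalk z) = 1 := by
      intro z hz
      haveI := CurveDVR.isDiscreteValuationRing_stalk (C.left ↘ Spec (CommRingCat.of k)) hd hz
      exact IsDiscreteValuationRing.ringKrullDim_eq_one _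
    have hnorm : Pi1.IsNormalScheme C.left := fun z => by
      haveI := CurveCoh.isDomain_stalk k C.left z
      haveI := SquareRel51.ufd_stalk C.hom z
      exact ⟨inferInstance, inferInstance⟩
    let U := j.left.opensRange
    let e := j.left.isoOpensRange
    have hne : (U : Set C.left).Nonempty := ⟨_, ⟨c.left pc, rfl⟩⟩
    have hw : (e.inv ≫ g.left) ≫ (X ↘ Spec (CommRingCat.of k)) = U.ι ≫ (C.left ↘ Spec (CommRingCat.of k)) := by
      show (e.inv ≫ g.left) ≫ X'.hom = U.ι ≫ C.hom
      rw [Category.assoc, Over.w g, Iso.inv_comp_eq, ← Category.assoc, j.left.isoOpensRange_hom_ι, Over.w j]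
    obtain ⟨G, ⟨hG, hGw⟩, -⟩ := S2344.result k C.left X hdvr hnorm U (U.2.dense hne) (e.inv ≫ g.left) hw
    have hGj : j.left ≫ G = g.left := by
      rw [← j.left.isoOpensRange_hom_ι, Category.assoc, hG, ← Category.assoc, Iso.hom_inv_id, Category.id_comp]
    have h := SquareRel51.GraphCycle.isElemAlgTriv p C.hom hd ⟨n, i, hi, hiw⟩ G hGw (c.left ≫ j.left)
      (c'.left ≫ j.left) (Over.w (c ≫ j)) (Over.w (c' ≫ j))
    refine AddSubgroup.subset_closure ?_
    have e1 : G ((c.left ≫ j.left) pc) = (c ≫ g).left pc := by
      rw [← Scheme.Hom.comp_apply, Category.assoc, hGj]; rfl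
    have e2 : G ((c'.left ≫ j.left) pc) = (c' ≫ g).left pc := by
      rw [← Scheme.Hom.comp_apply, Category.assoc, hGj]; rfl
    rw [← e1, ← e2]
    exact h
  -- the support
  haveI : JacobsonSpace ↥X := LocallyOfFiniteType.jacobsonSpace p
  have hfin : (Function.support (α : X → ℤ)).Finite := by
    have := α.locallyFiniteSupport.finite_inter_support_of_isCompact (isCompact_univ (X := X))
    simpa using this
  have hcl : ∀ x : X, α x ≠ 0 → δ x = 0 ∧ IsClosed ({x} : Set X) := fun x hx => by
    have h0 : δ x = 0 := not_not.mp fun h => hx (hα x h)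
    exact ⟨h0, CycLib.Dev.isClosed_of_delta_eq_zero k hδ h0⟩
  have hsum : ∑ x ∈ hfin.toFinset, α x = 0 := by
    rw [← hdeg]
    show _ = ∑ᶠ x ∈ p ⁻¹' {pc}, α x * ((AlgebraicCycle.mapCoeff p δ (fun _ => (0 : ℤ)) x : ℕ) : ℤ)
    have hpre : p ⁻¹' {pc} = Set.univ :=
      Set.eq_univ_of_forall fun z => (inferInstance : Subsingleton (PrimeSpectrum k)).elim (p z) _
    rw [hpre, finsum_mem_univ, finsum_eq_sum_of_support_subset _ (s := hfin.toFinset) (fun x hx => by
      simp only [Set.Finite.coe_toFinset, Function.mem_support]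
      exact fun h0 => hx (by simp [h0]))]
    refine Finset.sum_congr rfl fun x hx => ?_
    obtain ⟨h0, hxc⟩ := hcl x ((Set.Finite.mem_toFinset hfin).mp hx)
    rw [AlgebraicCycle.mapCoeff, if_pos h0, residueDegree_eq_one p x hxc, Nat.cast_one, mul_one]
  obtain ⟨x₀, -, hx₀⟩ := nonempty_inter_closedPoints (X := X) (Z := Set.univ) Set.univ_nonempty
    isOpen_univ.isLocallyClosed
  have hdec : α = ∑ x ∈ hfin.toFinset, α x • (Function.locallyFinsuppWithin.single (X := X) x (1 : ℤ) -
      Function.locallyFinsuppWithin.single (X := X) x₀ (1 : ℤ) : AlgebraicCycle X ℤ) := by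
    simp only [smul_sub, Finset.sum_sub_distrib, ← Finset.sum_smul, hsum, zero_smul, sub_zero]
    ext z
    rw [Function.locallyFinsuppWithin.coe_sum, Finset.sum_apply]
    simp only [Function.locallyFinsuppWithin.coe_zsmul, Pi.smul_apply, Function.locallyFinsuppWithin.single_apply,
      smul_eq_mul, mul_ite, mul_one, mul_zero, Finset.sum_ite_eq, Set.Finite.mem_toFinset, Function.mem_support]
    split_ifs with h
    · rfl
    · exact not_not.mp h
  rw [AlgEqCyc.IsAlgEquivZero, hdec]
  refine sum_mem fun x hx => zsmul_mem ?_ _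
  obtain ⟨a, ha⟩ := AbRigid.Product.exists_point (X := X') x (hcl x ((Set.Finite.mem_toFinset hfin).mp hx)).2
  obtain ⟨b, hb⟩ := AbRigid.Product.exists_point (X := X') x₀ hx₀
  have h := hrel a b
  simp only [E] at h
  rw [← ha, ← hb]
  exact h

end Groth.Agent.S15440
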