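import Groth.Statements.S15441
import Groth.Agent.Weil.Cycle

set_option autoImplicit false
universe u v
open WeilCoh

namespace Groth.Agent.S15441

open AlgebraicGeometry CategoryTheory in
/-- Let k be an algebraically closed field of characteristic zero, K a field of characteristic zero and
T a Weil cohomology theory over k with coefficients in K, defined on connected smooth projective
varieties over k; let X be such a variety, δ the weight function on X induced from weight 0 on the
point Spec k, and α a zero-cycle on X for δ. Then α is homologically equivalent to zero for T, i.e.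
its cycle class in the cohomology of X vanishes, if and only if the degree of α over k is zero. -/
theorem result (k : Type u) [Field k] [IsAlgClosed k]
    [CharZero k] (K : Type v) [Field K] [CharZero K] (T : WeilCoh.Theory k K) (X : WeilCoh.Var k)
    [QuasiCompact X.obj.hom] (δ : ↥X.obj.left → ℤ) (hδ : Cyc.DeltaCompat X.obj.hom δ (fun _ => 0))
    (α : AlgebraicCycle X.obj.left ℤ) (hα : α ∈ Cyc.Zk X.obj.left δ 0) :
    T.IsHomEquivZero X α ↔ ChowOps.deg X.obj.hom δ α = 0 := by
  rw [← Int.cast_inj (α := K), Weil.cast_deg T hδ α hα, Int.cast_zero]
  exact ⟨fun h => by rw [show T.clCyc X α = 0 from h, map_zero],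
    fun h => Weil.eq_of_tr_eq T (Weil.clCyc_mem_top T hδ hα) (zero_mem _) (h.trans (map_zero _).symm)⟩

end Groth.Agent.S15441
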