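import Groth.Statements.S1546
import Groth.Agent.VarBC.Irred
-- import your own Groth.Agent.* helpers here

set_option autoImplicit false
universe u
open CategoryTheory CategoryTheory.Limits AlgebraicGeometry
open Variety

namespace Groth.Agent.S1546

open Groth.Agent.VarBC Groth.Agent.FBase.BC Groth.Agent.FBase.BC2

/-- For a field extension K of k and a scheme X over k, the image in X of an irreducible component of
X_K is an irreducible component of X, and every irreducible component of X is such an image. -/
theorem result (k : Type u) [Field k] (X : Scheme.{u}) [X.Over (Spec (CommRingCat.of k))] (K : Type u) [Field K] [Algebra k K] :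
    (∀ T ∈ irreducibleComponents (Curv2.bc k X K : Type u), (Curv2.bcFst k X K).base '' T ∈ irreducibleComponents (X : Type u)) ∧
    (∀ Z ∈ irreducibleComponents (X : Type u), ∃ T ∈ irreducibleComponents (Curv2.bc k X K : Type u), (Curv2.bcFst k X K).base '' T = Z) := by
  let f := X ↘ Spec (CommRingCat.of k)
  refine ⟨fun T hT ↦ ?_, fun Z hZ ↦ ?_⟩
  · obtain ⟨w, hw⟩ : ∃ w, IsGenericPoint w T :=
      QuasiSober.sober hT.1 (isClosed_of_mem_irreducibleComponents T hT)
    obtain ⟨h1, h2⟩ := image_component f hT hw
    exact h1 ▸ h2
  · obtain ⟨η, hη⟩ : ∃ η, IsGenericPoint η Z :=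
      QuasiSober.sober hZ.1 (isClosed_of_mem_irreducibleComponents Z hZ)
    obtain ⟨T, w, hT, hw, hwη⟩ := exists_component_over f (K := K) hZ hη
    exact ⟨T, hT, (image_component f hT hw).1.trans (by rw [hwη]; exact hη.def)⟩

end Groth.Agent.S1546
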