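import Groth.Statements.S15465
import Mathlib
-- import your own Groth.Agent.* helpers here

set_option autoImplicit false
universe v u
open HomAlg

namespace Groth.Agent.S15465

open CategoryTheory

open CategoryTheory CategoryTheory.Limits in
/-- In an abelian category let 0 → A₂ → B₂ → C₂ → 0 (maps i₂, π₂), 0 → A₁ → A₂ → A₃ → 0 (maps i₁, p₁)
and 0 → C₁ → C₂ → C₃ → 0 (maps j, q) be short exact sequences, let α = i₁ ≫ i₂ : A₁ → B₂ and β = π₂
≫ q : B₂ → C₃, and let K = ker β / im α be the homology object of the complex A₁ → B₂ → C₃. Let f :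
A₃ → K be the map induced by i₂ (the unique map whose composite with p₁ is the homology class of the
cycle i₂) and g : K → C₁ the map induced by π₂ (the unique map whose composite with j is the map K →
C₂ induced by π₂). Then 0 → A₃ → K → C₁ → 0, with maps f and g, is a short exact sequence. (The
hypotheses w, h₂, h₃ are consequences of i₂ ≫ π₂ = 0, carried so that the maps can be named; the
published statement assumes in addition that the category has enough injective objects, which plays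
no role in this assertion.) -/
theorem result
    {C : Type u} [Category.{v} C] [Abelian C] {A₁ A₂ A₃ B₂ C₁ C₂ C₃ : C}
    (i₁ : A₁ ⟶ A₂) (p₁ : A₂ ⟶ A₃) (wA : i₁ ≫ p₁ = 0) (hA : (ShortComplex.mk i₁ p₁ wA).ShortExact)
    (i₂ : A₂ ⟶ B₂) (π₂ : B₂ ⟶ C₂) (wB : i₂ ≫ π₂ = 0) (hB : (ShortComplex.mk i₂ π₂ wB).ShortExact)
    (j : C₁ ⟶ C₂) (q : C₂ ⟶ C₃) (wC : j ≫ q = 0) (hC : (ShortComplex.mk j q wC).ShortExact)
    (w : (i₁ ≫ i₂) ≫ (π₂ ≫ q) = 0) (h₂ : i₂ ≫ (π₂ ≫ q) = 0) (h₃ : (i₁ ≫ i₂) ≫ π₂ = 0)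
    (f : A₃ ⟶ (CategoryTheory.ShortComplex.mk (i₁ ≫ i₂) (π₂ ≫ q) w).homology)
    (g : (CategoryTheory.ShortComplex.mk (i₁ ≫ i₂) (π₂ ≫ q) w).homology ⟶ C₁)
    (hf : p₁ ≫ f = (CategoryTheory.ShortComplex.mk (i₁ ≫ i₂) (π₂ ≫ q) w).liftCycles i₂ h₂ ≫ (CategoryTheory.ShortComplex.mk (i₁ ≫ i₂) (π₂ ≫ q) w).homologyπ)
    (hg : g ≫ j = (CategoryTheory.ShortComplex.mk (i₁ ≫ i₂) (π₂ ≫ q) w).homologyι ≫ (CategoryTheory.ShortComplex.mk (i₁ ≫ i₂) (π₂ ≫ q) w).descOpcycles π₂ h₃) :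
    ∃ wfg : f ≫ g = 0, (ShortComplex.mk f g wfg).ShortExact := by
  let S := ShortComplex.mk (i₁ ≫ i₂) (π₂ ≫ q) w
  have hf : p₁ ≫ f = S.liftCycles i₂ h₂ ≫ S.homologyπ := hf
  have hg : g ≫ j = S.homologyι ≫ S.descOpcycles π₂ h₃ := hg
  have : Mono j := hC.mono_f
  have : Mono i₂ := hB.mono_f
  have : Mono i₁ := hA.mono_f
  have : Epi p₁ := hA.epi_g
  have : Epi π₂ := hB.epi_g
  have hπg : S.homologyπ ≫ g ≫ j = S.iCycles ≫ π₂ := by
    rw [hg, S.homology_π_ι_assoc]
    exact congrArg (S.iCycles ≫ ·) (S.p_descOpcycles π₂ h₃)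
  have wfg : f ≫ g = 0 := by
    rw [← cancel_epi p₁, comp_zero, ← cancel_mono j, zero_comp, reassoc_of% hf, Category.assoc, Category.assoc, hπg,
      S.liftCycles_i_assoc, wB]
  refine ⟨wfg, ?_⟩
  have hmono : Mono f := by
    rw [Preadditive.mono_iff_cancel_zero]
    intro Z x hx
    obtain ⟨A₁', π₁, _, x₁, hx₁⟩ := surjective_up_to_refinements_of_epi p₁ x
    have h0 : (x₁ ≫ S.liftCycles i₂ h₂) ≫ S.homologyπ = 0 := by
      rw [Category.assoc, ← hf, ← reassoc_of% hx₁, hx, comp_zero]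
    obtain ⟨A₂', π₂', _, a, ha⟩ := (ShortComplex.exact_of_g_is_cokernel
      (ShortComplex.mk S.toCycles S.homologyπ S.toCycles_comp_homologyπ)
      S.homologyIsCokernel).exact_up_to_refinements _ h0
    simp only at ha
    have h1 := congrArg (· ≫ S.iCycles) ha
    simp only [Category.assoc, S.liftCycles_i, S.toCycles_i] at h1
    have h2 : π₂' ≫ x₁ = a ≫ i₁ := by
      rw [← cancel_mono i₂, Category.assoc, Category.assoc]
      exact h1
    rw [← cancel_epi π₁, comp_zero, hx₁, ← cancel_epi π₂', comp_zero, reassoc_of% h2, wA, comp_zero]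
  have hepi : Epi g := by
    rw [epi_iff_surjective_up_to_refinements]
    intro Z c
    obtain ⟨A₁', π₁, _, b, hb⟩ := surjective_up_to_refinements_of_epi π₂ (c ≫ j)
    have hb0 : b ≫ π₂ ≫ q = 0 := by
      rw [← reassoc_of% hb]; simp [wC]
    refine ⟨A₁', π₁, inferInstance, S.liftCycles b hb0 ≫ S.homologyπ, ?_⟩
    rw [← cancel_mono j, Category.assoc, hb]
    simp only [Category.assoc]
    rw [hπg, S.liftCycles_i_assoc]
  refine { exact := ?_, mono_f := hmono, epi_g := hepi }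
  rw [ShortComplex.exact_iff_exact_up_to_refinements]
  intro Z y hy
  simp only at hy ⊢
  obtain ⟨A₁', π₁, _, z, hz⟩ := surjective_up_to_refinements_of_epi S.homologyπ y
  have h0 : (z ≫ S.iCycles) ≫ π₂ = 0 := by
    rw [Category.assoc, ← hπg, ← reassoc_of% hz, reassoc_of% hy]
    simp
  obtain ⟨A₂', π₂', _, a, ha⟩ := hB.exact.exact_up_to_refinements _ h0
  simp only at ha
  refine ⟨A₂', π₂' ≫ π₁, epi_comp _ _, a ≫ p₁, ?_⟩
  have h1 : π₂' ≫ z = a ≫ S.liftCycles i₂ h₂ := by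
    rw [← cancel_mono S.iCycles, Category.assoc, Category.assoc, S.liftCycles_i]
    exact ha
  rw [Category.assoc, hz, reassoc_of% h1, Category.assoc, hf]


end Groth.Agent.S15465
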