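import Groth.Statements.S1547
import Groth.Agent.VarBC.Basic
-- import your own Groth.Agent.* helpers here

set_option autoImplicit false
universe u
open CategoryTheory CategoryTheory.Limits AlgebraicGeometry
open Variety

namespace Groth.Agent.S1547

open Groth.Agent.VarBC Groth.Agent.FBase.BC Groth.Agent.FBase.BC2

/-- Let k be a separably closed field, X a scheme over k and K any field extension of k. Then taking
images along the projection X_K → X is injective on irreducible components: two irreducible
components of X_K with the same image in X are equal. (Together with surjectivity on irreducible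
components, stated separately, this gives a bijection of irreducible components.) -/
theorem result (k : Type u) [Field k] (X : Scheme.{u}) [X.Over (Spec (CommRingCat.of k))] [IsSepClosed k] (K : Type u) [Field K] [Algebra k K]
    (T T' : Set (Curv2.bc k X K : Type u)) (hT : T ∈ irreducibleComponents (Curv2.bc k X K : Type u))
    (hT' : T' ∈ irreducibleComponents (Curv2.bc k X K : Type u))
    (h : (Curv2.bcFst k X K).base '' T = (Curv2.bcFst k X K).base '' T') : T = T' := by
  have := geometricallyIrreducible_specMap_of_isSepClosed (k := k) (K := K)
  let p := pullback.fst (X ↘ Spec (CommRingCat.of k)) (specMap k K)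
  have := surjective_pullback_fst (K := K) (X ↘ Spec (CommRingCat.of k))
  have key : ∀ S ∈ irreducibleComponents (Curv2.bc k X K : Type u), S = p ⁻¹' closure (p '' S) := by
    intro S hS
    have h1 : IsIrreducible (closure (p '' S)) := (hS.1.image p p.continuous.continuousOn).closure
    have h2 := h1.preimage_of_isPreirreducible_fiber p p.isOpenMap
      (Groth.Agent.FBase.ConnComp.isPreirreducible_preimage_singleton p)
      (by rw [p.surjective.range_eq, Set.inter_univ]; exact h1.nonempty)
    have h3 : S ⊆ p ⁻¹' closure (p '' S) := fun z hz ↦ subset_closure (Set.mem_image_of_mem p hz)
    exact subset_antisymm h3 (hS.2 h2 h3)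
  rw [key T hT, key T' hT']
  exact congrArg (fun S ↦ p ⁻¹' closure S) h

end Groth.Agent.S1547
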