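import Groth.Statements.S15481
import Groth.Agent.DVRSpace.Local
import Groth.Agent.IsoCls.IsoExt
import Groth.Agent.IsoCls.FpSections
import Groth.Agent.IsoCls.AutLocus
import Groth.Agent.StFib.DescCriteria
import Groth.Agent.StFib.LocQNoeth
import Groth.Agent.StFib.DiagComp
import Groth.Agent.AlgSp.ProperSub

set_option linter.unusedVariables false
set_option backward.isDefEq.respectTransparency false
set_option backward.isDefEq.respectTransparency.types false
-- import your own Groth.Agent.* helpers here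

set_option autoImplicit false
universe u
open CategoryTheory AlgebraicGeometry
open IsoNat

namespace Groth.Agent.S15481

open CategoryTheory.Limits FibCat Groth.Agent.FibC Groth.Agent.StFib Groth.Agent.IsoCls Groth.Agent.DVRSpace

/-- Separatedness and quasi-compactness of a relative diagonal. -/
theorem sepQc_diag {S : Scheme.{u}} {𝒳 𝒴 : AlgSt.Cat S}
    (h𝒳d : AlgSt.RepByAlgSpWith (AlgSp.IsSeparatedMor ⊓ AlgSp.IsQuasiCompactMor)
      (diag (toSelf 𝒳)))
    (h𝒴d : AlgSt.RepByAlgSpWith (AlgSp.IsSeparatedMor ⊓ AlgSp.IsQuasiCompactMor)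
      (diag (toSelf 𝒴))) (f : 𝒳 ⥤ᵇ 𝒴) :
    AlgSt.RepByAlgSpWith (AlgSp.IsSeparatedMor ⊓ AlgSp.IsQuasiCompactMor) (diag f) := by
  obtain ⟨i⟩ := exists_iso_toSelf (BasedFunctor.comp f (toSelf 𝒴))
  refine diag_of_comp_mem (good_separated.inf good_quasiCompact).bc (fun X Y Z hX hY hZ a b hb hab => ?_)
    h𝒴d (repByAlgSpWith_diag_of_iso _ i.symm h𝒳d)
  refine ⟨?_, Groth.Agent.AlgSp.isQuasiCompactMor_of_comp hX hY hZ a b hab.2
    (Groth.Agent.AlgSp.isQuasiSeparatedMor_of_sep hb.1)⟩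
  have hP := Groth.Agent.AlgSp.isAlgSpace_pullback hZ hX hY (a ≫ b) b
  have h1 : AlgSp.RepWith @IsClosedImmersion
      (pullback.lift (𝟙 X) a (by simp) : X ⟶ pullback (a ≫ b) b) :=
    MorphismProperty.of_isPullback (pullback_lift_diagonal_isPullback a b) hb.1
  rw [show a = pullback.lift (𝟙 X) a (by simp) ≫ pullback.snd (a ≫ b) b from
    (pullback.lift_snd _ _ _).symm]
  exact good_separated.comp hX hP hY _ _
    (Groth.Agent.AlgSp.isProperMor_of_isClosedImmersion hP h1).1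
    (good_separated.bc hX hZ hP hY (a ≫ b) b _ (pullback.fst _ _)
      (IsPullback.of_hasPullback _ _) hab.1)

/-- A proper diagonal extends isomorphisms over a discrete valuation ring. -/
theorem isoExt_of_proper {S : Scheme.{u}} {𝒳 𝒴 : AlgSt.Cat S} (h𝒳 : IsFibGrpd 𝒳.p)
    (h𝒴 : IsFibGrpd 𝒴.p) {f : 𝒳 ⥤ᵇ 𝒴} (hf : AlgSt.RepByAlgSpWith AlgSp.IsProperMor (diag f))
    {A₀ : Type u} [CommRing A₀] (u₀ : Spec (CommRingCat.of A₀) ⟶ S) {R : Type u} [CommRing R]
    [IsDomain R] [IsDiscreteValuationRing R] {L : Type u} [Field L] [Algebra R L]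
    [IsFractionRing R L] (φR : A₀ →+* R) (φL : A₀ →+* L) (h : (algebraMap R L).comp φR = φL) :
    IsoExt f (spMap u₀ (algebraMap R L) h) := by
  intro X₁ X₂ γ hγ δ hδ hcond
  let T := sp u₀ φR
  let w' : (overCat T).obj := Over.mk (spMap u₀ (algebraMap R L) h)
  let κ : w' ⟶ overTop T := toTop w'
  have := hγ.isIso h𝒴
  obtain ⟨α, hα⟩ := exists_overIso h𝒴 (BasedFunctor.comp X₁ f) (BasedFunctor.comp X₂ f)
    (asIso γ) hγ
  let t : overCat T ⥤ᵇ fp f f := fpLift X₁ X₂ α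
  obtain ⟨A, e, he, hA⟩ := hf T t
  obtain ⟨au, hau, hnat⟩ := diagDict_of_chart h𝒳 t A e he
  have hδf : f.map δ = (t.obj w').obj.iso.hom := by
    refine grpd_cancel h𝒴 (f.map (X₂.map κ)) ?_ ?_
    · have h1 : f.map (X₁.map κ) ≫ (isoApp α (overTop T)).hom =
          (isoApp α w').hom ≫ f.map (X₂.map κ) := isoApp_naturality α κ
      have hα' : (isoApp α (overTop T)).hom = γ := hα
      rw [hα', ← hcond] at h1
      exact h1
    · obtain ⟨_, h1⟩ := hδ.map f
      obtain ⟨_, h2⟩ := vert_isoApp α w'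
      exact h1.trans h2.symm
  obtain ⟨r, hr⟩ := (hau w').2 ⟨δ, hδ, hδf⟩
  obtain ⟨l, hl, hl'⟩ := exists_section_of_proper u₀ φR φL h A.property _ hA r.1 r.2
  let rT : Sec (AlgSt.spMapOfOver (BasedFunctor.comp e (fpFst t (diag f)))) (overTop T) :=
    ⟨l, hl.trans ((AlgSp.yon S).map_id T).symm⟩
  refine ⟨(au (overTop T) rT).1, (au (overTop T) rT).2.1, ?_⟩
  have h2 := hnat κ rT r hl'.symm
  rw [hr] at h2
  exact h2

/-- Universal closedness of the diagonal on a chart from a locally Noetherian scheme. -/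
theorem univClosed_diag_chart {S : Scheme.{u}} {𝒳 𝒴 𝒳' 𝒴' : AlgSt.Cat S} {f : 𝒳 ⥤ᵇ 𝒴}
    {f' : 𝒳' ⥤ᵇ 𝒴'} (h𝒳 : Stk.IsStack (AlgSp.J S) 𝒳) (h𝒴 : Stk.IsStack (AlgSp.J S) 𝒴)
    (h𝒳' : Stk.IsStack (AlgSp.J S) 𝒳') (h𝒴' : Stk.IsStack (AlgSp.J S) 𝒴')
    (hd : AlgSt.RepByAlgSpWith AlgSp.IsSeparatedMor (diag (toSelf 𝒴')))
    (φ : IsoNat.FIsoSq f f') (hf : AlgSt.RepByAlgSpWith AlgSp.IsProperMor (diag f))
    (hsf : AlgSt.RepByAlgSpWith (AlgSp.IsSeparatedMor ⊓ AlgSp.IsFiniteTypeMor) (diag f'))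
    {W : Over S} [IsLocallyNoetherian W.left] (t : overCat W ⥤ᵇ fp f' f') :
    ∃ (A : AlgSp.Space S) (e : AlgSt.ofSp A.obj ⥤ᵇ fp t (diag f')),
      IsEquivOver e ∧ AlgSp.IsUnivClosedMor
        (AlgSt.spMapOfOver (BasedFunctor.comp e (fpFst t (diag f')))) := by
  obtain ⟨A, e, he, hA⟩ := hsf W t
  obtain ⟨au, hau, hnat⟩ := diagDict_of_chart h𝒳'.1 t A e he
  refine ⟨A, e, he, isUnivClosedMor_of_lift A.property _ hA.1 hA.2 ?_⟩
  intro A₀ _ u₀ l R _ _ _ L _ _ _ φR φL h s hs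
  let j := spMap u₀ (algebraMap R L) h
  obtain ⟨ϖ, hϖ⟩ := IsDiscreteValuationRing.exists_irreducible R
  have : IsLocalization.Away ϖ L := isLocalization_away_uniformizer hϖ
  have : IsOpenImmersion j.left := IsOpenImmersion.of_isLocalization ϖ
  let T := sp u₀ φR
  let g : T ⟶ W := spTo u₀ φR ≫ l
  let wR : (overCat W).obj := (AlgSt.overMap g).obj (overTop T)
  let wL : (overCat W).obj := (AlgSt.overMap g).obj (Over.mk j)
  let κ : wL ⟶ wR := (AlgSt.overMap g).map (toTop (Over.mk j))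
  let tg : overCat T ⥤ᵇ fp f' f' := BasedFunctor.comp (AlgSt.overMap g) t
  let X₁ : overCat T ⥤ᵇ 𝒳' := BasedFunctor.comp tg (fpFst f' f')
  let X₂ : overCat T ⥤ᵇ 𝒳' := BasedFunctor.comp tg (fpSnd f' f')
  have hwL : spTo u₀ φL ≫ l = Over.hom wL := by
    change _ = j ≫ spTo u₀ φR ≫ l
    rw [← Category.assoc, spMap_to]
  let δ := au wL ⟨s, hs.trans (congrArg (AlgSp.yon S).map hwL)⟩
  have hγ : Vert (t.obj wR).obj.iso.hom := vert_of_isHomLift (t.obj wR).property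
  have hw : f'.map (t.map κ).hom.fst ≫ (t.obj wR).obj.iso.hom =
      (t.obj wL).obj.iso.hom ≫ f'.map (t.map κ).hom.snd := (t.map κ).hom.w
  obtain ⟨ε, hε, hεrel⟩ := isoExt_of_fIsoSq h𝒳 h𝒴 h𝒳' h𝒴' φ j
    (isoExt_of_proper h𝒳.1 h𝒴.1 hf u₀ φR φL h) X₁ X₂ (t.obj wR).obj.iso.hom hγ δ.1 δ.2.1
    ((congrArg (· ≫ f'.map (t.map κ).hom.snd) δ.2.2).trans hw.symm)
  have hεf : f'.map ε = (t.obj wR).obj.iso.hom := by
    let Z₁ : overCat T ⥤ᵇ 𝒴' := BasedFunctor.comp X₁ f'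
    have : IsSchemeTheoreticallyDominant (toTop (Over.mk j)).left.left :=
      isSchemeTheoreticallyDominant_specMap (CommRingCat.ofHom (algebraMap R L))
        (IsFractionRing.injective R L)
    refine hom_eq_of_dense h𝒴'.1 (diag_diag_isClosedImm hd) (𝟙 T) _ _
      ((hε.map f').isHomLift (Z₁.w_obj _)) (hγ.isHomLift (Z₁.w_obj _))
      (toTop (Over.mk j)).left (Z₁.map (toTop (Over.mk j))) (map_lift Z₁ _) ?_
    change f'.map (t.map κ).hom.fst ≫ f'.map ε =
      f'.map (t.map κ).hom.fst ≫ (t.obj wR).obj.iso.hom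
    rw [hw, ← δ.2.2, ← Functor.map_comp, ← Functor.map_comp]
    exact congrArg f'.map hεrel.symm
  obtain ⟨r, hr⟩ := (hau wR).2 ⟨ε, hε, hεf⟩
  refine ⟨r.1, r.2.trans (congrArg (AlgSp.yon S).map (Category.id_comp _)), ?_⟩
  let rL : Sec (AlgSt.spMapOfOver (BasedFunctor.comp e (fpFst t (diag f')))) wL :=
    ⟨(AlgSp.yon S).map j ≫ r.1, by
      rw [Category.assoc, r.2, ← Functor.map_comp]
      exact congrArg _ (congrArg (j ≫ ·) (Category.id_comp g))⟩
  have h2 := hnat κ r rL rfl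
  rw [hr] at h2
  refine congrArg Subtype.val ((hau wL).1 (a₁ := rL)
    (a₂ := ⟨s, hs.trans (congrArg (AlgSp.yon S).map hwL)⟩) (Subtype.ext ?_))
  refine grpd_cancel h𝒳'.1 (t.map κ).hom.snd (h2.trans hεrel.symm) ?_
  obtain ⟨_, h3⟩ := (au wL rL).2.1
  obtain ⟨_, h4⟩ := δ.2.1
  exact h3.trans h4.symm

/-- For morphisms locally of finite type to a locally Noetherian algebraic stack, separatedness is
detected by the induced map of presheaves of isomorphism classes. Let f : 𝒳 → 𝒴 and f' : 𝒳' → 𝒴' be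
morphisms of algebraic stacks over a quasi-separated scheme S, locally of finite type, with 𝒴 and 𝒴'
locally Noetherian, and suppose given isomorphisms of the presheaves of isomorphism classes of 𝒳
with 𝒳' and of 𝒴 with 𝒴' under which the induced maps correspond. If the diagonal of f is
(representable by algebraic spaces and) proper, so is that of f'. Here an algebraic stack over a
quasi-separated scheme S means a stack in groupoids for the fppf topology with a smooth surjective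
atlas from a scheme, whose diagonal is representable by separated quasi-compact morphisms of
algebraic spaces and whose inertia is locally of finite presentation over it. (The published
statement assumes local finite type and a locally Noetherian target for f only; this row assumes
them for both morphisms, the hypotheses under which its valuative argument reads separatedness of
either morphism from the presheaves.) -/
theorem result
    (S : Scheme.{u}) [QuasiSeparatedSpace S]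
    (𝒳 𝒴 : AlgSt.Cat S)
    (h𝒳 : AlgSt.IsAlgStack Scheme.fppfPrecoverage 𝒳)
    (h𝒳d : AlgSt.RepByAlgSpWith (AlgSp.IsSeparatedMor ⊓ AlgSp.IsQuasiCompactMor)
      (FibCat.diag (FibCat.toSelf 𝒳)))
    (h𝒳i : AlgSt.RepByAlgSpWith (AlgSp.LocP @LocallyOfFinitePresentation)
      (FibCat.inertiaToBase (FibCat.toSelf 𝒳)))
    (h𝒴 : AlgSt.IsAlgStack Scheme.fppfPrecoverage 𝒴)
    (h𝒴d : AlgSt.RepByAlgSpWith (AlgSp.IsSeparatedMor ⊓ AlgSp.IsQuasiCompactMor)
      (FibCat.diag (FibCat.toSelf 𝒴)))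
    (h𝒴i : AlgSt.RepByAlgSpWith (AlgSp.LocP @LocallyOfFinitePresentation)
      (FibCat.inertiaToBase (FibCat.toSelf 𝒴)))
    (𝒳' 𝒴' : AlgSt.Cat S)
    (h𝒳' : AlgSt.IsAlgStack Scheme.fppfPrecoverage 𝒳')
    (h𝒳'd : AlgSt.RepByAlgSpWith (AlgSp.IsSeparatedMor ⊓ AlgSp.IsQuasiCompactMor)
      (FibCat.diag (FibCat.toSelf 𝒳')))
    (h𝒳'i : AlgSt.RepByAlgSpWith (AlgSp.LocP @LocallyOfFinitePresentation)
      (FibCat.inertiaToBase (FibCat.toSelf 𝒳')))
    (h𝒴' : AlgSt.IsAlgStack Scheme.fppfPrecoverage 𝒴')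
    (h𝒴'd : AlgSt.RepByAlgSpWith (AlgSp.IsSeparatedMor ⊓ AlgSp.IsQuasiCompactMor)
      (FibCat.diag (FibCat.toSelf 𝒴')))
    (h𝒴'i : AlgSt.RepByAlgSpWith (AlgSp.LocP @LocallyOfFinitePresentation)
      (FibCat.inertiaToBase (FibCat.toSelf 𝒴')))
    (f : 𝒳 ⥤ᵇ 𝒴) (f' : 𝒳' ⥤ᵇ 𝒴') (φ : IsoNat.FIsoSq f f')
    (hft : AlgSt.LocQ (AlgSp.LocP @LocallyOfFiniteType) f)
    (hft' : AlgSt.LocQ (AlgSp.LocP @LocallyOfFiniteType) f')
    (hN : AlgSt.SmoothLocally (fun X => IsLocallyNoetherian X) 𝒴)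
    (hN' : AlgSt.SmoothLocally (fun X => IsLocallyNoetherian X) 𝒴')
    (hf : AlgSt.IsSeparatedMor f) :
    AlgSt.IsSeparatedMor f' := by
  have hsX : Stk.IsStack (AlgSp.J S) 𝒳 := h𝒳.isStack
  have hsY : Stk.IsStack (AlgSp.J S) 𝒴 := h𝒴.isStack
  have hsX' : Stk.IsStack (AlgSp.J S) 𝒳' := h𝒳'.isStack
  have hsY' : Stk.IsStack (AlgSp.J S) 𝒴' := h𝒴'.isStack
  have hsq := sepQc_diag h𝒳'd h𝒴'd f'
  have hlft := lft_diag h𝒳' h𝒴' f'
  have hsf : AlgSt.RepByAlgSpWith (AlgSp.IsSeparatedMor ⊓ AlgSp.IsFiniteTypeMor) (diag f') :=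
    fun U y => by
      obtain ⟨A, e, he, h1⟩ := hsq U y
      exact ⟨A, e, he, h1.1, mem_of_rep_chart good_lft.bc good_lft.det hlft y A e he, h1.2⟩
  have hF := isAlgStack_fp h𝒴'.isStack h𝒴'.diag h𝒳' h𝒳' f' f'
  have hFN : AlgSt.SmoothLocally (fun X => IsLocallyNoetherian X) (fp f' f') :=
    smoothLocally_locallyNoetherian_of_lft hF h𝒳'
      (locQ_fpFst (isSmoothLocalST_locP smoothLocalProp_lft) good_lft.bc h𝒳' h𝒴' h𝒳' f' hft')
      (smoothLocally_locallyNoetherian_of_lft h𝒳' h𝒴' hft' hN')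
  have hdY : AlgSt.RepByAlgSpWith AlgSp.IsSeparatedMor (diag (toSelf 𝒴')) :=
    repByAlgSpWith_mono h𝒴'd fun F U m hm => hm.1
  have huc : AlgSt.RepByAlgSpWith AlgSp.IsUnivClosedMor (diag f') := by
    obtain ⟨W, x, hx, hxs⟩ := hF.atlas
    have : IsLocallyNoetherian W.left := hFN W x hx
    refine (repByAlgSpWith_iff_fpFst_cover good_univClosed.bc (isLocalOnBase_univClosed S)
      hF.isStack.1 (isFibGrpd_overCat W) (repByAlgSp1_of_with hsf) (z := x)
      (repByAlgSpWith_mono hx fun F V m hm A B a b k ha hb e =>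
        have : Smooth k.left := hm a b k ha hb e; inferInstance)
      (repByAlgSpWith_mono hx fun F V m hm A B a b k ha hb e =>
        have : Smooth k.left := hm a b k ha hb e; inferInstance) hxs).2 ?_
    obtain ⟨A, e, he, ha⟩ := univClosed_diag_chart hsX hsY hsX' hsY' hdY φ hf hsf x
    obtain ⟨i⟩ := exists_iso_ofSpMap_toOverCat (A := A.obj)
      (BasedFunctor.comp e (fpFst x (diag f')))
    exact (repByAlgSpWith_iff_of_equiv _ e (AlgSt.toOverCat W) he (toOverCat_isEquivOver W) i).2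
      (repByAlgSpWith_ofSpMap good_univClosed.bc A.property (AlgSp.IsAlgSpace.yon_obj W) _ ha)
  intro U y
  obtain ⟨A, e, he, h1, h2⟩ := hsf U y
  exact ⟨A, e, he, h1, h2, mem_of_rep_chart good_univClosed.bc good_univClosed.det huc y A e he⟩


end Groth.Agent.S15481
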