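import Groth.Statements.S15482
import Groth.Agent.StFib.OpenSub
import Groth.Agent.StFib.QC2
import Groth.Agent.StFib.NoethTop
import Groth.Agent.AlgSp.NormQf

set_option autoImplicit false
set_option backward.isDefEq.respectTransparency false
set_option backward.isDefEq.respectTransparency.types false
universe u
open CategoryTheory AlgebraicGeometry
open IsoNat

namespace Groth.Agent.S15482

open Groth.Agent in
theorem exists_open_compact_superset {S : Scheme.{u}} {𝒵 𝒴 : AlgSt.Cat S}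
    (h𝒵 : AlgSt.IsAlgStack Scheme.fppfPrecoverage 𝒵)
    (h𝒴 : AlgSt.IsAlgStack Scheme.fppfPrecoverage 𝒴) (hc : AlgSt.IsQuasiCompact 𝒵)
    (g : 𝒵 ⥤ᵇ 𝒴) : ∃ T : Set (AlgSt.Points 𝒴), IsOpen T ∧ IsCompact T ∧
      Set.range (AlgSt.Points.map g) ⊆ T := by
  have := StFib.compactSpace_points h𝒵 hc
  have hr : IsCompact (Set.range (AlgSt.Points.map g)) :=
    isCompact_range (StFib.continuous_points_map h𝒴 g)
  choose V hVo hVc hxV hVu using fun P : AlgSt.Points 𝒴 =>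
    StFib.exists_open_compact_nhd h𝒴 P Set.univ isOpen_univ trivial
  obtain ⟨I, hI⟩ := hr.elim_finite_subcover V hVo fun P _ => Set.mem_iUnion.2 ⟨P, hxV P⟩
  exact ⟨⋃ i ∈ I, V i, isOpen_biUnion fun i _ => hVo i,
    I.isCompact_biUnion fun i _ => hVc i, hI⟩

open Groth.Agent in
theorem isQuasiCompact_of_openImm {S : Scheme.{u}} {𝒳 𝒴 : AlgSt.Cat S}
    (h𝒳 : AlgSt.IsAlgStack Scheme.fppfPrecoverage 𝒳)
    (h𝒴 : AlgSt.IsAlgStack Scheme.fppfPrecoverage 𝒴) (j : 𝒳 ⥤ᵇ 𝒴) (hj : AlgSt.IsOpenImm j)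
    (hc : IsCompact (Set.range (AlgSt.Points.map j))) : AlgSt.IsQuasiCompact 𝒳 := by
  have hinj : Function.Injective (AlgSt.Points.map j) :=
    StFib.points_map_injective_of_isMono h𝒳.isStack.1 h𝒴.isStack.1 j
      (StFib.repByAlgSpWith_mono hj fun F V m hm => AlgSp.mono_of_repWith
        (fun f hf => (have : IsOpenImmersion f := hf; inferInstance : Mono f)) m hm)
  have ho := StFib.isOpenMap_points_map_rep h𝒳 h𝒴
    (StFib.repByAlgSpWith_mono hj fun F V m hm => AlgSpCov.locP_of_repWith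
      AlgSpCov.etaleLocal_flat (AlgSp.repWith_mono
        (fun g hg => (have : IsOpenImmersion g := hg; inferInstance : Flat g)) hm))
    (StFib.repByAlgSpWith_mono hj fun F V m hm => AlgSpCov.locP_of_repWith
      AlgSpCov.etaleLocal_locallyOfFinitePresentation (AlgSp.repWith_mono
        (fun g hg => (have : IsOpenImmersion g := hg; inferInstance : LocallyOfFinitePresentation g)) hm))
  have he := Topology.IsOpenEmbedding.of_continuous_injective_isOpenMap
    (StFib.continuous_points_map h𝒴 j) hinj ho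
  have : CompactSpace (AlgSt.Points 𝒳) := ⟨by
    rw [he.isInducing.isCompact_iff, Set.image_univ]; exact hc⟩
  exact StFib.isQuasiCompact_of_compactSpace h𝒳

/-- A morphism f : 𝒳 → 𝒴 of algebraic stacks over a quasi-separated scheme S is quasi-compact (its base
change to every quasi-compact algebraic stack is quasi-compact) if and only if for every
quasi-compact algebraic stack 𝒴' and every open immersion j : 𝒴' → 𝒴 (representable by open
immersions of algebraic spaces) the 2-fibre product 𝒴' ×_𝒴 𝒳 is quasi-compact. Here an algebraic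
stack over a quasi-separated scheme S means a stack in groupoids for the fppf topology with a smooth
surjective atlas from a scheme, whose diagonal is representable by separated quasi-compact morphisms
of algebraic spaces and whose inertia is locally of finite presentation over it. -/
theorem result
    (S : Scheme.{u}) [QuasiSeparatedSpace S]
    (𝒳 𝒴 : AlgSt.Cat S)
    (h𝒳 : AlgSt.IsAlgStack Scheme.fppfPrecoverage 𝒳)
    (h𝒳d : AlgSt.RepByAlgSpWith (AlgSp.IsSeparatedMor ⊓ AlgSp.IsQuasiCompactMor)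
      (FibCat.diag (FibCat.toSelf 𝒳)))
    (h𝒳i : AlgSt.RepByAlgSpWith (AlgSp.LocP @LocallyOfFinitePresentation)
      (FibCat.inertiaToBase (FibCat.toSelf 𝒳)))
    (h𝒴 : AlgSt.IsAlgStack Scheme.fppfPrecoverage 𝒴)
    (h𝒴d : AlgSt.RepByAlgSpWith (AlgSp.IsSeparatedMor ⊓ AlgSp.IsQuasiCompactMor)
      (FibCat.diag (FibCat.toSelf 𝒴)))
    (h𝒴i : AlgSt.RepByAlgSpWith (AlgSp.LocP @LocallyOfFinitePresentation)
      (FibCat.inertiaToBase (FibCat.toSelf 𝒴)))
    (f : 𝒳 ⥤ᵇ 𝒴) :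
    AlgSt.IsQuasiCompactMor Scheme.fppfPrecoverage f ↔
      ∀ (𝒴' : AlgSt.Cat S), AlgSt.IsAlgStack Scheme.fppfPrecoverage 𝒴' → AlgSt.IsQuasiCompact 𝒴' →
        ∀ (j : 𝒴' ⥤ᵇ 𝒴), AlgSt.IsOpenImm j → AlgSt.IsQuasiCompact (FibCat.fp j f) := by
  refine ⟨fun h 𝒴' hA hc j _ => h 𝒴' hA hc j, fun h 𝒵 h𝒵 hc g => ?_⟩
  obtain ⟨T, hT, hTc, hgT⟩ := exists_open_compact_superset h𝒵 h𝒴 hc g
  obtain ⟨-, hA, hi⟩ := StFib.isOpenSubstack_ptsProp h𝒴 hT
  let j := AlgSt.subIncl 𝒴 (StFib.ptsProp T)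
  have hgQ : ∀ w, StFib.ptsProp T (g.obj w) := fun w p a => by
    let d : Over.mk p.str ⟶ 𝒵.p.obj w :=
      eqToHom p.lies.symm ≫ 𝒴.p.map a ≫ eqToHom (g.w_obj w)
    obtain ⟨w', ew, b, hb⟩ := StFib.grpd_exists_lift h𝒵.isStack.1 w d
    obtain ⟨χ, -, -⟩ := StFib.grpd_exists_vert_fac h𝒴.isStack.1 (g.map b) a
      (p.lies.trans ((g.w_obj w').trans ew).symm) (by rw [StFib.w_map, hb]; simp [d])
    exact hgT ⟨AlgSt.Points.mk ⟨p.K, p.str, w', ew⟩,
      (AlgSt.Points.sound ⟨p, 𝟙 _, χ.hom, trivial⟩ :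
        AlgSt.Points.mk p = AlgSt.Points.map g (AlgSt.Points.mk ⟨p.K, p.str, w', ew⟩)).symm⟩
  let g' := StFib.subLift g hgQ
  obtain ⟨E, hE, -, -⟩ := StFib.exists_fp_of_cart _ _ _ (StFib.fpLift_self_isEquivOver j f) g'
  have hcY : AlgSt.IsQuasiCompact (AlgSt.fullSub 𝒴 (StFib.ptsProp T)) :=
    isQuasiCompact_of_openImm hA h𝒴 j hi ((StFib.range_subIncl_ptsProp T h𝒴.isStack.1).symm ▸ hTc)
  have hqs : AlgSt.IsQuasiSeparatedOver 𝒴 := StFib.repByAlgSpWith_mono h𝒴d fun F U m hm =>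
    ⟨hm.2, AlgSp.isQuasiSeparatedMor_of_sep hm.1⟩
  have hjimm : AlgSt.IsImm j := StFib.repByAlgSpWith_mono hi fun F U m hm =>
    AlgSp.repWith_mono (fun k hk => (have : IsOpenImmersion k := hk; inferInstance : IsImmersion k)) hm
  obtain ⟨ij⟩ := StFib.exists_iso_toSelf (BasedFunctor.comp j (FibCat.toSelf 𝒴))
  have hqs' : AlgSt.IsQuasiSeparatedOver (AlgSt.fullSub 𝒴 (StFib.ptsProp T)) :=
    StFib.repByAlgSpWith_diag_of_iso _ ij (StFib.diag_comp_mem StFib.good_qcqs hA.isStack.1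
      h𝒴.isStack.1 (StFib.isQuasiSeparatedMor_of_isImm hjimm) hqs)
  exact StFib.isQuasiCompact_of_equiv hE (StFib.isQuasiCompact_fp h𝒵 hA
    (StFib.isAlgStack_fp h𝒴.isStack h𝒴.diag hA h𝒳 j f) g' (FibCat.fpFst j f) hc hqs'
    (h _ hA hcY j hi))

end Groth.Agent.S15482
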