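import Groth.Statements.S15483
import Groth.Agent.DVRSpace.Proper
import Groth.Agent.IsoCls.AutDict
import Groth.Agent.IsoCls.DoubleSurj
import Groth.Agent.StFib.DescCriteria
import Groth.Agent.StFib.Props2
import Groth.Agent.AlgSpCov.FpqcTop
import Groth.Agent.AlgSpCov.Covers
import Mathlib.AlgebraicGeometry.Noetherian

set_option linter.unusedVariables false
set_option backward.isDefEq.respectTransparency false
set_option backward.isDefEq.respectTransparency.types false
-- import your own Groth.Agent.* helpers here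

set_option autoImplicit false
universe u
open CategoryTheory AlgebraicGeometry
open IsoNat

namespace Groth.Agent.S15483

open CategoryTheory.Limits FibCat Groth.Agent.FibC Groth.Agent.StFib Groth.Agent.IsoCls Groth.Agent.DVRSpace

theorem isLocalOnBase_univClosed (S : Scheme.{u}) :
    AlgSp.IsLocalOnBase (AlgSp.IsFppfCover (S := S)) AlgSp.IsUnivClosedMor := by
  intro ι Y Yi g hY hYi hg X f hX Xi p q hXi sq
  exact ⟨fun h i => (good_univClosed (S := S)).bc hX hY (hXi i) (hYi i) f (g i) (p i) (q i) (sq i) h,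
    fun h => Groth.Agent.AlgSpCov.isUnivClosedMor_of_fpqc
      (Groth.Agent.AlgSpCov.isFpqcCover_of_isFppfCover hY hYi hg) sq h⟩

/-- The automorphism space of a chart from a locally Noetherian scheme is universally closed. -/
theorem univClosed_chart {S : Scheme.{u}} {𝒳 𝒴 : AlgSt.Cat S}
    (h𝒳 : Stk.IsStack (AlgSp.J S) 𝒳) (h𝒴 : Stk.IsStack (AlgSp.J S) 𝒴) (φ : IsoNat.FIso 𝒳 𝒴)
    (hpr : AlgSt.RepByAlgSpWith AlgSp.IsProperMor (inertiaToBase (toSelf 𝒳)))
    (hsf : AlgSt.RepByAlgSpWith (AlgSp.IsSeparatedMor ⊓ AlgSp.IsFiniteTypeMor)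
      (inertiaToBase (toSelf 𝒴)))
    {W : Over S} [IsLocallyNoetherian W.left] (Y : overCat W ⥤ᵇ 𝒴) :
    ∃ (A : AlgSp.Space S) (e : AlgSt.ofSp A.obj ⥤ᵇ fp Y (inertiaToBase (toSelf 𝒴))),
      IsEquivOver e ∧ AlgSp.IsUnivClosedMor
        (AlgSt.spMapOfOver (BasedFunctor.comp e (fpFst Y (inertiaToBase (toSelf 𝒴))))) := by
  have hgood : Good (S := S) (AlgSp.IsSeparatedMor ⊓ AlgSp.IsFiniteTypeMor) :=
    good_separated.inf (good_lft.inf good_quasiCompact)
  -- the corresponding chart of `𝒳`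
  let c := ((φ.toEquiv W).symm (IsoNat.cls (vfib Y (overTop W)))).out
  obtain ⟨X, i₀, hi₀⟩ := exists_overFunctor h𝒳.1 c.1 c.2
  have hcls : φ.toEquiv W (IsoNat.cls (vfib X (overTop W))) = IsoNat.cls (vfib Y (overTop W)) := by
    have h1 : IsoNat.cls (vfib X (overTop W)) = IsoNat.cls c :=
      Quotient.sound (fiber_iso_of_hom h𝒳.1 (x := vfib X (overTop W)) (y := c) i₀.hom (by
        obtain ⟨h0, h0'⟩ := hi₀
        exact CategoryTheory.IsHomLift.of_fac 𝒳.p _ _ (X.w_obj _) c.2 (by rw [h0']; simp)))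
    rw [h1]
    exact (congrArg (φ.toEquiv W) (Quotient.out_eq _)).trans (Equiv.apply_symm_apply _ _)
  obtain ⟨A, e, he, hPA⟩ := hsf W Y
  refine ⟨A, e, he, ?_⟩
  obtain ⟨AX, aX, haXp, -, auX, hauX, hnatX⟩ :=
    exists_autDict (good_proper (S := S)) h𝒳.1 hpr hpr X
  let a := AlgSt.spMapOfOver (BasedFunctor.comp e (fpFst Y (inertiaToBase (toSelf 𝒴))))
  obtain ⟨au, hau, hnat⟩ := autDict_of_chart h𝒴.1 Y A e he
  -- affine charts of the base
  let 𝒰 := W.left.affineCover
  let A₀ : 𝒰.I₀ → CommRingCat.{u} := fun i => Γ(𝒰.X i, ⊤)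
  let g₀ : ∀ i, Spec (A₀ i) ⟶ W.left := fun i => (𝒰.X i).isoSpec.inv ≫ 𝒰.f i
  let u₀ : ∀ i, Spec (A₀ i) ⟶ S := fun i => g₀ i ≫ W.hom
  let V : 𝒰.I₀ → Over S := fun i => Over.mk (u₀ i)
  let l : ∀ i, V i ⟶ W := fun i => Over.homMk (g₀ i) rfl
  have hoi : ∀ i, IsOpenImmersion (l i).left := fun i =>
    inferInstanceAs (IsOpenImmersion ((𝒰.X i).isoSpec.inv ≫ 𝒰.f i))
  have hcov : AlgSp.IsFppfCover (fun i => (AlgSp.yon S).obj (V i)) (fun i => (AlgSp.yon S).map (l i)) := by
    refine ⟨fun i => ⟨?_, ?_⟩, fun t => ?_⟩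
    · exact Groth.Agent.AlgSpCov.locP_of_repWith Groth.Agent.AlgSpCov.etaleLocal_flat
        ((AlgSp.repWith_yon_map_iff _ _).2 (have := hoi i; inferInstance))
    · exact Groth.Agent.AlgSpCov.locP_of_repWith
        Groth.Agent.AlgSpCov.etaleLocal_locallyOfFinitePresentation
        ((AlgSp.repWith_yon_map_iff _ _).2 (have := hoi i; inferInstance))
    · obtain ⟨t, rfl⟩ := (AlgSp.Points.schemeHomeo W).surjective t
      obtain ⟨i, w, hw⟩ := 𝒰.exists_eq t
      refine ⟨i, AlgSp.Points.schemeHomeo (V i) ((𝒰.X i).isoSpec.hom w), ?_⟩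
      rw [AlgSp.Points.map_yon_map_apply]
      refine congrArg _ ?_
      change ((𝒰.X i).isoSpec.hom ≫ (𝒰.X i).isoSpec.inv ≫ 𝒰.f i) w = t
      rw [Iso.hom_inv_id_assoc]
      exact hw
  refine ((isLocalOnBase_univClosed S) _ _ (AlgSp.IsAlgSpace.yon_obj W)
    (fun i => AlgSp.IsAlgSpace.yon_obj (V i)) hcov a A.property
    (fun i => pullback a ((AlgSp.yon S).map (l i))) (fun i => pullback.snd _ _)
    (fun i => pullback.fst _ _)
    (fun i => Groth.Agent.AlgSp.isAlgSpace_pullback (AlgSp.IsAlgSpace.yon_obj W) A.property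
      (AlgSp.IsAlgSpace.yon_obj (V i)) _ _)
    (fun i => IsPullback.of_hasPullback _ _)).2 fun i => ?_
  have : IsLocallyNoetherian (Spec (A₀ i)) :=
    have := hoi i; isLocallyNoetherian_of_isOpenImmersion (l i).left
  have hNo : IsNoetherianRing (A₀ i) := isLocallyNoetherian_Spec.1 this
  have hW := AlgSp.IsAlgSpace.yon_obj (S := S) W
  have hV := AlgSp.IsAlgSpace.yon_obj (S := S) (V i)
  have hP := Groth.Agent.AlgSp.isAlgSpace_pullback hW A.property hV a ((AlgSp.yon S).map (l i))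
  have hPX := Groth.Agent.AlgSp.isAlgSpace_pullback hW AX.property hV aX ((AlgSp.yon S).map (l i))
  have hsfi := hgood.bc A.property hW hP hV a _ (pullback.snd _ _) (pullback.fst _ _)
    (IsPullback.of_hasPullback _ _) hPA
  have hprX := (good_proper (S := S)).bc AX.property hW hPX hV aX _ (pullback.snd _ _)
    (pullback.fst _ _) (IsPullback.of_hasPullback _ _) haXp
  have hXlift := dvrLift_of_isUnivClosedMor (u₀ i) hPX (pullback.snd aX ((AlgSp.yon S).map (l i)))
    hprX.1 hprX.2.1 hprX.2.2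
  refine @isUnivClosedMor_of_dvrLift S (A₀ i) _ hNo (u₀ i) _ hP (pullback.snd a ((AlgSp.yon S).map (l i))) hsfi.1 hsfi.2 ?_
  intro R _ _ _ L _ _ _ φR φL h s hs
  let wR : (overCat W).obj := Over.mk (spTo (u₀ i) φR ≫ l i)
  let wL : (overCat W).obj := Over.mk (spTo (u₀ i) φL ≫ l i)
  let κ : wL ⟶ wR := Over.homMk (spMap (u₀ i) (algebraMap R L) h) (by
    change _ ≫ spTo (u₀ i) φR ≫ l i = spTo (u₀ i) φL ≫ l i
    rw [← Category.assoc, spMap_to])
  obtain ⟨ϖ, hϖ⟩ := IsDiscreteValuationRing.exists_irreducible R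
  have : IsLocalization.Away ϖ L := isLocalization_away_uniformizer hϖ
  have : IsOpenImmersion κ.left.left := IsOpenImmersion.of_isLocalization ϖ
  have hXsurj : Function.Surjective (res h𝒳.1 X κ) := by
    intro σ
    obtain ⟨⟨r, hr⟩, rfl⟩ := (hauX wL).2 σ
    obtain ⟨m, hm, hm'⟩ := hXlift R L φR φL h
      (pullback.lift r ((AlgSp.yon S).map (spTo (u₀ i) φL))
        (hr.trans ((AlgSp.yon S).map_comp _ _)))
      (pullback.lift_snd _ _ _)
    refine ⟨auX wR ⟨m ≫ pullback.fst _ _, by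
      rw [Category.assoc, pullback.condition, reassoc_of% hm, ← Functor.map_comp]
      rfl⟩, (hnatX κ _ ⟨r, hr⟩ ?_).symm⟩
    have h1 := congrArg (· ≫ pullback.fst _ _) hm'
    simp only [Category.assoc, pullback.lift_fst] at h1
    exact h1.symm
  obtain ⟨τ, hτ⟩ := res_surjective_of_fIso h𝒳 h𝒴 φ X Y hcls κ hXsurj
    (au wL ⟨s ≫ pullback.fst _ _, by
      rw [Category.assoc, pullback.condition, reassoc_of% hs, ← Functor.map_comp]
      rfl⟩)
  obtain ⟨⟨r, hr⟩, rfl⟩ := (hau wR).2 τ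
  let ls : Sec a wL := ⟨(AlgSp.yon S).map κ.left ≫ r, by
    rw [Category.assoc, hr, ← Functor.map_comp]
    exact congrArg _ (Over.w κ)⟩
  have hls := congrArg Subtype.val ((hau wL).1 ((hnat κ ⟨r, hr⟩ ls rfl).trans hτ))
  refine ⟨pullback.lift r ((AlgSp.yon S).map (spTo (u₀ i) φR))
    (hr.trans ((AlgSp.yon S).map_comp _ _)), pullback.lift_snd _ _ _, ?_⟩
  apply pullback.hom_ext
  · rw [Category.assoc, pullback.lift_fst]
    exact hls
  · rw [Category.assoc, pullback.lift_snd, hs, ← Functor.map_comp, spMap_to]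

/-- Properness of the inertia is detected by the presheaf of isomorphism classes. If 𝒳 and 𝒴 are
algebraic stacks over a quasi-separated scheme S with isomorphic presheaves of isomorphism classes,
𝒴 is locally Noetherian (every scheme smooth over 𝒴 is locally Noetherian), and the inertia stack of
𝒳 is proper over 𝒳 (as a morphism representable by algebraic spaces), then the inertia stack of 𝒴 is
proper over 𝒴. Here an algebraic stack over a quasi-separated scheme S means a stack in groupoids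
for the fppf topology with a smooth surjective atlas from a scheme, whose diagonal is representable
by separated quasi-compact morphisms of algebraic spaces and whose inertia is locally of finite
presentation over it. (The published statement compares within the wider class of quasi-algebraic
stacks, which need not have an atlas, and has no Noetherian hypothesis; its argument reads
properness of the inertia from the presheaf evaluated on discrete valuation rings doubled along
their generic point, which decides properness over a locally Noetherian stack, so this row compares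
algebraic stacks only and assumes 𝒴 locally Noetherian.) -/
theorem result
    (S : Scheme.{u}) [QuasiSeparatedSpace S]
    (𝒳 𝒴 : AlgSt.Cat S)
    (h𝒳 : AlgSt.IsAlgStack Scheme.fppfPrecoverage 𝒳)
    (h𝒳d : AlgSt.RepByAlgSpWith (AlgSp.IsSeparatedMor ⊓ AlgSp.IsQuasiCompactMor)
      (FibCat.diag (FibCat.toSelf 𝒳)))
    (h𝒳i : AlgSt.RepByAlgSpWith (AlgSp.LocP @LocallyOfFinitePresentation)
      (FibCat.inertiaToBase (FibCat.toSelf 𝒳)))
    (h𝒴 : AlgSt.IsAlgStack Scheme.fppfPrecoverage 𝒴)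
    (h𝒴d : AlgSt.RepByAlgSpWith (AlgSp.IsSeparatedMor ⊓ AlgSp.IsQuasiCompactMor)
      (FibCat.diag (FibCat.toSelf 𝒴)))
    (h𝒴i : AlgSt.RepByAlgSpWith (AlgSp.LocP @LocallyOfFinitePresentation)
      (FibCat.inertiaToBase (FibCat.toSelf 𝒴)))
    (hN : AlgSt.SmoothLocally (fun X => IsLocallyNoetherian X) 𝒴)
    (φ : IsoNat.FIso 𝒳 𝒴)
    (hpr : AlgSt.RepByAlgSpWith AlgSp.IsProperMor (FibCat.inertiaToBase (FibCat.toSelf 𝒳))) :
    AlgSt.RepByAlgSpWith AlgSp.IsProperMor (FibCat.inertiaToBase (FibCat.toSelf 𝒴)) := by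
  have hgX : Stk.IsStack (AlgSp.J S) 𝒳 := h𝒳.isStack
  have hgY : Stk.IsStack (AlgSp.J S) 𝒴 := h𝒴.isStack
  let ι := inertiaToBase (toSelf 𝒴)
  have hsq : AlgSt.RepByAlgSpWith (AlgSp.IsSeparatedMor ⊓ AlgSp.IsQuasiCompactMor) ι :=
    inertiaToBase_mem _ h𝒴d
  have hlft : AlgSt.RepByAlgSpWith (AlgSp.LocP @LocallyOfFiniteType) ι :=
    repByAlgSpWith_mono h𝒴i fun F U m hm A B a b k ha hb e =>
      have : LocallyOfFinitePresentation k.left := hm a b k ha hb e
      inferInstance
  have hgsq : Good (S := S) (AlgSp.IsSeparatedMor ⊓ AlgSp.IsQuasiCompactMor) :=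
    good_separated.inf good_quasiCompact
  have hsf : AlgSt.RepByAlgSpWith (AlgSp.IsSeparatedMor ⊓ AlgSp.IsFiniteTypeMor) ι := fun U y => by
    obtain ⟨A, e, he, h1⟩ := hsq U y
    exact ⟨A, e, he, h1.1, mem_of_rep_chart good_lft.bc good_lft.det hlft y A e he, h1.2⟩
  have huc : AlgSt.RepByAlgSpWith AlgSp.IsUnivClosedMor ι := by
    obtain ⟨W, x, hx, hxs⟩ := h𝒴.atlas
    have : IsLocallyNoetherian W.left := hN W x hx
    refine (repByAlgSpWith_iff_fpFst_cover good_univClosed.bc (isLocalOnBase_univClosed S) hgY.1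
      (isFibGrpd_overCat W) (repByAlgSp1_of_with h𝒴i) (z := x)
      (repByAlgSpWith_mono hx fun F V m hm A B a b k ha hb e =>
        have : Smooth k.left := hm a b k ha hb e; inferInstance)
      (repByAlgSpWith_mono hx fun F V m hm A B a b k ha hb e =>
        have : Smooth k.left := hm a b k ha hb e; inferInstance) hxs).2 ?_
    obtain ⟨A, e, he, ha⟩ := univClosed_chart hgX hgY φ hpr hsf x
    obtain ⟨i⟩ := exists_iso_ofSpMap_toOverCat (A := A.obj) (BasedFunctor.comp e (fpFst x ι))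
    exact (repByAlgSpWith_iff_of_equiv _ e (AlgSt.toOverCat W) he (toOverCat_isEquivOver W) i).2
      (repByAlgSpWith_ofSpMap good_univClosed.bc A.property (AlgSp.IsAlgSpace.yon_obj W) _ ha)
  intro U y
  obtain ⟨A, e, he, h1, h2⟩ := hsf U y
  exact ⟨A, e, he, h1, h2, mem_of_rep_chart good_univClosed.bc good_univClosed.det huc y A e he⟩

end Groth.Agent.S15483
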