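import Groth.Statements.S15486
import Groth.Agent.IsoCls.Bald
import Groth.Agent.IsoCls.ChartTransfer

set_option backward.isDefEq.respectTransparency false
set_option backward.isDefEq.respectTransparency.types false

set_option autoImplicit false
universe u
open CategoryTheory AlgebraicGeometry
open IsoNat

namespace Groth.Agent.S15486

/-- Bald algebraic stacks are determined by their presheaves of isomorphism classes. Let 𝒳 and 𝒴 be
algebraic stacks over a quasi-separated scheme S with proper diagonals which are bald: for every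
smooth morphism x from a scheme U, the locus of U over which the object x becomes clean (trivial
automorphism sheaf: every object mapping to it has only the identity as endomorphism over the
identity of its base) is an open subscheme schematically dense in U. If their presheaves of
isomorphism classes are isomorphic, then 𝒳 and 𝒴 are equivalent over (Sch/S). Here an algebraic
stack over a quasi-separated scheme S means a stack in groupoids for the fppf topology with a smooth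
surjective atlas from a scheme, whose diagonal is representable by separated quasi-compact morphisms
of algebraic spaces and whose inertia is locally of finite presentation over it. (The published
definition of bald asks the clean locus, an open substack, to be schematically dense in the stack;
this row uses the equivalent chart-wise form, and compares algebraic stacks rather than
quasi-algebraic ones.) -/
theorem result
    (S : Scheme.{u}) [QuasiSeparatedSpace S]
    (𝒳 𝒴 : AlgSt.Cat S)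
    (h𝒳 : AlgSt.IsAlgStack Scheme.fppfPrecoverage 𝒳)
    (h𝒳d : AlgSt.RepByAlgSpWith (AlgSp.IsSeparatedMor ⊓ AlgSp.IsQuasiCompactMor)
      (FibCat.diag (FibCat.toSelf 𝒳)))
    (h𝒳i : AlgSt.RepByAlgSpWith (AlgSp.LocP @LocallyOfFinitePresentation)
      (FibCat.inertiaToBase (FibCat.toSelf 𝒳)))
    (h𝒴 : AlgSt.IsAlgStack Scheme.fppfPrecoverage 𝒴)
    (h𝒴d : AlgSt.RepByAlgSpWith (AlgSp.IsSeparatedMor ⊓ AlgSp.IsQuasiCompactMor)
      (FibCat.diag (FibCat.toSelf 𝒴)))
    (h𝒴i : AlgSt.RepByAlgSpWith (AlgSp.LocP @LocallyOfFinitePresentation)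
      (FibCat.inertiaToBase (FibCat.toSelf 𝒴)))
    (h𝒳s : AlgSt.IsSeparatedOver 𝒳)
    (h𝒳b : ∀ (U : Over S) (x : FibCat.overCat U ⥤ᵇ 𝒳), AlgSt.RepByAlgSpWith (AlgSp.LocP @Smooth) x →
      ∃ V : U.left.Opens,
        (∀ (T : Over S) (g : T ⟶ U), (∃ g' : T.left ⟶ ↑V, g' ≫ V.ι = g.left) ↔ IsoNat.IsClean (x.obj (Over.mk g))) ∧
        CInt.IsSchematicallyDense V)
    (h𝒴s : AlgSt.IsSeparatedOver 𝒴)
    (h𝒴b : ∀ (U : Over S) (x : FibCat.overCat U ⥤ᵇ 𝒴), AlgSt.RepByAlgSpWith (AlgSp.LocP @Smooth) x →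
      ∃ V : U.left.Opens,
        (∀ (T : Over S) (g : T ⟶ U), (∃ g' : T.left ⟶ ↑V, g' ≫ V.ι = g.left) ↔ IsoNat.IsClean (x.obj (Over.mk g))) ∧
        CInt.IsSchematicallyDense V)
    (φ : IsoNat.FIso 𝒳 𝒴) :
    ∃ e : 𝒳 ⥤ᵇ 𝒴, FibCat.IsEquivOver e := by
  obtain ⟨U, x, hx, hxs⟩ := h𝒳.atlas
  obtain ⟨y, hy⟩ := IsoCls.exists_corr_chart h𝒴.isStack.1 φ x
  have hys' := IsoCls.repByAlgSpWith_smooth_of_corr h𝒳.isStack.1 h𝒴 h𝒴i φ hy hx
  have hyss := IsoCls.repByAlgSpWith_surjective_of_corr h𝒳 h𝒴 φ hy hxs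
  obtain ⟨V, hV, hVd⟩ := h𝒳b U x hx
  obtain ⟨V', hV', hV'd⟩ := h𝒴b U y hys'
  have hrx : IsoCls.Rigid x := IsoCls.rigid_of_clean h𝒳.isStack.1
    (IsoCls.diag_diag_isClosedImm (StFib.repByAlgSpWith_mono h𝒳d (fun _ _ _ h => h.1))) V hV hVd
  have hry : IsoCls.Rigid y := IsoCls.rigid_of_clean h𝒴.isStack.1
    (IsoCls.diag_diag_isClosedImm (StFib.repByAlgSpWith_mono h𝒴d (fun _ _ _ h => h.1))) V' hV' hV'd
  have hX := StkLib.isPrestack_of_isStack h𝒳.isStack
  have hY := StkLib.isPrestack_of_isStack h𝒴.isStack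
  obtain ⟨Ωx⟩ := IsoCls.nonempty_univ h𝒳.isStack.1 hx
  obtain ⟨Ωy⟩ := IsoCls.nonempty_univ h𝒴.isStack.1 hys'
  obtain ⟨f⟩ := IsoCls.nonempty_vmap h𝒳.isStack.1 hY Ωx hry
    (fun h g => (IsoCls.vhom_of_corr h𝒳.isStack.1 h𝒴.isStack.1 φ hy hy h g).1)
  obtain ⟨f'⟩ := IsoCls.nonempty_vmap h𝒴.isStack.1 hX Ωy hrx
    (fun h g => (IsoCls.vhom_of_corr h𝒳.isStack.1 h𝒴.isStack.1 φ hy hy h g).2)
  obtain ⟨Ψ⟩ := IsoCls.nonempty_transfer h𝒳.isStack.1 h𝒴.isStack.1 f f'
    (IsoCls.VMap.left_inv hX Ωx hrx f f') (IsoCls.VMap.left_inv hY Ωy hry f' f)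
  exact IsoCls.exists_isEquivOver_of_transfer h𝒳.isStack h𝒴.isStack Ψ
    (IsoCls.imSieve_mem h𝒳.isStack.1 hx hxs) (IsoCls.imSieve_mem h𝒴.isStack.1 hys' hyss)

end Groth.Agent.S15486
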