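import Groth.Statements.S15488
import Mathlib.LinearAlgebra.Projection
import Mathlib.GroupTheory.Coset.Card
import Mathlib.LinearAlgebra.FreeModule.Finite.Basic
import Mathlib.LinearAlgebra.Dimension.Constructions
import Mathlib.LinearAlgebra.FreeModule.StrongRankCondition

set_option autoImplicit false
set_option backward.isDefEq.respectTransparency false
set_option backward.isDefEq.respectTransparency.types false
universe u
open IsoNat

namespace Groth.Agent.S15488

/-- Let A be a nontrivial commutative ring, G a finite group, g an element of G of order ν and l an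
element of A with l ^ ν = 1. In the free A-module of functions G → A (the regular representation, g
acting by translation v ↦ v(g·)), the submodule of v with v(g h) = l v(h) for all h is a direct
summand, free of rank |G| / ν (stated as: free, rank · ν = |G|, and a complementary submodule
exists). (The published statement is over an arbitrary ring and also covers Hom(A^N, −) of the
regular representation, which follows; nontriviality of A is needed for the rank to be meaningful.) -/
theorem result
    (A : Type u) [CommRing A] [Nontrivial A] (G : Type u) [Group G] [Finite G]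
    (g : G) (l : A) (hl : l ^ orderOf g = 1) :
    Module.Free A (LinearMap.ker (LinearMap.funLeft A A (fun h : G => g * h) - l • LinearMap.id)) ∧
      Module.finrank A (LinearMap.ker (LinearMap.funLeft A A (fun h : G => g * h) - l • LinearMap.id)) * orderOf g = Nat.card G ∧
      ∃ E' : Submodule A (G → A), IsCompl (LinearMap.ker (LinearMap.funLeft A A (fun h : G => g * h) - l • LinearMap.id)) E' := by
  classical
  let H := Subgroup.zpowers g
  have hg : IsOfFinOrder g := isOfFinOrder_of_finite g
  have hmem : ∀ x : G, x ∈ H → ∃ n : ℕ, g ^ n = x := fun x hx => by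
    rw [← hg.mem_powers_iff_mem_zpowers] at hx
    exact hx
  have hwd : ∀ m n : ℕ, g ^ m = g ^ n → l ^ m = l ^ n := fun m n h => by
    have h' : m % orderOf g = n % orderOf g := pow_eq_pow_iff_modEq.1 h
    rw [← Nat.mod_add_div m (orderOf g), ← Nat.mod_add_div n (orderOf g), pow_add, pow_add, pow_mul,
      pow_mul, hl, one_pow, one_pow, h']
  let s := QuotientGroup.rightRel H
  let rep : G → G := fun h => (Quotient.mk s h).out
  have hrep : ∀ h, ∃ n : ℕ, g ^ n = h * (rep h)⁻¹ := fun h => hmem _ (by
    have := Quotient.exact (Quotient.out_eq (Quotient.mk s h))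
    exact QuotientGroup.rightRel_apply.1 this)
  choose c hc using hrep
  let K := LinearMap.ker (LinearMap.funLeft A A (fun h : G => g * h) - l • LinearMap.id)
  have hK : ∀ v : G → A, v ∈ K ↔ ∀ h, v (g * h) = l * v h := fun v => by
    rw [LinearMap.mem_ker, LinearMap.sub_apply, sub_eq_zero]
    exact ⟨fun h x => congrFun h x, fun h => funext h⟩
  let inv : (Quotient s → A) →ₗ[A] (G → A) :=
    { toFun := fun w h => l ^ c h * w (Quotient.mk s h)
      map_add' := fun w w' => funext fun h => mul_add _ _ _
      map_smul' := fun a w => funext fun h => mul_left_comm _ a _ }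
  have hinv : ∀ w, inv w ∈ K := fun w => (hK _).2 fun h => by
    have e : Quotient.mk s (g * h) = Quotient.mk s h := Quotient.sound (by
      show (QuotientGroup.rightRel H) (g * h) h
      rw [QuotientGroup.rightRel_apply]
      simp [H, Subgroup.mem_zpowers])
    show l ^ c (g * h) * w (Quotient.mk s (g * h)) = l * (l ^ c h * w (Quotient.mk s h))
    have : g ^ c (g * h) = g ^ (c h + 1) := by
      rw [hc, pow_succ', hc, show rep (g * h) = rep h by simp [rep, e]]
      rw [mul_assoc]
    rw [e, hwd _ _ this, pow_succ', mul_assoc]
  let res : (G → A) →ₗ[A] (Quotient s → A) :=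
    { toFun := fun v q => v q.out, map_add' := fun _ _ => rfl, map_smul' := fun _ _ => rfl }
  have hres : ∀ v, v ∈ K → inv (res v) = v := fun v hv => funext fun h => by
    have key : ∀ (n : ℕ) (x : G), v (g ^ n * x) = l ^ n * v x := fun n x => by
      induction n with
      | zero => simp
      | succ n ih => rw [pow_succ', mul_assoc, (hK v).1 hv, ih, pow_succ', mul_assoc]
    show l ^ c h * v (rep h) = v h
    rw [← key, hc]
    simp
  have hres' : ∀ w, res (inv w) = w := fun w => funext fun q => by
    show l ^ c q.out * w (Quotient.mk s q.out) = w q
    have : g ^ c q.out = g ^ 0 := by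
      rw [hc, pow_zero, show rep q.out = q.out by simp [rep]]
      simp
    rw [hwd _ _ this, pow_zero, one_mul, Quotient.out_eq]
  let e : (Quotient s → A) ≃ₗ[A] K :=
    { inv.codRestrict K hinv with
      invFun := res.comp K.subtype
      left_inv := hres'
      right_inv := fun v => Subtype.ext (hres v.1 v.2) }
  have : Fintype (Quotient s) := Fintype.ofFinite _
  have : Fintype G := Fintype.ofFinite _
  refine ⟨Module.Free.of_equiv e, ?_, ⟨LinearMap.ker ((inv.comp res).codRestrict K fun v => hinv _),
    LinearMap.isCompl_of_proj (fun v => Subtype.ext (hres v.1 v.2))⟩⟩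
  show Module.finrank A K * orderOf g = Nat.card G
  rw [← e.finrank_eq, Module.finrank_pi, ← Nat.card_eq_fintype_card,
    Nat.card_congr (QuotientGroup.quotientRightRelEquivQuotientLeftRel H), ← Fintype.card_zpowers, ← Nat.card_eq_fintype_card]
  exact (Subgroup.card_eq_card_quotient_mul_card_subgroup H).symm

end Groth.Agent.S15488
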