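import Groth.Statements.S15489
import Groth.Agent.IsoCls.LoopGeom

set_option autoImplicit false
set_option backward.isDefEq.respectTransparency false
set_option backward.isDefEq.respectTransparency.types false
universe u
open CategoryTheory AlgebraicGeometry
open IsoNat

namespace Groth.Agent.S15489

/-- Over an affine base vertical endomorphisms are trivial. -/
theorem endo_eq_id_affine {S : Scheme.{u}} {𝒳 : AlgSt.Cat S}
    (h : Stk.IsStack (AlgSp.J S) 𝒳)
    (hd : AlgSt.RepByAlgSpWith (AlgSp.RepWith @IsClosedImmersion)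
      (FibCat.diag (FibCat.diag (FibCat.toSelf 𝒳))))
    (hsep : IsoCls.SepCls 𝒳) {T : Over S} [IsAffine T.left] {y : 𝒳.obj} (t : y ⟶ y)
    (ht : 𝒳.p.IsHomLift (𝟙 T) t) : t = 𝟙 y := by
  obtain ⟨X, e, he⟩ := FibC.exists_overLift_fibGrpd h.1 y (IsHomLift.domain_eq 𝒳.p (𝟙 T) t)
  have hθ : 𝒳.p.IsHomLift (𝟙 T) (e.hom ≫ t ≫ e.inv) := inferInstance
  obtain ⟨α, hα⟩ := FibC.yoneda_surjective (FibC.preserves_overCat h.1 X) (e.hom ≫ t ≫ e.inv)
  obtain ⟨L⟩ := IsoCls.exists_loop T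
  have := IsoCls.app_eq_id_of_loop h hd hsep L X α
  rw [hα] at this
  rw [← cancel_epi e.hom, ← cancel_mono e.inv, Category.assoc, this]
  simp

/-- Vertical endomorphisms are trivial. -/
theorem endo_eq_id {S : Scheme.{u}} {𝒳 : AlgSt.Cat S}
    (h : Stk.IsStack (AlgSp.J S) 𝒳)
    (hd : AlgSt.RepByAlgSpWith (AlgSp.RepWith @IsClosedImmersion)
      (FibCat.diag (FibCat.diag (FibCat.toSelf 𝒳))))
    (hsep : IsoCls.SepCls 𝒳) (x : 𝒳.obj) (s : x ⟶ x) (hs : 𝒳.p.map s = 𝟙 (𝒳.p.obj x)) :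
    s = 𝟙 x := by
  have hsl : 𝒳.p.IsHomLift (𝟙 (𝒳.p.obj x)) s := hs ▸ IsHomLift.map 𝒳.p s
  have : 𝒳.p.IsHomLift (𝟙 (𝒳.p.obj x)) (𝟙 x) := IsHomLift.id rfl
  let 𝒰 := (𝒳.p.obj x).left.affineCover
  let R : Sieve (𝒳.p.obj x) :=
    { arrows := fun V f => ∃ (i : 𝒰.I₀) (g : V ⟶ Over.mk (𝒰.f i ≫ (𝒳.p.obj x).hom)),
        g ≫ (Over.homMk (𝒰.f i) rfl : _ ⟶ 𝒳.p.obj x) = f
      downward_closed := by
        rintro V V' f ⟨i, g, rfl⟩ k
        exact ⟨i, k ≫ g, Category.assoc _ _ _⟩ }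
  have hR : R ∈ AlgSp.J S (𝒳.p.obj x) := by
    refine Groth.Agent.AlgSp.mem_of_cover (R := Presieve.ofArrows 𝒰.X 𝒰.f)
      (Scheme.zariskiPrecoverage_le_fppfPrecoverage _ 𝒰.mem₀) ?_
    rintro W k ⟨i⟩
    exact ⟨i, 𝟙 _, Category.id_comp _⟩
  refine StkLib.hom_ext_of_local (Groth.Agent.StkLib.isPrestack_of_isStack h) R hR s (𝟙 x) ?_
  rintro V f ⟨i, g, rfl⟩ z ν hν
  let ι : Over.mk (𝒰.f i ≫ (𝒳.p.obj x).hom) ⟶ 𝒳.p.obj x := Over.homMk (𝒰.f i) rfl
  obtain ⟨y, μ, hμ⟩ := h.1.exists_lift ι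
  have : IsAffine (Over.mk (𝒰.f i ≫ (𝒳.p.obj x).hom)).left := inferInstanceAs (IsAffine (𝒰.X i))
  obtain ⟨θ, -, hθ⟩ := IsoCls.exists_factor' h.1 ι μ hμ ν g _ hν rfl
  have hμs : 𝒳.p.IsHomLift ι (μ ≫ s) :=
    IsHomLift.comp_lift_id_right' 𝒳.p _ _ (𝒳.p.obj x) _
  obtain ⟨t, ht, -, ht'⟩ := GalCohAux.GerbBasic.exists_fac h.1 ι μ (μ ≫ s)
  rw [endo_eq_id_affine h hd hsep t ht, Category.id_comp] at ht'
  rw [← hθ, Category.assoc, ← ht', Category.comp_id]

/-- The presheaf of isomorphism classes of an algebraic stack 𝒳 over a quasi-separated scheme S is a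
sheaf exactly when 𝒳 has no non-trivial automorphisms. Stated as: every object of 𝒳 is clean (every
object mapping to it has only the identity endomorphism over the identity of its base) if and only
if the presheaf of isomorphism classes is separated for fppf coverings — whenever T' → T is flat,
surjective and locally of finite presentation and two objects over T receive morphisms over it from
isomorphic objects over T', the two objects are isomorphic over T. (The gluing half of the sheaf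
property also follows from the triviality of automorphism sheaves; only separation is needed for the
converse, and only it is stated.) Here an algebraic stack over a quasi-separated scheme S means a
stack in groupoids for the fppf topology with a smooth surjective atlas from a scheme, whose
diagonal is representable by separated quasi-compact morphisms of algebraic spaces and whose inertia
is locally of finite presentation over it. -/
theorem result
    (S : Scheme.{u}) [QuasiSeparatedSpace S]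
    (𝒳 : AlgSt.Cat S)
    (h𝒳 : AlgSt.IsAlgStack Scheme.fppfPrecoverage 𝒳)
    (h𝒳d : AlgSt.RepByAlgSpWith (AlgSp.IsSeparatedMor ⊓ AlgSp.IsQuasiCompactMor)
      (FibCat.diag (FibCat.toSelf 𝒳)))
    (h𝒳i : AlgSt.RepByAlgSpWith (AlgSp.LocP @LocallyOfFinitePresentation)
      (FibCat.inertiaToBase (FibCat.toSelf 𝒳))) :
    (∀ η : 𝒳.obj, IsoNat.IsClean η) ↔
      ∀ (T T' : Over S) (π : T' ⟶ T) [Flat π.left] [Surjective π.left] [LocallyOfFinitePresentation π.left]
        (x₁ x₂ : 𝒳.p.Fiber T) (x₁' x₂' : 𝒳.p.Fiber T') (a₁ : x₁'.1 ⟶ x₁.1) (a₂ : x₂'.1 ⟶ x₂.1),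
        𝒳.p.IsHomLift π a₁ → 𝒳.p.IsHomLift π a₂ → Nonempty (x₁' ≅ x₂') → Nonempty (x₁ ≅ x₂) := by
  have hgr : FibCat.IsFibGrpd 𝒳.p := h𝒳.isStack.1
  have hP := Groth.Agent.StkLib.isPrestack_of_isStack h𝒳.isStack
  constructor
  · intro hclean
    exact IsoCls.sepCls_of_trivial_endo (J := AlgSp.J S) hP
      (fun {T T'} π _ _ _ => Groth.Agent.AlgSp.mem_of_fppf π
        ⟨_, 𝟙 _, π, Presieve.singleton.mk, Category.id_comp _⟩)
      (fun x s hs => hclean x x (𝟙 x) s hs)
  · intro hsep η x _ s hs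
    have hd := IsoCls.diag_diag_isClosedImm
      (StFib.repByAlgSpWith_mono h𝒳d (fun _ _ _ h => h.1))
    exact endo_eq_id h𝒳.isStack hd hsep x s hs

end Groth.Agent.S15489
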