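import Groth.Statements.S15490
import Mathlib.Data.Finsupp.Basic

set_option autoImplicit false
set_option backward.isDefEq.respectTransparency false
set_option backward.isDefEq.respectTransparency.types false
universe u
open IsoNat

namespace Groth.Agent.S15490

/-- Let f : G → G' be a group homomorphism, A a commutative ring and α an element of the regular
representation of G over A (a finitely supported function G → A). If the pushforward β = f_*α
(summing coefficients along f) is nonzero and is an eigenvector for the translation action of an
element g' of G' — β(g'⁻¹ k) = l β(k) for all k and some scalar l — then g' lies in the image of f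
(and hence β comes from the regular representation of the image). (The published statement asks only
α ≠ 0; when f is not injective the pushforward of a nonzero α can vanish, and the zero vector lies
in every eigen-submodule, so the hypothesis is placed on f_*α, which is how the result is used.) -/
theorem result
    {G G' : Type u} [Group G] [Group G'] (f : G →* G')
    (A : Type u) [CommRing A] (α : G →₀ A) (g' : G') (l : A)
    (hne : Finsupp.mapDomain f α ≠ 0)
    (he : ∀ k : G', Finsupp.mapDomain f α (g'⁻¹ * k) = l * Finsupp.mapDomain f α k) :
    g' ∈ f.range := by
  classical
  by_contra hg
  apply hne
  ext k
  show Finsupp.mapDomain f α k = 0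
  have hout : ∀ z : G', z ∉ f.range → Finsupp.mapDomain f α z = 0 := fun z hz =>
    Finsupp.mapDomain_notin_range α z (by rintro ⟨x, hx⟩; exact hz ⟨x, hx⟩)
  by_cases hk : k ∈ f.range
  · have h2 : g' * k ∉ f.range := fun h => hg (by
      have := f.range.mul_mem h (f.range.inv_mem hk)
      simpa using this)
    have := he (g' * k)
    rw [← mul_assoc, inv_mul_cancel, one_mul, hout _ h2, mul_zero] at this
    exact this
  · exact hout k hk

end Groth.Agent.S15490
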