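import Groth.Statements.S15491
import Mathlib.CategoryTheory.Limits.Shapes.Pullback.Categorical.Basic

set_option autoImplicit false
set_option backward.isDefEq.respectTransparency false
set_option backward.isDefEq.respectTransparency.types false
universe v u
open CategoryTheory CategoryTheory.Functor
open IsoNat

namespace Groth.Agent.S15491

/-- Pasting of 2-cartesian squares, stated in the 2-category of categories. Consider functors t : A → B,
t' : A' → B', t'' : A'' → B'' and l : A → A', r : B → B', l' : A' → A'', r' : B' → B'' with natural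
isomorphisms e₁ : t ⋙ r ≅ l ⋙ t' and e₂ : t' ⋙ r' ≅ l' ⋙ t''. If the lower square (t', l', r', t'',
e₂) is 2-cartesian (its comparison functor to the 2-fibre product is an equivalence), then the upper
square (t, l, r, t', e₁) is 2-cartesian if and only if the outer rectangle (t, l ⋙ l', r ⋙ r', t'')
with the pasted isomorphism is. (The published statement is for an arbitrary 2-category whose
2-morphisms are invertible; this row is the case of categories, functors and natural isomorphisms.) -/
theorem result
    {A B A' B' A'' B'' : Type u} [Category.{v} A] [Category.{v} B] [Category.{v} A'] [Category.{v} B']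
    [Category.{v} A''] [Category.{v} B'']
    (t : A ⥤ B) (l : A ⥤ A') (r : B ⥤ B') (t' : A' ⥤ B') (l' : A' ⥤ A'') (r' : B' ⥤ B'') (t'' : A'' ⥤ B'')
    (e₁ : t ⋙ r ≅ l ⋙ t') (e₂ : t' ⋙ r' ≅ l' ⋙ t'')
    (h₂ : FibCat.IsTwoCart t' l' r' t'' e₂) :
    FibCat.IsTwoCart t l r t' e₁ ↔
      FibCat.IsTwoCart t (l ⋙ l') (r ⋙ r') t''
        ((Functor.associator t r r').symm ≪≫ isoWhiskerRight e₁ r' ≪≫ Functor.associator l t' r' ≪≫
          isoWhiskerLeft l e₂ ≪≫ (Functor.associator l l' t'').symm) := by
  open Limits in
  let K2 := (CategoricalPullback.CatCommSqOver.toFunctorToCategoricalPullback r' t'' A').obj ⟨t', l', e₂⟩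
  have hK2 : K2.IsEquivalence := h₂
  let P : CategoricalPullback r t' ⥤ CategoricalPullback (r ⋙ r') t'' :=
    { obj := fun z => ⟨z.fst, l'.obj z.snd, r'.mapIso z.iso ≪≫ e₂.app z.snd⟩
      map := fun {z z'} f =>
        { fst := f.fst
          snd := l'.map f.snd
          w := by
            have hw := f.w
            have hn := e₂.hom.naturality f.snd
            simp only [Functor.comp_map] at hn
            simp only [Functor.comp_map, Iso.trans_hom, Functor.mapIso_hom, Iso.app_hom, Category.assoc]
            rw [← Functor.map_comp_assoc, hw, Functor.map_comp_assoc, hn] } }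
  have : P.Faithful := ⟨fun {z z'} f g h => by
    have h1 : f.fst = g.fst := (congrArg (fun k => CategoricalPullback.Hom.fst k) h :)
    have h2 : l'.map f.snd = l'.map g.snd := (congrArg (fun k => CategoricalPullback.Hom.snd k) h :)
    refine CategoricalPullback.hom_ext h1 (K2.map_injective (CategoricalPullback.hom_ext ?_ h2))
    show t'.map f.snd = t'.map g.snd
    rw [← cancel_epi z.iso.hom, ← f.w, ← g.w, h1]⟩
  have : P.Full := ⟨fun {z z'} f => by
    have hw := f.w
    simp only [P, Functor.comp_map, Iso.trans_hom, Functor.mapIso_hom, Iso.app_hom, Category.assoc] at hw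
    let m : K2.obj z.snd ⟶ K2.obj z'.snd :=
      { fst := z.iso.inv ≫ r.map f.fst ≫ z'.iso.hom
        snd := f.snd
        w := by
          show r'.map (z.iso.inv ≫ r.map f.fst ≫ z'.iso.hom) ≫ e₂.hom.app z'.snd =
            e₂.hom.app z.snd ≫ t''.map f.snd
          simp only [Functor.map_comp, Category.assoc]
          rw [hw, ← r'.map_comp_assoc, Iso.inv_hom_id, r'.map_id, Category.id_comp] }
    have h1 : t'.map (K2.preimage m) = z.iso.inv ≫ r.map f.fst ≫ z'.iso.hom :=
      congrArg CategoricalPullback.Hom.fst (K2.map_preimage m)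
    have h2 : l'.map (K2.preimage m) = f.snd :=
      congrArg CategoricalPullback.Hom.snd (K2.map_preimage m)
    exact ⟨{ fst := f.fst, snd := K2.preimage m, w := by rw [h1, Iso.hom_inv_id_assoc] },
      CategoricalPullback.hom_ext rfl h2⟩⟩
  have : P.EssSurj := ⟨fun w => by
    let m : CategoricalPullback r' t'' := ⟨r.obj w.fst, w.snd, w.iso⟩
    let θ := K2.objObjPreimageIso m
    have hθ := θ.hom.w
    let z : CategoricalPullback r t' :=
      ⟨w.fst, K2.objPreimage m, ((CategoricalPullback.π₁ r' t'').mapIso θ).symm⟩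
    refine ⟨z, ⟨CategoricalPullback.mkIso (Iso.refl _) ((CategoricalPullback.π₂ r' t'').mapIso θ) ?_⟩⟩
    show (r ⋙ r').map (𝟙 w.fst) ≫ w.iso.hom = (r'.map θ.inv.fst ≫ e₂.hom.app _) ≫ t''.map θ.hom.snd
    rw [CategoryTheory.Functor.map_id, Category.id_comp, Category.assoc]
    have : r'.map θ.hom.fst ≫ w.iso.hom = e₂.hom.app (K2.objPreimage m) ≫ t''.map θ.hom.snd := hθ
    rw [← this, ← r'.map_comp_assoc, ← CategoricalPullback.comp_fst, θ.inv_hom_id]
    simp [m]⟩
  have hP : P.IsEquivalence := { }
  let K1 := (CategoricalPullback.CatCommSqOver.toFunctorToCategoricalPullback r t' A).obj ⟨t, l, e₁⟩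
  let e' : t ⋙ (r ⋙ r') ≅ (l ⋙ l') ⋙ t'' := (Functor.associator t r r').symm ≪≫ isoWhiskerRight e₁ r' ≪≫
    Functor.associator l t' r' ≪≫ isoWhiskerLeft l e₂ ≪≫ (Functor.associator l l' t'').symm
  let K := (CategoricalPullback.CatCommSqOver.toFunctorToCategoricalPullback (r ⋙ r') t'' A).obj
    ⟨t, l ⋙ l', e'⟩
  let ι : K1 ⋙ P ≅ K := NatIso.ofComponents
    (fun a => CategoricalPullback.mkIso (Iso.refl _) (Iso.refl _) (by simp [K1, K, P, e']; rfl))
    (fun f => by ext <;> simp [K1, K, P])
  show K1.IsEquivalence ↔ K.IsEquivalence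
  exact ⟨fun h => Functor.isEquivalence_of_iso ι, fun h =>
    have := Functor.isEquivalence_of_iso ι.symm
    Functor.isEquivalence_of_comp_right K1 P⟩

end Groth.Agent.S15491
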