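import Groth.Statements.S15494
import Mathlib
-- import your own Groth.Agent.* helpers here

set_option autoImplicit false
universe u v
open Dieud

namespace Groth.Agent.S15494

/-- Let W be a commutative ring with a ring endomorphism σ, p a natural number, M a W-module and F an
additive self-map of M with F (w • m) = σ w • F m. Let d ≥ 1, c ≥ 1, h = d + c, and let e_1, …, e_h,
… be vectors of M on which F acts through a display matrix in normal form: F e_i = e_{i+1} for 1 ≤ i
< d; F e_d = Σ_{i=1}^{d} a_{i,d} e_i + e_{d+1}; F e_j = Σ_{i=1}^{d} p a_{i,j} e_i + p e_{j+1} for d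
< j < h; F e_h = Σ_{i=1}^{d} p a_{i,h} e_i. Then F^h e_1 = Σ_{i=1}^{d} Σ_{j=d}^{h} p^{j-d}
σ^{h-j}(a_{i,j}) F^{h+i-j-1} e_1. (The published statement is for the Dieudonné module of a
p-divisible group of dimension d and height h over the Witt ring of a field of characteristic p,
with σ the Frobenius and e_1, …, e_h a basis; this row keeps only the relations which the printed
computation uses, so W, σ, p and the vectors are arbitrary.) -/
theorem result
    (W : Type u) [CommRing W] (σ : W →+* W) (p : ℕ)
    (M : Type v) [AddCommGroup M] [Module W M]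
    (F : M →+ M) (hF : ∀ (w : W) (m : M), F (w • m) = σ w • F m)
    (d c : ℕ) (hd : 0 < d) (hc : 0 < c)
    (a : ℕ → ℕ → W) (e : ℕ → M)
    (h1 : ∀ i : ℕ, 1 ≤ i → i < d → F (e i) = e (i + 1))
    (h2 : F (e d) = (∑ i ∈ Finset.Icc 1 d, a i d • e i) + e (d + 1))
    (h3 : ∀ j : ℕ, d < j → j < d + c →
      F (e j) = (∑ i ∈ Finset.Icc 1 d, ((p : W) * a i j) • e i) + (p : W) • e (j + 1))
    (h4 : F (e (d + c)) = ∑ i ∈ Finset.Icc 1 d, ((p : W) * a i (d + c)) • e i) :
    (⇑F)^[d + c] (e 1) = ∑ i ∈ Finset.Icc 1 d, ∑ j ∈ Finset.Icc d (d + c),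
      ((p : W) ^ (j - d) * (⇑σ)^[d + c - j] (a i j)) • (⇑F)^[d + c + i - j - 1] (e 1) := by
  classical
  have hstart : ∀ i, 1 ≤ i → i ≤ d → (⇑F)^[i - 1] (e 1) = e i := by
    intro i
    induction i with
    | zero => omega
    | succ i ih =>
      intro _ hid
      rcases Nat.eq_zero_or_pos i with rfl | hi
      · rfl
      · rw [show i + 1 - 1 = (i - 1) + 1 by omega, Function.iterate_succ_apply', ih hi (by omega),
          h1 i hi (by omega)]
  let S : ℕ → M := fun j => ∑ i ∈ Finset.Icc 1 d, ∑ l ∈ Finset.Icc d j,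
    ((p : W) ^ (l - d) * (⇑σ)^[j - l] (a i l)) • (⇑F)^[j + i - l - 1] (e 1)
  have hstep : ∀ j, d ≤ j → F (S j) +
      (p : W) ^ (j + 1 - d) • (∑ i ∈ Finset.Icc 1 d, a i (j + 1) • e i) = S (j + 1) := by
    intro j hj
    simp only [S, map_sum, Finset.smul_sum, ← Finset.sum_add_distrib]
    refine Finset.sum_congr rfl fun i hi => ?_
    rw [Finset.mem_Icc] at hi
    rw [Finset.sum_Icc_succ_top (by omega), show j + 1 + i - (j + 1) - 1 = i - 1 by omega,
      Nat.sub_self, hstart i hi.1 hi.2, Function.iterate_zero_apply, smul_smul]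
    congr 1
    refine Finset.sum_congr rfl fun l hl => ?_
    rw [Finset.mem_Icc] at hl
    rw [hF, map_mul, map_pow, map_natCast, ← Function.iterate_succ_apply' σ,
      ← Function.iterate_succ_apply' F]
    congr 2 <;> [skip; skip] <;> congr 1 <;> (try omega) <;> congr 1 <;> omega
  have hbase : F (e d) = S d + e (d + 1) := by
    rw [h2]
    congr 1
    refine Finset.sum_congr rfl fun i hi => ?_
    rw [Finset.mem_Icc] at hi
    simp [show d + i - d - 1 = i - 1 by omega, hstart i hi.1 hi.2]
  have hmain : ∀ k, k < c → (⇑F)^[d + k] (e 1) = S (d + k) + (p : W) ^ k • e (d + k + 1) := by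
    intro k
    induction k with
    | zero =>
      intro _
      rw [pow_zero, one_smul, Nat.add_zero, ← hbase]
      conv_lhs => rw [show d = (d - 1) + 1 by omega]
      rw [Function.iterate_succ_apply', hstart d hd le_rfl]
    | succ k ih =>
      intro hk
      rw [← Nat.add_assoc, Function.iterate_succ_apply', ih (by omega), map_add,
        ← hstep (d + k) (Nat.le_add_right _ _), hF, map_pow, map_natCast,
        h3 (d + k + 1) (by omega) (by omega), smul_add, Finset.smul_sum, Finset.smul_sum, smul_smul,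
        show d + k + 1 - d = k + 1 by omega, ← pow_succ]
      simp only [smul_smul, pow_succ, mul_assoc, add_assoc]
  obtain ⟨k, rfl⟩ : ∃ k, c = k + 1 := ⟨c - 1, by omega⟩
  show (⇑F)^[d + (k + 1)] (e 1) = S (d + (k + 1))
  rw [← Nat.add_assoc] at h4 ⊢
  rw [Function.iterate_succ_apply', hmain k (by omega), map_add, hF, map_pow, map_natCast, h4,
    ← hstep (d + k) (Nat.le_add_right _ _), show d + k + 1 - d = k + 1 by omega, Finset.smul_sum,
    Finset.smul_sum]
  congr 1
  refine Finset.sum_congr rfl fun i _ => ?_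
  rw [smul_smul, smul_smul, pow_succ, mul_assoc]

end Groth.Agent.S15494
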