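import Groth.Statements.S15495
import Mathlib.RingTheory.Artinian.Ring
import Mathlib.Algebra.Ring.GeomSum
import Mathlib.RingTheory.LocalRing.ResidueField.Basic

set_option autoImplicit false
universe u
open CAlg

namespace Groth.Agent.S15495

/-- In an Artinian local ring R whose maximal ideal m contains the prime number p, the multiplicative
group 1 + m is annihilated under some power of p: there is n with (1 + x)^(p^n) = 1 for every x in
m. (The published text makes this assertion inside a proof, for Artinian local algebras over the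
Witt ring of a perfect field of characteristic p; only p ∈ m and the nilpotence of m are used.) -/
theorem result
    (R : Type u) [CommRing R] [IsLocalRing R] [IsArtinianRing R]
    (p : ℕ) (hp : p.Prime) (hpm : (p : R) ∈ IsLocalRing.maximalIdeal R) :
    ∃ n : ℕ, ∀ x ∈ IsLocalRing.maximalIdeal R, (1 + x) ^ (p ^ n) = 1 := by
  obtain ⟨N, hN⟩ := (IsArtinianRing.isNilpotent_jacobson_bot (R := R))
  rw [IsLocalRing.jacobson_eq_maximalIdeal ⊥ bot_ne_top] at hN
  have key : ∀ (k : ℕ) (x : R), x ∈ IsLocalRing.maximalIdeal R →
      (1 + x) ^ (p ^ k) - 1 ∈ IsLocalRing.maximalIdeal R ^ (k + 1) := by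
    intro k x hx
    induction k with
    | zero => simpa using hx
    | succ k ih =>
      rw [pow_succ p, pow_mul]
      set a := (1 + x) ^ p ^ k
      have h1 : a ^ p - 1 = (∑ i ∈ Finset.range p, a ^ i) * (a - 1) := (geom_sum_mul a p).symm
      rw [h1, pow_succ' _ (k + 1)]
      refine Ideal.mul_mem_mul ?_ ih
      have h2 : (∑ i ∈ Finset.range p, a ^ i) = (∑ i ∈ Finset.range p, (a ^ i - 1)) + (p : R) := by
        simp [Finset.sum_sub_distrib]
      rw [h2]
      refine add_mem (sum_mem fun i _ => ?_) hpm
      obtain ⟨c, hc⟩ := sub_one_dvd_pow_sub_one a i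
      rw [hc]
      exact Ideal.mul_mem_right _ _ (Ideal.pow_le_self (by omega) ih)
  refine ⟨N, fun x hx => ?_⟩
  have := Ideal.pow_le_pow_right (Nat.le_succ N) (key N x hx)
  rw [hN] at this
  exact sub_eq_zero.1 this

end Groth.Agent.S15495
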