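import Groth.Statements.S15498
import Mathlib.Algebra.BigOperators.Intervals
import Mathlib.Data.Nat.GCD.Basic
import Mathlib.Tactic.Ring
-- import your own Groth.Agent.* helpers here

set_option autoImplicit false
open NewtonPoly

namespace Groth.Agent.S15498

theorem ceil_eq (h q r : ℕ) (h0 : 0 < r) (h1 : r ≤ h) : (h * q + r + h - 1) / h = q + 1 :=
  Nat.div_eq_of_lt_le (by rw [add_mul, one_mul, mul_comm]; omega)
    (by rw [add_mul, add_mul, one_mul, mul_comm]; omega)

/-- Let m, n ≥ 1 be coprime, h = m + n, δ the segment from (0,0) to (h,m) (the isoclinic Newton polygon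
of slope m/h) and ρ the ordinary polygon with n slopes 0 followed with m slopes 1, so ρ(i) = max(0,
i − n). The integer points (i,j), 0 ≤ i ≤ h, on or above ρ and strictly below δ — that is max(0, i −
n) ≤ j and j·h < i·m — are (m−1)(n−1)/2 + (m+n−1) in number (which equals mn − r for r =
(m−1)(n−1)/2). (The published text works under m ≥ n > 0 coprime; the inequality m ≥ n is not used
and not assumed.) -/
theorem result
    (m n : ℕ) (hm : 0 < m) (hn : 0 < n) (hmn : Nat.Coprime m n) :
    ((Finset.range (m + n + 1) ×ˢ Finset.range (m + 1)).filter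
      (fun ij : ℕ × ℕ => ij.1 ≤ ij.2 + n ∧ ij.2 * (m + n) < ij.1 * m)).card
      = (m - 1) * (n - 1) / 2 + (m + n - 1) := by
  obtain ⟨h, hh⟩ : ∃ h, h = m + n := ⟨_, rfl⟩
  rw [← hh]
  let c : ℕ → ℕ := fun i => (i * m + h - 1) / h
  let F : ℕ → ℕ := fun i => ((Finset.range (m + 1)).filter fun j => i ≤ j + n ∧ j * h < i * m).card
  have hcard : ((Finset.range (h + 1) ×ˢ Finset.range (m + 1)).filter
      fun ij : ℕ × ℕ => ij.1 ≤ ij.2 + n ∧ ij.2 * h < ij.1 * m).card = ∑ i ∈ Finset.range (h + 1), F i := by
    rw [Finset.card_filter, Finset.sum_product]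
    exact Finset.sum_congr rfl fun i _ => (Finset.card_filter _ _).symm
  have hF : ∀ i ∈ Finset.range (h + 1), F i + (i - n) = c i := by
    intro i hi
    simp only [Finset.mem_range] at hi
    have him : i * m ≤ h * m := Nat.mul_le_mul_right m (by omega)
    have key : ∀ j, j < c i ↔ j * h < i * m := fun j => by
      rw [← Nat.succ_le_iff, Nat.le_div_iff_mul_le (by omega), Nat.succ_mul]
      omega
    have hle : i - n ≤ c i := by
      rw [Nat.le_div_iff_mul_le (by omega)]
      rcases le_or_gt i n with hin | hin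
      · simp [Nat.sub_eq_zero_of_le hin]
      · obtain ⟨k, rfl⟩ : ∃ k, i = n + k := ⟨i - n, by omega⟩
        have : k * n ≤ m * n := Nat.mul_le_mul_right n (by omega)
        rw [Nat.add_sub_cancel_left, hh, mul_add, add_mul]
        have : m * n = n * m := mul_comm m n
        omega
    have e : ((Finset.range (m + 1)).filter fun j => i ≤ j + n ∧ j * h < i * m) = Finset.Ico (i - n) (c i) := by
      ext j
      simp only [Finset.mem_filter, Finset.mem_range, Finset.mem_Ico, key]
      refine ⟨fun hj => ⟨by omega, hj.2.2⟩, fun hj => ⟨?_, by omega, hj.2⟩⟩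
      have hlt : j * h < m * h := by rw [mul_comm m h]; omega
      exact Nat.lt_succ_of_lt (Nat.lt_of_mul_lt_mul_right hlt)
    show ((Finset.range (m + 1)).filter fun j => i ≤ j + n ∧ j * h < i * m).card + (i - n) = c i
    rw [e, Nat.card_Ico]
    omega
  have hsub : 2 * ∑ i ∈ Finset.range (h + 1), (i - n) = m * (m + 1) := by
    rw [show h + 1 = n + (m + 1) by omega, Finset.sum_range_add,
      Finset.sum_eq_zero (fun i hi => by simp only [Finset.mem_range] at hi; omega), zero_add,
      Finset.sum_congr rfl (fun i _ => Nat.add_sub_cancel_left n i), mul_comm 2,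
      Finset.sum_range_id_mul_two, Nat.add_sub_cancel, mul_comm]
  have hpair : ∀ i ∈ Finset.range (h + 1), c i + c (h - i) = if i = 0 ∨ i = h then m else m + 1 := by
    intro i hi
    simp only [Finset.mem_range] at hi
    have hend : c 0 + c h = m := by
      show (0 * m + h - 1) / h + (h * m + h - 1) / h = m
      rw [zero_mul, zero_add, Nat.div_eq_of_lt (by omega), zero_add]
      exact Nat.div_eq_of_lt_le (by rw [mul_comm]; omega) (by rw [add_mul, one_mul, mul_comm]; omega)
    split_ifs with hc
    · rcases hc with rfl | rfl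
      · simpa using hend
      · rw [Nat.sub_self, add_comm]; exact hend
    · obtain ⟨q, r, hr0, hrh, hqr⟩ : ∃ q r, 0 < r ∧ r < h ∧ i * m = h * q + r := by
        refine ⟨i * m / h, i * m % h, Nat.pos_of_ne_zero fun h0 => ?_, Nat.mod_lt _ (by omega),
          (Nat.div_add_mod _ _).symm⟩
        have hdvd : h ∣ i := by
          refine (Nat.Coprime.dvd_mul_right ?_).1 (Nat.dvd_of_mod_eq_zero h0)
          rw [hh, Nat.coprime_comm, Nat.coprime_self_add_right]
          exact hmn
        exact absurd (Nat.le_of_dvd (by omega) hdvd) (by omega)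
      have hq : q < m := by
        by_contra hqm
        have h1 := Nat.mul_le_mul_left h (not_lt.1 hqm)
        have h2 : i * m ≤ h * m := Nat.mul_le_mul_right m (by omega)
        omega
      obtain ⟨w, rfl⟩ : ∃ w, m = q + 1 + w := ⟨m - (q + 1), by omega⟩
      have h3 : (h - i) * (q + 1 + w) = h * w + (h - r) := by
        rw [Nat.sub_mul, hqr, mul_add, mul_add, mul_one]
        omega
      show (i * (q + 1 + w) + h - 1) / h + ((h - i) * (q + 1 + w) + h - 1) / h = q + 1 + w + 1
      rw [hqr, h3, ceil_eq h q r hr0 hrh.le, ceil_eq h w (h - r) (by omega) (by omega)]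
      omega
  have hC : 2 * ∑ i ∈ Finset.range (h + 1), c i + (m + 1) = h * (m + 1) + 2 * m := by
    rw [two_mul]
    conv_lhs => arg 1; arg 2; rw [← Finset.sum_range_reflect]
    rw [← Finset.sum_add_distrib, Finset.sum_congr rfl (g := fun i => if i = 0 ∨ i = h then m else m + 1)
      (fun i hi => by rw [show h + 1 - 1 - i = h - i by omega]; exact hpair i hi)]
    obtain ⟨k, hk⟩ : ∃ k, h = k + 1 := ⟨h - 1, by omega⟩
    subst hk
    rw [Finset.sum_range_succ, Finset.sum_range_succ']
    rw [if_pos (Or.inr rfl), if_pos (Or.inl rfl)]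
    rw [Finset.sum_congr rfl (fun i hi => if_neg (by simp only [Finset.mem_range] at hi; omega)),
      Finset.sum_const, Finset.card_range, nsmul_eq_mul, Nat.cast_id]
    ring
  rw [hcard]
  have hsum : (∑ i ∈ Finset.range (h + 1), F i) + ∑ i ∈ Finset.range (h + 1), (i - n) =
      ∑ i ∈ Finset.range (h + 1), c i := by rw [← Finset.sum_add_distrib]; exact Finset.sum_congr rfl hF
  obtain ⟨a, rfl⟩ : ∃ a, m = a + 1 := ⟨m - 1, by omega⟩
  obtain ⟨b, rfl⟩ : ∃ b, n = b + 1 := ⟨n - 1, by omega⟩
  simp only [Nat.add_sub_cancel]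
  subst hh
  ring_nf at hsub hC hsum ⊢
  omega

end Groth.Agent.S15498
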