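import Groth.Statements.S17853
import Groth.Agent.CAlg.Horrocks.Main

set_option autoImplicit false
open Polynomial LaurentPolynomial TensorProduct
universe u
open CAlg

namespace Groth.Agent.S17853

open Polynomial Groth.Agent.CAlg.Horrocks

/-- A bundle on the affine line extending to the projective line is extended from the base. -/
theorem extended_of_glues (A : Type u) [CommRing A] (M : Type u) [AddCommGroup M] [Module A[X] M]
    [Module.Finite A[X] M] [Module.Projective A[X] M]
    (N : Type u) [AddCommGroup N] [Module A[X] N] [Module.Finite A[X] N] [Module.Projective A[X] N]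
    (e : (A[T;T⁻¹] ⊗[A[X]] M) ≃+ (A[T;T⁻¹] ⊗[A[X]] N))
    (he : ∀ (a : A[T;T⁻¹]) (m : A[T;T⁻¹] ⊗[A[X]] M),
      e (a • m) = LaurentPolynomial.invert a • e m) :
    ∃ (P : Type u) (_ : AddCommGroup P) (_ : Module A P),
      Module.Finite A P ∧ Module.Projective A P ∧ Nonempty (M ≃ₗ[A[X]] (A[X] ⊗[A] P)) := by
  classical
  refine exists_extended M fun I hI => ?_
  set I₁ : Ideal A[X] := I.comap Polynomial.constantCoeff
  have : I₁.IsMaximal := Ideal.comap_isMaximal_of_surjective _ fun a => ⟨Polynomial.C a, by simp⟩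
  obtain ⟨r, n, n', G, hG, hnn, hnn'⟩ := exists_near I₁ N
  set bL := Algebra.TensorProduct.basis A[T;T⁻¹] (Pi.basisFun A[X] (Fin r))
  have hinv : ∀ l : A[T;T⁻¹], LaurentPolynomial.invert (LaurentPolynomial.invert l) = l :=
    fun l => LaurentPolynomial.invert.left_inv l
  set EN : A[T;T⁻¹] ⊗[A[X]] N →ₗ[A[T;T⁻¹]] (Fin r → A[T;T⁻¹]) :=
    bL.equivFun.toLinearMap ∘ₗ n'.baseChange A[T;T⁻¹]
  set FN : (Fin r → A[T;T⁻¹]) →ₗ[A[T;T⁻¹]] A[T;T⁻¹] ⊗[A[X]] N :=
    n.baseChange A[T;T⁻¹] ∘ₗ bL.equivFun.symm.toLinearMap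
  have hbc : ∀ (Q : Type u) [AddCommGroup Q] [Module A[X] Q] (z : A[T;T⁻¹] ⊗[A[X]] Q),
      (G • LinearMap.id (R := A[X]) (M := Q)).baseChange A[T;T⁻¹] z =
        algebraMap A[X] A[T;T⁻¹] G • z := by
    intro Q _ _ z
    rw [LinearMap.baseChange_smul, LinearMap.baseChange_id, LinearMap.smul_apply,
      LinearMap.id_apply, algebraMap_smul]
  have hFE : ∀ z, FN (EN z) = algebraMap A[X] A[T;T⁻¹] G • z := by
    intro z
    simp only [FN, EN, LinearMap.comp_apply, LinearEquiv.coe_coe, LinearEquiv.symm_apply_apply]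
    rw [← LinearMap.comp_apply, ← LinearMap.baseChange_comp,
      show n ∘ₗ n' = G • LinearMap.id from LinearMap.ext hnn, hbc]
  have hEF : ∀ y, EN (FN y) = algebraMap A[X] A[T;T⁻¹] G • y := by
    intro y
    simp only [FN, EN, LinearMap.comp_apply, LinearEquiv.coe_coe]
    rw [← LinearMap.comp_apply (n'.baseChange A[T;T⁻¹]), ← LinearMap.baseChange_comp,
      show n' ∘ₗ n = G • LinearMap.id from LinearMap.ext hnn', hbc, map_smul,
      LinearEquiv.apply_symm_apply]
  set gi := LaurentPolynomial.invert (algebraMap A[X] A[T;T⁻¹] G)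
  let αL : A[T;T⁻¹] ⊗[A[X]] M →ₗ[A[T;T⁻¹]] (Fin r → A[T;T⁻¹]) :=
    { toFun := fun z i => LaurentPolynomial.invert (EN (e z) i)
      map_add' := fun z w => by ext1 i; simp
      map_smul' := fun a z => by ext1 i; simp [he, hinv] }
  let βL : (Fin r → A[T;T⁻¹]) →ₗ[A[T;T⁻¹]] A[T;T⁻¹] ⊗[A[X]] M :=
    { toFun := fun y => e.symm (FN fun i => LaurentPolynomial.invert (y i))
      map_add' := fun y w => by
        rw [← map_add, ← map_add]; congr 2; ext1 i; simp
      map_smul' := fun a y => by
        apply e.injective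
        rw [RingHom.id_apply, he, AddEquiv.apply_symm_apply, AddEquiv.apply_symm_apply, ← map_smul]
        congr 1; ext1 i; simp }
  have hαβ : ∀ y, αL (βL y) = gi • y := by
    intro y; ext1 i
    simp [αL, βL, hEF, gi, hinv]
  have hβα : ∀ z, βL (αL z) = gi • z := by
    intro z
    apply e.injective
    rw [he]
    simp only [αL, βL, LinearMap.coe_mk, AddHom.coe_mk, AddEquiv.apply_symm_apply, hinv, gi]
    exact hFE (e z)
  -- clear denominators
  set j : M →ₗ[A[X]] A[T;T⁻¹] ⊗[A[X]] M := TensorProduct.mk A[X] A[T;T⁻¹] M 1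
  have hloc : IsLocalizedModule (Submonoid.powers (Polynomial.X : A[X])) j :=
    (isLocalizedModule_iff_isBaseChange (Submonoid.powers (Polynomial.X : A[X])) A[T;T⁻¹] j).2
      (TensorProduct.isBaseChange A[X] M A[T;T⁻¹])
  obtain ⟨m, p, i, -, hi, hpi⟩ := Module.Finite.exists_comp_eq_id_of_projective A[X] M
  have hpx : ∀ z, p (i z) = z := LinearMap.congr_fun hpi
  have hjinj : Function.Injective j := by
    refine (injective_iff_map_eq_zero j).2 fun x hx => ?_
    obtain ⟨⟨_, k, rfl⟩, hk⟩ :=
      (IsLocalizedModule.eq_zero_iff (Submonoid.powers (Polynomial.X : A[X])) j).1 hx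
    have hk' : (Polynomial.X : A[X]) ^ k • x = 0 := hk
    have : i x = 0 := funext fun t =>
      (Polynomial.monic_X_pow k).mul_right_eq_zero_iff.1 (by
        simpa using congrFun (congrArg i hk') t)
    rw [← hpx x, this, map_zero]
  have hsL : ∀ y : Fin r → A[T;T⁻¹], ∃ k : ℕ, ∃ q : Fin r → A[X],
      (fun t => algebraMap A[X] A[T;T⁻¹] (q t)) = algebraMap A[X] A[T;T⁻¹] (Polynomial.X ^ k) • y := by
    intro y
    obtain ⟨⟨_, k, rfl⟩, hk⟩ := IsLocalization.exist_integer_multiples_of_finite
      (Submonoid.powers (Polynomial.X : A[X])) y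
    choose q hq using hk
    exact ⟨k, q, funext fun t => by rw [hq t, Pi.smul_apply, algebraMap_smul]⟩
  have hsM : ∀ z, ∃ k : ℕ, ∃ x : M, j x = algebraMap A[X] A[T;T⁻¹] (Polynomial.X ^ k) • z := by
    intro z
    obtain ⟨⟨x, ⟨_, k, rfl⟩⟩, hk⟩ :=
      IsLocalizedModule.surj (Submonoid.powers (Polynomial.X : A[X])) j z
    exact ⟨k, x, by rw [algebraMap_smul]; exact hk.symm⟩
  choose ku qu hqu using fun t : Fin m => hsL (αL (j (p (Pi.single t 1))))
  choose kv xv hxv using fun t : Fin r => hsM (βL (Pi.single t 1))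
  set K := Finset.univ.sup ku
  set L := Finset.univ.sup kv
  set u₀ : (Fin m → A[X]) →ₗ[A[X]] (Fin r → A[X]) :=
    Fintype.linearCombination A[X] fun t => (Polynomial.X : A[X]) ^ (K - ku t) • qu t
  set v : (Fin r → A[X]) →ₗ[A[X]] M :=
    Fintype.linearCombination A[X] fun t => (Polynomial.X : A[X]) ^ (L - kv t) • xv t
  set emb : (Fin r → A[X]) →ₗ[A[X]] (Fin r → A[T;T⁻¹]) :=
    LinearMap.pi fun t => (Algebra.linearMap A[X] A[T;T⁻¹]) ∘ₗ LinearMap.proj t
  have hembinj : Function.Injective emb := fun y w h => funext fun t =>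
    Polynomial.toLaurent_injective (by simpa [emb] using congrFun h t)
  have hu₀ : ∀ y, emb (u₀ y) =
      algebraMap A[X] A[T;T⁻¹] (Polynomial.X ^ K) • αL (j (p y)) := by
    have : emb ∘ₗ u₀ = (algebraMap A[X] A[T;T⁻¹] (Polynomial.X ^ K)) •
        ((αL.restrictScalars A[X]) ∘ₗ j ∘ₗ p) := by
      refine (Pi.basisFun A[X] (Fin m)).ext fun t => ?_
      simp only [LinearMap.comp_apply, LinearMap.smul_apply, LinearMap.coe_restrictScalars,
        Pi.basisFun_apply, u₀, Fintype.linearCombination_apply_single, one_smul, map_smul]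
      rw [show emb (qu t) = _ from hqu t, algebraMap_smul, algebraMap_smul, smul_smul, ← pow_add,
        Nat.sub_add_cancel (Finset.le_sup (Finset.mem_univ t))]
    exact LinearMap.congr_fun this
  have hv : ∀ y, j (v y) = algebraMap A[X] A[T;T⁻¹] (Polynomial.X ^ L) • βL (emb y) := by
    have : j ∘ₗ v = (algebraMap A[X] A[T;T⁻¹] (Polynomial.X ^ L)) •
        ((βL.restrictScalars A[X]) ∘ₗ emb) := by
      refine (Pi.basisFun A[X] (Fin r)).ext fun t => ?_
      have hs : emb (Pi.single t 1) = Pi.single t 1 := by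
        ext1 s; rcases eq_or_ne s t with rfl | h <;> simp [emb, *]
      simp only [LinearMap.comp_apply, LinearMap.smul_apply, LinearMap.coe_restrictScalars,
        Pi.basisFun_apply, v, Fintype.linearCombination_apply_single, one_smul, map_smul, hs]
      rw [hxv t, algebraMap_smul, algebraMap_smul, smul_smul, ← pow_add,
        Nat.sub_add_cancel (Finset.le_sup (Finset.mem_univ t))]
    exact LinearMap.congr_fun this
  set d := G.natDegree
  set H := (Polynomial.X : A[X]) ^ (K + L) * G.reverse
  have hH : algebraMap A[X] A[T;T⁻¹] H =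
      algebraMap A[X] A[T;T⁻¹] (Polynomial.X ^ (d + K + L)) * gi := by
    simp only [H, gi, LaurentPolynomial.algebraMap_eq_toLaurent, map_mul, map_pow,
      Polynomial.toLaurent_X, LaurentPolynomial.T_pow, LaurentPolynomial.toLaurent_reverse]
    rw [mul_left_comm, mul_comm, ← LaurentPolynomial.T_add]
    congr 2
    push_cast
    ring
  refine ⟨r, (Polynomial.X : A[X]) ^ d • (u₀ ∘ₗ i), v, H, ?_, ?_, ?_⟩
  · have h0 : G.coeff 0 ∉ I := fun h => hI.ne_top ((Ideal.eq_top_iff_one I).2 (by
      have h1 : G.coeff 0 - 1 ∈ I := by simpa [I₁] using hG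
      simpa using I.sub_mem h h1))
    have hne : G.coeff 0 ≠ 0 := fun h => h0 (h ▸ I.zero_mem)
    rw [show H.leadingCoeff = G.reverse.leadingCoeff from
      Polynomial.leadingCoeff_monic_mul (Polynomial.monic_X_pow _), Polynomial.reverse_leadingCoeff,
      Polynomial.trailingCoeff,
      Polynomial.natTrailingDegree_eq_zero.2 (Or.inr hne)]
    exact h0
  · intro y
    apply hembinj
    rw [LinearMap.smul_apply, LinearMap.comp_apply, map_smul, map_smul, hu₀, hpx, hv, map_smul,
      hαβ, smul_smul, smul_smul, ← algebraMap_smul A[T;T⁻¹] (Polynomial.X ^ d : A[X]), smul_smul,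
      ← algebraMap_smul A[T;T⁻¹] H, hH, pow_add, pow_add, map_mul, map_mul]
    simp only [mul_assoc]
  · intro x
    apply hjinj
    rw [LinearMap.smul_apply, LinearMap.comp_apply, map_smul, map_smul, hv, hu₀, hpx, map_smul βL,
      hβα, smul_smul, smul_smul, ← algebraMap_smul A[T;T⁻¹] (Polynomial.X ^ d : A[X]), smul_smul,
      map_smul, ← algebraMap_smul A[T;T⁻¹] H, hH, pow_add, pow_add, map_mul, map_mul]
    congr 1
    ring

/-- For an arbitrary commutative ring A, a finitely generated projective A[t]-module M is extended from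
A (isomorphic to A[t] ⊗_A P for an A-module P) if and only if it extends to a vector bundle on the
projective line over A. The latter is stated by gluing: there are a finitely generated projective
module N over the polynomial ring of the chart at infinity and an isomorphism over the Laurent
polynomial ring between the localisation of M and the base change of N along s ↦ t⁻¹, written as a
bijective additive map A[t,t⁻¹] ⊗ M → A[t,t⁻¹] ⊗ N that is semilinear with respect to the A-algebra
involution t ↦ t⁻¹ of A[t,t⁻¹]. (The published statement adds: for A semilocal, M is then free on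
each connected component of the affine line.) -/
theorem result
    (A : Type u) [CommRing A] (M : Type u) [AddCommGroup M] [Module A[X] M]
    [Module.Finite A[X] M] [Module.Projective A[X] M] :
    (∃ (P : Type u) (_ : AddCommGroup P) (_ : Module A P), Nonempty (M ≃ₗ[A[X]] (A[X] ⊗[A] P))) ↔
      ∃ (N : Type u) (_ : AddCommGroup N) (_ : Module A[X] N),
        Module.Finite A[X] N ∧ Module.Projective A[X] N ∧
        ∃ e : (A[T;T⁻¹] ⊗[A[X]] M) →ₛₗ[(LaurentPolynomial.invert (R := A)).toRingEquiv.toRingHom]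
            (A[T;T⁻¹] ⊗[A[X]] N), Function.Bijective e := by
  constructor
  · rintro ⟨P, _, _, ⟨f⟩⟩
    have : IsScalarTower A A[X] A[T;T⁻¹] := IsScalarTower.of_algebraMap_eq fun a => by simp
    let Φ : A[T;T⁻¹] ⊗[A[X]] M ≃ₗ[A[T;T⁻¹]] A[T;T⁻¹] ⊗[A] P :=
      (LinearEquiv.baseChange A[X] A[T;T⁻¹] M (A[X] ⊗[A] P) f) ≪≫ₗ
        TensorProduct.AlgebraTensorModule.cancelBaseChange A A[X] A[T;T⁻¹] A[T;T⁻¹] P
    let σ : A[T;T⁻¹] ⊗[A] P ≃ₗ[A] A[T;T⁻¹] ⊗[A] P :=
      TensorProduct.congr (LaurentPolynomial.invert (R := A)).toLinearEquiv (LinearEquiv.refl A P)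
    have hσ : ∀ (c : A[T;T⁻¹]) z, σ (c • z) = LaurentPolynomial.invert c • σ z := by
      intro c z
      induction z using TensorProduct.induction_on with
      | zero => simp
      | tmul a b =>
        rw [TensorProduct.smul_tmul', smul_eq_mul]
        simp [σ, TensorProduct.smul_tmul']
      | add z w hz hw => rw [smul_add, map_add, map_add, hz, hw, smul_add]
    refine ⟨M, inferInstance, inferInstance, inferInstance, inferInstance,
      { toFun := fun z => Φ.symm (σ (Φ z))
        map_add' := fun z w => by simp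
        map_smul' := fun c z => by simp [hσ] }, ?_⟩
    exact (Φ.symm.bijective.comp σ.bijective).comp Φ.bijective
  · rintro ⟨N, _, _, hN₁, hN₂, e, he⟩
    obtain ⟨P, _, _, -, -, hP⟩ := extended_of_glues A M N
      (AddEquiv.ofBijective e.toAddMonoidHom he) (fun a m => e.map_smulₛₗ a m)
    exact ⟨P, inferInstance, inferInstance, hP⟩

end Groth.Agent.S17853
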