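import Groth.Statements.S15499
import Groth.Agent.S17853

set_option autoImplicit false
open Polynomial LaurentPolynomial
open scoped TensorProduct
universe u
open CAlg

namespace Groth.Agent.S15499

open Groth.Agent.CAlg.Horrocks

/-- Two maps composing to a unit make a free localisation. -/
theorem free_localized {S : Type u} [CommRing S] (g : S) {r : ℕ} (P : Type u) [AddCommGroup P]
    [Module S P] (f₁ : (Fin r → S) →ₗ[S] P) (f₂ : P →ₗ[S] (Fin r → S))
    (h₁ : ∀ x, f₁ (f₂ x) = g • x) (h₂ : ∀ y, f₂ (f₁ y) = g • y) :
    Module.Free (Localization.Away g) (LocalizedModule (Submonoid.powers g) P) := by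
  have hg : IsUnit (algebraMap S (Localization.Away g) g) :=
    IsLocalization.Away.algebraMap_isUnit g
  set k₁ := LocalizedModule.map (Submonoid.powers g) f₁
  set k₂ := LocalizedModule.map (Submonoid.powers g) f₂
  have e₁ : ∀ z, k₁ (k₂ z) = algebraMap S (Localization.Away g) g • z := fun z => by
    induction z using LocalizedModule.induction_on with
    | h m s => simp [k₁, k₂, h₁, algebraMap_smul, LocalizedModule.smul'_mk]
  have e₂ : ∀ z, k₂ (k₁ z) = algebraMap S (Localization.Away g) g • z := fun z => by
    induction z using LocalizedModule.induction_on with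
    | h m s => simp [k₁, k₂, h₂, algebraMap_smul, LocalizedModule.smul'_mk]
  have hb : Function.Bijective k₁ := by
    refine ⟨fun a b hab => ?_, fun z => ⟨k₂ (((hg.unit⁻¹ : _ˣ) : Localization.Away g) • z), ?_⟩⟩
    · have := congrArg k₂ hab
      rw [e₂, e₂] at this
      exact hg.smul_left_cancel.1 this
    · rw [e₁, smul_smul, IsUnit.mul_val_inv, one_smul]
  have : Module.Free (Localization.Away g)
      (LocalizedModule (Submonoid.powers g) (Fin r → S)) :=
    Module.free_of_isLocalizedModule (Submonoid.powers g)
      (LocalizedModule.mkLinearMap (Submonoid.powers g) (Fin r → S))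
  exact Module.Free.of_equiv (LinearEquiv.ofBijective k₁ hb)

/-- Let S = Spec R be a smooth connected affine complex variety, so that R is a finitely generated
smooth ℂ-algebra and an integral domain, and let F be a locally free sheaf of finite rank on the
projective line over S, presented by its two standard charts: a finitely generated projective
R[X]-module P on the affine line over S, a finitely generated projective R[X]-module P' on the chart
at infinity, and an identification of their base changes to R[X, X⁻¹] that is additive, bijective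
and semilinear over the R-algebra involution X ↦ X⁻¹. Then S is covered by basic open sets D(g_1),
…, D(g_n) such that F restricted to the affine line over each D(g_i) is free: the localisation of P
at g_i is a free module over the localisation of R[X] at g_i. -/
theorem result
    (R : Type u) [CommRing R] [IsDomain R] [Algebra ℂ R] [Algebra.FiniteType ℂ R]
    [Algebra.Smooth ℂ R]
    (P : Type u) [AddCommGroup P] [Module R[X] P] [Module.Finite R[X] P]
    [Module.Projective R[X] P]
    (P' : Type u) [AddCommGroup P'] [Module R[X] P'] [Module.Finite R[X] P']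
    [Module.Projective R[X] P']
    (e : R[T;T⁻¹] ⊗[R[X]] P ≃+ R[T;T⁻¹] ⊗[R[X]] P')
    (he : ∀ (a : R[T;T⁻¹]) (m : R[T;T⁻¹] ⊗[R[X]] P),
      e (a • m) = LaurentPolynomial.invert a • e m) :
    ∃ (n : ℕ) (g : Fin n → R), Ideal.span (Set.range g) = ⊤ ∧
      ∀ i, Module.Free (Localization.Away (Polynomial.C (g i) : R[X]))
        (LocalizedModule (Submonoid.powers (Polynomial.C (g i) : R[X])) P) := by
  classical
  obtain ⟨P0, _, _, _, _, ⟨φ⟩⟩ := Groth.Agent.S17853.extended_of_glues R P P' e he
  have hloc : ∀ I : MaximalSpectrum R, ∃ g : R, g ∉ I.asIdeal ∧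
      Module.Free (Localization.Away (Polynomial.C g : R[X]))
        (LocalizedModule (Submonoid.powers (Polynomial.C g : R[X])) P) := by
    intro I
    have := I.isMaximal
    obtain ⟨r, n, n', G, hG, hnn, hnn'⟩ := exists_near I.asIdeal P0
    refine ⟨G, fun h => I.isMaximal.ne_top ((Ideal.eq_top_iff_one _).2
      (by simpa using I.asIdeal.sub_mem h hG)), ?_⟩
    set em : R[X] ⊗[R] (Fin r → R) ≃ₗ[R[X]] (Fin r → R[X]) :=
      (Algebra.TensorProduct.basis R[X] (Pi.basisFun R (Fin r))).equivFun
    refine free_localized (r := r) (Polynomial.C G) P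
      (φ.symm.toLinearMap ∘ₗ n.baseChange R[X] ∘ₗ em.symm.toLinearMap)
      (em.toLinearMap ∘ₗ n'.baseChange R[X] ∘ₗ φ.toLinearMap) (fun x => ?_) (fun y => ?_)
    · simp only [LinearMap.comp_apply, LinearEquiv.coe_coe, LinearEquiv.symm_apply_apply]
      rw [← LinearMap.comp_apply (n.baseChange R[X]), ← LinearMap.baseChange_comp,
        show n ∘ₗ n' = G • LinearMap.id from LinearMap.ext hnn, LinearMap.baseChange_smul,
        LinearMap.baseChange_id, LinearMap.smul_apply, LinearMap.id_apply,
        ← algebraMap_smul R[X] G, map_smul, LinearEquiv.symm_apply_apply]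
      rfl
    · simp only [LinearMap.comp_apply, LinearEquiv.coe_coe, LinearEquiv.apply_symm_apply]
      rw [← LinearMap.comp_apply (n'.baseChange R[X]), ← LinearMap.baseChange_comp,
        show n' ∘ₗ n = G • LinearMap.id from LinearMap.ext hnn', LinearMap.baseChange_smul,
        LinearMap.baseChange_id, LinearMap.smul_apply, LinearMap.id_apply,
        ← algebraMap_smul R[X] G, map_smul, LinearEquiv.apply_symm_apply]
      rfl
  choose g hg hfree using hloc
  have htop : Ideal.span (Set.range g) = ⊤ := by
    by_contra hne
    obtain ⟨I, hI, hle⟩ := Ideal.exists_le_maximal _ hne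
    exact hg ⟨I, hI⟩ (hle (Ideal.subset_span ⟨⟨I, hI⟩, rfl⟩))
  obtain ⟨T, hT, h1⟩ := Submodule.mem_span_finite_of_mem_span
    ((Ideal.eq_top_iff_one _).1 htop : (1 : R) ∈ Submodule.span R (Set.range g))
  refine ⟨T.card, fun i => (T.equivFin.symm i : R), (Ideal.eq_top_iff_one _).2 ?_, fun i => ?_⟩
  · refine Submodule.span_mono (fun x hx => ?_) h1
    exact ⟨T.equivFin ⟨x, hx⟩, by simp⟩
  · obtain ⟨I, hI⟩ := hT (T.equivFin.symm i).2
    show Module.Free (Localization.Away (Polynomial.C ((T.equivFin.symm i : R)) : R[X]))
        (LocalizedModule (Submonoid.powers (Polynomial.C ((T.equivFin.symm i : R)) : R[X])) P)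
    rw [← hI]
    exact hfree I

end Groth.Agent.S15499
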