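import Groth.Statements.S9694
import Groth.Agent.Props.AmpleProper
import Groth.Agent.Props.AmpleRel

set_option autoImplicit false
universe u
open CategoryTheory CategoryTheory.Limits AlgebraicGeometry
open Mor

namespace Groth.Agent.S9694

/-- Let f : X ⟶ S be universally closed, L an O_X-module ample relative to f and s a global section of
L, viewed as a morphism O_X ⟶ L. Then the open subscheme X_s of X where s generates L is affine over
S: the inclusion of X_s followed by f is an affine morphism. -/
theorem result {X S : Scheme.{u}} (f : X ⟶ S) [UniversallyClosed f]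
    (L : X.Modules) (hL : RelAmple.IsRelAmple f L) (s : Coh.structureModule X ⟶ L) :
    IsAffineHom ((CohB1.genLocus L s).ι ≫ f) := by
  have hiL := Props.AmpleRel.isInvertible_of_isRelAmple hL
  obtain ⟨t, ht⟩ := Props.AmpleProper.exists_pow_one hiL s
  refine ⟨fun V hV => ?_⟩
  have : IsAffine V.toScheme := hV
  obtain ⟨t', ht', -⟩ := Props.GenPull.exists_pull (f ⁻¹ᵁ V).ι hiL t
  have : UniversallyClosed (f ∣_ V) := IsZariskiLocalAtTarget.restrict (P := @UniversallyClosed) ‹UniversallyClosed f› V
  have h1 := Props.AmpleProper.isAffineOpen_genLocus (f ∣_ V)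
    (Props.AmpleRel.isAmple_pullback_preimage hL ⟨V, hV⟩) t'
  rw [ht', ht, ← (f ⁻¹ᵁ V).ι.isAffineOpen_iff_of_isOpenImmersion,
    Scheme.Hom.image_preimage_eq_opensRange_inf, Scheme.Opens.opensRange_ι] at h1
  rw [Scheme.Hom.comp_preimage, ← (CohB1.genLocus L s).ι.isAffineOpen_iff_of_isOpenImmersion,
    Scheme.Hom.image_preimage_eq_opensRange_inf, Scheme.Opens.opensRange_ι, inf_comm]
  exact h1

end Groth.Agent.S9694
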