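import Groth.Statements.S15500
import Groth.Agent.S12128
import Groth.Agent.S9694
import Groth.Agent.S1184
import Groth.Agent.S1618
import Groth.Agent.S4413
import Groth.Agent.S4642
import Groth.Agent.CurvLoci.SmoothDim1
import Groth.Agent.EulerChar.AmpleCurve
import Groth.Agent.AbSch51.InvSection
import Groth.Agent.LiftLib.TowerEmbed
import Groth.Agent.PicCl.Basic
import Groth.Agent.ProjProper.Basic
import Groth.Agent.GITLib.RigidGroup
import Groth.Agent.FBase.BC
-- import your own Groth.Agent.* helpers here

set_option autoImplicit false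
open CategoryTheory AlgebraicGeometry
open An

namespace Groth.Agent.S15500

open CategoryTheory.Limits

universe u

set_option backward.isDefEq.respectTransparency false
set_option linter.style.haveILetI false

theorem main {X S : Scheme.{u}} (f : X ⟶ S) (hf : An.IsElementaryFibration f) :
    IsAffineHom f ∧ Surjective f := by
  obtain ⟨Xb, Y, j, fb, i, rfl, hj, hi, hrange, hdense, hsm, ⟨N, c, hc, hcf⟩, hfib, hfin, het, hsur⟩ := hf
  have hpt : ∀ s : S, ∃ x : X, fb.base (j.base x) = s := fun s => by
    obtain ⟨y, hy⟩ := hsur s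
    have h := hdense s (show i.base y ∈ fb.base ⁻¹' {s} from hy)
    obtain ⟨z, ⟨x, rfl⟩, hz⟩ := closure_nonempty_iff.mp ⟨_, h⟩
    exact ⟨x, hz⟩
  refine ⟨?_, ⟨fun s => hpt s⟩⟩
  haveI := hc
  haveI : IsProper (CohB1.ProjSpaceOver.toBase N S) := ProjProper.Basic.isProper_toBase N S
  haveI : IsProper fb := hcf ▸ inferInstance
  haveI := hsm
  have hgeo : ∀ s : S, IrreducibleSpace (fb.fiber s) ∧ topologicalKrullDim (fb.fiber s) = 1 := fun s => by
    let κ := S.residueField s
    letI : Algebra ↥κ (AlgebraicClosure ↥κ) := inferInstance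
    let K := AlgebraicClosure κ
    let p : fb.fiber s ⟶ Spec κ := fb.fiberToSpecResidueField s
    let g : Spec (CommRingCat.of K) ⟶ Spec κ := Spec.map (CommRingCat.ofHom (algebraMap κ K))
    obtain ⟨h1, h2⟩ := hfib K (g ≫ S.fromSpecResidueField s)
    let e : pullback p g ≅ pullback fb (g ≫ S.fromSpecResidueField s) :=
      pullbackLeftPullbackSndIso fb (S.fromSpecResidueField s) g
    let h := Scheme.homeoOfIso e
    haveI := h1
    haveI : IrreducibleSpace ↥(pullback p g) := FBase.BC.irreducibleSpace_of_surjective e.inv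
    have hd : topologicalKrullDim ↥(pullback p g) = 1 := (h.isHomeomorph.topologicalKrullDim_eq).trans h2
    haveI : Surjective g := ⟨fun x => ⟨IsLocalRing.closedPoint K, Subsingleton.elim (α := PrimeSpectrum κ) _ _⟩⟩
    haveI : Surjective (pullback.fst p g) := MorphismProperty.pullback_fst _ _ inferInstance
    refine ⟨FBase.BC.irreducibleSpace_of_surjective (pullback.fst p g), ?_⟩
    exact (Groth.Agent.S4642.result (k := ↥κ) (K := K) p).symm.trans hd
  haveI : SmoothOfRelativeDimension 1 fb := CurvLoci.smoothOfRelativeDimension_of_fibreDim fb 1 fun x => by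
    obtain ⟨hirr, hd⟩ := hgeo (fb.base x)
    let P := fb.fiber (fb.base x)
    letI : P.Over (Spec (CommRingCat.of (S.residueField (fb.base x)))) := ⟨fb.fiberToSpecResidueField (fb.base x)⟩
    haveI : LocallyOfFiniteType (P ↘ Spec (CommRingCat.of (S.residueField (fb.base x)))) :=
      inferInstanceAs (LocallyOfFiniteType (pullback.snd fb _))
    haveI : IrreducibleSpace P := hirr
    show FlatMor.localDim P (fb.asFiber x) = _
    rw [FlatMor.localDim]
    have h : ∀ U : {U : TopologicalSpace.Opens P // fb.asFiber x ∈ U}, topologicalKrullDim (U.1 : Set P) = 1 :=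
      fun U => (Groth.Agent.S1618.result (S.residueField (fb.base x)) P U.1 ⟨_, U.2⟩).trans hd
    haveI : Nonempty {U : TopologicalSpace.Opens P // fb.asFiber x ∈ U} := ⟨⟨⊤, trivial⟩⟩
    simp only [h, ciInf_const, Nat.cast_one]
  haveI := hj
  haveI := hi
  haveI := hfin
  haveI := het
  let I := i.ker
  let eY : Y ⟶ I.subscheme := i.toImage
  have hI : BlowUp.IsEffCartierIdeal I := by
    haveI : IsIso eY := inferInstance
    have e : I.subschemeι ≫ fb = inv eY ≫ (i ≫ fb) := by
      rw [IsIso.eq_inv_comp, ← Category.assoc]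
      exact congrArg (· ≫ fb) i.toImage_imageι
    refine ((Groth.Agent.S1184.result fb I).1.mpr ?_).1
    rw [e]
    exact ⟨inferInstance, inferInstance, inferInstance⟩
  have hsupp : (I.support : Set Xb) = Set.range i.base := by
    rw [show I = i.ker from rfl, Scheme.Hom.support_ker, i.isClosedEmbedding.isClosed_range.closure_eq]
  obtain ⟨σ, hσ⟩ := AbSch51.InvSection.exists_section_dual I hI
  have hL : PicF.IsInvertible (CohB1.tensorPow (RefHull.homSh (ClSub.idealMod I) (Coh.structureModule Xb)) 1) :=
    AmpleLib.isInvertible_tensorPow (AbSch51.InvSection.tensor_dual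
      (IdealSh.IdealMod.isInvertible_of_isEffCartierIdeal I hI)).1 1
  generalize CohB1.tensorPow (RefHull.homSh (ClSub.idealMod I) (Coh.structureModule Xb)) 1 = L at σ hσ hL
  have hgen : (CohB1.genLocus L σ : Set Xb) = Set.range j.base := by rw [hσ, hsupp, hrange]
  have hamp : RelAmple.IsRelAmple fb L := (Groth.Agent.S12128.result fb L hL).2 fun s => by
    obtain ⟨hirr, hd⟩ := hgeo s
    let P := fb.fiber s
    letI : P.Over (Spec (CommRingCat.of (S.residueField s))) := ⟨fb.fiberToSpecResidueField s⟩
    haveI : IsProper (P ↘ Spec (CommRingCat.of (S.residueField s))) :=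
      inferInstanceAs (IsProper (pullback.snd fb _))
    haveI : Smooth (P ↘ Spec (CommRingCat.of (S.residueField s))) :=
      inferInstanceAs (Smooth (pullback.snd fb _))
    haveI : IrreducibleSpace P := hirr
    haveI : AlgebraicGeometry.IsReduced P :=
      GITLib.Rigid.isReduced_of_smooth (P ↘ Spec (CommRingCat.of (S.residueField s)))
    haveI : IsIntegral P := isIntegral_of_irreducibleSpace_of_isReduced P
    obtain ⟨e⟩ := LiftLib.TowerEmbed.nonempty_pullback_structureModule (fb.fiberι s)
    let t := e.inv ≫ (Scheme.Modules.pullback (fb.fiberι s)).map σ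
    have ht : CohB1.genLocus ((Scheme.Modules.pullback (fb.fiberι s)).obj L) t = fb.fiberι s ⁻¹ᵁ CohB1.genLocus L σ :=
      Groth.Agent.S4413.result (fb.fiberι s) L hL σ e.symm
    have hne : ∀ z : Xb, fb.base z = s → ∃ q : P, (fb.fiberι s).base q = z := fun z hz => by
      have : z ∈ Set.range (fb.fiberι s).base := by rw [Scheme.Hom.range_fiberι]; exact hz
      exact this
    have ht0 : t ≠ 0 := fun h0 => by
      obtain ⟨x, hx⟩ := hpt s
      obtain ⟨q, hq⟩ := hne _ hx
      have hq' : q ∈ CohB1.genLocus _ t := by
        rw [ht]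
        show (fb.fiberι s).base q ∈ (CohB1.genLocus L σ : Set Xb)
        rw [hgen, hq]
        exact ⟨x, rfl⟩
      obtain ⟨W, hxW, hW⟩ := (Props.GenLocus.mem_genLocus_iff t _).1 hq'
      rw [h0] at hW
      haveI : Nonempty W := ⟨⟨_, hxW⟩⟩
      exact one_ne_zero (hW.injective le_rfl (a := (1 : Γ(P, W))) (b := 0) (by
        simp [Props.GenLocus.sec]))
    have hLs : PicF.IsInvertible ((Scheme.Modules.pullback (fb.fiberι s)).obj L) :=
      PicLoc.isInvertible_pullback (fb.fiberι s) hL
    refine EulerChar.isAmple_of_deg_pos (S.residueField s) hd hLs ?_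
    obtain ⟨hle, heq⟩ := EulerChar.euler_le_of_ne_zero (PicLoc.isInvertible_structureModule P) hLs t ht0
      (S.residueField s) hd
    rw [Curv2.deg, Nat.cast_one, one_mul]
    rcases hle.lt_or_eq with h | h
    · linarith
    · exfalso
      haveI := heq h
      have htop : CohB1.genLocus _ t = ⊤ := top_le_iff.1
        (le_sSup (show ⊤ ∈ _ from inferInstanceAs (IsIso ((Scheme.Modules.restrictFunctor _).map t))))
      obtain ⟨y, hy⟩ := hsur s
      obtain ⟨q, hq⟩ := hne (i.base y) hy
      have hq' : q ∈ CohB1.genLocus _ t := htop ▸ trivial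
      rw [ht] at hq'
      have : i.base y ∈ (CohB1.genLocus L σ : Set Xb) := hq ▸ hq'
      rw [hgen, hrange] at this
      exact this ⟨y, rfl⟩
  haveI := Groth.Agent.S9694.result fb L hamp σ
  have hU : j.opensRange = CohB1.genLocus L σ := TopologicalSpace.Opens.ext (by rw [hgen]; rfl)
  have e2 : j ≫ fb = (j.isoOpensRange.hom ≫ (Xb.isoOfEq hU).hom) ≫ ((CohB1.genLocus L σ).ι ≫ fb) := by
    simp
  rw [e2]
  infer_instance

/-- An elementary fibration f : X → S of smooth complex varieties is affine and surjective, elementary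
fibration being taken in the following sense: f factors as an open immersion j : X → X̄ followed by
f̄ : X̄ → S, where f̄ is smooth and is a closed subscheme of some projective space over S with
geometrically irreducible fibres of dimension one, the complement of j(X) is the image of a closed
immersion Y → X̄ with Y finite, etale and surjective over S, and j(X) is dense in every fibre of f̄
(for smooth complex varieties the last clause is automatic, and this is the usual notion: a smooth
projective family of irreducible curves minus a finite etale multisection). -/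
theorem result (X S : Scheme.{0})
    [X.Over An.SC] [Smooth (X ↘ An.SC)] [IsSeparated (X ↘ An.SC)] [QuasiCompact (X ↘ An.SC)]
    [S.Over An.SC] [Smooth (S ↘ An.SC)] [IsSeparated (S ↘ An.SC)] [QuasiCompact (S ↘ An.SC)]
    (f : X ⟶ S) [f.IsOver An.SC] (hf : An.IsElementaryFibration f) :
    IsAffineHom f ∧ Surjective f := by
  exact main f hf

end Groth.Agent.S15500
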