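import Groth.Statements.S15501
import Mathlib.AlgebraicGeometry.PullbackCarrier
import Mathlib.AlgebraicGeometry.Morphisms.Etale
import Mathlib.AlgebraicGeometry.Morphisms.ClosedImmersion
import Mathlib.AlgebraicGeometry.Morphisms.Finite
import Mathlib.FieldTheory.IsAlgClosed.AlgebraicClosure
import Mathlib.AlgebraicGeometry.ResidueField

set_option autoImplicit false
open CategoryTheory CategoryTheory.Limits AlgebraicGeometry
open An

namespace Groth.Agent.S15501
universe u

open CategoryTheory.Limits in
theorem isStronglyProjective_snd {Xb S S' : Scheme.{u}} {fb : Xb ⟶ S} (u : S' ⟶ S)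
    (h : An.IsStronglyProjective fb) : An.IsStronglyProjective (pullback.snd fb u) := by
  obtain ⟨n, c, hc, rfl⟩ := h
  haveI := hc
  let q : CohB1.ProjSpaceOver n S' ⟶ CohB1.ProjSpaceOver n S :=
    pullback.lift (pullback.fst _ _) (pullback.snd _ _ ≫ u) (AlgebraicGeometry.specULiftZIsTerminal.hom_ext _ _)
  have hbot : IsPullback q (CohB1.ProjSpaceOver.toBase n S') (CohB1.ProjSpaceOver.toBase n S) u := by
    refine IsPullback.of_right (t := IsPullback.of_hasPullback
      (CohB1.ProjSpace.toSpec n (ULift.{u} ℤ)) (AlgebraicGeometry.specULiftZIsTerminal.from S)) ?_ (pullback.lift_snd _ _ _)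
    have h1 : u ≫ AlgebraicGeometry.specULiftZIsTerminal.from S = AlgebraicGeometry.specULiftZIsTerminal.from S' := AlgebraicGeometry.specULiftZIsTerminal.hom_ext _ _
    rw [h1, show q ≫ pullback.fst _ _ = pullback.fst _ _ from pullback.lift_fst _ _ _]
    exact IsPullback.of_hasPullback _ _
  let c' : pullback (c ≫ CohB1.ProjSpaceOver.toBase n S) u ⟶ CohB1.ProjSpaceOver n S' :=
    hbot.lift (pullback.fst _ _ ≫ c) (pullback.snd _ _) (by rw [Category.assoc, pullback.condition])
  have htop : IsPullback (pullback.fst (c ≫ CohB1.ProjSpaceOver.toBase n S) u) c' c q :=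
    IsPullback.of_bot (by
      rw [show c' ≫ CohB1.ProjSpaceOver.toBase n S' = pullback.snd _ _ from hbot.lift_snd _ _ _]
      exact IsPullback.of_hasPullback _ _) (hbot.lift_fst _ _ _).symm hbot
  exact ⟨n, c', MorphismProperty.of_isPullback htop hc, hbot.lift_snd _ _ _⟩

open CategoryTheory.Limits in
theorem isElementaryFibration_snd {X S S' : Scheme.{u}} {f : X ⟶ S} (u : S' ⟶ S)
    (hf : An.IsElementaryFibration f) : An.IsElementaryFibration (pullback.snd f u) := by
  obtain ⟨Xb, Y, j, fb, i, rfl, hj, hi, hrange, hdense, hsm, hproj, hfib, hfin, het, hsurj⟩ := hf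
  let j' : pullback (j ≫ fb) u ⟶ pullback fb u :=
    pullback.lift (pullback.fst _ _ ≫ j) (pullback.snd _ _) (by rw [Category.assoc, pullback.condition])
  let i' : pullback (i ≫ fb) u ⟶ pullback fb u :=
    pullback.lift (pullback.fst _ _ ≫ i) (pullback.snd _ _) (by rw [Category.assoc, pullback.condition])
  have hjP : IsPullback (pullback.fst (j ≫ fb) u) j' j (pullback.fst fb u) :=
    IsPullback.of_bot (by
      rw [show j' ≫ pullback.snd fb u = pullback.snd _ _ from pullback.lift_snd _ _ _]
      exact IsPullback.of_hasPullback _ _) (pullback.lift_fst _ _ _).symm (IsPullback.of_hasPullback _ _)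
  have hiP : IsPullback (pullback.fst (i ≫ fb) u) i' i (pullback.fst fb u) :=
    IsPullback.of_bot (by
      rw [show i' ≫ pullback.snd fb u = pullback.snd _ _ from pullback.lift_snd _ _ _]
      exact IsPullback.of_hasPullback _ _) (pullback.lift_fst _ _ _).symm (IsPullback.of_hasPullback _ _)
  haveI : IsOpenImmersion j' := MorphismProperty.of_isPullback hjP hj
  have hrj : Set.range j'.base = (pullback.fst fb u).base ⁻¹' Set.range j.base := by
    have h := hjP.flip
    rw [← Scheme.Pullback.range_fst (f := pullback.fst fb u) (g := j), ← h.isoPullback_hom_fst]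
    change Set.range ((pullback.fst (pullback.fst fb u) j).base ∘ h.isoPullback.hom.base) = _
    rw [Set.range_comp, Set.range_eq_univ.2 h.isoPullback.hom.surjective, Set.image_univ]
  have hri : Set.range i'.base = (pullback.fst fb u).base ⁻¹' Set.range i.base := by
    have h := hiP.flip
    rw [← Scheme.Pullback.range_fst (f := pullback.fst fb u) (g := i), ← h.isoPullback_hom_fst]
    change Set.range ((pullback.fst (pullback.fst fb u) i).base ∘ h.isoPullback.hom.base) = _
    rw [Set.range_comp, Set.range_eq_univ.2 h.isoPullback.hom.surjective, Set.image_univ]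
  have hfib' : ∀ (Ω : Type u) [Field Ω] [IsAlgClosed Ω] (σ : Spec (CommRingCat.of Ω) ⟶ S'),
      IrreducibleSpace ↥(pullback (pullback.snd fb u) σ) ∧
        topologicalKrullDim ↥(pullback (pullback.snd fb u) σ) = 1 := by
    intro Ω _ _ σ
    obtain ⟨h1, h2⟩ := hfib Ω (σ ≫ u)
    let e := (pullbackLeftPullbackSndIso fb u σ).inv.homeomorph
    exact ⟨e.irreducibleSpace_iff.1 h1, (IsHomeomorph.topologicalKrullDim_eq _ e.isHomeomorph).symm.trans h2⟩
  refine ⟨pullback fb u, pullback (i ≫ fb) u, j', pullback.snd fb u, i', pullback.lift_snd _ _ _, inferInstance,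
    MorphismProperty.of_isPullback hiP hi, by rw [hrj, hri, hrange, Set.preimage_compl], fun s' => ?_,
    inferInstance, isStronglyProjective_snd u hproj, hfib', ?_, ?_, ?_⟩
  · let Ω := AlgebraicClosure (S'.residueField s')
    let σ : Spec (CommRingCat.of Ω) ⟶ S' :=
      Spec.map (CommRingCat.ofHom (algebraMap (S'.residueField s') Ω)) ≫ S'.fromSpecResidueField s'
    have hσ : Set.range σ.base = {s'} := by
      refine Set.Subset.antisymm (fun y ⟨z, hz⟩ => ?_) ?_
      · rw [← Scheme.range_fromSpecResidueField s', ← hz]
        exact ⟨_, (Scheme.Hom.comp_apply _ _ z).symm⟩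
      · rintro y (hy : y = s')
        let z : Spec (CommRingCat.of Ω) := (default : PrimeSpectrum Ω)
        have : σ z ∈ Set.range (S'.fromSpecResidueField s') := ⟨_, (Scheme.Hom.comp_apply _ _ z).symm⟩
        rw [Scheme.range_fromSpecResidueField] at this
        exact ⟨z, (Set.mem_singleton_iff.1 this).trans hy.symm⟩
    have hF : (pullback.snd fb u).base ⁻¹' {s'} = Set.range (pullback.fst (pullback.snd fb u) σ).base := by
      rw [← hσ]; exact (Scheme.Pullback.range_fst _ _).symm
    haveI := (hfib' Ω σ).1
    have hirr : IsPreirreducible ((pullback.snd fb u).base ⁻¹' {s'}) := by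
      rw [hF, ← Set.image_univ]
      exact (IrreducibleSpace.isIrreducible_univ _).isPreirreducible.image _
        (pullback.fst (pullback.snd fb u) σ).continuous.continuousOn
    have hne : ((pullback.snd fb u).base ⁻¹' {s'} ∩ Set.range j'.base).Nonempty := by
      have hσ' : (fb.base ⁻¹' {u s'}).Nonempty := by
        obtain ⟨z⟩ := ((hfib Ω (σ ≫ u)).1).toNonempty
        refine ⟨pullback.fst fb (σ ≫ u) z, ?_⟩
        have h3 : σ (pullback.snd fb (σ ≫ u) z) = s' := hσ.le ⟨_, rfl⟩
        change fb _ = u s'
        refine Eq.trans ?_ (congrArg u h3)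
        rw [← Scheme.Hom.comp_apply, pullback.condition, Scheme.Hom.comp_apply, Scheme.Hom.comp_apply]
      obtain ⟨q, hq⟩ := (Set.Nonempty.mono (hdense _) hσ').of_closure
      obtain ⟨p, hp1, hp2⟩ := Scheme.Pullback.exists_preimage_pullback q s' hq.2
      exact ⟨p, hp2, hrj.ge (show pullback.fst fb u p ∈ Set.range j.base by rw [hp1]; exact hq.1)⟩
    have := subset_closure_inter_of_isPreirreducible_of_isOpen hirr j'.isOpenEmbedding.isOpen_range hne
    rwa [Set.inter_comm] at this
  · rw [show i' ≫ pullback.snd fb u = pullback.snd _ _ from pullback.lift_snd _ _ _]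
    infer_instance
  · rw [show i' ≫ pullback.snd fb u = pullback.snd _ _ from pullback.lift_snd _ _ _]
    infer_instance
  · rw [show i' ≫ pullback.snd fb u = pullback.snd _ _ from pullback.lift_snd _ _ _]
    haveI : Surjective (i ≫ fb) := ⟨hsurj⟩
    exact (inferInstance : Surjective (pullback.snd (i ≫ fb) u)).surj

/-- The base change of an elementary fibration f : X → S of smooth complex varieties along any morphism
u : S' → S of smooth complex varieties is an elementary fibration X ×_S S' → S', elementary
fibration being taken in the following sense: f factors as an open immersion j : X → X̄ followed by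
f̄ : X̄ → S, where f̄ is smooth and is a closed subscheme of some projective space over S with
geometrically irreducible fibres of dimension one, the complement of j(X) is the image of a closed
immersion Y → X̄ with Y finite, etale and surjective over S, and j(X) is dense in every fibre of f̄
(for smooth complex varieties the last clause is automatic, and this is the usual notion: a smooth
projective family of irreducible curves minus a finite etale multisection). (The published statement
also treats rational and coordinatised elementary fibrations; this row states only the plain case.) -/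
theorem result (X S S' : Scheme.{0})
    [X.Over An.SC] [Smooth (X ↘ An.SC)] [IsSeparated (X ↘ An.SC)] [QuasiCompact (X ↘ An.SC)]
    [S.Over An.SC] [Smooth (S ↘ An.SC)] [IsSeparated (S ↘ An.SC)] [QuasiCompact (S ↘ An.SC)]
    [S'.Over An.SC] [Smooth (S' ↘ An.SC)] [IsSeparated (S' ↘ An.SC)] [QuasiCompact (S' ↘ An.SC)]
    (f : X ⟶ S) [f.IsOver An.SC] (u : S' ⟶ S) [u.IsOver An.SC]
    (hf : An.IsElementaryFibration f) :
    An.IsElementaryFibration (pullback.snd f u) := by
  exact isElementaryFibration_snd u hf

end Groth.Agent.S15501
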