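import Groth.Statements.S15502
import Groth.Agent.CAlg.LogDeriv

set_option autoImplicit false
open Polynomial
universe u
open CAlg

namespace Groth.Agent.S15502

/-- Let S = Spec R be a smooth connected affine complex variety (R a finitely generated smooth ℂ-algebra
and a domain), θ_1, …, θ_r ∈ R pairwise disjoint sections of the affine line over S (θ_i − θ_k a
unit for i ≠ k), Θ = ∏ (X − θ_i) ∈ R[X], and M = R^d. Suppose given an additive operator D₀ on M[X]
= R[X]^d with D₀(p v) = Θ p′ v + p D₀(v) (the action of the logarithmic vector field Θ ∂/∂X for a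
connection on the trivial bundle of rank d on the affine line over S with logarithmic poles along
the θ_i), its extension D to M[X, 1/Θ] = (R[X][1/Θ])^d with the same Leibniz rule, and for each i
the residue endomorphism Res_i of M, characterised by D₀(m)(θ_i) = (∏_{k ≠ i} (θ_i − θ_k)) ·
Res_i(m) for constant m ∈ M, whose characteristic polynomial has complex coefficients and no nonzero
integer root. Then M[X, 1/Θ] = D(M[X, 1/Θ]) + M[X]: every element of (R[X][1/Θ])^d is D of some
element plus an element coming from R[X]^d. (The published claim is made for residues whose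
characteristic roots all lie in the image of a right inverse τ of the quotient map ℂ → ℂ/ℤ with τ(0)
= 0, so that no root is a nonzero integer and no two roots differ by a nonzero integer; this row
assumes only that no nonzero integer is a root, which is all the argument uses.) -/
theorem result
    (R : Type u) [CommRing R] [IsDomain R] [Algebra ℂ R] [Algebra.FiniteType ℂ R]
    [Algebra.Smooth ℂ R] (d r : ℕ) (θ : Fin r → R)
    (hθ : ∀ i k, i ≠ k → IsUnit (θ i - θ k))
    (Θ : R[X]) (hΘ : Θ = ∏ i, (X - Polynomial.C (θ i)))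
    (D₀ : (Fin d → R[X]) →+ (Fin d → R[X]))
    (hD₀ : ∀ (p : R[X]) (v : Fin d → R[X]),
      D₀ (p • v) = (Θ * Polynomial.derivative p) • v + p • D₀ v)
    (D : (Fin d → Localization.Away Θ) →+ (Fin d → Localization.Away Θ))
    (hD : ∀ (p : R[X]) (w : Fin d → Localization.Away Θ),
      D (p • w) = (Θ * Polynomial.derivative p) • w + p • D w)
    (hDD₀ : ∀ v : Fin d → R[X],
      D (fun j => algebraMap R[X] (Localization.Away Θ) (v j)) =
        fun j => algebraMap R[X] (Localization.Away Θ) (D₀ v j))
    (Res : Fin r → ((Fin d → R) →ₗ[R] (Fin d → R)))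
    (hRes : ∀ (i : Fin r) (m : Fin d → R) (j : Fin d),
      (D₀ (fun j => Polynomial.C (m j)) j).eval (θ i) =
        (∏ k ∈ Finset.univ.erase i, (θ i - θ k)) * Res i m j)
    (hχ : ∀ i : Fin r, ∃ χ : ℂ[X], (Res i).charpoly = χ.map (algebraMap ℂ R) ∧
      ∀ n : ℤ, n ≠ 0 → χ.eval (n : ℂ) ≠ 0)
    (w : Fin d → Localization.Away Θ) :
    ∃ (w' : Fin d → Localization.Away Θ) (v : Fin d → R[X]),
      w = D w' + fun j => algebraMap R[X] (Localization.Away Θ) (v j) := by
  classical
  open Groth.Agent.CAlg.LogDeriv in
  obtain ⟨n, v, hv⟩ := exists_pow_smul_eq Θ w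
  induction n generalizing w v with
  | zero => exact ⟨0, v, by rw [map_zero, zero_add]; simpa using hv⟩
  | succ n ih =>
    have hy : ∀ i, ∃ y : Fin d → R, ∀ j, (∏ k ∈ Finset.univ.erase i, (θ i - θ k)) *
        (Res i y j - ((n + 1 : ℕ) : R) * y j) = (v j).eval (θ i) := by
      intro i
      obtain ⟨c, hc⟩ := (IsUnit.prod_iff).2 fun k (hk : k ∈ Finset.univ.erase i) => hθ i k (Finset.ne_of_mem_erase hk).symm
      have hdet := isUnit_det_sub (Res i) (hχ i) n
      let L := LinearMap.equivOfIsUnitDet hdet
      refine ⟨L.symm (fun j => ((c⁻¹ : Rˣ) : R) * (v j).eval (θ i)), fun j => ?_⟩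
      have h := congrFun (L.apply_symm_apply (fun j => ((c⁻¹ : Rˣ) : R) * (v j).eval (θ i))) j
      simp only [L, LinearMap.equivOfIsUnitDet_apply, LinearMap.sub_apply, LinearMap.smul_apply, LinearMap.id_apply,
        Pi.sub_apply, Pi.smul_apply, smul_eq_mul] at h
      rw [h, ← hc, ← mul_assoc, Units.mul_inv, one_mul]
    choose y hy using hy
    choose u hu using fun j => exists_interpolation hθ (fun i => y i j)
    let loc : Fin d → Localization.Away Θ := fun j =>
      algebraMap R[X] _ (u j) * IsLocalization.Away.invSelf Θ ^ (n + 1)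
    have hloc : Θ ^ (n + 1) • loc = fun j => algebraMap R[X] _ (u j) := by
      funext j
      simp only [Pi.smul_apply, Algebra.smul_def, loc, map_pow]
      rw [mul_left_comm, ← mul_pow, IsLocalization.Away.mul_invSelf, one_pow, mul_one]
    set t := fun j => v j - (D₀ u j - (((n + 1 : ℕ) : R[X]) * derivative Θ) * u j)
    have ht : ∀ j, Θ ∣ t j := by
      intro j
      rw [hΘ]
      refine dvd_of_eval_eq_zero hθ fun i => ?_
      have hu' : (fun j => (u j).eval (θ i)) = y i := funext fun j => hu j i
      simp only [t, eval_sub, eval_mul, eval_natCast, eval_D₀ D₀ hΘ hD₀ Res hRes, hu', hu j i]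
      rw [hΘ, eval_derivative_prod, ← hy i j]
      ring
    choose t' ht' using ht
    obtain ⟨w'', v'', hwv⟩ := ih (w - D loc) t' (by
      have h := pow_smul_D Θ D₀ D hD hDD₀ n loc u hloc
      funext j
      have hj := congrFun h j
      have hvj := congrFun hv j
      simp only [Pi.smul_apply, Pi.sub_apply, Algebra.smul_def] at hj hvj ⊢
      refine (IsLocalization.Away.algebraMap_isUnit Θ).mul_left_cancel ?_
      rw [← mul_assoc, ← map_mul, ← pow_succ', mul_sub, hj, hvj, ← map_sub, ← map_mul, ← ht' j])
    refine ⟨loc + w'', v'', ?_⟩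
    rw [map_add, add_assoc, ← hwv]
    abel

end Groth.Agent.S15502
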