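import Groth.Statements.S15504
import Mathlib.RingTheory.WittVector.DiscreteValuationRing
import Mathlib.RingTheory.WittVector.Domain
import Mathlib.RingTheory.Artinian.Module
import Mathlib.RingTheory.KrullDimension.Zero
import Mathlib.RingTheory.Artinian.Ring
import Mathlib.RingTheory.HopkinsLevitzki
import Mathlib.RingTheory.PrincipalIdealDomain


set_option autoImplicit false
universe u v
open FrobAlg

namespace Groth.Agent.S15504

/-- Let k be an algebraically closed field of characteristic p, W = W(k) the ring of p-typical Witt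
vectors, M a finitely generated torsion W-module and φ a p⁻¹-linear endomorphism of M (additive,
with φ(a·m) = σ⁻¹(a)·φ(m) for the Frobenius automorphism σ of W). Then M = M_s ⊕ M_n for two
φ-stable submodules, with φ bijective on M_s and nilpotent on M_n (one iterate of φ kills M_n). -/
theorem result (p : ℕ) [Fact p.Prime]
    (k : Type u) [Field k] [CharP k p] [IsAlgClosed k]
    (M : Type v) [AddCommGroup M] [Module (WittVector p k) M] [Module.Finite (WittVector p k) M]
    (hM : Module.IsTorsion (WittVector p k) M)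
    (φ : M →ₛₗ[((WittVector.frobeniusEquiv p k).symm : WittVector p k →+* WittVector p k)] M) :
    ∃ Ms Mn : Submodule (WittVector p k) M, IsCompl Ms Mn ∧
      Set.MapsTo φ Ms Ms ∧ Set.MapsTo φ Mn Mn ∧ Set.BijOn φ Ms Ms ∧
      ∃ r : ℕ, ∀ x ∈ Mn, (⇑φ)^[r] x = 0 := by
  have hp := (Fact.out : p.Prime)
  let K : ℕ → Submodule (WittVector p k) M := fun n => (Submodule.comap φ)^[n] ⊥
  let R : ℕ → Submodule (WittVector p k) M := fun n => (Submodule.map φ)^[n] ⊤
  have hK : ∀ n x, x ∈ K n ↔ (⇑φ)^[n] x = 0 := by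
    intro n
    induction n with
    | zero => simp [K]
    | succ n ih =>
      intro x
      simp only [K, Function.iterate_succ_apply' (Submodule.comap φ), Submodule.mem_comap]
      rw [Function.iterate_succ_apply]
      exact ih (φ x)
  have hR : ∀ n x, x ∈ R n ↔ ∃ y, (⇑φ)^[n] y = x := by
    intro n
    induction n with
    | zero => simp [R]
    | succ n ih =>
      intro x
      simp only [R, Function.iterate_succ_apply' (Submodule.map φ), Submodule.mem_map]
      constructor
      · rintro ⟨z, hz, rfl⟩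
        obtain ⟨y, rfl⟩ := (ih z).1 hz
        exact ⟨y, Function.iterate_succ_apply' _ _ _⟩
      · rintro ⟨y, rfl⟩
        exact ⟨_, (ih _).2 ⟨y, rfl⟩, (Function.iterate_succ_apply' _ _ _).symm⟩
  have hKmono : Monotone K := monotone_nat_of_le_succ fun n x hx => by
    rw [hK] at hx ⊢
    rw [Function.iterate_succ_apply', hx, map_zero]
  have hRanti : Antitone R := antitone_nat_of_succ_le fun n x hx => by
    rw [hR] at hx ⊢
    obtain ⟨y, rfl⟩ := hx
    exact ⟨φ y, (Function.iterate_succ_apply _ _ _).symm⟩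
  haveI : IsArtinian (WittVector p k) M := by
    obtain ⟨t, ht0, ht⟩ : ∃ t : WittVector p k, t ≠ 0 ∧ ∀ m : M, t • m = 0 := by
      obtain ⟨s, hs⟩ := (inferInstance : Module.Finite (WittVector p k) M).fg_top
      classical
      choose t ht using fun m : M => hM (x := m)
      refine ⟨∏ m ∈ s, (t m : WittVector p k), Finset.prod_ne_zero_iff.2 fun m _ => nonZeroDivisors.ne_zero (t m).2, fun m => ?_⟩
      have hm : m ∈ Submodule.span (WittVector p k) (s : Set M) := by rw [hs]; trivial
      induction hm using Submodule.span_induction with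
      | mem x hx =>
        rw [← Finset.prod_erase_mul _ _ hx, mul_smul]
        exact (congrArg _ (ht x)).trans (smul_zero _)
      | zero => rw [smul_zero]
      | add a b _ _ ha hb => rw [smul_add, ha, hb, add_zero]
      | smul c a _ ha => rw [smul_comm, ha, smul_zero]
    set I := Ideal.span {t}
    haveI : IsArtinianRing (WittVector p k ⧸ I) := by
      haveI : Ring.KrullDimLE 0 (WittVector p k ⧸ I) := Ring.KrullDimLE.mk₀ fun q hq => by
        have hne : q.comap (Ideal.Quotient.mk I) ≠ ⊥ := fun h => ht0 (by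
          rw [← Ideal.mem_bot, ← h, Ideal.mem_comap, Ideal.Quotient.eq_zero_iff_mem.2 (Ideal.mem_span_singleton_self t)]
          exact q.zero_mem)
        haveI := IsPrime.to_maximal_ideal hne
        rw [← Ideal.map_comap_of_surjective _ Ideal.Quotient.mk_surjective q]
        exact Ideal.IsMaximal.map_of_surjective_of_ker_le Ideal.Quotient.mk_surjective
          (Ideal.mk_ker.le.trans fun a ha => by rw [Ideal.mem_comap, Ideal.Quotient.eq_zero_iff_mem.2 ha]; exact q.zero_mem)
      exact isArtinianRing_iff_isNoetherianRing_krullDimLE_zero.2 ⟨inferInstance, inferInstance⟩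
    have htors : Module.IsTorsionBySet (WittVector p k) M I := fun m a => by
      obtain ⟨c, hc⟩ := Ideal.mem_span_singleton'.1 a.2
      change (a : WittVector p k) • m = 0
      rw [← hc, mul_smul, ht, smul_zero]
    letI := htors.module
    haveI : Module.Finite (WittVector p k ⧸ I) M := Module.Finite.of_restrictScalars_finite (WittVector p k) _ M
    haveI : IsScalarTower (WittVector p k) (WittVector p k ⧸ I) M := htors.isScalarTower
    exact isArtinian_of_surjective_algebraMap (R := WittVector p k ⧸ I) (S := WittVector p k) (M := M) Ideal.Quotient.mk_surjective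
  obtain ⟨N₁, hN₁⟩ := monotone_stabilizes_iff_noetherian.2 (inferInstance : IsNoetherian (WittVector p k) M) ⟨K, hKmono⟩
  obtain ⟨N₂, hN₂⟩ := IsArtinian.monotone_stabilizes ⟨fun n => OrderDual.toDual (R n), hRanti⟩
  set N := max N₁ N₂ + 1
  have hK2 : ∀ n, N ≤ n → K n = K N := fun n hn => ((hN₁ n (by omega)).symm.trans (hN₁ N (by omega)) :)
  have hR2 : ∀ n, N ≤ n → R n = R N := fun n hn => ((hN₂ n (by omega)).symm.trans (hN₂ N (by omega)) :)
  have hint : ∀ x ∈ R N, x ∈ K N → x = 0 := by
    intro x hx hx'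
    obtain ⟨y, rfl⟩ := (hR N x).1 hx
    rw [hK, ← Function.iterate_add_apply, ← hK, hK2 _ (Nat.le_add_left N N), hK] at hx'
    exact hx'
  refine ⟨R N, K N, ⟨disjoint_iff_inf_le.2 fun x hx => (Submodule.mem_bot _).2 (hint x hx.1 hx.2), codisjoint_iff_le_sup.2 fun x _ => ?_⟩,
    fun x hx => ?_, fun x hx => ?_, ⟨fun x hx => ?_, fun x hx y hy hxy => ?_, fun x hx => ?_⟩, N, fun x hx => (hK N x).1 hx⟩
  · obtain ⟨y, hy⟩ := (hR (N + N) ((⇑φ)^[N] x)).1 (by rw [hR2 _ (Nat.le_add_left N N)]; exact (hR N _).2 ⟨x, rfl⟩)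
    refine Submodule.mem_sup.2 ⟨(⇑φ)^[N] y, (hR N _).2 ⟨y, rfl⟩, x - (⇑φ)^[N] y, ?_, add_sub_cancel _ _⟩
    rw [hK, iterate_map_sub, ← Function.iterate_add_apply, hy, sub_self]
  · show φ x ∈ R N
    rw [← hR2 (N + 1) (Nat.le_succ N), hR]
    obtain ⟨y, rfl⟩ := (hR N x).1 hx
    exact ⟨y, Function.iterate_succ_apply' _ _ _⟩
  · show φ x ∈ K N
    rw [hK, ← Function.iterate_succ_apply, ← hK, hK2 _ (Nat.le_succ N)]
    exact hx
  · show φ x ∈ R N
    rw [← hR2 (N + 1) (Nat.le_succ N), hR]
    obtain ⟨y, rfl⟩ := (hR N x).1 hx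
    exact ⟨y, Function.iterate_succ_apply' _ _ _⟩
  · rw [← sub_eq_zero]
    refine hint _ (Submodule.sub_mem _ hx hy) ?_
    rw [hK, show N = max N₁ N₂ + 1 from rfl, Function.iterate_succ_apply, map_sub, hxy, sub_self, iterate_map_zero]
  · have hx' : x ∈ R (N + 1) := by rw [hR2 _ (Nat.le_succ N)]; exact hx
    obtain ⟨y, rfl⟩ := (hR _ x).1 hx'
    exact ⟨(⇑φ)^[N] y, (hR N _).2 ⟨y, rfl⟩, (Function.iterate_succ_apply' _ _ _).symm⟩

end Groth.Agent.S15504
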