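import Groth.Statements.S15505
import Mathlib.Algebra.Field.ZMod
import Mathlib.FieldTheory.Finite.Basic


set_option autoImplicit false
universe u v w
open FrobAlg

namespace Groth.Agent.S15505

/-- Let k be an algebraically closed field of characteristic p, V a k-vector space, φ a p⁻¹-linear
endomorphism of V (additive, φ(a·v) = a^{1/p}·φ(v)) and b a finite basis of V consisting of vectors
fixed by φ. Then the vectors fixed by φ are exactly the combinations of the b_i with coefficients in
the prime field: v is fixed if and only if v = Σ c_i·b_i with all c_i in the image of ℤ/p. -/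
theorem result (p : ℕ) [Fact p.Prime]
    (k : Type u) [Field k] [CharP k p] [IsAlgClosed k]
    (V : Type v) [AddCommGroup V] [Module k V]
    (φ : V →ₛₗ[((frobeniusEquiv k p).symm : k →+* k)] V)
    {ι : Type w} [Fintype ι] (b : Module.Basis ι k V) (hb : ∀ i, φ (b i) = b i) (v : V) :
    φ v = v ↔ ∃ c : ι → ZMod p, v = ∑ i, (ZMod.castHom (dvd_refl p) k (c i)) • b i := by
  classical
  have hφ : ∀ c : ι → k, φ (∑ i, c i • b i) = ∑ i, ((frobeniusEquiv k p).symm (c i)) • b i := fun c => by
    simp [map_sum, hb]
  constructor
  · intro h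
    have h1 := hφ (b.repr v)
    rw [b.sum_repr, h] at h1
    have h2 : ∀ i, (frobeniusEquiv k p).symm (b.repr v i) = b.repr v i := fun i => by
      conv_rhs => rw [h1, b.repr_sum_self]
    have h3 : ∀ i, ∃ c : ZMod p, ZMod.castHom (dvd_refl p) k c = b.repr v i := fun i => by
      have h4 := congrArg (frobeniusEquiv k p) (h2 i)
      rw [RingEquiv.apply_symm_apply, frobeniusEquiv_apply] at h4
      suffices h5 : b.repr v i ∈ (ZMod.castHom (dvd_refl p) k : ZMod p →+* k).fieldRange by
        obtain ⟨c, hc⟩ := h5
        exact ⟨c, hc⟩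
      rw [ZMod.fieldRange_castHom_eq_bot]
      refine (Subfield.mem_bot_iff_pow_eq_self (F := k) (p := p)).2 ?_
      exact h4.symm
    choose c hc using h3
    exact ⟨c, by simp only [hc, b.sum_repr]⟩
  · rintro ⟨c, rfl⟩
    rw [hφ]
    congr 1 with i
    congr 1
    rw [RingEquiv.symm_apply_eq, frobeniusEquiv_apply]
    rw [frobenius_def, ← map_pow, ZMod.pow_card]

end Groth.Agent.S15505
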