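import Groth.Statements.S15506
import Groth.Agent.SGA1Misc.Descent
import Groth.Agent.S0658


set_option autoImplicit false
universe u
open CategoryTheory AlgebraicGeometry
open EtBase

namespace Groth.Agent.S15506

/-- Let k be a field, K an algebraic closure of k (an algebraically closed field algebraic over k), Ω a
field containing K, and Z a scheme étale over Spec k. Composition with Spec Ω → Spec K is a
bijection from the k-morphisms Spec K → Z onto the k-morphisms Spec Ω → Z: two k-morphisms Spec K →
Z that agree on Spec Ω are equal, and every k-morphism Spec Ω → Z factors through Spec K. (The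
published statement is the case where k has characteristic zero with a chosen embedding of its
algebraic closure into the complex numbers, Ω = ℂ, and Z is the scheme of isomorphisms between two
K3 surfaces over k, known there to be étale over k; this row states the fact about an arbitrary
étale k-scheme that the argument establishes.) -/
theorem result
    (k K Ω : Type u) [Field k] [Field K] [Field Ω] [Algebra k K] [IsAlgClosed K] [Algebra.IsAlgebraic k K]
    [Algebra K Ω] [Algebra k Ω] [IsScalarTower k K Ω]
    (Z : Scheme.{u}) (f : Z ⟶ Spec (CommRingCat.of k)) [AlgebraicGeometry.Etale f] :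
    (∀ g₁ g₂ : Spec (CommRingCat.of K) ⟶ Z,
        g₁ ≫ f = Spec.map (CommRingCat.ofHom (algebraMap k K)) →
        g₂ ≫ f = Spec.map (CommRingCat.ofHom (algebraMap k K)) →
        Spec.map (CommRingCat.ofHom (algebraMap K Ω)) ≫ g₁ = Spec.map (CommRingCat.ofHom (algebraMap K Ω)) ≫ g₂ →
        g₁ = g₂) ∧
    (∀ h : Spec (CommRingCat.of Ω) ⟶ Z, h ≫ f = Spec.map (CommRingCat.ofHom (algebraMap k Ω)) →
        ∃ g : Spec (CommRingCat.of K) ⟶ Z, g ≫ f = Spec.map (CommRingCat.ofHom (algebraMap k K)) ∧
          Spec.map (CommRingCat.ofHom (algebraMap K Ω)) ≫ g = h) := by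
  refine ⟨fun g₁ g₂ h₁ h₂ h => ?_, fun h hh => ?_⟩
  · have : Surjective (Spec.map (CommRingCat.ofHom (algebraMap K Ω))) :=
      ⟨fun y => ⟨default, Subsingleton.elim _ _⟩⟩
    exact SGA1Misc.eq_of_surjective_comp_eq f g₁ g₂ (h₁.trans h₂.symm) _ h
  · let x := h.base default
    obtain ⟨K₀, _, _, _, _, j, _, hj, hr⟩ := S0658.exists_piece f x
    have hrange : Set.range h.base ⊆ Set.range j.base := by
      rintro _ ⟨y, rfl⟩
      rw [Subsingleton.elim y default]
      exact (Set.ext_iff.1 hr x).2 rfl
    obtain ⟨ψ, hψ⟩ := Spec.map_surjective (IsOpenImmersion.lift j h hrange)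
    have hψk : CommRingCat.ofHom (algebraMap k K₀) ≫ ψ = CommRingCat.ofHom (algebraMap k Ω) := by
      apply Spec.map_injective
      rw [Spec.map_comp, hψ, ← hj, ← Category.assoc, IsOpenImmersion.lift_fac]
      exact hh
    let ψ' : K₀ →ₐ[k] Ω :=
      { ψ.hom with commutes' := fun r => congrArg (fun φ => φ.hom r) hψk }
    let ι : K →ₐ[k] Ω := IsScalarTower.toAlgHom k K Ω
    have hmem : ∀ a : K₀, ψ' a ∈ ι.range := fun a => by
      have hint : IsIntegral K (ψ' a) := ((IsIntegral.of_finite k a).map ψ').tower_top
      obtain ⟨b, hb⟩ := minpoly.mem_range_of_degree_eq_one K (ψ' a)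
        (IsAlgClosed.degree_eq_one_of_irreducible K (minpoly.irreducible hint))
      exact ⟨b, hb⟩
    let τ : K₀ →ₐ[k] K :=
      (AlgEquiv.ofInjective ι ι.injective).symm.toAlgHom.comp (ψ'.codRestrict _ hmem)
    have hτ : ∀ a, algebraMap K Ω (τ a) = ψ' a := fun a =>
      congrArg Subtype.val ((AlgEquiv.ofInjective ι ι.injective).apply_symm_apply (ψ'.codRestrict _ hmem a))
    refine ⟨Spec.map (CommRingCat.ofHom τ.toRingHom) ≫ j, ?_, ?_⟩
    · rw [Category.assoc, hj, ← Spec.map_comp]
      congr 1
      ext r
      exact τ.commutes r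
    · rw [← Category.assoc, ← Spec.map_comp]
      have e : CommRingCat.ofHom τ.toRingHom ≫ CommRingCat.ofHom (algebraMap K Ω) = ψ := by
        ext a
        exact hτ a
      rw [e, hψ, IsOpenImmersion.lift_fac]

end Groth.Agent.S15506
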