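import Groth.Statements.S15508
import Mathlib
import Groth.Agent.GmFppf.Kummer
-- import your own Groth.Agent.* helpers here

set_option autoImplicit false
universe u
open CategoryTheory CategoryTheory.Limits AlgebraicGeometry
open EtCoh

namespace Groth.Agent.S15508

/-- Let p be a prime and X a reduced scheme of characteristic p (p = 0 in Γ(X, O_X)). For every i ≥ 1
the flat cohomology group H^i_fl(X, μ_p), with μ_p the kernel of the p-th power map on G_m over the
big fppf site of X, is isomorphic to the étale cohomology group H^{i-1}_ét(X, G_m/G_m^p), with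
G_m/G_m^p the cokernel of the p-th power map on G_m over the small étale site of X (existence of an
isomorphism of abelian groups only; the comparison functor from the small étale site to the big fppf
site is assumed continuous, a binder of the prelude). (The published statement is for a smooth
projective threefold in characteristic p over a perfect base field, and for every i; the argument
uses only that X has characteristic p and that p-th roots of unity are trivial on every scheme étale
over X, i.e. X reduced — the generality stated here — and for i = 0 it reads H⁰_fl(X, μ_p) = 0,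
omitted.) -/
theorem result
    (p : ℕ) [Fact p.Prime] (X : Scheme.{u}) [FrobSch.IsCharP X p] [IsReduced X] [EtFppf.ACont X]
    (i : ℕ) (hi : 1 ≤ i) :
    Nonempty (EtFppf.HF X (kernel (p • 𝟙 (EtDl.GmF X))) i ≃+ EtCoh.H X (cokernel (EtCoh.powMap X p)) (i - 1)) := by
  obtain ⟨n, rfl⟩ : ∃ n, i = n + 1 := ⟨i - 1, by omega⟩
  have hp : p ≠ 0 := (Fact.out : p.Prime).ne_zero
  haveI := Groth.Agent.GmFppf.epi_nsmul_GmF X p hp
  haveI := Groth.Agent.GmFppf.mono_powMap X p
  let S₁ : ShortComplex (EtFppf.AbF X) :=
    ShortComplex.mk (kernel.ι (p • 𝟙 (EtDl.GmF X))) (p • 𝟙 (EtDl.GmF X)) (kernel.condition _)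
  have h₁ : S₁.ShortExact :=
    { exact := ShortComplex.exact_of_f_is_kernel _ (kernelIsKernel _)
      mono_f := inferInstanceAs (Mono (kernel.ι _))
      epi_g := inferInstanceAs (Epi (p • 𝟙 (EtDl.GmF X))) }
  let S₂ : ShortComplex (EtCoh.Ab X) :=
    ShortComplex.mk (EtCoh.powMap X p) (cokernel.π _) (cokernel.condition _)
  have h₂ : S₂.ShortExact :=
    { exact := ShortComplex.exact_cokernel _
      mono_f := inferInstanceAs (Mono (EtCoh.powMap X p))
      epi_g := inferInstanceAs (Epi (cokernel.π _)) }
  obtain ⟨eA⟩ := Groth.Agent.GmFppf.nonempty_H_Gm_addEquiv X n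
  obtain ⟨eB⟩ := Groth.Agent.GmFppf.nonempty_H_Gm_addEquiv X (n + 1)
  exact (Groth.Agent.GmFppf.isExtP_kernel (p := p) (Groth.Agent.GmFppf.constIntF X) h₁ (Iso.refl _) (Iso.refl _)
    (by simp [S₁]) n).nonempty_addEquiv
    (Groth.Agent.GmFppf.isExtP_cokernel (p := p)
      ((constantSheaf X.smallEtaleTopology AddCommGrpCat.{u + 1}).obj (AddCommGrpCat.of (ULift.{u + 1} ℤ)))
      h₂ (Iso.refl _) (Iso.refl _) (by simp [S₂, EtCoh.powMap]) n) eA eB

end Groth.Agent.S15508
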