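import Groth.Statements.S15509
import Groth.Agent.SGA7Lib.TorsionEtale
import Groth.Agent.RegLoc.UFD
import Groth.Agent.EtStruct.Instances
import Mathlib.AlgebraicGeometry.ZariskisMainTheorem

set_option autoImplicit false
universe u
open CategoryTheory CategoryTheory.Limits MonoidalCategory CartesianMonoidalCategory MonObj AlgebraicGeometry
open AbSch

namespace Groth.Agent.S15509

theorem finite_algHom (R B k : Type u) [CommRing R] [CommRing B] [Algebra R B] [Module.Finite R B]
    [Field k] [Algebra R k] : Finite (B →ₐ[R] k) := by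
  classical
  obtain ⟨G, hG⟩ := (Algebra.FiniteType.out : (⊤ : Subalgebra R B).FG)
  have hp : ∀ b : B, ∃ p : Polynomial R, p.Monic ∧ Polynomial.aeval b p = 0 := fun b =>
    Algebra.IsIntegral.isIntegral b
  choose p hpm hp0 using hp
  have hfin : ∀ b : B, Set.Finite {c : k | Polynomial.aeval c (p b) = 0} := fun b => by
    refine ((p b).map (algebraMap R k)).rootSet_finite k |>.subset fun c hc => ?_
    rw [Polynomial.mem_rootSet_of_ne ((hpm b).map _).ne_zero, Polynomial.aeval_map_algebraMap]
    exact hc
  haveI : ∀ b : B, Finite {c : k | Polynomial.aeval c (p b) = 0} := fun b => (hfin b).to_subtype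
  refine Finite.of_injective (fun (φ : B →ₐ[R] k) (b : G) =>
    (⟨φ b.1, by
      show Polynomial.aeval (φ b.1) (p b.1) = 0
      rw [Polynomial.aeval_algHom_apply, hp0, map_zero]⟩ :
      {c : k | Polynomial.aeval c (p b.1) = 0})) fun φ ψ h => ?_
  exact AlgHom.ext_of_adjoin_eq_top hG fun b hb => congrArg Subtype.val (congrFun h ⟨b, hb⟩)

/-- morphisms of `R`-schemes into a finite `R`-scheme, as algebra homomorphisms -/
theorem exists_finite_algebra {R : Type u} [CommRing R] {Y : Scheme.{u}}
    (q : Y ⟶ Spec (CommRingCat.of R)) [IsFinite q] :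
    ∃ (B : Type u) (_ : CommRing B) (_ : Algebra R B) (_ : Module.Finite R B)
      (e : Y ≅ Spec (CommRingCat.of B)), e.hom ≫ Spec.map (CommRingCat.ofHom (algebraMap R B)) = q := by
  haveI : IsAffine Y := isAffine_of_isAffineHom q
  obtain ⟨φ, hφ⟩ := Spec.map_surjective (Y.isoSpec.inv ≫ q)
  haveI : IsFinite (Spec.map φ) := by rw [hφ]; infer_instance
  have hfin : φ.hom.Finite := (IsFinite.SpecMap_iff φ).mp inferInstance
  letI : Algebra R Γ(Y, ⊤) := φ.hom.toAlgebra
  refine ⟨Γ(Y, ⊤), inferInstance, inferInstance, hfin, Y.isoSpec, ?_⟩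
  show Y.isoSpec.hom ≫ Spec.map φ = q
  rw [hφ, Iso.hom_inv_id_assoc]

/-- Let R be a regular local ring which is a domain and contains the rational numbers, with fraction
field K and residue field k, and let A be an abelian scheme over Spec R of relative dimension g (a
commutative group scheme which is smooth and proper with geometrically connected fibres of dimension
g). Then for every integer m ≥ 1 the number of K-valued points of A over Spec R killed by m is at
most the number of k-valued points of A over Spec R killed by m: the m-torsion of the rational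
points of the generic fibre is no larger than the m-torsion of the rational points of the closed
fibre. (The published statement is for an arbitrary Noetherian regular local ring R inside a paper
whose standing setting is schemes over the complex numbers; this row keeps from that setting only
that R contains the rationals, which is what the printed argument uses to make the m-torsion
subgroup scheme étale over the base.) -/
theorem result
    (R : Type u) [CommRing R] [IsDomain R] [IsRegularLocalRing R] [Algebra ℚ R]
    (A : Over (Spec (CommRingCat.of R))) [GrpObj A] [IsCommMonObj A] (g : ℕ) (hA : AgPol.IsAbSch A g)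
    (m : ℕ) (hm : 1 ≤ m) :
    Nat.card (AbDual.torsPts A m (Over.mk (Spec.map (CommRingCat.ofHom (algebraMap R (FractionRing R)))))) ≤
      Nat.card (AbDual.torsPts A m (Over.mk (Spec.map (CommRingCat.ofHom (IsLocalRing.residue R))))) := by
  obtain ⟨hsm, hpr, hgc, -⟩ := hA
  have hmR : IsUnit (m : R) := by
    have h : IsUnit (m : ℚ) := isUnit_iff_ne_zero.mpr (Nat.cast_ne_zero.mpr (by omega))
    simpa using h.map (algebraMap ℚ R)
  let Sp := Spec (CommRingCat.of R)
  let pm : A ⟶ A := (𝟙 A : A ⟶ A) ^ m
  haveI hcomm : ∀ s, IsCommMonObj (GrpSGA.Fibre.fib A s) := fun s => inferInstance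
  have hm0 : ∀ s : Sp, (m : Sp.residueField s) ≠ 0 := fun s => by
    have := hmR.map ((Sp.residue s).hom.comp
      ((StructureSheaf.toStalk R s).hom : R →+* Sp.presheaf.stalk s))
    rw [map_natCast] at this
    exact this.ne_zero
  haveI : Etale pm.left := SGA7Lib.etale_pow A hcomm m hm0
  haveI : IsProper pm.left := by
    have h : IsProper (pm.left ≫ A.hom) := by rw [Over.w pm]; infer_instance
    exact IsProper.of_comp pm.left A.hom
  haveI : LocallyQuasiFinite pm.left := EtStruct.locallyQuasiFinite_of_formallyUnramified pm.left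
  haveI : IsFinite pm.left := IsFinite.of_isProper_of_locallyQuasiFinite pm.left
  let Kc := pullback pm.left (η[A]).left
  let q : Kc ⟶ Sp := pullback.snd pm.left (η[A]).left
  haveI : IsFinite q := MorphismProperty.pullback_snd (P := @IsFinite) _ _ inferInstance
  obtain ⟨B, _, _, _, e, he⟩ := exists_finite_algebra q
  let j : Kc ⟶ A.left := pullback.fst pm.left (η[A]).left
  have hjA : j ≫ A.hom = q := by
    have h1 : j ≫ pm.left ≫ A.hom = q ≫ (η[A]).left ≫ A.hom := by
      rw [← Category.assoc, pullback.condition, Category.assoc]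
    have h2 : (η[A]).left ≫ A.hom = 𝟙 Sp := Over.w η[A]
    rw [Over.w pm, h2, Category.comp_id] at h1
    exact h1
  have hone : ∀ T : Over Sp, (1 : T ⟶ A).left = T.hom ≫ (η[A]).left := fun T => by
    rw [Hom.one_def, Over.comp_left]
    rfl
  -- torsion points are the algebra homomorphisms
  have hlift : ∀ (C : Type u) [CommRing C] [Algebra R C]
      (a : Over.mk (Spec.map (CommRingCat.ofHom (algebraMap R C))) ⟶ A), a ^ m = 1 →
      ∃ φ : B →ₐ[R] C, Spec.map (CommRingCat.ofHom φ.toRingHom) ≫ e.inv ≫ j = a.left := by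
    intro C _ _ a ha
    have h1 : a.left ≫ pm.left = Spec.map (CommRingCat.ofHom (algebraMap R C)) ≫ (η[A]).left := by
      rw [← Over.comp_left]
      show (a ≫ (𝟙 A : A ⟶ A) ^ m).left = _
      rw [MonObj.comp_pow, Category.comp_id, ha]
      exact hone _
    obtain ⟨ψ, hψ⟩ := Spec.map_surjective (pullback.lift a.left _ h1 ≫ e.hom)
    have hψR : CommRingCat.ofHom (algebraMap R B) ≫ ψ = CommRingCat.ofHom (algebraMap R C) := by
      apply Spec.map_injective
      rw [Spec.map_comp, hψ, Category.assoc, he]
      exact pullback.lift_snd _ _ _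
    refine ⟨{ toRingHom := ψ.hom, commutes' := fun r =>
      RingHom.congr_fun (congrArg CommRingCat.Hom.hom hψR) r }, ?_⟩
    show Spec.map ψ ≫ e.inv ≫ j = _
    rw [hψ, Category.assoc, Iso.hom_inv_id_assoc]
    exact pullback.lift_fst _ _ _
  let K := FractionRing R
  let k := IsLocalRing.ResidueField R
  haveI : IsIntegrallyClosed R := by
    haveI := RegLoc.UFD.uniqueFactorizationMonoid R
    infer_instance
  -- points over the base
  have hext : ∀ φ : B →ₐ[R] K, ∃ χ : B →ₐ[R] R, (Algebra.ofId R K).comp χ = φ := by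
    intro φ
    have hint : ∀ b, ∃ r : R, algebraMap R K r = φ b := fun b =>
      IsIntegrallyClosed.isIntegral_iff.mp ((Algebra.IsIntegral.isIntegral (R := R) b).map φ)
    choose χ hχ using hint
    have hinj := IsFractionRing.injective R K
    refine ⟨{ toFun := χ
              map_one' := hinj (by rw [hχ, map_one, map_one])
              map_mul' := fun x y => hinj (by rw [hχ, map_mul, map_mul, hχ, hχ])
              map_zero' := hinj (by rw [hχ, map_zero, map_zero])
              map_add' := fun x y => hinj (by rw [hχ, map_add, map_add, hχ, hχ])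
              commutes' := fun r => hinj (by rw [hχ, AlgHom.commutes]; rfl) }, AlgHom.ext hχ⟩
  let pt : ∀ (C : Type u) [CommRing C] [Algebra R C], (B →ₐ[R] C) →
      (Over.mk (Spec.map (CommRingCat.ofHom (algebraMap R C))) ⟶ A) := fun C _ _ φ =>
    Over.homMk (Spec.map (CommRingCat.ofHom φ.toRingHom) ≫ e.inv ≫ j) (by
      show (Spec.map (CommRingCat.ofHom φ.toRingHom) ≫ e.inv ≫ j) ≫ A.hom =
        Spec.map (CommRingCat.ofHom (algebraMap R C))
      rw [Category.assoc, Category.assoc, hjA, ← he, Iso.inv_hom_id_assoc, ← Spec.map_comp,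
        ← CommRingCat.ofHom_comp, show φ.toRingHom.comp (algebraMap R B) = algebraMap R C from φ.comp_algebraMap])
  have hpt : ∀ (C : Type u) [CommRing C] [Algebra R C] (φ : B →ₐ[R] C), (pt C φ) ^ m = 1 := by
    intro C _ _ φ
    have h : (pt C φ) ^ m = pt C φ ≫ pm := by
      show _ = pt C φ ≫ (𝟙 A : A ⟶ A) ^ m
      rw [MonObj.comp_pow, Category.comp_id]
    rw [h]
    apply Over.OverMorphism.ext
    rw [hone, Over.comp_left]
    show (Spec.map (CommRingCat.ofHom φ.toRingHom) ≫ e.inv ≫ j) ≫ pm.left =
      Spec.map (CommRingCat.ofHom (algebraMap R C)) ≫ (η[A]).left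
    rw [Category.assoc, Category.assoc, pullback.condition]
    show Spec.map (CommRingCat.ofHom φ.toRingHom) ≫ e.inv ≫ q ≫ (η[A]).left = _
    rw [← he, Category.assoc, Iso.inv_hom_id_assoc, ← Category.assoc, ← Spec.map_comp,
      ← CommRingCat.ofHom_comp, show φ.toRingHom.comp (algebraMap R B) = algebraMap R C from φ.comp_algebraMap]
  let TK := AbDual.torsPts A m (Over.mk (Spec.map (CommRingCat.ofHom (algebraMap R K))))
  let Tk := AbDual.torsPts A m (Over.mk (Spec.map (CommRingCat.ofHom (algebraMap R k))))
  haveI : Finite (B →ₐ[R] k) := finite_algHom R B k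
  haveI hTk : Finite Tk := by
    refine Finite.of_surjective (fun φ : B →ₐ[R] k => (⟨pt k φ, hpt k φ⟩ : Tk)) fun a => ?_
    obtain ⟨φ, hφ⟩ := hlift k a.1 a.2
    exact ⟨φ, Subtype.ext (Over.OverMorphism.ext hφ)⟩
  have hR : ∀ a : TK, ∃ χ : B →ₐ[R] R, (pt K ((Algebra.ofId R K).comp χ)) = a.1 := by
    intro a
    obtain ⟨φ, hφ⟩ := hlift K a.1 a.2
    obtain ⟨χ, hχ⟩ := hext φ
    exact ⟨χ, Over.OverMorphism.ext (by rw [← hφ, ← hχ]; rfl)⟩
  choose χ hχ using hR
  have hinj : Function.Injective
      (fun a : TK => (⟨pt k ((Algebra.ofId R k).comp (χ a)), hpt k _⟩ : Tk)) := by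
    intro a b h
    let ptR : (B →ₐ[R] R) → (Sp ⟶ A.left) := fun c => Spec.map (CommRingCat.ofHom c.toRingHom) ≫ e.inv ≫ j
    have hcomp : ∀ (C : Type u) [CommRing C] [Algebra R C] (c : B →ₐ[R] R),
        (pt C ((Algebra.ofId R C).comp c)).left =
          Spec.map (CommRingCat.ofHom (algebraMap R C)) ≫ ptR c := by
      intro C _ _ c
      show Spec.map (CommRingCat.ofHom ((algebraMap R C).comp c.toRingHom)) ≫ e.inv ≫ j = _
      rw [CommRingCat.ofHom_comp, Spec.map_comp, Category.assoc]
    have hpm : ∀ c : B →ₐ[R] R, ptR c ≫ pm.left = (η[A]).left := by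
      intro c
      show (Spec.map (CommRingCat.ofHom c.toRingHom) ≫ e.inv ≫ j) ≫ pm.left = _
      rw [Category.assoc, Category.assoc, pullback.condition]
      show Spec.map (CommRingCat.ofHom c.toRingHom) ≫ e.inv ≫ q ≫ (η[A]).left = _
      rw [← he, Category.assoc, Iso.inv_hom_id_assoc, ← Category.assoc, ← Spec.map_comp,
        ← CommRingCat.ofHom_comp, show c.toRingHom.comp (algebraMap R B) = algebraMap R R from c.comp_algebraMap]
      show Spec.map (CommRingCat.ofHom (RingHom.id R)) ≫ _ = _
      rw [CommRingCat.ofHom_id, Spec.map_id]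
      exact Category.id_comp _
    have h2 : ptR (χ a) = ptR (χ b) := by
      refine SGA7Lib.eq_of_unramified pm.left _ _ ((hpm _).trans (hpm _).symm) ?_
      have h3 := congrArg (fun t : Tk => t.1.left) h
      simp only [hcomp] at h3
      exact h3
    apply Subtype.ext
    rw [← hχ a, ← hχ b]
    apply Over.OverMorphism.ext
    rw [hcomp, hcomp, h2]
  exact @Nat.card_le_card_of_injective _ _ hTk _ hinj

end Groth.Agent.S15509
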