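import Groth.Statements.S15510
import Groth.Agent.AbVarLib.RatPoints

set_option autoImplicit false
universe u
open CategoryTheory CategoryTheory.Limits MonoidalCategory CartesianMonoidalCategory MonObj AlgebraicGeometry
open AbVar

namespace Groth.Agent.S15510

/-- Let F be a field and A a principally polarized abelian variety over F: a commutative group scheme
over Spec F, smooth and proper with geometrically connected fibres of dimension g, given together
with a commutative group scheme At, data φ presenting At as the dual of A for the fppf topology, and
a polarization lam : A ⟶ At which is an isomorphism. Let Q = F(t_1, …, t_n) be the field of rational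
functions in n variables over F. Then base change from F to Q is a bijection from the F-rational
points of A onto the Q-valued points of A over Spec F: every Q-point of A comes from exactly one
F-point. -/
theorem result
    (F : Type u) [Field F]
    (A At : Over (Spec (CommRingCat.of F))) [GrpObj A] [IsCommMonObj A] [GrpObj At] [IsCommMonObj At]
    (g : ℕ) (hA : AgPol.IsAbSch A g)
    (φ : AgPol.DualMap A At) (hdual : AbDual.IsDualAV Scheme.fppfPrecoverage A At φ)
    (lam : A ⟶ At) (hpol : AgPol.IsPolarization A At φ lam) (hiso : IsIso lam) (n : ℕ) :
    Function.Bijective (fun x : (Over.mk (𝟙 (Spec (CommRingCat.of F))) ⟶ A) =>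
      (Over.homMk (Spec.map (CommRingCat.ofHom (algebraMap F (FractionRing (MvPolynomial (Fin n) F)))))
          (Category.comp_id _) :
        Over.mk (Spec.map (CommRingCat.ofHom (algebraMap F (FractionRing (MvPolynomial (Fin n) F))))) ⟶
          Over.mk (𝟙 (Spec (CommRingCat.of F)))) ≫ x) := by
  have hid : Spec.map (CommRingCat.ofHom (algebraMap F F)) = 𝟙 (Spec (CommRingCat.of F)) := by
    rw [← Spec.map_id]; rfl
  have := hA.proper
  have : IsReduced (Over.mk (𝟙 (Spec (CommRingCat.of F)))).left := inferInstanceAs (IsReduced (Spec (CommRingCat.of F)))
  let Q : Type u := FractionRing (MvPolynomial (Fin n) F)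
  refine ⟨fun x y hxy => ?_, fun z => ?_⟩
  · apply Over.OverMorphism.ext
    have : IsDominant (Spec.map (CommRingCat.ofHom (algebraMap F Q))) := ⟨by
      show DenseRange (PrimeSpectrum.comap (algebraMap F Q))
      rw [PrimeSpectrum.denseRange_comap_iff_ker_le_nilRadical,
        (RingHom.injective_iff_ker_eq_bot _).mp (algebraMap F Q).injective]
      exact bot_le⟩
    exact ext_of_isDominant_of_isSeparated A.hom (by rw [Over.w, Over.w])
      (Spec.map (CommRingCat.ofHom (algebraMap F Q))) (congrArg CommaMorphism.left hxy)
  · obtain ⟨c, hc⟩ := AbVarLib.RatPoints.exists_const_fractionRing_mvPolynomial (G := A) n Q z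
    refine ⟨Over.homMk c.left (by rw [Over.w c]; exact hid), Over.OverMorphism.ext ?_⟩
    exact (congrArg CommaMorphism.left hc).symm

end Groth.Agent.S15510
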