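import Groth.Statements.S5789
import Mathlib
import Groth.Agent.Depth.Basic
import Groth.Agent.RegLoc.PD

set_option autoImplicit false
universe u
open CategoryTheory
open EGA41

namespace Groth.Agent.S5789

open CategoryTheory Abelian

theorem subsingleton_ext_of_equiv {A : Type u} [CommRing A] {X : ModuleCat.{u} A} {N N' : Type u}
    [AddCommGroup N] [Module A N] [AddCommGroup N'] [Module A N'] (e : N ≃ₗ[A] N') {i : ℕ}
    (h : Subsingleton (Ext X (ModuleCat.of A N') i)) : Subsingleton (Ext X (ModuleCat.of A N) i) := by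
  refine subsingleton_of_forall_eq 0 fun z => ?_
  have h0 : z.comp (Ext.mk₀ e.toModuleIso.hom) (add_zero i) = 0 := h.elim _ _
  have := congrArg (fun w => w.comp (Ext.mk₀ e.toModuleIso.inv) (add_zero i)) h0
  simp only [Ext.comp_assoc_of_second_deg_zero, Ext.mk₀_comp_mk₀, Iso.hom_inv_id, Ext.comp_mk₀_id, Ext.zero_comp] at this
  exact this

theorem subsingleton_ext_finite {A : Type u} [CommRing A] [IsNoetherianRing A] (X : ModuleCat.{u} A) (i : ℕ)
    (h : ∀ I : Ideal A, Subsingleton (Ext X (ModuleCat.of A (A ⧸ I)) i)) (N : Type u) [AddCommGroup N]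
    [Module A N] (hN : Module.Finite A N) : Subsingleton (Ext X (ModuleCat.of A N) i) := by
  induction hN using IsNoetherianRing.induction_on_isQuotientEquivQuotientPrime A with
  | subsingleton N =>
    refine subsingleton_of_forall_eq 0 fun z => ?_
    have hz : Limits.IsZero (ModuleCat.of A N) := ModuleCat.isZero_of_subsingleton _
    rw [← Ext.comp_mk₀_id z, hz.eq_of_src (𝟙 _) 0, Ext.mk₀_zero, Ext.comp_zero]
  | quotient N p e => exact subsingleton_ext_of_equiv e (h p.1)
  | exact N₁ N₂ N₃ f g hf hg hfg h₁ h₃ =>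
    exact Groth.Agent.Depth.subsingleton_ext_X₂
      (S := ShortComplex.mk (ModuleCat.ofHom f) (ModuleCat.ofHom g)
        (ModuleCat.hom_ext (LinearMap.ext fun x => hfg.apply_apply_eq_zero x)))
      { exact := (ShortComplex.ShortExact.moduleCat_exact_iff_function_exact _).mpr hfg
        mono_f := (ModuleCat.mono_iff_injective _).mpr hf
        epi_g := (ModuleCat.epi_iff_surjective _).mpr hg } h₁ h₃

theorem aux (A : Type u) [CommRing A] [IsNoetherianRing A] (n : ℕ) :
    ∀ (M : Type u) [AddCommGroup M] [Module A M] [Module.Finite A M],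
    (∀ I : Ideal A, Subsingleton (Ext (ModuleCat.of A M) (ModuleCat.of A (A ⧸ I)) (n + 1))) →
    HasProjectiveDimensionLT (ModuleCat.of A M) (n + 1) := by
  induction n with
  | zero =>
    intro M _ _ _ h
    obtain ⟨P, _, _, _, _, f, hf⟩ := Module.exists_finite_presentation A M
    have hS := LinearMap.shortExact_shortComplexKer hf
    haveI : IsNoetherian A P := isNoetherian_of_isNoetherianRing_of_finite A P
    have hK := subsingleton_ext_finite (ModuleCat.of A M) 1 h (LinearMap.ker f) inferInstance
    -- the presentation splits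
    obtain ⟨s, hs⟩ := Ext.covariant_sequence_exact₃ (ModuleCat.of A M) hS (Ext.mk₀ (𝟙 _))
      (zero_add 1) (hK.elim _ _)
    obtain ⟨σ, rfl⟩ := (Ext.mk₀_bijective _ _).2 s
    rw [Ext.mk₀_comp_mk₀] at hs
    have hs' := (Ext.mk₀_bijective _ _).1 hs
    refine (Groth.Agent.RegLoc.PD.pd_zero_iff M).mpr (Module.Projective.of_split σ.hom f ?_)
    exact congrArg ModuleCat.Hom.hom hs'
  | succ n ih =>
    intro M _ _ _ h
    obtain ⟨P, _, _, _, _, f, hf⟩ := Module.exists_finite_presentation A M
    haveI : IsNoetherian A P := isNoetherian_of_isNoetherianRing_of_finite A P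
    refine (Groth.Agent.RegLoc.PD.pd_shift f hf n).mpr (ih (LinearMap.ker f) fun I => ?_)
    have hS := LinearMap.shortExact_shortComplexKer hf
    refine subsingleton_of_forall_eq 0 fun z => ?_
    obtain ⟨w, rfl⟩ := Ext.contravariant_sequence_exact₁ hS (ModuleCat.of A (A ⧸ I)) z
      (add_comm 1 (n + 1)) ((h I).elim _ _)
    haveI : Projective (ModuleCat.of A P) := (IsProjective.iff_projective P).mp inferInstance
    have hw := Ext.eq_zero_of_projective (P := ModuleCat.of A P) w
    rw [hw]
    exact Ext.comp_zero (Ext.mk₀ f.shortComplexKer.f) (ModuleCat.of A (A ⧸ I)) (n + 1) (n + 1) (zero_add _)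


/-- Let A be a Noetherian ring, M a finitely generated A-module and n ≥ 0. Then M has projective
dimension at most n if and only if Ext^(n+1)_A(M, N) = 0 for every monogenous A-module N, i.e. every
N = A/I with I an ideal. -/
theorem result (A : Type u) [CommRing A] [IsNoetherianRing A]
    (M : Type u) [AddCommGroup M] [Module A M] [Module.Finite A M] (n : ℕ) :
    HasProjectiveDimensionLT (ModuleCat.of A M) (n + 1) ↔
      ∀ I : Ideal A, Subsingleton (Abelian.Ext (ModuleCat.of A M) (ModuleCat.of A (A ⧸ I)) (n + 1)) := by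
  refine ⟨fun h I => ?_, fun h => aux A n M h⟩
  haveI := h
  exact HasProjectiveDimensionLT.subsingleton _ (n + 1) (n + 1) le_rfl _

end Groth.Agent.S5789
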