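import Groth.Statements.S15512
import Mathlib
import Groth.Agent.S5791
import Groth.Agent.S5789
import Groth.Agent.S0563
import Groth.Agent.EGA41Lib.Regular

set_option autoImplicit false
universe u
open CategoryTheory
open CAlg

namespace Groth.Agent.S15512

theorem step (A : Type u) [CommRing A] [IsNoetherianRing A] (M : Type u) [AddCommGroup M] [Module A M]
    [Module.Finite A M] (j : ℕ)
    (h : Subsingleton (Abelian.Ext (ModuleCat.of A M) (ModuleCat.of A A) (j + 1)))
    [HasProjectiveDimensionLT (ModuleCat.of A M) (j + 1 + 1)] :
    HasProjectiveDimensionLT (ModuleCat.of A M) (j + 1) := by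
  rw [S5789.result A M j]
  intro I
  let S : ShortComplex (ModuleCat.{u} A) :=
    ShortComplex.mk (X₁ := ModuleCat.of A I) (X₂ := ModuleCat.of A A) (X₃ := ModuleCat.of A (A ⧸ I))
      (ModuleCat.ofHom I.subtype) (ModuleCat.ofHom (Submodule.mkQ I)) (by
        ext x; exact (Submodule.Quotient.mk_eq_zero I).mpr x.2)
  have hS : S.ShortExact :=
    ShortComplex.ShortExact.mk' (by
      rw [ShortComplex.moduleCat_exact_iff]
      intro x hx
      exact ⟨⟨x, (Submodule.Quotient.mk_eq_zero I).mp hx⟩, rfl⟩)
      (by rw [ModuleCat.mono_iff_injective]; exact I.subtype_injective)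
      (by rw [ModuleCat.epi_iff_surjective]; exact Submodule.mkQ_surjective I)
  refine ⟨fun x y => ?_⟩
  have : ∀ z : Abelian.Ext (ModuleCat.of A M) S.X₃ (j + 1), z = 0 := by
    intro z
    obtain ⟨w, hw⟩ := Abelian.Ext.covariant_sequence_exact₃ _ hS z (n₁ := j + 1 + 1) rfl
      (Abelian.Ext.eq_zero_of_hasProjectiveDimensionLT _ (j + 1 + 1) le_rfl)
    rw [← hw, show w = 0 from Subsingleton.elim _ _, Abelian.Ext.zero_comp]
  exact (this x).trans (this y).symm

/-- Let A be a Noetherian ring which is regular (its localization at every maximal ideal is a regular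
local ring) and of finite Krull dimension, M a finitely generated A-module and d a natural number.
If Ext^i_A(M, A) vanishes for every i > d, then the projective dimension of M is at most d. -/
theorem result (A : Type u) [CommRing A]
    [IsNoetherianRing A] (hreg : ∀ m : MaximalSpectrum A, IsRegularLocalRing (Localization.AtPrime m.asIdeal))
    (hdim : ringKrullDim A < ⊤) (M : Type u) [AddCommGroup M] [Module A M] [Module.Finite A M] (d : ℕ)
    (h : ∀ i : ℕ, d < i → Subsingleton (Abelian.Ext (ModuleCat.of A M) (ModuleCat.of A A) i)) :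
    HasProjectiveDimensionLT (ModuleCat.of A M) (d + 1) := by
  haveI hR : IsRegularRing A :=
    EGA41Lib.isRegularRing_of_forall_maximal fun m hm => hreg ⟨m, hm⟩
  obtain ⟨n, hn⟩ : ∃ n : ℕ, ringKrullDim A ≤ n := by
    cases hA : ringKrullDim A using WithBot.recBotCoe with
    | bot => exact ⟨0, bot_le⟩
    | coe a =>
      cases a using ENat.recTopCoe with
      | top => rw [hA] at hdim; exact absurd hdim (lt_irrefl _)
      | coe m => exact ⟨m, le_rfl⟩
  have hN : HasProjectiveDimensionLT (ModuleCat.of A M) (d + n + 1) := by
    rw [S5791.result A M (d + n)]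
    intro p
    haveI : IsRegularLocalRing (Localization.AtPrime p.asIdeal) :=
      IsRegularRing.isRegularLocalRing_localization p.asIdeal
    have hd : ringKrullDim (Localization.AtPrime p.asIdeal) ≤ ringKrullDim A :=
      (IsLocalization.AtPrime.ringKrullDim_eq_height p.asIdeal (Localization.AtPrime p.asIdeal)).trans_le
        (Ideal.height_le_ringKrullDim_of_ne_top p.isPrime.ne_top)
    obtain ⟨e, he⟩ : ∃ e : ℕ, ringKrullDim (Localization.AtPrime p.asIdeal) = e := by
      have := hd.trans hn
      cases hA : ringKrullDim (Localization.AtPrime p.asIdeal) using WithBot.recBotCoe with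
      | bot => exact absurd hA (ne_of_gt (lt_of_lt_of_le (WithBot.bot_lt_coe 0) ringKrullDim_nonneg_of_nontrivial))
      | coe a =>
        cases a using ENat.recTopCoe with
        | top => rw [hA] at this; exact absurd (top_le_iff.mp (WithBot.coe_le_coe.mp this)) (ENat.coe_ne_top _)
        | coe m => exact ⟨m, rfl⟩
    haveI := S0563.result (Localization.AtPrime p.asIdeal) e he
      (LocalizedModule p.asIdeal.primeCompl M)
    refine hasProjectiveDimensionLT_of_ge _ (e + 1) _ ?_
    have := (he ▸ hd.trans hn : (e : WithBot ℕ∞) ≤ n)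
    have : e ≤ n := by exact_mod_cast this
    omega
  have key : ∀ k, HasProjectiveDimensionLT (ModuleCat.of A M) (d + k + 1) →
      HasProjectiveDimensionLT (ModuleCat.of A M) (d + 1) := by
    intro k
    induction k with
    | zero => exact id
    | succ k ih =>
      intro hk
      haveI : HasProjectiveDimensionLT (ModuleCat.of A M) (d + k + 1 + 1) := hk
      exact ih (step A M (d + k) (h _ (by omega)))
  exact key n hN

end Groth.Agent.S15512
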