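import Groth.Statements.S15520
import Groth.Agent.InjMod.RelExtRes
import Groth.Agent.InjMod.HomComp
import Groth.Agent.EtaleSite.Flasque
-- import your own Groth.Agent.* helpers here

set_option autoImplicit false
universe u
open CategoryTheory CategoryTheory.Limits AlgebraicGeometry
open Coherent

namespace Groth.Agent.S15520

/-- Let X be a scheme, F and G O_X-modules, and E_• → F → 0 a resolution of F whose terms E_i are finite
locally free O_X-modules: E is a chain complex indexed by the natural numbers with an augmentation π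
: E_0 → F such that E is exact in every positive degree and E_1 → E_0 → F → 0 is exact. Let C be the
cochain complex Hom_{O_X}(E_•, G), given with identifications C^i ≅ Hom_{O_X}(E_i, G) under which
its differentials are the maps induced by the differentials of E (contravariant functoriality of the
internal Hom). Then for every i the i-th cohomology object of C is isomorphic to the Ext sheaf
Ext^i_{O_X}(F, G), the i-th right derived functor of the internal Hom functor Hom(F, -) evaluated at
G. (Existence of an isomorphism of O_X-modules only; the published statement is for a ringed space.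
The internal Hom functors and injective resolutions are the stated instance hypotheses, all true.) -/
theorem result (X : Scheme.{u}) (F G : X.Modules)
    (E : ChainComplex X.Modules ℕ) (π : E.X 0 ⟶ F) [Epi π] (hπ : E.d 1 0 ≫ π = 0)
    (hex0 : (ShortComplex.mk (E.d 1 0) π hπ).Exact) (hex : ∀ j : ℕ, E.ExactAt (j + 1))
    (hE : ∀ j : ℕ, FlatMod.IsFinLocFree (E.X j))
    [∀ j : ℕ, ModSite.HasSheafHom (O := X.sheaf) (E.X j)] [ModSite.HasSheafHom (O := X.sheaf) F]
    [HasInjectiveResolutions (ModSite.Mod X.sheaf)]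
    (C : CochainComplex X.Modules ℕ) (e : ∀ j : ℕ, C.X j ≅ (ModSite.sheafHom (O := X.sheaf) (E.X j)).obj G)
    (hC : ∀ j : ℕ, C.d j (j + 1) ≫ (e (j + 1)).hom =
      (e j).hom ≫ (ExtSupp.sheafHomMap (O := X.sheaf) (E.d (j + 1) j)).app G)
    (i : ℕ) :
    Nonempty (C.homology i ≅ (ModSite.extSh (O := X.sheaf) F i).obj G) := by
  have : HasInjectiveResolutions X.Modules := ‹HasInjectiveResolutions (ModSite.Mod X.sheaf)›
  have : EnoughInjectives X.Modules := inferInstanceAs (EnoughInjectives (ModSite.Mod X.sheaf))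
  have : ∀ M : X.Modules, (ChgRings.tensR M).Additive := fun M => KFlat.additive_tensorBi_flip M
  have hadd : ∀ (M : X.Modules) [ModSite.HasSheafHom (O := X.sheaf) M], (InjMod.homF M).Additive :=
    fun M _ => (InjMod.homAdj M).right_adjoint_additive
  have := hadd F
  have := fun j => hadd (E.X j)
  have : (Scheme.Modules.pushforward (𝟙 X)).Additive :=
    (Scheme.Modules.pullbackPushforwardAdjunction (𝟙 X)).right_adjoint_additive
  let c : ∀ (M : X.Modules) [ModSite.HasSheafHom (O := X.sheaf) M],
      InjMod.relHomF (𝟙 X) M ≅ InjMod.homF M := fun M _ =>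
    Functor.isoWhiskerLeft (InjMod.homF M) (Scheme.Modules.pushforwardId X) ≪≫ Functor.rightUnitor _
  have : ∀ j : ℕ, ModSite.HasSheafHom (O := X.sheaf) (E.X j) := inferInstance
  let π' := π
  have hL : ∀ j p, 1 ≤ p → IsZero (((InjMod.relHomF (𝟙 X) (E.X j)).rightDerived p).obj G) := by
    intro j p hp
    obtain ⟨q, rfl⟩ : ∃ q, p = q + 1 := ⟨p - 1, by omega⟩
    obtain ⟨ha, hl, hr⟩ := InjMod.preservesFiniteColimits_homF (E := E.X j)
      (InjMod.hasFrames_of_isFinLocFree (hE j))
    exact (EtaleSite.Flasque.isZero_rightDerived_of_exact (InjMod.homF (E.X j)) q G).of_iso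
      ((ExtSuppLib.rightDerivedMapIso (c (E.X j)) (q + 1)).app G)
  let e' : ∀ j, C.X j ≅ (InjMod.relHomF (𝟙 X) (E.X j)).obj G := fun j => e j ≪≫ ((c (E.X j)).app G).symm
  have hC' : ∀ j, C.d j (j + 1) ≫ (e' (j + 1)).hom =
      (e' j).hom ≫ (InjMod.relHomMap (𝟙 X) (E.d (j + 1) j)).app G := by
    intro j
    have hn := (Scheme.Modules.pushforwardId X).inv.naturality
      ((InjMod.homMap (E.d (j + 1) j)).app G)
    simp only [e', Iso.trans_hom, ← Category.assoc, hC j]
    simp only [Category.assoc]
    refine congrArg ((e j).hom ≫ ·) ?_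
    simpa [c] using hn
  have hd : ∀ j, E.d (j + 2) (j + 1) ≫ E.d (j + 1) j = 0 := fun j => E.d_comp_d _ _ _
  rcases i with _ | k
  · obtain ⟨ek⟩ := InjMod.nonempty_kernel_relHom_iso (𝟙 X) G (E.d 1 0) π hπ hex0
    exact ⟨C.isoHomologyπ₀.symm ≪≫
      (C.cyclesIsKernel 0 1 (by simp)).conePointUniqueUpToIso (kernelIsKernel _) ≪≫
      kernel.mapIso _ _ (e' 0) (e' 1) (hC' 0) ≪≫ ek ≪≫ (ExtSuppLib.rightDerivedMapIso (c F) 0).app G⟩
  · obtain ⟨eh⟩ := InjMod.nonempty_homology_relHom_iso (𝟙 X) G k F (fun j => E.X j) (fun j => E.d (j + 1) j)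
      π hπ hd hex0 (fun j => (E.exactAt_iff' (j + 2) (j + 1) j (by simp) (by simp)).1 (hex j)) hL
    refine ⟨ShortComplex.homologyMapIso (C.isoSc' k (k + 1) (k + 2) (by simp) (by simp) ≪≫
      ShortComplex.isoMk (S₂ := ShortComplex.mk ((InjMod.relHomMap (𝟙 X) (E.d (k + 1) k)).app G)
        ((InjMod.relHomMap (𝟙 X) (E.d (k + 1 + 1) (k + 1))).app G)
        (InjMod.relHomMap_comp_zero (𝟙 X) _ _ (hd k) G))
        (e' k) (e' (k + 1)) (e' (k + 2)) (hC' k).symm (hC' (k + 1)).symm) ≪≫ eh ≪≫
      (ExtSuppLib.rightDerivedMapIso (c F) (k + 1)).app G⟩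

end Groth.Agent.S15520
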