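import Groth.Statements.S15521
import Groth.Agent.TensorExt.Stalk
import Mathlib.LinearAlgebra.TensorProduct.Basis
import Mathlib.LinearAlgebra.Matrix.Kronecker

set_option autoImplicit false
universe u
open CategoryTheory CategoryTheory.Limits AlgebraicGeometry
open ExtPow
open Groth.Agent.PullStalk.Sky Groth.Agent.ExtPowSt Groth.Agent.TensorExt
  Groth.Agent.ExtFilt.Sheaf Groth.Agent.ExtFilt.Stalkwise Groth.Agent.Omega.Stalks
  Groth.Agent.PullStalk.Exact
open scoped Kronecker TensorProduct

namespace Groth.Agent.S15521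

/-- The determinant of a family of pure tensors. -/
theorem det_tensor {R : Type u} [CommRing R] {M N P : Type u} [AddCommGroup M] [Module R M]
    [AddCommGroup N] [Module R N] [AddCommGroup P] [Module R P] {e f : ℕ}
    (b : Module.Basis (Fin e) R M) (c : Module.Basis (Fin f) R N) (ε : M ⊗[R] N ≃ₗ[R] P)
    (m : Fin e → M) (n : Fin f → N) :
    (((b.tensorProduct c).map ε).reindex finProdFinEquiv).det
        (fun k => ε (m (finProdFinEquiv.symm k).1 ⊗ₜ n (finProdFinEquiv.symm k).2)) =
      b.det m ^ f * c.det n ^ e := by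
  classical
  rw [Module.Basis.det_apply, Module.Basis.det_apply, Module.Basis.det_apply]
  have h : (((b.tensorProduct c).map ε).reindex finProdFinEquiv).toMatrix
        (fun k => ε (m (finProdFinEquiv.symm k).1 ⊗ₜ n (finProdFinEquiv.symm k).2)) =
      (b.toMatrix m ⊗ₖ c.toMatrix n).submatrix finProdFinEquiv.symm finProdFinEquiv.symm := by
    ext i j
    simp [Module.Basis.toMatrix_apply, Module.Basis.tensorProduct_repr_tmul_apply, mul_comm]
  rw [h, Matrix.det_submatrix_equiv_self, Matrix.det_kronecker, Fintype.card_fin, Fintype.card_fin]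

/-- Let X be a scheme and E, F finite locally free O_X-modules of constant ranks e and f, with
determinants det E = Λ^e E, det F = Λ^f F and det(E ⊗ F) = Λ^(e f)(E ⊗ F) (given as O_X-modules DE,
DF, D satisfying the exterior-power predicate). Then det(E ⊗ F) is isomorphic to (det E)^{⊗ f} ⊗
(det F)^{⊗ e}. (Existence of an isomorphism of O_X-modules only; the published statement is for a
ringed space.) -/
theorem result (X : Scheme.{u}) (E F : X.Modules) (e f : ℕ)
    (hE : FlatMod.IsFinLocFreeOfRank e E) (hF : FlatMod.IsFinLocFreeOfRank f F)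
    (DE DF D : X.Modules) (hDE : ExtPow.IsExtPow e E DE) (hDF : ExtPow.IsExtPow f F DF)
    (hD : ExtPow.IsExtPow (e * f) (CohB1.tensorMod E F) D) :
    Nonempty (D ≅ CohB1.tensorMod (CohB1.tensorPow DE f) (CohB1.tensorPow DF e)) := by
  classical
  have hEf := TensorExt.isFinLocFree_of_rank hE
  have hFf := TensorExt.isFinLocFree_of_rank hF
  haveI := PerfTri.Betti.isQuasicoherent_of_isFinLocFree hEf
  haveI := PerfTri.Betti.isQuasicoherent_of_isFinLocFree hFf
  haveI : (CohB1.tensorMod E F).IsQuasicoherent := PerfTri.Betti.isQuasicoherent_of_isFinLocFree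
    (KFlat.TensorLocFree.isFinLocFree_tensM hEf hFf)
  obtain ⟨φE, hφE⟩ := hDE
  obtain ⟨φF, hφF⟩ := hDF
  obtain ⟨φD, hφD⟩ := hD
  let ΦE : Sys e E DE := ⟨φE, hφE⟩
  let ΦF : Sys f F DF := ⟨φF, hφF⟩
  let ΦD : Sys (e * f) (CohB1.tensorMod E F) D := ⟨φD, hφD⟩
  let b := fun x => (exists_stalk_basis hE x).some
  let c := fun x => (exists_stalk_basis hF x).some
  let fam : ∀ x, (Fin e → E.presheaf.stalk x) → (Fin f → F.presheaf.stalk x) →
      Fin (e * f) → (CohB1.tensorMod E F).presheaf.stalk x := fun x m n k =>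
    pr E F x (m (finProdFinEquiv.symm k).1) (n (finProdFinEquiv.symm k).2)
  let T : ∀ x, (Fin e → E.presheaf.stalk x) → (Fin f → F.presheaf.stalk x) →
      (CohB1.tensorMod (CohB1.tensorPow DE f) (CohB1.tensorPow DF e)).presheaf.stalk x := fun x m n =>
    pr _ _ x (pw DE x f fun _ => (stalkEquiv ΦE x).symm (exteriorPower.ιMulti _ e m))
      (pw DF x e fun _ => (stalkEquiv ΦF x).symm (exteriorPower.ιMulti _ f n))
  let w := fun x => (((b x).tensorProduct (c x)).map (prEquiv E F x)).reindex finProdFinEquiv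
  have hw : ∀ x, fam x (b x) (c x) = w x := fun x => funext fun k => by
    simp [fam, w, Module.Basis.tensorProduct_apply', prEquiv_tmul]
  let d := fun x => exteriorPower.alternatingMapLinearEquiv (w x).det
  have hd : ∀ x, Function.Bijective (d x) := fun x => by
    have h : d x ∘ LinearMap.toSpanSingleton (X.presheaf.stalk x) _ (exteriorPower.ιMulti (X.presheaf.stalk x) (e * f) (w x)) = id :=
      funext fun s => by
        rw [Function.comp_apply, LinearMap.toSpanSingleton_apply, map_smul, det_ιMulti, smul_eq_mul, mul_one, id]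
    exact ((bijective_smul_ιMulti (w x)).of_comp_iff (d x)).1 (h ▸ Function.bijective_id)
  have hgen : ∀ {r : ℕ} {G LG : X.Modules} [G.IsQuasicoherent] (Φ : Sys r G LG) (x : X)
      (g : Module.Basis (Fin r) (X.presheaf.stalk x) (G.presheaf.stalk x)),
      IsGen (R := X.presheaf.stalk x) ((stalkEquiv Φ x).symm (exteriorPower.ιMulti _ r g)) := by
    intro r G LG _ Φ x g
    have h := (stalkEquiv Φ x).symm.bijective.comp (bijective_smul_ιMulti g)
    unfold IsGen
    convert h using 1
    funext a
    exact (LinearEquiv.map_smul (stalkEquiv Φ x).symm a _).symm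
  have hT0 : ∀ x, IsGen (R := X.presheaf.stalk x) (T x (b x) (c x)) := fun x =>
    isGen_pr (isGen_pw (hgen ΦE x (b x)) f) (isGen_pw (hgen ΦF x (c x)) e)
  obtain ⟨φ, hbij, hform⟩ : ∃ φ : ∀ x : X, D.presheaf.stalk x →ₗ[X.presheaf.stalk x]
      (CohB1.tensorMod (CohB1.tensorPow DE f) (CohB1.tensorPow DF e)).presheaf.stalk x,
      (∀ x, Function.Bijective (φ x)) ∧ ∀ x m n,
        φ x ((stalkEquiv ΦD x).symm (exteriorPower.ιMulti _ (e * f) (fam x m n))) = T x m n := by
    let φ : ∀ x : X, D.presheaf.stalk x →ₗ[X.presheaf.stalk x]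
        (CohB1.tensorMod (CohB1.tensorPow DE f) (CohB1.tensorPow DF e)).presheaf.stalk x := fun x =>
      LinearMap.toSpanSingleton _ _ (T x (b x) (c x)) ∘ₗ d x ∘ₗ (stalkEquiv ΦD x).toLinearMap
    have hbij : ∀ x, Function.Bijective (φ x) := fun x =>
      (hT0 x).comp ((hd x).comp (stalkEquiv ΦD x).bijective)
    have hform : ∀ x m n, φ x ((stalkEquiv ΦD x).symm (exteriorPower.ιMulti _ (e * f) (fam x m n))) =
        T x m n := by
      intro x m n
      have hdet : (w x).det (fam x m n) = (b x).det m ^ f * (c x).det n ^ e :=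
        det_tensor (b x) (c x) (prEquiv E F x) m n
      simp only [φ, LinearMap.comp_apply, LinearEquiv.coe_coe, LinearEquiv.apply_symm_apply, d,
        exteriorPower.alternatingMapLinearEquiv_apply_ιMulti, LinearMap.toSpanSingleton_apply, hdet, T]
      rw [ιMulti_eq_det_smul (b x) m, ιMulti_eq_det_smul (c x) n, LinearEquiv.map_smul, LinearEquiv.map_smul,
        pw_smul, pw_smul, pr_smul_left, pr_smul_right, Finset.prod_const, Finset.prod_const, Finset.card_univ,
        Finset.card_univ, Fintype.card_fin, Fintype.card_fin, smul_smul]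
    exact ⟨φ, hbij, hform⟩
  have hloc0 : ∀ x, Loc φ x ((stalkEquiv ΦD x).symm (exteriorPower.ιMulti _ (e * f) (fam x (b x) (c x)))) := by
    intro x
    obtain ⟨U₀, hx₀, -, t', ht'⟩ := exists_lifts F x (c x) ⊤ trivial
    obtain ⟨U, hx, hle, s, hs⟩ := exists_lifts E x (b x) U₀.1 hx₀
    let t : Fin f → Γ(F, U.1) := fun j => QCoh.res F hle (t' j)
    have ht : ∀ j, germM F U.1 x hx (t j) = c x j := fun j => (germM_res' F hle x hx (t' j)).trans (ht' j)
    let v : Fin (e * f) → Γ(CohB1.tensorMod E F, U.1) := fun k =>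
      SecTwist.tmul E F U.1 (s (finProdFinEquiv.symm k).1) (t (finProdFinEquiv.symm k).2)
    have hm : ∀ y (hy : y ∈ U.1), germM D U.1 y hy (wsec ΦD U v) = (stalkEquiv ΦD y).symm
        (exteriorPower.ιMulti _ (e * f)
          (fam y (fun i => germM E U.1 y hy (s i)) (fun j => germM F U.1 y hy (t j)))) := by
      intro y hy
      rw [LinearEquiv.eq_symm_apply, equiv_wedge]
      exact congrArg _ (funext fun k => pr_germ U.1 y hy _ _)
    refine ⟨U.1, hx, wsec ΦD U v, SecTwist.tmul _ _ U.1 (KoszTw.tprod DE f U.1 fun _ => wsec ΦE U s)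
      (KoszTw.tprod DF e U.1 fun _ => wsec ΦF U t), ?_, fun y hy => ?_⟩
    · rw [hm x hx]
      simp only [hs, ht]
    · rw [hm y hy]
      refine (hform y (fun i => germM E U.1 y hy (s i)) (fun j => germM F U.1 y hy (t j))).trans ?_
      rw [pr_germ, pw_germ, pw_germ]
      show pr _ _ y _ _ = _
      congr 2 <;> funext i <;> rw [LinearEquiv.symm_apply_eq, equiv_wedge]
  have hloc : ∀ x t, Loc φ x t := by
    intro x t
    rw [← (stalkEquiv ΦD x).symm_apply_apply t]
    generalize stalkEquiv ΦD x t = z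
    obtain ⟨a, rfl⟩ := (bijective_smul_ιMulti (w x)).2 z
    rw [LinearMap.toSpanSingleton_apply, LinearEquiv.map_smul, ← hw]
    exact loc_smul a (hloc0 x)
  obtain ⟨h, hh⟩ := exists_hom hloc
  haveI : IsIso h := isIso_of_stalk fun y => by
    rw [show (stalkLin h y : _ → _) = φ y from funext (hh y)]
    exact hbij y
  exact ⟨asIso h⟩

end Groth.Agent.S15521
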