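import Groth.Statements.S15522
import Groth.Agent.CBC.Transfer
import Groth.Agent.CBC.NoethThms
import Groth.Agent.S0002

set_option autoImplicit false
universe u
attribute [local instance] HasDerivedCategory.standard
open Coherent

namespace Groth.Agent.S15522

open AlgebraicGeometry CategoryTheory in
/-- Let A be a reduced Noetherian ring, X a proper scheme over Spec A with structure morphism f, F a
coherent O_X-module flat over Spec A, and p a natural number such that the function y ↦ dim_{κ(y)}
H^p(X_y, F_y) is locally constant on Spec A. For each q write T^q for the functor M ↦ H^q(X, f^*(M~)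
⊗ F) from A-modules to abelian groups. Then T^p takes surjections to surjections, and so does
T^(p-1) when p ≥ 1; equivalently, every base-change map H^q(X, F) ⊗_A M → H^q(X, F ⊗_A M) is
bijective for q = p and q = p - 1. (The published statement also asserts that R^p f_*F is locally
free of finite rank; this row states the two exchange properties only, over an affine base.) -/
theorem result (A : Type u) [CommRing A]
    [IsNoetherianRing A] [IsReduced A] (X : Scheme.{u}) [X.Over (Spec (CommRingCat.of A))]
    [IsProper (X ↘ Spec (CommRingCat.of A))] (F : X.Modules) (hF : Coh.IsCoh F)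
    (hfl : FlatMod.IsFlatOver (X ↘ Spec (CommRingCat.of A)) F) (p : ℕ)
    (hconst : IsLocallyConstant (CohIII.fiberRank (X ↘ Spec (CommRingCat.of A)) F p)) :
    (CohIII.tensorAFunctor A F ⋙ CohIII.HAb X p).PreservesEpimorphisms ∧
      ∀ q : ℕ, q + 1 = p → (CohIII.tensorAFunctor A F ⋙ CohIII.HAb X q).PreservesEpimorphisms := by
  haveI : F.IsQuasicoherent := hF.1
  haveI : IsNoetherianRing (CommRingCat.of A) := inferInstanceAs (IsNoetherianRing A)
  haveI : _root_.IsReduced (CommRingCat.of A) := inferInstanceAs (_root_.IsReduced A)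
  have hfin : Groth.Agent.CBC.FinCoh.{u} :=
    fun A _ _ Z _ _ M hM n => Groth.Agent.S0002.result A Z M hM n
  have hS := isAffineOpen_top (Spec (CommRingCat.of A))
  obtain ⟨D, hD⟩ := Groth.Agent.CBC.exists_model_win hF hfl hfin hS
  have hg := Groth.Agent.CBC.good_of_isLocallyConstant hF hfl hfin hconst
  obtain ⟨w⟩ := hD p
  obtain ⟨h1, h2⟩ := hg ⊤ hS D w
  let R := Groth.Agent.CBC.Rep.ofModel F D (Groth.Agent.CBC.flat_KA F D hfl)
  refine ⟨(R.preservesEpi_iff p).2 (Groth.Agent.CBC.rExact_iff_spec.1 (w.rExact_iff.2 h2)), ?_⟩
  rintro q rfl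
  exact (R.preservesEpi_iff q).2 (Groth.Agent.CBC.rExact_iff_spec.1
    ((Groth.Agent.CBC.SCx.rExact_iff_lExact_succ _ q (fun n => D.flat_K F hS hfl n)).2
      (w.lExact_iff.2 h1)))

end Groth.Agent.S15522
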