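import Groth.Statements.S15523
import Groth.Agent.HodgeIdx81.Surface
import Groth.Agent.AbVarLib.Basics
import Groth.Agent.GrpScheme.HomFlat

set_option autoImplicit false
universe u
open CategoryTheory AlgebraicGeometry
open Zeta

namespace Groth.Agent.S15523

/-- Let S be a smooth, proper, geometrically irreducible surface over a field k, H an ample invertible
O_S-module and D any invertible O_S-module. Then (D·D)(H·H) ≤ (D·H)^2, where (A·B) denotes the
intersection number on S computed as the alternating sum of Euler characteristics χ(O_S) − χ(A) −
χ(B) + χ(A ⊗ B). (The published statement is for divisors on the self-product of a smooth projective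
geometrically irreducible curve over a finite field; the printed argument uses only the Hodge index
property of an ample class on a smooth projective surface, so the row is stated for any such
surface.) -/
theorem result (k : Type u) [Field k] (S : Scheme.{u})
    [S.Over (Spec (CommRingCat.of k))] [IsProper (S ↘ Spec (CommRingCat.of k))]
    [Smooth (S ↘ Spec (CommRingCat.of k))] [GeometricallyIrreducible (S ↘ Spec (CommRingCat.of k))]
    (hdim : topologicalKrullDim S = 2) (D H : S.Modules) (hD : PicF.IsInvertible D)
    (hH : CohB1.IsAmple H) :
    FGA.intNum k S 2 ![D, D] (Coh.structureModule S) * FGA.intNum k S 2 ![H, H] (Coh.structureModule S) ≤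
      FGA.intNum k S 2 ![D, H] (Coh.structureModule S) ^ 2 := by
  haveI : GeometricallyReduced (S ↘ Spec (CommRingCat.of k)) :=
    AbVarLib.Basics.geometricallyReduced_of_smooth _
  haveI : AlgebraicGeometry.IsReduced S :=
    GrpScheme.HomFlat.isReduced_of_smooth (K := k) (S ↘ Spec (CommRingCat.of k))
  haveI : IrreducibleSpace S :=
    GeometricallyIrreducible.irreducibleSpace (S ↘ Spec (CommRingCat.of k))
      (fun _ _ => isOpen_discrete _)
  haveI : AlgebraicGeometry.IsIntegral S := isIntegral_of_irreducibleSpace_of_isReduced S
  have hd : topologicalKrullDim S = ((2 : ℕ) : WithBot ℕ∞) := by rw [hdim]; norm_num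
  have hpr : ∀ A B : S.Modules, PicF.IsInvertible A → PicF.IsInvertible B →
      FGA.intNum k S 2 ![A, B] (Coh.structureModule S) = HodgeIdx81.pr k A B := fun A B hA hB => by
    rw [Snapper.intNum_eq k hd.le, show ![A, B] = Fin.cons A (fun _ : Fin 1 => B) from
      funext fun i => by fin_cases i <;> rfl, HodgeIdx81.pr_eq_intE k hA hB]
  rw [hpr D D hD hD, hpr H H hH.1 hH.1, hpr D H hD hH.1]
  exact HodgeIdx81.pr_mul_le_sq k hd hH hD

end Groth.Agent.S15523
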