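import Groth.Statements.S15524
import Groth.Agent.S7825
import Mathlib.Algebra.BigOperators.Field

set_option autoImplicit false
open Finset
open Zeta

namespace Groth.Agent.S15524

/-- Let q ≥ 1 and let α_1, …, α_{2g} be complex numbers permuted by α ↦ q/α, i.e. α_{σ(i)} α_i = q for a
permutation σ of the indices; these play the role of the inverse roots of the numerator of the zeta
function of a curve over a field with q elements, for which #X(F_{q^N}) = q^N + 1 − Σ_i α_i^N. If
for some d ≥ 1 and real C one has |Σ_i α_i^{dN}| ≤ C q^{dN/2} for every N ≥ 1, then |α_i|^2 = q for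
every i (the Riemann hypothesis for the curve). -/
theorem result {g : ℕ} (q : ℕ) (hq : 0 < q)
    (α : Fin (2 * g) → ℂ) (σ : Equiv.Perm (Fin (2 * g))) (hσ : ∀ i, α (σ i) * α i = q)
    (d : ℕ) (hd : 0 < d) (C : ℝ)
    (hC : ∀ N : ℕ, 1 ≤ N → ‖∑ i, α i ^ (d * N)‖ ≤ C * (q : ℝ) ^ ((d : ℝ) * N / 2))
    (i : Fin (2 * g)) : ‖α i‖ ^ 2 = q := by
  have hq0 : (0 : ℝ) < q := Nat.cast_pos.mpr hq
  have hs : (0 : ℝ) < Real.sqrt q := Real.sqrt_pos.mpr hq0
  have hs2 : Real.sqrt q ^ 2 = q := Real.sq_sqrt hq0.le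
  let β : Fin (2 * g) → ℂ := fun j => (α j / (Real.sqrt q : ℂ)) ^ d
  have hb : ∀ j, ‖β j‖ ≤ 1 := by
    refine fun j => Groth.Agent.S7825.result β C (fun N hN => ?_) j
    have hpow : ∀ j, β j ^ N = α j ^ (d * N) / (Real.sqrt q : ℂ) ^ (d * N) := fun j => by
      simp only [β, ← pow_mul, div_pow]
    simp only [hpow, ← Finset.sum_div, norm_div, norm_pow, Complex.norm_real,
      Real.norm_of_nonneg hs.le]
    rw [div_le_iff₀ (by positivity)]
    refine (hC N hN).trans (le_of_eq ?_)
    congr 1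
    rw [Real.sqrt_eq_rpow, ← Real.rpow_natCast ((q : ℝ) ^ (1 / 2 : ℝ)) (d * N),
      ← Real.rpow_mul hq0.le]
    push_cast
    ring_nf
  have hle : ∀ j, ‖α j‖ ≤ Real.sqrt q := fun j => by
    have h := hb j
    simp only [β, norm_pow, norm_div, Complex.norm_real, Real.norm_of_nonneg hs.le] at h
    rwa [pow_le_one_iff_of_nonneg (by positivity) (by omega), div_le_one hs] at h
  have hprod : ‖α (σ i)‖ * ‖α i‖ = q := by
    rw [← norm_mul, hσ, Complex.norm_natCast]
  have := hle i
  have := hle (σ i)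
  have := norm_nonneg (α i)
  have := norm_nonneg (α (σ i))
  nlinarith

end Groth.Agent.S15524
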