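import Groth.Statements.S15525
import Groth.Agent.S13059
import Mathlib.LinearAlgebra.Matrix.Charpoly.Eigs
import Mathlib.Analysis.Complex.Polynomial.Basic

set_option autoImplicit false
universe u
open Zeta

namespace Groth.Agent.S15525

/-- Let L be a field with a ring embedding ι into ℂ and M an r × r matrix over L all of whose
eigenvalues, the complex roots of its characteristic polynomial mapped along ι, have absolute value
1. Then every coefficient of the characteristic polynomial of the block-diagonal matrix with blocks
M and the inverse transpose of M is mapped by ι into ℝ. This is the pointwise content of the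
assertion that for a lisse sheaf F pure of weight 0 the sum of F and its dual is real, the Frobenius
of the dual acting by the inverse transpose. -/
theorem result (L : Type u) [Field L] (ι : L →+* ℂ)
    {r : ℕ} (M : Matrix (Fin r) (Fin r) L)
    (hM : ∀ z ∈ ((Matrix.charpoly M).map ι).roots, ‖z‖ = 1) (n : ℕ) :
    (ι ((Matrix.fromBlocks M 0 0 (M⁻¹).transpose).charpoly.coeff n)).im = 0 := by
  have hP : ((Matrix.charpoly M).map ι).roots.prod ≠ 0 :=
    Multiset.prod_ne_zero fun h => by simpa using hM 0 h
  rw [← Matrix.charpoly_map] at hM hP
  set A : Matrix (Fin r) (Fin r) ℂ := M.map ι with hA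
  set R := A.charpoly.roots with hR
  have hsplit : A.charpoly.Splits := IsAlgClosed.splits _
  have hpoly : A.charpoly = (R.map fun z => Polynomial.X - Polynomial.C z).prod :=
    hsplit.eq_prod_roots_of_monic A.charpoly_monic
  have hdet : A.det = R.prod := A.det_eq_prod_roots_charpoly
  have hu : IsUnit M.det := by
    refine isUnit_iff_ne_zero.mpr fun h => hP ?_
    rw [← hdet, hA, ← RingHom.mapMatrix_apply, ← RingHom.map_det, h, map_zero]
  set N : Matrix (Fin r) (Fin r) ℂ := M⁻¹.map ι with hN
  have hAN : A * N = 1 := by
    rw [hA, hN, ← Matrix.map_mul, Matrix.mul_nonsing_inv M hu]; simp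
  have hdN : A.det * N.det = 1 := by rw [← Matrix.det_mul, hAN, Matrix.det_one]
  have hne : ∀ z ∈ R, z ≠ 0 := fun z hz h0 => hP (Multiset.prod_eq_zero (h0 ▸ hz))
  have hcard : R.card = r := by
    rw [hR, hsplit.natDegree_eq_card_roots.symm]; simp
  have hstar : A.charpoly.map (starRingEnd ℂ) = N.charpoly := by
    rw [Groth.Agent.S13059.charpoly_of_mul_eq_one hAN, ← Matrix.reverse_charpoly, hpoly,
      Polynomial.map_multiset_prod, Multiset.map_map]
    have hrev : ∀ S : Multiset ℂ, (∀ z ∈ S, ‖z‖ = 1) →
        (S.map fun z => Polynomial.X - Polynomial.C z).prod.reverse =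
          Polynomial.C ((-1) ^ S.card * S.prod) *
            (S.map (Polynomial.map (starRingEnd ℂ) ∘ fun z => Polynomial.X - Polynomial.C z)).prod := by
      intro S
      induction S using Multiset.induction_on with
      | empty => intro; simpa using Polynomial.reverse_C (1 : ℂ)
      | cons z S ih =>
        intro hS
        have hz : z ≠ 0 := fun h => by simpa [h] using hS z (Multiset.mem_cons_self z S)
        have hzs : (starRingEnd ℂ) z = z⁻¹ :=
          (Complex.inv_eq_conj (hS z (Multiset.mem_cons_self z S))).symm
        rw [Multiset.map_cons, Multiset.prod_cons, Polynomial.reverse_mul_of_domain,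
          ih fun w hw => hS w (Multiset.mem_cons_of_mem hw)]
        have hlin : (Polynomial.X - Polynomial.C z).reverse = 1 - Polynomial.C z * Polynomial.X := by
          rw [Polynomial.reverse, Polynomial.natDegree_X_sub_C]
          ext m
          rcases m with _ | _ | m <;> simp [Polynomial.coeff_reflect, Polynomial.revAt, Polynomial.coeff_X, Polynomial.coeff_one, Polynomial.coeff_C]
        have hz' : Polynomial.C z * Polynomial.C z⁻¹ = (1 : Polynomial ℂ) := by
          rw [← Polynomial.C_mul, mul_inv_cancel₀ hz, Polynomial.C_1]
        simp only [Multiset.map_cons, Multiset.prod_cons]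
        generalize hG : (S.map (Polynomial.map (starRingEnd ℂ) ∘ fun z => Polynomial.X - Polynomial.C z)).prod = G
        simp only [hlin, Multiset.card_cons, pow_succ,
          Function.comp_apply, Polynomial.map_sub, Polynomial.map_X, Polynomial.map_C, hzs,
          map_mul, map_neg, map_pow, map_one]
        linear_combination (-((-1 : Polynomial ℂ) ^ S.card * Polynomial.C S.prod * G)) * hz'
    rw [hrev R hM, Polynomial.smul_eq_C_mul, ← mul_assoc, ← Polynomial.C_mul, Fintype.card_fin,
      hcard, ← hdet]
    have hs : ((-1 : ℂ) ^ r) * (-1) ^ r = 1 := by rw [← mul_pow]; simp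
    rw [show ((-1 : ℂ) ^ r * N.det) * ((-1) ^ r * A.det) = 1 by
      linear_combination (A.det * N.det) * hs + hdN, Polynomial.C_1, one_mul]
  have hblock : ((Matrix.fromBlocks M 0 0 M⁻¹.transpose).charpoly).map ι = A.charpoly * N.charpoly := by
    rw [Matrix.charpoly_fromBlocks_zero₁₂, Matrix.charpoly_transpose, Polynomial.map_mul,
      ← Matrix.charpoly_map, ← Matrix.charpoly_map]
  have hfix : (A.charpoly * N.charpoly).map (starRingEnd ℂ) = A.charpoly * N.charpoly := by
    rw [Polynomial.map_mul, ← hstar, Polynomial.map_map,
      show (starRingEnd ℂ).comp (starRingEnd ℂ) = RingHom.id ℂ from RingHom.ext Complex.conj_conj,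
      Polynomial.map_id, mul_comm]
  rw [← Polynomial.coeff_map, hblock]
  have := congrArg (fun p : Polynomial ℂ => p.coeff n) hfix
  simp only [Polynomial.coeff_map] at this
  exact Complex.conj_eq_iff_im.mp this

end Groth.Agent.S15525
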