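import Groth.Statements.S15526
import Mathlib

set_option autoImplicit false
universe u
open MvPolynomial
open CAlg

namespace Groth.Agent.S15526

/-- Let R be a commutative ring, P ∈ R[x] a monic polynomial of degree 2g + 1, and A = R[x, y, z]/(y^2 −
P(x), yz − 1). Then every element of A is a finite sum Σ_n Q_n(x) y^n over integers n, negative
powers of y meaning powers of z, with each Q_n ∈ R[x] of degree at most 2g: the R-submodule of A
spanned by the classes of x^i y^n and x^i z^n with i ≤ 2g and n ≥ 0 is all of A. (The published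
statement takes for R the ring of Witt vectors of a finite field and for P a lift of a separable
polynomial; the argument uses only that P is monic of degree 2g + 1.) -/
theorem result (R : Type u) [CommRing R] (g : ℕ)
    (P : Polynomial R) (hP : P.Monic) (hdeg : P.natDegree = 2 * g + 1) :
    Submodule.span R {a : MvPolynomial (Fin 3) R ⧸
        Ideal.span ({X 1 ^ 2 - Polynomial.aeval (X 0 : MvPolynomial (Fin 3) R) P, X 1 * X 2 - 1} :
          Set (MvPolynomial (Fin 3) R)) |
        ∃ i n : ℕ, i ≤ 2 * g ∧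
          (a = Ideal.Quotient.mk _ (X 0 ^ i * X 1 ^ n) ∨ a = Ideal.Quotient.mk _ (X 0 ^ i * X 2 ^ n))} =
      ⊤ := by
  classical
  set I := Ideal.span ({X 1 ^ 2 - Polynomial.aeval (X 0 : MvPolynomial (Fin 3) R) P, X 1 * X 2 - 1} :
      Set (MvPolynomial (Fin 3) R))
  set A := MvPolynomial (Fin 3) R ⧸ I
  let mk : MvPolynomial (Fin 3) R →ₐ[R] A := Ideal.Quotient.mkₐ R I
  have hyz : mk (X 1) * mk (X 2) = 1 := by
    rw [← map_mul, ← map_one mk]
    exact Ideal.Quotient.eq.2 (Ideal.subset_span (by simp))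
  let u : Aˣ := Units.mkOfMulEqOne _ _ hyz
  set x := mk (X 0)
  have hy2 : ((u : A)) ^ 2 = Polynomial.aeval x P := by
    show mk (X 1) ^ 2 = _
    rw [Polynomial.aeval_algHom_apply, ← map_pow]
    exact Ideal.Quotient.eq.2 (Ideal.subset_span (by simp))
  let e : ℕ → ℤ → A := fun i m => x ^ i * ((u ^ m : Aˣ) : A)
  set S := Submodule.span R {a : A | ∃ i n : ℕ, i ≤ 2 * g ∧
      (a = Ideal.Quotient.mk _ (X 0 ^ i * X 1 ^ n) ∨ a = Ideal.Quotient.mk _ (X 0 ^ i * X 2 ^ n))}
  have he : ∀ i m, i ≤ 2 * g → e i m ∈ S := by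
    intro i m hi
    refine Submodule.subset_span ?_
    rcases Int.eq_nat_or_neg m with ⟨n, rfl | rfl⟩
    · exact ⟨i, n, hi, Or.inl (by simp only [e, x, u, zpow_natCast, Units.val_pow_eq_pow_val, Units.val_mkOfMulEqOne, ← map_pow, ← map_mul]; rfl)⟩
    · exact ⟨i, n, hi, Or.inr (by simp only [e, x, u, zpow_neg, zpow_natCast, ← inv_pow, Units.val_pow_eq_pow_val, Units.inv_mk, Units.mkOfMulEqOne, ← map_pow, ← map_mul]; rfl)⟩
  have hset : ∀ a ∈ {a : A | ∃ i n : ℕ, i ≤ 2 * g ∧
      (a = Ideal.Quotient.mk _ (X 0 ^ i * X 1 ^ n) ∨ a = Ideal.Quotient.mk _ (X 0 ^ i * X 2 ^ n))},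
      ∃ i m, i ≤ 2 * g ∧ a = e i m := by
    rintro a ⟨i, n, hi, rfl | rfl⟩
    · exact ⟨i, n, hi, by simp only [e, x, u, zpow_natCast, Units.val_pow_eq_pow_val, Units.val_mkOfMulEqOne, ← map_pow, ← map_mul]; rfl⟩
    · exact ⟨i, -(n : ℤ), hi, by simp only [e, x, u, zpow_neg, zpow_natCast, ← inv_pow, Units.val_pow_eq_pow_val, Units.inv_mk, Units.mkOfMulEqOne, ← map_pow, ← map_mul]; rfl⟩
  have hclosed : ∀ c : A, (∀ i m, i ≤ 2 * g → c * e i m ∈ S) → ∀ a ∈ S, c * a ∈ S := by
    intro c hc a ha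
    induction ha using Submodule.span_induction with
    | mem a ha => obtain ⟨i, m, hi, rfl⟩ := hset a ha; exact hc i m hi
    | zero => simp
    | add a b _ _ h1 h2 => rw [mul_add]; exact add_mem h1 h2
    | smul r a _ h1 => rw [mul_smul_comm]; exact S.smul_mem r h1
  have hu : ∀ k : ℤ, ∀ a ∈ S, ((u ^ k : Aˣ) : A) * a ∈ S := fun k => hclosed _ fun i m hi => by
    have : ((u ^ k : Aˣ) : A) * e i m = e i (k + m) := by
      simp only [e, zpow_add, Units.val_mul]; ring
    rw [this]; exact he i _ hi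
  have hx : ∀ a ∈ S, x * a ∈ S := hclosed _ fun i m hi => by
    have hxe : x * e i m = e (i + 1) m := by simp only [e, pow_succ]; ring
    rw [hxe]
    rcases Nat.lt_or_ge i (2 * g) with h | h
    · exact he _ _ (by omega)
    · obtain rfl : i = 2 * g := le_antisymm hi h
      have hsum : x ^ (2 * g + 1) = (u : A) ^ 2 - ∑ j ∈ Finset.range (2 * g + 1), P.coeff j • x ^ j := by
        rw [hy2, Polynomial.aeval_eq_sum_range, hdeg, Finset.sum_range_succ _ (2 * g + 1)]
        rw [show P.coeff (2 * g + 1) = 1 by rw [← hdeg]; exact hP.coeff_natDegree, one_smul]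
        abel
      show x ^ (2 * g + 1) * ((u ^ m : Aˣ) : A) ∈ S
      rw [hsum, sub_mul, Finset.sum_mul]
      refine sub_mem ?_ (sum_mem fun j hj => ?_)
      · have : (u : A) ^ 2 * ((u ^ m : Aˣ) : A) = e 0 (2 + m) := by
          simp [e, zpow_add]
        rw [this]; exact he _ _ (by omega)
      · rw [smul_mul_assoc]
        exact S.smul_mem _ (he j m (by have := Finset.mem_range.1 hj; omega))
  have h1 : (1 : A) ∈ S := by simpa [e] using he 0 0 (by omega)
  refine eq_top_iff.2 fun a ha => ?_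
  clear ha
  obtain ⟨p, rfl⟩ := Ideal.Quotient.mk_surjective a
  change mk p ∈ S
  induction p using MvPolynomial.induction_on with
  | C r =>
    have : mk (C r) = r • (1 : A) := by rw [← Algebra.algebraMap_eq_smul_one, ← MvPolynomial.algebraMap_eq, AlgHom.commutes]
    rw [this]; exact S.smul_mem r h1
  | add p q hp hq => rw [map_add]; exact add_mem hp hq
  | mul_X p i hp =>
    rw [map_mul, mul_comm]
    fin_cases i
    · exact hx _ hp
    · simpa [u] using hu 1 _ hp
    · have h := hu (-1) _ hp; rw [zpow_neg_one] at h; exact h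

end Groth.Agent.S15526
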