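import Groth.Statements.S15533
import Groth.Agent.Omega.Basic
import Groth.Agent.AGFHull.Reduced
import Groth.Agent.AbVarLib.Rigidity
import Mathlib.RingTheory.Nilpotent.GeometricallyReduced

set_option autoImplicit false
universe u
open OmegaSh

namespace Groth.Agent.S15533

open scoped TensorProduct in
/-- In an algebra which stays reduced over a perfect extension field, minimal polynomials are
separable. -/
theorem separable_minpoly {K A : Type u} [Field K] [CommRing A] [Algebra K A] (L : Type u) [Field L]
    [Algebra K L] [PerfectField L] [IsReduced (L ⊗[K] A)] (a : A) (ha : IsIntegral K a) :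
    (minpoly K a).Separable := by
  let P := (minpoly K a).map (algebraMap K L)
  let b : L ⊗[K] A := 1 ⊗ₜ a
  have hP : Polynomial.aeval b P = 0 := by
    rw [Polynomial.aeval_map_algebraMap]
    exact (Polynomial.aeval_algHom_apply (Algebra.TensorProduct.includeRight) a _).trans (by simp)
  have hm := (minpoly.monic ha).map (algebraMap K L)
  have key : ∀ g : Polynomial L, Polynomial.aeval b g = 0 → P ∣ g := fun g hg => by
    rw [← Polynomial.modByMonic_eq_zero_iff_dvd hm]
    have hr : Polynomial.aeval b (g %ₘ P) = 0 := by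
      rw [Polynomial.modByMonic_eq_sub_mul_div, map_sub, map_mul, hP, hg, zero_mul, sub_zero]
    ext i
    rw [Polynomial.coeff_zero, ← Module.forall_dual_apply_eq_zero_iff K]
    intro φ
    let Φ : L ⊗[K] A →ₗ[K] A :=
      (TensorProduct.lid K A).toLinearMap ∘ₗ TensorProduct.map φ LinearMap.id
    let q : Polynomial K :=
      ∑ j ∈ (g %ₘ P).support, Polynomial.monomial j (φ ((g %ₘ P).coeff j))
    have hq : ∀ j, q.coeff j = φ ((g %ₘ P).coeff j) := fun j => by
      rw [Polynomial.finsetSum_coeff]
      simp [Polynomial.coeff_monomial]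
      exact fun h => (map_zero φ).symm.trans (congrArg φ h.symm)
    have hq0 : Polynomial.aeval a q = 0 := by
      have h0 := congrArg Φ hr
      rw [map_zero, Polynomial.aeval_def, Polynomial.eval₂_eq_sum, Polynomial.sum_def, map_sum] at h0
      rw [map_sum, ← h0]
      refine Finset.sum_congr rfl fun j _ => ?_
      simp [Φ, b, Polynomial.aeval_monomial, Algebra.smul_def]
    have hdeg : q.degree < (minpoly K a).degree := by
      refine lt_of_le_of_lt (Polynomial.degree_le_iff_coeff_zero _ _ |>.mpr fun j hj => ?_)
        (lt_of_lt_of_eq (Polynomial.degree_modByMonic_lt g hm) (Polynomial.degree_map _ _))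
      rw [hq, Polynomial.coeff_eq_zero_of_degree_lt hj, map_zero]
    rw [← hq, show q = 0 from by_contra fun h => (minpoly.degree_le_of_ne_zero K a h hq0).not_gt hdeg,
      Polynomial.coeff_zero]
  have hsf : Squarefree P := fun x ⟨y, hy⟩ => by
    have h0 : Polynomial.aeval b (x * y) = 0 := by
      refine IsReduced.eq_zero _ ⟨2, ?_⟩
      rw [← map_pow, show (x * y) ^ 2 = P * y by rw [hy]; ring, map_mul, hP, zero_mul]
    have h1 := key _ h0
    have hne : x * y ≠ 0 := fun h => hm.ne_zero (show P = 0 by rw [hy, mul_assoc, h, mul_zero])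
    refine isUnit_of_dvd_one ((mul_dvd_mul_iff_left hne).mp ?_)
    rw [mul_one]
    exact dvd_trans (dvd_of_eq (by rw [hy]; ring)) h1
  exact (Polynomial.separable_map (algebraMap K L)).mp ((PerfectField.separable_iff_squarefree).mpr hsf)

open CategoryTheory AlgebraicGeometry in
/-- For a field k and a smooth proper k-scheme X with structure morphism f, the derivation d : O_X →
Ω_{X/k} of f vanishes on global functions: d(s) = 0 in Γ(X, Ω_{X/k}) for every s ∈ Γ(X, O_X). -/
theorem result (k : Type u) [Field k] (X : Scheme.{u})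
    (f : X ⟶ Spec (CommRingCat.of k)) [IsProper f] [Smooth f] (s : Γ(X, ⊤)) :
    (OmegaSh.dOmega f).app ⊤ s = 0 := by
  let := (Groth.Agent.AbVarLib.Rigidity.isField_gammaSpec (K := k)).toField
  let K := Γ(Spec (CommRingCat.of k), ⊤)
  refine TopCat.Sheaf.eq_of_locally_eq' ⟨(Omega.sheaf f).presheaf, (Omega.sheaf f).isSheaf⟩
    (fun U : X.affineOpens => U.1) ⊤ (fun U => homOfLE le_top) (iSup_affineOpens_eq_top X).ge _ _
    fun U => ?_
  refine Eq.trans ?_ (map_zero _).symm
  refine Eq.trans (Groth.Agent.Omega.Basic.der_map _ (homOfLE le_top) s).symm ?_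
  have h := HasRingHomProperty.appLE (P := @Smooth) f inferInstance ⟨⊤, isAffineOpen_top _⟩ U le_top
  let := (f.appLE ⊤ U.1 le_top).hom.toAlgebra
  have : Algebra.Smooth K Γ(X, U) := h
  let L := AlgebraicClosure K
  have : _root_.IsReduced (TensorProduct K L Γ(X, U)) := Groth.Agent.AGFHull.isReduced_of_smooth L _
  set a := X.presheaf.map (homOfLE (le_top : U.1 ≤ ⊤)).op s with ha
  let d := OmegaSh.dOmega f
  have hint : IsIntegral K a := by
    obtain ⟨p, hp, hps⟩ := isIntegral_appTop_of_universallyClosed f s
    refine ⟨p, hp, ?_⟩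
    rw [show algebraMap K Γ(X, U) = (X.presheaf.map (homOfLE (le_top : U.1 ≤ ⊤)).op).hom.comp f.appTop.hom
      from rfl, ← Polynomial.hom_eval₂, hps, map_zero]
  have hD : ∀ q : Polynomial K, d.app U.1 (Polynomial.aeval a q) =
      Polynomial.aeval a q.derivative • d.app U.1 a := by
    have hc : ∀ c : K, d.app U.1 (algebraMap K Γ(X, U) c) = 0 :=
      fun c => Groth.Agent.Omega.Basic.der_appLE d ⊤ U.1 le_top c
    intro q
    induction q using Polynomial.induction_on with
    | C c => simp [hc]
    | add p q hp hq => simp [hp, hq, add_smul]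
    | monomial n c h =>
      rw [pow_succ, ← mul_assoc, map_mul, Polynomial.aeval_X, Groth.Agent.Omega.Basic.der_mul, h,
        Polynomial.derivative_mul (g := Polynomial.X), Polynomial.derivative_X, mul_one, map_add,
        map_mul (Polynomial.aeval a) _ Polynomial.X, Polynomial.aeval_X, smul_smul, ← add_smul,
        mul_comm a, add_comm]
  obtain ⟨u, v, huv⟩ := Groth.Agent.S15533.separable_minpoly L a hint
  have hv : Polynomial.aeval a v * Polynomial.aeval a (minpoly K a).derivative = 1 := by
    have := congrArg (Polynomial.aeval a) huv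
    rwa [map_add, map_mul, map_mul, minpoly.aeval, mul_zero, zero_add, map_one] at this
  change d.app U.1 a = 0
  rw [← one_smul Γ(X, U) (d.app U.1 a), ← hv, mul_smul, ← hD, minpoly.aeval, map_zero, smul_zero]

end Groth.Agent.S15533
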