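import Groth.Statements.S15535
import Groth.Agent.Unram24.PushEtale
-- import your own Groth.Agent.* helpers here

set_option autoImplicit false
attribute [-instance] CategoryTheory.catToReflQuiver
universe u
open OmegaSh

namespace Groth.Agent.S15535

open CategoryTheory AlgebraicGeometry in
/-- For a quasi-compact quasi-separated scheme S and a proper morphism f : X → S which is smooth of
relative dimension n with all fibres nonempty (f surjective), the map d : f_*O_X → f_*Ω_{X/S}
induced by the derivation of f is zero: d(s) = 0 for every section s of O_X over an open of the form
f⁻¹(V), V open in S. (The published lemma also asserts that f_*O_X is a finite étale O_S-algebra and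
that Rf_*O_X splits off f_*O_X locally on S with perfect complement of tor amplitude in [1, ∞);
those parts are not stated here.) -/
theorem result (S X : Scheme.{u}) (f : X ⟶ S)
    [CompactSpace ↥S] [QuasiSeparatedSpace ↥S] [IsProper f] (n : ℕ) [SmoothOfRelativeDimension n f]
    [Surjective f] (V : S.Opens) (s : Γ(X, f ⁻¹ᵁ V)) :
    (OmegaSh.dOmega f).app (f ⁻¹ᵁ V) s = 0 := by
  haveI : Smooth f := SmoothOfRelativeDimension.smooth n f
  haveI := Groth.Agent.GrpdLib.SepDense.geometricallyReduced_of_smooth f
  exact Groth.Agent.Unram24.PushEtale.dOmega_app_eq_zero f V s

end Groth.Agent.S15535
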