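import Groth.Statements.S15536
import Groth.Agent.DeRham.Basic
import Groth.Agent.DeRham.FormalPoincare
import Mathlib.Algebra.Polynomial.Derivation

set_option autoImplicit false
set_option linter.unusedSectionVars false
universe u
open DeRham

namespace Groth.Agent.S15536

open exteriorPower Polynomial
open Groth.Agent.DeRham.FormalPoincare (ctr wedge wedge_ιMulti wedge_add wedge_smul wedge_anticomm ctr_wedge ctr_wedge_zero)

section Gen

variable {R : Type u} {B N : Type u} [CommRing R] [CommRing B] [Algebra R B]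
  [AddCommGroup N] [Module B N] [Module R N] [IsScalarTower R B N]
  {δ : Derivation R B N} {d : ∀ p : ℕ, ↥(⋀[B]^p N) →ₗ[R] ↥(⋀[B]^(p + 1) N)}

theorem d_smul (hgen : Submodule.span B (Set.range δ) = ⊤) (hd : _root_.DeRham.IsRule δ d) (p : ℕ)
    (f : B) (y : ↥(⋀[B]^p N)) : d p (f • y) = wedge (δ f) p y + f • d p y := by
  refine DeRham.Basic.gen_induction δ hgen
    (P := fun y => d p (f • y) = wedge (δ f) p y + f • d p y) ?_ ?_ ?_ y
  · simp
  · intro a b ha hb; rw [smul_add, map_add, ha, hb, map_add, map_add, smul_add]; abel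
  · intro b₀ b
    rw [DeRham.Basic.smul_gen, hd, hd, DeRham.Basic.gen_eq, map_smul, wedge_ιMulti, δ.leibniz,
      ← wedge_ιMulti, ← wedge_ιMulti, ← wedge_ιMulti, wedge_add, wedge_smul, wedge_smul]
    exact add_comm _ _

theorem d_ιMulti (hd : _root_.DeRham.IsRule δ d) (p : ℕ) (b : Fin p → B) :
    d p (ιMulti B p fun i => δ (b i)) = 0 := by
  rw [← DeRham.Basic.gen_one, hd]
  exact (ιMulti B (p + 1)).map_coord_zero (0 : Fin (p + 1)) (by simp)

theorem d_wedge (hgen : Submodule.span B (Set.range δ) = ⊤) (hd : _root_.DeRham.IsRule δ d) (p : ℕ)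
    (f : B) (y : ↥(⋀[B]^p N)) : d (p + 1) (wedge (δ f) p y) = -wedge (δ f) (p + 1) (d p y) := by
  refine DeRham.Basic.gen_induction δ hgen
    (P := fun y => d (p + 1) (wedge (δ f) p y) = -wedge (δ f) (p + 1) (d p y)) ?_ ?_ ?_ y
  · simp
  · intro a b ha hb; simp only [map_add, ha, hb]; abel
  · intro b₀ b
    rw [DeRham.Basic.gen_eq, map_smul, d_smul hgen hd, d_smul hgen hd, d_ιMulti hd,
      smul_zero, add_zero]
    have e : wedge (δ f) p (ιMulti B p fun i => δ (b i))
        = ιMulti B (p + 1) fun i => δ ((Fin.cons f b : Fin (p + 1) → B) i) := by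
      rw [wedge_ιMulti]
      congr 1
      ext i
      refine Fin.cases ?_ ?_ i <;> simp
    have e' : d (p + 1) (wedge (δ f) p (ιMulti B p fun i => δ (b i))) = 0 := by
      rw [e]; exact d_ιMulti hd _ _
    rw [e', smul_zero, add_zero]
    exact wedge_anticomm _ _ _ _

theorem ιMulti_succ (p : ℕ) (b : Fin (p + 1) → B) :
    (ιMulti B (p + 1) fun i => δ (b i))
      = wedge (δ (b 0)) p (ιMulti B p fun i => δ (b i.succ)) := by
  rw [wedge_ιMulti]
  congr 1
  ext i
  refine Fin.cases ?_ ?_ i <;> simp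

theorem d_ctr_ιMulti (hgen : Submodule.span B (Set.range δ) = ⊤) (hd : _root_.DeRham.IsRule δ d)
    (e : Module.Dual B N) : ∀ (p : ℕ) (b : Fin (p + 1) → B) (k : Fin (p + 1) → ℕ),
    (∀ i, e (δ (b i)) = k i • b i) →
    d p (ctr e p (ιMulti B (p + 1) fun i => δ (b i)))
      = (∑ i, k i) • ιMulti B (p + 1) fun i => δ (b i) := by
  intro p
  induction p with
  | zero =>
    intro b k h
    rw [ιMulti_succ, ctr_wedge_zero, h 0, d_smul hgen hd, d_ιMulti hd, smul_zero, add_zero,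
      map_nsmul, Fin.sum_univ_one, ← Nat.cast_smul_eq_nsmul B, wedge_smul, Nat.cast_smul_eq_nsmul B]
  | succ p ih =>
    intro b k h
    rw [ιMulti_succ, ctr_wedge, h 0, map_sub, d_smul hgen hd, d_ιMulti hd, smul_zero, add_zero,
      d_wedge hgen hd, ih (fun i => b i.succ) (fun i => k i.succ) (fun i => h _), map_nsmul,
      sub_neg_eq_add, Fin.sum_univ_succ k, add_smul]
    congr 1
    · rw [← Nat.cast_smul_eq_nsmul B, wedge_smul, Nat.cast_smul_eq_nsmul B]
    · rw [map_nsmul]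

/-- The Cartan homotopy `d ∘ ι + ι ∘ d`. -/
noncomputable def lie (d : ∀ p : ℕ, ↥(⋀[B]^p N) →ₗ[R] ↥(⋀[B]^(p + 1) N)) (e : Module.Dual B N) :
    ∀ p : ℕ, ↥(⋀[B]^p N) →+ ↥(⋀[B]^p N)
  | 0 => (ctr e 0).toAddMonoidHom.comp (d 0).toAddMonoidHom
  | p + 1 => (d p).toAddMonoidHom.comp (ctr e p).toAddMonoidHom
      + (ctr e (p + 1)).toAddMonoidHom.comp (d (p + 1)).toAddMonoidHom

theorem lie_gen (hgen : Submodule.span B (Set.range δ) = ⊤) (hd : _root_.DeRham.IsRule δ d)
    (e : Module.Dual B N) (p : ℕ) (b₀ : B) (b : Fin p → B) (k₀ : ℕ) (k : Fin p → ℕ)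
    (h₀ : e (δ b₀) = k₀ • b₀) (h : ∀ i, e (δ (b i)) = k i • b i) :
    lie d e p (_root_.DeRham.gen δ p b₀ b) = (k₀ + ∑ i, k i) • _root_.DeRham.gen δ p b₀ b := by
  cases p with
  | zero =>
    show ctr e 0 (d 0 _) = _
    rw [DeRham.Basic.gen_eq, d_smul hgen hd, d_ιMulti hd, smul_zero, add_zero, ctr_wedge_zero, h₀]
    rw [Finset.sum_of_isEmpty, add_zero, smul_assoc]
  | succ p =>
    show d p (ctr e p _) + ctr e (p + 1) (d (p + 1) _) = _
    rw [DeRham.Basic.gen_eq, map_smul, d_smul hgen hd, d_ctr_ιMulti hgen hd e p b k h, d_smul hgen hd,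
      d_ιMulti hd, smul_zero, add_zero, ctr_wedge, h₀, add_smul k₀, smul_assoc, smul_comm b₀]
    abel

theorem lie_mem_coboundaries (e : Module.Dual B N) (p : ℕ) (y : ↥(⋀[B]^p N)) (hy : d p y = 0) :
    lie d e p y ∈ _root_.DeRham.coboundaries d p := by
  cases p with
  | zero =>
    show ctr e 0 (d 0 y) ∈ (⊥ : Submodule R _)
    rw [hy, map_zero]
    exact zero_mem _
  | succ p =>
    show d p (ctr e p y) + ctr e (p + 1) (d (p + 1) y) ∈ LinearMap.range (d p)
    rw [hy, map_zero, add_zero]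
    exact LinearMap.mem_range_self _ _

theorem coboundaries_le_cocycles (hdd : ∀ p : ℕ, d (p + 1) ∘ₗ d p = 0) (p : ℕ) :
    _root_.DeRham.coboundaries d p ≤ _root_.DeRham.cocycles d p := by
  cases p with
  | zero => exact bot_le
  | succ p =>
    rintro _ ⟨x, rfl⟩
    exact LinearMap.congr_fun (hdd p) x

end Gen

section Poly

variable {R A : Type u} [CommRing R] [CommRing A] [Algebra R A]

/-- The Euler derivation `t·d/dt`. -/
noncomputable def eulerDer (R A : Type u) [CommRing R] [CommRing A] [Algebra R A] :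
    Derivation R A[X] A[X] :=
  ((X : A[X]) • (Polynomial.derivative' (R := A))).restrictScalars R

theorem eulerDer_monomial (k : ℕ) (a : A) : eulerDer R A (monomial k a) = k • monomial k a := by
  show (X : A[X]) * derivative (monomial k a) = _
  rw [derivative_monomial]
  cases k with
  | zero => simp
  | succ k => rw [Nat.add_sub_cancel, X_mul_monomial, ← map_nsmul, nsmul_eq_mul, mul_comm]

/-- Forms of weight at most `m`. -/
noncomputable def weightLE (R A : Type u) [CommRing R] [CommRing A] [Algebra R A] (p m : ℕ) :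
    AddSubgroup ↥(⋀[A[X]]^p (Ω[A[X]⁄R])) :=
  AddSubgroup.closure {g | ∃ (k₀ : ℕ) (a₀ : A) (k : Fin p → ℕ) (a : Fin p → A),
    k₀ + ∑ i, k i ≤ m ∧ g = _root_.DeRham.gen (KaehlerDifferential.D R A[X]) p (monomial k₀ a₀)
      (fun i => monomial (k i) (a i))}

theorem weightLE_mono (p : ℕ) {m n : ℕ} (h : m ≤ n) : weightLE R A p m ≤ weightLE R A p n :=
  AddSubgroup.closure_mono fun _ ⟨k₀, a₀, k, a, hk, hg⟩ => ⟨k₀, a₀, k, a, hk.trans h, hg⟩

theorem exists_weightLE (p : ℕ) (y : ↥(⋀[A[X]]^p (Ω[A[X]⁄R]))) : ∃ m, y ∈ weightLE R A p m := by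
  classical
  refine DeRham.Basic.gen_induction (KaehlerDifferential.D R A[X])
    (KaehlerDifferential.span_range_derivation R A[X]) (P := fun y => ∃ m, y ∈ weightLE R A p m)
    ⟨0, zero_mem _⟩ ?_ ?_ y
  · rintro u v ⟨m, hm⟩ ⟨n, hn⟩
    exact ⟨max m n, add_mem (weightLE_mono p (le_max_left m n) hm)
      (weightLE_mono p (le_max_right m n) hn)⟩
  · intro b₀ b
    refine ⟨b₀.natDegree + ∑ i, (b i).natDegree, ?_⟩
    have hb : (fun i => KaehlerDifferential.D R A[X] (b i))
        = fun i => ∑ k ∈ (b i).support, KaehlerDifferential.D R A[X] (monomial k ((b i).coeff k)) := by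
      ext i
      conv_lhs => rw [Polynomial.as_sum_support (b i)]
      exact map_sum _ _ _
    rw [DeRham.Basic.gen_eq, hb, ← AlternatingMap.coe_multilinearMap,
      MultilinearMap.map_sum_finset, Finset.smul_sum]
    refine sum_mem fun f hf => ?_
    rw [Polynomial.as_sum_support b₀, Finset.sum_smul]
    refine sum_mem fun k₀ hk₀ => AddSubgroup.subset_closure ?_
    refine ⟨k₀, b₀.coeff k₀, f, fun i => (b i).coeff (f i), ?_, rfl⟩
    rw [← Polynomial.as_sum_support b₀]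
    exact Nat.add_le_add (le_natDegree_of_mem_supp _ hk₀)
      (Finset.sum_le_sum fun i _ => le_natDegree_of_mem_supp _ (Fintype.mem_piFinset.1 hf i))

variable {d' : ∀ p : ℕ, ↥(⋀[A[X]]^p (Ω[A[X]⁄R])) →ₗ[R] ↥(⋀[A[X]]^(p + 1) (Ω[A[X]⁄R]))}

theorem step_mem (hd' : _root_.DeRham.IsRule (KaehlerDifferential.D R A[X]) d') (p m : ℕ)
    (y : ↥(⋀[A[X]]^p (Ω[A[X]⁄R]))) (hy : y ∈ weightLE R A p (m + 1)) :
    (m + 1) • y - lie d' (eulerDer R A).liftKaehlerDifferential p y ∈ weightLE R A p m := by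
  refine AddSubgroup.closure_induction (p := fun y _ =>
    (m + 1) • y - lie d' (eulerDer R A).liftKaehlerDifferential p y ∈ weightLE R A p m)
    ?_ ?_ ?_ ?_ hy
  · rintro g ⟨k₀, a₀, k, a, hk, rfl⟩
    have he : ∀ (n : ℕ) (c : A), (eulerDer R A).liftKaehlerDifferential
        (KaehlerDifferential.D R A[X] (monomial n c)) = n • monomial n c := fun n c => by
      rw [Derivation.liftKaehlerDifferential_comp_D, eulerDer_monomial]
    rw [lie_gen (KaehlerDifferential.span_range_derivation R A[X]) hd' _ p _ _ k₀ k (he _ _)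
      (fun i => he _ _)]
    rcases Nat.lt_or_ge (k₀ + ∑ i, k i) (m + 1) with hlt | hge
    · have hg : _root_.DeRham.gen (KaehlerDifferential.D R A[X]) p (monomial k₀ a₀)
          (fun i => monomial (k i) (a i)) ∈ weightLE R A p m :=
        AddSubgroup.subset_closure ⟨k₀, a₀, k, a, Nat.lt_succ_iff.1 hlt, rfl⟩
      exact sub_mem (nsmul_mem hg _) (nsmul_mem hg _)
    · rw [le_antisymm hk hge, sub_self]
      exact zero_mem _
  · rw [smul_zero, map_zero, sub_zero]; exact zero_mem _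
  · intro u v _ _ hu hv
    rw [smul_add, map_add, add_sub_add_comm]
    exact add_mem hu hv
  · intro u _ hu
    rw [smul_neg, map_neg, ← neg_sub', ]
    exact neg_mem hu

variable [Algebra ℚ R] {ψ : ∀ p : ℕ, ↥(⋀[A]^p (Ω[A⁄R])) →+ ↥(⋀[A[X]]^p (Ω[A[X]⁄R]))}

theorem exists_preimage (hd' : _root_.DeRham.IsDiff (KaehlerDifferential.D R A[X]) d')
    (hψ : _root_.DeRham.IsCxMap (KaehlerDifferential.D R A) (KaehlerDifferential.D R A[X])
      (algebraMap A A[X]) ψ) (p : ℕ) : ∀ (m : ℕ) (y : ↥(⋀[A[X]]^p (Ω[A[X]⁄R]))),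
    y ∈ weightLE R A p m → d' p y = 0 →
    ∃ x, y - ψ p x ∈ _root_.DeRham.coboundaries d' p := by
  intro m
  induction m with
  | zero =>
    intro y hy _
    have hle : weightLE R A p 0 ≤ (ψ p).range := by
      refine (AddSubgroup.closure_le _).2 ?_
      rintro g ⟨k₀, a₀, k, a, hk, rfl⟩
      have h0 : k₀ = 0 := by omega
      have hi : ∀ i, k i = 0 := fun i =>
        Finset.sum_eq_zero_iff.1 (by omega : ∑ i, k i = 0) i (Finset.mem_univ i)
      refine ⟨_root_.DeRham.gen (KaehlerDifferential.D R A) p a₀ a, ?_⟩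
      rw [hψ, h0]
      simp only [hi, monomial_zero_left]
      rfl
    obtain ⟨x, hx⟩ := hle hy
    exact ⟨x, by rw [hx, sub_self]; exact zero_mem _⟩
  | succ m ih =>
    intro y hy hdy
    let L := lie d' (eulerDer R A).liftKaehlerDifferential p y
    have hL : L ∈ _root_.DeRham.coboundaries d' p := lie_mem_coboundaries _ p y hdy
    have hdL : d' p L = 0 := coboundaries_le_cocycles hd'.2 p hL
    obtain ⟨x, hx⟩ := ih _ (step_mem hd'.1 p m y hy) (by rw [map_sub, map_nsmul, hdy, hdL]; simp)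
    let c : R := algebraMap ℚ R ((((m + 1 : ℕ) : ℚ))⁻¹)
    have hc : c * ((m + 1 : ℕ) : R) = 1 := by
      rw [← map_natCast (algebraMap ℚ R), ← map_mul,
        inv_mul_cancel₀ (Nat.cast_ne_zero.2 (Nat.succ_ne_zero m)), map_one]
    have hψc : ψ p (c • x) = c • ψ p x := by
      have h1 : (m + 1) • (c • x) = x := by
        rw [← Nat.cast_smul_eq_nsmul R, smul_smul, mul_comm, hc, one_smul]
      calc ψ p (c • x) = (c * ((m + 1 : ℕ) : R)) • ψ p (c • x) := by rw [hc, one_smul]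
        _ = c • ψ p x := by rw [mul_smul, Nat.cast_smul_eq_nsmul R, ← map_nsmul, h1]
    refine ⟨c • x, ?_⟩
    have h2 : (m + 1) • y - ψ p x ∈ _root_.DeRham.coboundaries d' p := by
      have h3 := add_mem hx hL
      rwa [sub_right_comm, sub_add_cancel] at h3
    have h4 := Submodule.smul_mem _ c h2
    rwa [smul_sub, ← Nat.cast_smul_eq_nsmul R, smul_smul, hc, one_smul, ← hψc] at h4

theorem exists_retraction : ∃ ε : ∀ p : ℕ, ↥(⋀[A[X]]^p (Ω[A[X]⁄R])) →+ ↥(⋀[A]^p (Ω[A⁄R])),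
    _root_.DeRham.IsCxMap (KaehlerDifferential.D R A[X]) (KaehlerDifferential.D R A)
      (Polynomial.evalRingHom 0) ε := by
  let : Algebra A[X] A := (Polynomial.evalRingHom 0).toAlgebra
  have : IsScalarTower R A[X] A := IsScalarTower.of_algebraMap_eq fun r => by
    show algebraMap R A r = (algebraMap R A[X] r).eval 0
    rw [IsScalarTower.algebraMap_apply R A A[X]]
    simp
  exact ⟨_, DeRham.Basic.kaehlerMap_isCxMap R R A[X] A⟩

theorem retraction_comp (hψ : _root_.DeRham.IsCxMap (KaehlerDifferential.D R A) (KaehlerDifferential.D R A[X])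
      (algebraMap A A[X]) ψ) {ε : ∀ p : ℕ, ↥(⋀[A[X]]^p (Ω[A[X]⁄R])) →+ ↥(⋀[A]^p (Ω[A⁄R]))}
    (hε : _root_.DeRham.IsCxMap (KaehlerDifferential.D R A[X]) (KaehlerDifferential.D R A)
      (Polynomial.evalRingHom 0) ε) (p : ℕ) (x : ↥(⋀[A]^p (Ω[A⁄R]))) : ε p (ψ p x) = x := by
  have h : (ε p).comp (ψ p) = AddMonoidHom.id _ :=
    DeRham.Basic.gen_hom_ext _ (KaehlerDifferential.span_range_derivation R A) fun b₀ b => by
      show ε p (ψ p _) = _
      rw [hψ, hε]
      simp
  exact DFunLike.congr_fun h x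

end Poly

open exteriorPower Polynomial in
/-- For a commutative ℚ-algebra R, an R-algebra A, de Rham differentials d on ⋀^• Ω_{A/R} and d' on ⋀^•
Ω_{A[t]/R}, and the map of de Rham complexes ψ induced by the inclusion A → A[t] (pinned by its
values on the elements b₀ db₁ ∧ … ∧ db_p and commuting with d, d'), the map ψ is a
quasi-isomorphism: in every degree i, each d'-closed form on A[t] is the sum of ψ_i of a d-closed
form on A and a d'-exact form, and a d-closed form on A whose image under ψ_i is d'-exact is d-exact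
(in degree 0, exact means zero). -/
theorem result (R A : Type u) [CommRing R]
    [CommRing A] [Algebra R A] [Algebra ℚ R]
    (d : ∀ p : ℕ, ↥(⋀[A]^p (Ω[A⁄R])) →ₗ[R] ↥(⋀[A]^(p + 1) (Ω[A⁄R])))
    (hd : DeRham.IsDiff (KaehlerDifferential.D R A) d)
    (d' : ∀ p : ℕ, ↥(⋀[A[X]]^p (Ω[A[X]⁄R])) →ₗ[R] ↥(⋀[A[X]]^(p + 1) (Ω[A[X]⁄R])))
    (hd' : DeRham.IsDiff (KaehlerDifferential.D R A[X]) d')
    (ψ : ∀ p : ℕ, ↥(⋀[A]^p (Ω[A⁄R])) →+ ↥(⋀[A[X]]^p (Ω[A[X]⁄R])))
    (hψ : DeRham.IsCxMap (KaehlerDifferential.D R A) (KaehlerDifferential.D R A[X]) (algebraMap A A[X]) ψ)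
    (hcomm : ∀ (p : ℕ) (x : ↥(⋀[A]^p (Ω[A⁄R]))), ψ (p + 1) (d p x) = d' p (ψ p x)) (i : ℕ) :
    (∀ y ∈ DeRham.cocycles d' i, ∃ x ∈ DeRham.cocycles d i, y - ψ i x ∈ DeRham.coboundaries d' i) ∧
      (∀ x ∈ DeRham.cocycles d i, ψ i x ∈ DeRham.coboundaries d' i → x ∈ DeRham.coboundaries d i) := by
  obtain ⟨ε, hε⟩ := exists_retraction (R := R) (A := A)
  have hεψ := retraction_comp hψ hε
  have hεd : ∀ p y, ε (p + 1) (d' p y) = d p (ε p y) := fun p y =>
    DeRham.Basic.cxMap_comm _ (KaehlerDifferential.span_range_derivation R A[X]) hd'.1 hd.1 hε p y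
  refine ⟨fun y hy => ?_, fun x _ hx => ?_⟩
  · obtain ⟨m, hm⟩ := exists_weightLE i y
    obtain ⟨x, hx⟩ := exists_preimage hd' hψ i m y hm hy
    refine ⟨x, ?_, hx⟩
    have h1 : d' i (y - ψ i x) = 0 := coboundaries_le_cocycles hd'.2 i hx
    rw [map_sub, show d' i y = 0 from hy, zero_sub, neg_eq_zero, ← hcomm] at h1
    show d i x = 0
    rw [← hεψ (i + 1) (d i x), h1, map_zero]
  · cases i with
    | zero =>
      have h0 : ψ 0 x = 0 := hx
      show x = 0
      rw [← hεψ 0 x, h0, map_zero]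
    | succ j =>
      obtain ⟨η, hη⟩ := hx
      exact ⟨ε j η, by rw [← hεd, hη, hεψ]⟩

end Groth.Agent.S15536
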