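import Groth.Statements.S15538
import Groth.Agent.InjMod.ExtRegImmGlobal
import Groth.Agent.InjMod.DimShift
import Groth.Agent.ProjTwist.Tensor
import Groth.Agent.LFFrame.Basic
import Groth.Agent.ExtSuppLib.DerivedExt
import Groth.Agent.ModShf.GrothAb

set_option autoImplicit false
universe u
open RegImm

namespace Groth.Agent.S15538

open CategoryTheory AlgebraicGeometry in
/-- For a closed immersion i : Z → X which is a regular immersion of codimension c, a finite locally
free O_X-module E and any O_Z-module F, the groups Ext^q(i_*F, E), computed in the category of all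
O_X-modules (the Ext instance is the stated hypothesis; it holds), vanish for q < c. (The published
statement allows any locally free E, possibly of infinite rank; E is taken finite locally free
here.) -/
theorem result (X Z : Scheme.{u}) [HasExt.{u} X.Modules]
    (i : Z ⟶ X) [IsClosedImmersion i] (c : ℕ)
    (hi : RegImm.IsRegularImmersionOfCodim RegImm.Kind.regular c i) (E : X.Modules)
    (hE : FlatMod.IsFinLocFree E) (F : Z.Modules) (q : ℕ) (hq : q < c) :
    Subsingleton (Abelian.Ext ((Scheme.Modules.pushforward i).obj F) E q) := by
  have : Limits.PreservesFiniteLimits (preadditiveCoyoneda.obj (Opposite.op F)) := inferInstance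
  have : HasInjectiveResolutions X.Modules := ModShf.hasInjectiveResolutions _
  have : HasInjectiveResolutions (ModSite.Mod X.sheaf) := ModShf.hasInjectiveResolutions _
  have : HasInjectiveResolutions Z.Modules := ModShf.hasInjectiveResolutions _
  let O₀ := Coh.structureModule Z
  let T := ChgRings.T i O₀
  have : ModSite.HasSheafHom (O := X.sheaf) ((Scheme.Modules.pushforward i).obj O₀) :=
    KFlat.hasSheafHom X.sheaf _
  let S' := preadditiveCoyoneda.obj (Opposite.op F)
  have : Limits.PreservesFiniteLimits T :=
    ⟨fun K _ _ => ((ChgRings.adjT i O₀).rightAdjoint_preservesLimits.preservesLimitsOfShape :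
      Limits.PreservesLimitsOfShape K T)⟩
  have hO : FlatMod.IsFinLocFree O₀ :=
    fun z => by
    obtain ⟨U, hU, e⟩ := ProjTwist.isFinLocFreeOfRank_one (LFFrame.isInvertible_structureModule Z) z
    exact ⟨U, 1, hU, e⟩
  have hb : ∀ b, b < c → Limits.IsZero ((T.rightDerived b).obj E) := fun b hb => by
    have h := (InjMod.isZero_ext_finLocFree i hi hE b (Nat.ne_of_lt hb)).of_iso
      ((ChgRings.pushDerivedTIso i O₀ b).app E)
    rw [Limits.IsZero.iff_id_eq_zero]
    exact (Props.KilledSub.fullyFaithful i).map_injective (h.eq_of_src _ _)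
  obtain ⟨e⟩ := DimShift.nonempty_comp_rightDerived_iso T S'
    (fun Q hQ k => by
      have := ChgRings.injective_T i hO Q hQ
      exact S'.isZero_rightDerived_obj_injective_succ k _) q E
    (fun a b hab => (S'.rightDerived (a + 1)).map_isZero (hb b (by omega)))
  let u : (Scheme.Modules.pushforward i).obj (CohB1.tensorMod O₀ F) ≅ (Scheme.Modules.pushforward i).obj F :=
    (Scheme.Modules.pushforward i).mapIso
      (ChgRings.commIso O₀ F ≪≫ (KFlat.ProjFormula.unitRight Z).app F)
  have h2 := (Functor.map_isZero S' (hb q hq)).of_iso e.symm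
  have h3 := h2.of_iso ((ExtSuppLib.rightDerivedMapIso
    (preadditiveCoyoneda.mapIso u.op ≪≫ (ChgRings.compHomIso i O₀ F).symm) q).app E)
  exact AddCommGrpCat.subsingleton_of_isZero
    (h3.of_iso ((ExtSuppLib.DerivedExt.rightDerivedExtIso _ q).app E).symm)

end Groth.Agent.S15538
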