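import Groth.Statements.S1554
import Groth.Agent.FibBound.Basic
import Groth.Agent.FlatMisc.FibreDimScheme


set_option autoImplicit false
universe u
open CategoryTheory CategoryTheory.Limits AlgebraicGeometry
open Variety

namespace Groth.Agent.S1554

/-- Let f : X → Y be locally of finite type, x a point with image y such that the local ring of Y at y
is Noetherian of dimension at most one, and d a natural number such that the local fibre dimension
is d at the generic points of the irreducible components of X passing through x. Then the local
dimension at x of the fibre over y equals d. -/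
theorem result {X Y : Scheme.{u}} (f : X ⟶ Y) [LocallyOfFiniteType f]
    (x : X) [IsNoetherianRing (Y.presheaf.stalk (f.base x))] (hdimY : ringKrullDim (Y.presheaf.stalk (f.base x)) ≤ 1) (d : ℕ)
    (hgen : ∀ Z ∈ irreducibleComponents (X : Type u), x ∈ Z → ∀ η : X, IsGenericPoint η Z → FlatMor.fibreDimAt f η = d) :
    FlatMor.fibreDimAt f x = d := by
  have H : ∀ η : X, η ⤳ x → (∀ z, z ⤳ η → z = η) → FlatMor.fibreDimAt f η = d := fun η hη hmax =>
    hgen (closure {η}) (FibBound.closure_mem_irreducibleComponents hmax)
      (specializes_iff_mem_closure.1 hη) η isGenericPoint_closure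
  obtain ⟨η, E, hηx, hmax, hE, h⟩ := FibBound.exists_generic_bound f x d H
  have hlow := FibBound.le_fibreDimAt_of_max f hηx hmax
  rw [H η hηx hmax, hE] at hlow
  rw [hE]
  have hl : d ≤ E := by exact_mod_cast hlow
  rcases h with ⟨-, h⟩ | h
  · rw [h]
  · have h1 : ((E + 1 : ℕ) : WithBot ℕ∞) ≤ ((d + 1 : ℕ) : WithBot ℕ∞) := by
      push_cast
      exact h.trans (add_le_add le_rfl hdimY)
    have : E + 1 ≤ d + 1 := by exact_mod_cast h1
    exact_mod_cast (show E = d by omega)

end Groth.Agent.S1554
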