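import Groth.Statements.S15541
import Groth.Agent.QuietLib.Frobenius

set_option autoImplicit false
universe u
open FrobSch

namespace Groth.Agent.S15541

open CategoryTheory CategoryTheory.Limits in
private theorem isPushout_mvMap (d : ℕ) {A A' : CommRingCat.{u}} (α : A ⟶ A') :
    IsPushout (CommRingCat.ofHom (MvPolynomial.C : A →+* MvPolynomial (Fin d) A)) α
      (CommRingCat.ofHom (MvPolynomial.map α.hom))
      (CommRingCat.ofHom (MvPolynomial.C : A' →+* MvPolynomial (Fin d) A')) := by
  refine IsPushout.of_isColimit' ⟨by ext; simp⟩ ?_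
  refine PushoutCocone.IsColimit.mk _ (fun s => CommRingCat.ofHom
    (MvPolynomial.eval₂Hom s.inr.hom fun i => s.inl (MvPolynomial.X i : MvPolynomial (Fin d) A)))
    (fun s => ?_) (fun s => ?_) (fun s m h1 h2 => ?_)
  · apply CommRingCat.hom_ext
    apply MvPolynomial.ringHom_ext
    · intro a
      have hc := ConcreteCategory.congr_hom s.condition a
      simp at hc ⊢
      exact hc.symm
    · intro i; simp
  · ext x; simp
  · apply CommRingCat.hom_ext
    apply MvPolynomial.ringHom_ext
    · intro a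
      have e := ConcreteCategory.congr_hom h2 a
      simp at e ⊢
      exact e
    · intro i
      have e := ConcreteCategory.congr_hom h1 (MvPolynomial.X i : MvPolynomial (Fin d) A)
      simp at e ⊢
      exact e


open CategoryTheory AlgebraicGeometry in
/-- For a prime p, a scheme S of characteristic p and a morphism f : X → S which is smooth of relative
dimension d, the relative Frobenius F_{X/S} : X → X^{(p)} is syntomic (the published assertion is
'finite syntomic'; finiteness of the relative Frobenius of a morphism locally of finite type is a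
separate known result and is not restated; the assertion about the trace maps Θ on de Rham complexes
is not stated here). -/
theorem result (p : ℕ) [Fact p.Prime] (S X : Scheme.{u})
    [FrobSch.IsCharP S p] (f : X ⟶ S) (d : ℕ) [SmoothOfRelativeDimension d f] :
    Synt.IsSyntomicMor (FrobSch.relFrob f p) := by
  intro x
  haveI : FrobSch.IsCharP X p := FrobSch.IsCharP.of_hom f p
  obtain ⟨U₀, hU₀, W, hW, hxW, hle, hstd⟩ :=
    SmoothOfRelativeDimension.exists_isStandardSmoothOfRelativeDimension (n := d) (f := f) x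
  obtain ⟨g, hgC, hg⟩ := hstd.exists_etale_mvPolynomial
  haveI : CharP Γ(X, W) p := Groth.Agent.QuietLib.charP_sections X W hxW
  haveI : CharP Γ(S, U₀) p := Groth.Agent.QuietLib.charP_sections S U₀ (hle hxW)
  let Tw := FrobSch.frobTwist f p
  let W' : Tw.Opens :=
    Limits.pullback.fst f (FrobSch.frob S p) ⁻¹ᵁ W ⊓ Limits.pullback.snd f (FrobSch.frob S p) ⁻¹ᵁ U₀
  have H := IsPullback.of_hasPullback f (FrobSch.frob S p)
  have hUST : U₀ ≤ FrobSch.frob S p ⁻¹ᵁ U₀ := le_rfl
  have hiso := isIso_pushoutSection_of_isAffineOpen H hUST hle (UY := W') rfl hU₀ hU₀ hW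
  have hpo := (isIso_pushoutSection_iff H hUST hle (UY := W') rfl).1 hiso
  have hW' : IsAffineOpen W' := by
    have : IsAffine (W : X.Opens).toScheme := hW
    have : IsAffine (U₀ : S.Opens).toScheme := hU₀
    exact .of_isIso (Scheme.Hom.isPullback_resLE H hUST hle (UY := W') rfl).isoPullback.hom
  have hpre : W ≤ FrobSch.relFrob f p ⁻¹ᵁ W' := by
    intro y hy
    refine ⟨?_, ?_⟩
    · show (FrobSch.relFrob f p ≫ Limits.pullback.fst f (FrobSch.frob S p)) y ∈ W
      rw [FrobSch.relFrob_fst]
      exact hy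
    · show (FrobSch.relFrob f p ≫ Limits.pullback.snd f (FrobSch.frob S p)) y ∈ U₀
      rw [FrobSch.relFrob_snd]
      exact hle hy
  refine ⟨⟨W, hW⟩, ⟨W', hW'⟩, hpre, hxW, ?_⟩
  let γ : Γ(Tw, W') ⟶ Γ(X, W) := (FrobSch.relFrob f p).appLE W' W hpre
  have hfst : (Limits.pullback.fst f (FrobSch.frob S p)).appLE W W' inf_le_left ≫ γ =
      CommRingCat.ofHom (frobenius Γ(X, W) p) := by
    rw [Scheme.Hom.appLE_comp_appLE]
    simp only [FrobSch.relFrob_fst]
    ext s
    simp [Scheme.Hom.appLE, frobenius_def]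
    exact ConcreteCategory.congr_hom (X.presheaf.map_id _) (s ^ p)
  have hsnd : (Limits.pullback.snd f (FrobSch.frob S p)).appLE U₀ W' inf_le_right ≫ γ =
      f.appLE U₀ W hle := by
    rw [Scheme.Hom.appLE_comp_appLE]
    simp only [FrobSch.relFrob_snd]
  have hfrobS : (FrobSch.frob S p).appLE U₀ U₀ hUST = CommRingCat.ofHom (frobenius Γ(S, U₀) p) := by
    rw [show (FrobSch.frob S p).appLE U₀ U₀ hUST = (FrobSch.frob S p).app U₀ from
      Scheme.Hom.appLE_eq_app _]
    ext s
    rfl
  rw [hfrobS] at hpo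
  let P := MvPolynomial (Fin d) Γ(S, U₀)
  let gh : CommRingCat.of P ⟶ Γ(X, W) := CommRingCat.ofHom g
  have hgC' : CommRingCat.ofHom (MvPolynomial.C : Γ(S, U₀) →+* P) ≫ gh = f.appLE U₀ W hle :=
    CommRingCat.hom_ext hgC
  have hA := isPushout_mvMap d (CommRingCat.ofHom (frobenius Γ(S, U₀) p))
  let g' : CommRingCat.of P ⟶ Γ(Tw, W') := hA.desc (gh ≫ (Limits.pullback.fst f (FrobSch.frob S p)).appLE W W' inf_le_left)
    ((Limits.pullback.snd f (FrobSch.frob S p)).appLE U₀ W' inf_le_right) (by
      rw [← Category.assoc, hgC']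
      exact hpo.w)
  have hg'1 : CommRingCat.ofHom (MvPolynomial.map (σ := Fin d) (frobenius Γ(S, U₀) p)) ≫ g' =
      gh ≫ (Limits.pullback.fst f (FrobSch.frob S p)).appLE W W' inf_le_left := hA.inl_desc _ _ _
  have hg'2 : CommRingCat.ofHom (MvPolynomial.C : Γ(S, U₀) →+* P) ≫ g' =
      (Limits.pullback.snd f (FrobSch.frob S p)).appLE U₀ W' inf_le_right := hA.inr_desc _ _ _
  have hB : IsPushout gh (CommRingCat.ofHom (MvPolynomial.map (σ := Fin d) (frobenius Γ(S, U₀) p)))
      ((Limits.pullback.fst f (FrobSch.frob S p)).appLE W W' inf_le_left) g' := by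
    refine IsPushout.of_left (h₁₁ := CommRingCat.ofHom (MvPolynomial.C : Γ(S, U₀) →+* P))
      (h₂₁ := CommRingCat.ofHom (MvPolynomial.C : Γ(S, U₀) →+* P)) ?_ hg'1.symm hA
    rw [hgC', hg'2]
    exact hpo
  letI := g.toAlgebra
  haveI : Algebra.Etale P Γ(X, W) := hg
  have hE : IsPushout gh (CommRingCat.ofHom (frobenius P p))
      (CommRingCat.ofHom (frobenius Γ(X, W) p)) gh :=
    Groth.Agent.QuietLib.isPushout_frobenius_of_etale p P Γ(X, W)
  rw [show frobenius P p = _ from Groth.Agent.QuietLib.frobenius_eq_map_comp_expand p Γ(S, U₀) d,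
    CommRingCat.ofHom_comp, ← hfst] at hE
  have hcomm : g' ≫ γ = CommRingCat.ofHom (MvPolynomial.expand (σ := Fin d) p).toRingHom ≫ gh := by
    apply CommRingCat.hom_ext
    apply MvPolynomial.ringHom_ext
    · intro r
      have e1 := ConcreteCategory.congr_hom hg'2 r
      have e2 := ConcreteCategory.congr_hom hsnd r
      have e3 := ConcreteCategory.congr_hom hgC' r
      simp at e1 e2 e3 ⊢
      rw [e1, e2, e3]
    · intro i
      have e1 := ConcreteCategory.congr_hom hg'1 (MvPolynomial.X i : P)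
      have e2 := ConcreteCategory.congr_hom hfst (gh (MvPolynomial.X i : P))
      simp [gh, frobenius_def] at e1 e2 ⊢
      rw [e1, e2]
  have hpush := IsPushout.of_top hE hcomm hB
  have htower := Groth.Agent.QuietLib.Tower.of_isPushout p d hpush
    (Groth.Agent.QuietLib.tower_expand p Γ(S, U₀) d)
  letI := γ.hom.toAlgebra
  obtain ⟨hfin, hflat, hbal⟩ := Groth.Agent.QuietLib.isRootTower_props (Fact.out : p.Prime).ne_zero d
    Γ(Tw, W') Γ(X, W) ((Groth.Agent.QuietLib.isRootTower_iff p d Γ(Tw, W') Γ(X, W)).2 htower)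
  exact Groth.Agent.QuietLib.isSyntomic_of_balanced_quasiFinite Γ(Tw, W') Γ(X, W) hbal

end Groth.Agent.S15541
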