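import Groth.Statements.S15543
import Groth.Agent.ProConsPre.Basic

set_option autoImplicit false
open CategoryTheory AlgebraicGeometry
universe u
open ProCons

namespace Groth.Agent.S15543

/-- The ind-constructible case. Let f : X ⟶ Y be any morphism of schemes and T an ind-constructible
subset of Y (locally on Y a union of locally constructible subsets). Then the preimage of T under f
is ind-constructible in X. -/
theorem result {X Y : Scheme.{u}} (f : X ⟶ Y) (T : Set Y)
    (hT : ProCons.IsIndConstructible T) :
    ProCons.IsIndConstructible (f.base ⁻¹' T) := by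
  intro x
  obtain ⟨U, hU, hxU, S, hS, hE⟩ := hT (f x)
  refine ⟨f ⁻¹' U, hU.preimage f.continuous, hxU, _,
    Groth.Agent.ProConsPre.preimage_family f ⟨U, hU⟩ hS, ?_⟩
  rw [Set.sUnion_image, ← Set.preimage_sUnion]
  exact congrArg (Set.preimage (Set.restrictPreimage U f)) hE

end Groth.Agent.S15543
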