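import Groth.Statements.S15546
import Mathlib
-- import your own Groth.Agent.* helpers here

set_option autoImplicit false
open scoped TensorProduct
universe u
open Unram

namespace Groth.Agent.S15546

/-- Let E be a finite extension of a field k which is not separable over k, and K an algebraic closure
of k. Then E ⊗_k K has a nonzero nilpotent element. -/
theorem result (k E K : Type u) [Field k] [Field E]
    [Algebra k E] [FiniteDimensional k E] [Field K] [Algebra k K] [IsAlgClosure k K]
    (h : ¬ Algebra.IsSeparable k E) : ∃ x : E ⊗[k] K, x ≠ 0 ∧ IsNilpotent x := by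
  by_contra hne
  push Not at hne
  have hred : IsReduced (E ⊗[k] K) := ⟨fun x hx ↦ by_contra fun h0 ↦ hne x h0 hx⟩
  have : IsAlgClosed K := IsAlgClosure.isAlgClosed k
  apply h
  let e : K ⊗[k] E ≃+* E ⊗[k] K := (Algebra.TensorProduct.comm k K E).toRingEquiv
  have : IsReduced (K ⊗[k] E) := isReduced_of_injective e e.injective
  have : IsArtinianRing (K ⊗[k] E) := isArtinian_of_tower K inferInstance
  let : ∀ I : MaximalSpectrum (K ⊗[k] E), Field ((K ⊗[k] E) ⧸ I.asIdeal) := fun I ↦
    Ideal.Quotient.field I.asIdeal
  have : Algebra.FormallyEtale K (K ⊗[k] E) :=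
    (Algebra.FormallyEtale.iff_exists_algEquiv_prod K (K ⊗[k] E)).mpr
      ⟨MaximalSpectrum (K ⊗[k] E), inferInstance, fun I ↦ (K ⊗[k] E) ⧸ I.asIdeal, inferInstance,
        inferInstance, (IsArtinianRing.equivPi (K ⊗[k] E)).restrictScalars K, fun I ↦ inferInstance⟩
  have : Algebra.FormallyUnramified k E :=
    Algebra.FormallyUnramified.of_formallyUnramified_tensorProduct_of_faithfullyFlat K
  exact Algebra.FormallyUnramified.isSeparable k E

end Groth.Agent.S15546
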