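import Groth.Statements.S15547
import Mathlib.AlgebraicGeometry.Morphisms.Finite
import Mathlib.RingTheory.Ideal.GoingUp
import Mathlib.Topology.Sheaves.Stalks


set_option autoImplicit false
open CategoryTheory AlgebraicGeometry TopologicalSpace
universe u
open Coherent

namespace Groth.Agent.S15547

open Opposite

section

variable {Z X : Scheme.{u}} (g : Z ⟶ X) {V : X.Opens} (hV : IsAffineOpen V) (hU : IsAffineOpen (g ⁻¹ᵁ V))

/-- the stalk of the pushed forward structure sheaf as an algebra over sections near the point -/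
noncomputable abbrev stk (x : X) : CommRingCat.{u} := (g.base _* Z.presheaf).stalk x

/-- germs -/
noncomputable abbrev gm (W : X.Opens) (x : X) (hx : x ∈ W) : Γ(Z, g ⁻¹ᵁ W) ⟶ stk g x :=
  (g.base _* Z.presheaf).germ W x hx

lemma gm_res {W W' : X.Opens} (h : W' ≤ W) (x : X) (hx : x ∈ W') (s : Γ(Z, g ⁻¹ᵁ W)) :
    gm g W' x hx (Z.presheaf.map (homOfLE (show g ⁻¹ᵁ W' ≤ g ⁻¹ᵁ W from fun _ hz => h hz)).op s) =
      gm g W x (h hx) s :=
  (g.base _* Z.presheaf).germ_res_apply (homOfLE h) x hx s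

omit g in
lemma mem_primeIdealOf_iff {Y : Scheme.{u}} {W : Y.Opens} (hW : IsAffineOpen W) {w : Y} (hw : w ∈ W)
    (a : Γ(Y, W)) : a ∈ (hW.primeIdealOf ⟨w, hw⟩).asIdeal ↔ w ∉ Y.basicOpen a := by
  rw [← not_iff_not, not_not]
  refine Iff.trans ?_ (iff_of_eq (congrArg (· ∈ Y.basicOpen a) (hW.fromSpec_primeIdealOf ⟨w, hw⟩)))
  exact (SetLike.ext_iff.mp (hW.fromSpec_preimage_basicOpen a) _).symm

lemma gm_res₂ {W W' : X.Opens} (h : W' ≤ W) {O : Z.Opens} (h₁ : O ≤ g ⁻¹ᵁ W) (h₂ : g ⁻¹ᵁ W' ≤ O) (x : X)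
    (hx : x ∈ W') (s : Γ(Z, g ⁻¹ᵁ W)) :
    gm g W' x hx (Z.presheaf.map (homOfLE h₂).op (Z.presheaf.map (homOfLE h₁).op s)) = gm g W x (h hx) s := by
  refine (congrArg (gm g W' x hx) ?_).trans (gm_res g h x hx s)
  exact congr($(Z.presheaf.map_comp (homOfLE h₁).op (homOfLE h₂).op) s).symm

include hV hU in
theorem isLocalization_stk (x : X) (hx : x ∈ V) :
    letI := (g.app V).hom.toAlgebra
    letI := (gm g V x hx).hom.toAlgebra
    IsLocalization (Algebra.algebraMapSubmonoid Γ(Z, g ⁻¹ᵁ V) (hV.primeIdealOf ⟨x, hx⟩).asIdeal.primeCompl)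
      (stk g x) := by
  letI := (g.app V).hom.toAlgebra
  letI := (gm g V x hx).hom.toAlgebra
  have hb : ∀ a : Γ(X, V), a ∈ (hV.primeIdealOf ⟨x, hx⟩).asIdeal.primeCompl ↔ x ∈ X.basicOpen a := fun a =>
    (not_congr (mem_primeIdealOf_iff hV hx a)).trans not_not
  have key : ∀ (W : X.Opens), x ∈ W → ∃ a : Γ(X, V),
      a ∈ (hV.primeIdealOf ⟨x, hx⟩).asIdeal.primeCompl ∧ X.basicOpen a ≤ W := fun W hW => by
    obtain ⟨a, hle, hxa⟩ := hV.exists_basicOpen_le (V := W) ⟨x, hW⟩ hx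
    exact ⟨a, (hb a).2 hxa, hle⟩
  have hpre : ∀ a : Γ(X, V), g ⁻¹ᵁ X.basicOpen a = Z.basicOpen (g.app V a) := Scheme.preimage_basicOpen g
  refine (isLocalization_iff _ _).2 ⟨?_, ?_, ?_⟩
  · rintro ⟨_, a, ha, rfl⟩
    have hu : IsUnit (Z.presheaf.map (homOfLE (show g ⁻¹ᵁ X.basicOpen a ≤ g ⁻¹ᵁ V from
        fun _ hz => X.basicOpen_le a hz)).op (g.app V a)) := by
      refine Z.toRingedSpace.isUnit_of_isUnit_germ (g ⁻¹ᵁ X.basicOpen a) _ fun z hz => ?_
      rw [TopCat.Presheaf.germ_res_apply]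
      exact (Z.mem_basicOpen (g.app V a) z _).1 ((hpre a).le hz)
    have := hu.map (gm g (X.basicOpen a) x ((hb a).1 ha)).hom
    rwa [gm_res g (X.basicOpen_le a)] at this
  · intro c
    obtain ⟨W, hxW, s, rfl⟩ := (g.base _* Z.presheaf).germ_exist c
    obtain ⟨a, ha, hle⟩ := key W hxW
    have hxa := (hb a).1 ha
    haveI := hU.isLocalization_basicOpen (g.app V a)
    obtain ⟨⟨b, _, n, rfl⟩, hn⟩ := IsLocalization.surj (Submonoid.powers (g.app V a))
      (Z.presheaf.map (homOfLE (show Z.basicOpen (g.app V a) ≤ g ⁻¹ᵁ W from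
        (hpre a).ge.trans fun _ hz => hle hz)).op s)
    refine ⟨(b, ⟨(g.app V a) ^ n, a ^ n, pow_mem ha n, map_pow _ a n⟩), ?_⟩
    have e := congrArg (fun t => gm g (X.basicOpen a) x hxa (Z.presheaf.map (homOfLE (hpre a).le).op t)) hn
    simp only [map_mul] at e
    refine Eq.trans (congrArg₂ (· * ·) ?_ ?_) (e.trans ?_)
    · exact (gm_res₂ g hle _ _ x hxa s).symm
    · exact (gm_res₂ g (X.basicOpen_le a) (Z.basicOpen_le _) _ x hxa _).symm
    · exact gm_res₂ g (X.basicOpen_le a) (Z.basicOpen_le _) _ x hxa b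
  · intro b b' h
    obtain ⟨W, hxW, i₁, i₂, e⟩ := (g.base _* Z.presheaf).germ_eq x hx hx b b' h
    obtain ⟨a, ha, hle⟩ := key W hxW
    haveI := hU.isLocalization_basicOpen (g.app V a)
    have e' : algebraMap Γ(Z, g ⁻¹ᵁ V) Γ(Z, Z.basicOpen (g.app V a)) b =
        algebraMap Γ(Z, g ⁻¹ᵁ V) Γ(Z, Z.basicOpen (g.app V a)) b' := by
      have := congrArg (Z.presheaf.map (homOfLE (show Z.basicOpen (g.app V a) ≤ g ⁻¹ᵁ W from
        (hpre a).ge.trans fun _ hz => hle hz)).op) e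
      exact ((congr($(Z.presheaf.map_comp ((Opens.map g.base).map i₁).op (homOfLE _).op) b)).trans this).trans
        (congr($(Z.presheaf.map_comp ((Opens.map g.base).map i₂).op (homOfLE _).op) b')).symm
    obtain ⟨⟨_, n, rfl⟩, hn⟩ := (IsLocalization.eq_iff_exists (Submonoid.powers (g.app V a)) _).1 e'
    exact ⟨⟨(g.app V a) ^ n, a ^ n, pow_mem ha n, map_pow _ a n⟩, hn⟩

end


/-- Let g : Z ⟶ X be a finite morphism of schemes (Z is the spectrum of the finite quasi-coherent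
O_X-algebra C = g_*O_Z) and x a point of X. Then the points of Z over x correspond bijectively to
the maximal ideals of the stalk C_x = (g_*O_Z)_x: the map sending z with g(z) = x to the preimage of
the maximal ideal of O_{Z,z} under the canonical map (g_*O_Z)_x ⟶ O_{Z,z} is a bijection from the
fibre onto the set of maximal ideals. -/
theorem result {Z X : Scheme.{u}} (g : Z ⟶ X)
    [IsFinite g] (x : X) :
    Set.BijOn (fun z : {z : Z // g.base z = x} =>
        Ideal.comap (((g.base _* Z.presheaf).stalkCongr (Inseparable.of_eq z.2)).inv ≫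
            TopCat.Presheaf.stalkPushforward CommRingCat g.base Z.presheaf z.1).hom
          (IsLocalRing.maximalIdeal (Z.presheaf.stalk z.1)))
      Set.univ {I : Ideal ((g.base _* Z.presheaf).stalk x) | I.IsMaximal} := by
  obtain ⟨_, ⟨V, hV, rfl⟩, hx, -⟩ :=
    X.isBasis_affineOpens.exists_subset_of_mem_open (Set.mem_univ x) isOpen_univ
  have hV : IsAffineOpen V := hV
  have hU : IsAffineOpen (g ⁻¹ᵁ V) := hV.preimage g
  letI : Algebra Γ(X, V) Γ(Z, g ⁻¹ᵁ V) := (g.app V).hom.toAlgebra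
  haveI : Algebra.IsIntegral Γ(X, V) Γ(Z, g ⁻¹ᵁ V) := by
    have := (IsFinite.finite_app (f := g) V hV).to_isIntegral
    exact ⟨this⟩
  letI : Algebra Γ(Z, g ⁻¹ᵁ V) (stk g x) := (gm g V x hx).hom.toAlgebra
  let p := (hV.primeIdealOf ⟨x, hx⟩).asIdeal
  let S := Algebra.algebraMapSubmonoid Γ(Z, g ⁻¹ᵁ V) p.primeCompl
  haveI := isLocalization_stk g hV hU x hx
  -- the primes of the affine preimage
  have hunder : ∀ (z : Z) (hz : z ∈ g ⁻¹ᵁ V), (hU.primeIdealOf ⟨z, hz⟩).asIdeal.comap (algebraMap Γ(X, V) Γ(Z, g ⁻¹ᵁ V)) =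
      (hV.primeIdealOf ⟨g z, hz⟩).asIdeal := fun z hz => by
    ext a
    refine Ideal.mem_comap.trans ((mem_primeIdealOf_iff hU hz _).trans
      ((not_congr (SetLike.ext_iff.mp (Scheme.preimage_basicOpen g a) z).symm).trans
        (mem_primeIdealOf_iff hV (w := g z) hz a).symm))
  let F := fun z : {z : Z // g.base z = x} =>
    Ideal.comap (((g.base _* Z.presheaf).stalkCongr (Inseparable.of_eq z.2)).inv ≫
      TopCat.Presheaf.stalkPushforward CommRingCat g.base Z.presheaf z.1).hom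
      (IsLocalRing.maximalIdeal (Z.presheaf.stalk z.1))
  change Set.BijOn F Set.univ _
  have hzV : ∀ z : {z : Z // g.base z = x}, z.1 ∈ g ⁻¹ᵁ V := fun z => (z.2.symm ▸ hx : g.base z.1 ∈ V)
  -- the prime of the point
  have hF : ∀ z, (F z).comap (algebraMap Γ(Z, g ⁻¹ᵁ V) (stk g x)) = (hU.primeIdealOf ⟨z.1, hzV z⟩).asIdeal := by
    rintro ⟨z, rfl⟩
    ext b
    have e : (((g.base _* Z.presheaf).stalkCongr (Inseparable.of_eq rfl)).inv ≫
        TopCat.Presheaf.stalkPushforward CommRingCat g.base Z.presheaf z).hom (gm g V (g.base z) hx b) =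
        Z.presheaf.germ (g ⁻¹ᵁ V) z hx b := by
      rw [CommRingCat.hom_comp, RingHom.comp_apply]
      erw [TopCat.Presheaf.germ_stalkSpecializes_apply, TopCat.Presheaf.stalkPushforward_germ_apply]
      exact specializes_rfl
    show (((g.base _* Z.presheaf).stalkCongr (Inseparable.of_eq rfl)).inv ≫
        TopCat.Presheaf.stalkPushforward CommRingCat g.base Z.presheaf z).hom (gm g V (g.base z) hx b) ∈
        IsLocalRing.maximalIdeal _ ↔ b ∈ _
    rw [e, IsLocalRing.mem_maximalIdeal, mem_nonunits_iff, ← Z.mem_basicOpen b z hx]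
    exact (mem_primeIdealOf_iff hU hx b).symm
  have hover : ∀ z : {z : Z // g.base z = x},
      (hU.primeIdealOf ⟨z.1, hzV z⟩).asIdeal.comap (algebraMap Γ(X, V) Γ(Z, g ⁻¹ᵁ V)) = p := by
    rintro ⟨z, rfl⟩
    exact hunder z _
  have hdisj : ∀ (q : Ideal Γ(Z, g ⁻¹ᵁ V)), q.comap (algebraMap Γ(X, V) Γ(Z, g ⁻¹ᵁ V)) ≤ p →
      Disjoint (S : Set Γ(Z, g ⁻¹ᵁ V)) q := by
    intro q hq
    rw [Set.disjoint_left]
    rintro _ ⟨a, ha, rfl⟩ haq
    exact ha (hq haq)
  refine ⟨fun z _ => ?_, fun z _ z' _ h => ?_, fun m hm => ?_⟩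
  · haveI hP : (F z).IsPrime := Ideal.comap_isPrime _ _
    obtain ⟨m, hm, hle⟩ := Ideal.exists_le_maximal (F z) hP.ne_top
    show (F z).IsMaximal
    suffices F z = m by rw [this]; exact hm
    obtain ⟨hq, hqd⟩ := (IsLocalization.isPrime_iff_isPrime_disjoint S (stk g x) m).1 hm.isPrime
    have hle' : (hU.primeIdealOf ⟨z.1, hzV z⟩).asIdeal ≤ m.under Γ(Z, g ⁻¹ᵁ V) := (hF z).ge.trans (Ideal.comap_mono hle)
    refine (IsLocalization.map_under S (stk g x) (F z)).symm.trans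
      ((congrArg (Ideal.map (algebraMap Γ(Z, g ⁻¹ᵁ V) (stk g x))) ((hF z).trans
        (hle'.eq_or_lt.resolve_right fun hlt => ?_))).trans (IsLocalization.map_under S (stk g x) m))
    have h2 := Ideal.IsIntegral.comap_lt_comap (R := Γ(X, V)) hlt
    rw [hover z] at h2
    exact h2.not_ge fun a ha => by
      by_contra hap
      exact Set.disjoint_left.1 hqd ⟨a, hap, rfl⟩ ha
  · have e := congrArg (Ideal.comap (algebraMap Γ(Z, g ⁻¹ᵁ V) (stk g x))) h
    rw [hF, hF] at e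
    have := congrArg hU.fromSpec (PrimeSpectrum.ext e)
    rw [hU.fromSpec_primeIdealOf, hU.fromSpec_primeIdealOf] at this
    exact Subtype.ext this
  · haveI : m.IsMaximal := hm
    obtain ⟨hq, hqd⟩ := (IsLocalization.isPrime_iff_isPrime_disjoint S (stk g x) m).1 inferInstance
    let q := m.comap (algebraMap Γ(Z, g ⁻¹ᵁ V) (stk g x))
    haveI : q.IsPrime := hq
    have hqp : q.comap (algebraMap Γ(X, V) Γ(Z, g ⁻¹ᵁ V)) ≤ p := fun a ha => by
      by_contra hap
      exact Set.disjoint_left.1 hqd ⟨a, hap, rfl⟩ ha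
    obtain ⟨q', hqq', hq', hq'p⟩ := Ideal.exists_ideal_over_prime_of_isIntegral p q hqp
    let w : PrimeSpectrum Γ(Z, g ⁻¹ᵁ V) := ⟨q', hq'⟩
    have hzU : hU.fromSpec w ∈ g ⁻¹ᵁ V := hU.range_fromSpec.le ⟨w, rfl⟩
    have hw : hU.primeIdealOf ⟨hU.fromSpec w, hzU⟩ = w :=
      hU.fromSpec.isOpenEmbedding.injective (hU.fromSpec_primeIdealOf ⟨hU.fromSpec w, hzU⟩)
    have hgz : g.base (hU.fromSpec w) = x := by
      have h1 := hunder _ hzU
      rw [hw, show w.asIdeal.comap (algebraMap Γ(X, V) Γ(Z, g ⁻¹ᵁ V)) = p from hq'p] at h1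
      have := congrArg hV.fromSpec (PrimeSpectrum.ext h1)
      rw [hV.fromSpec_primeIdealOf, hV.fromSpec_primeIdealOf] at this
      exact this.symm
    refine ⟨⟨hU.fromSpec w, hgz⟩, trivial, (hm.eq_of_le (Ideal.comap_isPrime _ _).ne_top ?_).symm⟩
    exact (IsLocalization.map_under S (stk g x) m).ge.trans ((Ideal.map_mono
      (hqq'.trans_eq ((congrArg PrimeSpectrum.asIdeal hw).symm.trans (hF ⟨hU.fromSpec w, hgz⟩).symm))).trans
        (IsLocalization.map_under S (stk g x) _).le)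

end Groth.Agent.S15547
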