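import Groth.Statements.S15548
import Groth.Agent.LocCoh.TorProZero

set_option autoImplicit false
universe u
open CategoryTheory
open CAlg

namespace Groth.Agent.S15548

/-- Let R be a Noetherian commutative ring, I an ideal of R and M a finitely generated R-module. Then
for every natural number n there is m ≥ n such that the map Tor_1^R(M, R/I^m) → Tor_1^R(M, R/I^n)
induced by the projection R/I^m → R/I^n is the zero map. Here Tor_1^R(M, -) is the first left
derived functor of M ⊗_R - (derived in the second variable). -/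
theorem result (R : Type u) [CommRing R] [IsNoetherianRing R] (I : Ideal R)
    (M : Type u) [AddCommGroup M] [Module R M] [Module.Finite R M] (n : ℕ) :
    ∃ m : ℕ, n ≤ m ∧ ∀ h : I ^ m ≤ I ^ n,
      ((CategoryTheory.Tor (ModuleCat.{u} R) 1).obj (ModuleCat.of R M)).map
        (ModuleCat.ofHom (Submodule.factor h)) = 0 := by
  obtain ⟨c, hc⟩ := Groth.Agent.LocCoh.Tor.exists_Z_finite (I := I) 0 (ModuleCat.of R M) ‹_›
  refine ⟨n + c, Nat.le_add_right _ _, fun h => ?_⟩
  refine ModuleCat.hom_ext (LinearMap.ext fun x => ?_)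
  have h2 : (ModuleCat.ofHom (Submodule.factor h) : ModuleCat.of R (R ⧸ I ^ (n + c)) ⟶ ModuleCat.of R (R ⧸ I ^ n)) =
      Groth.Agent.LocCoh.Tor.q I (Nat.le_add_right n c) := by
    refine ModuleCat.hom_ext (LinearMap.ext fun y => ?_)
    obtain ⟨y, rfl⟩ := Submodule.Quotient.mk_surjective _ y
    rfl
  rw [h2]
  exact hc n (n + c) (Nat.le_add_right _ _) le_rfl x

end Groth.Agent.S15548
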