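import Groth.Statements.S15549
import Groth.Agent.GrModLib.Alpha

set_option autoImplicit false
universe u
open CategoryTheory AlgebraicGeometry
open LocCoh

open Opposite
namespace Groth.Agent.S15549

/-- Let R be a Noetherian commutative ring, positively graded by additive subgroups R_d, with irrelevant
ideal R_+ and X = Proj R, and let M be a graded R-module which is the direct sum of its pieces M_i,
i ≥ 0 (non-negatively graded here). For every i and every m ∈ M_i, the global section of M(i)~
defined by m (the value m/1 at every point) is zero if and only if some power of R_+ annihilates m.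
Equivalently, degree by degree, the kernel of the canonical map from M to the direct sum over all n
of Γ(X, M(n)~) is the R_+-power-torsion submodule H^0_{R_+}(M). -/
theorem result {R σ : Type u} [CommRing R] [IsNoetherianRing R] [SetLike σ R] [AddSubgroupClass σ R]
    (𝒜 : ℕ → σ) [GradedRing 𝒜] {M τ : Type u} [AddCommGroup M] [Module R M] [SetLike τ M] [AddSubgroupClass τ M]
    (ℳ : ℕ → τ) [SetLike.GradedSMul 𝒜 ℳ] [DirectSum.Decomposition ℳ]
    (i : ℕ) (m : ℳ i) :
    GrMod.alpha 𝒜 ℳ i m = 0 ↔
      ∃ k : ℕ, ∀ r : R, r ∈ (HomogeneousIdeal.irrelevant 𝒜).toIdeal ^ k → r • (m : M) = 0 := by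
  classical
  open Groth.Agent.GrModLib in
  obtain ⟨r, f, d, hd, hf, hirr⟩ := exists_irrelevant_gens 𝒜
  open Groth.Agent.GrModLib in
  constructor
  · intro h
    have hk : ∀ k, ∃ N : ℕ, f k ^ N • (m : M) = 0 := fun k =>
      exists_pow_smul_eq_zero m.2 (hf k) (hd k) fun x _ => by
        have h0 : mk x (m : M) 1 (GrMod.one_nin x) = mk x (0 : M) 1 (GrMod.one_nin x) := by
          refine (congrArg (fun s : GrMod.sect 𝒜 ℳ (i : ℤ) (op ⊤) ↦ valAt s x trivial) h).trans ?_
          exact (LocalizedModule.zero_mk _).symm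
        simpa using mk_eq_mk_iff.mp h0
    let J := (Submodule.span R {(m : M)}).annihilator
    have hle : (HomogeneousIdeal.irrelevant 𝒜).toIdeal ≤ J.radical := by
      intro a ha
      rw [← DirectSum.sum_support_decompose 𝒜 a]
      refine sum_mem fun j _ => ?_
      by_cases hj : j = 0
      · subst hj
        have h1 := (HomogeneousIdeal.mem_irrelevant_iff 𝒜 a).mp ha
        rw [GradedRing.proj_apply] at h1
        rw [h1]
        exact zero_mem _
      · refine Ideal.span_le.mpr ?_ (hirr j _ (Nat.pos_of_ne_zero hj) (DirectSum.decompose 𝒜 a j).2)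
        rintro _ ⟨k, rfl⟩
        obtain ⟨N, hN⟩ := hk k
        exact ⟨N, (Submodule.mem_annihilator_span_singleton _ _).mpr hN⟩
    obtain ⟨k, hk⟩ := Ideal.exists_pow_le_of_le_radical_of_fg hle (IsNoetherian.noetherian _)
    exact ⟨k, fun r hr => (Submodule.mem_annihilator_span_singleton _ _).mp (hk hr)⟩
  · rintro ⟨K, hK⟩
    refine Subtype.ext (funext fun x => Subtype.ext ?_)
    obtain ⟨k, hk⟩ := exists_not_mem f hirr x.1
    refine Eq.trans ?_ (LocalizedModule.zero_mk (1 : x.1.asHomogeneousIdeal.toIdeal.primeCompl))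
    refine mk_eq_mk_iff.mpr ⟨f k ^ K, pow_nin hk K, ?_⟩
    simp [hK (f k ^ K) (Ideal.pow_mem_pow (HomogeneousIdeal.mem_irrelevant_of_mem 𝒜 (hd k) (hf k)) K)]

end Groth.Agent.S15549
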