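import Groth.Statements.S15551
import Groth.Agent.HyperSec.Basic

set_option autoImplicit false
universe u
open CategoryTheory CategoryTheory.Limits AlgebraicGeometry
open Pi1

namespace Groth.Agent.S15551

/-- Let k be an algebraically closed field and X an integral normal scheme (all local rings integrally
closed domains), proper over k and of dimension at least 2, with an ample invertible module L; let s
be a nonzero global section of L, given as a monomorphism O_X → L, and D = Z(s) ⊆ X its zero scheme
(the support of an effective ample divisor). Then for every finite étale cover Y → X with Y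
connected, the fibre product Y ×_X D is connected. This is the statement that the étale fundamental
group of D maps onto that of X. (The published statement takes X projective over k; this row takes X
proper over k with an ample invertible module, which is equivalent.) -/
theorem result (k : Type u) [Field k] [IsAlgClosed k]
    (X : Scheme.{u}) (f : X ⟶ Spec (CommRingCat.of k)) [IsProper f] [IsIntegral X] (hN : Pi1.IsNormalScheme X)
    (hdim : (2 : WithBot ℕ∞) ≤ topologicalKrullDim X)
    (L : X.Modules) (hL : CohB1.IsAmple L) (s : Coh.structureModule X ⟶ L) (hs : Mono s)
    (Y : FEt.Cat X) [ConnectedSpace Y.left] :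
    ConnectedSpace ↥(pullback Y.hom (PicF2.zeroScheme L s).subschemeι) := by
  have h := HyperSec.isConnected_cover k f hN hdim L hL s hs Y
  have hrange : Set.range (pullback.fst Y.hom (PicF2.zeroScheme L s).subschemeι) =
      Y.hom ⁻¹' ((PicF2.zeroScheme L s).support : Set X) := by
    rw [Scheme.Pullback.range_fst, Scheme.IdealSheafData.range_subschemeι]
  have hemb := (pullback.fst Y.hom (PicF2.zeroScheme L s).subschemeι).isClosedEmbedding.isEmbedding
  rw [connectedSpace_iff_univ]
  refine ⟨?_, hemb.isInducing.isPreconnected_image.mp (by rw [Set.image_univ, hrange]; exact h.2)⟩
  obtain ⟨y, hy⟩ := h.nonempty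
  obtain ⟨w, -⟩ := hrange.ge hy
  exact ⟨w, trivial⟩

end Groth.Agent.S15551
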