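import Groth.Statements.S15554
import Groth.Agent.BertiniPn.Section
import Groth.Agent.ZeroSchemeLib.Basic
import Groth.Agent.IdealSh.Comap

set_option autoImplicit false
universe u
open CategoryTheory CategoryTheory.Limits AlgebraicGeometry
open SmVar

namespace Groth.Agent.S15554

open Groth.Agent.SepTang48 Groth.Agent.BertiniPn Groth.Agent.ProjMorph Groth.Agent.Props.ProjFrame
  Groth.Agent.Props.GenLocus Groth.Agent.QCoh

theorem smooth_subscheme {k : Type u} [Field k] {X : Scheme.{u}} (f : X ⟶ Spec (CommRingCat.of k))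
    (I : X.IdealSheafData) {κ : Type*} (U : κ → X.affineOpens) (hU : ⨆ j, (U j).1 = ⊤)
    (h : ∀ j, ((Ideal.Quotient.mk (I.ideal (U j))).comp
      ((f.appLE ⊤ (U j).1 le_top).hom.comp (Scheme.ΓSpecIso (CommRingCat.of k)).inv.hom)).Smooth) :
    Smooth (I.subschemeι ≫ f) := by
  let V : κ → I.subscheme.affineOpens := fun j => ⟨I.subschemeι ⁻¹ᵁ (U j).1, (U j).2.preimage _⟩
  refine (HasRingHomProperty.iff_of_iSup_eq_top (P := @Smooth) V ?_).2 fun j => ?_
  · show ⨆ j, I.subschemeι ⁻¹ᵁ (U j).1 = ⊤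
    rw [← Scheme.Hom.preimage_iSup, hU, Scheme.Hom.preimage_top]
  refine (RingHom.Smooth.respectsIso.cancel_left_isIso (Scheme.ΓSpecIso (CommRingCat.of k)).inv _).1 ?_
  refine (RingHom.Smooth.respectsIso.cancel_right_isIso _ (I.subschemeObjIso (U j)).hom).1 ?_
  have e : ((Scheme.ΓSpecIso (CommRingCat.of k)).inv ≫ (I.subschemeι ≫ f).appLE ⊤ (V j).1 le_top) ≫
      (I.subschemeObjIso (U j)).hom =
      CommRingCat.ofHom ((Ideal.Quotient.mk (I.ideal (U j))).comp
        ((f.appLE ⊤ (U j).1 le_top).hom.comp (Scheme.ΓSpecIso (CommRingCat.of k)).inv.hom)) := by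
    have e1 : (I.subschemeι ≫ f).appLE ⊤ (V j).1 le_top = f.appLE ⊤ (U j).1 le_top ≫ I.subschemeι.app (U j).1 := by
      rw [Scheme.Hom.app_eq_appLE, Scheme.Hom.appLE_comp_appLE]
    rw [e1, I.subschemeι_app (U j)]
    simp only [Category.assoc, Iso.inv_hom_id, Category.comp_id]
    rfl
  exact (congrArg RingHom.Smooth (congrArg CommRingCat.Hom.hom e)).mpr (h j)

/-- Let k be an infinite field and X ⊆ P^n_k a smooth projective variety, given as an integral scheme X
with a closed immersion ι into projective n-space over k through which X is smooth over k. Then X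
has a smooth hyperplane section defined over k: there is a global section s of the twisting sheaf
O(1) on P^n_k whose zero scheme H, a hyperplane defined over k, does not contain X and for which the
scheme-theoretic intersection X ∩ H = X ×_{P^n_k} H is smooth over k. (The published statement also
records that X ∩ H has dimension dim X − 1; that is automatic once X is integral and not contained
in H, so this row states smoothness together with X ⊄ H.) -/
theorem result (k : Type u) [Field k] [Infinite k] (n : ℕ)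
    (X : Scheme.{u}) [IsIntegral X] (ι : X ⟶ CohB1.ProjSpace n k) [IsClosedImmersion ι]
    [Smooth (ι ≫ CohB1.ProjSpace.toSpec n k)] :
    ∃ s : Coh.structureModule (CohB1.ProjSpace n k) ⟶ Twist.twistProjSpace n k 1,
      (∃ x : ↥X, ι.base x ∉ (PicF2.zeroScheme (Twist.twistProjSpace n k 1) s).support) ∧
      Smooth (pullback.fst ι (PicF2.zeroScheme (Twist.twistProjSpace n k 1) s).subschemeι ≫ ι ≫
        CohB1.ProjSpace.toSpec n k) := by
  classical
  obtain ⟨x₀⟩ : Nonempty X := inferInstance
  obtain ⟨g, hg0, hg⟩ := exists_general ι x₀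
  obtain ⟨c, hc⟩ : ∃ c : Fin (n + 1) → k, MvPolynomial.eval c g ≠ 0 := by
    by_contra hall
    push Not at hall
    exact hg0 (MvPolynomial.funext fun c => by rw [hall c, map_zero])
  obtain ⟨hsm, hout⟩ := hg c hc
  set h : MvPolynomial (Fin (n + 1)) k := ∑ i, MvPolynomial.C (c i) * MvPolynomial.X i with hdef
  have hh : h ∈ CohB1.polyGrading n k 1 := sum_mem fun i _ => by
    rw [MvPolynomial.mem_homogeneousSubmodule]
    simpa using (MvPolynomial.isHomogeneous_C (Fin (n + 1)) (c i)).mul (MvPolynomial.isHomogeneous_X k i)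
  have hcoef : (fun i => MvPolynomial.coeff (Finsupp.single i 1) h) = c := by
    funext i
    rw [hdef, MvPolynomial.coeff_sum, Finset.sum_eq_single i]
    · simp [MvPolynomial.coeff_C_mul]
    · intro l _ hl
      simp [MvPolynomial.coeff_C_mul, MvPolynomial.coeff_X', Finsupp.single_eq_single_iff, hl]
    · intro hh'; exact absurd (Finset.mem_univ i) hh'
  let L := Twist.twist (CohB1.polyGrading n k) 1
  let s : Coh.structureModule (Proj (CohB1.polyGrading n k)) ⟶ L := homOfSec (gsec hh)
  refine ⟨s, ?_⟩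
  have hLinv : PicF.IsInvertible L := isInvertible_twist_one (MvPolynomial.X : Fin (n + 1) → _)
    (Groth.Agent.SepTang48.X_mem k n) MvPolynomial.adjoin_range_X
  let Z := PicF2.zeroScheme L s
  have hideal : ∀ j, Z.ideal ⟨Groth.Agent.SepTang48.D k n j, isAffineOpen_D k n j⟩ = Ideal.span {lin k n j c} := fun j => by
    refine ZeroSchemeLib.zeroScheme_ideal_eq_span hLinv s _ (isGen_frame (Groth.Agent.SepTang48.X_mem k n j)) ?_
    rw [← hcoef, ← ratio_eq_lin j hh]
    exact (sec_homOfSec (gsec hh) _).trans (res_gsec _ hh)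
  refine ⟨⟨x₀, fun hmem => hout ?_⟩, ?_⟩
  · obtain ⟨l, hl⟩ : ∃ l, ι.base x₀ ∈ Groth.Agent.SepTang48.D k n l :=
      TopologicalSpace.Opens.mem_iSup.1 ((iSup_D k n).ge (trivial : ι.base x₀ ∈ (⊤ : (CohB1.ProjSpace n k).Opens)))
    have h1 := ((Scheme.IdealSheafData.coe_support_inter Z
      ⟨Groth.Agent.SepTang48.D k n l, isAffineOpen_D k n l⟩).le ⟨hmem, hl⟩).1
    rw [hideal] at h1
    erw [Scheme.zeroLocus_span, Scheme.zeroLocus_singleton] at h1
    by_contra hno
    refine h1 ?_
    rw [← hcoef, ← ratio_eq_lin l hh]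
    exact (basicOpen_coeff hh (Groth.Agent.SepTang48.X_mem k n l) _ le_rfl).ge ⟨hl, hno⟩
  · have hker : ∀ j, (Z.comap ι).ideal ⟨U ι j, isAffineOpen_U ι j⟩ = Ideal.span {hsec ι j c} := fun j => by
      rw [Groth.Agent.IdealSh.Comap.ideal_comap Z ι ⟨_, isAffineOpen_D k n j⟩ ⟨U ι j, isAffineOpen_U ι j⟩ le_rfl,
        hideal]
      erw [Ideal.map_span, Set.image_singleton]
      rw [hsec, Scheme.Hom.app_eq_appLE]
      rfl
    have hfst : pullback.fst ι Z.subschemeι = (Z.comapIso ι).inv ≫ (Z.comap ι).subschemeι :=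
      (Z.comapIso_inv_subschemeι ι).symm
    change Smooth (pullback.fst ι Z.subschemeι ≫ ι ≫ CohB1.ProjSpace.toSpec n k)
    rw [hfst]
    erw [Category.assoc]
    haveI : Smooth ((Z.comap ι).subschemeι ≫ ι ≫ CohB1.ProjSpace.toSpec n k) := by
      refine smooth_subscheme _ _ (fun j => (⟨U ι j, isAffineOpen_U ι j⟩ : X.affineOpens)) ?_ fun j => ?_
      · show ⨆ j, ι ⁻¹ᵁ Groth.Agent.SepTang48.D k n j = ⊤
        rw [← Scheme.Hom.preimage_iSup, iSup_D, Scheme.Hom.preimage_top]
      · rw [hker]
        refine (congrArg RingHom.Smooth (congrArg (RingHom.comp _) (uConst_eq ι j))).mp (hsm j)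
    infer_instance

end Groth.Agent.S15554
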