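import Groth.Statements.S15555
import Mathlib.RingTheory.Smooth.Basic
import Mathlib.RingTheory.RingHom.Smooth
import Mathlib.FieldTheory.Finite.Basic
import Mathlib.RingTheory.Localization.Away.Basic
import Mathlib.Algebra.CharP.Lemmas

set_option autoImplicit false
universe u
open CategoryTheory AlgebraicGeometry

namespace Groth.Agent.S15555

theorem exists_awayLiftAlgHom {k T C : Type*} [CommRing k] [CommRing T] [CommRing C] [Algebra k T]
    [Algebra k C] (f : T →ₐ[k] C) (x : T) (hx : IsUnit (f x)) :
    ∃ g : Localization.Away x →ₐ[k] C, ∀ a, g (algebraMap T _ a) = f a := by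
  have h : ∀ y : Submonoid.powers x, IsUnit (f.toRingHom y) := by
    rintro ⟨_, m, rfl⟩
    show IsUnit (f (x ^ m))
    rw [map_pow]; exact hx.pow m
  refine ⟨{ IsLocalization.lift (S := Localization.Away x) h with commutes' := fun r => ?_ },
    fun a => IsLocalization.lift_eq h a⟩
  show IsLocalization.lift (S := Localization.Away x) h (algebraMap k _ r) = _
  rw [IsScalarTower.algebraMap_apply k T (Localization.Away x), IsLocalization.lift_eq]
  exact f.commutes r

theorem exists_lift_of_smooth {k A B : Type*} [CommRing k] [CommRing A] [CommRing B] [Algebra k A]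
    [Algebra k B] {G : Set A} {I : Ideal B} (ψ : A →ₐ[k] B ⧸ I) (hψ : ∀ a ∈ G, ψ a = 0) (x : A)
    (hx : IsUnit (ψ x)) (hI : IsNilpotent I)
    (hsm : Algebra.FormallySmooth k (Localization.Away (Ideal.Quotient.mk (Ideal.span G) x))) :
    ∃ η : A →ₐ[k] B, (∀ a ∈ G, η a = 0) ∧ ∀ a, Ideal.Quotient.mk I (η a) = ψ a := by
  let ψ' : A ⧸ Ideal.span G →ₐ[k] B ⧸ I := Ideal.Quotient.liftₐ _ ψ (fun a ha => by
    have : Ideal.span G ≤ RingHom.ker ψ := Ideal.span_le.2 (fun a h => hψ a h)
    exact this ha)
  obtain ⟨g₀, hg₀⟩ := exists_awayLiftAlgHom ψ' (Ideal.Quotient.mk _ x) hx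
  let g := Algebra.FormallySmooth.lift I hI g₀
  refine ⟨g.comp ((IsScalarTower.toAlgHom k (A ⧸ Ideal.span G) _).comp (Ideal.Quotient.mkₐ k _)),
    fun a ha => ?_, fun a => ?_⟩
  · show g (algebraMap (A ⧸ Ideal.span G) _ (Ideal.Quotient.mk (Ideal.span G) a)) = 0
    rw [Ideal.Quotient.eq_zero_iff_mem.2 (Ideal.subset_span ha), map_zero, map_zero]
  · show Ideal.Quotient.mk I
      (g (algebraMap (A ⧸ Ideal.span G) _ (Ideal.Quotient.mk (Ideal.span G) a))) = ψ a
    rw [Algebra.FormallySmooth.mk_lift, hg₀]
    rfl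

open Polynomial in
theorem aux_not_smooth (k : Type u) [Field k] [Fintype k] (n : ℕ) (hn : 1 ≤ n)
    (c : Fin (n + 1) ⊕ Fin (n + 1) → k) (hc : c ≠ 0) :
    ∃ w : Fin (n + 1) ⊕ Fin (n + 1), ¬ Algebra.FormallySmooth k
      (Localization.Away (Ideal.Quotient.mk (Ideal.span
        {(∑ i : Fin (n + 1), (MvPolynomial.X (Sum.inl i) * MvPolynomial.X (Sum.inr i) ^ Fintype.card k -
          MvPolynomial.X (Sum.inr i) * MvPolynomial.X (Sum.inl i) ^ Fintype.card k) :
            MvPolynomial (Fin (n + 1) ⊕ Fin (n + 1)) k),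
         ∑ v, MvPolynomial.C (c v) * MvPolynomial.X v}) (MvPolynomial.X w))) := by
  classical
  set F : MvPolynomial (Fin (n + 1) ⊕ Fin (n + 1)) k :=
    ∑ i : Fin (n + 1), (MvPolynomial.X (Sum.inl i) * MvPolynomial.X (Sum.inr i) ^ Fintype.card k -
          MvPolynomial.X (Sum.inr i) * MvPolynomial.X (Sum.inl i) ^ Fintype.card k) with hF
  set L : MvPolynomial (Fin (n + 1) ⊕ Fin (n + 1)) k :=
    ∑ v, MvPolynomial.C (c v) * MvPolynomial.X v with hL
  set q := Fintype.card k with hq
  have hq2 : 2 ≤ q := Fintype.one_lt_card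
  let σ := Fin (n + 1) ⊕ Fin (n + 1)
  -- the rational point
  let P : σ → k := Sum.elim (fun i => -c (Sum.inr i)) (fun i => c (Sum.inl i))
  obtain ⟨w, hw⟩ : ∃ w, P w ≠ 0 := by
    obtain ⟨v, hv⟩ := Function.ne_iff.1 hc
    rcases v with i | i
    · exact ⟨Sum.inr i, hv⟩
    · exact ⟨Sum.inl i, neg_ne_zero.2 hv⟩
  refine ⟨w, fun hsm => ?_⟩
  let K := AlgebraicClosure k
  -- a tangent vector on which the residual form does not vanish
  obtain ⟨v, hLv, hFv⟩ : ∃ v : σ → K, MvPolynomial.aeval v L = 0 ∧ MvPolynomial.aeval v F ≠ 0 := by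
    obtain ⟨t, ht⟩ : ∃ t : K, t ^ q - t ≠ 0 := by
      have : (Polynomial.X ^ q - Polynomial.X : K[X]) ≠ 0 := by
        intro h
        have := congrArg (fun p : K[X] => p.coeff q) h
        simp [Polynomial.coeff_X, show 1 ≠ q by omega] at this
      by_contra hall
      simp only [not_exists, not_not] at hall
      exact this (Polynomial.funext (fun x => by simpa using hall x))
    obtain ⟨e, he⟩ := Function.ne_iff.1 hc
    let j : Fin (n + 1) := Sum.elim id id e
    haveI : Nontrivial (Fin (n + 1)) := Fin.nontrivial_iff_two_le.2 (by omega)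
    obtain ⟨i, hij⟩ : ∃ i, i ≠ j := exists_ne j
    let a : K := algebraMap k K (c e)
    have ha : a ≠ 0 := (_root_.map_ne_zero _).2 he
    let m : K := algebraMap k K (c (Sum.inl i)) + algebraMap k K (c (Sum.inr i)) * t
    let v : σ → K := fun z =>
      if z = Sum.inl i then 1 else if z = Sum.inr i then t else if z = e then - m / a else 0
    have hei : e ≠ Sum.inl i := by rintro rfl; exact hij rfl
    have hei' : e ≠ Sum.inr i := by rintro rfl; exact hij rfl
    refine ⟨v, ?_, ?_⟩
    · have h3 : ({Sum.inl i, Sum.inr i, e} : Finset σ) ⊆ Finset.univ := Finset.subset_univ _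
      simp only [hL, map_sum, map_mul, MvPolynomial.aeval_C, MvPolynomial.aeval_X]
      rw [← Finset.sum_subset h3]
      · rw [Finset.sum_insert (by simp [hei.symm]), Finset.sum_insert (by simp [hei'.symm]),
          Finset.sum_singleton]
        simp only [v, if_true, if_neg hei, if_neg hei',
          if_neg (show (Sum.inr i : σ) ≠ Sum.inl i from Sum.inr_ne_inl)]
        show algebraMap k K (c (Sum.inl i)) * 1 +
          (algebraMap k K (c (Sum.inr i)) * t + a * (-m / a)) = 0
        rw [neg_div, mul_neg, mul_div_cancel₀ m ha]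
        simp only [m]; ring
      · intro z _ hz
        simp only [Finset.mem_insert, Finset.mem_singleton, not_or] at hz
        simp [v, hz.1, hz.2.1, hz.2.2]
    · simp only [hF, map_sum, map_sub, map_mul, map_pow, MvPolynomial.aeval_X]
      rw [Finset.sum_eq_single i]
      · simp only [v, if_true, if_neg (show (Sum.inr i : σ) ≠ Sum.inl i from Sum.inr_ne_inl)]
        simpa using ht
      · intro l _ hl
        rcases e with e | e
        · have : v (Sum.inr l) = 0 := by
            have h' : (Sum.inr l : σ) ≠ Sum.inr i := fun h => hl (Sum.inr.inj h)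
            simp only [v, if_neg h', if_neg (Sum.inr_ne_inl : (Sum.inr l : σ) ≠ Sum.inl i),
              if_neg (Sum.inr_ne_inl : (Sum.inr l : σ) ≠ Sum.inl e)]
          rw [this, zero_pow (show q ≠ 0 by omega), mul_zero, zero_mul, sub_zero]
        · have : v (Sum.inl l) = 0 := by
            have h' : (Sum.inl l : σ) ≠ Sum.inl i := fun h => hl (Sum.inl.inj h)
            simp only [v, if_neg h', if_neg (Sum.inl_ne_inr : (Sum.inl l : σ) ≠ Sum.inr i),
              if_neg (Sum.inl_ne_inr : (Sum.inl l : σ) ≠ Sum.inr e)]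
          rw [this, zero_pow (show q ≠ 0 by omega), mul_zero, zero_mul, sub_zero]
      · simp
  -- the expansion at the point
  obtain ⟨p, hp⟩ := CharP.exists k
  obtain ⟨f, hpr, hcard⟩ := FiniteField.card k p
  have hP : ∀ z, P z ^ q = P z := fun z => FiniteField.pow_card _
  have hcq : ∀ z, c z ^ q = c z := fun z => FiniteField.pow_card _
  have expand : ∀ δ : σ → K[X],
      MvPolynomial.aeval (fun z => algebraMap k K[X] (P z) + δ z) L = MvPolynomial.aeval δ L ∧
      MvPolynomial.aeval (fun z => algebraMap k K[X] (P z) + δ z) F =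
        MvPolynomial.aeval δ L - (MvPolynomial.aeval δ L) ^ q + MvPolynomial.aeval δ F := by
    intro δ
    haveI : CharP K[X] p := charP_of_injective_algebraMap (algebraMap k K[X]).injective p
    haveI : Fact p.Prime := ⟨hpr⟩
    have hadd : ∀ a b : K[X], (a + b) ^ q = a ^ q + b ^ q := fun a b => by
      rw [hq, hcard]; exact add_pow_char_pow a b p f
    have hsum : ∀ g : σ → K[X], (∑ z, g z) ^ q = ∑ z, g z ^ q := fun g => by
      rw [hq, hcard]; exact sum_pow_char_pow p f Finset.univ g
    have hC : ∀ z, (algebraMap k K[X] (c z)) ^ q = algebraMap k K[X] (c z) := fun z => by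
      rw [← map_pow, hcq]
    constructor
    · simp only [hL, map_sum, map_mul, MvPolynomial.aeval_C, MvPolynomial.aeval_X, mul_add,
        Finset.sum_add_distrib, add_eq_right]
      simp only [← map_mul, ← map_sum]
      convert map_zero (algebraMap k K[X])
      rw [Fintype.sum_sum_type, ← Finset.sum_add_distrib]
      exact Finset.sum_eq_zero (fun i _ => by simp [P]; ring)
    · simp only [hL, hF, map_sum, map_sub, map_mul, map_pow, MvPolynomial.aeval_C,
        MvPolynomial.aeval_X]
      rw [show (∑ z, algebraMap k K[X] (c z) * δ z) ^ q = ∑ z, algebraMap k K[X] (c z) * δ z ^ q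
        from (hsum _).trans (Finset.sum_congr rfl (fun z _ => by rw [mul_pow, hC]))]
      simp only [hadd, Fintype.sum_sum_type, ← Finset.sum_add_distrib, ← Finset.sum_sub_distrib]
      refine Finset.sum_congr rfl (fun i _ => ?_)
      simp only [← map_pow, hP]
      simp only [P, Sum.elim_inl, Sum.elim_inr, map_neg]
      ring
  -- the truncated polynomial rings
  let J : Ideal K[X] := Ideal.span {(X : K[X]) ^ (q + 2)}
  let B := K[X] ⧸ J
  let I : Ideal B := Ideal.span {Ideal.Quotient.mk J X ^ 2}
  have hI : IsNilpotent I := by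
    refine ⟨q + 2, ?_⟩
    rw [Ideal.span_singleton_pow, Ideal.zero_eq_bot, Ideal.span_singleton_eq_bot, ← pow_mul,
      ← map_pow, Ideal.Quotient.eq_zero_iff_mem]
    exact Ideal.mem_span_singleton.2 (pow_dvd_pow _ (by omega))
  let φ : K[X] →ₐ[k] B ⧸ I := (Ideal.Quotient.mkₐ k I).comp (Ideal.Quotient.mkₐ k J)
  have hφ2 : ∀ r, φ (X ^ 2 * r) = 0 := fun r => Ideal.Quotient.eq_zero_iff_mem.2 (by
    show Ideal.Quotient.mk J (X ^ 2 * r) ∈ I
    rw [map_mul, map_pow]
    exact Ideal.mem_span_singleton.2 (dvd_mul_right _ _))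
  let pt : σ → K[X] := fun z => algebraMap k K[X] (P z) + X * C (v z)
  let ψ : MvPolynomial σ k →ₐ[k] B ⧸ I := φ.comp (MvPolynomial.aeval pt)
  have hC : ∀ G : MvPolynomial σ k, MvPolynomial.aeval (fun z => C (v z)) G =
      C (MvPolynomial.aeval v G) := fun G => by
    have := MvPolynomial.comp_aeval_apply v (Polynomial.CAlgHom (R := k) (A := K)) G
    simpa using this.symm
  have homF : ∀ s : σ → K[X], MvPolynomial.aeval (fun z => X * s z) F =
      X ^ (q + 1) * MvPolynomial.aeval s F := fun s => by
    simp only [hF, map_sum, map_sub, map_mul, map_pow, MvPolynomial.aeval_X, Finset.mul_sum]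
    exact Finset.sum_congr rfl (fun i _ => by ring)
  have homL : ∀ s : σ → K[X], MvPolynomial.aeval (fun z => X * s z) L =
      X * MvPolynomial.aeval s L := fun s => by
    simp only [hL, map_sum, map_mul, MvPolynomial.aeval_X, MvPolynomial.aeval_C, Finset.mul_sum]
    exact Finset.sum_congr rfl (fun i _ => by ring)
  have hψL : ψ L = 0 := by
    show φ (MvPolynomial.aeval pt L) = 0
    rw [(expand _).1, homL, hC, hLv, map_zero, mul_zero, map_zero]
  have hψF : ψ F = 0 := by
    show φ (MvPolynomial.aeval pt F) = 0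
    rw [(expand _).2, homL, homF, hC, hC, hLv, map_zero, mul_zero, zero_pow (by omega), sub_zero,
      zero_add, show q + 1 = 2 + (q - 1) by omega, pow_add, mul_assoc]
    exact hφ2 _
  have hunit : IsUnit (ψ (MvPolynomial.X w)) := by
    show IsUnit (φ (MvPolynomial.aeval pt (MvPolynomial.X w)))
    rw [MvPolynomial.aeval_X, map_add, AlgHom.commutes]
    refine IsNilpotent.isUnit_add_left_of_commute ?_ ?_ ?_
    · refine ⟨2, ?_⟩
      rw [← map_pow, mul_pow]
      exact hφ2 _
    · exact (isUnit_iff_ne_zero.2 hw).map _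
    · exact (Algebra.commutes _ _).symm
  obtain ⟨η, hηG, hη⟩ := exists_lift_of_smooth (G := {F, L}) (B := B) ψ
    (by rintro G (rfl | rfl)
        · exact hψF
        · exact hψL)
    (MvPolynomial.X w) hunit hI hsm
  have hr : ∀ z, ∃ r : K[X], η (MvPolynomial.X z) = Ideal.Quotient.mk J (pt z + X ^ 2 * r) := by
    intro z
    have h1 : η (MvPolynomial.X z) - Ideal.Quotient.mk J (pt z) ∈ I := by
      rw [← Ideal.Quotient.eq_zero_iff_mem, map_sub, hη, sub_eq_zero]
      show φ (MvPolynomial.aeval pt (MvPolynomial.X z)) = _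
      rw [MvPolynomial.aeval_X]; rfl
    obtain ⟨b, hb⟩ := Ideal.mem_span_singleton'.1 h1
    obtain ⟨r, rfl⟩ := Ideal.Quotient.mk_surjective b
    exact ⟨r, by rw [map_add, map_mul, map_pow, mul_comm, hb, add_sub_cancel]⟩
  choose r hr using hr
  let s : σ → K[X] := fun z => C (v z) + X * r z
  have key : ∀ G, η G = Ideal.Quotient.mk J
      (MvPolynomial.aeval (fun z => algebraMap k K[X] (P z) + X * s z) G) := fun G => by
    have : η = (Ideal.Quotient.mkₐ k J).comp
        (MvPolynomial.aeval (fun z => algebraMap k K[X] (P z) + X * s z)) := by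
      refine MvPolynomial.algHom_ext (fun z => ?_)
      show η (MvPolynomial.X z) = Ideal.Quotient.mk J (MvPolynomial.aeval _ (MvPolynomial.X z))
      rw [MvPolynomial.aeval_X, hr]
      simp only [Ideal.Quotient.mkₐ_eq_mk, pt, s]
      congr 1; ring
    rw [this]; rfl
  have kill : ∀ G ∈ ({F, L} : Set _), (X : K[X]) ^ (q + 2) ∣
      MvPolynomial.aeval (fun z => algebraMap k K[X] (P z) + X * s z) G := fun G hG => by
    rw [← Ideal.mem_span_singleton, ← Ideal.Quotient.eq_zero_iff_mem, ← key]
    exact hηG G hG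
  have h1 := kill L (by simp)
  have h2 := kill F (by simp)
  rw [(expand _).1] at h1
  rw [(expand _).2] at h2
  have h3 : (X : K[X]) ^ (q + 2) ∣ X ^ (q + 1) * MvPolynomial.aeval s F := by
    rw [← homF]
    exact (dvd_add_right (dvd_sub h1 (dvd_pow h1 (by omega)))).1 h2
  rw [show q + 2 = q + 1 + 1 from rfl, pow_succ,
    mul_dvd_mul_iff_left (pow_ne_zero _ X_ne_zero)] at h3
  rw [Polynomial.X_dvd_iff, Polynomial.coeff_zero_eq_eval_zero] at h3
  apply hFv
  have := MvPolynomial.comp_aeval_apply s ((Polynomial.aeval (R := K) (0 : K)).restrictScalars k) F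
  simp only [AlgHom.restrictScalars_apply, Polynomial.coe_aeval_eq_eval] at this
  rw [this] at h3
  convert h3 using 2
  congr 1
  funext z
  simp [s]

/-- Let k be a finite field with q elements and n ≥ 1 a natural number; in the 2n + 2 variables X_0, …,
X_n, Y_0, …, Y_n (indexed by Fin (n+1) ⊕ Fin (n+1), the left summand carrying the X_i) let F = Σ_i
(X_i Y_i^q − Y_i X_i^q), a form of degree q + 1 defining the hypersurface Hyp ⊂ P^{2n+1}_k. Then no
hyperplane of P^{2n+1}_k defined over k meets Hyp transversally: for every linear form L = Σ_v c_v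
x_v with a nonzero coefficient vector c over k, the scheme-theoretic intersection Hyp ∩ (L = 0) ⊂
P^{2n+1}_k is not smooth over k. The intersection is presented through the standard open pieces of
its affine cone: with R = k[X, Y]/(F, L), the piece x_w ≠ 0 of the cone Spec R is (Hyp ∩ (L = 0) ∩
D₊(x_w)) × 𝔾_m, so Hyp ∩ (L = 0) is smooth over k exactly when every localisation R[1/x_w] is a
smooth k-algebra, and the row states that not all of them are. (The published example is stated for
every n ≥ 0; for n = 0 the hypersurface is the set of the q + 1 rational points of P^1_k, it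
contains every rational point H, and Hyp ∩ H = H is a reduced point, smooth over k; so this row
takes n ≥ 1, where no rational hyperplane is contained in Hyp and each one is tangent to Hyp at a
rational point, at which the intersection is singular.) -/
theorem result (k : Type u) [Field k] [Fintype k] (n : ℕ) (hn : 1 ≤ n)
    (F L : MvPolynomial (Fin (n + 1) ⊕ Fin (n + 1)) k)
    (hF : F = ∑ i : Fin (n + 1), (MvPolynomial.X (Sum.inl i) * MvPolynomial.X (Sum.inr i) ^ Fintype.card k -
      MvPolynomial.X (Sum.inr i) * MvPolynomial.X (Sum.inl i) ^ Fintype.card k))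
    (c : Fin (n + 1) ⊕ Fin (n + 1) → k) (hc : c ≠ 0)
    (hL : L = ∑ v, MvPolynomial.C (c v) * MvPolynomial.X v) :
    ¬ ∀ w : Fin (n + 1) ⊕ Fin (n + 1),
      Smooth (Spec.map (CommRingCat.ofHom (algebraMap k
        (Localization.Away (Ideal.Quotient.mk (Ideal.span {F, L}) (MvPolynomial.X w)))))) := by
  subst hF hL
  obtain ⟨w, hw⟩ := aux_not_smooth k n hn c hc
  intro h
  have h1 := (HasRingHomProperty.Spec_iff (P := @Smooth)).1 (h w)
  rw [CommRingCat.hom_ofHom, RingHom.smooth_algebraMap] at h1
  exact hw h1.formallySmooth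

end Groth.Agent.S15555
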