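import Groth.Statements.S15556
import Groth.Agent.CycLib.FlatBC
import Groth.Agent.CycLib.RatMap
import Groth.Agent.CycLib.ProdClass

set_option autoImplicit false
universe u
open CategoryTheory AlgebraicGeometry
open CategoryTheory.Limits
open Cyc

namespace Groth.Agent.S15556

section
open CategoryTheory CategoryTheory.Limits AlgebraicGeometry Groth.Agent.CycLib

namespace Insep88

theorem universallyInjective_specMap (L N : Type u) [Field L] [Field N] [Algebra L N]
    [IsPurelyInseparable L N] : UniversallyInjective (Spec.map (CommRingCat.ofHom (algebraMap L N))) := by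
  rw [UniversallyInjective.iff_diagonal]
  let f := Spec.map (CommRingCat.ofHom (algebraMap L N))
  have h1 : Subsingleton (PrimeSpectrum (TensorProduct L N N)) :=
    ((PrimeSpectrum.comapEquiv (Algebra.TensorProduct.comm L N N).toRingEquiv).toEquiv.subsingleton_congr).2
      (PrimeSpectrum.isHomeomorph_comap_of_isPurelyInseparable L N N).bijective.injective.subsingleton
  have : Subsingleton ↥(Spec (CommRingCat.of (TensorProduct L N N))) := h1
  have h2 : Subsingleton ↥(pullback f f) := (pullbackSpecIso L N N).hom.homeomorph.injective.subsingleton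
  exact ⟨fun y => ⟨IsLocalRing.closedPoint N, Subsingleton.elim _ _⟩⟩

end Insep88

end


set_option backward.isDefEq.respectTransparency false in
/-- Let k be a field of characteristic p > 0, E a finite purely inseparable field extension of k, X a
separated scheme of finite type over k, X' = X ×_k E with projection f : X' → X (any pullback
square), δ a dimension function on X making (X, δ) a cycle setup (X locally Noetherian with
universally catenary local rings) and δ' the induced dimension function on X' (so (X', δ') is a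
cycle setup and δ' is compatible with δ along f, which has relative dimension 0). Then flat pullback
of cycles along f induces a bijection of Chow groups of i-cycles after inverting p, in the following
two-sided sense: for every i-cycle β on X' there are an i-cycle α on X, an i-cycle α' on X' with the
flat-pullback coefficients of α, and an exponent s with [α'] = p^s · [β] in CH_i(X'); and for every
i-cycle α on X and every i-cycle α' on X' with the flat-pullback coefficients of α, if [α'] = 0 in
CH_i(X') then p^s · [α] = 0 in CH_i(X) for some s. (The published statement allows an arbitrary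
purely inseparable extension E of k; this row takes E finite over k, the case the printed argument
carries out.) -/
theorem result (k E : Type u) [Field k] [Field E] [Algebra k E] (p : ℕ) [Fact p.Prime] [CharP k p] [Module.Finite k E] [IsPurelyInseparable k E] (X X' : Scheme.{u}) (g : X ⟶ Spec (CommRingCat.of k)) [IsSeparated g] [LocallyOfFiniteType g] [QuasiCompact g] (f : X' ⟶ X) (g' : X' ⟶ Spec (CommRingCat.of E)) (hsq : IsPullback f g' g (Spec.map (CommRingCat.ofHom (algebraMap k E)))) (δ : X → ℤ) (δ' : X' → ℤ) (hX : Cyc.IsSetup X δ) (hX' : Cyc.IsSetup X' δ') (hδ : Cyc.DeltaCompat f δ' δ) (i : ℤ) : (∀ (β : AlgebraicCycle X' ℤ) (hβ : β ∈ Cyc.Zk X' δ' i), ∃ (α : AlgebraicCycle X ℤ) (hα : α ∈ Cyc.Zk X δ i) (α' : AlgebraicCycle X' ℤ) (hα' : α' ∈ Cyc.Zk X' δ' i) (s : ℕ), ⇑α' = Cyc.pullFun f δ' δ 0 ⇑α ∧ ChowOps.cl α' hα' = p ^ s • ChowOps.cl β hβ) ∧ (∀ (α : AlgebraicCycle X ℤ) (hα : α ∈ Cyc.Zk X δ i) (α' : AlgebraicCycle X' ℤ) (hα' : α' ∈ Cyc.Zk X' δ' i), ⇑α' = Cyc.pullFun f δ' δ 0 ⇑α → ChowOps.cl α' hα' = 0 → ∃ s : ℕ, p ^ s • ChowOps.cl α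 hα = 0) := by
  classical
  haveI := hX.1
  haveI := hX'.1
  set e := Spec.map (CommRingCat.ofHom (algebraMap k E)) with he
  haveI : IsFinite e := (IsFinite.SpecMap_iff _).mpr (RingHom.finite_algebraMap.mpr inferInstance)
  haveI : Flat e := (Flat.SpecMap_iff (f := CommRingCat.ofHom (algebraMap k E))).mpr
    (RingHom.flat_algebraMap_iff.mpr inferInstance)
  haveI : Surjective e := ⟨fun y => ⟨IsLocalRing.closedPoint E, Subsingleton.elim _ _⟩⟩
  haveI : UniversallyInjective e := Insep88.universallyInjective_specMap k E
  haveI : IsFinite f := MorphismProperty.of_isPullback (P := @IsFinite) hsq.flip inferInstance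
  haveI : Flat f := MorphismProperty.of_isPullback (P := @Flat) hsq.flip inferInstance
  haveI : Surjective f := MorphismProperty.of_isPullback (P := @Surjective) hsq.flip inferInstance
  haveI : UniversallyInjective f :=
    MorphismProperty.of_isPullback (P := @UniversallyInjective) hsq.flip inferInstance
  haveI := ExpChar.prime (R := k) (q := p) Fact.out
  obtain ⟨t, ht⟩ := IsPurelyInseparable.finrank_eq_pow k E p
  -- the degree formula at a point
  have hdeg : ∀ x' : X', Groth.Agent.CycLib.FlatBC.len f x' * f.residueDegree x' = p ^ t := by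
    intro x'
    obtain ⟨S, hS, hsum⟩ := Groth.Agent.CycLib.FlatBC.exists_fibre_sum f (f x')
    have hS1 : S = {x'} := by
      ext u
      rw [hS, Finset.mem_singleton]
      exact ⟨fun h => f.injective h, fun h => h ▸ rfl⟩
    rw [hS1, Finset.sum_singleton] at hsum
    rw [← hsum, Scheme.Hom.finrank_of_isPullback _ _ _ _ hsq.flip (f x'), he,
      Scheme.Hom.finrank_SpecMap_algebraMap, Module.rankAtStalk_eq_finrank_of_free]
    exact ht
  have hd : ∀ x', δ' x' = δ (f x') := fun x' => by
    obtain ⟨n, hn, hn'⟩ := hδ x'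
    have hpi : Function.Injective f ∧ ∀ x, (f.residueFieldMap x).hom.IsPurelyInseparable :=
      ((tfae_universallyInjective f).out 0 2).1 ‹UniversallyInjective f›
    letI := (f.residueFieldMap x').hom.toAlgebra
    haveI : IsPurelyInseparable (X.residueField (f x')) (X'.residueField x') := hpi.2 x'
    haveI : Algebra.IsAlgebraic (X.residueField (f x')) (X'.residueField x') := inferInstance
    rw [trdeg_eq_zero (R := X.residueField (f x')) (A := X'.residueField x')] at hn
    have : n = 0 := by exact_mod_cast hn.symm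
    omega
  have hpush : ∀ (a : AlgebraicCycle X' ℤ) (x' : X'),
      AlgebraicCycle.map f δ' δ a (f x') = a x' * (f.residueDegree x' : ℤ) := by
    intro a x'
    rw [Groth.Agent.CycLib.map_apply_eq_sum f δ' δ a (f x') {x'}
      (fun u hu _ => Finset.mem_singleton.2 (f.injective hu)), Finset.filter_singleton, if_pos rfl,
      Finset.sum_singleton, AlgebraicCycle.mapCoeff, if_pos (hd x')]
  have hpull : ∀ (a : X → ℤ) (x' : X'),
      Cyc.pullFun f δ' δ 0 a x' = a (f x') * (Groth.Agent.CycLib.FlatBC.len f x' : ℤ) := fun a x' => by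
    rw [Cyc.pullFun, if_pos (by rw [hd, add_zero])]
    rfl
  have hmem : ∀ a ∈ Cyc.Zk X' δ' i, AlgebraicCycle.map f δ' δ a ∈ Cyc.Zk X δ i := by
    intro a ha x hx
    obtain ⟨x', rfl⟩ := f.surjective x
    rw [hpush, ha x' (by rwa [hd]), zero_mul]
  refine ⟨fun β hβ => ?_, fun α hα α' hα' heq h0 => ?_⟩
  · have hsm : (p ^ t : ℕ) • β ∈ Cyc.Zk X' δ' i := fun x' hx => by
      show ((p ^ t : ℕ) • β) x' = 0
      simp [hβ x' hx]
    refine ⟨_, hmem β hβ, (p ^ t : ℕ) • β, hsm, t, funext fun x' => ?_, ?_⟩
    · rw [hpull, hpush, mul_assoc, ← Nat.cast_mul, mul_comm (f.residueDegree x'), hdeg]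
      simp [mul_comm]
    · show ChowOps.clHom X' δ' i ⟨_, hsm⟩ = p ^ t • ChowOps.clHom X' δ' i ⟨β, hβ⟩
      rw [← map_nsmul]
      rfl
  · refine ⟨t, ?_⟩
    have h1 : (⟨α', hα'⟩ : ↥(ChowOps.zk X' δ' i)) ∈ ChowOps.ratTriv X' δ' i :=
      (QuotientAddGroup.eq_zero_iff _).1 h0
    have key : ∀ a ∈ ChowOps.ratTriv X' δ' i, ∀ b : ↥(ChowOps.zk X δ i),
        (∀ x', (b : AlgebraicCycle X ℤ) (f x') =
          (a : AlgebraicCycle X' ℤ) x' * (f.residueDegree x' : ℤ)) → b ∈ ChowOps.ratTriv X δ i := by
      intro a ha
      induction ha using AddSubgroup.closure_induction with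
      | mem a ha =>
        intro b hb
        refine AddSubgroup.subset_closure ?_
        have h := Groth.Agent.CycLib.ratEquiv_map δ' δ hX'.2.2 hX.2.2 f hδ i (a : AlgebraicCycle X' ℤ) 0
          (by rw [Cyc.RatEquiv, sub_zero]; exact ha)
        have hz : AlgebraicCycle.map f δ' δ 0 = 0 :=
          Function.locallyFinsuppWithin.coe_injective (funext fun x => by
            obtain ⟨x', rfl⟩ := f.surjective x
            show AlgebraicCycle.map f δ' δ 0 (f x') = (0 : AlgebraicCycle X ℤ) (f x')
            rw [hpush]
            simp)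
        have hb' : AlgebraicCycle.map f δ' δ (a : AlgebraicCycle X' ℤ) = (b : AlgebraicCycle X ℤ) :=
          Function.locallyFinsuppWithin.coe_injective (funext fun x => by
            obtain ⟨x', rfl⟩ := f.surjective x
            show AlgebraicCycle.map f δ' δ (a : AlgebraicCycle X' ℤ) (f x') = (b : AlgebraicCycle X ℤ) (f x')
            rw [hpush, hb])
        rw [hz, hb', Cyc.RatEquiv, sub_zero] at h
        exact h
      | zero =>
        intro b hb
        have : b = 0 := Subtype.ext (Function.locallyFinsuppWithin.coe_injective (funext fun x => by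
          obtain ⟨x', rfl⟩ := f.surjective x
          show (b : AlgebraicCycle X ℤ) (f x') = (0 : AlgebraicCycle X ℤ) (f x')
          rw [hb]
          simp))
        exact this ▸ zero_mem _
      | add a₁ a₂ _ _ ih₁ ih₂ =>
        intro b hb
        let b₁ : ↥(ChowOps.zk X δ i) := ⟨_, hmem (a₁ : AlgebraicCycle X' ℤ) a₁.2⟩
        let b₂ : ↥(ChowOps.zk X δ i) := ⟨_, hmem (a₂ : AlgebraicCycle X' ℤ) a₂.2⟩
        have : b = b₁ + b₂ := Subtype.ext (Function.locallyFinsuppWithin.coe_injective (funext fun x => by
          obtain ⟨x', rfl⟩ := f.surjective x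
          show (b : AlgebraicCycle X ℤ) (f x') = AlgebraicCycle.map f δ' δ (a₁ : AlgebraicCycle X' ℤ) (f x')
            + AlgebraicCycle.map f δ' δ (a₂ : AlgebraicCycle X' ℤ) (f x')
          rw [hb, hpush, hpush, ← add_mul]
          rfl))
        exact this ▸ add_mem (ih₁ b₁ (hpush _)) (ih₂ b₂ (hpush _))
      | neg a _ ih =>
        intro b hb
        have := neg_mem (ih (-b) fun x' => by
          show -((b : AlgebraicCycle X ℤ) (f x')) = _
          rw [hb, ← neg_mul]
          show -(-((a : AlgebraicCycle X' ℤ) x')) * _ = _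
          rw [neg_neg])
        rwa [neg_neg] at this
    show p ^ t • ChowOps.clHom X δ i ⟨α, hα⟩ = 0
    rw [← map_nsmul]
    refine (QuotientAddGroup.eq_zero_iff _).2 (key _ h1 _ fun x' => ?_)
    show ((p ^ t : ℕ) • α) (f x') = α' x' * _
    rw [congrFun heq x', hpull, mul_assoc, ← Nat.cast_mul, hdeg]
    simp [mul_comm]

end Groth.Agent.S15556
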