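import Groth.Statements.S15558
import Mathlib.AlgebraicGeometry.Limits
import Mathlib.Data.Fintype.EquivFin
import Mathlib.Logic.Small.Basic

set_option backward.isDefEq.respectTransparency false
set_option backward.defeqAttrib.useBackward true
set_option maxHeartbeats 400000

set_option autoImplicit false
universe u v
open CategoryTheory AlgebraicGeometry
open Lim

namespace Groth.Agent.S15558

open TopologicalSpace Limits

/-- A finite list of affine opens covering a compact open. -/
lemma exists_affine_list {X : Scheme.{u}} (W : X.Opens) : ∃ L : List X.Opens,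
    (∀ U ∈ L, IsAffineOpen U ∧ U ≤ W) ∧ (IsCompact (W : Set X) → ∀ x ∈ W, ∃ U ∈ L, x ∈ U) := by
  classical
  by_cases hW : IsCompact (W : Set X)
  swap
  · exact ⟨[], fun U h => by simp at h, fun h => absurd h hW⟩
  have h : ∀ x : W, ∃ V : X.Opens, IsAffineOpen V ∧ V ≤ W ∧ x.1 ∈ V := fun x => by
    obtain ⟨_, ⟨V, hV, rfl⟩, hxV, hVW⟩ :=
      X.isBasis_affineOpens.exists_subset_of_mem_open x.2 W.2
    exact ⟨V, hV, hVW, hxV⟩
  choose V hV hVW hxV using h
  obtain ⟨t, ht⟩ := hW.elim_finite_subcover (fun x : W => (V x : Set X)) (fun x => (V x).2)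
    fun x hx => Set.mem_iUnion.mpr ⟨⟨x, hx⟩, hxV ⟨x, hx⟩⟩
  refine ⟨t.toList.map V, fun U hU => ?_, fun _ x hx => ?_⟩
  · obtain ⟨a, -, rfl⟩ := List.mem_map.mp hU
    exact ⟨hV a, hVW a⟩
  · obtain ⟨a, ha, hxa⟩ := Set.mem_iUnion₂.mp (ht hx)
    exact ⟨V a, List.mem_map.mpr ⟨a, Finset.mem_toList.mpr ha, rfl⟩, hxa⟩

/-- The chosen list. -/
noncomputable def cov {X : Scheme.{u}} (W : X.Opens) : List X.Opens :=
  (exists_affine_list W).choose

lemma cov_spec {X : Scheme.{u}} (W : X.Opens) : (∀ U ∈ cov W, IsAffineOpen U ∧ U ≤ W) ∧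
    (IsCompact (W : Set X) → ∀ x ∈ W, ∃ U ∈ cov W, x ∈ U) :=
  (exists_affine_list W).choose_spec

variable {Λ : Type v} [PartialOrder Λ] (hΛ : ∀ l : Λ, (Set.Iic l).Finite) (X : Λᵒᵖ ⥤ Scheme.{u})

include hΛ in
lemma wf : WellFounded ((· < ·) : Λ → Λ → Prop) :=
  Subrelation.wf (r := InvImage (· < ·) fun l => (hΛ l).toFinset.card)
    (fun {a b} h => Finset.card_lt_card (by
      rw [Set.Finite.toFinset_ssubset_toFinset, Set.ssubset_iff_subset_ne]
      exact ⟨Set.Iic_subset_Iic.mpr h.le, fun e => h.ne (Set.Iic_injective e)⟩))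
    (InvImage.wf _ wellFounded_lt)

/-- The transition maps. -/
noncomputable abbrev tr {n l : Λ} (h : n ≤ l) :
    X.obj (Opposite.op l) ⟶ X.obj (Opposite.op n) :=
  X.map (homOfLE h).op

/-- Restriction of choices. -/
def res {n l : Λ} (h : n ≤ l) (k : Set.Iic l → ℕ) : Set.Iic n → ℕ :=
  fun m => k ⟨m.1, m.2.trans h⟩

/-- The open cut out by the choices below. -/
noncomputable def prevOpen (l : Λ) (V : ∀ n, n < l → (Set.Iic n → ℕ) → (X.obj (Opposite.op n)).Opens)
    (k : Set.Iic l → ℕ) : (X.obj (Opposite.op l)).Opens :=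
  (hΛ l).toFinset.attach.inf fun n =>
    open scoped Classical in
    if h : n.1 < l then tr X h.le ⁻¹ᵁ V n.1 h (res h.le k) else ⊤

/-- The affine opens. -/
noncomputable def opn : ∀ l, (Set.Iic l → ℕ) → (X.obj (Opposite.op l)).Opens :=
  (wf hΛ).fix fun l V k => (cov (prevOpen hΛ X l V k)).getD (k ⟨l, le_refl l⟩) ⊥

/-- The open before choosing. -/
noncomputable def pre (l : Λ) (k : Set.Iic l → ℕ) : (X.obj (Opposite.op l)).Opens :=
  prevOpen hΛ X l (fun n _ => opn hΛ X n) k

lemma opn_eq (l : Λ) (k : Set.Iic l → ℕ) :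
    opn hΛ X l k = (cov (pre hΛ X l k)).getD (k ⟨l, le_refl l⟩) ⊥ := by
  unfold opn pre
  rw [WellFounded.fix_eq]
  rfl

attribute [local irreducible] opn

lemma isAffineOpen_opn (l : Λ) (k : Set.Iic l → ℕ) : IsAffineOpen (opn hΛ X l k) := by
  rw [opn_eq]
  by_cases h : k ⟨l, le_refl l⟩ < (cov (pre hΛ X l k)).length
  · rw [List.getD_eq_getElem?_getD, List.getElem?_eq_getElem h, Option.getD_some]
    exact ((cov_spec _).1 _ (List.getElem_mem h)).1
  · rw [List.getD_eq_getElem?_getD, List.getElem?_eq_none (not_lt.mp h), Option.getD_none]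
    exact isAffineOpen_bot _

lemma opn_le_pre (l : Λ) (k : Set.Iic l → ℕ) : opn hΛ X l k ≤ pre hΛ X l k := by
  rw [opn_eq]
  by_cases h : k ⟨l, le_refl l⟩ < (cov (pre hΛ X l k)).length
  · rw [List.getD_eq_getElem?_getD, List.getElem?_eq_getElem h, Option.getD_some]
    exact ((cov_spec _).1 _ (List.getElem_mem h)).2
  · rw [List.getD_eq_getElem?_getD, List.getElem?_eq_none (not_lt.mp h), Option.getD_none]
    exact bot_le

lemma opn_le {n l : Λ} (h : n ≤ l) (k : Set.Iic l → ℕ) :
    opn hΛ X l k ≤ tr X h ⁻¹ᵁ opn hΛ X n (res h k) := by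
  rcases h.eq_or_lt with rfl | hlt
  · rw [show tr X h = 𝟙 _ from X.map_id _]
    exact le_refl _
  · classical
    refine (opn_le_pre hΛ X l k).trans ?_
    refine (Finset.inf_le (Finset.mem_attach _
      ⟨n, (hΛ l).mem_toFinset.mpr h⟩)).trans (le_of_eq ?_)
    rw [dif_pos hlt]

/-- The choices. -/
def Choice (l : Λ) : Type v :=
  {k : Set.Iic l → ℕ // ∀ (n : Λ) (h : n ≤ l), k ⟨n, h⟩ < (cov (pre hΛ X n (res h k))).length}

lemma finite_choice : ∀ l, Finite (Choice hΛ X l) := by
  intro l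
  induction l using (wf hΛ).induction with | _ l ih => ?_
  classical
  have : Finite {m : Λ // m < l} := ((hΛ l).subset fun m hm => le_of_lt hm).to_subtype
  have : ∀ m : {m : Λ // m < l}, Finite (Choice hΛ X m.1) := fun m => ih m.1 m.2
  let φ : Choice hΛ X l → (∀ m : {m : Λ // m < l}, Choice hΛ X m.1) := fun k m =>
    ⟨res m.2.le k.1, fun n h => k.2 n (h.trans m.2.le)⟩
  have hpre : ∀ k k' : Choice hΛ X l, φ k = φ k' → pre hΛ X l k.1 = pre hΛ X l k'.1 := by
    intro k k' e
    refine Finset.inf_congr rfl fun n _ => ?_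
    by_cases h : n.1 < l
    · have : res h.le k.1 = res h.le k'.1 := congrArg Subtype.val (congrFun e ⟨n.1, h⟩)
      rw [dif_pos h, dif_pos h, this]
    · rw [dif_neg h, dif_neg h]
  let N : (∀ m : {m : Λ // m < l}, Choice hΛ X m.1) → ℕ := fun a =>
    if h : ∃ k, φ k = a then (cov (pre hΛ X l h.choose.1)).length else 0
  have hN (k : Choice hΛ X l) : k.1 ⟨l, le_refl l⟩ < N (φ k) := by
    have hk : ∃ k', φ k' = φ k := ⟨k, rfl⟩
    show _ < dite _ _ _
    rw [dif_pos hk, hpre _ k hk.choose_spec]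
    exact k.2 l le_rfl
  refine Finite.of_injective (β := Σ a, Fin (N a)) (fun k => ⟨φ k, ⟨_, hN k⟩⟩) fun k k' e => ?_
  obtain ⟨e₁, e₂⟩ := Sigma.mk.inj_iff.mp e
  have e₂' : k.1 ⟨l, le_refl l⟩ = k'.1 ⟨l, le_refl l⟩ :=
    (Fin.heq_ext_iff (congrArg N e₁)).mp e₂
  refine Subtype.ext (funext fun ⟨n, (hn : n ≤ l)⟩ => ?_)
  rcases hn.eq_or_lt with rfl | h
  · exact e₂'
  · exact congrFun (congrArg Subtype.val (congrFun e₁ ⟨n, h⟩)) ⟨n, le_refl n⟩

/-- Restriction of a choice. -/
def Choice.restrict {n l : Λ} (h : n ≤ l) (k : Choice hΛ X l) : Choice hΛ X n :=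
  ⟨res h k.1, fun m hm => k.2 m (hm.trans h)⟩

lemma isCompact_prev [∀ l, CompactSpace ↥(X.obj (Opposite.op l))]
    [∀ l, QuasiSeparatedSpace ↥(X.obj (Opposite.op l))] (l : Λ) (k : Set.Iic l → ℕ) :
    IsCompact (pre hΛ X l k : Set ↥(X.obj (Opposite.op l))) := by
  unfold pre prevOpen
  refine Finset.inf_induction
    (p := fun W : (X.obj (Opposite.op l)).Opens => IsCompact (W : Set ↥(X.obj (Opposite.op l))))
    (by simpa using isCompact_univ) (fun a ha b hb => ?_) fun n _ => ?_
  · rw [Opens.coe_inf]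
    exact QuasiSeparatedSpace.inter_isCompact _ _ a.2 ha b.2 hb
  · by_cases h : n.1 < l
    · rw [dif_pos h]
      have : QuasiCompact (tr X h.le) := quasiCompact_of_compactSpace _
      exact (tr X h.le).isCompact_preimage (isAffineOpen_opn hΛ X _ _).isCompact
    · rw [dif_neg h]
      simpa using isCompact_univ

lemma exists_mem [∀ l, CompactSpace ↥(X.obj (Opposite.op l))]
    [∀ l, QuasiSeparatedSpace ↥(X.obj (Opposite.op l))] (l : Λ)
    (x : ↥(X.obj (Opposite.op l))) : ∃ k : Choice hΛ X l, x ∈ opn hΛ X l k.1 := by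
  classical
  let step : ∀ n : Λ, (∀ m, m < n → (m ≤ l → ℕ)) → (n ≤ l → ℕ) := fun n g hn =>
    (cov (pre hΛ X n fun m => if h : m.1 < n then g m.1 h (m.2.trans hn) else 0)).findIdx
      (fun U => decide (tr X hn x ∈ U))
  let g := (wf hΛ).fix step
  let k : Set.Iic l → ℕ := fun m => g m.1 m.2
  have hk : ∀ n, ∀ hn : n ≤ l, k ⟨n, hn⟩ < (cov (pre hΛ X n (res hn k))).length ∧
      tr X hn x ∈ opn hΛ X n (res hn k) := by
    intro n
    induction n using (wf hΛ).induction with
    | _ n ih =>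
      intro hn
      have hg : g n hn = step n (fun m _ => g m) hn := by
        show (wf hΛ).fix step n hn = _
        rw [WellFounded.fix_eq]
      have hp : pre hΛ X n (fun m => if h : m.1 < n then g m.1 (m.2.trans hn) else 0) =
          pre hΛ X n (res hn k) := by
        refine Finset.inf_congr rfl fun m _ => ?_
        by_cases h : m.1 < n
        · have : res h.le (fun m : Set.Iic n => if h : m.1 < n then g m.1 (m.2.trans hn) else 0) =
              res h.le (res hn k) := funext fun j => by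
            simp only [res]
            rw [dif_pos (lt_of_le_of_lt j.2 h)]
          rw [dif_pos h, dif_pos h, this]
        · rw [dif_neg h, dif_neg h]
      have hidx : k ⟨n, hn⟩ = (cov (pre hΛ X n (res hn k))).findIdx
          (fun U => decide (tr X hn x ∈ U)) := by
        show g n hn = _
        rw [hg, ← hp]
      have hx : tr X hn x ∈ pre hΛ X n (res hn k) := by
        unfold pre prevOpen
        refine Finset.inf_induction (p := fun W : (X.obj (Opposite.op n)).Opens => tr X hn x ∈ W) trivial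
          (fun a ha b hb => ⟨ha, hb⟩) fun m _ => ?_
        by_cases h : m.1 < n
        · rw [dif_pos h]
          show (tr X hn ≫ tr X h.le) x ∈ opn hΛ X m.1 (res h.le (res hn k))
          rw [← X.map_comp]
          exact (ih m.1 h (h.le.trans hn)).2
        · rw [dif_neg h]; trivial
      obtain ⟨U, hU, hxU⟩ := (cov_spec _).2 (isCompact_prev hΛ X n _) _ hx
      have hlt : k ⟨n, hn⟩ < (cov (pre hΛ X n (res hn k))).length := by
        rw [hidx]
        exact List.findIdx_lt_length.mpr ⟨U, hU, by simpa using hxU⟩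
      refine ⟨hlt, ?_⟩
      rw [opn_eq]
      show _ ∈ (cov (pre hΛ X n (res hn k))).getD (k ⟨n, hn⟩) ⊥
      rw [List.getD_eq_getElem?_getD, List.getElem?_eq_getElem hlt, Option.getD_some]
      simp only [hidx]
      exact of_decide_eq_true (List.findIdx_getElem (p := fun U => decide (tr X hn x ∈ U)))
  refine ⟨⟨k, fun n hn => (hk n hn).1⟩, ?_⟩
  have h := (hk l le_rfl).2
  rwa [show tr X (le_refl l) = 𝟙 _ from X.map_id _] at h

/-- The pieces. -/
noncomputable def piece (l : Λ) (k : Choice hΛ X l) : Scheme.{u} := (opn hΛ X l k.1).toScheme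

/-- The inclusion of a piece. -/
noncomputable def pieceι (l : Λ) (k : Choice hΛ X l) : piece hΛ X l k ⟶ X.obj (Opposite.op l) :=
  (opn hΛ X l k.1).ι

instance (l : Λ) (k : Choice hΛ X l) : IsOpenImmersion (pieceι hΛ X l k) :=
  inferInstanceAs (IsOpenImmersion (opn hΛ X l k.1).ι)

lemma isAffine_piece (l : Λ) (k : Choice hΛ X l) : IsAffine (piece hΛ X l k) :=
  isAffineOpen_opn hΛ X l k.1

/-- The transition maps of the pieces. -/
noncomputable def pieceMap {n l : Λ} (h : n ≤ l) (k : Choice hΛ X l) :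
    piece hΛ X l k ⟶ piece hΛ X n (Choice.restrict hΛ X h k) :=
  (tr X h).resLE _ _ (opn_le hΛ X h k.1)

lemma pieceMap_ι {n l : Λ} (h : n ≤ l) (k : Choice hΛ X l) :
    pieceMap hΛ X h k ≫ pieceι hΛ X n (Choice.restrict hΛ X h k) = pieceι hΛ X l k ≫ tr X h :=
  Scheme.Hom.resLE_comp_ι _ _

lemma pieceMap_refl (l : Λ) (k : Choice hΛ X l) :
    pieceMap hΛ X (le_refl l) k = 𝟙 (piece hΛ X l k) :=
  (cancel_mono (pieceι hΛ X l k)).mp (((pieceMap_ι hΛ X (le_refl l) k).trans
    ((congrArg (_ ≫ ·) (X.map_id (Opposite.op l))).trans (Category.comp_id _))).trans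
      (Category.id_comp _).symm)

lemma pieceMap_trans {m n l : Λ} (h : m ≤ n) (h' : n ≤ l) (k : Choice hΛ X l) :
    pieceMap hΛ X (h.trans h') k =
      pieceMap hΛ X h' k ≫ pieceMap hΛ X h (Choice.restrict hΛ X h' k) := by
  refine (cancel_mono (pieceι hΛ X m (Choice.restrict hΛ X (h.trans h') k))).mp ?_
  rw [pieceMap_ι, Category.assoc]
  refine Eq.trans ?_ (congrArg (_ ≫ ·) (pieceMap_ι hΛ X h (Choice.restrict hΛ X h' k))).symm
  rw [← Category.assoc, pieceMap_ι, Category.assoc, ← X.map_comp]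
  rfl

instance small_choice (l : Λ) : Small.{u} (Choice hΛ X l) :=
  have := finite_choice hΛ X l
  Countable.toSmall _

/-- The system of disjoint unions. -/
noncomputable def cover : Λᵒᵖ ⥤ Scheme.{u} where
  obj l := ∐ (piece hΛ X l.unop)
  map {l n} h := Sigma.desc fun k => pieceMap hΛ X h.unop.le k ≫
    Sigma.ι (piece hΛ X n.unop) (Choice.restrict hΛ X h.unop.le k)
  map_id l := Sigma.hom_ext _ _ fun k => by
    rw [Sigma.ι_desc, Category.comp_id]
    exact (congrArg (· ≫ Sigma.ι (piece hΛ X l.unop) k) (pieceMap_refl hΛ X l.unop k)).trans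
      (Category.id_comp _)
  map_comp {l n m} a b := Sigma.hom_ext _ _ fun k => by
    rw [Sigma.ι_desc, Sigma.ι_desc_assoc, Category.assoc, Sigma.ι_desc]
    exact (congrArg (· ≫ Sigma.ι (piece hΛ X m.unop) (Choice.restrict hΛ X (a ≫ b).unop.le k))
      (pieceMap_trans hΛ X b.unop.le a.unop.le k)).trans (Category.assoc _ _ _)

/-- The map to the system. -/
noncomputable def coverπ : cover hΛ X ⟶ X where
  app l := Sigma.desc fun k => pieceι hΛ X l.unop k
  naturality l n h := Sigma.hom_ext _ _ fun k => by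
    simp only [cover, Sigma.ι_desc_assoc, Category.assoc, Sigma.ι_desc]
    exact pieceMap_ι hΛ X h.unop.le k

/-- Let Λ be a cofinite partially ordered set (every element has finitely many elements below it; Λ need
not be directed) and X : Λᵒᵖ ⥤ Scheme an inverse system of quasi-compact quasi-separated schemes.
Then there exist an inverse system Y : Λᵒᵖ ⥤ Scheme of affine schemes and a morphism of inverse
systems π : Y ⟶ X such that each π_λ : Y_λ → X_λ is a Zariski covering: it is surjective and Y_λ is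
covered by pairwise disjoint open subschemes each of which maps to X_λ by an open immersion. (The
published statement is for schemes over a fixed perfect field; the base field plays no role, and the
version for schemes over a base follows by composing with the structure morphisms.) -/
theorem result {Λ : Type v} [PartialOrder Λ]
    (hΛ : ∀ l : Λ, (Set.Iic l).Finite) (X : Λᵒᵖ ⥤ Scheme.{u})
    (hqc : ∀ l : Λ, CompactSpace ↥(X.obj (Opposite.op l)))
    (hqs : ∀ l : Λ, QuasiSeparatedSpace ↥(X.obj (Opposite.op l))) :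
    ∃ (Y : Λᵒᵖ ⥤ Scheme.{u}) (π : Y ⟶ X), ∀ l : Λ,
      IsAffine (Y.obj (Opposite.op l)) ∧ Surjective (π.app (Opposite.op l)) ∧
        ∃ (ι : Type u) (U : ι → (Y.obj (Opposite.op l)).Opens),
          Pairwise (fun i j => Disjoint (U i) (U j)) ∧ iSup U = ⊤ ∧
            ∀ i, IsOpenImmersion ((U i).ι ≫ π.app (Opposite.op l)) := by
  have := hqc
  have := hqs
  have := finite_choice hΛ X
  refine ⟨cover hΛ X, coverπ hΛ X, fun l => ⟨?_, ?_, ?_⟩⟩
  · show IsAffine (∐ (piece hΛ X l))
    have : ∀ k, IsAffine (piece hΛ X l k) := isAffine_piece hΛ X l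
    infer_instance
  · refine ⟨fun x => ?_⟩
    obtain ⟨k, hk⟩ := exists_mem hΛ X l x
    let y : ↥(piece hΛ X l k) := (⟨x, hk⟩ : ↥(opn hΛ X l k.1))
    refine ⟨Sigma.ι (piece hΛ X l) k y, ?_⟩
    show (Sigma.ι (piece hΛ X l) k ≫ (coverπ hΛ X).app (Opposite.op l)) y = x
    rw [show Sigma.ι (piece hΛ X l) k ≫ (coverπ hΛ X).app (Opposite.op l) = pieceι hΛ X l k from
      Sigma.ι_desc _ _]
    rfl
  · let e := (equivShrink.{u} (Choice hΛ X l)).symm
    refine ⟨Shrink.{u} (Choice hΛ X l), fun i => (Sigma.ι (piece hΛ X l) (e i)).opensRange,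
      ?_, ?_, ?_⟩
    · exact fun i j hij => disjoint_opensRange_sigmaι (piece hΛ X l) (e i) (e j)
        fun h => hij (e.injective h)
    · refine top_le_iff.mp fun y _ => Opens.mem_iSup.mpr ?_
      obtain ⟨k, z, hz⟩ := (sigmaOpenCover (piece hΛ X l)).exists_eq y
      obtain ⟨i, rfl⟩ := e.surjective k
      exact ⟨i, z, hz⟩
    · intro i
      let j := Sigma.ι (piece hΛ X l) (e i)
      have hj : j ≫ (coverπ hΛ X).app (Opposite.op l) = pieceι hΛ X l (e i) := Sigma.ι_desc _ _
      have : IsOpenImmersion (j ≫ (coverπ hΛ X).app (Opposite.op l)) := by rw [hj]; infer_instance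
      show IsOpenImmersion (j.opensRange.ι ≫ (coverπ hΛ X).app (Opposite.op l))
      rw [← IsOpenImmersion.isoOfRangeEq_hom_fac j.opensRange.ι j (by simp), Category.assoc]
      infer_instance

end Groth.Agent.S15558
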