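import Groth.Statements.S15559
import Groth.Agent.EtHull16.PerfTower
import Groth.Agent.S0591
import Groth.Agent.S2075

set_option autoImplicit false
universe u
open CategoryTheory AlgebraicGeometry
open FrobSch

namespace Groth.Agent.S15559

open Groth.Agent.EtHull16 CategoryTheory CategoryTheory.Limits AlgebraicGeometry

/-- Call a morphism V → U of quasi-compact quasi-separated perfect schemes of characteristic p flat of
finite presentation in the perfect sense when it factors as V → V₀ → U with V → V₀ a perfection map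
(V perfect and universal for morphisms from perfect schemes of characteristic p into V₀) and V₀ → U
flat, locally of finite presentation, quasi-compact and quasi-separated; faithfully flat of finite
presentation when moreover V₀ → U is surjective. If Z → Y and Y → X are flat of finite presentation
in the perfect sense, so is the composite Z → X, and it is faithfully flat of finite presentation
when both are. Here the data are given as Y₀ → X with perfection map Y → Y₀ and Z₀ → Y with
perfection map Z → Z₀, and the conclusion produces W₀ → X with a perfection map Z → W₀ over X. (The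
published proposition is stated for pro-objects of perfections of schemes of finite type over a
perfect field and also for morphisms flat of profinite presentation; this row is its case of
schemes, which its proof treats first, with the base field replaced by characteristic p.) -/
theorem result (p : ℕ) [Fact p.Prime]
    {X Y Z Y₀ Z₀ : Scheme.{u}} [FrobSch.IsCharP X p] [FrobSch.IsCharP Y p] [FrobSch.IsCharP Z p]
    [FrobSch.IsCharP Y₀ p] [FrobSch.IsCharP Z₀ p]
    [CompactSpace ↥X] [QuasiSeparatedSpace ↥X] [CompactSpace ↥Y] [QuasiSeparatedSpace ↥Y]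
    [CompactSpace ↥Z] [QuasiSeparatedSpace ↥Z] (hX : FrobSch.IsPerfect X p)
    (g₀ : Y₀ ⟶ X) [Flat g₀] [LocallyOfFinitePresentation g₀] [QuasiCompact g₀] [QuasiSeparated g₀]
    (πY : Y ⟶ Y₀) (hY : FrobSch.IsPerfection πY p)
    (f₀ : Z₀ ⟶ Y) [Flat f₀] [LocallyOfFinitePresentation f₀] [QuasiCompact f₀] [QuasiSeparated f₀]
    (πZ : Z ⟶ Z₀) (hZ : FrobSch.IsPerfection πZ p) :
    ∃ (W₀ : Scheme.{u}) (h₀ : W₀ ⟶ X) (ϖ : Z ⟶ W₀),
      Flat h₀ ∧ LocallyOfFinitePresentation h₀ ∧ QuasiCompact h₀ ∧ QuasiSeparated h₀ ∧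
        FrobSch.IsPerfection ϖ p ∧ ϖ ≫ h₀ = πZ ≫ f₀ ≫ πY ≫ g₀ ∧
          (Surjective g₀ → Surjective f₀ → Surjective h₀) := by
  have hqY : CompactSpace Y₀ := QuasiCompact.compactSpace_of_compactSpace g₀
  haveI : QuasiSeparatedSpace Y₀ := quasiSeparatedSpace_of_quasiSeparated g₀
  haveI (i : (ULift.{u} ℕ)ᵒᵖ) : CompactSpace ((PerfTower.tower p Y₀).obj i) := hqY
  haveI (i : (ULift.{u} ℕ)ᵒᵖ) : QuasiSeparatedSpace ((PerfTower.tower p Y₀).obj i) :=
    ‹QuasiSeparatedSpace Y₀›
  obtain ⟨hc⟩ := PerfTower.isLimit_cone hY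
  obtain ⟨i, W, fi, g, hfp, hqc, hqs, sq⟩ :=
    Groth.Agent.S0591.result (PerfTower.tower p Y₀) (PerfTower.cone p hY) hc Z₀ f₀
  haveI : CompactSpace W := QuasiCompact.compactSpace_of_compactSpace fi
  haveI : QuasiSeparatedSpace W := quasiSeparatedSpace_of_quasiSeparated fi
  obtain ⟨j, φ, W', Yj, fj, gj, pY, pX, hpY, hpX, hfj⟩ :=
    Groth.Agent.S2075.result (PerfTower.tower p Y₀) (PerfTower.cone p hY) hc i fi
      (𝟙 _) f₀ (𝟙 _) ((PerfTower.cone p hY).π.app i) g
      (IsPullback.of_vert_isIso ⟨by simp⟩) sq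
  haveI : IsIso gj := MorphismProperty.of_isPullback (P := MorphismProperty.isomorphisms Scheme.{u})
    hpY (inferInstanceAs (IsIso (𝟙 _)))
  let w : W' ⟶ Y₀ := fj ≫ gj
  have sq' : IsPullback pX w fi ((PerfTower.tower p Y₀).map φ) := by
    simpa [w] using hpX.paste_vert hpY
  haveI : LocallyOfFinitePresentation w := MorphismProperty.of_isPullback sq' hfp
  haveI : QuasiCompact w := MorphismProperty.of_isPullback sq' hqc
  haveI : QuasiSeparated w := MorphismProperty.of_isPullback sq' hqs
  haveI : Flat w := inferInstanceAs (Flat (fj ≫ gj))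
  let n := j.unop.down
  let g' : Z₀ ⟶ W' := sq'.lift g (f₀ ≫ PerfTower.proj hY n) (by
    rw [sq.w, Category.assoc]
    exact congrArg (f₀ ≫ ·) ((PerfTower.cone p hY).w φ).symm)
  have sqZ : IsPullback g' f₀ w (PerfTower.proj hY n) := by
    refine IsPullback.of_right ?_ (sq'.lift_snd _ _ _) sq'
    rw [sq'.lift_fst]
    have e : PerfTower.proj hY n ≫ (PerfTower.tower p Y₀).map φ = (PerfTower.cone p hY).π.app i :=
      (PerfTower.cone p hY).w φ
    rw [e]
    exact sq
  have hn := PerfTower.isPerfection_proj hY n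
  haveI := PerfTower.isIso_Fn (p := p) hX n
  haveI hF := PerfTower.isIso_Fn (p := p) hY.1 n
  refine ⟨W', w ≫ g₀ ≫ PerfTower.Fn (p := p) X n, πZ ≫ g', inferInstance, inferInstance,
    inferInstance, inferInstance, PerfTower.isPerfection_baseChange hZ hn sqZ, ?_, fun h₁ h₂ => ?_⟩
  · haveI : FrobSch.IsCharP W' p := FrobSch.IsCharP.of_hom w p
    rw [Category.assoc, reassoc_of% sqZ.w, ← PerfTower.Fn_comp g₀, PerfTower.proj_Fn_assoc]
  · have : Surjective (PerfTower.proj hY n) := Groth.Agent.PerfSch.Perfection.surjective hn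
    have : Surjective (g' ≫ w) := by rw [sqZ.w]; infer_instance
    have : Surjective w := Surjective.of_comp g' w
    infer_instance

end Groth.Agent.S15559
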