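import Groth.Statements.S15562
import Groth.Agent.KronMod.Basic

set_option autoImplicit false
universe u v w
open KronMod

namespace Groth.Agent.S15562

/-- Over a field K, for V of dimension d₋₁ > 0 and W of dimension n·d₋₁, semistable Kronecker modules
with n arrows from V to W exist, and any two of them are isomorphic as Kronecker modules; in other
words the moduli space K(n; d₋₁, n·d₋₁) of semistable Kronecker modules is a single point. (The
published statement assumes K algebraically closed of characteristic zero and n ≥ 2; this row allows
any field K and any number n of arrows.) -/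
theorem result (K : Type u) [Field K] (V : Type v) (W : Type w)
    [AddCommGroup V] [Module K V] [FiniteDimensional K V]
    [AddCommGroup W] [Module K W] [FiniteDimensional K W]
    (n : ℕ) (hV : 0 < Module.finrank K V) (hW : Module.finrank K W = n * Module.finrank K V) :
    (∃ f : Fin n → (V →ₗ[K] W), KronMod.IsSemistable f) ∧
    ∀ f f' : Fin n → (V →ₗ[K] W), KronMod.IsSemistable f → KronMod.IsSemistable f' →
      KronMod.AreIso f f' := by
  constructor
  · have e : (Fin n → V) ≃ₗ[K] W := LinearEquiv.ofFinrankEq _ _
      (by rw [Module.finrank_pi_fintype]; simp [hW])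
    refine ⟨fun j => (e : (Fin n → V) →ₗ[K] W) ∘ₗ LinearMap.single K (fun _ => V) j, ?_⟩
    rw [Groth.Agent.KronMod.semistable_iff_sum hV hW]
    have h : ∀ v : Fin n → V, Groth.Agent.KronMod.sumMap
        (fun j => (e : (Fin n → V) →ₗ[K] W) ∘ₗ LinearMap.single K (fun _ => V) j) v = e v := by
      intro v
      simp only [Groth.Agent.KronMod.sumMap_apply, LinearMap.comp_apply, LinearEquiv.coe_coe]
      rw [← map_sum]
      exact congrArg e (Finset.univ_sum_single v)
    rw [show (_ : (Fin n → V) → W) = _ from funext h]
    exact e.bijective
  · intro f f' hf hf'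
    rw [Groth.Agent.KronMod.semistable_iff_sum hV hW] at hf hf'
    refine ⟨LinearEquiv.refl K V, (LinearEquiv.ofBijective _ hf).symm.trans
      (LinearEquiv.ofBijective _ hf'), fun j => ?_⟩
    ext x
    have h1 : (LinearEquiv.ofBijective _ hf).symm (f j x) = Pi.single j x := by
      rw [LinearEquiv.symm_apply_eq, LinearEquiv.ofBijective_apply,
        Groth.Agent.KronMod.sumMap_single]
    simp [LinearEquiv.trans_apply, h1, LinearEquiv.ofBijective_apply,
      Groth.Agent.KronMod.sumMap_single, -Groth.Agent.KronMod.sumMap_apply]

end Groth.Agent.S15562
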