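import Groth.Statements.S15563
import Groth.Agent.KronMod.Basic

set_option autoImplicit false
universe u v w
open KronMod

namespace Groth.Agent.S15563

/-- Let f be a Kronecker module with n arrows over a field K, from V of dimension d₋₁ > 0 to W of
dimension n·d₋₁. Then f is stable if and only if f is semistable and d₋₁ = 1: for d₋₁ = 1 every
semistable module is stable (so the stable locus of K(n; 1, n) is the one point), while for d₋₁ > 1
no module is stable. (The published statement assumes K algebraically closed of characteristic zero
and n ≥ 2; this row allows any field K and any number n of arrows.) -/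
theorem result (K : Type u) [Field K] (V : Type v) (W : Type w)
    [AddCommGroup V] [Module K V] [FiniteDimensional K V]
    [AddCommGroup W] [Module K W] [FiniteDimensional K W]
    (n : ℕ) (f : Fin n → (V →ₗ[K] W))
    (hV : 0 < Module.finrank K V) (hW : Module.finrank K W = n * Module.finrank K V) :
    KronMod.IsStable f ↔ (KronMod.IsSemistable f ∧ Module.finrank K V = 1) := by
  constructor
  · intro hf
    have hs := Groth.Agent.KronMod.IsStable.semistable hf
    refine ⟨hs, ?_⟩
    by_contra hne
    obtain ⟨x, hx⟩ := Module.finrank_pos_iff_exists_ne_zero.1 hV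
    let V' : Submodule K V := K ∙ x
    let g := Groth.Agent.KronMod.sumMap f ∘ₗ Groth.Agent.KronMod.piSub (n := n) V'
    have h1 : Module.finrank K V' = 1 := finrank_span_singleton hx
    have h2 : Module.finrank K (LinearMap.range g) ≤ n := by
      have := LinearMap.finrank_range_le g
      rwa [Groth.Agent.KronMod.finrank_tuples, h1, mul_one] at this
    have hsub : KronMod.IsSubrep f V' (LinearMap.range g) := by
      intro j
      rintro _ ⟨y, hy, rfl⟩
      refine ⟨Pi.single j ⟨y, hy⟩, ?_⟩
      simp only [g, LinearMap.comp_apply, Groth.Agent.KronMod.sumMap_apply]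
      rw [Finset.sum_eq_single j]
      · simp [Groth.Agent.KronMod.piSub]
      · intro i _ hi; simp [Groth.Agent.KronMod.piSub, hi]
      · simp
    have h3 := hf.2 V' _ hsub (fun e => by rw [e.1, finrank_bot] at h1; omega)
      (fun e => by rw [e.1, finrank_top] at h1; omega)
    rw [h1, hW, mul_one] at h3
    nlinarith
  · rintro ⟨hs, h1⟩
    refine ⟨hs.1, fun V' W' h hb ht => ?_⟩
    have hle : Module.finrank K V' ≤ 1 := h1 ▸ Submodule.finrank_le V'
    rcases Nat.le_one_iff_eq_zero_or_eq_one.1 hle with h0 | h0
    · have hV' := Submodule.finrank_eq_zero.1 h0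
      have : 0 < Module.finrank K W' := Nat.pos_of_ne_zero fun e =>
        hb ⟨hV', Submodule.finrank_eq_zero.1 e⟩
      rw [h0, h1]; simpa using this
    · have hV' : V' = ⊤ := Submodule.eq_top_of_finrank_eq (h0.trans h1.symm)
      exfalso
      refine ht ⟨hV', Submodule.eq_top_of_finrank_eq (le_antisymm (Submodule.finrank_le _) ?_)⟩
      have := Groth.Agent.KronMod.finrank_mul_le_of_sumMap_inj
        ((Groth.Agent.KronMod.semistable_iff_sum hV hW).1 hs).1 h
      rw [h0, mul_one] at this
      rw [hW, h1, mul_one]; exact this

end Groth.Agent.S15563
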