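import Groth.Statements.S15564
import Groth.Agent.KronMod.Basic

set_option autoImplicit false
universe u v w
open KronMod

namespace Groth.Agent.S15564

/-- For a Kronecker module f with n arrows over a field K between one-dimensional spaces V and W,
semistability, stability and f ≠ 0 are equivalent: the semistable locus and the stable locus of
dimension vector (1, 1) are both the complement of the zero module. (The published statement assumes
K algebraically closed of characteristic zero and n ≥ 2; this row allows any field K and any n.) -/
theorem result (K : Type u) [Field K] (V : Type v) (W : Type w)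
    [AddCommGroup V] [Module K V] [FiniteDimensional K V]
    [AddCommGroup W] [Module K W] [FiniteDimensional K W]
    (n : ℕ) (f : Fin n → (V →ₗ[K] W))
    (hV : Module.finrank K V = 1) (hW : Module.finrank K W = 1) :
    (KronMod.IsSemistable f ↔ f ≠ 0) ∧ (KronMod.IsStable f ↔ f ≠ 0) := by
  have key : f ≠ 0 → KronMod.IsStable f := by
    intro hf
    refine ⟨by omega, fun V' W' h hb ht => ?_⟩
    rcases Nat.le_one_iff_eq_zero_or_eq_one.1 (hV ▸ Submodule.finrank_le V') with h0 | h0
    · have : 0 < Module.finrank K W' := Nat.pos_of_ne_zero fun e =>
        hb ⟨Submodule.finrank_eq_zero.1 h0, Submodule.finrank_eq_zero.1 e⟩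
      rw [h0, hV]; simpa using this
    · have hV' : V' = ⊤ := Submodule.eq_top_of_finrank_eq (h0.trans hV.symm)
      exfalso
      obtain ⟨j, hj⟩ := Function.ne_iff.1 hf
      obtain ⟨x, hx⟩ : ∃ x, f j x ≠ 0 := by
        by_contra hh; push_neg at hh; exact hj (LinearMap.ext hh)
      have hmem : f j x ∈ W' := h j ⟨x, by rw [hV']; trivial, rfl⟩
      refine ht ⟨hV', Submodule.eq_top_of_finrank_eq (le_antisymm (Submodule.finrank_le _) ?_)⟩
      rw [hW]
      exact Nat.pos_of_ne_zero fun e => hx (by
        rw [Submodule.finrank_eq_zero.1 e] at hmem; simpa using hmem)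
  have key2 : KronMod.IsSemistable f → f ≠ 0 := by
    intro hf e
    have := Groth.Agent.KronMod.pi_injective f hf (by omega)
    obtain ⟨x, hx⟩ := Module.finrank_pos_iff_exists_ne_zero.1 (by omega : 0 < Module.finrank K V)
    refine hx (this ?_)
    funext j
    simp [e]
  exact ⟨⟨key2, fun h => Groth.Agent.KronMod.IsStable.semistable (key h)⟩,
    fun h => key2 (Groth.Agent.KronMod.IsStable.semistable h), key⟩

end Groth.Agent.S15564
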