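import Groth.Statements.S15565
import Groth.Agent.KronMod.Basic

set_option autoImplicit false
universe u v w
open KronMod

namespace Groth.Agent.S15565

/-- Over an algebraically closed field K, a Kronecker module with two arrows between spaces V and W of
the same dimension k ≥ 2 is never stable: the stable locus of dimension vector (k, k) for the
Kronecker quiver with two arrows is empty. (The published statement also assumes characteristic
zero; this row does not.) -/
theorem result (K : Type u) [Field K] [IsAlgClosed K] (V : Type v) (W : Type w)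
    [AddCommGroup V] [Module K V] [FiniteDimensional K V]
    [AddCommGroup W] [Module K W] [FiniteDimensional K W]
    (f : Fin 2 → (V →ₗ[K] W)) (k : ℕ) (hk : 2 ≤ k)
    (hV : Module.finrank K V = k) (hW : Module.finrank K W = k) :
    ¬ KronMod.IsStable f := by
  intro hf
  obtain ⟨v, w, hv, h0, h1⟩ : ∃ (v : V) (w : W), v ≠ 0 ∧ f 0 v ∈ K ∙ w ∧ f 1 v ∈ K ∙ w := by
    by_cases hi : Function.Injective (f 0)
    · haveI : Nontrivial V := Module.nontrivial_of_finrank_pos (R := K) (by omega)
      let e := LinearEquiv.ofBijective (f 0)
        ⟨hi, (LinearMap.injective_iff_surjective_of_finrank_eq_finrank (by omega)).1 hi⟩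
      obtain ⟨μ, hμ⟩ := Module.End.exists_eigenvalue (e.symm.toLinearMap ∘ₗ f 1)
      obtain ⟨v, hv⟩ := hμ.exists_hasEigenvector
      refine ⟨v, f 0 v, hv.2, Submodule.mem_span_singleton_self _, ?_⟩
      have h2 : e.symm (f 1 v) = μ • v := hv.apply_eq_smul
      rw [LinearEquiv.symm_apply_eq, map_smul, LinearEquiv.ofBijective_apply] at h2
      rw [h2]
      exact Submodule.smul_mem _ _ (Submodule.mem_span_singleton_self _)
    · rw [← LinearMap.ker_eq_bot] at hi
      obtain ⟨v, hv, hv0⟩ := Submodule.exists_mem_ne_zero_of_ne_bot hi
      exact ⟨v, f 1 v, hv0, by rw [LinearMap.mem_ker.1 hv]; exact zero_mem _,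
        Submodule.mem_span_singleton_self _⟩
  have h2 : Module.finrank K (K ∙ w) ≤ 1 := by
    by_cases hw : w = 0
    · subst hw
      rw [Submodule.span_zero_singleton, finrank_bot]; omega
    · rw [finrank_span_singleton hw]
  have h3 : Module.finrank K (K ∙ v) = 1 := finrank_span_singleton hv
  have hsub : KronMod.IsSubrep f (K ∙ v) (K ∙ w) := by
    intro j
    rw [Submodule.map_span, Set.image_singleton, Submodule.span_singleton_le_iff_mem]
    fin_cases j
    · exact h0
    · exact h1
  have h4 := hf.2 _ _ hsub (fun e => by rw [e.1, finrank_bot] at h3; omega)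
    (fun e => by rw [e.1, finrank_top] at h3; omega)
  rw [h3, hV, hW, mul_one] at h4
  nlinarith

end Groth.Agent.S15565
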