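import Groth.Statements.S15566
import Groth.Agent.KronMod.Basic

set_option autoImplicit false
universe u v w
open KronMod

namespace Groth.Agent.S15566

/-- Case of dimension vector (2, 2). Over an algebraically closed field K, if a Kronecker module f with
n arrows between two-dimensional spaces V and W is semistable, then some linear combination Σ_j z_j
f_j of its arrows is a linear isomorphism V → W (equivalently, the determinant of the generic
combination is not identically zero): the semistable locus of dimension vector (2, 2) lies in the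
open set of modules whose generic combination is invertible. (The published statement, over an
algebraically closed field of characteristic zero, covers dimension vectors (1, 1) and (2, 2) for
every n ≥ 2 and (k, k) for two arrows; this row states the (2, 2) case, for any n and without the
characteristic assumption.) -/
theorem result (K : Type u) [Field K] [IsAlgClosed K] (V : Type v) (W : Type w)
    [AddCommGroup V] [Module K V] [FiniteDimensional K V]
    [AddCommGroup W] [Module K W] [FiniteDimensional K W]
    (n : ℕ) (f : Fin n → (V →ₗ[K] W))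
    (hV : Module.finrank K V = 2) (hW : Module.finrank K W = 2)
    (hf : KronMod.IsSemistable f) :
    ∃ z : Fin n → K, Function.Bijective ((∑ j, z j • f j : V →ₗ[K] W) : V → W) := by
  classical
  by_contra hne
  push_neg at hne
  let L : (Fin n → K) →ₗ[K] (V →ₗ[K] W) :=
    { toFun := fun z => ∑ j, z j • f j
      map_add' := fun a b => by simp [add_smul, Finset.sum_add_distrib]
      map_smul' := fun c a => by simp [Finset.smul_sum, smul_smul] }
  have hrank : ∀ z, ¬ Function.Injective (L z) := fun z hz => hne z
    ⟨hz, (LinearMap.injective_iff_surjective_of_finrank_eq_finrank (by omega)).1 hz⟩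
  have hj : ∀ j, L (Pi.single j 1) = f j := by
    intro j
    show ∑ i, (Pi.single j 1 : Fin n → K) i • f i = f j
    rw [Finset.sum_eq_single j] <;> simp +contextual
  have hk : (⨅ j, LinearMap.ker (f j)) = ⊥ := Groth.Agent.KronMod.iInf_ker_eq_bot f hf (by omega)
  -- some member is nonzero
  obtain ⟨j₀, hj₀⟩ : ∃ j, f j ≠ 0 := by
    by_contra hh
    push_neg at hh
    obtain ⟨x, hx⟩ := Module.finrank_pos_iff_exists_ne_zero.1 (by omega : 0 < Module.finrank K V)
    exact hx (Submodule.mem_bot K |>.1 (hk ▸ (Submodule.mem_iInf _).2 fun j => by simp [hh j]))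
  let g := f j₀
  have hg1 : ¬ Function.Injective g := by simpa only [hj] using hrank (Pi.single j₀ 1)
  rw [← LinearMap.ker_eq_bot] at hg1
  obtain ⟨v0, hv0, hv00⟩ := Submodule.exists_mem_ne_zero_of_ne_bot hg1
  rw [LinearMap.mem_ker] at hv0
  obtain ⟨v1, hv1⟩ : ∃ v1, g v1 ≠ 0 := by
    by_contra hh; push_neg at hh; exact hj₀ (LinearMap.ext hh)
  have hind : LinearIndependent K ![v0, v1] := by
    rw [LinearIndependent.pair_iff]
    intro s t hst
    have := congrArg g hst
    simp [hv0, hv1] at this
    subst this
    simp [hv00] at hst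
    exact ⟨hst, rfl⟩
  have hdep : ∀ z, ¬ LinearIndependent K ![L z v0, L z v1] := by
    intro z hz
    apply hrank z
    rw [← LinearMap.ker_eq_bot, Submodule.eq_bot_iff]
    intro x hx
    have hsp := hind.span_eq_top_of_card_eq_finrank (by simp [hV])
    rw [Matrix.range_cons, Matrix.range_cons, Matrix.range_empty, Set.union_empty,
      Set.singleton_union] at hsp
    obtain ⟨s, t, rfl⟩ := Submodule.mem_span_pair.1 (hsp ▸ Submodule.mem_top : x ∈ _)
    rw [LinearMap.mem_ker, map_add, map_smul, map_smul] at hx
    obtain ⟨rfl, rfl⟩ := (LinearIndependent.pair_iff.1 hz) s t hx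
    simp
  -- every combination maps v0 into the line of g v1
  have hline : ∀ z, L z v0 ∈ K ∙ g v1 := by
    intro z
    by_contra hcon
    have hw : L z v0 ≠ 0 := fun e => hcon (e ▸ zero_mem _)
    have e1 : ∀ y : W, ¬ LinearIndependent K ![L z v0, y] → y ∈ K ∙ L z v0 := by
      intro y hy
      rw [LinearIndependent.pair_iff' hw] at hy
      push_neg at hy
      obtain ⟨a, ha⟩ := hy
      exact ha ▸ Submodule.smul_mem _ _ (Submodule.mem_span_singleton_self _)
    have h1 := e1 _ (hdep z)
    have h2 := hdep (z + Pi.single j₀ 1)
    rw [map_add, hj, LinearMap.add_apply, LinearMap.add_apply, hv0, add_zero] at h2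
    have h3 := Submodule.sub_mem _ (e1 _ h2) h1
    rw [add_sub_cancel_left] at h3
    obtain ⟨a, ha⟩ := Submodule.mem_span_singleton.1 h3
    have hv1' : a ≠ 0 := fun e => hv1 (by rw [← ha, e, zero_smul])
    exact hcon (Submodule.mem_span_singleton.2 ⟨a⁻¹, by rw [← ha, smul_smul,
      inv_mul_cancel₀ hv1', one_smul]⟩)
  -- if it does not kill v0 its range is that line
  have hor : ∀ z, L z v0 ≠ 0 → L z v1 ∈ K ∙ g v1 := by
    intro z hz
    have hy := hdep z
    rw [LinearIndependent.pair_iff' hz] at hy
    push_neg at hy
    obtain ⟨a, ha⟩ := hy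
    exact ha ▸ Submodule.smul_mem _ _ (hline z)
  -- some combination does not kill v0
  obtain ⟨j₁, hj₁⟩ : ∃ j, f j v0 ≠ 0 := by
    by_contra hh
    push_neg at hh
    exact hv00 (Submodule.mem_bot K |>.1 (hk ▸ (Submodule.mem_iInf _).2 fun j => by simp [hh j]))
  have hall : ∀ z, L z v1 ∈ K ∙ g v1 := by
    intro z
    by_cases hz : L z v0 = 0
    · have h1 := hor (z + Pi.single j₁ 1) (by rw [map_add, hj, LinearMap.add_apply, hz, zero_add]; exact hj₁)
      have h2 := hor (Pi.single j₁ 1) (by rw [hj]; exact hj₁)
      rw [map_add, LinearMap.add_apply] at h1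
      have := Submodule.sub_mem _ h1 h2
      rwa [add_sub_cancel_right] at this
    · exact hor z hz
  have hr : ∀ j, LinearMap.range (f j) ≤ K ∙ g v1 := by
    intro j
    rintro _ ⟨x, rfl⟩
    have hsp := hind.span_eq_top_of_card_eq_finrank (by simp [hV])
    rw [Matrix.range_cons, Matrix.range_cons, Matrix.range_empty, Set.union_empty,
      Set.singleton_union] at hsp
    obtain ⟨s, t, rfl⟩ := Submodule.mem_span_pair.1 (hsp ▸ Submodule.mem_top : x ∈ _)
    have e0 := hline (Pi.single j 1)
    have e1 := hall (Pi.single j 1)
    rw [hj] at e0 e1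
    rw [map_add, map_smul, map_smul]
    exact add_mem (Submodule.smul_mem _ _ e0) (Submodule.smul_mem _ _ e1)
  rcases Groth.Agent.KronMod.not_top f hf hr (by omega) with h | h
  · have := finrank_span_singleton (K := K) hv1
    rw [h, finrank_top] at this; omega
  · rw [finrank_span_singleton hv1] at h; omega

end Groth.Agent.S15566
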