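import Groth.Statements.S15567
import Groth.Agent.KronMod.Basic

set_option autoImplicit false
universe u v w
open KronMod

namespace Groth.Agent.S15567
lemma top_iff {K : Type u} [Field K] {M : Type*} [AddCommGroup M] [Module K M]
    [FiniteDimensional K M] {S : Submodule K M} : S = ⊤ ↔ Module.finrank K S = Module.finrank K M :=
  ⟨fun e => by rw [e, finrank_top], fun e => Submodule.eq_top_of_finrank_eq e⟩

open Module in
lemma subrep_dual {K : Type u} [Field K] {V : Type v} {W : Type w}
    [AddCommGroup V] [Module K V] [AddCommGroup W] [Module K W] {n : ℕ} {f : Fin n → (V →ₗ[K] W)}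
    {V' : Submodule K V} {W' : Submodule K W} (h : KronMod.IsSubrep f V' W') :
    KronMod.IsSubrep (fun j => (f j).dualMap) W'.dualAnnihilator V'.dualAnnihilator := by
  intro j
  rintro _ ⟨φ, hφ, rfl⟩
  rw [Submodule.mem_dualAnnihilator]
  intro x hx
  exact (Submodule.mem_dualAnnihilator φ).1 hφ _ (h j ⟨x, hx, rfl⟩)

open Module in
lemma subrep_codual {K : Type u} [Field K] {V : Type v} {W : Type w}
    [AddCommGroup V] [Module K V] [AddCommGroup W] [Module K W] {n : ℕ} {f : Fin n → (V →ₗ[K] W)}
    {A : Submodule K (Dual K W)} {B : Submodule K (Dual K V)}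
    (h : KronMod.IsSubrep (fun j => (f j).dualMap) A B) :
    KronMod.IsSubrep f B.dualCoannihilator A.dualCoannihilator := by
  intro j
  rintro _ ⟨x, hx, rfl⟩
  rw [Submodule.mem_dualCoannihilator]
  intro φ hφ
  exact (Submodule.mem_dualCoannihilator x).1 hx _ (h j ⟨φ, hφ, rfl⟩)

/-- Duality of Kronecker modules. Let f be a Kronecker module with n arrows over a field K, from V to W,
both finite-dimensional. The dual module has arrows the transposes f_j^∨ : W^∨ → V^∨, so its
dimension vector is (d₀, d₋₁). Then f is semistable if and only if its dual is, and f is stable if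
and only if its dual is. This is the module-level content of the isomorphism K(n; d₋₁, d₀) ≅ K(n;
d₀, d₋₁) of moduli spaces, stated here without the moduli spaces. (The published statement assumes K
algebraically closed of characteristic zero and n ≥ 2; this row allows any field K and any number n
of arrows.) -/
theorem result (K : Type u) [Field K] (V : Type v) (W : Type w)
    [AddCommGroup V] [Module K V] [FiniteDimensional K V]
    [AddCommGroup W] [Module K W] [FiniteDimensional K W]
    (n : ℕ) (f : Fin n → (V →ₗ[K] W)) :
    (KronMod.IsSemistable f ↔ KronMod.IsSemistable (fun j => (f j).dualMap)) ∧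
    (KronMod.IsStable f ↔ KronMod.IsStable (fun j => (f j).dualMap)) := by
  open Module in
  have hd1 := fun V' : Submodule K V => Subspace.finrank_add_finrank_dualAnnihilator_eq V'
  open Module in
  have hd2 := fun W' : Submodule K W => Subspace.finrank_add_finrank_dualAnnihilator_eq W'
  open Module in
  have hc1 := fun B : Submodule K (Module.Dual K V) => Subspace.finrank_add_finrank_dualCoannihilator_eq B
  open Module in
  have hc2 := fun A : Submodule K (Module.Dual K W) => Subspace.finrank_add_finrank_dualCoannihilator_eq A
  have eV : Module.finrank K (Module.Dual K V) = Module.finrank K V := Subspace.dual_finrank_eq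
  have eW : Module.finrank K (Module.Dual K W) = Module.finrank K W := Subspace.dual_finrank_eq
  refine ⟨⟨fun hf => ⟨by rw [eV, eW, add_comm]; exact hf.1, fun A B h hb ht => ?_⟩,
      fun hf => ⟨by rw [add_comm, ← eV, ← eW]; exact hf.1, fun V' W' h hb ht => ?_⟩⟩,
    ⟨fun hf => ⟨by rw [eV, eW, add_comm]; exact hf.1, fun A B h hb ht => ?_⟩,
      fun hf => ⟨by rw [add_comm, ← eV, ← eW]; exact hf.1, fun V' W' h hb ht => ?_⟩⟩⟩
  all_goals first
    | (have h1 := hd1 V'
       have h2 := hd2 W'
       simp only [← Submodule.finrank_eq_zero] at hb
       simp only [top_iff] at ht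
       have h3 := hf.2 _ _ (subrep_dual h)
         (fun e => ht (by simp only [← Submodule.finrank_eq_zero] at e; constructor <;> omega))
         (fun e => hb (by simp only [top_iff] at e; constructor <;> omega))
       rw [eV, eW] at h3
       nlinarith)
    | (have h1 := hc1 B
       have h2 := hc2 A
       simp only [← Submodule.finrank_eq_zero] at hb
       simp only [top_iff] at ht
       have h3 := hf.2 _ _ (subrep_codual h)
         (fun e => ht (by simp only [← Submodule.finrank_eq_zero] at e; constructor <;> omega))
         (fun e => hb (by simp only [top_iff] at e; constructor <;> omega))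
       rw [eV, eW] at *
       nlinarith)

end Groth.Agent.S15567
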