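import Groth.Statements.S15568
import Mathlib
-- import your own Groth.Agent.* helpers here

set_option autoImplicit false
universe u
open QuiverStab

namespace Groth.Agent.S15568

/-- Walls and chambers for stability weights of a quiver. Let I be the finite vertex set, d ∈ ℕ^I a
dimension vector, and call two weights θ₁, θ₂ ∈ ℝ^I orthogonal to d numerically equivalent when, for
every d′ ≤ d in ℕ^I, the numbers θ₁·d′ and θ₂·d′ are both positive, both negative or both zero. The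
walls are the hyperplanes W(d′) = {θ ⊥ d : θ·d′ = 0} of d^⊥ for d′ ≤ d such that d is not a multiple
of d′. Then θ₁ and θ₂ are numerically equivalent if and only if there is a set J₁ of such d′ for
which θ₁ and θ₂ lie in the same connected component of the locally closed subset of d^⊥ consisting
of the weights lying on W(d₁) for every d₁ ∈ J₁ and off W(d₂) for every other wall W(d₂). (Only the
quiver's vertex set enters; multiples are taken with natural-number factors.) -/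
theorem result
    (I : Type u) [Fintype I] (d : I → ℕ) (θ₁ θ₂ : I → ℝ)
    (h₁ : ∑ i, θ₁ i * (d i : ℝ) = 0) (h₂ : ∑ i, θ₂ i * (d i : ℝ) = 0) :
    (∀ d' : I → ℕ, d' ≤ d →
        SignType.sign (∑ i, θ₁ i * (d' i : ℝ)) = SignType.sign (∑ i, θ₂ i * (d' i : ℝ))) ↔
    ∃ J₁ : Set (I → ℕ), J₁ ⊆ {d' | d' ≤ d ∧ ¬ ∃ m : ℕ, d = m • d'} ∧
      θ₂ ∈ connectedComponentIn
        {θ : I → ℝ | ∑ i, θ i * (d i : ℝ) = 0 ∧ (∀ d₁ ∈ J₁, ∑ i, θ i * (d₁ i : ℝ) = 0) ∧
          ∀ d₂ : I → ℕ, d₂ ≤ d → (¬ ∃ m : ℕ, d = m • d₂) → d₂ ∉ J₁ →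
            ∑ i, θ i * (d₂ i : ℝ) ≠ 0} θ₁ := by
  classical
  have hcont : ∀ v : I → ℕ, Continuous fun θ : I → ℝ => ∑ i, θ i * (v i : ℝ) := fun v => by fun_prop
  have hmult : ∀ (d' : I → ℕ), d' ≤ d → (∃ m : ℕ, d = m • d') → ∀ θ : I → ℝ,
      ∑ i, θ i * (d i : ℝ) = 0 → ∑ i, θ i * (d' i : ℝ) = 0 := by
    rintro d' hle ⟨m, hm⟩ θ hθ
    rcases Nat.eq_zero_or_pos m with h | h
    · have : d' = 0 := by
        funext i
        have h1 := hle i
        rw [hm, h] at h1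
        simpa using h1
      simp [this]
    · rw [hm] at hθ
      simp only [Pi.smul_apply, smul_eq_mul, Nat.cast_mul, mul_left_comm _ (m : ℝ),
        ← Finset.mul_sum, mul_eq_zero, Nat.cast_eq_zero] at hθ
      exact hθ.resolve_left h.ne'
  constructor
  · intro h
    refine ⟨{d' | d' ≤ d ∧ (¬ ∃ m : ℕ, d = m • d') ∧ ∑ i, θ₁ i * (d' i : ℝ) = 0},
      fun d' hd' => ⟨hd'.1, hd'.2.1⟩, ?_⟩
    have hseg : ∀ θ ∈ segment ℝ θ₁ θ₂, (∑ i, θ i * (d i : ℝ) = 0) ∧ ∀ d' : I → ℕ, d' ≤ d →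
        SignType.sign (∑ i, θ i * (d' i : ℝ)) = SignType.sign (∑ i, θ₁ i * (d' i : ℝ)) := by
      rintro θ ⟨a, b, ha, hb, hab, rfl⟩
      have e : ∀ v : I → ℕ, ∑ i, (a • θ₁ + b • θ₂) i * (v i : ℝ) =
          a * (∑ i, θ₁ i * (v i : ℝ)) + b * (∑ i, θ₂ i * (v i : ℝ)) := by
        intro v
        simp [Finset.mul_sum, ← Finset.sum_add_distrib, add_mul, mul_assoc]
      refine ⟨by rw [e, h₁, h₂]; simp, fun d' hd' => ?_⟩
      rw [e]
      have hs := h d' hd'
      rcases lt_trichotomy (∑ i, θ₁ i * (d' i : ℝ)) 0 with hn | hn | hn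
      · rw [sign_neg hn] at hs ⊢
        have h2n := sign_eq_neg_one_iff.1 hs.symm
        refine sign_neg ?_
        rcases ha.lt_or_eq with ha' | ha'
        · linarith [mul_neg_of_pos_of_neg ha' hn, mul_nonpos_of_nonneg_of_nonpos hb h2n.le]
        · obtain rfl : b = 1 := by linarith
          rw [← ha']; linarith
      · rw [hn, sign_zero] at hs ⊢
        rw [sign_eq_zero_iff.1 hs.symm]
        simp
      · rw [sign_pos hn] at hs ⊢
        have h2n := sign_eq_one_iff.1 hs.symm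
        refine sign_pos ?_
        rcases ha.lt_or_eq with ha' | ha'
        · linarith [mul_pos ha' hn, mul_nonneg hb h2n.le]
        · obtain rfl : b = 1 := by linarith
          rw [← ha']; linarith
    refine (convex_segment θ₁ θ₂).isPreconnected.subset_connectedComponentIn
      (left_mem_segment ℝ θ₁ θ₂) ?_ (right_mem_segment ℝ θ₁ θ₂)
    intro θ hθ
    obtain ⟨h0, hs⟩ := hseg θ hθ
    refine ⟨h0, fun d₁ hd₁ => ?_, fun d₂ hd₂ hm hJ => ?_⟩
    · have := hs d₁ hd₁.1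
      rw [hd₁.2.2, sign_zero] at this
      exact sign_eq_zero_iff.1 this
    · intro hz
      apply hJ
      refine ⟨hd₂, hm, ?_⟩
      have := hs d₂ hd₂
      rw [hz, sign_zero] at this
      exact sign_eq_zero_iff.1 this.symm
  · rintro ⟨J₁, -, hmem⟩ d' hd'
    by_cases hm : ∃ m : ℕ, d = m • d'
    · rw [hmult d' hd' hm θ₁ h₁, hmult d' hd' hm θ₂ h₂]
    have hne := (connectedComponentIn_nonempty_iff).1 ⟨_, hmem⟩
    have hθ₁ := mem_connectedComponentIn hne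
    have hsub := connectedComponentIn_subset (x := θ₁)
      (F := {θ : I → ℝ | ∑ i, θ i * (d i : ℝ) = 0 ∧ (∀ d₁ ∈ J₁, ∑ i, θ i * (d₁ i : ℝ) = 0) ∧
          ∀ d₂ : I → ℕ, d₂ ≤ d → (¬ ∃ m : ℕ, d = m • d₂) → d₂ ∉ J₁ →
            ∑ i, θ i * (d₂ i : ℝ) ≠ 0})
    by_cases hJ : d' ∈ J₁
    · rw [(hsub hθ₁).2.1 d' hJ, (hsub hmem).2.1 d' hJ]
    · have hnz : ∀ θ ∈ connectedComponentIn {θ : I → ℝ | ∑ i, θ i * (d i : ℝ) = 0 ∧
          (∀ d₁ ∈ J₁, ∑ i, θ i * (d₁ i : ℝ) = 0) ∧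
          ∀ d₂ : I → ℕ, d₂ ≤ d → (¬ ∃ m : ℕ, d = m • d₂) → d₂ ∉ J₁ →
            ∑ i, θ i * (d₂ i : ℝ) ≠ 0} θ₁, ∑ i, θ i * (d' i : ℝ) ≠ 0 :=
        fun θ hθ => (hsub hθ).2.2 d' hd' hm hJ
      have himg := fun (s : Set (I → ℝ)) (hs : IsPreconnected s) =>
        (hs.image _ (hcont d').continuousOn).ordConnected
      rcases lt_or_gt_of_ne (hnz θ₁ hθ₁) with ha | ha <;>
        rcases lt_or_gt_of_ne (hnz θ₂ hmem) with hb | hb
      · rw [sign_neg ha, sign_neg hb]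
      · obtain ⟨θ, hθ, hθ0⟩ := (himg _ isPreconnected_connectedComponentIn).out (Set.mem_image_of_mem _ hθ₁) (Set.mem_image_of_mem _ hmem)
          ⟨ha.le, hb.le⟩
        exact absurd hθ0 (hnz θ hθ)
      · obtain ⟨θ, hθ, hθ0⟩ := (himg _ isPreconnected_connectedComponentIn).out (Set.mem_image_of_mem _ hmem) (Set.mem_image_of_mem _ hθ₁)
          ⟨hb.le, ha.le⟩
        exact absurd hθ0 (hnz θ hθ)
      · rw [sign_pos ha, sign_pos hb]

end Groth.Agent.S15568
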