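import Groth.Statements.S15570
import Groth.Agent.KronMod.Basic

set_option autoImplicit false
universe u v w
open KronMod

namespace Groth.Agent.S15570

/-- Let f be a Kronecker module with n arrows over a field K, from V of dimension n·d₀ to W of dimension
d₀ > 0. Then f is stable if and only if f is semistable and d₀ = 1: for d₀ = 1 every semistable
module is stable (the stable locus of K(n; n, 1) is the one point), while for d₀ > 1 no module is
stable. This is the case dual to dimension vector (d₋₁, n·d₋₁). (The published statement assumes K
algebraically closed of characteristic zero and n ≥ 2; this row allows any field K and any number n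
of arrows.) -/
theorem result (K : Type u) [Field K] (V : Type v) (W : Type w)
    [AddCommGroup V] [Module K V] [FiniteDimensional K V]
    [AddCommGroup W] [Module K W] [FiniteDimensional K W]
    (n : ℕ) (f : Fin n → (V →ₗ[K] W))
    (hW : 0 < Module.finrank K W) (hV : Module.finrank K V = n * Module.finrank K W) :
    KronMod.IsStable f ↔ (KronMod.IsSemistable f ∧ Module.finrank K W = 1) := by
  constructor
  · intro hf
    have hs := Groth.Agent.KronMod.IsStable.semistable hf
    refine ⟨hs, ?_⟩
    by_contra hne
    have hb := (Groth.Agent.KronMod.semistable_iff_pi hW hV).1 hs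
    obtain ⟨x, hx⟩ := Module.finrank_pos_iff_exists_ne_zero.1 hW
    let W' : Submodule K W := K ∙ x
    let g : (Fin n → W') →ₗ[K] V :=
      (LinearEquiv.ofBijective _ hb).symm.toLinearMap ∘ₗ Groth.Agent.KronMod.piSub (n := n) W'
    have h1 : Module.finrank K W' = 1 := finrank_span_singleton hx
    have hg : Function.Injective g :=
      (LinearEquiv.ofBijective _ hb).symm.injective.comp (Groth.Agent.KronMod.piSub_inj W')
    have h2 : Module.finrank K (LinearMap.range g) = n := by
      rw [LinearMap.finrank_range_of_inj hg, Groth.Agent.KronMod.finrank_tuples, h1, mul_one]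
    have hsub : KronMod.IsSubrep f (LinearMap.range g) W' := by
      intro j
      rintro _ ⟨_, ⟨y, rfl⟩, rfl⟩
      have h4 := (LinearEquiv.ofBijective _ hb).apply_symm_apply
        (Groth.Agent.KronMod.piSub (n := n) W' y)
      have h5 : f j (g y) = (y j : W) := congrFun h4 j
      rw [h5]
      exact (y j).2
    have h3 := hf.2 _ W' hsub (fun e => by rw [e.2, finrank_bot] at h1; omega)
      (fun e => by rw [e.2, finrank_top] at h1; omega)
    rw [h1, h2, hV, mul_one] at h3
    nlinarith
  · rintro ⟨hs, h1⟩
    refine ⟨hs.1, fun V' W' h hb ht => ?_⟩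
    rcases Nat.le_one_iff_eq_zero_or_eq_one.1 (h1 ▸ Submodule.finrank_le W') with h0 | h0
    · exfalso
      have := Groth.Agent.KronMod.finrank_le_mul_of_pi_inj
        ((Groth.Agent.KronMod.semistable_iff_pi hW hV).1 hs).1 h
      rw [h0, mul_zero] at this
      exact hb ⟨Submodule.finrank_eq_zero.1 (Nat.le_zero.1 this), Submodule.finrank_eq_zero.1 h0⟩
    · have hW' : W' = ⊤ := Submodule.eq_top_of_finrank_eq (h0.trans h1.symm)
      have : Module.finrank K V' < Module.finrank K V :=
        Submodule.finrank_lt fun e => ht ⟨e, hW'⟩
      rw [h1, h0]; simpa using this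

end Groth.Agent.S15570
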