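import Groth.Statements.S15575
import Groth.Agent.AzInvLib.RamLocus

set_option autoImplicit false
universe u v
open scoped TensorProduct
open RInv

namespace Groth.Agent.S15575

open Groth.Agent.AzInvLib

/-- Let `R` be a commutative ring with an involution `lam` and fixed ring `S` (no finiteness assumed).
If the localisation of `R` at a prime `p` of `S` is quadratic etale over `S_p`, then there is `s ∉
p` with `R[1/s]` quadratic etale over `S[1/s]`; in particular the set of such primes is open in
`Spec S`. Localisations of `R` are written as base changes `S_p ⊗ R` and `S_s ⊗ R`. -/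
theorem result (S : Type u) (R : Type v) [CommRing S] [CommRing R]
    [Algebra S R] (lam : R ≃+* R) (hlam : Function.Involutive lam) (hS : RInv.IsFixedRing S R lam)
    (p : PrimeSpectrum S)
    (hp : RInv.IsQuadEtale (Localization.AtPrime p.asIdeal) (Localization.AtPrime p.asIdeal ⊗[S] R)) :
    ∃ s : S, s ∉ p.asIdeal ∧
      RInv.IsQuadEtale (Localization.Away s) (Localization.Away s ⊗[S] R) := by
  have hlam' : ∀ r, toAlgInv lam hS (toAlgInv lam hS r) = r := hlam
  obtain ⟨r, M, hM, hr⟩ := exists_sq_notMem hlam' hS (not_ram_of_quad hlam' hS p hp)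
  refine ⟨M, hM, ?_⟩
  let L := Localization.Away M
  haveI : Module.Flat S L := IsLocalization.flat L (Submonoid.powers M)
  refine Groth.Agent.S15573.result L (L ⊗[S] R) (lamX (toAlgInv lam hS) L).toRingEquiv
    (lamX_lamX _ L hlam') (isFixed_lamX _ L hS) ⟨(1 : L) ⊗ₜ r, ?_⟩
  have hu : IsUnit (algebraMap S (L ⊗[S] R) M) := by
    rw [IsScalarTower.algebraMap_apply S L (L ⊗[S] R)]
    exact (IsLocalization.Away.algebraMap_isUnit M).map _
  have he : algebraMap S (L ⊗[S] R) M = (1 : L) ⊗ₜ[S] algebraMap S R M := by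
    rw [Algebra.algebraMap_eq_smul_one, Algebra.algebraMap_eq_smul_one (A := R), TensorProduct.tmul_smul,
      Algebra.TensorProduct.one_def]
  rw [he, hr, show (1 : L) ⊗ₜ[S] ((r - toAlgInv lam hS r) * (r - toAlgInv lam hS r)) =
    ((1 : L) ⊗ₜ[S] (r - toAlgInv lam hS r)) * ((1 : L) ⊗ₜ[S] (r - toAlgInv lam hS r)) by
      rw [Algebra.TensorProduct.tmul_mul_tmul, one_mul]] at hu
  show IsUnit ((1 : L) ⊗ₜ[S] r - lamX (toAlgInv lam hS) L ((1 : L) ⊗ₜ[S] r))
  rw [lamX_tmul, ← TensorProduct.tmul_sub]
  exact isUnit_of_mul_isUnit_left hu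

end Groth.Agent.S15575
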