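import Groth.Statements.S15576
import Groth.Agent.AzInvLib.RamLocus

set_option autoImplicit false
universe u v
open RInv

namespace Groth.Agent.S15576

open Groth.Agent.AzInvLib

/-- Let `R` be a commutative ring with an involution `lam` whose fixed ring `S` is local. If the
automorphism induced by `lam` on `R` modulo its Jacobson radical is not the identity, then `R` is a
quadratic etale `S`-algebra. -/
theorem result (S : Type u) (R : Type v) [CommRing S] [CommRing R]
    [Algebra S R] (lam : R ≃+* R) (hlam : Function.Involutive lam) (hS : RInv.IsFixedRing S R lam)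
    [IsLocalRing S] (h : ∃ r : R, lam r - r ∉ Ring.jacobson R) : RInv.IsQuadEtale S R := by
  obtain ⟨r, hr⟩ := h
  have hlam' : ∀ r, toAlgInv lam hS (toAlgInv lam hS r) = r := hlam
  rw [mem_jacobson_iff] at hr
  push Not at hr
  obtain ⟨M, hM, hrM⟩ := hr
  obtain ⟨b, hb⟩ := Herm.exists_fixed (toAlgInv lam hS) hS (x := (r - lam r) * (r - lam r))
    (by show lam _ = _; rw [map_mul, map_sub, hlam r]; ring)
  refine Groth.Agent.S15573.result S R lam hlam hS ⟨r, isUnit_of_mul_isUnit_left (y := r - lam r) ?_⟩
  rw [← hb]
  refine (IsLocalRing.notMem_maximalIdeal.mp fun hm => hrM ?_).map _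
  rw [← comap_maximal hlam' hS hM, Ideal.mem_comap, hb] at hm
  rw [← neg_sub]
  exact neg_mem ((hM.isPrime.mem_or_mem hm).elim id id)

end Groth.Agent.S15576
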