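import Groth.Statements.S15577
import Groth.Agent.AzInvLib.RamLocus

set_option autoImplicit false
universe u v
open RInv

namespace Groth.Agent.S15577

open Groth.Agent.AzInvLib

/-- Let `R` be a commutative ring with an involution `lam` whose fixed ring `S` is local. If `lam`
induces the identity on `R` modulo its Jacobson radical, then `R` is a local ring and is not a
quadratic etale `S`-algebra. -/
theorem result (S : Type u) (R : Type v) [CommRing S] [CommRing R]
    [Algebra S R] (lam : R ≃+* R) (hlam : Function.Involutive lam) (hS : RInv.IsFixedRing S R lam)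
    [IsLocalRing S] (h : ∀ r : R, lam r - r ∈ Ring.jacobson R) :
    IsLocalRing R ∧ ¬ RInv.IsQuadEtale S R := by
  have hlam' : ∀ r, toAlgInv lam hS (toAlgInv lam hS r) = r := hlam
  haveI : Nontrivial R := hS.1.nontrivial
  refine ⟨?_, fun hq => ?_⟩
  · obtain ⟨M₀, hM₀⟩ := Ideal.exists_maximal R
    refine IsLocalRing.of_unique_max_ideal ⟨M₀, hM₀, fun M hM => ?_⟩
    exact eq_of_ramified (lam := toAlgInv lam hS) hlam' hS (fun r => mem_jacobson_iff.mp (h r) M₀ hM₀)
      ((comap_maximal hlam' hS hM).trans (comap_maximal hlam' hS hM₀).symm)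
  · obtain ⟨r, hr⟩ := Groth.Agent.S15574.result S R lam hlam hS hq
    obtain ⟨M, hM⟩ := Ideal.exists_maximal R
    refine hM.ne_top (M.eq_top_of_isUnit_mem ?_ hr)
    rw [← neg_sub]
    exact neg_mem (mem_jacobson_iff.mp (h r) M hM)

end Groth.Agent.S15577
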