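import Groth.Statements.S15579
import Groth.Agent.AzInvLib.RamLocus

set_option autoImplicit false
universe u v
open RInv

namespace Groth.Agent.S15579

open Groth.Agent.AzInvLib

/-- For a local ring `S` with maximal ideal `m` and a quadratic etale `S`-algebra `R`, the Jacobson
radical of `R` is `mR`. -/
theorem result (S : Type u) (R : Type v) [CommRing S]
    [CommRing R] [Algebra S R] [IsLocalRing S] (hq : RInv.IsQuadEtale S R) :
    Ring.jacobson R = (IsLocalRing.maximalIdeal S).map (algebraMap S R) := by
  haveI := hq.1
  haveI := hq.2.2.1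
  haveI : Algebra.IsIntegral S R := Algebra.IsIntegral.of_finite S R
  set m := IsLocalRing.maximalIdeal S
  refine le_antisymm ?_ ?_
  · let Rq := R ⧸ m.map (algebraMap S R)
    letI : Field (S ⧸ m) := Ideal.Quotient.field m
    haveI : IsScalarTower S (S ⧸ m) Rq := inferInstance
    haveI : Module.Finite (S ⧸ m) Rq := Module.Finite.of_restrictScalars_finite S _ _
    haveI : Algebra.FormallyUnramified S Rq := inferInstance
    haveI : Algebra.FormallyUnramified (S ⧸ m) Rq := Algebra.FormallyUnramified.of_restrictScalars S _ _
    haveI : IsReduced Rq := Algebra.FormallyUnramified.isReduced_of_field (S ⧸ m) Rq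
    haveI : IsArtinianRing Rq := IsArtinianRing.of_finite (S ⧸ m) Rq
    intro x hx
    rw [← Ideal.Quotient.eq_zero_iff_mem]
    have h1 : Ideal.Quotient.mk (m.map (algebraMap S R)) x ∈ Ring.jacobson Rq := by
      rw [mem_jacobson_iff] at hx ⊢
      intro M hM
      haveI := hM
      exact hx (M.comap (Ideal.Quotient.mk _))
        (Ideal.comap_isMaximal_of_surjective _ Ideal.Quotient.mk_surjective)
    rw [Ring.jacobson_eq_nilradical_of_krullDimLE_zero, nilradical_eq_zero] at h1
    exact h1
  · refine Ideal.map_le_iff_le_comap.mpr fun b hb => ?_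
    rw [Ideal.mem_comap, mem_jacobson_iff]
    intro M hM
    rw [← Ideal.mem_comap,
      IsLocalRing.eq_maximalIdeal (Ideal.isMaximal_comap_of_isIntegral_of_isMaximal M (R := S))]
    exact hb

end Groth.Agent.S15579
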