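import Groth.Statements.S15580
import Groth.Agent.AzInvLib.RamLocus

set_option autoImplicit false
universe u v
open RInv

namespace Groth.Agent.S15580

open Groth.Agent.AzInvLib

/-- Let `S` be a local ring, `R` a quadratic etale `S`-algebra and `lam` an involution of `R` with fixed
ring `S`. Then every unit `r` of `R` with `lam r * r = 1` can be written `a⁻¹ * lam a` for a unit
`a` of `R`. -/
theorem result (S : Type u) (R : Type v) [CommRing S] [CommRing R]
    [Algebra S R] (lam : R ≃+* R) (hlam : Function.Involutive lam) (hS : RInv.IsFixedRing S R lam)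
    [IsLocalRing S] (hq : RInv.IsQuadEtale S R) (r : Rˣ) (hr : lam r * r = 1) :
    ∃ a : Rˣ, (r : R) = (a⁻¹ : Rˣ) * lam a := by
  have hlam' : ∀ a, toAlgInv lam hS (toAlgInv lam hS a) = a := hlam
  obtain ⟨z, hz⟩ := Groth.Agent.S15574.result S R lam hlam hS hq
  haveI : Nontrivial R := hS.1.nontrivial
  obtain ⟨M, hM⟩ := Ideal.exists_maximal R
  obtain ⟨w, hw⟩ : ∃ w : R, w + lam r * lam w ∉ M := by
    by_contra! hall
    have h1 : (1 : R) + lam r ∈ M := by simpa using hall 1
    refine hM.ne_top (M.eq_top_of_isUnit_mem ?_ hz)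
    rw [show z - lam z = (z + lam r * lam z) - lam z * (1 + lam r) by ring]
    exact sub_mem (hall z) (Ideal.mul_mem_left _ _ h1)
  have hla : lam (w + lam r * lam w) = r * (w + lam r * lam w) := by
    rw [map_add, map_mul, hlam w, hlam (r : R)]
    linear_combination (-lam w) * hr
  have hau : IsUnit (w + lam r * lam w) := by
    obtain ⟨b, hb⟩ := (hS.2 ((w + lam r * lam w) * lam (w + lam r * lam w))).mp
      (by rw [map_mul, hlam _, mul_comm])
    have h2 : IsUnit ((w + lam r * lam w) * lam (w + lam r * lam w)) := hb ▸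
      (IsLocalRing.notMem_maximalIdeal.mp fun hbm => hw (by
        rw [← comap_maximal hlam' hS hM, Ideal.mem_comap, hb, hla, ← mul_assoc] at hbm
        refine (hM.isPrime.mem_or_mem hbm).elim (fun h => ?_) id
        exact (hM.isPrime.mem_or_mem h).elim id fun h' =>
          absurd (M.eq_top_of_isUnit_mem h' r.isUnit) hM.ne_top)).map _
    exact isUnit_of_mul_isUnit_left h2
  refine ⟨hau.unit, ?_⟩
  show (r : R) = ↑hau.unit⁻¹ * lam (w + lam r * lam w)
  rw [hla, mul_comm (r : R), ← mul_assoc, IsUnit.val_inv_mul, one_mul]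

end Groth.Agent.S15580
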