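import Groth.Statements.S15581
import Groth.Agent.AzInvLib.RamLocus

set_option autoImplicit false
universe u v
open RInv

namespace Groth.Agent.S15581

open Groth.Agent.AzInvLib

/-- Let `A` be a commutative ring with an involution `lam` whose fixed ring `B` is local with `2`
invertible. Then `Jac(A)^2 ⊆ Jac(B) A`. -/
theorem result (B : Type u) (A : Type v) [CommRing B]
    [CommRing A] [Algebra B A] (lam : A ≃+* A) (hlam : Function.Involutive lam)
    (hB : RInv.IsFixedRing B A lam) [IsLocalRing B] (h2 : IsUnit (2 : B)) :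
    (Ring.jacobson A) ^ 2 ≤ (IsLocalRing.maximalIdeal B).map (algebraMap B A) := by
  have hlam' : ∀ a, toAlgInv lam hB (toAlgInv lam hB a) = a := hlam
  have hJl : ∀ x ∈ Ring.jacobson A, lam x ∈ Ring.jacobson A := fun x hx => by
    rw [mem_jacobson_iff] at hx ⊢
    intro M hM
    haveI : (M.comap lam.toRingHom).IsMaximal :=
      Ideal.comap_isMaximal_of_surjective _ lam.surjective
    exact hx (M.comap lam.toRingHom) inferInstance
  have hm : ∀ b : B, algebraMap B A b ∈ Ring.jacobson A →
      algebraMap B A b ∈ (IsLocalRing.maximalIdeal B).map (algebraMap B A) := fun b hb => by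
    refine Ideal.mem_map_of_mem _ ?_
    haveI : Nontrivial A := hB.1.nontrivial
    obtain ⟨M, hM⟩ := Ideal.exists_maximal A
    rw [← comap_maximal hlam' hB hM]
    exact mem_jacobson_iff.mp hb M hM
  obtain ⟨u, hu⟩ := (h2.map (algebraMap B A)).exists_left_inv
  rw [map_ofNat] at hu
  have hlu : lam u = u := by
    have h1 : lam u * 2 = 1 := by
      have := congrArg lam hu
      rwa [map_mul, map_ofNat, map_one] at this
    calc lam u = lam u * (u * 2) := by rw [hu, mul_one]
      _ = u * (lam u * 2) := by ring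
      _ = u := by rw [h1, mul_one]
  set mA := (IsLocalRing.maximalIdeal B).map (algebraMap B A)
  have hsplit : ∀ x ∈ Ring.jacobson A, u * (x + lam x) ∈ mA ∧ u * (x - lam x) ∈ Ring.jacobson A := by
    intro x hx
    obtain ⟨b, hb⟩ := (hB.2 (u * (x + lam x))).mp (by rw [map_mul, map_add, hlam x, hlu, add_comm x])
    refine ⟨?_, Ideal.mul_mem_left _ _ (sub_mem hx (hJl x hx))⟩
    rw [← hb]
    exact hm b (hb ▸ Ideal.mul_mem_left _ _ (add_mem hx (hJl x hx)))
  rw [pow_two, Ideal.mul_le]
  intro x hx y hy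
  obtain ⟨hx1, hx2⟩ := hsplit x hx
  obtain ⟨hy1, hy2⟩ := hsplit y hy
  obtain ⟨b, hb⟩ := (hB.2 (u * (x - lam x) * (u * (y - lam y)))).mp (by
    rw [map_mul, map_mul, map_mul, map_sub, map_sub, hlam x, hlam y, hlu]; ring)
  have h3 : u * (x - lam x) * (u * (y - lam y)) ∈ mA := by
    rw [← hb]; exact hm b (hb ▸ Ideal.mul_mem_right _ _ hx2)
  rw [show x * y = u * (x + lam x) * y + u * (x - lam x) * (u * (y + lam y)) +
      u * (x - lam x) * (u * (y - lam y)) by
    linear_combination (-(x * y) - u * (x - lam x) * y) * hu]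
  exact add_mem (add_mem (Ideal.mul_mem_right _ _ hx1) (Ideal.mul_mem_left _ _ hy1)) h3

end Groth.Agent.S15581
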