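import Groth.Statements.S15582
import Mathlib

set_option autoImplicit false
universe u
open CategoryTheory TopologicalSpace
open CohTop

namespace Groth.Agent.S15582

section
open CategoryTheory TopologicalSpace Opposite

set_option backward.isDefEq.respectTransparency false

theorem res_res {X : TopCat.{u}} (G : TopCat.Sheaf (Type u) X) {U V W : Opens X} (a : V ⟶ U) (b : W ⟶ V)
    (c : W ⟶ U) (t : G.obj.obj (op U)) : G.obj.map b.op (G.obj.map a.op t) = G.obj.map c.op t := by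
  rw [show c = b ≫ a from Subsingleton.elim _ _, op_comp]
  exact (ConcreteCategory.congr_hom (G.obj.map_comp a.op b.op) t).symm

theorem main {X Y : TopCat.{u}} (π : X ⟶ Y)
    (h1 : ∀ (y : Y) (U : Set X), IsOpen U → π ⁻¹' {y} ⊆ U →
      ∃ V : Set Y, IsOpen V ∧ y ∈ V ∧ π ⁻¹' V ⊆ U)
    (h2 : ∀ y : Y, (π ⁻¹' {y}).Finite ∧ ∃ U : X → Set X,
      (∀ x ∈ π ⁻¹' {y}, IsOpen (U x) ∧ x ∈ U x) ∧ (π ⁻¹' {y}).PairwiseDisjoint U) :
    (TopCat.Sheaf.pushforward (Type u) π).PreservesEpimorphisms := by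
  refine ⟨fun {F G} φ hφ => ?_⟩
  have hloc := (TopCat.Presheaf.isLocallySurjective_iff φ.hom).1
    ((CategoryTheory.Sheaf.isLocallySurjective_iff_epi φ).2 hφ)
  refine (CategoryTheory.Sheaf.isLocallySurjective_iff_epi _).1
    ((TopCat.Presheaf.isLocallySurjective_iff _).2 fun V t y hy => ?_)
  obtain ⟨-, U, hU, hdisj⟩ := h2 y
  let S := {x : X // x ∈ π ⁻¹' {y}}
  let P : S → Opens X := fun x => (Opens.map π).obj V ⊓ ⟨U x.1, (hU x.1 x.2).1⟩
  have hxP : ∀ x : S, x.1 ∈ P x := fun x =>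
    ⟨(by show π x.1 ∈ V; rw [show π x.1 = y from x.2]; exact hy), (hU x.1 x.2).2⟩
  have hl : ∀ x : S, ∃ (O : Opens X) (hO : O ≤ P x),
      (∃ s, φ.hom.app (op O) s = G.obj.map (homOfLE (hO.trans inf_le_left)).op t) ∧ x.1 ∈ O := by
    intro x
    obtain ⟨O, hO, ⟨s, hs⟩, hxO⟩ := hloc ((Opens.map π).obj V) t x.1 (hxP x).1
    refine ⟨O ⊓ P x, inf_le_right, ⟨F.obj.map (homOfLE inf_le_left).op s, ?_⟩, hxO, hxP x⟩
    rw [NatTrans.naturality_apply φ.hom, hs]
    exact res_res G _ _ _ t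
  choose O hO hs hxO using hl
  choose s hs using hs
  obtain ⟨W₀, hW₀, hyW₀, hsub⟩ := h1 y (⋃ x : S, (O x : Set X)) (isOpen_iUnion fun x => (O x).2)
    (fun x hx => Set.mem_iUnion.2 ⟨⟨x, hx⟩, hxO ⟨x, hx⟩⟩)
  let W : Opens Y := ⟨W₀, hW₀⟩ ⊓ V
  let O' : S → Opens X := fun x => O x ⊓ (Opens.map π).obj W
  have hcov : (Opens.map π).obj W ≤ iSup O' := fun z hz => by
    obtain ⟨x, hx⟩ := Set.mem_iUnion.1 (hsub hz.1)
    exact Opens.mem_iSup.2 ⟨x, hx, hz⟩
  have hle : ∀ x, O' x ≤ (Opens.map π).obj W := fun x => inf_le_right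
  let sf : ∀ x, F.presheaf.obj (op (O' x)) := fun x => F.obj.map (homOfLE inf_le_left).op (s x)
  have hcomp : TopCat.Presheaf.IsCompatible F.presheaf O' sf := by
    intro a b
    by_cases hab : a = b
    · subst hab
      rfl
    · have he : O' a ⊓ O' b = ⊥ := le_bot_iff.1 fun z hz =>
        (Set.disjoint_left.1 (hdisj a.2 b.2 fun e => hab (Subtype.ext e)) (hO a hz.1.1).2 (hO b hz.2.1).2).elim
      haveI : Subsingleton (F.presheaf.obj (op (O' a ⊓ O' b))) :=
        (Limits.Types.isTerminalEquivUnique _ (TopCat.Sheaf.isTerminalOfEqEmpty F he)).instSubsingleton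
      exact Subsingleton.elim _ _
  obtain ⟨w, hw, -⟩ := F.existsUnique_gluing' O' ((Opens.map π).obj W) (fun x => homOfLE (hle x)) hcov sf hcomp
  refine ⟨W, inf_le_right, ⟨w, ?_⟩, hyW₀, hy⟩
  change φ.hom.app (op ((Opens.map π).obj W)) w =
    G.obj.map ((Opens.map π).map (homOfLE (inf_le_right : W ≤ V))).op t
  refine G.eq_of_locally_eq' O' ((Opens.map π).obj W) (fun x => homOfLE (hle x)) hcov _ _ fun x => ?_
  change G.obj.map _ (φ.hom.app _ w) = G.obj.map _ (G.obj.map _ t)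
  rw [← NatTrans.naturality_apply φ.hom, hw x]
  change φ.hom.app _ (F.obj.map _ (s x)) = _
  rw [NatTrans.naturality_apply φ.hom, hs x]
  exact (res_res G _ _ (homOfLE (inf_le_left.trans ((hO x).trans inf_le_left))) t).trans (res_res G _ _ _ t).symm

end

/-- Let `π : X → Y` be a continuous map such that every open set containing a fibre `π⁻¹(y)` contains
the preimage of an open neighbourhood of `y`, and such that every fibre is finite with its points
separated by pairwise disjoint open sets of `X`. Then the direct image of sheaves of sets along `π`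
preserves epimorphisms. -/
theorem result
    {X Y : TopCat.{u}} (π : X ⟶ Y)
    (h1 : ∀ (y : Y) (U : Set X), IsOpen U → π ⁻¹' {y} ⊆ U →
      ∃ V : Set Y, IsOpen V ∧ y ∈ V ∧ π ⁻¹' V ⊆ U)
    (h2 : ∀ y : Y, (π ⁻¹' {y}).Finite ∧ ∃ U : X → Set X,
      (∀ x ∈ π ⁻¹' {y}, IsOpen (U x) ∧ x ∈ U x) ∧ (π ⁻¹' {y}).PairwiseDisjoint U) :
    (TopCat.Sheaf.pushforward (Type u) π).PreservesEpimorphisms := by
  exact main π h1 h2

end Groth.Agent.S15582
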