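import Groth.Statements.S15583
import Groth.Agent.AzInvLib.Herm
import Mathlib.RingTheory.Jacobson.Ideal

set_option autoImplicit false
universe u v
open RInv

namespace Groth.Agent.S15583

/-- Let `A` be a commutative ring with an involution `lam` whose fixed ring `B` is local, let `ε = ±1`,
and let `h` be an invertible `n × n` matrix over `A` that is `(ε, lam)`-hermitian: `h` equals `ε`
times the transpose of `lam` applied entrywise to `h`. If `lam` is not the identity modulo the
Jacobson radical of `A`, or `ε ≠ -1` modulo that radical, or `n` is odd, then `h` is congruent to a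
diagonal matrix: there is an invertible `v` with `(lam v)ᵀ h v` diagonal. -/
theorem result (B : Type u) (A : Type v) [CommRing B] [CommRing A]
    [Algebra B A] (lam : A ≃+* A) (hlam : Function.Involutive lam) (hB : RInv.IsFixedRing B A lam)
    [IsLocalRing B] (n : ℕ) (ε : A) (hε : ε = 1 ∨ ε = -1) (h : Matrix (Fin n) (Fin n) A)
    (hh : IsUnit h) (herm : ε • (h.map lam).transpose = h)
    (hcase : (∃ a : A, lam a - a ∉ Ring.jacobson A) ∨ ε + 1 ∉ Ring.jacobson A ∨ Odd n) :
    ∃ v : Matrix (Fin n) (Fin n) A, IsUnit v ∧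
      ∃ d : Fin n → A, (v.map lam).transpose * h * v = Matrix.diagonal d := by
  classical
  let μ : A ≃ₐ[B] A := AlgEquiv.ofRingEquiv (f := lam) fun b => (hB.2 _).mpr ⟨b, rfl⟩
  have hμ : ∀ a, μ a = lam a := fun a => rfl
  have hμμ : ∀ a, μ (μ a) = a := hlam
  let p := IsLocalRing.maximalIdeal B
  have hunit : ∀ b : B, b ∉ p → IsUnit b := fun b hb => IsLocalRing.notMem_maximalIdeal.mp hb
  haveI : Algebra.IsIntegral B A := Groth.Agent.AzInvLib.isIntegral_fixed hlam hB
  have hmax : ∀ M : Ideal A, M.IsMaximal → M.comap (algebraMap B A) = p := fun M hM =>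
    IsLocalRing.eq_maximalIdeal (Ideal.isMaximal_comap_of_isIntegral_of_isMaximal M)
  have hεε : ε * ε = 1 := by rcases hε with rfl | rfl <;> simp
  have hlε : lam ε = ε := by rcases hε with rfl | rfl <;> simp
  have hht : AzInv.lamTr μ h = ε • h := by
    conv_rhs => rw [← herm, smul_smul, hεε, one_smul]
    rfl
  have hdiff : ∀ a : A, lam a - a ∉ Ring.jacobson A → IsUnit (a - lam a) ∧
      ∃ (x : A) (c : B), x + μ x = algebraMap B A c ∧ c ∉ p := by
    intro a ha
    rw [← Ideal.jacobson_bot, Ideal.jacobson, Submodule.mem_sInf] at ha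
    simp only [Set.mem_setOf_eq, bot_le, true_and, not_forall, exists_prop] at ha
    obtain ⟨M, hM, hna⟩ := ha
    have hd : a - lam a ∉ M := fun hm => hna (by rw [← neg_sub]; exact neg_mem hm)
    refine ⟨?_, ?_⟩
    · obtain ⟨b, hb⟩ := (hB.2 ((a - lam a) * (a - lam a))).mp (by rw [map_mul, map_sub, hlam a]; ring)
      have hu : IsUnit ((a - lam a) * (a - lam a)) := hb ▸ (hunit b fun hbp => by
        rw [← hmax M hM, Ideal.mem_comap, hb] at hbp
        exact hd ((hM.isPrime.mem_or_mem hbp).elim id id)).map _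
      exact isUnit_of_mul_isUnit_left hu
    · by_cases h2 : (2 : B) ∈ p
      · obtain ⟨c, hc⟩ := (hB.2 (a + lam a)).mp (by rw [map_add, hlam a, add_comm])
        refine ⟨a, c, hc.symm, fun hcp => hd ?_⟩
        rw [← hmax M hM, Ideal.mem_comap, hc] at hcp
        rw [← hmax M hM, Ideal.mem_comap, map_ofNat] at h2
        rw [show a - lam a = a + lam a - 2 * lam a by ring]
        exact sub_mem hcp (Ideal.mul_mem_right _ _ h2)
      · exact ⟨1, 2, by rw [map_one, map_ofNat, one_add_one_eq_two], h2⟩
  have htrace : Odd n ∨ ∃ (x : A) (c : B), x + μ x = algebraMap B A c ∧ c ∉ p := by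
    rcases hcase with ⟨a, ha⟩ | he | ho
    · exact Or.inr (hdiff a ha).2
    · refine Or.inr ⟨1, 2, by rw [map_one, map_ofNat, one_add_one_eq_two], fun h2 => he ?_⟩
      rcases hε with rfl | rfl
      · rw [one_add_one_eq_two, ← Ideal.jacobson_bot, Ideal.jacobson, Submodule.mem_sInf]
        rintro M ⟨-, hM⟩
        rw [← hmax M hM, Ideal.mem_comap, map_ofNat] at h2
        exact h2
      · rw [neg_add_cancel]; exact zero_mem _
    · exact Or.inl ho
  obtain ⟨c, hcu, hc⟩ : ∃ c : A, IsUnit c ∧ lam c * ε = c := by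
    rcases hε with rfl | rfl
    · exact ⟨1, isUnit_one, by simp⟩
    · rcases hcase with ⟨a, ha⟩ | he | ho
      · exact ⟨a - lam a, (hdiff a ha).1, by rw [map_sub, hlam a]; ring⟩
      · exact absurd (by rw [neg_add_cancel]; exact zero_mem _) he
      · refine ⟨h.det, (Matrix.isUnit_iff_isUnit_det h).mp hh, ?_⟩
        have h1 : lam h.det = (AzInv.lamTr μ h).det := by
          rw [AzInv.lamTr, Matrix.det_transpose]
          exact (μ : A →+* A).map_det h
        rw [h1, hht, Matrix.det_smul, Fintype.card_fin, ho.neg_one_pow]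
        ring
  have hherm : AzInv.lamTr μ (c • h) = c • h := by
    ext i j
    have h1 : lam (h j i) = ε * h i j := congrFun (congrFun hht i) j
    simp only [AzInv.lamTr_apply, Matrix.smul_apply, smul_eq_mul, hμ, map_mul, h1]
    rw [← mul_assoc, hc]
  have hdet : IsUnit (c • h).det := by
    rw [Matrix.det_smul]
    exact (hcu.pow _).mul ((Matrix.isUnit_iff_isUnit_det h).mp hh)
  obtain ⟨v, d, hd, hv⟩ := Groth.Agent.AzInvLib.Herm.exists_orth μ (c • h) hμμ hB hherm (p := p) hdet htrace
  let V : Matrix (Fin n) (Fin n) A := Matrix.of fun a k => v k a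
  have hV : AzInv.lamTr μ V * (c • h) * V = Matrix.diagonal fun i => algebraMap B A (d i) := by
    ext i j
    refine (Groth.Agent.AzInvLib.Herm.gram_eq μ (c • h) v i j).trans ?_
    rw [hv, Matrix.diagonal_apply]
  obtain ⟨ci, hci⟩ := hcu.exists_left_inv
  refine ⟨V, ?_, fun i => ci * algebraMap B A (d i), ?_⟩
  · rw [Matrix.isUnit_iff_isUnit_det]
    have h1 := congrArg Matrix.det hV
    rw [Matrix.det_mul, Matrix.det_diagonal] at h1
    have h2 : IsUnit (∏ i, algebraMap B A (d i)) :=
      IsUnit.prod_iff.mpr fun i _ => (hunit _ (hd i)).map _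
    rw [← h1] at h2
    exact isUnit_of_mul_isUnit_right h2
  · show AzInv.lamTr μ V * h * V = _
    rw [show (fun i => ci * algebraMap B A (d i)) = ci • fun i => algebraMap B A (d i) from rfl,
      Matrix.diagonal_smul, ← hV, mul_smul_comm, smul_mul_assoc, smul_smul, hci, one_smul]

end Groth.Agent.S15583
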