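import Groth.Statements.S15584
import Groth.Agent.AzInvLib.RamLocus

set_option autoImplicit false
universe u v
open RInv

namespace Groth.Agent.S15584

open Groth.Agent.AzInvLib

/-- Let `A` be a commutative ring with an involution `lam` whose fixed ring `B` is local; assume `lam`
is the identity modulo the Jacobson radical of `A`, that `2` is invertible in `A`, and that `h` is
an invertible `n × n` matrix with `h = -(lam h)ᵀ`. Then `n` is even and there is an invertible `v`
such that `(lam v)ᵀ h v` is a block sum of `2 × 2` blocks on the index pairs `{2k, 2k+1}`, each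
congruent to `[[0,1],[-1,0]]` modulo the Jacobson radical. (The published statement writes the
congruence with the plain transpose `vᵀ h v`; its proof computes the Gram matrix of the hermitian
form `(x, y) ↦ (lam x)ᵀ h y` in a new basis, which is `(lam v)ᵀ h v`, and that is what is stated
here.) -/
theorem result (B : Type u) (A : Type v) [CommRing B] [CommRing A]
    [Algebra B A] (lam : A ≃+* A) (hlam : Function.Involutive lam) (hB : RInv.IsFixedRing B A lam)
    [IsLocalRing B] (n : ℕ) (hid : ∀ a : A, lam a - a ∈ Ring.jacobson A) (h2 : IsUnit (2 : A))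
    (h : Matrix (Fin n) (Fin n) A) (hh : IsUnit h) (herm : -(h.map lam).transpose = h) :
    Even n ∧ ∃ v : Matrix (Fin n) (Fin n) A, IsUnit v ∧
      ∀ i j : Fin n,
        (i.val / 2 ≠ j.val / 2 → ((v.map lam).transpose * h * v) i j = 0) ∧
        (i.val / 2 = j.val / 2 → (Even i.val ↔ Even j.val) →
          ((v.map lam).transpose * h * v) i j ∈ Ring.jacobson A) ∧
        (i.val / 2 = j.val / 2 → Even i.val → ¬ Even j.val →
          ((v.map lam).transpose * h * v) i j - 1 ∈ Ring.jacobson A) ∧
        (i.val / 2 = j.val / 2 → ¬ Even i.val → Even j.val →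
          ((v.map lam).transpose * h * v) i j + 1 ∈ Ring.jacobson A) := by
  classical
  let μ := toAlgInv lam hB
  have hμμ : ∀ a, μ (μ a) = a := hlam
  haveI : Nontrivial A := hB.1.nontrivial
  obtain ⟨Q, hQ⟩ := Ideal.exists_maximal A
  haveI := hQ.isPrime
  have hQu : ∀ x, x ∉ Q → IsUnit x := by
    intro x hx
    by_contra hxu
    obtain ⟨M, hM, hxM⟩ := exists_max_ideal_of_mem_nonunits hxu
    haveI := hM.isPrime
    exact hx (eq_of_ramified (lam := μ) hμμ hB (q := Q) (fun r => mem_jacobson_iff.mp (hid r) Q hQ)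
      ((comap_maximal hμμ hB hM).trans (comap_maximal hμμ hB hQ).symm) ▸ hxM)
  have hQJ : ∀ x, x ∈ Q → x ∈ Ring.jacobson A := fun x hx => by
    rw [mem_jacobson_iff]
    intro M hM
    haveI := hM.isPrime
    rw [eq_of_ramified (lam := μ) hμμ hB (q := Q) (fun r => mem_jacobson_iff.mp (hid r) Q hQ)
      ((comap_maximal hμμ hB hM).trans (comap_maximal hμμ hB hQ).symm)]
    exact hx
  have hJQ : ∀ x, x ∈ Ring.jacobson A → x ∈ Q := fun x hx => mem_jacobson_iff.mp hx Q hQ
  have h2Q : (2 : A) ∉ Q := fun hm => hQ.ne_top (Q.eq_top_of_isUnit_mem hm h2)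
  have skew : AzInv.lamTr μ h = -h := by
    conv_rhs => rw [← herm, neg_neg]
    rfl
  have hd : IsUnit h.det := (Matrix.isUnit_iff_isUnit_det h).mp hh
  have heven : Even n := by
    by_contra hodd
    rw [Nat.not_even_iff_odd] at hodd
    have hD : μ h.det = -h.det := by
      rw [← det_lamTr, skew, Matrix.det_neg, Fintype.card_fin, hodd.neg_one_pow, neg_one_mul]
    have h1 := hJQ _ (hid h.det)
    rw [show lam h.det = -h.det from hD, show -h.det - h.det = -(2 * h.det) by ring, neg_mem_iff] at h1
    exact (hQ.isPrime.mem_or_mem h1).elim h2Q fun hm => hQ.ne_top (Q.eq_top_of_isUnit_mem hm hd)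
  have hsw : ∀ u w, μ (Herm.H μ h u w) = -Herm.H μ h w u := Herm.lam_H_skew μ h hμμ skew
  have hval : ∀ u, Herm.H μ h u u ∈ Q := fun u => by
    have h1 := hJQ _ (hid (Herm.H μ h u u))
    rw [show lam (Herm.H μ h u u) = -Herm.H μ h u u from hsw u u,
      show -Herm.H μ h u u - Herm.H μ h u u = -(2 * Herm.H μ h u u) by ring, neg_mem_iff] at h1
    exact (hQ.isPrime.mem_or_mem h1).resolve_left h2Q
  suffices hfam : ∀ k : ℕ, 2 * k ≤ n → ∃ x y : Fin k → Fin n → A, ∀ i j,
      Herm.H μ h (x i) (y j) = (if i = j then 1 else 0) ∧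
        (i ≠ j → Herm.H μ h (x i) (x j) = 0 ∧ Herm.H μ h (y i) (y j) = 0) by
    obtain ⟨m, hm⟩ := heven
    obtain ⟨x, y, hxy⟩ := hfam m (by omega)
    refine ⟨⟨m, hm⟩, ?_⟩
    let vec : Fin n → Fin n → A := fun i =>
      if Even i.val then x ⟨i.val / 2, by omega⟩ else y ⟨i.val / 2, by omega⟩
    let V : Matrix (Fin n) (Fin n) A := Matrix.of fun a i => vec i a
    let G := (V.map lam).transpose * h * V
    have hG : ∀ i j, G i j = Herm.H μ h (vec i) (vec j) := Herm.gram_eq μ h vec
    have hyx : ∀ i j, Herm.H μ h (y i) (x j) = if i = j then -1 else 0 := fun i j => by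
      rw [← neg_neg (Herm.H μ h (y i) (x j)), ← hsw, (hxy j i).1]
      rcases eq_or_ne i j with rfl | hne
      · simp
      · simp [hne, hne.symm]
    have hmain : ∀ i j : Fin n,
        (i.val / 2 ≠ j.val / 2 → G i j = 0) ∧
        (i.val / 2 = j.val / 2 → (Even i.val ↔ Even j.val) → G i j ∈ Ring.jacobson A) ∧
        (i.val / 2 = j.val / 2 → Even i.val → ¬ Even j.val → G i j - 1 ∈ Ring.jacobson A) ∧
        (i.val / 2 = j.val / 2 → ¬ Even i.val → Even j.val → G i j + 1 ∈ Ring.jacobson A) := by
      intro i j
      rw [hG]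
      simp only [vec]
      refine ⟨fun hne => ?_, fun he hp => ?_, fun he hi hj => ?_, fun he hi hj => ?_⟩
      · have hne' : (⟨i.val / 2, by omega⟩ : Fin m) ≠ ⟨j.val / 2, by omega⟩ := by simpa using hne
        by_cases hi : Even i.val <;> by_cases hj : Even j.val <;> simp only [hi, hj, if_true, if_false]
        · exact ((hxy _ _).2 hne').1
        · rw [(hxy _ _).1, if_neg hne']
        · rw [hyx, if_neg hne']
        · exact ((hxy _ _).2 hne').2
      · have he' : (⟨i.val / 2, by omega⟩ : Fin m) = ⟨j.val / 2, by omega⟩ := Fin.ext he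
        by_cases hi : Even i.val
        · rw [if_pos hi, if_pos (hp.mp hi), he']
          exact hQJ _ (hval _)
        · rw [if_neg hi, if_neg (fun hj => hi (hp.mpr hj)), he']
          exact hQJ _ (hval _)
      · rw [if_pos hi, if_neg hj, (hxy _ _).1, if_pos (Fin.ext he), sub_self]
        exact zero_mem _
      · rw [if_neg hi, if_pos hj, hyx, if_pos (Fin.ext he), neg_add_cancel]
        exact zero_mem _
    refine ⟨V, ?_, hmain⟩
    rw [Matrix.isUnit_iff_isUnit_det]
    refine isUnit_of_mul_isUnit_right (x := ((V.map lam).transpose * h).det) ?_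
    rw [← Matrix.det_mul]
    refine hQu _ fun hm' => ?_
    have h0 : (G.map (Ideal.Quotient.mk Q)).det = 0 := by
      rw [← RingHom.mapMatrix_apply, ← RingHom.map_det, Ideal.Quotient.eq_zero_iff_mem]
      exact hm'
    obtain ⟨ε, -, hJJ⟩ := exists_Jn (R := A ⧸ Q) (lam := (AlgEquiv.refl : (A ⧸ Q) ≃ₐ[A ⧸ Q] (A ⧸ Q)))
      (n := n) (m := m) (by omega)
    have hGu : IsUnit (G.map (Ideal.Quotient.mk Q)).det := by
      have hsq : G.map (Ideal.Quotient.mk Q) * G.map (Ideal.Quotient.mk Q) = -1 := by
        have hmk : ∀ z, z ∈ Ring.jacobson A → Ideal.Quotient.mk Q z = 0 := fun z hz =>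
          Ideal.Quotient.eq_zero_iff_mem.mpr (hJQ z hz)
        have hval' : ∀ i j, Ideal.Quotient.mk Q (G i j) = if i.val / 2 = j.val / 2 then
            (if Even i.val ↔ Even j.val then 0 else if Even i.val then 1 else -1) else 0 := by
          intro i j
          obtain ⟨g1, g2, g3, g4⟩ := hmain i j
          by_cases he : i.val / 2 = j.val / 2
          · rw [if_pos he]
            by_cases hp : Even i.val ↔ Even j.val
            · rw [if_pos hp, hmk _ (g2 he hp)]
            · rw [if_neg hp]
              by_cases hi : Even i.val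
              · have := hmk _ (g3 he hi (fun hj => hp (iff_of_true hi hj)))
                rw [map_sub, map_one, sub_eq_zero] at this
                rw [if_pos hi, this]
              · have := hmk _ (g4 he hi (by by_contra hj; exact hp (iff_of_false hi hj)))
                rw [map_add, map_one, add_eq_zero_iff_eq_neg] at this
                rw [if_neg hi, this]
          · rw [if_neg he, g1 he, map_zero]
        ext i j
        rw [Matrix.mul_apply]
        simp only [Matrix.map_apply, hval']
        have hk : 2 * (i.val / 2) + (1 - i.val % 2) < n := by omega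
        rw [Finset.sum_eq_single (⟨2 * (i.val / 2) + (1 - i.val % 2), hk⟩ : Fin n)]
        · have e1 : (2 * (i.val / 2) + (1 - i.val % 2)) / 2 = i.val / 2 := by omega
          simp only [e1, if_true, Matrix.neg_apply, Matrix.one_apply, Fin.ext_iff, Nat.even_iff]
          split_ifs <;> first | omega | simp
        · intro k _ hk'
          simp only [ne_eq, Fin.ext_iff] at hk'
          split_ifs <;> first | (simp; done) | (exfalso; tauto) | (exfalso; simp only [Nat.even_iff] at *; omega)
        · simp
      have h5 := congrArg Matrix.det hsq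
      rw [Matrix.det_mul, Matrix.det_neg, Matrix.det_one, mul_one] at h5
      refine isUnit_of_mul_isUnit_left (y := (G.map (Ideal.Quotient.mk Q)).det) ?_
      rw [h5]
      exact (IsUnit.neg isUnit_one).pow _
    rw [h0] at hGu
    haveI : Nontrivial (A ⧸ Q) := Ideal.Quotient.nontrivial_iff.mpr hQ.ne_top
    exact not_isUnit_zero hGu
  intro k
  induction k with
  | zero => exact fun _ => ⟨Fin.elim0, Fin.elim0, fun i => i.elim0⟩
  | succ k ih =>
    intro hk
    obtain ⟨x, y, hxy⟩ := ih (by omega)
    have hyx : ∀ i j, Herm.H μ h (y i) (x j) = if i = j then -1 else 0 := fun i j => by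
      rw [← neg_neg (Herm.H μ h (y i) (x j)), ← hsw, (hxy j i).1]
      rcases eq_or_ne i j with rfl | hne
      · simp
      · simp [hne, hne.symm]
    have hdd : ∀ i, ∃ d, d * (Herm.H μ h (x i) (x i) * Herm.H μ h (y i) (y i) + 1) = 1 := fun i =>
      (hQu _ fun hm => hQ.ne_top (Q.eq_top_iff_one.mpr (by
        simpa using sub_mem hm (Ideal.mul_mem_right (Herm.H μ h (y i) (y i)) _ (hval (x i)))))).exists_left_inv
    choose d hd using hdd
    let pr : (Fin n → A) → Fin n → A := fun u => u - ∑ i,
      ((d i * (Herm.H μ h (y i) (y i) * Herm.H μ h (x i) u - Herm.H μ h (y i) u)) • x i +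
        (d i * (Herm.H μ h (x i) u + Herm.H μ h (x i) (x i) * Herm.H μ h (y i) u)) • y i)
    have hp1 : ∀ u, Herm.Perp μ h x (pr u) := fun u l => by
      simp only [pr]
      rw [Herm.H_sub_right, Herm.H_sum_right, Finset.sum_eq_single l]
      · rw [Herm.H_add_right, Herm.H_smul_right, Herm.H_smul_right, (hxy l l).1, if_pos rfl]
        linear_combination (-(Herm.H μ h (x l) u)) * hd l
      · intro q _ hq
        rw [Herm.H_add_right, Herm.H_smul_right, Herm.H_smul_right, ((hxy l q).2 hq.symm).1, (hxy l q).1,
          if_neg hq.symm]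
        ring
      · simp
    have hp2 : ∀ u, Herm.Perp μ h y (pr u) := fun u l => by
      simp only [pr]
      rw [Herm.H_sub_right, Herm.H_sum_right, Finset.sum_eq_single l]
      · rw [Herm.H_add_right, Herm.H_smul_right, Herm.H_smul_right, hyx, if_pos rfl]
        linear_combination (-(Herm.H μ h (y l) u)) * hd l
      · intro q _ hq
        rw [Herm.H_add_right, Herm.H_smul_right, Herm.H_smul_right, ((hxy l q).2 hq.symm).2, hyx,
          if_neg hq.symm]
        ring
      · simp
    let vv : Fin (k + k) → Fin n → A := Fin.append x y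
    let Acoef : Fin n → Fin (k + k) → A := fun i => Fin.append
      (fun l => d l * (Herm.H μ h (y l) (y l) * Herm.H μ h (x l) (Pi.single i 1) - Herm.H μ h (y l) (Pi.single i 1)))
      (fun l => d l * (Herm.H μ h (x l) (Pi.single i 1) + Herm.H μ h (x l) (x l) * Herm.H μ h (y l) (Pi.single i 1)))
    obtain ⟨i, l, hil⟩ := Herm.exists_coord_notMem Q (n := Fin n) (by simp; omega) vv Acoef
      (D := 1) (fun h1 => hQ.ne_top (Q.eq_top_iff_one.mpr h1))
    have hpr : pr (Pi.single i 1) = (1 : A) • (Pi.single i 1 : Fin n → A) - ∑ q, Acoef i q • vv q := by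
      simp only [pr, one_smul, Fin.sum_univ_add, Finset.sum_add_distrib, vv, Acoef, Fin.append_left,
        Fin.append_right]
    obtain ⟨j, hj⟩ := Herm.exists_mulVec_notMem h Q ((Matrix.isUnit_iff_isUnit_det h).mp hh)
      (y := pr (Pi.single i 1)) ⟨l, by rw [hpr]; exact hil⟩
    set w := pr (Pi.single i 1) with hw
    set u := pr (Pi.single j 1) with hu
    have hc : Herm.H μ h u w ∉ Q := by
      have e : Herm.H μ h u w = Herm.H μ h (Pi.single j 1) w := by
        rw [hu]
        simp only [pr, Herm.H_sub_left, Herm.H_sum_left, Herm.H_add_left, Herm.H_smul_left,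
          hp1 (Pi.single i 1) _, hp2 (Pi.single i 1) _, hw]
        simp
      rwa [e, Herm.H_single_left]
    obtain ⟨ci, hci⟩ := (hQu _ hc).exists_left_inv
    let w' := ci • w
    have huw : Herm.H μ h u w' = 1 := by rw [Herm.H_smul_right, hci]
    have hwu : Herm.H μ h w' u = -1 := by
      rw [← neg_neg (Herm.H μ h w' u), ← hsw, huw, map_one]
    have hsym : ∀ (z z' : Fin n → A), Herm.H μ h z z' = 0 → Herm.H μ h z' z = 0 := fun z z' hz => by
      rw [← neg_neg (Herm.H μ h z' z), ← hsw, hz, map_zero, neg_zero]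
    have hw'1 : Herm.Perp μ h x w' := fun q => by rw [Herm.H_smul_right, hp1 _ q, mul_zero]
    have hw'2 : Herm.Perp μ h y w' := fun q => by rw [Herm.H_smul_right, hp2 _ q, mul_zero]
    have hu1 : Herm.Perp μ h x u := hp1 _
    have hu2 : Herm.Perp μ h y u := hp2 _
    refine ⟨Fin.snoc x u, Fin.snoc y w', fun a b => ?_⟩
    induction a using Fin.lastCases with
    | last =>
      induction b using Fin.lastCases with
      | last => simp [huw]
      | cast b =>
        simp [hsym _ _ (hu1 b), hsym _ _ (hu2 b), hsym _ _ (hw'2 b), (Fin.castSucc_lt_last b).ne']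
    | cast a =>
      induction b using Fin.lastCases with
      | last => simp [hw'1 a, hu1 a, hw'2 a, (Fin.castSucc_lt_last a).ne]
      | cast b => simpa using hxy a b

end Groth.Agent.S15584
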