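import Groth.Statements.S15585
import Groth.Agent.AzInvLib.RamLocus
import Mathlib.RingTheory.TensorProduct.Quotient
import Mathlib.RingTheory.Unramified.Field

set_option autoImplicit false
universe u v
open RInv

namespace Groth.Agent.S15585

/-- For a local ring `S` (maximal ideal `m`, residue field `k`) and a quadratic etale `S`-algebra `R`,
the ring `R/mR` is a field that is a separable extension of `k` of degree 2, or else it is
isomorphic as a `k`-algebra to `k × k`. -/
theorem result (S : Type u) (R : Type v) [CommRing S]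
    [CommRing R] [Algebra S R] [IsLocalRing S] (hq : RInv.IsQuadEtale S R) :
    (IsField (R ⧸ (IsLocalRing.maximalIdeal S).map (algebraMap S R)) ∧
      Module.finrank (S ⧸ IsLocalRing.maximalIdeal S)
        (R ⧸ (IsLocalRing.maximalIdeal S).map (algebraMap S R)) = 2 ∧
      Algebra.IsSeparable (S ⧸ IsLocalRing.maximalIdeal S)
        (R ⧸ (IsLocalRing.maximalIdeal S).map (algebraMap S R))) ∨
    Nonempty ((R ⧸ (IsLocalRing.maximalIdeal S).map (algebraMap S R)) ≃ₐ[S ⧸ IsLocalRing.maximalIdeal S]
      ((S ⧸ IsLocalRing.maximalIdeal S) × (S ⧸ IsLocalRing.maximalIdeal S))) := by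
  classical
  haveI := hq.1
  haveI := hq.2.1
  haveI := hq.2.2.1
  set m := IsLocalRing.maximalIdeal S
  letI : Field (S ⧸ m) := Ideal.Quotient.field m
  let Rq := R ⧸ m.map (algebraMap S R)
  haveI : Module.Free S R := Module.free_of_flat_of_isLocalRing
  have hrk : Module.finrank S R = 2 := by
    have := hq.2.2.2 (IsLocalRing.closedPoint S)
    rwa [Module.rankAtStalk_eq_finrank_of_free] at this
  have hdim : Module.finrank (S ⧸ m) Rq = 2 := by
    rw [(Algebra.TensorProduct.quotIdealMapEquivQuotTensor (A := S) R m).toLinearEquiv.finrank_eq, Module.finrank_baseChange, hrk]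
  haveI : Module.Finite (S ⧸ m) Rq := Module.Finite.of_restrictScalars_finite S _ _
  haveI : Algebra.FormallyUnramified S Rq := inferInstance
  haveI : Algebra.FormallyUnramified (S ⧸ m) Rq := Algebra.FormallyUnramified.of_restrictScalars S _ _
  haveI : IsReduced Rq := Algebra.FormallyUnramified.isReduced_of_field (S ⧸ m) Rq
  haveI : IsArtinianRing Rq := IsArtinianRing.of_finite (S ⧸ m) Rq
  haveI : Nontrivial Rq := Module.nontrivial_of_finrank_pos (R := S ⧸ m) (by omega)
  by_cases hF : IsField Rq
  · left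
    refine ⟨hF, hdim, ?_⟩
    letI : Field Rq := hF.toField
    haveI : Algebra.EssFiniteType (S ⧸ m) Rq := inferInstance
    exact Algebra.FormallyUnramified.isSeparable (S ⧸ m) Rq
  · right
    obtain ⟨x, hx0, hxu⟩ : ∃ x : Rq, x ≠ 0 ∧ ¬ IsUnit x := by
      by_contra! hall
      refine hF ⟨⟨0, 1, zero_ne_one⟩, mul_comm, fun {a} ha => ?_⟩
      obtain ⟨b, hb⟩ := (hall a ha).exists_right_inv
      exact ⟨b, hb⟩
    obtain ⟨n, y, hy⟩ := IsArtinian.exists_pow_succ_smul_dvd x (1 : Rq)
    simp only [smul_eq_mul, mul_one] at hy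
    have hxx : x * (1 - x * y) = 0 := IsReduced.eq_zero _ ⟨n + 1, by
      rw [mul_pow, pow_succ x n, pow_succ (1 - x * y) n]
      have : x ^ n * (1 - x * y) = 0 := by
        rw [mul_sub, mul_one, ← mul_assoc, ← pow_succ, hy, sub_self]
      linear_combination (x * (1 - x * y) ^ n) * this⟩
    set e := x * y with he
    have hee : e * e = e := by rw [he]; linear_combination (-y) * hxx
    have he0 : e ≠ 0 := fun h => hx0 (by rw [h, sub_zero, mul_one] at hxx; exact hxx)
    have he1 : 1 - e ≠ 0 := fun h => hxu (IsUnit.of_mul_eq_one y (sub_eq_zero.mp h).symm)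
    let f : (S ⧸ m) × (S ⧸ m) →ₗ[S ⧸ m] Rq :=
      (LinearMap.toSpanSingleton _ _ e).coprod (LinearMap.toSpanSingleton _ _ (1 - e))
    have hfapp : ∀ a b, f (a, b) = a • e + b • (1 - e) := fun a b => by simp [f]
    have hinj : Function.Injective f := by
      refine LinearMap.ker_eq_bot.mp (LinearMap.ker_eq_bot'.mpr fun ⟨a, b⟩ h => ?_)
      rw [hfapp] at h
      have h1 : a • e = 0 := by
        have := congrArg (· * e) h
        simpa [add_mul, smul_mul_assoc, hee, sub_mul] using this
      have h2 : b • (1 - e) = 0 := by simpa [h1] using h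
      exact Prod.ext ((smul_eq_zero.mp h1).resolve_right he0) ((smul_eq_zero.mp h2).resolve_right he1)
    let L := LinearEquiv.ofBijective f ⟨hinj,
      (LinearMap.injective_iff_surjective_of_finrank_eq_finrank (by rw [hdim]; simp)).mp hinj⟩
    refine ⟨(AlgEquiv.ofLinearEquiv L ?_ ?_).symm⟩
    · show f (1, 1) = 1
      rw [hfapp, one_smul, one_smul, add_sub_cancel]
    · rintro ⟨a, b⟩ ⟨c, d⟩
      show f (a * c, b * d) = f (a, b) * f (c, d)
      rw [hfapp, hfapp, hfapp]
      simp only [Algebra.smul_def, map_mul]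
      linear_combination (-(algebraMap (S ⧸ m) Rq a - algebraMap (S ⧸ m) Rq b) *
        (algebraMap (S ⧸ m) Rq c - algebraMap (S ⧸ m) Rq d)) * hee

end Groth.Agent.S15585
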