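import Groth.Statements.S15586
import Mathlib

set_option autoImplicit false
universe u v w
open scoped TensorProduct
open RInv

namespace Groth.Agent.S15586

/-- Let `R` be a commutative ring with an involution `lam` and fixed ring `S`, and let `S'` be a
commutative `S`-algebra. If `S'` is flat over `S`, or if `2` is invertible in `S`, then `S'` is the
fixed ring of the base-changed involution `id ⊗ lam` of `S' ⊗_S R`: the structure map `S' → S' ⊗_S
R` is injective with image the fixed elements. (In general the fixed ring does not commute with base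
change.) -/
theorem result (S : Type u) (R : Type v) (S' : Type w)
    [CommRing S] [CommRing R] [Algebra S R] [CommRing S'] [Algebra S S']
    (lam : R ≃ₐ[S] R) (hlam : Function.Involutive lam)
    (hS : RInv.IsFixedRing S R lam.toRingEquiv)
    (h : Module.Flat S S' ∨ IsUnit (2 : S)) :
    RInv.IsFixedRing S' (S' ⊗[S] R)
      (Algebra.TensorProduct.congr (AlgEquiv.refl : S' ≃ₐ[S] S') lam).toRingEquiv := by
  set lX := Algebra.TensorProduct.congr (AlgEquiv.refl : S' ≃ₐ[S'] S') lam with hlX
  have hlX' : ∀ (x : S') (r : R), lX (x ⊗ₜ[S] r) = x ⊗ₜ lam r := fun x r => rfl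
  let d : R →ₗ[S] R := lam.toLinearEquiv.toLinearMap - LinearMap.id
  let ι : S →ₗ[S] R := Algebra.linearMap S R
  have hd : ∀ z : S' ⊗[S] R, d.lTensor S' z = lX z - z := fun z => by
    induction z using TensorProduct.induction_on with
    | zero => simp
    | tmul x r => simp [d, hlX', TensorProduct.tmul_sub]
    | add a b ha hb => rw [map_add, map_add, ha, hb]; abel
  have hα : ∀ x : S', ι.lTensor S' (x ⊗ₜ (1 : S)) = algebraMap S' (S' ⊗[S] R) x := fun x => by
    rw [LinearMap.lTensor_tmul, Algebra.linearMap_apply, map_one]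
    rfl
  have hsurj : ∀ z : S' ⊗[S] S, ∃ x : S', z = x ⊗ₜ (1 : S) :=
    fun z => ⟨TensorProduct.rid S S' z, ((TensorProduct.rid S S').symm_apply_apply z).symm⟩
  suffices hmain : Function.Injective (ι.lTensor S') ∧
      ∀ z : S' ⊗[S] R, d.lTensor S' z = 0 → z ∈ Set.range (ι.lTensor S') by
    refine ⟨fun a b hab => ?_, fun z => ⟨fun hz => ?_, ?_⟩⟩
    · rw [← hα, ← hα] at hab
      simpa using congrArg (TensorProduct.rid S S') (hmain.1 hab)
    · obtain ⟨w, hw⟩ := hmain.2 z (by rw [hd, sub_eq_zero]; exact hz)
      obtain ⟨x, rfl⟩ := hsurj w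
      exact ⟨x, (hα x).symm.trans hw⟩
    · rintro ⟨x, rfl⟩
      exact lX.commutes x
  rcases h with hflat | h2
  · have hex : Function.Exact ι d := fun r => by
      simp only [d, LinearMap.sub_apply, LinearMap.id_apply, sub_eq_zero, Set.mem_range]
      exact hS.2 r
    exact ⟨Module.Flat.lTensor_preserves_injective_linearMap (M := S') ι hS.1,
      fun z => (Module.Flat.lTensor_exact S' hex z).mp⟩
  · obtain ⟨half, hhalf⟩ := h2.exists_left_inv
    let g : R →ₗ[S] R := half • (LinearMap.id + lam.toLinearEquiv.toLinearMap)
    have hg : ∀ r, g r ∈ LinearMap.range ι := fun r => by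
      refine (hS.2 (g r)).mp ?_
      show lam (half • (r + lam r)) = half • (r + lam r)
      rw [map_smul, map_add, hlam r, add_comm]
    let π : R →ₗ[S] S := (LinearEquiv.ofInjective ι hS.1).symm.toLinearMap ∘ₗ g.codRestrict _ hg
    have hπ : ∀ r, ι (π r) = g r := fun r => by
      show ((LinearEquiv.ofInjective ι hS.1) (π r) : R) = g r
      simp [π]
    have h1 : π ∘ₗ ι = LinearMap.id := LinearMap.ext fun c => hS.1 (by
      show ι (π (ι c)) = ι c
      rw [hπ]
      show half • (algebraMap S R c + lam (algebraMap S R c)) = algebraMap S R c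
      rw [AlgEquiv.commutes, ← two_smul S (algebraMap S R c), smul_smul, hhalf, one_smul])
    have h3 : LinearMap.id = ι ∘ₗ π - half • d := LinearMap.ext fun r => by
      show r = ι (π r) - half • (lam r - r)
      rw [hπ]
      show r = half • (r + lam r) - half • (lam r - r)
      rw [← smul_sub, show r + lam r - (lam r - r) = r + r by abel, ← two_smul S r, smul_smul, hhalf, one_smul]
    refine ⟨Function.LeftInverse.injective (g := π.lTensor S') fun z => ?_,
      fun z hz => ⟨π.lTensor S' z, ?_⟩⟩
    · rw [← LinearMap.comp_apply, ← LinearMap.lTensor_comp, h1, LinearMap.lTensor_id, LinearMap.id_apply]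
    · have h4 := LinearMap.congr_fun (congrArg (LinearMap.lTensor S') h3) z
      rw [LinearMap.lTensor_id, LinearMap.lTensor_sub, LinearMap.lTensor_smul, LinearMap.sub_apply,
        LinearMap.smul_apply, hz, smul_zero, sub_zero, LinearMap.lTensor_comp, LinearMap.comp_apply,
        LinearMap.id_apply] at h4
      exact h4.symm

end Groth.Agent.S15586
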