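import Groth.Statements.S15589
import Groth.Agent.AzInvLib.RamLocus

set_option autoImplicit false
universe u v
open scoped TensorProduct
open RInv

namespace Groth.Agent.S15589

open Groth.Agent.AzInvLib

/-- Let `R` be a commutative ring with an involution `lam` and fixed ring `S`, `W ⊆ Spec S` the branch
locus (primes `p` with `S_p ⊗_S R` not quadratic etale over `S_p`), `I` its vanishing ideal and `J =
rad(IR)`. Then `Spec(R/J) → Spec(S/I)` is a homeomorphism; if `2` is a unit of `S`, the ring map
`S/I → R/J` is moreover bijective, so the reduced preimage of the branch locus maps isomorphically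
onto it. Affine-local form of the statement for a good quotient of schemes by an involution (the
hypothesis `I ≤ J ∩ S` holds automatically and only serves to write down the map). -/
theorem result (S : Type u) (R : Type v) [CommRing S] [CommRing R]
    [Algebra S R] (lam : R ≃+* R) (hlam : Function.Involutive lam) (hS : RInv.IsFixedRing S R lam)
    (W : Set (PrimeSpectrum S))
    (hW : W = {p : PrimeSpectrum S | ¬ RInv.IsQuadEtale (Localization.AtPrime p.asIdeal) (Localization.AtPrime p.asIdeal ⊗[S] R)})
    (J : Ideal R) (hJ : J = ((PrimeSpectrum.vanishingIdeal W).map (algebraMap S R)).radical)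
    (hIJ : PrimeSpectrum.vanishingIdeal W ≤ J.comap (algebraMap S R)) :
    IsHomeomorph (PrimeSpectrum.comap (Ideal.quotientMap J (algebraMap S R) hIJ)) ∧
      (IsUnit (2 : S) → Function.Bijective (Ideal.quotientMap J (algebraMap S R) hIJ)) := by
  have hlam' : ∀ r, toAlgInv lam hS (toAlgInv lam hS r) = r := hlam
  have hW' : W = {p : PrimeSpectrum S | Ram (toAlgInv lam hS) p} := by
    rw [hW]; ext p; exact not_quad_iff hlam' hS p
  subst hJ
  haveI : Algebra.IsIntegral S R := isIntegral_fixed hlam hS
  set I := PrimeSpectrum.vanishingIdeal W with hI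
  set J := (I.map (algebraMap S R)).radical with hJ
  set ψ := Ideal.quotientMap J (algebraMap S R) hIJ with hψ
  have hsq : ψ.comp (Ideal.Quotient.mk I) = (Ideal.Quotient.mk J).comp (algebraMap S R) :=
    Ideal.quotientMap_comp_mk hIJ
  have hover : ∀ P : PrimeSpectrum (R ⧸ J),
      Ram (toAlgInv lam hS) (PrimeSpectrum.comap (algebraMap S R)
        (PrimeSpectrum.comap (Ideal.Quotient.mk J) P)) := by
    intro P
    refine ram_of_le hlam' hS (P := (PrimeSpectrum.comap (Ideal.Quotient.mk J) P).asIdeal) ?_
    rw [← hW']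
    intro z hz
    show Ideal.Quotient.mk J z ∈ P.asIdeal
    rw [Ideal.Quotient.eq_zero_iff_mem.mpr (Ideal.le_radical hz)]
    exact zero_mem _
  have hinj : Function.Injective (PrimeSpectrum.comap ψ) := by
    intro P P' he
    apply PrimeSpectrum.comap_injective_of_surjective _ Ideal.Quotient.mk_surjective
    set q := PrimeSpectrum.comap (Ideal.Quotient.mk J) P with hq
    set q' := PrimeSpectrum.comap (Ideal.Quotient.mk J) P' with hq'
    have h1 : PrimeSpectrum.comap (algebraMap S R) q = PrimeSpectrum.comap (algebraMap S R) q' := by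
      rw [hq, hq', ← PrimeSpectrum.comap_comp_apply, ← PrimeSpectrum.comap_comp_apply, ← hsq,
        PrimeSpectrum.comap_comp_apply, PrimeSpectrum.comap_comp_apply, he]
    exact PrimeSpectrum.ext (eq_of_ramified (lam := toAlgInv lam hS) hlam' hS
      (hover P' _ q'.isPrime rfl) (congrArg PrimeSpectrum.asIdeal h1))
  have hsurj : Function.Surjective (PrimeSpectrum.comap ψ) := by
    intro x
    set p := PrimeSpectrum.comap (Ideal.Quotient.mk I) x with hp
    obtain ⟨Q, hQp, hQ⟩ := Herm.exists_over (toAlgInv lam hS) hlam' hS p.asIdeal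
    have hJQ : J ≤ Q := by
      rw [hJ, ← hQp.isRadical.radical]
      refine Ideal.radical_mono (Ideal.map_le_iff_le_comap.mpr ?_)
      rw [hQ]
      intro z hz
      show Ideal.Quotient.mk I z ∈ x.asIdeal
      rw [Ideal.Quotient.eq_zero_iff_mem.mpr hz]
      exact zero_mem _
    haveI := hQp
    haveI hmp : (Q.map (Ideal.Quotient.mk J)).IsPrime :=
      Ideal.map_isPrime_of_surjective Ideal.Quotient.mk_surjective (by rwa [Ideal.mk_ker])
    refine ⟨⟨_, hmp⟩, PrimeSpectrum.comap_injective_of_surjective _ Ideal.Quotient.mk_surjective ?_⟩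
    rw [← PrimeSpectrum.comap_comp_apply, hsq, PrimeSpectrum.comap_comp_apply]
    refine PrimeSpectrum.ext ?_
    show ((Q.map (Ideal.Quotient.mk J)).comap (Ideal.Quotient.mk J)).comap (algebraMap S R) = p.asIdeal
    rw [Ideal.comap_map_of_surjective _ Ideal.Quotient.mk_surjective, ← RingHom.ker_eq_comap_bot,
      Ideal.mk_ker, sup_eq_left.mpr hJQ, hQ]
  have hint : ψ.IsIntegral := by
    refine RingHom.IsIntegral.tower_top (Ideal.Quotient.mk I) ψ ?_
    rw [hsq]
    exact RingHom.IsIntegral.trans _ _ (algebraMap_isIntegral_iff.mpr inferInstance)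
      (RingHom.isIntegral_of_surjective _ Ideal.Quotient.mk_surjective)
  refine ⟨isHomeomorph_iff_continuous_isClosedMap_bijective.mpr
    ⟨PrimeSpectrum.continuous_comap ψ, PrimeSpectrum.isClosedMap_comap_of_isIntegral ψ hint, hinj, hsurj⟩,
    fun h2 => ⟨?_, ?_⟩⟩
  · rw [injective_iff_map_eq_zero]
    intro x hx
    obtain ⟨x, rfl⟩ := Ideal.Quotient.mk_surjective x
    rw [← RingHom.comp_apply, hsq, RingHom.comp_apply, Ideal.Quotient.eq_zero_iff_mem] at hx
    rw [Ideal.Quotient.eq_zero_iff_mem, PrimeSpectrum.mem_vanishingIdeal]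
    intro p hpW
    obtain ⟨Q, hQp, hQ⟩ := Herm.exists_over (toAlgInv lam hS) hlam' hS p.asIdeal
    rw [← hQ, Ideal.mem_comap]
    refine (hQp.isRadical.radical ▸ Ideal.radical_mono (Ideal.map_le_iff_le_comap.mpr ?_)) hx
    rw [hQ]
    intro z hz
    exact (PrimeSpectrum.mem_vanishingIdeal W z).mp hz p hpW
  · intro y
    obtain ⟨r, rfl⟩ := Ideal.Quotient.mk_surjective y
    obtain ⟨u, hu⟩ := (h2.map (algebraMap S R)).exists_left_inv
    rw [map_ofNat] at hu
    have hlu : lam u = u := by
      have h1 : lam u * 2 = 1 := by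
        have := congrArg lam hu
        rwa [map_mul, map_ofNat, map_one] at this
      calc lam u = lam u * (u * 2) := by rw [hu, mul_one]
        _ = u * (lam u * 2) := by ring
        _ = u := by rw [h1, mul_one]
    obtain ⟨c, hc⟩ := (hS.2 (u * (r + lam r))).mp (by rw [map_mul, map_add, hlam r, hlu, add_comm r])
    refine ⟨Ideal.Quotient.mk I c, ?_⟩
    rw [← RingHom.comp_apply, hsq, RingHom.comp_apply, Ideal.Quotient.mk_eq_mk_iff_sub_mem, hc,
      show u * (r + lam r) - r = u * (lam r - r) + (u * 2 - 1) * r by ring, hu, sub_self, zero_mul,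
      add_zero]
    refine Ideal.mul_mem_left _ _ ?_
    rw [hJ, Ideal.radical_eq_sInf, Submodule.mem_sInf]
    rintro P ⟨hle, hP⟩
    exact ram_of_le hlam' hS (hW' ▸ hle) P hP rfl r

end Groth.Agent.S15589
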