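import Groth.Statements.S15590
import Mathlib.RingTheory.Flat.FaithfullyFlat.Algebra
import Mathlib.RingTheory.DedekindDomain.Basic
import Mathlib.RingTheory.Ideal.GoingUp
-- import your own Groth.Agent.* helpers here

set_option autoImplicit false
universe u v
open CAlg

namespace Groth.Agent.S15590

/-- Let A → B be an injective homomorphism of commutative rings which makes B a finite flat A-module,
and suppose B is a Dedekind domain (Noetherian, integrally closed, of Krull dimension at most one; a
field is allowed). Then A is a Dedekind domain. -/
theorem result (A : Type u) (B : Type v)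
    [CommRing A] [CommRing B] [Algebra A B] [IsDedekindDomain B]
    (hinj : Function.Injective (algebraMap A B)) [Module.Finite A B] [Module.Flat A B] :
    IsDedekindDomain A := by
  classical
  haveI : FaithfulSMul A B := (faithfulSMul_iff_algebraMap_injective A B).2 hinj
  haveI : IsDomain A := hinj.isDomain (algebraMap A B)
  haveI : Module.FaithfullyFlat A B := Module.FaithfullyFlat.of_isIntegral_of_isDomain
  haveI : IsNoetherianRing A := by
    refine isNoetherian_iff.2 (RelHomClass.wellFounded (OrderEmbedding.ofMapLEIff (fun I : Ideal A => I.map (algebraMap A B)) ?_).gtEmbedding (isNoetherian_iff.1 (inferInstance : IsNoetherian B B)))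
    exact fun I J => ⟨fun h => by simpa only [Ideal.comap_map_eq_self_of_faithfullyFlat] using Ideal.comap_mono (f := algebraMap A B) h, fun h => Ideal.map_mono h⟩
  haveI : Ring.DimensionLEOne A := ⟨fun {p} hp hpp => by
    obtain ⟨P, hP, hPp⟩ := Ideal.exists_isPrime_liesOver_of_faithfullyFlat (B := B) p
    have hne : P ≠ ⊥ := fun h => hp (by rw [hPp.over, h, Ideal.under_def, Ideal.comap_bot_of_injective _ hinj])
    haveI := Ring.DimensionLEOne.maximalOfPrime hne hP
    rw [hPp.over]
    exact Ideal.isMaximal_comap_of_isIntegral_of_isMaximal P⟩
  haveI : IsIntegrallyClosed A := by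
    refine (isIntegrallyClosed_iff (FractionRing A)).2 fun {x} hx => ?_
    obtain ⟨⟨a, b⟩, hab⟩ := IsLocalization.surj (nonZeroDivisors A) x
    let g : FractionRing A →+* FractionRing B := IsFractionRing.map (K := FractionRing A) (L := FractionRing B) hinj
    haveI : IsScalarTower A B (FractionRing B) := inferInstance
    let gA : FractionRing A →ₐ[A] FractionRing B := AlgHom.mk g (fun r => (IsLocalization.map_eq _ r).trans (IsScalarTower.algebraMap_apply A B (FractionRing B) r).symm)
    obtain ⟨c, hc⟩ := (isIntegrallyClosed_iff (FractionRing B)).1 inferInstance ((hx.map gA).tower_top (A := B))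
    have h1 : algebraMap A B a = algebraMap A B b.1 * c := by
      apply IsFractionRing.injective B (FractionRing B)
      have h2 := congrArg gA hab
      simp only [map_mul, AlgHom.commutes, ← hc] at h2
      rw [map_mul, mul_comm, ← IsScalarTower.algebraMap_apply, ← IsScalarTower.algebraMap_apply]
      exact h2.symm
    have h3 : a ∈ Ideal.span {b.1} := by
      rw [← Ideal.comap_map_eq_self_of_faithfullyFlat (B := B) (Ideal.span {b.1}), Ideal.mem_comap, Ideal.map_span, Set.image_singleton, Ideal.mem_span_singleton]
      exact ⟨c, h1⟩
    obtain ⟨d, hd⟩ := Ideal.mem_span_singleton.1 h3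
    refine ⟨d, ?_⟩
    refine (IsLocalization.map_units (FractionRing A) b).mul_left_cancel ?_
    rw [← map_mul, ← hd, ← hab, mul_comm]
  exact { }

end Groth.Agent.S15590
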