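import Groth.Statements.S15592
import Groth.Agent.AbVarLib.ExtendCurve
import Groth.Agent.AbVarLib.RatLine
import Groth.Agent.RedPts.Basic
import Mathlib.RingTheory.PowerSeries.Substitution
-- import your own Groth.Agent.* helpers here

set_option autoImplicit false
universe u
open CategoryTheory MonoidalCategory CartesianMonoidalCategory MonObj GrpObj AlgebraicGeometry
open AlgGrp

namespace Groth.Agent.S15592

open Groth.Agent Groth.Agent.AbVarLib.RatLine Limits

variable {k : Type u} [Field k]

/-- Substitution of a series without constant term. -/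
noncomputable def sub {B : Type u} [CommRing B] [Algebra k B] (e : PowerSeries B)
    (he : PowerSeries.constantCoeff e = 0) : PowerSeries k →ₐ[k] PowerSeries B :=
  PowerSeries.substAlgHom (PowerSeries.HasSubst.of_constantCoeff_zero' he)

lemma sub_X {B : Type u} [CommRing B] [Algebra k B] (e : PowerSeries B)
    (he : PowerSeries.constantCoeff e = 0) : sub (k := k) e he PowerSeries.X = e :=
  PowerSeries.substAlgHom_X _

/-- The constant coefficient as an algebra map. -/
noncomputable def ccA (B : Type u) [CommRing B] [Algebra k B] : PowerSeries B →ₐ[k] B :=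
  { (PowerSeries.constantCoeff : PowerSeries B →+* B) with
    commutes' := fun r => by simp [PowerSeries.algebraMap_apply] }

lemma ccA_comp_sub {B : Type u} [CommRing B] [Algebra k B] (e : PowerSeries B)
    (he : PowerSeries.constantCoeff e = 0) :
    (ccA B).comp (sub (k := k) e he) = (Algebra.ofId k B).comp (ccA k) := by
  refine AlgHom.ext fun f => ?_
  obtain ⟨g, c, rfl⟩ : ∃ g c, f = PowerSeries.X * g + PowerSeries.C c :=
    ⟨_, _, PowerSeries.eq_X_mul_shift_add_const f⟩
  simp only [AlgHom.comp_apply, map_add, map_mul, sub_X]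
  rw [show sub (k := k) e he (PowerSeries.C c) = algebraMap k _ c from AlgHom.commutes _ c]
  simp [ccA, he, PowerSeries.algebraMap_apply]

lemma sub_injective {B : Type u} [CommRing B] [IsDomain B] [Algebra k B] (e : PowerSeries B)
    (he : PowerSeries.constantCoeff e = 0) (hne : e ≠ 0) : Function.Injective (sub (k := k) e he) := by
  rw [injective_iff_map_eq_zero]
  intro f hf
  by_contra hf0
  obtain ⟨n, hu⟩ := IsDiscreteValuationRing.associated_pow_irreducible hf0
    (PowerSeries.X_prime (R := k)).irreducible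
  obtain ⟨v, hv⟩ := hu
  have h1 := congrArg (sub (k := k) e he) hv
  rw [map_mul, hf, zero_mul, map_pow, sub_X] at h1
  exact pow_ne_zero n hne h1.symm

variable {G X : Over (Spec (CommRingCat.of k))} [GrpObj G]

/-- Constants in the field of Laurent series. -/
noncomputable def cst (B : Type u) [CommRing B] [Algebra k B] : B →ₐ[k] FractionRing (PowerSeries B) :=
  IsScalarTower.toAlgHom k B (FractionRing (PowerSeries B))

lemma cst_apply (B : Type u) [CommRing B] [Algebra k B] (b : B) :
    cst (k := k) B b = algebraMap (PowerSeries B) _ (PowerSeries.C b) :=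
  (IsScalarTower.algebraMap_apply B (PowerSeries B) (FractionRing (PowerSeries B)) b).trans
    (congrArg _ (by simp [PowerSeries.algebraMap_apply]))

/-- The limit of an orbit is fixed by points shifting the parameter. -/
theorem core [IsProper X.hom] (a : AlgGrp.Action G X) (x₀ : 𝟙_ (Over (Spec (CommRingCat.of k))) ⟶ X)
    (B : Type u) [CommRing B] [IsDomain B] [Algebra k B] (p : O k B ⟶ G)
    (e : PowerSeries B) (he : PowerSeries.constantCoeff e = 0) (hne : e ≠ 0)
    (y : O k (FractionRing (PowerSeries k)) ⟶ G)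
    (hy : ∀ (ι₁ ι₂ : FractionRing (PowerSeries k) →ₐ[k] FractionRing (PowerSeries B)),
      (∀ f, ι₁ (algebraMap _ _ f) = algebraMap (PowerSeries B) _ (sub (k := k) e he f)) →
      (∀ f, ι₂ (algebraMap _ _ f) = algebraMap (PowerSeries B) _
        (sub (k := k) (PowerSeries.X : PowerSeries B) PowerSeries.constantCoeff_X f)) →
      sp ι₁ ≫ y = (sp (cst B) ≫ p) * (sp ι₂ ≫ y)) :
    ∀ (ψ : O k (PowerSeries k) ⟶ X),
      sp (IsScalarTower.toAlgHom k (PowerSeries k) (FractionRing (PowerSeries k))) ≫ ψ =
        lift y (toUnit _ ≫ x₀) ≫ a.act →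
      lift p (sp (Algebra.ofId k B) ≫ sp (ccA k) ≫ ψ) ≫ a.act =
        sp (Algebra.ofId k B) ≫ sp (ccA k) ≫ ψ := by
  intro ψ hψ
  let K' := FractionRing (PowerSeries B)
  let j := IsScalarTower.toAlgHom k (PowerSeries B) K'
  let ext : ∀ σ : PowerSeries k →ₐ[k] PowerSeries B, Function.Injective σ →
      FractionRing (PowerSeries k) →ₐ[k] K' := fun σ hσ =>
    IsFractionRing.liftAlgHom (g := j.comp σ) ((IsFractionRing.injective _ K').comp hσ)
  have hext : ∀ σ hσ f, ext σ hσ (algebraMap _ _ f) = j (σ f) := fun σ hσ f =>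
    IsFractionRing.lift_algebraMap (g := (j.comp σ).toRingHom) ((IsFractionRing.injective _ K').comp hσ) f
  have hX : (PowerSeries.X : PowerSeries B) ≠ 0 := PowerSeries.X_ne_zero
  let σ := sub (k := k) e he
  let τ := sub (k := k) (PowerSeries.X : PowerSeries B) PowerSeries.constantCoeff_X
  have hσi : Function.Injective σ := sub_injective e he hne
  have hτi : Function.Injective τ := sub_injective _ PowerSeries.constantCoeff_X hX
  let ι₁ := ext σ hσi
  let ι₂ := ext τ hτi
  have hc : ∀ σ hσ, sp j ≫ sp σ = sp (ext σ hσ) ≫ sp (IsScalarTower.toAlgHom k (PowerSeries k) (FractionRing (PowerSeries k))) := by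
    intro σ hσ
    rw [← sp_comp, ← sp_comp]
    exact congrArg sp (AlgHom.ext fun f => (hext σ hσ f).symm)
  -- the equation on power series
  have key : sp σ ≫ ψ = lift (sp (IsScalarTower.toAlgHom k B (PowerSeries B)) ≫ p) (sp τ ≫ ψ) ≫ a.act := by
    have : IsDominant (sp j).left := ⟨by
      show DenseRange (PrimeSpectrum.comap j.toRingHom)
      rw [PrimeSpectrum.denseRange_comap_iff_ker_le_nilRadical,
        (RingHom.injective_iff_ker_eq_bot j.toRingHom).mp (IsFractionRing.injective _ K')]
      exact bot_le⟩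
    have : IsReduced (O k (PowerSeries B)).left :=
      inferInstanceAs (IsReduced (Spec (CommRingCat.of (PowerSeries B))))
    apply Over.OverMorphism.ext
    refine ext_of_isDominant_of_isSeparated X.hom (by rw [Over.w, Over.w]) (sp j).left ?_
    rw [← Over.comp_left, ← Over.comp_left]
    congr 1
    have e1 : sp j ≫ sp σ ≫ ψ = lift (sp ι₁ ≫ y) (toUnit _ ≫ x₀) ≫ a.act := by
      rw [← Category.assoc, hc σ hσi, Category.assoc, hψ, comp_lift_assoc,
        comp_toUnit_assoc]
    have e2 : sp j ≫ sp τ ≫ ψ = lift (sp ι₂ ≫ y) (toUnit _ ≫ x₀) ≫ a.act := by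
      rw [← Category.assoc, hc τ hτi, Category.assoc, hψ, comp_lift_assoc,
        comp_toUnit_assoc]
    rw [e1, comp_lift_assoc, e2, hy ι₁ ι₂ (hext σ hσi) (hext τ hτi), ← Category.assoc (sp j),
      ← sp_comp]
    have hp : j.comp (IsScalarTower.toAlgHom k B (PowerSeries B)) = cst B :=
      AlgHom.ext fun b => (IsScalarTower.algebraMap_apply B (PowerSeries B) K' b).symm
    rw [hp]
    have := lift (lift (sp (cst B) ≫ p) (sp ι₂ ≫ y)) (toUnit _ ≫ x₀) ≫= a.mul_act
    simpa [Hom.mul_def] using this
  -- specialise the parameter to zero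
  have h0 := sp (ccA B) ≫= key
  have hcc : (ccA B).comp (IsScalarTower.toAlgHom k B (PowerSeries B)) = AlgHom.id k B :=
    AlgHom.ext fun b => by simp [ccA, PowerSeries.algebraMap_apply]
  rw [comp_lift_assoc, ← Category.assoc, ← sp_comp, ← Category.assoc, ← sp_comp, hcc, ← Category.assoc,
    ← sp_comp, ccA_comp_sub e he, ccA_comp_sub, sp_comp, Category.assoc] at h0
  have hid : sp (AlgHom.id k B) ≫ p = p := by
    have : sp (AlgHom.id k B) = 𝟙 _ := Over.OverMorphism.ext (by
      show Spec.map _ = 𝟙 _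
      rw [← Spec.map_id]; rfl)
    rw [this, Category.id_comp]
  rw [hid] at h0
  exact h0.symm

/-- A function as a morphism to an affine scheme. -/
noncomputable def toO {T : Over (Spec (CommRingCat.of k))} {B : Type u} [CommRing B] [Algebra k B]
    (φ : B →+* Γ(T.left, ⊤))
    (h : φ.comp (algebraMap k B) = ((Scheme.ΓSpecIso (CommRingCat.of k)).inv ≫ T.hom.appTop).hom) :
    T ⟶ O k B :=
  Over.homMk (T.left.toSpecΓ ≫ Spec.map (CommRingCat.ofHom φ)) (by
    show (T.left.toSpecΓ ≫ Spec.map _) ≫ Spec.map _ = T.hom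
    rw [Category.assoc, ← Spec.map_comp, ← CommRingCat.ofHom_comp, h, CommRingCat.ofHom_hom,
      Spec.map_comp, ← Scheme.toSpecΓ_naturality_assoc, toSpecΓ_SpecMap_ΓSpecIso_inv,
      Category.comp_id])

/-- The structure map of the functions. -/
noncomputable def str (T : Over (Spec (CommRingCat.of k))) : k →+* Γ(T.left, ⊤) :=
  ((Scheme.ΓSpecIso (CommRingCat.of k)).inv ≫ T.hom.appTop).hom

/-- Elements as functions on spectra. -/
noncomputable def gam {B : Type u} [CommRing B] [Algebra k B] : B →+* Γ((O k B).left, ⊤) :=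
  (Scheme.ΓSpecIso (CommRingCat.of B)).inv.hom

lemma sp_gam {B C : Type u} [CommRing B] [Algebra k B] [CommRing C] [Algebra k C] (f : B →ₐ[k] C) (b : B) :
    (sp f).left.appTop (gam b) = gam (f b) :=
  (RingHom.congr_fun (congrArg CommRingCat.Hom.hom
    (Scheme.ΓSpecIso_inv_naturality (CommRingCat.ofHom f.toRingHom))) b).symm

lemma toO_gam {T : Over (Spec (CommRingCat.of k))} {B : Type u} [CommRing B] [Algebra k B]
    (φ : B →+* Γ(T.left, ⊤)) (h) (b : B) : (toO (T := T) φ h).left.appTop (gam b) = φ b := by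
  show (T.left.toSpecΓ ≫ Spec.map (CommRingCat.ofHom φ)).appTop (gam b) = φ b
  simp only [Scheme.Hom.comp_appTop, CommRingCat.hom_comp, RingHom.comp_apply]
  have := RingHom.congr_fun (congrArg CommRingCat.Hom.hom
    (Scheme.ΓSpecIso_inv_naturality (CommRingCat.ofHom φ))) b
  simp only [CommRingCat.hom_comp, RingHom.comp_apply] at this
  erw [← this]
  simp only [Scheme.toSpecΓ_appTop]
  exact RingHom.congr_fun (congrArg CommRingCat.Hom.hom (Scheme.ΓSpecIso Γ(T.left, ⊤)).inv_hom_id) (φ b)

/-- The unit object as a spectrum. -/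
noncomputable def pt0 : 𝟙_ (Over (Spec (CommRingCat.of k))) ⟶ O k k :=
  Over.homMk (Spec.map (CommRingCat.ofHom (RingHom.id k))) (by
    show Spec.map _ ≫ Spec.map _ = 𝟙 _
    rw [← Spec.map_comp, ← Spec.map_id]
    rfl)

lemma toUnit_pt0 (B : Type u) [CommRing B] [Algebra k B] :
    toUnit (O k B) ≫ pt0 = sp (Algebra.ofId k B) := by
  apply Over.OverMorphism.ext
  show Spec.map _ ≫ Spec.map _ = Spec.map _
  rw [← Spec.map_comp, ← CommRingCat.ofHom_comp]
  rfl

/-- A point fixed by the coordinate point is fixed. -/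
theorem isFixedPt_of_coord (a : AlgGrp.Action G X) (x : 𝟙_ (Over (Spec (CommRingCat.of k))) ⟶ X)
    {B : Type u} [CommRing B] [Algebra k B] (p : O k B ⟶ G)
    (huniv : ∀ (T : Over (Spec (CommRingCat.of k))) (g : T ⟶ G), ∃ t : T ⟶ O k B, t ≫ p = g)
    (h : lift p (toUnit _ ≫ x) ≫ a.act = toUnit _ ≫ x) : a.IsFixedPt x := by
  intro T g
  obtain ⟨t, rfl⟩ := huniv T g
  have := t ≫= h
  rwa [comp_lift_assoc, comp_toUnit_assoc] at this

theorem exists_lift [IsProper X.hom] (R K : Type u) [CommRing R] [IsDomain R] [ValuationRing R]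
    [Field K] [Algebra k R] [Algebra k K] [Algebra R K] [IsScalarTower k R K] [IsFractionRing R K]
    (z : O k K ⟶ X) :
    ∃ ψ : O k R ⟶ X, sp (IsScalarTower.toAlgHom k R K) ≫ ψ = z := by
  obtain ⟨l, hl₁, hl₂⟩ := AbVarLib.ExtendCurve.exists_lift_valuation X.hom (CommRingCat.of R)
    (CommRingCat.of K) (Field.toIsField K) (CommRingCat.ofHom (algebraMap R K))
    (by
      show @IsFractionRing R _ K _ (algebraMap R K).toAlgebra
      rw [show (algebraMap R K).toAlgebra = ‹Algebra R K› from Algebra.algebra_ext _ _ fun r => rfl]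
      assumption) z.left
    (Spec.map (CommRingCat.ofHom (algebraMap k R))) (by
      rw [Over.w, ← Spec.map_comp, ← CommRingCat.ofHom_comp]
      exact congrArg (fun f => Spec.map (CommRingCat.ofHom f)) (IsScalarTower.algebraMap_eq k R K))
  exact ⟨Over.homMk l hl₂, Over.OverMorphism.ext hl₁⟩

theorem exists_fixed [IsProper X.hom] (a : AlgGrp.Action G X)
    (x₀ : 𝟙_ (Over (Spec (CommRingCat.of k))) ⟶ X)
    (B : Type u) [CommRing B] [IsDomain B] [Algebra k B] (p : O k B ⟶ G)
    (huniv : ∀ (T : Over (Spec (CommRingCat.of k))) (g : T ⟶ G), ∃ t : T ⟶ O k B, t ≫ p = g)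
    (e : PowerSeries B) (he : PowerSeries.constantCoeff e = 0) (hne : e ≠ 0)
    (y : O k (FractionRing (PowerSeries k)) ⟶ G)
    (hy : ∀ (ι₁ ι₂ : FractionRing (PowerSeries k) →ₐ[k] FractionRing (PowerSeries B)),
      (∀ f, ι₁ (algebraMap _ _ f) = algebraMap (PowerSeries B) _ (sub (k := k) e he f)) →
      (∀ f, ι₂ (algebraMap _ _ f) = algebraMap (PowerSeries B) _
        (sub (k := k) (PowerSeries.X : PowerSeries B) PowerSeries.constantCoeff_X f)) →
      sp ι₁ ≫ y = (sp (cst B) ≫ p) * (sp ι₂ ≫ y)) :
    ∃ x, a.IsFixedPt x := by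
  obtain ⟨ψ, hψ⟩ := exists_lift (X := X) (PowerSeries k) (FractionRing (PowerSeries k))
    (lift y (toUnit _ ≫ x₀) ≫ a.act)
  have hcore := core a x₀ B p e he hne y hy ψ hψ
  refine ⟨pt0 ≫ sp (ccA k) ≫ ψ, isFixedPt_of_coord a _ p huniv ?_⟩
  rw [← Category.assoc (toUnit (O k B)), toUnit_pt0]
  exact hcore

theorem exists_fixed_ga [IsProper X.hom] (a : AlgGrp.Action (Red.Ga (Spec (CommRingCat.of k))) X)
    (x₀ : 𝟙_ (Over (Spec (CommRingCat.of k))) ⟶ X) : ∃ x, a.IsFixedPt x := by
  let B := Polynomial k
  obtain ⟨p, hp⟩ := RedPts.ga_surjective (S := Spec (CommRingCat.of k)) (X := O k B) (gam (Polynomial.X : B))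
  let K := FractionRing (PowerSeries k)
  let u : K := algebraMap (PowerSeries k) K PowerSeries.X
  obtain ⟨y, hy⟩ := RedPts.ga_surjective (S := Spec (CommRingCat.of k)) (X := O k K) (gam u⁻¹)
  let den : PowerSeries B := 1 + PowerSeries.C (Polynomial.X : B) * PowerSeries.X
  let inv : PowerSeries B := PowerSeries.invOfUnit den 1
  have hinv : den * inv = 1 := PowerSeries.mul_invOfUnit _ _ (by simp [den])
  refine exists_fixed a x₀ B p (fun T g => ?_) (PowerSeries.X * inv) (by simp)
    (mul_ne_zero PowerSeries.X_ne_zero fun h0 => by simp [h0] at hinv) y fun ι₁ ι₂ h₁ h₂ => ?_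
  · refine ⟨toO (Polynomial.eval₂RingHom (str T) (Red.gaFn g))
      (RingHom.ext fun r => by
        show Polynomial.eval₂ (str T) (Red.gaFn g) (Polynomial.C r) = str T r
        simp), RedPts.ga_injective ?_⟩
    rw [RedPts.ga_comp, hp, toO_gam]
    exact Polynomial.eval₂_X _ _
  · apply RedPts.ga_injective
    rw [RedPts.ga_mul, RedPts.ga_comp, RedPts.ga_comp, RedPts.ga_comp, hp, hy, sp_gam, sp_gam, sp_gam,
      ← map_add]
    congr 1
    rw [map_inv₀, map_inv₀, h₁, h₂, sub_X, sub_X, cst_apply]
    set K' := FractionRing (PowerSeries B)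
    set j := algebraMap (PowerSeries B) K'
    have hne : j PowerSeries.X ≠ 0 := fun h0 => PowerSeries.X_ne_zero
      (IsFractionRing.injective (PowerSeries B) K' (by rw [h0, map_zero]))
    have hi : j den * j inv = 1 := by rw [← map_mul, hinv, map_one]
    have hd : j den = 1 + j (PowerSeries.C (Polynomial.X : B)) * j PowerSeries.X := by
      simp [den]
    rw [map_mul, _root_.mul_inv, inv_eq_of_mul_eq_one_left hi, hd]
    field_simp
    ring

theorem exists_fixed_gm [IsProper X.hom] (a : AlgGrp.Action (Red.Gm (Spec (CommRingCat.of k))) X)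
    (x₀ : 𝟙_ (Over (Spec (CommRingCat.of k))) ⟶ X) : ∃ x, a.IsFixedPt x := by
  let B := LaurentPolynomial k
  have hT : IsUnit (LaurentPolynomial.T 1 : B) := LaurentPolynomial.isUnit_T _
  obtain ⟨p, hp⟩ := RedPts.gm_surjective (S := Spec (CommRingCat.of k)) (X := O k B) (hT.map gam)
  let K := FractionRing (PowerSeries k)
  let u : K := algebraMap (PowerSeries k) K PowerSeries.X
  have hu : u ≠ 0 := fun h0 => PowerSeries.X_ne_zero
    (IsFractionRing.injective (PowerSeries k) K (h0.trans (map_zero _).symm))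
  obtain ⟨y, hy⟩ := RedPts.gm_surjective (S := Spec (CommRingCat.of k)) (X := O k K)
    ((isUnit_iff_ne_zero.mpr hu).map gam)
  refine exists_fixed a x₀ B p (fun T g => ?_)
    (PowerSeries.C (LaurentPolynomial.T 1 : B) * PowerSeries.X) (by simp)
    (mul_ne_zero (fun h0 => hT.ne_zero (PowerSeries.C_injective (h0.trans (map_zero _).symm)))
      PowerSeries.X_ne_zero) y fun ι₁ ι₂ h₁ h₂ => ?_
  · refine ⟨toO (LaurentPolynomial.eval₂ (str T) (RedPts.gm_isUnit g).unit)
      (RingHom.ext fun r => by
        show LaurentPolynomial.eval₂ _ _ (algebraMap k (LaurentPolynomial k) r) = str T r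
        rw [← LaurentPolynomial.C_eq_algebraMap, LaurentPolynomial.eval₂_C]), RedPts.gm_injective ?_⟩
    rw [RedPts.gm_comp, hp, toO_gam]
    show LaurentPolynomial.eval₂ _ _ (LaurentPolynomial.T 1) = Red.gmFn g
    rw [LaurentPolynomial.eval₂_T, zpow_one]
    rfl
  · apply RedPts.gm_injective
    rw [RedPts.gm_mul, RedPts.gm_comp, RedPts.gm_comp, RedPts.gm_comp, hp, hy, sp_gam, sp_gam, sp_gam,
      ← map_mul]
    congr 1
    rw [h₁, h₂, sub_X, sub_X, cst_apply, ← map_mul]

/-- The case of a one-dimensional group. Let k be a field, X a proper k-scheme having a k-rational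
point, and G a k-group scheme isomorphic, as a k-group scheme, to the additive group or to the
multiplicative group over k. Then every action of G on X fixes some k-rational point of X: there is
a k-point x with g · x = x for all points g of G with values in any k-scheme. (This is the
one-dimensional case of the fixed point property of k-split solvable groups acting on proper
k-schemes with a rational point, to which the general case reduces by induction along a composition
series.) -/
theorem result (k : Type u) [Field k]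
    (G X : Over (Spec (CommRingCat.of k))) [GrpObj G]
    (hG : Nonempty (Grp.mk G ≅ Grp.mk (Red.Ga (Spec (CommRingCat.of k)))) ∨ Nonempty (Grp.mk G ≅ Grp.mk (Red.Gm (Spec (CommRingCat.of k)))))
    [IsProper X.hom] (x₀ : 𝟙_ (Over (Spec (CommRingCat.of k))) ⟶ X) (a : AlgGrp.Action G X) :
    ∃ x : 𝟙_ (Over (Spec (CommRingCat.of k))) ⟶ X, a.IsFixedPt x := by
  have key : ∀ (G' : Over (Spec (CommRingCat.of k))) [GrpObj G'], Nonempty (Grp.mk G ≅ Grp.mk G') →
      (∀ a' : AlgGrp.Action G' X, ∃ x, a'.IsFixedPt x) →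
      ∃ x : 𝟙_ (Over (Spec (CommRingCat.of k))) ⟶ X, a.IsFixedPt x := by
    intro G' _ ⟨i⟩ h
    let f : G' ⟶ G := ((Grp.forget _).mapIso i).inv
    let g : G ⟶ G' := ((Grp.forget _).mapIso i).hom
    have hfg : g ≫ f = 𝟙 G := ((Grp.forget _).mapIso i).hom_inv_id
    have : IsMonHom f := inferInstanceAs (IsMonHom i.inv.hom.hom)
    let a' : AlgGrp.Action G' X :=
      { act := (f ▷ X) ≫ a.act
        one_act := by rw [← comp_whiskerRight_assoc, IsMonHom.one_hom]; exact a.one_act
        mul_act := by
          rw [← comp_whiskerRight_assoc, IsMonHom.mul_hom, comp_whiskerRight_assoc, a.mul_act,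
            ← MonoidalCategory.tensorHom_id, associator_naturality_assoc,
            MonoidalCategory.tensorHom_id, ← MonoidalCategory.id_tensorHom,
            MonoidalCategory.tensorHom_comp_tensorHom_assoc, Category.comp_id,
            MonoidalCategory.tensorHom_def', Category.assoc] }
    obtain ⟨x, hx⟩ := h a'
    refine ⟨x, fun T t => ?_⟩
    have h1 := hx T (t ≫ g)
    rw [show a'.act = (f ▷ X) ≫ a.act from rfl, lift_whiskerRight_assoc, Category.assoc, hfg,
      Category.comp_id] at h1
    exact h1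
  rcases hG with h | h
  · exact key _ h fun a' => exists_fixed_ga a' x₀
  · exact key _ h fun a' => exists_fixed_gm a' x₀

end Groth.Agent.S15592
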