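import Groth.Statements.S15594
import Mathlib.LinearAlgebra.Basis.VectorSpace
import Mathlib.LinearAlgebra.TensorProduct.Basis
import Mathlib.RingTheory.TensorProduct.Maps
import Mathlib.LinearAlgebra.TensorProduct.RightExactness
-- import your own Groth.Agent.* helpers here

set_option autoImplicit false
universe u
open TensorProduct
open AGF

namespace Groth.Agent.S15594

/-- Affine form. Let k ⊆ K be a field extension, A a commutative k-algebra and S a set of k-algebra
homomorphisms A → k (rational points of Spec A). The ideal ⋂_{σ ∈ S} ker σ cuts out the Zariski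
closure of S with its reduced structure, and its extension to K ⊗_k A equals ⋂_{σ ∈ S} ker σ_K,
where σ_K : K ⊗_k A → K is the K-algebra map induced by σ. In words: the closure of a set of
rational points is formed compatibly with extension of the ground field. (The published statement is
for schemes locally of finite type; this affine row assumes no finiteness, which the argument does
not use.) -/
theorem result (k K A : Type u) [Field k] [Field K] [Algebra k K]
    [CommRing A] [Algebra k A] (S : Set (A →ₐ[k] k)) :
    Ideal.map (Algebra.TensorProduct.includeRight : A →ₐ[k] K ⊗[k] A) (⨅ σ ∈ S, RingHom.ker σ) =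
      ⨅ σ ∈ S, RingHom.ker ((Algebra.TensorProduct.rid k K K).toAlgHom.comp
        (Algebra.TensorProduct.map (AlgHom.id K K) σ)) := by
  classical
  refine le_antisymm (Ideal.map_le_iff_le_comap.mpr fun a ha => ?_) fun x hx => ?_
  · simp only [Ideal.mem_comap, Submodule.mem_iInf, RingHom.mem_ker] at ha ⊢
    intro σ hσ
    simp [ha σ hσ]
  · obtain ⟨ι, b⟩ : Σ ι : Type u, Module.Basis ι k K := ⟨_, Module.Basis.ofVectorSpace k K⟩
    obtain ⟨c, rfl⟩ := TensorProduct.eq_repr_basis_left b x
    simp only [Submodule.mem_iInf, RingHom.mem_ker] at hx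
    refine Submodule.sum_mem _ fun i _ => ?_
    have hc : c i ∈ (⨅ σ ∈ S, RingHom.ker σ : Ideal A) := by
      simp only [Submodule.mem_iInf, RingHom.mem_ker]
      intro σ hσ
      have h := hx σ hσ
      simp [Finsupp.sum, map_sum] at h
      have hsum : b.repr (c.sum fun j n => σ n • b j) i = σ (c i) := by
        simp [Finsupp.sum, map_sum, Finsupp.single_apply]
        exact fun hi => by simp [hi]
      rw [← hsum]
      have : (c.sum fun j n => σ n • b j) = 0 := h
      simp [this]
    have e : b i ⊗ₜ[k] c i = (b i ⊗ₜ[k] (1 : A)) * ((1 : K) ⊗ₜ[k] c i) := by simp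
    show b i ⊗ₜ[k] c i ∈ _
    rw [e]
    exact Ideal.mul_mem_left _ _ (Ideal.mem_map_of_mem _ hc)

end Groth.Agent.S15594
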