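import Groth.Statements.S15595
import Mathlib
import Groth.Agent.S0565

set_option autoImplicit false
universe u
open TensorProduct
attribute [local instance] RingHom.ker_isPrime
open CAlg

namespace Groth.Agent.S15595

/-- Let k ⊆ K be a field extension and A a Noetherian local k-algebra with residue field k, recorded by
a k-algebra map π : A → k whose kernel is the maximal ideal. Let π_K : K ⊗_k A → K be the induced
K-algebra map, m' its kernel, and A' the localization of K ⊗_k A at m'. Assume A' is Noetherian.
Then A is a regular local ring if and only if A' is a regular local ring. -/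
theorem result (k K A : Type u) [Field k] [Field K]
    [Algebra k K] [CommRing A] [Algebra k A] [IsLocalRing A] [IsNoetherianRing A]
    (π : A →ₐ[k] k) (hπ : RingHom.ker π = IsLocalRing.maximalIdeal A)
    [IsNoetherianRing (Localization.AtPrime (RingHom.ker
      ((Algebra.TensorProduct.rid k K K).toAlgHom.comp (Algebra.TensorProduct.map (AlgHom.id K K) π))))] :
    IsRegularLocalRing A ↔ IsRegularLocalRing (Localization.AtPrime (RingHom.ker
      ((Algebra.TensorProduct.rid k K K).toAlgHom.comp (Algebra.TensorProduct.map (AlgHom.id K K) π)))) := by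
  let πK := (Algebra.TensorProduct.rid k K K).toAlgHom.comp (Algebra.TensorProduct.map (AlgHom.id K K) π)
  let f : A →+* K ⊗[k] A := (Algebra.TensorProduct.includeRight : A →ₐ[k] K ⊗[k] A).toRingHom
  letI : Algebra A (K ⊗[k] A) := f.toAlgebra
  have hπs : Function.Surjective π := fun c => ⟨algebraMap k A c, by rw [AlgHom.commutes]; rfl⟩
  have hkerK : RingHom.ker πK = (IsLocalRing.maximalIdeal A).map f := by
    rw [← hπ]
    refine Eq.trans ?_ (Algebra.TensorProduct.lTensor_ker (A := K) π hπs)
    ext x
    simp only [RingHom.mem_ker]
    exact EmbeddingLike.map_eq_zero_iff (f := Algebra.TensorProduct.rid k K K)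
  haveI : (RingHom.ker πK).IsPrime := inferInstance
  let A' := Localization.AtPrime (RingHom.ker πK)
  let g : A →+* A' := (algebraMap (K ⊗[k] A) A').comp f
  have hmax : (IsLocalRing.maximalIdeal A).map g = IsLocalRing.maximalIdeal A' := by
    change Ideal.map ((algebraMap (K ⊗[k] A) A').comp f) _ = _
    rw [← Ideal.map_map, ← hkerK, Localization.AtPrime.map_eq_maximalIdeal]
  have hflat : f.Flat := by
    have e : f = (Algebra.TensorProduct.comm k A K).toRingEquiv.toRingHom.comp
        (algebraMap A (A ⊗[k] K)) := by
      ext a; simp [f]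
    rw [e]
    exact RingHom.Flat.comp (RingHom.flat_algebraMap_iff.mpr inferInstance)
      (RingHom.Flat.of_bijective (Algebra.TensorProduct.comm k A K).bijective)
  have hgflat : g.Flat := hflat.comp (RingHom.flat_algebraMap_iff.mpr
    (IsLocalization.flat A' (RingHom.ker πK).primeCompl))
  have hlocal : IsLocalHom g := by
    refine ⟨fun a ha => ?_⟩
    by_contra hna
    have : g a ∈ (IsLocalRing.maximalIdeal A).map g :=
      Ideal.mem_map_of_mem _ ((IsLocalRing.mem_maximalIdeal a).mpr hna)
    rw [hmax] at this
    exact (IsLocalRing.mem_maximalIdeal _).mp this ha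
  have hg : algebraMap A A' = g := IsScalarTower.algebraMap_eq A (K ⊗[k] A) A'
  haveI : Module.Flat A A' := RingHom.flat_algebraMap_iff.mp (hg ▸ hgflat)
  haveI : IsLocalHom (algebraMap A A') := hg ▸ hlocal
  haveI : IsNoetherianRing A' := ‹_›
  change IsRegularLocalRing A ↔ IsRegularLocalRing A'
  constructor
  · intro hA
    apply IsRegularLocalRing.of_spanFinrank_maximalIdeal_le
    haveI : (IsLocalRing.maximalIdeal A').LiesOver (IsLocalRing.maximalIdeal A) :=
      ⟨(IsLocalRing.maximalIdeal_comap (algebraMap A A')).symm⟩
    have hdim : ringKrullDim A ≤ ringKrullDim A' := by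
      rw [← IsLocalRing.maximalIdeal_height_eq_ringKrullDim,
        ← IsLocalRing.maximalIdeal_height_eq_ringKrullDim]
      exact WithBot.coe_le_coe.mpr (le_self_add.trans_eq
        (Ideal.height_eq_height_add_of_liesOver_of_hasGoingDown (IsLocalRing.maximalIdeal A)
          (IsLocalRing.maximalIdeal A')).symm)
    refine le_trans ?_ ((isRegularLocalRing_iff A).mp hA ▸ hdim)
    have : (IsLocalRing.maximalIdeal A').spanFinrank ≤ (IsLocalRing.maximalIdeal A).spanFinrank := by
      have hfg := IsNoetherian.noetherian (IsLocalRing.maximalIdeal A)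
      rw [← hmax, ← hfg.generators_ncard]
      conv_lhs => rw [← Submodule.span_generators (IsLocalRing.maximalIdeal A)]
      rw [Ideal.submodule_span_eq, Ideal.map_span]
      exact le_trans (Submodule.spanFinrank_span_le_ncard_of_finite (hfg.finite_generators.image _))
        (Set.ncard_image_le hfg.finite_generators)
    exact_mod_cast this
  · intro hA'
    exact Groth.Agent.S0565.result A A'

end Groth.Agent.S15595
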