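import Groth.Statements.S15596
import Groth.Agent.GrpScheme.DenseOpen
import Groth.Agent.GrpScheme.Smooth
import Groth.Agent.GrpScheme.IdSubgroup

set_option autoImplicit false
universe u
open CategoryTheory MonoidalCategory CartesianMonoidalCategory MonObj GrpObj AlgebraicGeometry
open AlgGrp

namespace Groth.Agent.S15596

/-- Let k be an algebraically closed field, H a smooth k-group scheme of finite type, and U a dense open
subset of H. Then every k-rational point h of H is of the form u₂ · u₁⁻¹ for k-rational points u₁,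
u₂ of H whose underlying points lie in U. -/
theorem result (k : Type u) [Field k] [IsAlgClosed k]
    (H : Over (Spec (CommRingCat.of k))) [GrpObj H] [Smooth H.hom] [QuasiCompact H.hom]
    (U : H.left.Opens) (hU : Dense (U : Set ↥H.left)) (h : 𝟙_ (Over (Spec (CommRingCat.of k))) ⟶ H) :
    ∃ u₁ u₂ : 𝟙_ (Over (Spec (CommRingCat.of k))) ⟶ H,
      u₁.left.base (IsLocalRing.closedPoint k) ∈ U ∧ u₂.left.base (IsLocalRing.closedPoint k) ∈ U ∧
        h = u₂ * u₁⁻¹ := by
  let τ := lift (toUnit H ≫ h) (𝟙 H) ≫ μ[H]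
  let τ' := lift (toUnit H ≫ h⁻¹) (𝟙 H) ≫ μ[H]
  have htt : ∀ f : H ⟶ H, f ≫ toUnit H = toUnit H := fun f => toUnit_unique _ _
  have : IsIso τ := ⟨τ', by simp [τ, τ', ← Hom.mul_def, MonObj.comp_mul, reassoc_of% htt, GrpObj.comp_inv],
    by simp [τ, τ', ← Hom.mul_def, MonObj.comp_mul, reassoc_of% htt, GrpObj.comp_inv]⟩
  have : IsIso τ.left := GrpScheme.Basic.isIso_left τ
  have hO : Dense ((U : Set H.left) ∩ τ.left ⁻¹' (U : Set H.left)) :=
    hU.inter_of_isOpen_left (hU.preimage τ.left.homeomorph.isOpenMap) U.2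
  have : Nonempty H.left := ⟨η[H].left (IsLocalRing.closedPoint k)⟩
  have : JacobsonSpace H.left := LocallyOfFiniteType.jacobsonSpace H.hom
  obtain ⟨y, ⟨hy1, hy2⟩, hyc⟩ := nonempty_inter_closedPoints hO.nonempty
    (U.2.inter (U.2.preimage τ.left.continuous)).isLocallyClosed
  let P := (pointEquivClosedPoint H.hom).symm ⟨y, hyc⟩
  let u₁ : 𝟙_ _ ⟶ H := Over.homMk P.1 P.2
  have hu : u₁.left (IsLocalRing.closedPoint k) = y :=
    congr(($((pointEquivClosedPoint H.hom).apply_symm_apply ⟨y, hyc⟩)).1)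
  refine ⟨u₁, h * u₁, ?_, ?_, (mul_inv_cancel_right h u₁).symm⟩
  · show u₁.left (IsLocalRing.closedPoint k) ∈ U
    rw [hu]; exact hy1
  · have e : h * u₁ = u₁ ≫ τ := by
      simp only [τ, ← Hom.mul_def, MonObj.comp_mul, Category.comp_id]
      rw [← Category.assoc, toUnit_unique (u₁ ≫ toUnit H) (𝟙 _), Category.id_comp]
    show (h * u₁).left (IsLocalRing.closedPoint k) ∈ U
    rw [e]; erw [GrpScheme.Points.comp_apply, hu]; exact hy2

end Groth.Agent.S15596
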