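import Groth.Statements.S15597
import Groth.Agent.AllSS81.Transport
import Groth.Agent.AllSS81.Pts
import Groth.Agent.AllSS81.BorelComm

set_option autoImplicit false
universe u v
open HopfRep

namespace Groth.Agent.S15597

/-- Let k be an algebraically closed field and G = Spec A a smooth connected affine k-group, that is, A
is a finitely generated commutative Hopf algebra over k which is reduced and has no idempotents
other than 0 and 1; commutativity of G is not assumed. If every k-point of G is semisimple, in the
sense that it acts semisimply in every finite-dimensional A-comodule, then G is a torus: A is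
spanned over k by its group-like elements. (The published statement is over an arbitrary field, with
the hypothesis on the points over an algebraic closure; this row is the algebraically closed case.) -/
theorem result (k : Type u) (A : Type v) [Field k]
    [IsAlgClosed k] [CommRing A] [HopfAlgebra k A] [Algebra.FiniteType k A] [IsReduced A]
    (hconn : ∀ e : A, IsIdempotentElem e → e = 0 ∨ e = 1)
    (hss : ∀ (g : A →ₐ[k] k) (V : Type v) [AddCommGroup V] [Module k V] [HopfRep.Comod k A V],
      Module.Finite k V → Module.End.IsSemisimple (HopfRep.Comod.act k A V g)) :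
    HopfRep.IsDiagonalizable k A := by
  obtain ⟨B, _, _, ⟨e⟩⟩ := AllSS81.exists_small k A
  haveI : Algebra.FiniteType k B :=
    Algebra.FiniteType.equiv ‹Algebra.FiniteType k A› e.toAlgEquiv.symm
  haveI : IsReduced B := isReduced_of_injective e.toAlgEquiv e.toAlgEquiv.injective
  have hconnB : ∀ b : B, IsIdempotentElem b → b = 0 ∨ b = 1 := fun b hb => by
    rcases hconn (e.toAlgEquiv b) (hb.map e.toAlgEquiv) with h | h
    · exact Or.inl (e.toAlgEquiv.injective (h.trans (map_zero _).symm))
    · exact Or.inr (e.toAlgEquiv.injective (h.trans (map_one _).symm))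
  let φ : LieKolchin.Pts k B →* LieKolchin.Pts k A :=
    { toFun := fun x => WithConv.toConv (x.ofConv.comp ((e.symm : A →ₐc[k] B) : A →ₐ[k] B))
      map_one' := WithConv.ofConv_injective (AlgHom.ext fun a => by simp)
      map_mul' := fun x y => congrArg WithConv.toConv (AlgHom.convMul_comp_bialgHom_distrib x y _) }
  have hφ : Function.Injective φ := fun x y h => WithConv.ofConv_injective (AlgHom.ext fun b => by
    have h' := congrArg (fun w : LieKolchin.Pts k A => w.ofConv (e b)) h
    simpa [φ] using h')
  have hsurj : Function.Surjective φ := fun x =>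
    ⟨WithConv.toConv (x.ofConv.comp ((e : B →ₐc[k] A) : B →ₐ[k] A)),
      WithConv.ofConv_injective (AlgHom.ext fun a => by simp [φ])⟩
  have hB : ∀ x y : LieKolchin.Pts k B, x * y = y * x := by
    refine AllSS81.comm_of_solvable_comm hconnB fun S hsol hS x hx y hy => hφ ?_
    obtain ⟨n, hn⟩ := hsol
    have hmap : ∃ n, derivedSeries (S.map φ) n = ⊥ := ⟨n, by
      rw [← map_derivedSeries_eq (S.equivMapOfInjective φ hφ).surjective (f := (S.equivMapOfInjective φ hφ).toMonoidHom),
        hn, Subgroup.map_bot]⟩
    let := LieKolchin.zariski (k := k) (A := B)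
    let := LieKolchin.zariski (k := k) (A := A)
    have hc : Continuous φ := by
      refine continuous_induced_rng.2 ?_
      have : LieKolchin.toPrime ∘ φ =
          PrimeSpectrum.comap ((e.symm : A →ₐc[k] B) : A →ₐ[k] B).toRingHom ∘ LieKolchin.toPrime := by
        funext z
        apply PrimeSpectrum.ext
        rfl
      rw [this]
      exact (PrimeSpectrum.continuous_comap _).comp continuous_induced_dom
    rw [map_mul, map_mul]
    exact AllSS81.comm_of_solvable hss (S.map φ) hmap (hS.image φ hc.continuousOn) _ ⟨x, hx, rfl⟩ _ ⟨y, hy, rfl⟩
  refine AllSS81.isDiagonalizable_of_comm hss fun x y => ?_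
  obtain ⟨x, rfl⟩ := hsurj x
  obtain ⟨y, rfl⟩ := hsurj y
  rw [← map_mul, ← map_mul, hB]

end Groth.Agent.S15597
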