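import Groth.Statements.S15598
import Groth.Agent.GrpScheme.IdComponent
import Groth.Agent.GrpScheme.ClosedImage
import Groth.Agent.GrpScheme.Rosenlicht.Scheme
import Groth.Agent.CurveCoh.Integral
-- import your own Groth.Agent.* helpers here

set_option autoImplicit false
universe u
open CategoryTheory MonoidalCategory CartesianMonoidalCategory MonObj GrpObj AlgebraicGeometry
open AlgGrp

namespace Groth.Agent.S15598

open Limits TopologicalSpace Groth.Agent.GrpScheme

variable {k : Type u} [Field k]

/-- The point of the base. -/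
noncomputable abbrev pt0 (k : Type u) [Field k] : (𝟙_ (Over (Spec (CommRingCat.of k)))).left :=
  IsLocalRing.closedPoint k

section Translate

variable {G : Over (Spec (CommRingCat.of k))} [GrpObj G]

/-- `x ↦ a x b⁻¹`. -/
noncomputable def biTrans (a b : 𝟙_ (Over (Spec (CommRingCat.of k))) ⟶ G) : G ≅ G where
  hom := (toUnit G ≫ a) * 𝟙 G * (toUnit G ≫ b)⁻¹
  inv := (toUnit G ≫ a)⁻¹ * 𝟙 G * (toUnit G ≫ b)
  hom_inv_id := by
    simp only [MonObj.comp_mul, GrpObj.comp_inv, comp_toUnit_assoc, Category.comp_id]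
    group
  inv_hom_id := by
    simp only [MonObj.comp_mul, GrpObj.comp_inv, comp_toUnit_assoc, Category.comp_id]
    group

lemma comp_biTrans (a b h : 𝟙_ (Over (Spec (CommRingCat.of k))) ⟶ G) :
    h ≫ (biTrans a b).hom = a * h * b⁻¹ := by
  simp [biTrans, MonObj.comp_mul, GrpObj.comp_inv]

/-- `y ↦ g • y`. -/
noncomputable def actTrans {X : Over (Spec (CommRingCat.of k))} (ac : AlgGrp.Action G X)
    (g : 𝟙_ (Over (Spec (CommRingCat.of k))) ⟶ G) : X ≅ X where
  hom := Basic.smul ac (toUnit X ≫ g) (𝟙 X)
  inv := Basic.smul ac (toUnit X ≫ g)⁻¹ (𝟙 X)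
  hom_inv_id := by
    rw [Basic.comp_smul, GrpObj.comp_inv, comp_toUnit_assoc, Category.comp_id]
    exact Basic.inv_smul_smul' ac _ _
  inv_hom_id := by
    rw [Basic.comp_smul, comp_toUnit_assoc, Category.comp_id]
    exact Basic.smul_inv_smul' ac _ _

end Translate

variable [IsAlgClosed k]

lemma exists_pt (X : Over (Spec (CommRingCat.of k))) [LocallyOfFiniteType X.hom] (x : X.left)
    (hx : IsClosed ({x} : Set X.left)) :
    ∃ p : 𝟙_ (Over (Spec (CommRingCat.of k))) ⟶ X, p.left (pt0 k) = x :=
  ⟨Over.homMk (pointOfClosedPoint X.hom x hx) (pointOfClosedPoint_comp X.hom x hx),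
    pointOfClosedPoint_apply X.hom x hx _⟩

omit [IsAlgClosed k] in
lemma pt_left_apply {T : Over (Spec (CommRingCat.of k))}
    (p : 𝟙_ (Over (Spec (CommRingCat.of k))) ⟶ T) (q : (𝟙_ (Over (Spec (CommRingCat.of k)))).left) :
    p.left q = p.left (pt0 k) :=
  congrArg p.left (Subsingleton.elim (α := Spec (CommRingCat.of k)) q (pt0 k))

lemma pt_ext (X : Over (Spec (CommRingCat.of k))) [LocallyOfFiniteType X.hom]
    (p q : 𝟙_ (Over (Spec (CommRingCat.of k))) ⟶ X) (h : p.left (pt0 k) = q.left (pt0 k)) : p = q :=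
  Over.OverMorphism.ext (ext_of_apply_closedPoint_eq X.hom (Over.w p) (Over.w q) h)


/-- Let k be an algebraically closed field, G a k-group scheme of finite type, and X a smooth connected
k-scheme with an action of G. Suppose that for some k-point x₀ of X the orbit map g ↦ g · x₀ from G
to X is surjective, and that the stabilizer of x₀, a subgroup scheme H ⟶ G whose points are exactly
the points g of G with g · x₀ = x₀, is connected. Then G is connected. (Stated over an algebraically
closed field, to which the general case reduces since a k-group scheme of finite type is connected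
exactly when it is geometrically connected.) -/
theorem result (k : Type u) [Field k] [IsAlgClosed k]
    (G X : Over (Spec (CommRingCat.of k))) [GrpObj G] [LocallyOfFiniteType G.hom] [QuasiCompact G.hom]
    [Smooth X.hom] [ConnectedSpace ↥X.left] (a : AlgGrp.Action G X) (x₀ : 𝟙_ (Over (Spec (CommRingCat.of k))) ⟶ X)
    (hsurj : Surjective (a.orbitMap x₀).left)
    (H : Over (Spec (CommRingCat.of k))) [GrpObj H] (i : H ⟶ G) [IsMonHom i] [Mono i]
    (hH : ∀ (T : Over (Spec (CommRingCat.of k))) (g : T ⟶ G), (∃ h : T ⟶ H, h ≫ i = g) ↔ g ≫ a.orbitMap x₀ = toUnit T ≫ x₀)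
    [ConnectedSpace ↥H.left] : ConnectedSpace ↥G.left := by
  set f := a.orbitMap x₀ with hfdef
  have : IsLocallyNoetherian G.left := LocallyOfFiniteType.isLocallyNoetherian G.hom
  have : CompactSpace G.left := QuasiCompact.compactSpace_of_compactSpace G.hom
  have : IsNoetherian G.left := { }
  have : NoetherianSpace G.left := inferInstance
  have : IsLocallyNoetherian X.left := LocallyOfFiniteType.isLocallyNoetherian X.hom
  have : CompactSpace X.left :=
    ⟨f.left.surjective.range_eq ▸ isCompact_range f.left.continuous⟩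
  have : IsNoetherian X.left := { }
  let : X.left.Over (Spec (CommRingCat.of k)) := ⟨X.hom⟩
  have : Smooth (X.left ↘ Spec (CommRingCat.of k)) := inferInstanceAs (Smooth X.hom)
  have : IrreducibleSpace X.left :=
    CurveCoh.irreducibleSpace_of_domain_stalks X.left (CurveCoh.isDomain_stalk k X.left)
  have : LocallyOfFiniteType (f.left ≫ X.hom) := by rw [Over.w f]; infer_instance
  have : LocallyOfFiniteType f.left := locallyOfFiniteType_of_comp f.left X.hom
  have : LocallyOfFinitePresentation f.left :=
    LocallyOfFinitePresentation.iff_locallyOfFiniteType.mpr inferInstance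
  have : QuasiCompact f.left := inferInstance
  have : JacobsonSpace G.left := LocallyOfFiniteType.jacobsonSpace G.hom
  have : JacobsonSpace X.left := LocallyOfFiniteType.jacobsonSpace X.hom
  -- some component has dense image
  have hfin : (irreducibleComponents G.left).Finite := NoetherianSpace.finite_irreducibleComponents
  obtain ⟨Z, hZ, hdense⟩ : ∃ Z ∈ irreducibleComponents G.left, closure (f.left '' Z) = Set.univ := by
    have hcov : (Set.univ : Set X.left) ⊆ ⋃₀ ((fun Z => closure (f.left '' Z)) '' irreducibleComponents G.left) := by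
      intro y _
      obtain ⟨z, rfl⟩ := f.left.surjective y
      exact ⟨_, ⟨_, irreducibleComponent_mem_irreducibleComponents z, rfl⟩,
        subset_closure ⟨z, mem_irreducibleComponent, rfl⟩⟩
    obtain ⟨z, hz₁, hz⟩ := (isIrreducible_iff_sUnion_isClosed (s := (Set.univ : Set X.left))).1
      (IrreducibleSpace.isIrreducible_univ _)
      (hfin.image (fun Z => closure (f.left '' Z))).toFinset
      (fun z hz => by
        obtain ⟨Z, -, rfl⟩ := (Set.Finite.mem_toFinset _).1 hz
        exact isClosed_closure) (by rw [Set.Finite.coe_toFinset]; exact hcov)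
    obtain ⟨Z, hZ, rfl⟩ := (Set.Finite.mem_toFinset _).1 hz₁
    exact ⟨Z, hZ, Set.univ_subset_iff.1 hz⟩
  have hZc : IsClosed Z := isClosed_of_mem_irreducibleComponents Z hZ
  have hZcon : Topology.IsConstructible Z :=
    Topology.isConstructible_compl.1 ((NoetherianSpace.isCompact _).isConstructible hZc.isOpen_compl)
  obtain ⟨U, hU, hUne, hUsub⟩ : ∃ U : Set X.left, IsOpen U ∧ U.Nonempty ∧ U ⊆ f.left '' Z := by
    obtain ⟨O, hO, hne, hsub⟩ := ClosedImage.exists_open_inter_closure_subset'
      (f.left.isLocallyConstructible_image hZcon.isLocallyConstructible)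
      (hZ.1.1.image f.left)
    rw [hdense, Set.inter_univ] at hsub
    exact ⟨O, hO, hne.mono Set.inter_subset_left, hsub⟩
  set C := irreducibleComponent (IdComponent.e₀ G) with hC
  have he₀ : (1 : 𝟙_ (Over (Spec (CommRingCat.of k))) ⟶ G).left (pt0 k) = IdComponent.e₀ G := by
    rw [Hom.one_def, toUnit_unit, Category.id_comp]
  have huniq : ∀ Y ∈ irreducibleComponents G.left, IdComponent.e₀ G ∈ Y → Y = C := fun Y hY hmem =>
    (Component.existsUnique_component G _).unique ⟨hY, hmem⟩
      ⟨irreducibleComponent_mem_irreducibleComponents _, mem_irreducibleComponent⟩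
  have hmapC : ∀ (e : G ≅ G) (Y : Set G.left), Y ∈ irreducibleComponents G.left →
      IdComponent.e₀ G ∈ e.hom.left '' Y → e.hom.left '' Y = C := by
    intro e Y hY hmem
    have := Basic.isIso_left e.hom
    refine huniq _ ?_ hmem
    let φ := e.hom.left.homeomorph
    show φ '' Y ∈ _
    rw [φ.image_eq_preimage_symm]
    exact preimage_mem_irreducibleComponents hY φ.symm.isOpenEmbedding
      (φ.symm.surjective.range_eq ▸ by simpa using hY.1.1)
  have hHC : Set.range i.left ⊆ C := by
    rw [hC, ← IdComponent.connectedComponent_eq G]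
    exact (isConnected_range i.left.continuous).subset_connectedComponent
      ⟨η[H].left (pt0 k), by rw [← Points.comp_apply, IsMonHom.one_hom]⟩
  -- every rational point lies in `C`
  have key : ∀ g : 𝟙_ (Over (Spec (CommRingCat.of k))) ⟶ G, g.left (pt0 k) ∈ C := by
    intro g
    have := Basic.isIso_left (actTrans a g).hom
    obtain ⟨y, hy, hyU⟩ := nonempty_preirreducible_inter hU
      (hU.preimage (actTrans a g).hom.left.continuous) hUne
      (hUne.preimage (actTrans a g).hom.left.homeomorph.surjective)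
    obtain ⟨u, hu, huc⟩ := nonempty_inter_closedPoints (Z := U ∩ (actTrans a g).hom.left ⁻¹' U)
      ⟨y, hy, hyU⟩ (hU.inter (hU.preimage (actTrans a g).hom.left.continuous)).isLocallyClosed
    obtain ⟨u', rfl⟩ := exists_pt X u huc
    have hlift : ∀ p : 𝟙_ (Over (Spec (CommRingCat.of k))) ⟶ X, p.left (pt0 k) ∈ U →
        ∃ b : 𝟙_ (Over (Spec (CommRingCat.of k))) ⟶ G, b.left (pt0 k) ∈ Z ∧ b ≫ f = p := by
      intro p hp
      obtain ⟨z, hz, hzp⟩ := hUsub hp
      have hpc : IsClosed ({p.left (pt0 k)} : Set X.left) := by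
        exact (pointEquivClosedPoint X.hom ⟨p.left, Over.w p⟩).2
      obtain ⟨w, ⟨hw, hwp⟩, hwc⟩ := nonempty_inter_closedPoints
        (Z := Z ∩ f.left ⁻¹' {p.left (pt0 k)}) ⟨z, hz, hzp⟩
        (hZc.inter (hpc.preimage f.left.continuous)).isLocallyClosed
      obtain ⟨b, rfl⟩ := exists_pt G w hwc
      exact ⟨b, hw, pt_ext X _ _ (by rw [Points.comp_apply]; exact hwp)⟩
    obtain ⟨b, hbZ, hb⟩ := hlift u' hu.1
    obtain ⟨c, hcZ, hc⟩ := hlift (u' ≫ (actTrans a g).hom) (by rw [Points.comp_apply]; exact hu.2)
    have hf' : ∀ q : 𝟙_ (Over (Spec (CommRingCat.of k))) ⟶ G, q ≫ f = Basic.smul a q x₀ := by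
      intro q
      rw [hfdef, AlgGrp.Action.orbitMap, comp_lift_assoc, Category.comp_id, ← Category.assoc,
        toUnit_unique (q ≫ toUnit G) (𝟙 _), Category.id_comp]
      rfl
    have hsm : ∀ p q : 𝟙_ (Over (Spec (CommRingCat.of k))) ⟶ G,
        (p * q) ≫ f = Basic.smul a p (q ≫ f) := by
      intro p q
      rw [hf', hf', Basic.mul_smul']
    have hstab : (c⁻¹ * g * b) ≫ f = toUnit _ ≫ x₀ := by
      have h1 : c ≫ f = (g * b) ≫ f := by
        rw [hc, hsm, hb, actTrans]
        show u' ≫ Basic.smul a (toUnit X ≫ g) (𝟙 X) = _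
        rw [Basic.comp_smul, comp_toUnit_assoc, toUnit_unit, Category.id_comp, Category.comp_id]
      have h2 : (1 : 𝟙_ (Over (Spec (CommRingCat.of k))) ⟶ G) ≫ f = toUnit _ ≫ x₀ := by
        rw [hf', Basic.one_smul', toUnit_unit, Category.id_comp]
      rw [_root_.mul_assoc, hsm, ← h1, ← hsm, inv_mul_cancel, h2]
    obtain ⟨h, hh⟩ := (hH _ _).2 hstab
    have hmem : (c⁻¹ * g * b).left (pt0 k) ∈ C := hHC ⟨h.left (pt0 k), by rw [← Points.comp_apply, hh]⟩
    have e1 : (biTrans c⁻¹ 1).hom.left '' Z = C := hmapC _ _ hZ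
      ⟨c.left (pt0 k), hcZ, by rw [← Points.comp_apply, comp_biTrans, inv_mul_cancel, inv_one, _root_.one_mul, he₀]⟩
    have hbC : (c⁻¹ * b).left (pt0 k) ∈ C := e1 ▸ ⟨b.left (pt0 k), hbZ, by
      rw [← Points.comp_apply, comp_biTrans, inv_one, _root_.mul_one]⟩
    have e2 : (biTrans c b).hom.left '' C = C :=
      hmapC _ _ (irreducibleComponent_mem_irreducibleComponents _) ⟨_, hbC, by
        rw [← Points.comp_apply, comp_biTrans, mul_inv_cancel_left, mul_inv_cancel, he₀]⟩
    rw [← e2]
    exact ⟨_, hmem, by rw [← Points.comp_apply, comp_biTrans]; congr 2; group⟩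
  have huniv : C = Set.univ := by
    refine Set.univ_subset_iff.1 ?_
    rw [← (closure_closedPoints (X := G.left))]
    refine closure_minimal (fun x hx => ?_) isClosed_irreducibleComponent
    obtain ⟨g, rfl⟩ := exists_pt G x hx
    exact key g
  have : _root_.IsConnected (Set.univ : Set G.left) := huniv ▸ isIrreducible_irreducibleComponent.isConnected
  exact connectedSpace_iff_univ.2 this

end Groth.Agent.S15598
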