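import Groth.Statements.S15603
import Groth.Agent.S8709
import Mathlib.RingTheory.TensorProduct.MonoidAlgebra
import Mathlib.Algebra.MonoidAlgebra.NoZeroDivisors
-- import your own Groth.Agent.* helpers here

set_option autoImplicit false
universe u
open CategoryTheory MonoidalCategory CartesianMonoidalCategory MonObj GrpObj AlgebraicGeometry
open AlgGrp

namespace Groth.Agent.S15603

open Limits Groth.Agent Groth.Agent.GrpScheme.Rosenlicht

/-- The base change of the group ring of `ℤ` to a field is integral. -/
theorem integral_aux (Z K : Type u) [CommRing Z] [Field K] [Algebra Z K] :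
    IsIntegral (Spec (CommRingCat.of (TensorProduct Z (MonoidAlgebra Z (Multiplicative ℤ)) K))) ∧
    Nonempty (pullback (Spec.map (CommRingCat.ofHom (algebraMap Z (MonoidAlgebra Z (Multiplicative ℤ)))))
        (Spec.map (CommRingCat.ofHom (algebraMap Z K))) ≅
      Spec (CommRingCat.of (TensorProduct Z (MonoidAlgebra Z (Multiplicative ℤ)) K))) := by
  let B : Type u := MonoidAlgebra Z (Multiplicative ℤ)
  let e' : TensorProduct Z B K ≃+* MonoidAlgebra K (Multiplicative ℤ) :=
    (Algebra.TensorProduct.comm Z B K).toRingEquiv.trans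
      (MonoidAlgebra.scalarTensorEquiv (M := Multiplicative ℤ) Z K).toRingEquiv
  have : IsDomain (MonoidAlgebra K (Multiplicative ℤ)) := NoZeroDivisors.to_isDomain _
  have : IsDomain (TensorProduct Z B K) := MulEquiv.isDomain (MonoidAlgebra K (Multiplicative ℤ)) e'.toMulEquiv
  exact ⟨(affine_isIntegral_iff (CommRingCat.of (TensorProduct Z B K))).2 ‹_›, ⟨pullbackSpecIso Z B K⟩⟩

theorem diag_finiteType (R : Type u) [CommRing R] :
    LocallyOfFiniteType (Red.diag R ℤ).hom ∧ QuasiCompact (Red.diag R ℤ).hom := by
  constructor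
  · show LocallyOfFiniteType (Spec.map _)
    rw [HasRingHomProperty.Spec_iff (P := @LocallyOfFiniteType)]
    exact RingHom.finiteType_algebraMap.mpr (inferInstanceAs (Algebra.FiniteType R (MonoidAlgebra R (Multiplicative ℤ))))
  · show QuasiCompact (Spec.map _)
    infer_instance

/-- `Gm` over a field is geometrically integral. -/
theorem geometrically_gm (k : Type u) [Field k] :
    GeometricallyReduced (Red.Gm (Spec (CommRingCat.of k))).hom ∧
      GeometricallyConnected (Red.Gm (Spec (CommRingCat.of k))).hom := by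
  have key : ∀ (K : Type u) [Field K] [Algebra k K],
      IsIntegral (pullback (Red.Gm (Spec (CommRingCat.of k))).hom
        (Spec.map (CommRingCat.ofHom (algebraMap k K)))) := by
    intro K _ _
    let Z := ULift.{u} ℤ
    let B : Type u := MonoidAlgebra Z (Multiplicative ℤ)
    let : Algebra Z K := ((Int.castRingHom K).comp ULift.ringEquiv.toRingHom).toAlgebra
    let g := Spec.map (CommRingCat.ofHom (algebraMap k K))
    obtain ⟨h1, e⟩ := integral_aux Z K
    let e : pullback (Red.Gm (Spec (CommRingCat.of k))).hom g ≅ _ :=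
      pullbackLeftPullbackSndIso (Red.diag Z ℤ).hom
          (IsTerminal.from specULiftZIsTerminal (Spec (CommRingCat.of k))) g ≪≫
        pullback.congrHom (show (Red.diag Z ℤ).hom = Spec.map (CommRingCat.ofHom (algebraMap Z B)) from
          specULiftZIsTerminal.hom_ext _ _)
          (show _ = Spec.map (CommRingCat.ofHom (algebraMap Z K)) from
            specULiftZIsTerminal.hom_ext _ _) ≪≫ e.some
    have := h1
    have : Nonempty ↥(pullback (Red.Gm (Spec (CommRingCat.of k))).hom g : Scheme.{u}) :=
      ⟨e.inv (Classical.arbitrary _)⟩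
    exact isIntegral_of_isOpenImmersion e.hom
  constructor
  · refine ⟨geometrically_iff_of_commRing_of_isClosedUnderIsomorphisms.mpr fun K _ _ => ?_⟩
    have := key K
    infer_instance
  · refine ⟨geometrically_iff_of_commRing_of_isClosedUnderIsomorphisms.mpr fun K _ _ => ?_⟩
    have := key K
    infer_instance

/-- Multiplicative case. Let k be a field and consider the affine line minus the origin over k, taken
here as the underlying k-scheme of the multiplicative group. Any two structures of k-group scheme on
it with the same unit section have the same multiplication; in particular a group law on the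
punctured line whose identity is the point 1 is the usual multiplication. -/
theorem result (k : Type u) [Field k]
    (h₁ h₂ : GrpObj (Red.Gm (Spec (CommRingCat.of k)))) (e : h₁.one = h₂.one) : h₁.mul = h₂.mul := by
  let S := Spec (CommRingCat.of k)
  let G := Red.Gm S
  obtain ⟨_, _⟩ := geometrically_gm k
  obtain ⟨_, _⟩ := diag_finiteType (ULift.{u} ℤ)
  have : LocallyOfFiniteType G.hom :=
    inferInstanceAs (LocallyOfFiniteType (pullback.snd (Red.diag (ULift.{u} ℤ) ℤ).hom _))
  have : QuasiCompact G.hom :=
    inferInstanceAs (QuasiCompact (pullback.snd (Red.diag (ULift.{u} ℤ) ℤ).hom _))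
  have hR : ∀ h : GrpObj G, sliceR G h.one ≫ h.mul = 𝟙 G := fun h => by
    let : GrpObj G := h
    show sliceR G η[G] ≫ μ[G] = 𝟙 G
    rw [sliceR, ← Hom.mul_def, ← Hom.one_def, _root_.mul_one]
  have hL : ∀ h : GrpObj G, sliceL G h.one ≫ h.mul = 𝟙 G := fun h => by
    let : GrpObj G := h
    show sliceL G η[G] ≫ μ[G] = 𝟙 G
    rw [sliceL, ← Hom.mul_def, ← Hom.one_def, _root_.one_mul]
  obtain ⟨v, hv⟩ := RedPts.gm_isUnit h₂.mul
  apply RedPts.gm_injective
  have key : ∀ s : G ⟶ G ⊗ G, s ≫ h₁.mul = s ≫ h₂.mul →
      s.left.appTop (Red.gmFn h₁.mul * ↑v⁻¹) = 1 := by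
    intro s hs
    show s.left.appTop.hom (Red.gmFn h₁.mul * ↑v⁻¹) = 1
    rw [map_mul, show s.left.appTop.hom (Red.gmFn h₁.mul) = s.left.appTop.hom ↑v by
      rw [hv]; exact congrArg Red.gmFn hs, ← map_mul, Units.mul_inv, map_one]
  have h := S8709.core k G G h₁.one h₁.one (Red.gmFn h₁.mul * ↑v⁻¹)
    ((RedPts.gm_isUnit h₁.mul).mul v⁻¹.isUnit)
    (key _ (by rw [hR h₁, e, hR h₂])) (key _ (by rw [hL h₁, e, hL h₂]))
  rw [← hv]
  calc Red.gmFn h₁.mul = Red.gmFn h₁.mul * ↑v⁻¹ * ↑v := by
        rw [_root_.mul_assoc, Units.inv_mul, _root_.mul_one]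
    _ = ↑v := by rw [h, _root_.one_mul]


end Groth.Agent.S15603
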