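import Groth.Statements.S15605
import Mathlib.LinearAlgebra.Basis.VectorSpace
import Mathlib.LinearAlgebra.TensorProduct.Basis
import Mathlib.RingTheory.TensorProduct.Maps
import Mathlib.LinearAlgebra.TensorProduct.RightExactness
-- import your own Groth.Agent.* helpers here

set_option autoImplicit false
universe u
open TensorProduct
open AGF

namespace Groth.Agent.S15605

/-- Affine form. Let k be a field, A and A' finitely generated commutative k-algebras and S, S' sets of
k-algebra homomorphisms A → k, A' → k. The closure of a set of rational points of Spec A is cut out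
by the intersection of their kernels. Compatibility of these closures with products: in A ⊗_k A',
the intersection over (σ, σ') ∈ S × S' of the kernels of σ ⊗ σ' : A ⊗_k A' → k equals the ideal
generated by the images of ⋂_{σ} ker σ and of ⋂_{σ'} ker σ'. -/
theorem result (k A A' : Type u) [Field k] [CommRing A] [Algebra k A]
    [Algebra.FiniteType k A] [CommRing A'] [Algebra k A'] [Algebra.FiniteType k A']
    (S : Set (A →ₐ[k] k)) (S' : Set (A' →ₐ[k] k)) :
    (⨅ σ ∈ S, ⨅ σ' ∈ S', RingHom.ker ((Algebra.TensorProduct.lmul' (S := k) k).comp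
        (Algebra.TensorProduct.map σ σ'))) =
      Ideal.map (Algebra.TensorProduct.includeLeft : A →ₐ[k] A ⊗[k] A') (⨅ σ ∈ S, RingHom.ker σ) ⊔
        Ideal.map (Algebra.TensorProduct.includeRight : A' →ₐ[k] A ⊗[k] A') (⨅ σ' ∈ S', RingHom.ker σ') := by
  classical
  set I : Ideal A := ⨅ σ ∈ S, RingHom.ker σ with hI
  set J : Ideal A' := ⨅ σ' ∈ S', RingHom.ker σ' with hJ
  have hIσ : ∀ σ ∈ S, ∀ a ∈ I, σ a = 0 := by
    intro σ hσ a ha
    simp only [hI, Submodule.mem_iInf, RingHom.mem_ker] at ha
    exact ha σ hσ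
  have hJσ : ∀ σ ∈ S', ∀ a ∈ J, σ a = 0 := by
    intro σ hσ a ha
    simp only [hJ, Submodule.mem_iInf, RingHom.mem_ker] at ha
    exact ha σ hσ
  refine le_antisymm (fun x hx => ?_) (sup_le ?_ ?_)
  · simp only [Submodule.mem_iInf, RingHom.mem_ker] at hx
    have hker := Algebra.TensorProduct.map_ker (Ideal.Quotient.mkₐ k I) (Ideal.Quotient.mkₐ k J)
      (Ideal.Quotient.mkₐ_surjective k I) (Ideal.Quotient.mkₐ_surjective k J)
    have eI : RingHom.ker (Ideal.Quotient.mkₐ k I) = I := Ideal.mk_ker
    have eJ : RingHom.ker (Ideal.Quotient.mkₐ k J) = J := Ideal.mk_ker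
    rw [eI, eJ] at hker
    rw [← hker, RingHom.mem_ker]
    set y := Algebra.TensorProduct.map (Ideal.Quotient.mkₐ k I) (Ideal.Quotient.mkₐ k J) x with hy
    obtain ⟨ι, b⟩ : Σ ι : Type u, Module.Basis ι k (A ⧸ I) := ⟨_, Module.Basis.ofVectorSpace k _⟩
    obtain ⟨c, hc⟩ := TensorProduct.eq_repr_basis_left b y
    have hz : ∀ σ' (hσ' : σ' ∈ S') (i : ι), Ideal.Quotient.liftₐ J σ' (hJσ σ' hσ') (c i) = 0 := by
      intro σ' hσ' i
      set w : A ⧸ I := c.sum fun j n => Ideal.Quotient.liftₐ J σ' (hJσ σ' hσ') n • b j with hw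
      have hw0 : w = 0 := by
        obtain ⟨a, ha⟩ := Ideal.Quotient.mk_surjective w
        rw [← ha, Ideal.Quotient.eq_zero_iff_mem, hI]
        simp only [Submodule.mem_iInf, RingHom.mem_ker]
        intro σ hσ
        have h1 : ((Algebra.TensorProduct.lmul' (S := k) k).comp (Algebra.TensorProduct.map
            (Ideal.Quotient.liftₐ I σ (hIσ σ hσ)) (Ideal.Quotient.liftₐ J σ' (hJσ σ' hσ')))) y = 0 := by
          rw [hy, AlgHom.comp_apply, ← AlgHom.comp_apply (Algebra.TensorProduct.map _ _),
            ← Algebra.TensorProduct.map_comp]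
          exact hx σ hσ σ' hσ'
        have h2 : Ideal.Quotient.liftₐ I σ (hIσ σ hσ) w = 0 := by
          rw [← h1, ← hc, hw]
          simp only [Finsupp.sum, map_sum]
          refine Finset.sum_congr rfl fun j _ => ?_
          rw [map_smul, AlgHom.comp_apply, Algebra.TensorProduct.map_tmul, Algebra.TensorProduct.lmul'_apply_tmul, smul_eq_mul, mul_comm]
        rw [← ha] at h2
        exact h2
      have h3 : b.repr w i = Ideal.Quotient.liftₐ J σ' (hJσ σ' hσ') (c i) := by
        simp [hw, Finsupp.sum, map_sum, Finsupp.single_apply]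
        exact fun hi => by simp [hi]
      rw [← h3, hw0]; simp
    have hc0 : c = 0 := by
      ext i
      obtain ⟨a, ha⟩ := Ideal.Quotient.mk_surjective (c i)
      rw [Finsupp.zero_apply, ← ha, Ideal.Quotient.eq_zero_iff_mem, hJ]
      simp only [Submodule.mem_iInf, RingHom.mem_ker]
      intro σ' hσ'
      have := hz σ' hσ' i
      rw [← ha] at this
      exact this
    rw [← hc, hc0]; simp
  · refine Ideal.map_le_iff_le_comap.mpr fun a ha => ?_
    simp only [Ideal.mem_comap, Submodule.mem_iInf, RingHom.mem_ker]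
    intro σ hσ σ' _
    simp [hIσ σ hσ a ha]
  · refine Ideal.map_le_iff_le_comap.mpr fun a ha => ?_
    simp only [Ideal.mem_comap, Submodule.mem_iInf, RingHom.mem_ker]
    intro σ _ σ' hσ'
    simp [hJσ σ' hσ' a ha]

end Groth.Agent.S15605
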