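import Groth.Statements.S15606
import Groth.Agent.S15180
import Groth.Agent.DiagRig.DSQuot
import Groth.Agent.GrpScheme.HomFlat
import Groth.Agent.GrpScheme.AffineHom
import Groth.Agent.GrpScheme.IdComponent
import Groth.Agent.GrpScheme.KernelPair
-- import your own Groth.Agent.* helpers here

set_option autoImplicit false
set_option backward.isDefEq.respectTransparency false
universe u
open CategoryTheory MonoidalCategory CartesianMonoidalCategory MonObj GrpObj AlgebraicGeometry
open AlgGrp

namespace Groth.Agent.S15606

open CategoryTheory.Limits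

variable {k : Type u} [Field k]

lemma isClosedImmersion_η (G : Over (Spec (CommRingCat.of k))) [GrpObj G] : IsClosedImmersion η[G].left := by
  have : IsSeparated G.hom := GrpScheme.IdComponent.isSeparated G
  have : IsClosedImmersion (η[G].left ≫ G.hom) := by
    rw [Over.w η[G]]; exact inferInstanceAs (IsClosedImmersion (𝟙 _))
  exact IsClosedImmersion.of_comp η[G].left G.hom

lemma rel_of_kernel {T H M : Over (Spec (CommRingCat.of k))} [GrpObj T] [GrpObj H] [LocallyOfFiniteType T.hom]
    [LocallyOfFiniteType H.hom]
    (g : T ⟶ H) [IsMonHom g] [Flat g.left] [Surjective g.left] (iM : M ⟶ T) (hker : AlgGrp.IsKernel iM g) :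
    DiagRig.DSQuot.Rel iM g := by
  have : LocallyOfFinitePresentation g.left := GrpdLib.GrpOver.lfp_left g
  refine ⟨⟨inferInstance, inferInstance, inferInstance⟩, fun X a b => ⟨fun hab => ?_, ?_⟩⟩
  · obtain ⟨z, hz⟩ := GrpdLib.GrpOver.kernel_factor hker (a⁻¹ * b) (by
      rw [MonObj.mul_comp, GrpObj.inv_comp, hab, inv_mul_cancel])
    exact ⟨z, by rw [hz, mul_inv_cancel_left]⟩
  · rintro ⟨z, rfl⟩
    rw [MonObj.mul_comp, GrpdLib.GrpOver.comp_kernel_comp hker z, _root_.mul_one]

/-- An isogeny out of a group having endomorphisms with every finite kernel. -/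
lemma nonempty_iso {G H : Over (Spec (CommRingCat.of k))} [GrpObj G] [GrpObj H] [LocallyOfFiniteType G.hom]
    [LocallyOfFiniteType H.hom] [IsReduced H.left]
    (hG : ∀ (N : Over (Spec (CommRingCat.of k))) [GrpObj N] (i : N ⟶ G) [IsMonHom i] [Mono i] [IsFinite N.hom],
      ∃ φ : G ⟶ G, IsMonHom φ ∧ AlgGrp.IsKernel i φ ∧ Flat φ.left ∧ Surjective φ.left)
    (f : G ⟶ H) [IsMonHom f] [IsFinite f.left] [Surjective f.left] : Nonempty (Grp.mk H ≅ Grp.mk G) := by
  have : Flat f.left := GrpScheme.HomFlat.flat_of_surjective f
  obtain ⟨N, gN, i, hi, hker⟩ := GrpScheme.AffineHom.exists_kernel f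
  have := GrpdLib.GrpOver.kernel_mono hker
  have hNfin : IsFinite (toUnit N).left :=
    MorphismProperty.of_isPullback (GrpdLib.GrpOver.isPullback_left hker) ‹IsFinite f.left›
  have : IsFinite N.hom := by
    have : IsFinite (𝟙_ (Over (Spec (CommRingCat.of k)))).hom := inferInstanceAs (IsFinite (𝟙 _))
    rw [← Over.w (toUnit N)]; exact MorphismProperty.comp_mem _ _ _ hNfin inferInstance
  obtain ⟨φ, hφm, hφk, hφf, hφs⟩ := hG N i
  obtain ⟨e⟩ := (rel_of_kernel f i hker).unique (rel_of_kernel φ i hφk)
  exact ⟨e⟩

/-- Additive case. Let k be a field, H an affine smooth connected k-group scheme, and f a homomorphism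
from the additive group over k to H which is finite and surjective (an isogeny onto H). Then H is
isomorphic, as a k-group scheme, to the additive group. In particular every quotient of the additive
group by a finite k-subgroup scheme is isomorphic to the additive group over k itself, for any field
k. -/
theorem result (k : Type u) [Field k]
    (H : Over (Spec (CommRingCat.of k))) [GrpObj H] [IsAffine H.left] [Smooth H.hom] [ConnectedSpace ↥H.left]
    (f : Red.Ga (Spec (CommRingCat.of k)) ⟶ H) [IsMonHom f] [IsFinite f.left] [Surjective f.left] :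
    Nonempty (Grp.mk H ≅ Grp.mk (Red.Ga (Spec (CommRingCat.of k)))) := by
  have : IsReduced H.left := GrpScheme.HomFlat.isReduced_of_smooth H.hom
  have : LocallyOfFiniteType (Red.Ga (Spec (CommRingCat.of k))).hom := by
    rw [← Over.w f]; infer_instance
  exact nonempty_iso (fun N _ i _ _ _ => S15180.result k _ N (Or.inl ⟨Iso.refl _⟩) i) f

end Groth.Agent.S15606
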