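import Groth.Statements.S15608
import Groth.Agent.GrpScheme.RatDense
import Groth.Agent.GrpScheme.SubgroupObj
import Groth.Agent.GrpScheme.Points
import Groth.Agent.GrpScheme.Smooth
import Groth.Agent.RedSub.Basic

set_option autoImplicit false
universe u
open CategoryTheory MonoidalCategory CartesianMonoidalCategory MonObj GrpObj AlgebraicGeometry
open AlgGrp
open Groth.Agent.GrpScheme

namespace Groth.Agent.S15608

variable {k : Type u} [Field k] {G : Over (Spec (CommRingCat.of k))} [GrpObj G]

/-- The set of points underlying a set of rational points. -/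
abbrev pts (S : Subgroup (𝟙_ (Over (Spec (CommRingCat.of k))) ⟶ G)) : Set G.left :=
  (fun s : (𝟙_ (Over (Spec (CommRingCat.of k))) ⟶ G) => s.left.base (IsLocalRing.closedPoint k)) '' (S : Set _)

variable (S : Subgroup (𝟙_ (Over (Spec (CommRingCat.of k))) ⟶ G))

lemma inv_mem_closure {x : G.left} (hx : x ∈ closure (pts S)) : ι[G].left x ∈ closure (pts S) := by
  refine map_mem_closure ι[G].left.continuous hx ?_
  rintro _ ⟨t, ht, rfl⟩
  refine ⟨t⁻¹, S.inv_mem ht, ?_⟩
  exact Points.inv_left_apply t _

lemma translate_mem_closure {s : 𝟙_ (Over (Spec (CommRingCat.of k))) ⟶ G} (hs : s ∈ S) {x : G.left}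
    (hx : x ∈ closure (pts S)) : (𝟙 G * (toUnit G ≫ s)).left x ∈ closure (pts S) := by
  refine map_mem_closure (𝟙 G * (toUnit G ≫ s)).left.continuous hx ?_
  rintro _ ⟨t, ht, rfl⟩
  refine ⟨t * s, S.mul_mem ht hs, ?_⟩
  have : t ≫ (𝟙 G * (toUnit G ≫ s)) = t * s := by
    rw [MonObj.comp_mul, Category.comp_id, ← Category.assoc, toUnit_unique (t ≫ toUnit G) (𝟙 _),
      Category.id_comp]
  show (t * s).left (IsLocalRing.closedPoint k) = _
  rw [← this]
  exact Points.comp_apply _ _ _

/-- The Zariski closure of a group of rational points is a subgroup. -/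
theorem exists_subgroup : ∃ (Z : Over (Spec (CommRingCat.of k))) (_ : GrpObj Z) (i : Z ⟶ G),
    IsMonHom i ∧ IsClosedImmersion i.left ∧ IsReduced Z.left ∧ Dense (RatDense.ratPoints Z.hom) ∧
      Set.range i.left.base = closure (pts S) := by
  let C : TopologicalSpace.Closeds G.left := ⟨closure (pts S), isClosed_closure⟩
  let I := Scheme.IdealSheafData.vanishingIdeal C
  let Z : Over (Spec (CommRingCat.of k)) := Over.mk (I.subschemeι ≫ G.hom)
  let i : Z ⟶ G := Over.homMk I.subschemeι rfl
  have hci : IsClosedImmersion i.left := inferInstanceAs (IsClosedImmersion I.subschemeι)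
  have hred : IsReduced Z.left := RedSub.isReduced_vanishingIdeal C
  have : Mono i.left := inferInstance
  have : Mono i := Over.mono_of_mono_left _
  have hr : Set.range i.left = closure (pts S) := RedSub.range_vanishingIdeal_subschemeι C
  have factor : ∀ {T : Over (Spec (CommRingCat.of k))} [IsReduced T.left] (f : T ⟶ G),
      (∀ t, f.left t ∈ closure (pts S)) → ∃ g : T ⟶ Z, g ≫ i = f := by
    intro T _ f hf
    obtain ⟨g, hg⟩ := RedSub.exists_lift_closed i.left f.left (by
      rintro _ ⟨t, rfl⟩; rw [hr]; exact hf t)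
    exact ⟨Over.homMk g (by rw [← Over.w i, reassoc_of% hg, Over.w]), Over.OverMorphism.ext hg⟩
  have : IsReduced (𝟙_ (Over (Spec (CommRingCat.of k)))).left :=
    inferInstanceAs (IsReduced (Spec (CommRingCat.of k)))
  have hdense : Dense (RatDense.ratPoints Z.hom) := by
    rw [i.left.isClosedEmbedding.isInducing.dense_iff]
    intro z
    have hz : i.left z ∈ closure (pts S) := hr ▸ ⟨z, rfl⟩
    refine closure_mono ?_ hz
    rintro _ ⟨t, ht, rfl⟩
    obtain ⟨l, hl⟩ := factor t fun s => subset_closure ⟨t, ht, by
      rw [Subsingleton.elim (α := Spec (CommRingCat.of k)) s (IsLocalRing.closedPoint k)]⟩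
    refine ⟨l.left (IsLocalRing.closedPoint k), ⟨l.left, Over.w l, rfl⟩, ?_⟩
    exact (Points.comp_apply l i _).symm.trans congr(($hl).left (IsLocalRing.closedPoint k))
  have : IsReduced (Z ⊗ Z).left := RatDense.isReduced_pullback Z.hom hdense Z.hom
  -- multiplication
  have hmul : ∀ p, ((fst Z Z ≫ i) * (snd Z Z ≫ i)).left p ∈ closure (pts S) := by
    intro p
    let T := Points.pointObj Z ((fst Z Z).left p)
    let zh : T ⟶ Z := Points.pointHom Z ((fst Z Z).left p)
    let f : T ⊗ Z ⟶ G := (fst T Z ≫ zh ≫ i) * (snd T Z ≫ i)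
    let q := Points.pointHom (Z ⊗ Z) p
    obtain ⟨T', ⟨t⟩, π, h, e⟩ := Points.exists_lift zh (q ≫ fst Z Z) fun s => by
      obtain ⟨a⟩ := (inferInstance : Nonempty T.left)
      exact ⟨a, by rw [Points.pointHom_apply, Points.comp_apply, Points.pointHom_apply]⟩
    suffices ∀ w, f.left w ∈ closure (pts S) by
      have e' : lift h (π ≫ q ≫ snd Z Z) ≫ f = π ≫ q ≫ ((fst Z Z ≫ i) * (snd Z Z ≫ i)) := by
        simp only [f, MonObj.comp_mul, lift_fst_assoc, lift_snd_assoc, reassoc_of% e, Category.assoc]
      have := congr(($e').left t)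
      rw [Points.comp_apply, Points.comp_apply, Points.comp_apply, Points.pointHom_apply] at this
      rw [← this]
      exact ‹∀ w, f.left w ∈ closure (pts S)› _
    have hop : IsOpenMap (snd T Z).left :=
      have : UniversallyOpen (snd T Z).left := Basic.snd_left_mem @UniversallyOpen inferInstance
      Scheme.Hom.isOpenMap _
    have hD : Dense ((snd T Z).left ⁻¹' (i.left ⁻¹' pts S)) := by
      refine Dense.preimage ?_ hop
      rw [i.left.isClosedEmbedding.isInducing.dense_iff]
      intro z
      have hz : i.left z ∈ closure (pts S) := hr ▸ ⟨z, rfl⟩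
      refine closure_mono ?_ hz
      intro x hx
      obtain ⟨y, rfl⟩ : x ∈ Set.range i.left := hr ▸ subset_closure hx
      exact ⟨y, hx, rfl⟩
    intro w
    rw [← closure_closure (s := pts S)]
    refine map_mem_closure f.left.continuous (hD w) ?_
    intro w hw
    obtain ⟨s, hs, hsw⟩ : i.left ((snd T Z).left w) ∈ pts S := hw
    let q' := Points.pointHom (T ⊗ Z) w
    obtain ⟨P, ⟨a⟩, π', h', e''⟩ := Points.exists_lift s (q' ≫ snd T Z ≫ i) fun b =>
      ⟨IsLocalRing.closedPoint k, by
        rw [Points.comp_apply, Points.pointHom_apply, Points.comp_apply]; exact hsw⟩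
    rw [toUnit_unique h' (toUnit P)] at e''
    have e' : π' ≫ q' ≫ f = (π' ≫ q' ≫ fst T Z ≫ zh ≫ i) ≫ (𝟙 G * (toUnit G ≫ s)) := by
      simp only [f, MonObj.comp_mul, Category.comp_id, Category.assoc]
      rw [← e'']
      congr 1
      rw [← Category.assoc, ← Category.assoc (π' ≫ q'), ← Category.assoc (_ ≫ fst T Z),
        ← Category.assoc (_ ≫ zh), ← Category.assoc _ (toUnit G),
        toUnit_unique (_ ≫ toUnit G) (toUnit P)]
    have := congr(($e').left a)
    rw [Points.comp_apply, Points.comp_apply, Points.pointHom_apply] at this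
    rw [this, Points.comp_apply]
    refine translate_mem_closure S hs ?_
    rw [← hr, Points.comp_apply, Points.comp_apply, Points.comp_apply, Points.comp_apply]
    exact ⟨_, rfl⟩
  obtain ⟨g, hg⟩ := SubgroupObj.exists_grpObj i
    (by
      obtain ⟨m, hm⟩ := factor _ hmul
      refine ⟨m, hm.trans ?_⟩
      rw [Hom.mul_def]
      congr 1)
    (factor η[G] fun t => subset_closure ⟨1, S.one_mem, by
      rw [Subsingleton.elim (α := Spec (CommRingCat.of k)) t (IsLocalRing.closedPoint k), Hom.one_def,
        toUnit_unique (toUnit _) (𝟙 _), Category.id_comp]⟩)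
    (factor (i ≫ ι[G]) fun t => by
      rw [Points.comp_apply]; exact inv_mem_closure S (hr ▸ ⟨t, rfl⟩))
  exact ⟨Z, g, i, hg, hci, hred, hdense, hr⟩

/-- Let k be a field, G a smooth k-group scheme of finite type and Σ a subgroup of the abstract group
G(k) of k-rational points. Then the Zariski closure of Σ in G, with its reduced structure, is a
smooth closed k-subgroup: there are a smooth k-group scheme H and a homomorphism H ⟶ G which is a
closed immersion whose image is the closure of the set of points of G underlying the elements of Σ.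
(The published statement also asserts that forming this closure commutes with extension of the
ground field; that clause is not stated here, its affine form being stated separately.) -/
theorem result (k : Type u) [Field k]
    (G : Over (Spec (CommRingCat.of k))) [GrpObj G] [Smooth G.hom] [QuasiCompact G.hom]
    (S : Subgroup (𝟙_ (Over (Spec (CommRingCat.of k))) ⟶ G)) :
    ∃ (H : Over (Spec (CommRingCat.of k))) (_ : GrpObj H) (i : H ⟶ G), IsMonHom i ∧ IsClosedImmersion i.left ∧ Smooth H.hom ∧
      Set.range i.left.base =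
        closure ((fun s : (𝟙_ (Over (Spec (CommRingCat.of k))) ⟶ G) => s.left.base (IsLocalRing.closedPoint k)) '' (S : Set _)) := by
  obtain ⟨Z, _, i, hi, hci, hred, hd, hr⟩ := exists_subgroup S
  refine ⟨Z, ‹_›, i, hi, hci, ?_, hr⟩
  have : LocallyOfFiniteType Z.hom := by
    rw [← Over.w i]; infer_instance
  let Ω : Type u := AlgebraicClosure k
  let g : Spec (.of Ω) ⟶ Spec (.of k) := Spec.map (CommRingCat.ofHom <| algebraMap k Ω)
  apply MorphismProperty.of_pullback_snd_of_descendsAlong
    (Q := @Surjective ⊓ @Flat ⊓ @QuasiCompact) (g := g)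
  · exact ⟨⟨inferInstance, inferInstance⟩, inferInstance⟩
  let : GrpObj (Over.mk Z.hom) := ‹GrpObj Z›
  let : GrpObj (Over.mk (Limits.pullback.snd Z.hom g)) := Over.grpObjMkPullbackSnd
  have : LocallyOfFiniteType (Over.mk (Limits.pullback.snd Z.hom g)).hom :=
    inferInstanceAs (LocallyOfFiniteType (Limits.pullback.snd Z.hom g))
  have : IsReduced (Over.mk (Limits.pullback.snd Z.hom g)).left :=
    RatDense.isReduced_pullback Z.hom hd g
  exact Smooth.smooth_of_perfectField (Over.mk (Limits.pullback.snd Z.hom g))

end Groth.Agent.S15608
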