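import Groth.Statements.S15609
import Groth.Agent.S13633
import Groth.Agent.GrpScheme.AffineHom
import Mathlib.LinearAlgebra.Dual.Lemmas
-- import your own Groth.Agent.* helpers here

set_option autoImplicit false
universe u
open CategoryTheory MonoidalCategory CartesianMonoidalCategory MonObj GrpObj AlgebraicGeometry
open AlgGrp

namespace Groth.Agent.S15609

open CategoryTheory.MonoidalCategory CategoryTheory.CartesianMonoidalCategory MonObj
open GrpScheme.Rosenlicht (pb pb_comp pb_cst cst)
open Groth.Agent.S13633 (augI augI_isMaximal eq_one_of_kills pb_one exists_sub_cst isoInv_appTop)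

lemma cst_bijective (k : Type u) [Field k] : Function.Bijective (cst (k := k) (𝟙_ (Over (Spec (CommRingCat.of k))))) := by
  have : IsIso ((Scheme.ΓSpecIso (CommRingCat.of k)).inv ≫ (𝟙 _ : Spec (CommRingCat.of k) ⟶ _).appTop) := by
    rw [Scheme.Hom.id_appTop]; exact inferInstanceAs (IsIso ((Scheme.ΓSpecIso (CommRingCat.of k)).inv ≫ 𝟙 _))
  exact ConcreteCategory.bijective_of_isIso ((Scheme.ΓSpecIso (CommRingCat.of k)).inv ≫ (𝟙 _ : Spec (CommRingCat.of k) ⟶ _).appTop)

/-- Without tangent vectors the square of the augmentation ideal is everything. -/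
lemma augI_le_sq {k : Type u} [Field k] (N : Over (Spec (CommRingCat.of k))) [GrpObj N] [IsAffine N.left]
    (htan : ∀ g : (Over.mk (Spec.map (CommRingCat.ofHom (algebraMap k (DualNumber k))))) ⟶ N,
      (∀ x : 𝟙_ (Over (Spec (CommRingCat.of k))) ⟶ (Over.mk (Spec.map (CommRingCat.ofHom (algebraMap k (DualNumber k))))),
        x ≫ g = η[N]) → g = 1) : augI N ≤ augI N ^ 2 := by
  intro x hx
  by_contra hx2
  letI := (cst N).toAlgebra
  let eI := RingEquiv.ofBijective _ (cst_bijective k)
  let ε : Γ(N.left, ⊤) →+* k := eI.symm.toRingHom.comp (pb η[N])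
  have hε : ∀ a, a - cst N (ε a) ∈ augI N := fun a => by
    rw [augI, RingHom.mem_ker, map_sub, pb_cst, sub_eq_zero]
    exact (eI.apply_symm_apply _).symm
  have hεc : ∀ c, ε (cst N c) = c := fun c => by
    change eI.symm (pb η[N] (cst N c)) = c
    rw [pb_cst]; exact eI.symm_apply_apply c
  have hε0 : ∀ a ∈ augI N, ε a = 0 := fun a ha => by
    change eI.symm (pb η[N] a) = 0
    rw [show pb η[N] a = 0 from ha, map_zero]
  let W : Submodule k Γ(N.left, ⊤) := (augI N ^ 2).restrictScalars k ⊔ Submodule.span k {1}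
  have hxW : x ∉ W := by
    intro h
    obtain ⟨w, hw, v, hv, e⟩ := Submodule.mem_sup.1 h
    obtain ⟨c, rfl⟩ := Submodule.mem_span_singleton.1 hv
    have hc : c = 0 := by
      have := congrArg ε e
      rw [map_add, hε0 w (Ideal.pow_le_self two_ne_zero hw), hε0 x hx, zero_add, Algebra.smul_def,
        _root_.mul_one] at this
      exact (hεc c).symm.trans this
    rw [hc, zero_smul, add_zero] at e
    exact hx2 (e ▸ hw)
  obtain ⟨φ, hφx, hφW⟩ := Submodule.exists_dual_map_eq_bot_of_notMem hxW inferInstance
  have hφ0 : ∀ a ∈ W, φ a = 0 := fun a ha => by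
    have := Submodule.mem_map_of_mem (f := φ) ha
    rwa [hφW, Submodule.mem_bot] at this
  have hφ1 : φ 1 = 0 := hφ0 _ (Submodule.mem_sup_right (Submodule.mem_span_singleton_self _))
  have hφc : ∀ (c : k) (a : Γ(N.left, ⊤)), φ (cst N c * a) = c * φ a := fun c a => by
    rw [show cst N c * a = c • a from (Algebra.smul_def c a).symm, map_smul, smul_eq_mul]
  have hφm : ∀ a b, φ (a * b) = ε a * φ b + ε b * φ a := by
    intro a b
    have h0 := hφ0 _ (Submodule.mem_sup_left (S := (augI N ^ 2).restrictScalars k) (T := Submodule.span k {1})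
      (show (a - cst N (ε a)) * (b - cst N (ε b)) ∈ augI N ^ 2 by rw [pow_two]; exact Ideal.mul_mem_mul (hε a) (hε b)))
    have : (a - cst N (ε a)) * (b - cst N (ε b)) =
        a * b - cst N (ε a) * b - cst N (ε b) * a + cst N (ε a * ε b) * 1 := by rw [map_mul]; ring
    rw [this, map_add, map_sub, map_sub, hφc, hφc, hφc, hφ1] at h0
    linear_combination h0
  let D : Γ(N.left, ⊤) →+* DualNumber k :=
    { toFun := fun a => TrivSqZeroExt.inl (ε a) + TrivSqZeroExt.inr (φ a)
      map_one' := by ext <;> simp [hφ1]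
      map_zero' := by simp
      map_add' := fun a b => by ext <;> simp
      map_mul' := fun a b => by
        ext
        · simp
        · simp [hφm, TrivSqZeroExt.snd_mul]; ring }
  have hDc : ∀ c, D (cst N c) = algebraMap k (DualNumber k) c := fun c => by
    change TrivSqZeroExt.inl (ε (cst N c)) + TrivSqZeroExt.inr (φ (cst N c)) = _
    rw [hεc, ← _root_.mul_one (cst N c), hφc, hφ1, mul_zero, TrivSqZeroExt.inr_zero, add_zero]
    rfl
  let T : Over (Spec (CommRingCat.of k)) := Over.mk (Spec.map (CommRingCat.ofHom (algebraMap k (DualNumber k))))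
  let gl : T.left ⟶ N.left := Spec.map (CommRingCat.ofHom D) ≫ N.left.isoSpec.inv
  let g : T ⟶ N := Over.homMk gl (by
    have h1 : N.left.toSpecΓ ≫ Spec.map (CommRingCat.ofHom (cst N)) = N.hom := by
      change N.left.toSpecΓ ≫ Spec.map ((Scheme.ΓSpecIso (CommRingCat.of k)).inv ≫ N.hom.appTop) = _
      rw [Spec.map_comp, ← Scheme.toSpecΓ_naturality_assoc]; simp [← Spec.map_comp]
    change gl ≫ N.hom = Spec.map (CommRingCat.ofHom (algebraMap k (DualNumber k)))
    rw [← h1, show gl = Spec.map (CommRingCat.ofHom D) ≫ N.left.isoSpec.inv from rfl, Category.assoc,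
      Scheme.isoSpec_inv_toSpecΓ_assoc, ← Spec.map_comp]
    congr 1
    exact CommRingCat.hom_ext (RingHom.ext hDc))
  have hg : ∀ a, pb g a = (Scheme.ΓSpecIso _).inv (D a) := by
    intro a
    change (Spec.map (CommRingCat.ofHom D) ≫ N.left.isoSpec.inv).appTop a = _
    rw [Scheme.Hom.comp_appTop, isoInv_appTop]
    exact congr($((Scheme.ΓSpecIso_inv_naturality (CommRingCat.ofHom D)).symm) a)
  have hsq : ∀ a ∈ augI N, pb g a ^ 2 = 0 := fun a ha => by
    rw [hg, ← map_pow]
    have : D a ^ 2 = 0 := by
      change (TrivSqZeroExt.inl (ε a) + TrivSqZeroExt.inr (φ a)) ^ 2 = 0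
      rw [hε0 a ha, TrivSqZeroExt.inl_zero, zero_add, sq, TrivSqZeroExt.inr_mul_inr]
    rw [this, map_zero]
  have hg1 := htan g fun p => by
    have : p ≫ g = 1 := eq_one_of_kills N (p ≫ g) fun a ha => by
      apply eI.symm.injective
      rw [map_zero]
      refine (pow_eq_zero_iff (two_ne_zero)).1 ?_
      rw [← map_pow, pb_comp, ← map_pow, hsq a ha, map_zero, map_zero]
    rw [this, Hom.one_def, toUnit_unique (toUnit _) (𝟙 _), Category.id_comp]
  have h0 := pb_one N T hx
  rw [← hg1, hg] at h0
  have h2 : D x = 0 := (ConcreteCategory.bijective_of_isIso (Scheme.ΓSpecIso (CommRingCat.of (DualNumber k))).inv).1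
    (h0.trans (map_zero _).symm)
  have h3 := congrArg TrivSqZeroExt.snd h2
  simp [D] at h3
  exact hφx h3

/-- The implication (ii) ⇒ (i). Let k be a field and f : G ⟶ G' a homomorphism of k-group schemes of
finite type. Suppose that f is injective on K-points for every algebraically closed field K over k,
and that f is injective on tangent spaces at the identity: every point of G with values in the dual
numbers k[ε] which restricts to the identity at ε = 0 and is sent by f to the identity point of G'
is itself the identity point. Then f has trivial kernel: it is a monomorphism. (The published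
statement assumes G smooth; this implication does not use it.) -/
theorem result (k : Type u) [Field k]
    (G G' : Over (Spec (CommRingCat.of k))) [GrpObj G] [GrpObj G'] [LocallyOfFiniteType G.hom] [QuasiCompact G.hom]
    [LocallyOfFiniteType G'.hom] [QuasiCompact G'.hom] (f : G ⟶ G') [IsMonHom f]
    (hgeom : ∀ (K : Type u) [Field K] [IsAlgClosed K] [Algebra k K],
      Function.Injective (fun g : (Over.mk (Spec.map (CommRingCat.ofHom (algebraMap k K)))) ⟶ G => g ≫ f))
    (htan : ∀ g : (Over.mk (Spec.map (CommRingCat.ofHom (algebraMap k (DualNumber k))))) ⟶ G,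
      (∀ x : 𝟙_ (Over (Spec (CommRingCat.of k))) ⟶ (Over.mk (Spec.map (CommRingCat.ofHom (algebraMap k (DualNumber k))))), x ≫ g = η[G]) →
        g ≫ f = toUnit _ ≫ η[G'] → g = toUnit _ ≫ η[G]) :
    Mono f := by
  obtain ⟨N, gN, i, hi, hker⟩ := GrpScheme.AffineHom.exists_kernel f
  have hkl := GrpdLib.GrpOver.isPullback_left hker
  have : IsClosedImmersion η[G'].left := GrpArtin.Descend.isClosedImmersion_unit G'
  have hci : IsClosedImmersion i.left := MorphismProperty.of_isPullback hkl.flip ‹IsClosedImmersion η[G'].left›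
  have : Mono i.left := inferInstance
  have : Mono i := Over.mono_of_mono_left i
  have : LocallyOfFiniteType N.hom := by rw [← Over.w i]; infer_instance
  have hif : i ≫ f = 1 := by rw [hker.w, Hom.one_def]
  have hN : ({η[N].left (IsLocalRing.closedPoint k)} : Set N.left) = Set.univ := by
    refine Groth.Agent.S13633.univ_of_forall_point (AlgebraicClosure k) N _ ?_ fun x t => ?_
    · have := (GrpArtin.Descend.isClosedImmersion_unit N).base_closed.isClosed_range
      convert this
      ext y
      exact ⟨fun h => ⟨_, h.symm⟩, fun ⟨t, ht⟩ => ht ▸ congrArg η[N].left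
        (Subsingleton.elim (α := PrimeSpectrum k) _ _)⟩
    · have hx : x ≫ i = 1 := hgeom (AlgebraicClosure k) (by
        change (x ≫ i) ≫ f = (1 : _ ⟶ G) ≫ f
        rw [Category.assoc, hif, MonObj.comp_one, MonObj.one_comp])
      have hx1 : x = 1 := (cancel_mono i).1 (by rw [hx, MonObj.one_comp])
      subst hx1
      change (toUnit _ ≫ η[N]).left t = η[N].left _
      rw [Over.comp_left, Scheme.Hom.comp_apply]
      exact congrArg η[N].left (Subsingleton.elim (α := PrimeSpectrum k) _ _)
  have : Subsingleton N.left := Set.subsingleton_of_univ_subsingleton (hN ▸ Set.subsingleton_singleton)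
  have : IsFinite N.hom := Groth.Agent.S13633.isFinite_of_subsingleton N
  have : IsAffine N.left := isAffine_of_isAffineHom N.hom
  have hle : augI N ≤ augI N ^ 2 := augI_le_sq N fun g hg => by
    rw [← cancel_mono i, MonObj.one_comp, Hom.one_def]
    refine htan (g ≫ i) (fun x => ?_) ?_
    · rw [← Category.assoc, hg x, IsMonHom.one_hom]
    · rw [Category.assoc, hif, MonObj.comp_one, Hom.one_def]
  have : IsLocallyNoetherian N.left := LocallyOfFiniteType.isLocallyNoetherian N.hom
  have : IsNoetherianRing Γ(N.left, ⊤) := IsLocallyNoetherian.component_noetherian ⟨⊤, isAffineOpen_top _⟩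
  have hnil : augI N = ⊥ := by
    have : Subsingleton (PrimeSpectrum Γ(N.left, ⊤)) :=
      N.left.isoSpec.hom.homeomorph.surjective.subsingleton
    have h1 : augI N ≤ nilradical Γ(N.left, ⊤) := by
      rw [nilradical_eq_sInf]
      refine le_sInf fun P hP => ?_
      have := congrArg PrimeSpectrum.asIdeal (Subsingleton.elim (⟨augI N, (augI_isMaximal N).isPrime⟩ : PrimeSpectrum Γ(N.left, ⊤)) ⟨P, hP⟩)
      exact this.le
    obtain ⟨n, hn⟩ := IsNoetherianRing.isNilpotent_nilradical Γ(N.left, ⊤)
    have h2 : ∀ m : ℕ, augI N ≤ augI N ^ (m + 1) := by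
      intro m
      induction m with
      | zero => simp
      | succ m ih => exact hle.trans (by rw [pow_two, pow_succ]; exact Ideal.mul_mono_left ih)
    exact le_bot_iff.1 ((h2 n).trans ((Ideal.pow_right_mono h1 _).trans (by rw [pow_succ, hn, zero_mul]; exact le_rfl)))
  have hid : (𝟙 N : N ⟶ N) = 1 := eq_one_of_kills N _ fun a ha => by
    rw [hnil, Ideal.mem_bot] at ha
    rw [ha, map_zero]
  have hi1 : i = 1 := by rw [← Category.id_comp i, hid, MonObj.one_comp]
  refine ⟨fun {T} u v huv => ?_⟩
  have h1 : (u * v⁻¹) ≫ f = 1 := by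
    rw [MonObj.mul_comp u v⁻¹ f, GrpObj.inv_comp, huv, mul_inv_cancel]
  obtain ⟨l, hl⟩ := GrpdLib.GrpOver.kernel_factor hker (u * v⁻¹) h1
  exact mul_inv_eq_one.1 (by rw [← hl, hi1, MonObj.comp_one])

end Groth.Agent.S15609
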