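import Groth.Statements.S1563
import Mathlib
import Groth.Agent.GeomLoc.Regular
-- import your own Groth.Agent.* helpers here

set_option autoImplicit false
universe u
open CategoryTheory CategoryTheory.Limits AlgebraicGeometry
open Variety
open scoped TensorProduct

namespace Groth.Agent.S1563

/-- Geometric regularity descends along a morphism f of locally Noetherian k-schemes which is flat at
the point x (the map of local rings at x is flat): if X has it at x then Y has it at f(x). -/
theorem result (k : Type u) [Field k] (X Y : Scheme.{u}) [X.Over (Spec (CommRingCat.of k))] [Y.Over (Spec (CommRingCat.of k))]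
    [IsLocallyNoetherian X] [IsLocallyNoetherian Y] (f : X ⟶ Y) (hf : f ≫ (Y ↘ (Spec (CommRingCat.of k))) = X ↘ (Spec (CommRingCat.of k)))
    (x : X) (hflat : (f.stalkMap x).hom.Flat) (hx : Curv2.IsGeomRegularAt k X x) :
    Curv2.IsGeomRegularAt k Y (f.base x) := by
  letI := Curv2.stalkAlgebra k X x
  letI := Curv2.stalkAlgebra k Y (f.base x)
  have hg := (GeomLoc.isGeomRegularAt_iff x).2.1 ((GeomLoc.isGeomRegularAt_iff x).1.1 hx)
  letI : Algebra (Y.presheaf.stalk (f.base x)) (X.presheaf.stalk x) := (f.stalkMap x).hom.toAlgebra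
  haveI : Module.Flat (Y.presheaf.stalk (f.base x)) (X.presheaf.stalk x) := hflat
  haveI : IsLocalHom (algebraMap (Y.presheaf.stalk (f.base x)) (X.presheaf.stalk x)) :=
    inferInstanceAs (IsLocalHom (f.stalkMap x).hom)
  haveI := Module.FaithfullyFlat.of_flat_of_isLocalHom
    (A := Y.presheaf.stalk (f.base x)) (B := X.presheaf.stalk x)
  haveI : IsScalarTower k (Y.presheaf.stalk (f.base x)) (X.presheaf.stalk x) := by
    refine IsScalarTower.of_algebraMap_eq fun r => ?_
    show Curv2.stalkMap k X x r = f.stalkMap x ((Y.presheaf.germ ⊤ (f.base x) trivial)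
      (Coh.toGlobal (Y ↘ Spec (CommRingCat.of k)) r))
    refine Eq.trans ?_ (Scheme.Hom.germ_stalkMap_apply f ⊤ x trivial _).symm
    refine congrArg (X.presheaf.germ ⊤ x trivial) ?_
    show (X ↘ Spec (CommRingCat.of k)).appTop ((Scheme.ΓSpecIso (CommRingCat.of k)).inv r) =
      ((Y ↘ Spec (CommRingCat.of k)).appTop ≫ f.appTop) ((Scheme.ΓSpecIso (CommRingCat.of k)).inv r)
    rw [← Scheme.Hom.comp_appTop, hf]
  exact (GeomLoc.isGeomRegularAt_iff (f.base x)).1.2 ((GeomLoc.isGeomRegularAt_iff (f.base x)).2.2
    (GeomLoc.isGeometricallyRegular_of_algHom (S := X.presheaf.stalk x) hg))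

end Groth.Agent.S1563
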