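import Groth.Statements.S15645
import Groth.Agent.StrictSSLib.NodeFibre

set_option autoImplicit false
universe u
open StrictSS

namespace Groth.Agent.S15645

open CategoryTheory CategoryTheory.Limits AlgebraicGeometry in
/-- A strictly semistable multipointed curve (C, D) over a scheme S is semistable. Here (C, D) is a
multipointed S-curve (C flat, finitely presented and of pure relative dimension one over S; D a
closed subscheme of C, flat, finitely presented and of relative dimension zero over S) every point
of which has an open neighbourhood U, over an affine open Spec A of S, with an etale morphism of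
pairs from (U, D ∩ U) to the line model (Spec A[T], zero section) or, when no marked point lies in
U, an etale morphism from U to a node model Spec A[u, v]/(uv - a); the conclusion is that C → S is
an at-worst-nodal family of curves, D → S is etale and D misses the non-smooth locus of C → S. (The
published remark concerns curves over the spectrum of a valuation ring; the notion and the
implication are local on the base, and this row states the implication over an arbitrary base
scheme.) -/
theorem result
    {C D S : Scheme.{u}} (φ : C ⟶ S) (i : D ⟶ C) (h : StrictSS.IsStrictlySemistable φ i) :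
    SSMod.IsSemistable φ i := by
  obtain ⟨hmp, hpt⟩ := h
  obtain ⟨hfl, hlfp, hqc, hqs, hdim, hci, hDfl, hDlfp, hDdim⟩ := hmp
  haveI := hlfp
  have hline : ∀ c : C, StrictSS.HasLineChartAt φ i c → c ∈ φ.smoothLocus := by
    rintro c ⟨A, j, hj, U, hc, q, hq, f, fD, hf, hfq, -, -⟩
    haveI := Groth.Agent.StrictSSLib.smooth_lineToBase A
    haveI : Smooth (U.ι ≫ φ) := by rw [hq, ← hfq]; infer_instance
    exact Groth.Agent.StrictSSLib.mem_smoothLocus_of_comp U.ι φ ⟨c, hc⟩
  refine ⟨⟨hfl, hlfp, hqc, hqs, hdim, hci, hDfl, hDlfp, hDdim⟩, ⟨hfl, hlfp, fun s => ⟨fun Z hZ => ?_, ?_⟩⟩, ?_, ?_⟩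
  · simpa using hdim s Z hZ
  · letI : (φ.fiber s).Over (Spec (S.residueField s)) := ⟨φ.fiberToSpecResidueField s⟩
    intro x hx
    rcases hpt (φ.fiberι s x) with hl | hn
    · exact Or.inl (Groth.Agent.StrictSSLib.fibre_smooth φ s x (hline _ hl))
    · obtain ⟨A, j, hj, U, hc, q, hq, a, f, hf, hfq, -⟩ := hn
      by_cases hi : ∃ l, Groth.Agent.StrictSSLib.nx (a : A) l ∉ (f ⟨φ.fiberι s x, hc⟩).asIdeal
      · obtain ⟨l, hl⟩ := hi
        exact Or.inl (Groth.Agent.StrictSSLib.fibre_smooth φ s x
          (Groth.Agent.StrictSSLib.mem_smoothLocus_of_notMem hq f hfq ⟨φ.fiberι s x, hc⟩ l hl))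
      · push Not at hi
        refine Or.inr ⟨hx, ?_⟩
        let K := AlgebraicClosure (S.residueField s)
        let X := Curv2.bc (S.residueField s) (φ.fiber s) K
        obtain ⟨xb, hxb, -⟩ := Scheme.Pullback.exists_preimage_pullback
          (f := φ.fiberToSpecResidueField s)
          (g := Spec.map (CommRingCat.ofHom (algebraMap (S.residueField s) K))) x (default : PrimeSpectrum K)
          (@Subsingleton.elim _ (inferInstanceAs (Subsingleton (PrimeSpectrum (S.residueField s)))) _ _)
        refine ⟨xb, hxb, ?_⟩
        have h1 : IsPullback (Curv2.bcFst (S.residueField s) (φ.fiber s) K) (Curv2.bcSnd (S.residueField s) (φ.fiber s) K)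
            (φ.fiberToSpecResidueField s) (Spec.map (CommRingCat.ofHom (algebraMap (S.residueField s) K))) :=
          IsPullback.of_hasPullback _ _
        have h2 : IsPullback (φ.fiberι s) (φ.fiberToSpecResidueField s) φ (S.fromSpecResidueField s) :=
          IsPullback.of_hasPullback _ _
        have hnd := Groth.Agent.StrictSSLib.nodeData_geom hq f hfq (h1.paste_horiz h2) xb ⟨φ.fiberι s x, hc⟩
          (congrArg (φ.fiberι s) hxb) hi
        haveI : LocallyOfFiniteType (Curv2.bcSnd (S.residueField s) (φ.fiber s) K) :=
          MorphismProperty.of_isPullback (P := @LocallyOfFiniteType) (h1.paste_horiz h2) inferInstance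
        exact Groth.Agent.StrictSSLib.isOrdDoublePt_stalk (K := K) (Curv2.bcSnd (S.residueField s) (φ.fiber s) K) xb hnd
  · have hch : ∀ d : D, ∃ (W : D.Opens), d ∈ W ∧ Etale (W.ι ≫ i ≫ φ) := fun d => by
      rcases hpt (i d) with ⟨A, j, hj, U, hc, q, hq, f, fD, hf, hfq, hfD, heq⟩ | ⟨A, j, hj, U, hc, q, hq, a, f, hf, hfq, hdis⟩
      · refine ⟨i ⁻¹ᵁ U, hc, ?_⟩
        have h0 : StrictSS.lineZero A ≫ StrictSS.lineToBase A = 𝟙 _ := by
          rw [← Spec.map_comp, ← CommRingCat.ofHom_comp, ← Spec.map_id]
          congr 2
          exact RingHom.ext fun x => by simp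
        rw [← morphismRestrict_ι_assoc, hq, ← hfq, Category.assoc, ← reassoc_of% heq, reassoc_of% h0]
        infer_instance
      · exact absurd hc (Set.disjoint_left.mp hdis ⟨d, rfl⟩)
    haveI : IsZariskiLocalAtSource (@Etale : MorphismProperty Scheme.{u}) :=
      HasRingHomProperty.instIsZariskiLocalAtSource (Q := RingHom.Etale)
    choose W hW hWe using hch
    exact IsZariskiLocalAtSource.of_iSup_eq_top (P := (@Etale : MorphismProperty Scheme.{u})) W
      (top_le_iff.mp fun d _ => TopologicalSpace.Opens.mem_iSup.mpr ⟨d, hW d⟩) hWe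
  · rw [Set.disjoint_left]
    rintro c ⟨d, rfl⟩ hns
    rcases hpt (i d) with hl | hn
    · exact hns (hline _ hl)
    · obtain ⟨A, j, hj, U, hc, q, hq, a, f, hf, hfq, hdis⟩ := hn
      exact Set.disjoint_left.mp hdis ⟨d, rfl⟩ hc

end Groth.Agent.S15645
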