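import Groth.Statements.S15649
import Groth.Agent.StrictSSLib.Component

set_option autoImplicit false
universe u
open StrictSS

namespace Groth.Agent.S15649

open CategoryTheory CategoryTheory.Limits AlgebraicGeometry in
/-- Let k be a separably closed field and (C, D) a strictly semistable multipointed curve over Spec k
with C and D reduced. Then the irreducible components of C are smooth: for every irreducible
component Z of C there is a reduced closed subscheme of C with underlying set Z which is smooth over
k. (The published remark asserts that, for semistable curves over such a field, strict semistability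
is equivalent to smoothness of the irreducible components; this row is the implication from strict
semistability.) -/
theorem result
    (k : Type u) [Field k] [IsSepClosed k]
    {C D : Scheme.{u}} (φ : C ⟶ Spec (CommRingCat.of k)) (i : D ⟶ C) [IsReduced C] [IsReduced D]
    (h : StrictSS.IsStrictlySemistable φ i)
    (Z : Set C) (hZ : Z ∈ irreducibleComponents (C : Type u)) :
    ∃ (W : Scheme.{u}) (e : W ⟶ C), IsClosedImmersion e ∧ IsReduced W ∧
      Set.range e.base = Z ∧ Smooth (e ≫ φ) := by
  obtain ⟨hmp, hpt⟩ := h
  obtain ⟨hfl, hlfp, -⟩ := hmp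
  haveI := hlfp
  refine Groth.Agent.StrictSSLib.exists_smooth_component φ (isClosed_of_mem_irreducibleComponents Z hZ) fun x hxZ => ?_
  by_cases hx : x ∈ φ.smoothLocus
  · exact Groth.Agent.StrictSSLib.smoothPiece_of_mem_smoothLocus φ hZ hxZ hx
  rcases hpt x with hl | hn
  · obtain ⟨A, j, hj, U, hc, q, hq, f, fD, hf, hfq, -, -⟩ := hl
    haveI := Groth.Agent.StrictSSLib.smooth_lineToBase A
    haveI : Smooth (U.ι ≫ φ) := by rw [hq, ← hfq]; infer_instance
    exact absurd (Groth.Agent.StrictSSLib.mem_smoothLocus_of_comp U.ι φ ⟨x, hc⟩) hx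
  · obtain ⟨A, j, hj, U, hc, q, hq, a, f, hf, hfq, -⟩ := hn
    haveI : IsReduced (Spec A) := isReduced_of_isOpenImmersion j
    haveI : _root_.IsReduced A := (affine_isReduced_iff A).mp inferInstance
    haveI : Subsingleton (Spec A) :=
      ⟨fun s t => j.isOpenEmbedding.injective (@Subsingleton.elim _ (inferInstanceAs (Subsingleton (PrimeSpectrum k))) _ _)⟩
    have ha : a = 0 := by
      by_contra ha
      have hmem : Groth.Agent.StrictSSLib.nx (a : A) 0 ∈ (f ⟨x, hc⟩).asIdeal := by
        by_contra h0
        exact hx (Groth.Agent.StrictSSLib.mem_smoothLocus_of_notMem hq f hfq ⟨x, hc⟩ 0 h0)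
      refine ha (IsReduced.eq_zero a ((mem_nilradical).mp ?_))
      rw [nilradical_eq_sInf]
      refine Submodule.mem_sInf.mpr fun P hP => ?_
      rw [show P = (q ⟨x, hc⟩).asIdeal from congrArg PrimeSpectrum.asIdeal
        (@Subsingleton.elim (Spec A) inferInstance ⟨P, hP⟩ (q ⟨x, hc⟩)), ← hfq]
      show algebraMap A (StrictSS.NodeAlg A a) a ∈ (f ⟨x, hc⟩).asIdeal
      rw [← Groth.Agent.StrictSSLib.nx_mul]
      exact Ideal.mul_mem_right _ _ hmem
    subst ha
    exact Groth.Agent.StrictSSLib.smoothPiece_of_chart φ hZ hxZ hc hq f hfq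

end Groth.Agent.S15649
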