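import Groth.Statements.S15650
import Groth.Agent.StrictSSLib.NodeLocal
import Groth.Agent.StrictSSLib.NodeChart
import Groth.Agent.StrictSSLib.SmoothChart
import Groth.Agent.StrictSSLib.CompStalk
import Groth.Agent.StrictSSLib.FibreTransfer

set_option autoImplicit false
set_option linter.style.haveILetI false
universe u
open StrictSS

namespace Groth.Agent.S15650

open CategoryTheory CategoryTheory.Limits AlgebraicGeometry in
/-- Let k be a separably closed field and (C, D) a semistable multipointed curve over Spec k with C and
D reduced, and assume that every irreducible component of C carries a reduced closed subscheme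
structure which is smooth over k. Then (C, D) is strictly semistable. (The published remark asserts
that, for semistable curves over such a field, strict semistability is equivalent to smoothness of
the irreducible components; this row is the converse implication. Semistability cannot be dropped:
three concurrent lines in the plane have smooth components and no chart at the common point.) -/
theorem result
    (k : Type u) [Field k] [IsSepClosed k]
    {C D : Scheme.{u}} (φ : C ⟶ Spec (CommRingCat.of k)) (i : D ⟶ C) [IsReduced C] [IsReduced D]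
    (hss : SSMod.IsSemistable φ i)
    (hZ : ∀ Z ∈ irreducibleComponents (C : Type u), ∃ (W : Scheme.{u}) (e : W ⟶ C),
      IsClosedImmersion e ∧ IsReduced W ∧ Set.range e.base = Z ∧ Smooth (e ≫ φ)) :
    StrictSS.IsStrictlySemistable φ i := by
  obtain ⟨hmp, hnod, het, hdisj⟩ := hss
  haveI : Flat φ := hmp.1
  haveI : LocallyOfFinitePresentation φ := hmp.2.1
  haveI : QuasiCompact φ := hmp.2.2.1
  haveI : IsClosedImmersion i := hmp.2.2.2.2.2.1
  haveI := het
  haveI : CompactSpace C := QuasiCompact.compactSpace_of_compactSpace φ
  -- dimension of the components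
  have hdim : ∀ Z ∈ irreducibleComponents (C : Type u), topologicalKrullDim Z = 1 := fun Z hZ => by
    obtain ⟨z, hz⟩ := hZ.1.1
    haveI := StrictSSLib.isIso_fiberι φ (φ z)
    let hh := (φ.fiberι (φ z)).homeomorph
    rw [← Set.image_preimage_eq Z hh.surjective, StrictSSLib.topologicalKrullDim_homeomorph_image hh]
    refine (hnod.2.2 (φ z)).1 _ ?_
    have := StrictSSLib.image_mem_irreducibleComponents hh.symm hZ
    rwa [Homeomorph.image_symm] at this
  have hC : ∀ Z ∈ irreducibleComponents (C : Type u), Nonempty (StrictSSLib.SmoothComp φ Z) := fun Z hZ' =>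
    StrictSSLib.exists_smoothComp φ hZ' (hdim Z hZ') (hZ Z hZ')
  -- the marked points are finitely many closed points
  haveI : LocallyQuasiFinite (i ≫ φ) := StrictSSLib.lqf_of_etale (i ≫ φ)
  haveI : QuasiCompact (i ≫ φ) := inferInstance
  have hDfin : (Set.univ : Set D).Finite := (i ≫ φ).finite_preimage (s := Set.univ)
    (Set.finite_univ_iff.mpr (inferInstanceAs (Finite (PrimeSpectrum k))))
  haveI : IsLocallyArtinian D := IsLocallyArtinian.of_locallyQuasiFinite (i ≫ φ)
  have hDc : ∀ d : D, IsClosed ({i d} : Set C) := fun d => by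
    have := i.isClosedEmbedding.isClosedMap {d} isClosed_singleton
    rwa [Set.image_singleton] at this
  have key : ∀ y : C, IsClosed ({y} : Set C) → HasLineChartAt φ i y ∨ HasNodeChartAt φ i y := by
    intro y hy
    have hDy : IsClosed (Set.range i \ {y}) := by
      have hfin : (Set.range i).Finite := by
        rw [← Set.image_univ]
        exact hDfin.image _
      have heq : Set.range i \ {y} = ⋃ z ∈ Set.range i \ {y}, {z} := (Set.biUnion_of_singleton _).symm
      rw [heq]
      refine (hfin.subset Set.sdiff_subset).isClosed_biUnion ?_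
      rintro _ ⟨⟨d, rfl⟩, -⟩
      exact hDc d
    by_cases hdom : IsDomain (C.presheaf.stalk y)
    · obtain ⟨O, hyO, hO⟩ := StrictSSLib.exists_smooth_nhd_of_isDomain φ hC y
      exact Or.inl (StrictSSLib.hasLineChart_of_smooth φ i O hyO hDy)
    · have hys : y ∉ φ.smoothLocus := fun h => hdom (by
        haveI := StrictSSLib.smooth_smoothLocus φ
        haveI := StrictSSLib.isDomain_stalk_of_smooth (φ.smoothLocus.ι ≫ φ) ⟨y, h⟩
        exact (φ.smoothLocus.stalkIso ⟨y, h⟩).commRingCatIsoToRingEquiv.symm.toMulEquiv.isDomain)
      obtain ⟨K, _, _, _, Y, P, π, hpb, y', rfl, hord⟩ := StrictSSLib.exists_geom_node φ hnod hy hys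
      have hnd := StrictSSLib.nodeData_of_ordDoublePt hpb y' hord hdom
        (StrictSSLib.isPrincipalIdealRing_quot φ hC hy)
      refine Or.inr (StrictSSLib.hasNodeChart_of_nodeData φ i i.isClosedEmbedding.isClosed_range (fun hm => ?_) hnd)
      exact Set.disjoint_left.mp hdisj hm hys
  refine ⟨hmp, fun x => ?_⟩
  obtain ⟨y, hyx, hy⟩ := IsClosed.exists_closed_singleton (S := closure ({x} : Set C)) isClosed_closure
    ⟨x, subset_closure rfl⟩
  have hsp : x ⤳ y := specializes_iff_mem_closure.mpr hyx
  rcases key y hy with ⟨A, j, hj, U, hyU, h⟩ | ⟨A, j, hj, U, hyU, h⟩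
  · exact Or.inl ⟨A, j, hj, U, hsp.mem_open U.2 hyU, h⟩
  · exact Or.inr ⟨A, j, hj, U, hsp.mem_open U.2 hyU, h⟩

end Groth.Agent.S15650
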