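import Groth.Statements.S15654
import Groth.Agent.AbVarLib.FrobSS
-- import your own Groth.Agent.* helpers here

set_option autoImplicit false
universe u
open CategoryTheory MonoidalCategory CartesianMonoidalCategory MonObj GrpObj AlgebraicGeometry
open AbVar

namespace Groth.Agent.S15654

/-- First assertion: let A be an abelian variety over a finite field k with q elements (a proper,
geometrically integral commutative group scheme over k) and π_A its q-Frobenius endomorphism (the
identity on points and the q-th power map on sections; a homomorphism). Then the ℚ-subalgebra ℚ[π_A]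
of End⁰(A) = ℚ ⊗_ℤ End_k(A) (End_k(A) the ring of endomorphisms defined over k) generated by the
image 1 ⊗ π_A of the Frobenius endomorphism is a semisimple ring. -/
theorem result (k : Type u) [Field k] [Finite k]
    (A : Over (Spec (CommRingCat.of k)))
    [GrpObj A] [IsCommMonObj A] [IsProper A.hom] [GeometricallyIntegral A.hom]
    (πA : A ⟶ A) [IsMonHom πA] (hπAb : πA.left.base = 𝟙 _)
    (hπAle : ∀ U : A.left.Opens, U ≤ πA.left ⁻¹ᵁ U)
    (hπAapp : ∀ (U : A.left.Opens) (s : Γ(A.left, U)), (πA.left.appLE U U (hπAle U)).hom s = s ^ Nat.card k) :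
    IsSemisimpleRing (EndAV.QAdj (EndAV.End.of πA)) := by
  open Groth.Agent.AbVarLib in
  exact by
    classical
    obtain ⟨g, hg⟩ := HomBC.exists_dim A
    obtain ⟨-, hfin, -⟩ := HomBC.free_finite_finrank (A := A) (B := A) hg hg
    have : Module.Finite ℤ (EndAV.End A) := hfin
    let φ : EndAV.End A := EndAV.End.of πA
    let S := EndAV.QAdj φ
    have hmem : ∀ x : S, ∃ R : Polynomial ℚ, Polynomial.aeval (EndAV.toEnd0 φ) R = x.1 := fun x => by
      have hx := x.2
      change x.1 ∈ Algebra.adjoin ℚ {EndAV.toEnd0 φ} at hx
      rwa [Algebra.adjoin_singleton_eq_range_aeval] at hx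
    letI : CommRing S := { (inferInstance : Ring S) with
      mul_comm := fun x y => by
        obtain ⟨R, hR⟩ := hmem x
        obtain ⟨R', hR'⟩ := hmem y
        exact Subtype.ext (by
          show x.1 * y.1 = y.1 * x.1
          rw [← hR, ← hR', ← map_mul, ← map_mul, _root_.mul_comm]) }
    have : IsReduced S := ⟨fun x hx => by
      obtain ⟨R, hR⟩ := hmem x
      refine Subtype.ext ?_
      rw [← hR]
      exact FrobSS.eq_zero_of_isNilpotent_rat φ (Nat.card k) hπAb hπAle hπAapp R (hR ▸ hx.map S.val)⟩
    have : IsArtinianRing S := IsArtinianRing.of_finite ℚ S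
    exact IsArtinianRing.isSemisimpleRing_of_isReduced S

end Groth.Agent.S15654
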