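import Groth.Statements.S15656
import Groth.Agent.GrpScheme.AVPow

set_option autoImplicit false
universe u
open CategoryTheory MonoidalCategory CartesianMonoidalCategory MonObj GrpObj AlgebraicGeometry
open AbVar

namespace Groth.Agent.S15656

/-- Remark preceding it: let A and B be abelian varieties over a field k (proper, geometrically integral
commutative group schemes over k). Then the additive group Hom_k(A, B) of homomorphisms A → B
defined over k (sum = pointwise product in the group law of B) is torsion-free: if n·f = 0 for an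
integer n ≠ 0 then f = 0. -/
theorem result (k : Type u) [Field k]
    (A B : Over (Spec (CommRingCat.of k)))
    [GrpObj A] [IsCommMonObj A] [IsProper A.hom] [GeometricallyIntegral A.hom]
    [GrpObj B] [IsCommMonObj B] [IsProper B.hom] [GeometricallyIntegral B.hom] :
    NoZeroSMulDivisors ℤ (EndAV.Hom A B) := by
  have key : ∀ (n : ℕ) (f : A ⟶ B) [IsMonHom f], 1 ≤ n → f ^ n = 1 → f = 1 := by
    intro n f _ hn hf
    have hs := (Groth.Agent.GrpScheme.AVPow.isFinite_surjective_pow A hn).2
    have : IsIntegral A.left := GeometricallyIntegral.isIntegral_of_subsingleton A.hom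
    have : IsDominant (𝟙 A ^ n).left := inferInstance
    have : IsSeparated B.hom := inferInstance
    have h1 : (𝟙 A ^ n) ≫ f = (𝟙 A ^ n) ≫ (1 : A ⟶ B) := by
      rw [MonObj.pow_comp, Category.id_comp, hf, MonObj.comp_one]
    apply Over.OverMorphism.ext
    exact ext_of_isDominant_of_isSeparated B.hom (by rw [Over.w, Over.w]) (𝟙 A ^ n).left (congrArg CommaMorphism.left h1)
  refine ⟨fun {n φ} h => or_iff_not_imp_left.mpr fun hn => EndAV.Hom.ext ?_⟩
  let Ψ : EndAV.Hom A B →+ Additive (A ⟶ B) := AddMonoidHom.mk' (fun ψ => Additive.ofMul ψ.toHom) (fun _ _ => rfl)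
  have h' : φ.toHom ^ n = 1 := by
    have h2 := congrArg Ψ h
    rw [map_zsmul, map_zero] at h2
    exact congrArg Additive.toMul h2
  obtain ⟨m, rfl | rfl⟩ := Int.eq_nat_or_neg n
  · exact key m φ.toHom (by omega) (by simpa using h')
  · exact key m φ.toHom (by omega) (by simpa using h')

end Groth.Agent.S15656
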