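import Groth.Statements.S15681
import Groth.Agent.HodgeIdx81.Rational
import Groth.Agent.EulerChar.Cartier
import Groth.Agent.VBLib.TwistLine
import Groth.Agent.VBHom27.Curve
import Groth.Agent.ExtHom.Linear


set_option autoImplicit false
universe u
open CategoryTheory CategoryTheory.Limits AlgebraicGeometry MonoidalCategory
open FreeSec

namespace Groth.Agent.S15681

open Groth.Agent Groth.Agent.ProjTwist MonoidalCategory

set_option linter.style.haveILetI false
attribute [local irreducible] Curv2.euler

section
variable (k : Type u) [Field k] {X : Scheme.{u}} [X.Over (Spec (CommRingCat.of k))]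

theorem tens_smul (V : X.Modules) {A B : X.Modules} (c : k) (φ : A ⟶ B) :
    ((DCoh.tensorBi (X := X)).obj V).map (c • φ) = c • ((DCoh.tensorBi (X := X)).obj V).map φ := by
  rw [KLin.smul_def, KLin.smul_def, Functor.map_comp, Formal.smulMod, Formal.smulMod,
    ExtHom.tensorBi_map_smulModΓ]

variable [IsProper (X ↘ Spec (CommRingCat.of k))] [IsIntegral X]

theorem surjective_tens_mapL {r : ℕ} {V : X.Modules} (hV : FlatMod.IsFinLocFreeOfRank r V)
    (hd : topologicalKrullDim X = 1) {M : X.Modules} (hM : PicF.IsInvertible M)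
    (φ : Coh.structureModule X ⟶ M) (hφ : φ ≠ 0) :
    Function.Surjective (CurveCoh.mapL k (((DCoh.tensorBi (X := X)).obj V).map φ) 1) := by
  haveI := EulerChar.isNoetherian k (X := X)
  obtain ⟨hm, hC, hdim⟩ := VBLib.GenusZero.cokernel_props (k := k)
    (PicLoc.isInvertible_structureModule X) hM φ hφ hd
  haveI := hm
  have hS := CohDev.tens_shortExact hV (VBLib.GenusZero.shortExact_cokernel φ)
  haveI : Subsingleton (Coh.HH X (CohDev.tens V (cokernel φ)) 1) :=
    Pn.subsingleton_of_supportDim_le (EulerChar.isCoh_tens k hV hC) 0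
      ((CohDev.dim_mono (CohDev.support_tens_subset V _)).trans hdim) 1 Nat.zero_lt_one
  exact fun y => ((CurveCoh.exact_mapL k hS 1) y).mp (Subsingleton.elim (α := Coh.HH X (CohDev.tens V (cokernel φ)) 1) _ _)

theorem euler_curve (hd : topologicalKrullDim X = 1) {M : X.Modules} (hM : Coh.IsCoh M) :
    Curv2.euler k X M = (Module.finrank k (Coh.HH X M 0) : ℤ) - Module.finrank k (Coh.HH X M 1) := by
  haveI := EulerChar.isNoetherian k (X := X)
  rw [EulerChar.euler_eq_sum k (M := M) (t := 2) fun i hi =>
    CohTop.Vanishing.grothendieck_vanishing (X := X.toPresheafedSpace.carrier) 1 hd.le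
      (Coh.toAb M) i (by omega), Finset.sum_range_succ, Finset.sum_range_one]
  simp [sub_eq_add_neg]

theorem euler_twist {L : X.Modules} (hL : PicF.IsInvertible L) (hd : topologicalKrullDim X ≤ 1)
    {D : X.IdealSheafData} (hD : BlowUp.IsEffCartierIdeal D) :
    Curv2.euler k X L = Curv2.euler k X (CohDev.tens L (ClSub.idealMod D)) +
      Module.finrank k (Coh.HH X (ClSub.quotMod D) 0) := by
  haveI := EulerChar.isNoetherian k (X := X)
  have hO := VBLib.isCoh_of_ofRank
    (isFinLocFreeOfRank_one (PicLoc.isInvertible_structureModule X))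
  have hI : Coh.IsCoh (ClSub.idealMod D) := VBLib.isCoh_of_ofRank
    (isFinLocFreeOfRank_one (IdealSh.IdealMod.isInvertible_of_isEffCartierIdeal D hD))
  have hS := EulerChar.shortExact_ideal D
  have hQ : Coh.IsCoh (ClSub.quotMod D) := EulerChar.isCoh_quotMod k D
  have hs := (TopDimLib.topDim_le_of_subset (EulerChar.support_quotMod_subset D)).trans
    (EulerChar.dim_support_divisor D hd hD)
  have hL1 := isFinLocFreeOfRank_one hL
  have h1 : Curv2.euler k X (CohDev.tens L (Coh.structureModule X)) =
      Curv2.euler k X (CohDev.tens L (ClSub.idealMod D)) + Curv2.euler k X (CohDev.tens L (ClSub.quotMod D)) :=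
    EulerChar.euler_add_map k (DCoh.tensorBi.obj L) (ClSub.idealModι D) (ClSub.toSubscheme D)
      (kernel.condition _) (CohDev.tens_shortExact hL1 hS)
      (EulerChar.isCoh_tens k hL1 hI) (EulerChar.isCoh_tens k hL1 hO) (EulerChar.isCoh_tens k hL1 hQ)
  rw [EulerChar.euler_iso k (show CohDev.tens L (Coh.structureModule X) ≅ L from tensOne L),
    EulerChar.euler_tens_of_support k hL1 hQ hs, EulerChar.euler_eq_finrank_of_support k hQ hs] at h1
  simpa using h1

end

/-- Let X be a smooth proper integral curve of genus g over an algebraically closed field k, T a finite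
locally free O_X-module and D an effective Cartier divisor on X of degree m = dim_k H^0(X, O_D),
with m ≥ 1 and m ≥ 2g. If the restriction map H^0(X, T) → H^0(X, T ⊗ O_D) (written on T ⊗ O_X ≅ T
and induced by O_X → O_D) is surjective, then H^1(X, T ⊗ I_E) = 0 for every effective Cartier
divisor E on X of degree m - 2g, I_E its ideal sheaf. (The published statement is phrased for a
family of sections of a fibration over the curve, parametrised by a base scheme, with T the
pull-back of the relative tangent sheaf along the section; this row is the case of a single section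
over an algebraically closed field, to which that statement reduces, with T any finite locally free
module, which is all the argument uses.) -/
theorem result (k : Type u) [Field k] [IsAlgClosed k]
    (X : Scheme.{u}) [X.Over (Spec (CommRingCat.of k))]
    (hX : Curve.IsSmoothProperCurve k X (X ↘ (Spec (CommRingCat.of k))))
    (T : X.Modules) (hT : FlatMod.IsFinLocFree T)
    (D : X.IdealSheafData) (hD : BlowUp.IsEffCartierIdeal D)
    (hD1 : 1 ≤ Module.finrank k (Coh.HH X (ClSub.quotMod D) 0))
    (hDg : 2 * Curv2.genus k X ≤ Module.finrank k (Coh.HH X (ClSub.quotMod D) 0))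
    (hsurj : Function.Surjective (Sheaf.H.map ((SheafOfModules.toSheaf X.ringCatSheaf).map
      ((CohB1.sheafifyMod X).map (CohB1.toPMod T ◁ (ClSub.toSubscheme D).val) :
        CohB1.tensorMod T (Coh.structureModule X) ⟶ CohB1.tensorMod T (ClSub.quotMod D))) 0))
    (E : X.IdealSheafData) (hE : BlowUp.IsEffCartierIdeal E)
    (hdegE : Module.finrank k (Coh.HH X (ClSub.quotMod E) 0) + 2 * Curv2.genus k X =
      Module.finrank k (Coh.HH X (ClSub.quotMod D) 0)) :
    Subsingleton (Coh.HH X (CohB1.tensorMod T (ClSub.idealMod E)) 1) := by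
  obtain ⟨hp, hsm, hint, hd⟩ := hX
  haveI := hp
  haveI := hsm
  haveI := hint
  haveI := EulerChar.isNoetherian k (X := X)
  have hTr := VBLib.ofRank_rk hT
  have hIi := IdealSh.IdealMod.isInvertible_of_isEffCartierIdeal D hD
  have hEi := IdealSh.IdealMod.isInvertible_of_isEffCartierIdeal E hE
  obtain ⟨M, hM, ⟨e⟩⟩ := PicLaw.exists_inverse hIi
  have hO := PicLoc.isInvertible_structureModule X
  have hOc := VBLib.isCoh_of_ofRank (isFinLocFreeOfRank_one hO)
  have hg : Module.finrank k (Coh.HH X (Coh.structureModule X) 1) = Curv2.genus k X := rfl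
  have h1 := VBLib.finrank_H0_structure_eq_one (k := k) (X := X) VBLib.bijective_toGlobal_of_isAlgClosed
  have hχO := euler_curve k hd hOc
  -- two sections of `O(D)`
  have hχM := euler_twist k hM hd.le hD
  rw [EulerChar.euler_iso k (show CohDev.tens M (ClSub.idealMod D) ≅ Coh.structureModule X from
    tensComm M (ClSub.idealMod D) ≪≫ e)] at hχM
  have hMc := VBLib.isCoh_of_ofRank (isFinLocFreeOfRank_one hM)
  have hMsum := euler_curve k hd hMc
  haveI := EulerChar.finite_HH k M hMc 0
  haveI : Module.Finite k (Coh.structureModule X ⟶ M) := Module.Finite.equiv (ShStabLib.BC.secEquiv k M).symm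
  have hM2 : 1 < Module.finrank k (Coh.structureModule X ⟶ M) := by
    rw [(ShStabLib.BC.secEquiv k M).finrank_eq]
    omega
  have hT' := VBLib.ofRank_rk (VBLib.isFinLocFree_of_ofRank (VBLib.ofRank_tensor hTr (isFinLocFreeOfRank_one hIi)))
  let F := (DCoh.tensorBi (X := X)).obj (CohB1.tensorMod T (ClSub.idealMod D))
  haveI : Module.Finite k (Coh.HH X (F.obj (Coh.structureModule X)) 1) :=
    EulerChar.finite_HH k _ (EulerChar.isCoh_tens k hT' hOc) 1
  haveI : Module.Finite k (Coh.HH X (F.obj M) 1) :=
    EulerChar.finite_HH k _ (EulerChar.isCoh_tens k hT' hMc) 1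
  -- the restriction hypothesis
  have hS : ((ShortComplex.mk (ClSub.idealModι D) (ClSub.toSubscheme D) (kernel.condition _)).map
      ((DCoh.tensorBi (X := X)).obj T)).ShortExact := CohDev.tens_shortExact hTr (EulerChar.shortExact_ideal D)
  have hinj : Function.Injective (CurveCoh.mapL k (((DCoh.tensorBi (X := X)).obj T).map (ClSub.idealModι D)) 1) := by
    rw [injective_iff_map_eq_zero]
    intro y hy
    obtain ⟨z, hz⟩ := ((CurveCoh.exact_deltaL_mapL k hS 0 1 rfl) y).mp hy
    obtain ⟨w, hw⟩ := hsurj z
    rw [← hz]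
    exact ((CurveCoh.exact_mapL_deltaL k hS 0 1 rfl) z).mpr ⟨w, hw⟩
  haveI : Module.Finite k (Coh.HH X (CohB1.tensorMod T (Coh.structureModule X)) 1) :=
    EulerChar.finite_HH k _ (EulerChar.isCoh_tens k hTr hOc) 1
  have hle : Module.finrank k (Coh.HH X (CohB1.tensorMod T (ClSub.idealMod D)) 1) ≤
      Module.finrank k (Coh.HH X (CohB1.tensorMod T (Coh.structureModule X)) 1) :=
    LinearMap.finrank_le_finrank_of_injective hinj
  have hV : Module.finrank k (Coh.HH X (F.obj (Coh.structureModule X)) 1) =
      Module.finrank k (Coh.HH X (CohB1.tensorMod T (ClSub.idealMod D)) 1) :=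
    Pn.finrank_hh_iso (k := k) (show F.obj (Coh.structureModule X) ≅ _ from tensOne _) 1
  have hW : Module.finrank k (Coh.HH X (F.obj M) 1) =
      Module.finrank k (Coh.HH X (CohB1.tensorMod T (Coh.structureModule X)) 1) :=
    Pn.finrank_hh_iso (k := k) (show F.obj M ≅ _ from tensAssoc T (ClSub.idealMod D) M ≪≫
      tensCongr (Iso.refl T) e) 1
  obtain ⟨a, ha⟩ := Module.finrank_pos_iff_exists_ne_zero.1 (lt_trans Nat.zero_lt_one hM2)
  obtain ⟨b, hb⟩ := exists_linearIndependent_pair_of_one_lt_finrank hM2 ha
  have hbij : ∀ φ : Coh.structureModule X ⟶ M, φ ≠ 0 → Function.Bijective (CurveCoh.mapL k (F.map φ) 1) := by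
    intro φ hφ
    have hs : Function.Surjective (CurveCoh.mapL k (F.map φ) 1) := surjective_tens_mapL k hT' hd hM φ hφ
    refine ⟨(LinearMap.injective_iff_surjective_of_finrank_eq_finrank ?_).2 hs, hs⟩
    exact le_antisymm (by rw [hV, hW]; exact hle) (LinearMap.finrank_le_finrank_of_surjective hs)
  haveI hzero : Subsingleton (Coh.HH X (F.obj (Coh.structureModule X)) 1) := by
    by_contra hn
    haveI := not_subsingleton_iff_nontrivial.1 hn
    let A := LinearEquiv.ofBijective _ (hbij a ha)
    obtain ⟨c, hc⟩ := Module.End.exists_eigenvalue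
      (A.symm.toLinearMap ∘ₗ CurveCoh.mapL k (F.map b) 1 : Module.End k _)
    obtain ⟨v, hv⟩ := hc.exists_hasEigenvector
    have hne : b + (-c) • a ≠ 0 := fun h => by
      have h' := LinearIndependent.pair_iff.1 hb (-c) 1 (by rw [one_smul, add_comm]; exact h)
      exact one_ne_zero h'.2
    refine hv.2 ((hbij _ hne).1 ?_)
    rw [map_zero, F.map_add, VBLib.GenusZero.mapL_add, show F.map ((-c) • a) = (-c) • F.map a from tens_smul k _ _ _,
      VBLib.GenusZero.mapL_smul, LinearMap.add_apply, LinearMap.smul_apply]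
    have h := congrArg A hv.apply_eq_smul
    rw [map_smul] at h
    simp only [LinearMap.coe_comp, LinearEquiv.coe_coe, Function.comp_apply, LinearEquiv.apply_symm_apply] at h
    rw [h]
    show c • CurveCoh.mapL k (F.map a) 1 v + (-c) • CurveCoh.mapL k (F.map a) 1 v = 0
    rw [neg_smul, add_neg_cancel]
  -- compare `E` with `D`
  have hN := AmpleLib.isInvertible_tensorMod hM hEi
  have hNc := VBLib.isCoh_of_ofRank (isFinLocFreeOfRank_one hN)
  have hχN := euler_twist k hM hd.le hE
  have hNsum := euler_curve k hd hNc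
  haveI := EulerChar.finite_HH k _ hNc 0
  haveI : Module.Finite k (Coh.structureModule X ⟶ CohB1.tensorMod M (ClSub.idealMod E)) :=
    Module.Finite.equiv (ShStabLib.BC.secEquiv k _).symm
  have hN1 : 0 < Module.finrank k (Coh.structureModule X ⟶ CohB1.tensorMod M (ClSub.idealMod E)) := by
    rw [(ShStabLib.BC.secEquiv k _).finrank_eq]
    rw [show CohDev.tens M (ClSub.idealMod E) = CohB1.tensorMod M (ClSub.idealMod E) from rfl] at hχN
    omega
  obtain ⟨φ, hφ⟩ := Module.finrank_pos_iff_exists_ne_zero.1 hN1
  have hs := surjective_tens_mapL k hT' hd hN φ hφ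
  haveI hs' : Subsingleton (Coh.HH X (F.obj (CohB1.tensorMod M (ClSub.idealMod E))) 1) := hs.subsingleton
  exact AmpCrit.subsingleton_HH_of_iso (show F.obj (CohB1.tensorMod M (ClSub.idealMod E)) ≅ _ from
    (tensAssoc (CohB1.tensorMod T (ClSub.idealMod D)) M (ClSub.idealMod E)).symm ≪≫
      tensCongr (tensAssoc T (ClSub.idealMod D) M ≪≫ tensCongr (Iso.refl T) e ≪≫ tensOne T) (Iso.refl _)) 1

end Groth.Agent.S15681
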