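import Groth.Statements.S15682
import Groth.Agent.EulerChar.Cartier
import Groth.Agent.ProjAff.Basic
import Groth.Agent.CohAff.RcComp
import Groth.Agent.CohAff.ResOps
import Groth.Agent.KRR49.KoszulClass
import Groth.Agent.ProjTwist.Tensor
import Groth.Agent.KFlat.FlatPull
import Groth.Agent.RDerLES

set_option autoImplicit false
set_option backward.isDefEq.respectTransparency false
set_option linter.style.haveILetI false
universe u
open CategoryTheory CategoryTheory.Limits AlgebraicGeometry MonoidalCategory
open FreeSec

namespace Groth.Agent.S15682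

noncomputable section

open Groth.Agent

section
variable (k : Type u) [Field k] {C T : Scheme.{u}} [C.Over (Spec (CommRingCat.of k))]
  [T.Over (Spec (CommRingCat.of k))]

/-- Higher direct images along an affine morphism vanish (kept here: a short import closure). -/
theorem isZero_rpush_affine {X Y : Scheme.{u}} (f : X ⟶ Y) [IsAffineHom f] (F : X.Modules) [F.IsQuasicoherent]
    (q : ℕ) : IsZero ((Coh.Rpush f (q + 1)).obj F) := by
  have := CohAff.fresOf_isQuasicoherent (injectiveResolution F)
  refine IsZero.of_iso ?_ (CohAff.rpushSuccIso f (injectiveResolution F) q)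
  exact CohAff.FRes.isZero_Rc_of_van _ f fun V hV => CohAff.FRes.van_succ_of_isAffineOpen (hV.preimage f) q

/-- the projection `T ×_k C ⟶ T` -/
abbrev prT (C T : Scheme.{u}) [C.Over (Spec (CommRingCat.of k))] [T.Over (Spec (CommRingCat.of k))] :=
  pullback.fst (T ↘ (Spec (CommRingCat.of k))) (C ↘ (Spec (CommRingCat.of k)))

/-- the projection `T ×_k C ⟶ C` -/
abbrev prC (C T : Scheme.{u}) [C.Over (Spec (CommRingCat.of k))] [T.Over (Spec (CommRingCat.of k))] :=
  pullback.snd (T ↘ (Spec (CommRingCat.of k))) (C ↘ (Spec (CommRingCat.of k)))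

variable (F : (pullback (T ↘ (Spec (CommRingCat.of k))) (C ↘ (Spec (CommRingCat.of k)))).Modules)
  (D : C.IdealSheafData)

/-- The sequence of the divisor, pulled back and twisted by `F`. -/
def twSeq : ShortComplex (pullback (T ↘ (Spec (CommRingCat.of k))) (C ↘ (Spec (CommRingCat.of k)))).Modules :=
  ((ShortComplex.mk (ClSub.idealModι D) (ClSub.toSubscheme D) (kernel.condition _)).map
    (Scheme.Modules.pullback (prC k C T))).map ((DCoh.tensorBi).obj F)

variable {F} in
theorem shortExact_twSeq (hF : FlatMod.IsFinLocFree F) : (twSeq k F D).ShortExact := by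
  haveI : Flat (prC k C T) := inferInstance
  exact KRR49.tens_shortExact_flf hF ((EulerChar.shortExact_ideal D).map_of_exact _)

/-- `F ⊗ π^*O ≅ F`. -/
def twUnitIso : (twSeq k F D).X₂ ≅ F :=
  ProjTwist.tensCongr (Iso.refl F) (QCoh.pullbackUnitIso (prC k C T)) ≪≫ ProjTwist.tensOne F

variable {F} in
/-- The part on the divisor has no first direct image. -/
theorem isZero_rpush_quot (hC : Curve.IsSmoothProperCurve k C (C ↘ (Spec (CommRingCat.of k))))
    (hF : FlatMod.IsFinLocFree F) (hD : BlowUp.IsEffCartierIdeal D) :
    IsZero ((Coh.Rpush (prT k C T) 1).obj (twSeq k F D).X₃) := by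
  haveI := hC.1
  haveI : IsFinite (D.subschemeι ≫ (C ↘ Spec (CommRingCat.of k))) :=
    EulerChar.isFinite_of_dim_support D k (EulerChar.dim_support_divisor D hC.2.2.2.le hD)
  let i := D.subschemeι
  let i' := pullback.fst (prC k C T) i
  let π' := pullback.snd (prC k C T) i
  have h : IsPullback π' i' i (prC k C T) := (IsPullback.of_hasPullback (prC k C T) i).flip
  have h₂ : IsPullback π' (i' ≫ prT k C T) (i ≫ (C ↘ Spec (CommRingCat.of k))) (T ↘ Spec (CommRingCat.of k)) :=
    h.paste_vert (IsPullback.of_hasPullback (T ↘ Spec (CommRingCat.of k)) (C ↘ Spec (CommRingCat.of k))).flip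
  haveI : IsAffineHom i' := MorphismProperty.of_isPullback (P := @IsAffineHom) h inferInstance
  haveI : IsAffineHom (i' ≫ prT k C T) :=
    MorphismProperty.of_isPullback (P := @IsAffineHom) h₂ inferInstance
  haveI hO : (Coh.structureModule D.subscheme).IsQuasicoherent :=
    ProjTwist.isQuasicoherent_structureModule D.subscheme
  haveI : Coh.IsQCoh (Coh.structureModule D.subscheme) := hO
  haveI := S12131.result i (prC k C T) π' i' h (Coh.structureModule D.subscheme)
  let G := (Scheme.Modules.pullback π').obj (Coh.structureModule D.subscheme)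
  haveI hFq : F.IsQuasicoherent := PerfTri.Betti.isQuasicoherent_of_isFinLocFree hF
  haveI : G.IsQuasicoherent := QCoh.isQuasicoherent_pullback π' _
  haveI := ProjAff.isIso_projMap i' G F
  haveI : ((Scheme.Modules.pullback i').obj F).IsQuasicoherent := QCoh.isQuasicoherent_pullback i' _
  let M := CohB1.tensorMod G ((Scheme.Modules.pullback i').obj F)
  haveI : M.IsQuasicoherent := LimTop.TensorQC.isQuasicoherent_tensM _ _
  let e₀ := asIso (((Scheme.Modules.pullbackPushforwardAdjunction (prC k C T)).homEquiv
      ((Scheme.Modules.pushforward i).obj (Coh.structureModule D.subscheme))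
      ((Scheme.Modules.pushforward i').obj G)).symm
    ((Scheme.Modules.pushforward i).map ((Scheme.Modules.pullbackPushforwardAdjunction π').unit.app
        (Coh.structureModule D.subscheme)) ≫
      (Scheme.Modules.pushforwardComp π' i).hom.app G ≫
      (Scheme.Modules.pushforwardCongr h.w).hom.app G ≫
      (Scheme.Modules.pushforwardComp i' (prC k C T)).inv.app G))
  let e : (twSeq k F D).X₃ ≅ (Scheme.Modules.pushforward i').obj M :=
    ProjTwist.tensCongr (Iso.refl F) e₀ ≪≫ ProjTwist.tensComm _ _ ≪≫
      asIso (TwistFlat.projMap i' G F)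
  exact ((isZero_rpush_affine (i' ≫ prT k C T) M 0).of_iso
    (CohAff.rpushAffineFirst i' (prT k C T) M 1)).of_iso ((Coh.Rpush (prT k C T) 1).mapIso e)

variable {F D} in
theorem iff_aux [HasInjectiveResolutions (pullback (T ↘ (Spec (CommRingCat.of k))) (C ↘ (Spec (CommRingCat.of k)))).Modules]
    (hC : Curve.IsSmoothProperCurve k C (C ↘ (Spec (CommRingCat.of k))))
    (hF : FlatMod.IsFinLocFree F) (hD : BlowUp.IsEffCartierIdeal D) :
    IsZero ((Coh.Rpush (prT k C T) 1).obj (twSeq k F D).X₁) ↔
      (IsZero ((Coh.Rpush (prT k C T) 1).obj F) ∧ Epi ((Coh.push (prT k C T)).map (twSeq k F D).g)) := by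
  have hS := shortExact_twSeq k D hF
  have h₃ := isZero_rpush_quot k D hC hF hD
  let Δ := RDerLES.derivedLES (Scheme.Modules.pushforward (prT k C T))
  constructor
  · intro h₁
    refine ⟨?_, ?_⟩
    swap
    · have hg : Epi ((Coh.Rpush (prT k C T) 0).map (twSeq k F D).g) :=
        (Δ.exact₃ _ hS 0 1 rfl).epi_f (h₁.eq_of_tgt _ _)
      have hn := (Scheme.Modules.pushforward (prT k C T)).toRightDerivedZero.naturality (twSeq k F D).g
      have h1 : Epi ((Scheme.Modules.pushforward (prT k C T)).toRightDerivedZero.app (twSeq k F D).X₂ ≫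
          (Coh.Rpush (prT k C T) 0).map (twSeq k F D).g) := epi_comp _ _
      rw [← hn] at h1
      change Epi ((Scheme.Modules.pushforward (prT k C T)).map (twSeq k F D).g)
      rw [show (Scheme.Modules.pushforward (prT k C T)).map (twSeq k F D).g =
        ((Scheme.Modules.pushforward (prT k C T)).map (twSeq k F D).g ≫
          (Scheme.Modules.pushforward (prT k C T)).toRightDerivedZero.app (twSeq k F D).X₃) ≫
          inv ((Scheme.Modules.pushforward (prT k C T)).toRightDerivedZero.app (twSeq k F D).X₃) by simp]
      exact epi_comp _ _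
    exact ((Δ.exact₂ _ hS 1).isZero_of_both_zeros (h₁.eq_of_src _ _) (h₃.eq_of_tgt _ _)).of_iso
      ((Coh.Rpush (prT k C T) 1).mapIso (twUnitIso k F D)).symm
  · rintro ⟨h₂, hepi⟩
    have h₂' : IsZero ((Coh.Rpush (prT k C T) 1).obj (twSeq k F D).X₂) :=
      h₂.of_iso ((Coh.Rpush (prT k C T) 1).mapIso (twUnitIso k F D))
    have hn := (Scheme.Modules.pushforward (prT k C T)).toRightDerivedZero.naturality (twSeq k F D).g
    haveI : Epi ((Scheme.Modules.pushforward (prT k C T)).map (twSeq k F D).g) := hepi
    haveI : Epi ((Coh.Rpush (prT k C T) 0).map (twSeq k F D).g) := by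
      have h1 : Epi ((Scheme.Modules.pushforward (prT k C T)).map (twSeq k F D).g ≫
          (Scheme.Modules.pushforward (prT k C T)).toRightDerivedZero.app (twSeq k F D).X₃) := epi_comp _ _
      rw [hn] at h1
      exact epi_of_epi ((Scheme.Modules.pushforward (prT k C T)).toRightDerivedZero.app (twSeq k F D).X₂) _
    have hδ : Δ.δ _ hS 0 1 rfl = 0 := by
      rw [← cancel_epi ((Coh.Rpush (prT k C T) 0).map (twSeq k F D).g), comp_zero]
      exact Δ.comp_δ _ hS 0 1 rfl
    exact (Δ.exact₁ _ hS 0 1 rfl).isZero_of_both_zeros hδ (h₂'.eq_of_tgt _ _)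

end


/-- Let C be a smooth proper integral curve over a field k, T a k-scheme, F a finite locally free module
on T ×_k C (projections pr_T and pr_C) and D an effective Cartier divisor on C with ideal sheaf I_D.
Then R^1 pr_{T*}(F ⊗ pr_C^* I_D) vanishes if and only if R^1 pr_{T*} F vanishes and the restriction
pr_{T*}(F ⊗ pr_C^* O_C) → pr_{T*}(F ⊗ pr_C^* O_D), induced by O_C → O_D, is an epimorphism of
O_T-modules. (The published statement has F equal to the pull-back of the relative tangent sheaf
along a family of sections of a fibration over C with values in its smooth locus, and calls the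
three conditions D-free, 0-free and weakly D-free; this row keeps of F only its finite local
freeness, which is all the argument uses, and writes the restriction map on F ⊗ pr_C^* O_C ≅ F; the
curve is only assumed smooth, proper and integral over k, not geometrically connected, which the
argument does not use.) -/
theorem result (k : Type u) [Field k]
    (C : Scheme.{u}) [C.Over (Spec (CommRingCat.of k))] (hC : Curve.IsSmoothProperCurve k C (C ↘ (Spec (CommRingCat.of k))))
    (T : Scheme.{u}) [T.Over (Spec (CommRingCat.of k))]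
    [HasInjectiveResolutions (pullback (T ↘ (Spec (CommRingCat.of k))) (C ↘ (Spec (CommRingCat.of k)))).Modules]
    (F : (pullback (T ↘ (Spec (CommRingCat.of k))) (C ↘ (Spec (CommRingCat.of k)))).Modules) (hF : FlatMod.IsFinLocFree F)
    (D : C.IdealSheafData) (hD : BlowUp.IsEffCartierIdeal D) :
    IsZero ((Coh.Rpush (pullback.fst (T ↘ (Spec (CommRingCat.of k))) (C ↘ (Spec (CommRingCat.of k)))) 1).obj (CohB1.tensorMod F ((Scheme.Modules.pullback (pullback.snd (T ↘ (Spec (CommRingCat.of k))) (C ↘ (Spec (CommRingCat.of k))))).obj (ClSub.idealMod D)))) ↔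
    (IsZero ((Coh.Rpush (pullback.fst (T ↘ (Spec (CommRingCat.of k))) (C ↘ (Spec (CommRingCat.of k)))) 1).obj F) ∧
      Epi ((Coh.push (pullback.fst (T ↘ (Spec (CommRingCat.of k))) (C ↘ (Spec (CommRingCat.of k))))).map
        ((CohB1.sheafifyMod (pullback (T ↘ (Spec (CommRingCat.of k))) (C ↘ (Spec (CommRingCat.of k))))).map (CohB1.toPMod F ◁ ((Scheme.Modules.pullback (pullback.snd (T ↘ (Spec (CommRingCat.of k))) (C ↘ (Spec (CommRingCat.of k))))).map (ClSub.toSubscheme D)).val) :
          CohB1.tensorMod F ((Scheme.Modules.pullback (pullback.snd (T ↘ (Spec (CommRingCat.of k))) (C ↘ (Spec (CommRingCat.of k))))).obj (Coh.structureModule C)) ⟶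
            CohB1.tensorMod F ((Scheme.Modules.pullback (pullback.snd (T ↘ (Spec (CommRingCat.of k))) (C ↘ (Spec (CommRingCat.of k))))).obj (ClSub.quotMod D))))) := by
  exact iff_aux k hC hF hD

end

end Groth.Agent.S15682
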