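import Groth.Statements.S15686
import Groth.Agent.GalCohAux.StackTwistPts

set_option autoImplicit false
universe u
open CategoryTheory AlgebraicGeometry MonObj
open StackCount

namespace Groth.Agent.S15686

/-- Let k be a finite field with algebraic closure k̄, G a smooth affine algebraic group over k acting
on a variety X over k (reduced and of finite type), and [X/G] the quotient stack whose objects over
a k-scheme T are G-torsors P → T (schemes, locally trivial for the étale topology) with a
G-equivariant morphism P → X. Suppose the Galois cohomology set H¹(k, G) (continuous cocycles of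
Gal(k̄/k) with values in G(k̄), up to equivalence) is finite, and choose for every class c a
continuous cocycle z_c in it, a twist X_c of X by z_c through the action (a k-scheme whose base
change to k̄ is identified with that of X so that the Galois action becomes x ↦ z_c(σ) · σx), and
the inner form G_c of G determined by z_c. If the groupoid of k-points of [X/G] is essentially
finite, then its point count (the sum over isomorphism classes of the inverse orders of the
automorphism groups) equals the sum over the classes c of #X_c(k) / #G_c(k). (The published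
statement is for the k′-points over any finite extension k′ of k and for any smooth algebraic group
G; this row is the case k′ = k, to which the general case reduces by base change, and takes G affine
so that every torsor is a scheme.) -/
theorem result (k : Type u) [Field k] [Finite k]
    (kb : Type u) [Field kb] [Algebra k kb] [IsAlgClosure k kb]
    (G : Over (Spec (CommRingCat.of k))) [GrpObj G] [Smooth G.hom] [IsAffineHom G.hom]
    (X : Over (Spec (CommRingCat.of k))) [LocallyOfFiniteType X.hom] [QuasiCompact X.hom]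
    [IsReduced X.left] (aX : AlgGrp.Action G X)
    [Fintype (GpH1.H1lc (kb ≃ₐ[k] kb) (SGA7.Pts kb G))]
    (z : GpH1.H1lc (kb ≃ₐ[k] kb) (SGA7.Pts kb G) → GpH1.OneCocycleLC (kb ≃ₐ[k] kb) (SGA7.Pts kb G))
    (hz : ∀ c, (z c).cl = c)
    (Xz : GpH1.H1lc (kb ≃ₐ[k] kb) (SGA7.Pts kb G) → Over (Spec (CommRingCat.of k)))
    (hXz : ∀ c, GalTw.IsActTwist kb aX (z c).1 (Xz c))
    (Gin : GpH1.H1lc (kb ≃ₐ[k] kb) (SGA7.Pts kb G) → Over (Spec (CommRingCat.of k)))
    [∀ c, GrpObj (Gin c)]
    (hGin : ∀ c, GalTw.IsInnTwist kb G (z c).1 (Gin c))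
    (h : StkCnt.IsEssFinite (StkCnt.pts (AlgSt.QuotSt Scheme.etalePrecoverage G aX) k)) :
    StkCnt.ptCount (AlgSt.QuotSt Scheme.etalePrecoverage G aX) k h =
      ∑ c : GpH1.H1lc (kb ≃ₐ[k] kb) (SGA7.Pts kb G),
        (Nat.card (SGA7.Pts k (Xz c)) : ℚ) / (Nat.card (SGA7.Pts k (Gin c)) : ℚ) := by
  have : Algebra.IsAlgebraic k kb := IsAlgClosure.isAlgebraic
  have : IsAlgClosed kb := IsAlgClosure.isAlgClosed k
  have : IsGalois k kb := ⟨⟩
  refine (GalCohAux.StackCount.count_eq (kb := kb) (k' := k) aX (fun c σ => (z c).1 σ)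
    (fun c => ⟨(z c).1.2, (z c).2⟩) (fun b hb => ?_) (fun c c' g hg => ?_) h).trans ?_
  · let B : GpH1.OneCocycleLC (kb ≃ₐ[k] kb) (SGA7.Pts kb G) := ⟨⟨b, hb.mul⟩, hb.lc⟩
    obtain ⟨g, hg⟩ := (GpH1.OneCocycleLC.cl_eq_cl_iff _ _).1 (hz B.cl)
    refine ⟨B.cl, g⁻¹, fun σ => ?_⟩
    refine (hg σ).trans ?_
    show g⁻¹ * b σ * σ • g = g⁻¹ * b σ * (σ • g⁻¹)⁻¹
    rw [smul_inv', inv_inv]
  · rw [← hz c, ← hz c', GpH1.OneCocycleLC.cl_eq_cl_iff]
    refine ⟨g⁻¹, fun σ => (hg σ).trans ?_⟩
    show g * (z c').1 σ * (σ • g)⁻¹ = g⁻¹⁻¹ * (z c').1 σ * σ • g⁻¹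
    rw [smul_inv', inv_inv]
  · refine Finset.sum_congr rfl fun c _ => ?_
    rw [GalCohAux.StackTwistPts.card_actTwist aX _ (hXz c),
      GalCohAux.StackTwistPts.card_innTwist _ _ (hGin c)]

end Groth.Agent.S15686
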