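import Groth.Statements.S15687
import Groth.Agent.GalCohAux.LangExact

set_option autoImplicit false
universe u
open CategoryTheory AlgebraicGeometry MonObj
open GalTw

namespace Groth.Agent.S15687

/-- Let k be a finite field with algebraic closure k̄, and let A, B, C be smooth algebraic groups over k
with homomorphisms i : A → B and π : B → C forming a short exact sequence 1 → A → B → C → 1 (π ∘ i
trivial, B a pseudo-torsor over C under A acting through i, and π acquiring sections fppf-locally on
C), with A connected. Then the map H¹(k, B) → H¹(k, C) induced by π on the continuous Galois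
cohomology sets (continuous cocycles of Gal(k̄/k) with values in the k̄-points, up to equivalence)
is bijective. -/
theorem result (k : Type u) [Field k] [Finite k]
    (kb : Type u) [Field kb] [Algebra k kb] [IsAlgClosure k kb]
    (A B C : Over (Spec (CommRingCat.of k))) [GrpObj A] [GrpObj B] [GrpObj C]
    [Smooth A.hom] [Smooth B.hom] [Smooth C.hom]
    [QuasiCompact A.hom] [QuasiCompact B.hom] [QuasiCompact C.hom]
    (i : A ⟶ B) (π : B ⟶ C) [IsMonHom i] [IsMonHom π]
    (hex : NonAbH1.IsExactSeq Scheme.fppfPrecoverage i π) [ConnectedSpace A.left] :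
    Function.Bijective
      (GalTw.H1lcMap (GalTw.ptsMap (K := kb) π) (GalTw.ptsMap_smul (K := kb) π)) := by
  have : Algebra.IsAlgebraic k kb := IsAlgClosure.isAlgebraic
  have : IsAlgClosed kb := IsAlgClosure.isAlgClosed k
  have : IsGalois k kb := ⟨⟩
  have := Fintype.ofFinite k
  let F : kb ≃ₐ[k] kb := FiniteField.frobeniusAlgEquivOfAlgebraic k kb
  have hF : ∀ x : kb, F x = x ^ Nat.card k := fun x => by
    rw [Nat.card_eq_fintype_card]; rfl
  constructor
  · rintro ⟨z⟩ ⟨z'⟩ h
    obtain ⟨g, hg⟩ := (GalCohAux.FiniteFieldCocycle.cohomologous_iff hF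
      (fun a => GalCohAux.StackFrob.isOpen_stabilizer a) _ _).1 h
    obtain ⟨g', -, hg'⟩ := GalCohAux.LangExact.exists_twisted_lift hex hF (z.1 F) (z'.1 F) g hg
    exact (GalCohAux.FiniteFieldCocycle.cohomologous_iff hF
      (fun a => GalCohAux.StackFrob.isOpen_stabilizer a) z z').2 ⟨g', hg'⟩
  · rintro ⟨z'⟩
    obtain ⟨b, hb⟩ := GalCohAux.LangExact.surjective_π hex (z'.1 F)
    obtain ⟨z, hz⟩ := GalCohAux.LangExact.exists_cocycle (G := B) hF b
    refine ⟨z.cl, congrArg GpH1.OneCocycleLC.cl (GalCohAux.FiniteFieldCocycle.ext_frobenius hF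
      (GalTw.lcMap _ (GalTw.ptsMap_smul (K := kb) π) z) z' ?_)⟩
    exact (congrArg (GalTw.ptsMap (K := kb) π) hz).trans hb

end Groth.Agent.S15687
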