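import Groth.Statements.S15695
import Mathlib.AlgebraicGeometry.Morphisms.FiniteType
import Mathlib.RingTheory.Localization.Away.Basic
import Mathlib.RingTheory.Localization.AtPrime.Basic
import Mathlib.RingTheory.LocalRing.ResidueField.Basic
import Mathlib.Tactic

set_option autoImplicit false
universe u
open CategoryTheory AlgebraicGeometry
open RatVar

namespace Groth.Agent.S15695

/-- An open subset containing the closed point of the spectrum of a local ring is everything. -/
lemma range_subset_of_residue {A : Type u} [CommRing A] [IsLocalRing A] {X : Scheme.{u}}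
    (g' : Spec (CommRingCat.of A) ⟶ X) (W : X.Opens)
    (h : Set.range (Spec.map (CommRingCat.ofHom (IsLocalRing.residue A)) ≫ g') ⊆ (W : Set X)) :
    Set.range g' ⊆ (W : Set X) := by
  rintro _ ⟨x, rfl⟩
  obtain ⟨y⟩ := (inferInstance : Nonempty (Spec (CommRingCat.of (IsLocalRing.ResidueField A))))
  have hy : Spec.map (CommRingCat.ofHom (IsLocalRing.residue A)) y = IsLocalRing.closedPoint A :=
    IsLocalRing.PrimeSpectrum.comap_residue A y
  refine ((IsLocalRing.specializes_closedPoint (R := A) x).map g'.continuous).mem_open W.2 (h ⟨y, ?_⟩)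
  rw [Scheme.Hom.comp_apply, hy]

/-- The lifting property of a non-empty open gives a retraction. -/
lemma exists_retract_of_lifting (k : Type u) [Field k] {X : Scheme.{u}}
    (f : X ⟶ Spec (CommRingCat.of k)) [IsIntegral X] [LocallyOfFiniteType f]
    (V : X.Opens) (hV : (V : Set X).Nonempty)
    (H : ∀ (A : Type u) [CommRing A] [IsLocalRing A] [Algebra k A]
        (g : Spec (CommRingCat.of (IsLocalRing.ResidueField A)) ⟶ (V : Scheme.{u})),
        g ≫ V.ι ≫ f = Spec.map (CommRingCat.ofHom ((IsLocalRing.residue A).comp (algebraMap k A))) →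
        ∃ g' : Spec (CommRingCat.of A) ⟶ (V : Scheme.{u}),
          Spec.map (CommRingCat.ofHom (IsLocalRing.residue A)) ≫ g' = g ∧
          g' ≫ V.ι ≫ f = Spec.map (CommRingCat.ofHom (algebraMap k A))) :
    ∃ (U : X.Opens) (n : ℕ) (Y : (Spec (CommRingCat.of (MvPolynomial (Fin n) k))).Opens)
        (a : (U : Scheme.{u}) ⟶ (Y : Scheme.{u})) (b : (Y : Scheme.{u}) ⟶ (U : Scheme.{u})),
        (U : Set X).Nonempty ∧ a ≫ b = 𝟙 (U : Scheme.{u}) ∧
        a ≫ Y.ι ≫ Spec.map (CommRingCat.ofHom (algebraMap k (MvPolynomial (Fin n) k))) = U.ι ≫ f ∧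
        b ≫ U.ι ≫ f = Y.ι ≫ Spec.map (CommRingCat.ofHom (algebraMap k (MvPolynomial (Fin n) k))) := by
  classical
  obtain ⟨x, hx⟩ := hV
  obtain ⟨W, hW, hxW, hWV⟩ := exists_isAffineOpen_mem_and_subset (U := V) (x := x) hx
  haveI : Nonempty W := ⟨⟨x, hxW⟩⟩
  let B := Γ(X, W)
  haveI : IsDomain B := inferInstance
  letI : Algebra k B := (Spec.preimage (hW.fromSpec ≫ f)).hom.toAlgebra
  have hBf : Spec.map (CommRingCat.ofHom (algebraMap k B)) = hW.fromSpec ≫ f :=
    Spec.map_preimage _
  haveI : Algebra.FiniteType k B := by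
    have h : LocallyOfFiniteType (Spec.map (CommRingCat.ofHom (algebraMap k B))) := by
      rw [hBf]; infer_instance
    rw [HasRingHomProperty.Spec_iff (P := @LocallyOfFiniteType)] at h
    exact RingHom.finiteType_algebraMap.1 h
  obtain ⟨n, π, hπ⟩ := Algebra.FiniteType.iff_quotient_mvPolynomial''.1 ‹Algebra.FiniteType k B›
  let R := MvPolynomial (Fin n) k
  let P : Ideal R := RingHom.ker π
  haveI : P.IsPrime := RingHom.ker_isPrime π
  let A := Localization.AtPrime P
  let κ := IsLocalRing.ResidueField A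
  let can : B →+* κ := RingHom.liftOfSurjective π.toRingHom hπ
    ⟨(IsLocalRing.residue A).comp (algebraMap R A), fun p hp => by
      rw [RingHom.mem_ker, RingHom.comp_apply, IsLocalRing.residue_eq_zero_iff]
      exact (IsLocalization.AtPrime.to_map_mem_maximal_iff A P p).2 hp⟩
  have hcan : ∀ p, can (π p) = IsLocalRing.residue A (algebraMap R A p) := fun p =>
    RingHom.liftOfRightInverse_comp_apply _ _ _ _ p
  have hcinj : Function.Injective can := by
    rw [injective_iff_map_eq_zero]
    intro b hb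
    obtain ⟨p, rfl⟩ := hπ b
    rw [hcan, IsLocalRing.residue_eq_zero_iff, IsLocalization.AtPrime.to_map_mem_maximal_iff A P p] at hb
    exact hb
  have hck : can.comp (algebraMap k B) = (IsLocalRing.residue A).comp (algebraMap k A) := by
    refine RingHom.ext fun c => ?_
    rw [RingHom.comp_apply, ← π.commutes, hcan, ← IsScalarTower.algebraMap_apply]
    rfl
  let g : Spec (CommRingCat.of κ) ⟶ (V : Scheme.{u}) :=
    IsOpenImmersion.lift V.ι (Spec.map (CommRingCat.ofHom can) ≫ hW.fromSpec) (by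
      rw [Scheme.Opens.range_ι]
      rintro _ ⟨y, rfl⟩
      refine hWV (hW.range_fromSpec.le ⟨_, rfl⟩))
  have hg : g ≫ V.ι = Spec.map (CommRingCat.ofHom can) ≫ hW.fromSpec := IsOpenImmersion.lift_fac _ _ _
  obtain ⟨g', hg', hg'k⟩ := H A g (by
    rw [← Category.assoc, hg, Category.assoc, ← hBf, ← Spec.map_comp, ← CommRingCat.ofHom_comp, hck])
  have hrW : Set.range (g' ≫ V.ι) ⊆ Set.range hW.fromSpec := by
    rw [hW.range_fromSpec]
    refine range_subset_of_residue _ W ?_
    rw [← Category.assoc, hg', hg, ← hW.range_fromSpec]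
    rintro _ ⟨y, rfl⟩
    exact ⟨_, rfl⟩
  let g₁ := IsOpenImmersion.lift hW.fromSpec (g' ≫ V.ι) hrW
  have hg₁ : g₁ ≫ hW.fromSpec = g' ≫ V.ι := IsOpenImmersion.lift_fac _ _ _
  let ψ₀ : B →+* A := (Spec.preimage g₁).hom
  have hψ₀ : Spec.map (CommRingCat.ofHom ψ₀) = g₁ := Spec.map_preimage _
  have hψres : (IsLocalRing.residue A).comp ψ₀ = can := by
    have h : Spec.map (CommRingCat.ofHom ((IsLocalRing.residue A).comp ψ₀)) =
        Spec.map (CommRingCat.ofHom can) := by
      rw [← cancel_mono hW.fromSpec, CommRingCat.ofHom_comp, Spec.map_comp, hψ₀, Category.assoc, hg₁,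
        ← Category.assoc, hg', hg]
    exact congrArg CommRingCat.Hom.hom (Spec.map_injective h)
  have hψk : ψ₀.comp (algebraMap k B) = algebraMap k A := by
    have h : Spec.map (CommRingCat.ofHom (ψ₀.comp (algebraMap k B))) =
        Spec.map (CommRingCat.ofHom (algebraMap k A)) := by
      rw [CommRingCat.ofHom_comp, Spec.map_comp, hψ₀, hBf, ← Category.assoc, hg₁, Category.assoc, hg'k]
    exact congrArg CommRingCat.Hom.hom (Spec.map_injective h)
  let ψ : B →ₐ[k] A := { ψ₀ with commutes' := fun c => RingHom.congr_fun hψk c }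
  choose num den hnd using fun i => IsLocalization.exists_mk'_eq P.primeCompl (ψ (π (MvPolynomial.X i)))
  let f₀ : R := ∏ i, (den i : R)
  have hf₀ : f₀ ∈ P.primeCompl := prod_mem fun i _ => (den i).2
  have hf₀0 : f₀ ≠ 0 := fun h => hf₀ (h ▸ zero_mem P)
  let Af := Localization.Away f₀
  have hu : ∀ y : Submonoid.powers f₀, IsUnit (algebraMap R A y) := by
    rintro ⟨_, m, rfl⟩
    rw [map_pow]
    exact (IsLocalization.map_units A (⟨f₀, hf₀⟩ : P.primeCompl)).pow m
  let η : Af →ₐ[k] A := IsLocalization.liftAlgHom (M := Submonoid.powers f₀) (f := IsScalarTower.toAlgHom k R A) hu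
  have hη : ∀ p, η (algebraMap R Af p) = algebraMap R A p := fun p => IsLocalization.lift_eq _ p
  have hηinj : Function.Injective η := by
    show Function.Injective (IsLocalization.lift hu)
    rw [IsLocalization.lift_injective_iff]
    intro p q
    constructor
    · intro h
      exact congrArg (algebraMap R A) (IsLocalization.injective Af (powers_le_nonZeroDivisors_of_noZeroDivisors hf₀0) h)
    · intro h
      exact congrArg (algebraMap R Af) (IsLocalization.injective A P.primeCompl_le_nonZeroDivisors h)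
  have hrange : ∀ b, ψ b ∈ η.range := by
    intro b
    obtain ⟨p, rfl⟩ := hπ b
    induction p using MvPolynomial.induction_on with
    | C c => exact ⟨algebraMap k Af c, by simp [MvPolynomial.C_eq_smul_one, Algebra.algebraMap_eq_smul_one]⟩
    | add p q hp hq => rw [map_add, map_add]; exact add_mem hp hq
    | mul_X p i hp =>
      rw [map_mul, map_mul]
      refine mul_mem hp ?_
      have hd : (den i : R) ∣ f₀ := Finset.dvd_prod_of_mem _ (Finset.mem_univ i)
      obtain ⟨e, he⟩ := hd
      refine ⟨algebraMap R Af (num i * e) * IsLocalization.Away.invSelf f₀, ?_⟩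
      show η _ = _
      rw [← hnd i, IsLocalization.eq_mk'_iff_mul_eq, map_mul, hη, ← hη (den i : R), mul_assoc, ← map_mul]
      have h1 : algebraMap R Af f₀ * IsLocalization.Away.invSelf f₀ = 1 :=
        IsLocalization.Away.mul_invSelf f₀
      rw [← hη, ← map_mul, ← hη (num i), ← sub_eq_zero, ← map_sub]
      convert map_zero η
      have h2 : algebraMap R Af (den i : R) * algebraMap R Af e * IsLocalization.Away.invSelf f₀ = 1 := by
        rw [← map_mul, ← he]; exact h1
      rw [map_mul]
      linear_combination (algebraMap R Af (num i)) * h2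
  let ψ' : B →ₐ[k] Af := (AlgEquiv.ofInjective η hηinj).symm.toAlgHom.comp (ψ.codRestrict η.range hrange)
  have hψ' : ∀ b, η (ψ' b) = ψ b := fun b => by
    have := (AlgEquiv.ofInjective η hηinj).apply_symm_apply (ψ.codRestrict η.range hrange b)
    exact congrArg Subtype.val this
  let h₀ : B := π f₀
  have hh₀ : h₀ ≠ 0 := hf₀
  let Bh := Localization.Away h₀
  let ρ : Af →+* Bh := IsLocalization.Away.lift f₀ (g := (algebraMap B Bh).comp π.toRingHom)
    (IsLocalization.Away.algebraMap_isUnit h₀)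
  have hρ : ∀ p, ρ (algebraMap R Af p) = algebraMap B Bh (π p) := fun p => IsLocalization.Away.lift_eq _ _ p
  have hch : IsUnit (can h₀) := isUnit_iff_ne_zero.2 ((map_ne_zero_iff can hcinj).2 hh₀)
  let ιh : Bh →+* κ := IsLocalization.Away.lift h₀ hch
  have hιh : ∀ b, ιh (algebraMap B Bh b) = can b := fun b => IsLocalization.Away.lift_eq _ _ b
  have hιinj : Function.Injective ιh := by
    show Function.Injective (IsLocalization.lift _)
    rw [IsLocalization.lift_injective_iff]
    intro p q
    constructor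
    · intro h
      exact congrArg can (IsLocalization.injective Bh (powers_le_nonZeroDivisors_of_noZeroDivisors hh₀) h)
    · intro h
      exact congrArg (algebraMap B Bh) (hcinj h)
  have hιρ : ιh.comp ρ = (IsLocalRing.residue A).comp η.toRingHom := by
    refine IsLocalization.ringHom_ext (Submonoid.powers f₀) (RingHom.ext fun p => ?_)
    show ιh (ρ (algebraMap R Af p)) = IsLocalRing.residue A (η (algebraMap R Af p))
    rw [hρ, hη, hιh, hcan]
  have hρψ : ρ.comp ψ'.toRingHom = algebraMap B Bh := by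
    refine RingHom.ext fun b => hιinj ?_
    show ιh (ρ (ψ' b)) = _
    rw [hιh, ← RingHom.comp_apply ιh, hιρ]
    show IsLocalRing.residue A (η (ψ' b)) = _
    rw [hψ']
    exact RingHom.congr_fun hψres b
  let q := Spec.map (CommRingCat.ofHom (algebraMap B Bh))
  let v := Spec.map (CommRingCat.ofHom (algebraMap R Af))
  let a₀ := Spec.map (CommRingCat.ofHom ρ)
  let b₀ := Spec.map (CommRingCat.ofHom ψ'.toRingHom)
  have hab : a₀ ≫ b₀ = q := by
    rw [← Spec.map_comp, ← CommRingCat.ofHom_comp, hρψ]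
  have hb₀k : b₀ ≫ hW.fromSpec ≫ f = v ≫ Spec.map (CommRingCat.ofHom (algebraMap k R)) := by
    rw [← hBf, ← Spec.map_comp, ← Spec.map_comp, ← CommRingCat.ofHom_comp, ← CommRingCat.ofHom_comp,
      ← IsScalarTower.algebraMap_eq]
    exact congrArg (fun t => Spec.map (CommRingCat.ofHom t)) ψ'.comp_algebraMap
  let Y₀ : (Spec (CommRingCat.of Af)).Opens := b₀ ⁻¹ᵁ q.opensRange
  let b₁ : (Y₀ : Scheme.{u}) ⟶ Spec (CommRingCat.of Bh) := IsOpenImmersion.lift q (Y₀.ι ≫ b₀) (by
    rintro _ ⟨y, rfl⟩
    exact y.2)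
  let a₁ : Spec (CommRingCat.of Bh) ⟶ (Y₀ : Scheme.{u}) := IsOpenImmersion.lift Y₀.ι a₀ (by
    rw [Scheme.Opens.range_ι]
    rintro _ ⟨y, rfl⟩
    show b₀ (a₀ y) ∈ q.opensRange
    rw [← Scheme.Hom.comp_apply, hab]
    exact ⟨y, rfl⟩)
  have hb₁ : b₁ ≫ q = Y₀.ι ≫ b₀ := IsOpenImmersion.lift_fac _ _ _
  have ha₁ : a₁ ≫ Y₀.ι = a₀ := IsOpenImmersion.lift_fac _ _ _
  have hab₁ : a₁ ≫ b₁ = 𝟙 _ := by
    rw [← cancel_mono q, Category.assoc, hb₁, ← Category.assoc, ha₁, hab, Category.id_comp]
  let u₁ := q ≫ hW.fromSpec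
  let jY := Y₀.ι ≫ v
  refine ⟨u₁.opensRange, n, jY.opensRange, u₁.isoOpensRange.inv ≫ a₁ ≫ jY.isoOpensRange.hom,
    jY.isoOpensRange.inv ≫ b₁ ≫ u₁.isoOpensRange.hom, ?_, ?_, ?_, ?_⟩
  · haveI : Nontrivial Bh := ιh.domain_nontrivial
    obtain ⟨y⟩ := (inferInstance : Nonempty (Spec (CommRingCat.of Bh)))
    exact ⟨u₁ y, y, rfl⟩
  · simp only [Category.assoc, Iso.hom_inv_id_assoc]
    rw [reassoc_of% hab₁]
    exact u₁.isoOpensRange.inv_hom_id
  · rw [← cancel_epi u₁.isoOpensRange.hom]
    simp only [Category.assoc, Iso.hom_inv_id_assoc, Scheme.Hom.isoOpensRange_hom_ι_assoc, jY]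
    rw [reassoc_of% ha₁, ← hb₀k]
    simp only [u₁, Category.assoc]
    rw [reassoc_of% hab]
  · rw [← cancel_epi jY.isoOpensRange.hom]
    simp only [Category.assoc, Iso.hom_inv_id_assoc, Scheme.Hom.isoOpensRange_hom_ι_assoc, jY, u₁]
    rw [reassoc_of% hb₁, hb₀k]

/-- Let X be an integral scheme of finite type over a field k. The following are equivalent. (i) There
are a non-empty open subscheme U of X, an open subscheme Y of an affine space Spec k[x_1, ..., x_n]
and k-morphisms U → Y → U whose composite is the identity of U. (ii) There is a non-empty open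
subscheme V of X such that for every local k-algebra A with residue field κ, every k-morphism Spec κ
→ V lifts along Spec κ → Spec A to a k-morphism Spec A → V. (Local k-algebras are taken in the
universe of k.) -/
theorem result (k : Type u) [Field k] (X : Scheme.{u})
    (f : X ⟶ Spec (CommRingCat.of k)) [IsIntegral X] [LocallyOfFiniteType f] [QuasiCompact f] :
    (∃ (U : X.Opens) (n : ℕ) (Y : (Spec (CommRingCat.of (MvPolynomial (Fin n) k))).Opens)
        (a : (U : Scheme.{u}) ⟶ (Y : Scheme.{u})) (b : (Y : Scheme.{u}) ⟶ (U : Scheme.{u})),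
        (U : Set X).Nonempty ∧ a ≫ b = 𝟙 (U : Scheme.{u}) ∧
        a ≫ Y.ι ≫ Spec.map (CommRingCat.ofHom (algebraMap k (MvPolynomial (Fin n) k))) = U.ι ≫ f ∧
        b ≫ U.ι ≫ f = Y.ι ≫ Spec.map (CommRingCat.ofHom (algebraMap k (MvPolynomial (Fin n) k)))) ↔
    (∃ V : X.Opens, (V : Set X).Nonempty ∧
      ∀ (A : Type u) [CommRing A] [IsLocalRing A] [Algebra k A]
        (g : Spec (CommRingCat.of (IsLocalRing.ResidueField A)) ⟶ (V : Scheme.{u})),
        g ≫ V.ι ≫ f = Spec.map (CommRingCat.ofHom ((IsLocalRing.residue A).comp (algebraMap k A))) →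
        ∃ g' : Spec (CommRingCat.of A) ⟶ (V : Scheme.{u}),
          Spec.map (CommRingCat.ofHom (IsLocalRing.residue A)) ≫ g' = g ∧
          g' ≫ V.ι ≫ f = Spec.map (CommRingCat.ofHom (algebraMap k A))) := by
  refine ⟨?_, fun ⟨V, hV, H⟩ => exists_retract_of_lifting k f V hV H⟩
  rintro ⟨U, n, Y, a, b, hU, hab, ha, hb⟩
  refine ⟨U, hU, fun A _ _ _ g hg => ?_⟩
  let κ := IsLocalRing.ResidueField A
  let R := MvPolynomial (Fin n) k
  let φ : R →+* κ := (Spec.preimage (g ≫ a ≫ Y.ι)).hom
  have hφ : Spec.map (CommRingCat.ofHom φ) = g ≫ a ≫ Y.ι := Spec.map_preimage _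
  have hφk : φ.comp (algebraMap k R) = (IsLocalRing.residue A).comp (algebraMap k A) := by
    have h : Spec.map (CommRingCat.ofHom (φ.comp (algebraMap k R))) =
        Spec.map (CommRingCat.ofHom ((IsLocalRing.residue A).comp (algebraMap k A))) := by
      rw [CommRingCat.ofHom_comp, Spec.map_comp, hφ, ← hg, ← ha]
      simp only [Category.assoc]
    exact congrArg CommRingCat.Hom.hom (Spec.map_injective h)
  choose c hc using fun i => IsLocalRing.residue_surjective (φ (MvPolynomial.X i))
  let l : R →ₐ[k] A := MvPolynomial.aeval c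
  have hl : (IsLocalRing.residue A).comp l.toRingHom = φ := by
    refine MvPolynomial.ringHom_ext (fun r => ?_) (fun i => ?_)
    · show IsLocalRing.residue A (l (algebraMap k R r)) = _
      rw [l.commutes]
      exact (RingHom.congr_fun hφk r).symm
    · show IsLocalRing.residue A (l (MvPolynomial.X i)) = _
      rw [MvPolynomial.aeval_X, hc]
  let L := Spec.map (CommRingCat.ofHom l.toRingHom)
  have hL : Spec.map (CommRingCat.ofHom (IsLocalRing.residue A)) ≫ L = g ≫ a ≫ Y.ι := by
    rw [← Spec.map_comp, ← CommRingCat.ofHom_comp, hl, hφ]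
  have hr : Set.range L ⊆ Set.range Y.ι := by
    rw [Scheme.Opens.range_ι]
    refine range_subset_of_residue L Y ?_
    rw [hL]
    rintro _ ⟨y, rfl⟩
    exact (a (g y)).2
  refine ⟨IsOpenImmersion.lift Y.ι L hr ≫ b, ?_, ?_⟩
  · have h : Spec.map (CommRingCat.ofHom (IsLocalRing.residue A)) ≫ IsOpenImmersion.lift Y.ι L hr = g ≫ a := by
      rw [← cancel_mono Y.ι, Category.assoc, IsOpenImmersion.lift_fac, hL, Category.assoc]
    rw [reassoc_of% h, hab, Category.comp_id]
  · rw [Category.assoc, hb, IsOpenImmersion.lift_fac_assoc, ← Spec.map_comp, ← CommRingCat.ofHom_comp]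
    exact congrArg (fun t => Spec.map (CommRingCat.ofHom t)) l.comp_algebraMap

end Groth.Agent.S15695
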