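import Groth.Statements.S15697
import Groth.Agent.InvFld84.Linear
-- import your own Groth.Agent.* helpers here

set_option autoImplicit false
universe u
open InvFld

namespace Groth.Agent.S15697

/-- Let k be a characteristic-zero field and suppose a finite group acts k-linearly on
finite-dimensional k-vector spaces V and W, faithfully on V. Then k(V ⊕ W)^G is purely
transcendental over k(V)^G, of transcendence degree dim W. Stated with V = k^n, W = k^m inside L =
k(x_1, ..., x_n, y_1, ..., y_m): G is a finite group of k-algebra automorphisms of L sending each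
x_i into the k-span of the x's and each y_j into the k-span of the y's, such that an element of G
fixing every x_i is trivial; F is the intersection of k(x_1, ..., x_n) with the fixed field of G;
then there are y'_1, ..., y'_m in L, algebraically independent over F, with F(y'_1, ..., y'_m) equal
to the fixed field of G. -/
theorem result (k : Type u) [Field k] [CharZero k] (n m : ℕ)
    (G : Subgroup (InvFld.Fld (Fin n ⊕ Fin m) k ≃ₐ[k] InvFld.Fld (Fin n ⊕ Fin m) k)) [Finite G]
    (hx : ∀ σ ∈ G, ∀ i : Fin n, σ (InvFld.X (Sum.inl i)) ∈ Submodule.span k (Set.range fun j : Fin n => (InvFld.X (Sum.inl j) : InvFld.Fld (Fin n ⊕ Fin m) k)))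
    (hy : ∀ σ ∈ G, ∀ i : Fin m, σ (InvFld.X (Sum.inr i)) ∈ Submodule.span k (Set.range fun j : Fin m => (InvFld.X (Sum.inr j) : InvFld.Fld (Fin n ⊕ Fin m) k)))
    (hfaith : ∀ σ ∈ G, (∀ i : Fin n, σ (InvFld.X (Sum.inl i)) = InvFld.X (Sum.inl i)) → σ = 1) :
    ∃ t : Fin m → InvFld.Fld (Fin n ⊕ Fin m) k,
      AlgebraicIndependent (↥(IntermediateField.adjoin k (Set.range fun j : Fin n => (InvFld.X (Sum.inl j) : InvFld.Fld (Fin n ⊕ Fin m) k)) ⊓ IntermediateField.fixedField G)) t ∧
      IntermediateField.restrictScalars k (IntermediateField.adjoin (↥(IntermediateField.adjoin k (Set.range fun j : Fin n => (InvFld.X (Sum.inl j) : InvFld.Fld (Fin n ⊕ Fin m) k)) ⊓ IntermediateField.fixedField G)) (Set.range t)) =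
        IntermediateField.fixedField G := by
  have hrange : Set.range (Sum.elim (fun j => InvFld.X (Sum.inr j)) (fun i => InvFld.X (Sum.inl i)) :
      Fin m ⊕ Fin n → InvFld.Fld (Fin n ⊕ Fin m) k) = Set.range InvFld.X := by
    ext z
    constructor
    · rintro ⟨j | i, rfl⟩
      · exact ⟨Sum.inr j, rfl⟩
      · exact ⟨Sum.inl i, rfl⟩
    · rintro ⟨i | j, rfl⟩
      · exact ⟨Sum.inr i, rfl⟩
      · exact ⟨Sum.inl j, rfl⟩
  have hind : AlgebraicIndependent k (Sum.elim (fun j => InvFld.X (Sum.inr j)) (fun i => InvFld.X (Sum.inl i)) :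
      Fin m ⊕ Fin n → InvFld.Fld (Fin n ⊕ Fin m) k) := by
    have h := (Groth.Agent.InvFld84.algebraicIndependent_X k (Fin n ⊕ Fin m)).comp Sum.swap (Equiv.sumComm _ _).injective
    convert h using 1
    funext i
    rcases i with j | i <;> rfl
  have h := Groth.Agent.InvFld84.exists_descent_blocks (InvFld.Fld (Fin n ⊕ Fin m) k) (fun i => InvFld.X (Sum.inl i))
    (fun j => InvFld.X (Sum.inr j)) hind (by rw [hrange]; exact Groth.Agent.InvFld84.adjoin_X k _) G.subtype
    (fun g i => hx g g.2 i) (fun g j => hy g g.2 j) (fun g hg => Subtype.ext (hfaith g g.2 hg))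
  rw [Subgroup.range_subtype] at h
  exact h

end Groth.Agent.S15697
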