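import Groth.Statements.S15698
import Groth.Agent.InvFld84.Sym
-- import your own Groth.Agent.* helpers here

set_option autoImplicit false
universe u
open InvFld

namespace Groth.Agent.S15698

/-- Let k be a characteristic-zero field; for each faithful finite-dimensional linear representation V
of the symmetric group S_n over k, the field of invariants k(V)^{S_n} is stably pure over k. Stated
with V = k^m: G is a finite group of k-algebra automorphisms of k(x_1, ..., x_m), each sending every
variable to a k-linear combination of the variables, isomorphic as an abstract group to the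
symmetric group on n letters; then for some r the rational function field in r variables over the
fixed field of G is generated over k by finitely many algebraically independent elements. -/
theorem result (k : Type u) [Field k] [CharZero k] (n m : ℕ)
    (G : Subgroup (InvFld.Fld (Fin m) k ≃ₐ[k] InvFld.Fld (Fin m) k)) [Finite G] (e : G ≃* Equiv.Perm (Fin n))
    (hG : ∀ σ ∈ G, ∀ i : Fin m, σ (InvFld.X i) ∈ Submodule.span k (Set.range fun j : Fin m => (InvFld.X j : InvFld.Fld (Fin m) k))) :
    ∃ (r N : ℕ) (t : Fin N → InvFld.Fld (Fin r) (IntermediateField.fixedField G)),
      AlgebraicIndependent k t ∧ IntermediateField.adjoin k (Set.range t) = ⊤ := by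
  have h := Groth.Agent.InvFld84.stably_equiv (G := G) G.subtype Subtype.val_injective (fun g i => hG g g.2 i)
    ((Groth.Agent.InvFld84.permHom k n).comp e.toMonoidHom) ((Groth.Agent.InvFld84.permHom_injective k n).comp e.injective)
    (fun g i => by
      show Groth.Agent.InvFld84.permHom k n (e g) (InvFld.X i) ∈ _
      rw [Groth.Agent.InvFld84.permHom_X]
      exact Submodule.subset_span ⟨_, rfl⟩)
  rw [Subgroup.range_subtype, Groth.Agent.InvFld84.range_comp_mulEquiv,
    Groth.Agent.InvFld84.fixedField_perm] at h
  obtain ⟨E⟩ := h
  let s := Groth.Agent.InvFld84.esym k n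
  let x : Fin n → IntermediateField.adjoin k (Set.range s) :=
    fun i => ⟨s i, IntermediateField.subset_adjoin _ _ ⟨i, rfl⟩⟩
  have hx : AlgebraicIndependent k x :=
    AlgebraicIndependent.of_comp (IntermediateField.adjoin k (Set.range s)).val (Groth.Agent.InvFld84.esym_indep k n)
  have hgen : IntermediateField.adjoin k (Set.range x) = ⊤ := by
    apply IntermediateField.map_injective (IntermediateField.adjoin k (Set.range s)).val
    rw [IntermediateField.adjoin_map, ← Set.range_comp, ← AlgHom.fieldRange_eq_map, IntermediateField.fieldRange_val]
    rfl
  obtain ⟨t, ht, htop⟩ := Groth.Agent.InvFld84.stack k x hx hgen E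
  exact ⟨n, m + n, t, ht, htop⟩

end Groth.Agent.S15698
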