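import Groth.Statements.S15699
import Mathlib

set_option autoImplicit false
universe u
open CategoryTheory CategoryTheory.Limits AlgebraicGeometry
open RatVar

namespace Groth.Agent.S15699

/-- An integral `k`-scheme of finite type which is rational contains an open subscheme of a finite
dimensional affine space. -/
lemma exists_open_immersion (k : Type u) [Field k] {P : Scheme.{u}} (sP : P ⟶ Spec (CommRingCat.of k))
    [IsIntegral P] [LocallyOfFiniteType sP] [Scheme.IsRationalOver sP] :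
    ∃ (N : ℕ) (Y₀ : (Spec (CommRingCat.of (MvPolynomial (Fin N) k))).Opens) (j : (Y₀ : Scheme.{u}) ⟶ P),
      IsOpenImmersion j ∧ (Y₀ : Set (Spec (CommRingCat.of (MvPolynomial (Fin N) k)))).Nonempty ∧
      j ≫ sP = Y₀.ι ≫ Spec.map (CommRingCat.ofHom (algebraMap k (MvPolynomial (Fin N) k))) := by
  obtain ⟨n, φ, hφ⟩ := Scheme.IsRationalOver.exists_birationalOver_affineSpace sP
  let e := AffineSpace.SpecIso n (CommRingCat.of k)
  let Sn := Spec.map (CommRingCat.ofHom (algebraMap k (MvPolynomial n k)))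
  have he : e.inv ≫ (𝔸(n; Spec (CommRingCat.of k)) ↘ Spec (CommRingCat.of k)) = Sn :=
    AffineSpace.SpecIso_inv_over _
  let W : (Spec (CommRingCat.of (MvPolynomial n k))).Opens := e.inv ⁻¹ᵁ φ.target
  let j₁ : (W : Scheme.{u}) ⟶ P := (e.inv ∣_ φ.target) ≫ φ.iso.inv ≫ φ.source.ι
  have hj₁ : j₁ ≫ sP = W.ι ≫ Sn := by
    have h : φ.iso.inv ≫ φ.source.ι ≫ sP =
        φ.target.ι ≫ (𝔸(n; Spec (CommRingCat.of k)) ↘ Spec (CommRingCat.of k)) := by
      rw [← hφ, Iso.inv_hom_id_assoc]
    simp only [j₁, Category.assoc, h, ← he]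
    rw [← Category.assoc, morphismRestrict_ι]
    rfl
  have hWne : (W : Set (Spec (CommRingCat.of (MvPolynomial n k)))).Nonempty := by
    haveI : Nonempty P := inferInstance
    obtain ⟨x, hx⟩ := φ.dense_source.nonempty
    refine ⟨e.hom ((φ.iso.hom ≫ φ.target.ι) ⟨x, hx⟩), ?_⟩
    show e.inv (e.hom _) ∈ φ.target
    rw [← Scheme.Hom.comp_apply e.hom, e.hom_inv_id]
    exact (φ.iso.hom ⟨x, hx⟩).2
  have hfin : Finite n := by
    obtain ⟨⟨x, hx⟩⟩ := hWne.to_subtype
    obtain ⟨_, ⟨g, rfl⟩, hgx, hgW⟩ :=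
      PrimeSpectrum.isTopologicalBasis_basic_opens.exists_subset_of_mem_open hx W.2
    let A := Localization.Away g
    let ψ := Spec.map (CommRingCat.ofHom (algebraMap (MvPolynomial n k) A))
    have hrange : Set.range ψ ⊆ Set.range W.ι := by
      rw [Scheme.Opens.range_ι]
      refine Eq.trans_subset ?_ hgW
      exact PrimeSpectrum.localization_away_comap_range A g
    let l := IsOpenImmersion.lift W.ι ψ hrange
    have hl : l ≫ W.ι = ψ := IsOpenImmersion.lift_fac _ _ _
    haveI : IsOpenImmersion (l ≫ W.ι) := hl ▸ inferInstanceAs (IsOpenImmersion ψ)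
    haveI : IsOpenImmersion l := .of_comp l W.ι
    have hlft : LocallyOfFiniteType (ψ ≫ Sn) := by
      rw [← hl, Category.assoc, ← hj₁]
      infer_instance
    rw [show ψ ≫ Sn = Spec.map (CommRingCat.ofHom (algebraMap k A)) by
      rw [← Spec.map_comp, ← CommRingCat.ofHom_comp, ← IsScalarTower.algebraMap_eq],
      HasRingHomProperty.Spec_iff (P := @LocallyOfFiniteType)] at hlft
    haveI : Algebra.FiniteType k A := (RingHom.finiteType_algebraMap).1 hlft
    obtain ⟨m, π, hπ⟩ := Algebra.FiniteType.iff_quotient_mvPolynomial''.1 ‹Algebra.FiniteType k A›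
    have hg0 : g ≠ 0 := by
      rintro rfl
      exact (PrimeSpectrum.mem_basicOpen _ _).1 hgx (zero_mem _)
    haveI : IsDomain A := IsLocalization.isDomain_localization (powers_le_nonZeroDivisors_of_noZeroDivisors hg0)
    have h1 : Algebra.trdeg k (MvPolynomial n k) ≤ Algebra.trdeg k A :=
      trdeg_le_of_injective (IsScalarTower.toAlgHom k (MvPolynomial n k) A)
        (IsLocalization.injective A (powers_le_nonZeroDivisors_of_noZeroDivisors hg0))
    have h2 := lift_trdeg_le_of_surjective π hπ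
    rw [MvPolynomial.trdeg_of_isDomain, Cardinal.mk_fin, Cardinal.lift_natCast, Cardinal.lift_natCast] at h2
    rw [MvPolynomial.trdeg_of_isDomain, Cardinal.lift_id'] at h1
    rw [← Cardinal.lt_aleph0_iff_finite]
    refine h1.trans_lt ?_
    rw [← Cardinal.lift_lt_aleph0.{u, 0}]
    exact lt_of_le_of_lt (by simpa using h2) Cardinal.natCast_lt_aleph0
  obtain ⟨N, ⟨σ⟩⟩ := Finite.exists_equiv_fin n
  let r := MvPolynomial.renameEquiv k σ
  let ε : Spec (CommRingCat.of (MvPolynomial (Fin N) k)) ⟶ Spec (CommRingCat.of (MvPolynomial n k)) :=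
    Spec.map r.toRingEquiv.toCommRingCatIso.hom
  haveI : IsIso ε := inferInstance
  refine ⟨N, ε ⁻¹ᵁ W, (ε ∣_ W) ≫ j₁, inferInstance, ?_, ?_⟩
  · obtain ⟨x, hx⟩ := hWne
    exact ⟨inv ε x, show ε (inv ε x) ∈ W by rw [← Scheme.Hom.comp_apply, IsIso.inv_hom_id]; exact hx⟩
  · rw [Category.assoc, hj₁, ← Category.assoc, morphismRestrict_ι, Category.assoc, ← Spec.map_comp]
    congr 2
    exact congrArg CommRingCat.ofHom (RingHom.ext fun c => r.commutes c)

/-- A direct factor of a k-rational variety is retract rational over k. Here k is an infinite field, X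
and Y are integral schemes of finite type over k whose fibre product over k is integral and rational
over k (birational over k, through dense open subschemes, to an affine space over k); the conclusion
is that some non-empty open subscheme U of X admits k-morphisms U → Y' → U with composite the
identity, Y' an open subscheme of an affine space Spec k[x_1, ..., x_n]. (The published statement
allows any field k; the argument picks a k-rational point of the given open set, so k is taken
infinite here.) -/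
theorem result (k : Type u) [Field k] [Infinite k]
    (X Y : Scheme.{u}) (f : X ⟶ Spec (CommRingCat.of k)) (g : Y ⟶ Spec (CommRingCat.of k))
    [IsIntegral X] [LocallyOfFiniteType f] [QuasiCompact f]
    [IsIntegral Y] [LocallyOfFiniteType g] [QuasiCompact g] [IsIntegral (pullback f g)]
    [Scheme.IsRationalOver (pullback.fst f g ≫ f)] :
    ∃ (U : X.Opens) (n : ℕ) (Y' : (Spec (CommRingCat.of (MvPolynomial (Fin n) k))).Opens)
        (a : (U : Scheme.{u}) ⟶ (Y' : Scheme.{u})) (b : (Y' : Scheme.{u}) ⟶ (U : Scheme.{u})),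
        (U : Set X).Nonempty ∧ a ≫ b = 𝟙 (U : Scheme.{u}) ∧
        a ≫ Y'.ι ≫ Spec.map (CommRingCat.ofHom (algebraMap k (MvPolynomial (Fin n) k))) = U.ι ≫ f ∧
        b ≫ U.ι ≫ f = Y'.ι ≫ Spec.map (CommRingCat.ofHom (algebraMap k (MvPolynomial (Fin n) k))) := by
  classical
  obtain ⟨N, Y₀, j, hj, ⟨x₁, hx₁⟩, hjS⟩ := exists_open_immersion k (pullback.fst f g ≫ f)
  let SN := Spec.map (CommRingCat.ofHom (algebraMap k (MvPolynomial (Fin N) k)))
  obtain ⟨_, ⟨h, rfl⟩, hhx, hhY⟩ :=
    PrimeSpectrum.isTopologicalBasis_basic_opens.exists_subset_of_mem_open hx₁ Y₀.2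
  have hh0 : h ≠ 0 := by
    rintro rfl
    exact (PrimeSpectrum.mem_basicOpen _ _).1 hhx (zero_mem _)
  obtain ⟨c, hc⟩ : ∃ c : Fin N → k, MvPolynomial.eval c h ≠ 0 := by
    by_contra hcon
    push Not at hcon
    exact hh0 (MvPolynomial.funext fun c => by simpa using hcon c)
  let pt := Spec.map (CommRingCat.ofHom (MvPolynomial.eval c))
  have hpt : Set.range pt ⊆ Set.range Y₀.ι := by
    rw [Scheme.Opens.range_ι]
    rintro _ ⟨q, rfl⟩
    refine hhY (show MvPolynomial.eval c h ∉ (q : PrimeSpectrum k).asIdeal from fun hm => ?_)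
    exact (q : PrimeSpectrum k).isPrime.ne_top
      (Ideal.eq_top_of_isUnit_mem _ hm (isUnit_iff_ne_zero.2 hc))
  let z := IsOpenImmersion.lift Y₀.ι pt hpt ≫ j
  have hz : z ≫ pullback.fst f g ≫ f = 𝟙 _ := by
    simp only [z, Category.assoc, hjS, IsOpenImmersion.lift_fac_assoc]
    rw [← Spec.map_comp, ← CommRingCat.ofHom_comp,
      show (MvPolynomial.eval c).comp (algebraMap k _) = RingHom.id k by ext a; simp]
    exact Spec.map_id _
  have hz' : z ≫ pullback.snd f g ≫ g = 𝟙 _ := by rw [← pullback.condition]; exact hz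
  let y₀ := z ≫ pullback.snd f g
  have hy₀ : (f ≫ y₀) ≫ g = f := by
    simp only [y₀, Category.assoc, hz', Category.comp_id]
  let s : X ⟶ pullback f g := pullback.lift (𝟙 X) (f ≫ y₀) (by rw [Category.id_comp, hy₀])
  have hzs : (z ≫ pullback.fst f g) ≫ s = z := by
    apply pullback.hom_ext
    · simp only [s, Category.assoc]
      erw [pullback.lift_fst]
      rw [Category.comp_id]
    · simp only [s, Category.assoc, pullback.lift_snd]
      rw [← Category.assoc, ← Category.assoc, Category.assoc z, hz, Category.id_comp]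
  let U : X.Opens := s ⁻¹ᵁ j.opensRange
  have hUne : (U : Set X).Nonempty := by
    obtain ⟨pt₀⟩ := (inferInstance : Nonempty (Spec (CommRingCat.of k)))
    refine ⟨(z ≫ pullback.fst f g) pt₀, ?_⟩
    show s _ ∈ j.opensRange
    rw [← Scheme.Hom.comp_apply, hzs]
    exact ⟨_, rfl⟩
  let V₀ : (Y₀ : Scheme.{u}).Opens := (j ≫ pullback.fst f g) ⁻¹ᵁ U
  let a₀ : (U : Scheme.{u}) ⟶ (Y₀ : Scheme.{u}) := IsOpenImmersion.lift j (U.ι ≫ s) (by
    rintro _ ⟨q, rfl⟩
    exact q.2)
  have ha₀ : a₀ ≫ j ≫ pullback.fst f g = U.ι := by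
    rw [← Category.assoc, show a₀ ≫ j = U.ι ≫ s from IsOpenImmersion.lift_fac _ _ _, Category.assoc,
      show s ≫ pullback.fst f g = 𝟙 X from pullback.lift_fst _ _ _, Category.comp_id]
  let a₁ : (U : Scheme.{u}) ⟶ (V₀ : Scheme.{u}) := IsOpenImmersion.lift V₀.ι a₀ (by
    rw [Scheme.Opens.range_ι]
    rintro _ ⟨q, rfl⟩
    show (j ≫ pullback.fst f g) (a₀ q) ∈ U
    rw [← Scheme.Hom.comp_apply, ha₀]
    exact q.2)
  let b₁ : (V₀ : Scheme.{u}) ⟶ (U : Scheme.{u}) := IsOpenImmersion.lift U.ι (V₀.ι ≫ j ≫ pullback.fst f g) (by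
    rw [Scheme.Opens.range_ι]
    rintro _ ⟨q, rfl⟩
    exact q.2)
  let jY : (V₀ : Scheme.{u}) ⟶ Spec (CommRingCat.of (MvPolynomial (Fin N) k)) := V₀.ι ≫ Y₀.ι
  refine ⟨U, N, jY.opensRange, a₁ ≫ jY.isoOpensRange.hom, jY.isoOpensRange.inv ≫ b₁, hUne, ?_, ?_, ?_⟩
  · rw [Category.assoc, Iso.hom_inv_id_assoc, ← cancel_mono U.ι, Category.assoc,
      IsOpenImmersion.lift_fac, IsOpenImmersion.lift_fac_assoc, ha₀, Category.id_comp]
  · rw [Category.assoc, Scheme.Hom.isoOpensRange_hom_ι_assoc]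
    simp only [jY, a₁, Category.assoc, IsOpenImmersion.lift_fac_assoc]
    rw [← hjS, ← ha₀]
    simp
  · rw [← cancel_epi jY.isoOpensRange.hom, Category.assoc, Iso.hom_inv_id_assoc,
      Scheme.Hom.isoOpensRange_hom_ι_assoc]
    simp only [b₁, jY, IsOpenImmersion.lift_fac_assoc, Category.assoc, hjS]

end Groth.Agent.S15699
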