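import Groth.Statements.S15700
import Groth.Agent.UniRat93.Drop
import Groth.Agent.FBase.Dim

set_option autoImplicit false
universe u
open CategoryTheory AlgebraicGeometry
open RatVar

namespace Groth.Agent.S15700

/-- Over an infinite field k, an integral scheme X of finite type over k that admits a dominant
k-morphism from a k-rational variety admits one from a k-rational variety of the same dimension as
X. Stated with open subschemes of affine spaces: if a non-empty open subscheme of Spec k[x_1, ...,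
x_n] maps dominantly to X over k, then some non-empty open subscheme of some Spec k[x_1, ..., x_m]
with m = dim X maps dominantly to X over k. -/
theorem result (k : Type u) [Field k] [Infinite k]
    (X : Scheme.{u}) (f : X ⟶ Spec (CommRingCat.of k)) [IsIntegral X] [LocallyOfFiniteType f] [QuasiCompact f]
    (n : ℕ) (W : (Spec (CommRingCat.of (MvPolynomial (Fin n) k))).Opens) (hW : (W : Set ↑(Spec (CommRingCat.of (MvPolynomial (Fin n) k)))).Nonempty)
    (φ : (W : Scheme.{u}) ⟶ X) [IsDominant φ] (hφ : φ ≫ f = W.ι ≫ Spec.map (CommRingCat.ofHom (algebraMap k (MvPolynomial (Fin n) k)))) :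
    ∃ (m : ℕ) (W' : (Spec (CommRingCat.of (MvPolynomial (Fin m) k))).Opens) (ψ : (W' : Scheme.{u}) ⟶ X),
      (W' : Set ↑(Spec (CommRingCat.of (MvPolynomial (Fin m) k)))).Nonempty ∧ IsDominant ψ ∧ ψ ≫ f = W'.ι ≫ Spec.map (CommRingCat.ofHom (algebraMap k (MvPolynomial (Fin m) k))) ∧
      (m : WithBot ℕ∞) = topologicalKrullDim X := by
  classical
  obtain ⟨_, ⟨V, hV, rfl⟩, hηV, -⟩ :=
    X.isBasis_affineOpens.exists_subset_of_mem_open (a := genericPoint X) (Set.mem_univ _) isOpen_univ
  let A : Type u := Γ(X, V)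
  letI : Algebra k A := (Spec.preimage (hV.fromSpec ≫ f)).hom.toAlgebra
  let j : Spec (CommRingCat.of A) ⟶ X := hV.fromSpec
  have hj : j ≫ f = Spec.map (CommRingCat.ofHom (algebraMap k A)) := (Spec.map_preimage _).symm
  have hjV : j.opensRange = V := hV.opensRange_fromSpec
  obtain ⟨pV, -⟩ : genericPoint X ∈ Set.range j := by rw [hV.range_fromSpec]; exact hηV
  haveI : Algebra.FiniteType k A := Groth.Agent.FBase.Dim.finiteType_of_chart f j hj
  haveI : IsDomain A := Groth.Agent.FBase.Dim.isDomain_of_chart j pV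
  have hdim := Groth.Agent.FBase.Dim.topDim_chart f j pV
  let P := MvPolynomial (Fin n) k
  haveI : IsIntegral (Spec (CommRingCat.of P)) := inferInstance
  -- a basic open of affine space mapping into the chart
  obtain ⟨w, hw⟩ := φ.denseRange.exists_mem_open V.2 ⟨_, hηV⟩
  obtain ⟨_, ⟨_, ⟨h, rfl⟩, rfl⟩, hwh, hhsub⟩ :=
    PrimeSpectrum.isBasis_basic_opens.exists_subset_of_mem_open (a := W.ι w)
      (show W.ι w ∈ ((W.ι ''ᵁ (φ ⁻¹ᵁ V)) : Set (Spec (CommRingCat.of P))) from ⟨w, hw, rfl⟩)
      (W.ι ''ᵁ (φ ⁻¹ᵁ V)).2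
  have hh : h ≠ 0 := by
    rintro rfl
    simp at hwh
  let R := Localization.Away h
  let D : Spec (CommRingCat.of R) ⟶ Spec (CommRingCat.of P) := Spec.map (CommRingCat.ofHom (algebraMap P R))
  haveI : IsOpenImmersion D := IsOpenImmersion.of_isLocalization h
  have hD : Set.range D = (PrimeSpectrum.basicOpen h : Set (PrimeSpectrum P)) :=
    PrimeSpectrum.localization_away_comap_range R h
  haveI : IsDomain R :=
    IsLocalization.isDomain_localization (powers_le_nonZeroDivisors_of_noZeroDivisors hh)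
  haveI : IsIntegral (Spec (CommRingCat.of R)) := inferInstance
  have hDW : Set.range D ⊆ Set.range W.ι := by
    rw [hD]
    exact hhsub.trans (Set.image_subset_range _ _)
  let DW : Spec (CommRingCat.of R) ⟶ (W : Scheme.{u}) := IsOpenImmersion.lift W.ι D hDW
  have hDWf : DW ≫ W.ι = D := IsOpenImmersion.lift_fac _ _ _
  have hinV : Set.range (DW ≫ φ) ⊆ Set.range j := by
    rintro _ ⟨x, rfl⟩
    rw [hV.range_fromSpec]
    have h1 : W.ι (DW x) ∈ ((W.ι ''ᵁ (φ ⁻¹ᵁ V)) : Set (Spec (CommRingCat.of P))) := by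
      rw [← Scheme.Hom.comp_apply, hDWf]
      exact hhsub (hD ▸ Set.mem_range_self x)
    obtain ⟨y, hy, hy'⟩ := h1
    rw [W.ι.isOpenEmbedding.injective hy'] at hy
    exact hy
  let L : Spec (CommRingCat.of R) ⟶ Spec (CommRingCat.of A) := IsOpenImmersion.lift j (DW ≫ φ) hinV
  have hL : L ≫ j = DW ≫ φ := IsOpenImmersion.lift_fac _ _ _
  haveI : Nonempty (Spec (CommRingCat.of R)) := inferInstance
  haveI : IrreducibleSpace W := (haveI : Nonempty W := ⟨w⟩; W.ι.isOpenEmbedding.irreducibleSpace)
  have hDWd : DenseRange DW :=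
    (DW.isOpenEmbedding.isOpen_range).dense (Set.range_nonempty _)
  haveI : IsDominant DW := ⟨hDWd⟩
  have hLd : DenseRange L := by
    have h1 : DenseRange (DW ≫ φ) := (inferInstance : IsDominant (DW ≫ φ)).denseRange
    have h2 : Set.range L = j ⁻¹' Set.range (DW ≫ φ) := by
      rw [← hL]
      ext x
      refine ⟨fun ⟨y, hy⟩ => ⟨y, by rw [Scheme.Hom.comp_apply, hy]⟩, fun ⟨y, hy⟩ => ?_⟩
      rw [Scheme.Hom.comp_apply] at hy
      exact ⟨y, j.isOpenEmbedding.injective hy⟩
    rw [DenseRange, h2]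
    exact h1.preimage j.isOpenEmbedding.isOpenMap
  let ψ₀ := Spec.preimage L
  have hcomm : CommRingCat.ofHom (algebraMap k A) ≫ ψ₀ = CommRingCat.ofHom (algebraMap k R) := by
    apply Spec.map_injective
    rw [Spec.map_comp, Spec.map_preimage, ← hj, ← Category.assoc, hL, Category.assoc, hφ,
      ← Category.assoc, hDWf, ← Spec.map_comp]
    rfl
  let φA : A →ₐ[k] R :=
    { ψ₀.hom with commutes' := fun c => ConcreteCategory.congr_hom hcomm c }
  have hφA : Function.Injective φA := by
    have h1 : DenseRange (PrimeSpectrum.comap ψ₀.hom) := by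
      have : Spec.map ψ₀ = L := Spec.map_preimage L
      rw [← this] at hLd
      exact hLd
    rw [PrimeSpectrum.denseRange_comap_iff_ker_le_nilRadical, nilradical_eq_zero] at h1
    exact (RingHom.injective_iff_ker_eq_bot ψ₀.hom).2 (le_bot_iff.1 h1)
  obtain ⟨m, h', φ', hh', hinj, hm⟩ := Groth.Agent.UniRat93.drop_to_dim A n h φA hh hφA
  let P' := MvPolynomial (Fin m) k
  let R' := Localization.Away h'
  let D' : Spec (CommRingCat.of R') ⟶ Spec (CommRingCat.of P') := Spec.map (CommRingCat.ofHom (algebraMap P' R'))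
  haveI : IsOpenImmersion D' := IsOpenImmersion.of_isLocalization h'
  haveI : IsDomain R' :=
    IsLocalization.isDomain_localization (powers_le_nonZeroDivisors_of_noZeroDivisors hh')
  let Ψ : Spec (CommRingCat.of R') ⟶ X := Spec.map (CommRingCat.ofHom φ'.toRingHom) ≫ j
  haveI : IsDominant (Spec.map (CommRingCat.ofHom φ'.toRingHom)) := by
    refine ⟨(PrimeSpectrum.denseRange_comap_iff_ker_le_nilRadical φ'.toRingHom).2 ?_⟩
    rw [(RingHom.injective_iff_ker_eq_bot φ'.toRingHom).1 hinj]
    exact bot_le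
  haveI : IsDominant j := ⟨j.isOpenEmbedding.isOpen_range.dense ⟨_, ⟨pV, rfl⟩⟩⟩
  refine ⟨m, D'.opensRange, D'.isoOpensRange.inv ≫ Ψ, ?_, inferInstance, ?_, by rw [← hm, hdim]⟩
  · exact Set.range_nonempty _
  · have h1 : Ψ ≫ f = D' ≫ Spec.map (CommRingCat.ofHom (algebraMap k P')) := by
      rw [Category.assoc, hj, ← Spec.map_comp, ← Spec.map_comp]
      congr 1
      exact CommRingCat.hom_ext (RingHom.ext fun c => φ'.commutes c)
    rw [Category.assoc, h1, ← Category.assoc, Scheme.Hom.isoOpensRange_inv_comp]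

end Groth.Agent.S15700
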