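import Groth.Statements.S15701
-- import your own Groth.Agent.* helpers here

set_option autoImplicit false
universe u
open CategoryTheory AlgebraicGeometry
open RatVar

namespace Groth.Agent.S15701

/-- A faithful action of a finite group on a geometrically integral variety is almost free. Here k is a
field of characteristic zero, X is an integral separated scheme of finite type over k, and the
finite group G acts on X by k-automorphisms through an injective homomorphism to Aut X; the
conclusion is a non-empty G-stable open subscheme U of X such that for every field K and every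
morphism Spec K → X whose image lies in U, an element of G fixing that K-point is the identity. (X
is taken separated: for the affine line with a doubled origin and the involution exchanging the two
origins the action is faithful while every point off the origins is fixed, so no such U exists;
integrality replaces geometric integrality, which is all the codimension argument uses.) -/
theorem result (k : Type u) [Field k] [CharZero k]
    (X : Scheme.{u}) (f : X ⟶ Spec (CommRingCat.of k)) [IsIntegral X] [LocallyOfFiniteType f]
    [QuasiCompact f] [IsSeparated f]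
    (G : Type u) [Group G] [Finite G] (ρ : G →* Aut X)
    (hρ : ∀ g : G, (ρ g).hom ≫ f = f) (hfaith : Function.Injective ρ) :
    ∃ U : X.Opens, (U : Set X).Nonempty ∧ (∀ g : G, (ρ g).hom ⁻¹ᵁ U = U) ∧
      ∀ (K : Type u) [Field K] (x : Spec (CommRingCat.of K) ⟶ X),
        Set.range x.base ⊆ (U : Set X) → ∀ g : G, x ≫ (ρ g).hom = x → g = 1 := by
  classical
  have hne1 : ∀ g : G, g ≠ 1 → closure (Set.range (Limits.equalizer.ι (𝟙 X) (ρ g).hom)) ≠ Set.univ := by
    intro g hg h
    haveI : IsDominant (Limits.equalizer.ι (𝟙 X) (ρ g).hom) :=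
      ⟨dense_iff_closure_eq.2 h⟩
    have he : 𝟙 X = (ρ g).hom := ext_of_isDominant_of_isSeparated f (by rw [hρ g, Category.id_comp])
      (Limits.equalizer.ι (𝟙 X) (ρ g).hom) (Limits.equalizer.condition _ _)
    apply hg
    apply hfaith
    rw [map_one]
    exact Iso.ext he.symm
  let V : G → X.Opens := fun g => if g = 1 then ⊤ else
    ⟨(closure (Set.range (Limits.equalizer.ι (𝟙 X) (ρ g).hom)))ᶜ, isClosed_closure.isOpen_compl⟩
  haveI := Fintype.ofFinite G
  let U : X.Opens := ⨅ h : G, ⨅ g : G, (ρ h).hom ⁻¹ᵁ V g
  have hmem : ∀ x, x ∈ U ↔ ∀ h g : G, (ρ h).hom x ∈ V g := by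
    intro x
    rw [← SetLike.mem_coe, TopologicalSpace.Opens.coe_iInf, Set.mem_iInter]
    simp only [SetLike.mem_coe]
    refine forall_congr' fun h => ?_
    rw [← SetLike.mem_coe, TopologicalSpace.Opens.coe_iInf, Set.mem_iInter]
    rfl
  refine ⟨U, ?_, ?_, ?_⟩
  · have hη : ∀ W : X.Opens, (W : Set X).Nonempty → genericPoint X ∈ W := fun W hW =>
      (genericPoint_spec X).mem_open_set_iff W.isOpen |>.2 (by simpa using hW)
    refine ⟨genericPoint X, (hmem _).2 fun h g => hη ((ρ h).hom ⁻¹ᵁ V g) ?_⟩
    obtain ⟨y, hy⟩ : (V g : Set X).Nonempty := by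
      by_cases hg : g = 1
      · simp only [V, if_pos hg]
        exact Set.univ_nonempty
      · simp only [V, if_neg hg]
        exact Set.nonempty_compl.2 (hne1 g hg)
    refine ⟨(ρ h).inv y, ?_⟩
    show (ρ h).hom ((ρ h).inv y) ∈ V g
    rw [← Scheme.Hom.comp_apply, show (ρ h).inv ≫ (ρ h).hom = 𝟙 X from (ρ h).inv_hom_id]
    exact hy
  · intro g₀
    have hc : ∀ h : G, (ρ g₀).hom ≫ (ρ h).hom = (ρ (h * g₀)).hom := fun h => by
      rw [map_mul]; rfl
    ext x
    show (ρ g₀).hom x ∈ U ↔ x ∈ U
    rw [hmem, hmem]
    constructor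
    · intro H h g
      have := H (h * g₀⁻¹) g
      rwa [← Scheme.Hom.comp_apply, hc, inv_mul_cancel_right] at this
    · intro H h g
      rw [← Scheme.Hom.comp_apply, hc]
      exact H _ g
  · intro K _ x hx g hxg
    by_contra hg
    obtain ⟨pt⟩ := (inferInstance : Nonempty (Spec (CommRingCat.of K)))
    have h1 := (hmem _).1 (hx ⟨pt, rfl⟩) 1 g
    rw [map_one] at h1
    simp only [V, if_neg hg] at h1
    refine h1 (subset_closure ⟨Limits.equalizer.lift x ((Category.comp_id x).trans hxg.symm) pt, ?_⟩)
    rw [← Scheme.Hom.comp_apply, Limits.equalizer.lift_ι]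
    rfl

end Groth.Agent.S15701
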