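import Groth.Statements.S15702
import Groth.Agent.Comod.OrbitClosed
import Groth.Agent.GrpScheme.Rosenlicht.Tensor
import Mathlib.RingTheory.UniqueFactorizationDomain.Basic

set_option autoImplicit false
universe u
open GLin

namespace Groth.Agent.S15702

open scoped TensorProduct

theorem exists_point' {k : Type u} [Field k] [IsAlgClosed k] {R : Type u} [CommRing R] [Algebra k R]
    [Algebra.FiniteType k R] (P : Ideal R) [P.IsMaximal] :
    ∃ z : R →ₐ[k] k, ∀ r, z r = 0 ↔ r ∈ P := by
  let _ : Field (R ⧸ P) := Ideal.Quotient.field P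
  have : Module.Finite k (R ⧸ P) := finite_of_finite_type_of_isJacobsonRing k (R ⧸ P)
  let e : k ≃ₐ[k] R ⧸ P := AlgEquiv.ofBijective (Algebra.ofId k _)
    IsAlgClosed.algebraMap_bijective_of_isIntegral
  refine ⟨e.symm.toAlgHom.comp (Ideal.Quotient.mkₐ k P), fun r => ?_⟩
  change e.symm (Ideal.Quotient.mk P r) = 0 ↔ _
  rw [map_eq_zero_iff _ e.symm.injective, Ideal.Quotient.eq_zero_iff_mem]


/-- Let k be algebraically closed of characteristic zero, let G be a connected linear algebraic group
over k without non-trivial characters acting on an integral affine k-variety Spec B of finite type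
with B a unique factorisation domain; then the field of G-invariant rational functions is the
fraction field of the ring of invariants B^G. In coordinate-ring form: A is a commutative Hopf
algebra of finite type over k, a domain, whose only group-like element is 1; B is a k-algebra of
finite type, a domain and a unique factorisation monoid, with a coaction of A that is an algebra
map; k-points φ : A →ₐ[k] k act on B through the coaction. If f, g ∈ B, g ≠ 0, satisfy (φ·f) g = f
(φ·g) for all φ, then f g' = f' g for some f', g' ∈ B fixed by all φ with g' ≠ 0. (The published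
lemma allows G disconnected with character-free identity component; this row is the connected case
treated first in its proof.) -/
theorem result (k : Type u) [Field k] [IsAlgClosed k] [CharZero k]
    (A : Type u) [CommRing A] [HopfAlgebra k A] [Algebra.FiniteType k A] [IsDomain A]
    (hchar : ∀ a : A, IsGroupLikeElem k a → a = 1)
    (B : Type u) [CommRing B] [Algebra k B] [Algebra.FiniteType k B] [IsDomain B] [UniqueFactorizationMonoid B]
    [HopfRep.Comod k A B] [GLin.IsCoactAlg k A B]
    (f g : B) (hg : g ≠ 0)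
    (hinv : ∀ φ : A →ₐ[k] k, HopfRep.Comod.act k A B φ f * g = f * HopfRep.Comod.act k A B φ g) :
    ∃ f' g' : B, (∀ φ : A →ₐ[k] k, HopfRep.Comod.act k A B φ f' = f') ∧
      (∀ φ : A →ₐ[k] k, HopfRep.Comod.act k A B φ g' = g') ∧ g' ≠ 0 ∧ f * g' = f' * g := by
  classical
  obtain ⟨f0, g0, c0, hcop, hf0, hg0'⟩ := UniqueFactorizationMonoid.exists_reduced_factors' f g hg
  have hg0 : g0 ≠ 0 := fun h => hg (by rw [← hg0', h, mul_zero])
  have hfg : f * g0 = f0 * g := by rw [← hf0, ← hg0']; ring
  have hact : ∀ (φ : A →ₐ[k] k) (b : B), HopfRep.Comod.act k A B φ b = Comod.actAlg φ b :=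
    fun φ b => (Comod.actAlg_eq_act φ b).symm
  have hback : ∀ (φ : A →ₐ[k] k) (b : B), Comod.actAlg (InvQLib.pinv φ) (Comod.actAlg φ b) = b := by
    intro φ b
    have := Comod.actAlg_pinv (InvQLib.pinv φ) b
    rwa [Comod.pinv_pinv] at this
  have hinj : ∀ φ : A →ₐ[k] k, Function.Injective (Comod.actAlg (R := B) φ) := fun φ x y hxy => by
    rw [← hback φ x, hxy, hback]
  have hinv0 : ∀ φ : A →ₐ[k] k, Comod.actAlg φ f0 * g0 = f0 * Comod.actAlg φ g0 := by
    intro φ
    have h1 := congrArg (Comod.actAlg φ) hfg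
    rw [map_mul, map_mul] at h1
    have h2 := hinv φ
    rw [hact, hact] at h2
    have hne : Comod.actAlg φ g ≠ 0 := fun h => hg (hinj φ (h.trans (map_zero _).symm))
    refine mul_right_cancel₀ hne (mul_right_cancel₀ hg ?_)
    linear_combination (-(g0 * g)) * h1 + g0 * (Comod.actAlg φ g0) * h2 +
      Comod.actAlg φ g * Comod.actAlg φ g0 * hfg
  have hdvd : ∀ φ : A →ₐ[k] k, ∃ u : B, IsUnit u ∧ Comod.actAlg φ g0 = g0 * u := by
    intro φ
    have hd : ∀ ψ : A →ₐ[k] k, g0 ∣ Comod.actAlg ψ g0 := fun ψ =>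
      hcop.symm.dvd_of_dvd_mul_left ⟨Comod.actAlg ψ f0, by rw [← hinv0 ψ, mul_comm]⟩
    obtain ⟨u, hu⟩ := hd φ
    obtain ⟨v, hv⟩ := hd (InvQLib.pinv φ)
    have h := congrArg (Comod.actAlg φ) hv
    rw [Comod.actAlg_pinv, map_mul, hu, mul_assoc] at h
    refine ⟨u, IsUnit.of_mul_eq_one (Comod.actAlg φ v) (mul_left_cancel₀ hg0 ?_), hu⟩
    rw [mul_one]; exact h.symm
  let Gc : B ⊗[k] A := HopfRep.Comod.coact (k := k) (A := A) g0
  have hev : ∀ (χ : A →ₐ[k] k), GrpScheme.Rosenlicht.evalAt B χ Gc = Comod.actAlg χ g0 := fun χ => by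
    rw [Comod.actAlg_eq_act]
    rfl
  have hmulev : ∀ (χ : A →ₐ[k] k) (U : B ⊗[k] A), GrpScheme.Rosenlicht.evalAt B χ ((g0 ⊗ₜ[k] (1 : A)) * U) =
      g0 * GrpScheme.Rosenlicht.evalAt B χ U := by
    intro χ U
    induction U using TensorProduct.induction_on with
    | zero => simp
    | tmul x y => simp
    | add x y hx hy => simp only [mul_add, map_add, hx, hy]
  obtain ⟨U, hU⟩ : ∃ U : B ⊗[k] A, Gc = (g0 ⊗ₜ[k] (1 : A)) * U := by
    let I : Submodule k B := (Ideal.span {g0}).restrictScalars k
    have hz : I.mkQ.rTensor A Gc = 0 := by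
      refine GrpScheme.Rosenlicht.eq_zero_of_forall_evalAt fun χ => ?_
      have hnat : ∀ t : B ⊗[k] A, GrpScheme.Rosenlicht.evalAt (B ⧸ I) χ (I.mkQ.rTensor A t) =
          I.mkQ (GrpScheme.Rosenlicht.evalAt B χ t) := by
        intro t
        induction t using TensorProduct.induction_on with
        | zero => simp
        | tmul x y => simp
        | add x y hx hy => simp only [map_add, hx, hy]
      rw [hnat, Submodule.mkQ_apply, Submodule.Quotient.mk_eq_zero, hev]
      obtain ⟨u, -, hu⟩ := hdvd χ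
      exact hu ▸ Ideal.mul_mem_right _ _ (Ideal.mem_span_singleton_self g0)
    obtain ⟨y, hy⟩ := (rTensor_exact A (LinearMap.exact_subtype_mkQ I) I.mkQ_surjective Gc).1 hz
    rw [← hy]
    clear hy hz
    induction y using TensorProduct.induction_on with
    | zero => exact ⟨0, by simp⟩
    | tmul x a =>
      obtain ⟨r, hr⟩ := Ideal.mem_span_singleton'.1 x.2
      exact ⟨r ⊗ₜ[k] a, by simp [← hr, mul_comm]⟩
    | add x y hx hy =>
      obtain ⟨U1, h1⟩ := hx
      obtain ⟨U2, h2⟩ := hy
      exact ⟨U1 + U2, by rw [map_add, h1, h2, mul_add]⟩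
  have hval : ∀ χ : A →ₐ[k] k, IsUnit (GrpScheme.Rosenlicht.evalAt B χ U) := by
    intro χ
    obtain ⟨u, huu, hu⟩ := hdvd χ
    rw [← hev, hU, hmulev] at hu
    rw [mul_left_cancel₀ hg0 hu]
    exact huu
  haveI : Algebra.FiniteType B (B ⊗[k] A) := inferInstance
  haveI : Algebra.FiniteType k (B ⊗[k] A) := Algebra.FiniteType.trans (S := B) inferInstance inferInstance
  have hUu : IsUnit U := by
    by_contra hnu
    obtain ⟨M, hM, hUM⟩ := exists_max_ideal_of_mem_nonunits (show U ∈ nonunits _ from hnu)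
    obtain ⟨z, hz⟩ := exists_point' (k := k) M
    have hz2 : ∀ t : B ⊗[k] A, z t = (z.comp Algebra.TensorProduct.includeLeft)
        (GrpScheme.Rosenlicht.evalAt B (z.comp Algebra.TensorProduct.includeRight) t) := by
      intro t
      induction t using TensorProduct.induction_on with
      | zero => simp
      | tmul x y =>
        rw [GrpScheme.Rosenlicht.evalAt_tmul, map_smul]
        simp only [AlgHom.comp_apply, Algebra.TensorProduct.includeLeft_apply,
          Algebra.TensorProduct.includeRight_apply, smul_eq_mul]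
        rw [← map_mul, Algebra.TensorProduct.tmul_mul_tmul, one_mul, mul_one]
      | add x y hx hy => simp only [map_add, hx, hy]
    have := ((hval (z.comp Algebra.TensorProduct.includeRight)).map (z.comp Algebra.TensorProduct.includeLeft)).ne_zero
    rw [← hz2] at this
    exact this ((hz U).2 hUM)
  obtain ⟨M, hM⟩ := Ideal.exists_maximal B
  obtain ⟨ψ, -⟩ := exists_point' (k := k) M
  obtain ⟨b, a, hab⟩ := GrpScheme.Rosenlicht.exists_tmul_eq hUu.unit ψ (Bialgebra.counitAlgHom k A)
  rw [IsUnit.unit_spec] at hab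
  have h1 : Bialgebra.counitAlgHom k A (a : A) • (b : B) = 1 := by
    have h := hev (Bialgebra.counitAlgHom k A)
    rw [hU, hmulev, Comod.actAlg_eq_act, InvQLib.act_eq_contract, hab, GrpScheme.Rosenlicht.evalAt_tmul] at h
    exact mul_left_cancel₀ hg0 ((h.trans (Comod.contract_counit g0)).trans (mul_one g0).symm)
  have hεa : Bialgebra.counitAlgHom k A (a : A) ≠ 0 := (a.isUnit.map _).ne_zero
  set a' : A := (Bialgebra.counitAlgHom k A (a : A))⁻¹ • (a : A) with ha'
  have hG : HopfRep.Comod.coact (k := k) (A := A) g0 = g0 ⊗ₜ[k] a' := by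
    change Gc = _
    rw [hU, hab, ha', Algebra.TensorProduct.tmul_mul_tmul, one_mul]
    conv_rhs => rw [← TensorProduct.smul_tmul]
    congr 1
    rw [← mul_one g0, mul_assoc, one_mul, ← mul_smul_comm, ← h1, smul_smul, inv_mul_cancel₀ hεa, one_smul]
  have hgl : IsGroupLikeElem k a' := by
    refine ⟨?_, ?_⟩
    · change Bialgebra.counitAlgHom k A a' = 1
      rw [ha', map_smul, smul_eq_mul, inv_mul_cancel₀ hεa]
    · have h := LinearMap.congr_fun (HopfRep.Comod.coassoc (k := k) (A := A) (V := B)) g0
      simp only [LinearMap.comp_apply, LinearEquiv.coe_coe] at h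
      rw [hG, LinearMap.rTensor_tmul, hG, TensorProduct.assoc_tmul, LinearMap.lTensor_tmul] at h
      obtain ⟨φ, hφ⟩ := Module.Projective.exists_dual_ne_zero k hg0
      have h' := congrArg (TensorProduct.lid k (A ⊗[k] A) ∘ φ.rTensor (A ⊗[k] A)) h
      simp only [Function.comp_apply, LinearMap.rTensor_tmul, TensorProduct.lid_tmul] at h'
      exact (smul_right_injective (A ⊗[k] A) hφ h').symm
  have hfix : ∀ φ : A →ₐ[k] k, Comod.actAlg φ g0 = g0 := by
    intro φ
    rw [← hev]
    change GrpScheme.Rosenlicht.evalAt B φ (HopfRep.Comod.coact (k := k) (A := A) g0) = g0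
    rw [hG, hchar a' hgl, GrpScheme.Rosenlicht.evalAt_tmul, map_one, one_smul]
  refine ⟨f0, g0, fun φ => ?_, fun φ => by rw [hact]; exact hfix φ, hg0, hfg⟩
  rw [hact]
  refine mul_right_cancel₀ hg0 ?_
  rw [hinv0, hfix]

end Groth.Agent.S15702
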