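import Groth.Statements.S15705
import Groth.Agent.Comod.OrbitClosed
import Mathlib.RingTheory.Localization.NumDen
import Mathlib.RingTheory.Localization.FractionRing

set_option autoImplicit false
universe u
open GLin

namespace Groth.Agent.S15705

open Groth.Agent

/-- subfields of finitely generated extensions are finitely generated -/
lemma exists_finset_adjoin {k : Type u} [Field k] {K : Type u} [Field K] [Algebra k K]
    [Algebra.EssFiniteType k K] (W : Set K) :
    ∃ s : Finset K, ↑s ⊆ W ∧ W ⊆ IntermediateField.adjoin k (s : Set K) := by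
  classical
  have : IsNoetherianRing (TensorProduct k K K) := Algebra.EssFiniteType.isNoetherianRing K _
  let δ : K → TensorProduct k K K := fun x => x ⊗ₜ 1 - 1 ⊗ₜ x
  obtain ⟨t, ht, hspan⟩ := (Submodule.fg_span_iff_fg_span_finset_subset (R := TensorProduct k K K) (δ '' W)).1
    (IsNoetherian.noetherian _)
  obtain ⟨s, hsW, rfl⟩ := Finset.subset_set_image_iff.1 ht
  refine ⟨s, hsW, fun x hx => ?_⟩
  set L := IntermediateField.adjoin k (s : Set K) with hL
  let π : TensorProduct k K K →ₐ[k] TensorProduct L K K :=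
    Algebra.TensorProduct.lift
      ((Algebra.TensorProduct.includeLeft : K →ₐ[L] TensorProduct L K K).restrictScalars k)
      ((Algebra.TensorProduct.includeRight : K →ₐ[L] TensorProduct L K K).restrictScalars k)
      (fun _ _ => mul_comm _ _)
  have hzero : ∀ z ∈ Submodule.span (TensorProduct k K K) (δ '' W), π z = 0 := by
    intro z hz
    rw [hspan] at hz
    refine Submodule.span_induction ?_ (map_zero π) (fun a b _ _ ha hb => by rw [map_add, ha, hb, add_zero])
      (fun c a _ ha => by rw [smul_eq_mul, map_mul, ha, mul_zero]) hz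
    intro w hw
    obtain ⟨y, hy, rfl⟩ := Finset.mem_image.1 hw
    have hyL : y ∈ L := IntermediateField.subset_adjoin k _ hy
    have e : y = (⟨y, hyL⟩ : L) • (1 : K) := by rw [Algebra.smul_def, mul_one]; rfl
    simp only [δ, map_sub, π, Algebra.TensorProduct.lift_tmul, map_one, mul_one, one_mul, sub_eq_zero]
    change y ⊗ₜ[L] (1 : K) = (1 : K) ⊗ₜ[L] y
    rw [e, TensorProduct.smul_tmul]
  have h0 := hzero _ (Submodule.subset_span ⟨x, hx, rfl⟩)
  simp only [δ, map_sub, π, Algebra.TensorProduct.lift_tmul, map_one, mul_one, one_mul, sub_eq_zero] at h0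
  change x ⊗ₜ[L] (1 : K) = (1 : K) ⊗ₜ[L] x at h0
  obtain ⟨f, hf⟩ := LinearMap.exists_leftInverse_of_injective (LinearMap.toSpanSingleton L K 1)
    (LinearMap.ker_eq_bot.2 (smul_left_injective L one_ne_zero))
  have hf1 : f 1 = 1 := by simpa using LinearMap.congr_fun hf 1
  have h1 := congrArg (fun z => TensorProduct.lid L K (f.rTensor K z)) h0
  simp only [LinearMap.rTensor_tmul, TensorProduct.lid_tmul, hf1, one_smul] at h1
  rw [← h1, Algebra.smul_def, mul_one]
  exact (f x).2

theorem exists_good {k : Type u} [Field k] {B : Type u} [CommRing B] [IsDomain B]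
    [UniqueFactorizationMonoid B] [Algebra k B] {K : Type u} [Field K] [Algebra B K] [IsFractionRing B K]
    [Algebra k K] [IsScalarTower k B K] [Algebra.EssFiniteType k K] {ι : Type*} (σ : ι → (B ≃ₐ[k] B)) :
    ∃ h : B, h ≠ 0 ∧ (∀ g, ∃ u : Bˣ, σ g h = h * u) ∧
      ∀ a b : B, b ≠ 0 → (∀ g, σ g a * b = a * σ g b) →
        ∃ (c d : B) (r t : ℕ), d ≠ 0 ∧ (∀ g, σ g c * h ^ r = c * σ g h ^ r) ∧
          (∀ g, σ g d * h ^ t = d * σ g h ^ t) ∧ a * d * h ^ r = b * c * h ^ t := by
  classical
  let C : B → K := algebraMap B K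
  have hC : Function.Injective C := IsFractionRing.injective B K
  let τ : ι → (K →+* K) := fun g => (IsFractionRing.ringEquivOfRingEquiv (σ g).toRingEquiv : K ≃+* K)
  have hτ : ∀ g y, τ g (C y) = C (σ g y) := fun g y => by simp [τ, C]
  let W : Set K := {x | ∀ g, τ g x = x}
  obtain ⟨s, hsW, hWs⟩ := exists_finset_adjoin (k := k) W
  have hden0 : ∀ x : K, (IsFractionRing.den B x : B) ≠ 0 := fun x =>
    nonZeroDivisors.coe_ne_zero _
  have hsemi : ∀ x ∈ W, ∀ g, ∃ u : Bˣ, σ g (IsFractionRing.den B x) = (IsFractionRing.den B x : B) * u := by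
    intro x hx g
    set a := IsFractionRing.num B x
    set b : B := ↑(IsFractionRing.den B x)
    have hab : IsRelPrime a b := IsFractionRing.num_den_reduced B x
    have hxab : C a / C b = x := IsFractionRing.mk'_num_den' B x
    have e : σ g a * b = a * σ g b := by
      apply hC
      have h1 := hx g
      rw [← hxab, map_div₀, hτ, hτ, div_eq_div_iff ((map_ne_zero_iff _ hC).2
        ((map_ne_zero_iff _ (σ g).injective).2 (hden0 x))) ((map_ne_zero_iff _ hC).2 (hden0 x))] at h1
      simpa [C] using h1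
    obtain ⟨u, hu⟩ : b ∣ σ g b := hab.symm.dvd_of_dvd_mul_left ⟨σ g a, by rw [← e, mul_comm]⟩
    have hau : σ g a = a * u := mul_right_cancel₀ (hden0 x) (by rw [e, hu]; ring)
    obtain ⟨v, hv⟩ := (σ g).surjective u
    have hva : v ∣ a := (map_dvd_iff (σ g)).1 (by rw [hv, hau]; exact dvd_mul_left _ _)
    have hvb : v ∣ b := (map_dvd_iff (σ g)).1 (by rw [hv, hu]; exact dvd_mul_left _ _)
    have : IsUnit u := hv ▸ (hab hva hvb).map (σ g)
    exact ⟨this.unit, by rw [IsUnit.unit_spec]; exact hu⟩
  let h : B := ∏ x ∈ s, (IsFractionRing.den B x : B)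
  have hh0 : h ≠ 0 := Finset.prod_ne_zero_iff.2 fun x _ => hden0 x
  refine ⟨h, hh0, fun g => ?_, fun a b hb hab => ?_⟩
  · choose u hu using fun x : s => hsemi x.1 (hsW x.2) g
    refine ⟨∏ x, u x, ?_⟩
    simp only [h, map_prod, Units.coe_prod, ← Finset.prod_coe_sort s, hu, Finset.prod_mul_distrib]
  · -- fractions with denominator a power of `h`
    let P : K → Prop := fun y => ∃ (c : B) (r : ℕ), y * C h ^ r = C c
    have hP : ∀ y ∈ Algebra.adjoin k (s : Set K), P y ∧ ∀ g, τ g y = y := by
      intro y hy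
      induction hy using Algebra.adjoin_induction with
      | mem y hy =>
        refine ⟨?_, hsW hy⟩
        obtain ⟨w, hw⟩ : (IsFractionRing.den B y : B) ∣ h := Finset.dvd_prod_of_mem _ hy
        refine ⟨IsFractionRing.num B y * w, 1, ?_⟩
        have hy' := IsFractionRing.mk'_num_den' B y
        rw [div_eq_iff ((map_ne_zero_iff _ hC).2 (hden0 y))] at hy'
        simp only [C, pow_one, hw, map_mul, hy']
        ring
      | algebraMap c =>
        have e : algebraMap k K c = C (algebraMap k B c) := IsScalarTower.algebraMap_apply k B K c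
        exact ⟨⟨algebraMap k B c, 0, by rw [e, pow_zero, mul_one]⟩, fun g => by rw [e, hτ, AlgEquiv.commutes]⟩
      | add y z _ _ hy hz =>
        obtain ⟨⟨c, r, hc⟩, hyf⟩ := hy
        obtain ⟨⟨d, t, hd⟩, hzf⟩ := hz
        refine ⟨⟨c * h ^ t + d * h ^ r, r + t, ?_⟩, fun g => by rw [map_add, hyf, hzf]⟩
        simp only [C] at hc hd ⊢
        rw [map_add, map_mul, map_mul, ← hc, ← hd, map_pow, map_pow]
        ring
      | mul y z _ _ hy hz =>
        obtain ⟨⟨c, r, hc⟩, hyf⟩ := hy
        obtain ⟨⟨d, t, hd⟩, hzf⟩ := hz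
        refine ⟨⟨c * d, r + t, ?_⟩, fun g => by rw [map_mul, hyf, hzf]⟩
        simp only [C] at hc hd ⊢
        rw [map_mul, ← hc, ← hd]
        ring
    have hx : C a / C b ∈ W := fun g => by
      rw [map_div₀, hτ, hτ, div_eq_div_iff ((map_ne_zero_iff _ hC).2
        ((map_ne_zero_iff _ (σ g).injective).2 hb)) ((map_ne_zero_iff _ hC).2 hb)]
      simp only [C, ← map_mul]
      rw [hab g]
    obtain ⟨y, hy, z, hz, hyz⟩ := IntermediateField.mem_adjoin_iff_div.1 (hWs hx)
    by_cases hz0 : z = 0
    · have ha : a = 0 := by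
        rw [hz0, div_zero, div_eq_zero_iff, or_iff_left ((map_ne_zero_iff _ hC).2 hb)] at hyz
        exact hC (hyz.trans (map_zero _).symm)
      exact ⟨0, 1, 0, 0, one_ne_zero, fun g => by simp, fun g => by simp, by simp [ha]⟩
    obtain ⟨⟨c, r, hc⟩, hyf⟩ := hP y hy
    obtain ⟨⟨d, t, hd⟩, hzf⟩ := hP z hz
    have hCh : C h ≠ 0 := (map_ne_zero_iff _ hC).2 hh0
    have hfix : ∀ {y : K} {c : B} {r : ℕ}, y * C h ^ r = C c → (∀ g, τ g y = y) →
        ∀ g, σ g c * h ^ r = c * σ g h ^ r := by
      intro y c r hc hyf g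
      apply hC
      have h1 := congrArg (τ g) hc
      rw [map_mul, map_pow, hyf, hτ, hτ] at h1
      simp only [C] at hc h1 ⊢
      rw [map_mul, map_mul, map_pow, map_pow, ← h1, ← hc]
      ring
    refine ⟨c, d, r, t, ?_, hfix hc hyf, hfix hd hzf, ?_⟩
    · rintro rfl
      simp [C, hz0, hh0] at hd
    · apply hC
      rw [div_eq_div_iff ((map_ne_zero_iff _ hC).2 hb) hz0] at hyz
      simp only [C] at hc hd hyz ⊢
      rw [map_mul, map_mul, map_mul, map_mul, map_pow, map_pow, ← hc, ← hd]
      linear_combination (algebraMap B K h ^ r * algebraMap B K h ^ t) * hyz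


/-- Let k be algebraically closed of characteristic zero, G a linear algebraic group and X a factorial
affine G-variety with k[X]* = k*; then there is a G-invariant affine open U of X such that the field
of G-invariant rational functions is the fraction field of k[U]^G. In coordinate-ring form: A is a
commutative Hopf algebra of finite type over k coacting by an algebra map on B, a finitely generated
k-algebra which is a domain and a unique factorisation monoid all of whose units are scalars;
k-points φ : A →ₐ[k] k of G act on B through the coaction. Conclusion: there is h ≠ 0 in B with D(h)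
stable under every φ (φ·h divides a power of h) such that whenever a, b ∈ B, b ≠ 0, satisfy (φ·a) b
= a (φ·b) for all φ (the fraction a/b is invariant), there are c, d ∈ B and exponents r, t with d ≠
0, with c/h^r and d/h^t invariant in B[1/h] — that is (φ·c) h^r = c (φ·h)^r and (φ·d) h^t = d
(φ·h)^t for all φ — and a d h^r = b c h^t (so a/b = (c/h^r)/(d/h^t)). -/
theorem result (k : Type u) [Field k] [IsAlgClosed k] [CharZero k]
    (A : Type u) [CommRing A] [HopfAlgebra k A] [Algebra.FiniteType k A]
    (B : Type u) [CommRing B] [Algebra k B] [Algebra.FiniteType k B] [IsDomain B] [UniqueFactorizationMonoid B]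
    (hunits : ∀ u : Bˣ, ∃ c : k, algebraMap k B c = u)
    [HopfRep.Comod k A B] [GLin.IsCoactAlg k A B] :
    ∃ h : B, h ≠ 0 ∧ (∀ φ : A →ₐ[k] k, ∃ (N : ℕ) (u : B), HopfRep.Comod.act k A B φ h * u = h ^ N) ∧
      ∀ a b : B, b ≠ 0 → (∀ φ : A →ₐ[k] k, HopfRep.Comod.act k A B φ a * b = a * HopfRep.Comod.act k A B φ b) →
        ∃ (c d : B) (r t : ℕ), d ≠ 0 ∧
          (∀ φ : A →ₐ[k] k, HopfRep.Comod.act k A B φ c * h ^ r = c * (HopfRep.Comod.act k A B φ h) ^ r) ∧
          (∀ φ : A →ₐ[k] k, HopfRep.Comod.act k A B φ d * h ^ t = d * (HopfRep.Comod.act k A B φ h) ^ t) ∧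
          a * d * h ^ r = b * c * h ^ t := by
  classical
  set K := FractionRing B with hK
  have : Algebra.EssFiniteType k K :=
    Algebra.EssFiniteType.comp k B K
  -- the automorphisms of functions
  have hψ : ∀ g : A →ₐ[k] k, Function.Bijective (Comod.actAlg (R := B) g) := fun g =>
    ⟨Function.LeftInverse.injective (g := Comod.actAlg (InvQLib.pinv g)) (fun r => by
        have := Comod.actAlg_pinv (InvQLib.pinv g) r
        rwa [Comod.pinv_pinv] at this),
      Function.RightInverse.surjective (g := Comod.actAlg (InvQLib.pinv g)) (fun r => Comod.actAlg_pinv g r)⟩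
  simp only [← Comod.actAlg_eq_act]
  let σ : (A →ₐ[k] k) → (B ≃ₐ[k] B) := fun g => AlgEquiv.ofBijective (Comod.actAlg g) (hψ g)
  obtain ⟨h, hh0, hh1, hh2⟩ := exists_good (k := k) (K := K) σ
  refine ⟨h, hh0, fun g => ?_, fun a b hb hab => hh2 a b hb hab⟩
  obtain ⟨u, hu⟩ := hh1 g
  refine ⟨1, ↑u⁻¹, ?_⟩
  change σ g h * _ = _
  rw [pow_one, hu, mul_assoc, Units.mul_inv, mul_one]

end Groth.Agent.S15705
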