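import Groth.Statements.S15706
import Groth.Agent.CAlg.MinPrime

set_option autoImplicit false
universe u
open CAlg

namespace Groth.Agent.S15706

/-- Let A be a Noetherian ring with Serre's property (S_1), stated here in the equivalent form that
every associated prime of A is a minimal prime of A. Let I be an ideal of A and b an element of A/I
which is regular (a non-zero-divisor) in A/I. Then b is the image of a regular element of A. -/
theorem result (A : Type u) [CommRing A]
    [IsNoetherianRing A] (hS1 : ∀ p ∈ associatedPrimes A A, p ∈ minimalPrimes A) (I : Ideal A)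
    (b : A ⧸ I) (hb : b ∈ nonZeroDivisors (A ⧸ I)) :
    ∃ a : A, a ∈ nonZeroDivisors A ∧ Ideal.Quotient.mk I a = b := by
  classical
  obtain ⟨b₀, rfl⟩ := Ideal.Quotient.mk_surjective b
  have hfin : (associatedPrimes A A).Finite := associatedPrimes.finite A A
  let P := hfin.toFinset
  let T := P.filter fun p => b₀ ∈ p
  let T' := P.filter fun p => b₀ ∉ p
  have hTI : ∀ p ∈ T, ¬ I ≤ p := by
    intro p hp hle
    obtain ⟨hpP, hbp⟩ := Finset.mem_filter.1 hp
    have hm : p ∈ I.minimalPrimes := by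
      have h := hS1 p (hfin.mem_toFinset.1 hpP)
      exact ⟨⟨h.1.1, hle⟩, fun q hq hqp => h.2 ⟨hq.1, bot_le⟩ hqp⟩
    obtain ⟨z, hz0, hz⟩ := Groth.Agent.CAlg.MinPrime.exists_smul_eq_zero_of_mem_minimalPrimes hm hbp
    exact hz0 ((mul_left_mem_nonZeroDivisors_eq_zero_iff hb).1 hz)
  have key : ¬ (((I * ∏ p ∈ T', p : Ideal A) : Set A) ⊆ ⋃ p ∈ (T : Set (Ideal A)), (p : Set A)) := by
    intro h
    have h' := (Ideal.subset_union_prime (f := fun p : Ideal A => p) ⊥ ⊥ (fun p hp _ _ =>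
      IsAssociatedPrime.isPrime (hfin.mem_toFinset.1 (Finset.mem_filter.1 hp).1))).1 h
    obtain ⟨q, hq, hqle⟩ := h'
    obtain ⟨hqP, hbq⟩ := Finset.mem_filter.1 hq
    have hqass := hfin.mem_toFinset.1 hqP
    have hqprime : q.IsPrime := IsAssociatedPrime.isPrime hqass
    rcases (Ideal.IsPrime.mul_le hqprime).1 hqle with h1 | h1
    · exact hTI q hq h1
    · obtain ⟨p, hp, hpq⟩ := (Ideal.IsPrime.prod_le hqprime).1 h1
      obtain ⟨hpP, hbp⟩ := Finset.mem_filter.1 hp
      have hp' := hfin.mem_toFinset.1 hpP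
      exact hbp ((hS1 q hqass).2 ⟨IsAssociatedPrime.isPrime hp', bot_le⟩ hpq hbq)
  obtain ⟨i, hi, hiT⟩ := Set.not_subset.1 key
  refine ⟨b₀ + i, ?_, ?_⟩
  · by_contra ha
    have h : b₀ + i ∈ ⋃ p ∈ associatedPrimes A A, (p : Set A) := by
      rw [biUnion_associatedPrimes_eq_compl_nonZeroDivisors]; exact ha
    simp only [Set.mem_iUnion] at h
    obtain ⟨p, hp, hbi⟩ := h
    by_cases hbp : b₀ ∈ p
    · refine hiT ?_
      simp only [Set.mem_iUnion]
      exact ⟨p, Finset.mem_filter.2 ⟨hfin.mem_toFinset.2 hp, hbp⟩, (p.add_mem_iff_right hbp).1 hbi⟩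
    · have h1 : i ∈ p := by
        have h2 : I * ∏ q ∈ T', q ≤ ∏ q ∈ T', q := Ideal.mul_le_right
        exact Ideal.le_of_dvd (Finset.dvd_prod_of_mem (fun q : Ideal A => q)
          (Finset.mem_filter.2 ⟨hfin.mem_toFinset.2 hp, hbp⟩)) (h2 hi)
      exact hbp ((p.add_mem_iff_left h1).1 hbi)
  · rw [Ideal.Quotient.eq, add_sub_cancel_left]
    exact (Ideal.mul_le_left : I * ∏ q ∈ T', q ≤ I) hi

end Groth.Agent.S15706
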