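import Groth.Statements.S15708
import Mathlib

set_option autoImplicit false
universe u v
open CAlg

namespace Groth.Agent.S15708

/-- Let A be a Noetherian commutative ring graded by the natural numbers, J a homogeneous ideal, and
p_1, ..., p_r finitely many prime ideals such that no p_i contains the irrelevant ideal A_+ and no
p_i contains J. Then there is a homogeneous element z of positive degree with z in J and z in no
p_i. -/
theorem result {R : Type u} {A : Type v} [CommRing R] [CommRing A]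
    [Algebra R A] [IsNoetherianRing A] (𝒜 : ℕ → Submodule R A) [GradedRing 𝒜]
    (J : Ideal A) (hJ : J.IsHomogeneous 𝒜) (P : Finset (Ideal A))
    (hP : ∀ p ∈ P, p.IsPrime ∧ ¬ (HomogeneousIdeal.irrelevant 𝒜).toIdeal ≤ p ∧ ¬ J ≤ p) :
    ∃ (z : A) (n : ℕ), 0 < n ∧ z ∈ 𝒜 n ∧ z ∈ J ∧ ∀ p ∈ P, z ∉ p := by
  classical
  let Q : Finset (Ideal A) := P.image fun p => (p.homogeneousCore 𝒜).toIdeal
  let Qm := Q.filter fun q => ∀ q' ∈ Q, q ≤ q' → q' ≤ q
  have hQ : ∀ q ∈ Q, q.IsPrime ∧ ¬ (HomogeneousIdeal.irrelevant 𝒜).toIdeal ≤ q ∧ ¬ J ≤ q ∧ q.IsHomogeneous 𝒜 := by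
    intro q hq
    obtain ⟨p, hp, rfl⟩ := Finset.mem_image.1 hq
    obtain ⟨h1, h2, h3⟩ := hP p hp
    exact ⟨h1.homogeneousCore, fun h => h2 (h.trans (Ideal.toIdeal_homogeneousCore_le 𝒜 p)),
      fun h => h3 (h.trans (Ideal.toIdeal_homogeneousCore_le 𝒜 p)), HomogeneousIdeal.isHomogeneous _⟩
  have step : ∀ q ∈ Qm, ∃ (d : ℕ) (y : A), 0 < d ∧ y ∈ 𝒜 d ∧ y ∈ J ∧ y ∉ q ∧ ∀ q' ∈ Qm, q' ≠ q → y ∈ q' := by
    intro q hq
    obtain ⟨hqQ, hqmax⟩ := Finset.mem_filter.1 hq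
    obtain ⟨hqp, hq1, hq2, hqh⟩ := hQ q hqQ
    let L : Ideal A := J * (HomogeneousIdeal.irrelevant 𝒜).toIdeal * ∏ q' ∈ Qm.erase q, q'
    have hLh : L.IsHomogeneous 𝒜 := by
      refine Ideal.IsHomogeneous.mul (Ideal.IsHomogeneous.mul hJ (HomogeneousIdeal.isHomogeneous _)) ?_
      refine Finset.prod_induction (fun q' : Ideal A => q') (fun K => K.IsHomogeneous 𝒜) (fun a b => Ideal.IsHomogeneous.mul) ?_ ?_
      · rw [Ideal.one_eq_top]; exact Ideal.IsHomogeneous.top 𝒜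
      · intro q' hq'
        exact (hQ q' (Finset.mem_filter.1 (Finset.mem_of_mem_erase hq')).1).2.2.2
    have hL : ¬ L ≤ q := by
      intro h
      rcases hqp.mul_le.1 h with h | h
      · rcases hqp.mul_le.1 h with h | h
        · exact hq2 h
        · exact hq1 h
      · obtain ⟨q', hq', hle⟩ := hqp.prod_le.1 h
        obtain ⟨hne, hq'm⟩ := Finset.mem_erase.1 hq'
        exact hne (le_antisymm hle ((Finset.mem_filter.1 hq'm).2 q hqQ hle))
    obtain ⟨x, hxL, hxq⟩ := SetLike.not_le_iff_exists.1 hL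
    obtain ⟨i, hi⟩ : ∃ i, ((DirectSum.decompose 𝒜 x i : A)) ∉ q := by
      by_contra! hc
      exact hxq (DirectSum.sum_support_decompose 𝒜 x ▸ q.sum_mem fun i _ => hc i)
    have hyL : (DirectSum.decompose 𝒜 x i : A) ∈ L := hLh i hxL
    have hyJ : (DirectSum.decompose 𝒜 x i : A) ∈ J := Ideal.mul_le_left (Ideal.mul_le_left hyL)
    have hyI : (DirectSum.decompose 𝒜 x i : A) ∈ (HomogeneousIdeal.irrelevant 𝒜).toIdeal :=
      Ideal.mul_le_right (Ideal.mul_le_left hyL)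
    refine ⟨i, _, Nat.pos_of_ne_zero ?_, SetLike.coe_mem _, hyJ, hi, fun q' hq' hne => ?_⟩
    · rintro rfl
      have h0 : GradedRing.proj 𝒜 0 (DirectSum.decompose 𝒜 x 0 : A) = 0 := (HomogeneousIdeal.mem_irrelevant_iff 𝒜 _).1 hyI
      rw [GradedRing.proj_apply, DirectSum.decompose_coe, DirectSum.of_eq_same] at h0
      exact hi (h0 ▸ q.zero_mem)
    · exact Ideal.le_of_dvd (Finset.dvd_prod_of_mem (fun q' : Ideal A => q') (Finset.mem_erase.2 ⟨hne, hq'⟩)) (Ideal.mul_le_right hyL)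
  choose d y hd hyd hyJ hyq hyq' using step
  let D := ∏ q ∈ Qm.attach, d q.1 q.2
  have hD : 0 < D := Finset.prod_pos fun q _ => hd _ _
  let z := ∑ q ∈ Qm.attach, y q.1 q.2 ^ (D / d q.1 q.2)
  have hpos : ∀ q : Qm, 0 < D / d q.1 q.2 := fun q =>
    Nat.div_pos (Nat.le_of_dvd hD (Finset.dvd_prod_of_mem (fun q : Qm => d q.1 q.2) (Finset.mem_attach _ q))) (hd _ _)
  have hzq : ∀ q ∈ Qm, z ∉ q := by
    intro q hq hz
    obtain ⟨hqp, -⟩ := hQ q (Finset.mem_filter.1 hq).1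
    rw [show z = _ from (Finset.add_sum_erase _ _ (Finset.mem_attach Qm ⟨q, hq⟩)).symm] at hz
    have h1 : (∑ q' ∈ Qm.attach.erase ⟨q, hq⟩, y q'.1 q'.2 ^ (D / d q'.1 q'.2)) ∈ q := by
      refine q.sum_mem fun q' hq' => Ideal.pow_mem_of_mem _ ?_ _ (hpos q')
      exact hyq' q'.1 q'.2 q hq fun h => (Finset.mem_erase.1 hq').1 (Subtype.ext h.symm)
    exact hyq q hq (hqp.mem_of_pow_mem _ ((q.add_mem_iff_left h1).1 hz))
  have hzD : z ∈ 𝒜 D := Submodule.sum_mem _ fun q _ => by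
    have h := SetLike.pow_mem_graded (D / d q.1 q.2) (hyd q.1 q.2)
    rwa [nsmul_eq_mul, Nat.cast_id, Nat.div_mul_cancel (Finset.dvd_prod_of_mem (fun q : Qm => d q.1 q.2) (Finset.mem_attach _ q))] at h
  refine ⟨z, D, hD, hzD, J.sum_mem fun q _ => Ideal.pow_mem_of_mem _ (hyJ q.1 q.2) _ (hpos q), fun p hp hz => ?_⟩
  have hc : z ∈ (p.homogeneousCore 𝒜).toIdeal := Ideal.mem_homogeneousCore_of_homogeneous_of_mem ⟨D, hzD⟩ hz
  obtain ⟨q, hpq, hq⟩ := Q.exists_le_maximal (Finset.mem_image_of_mem _ hp)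
  exact hzq q (Finset.mem_filter.2 ⟨hq.1, fun q' hq' h => hq.2 hq' h⟩) (hpq hc)

end Groth.Agent.S15708
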