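import Groth.Statements.S15712
import Mathlib.RingTheory.KrullDimension.Zero
import Mathlib.AlgebraicGeometry.Noetherian
import Groth.Agent.WeakAssSch.Unit
import Groth.Agent.Depth.Local
import Groth.Agent.LimTop.Maximal
import Groth.Agent.S1699
-- import your own Groth.Agent.* helpers here

set_option autoImplicit false
universe u
open CategoryTheory AlgebraicGeometry TopologicalSpace
open RatSing

namespace Groth.Agent.S15712
set_option backward.isDefEq.respectTransparency.types false
open Groth.Agent.LimTop

/-- A dense open of a locally Noetherian scheme contains every maximal point. -/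
lemma mem_of_dense_of_isMaxPt {X : Scheme.{u}} [IsLocallyNoetherian X] {U : X.Opens}
    (hU : Dense (U : Set X)) {x : X} (hx : IsMaxPt x) : x ∈ U := by
  obtain ⟨W, hW, hxW, -⟩ := exists_isAffineOpen_mem_and_subset (U := (⊤ : X.Opens)) (Set.mem_univ x)
  haveI : NoetherianSpace W := by
    haveI : IsAffine W := hW
    haveI : IsNoetherian W.toScheme := ⟨⟩
    infer_instance
  let x' : W := ⟨x, hxW⟩
  have hfin : {s : W | IsMaxPt s}.Finite := by
    refine Set.Finite.of_finite_image ((NoetherianSpace.finite_irreducibleComponents (α := W)).subset ?_)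
      (fun a _ b _ hab => ?_) (f := fun s : W => closure ({s} : Set W))
    · rintro _ ⟨s, hs, rfl⟩
      refine ⟨isIrreducible_singleton.closure, fun T hT hle => ?_⟩
      have hsT : s ∈ T := hle (subset_closure rfl)
      have hT' : IsIrreducible (closure T) := hT.closure
      obtain ⟨η, hη⟩ := QuasiSober.sober hT' isClosed_closure
      have : η = s := hs η (hη.specializes (subset_closure hsT))
      subst this
      exact fun y hy => (hη.specializes (subset_closure hy)).mem_closure
    · exact ((specializes_iff_closure_subset.mpr hab.ge).antisymm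
        (specializes_iff_closure_subset.mpr hab.le)).eq
  have hd : Dense (Subtype.val ⁻¹' (U : Set X) : Set W) :=
    hU.preimage W.isOpen.isOpenMap_subtype_val
  have hmax : IsMaxPt x' := fun z hz => Subtype.ext (hx z.1 (hz.map continuous_subtype_val))
  exact isMaxPt_mem_of_dense hfin (U.isOpen.preimage continuous_subtype_val) hd hmax

/-- Let X be a locally Noetherian scheme with Serre's property (S_1), i.e. every local ring O_{X,x} has
depth at least min(1, dim O_{X,x}) (for instance X Cohen–Macaulay), and let U ⊆ X be open. Then
scheme-theoretic density of U in X is equivalent to U being dense as a subset. (The published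
statement assumes every scheme excellent, in particular locally Noetherian.) -/
theorem result (X : Scheme.{u}) [IsLocallyNoetherian X]
    (hS1 : ∀ x : X, min (1 : WithBot ℕ∞) (ringKrullDim (X.presheaf.stalk x)) ≤
      ((LocCoh.depth (X.presheaf.stalk x) (X.presheaf.stalk x) : ℕ∞) : WithBot ℕ∞))
    (U : X.Opens) : CInt.IsSchematicallyDense U ↔ Dense (U : Set X) := by
  constructor
  · intro hd
    rw [dense_iff_inter_open]
    intro O hO hne
    by_contra hemp
    obtain ⟨x, hx⟩ := hne
    let O' : X.Opens := ⟨O, hO⟩
    have hle : O' ⊓ U ≤ ⊥ := fun y hy => (hemp ⟨y, hy.1, hy.2⟩).elim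
    haveI : Subsingleton Γ(X, O' ⊓ U) := by
      rw [le_bot_iff.mp hle]
      exact CommRingCat.subsingleton_of_isTerminal (X.sheaf.isTerminalOfEqEmpty rfl)
    have h01 : (1 : Γ(X, O')) = 0 := hd O' (Subsingleton.elim _ _)
    have := congrArg (X.presheaf.germ O' x hx) h01
    rw [map_one, map_zero] at this
    exact one_ne_zero this
  · intro hd
    refine (Groth.Agent.S1699.result X U).mpr fun x hx => ?_
    have h0 : ringKrullDim (X.presheaf.stalk x) = 0 := by
      by_contra hne
      have h1 : (1 : WithBot ℕ∞) ≤ ringKrullDim (X.presheaf.stalk x) := by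
        rcases hd' : ringKrullDim (X.presheaf.stalk x) with _ | d
        · exact absurd hd' ringKrullDim_ne_bot
        · have : d ≠ 0 := fun h => hne (by rw [hd', h]; rfl)
          exact WithBot.coe_le_coe.mpr (Order.one_le_iff_pos.mpr (pos_iff_ne_zero.mpr this))
      have h2 := hS1 x
      rw [min_eq_left h1] at h2
      exact (Groth.Agent.Depth.one_le_idealDepth_iff.mp (WithBot.coe_le_coe.mp h2)) _ hx le_rfl
    haveI : Ring.KrullDimLE 0 (X.presheaf.stalk x) := Ring.krullDimLE_iff.mpr h0.le
    refine mem_of_dense_of_isMaxPt hd fun z hz => ?_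
    have hz' : z ∈ Set.range (X.fromSpecStalk x) := by rw [Scheme.range_fromSpecStalk]; exact hz
    obtain ⟨p, rfl⟩ := hz'
    haveI : Subsingleton ↥(Spec (X.presheaf.stalk x)) :=
      Ring.KrullDimLE.subsingleton_primeSpectrum (R := X.presheaf.stalk x)
    rw [Subsingleton.elim p (IsLocalRing.closedPoint _), Scheme.fromSpecStalk_closedPoint]

end Groth.Agent.S15712
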