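import Groth.Statements.S15713
import Groth.Agent.BlowCM43.Basic

set_option autoImplicit false
universe u
open CategoryTheory AlgebraicGeometry TopologicalSpace
open RatSing

namespace Groth.Agent.S15713

/-- Let W be a Cohen–Macaulay scheme (excellent, as the published statement assumes throughout), I an
ideal sheaf locally generated by a regular sequence, and π : T → W the blowing up of W in I. Then T
is Cohen–Macaulay. (The published statement also asserts that the closed subscheme V of I and the
exceptional divisor F are Cohen–Macaulay; this row states the assertion for T. The blowing up is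
characterised by its universal property.) -/
theorem result (W T : Scheme.{u}) [IsLocallyNoetherian W]
    (hexc : ∀ U : W.affineOpens, EGA4.IsExcellent Γ(W, U.1))
    (hcm : ∀ w : W, LocCoh.IsCohenMacaulayLocalRing (W.presheaf.stalk w))
    (I : W.IdealSheafData) (hI : RegImm.IsRegularIdeal RegImm.Kind.regular I)
    (π : T ⟶ W) (hπ : BlowUp.IsBlowUp π I) (t : T) :
    LocCoh.IsCohenMacaulayLocalRing (T.presheaf.stalk t) := by
  have h : ∀ x : W, ∃ (U : W.Opens) (hU : IsAffineOpen U) (rs : List Γ(W, U)), x ∈ U ∧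
      LCI.IsKoszulRegularSeq Γ(W, U) rs ∧ I.ideal ⟨U, hU⟩ = Ideal.ofList rs := by
    intro x
    by_cases hx : x ∈ I.support
    · obtain ⟨U, hxU, rs, h1, h2⟩ := hI x hx
      exact ⟨U.1, U.2, rs, hxU,
        Groth.Agent.KReg44.isKoszulRegularSeq_of_isWeaklyRegular rs.length rs rfl h1.toIsWeaklyRegular, h2⟩
    · obtain ⟨U, hU, hxU, hsub⟩ := exists_isAffineOpen_mem_and_subset (x := x)
        (U := ⟨(I.support : Set W)ᶜ, I.support.isClosed.isOpen_compl⟩) hx
      refine ⟨U, hU, [1], hxU, Groth.Agent.KReg44.isKoszulRegularSeq_of_eq_top (by simp), ?_⟩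
      rw [Groth.Agent.IdealSh.Extend.ideal_eq_top_of_disjoint (U := U) ?_ ⟨U, hU⟩ le_rfl]
      · simp
      · exact Set.disjoint_left.2 fun y hy hyU => hsub hyU hy
  obtain ⟨A, hA, j, hj, J, n, a, b, q, hq, hl, hJ, -, ⟨w, rfl⟩, -⟩ :=
    Groth.Agent.BlowPerf.Global.exists_chart_at hπ h t
  haveI := hj
  haveI := hq
  haveI : IsLocallyNoetherian (Spec (CommRingCat.of A)) := isLocallyNoetherian_of_isOpenImmersion j
  haveI : IsNoetherianRing A := by
    have := IsLocallyNoetherian.component_noetherian (X := Spec (CommRingCat.of A)) ⟨⊤, isAffineOpen_top _⟩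
    exact isNoetherianRing_of_ringEquiv _ (Scheme.ΓSpecIso (CommRingCat.of A)).commRingCatIsoToRingEquiv
  -- stalks of affine schemes
  have hspec : ∀ (R : Type u) [CommRing R] (p : PrimeSpectrum R),
      Nonempty ((Spec (CommRingCat.of R)).presheaf.stalk p ≃+* Localization.AtPrime p.asIdeal) := fun R _ p => by
    letI : Algebra R ((Spec (CommRingCat.of R)).presheaf.stalk p) :=
      StructureSheaf.stalkAlgebra (CommRingCat.of R) p
    haveI : IsLocalization.AtPrime ((Spec (CommRingCat.of R)).presheaf.stalk p) p.asIdeal :=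
      StructureSheaf.IsLocalization.to_stalk (CommRingCat.of R) p
    exact ⟨(IsLocalization.algEquiv p.asIdeal.primeCompl _ (Localization.AtPrime p.asIdeal)).toRingEquiv⟩
  haveI : LocCoh.IsCohenMacaulayRing A := ⟨fun p hp => by
    obtain ⟨e⟩ := hspec A ⟨p, hp⟩
    let p' : (Spec (CommRingCat.of A) : Scheme.{u}) := ⟨p, hp⟩
    exact Groth.Agent.GeomLoc.isCohenMacaulayLocalRing_congr _ _
      ((asIso (j.stalkMap p')).commRingCatIsoToRingEquiv.trans e) (hcm _)⟩
  haveI := Groth.Agent.S2092.result (R := A) n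
  obtain ⟨f, hf, hker⟩ := Groth.Agent.BlowPerf.Chart.exists_presentation a b hl hJ
  have hCM := Groth.Agent.GeomFieldLib.isCohenMacaulayRing_of_ringEquiv
    ((Ideal.quotEquivOfEq hker.symm).trans (RingHom.quotientKerEquivOfSurjective hf))
    (Groth.Agent.BlowCM43.cm_quotient_seq _ (Groth.Agent.BlowPerf.Chart.regular a b hl))
  let w' : PrimeSpectrum (Groth.Agent.BlowUp.AffineChart.Chart J a) := w
  obtain ⟨e⟩ := hspec _ w'
  exact Groth.Agent.GeomLoc.isCohenMacaulayLocalRing_congr _ _
    (((asIso (q.stalkMap w)).commRingCatIsoToRingEquiv).trans e).symm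
    (hCM.isCohenMacaulayLocalRing_localization w'.asIdeal)

end Groth.Agent.S15713
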