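import Groth.Statements.S15715
import Groth.Agent.WeakAssSch.Unit
import Groth.Agent.AssSch.Stalk
import Groth.Agent.S1699
import Mathlib.RingTheory.Ideal.AssociatedPrime.Finiteness
-- import your own Groth.Agent.* helpers here

set_option autoImplicit false
universe u
open CategoryTheory AlgebraicGeometry TopologicalSpace
open RatSing

namespace Groth.Agent.S15715
set_option backward.isDefEq.respectTransparency.types false

/-- Weakly associated points of a torsion-free module lie in every schematically dense open. -/
lemma mem_of_isWeakAssPoint {X : Scheme.{u}} [IsLocallyNoetherian X] (F : X.Modules) [F.IsQuasicoherent]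
    (htf : ∀ V : X.affineOpens, Submodule.torsion Γ(X, V.1) Γ(F, V.1) = ⊥) (U : X.Opens)
    (hU : CInt.IsSchematicallyDense U) {x : X} (hx : Curv2.IsWeakAssPoint F x) : x ∈ U := by
  obtain ⟨W, hW, hxW, -⟩ := exists_isAffineOpen_mem_and_subset (U := (⊤ : X.Opens)) (Set.mem_univ x)
  haveI := Groth.Agent.AssSch.Stalk.isNoetherianRing_of_isAffineOpen hW
  let R := Γ(X, W)
  have hp := (Groth.Agent.WeakAssSch.isWeakAssPoint_iff_mem F hW x hxW).mp hx
  obtain ⟨-, m, hm⟩ := Groth.Agent.WeakAss.mem_ass_of_fg (IsNoetherian.noetherian _) hp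
  have hp' : (hW.primeIdealOf ⟨x, hxW⟩).asIdeal ≠ ⊤ := (hW.primeIdealOf ⟨x, hxW⟩).isPrime.ne_top
  have hm0 : m ≠ 0 := fun h => hp' (by
    rw [hm, h, Ideal.eq_top_iff_one]
    exact Groth.Agent.WeakAss.mem_ann.mpr (smul_zero _))
  -- every element of the prime is a zero divisor
  have hsub : ((hW.primeIdealOf ⟨x, hxW⟩).asIdeal : Set R) ⊆ ⋃ q ∈ associatedPrimes R R, (q : Set R) := by
    intro a ha
    rw [biUnion_associatedPrimes_eq_compl_regular]
    intro hreg
    have hnzd : a ∈ nonZeroDivisors R := by
      rw [mem_nonZeroDivisors_iff_right]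
      intro b hb
      exact hreg (show a • b = a • (0 : R) by rw [smul_zero, smul_eq_mul, mul_comm]; exact hb)
    have hma : a • m = 0 := Groth.Agent.WeakAss.mem_ann.mp (hm ▸ ha)
    have : m ∈ Submodule.torsion R Γ(F, W) := ⟨⟨a, hnzd⟩, hma⟩
    rw [htf ⟨W, hW⟩] at this
    exact hm0 ((Submodule.mem_bot _).mp this)
  obtain ⟨q, hq, hle⟩ := (Ideal.subset_union_prime_finite (associatedPrimes.finite R R) ⊤ ⊤
    (fun q hq _ _ => hq.isPrime)).mp hsub
  haveI := hq.isPrime
  obtain ⟨y, hy, hyq⟩ := Groth.Agent.WeakAssSch.exists_point_of_prime hW q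
  haveI := Groth.Agent.WeakAssSch.isQuasicoherent_unit X
  have hya : Curv2.IsWeakAssPoint (Coh.structureModule X) y := by
    refine (Groth.Agent.WeakAssSch.isWeakAssPoint_iff_mem _ hW y hy).mpr ?_
    rw [hyq]
    obtain ⟨hq1, b, hb⟩ := Submodule.isAssociatedPrime_def.mp hq
    have e : (⊥ : Submodule R R).colon {b} = (Submodule.span R {b}).annihilator := by
      ext a; simp [Submodule.mem_colon_singleton, Groth.Agent.WeakAss.mem_ann]
    rw [e] at hb
    exact ⟨b, ⟨hq1, hb ▸ Ideal.le_radical⟩, fun q' hq' _ => by
      rw [hb]; exact hq'.1.radical_le_iff.mpr hq'.2⟩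
  have hyU := (Groth.Agent.S1699.result X U).mp hU y
    ((Groth.Agent.WeakAssSch.isWeakAssPoint_unit_iff_isAssociatedPrime y).mp hya)
  have hspec : hW.primeIdealOf ⟨x, hxW⟩ ⤳ hW.primeIdealOf ⟨y, hy⟩ :=
    (PrimeSpectrum.le_iff_specializes _ _).mp (show (hW.primeIdealOf ⟨x, hxW⟩).asIdeal ≤ _ from hyq ▸ hle)
  have := hspec.map hW.fromSpec.continuous
  rw [hW.fromSpec_primeIdealOf, hW.fromSpec_primeIdealOf] at this
  exact this.mem_open U.isOpen hyU

/-- Let X be a locally Noetherian scheme, φ : F → G a homomorphism of O_X-modules with F quasi-coherent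
and torsion-free (over every affine open V, no nonzero section of F is killed by a regular element
of O_X(V)), and U a scheme-theoretically dense open subset of X such that the restriction of φ to U
is injective. Then φ is injective. (The published statement allows an arbitrary O_X-module F; for
the skyscraper sheaf on the affine line over a field, placed at a closed point with value the local
ring at that point, which is torsion-free in this sense, the zero map to the zero module is
injective over the dense open complement of the point but not injective. This row takes F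
quasi-coherent.) -/
theorem result (X : Scheme.{u})
    [IsLocallyNoetherian X] (F G : X.Modules) (hF : Coh.IsQCoh F)
    (htf : ∀ V : X.affineOpens, Submodule.torsion Γ(X, V.1) (F.val.obj (Opposite.op V.1)) = ⊥)
    (φ : F ⟶ G) (U : X.Opens) (hU : CInt.IsSchematicallyDense U)
    (hφU : ∀ V : X.Opens, V ≤ U → Function.Injective ⇑(ConcreteCategory.hom (φ.val.app (Opposite.op V)))) (V : X.Opens) :
    Function.Injective ⇑(ConcreteCategory.hom (φ.val.app (Opposite.op V))) := by
  haveI : F.IsQuasicoherent := hF
  rw [injective_iff_map_eq_zero]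
  intro s hs
  have h0 : F.presheaf.map (homOfLE (inf_le_left : V ⊓ U ≤ V)).op s = 0 := by
    apply hφU (V ⊓ U) inf_le_right
    refine (NatTrans.naturality_apply φ.mapPresheaf (homOfLE (inf_le_left : V ⊓ U ≤ V)).op s).trans ?_
    refine Eq.trans ?_ (map_zero ((φ.val.app (Opposite.op (V ⊓ U))).hom)).symm
    exact (congrArg (G.presheaf.map (homOfLE (inf_le_left : V ⊓ U ≤ V)).op) hs).trans (map_zero _)
  exact Groth.Agent.WeakAssSch.restrict_injective F inf_le_left
    (fun x hx hwa => ⟨hx, mem_of_isWeakAssPoint F htf U hU hwa⟩) (h0.trans (map_zero _).symm)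

end Groth.Agent.S15715
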