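import Groth.Statements.S15716
import Groth.Agent.Dual3RHom.RatCM
-- import your own Groth.Agent.* helpers here

set_option autoImplicit false
universe u
open CategoryTheory CategoryTheory.Limits AlgebraicGeometry TopologicalSpace
attribute [local instance] HasDerivedCategory.standard
open RatSing

namespace Groth.Agent.S15716

/-- Take excellent schemes X and Y of pure dimension d, Y with a dualizing complex, and a proper
birational morphism f : X → Y, with X Cohen–Macaulay and O_Y ≅ Rf_* O_X (O_Y → f_* O_X an
isomorphism and R^p f_* O_X = 0 for p > 0). Then Y is Cohen–Macaulay if and only if R^p f_* ω_X = 0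
for all p > 0. This row takes Y Noetherian (the assertion is local on Y), fixes a dualizing complex
K on Y with quasi-coherent cohomology, uses ω_X^• = f^! K with f^! the right adjoint of Rf_* on
D_QCoh, and assumes ω_X^• concentrated in degree -d (so that ω_X^• = ω_X[d] with ω_X = h^{-d}(f^!
K), the normalization the published statement uses); birational means f restricts to an isomorphism
between dense open subsets. Existence of Rf_* and f^!, preservation of D_QCoh, exactness of
restriction to opens and of M ↦ M~, and injective resolutions are carried as hypotheses. -/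
theorem result (X Y : Scheme.{u}) (d : ℕ)
    [IsLocallyNoetherian X] [IsNoetherian Y]
    (hexcX : ∀ V : X.affineOpens, EGA4.IsExcellent Γ(X, V.1)) (hexcY : ∀ V : Y.affineOpens, EGA4.IsExcellent Γ(Y, V.1))
    (hcmX : ∀ x : X, LocCoh.IsCohenMacaulayLocalRing (X.presheaf.stalk x))
    (hpdX : ∀ Z ∈ irreducibleComponents (X : Type u), topologicalKrullDim Z = d)
    (hpdY : ∀ Z ∈ irreducibleComponents (Y : Type u), topologicalKrullDim Z = d)
    [∀ (U : Scheme.{u}) (j : U ⟶ Y) [IsOpenImmersion j], PreservesFiniteLimits (Scheme.Modules.restrictFunctor j)]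
    [∀ (R : CommRingCat.{u}), PreservesFiniteLimits (tilde.functor R)]
    (f : X ⟶ Y) [IsProper f]
    (hbir : ∃ V : Y.Opens, Dense (V : Set Y) ∧ Dense ((f ⁻¹ᵁ V : X.Opens) : Set X) ∧ IsIso (f ∣_ V))
    [DCoh.HasRpush f] (h : DCoh.RpushPreservesQCoh f) [DCoh.HasShriek f h]
    (K : DCoh.DQCoh Y) (hK : Dual2.IsDualizingSch Y K.obj)
    (hKX : ∀ i : ℤ, i ≠ -(d : ℤ) → IsZero (DCoh.HD ((DCoh.shriek f h).obj K).obj i))
    [HasInjectiveResolutions X.Modules]
    (hξ : IsIso (ClSub.unitToPush f) ∧ ∀ p : ℕ, 0 < p → IsZero ((Coh.Rpush f p).obj (Coh.structureModule X))) :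
    (∀ y : Y, LocCoh.IsCohenMacaulayLocalRing (Y.presheaf.stalk y)) ↔
      ∀ p : ℕ, 0 < p → IsZero ((Coh.Rpush f p).obj (DCoh.HD ((DCoh.shriek f h).obj K).obj (-(d : ℤ)))) := by
  obtain ⟨V, hV, -, hiso⟩ := hbir
  haveI := hiso
  exact Groth.Agent.Dual3RHom.RatCM.cm_iff f V hV h d K hK hKX hξ.1 hξ.2

end Groth.Agent.S15716
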