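import Groth.Statements.S15717
import Groth.Agent.Depth.CM

set_option autoImplicit false
universe u
open CAlg

namespace Groth.Agent.S15717

open RingTheory.Sequence IsLocalRing Groth.Agent.Depth in
theorem aux {R : Type u} [CommRing R] [LocCoh.IsCohenMacaulayLocalRing R] (I : Ideal R) (hI : I ≤ maximalIdeal R) :
    ringKrullDim R = ringKrullDim (R ⧸ I) + ((LocCoh.idealDepth I R : ℕ∞) : WithBot ℕ∞) := by
  have h := supportDim_eq_supportDim_quotient_add_idealDepth (M := R) hI (isCohenMacaulayModule_self R)
  rw [Module.supportDim_self_eq_ringKrullDim] at h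
  have he : (I • (⊤ : Submodule R R)) = I := by rw [smul_eq_mul, Ideal.mul_top]
  rw [h]
  congr 1
  rw [Module.supportDim_eq_of_equiv (Submodule.quotEquivOfEq _ _ he), Module.supportDim_quotient_eq_ringKrullDim]

/-- Let R be a Cohen–Macaulay local ring and I an ideal of R with R/I equidimensional (all minimal
primes p over I have the same dim R/p). Then there is a regular sequence r_1, ..., r_n in I such
that the closed subscheme V(r_1, ..., r_n) of Spec R, a local complete intersection, contains V(I),
has the same dimension as V(I), and has the irreducible components of V(I) among its irreducible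
components: dim R/(r_1, ..., r_n) = dim R/I and every minimal prime over I is a minimal prime over
(r_1, ..., r_n). The sequence is asked to be weakly regular (each r_i a non-zero-divisor modulo the
previous ones), which for I proper is the same as regular and which also covers I = R with the
sequence (1). -/
theorem result (R : Type u) [CommRing R]
    [LocCoh.IsCohenMacaulayLocalRing R] (I : Ideal R)
    (hI : ∀ p ∈ I.minimalPrimes, ringKrullDim (R ⧸ p) = ringKrullDim (R ⧸ I)) :
    ∃ rs : List R, RingTheory.Sequence.IsWeaklyRegular R rs ∧ Ideal.ofList rs ≤ I ∧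
      ringKrullDim (R ⧸ Ideal.ofList rs) = ringKrullDim (R ⧸ I) ∧
      I.minimalPrimes ⊆ (Ideal.ofList rs).minimalPrimes := by
  open RingTheory.Sequence IsLocalRing Groth.Agent.Depth in
  rcases eq_or_ne I ⊤ with rfl | hI'
  · have h1 : Ideal.ofList [(1 : R)] = ⊤ := by rw [Ideal.ofList_singleton, Ideal.span_singleton_one]
    refine ⟨[1], ?_, le_top, by rw [h1], ?_⟩
    · simp only [isWeaklyRegular_cons_iff]
      exact ⟨IsSMulRegular.one R, IsWeaklyRegular.nil R _⟩
    · rw [Ideal.minimalPrimes_top]; exact Set.empty_subset _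
  have hIm := IsLocalRing.le_maximalIdeal hI'
  have hne : I • (⊤ : Submodule R R) ≠ ⊤ := by rw [smul_eq_mul, Ideal.mul_top]; exact hI'
  obtain ⟨n, hn⟩ := ENat.ne_top_iff_exists.mp (Groth.Agent.Depth.idealDepth_lt_top hne).ne
  obtain ⟨rs, hrs, hmem, hlen⟩ := Groth.Agent.Depth.exists_isWeaklyRegular_of_le_idealDepth hne hn.le
  have hJI : Ideal.ofList rs ≤ I := Ideal.span_le.2 hmem
  have hJn : LocCoh.idealDepth (Ideal.ofList rs) R = n := by
    refine le_antisymm (hn ▸ Groth.Agent.Depth.idealDepth_mono hJI) ?_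
    rw [← hlen]
    exact Groth.Agent.Depth.le_idealDepth_of_isWeaklyRegular hrs fun r hr => Ideal.subset_span hr
  have hdim : ringKrullDim (R ⧸ Ideal.ofList rs) = ringKrullDim (R ⧸ I) := by
    have h1 := aux (Ideal.ofList rs) (hJI.trans hIm)
    rw [hJn, aux I hIm, ← hn] at h1
    exact (ENat.WithBot.add_natCast_cancel.1 (by exact_mod_cast h1)).symm
  refine ⟨rs, hrs, hJI, hdim, fun q hq => ?_⟩
  haveI := hq.1.1
  obtain ⟨q', hq', hle⟩ := Ideal.exists_minimalPrimes_le (hJI.trans hq.1.2)
  haveI := hq'.1.1
  rcases hle.lt_or_eq with hlt | rfl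
  · exfalso
    have h1 := (Groth.Agent.Depth.ringKrullDim_quotient_succ_le hlt).trans
      (Groth.Agent.Depth.le_ringKrullDim_quotient_of_le hq'.1.2)
    rw [hI q hq, hdim] at h1
    have hbot : ringKrullDim (R ⧸ I) ≠ ⊥ := by
      haveI : Nontrivial (R ⧸ I) := Ideal.Quotient.nontrivial_iff.2 hI'
      exact fun h => by simpa [h] using ringKrullDim_nonneg_of_nontrivial (R := R ⧸ I)
    obtain ⟨d, hd⟩ := WithBot.ne_bot_iff_exists.1 hbot
    have htop : ringKrullDim (R ⧸ I) < ((⊤ : ℕ∞) : WithBot ℕ∞) :=
      lt_of_le_of_lt (ringKrullDim_quotient_le I) ringKrullDim_lt_top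
    rw [← hd] at h1 htop
    obtain ⟨d', rfl⟩ := ENat.ne_top_iff_exists.1 (WithBot.coe_lt_coe.1 htop).ne
    norm_cast at h1
    omega
  · exact hq'

end Groth.Agent.S15717
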