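import Groth.Statements.S15723
import Groth.Agent.GeomHt88.Noeth
import Mathlib.AlgebraicGeometry.ProjectiveSpectrum.Scheme
import Mathlib

set_option autoImplicit false
universe u v
open CAlg

namespace Groth.Agent.S15723

section
open HomogeneousLocalization AlgebraicGeometry W4c2ratsingkovacs

variable {R : Type u} {A : Type v} [CommRing R] [CommRing A] [Algebra R A] (𝒜 : ℕ → Submodule R A)
  [GradedRing 𝒜] {f : A} {m : ℕ}

/-- The degree-zero fraction `a ^ m / f ^ n`. -/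
noncomputable def frac (f_deg : f ∈ 𝒜 m) {a : A} {n : ℕ} (hn : a ∈ 𝒜 n) : Away 𝒜 f :=
  HomogeneousLocalization.mk ⟨m * n, ⟨a ^ m, by simpa only [smul_eq_mul, mul_comm] using SetLike.pow_mem_graded m hn⟩,
    ⟨f ^ n, by simpa only [smul_eq_mul, mul_comm] using SetLike.pow_mem_graded n f_deg⟩, ⟨_, rfl⟩⟩

lemma frac_val (f_deg : f ∈ 𝒜 m) {a : A} {n : ℕ} (hn : a ∈ 𝒜 n) :
    (frac 𝒜 f_deg hn).val * algebraMap A (Localization.Away f) (f ^ n) =
      algebraMap A (Localization.Away f) (a ^ m) := by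
  rw [frac, HomogeneousLocalization.val_mk, Localization.mk_eq_mk']
  exact IsLocalization.mk'_spec _ (a ^ m) (⟨f ^ n, n, rfl⟩ : Submonoid.powers f)

lemma mem_locIdeal_iff (I : Ideal A) (x : NumDenSameDeg 𝒜 (Submonoid.powers f)) :
    HomogeneousLocalization.mk x ∈ locIdeal 𝒜 I f ↔ ∃ k : ℕ, f ^ k * x.num ∈ I := by
  show (HomogeneousLocalization.mk x).val ∈ I.map _ ↔ _
  rw [HomogeneousLocalization.val_mk, Localization.mk_eq_mk', IsLocalization.mk'_mem_iff,
    IsLocalization.algebraMap_mem_map_algebraMap_iff (Submonoid.powers f)]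
  exact ⟨fun ⟨_, ⟨k, rfl⟩, h⟩ => ⟨k, h⟩, fun ⟨k, h⟩ => ⟨_, ⟨k, rfl⟩, h⟩⟩

lemma frac_mem_locIdeal (f_deg : f ∈ 𝒜 m) {I : Ideal A} {a : A} {n : ℕ} (hn : a ∈ 𝒜 n) (hm : 0 < m)
    (ha : a ∈ I) : frac 𝒜 f_deg hn ∈ locIdeal 𝒜 I f :=
  (mem_locIdeal_iff 𝒜 I _).mpr ⟨0, by simpa using I.pow_mem_of_mem ha m hm⟩

lemma not_frac_mem_locIdeal (f_deg : f ∈ 𝒜 m) {P : Ideal A} [P.IsPrime] (hf : f ∉ P) {a : A} {n : ℕ}
    (hn : a ∈ 𝒜 n) (ha : a ∉ P) : frac 𝒜 f_deg hn ∉ locIdeal 𝒜 P f := by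
  intro h
  obtain ⟨k, hk⟩ := (mem_locIdeal_iff 𝒜 P _).mp h
  exact (Ideal.IsPrime.mem_or_mem inferInstance hk).elim
    (fun h => hf (Ideal.IsPrime.mem_of_pow_mem inferInstance k h))
    (fun h => ha (Ideal.IsPrime.mem_of_pow_mem inferInstance m h))

lemma isPrime_locIdeal {P : Ideal A} [hP : P.IsPrime] (hf : f ∉ P) : (locIdeal 𝒜 P f).IsPrime := by
  have := IsLocalization.isPrime_of_isPrime_disjoint (Submonoid.powers f) (Localization.Away f) P hP
    ((Ideal.disjoint_powers_iff_notMem f hP.isRadical).mpr hf)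
  exact Ideal.comap_isPrime _ _

/-- The homogeneous prime of `A` attached to a prime of `A_(f)`. -/
noncomputable def pullPrime (f_deg : f ∈ 𝒜 m) (hm : 0 < m) (q : PrimeSpectrum (Away 𝒜 f)) : Ideal A :=
  ProjIsoSpecTopComponent.FromSpec.carrier.asIdeal f_deg hm q

lemma mem_pullPrime (f_deg : f ∈ 𝒜 m) (hm : 0 < m) (q : PrimeSpectrum (Away 𝒜 f)) {a : A} {n : ℕ}
    (hn : a ∈ 𝒜 n) : a ∈ pullPrime 𝒜 f_deg hm q ↔ frac 𝒜 f_deg hn ∈ q.asIdeal :=
  ProjIsoSpecTopComponent.FromSpec.mem_carrier_iff_of_mem f_deg hm q a hn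

lemma locIdeal_le (f_deg : f ∈ 𝒜 m) (hm : 0 < m) (q : PrimeSpectrum (Away 𝒜 f)) {I : Ideal A}
    (hI : I ≤ pullPrime 𝒜 f_deg hm q) : locIdeal 𝒜 I f ≤ q.asIdeal := by
  intro y hy
  obtain ⟨z, rfl⟩ := HomogeneousLocalization.mk_surjective y
  obtain ⟨k, hk⟩ := (mem_locIdeal_iff 𝒜 I z).mp hy
  have hp : (pullPrime 𝒜 f_deg hm q).IsPrime :=
    ProjIsoSpecTopComponent.FromSpec.carrier.asIdeal.prime f_deg hm q
  have hf : f ∉ pullPrime 𝒜 f_deg hm q :=
    ProjIsoSpecTopComponent.FromSpec.carrier.denom_notMem f_deg hm q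
  exact (ProjIsoSpecTopComponent.FromSpec.num_mem_carrier_iff f_deg hm q z).mp
    ((hp.mem_or_mem (hI hk)).resolve_left fun h => hf (hp.mem_of_pow_mem k h))

lemma ofList_le (f_deg : f ∈ 𝒜 m) (hm : 0 < m) (q : PrimeSpectrum (Away 𝒜 f)) {zs : List A}
    (hzs : ∀ z ∈ zs, ∃ n, z ∈ 𝒜 n) (h : locIdeal 𝒜 (Ideal.ofList zs) f ≤ q.asIdeal) :
    Ideal.ofList zs ≤ pullPrime 𝒜 f_deg hm q := by
  refine Ideal.span_le.mpr fun z hz => ?_
  obtain ⟨n, hn⟩ := hzs z hz
  exact (mem_pullPrime 𝒜 f_deg hm q hn).mpr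
    (h (frac_mem_locIdeal 𝒜 f_deg hn hm (Submodule.subset_span hz)))

lemma locIdeal_mono {I J : Ideal A} (h : I ≤ J) : locIdeal 𝒜 I f ≤ locIdeal 𝒜 J f :=
  Ideal.comap_mono (Ideal.map_mono h)

/-- Graded prime avoidance. -/
lemma exists_avoid {J : Ideal A} (hJ : J.IsHomogeneous 𝒜) (Q : Finset (Ideal A))
    (hQ : ∀ q ∈ Q, q.IsPrime ∧ ¬ J ≤ q ∧ ¬ (HomogeneousIdeal.irrelevant 𝒜).toIdeal ≤ q) :
    ∃ z n, 0 < n ∧ z ∈ 𝒜 n ∧ z ∈ J ∧ ∀ q ∈ Q, z ∉ q := by
  classical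
  induction Q using Finset.strongInduction with
  | _ Q ih =>
  by_cases hdom : ∃ q ∈ Q, ∃ q' ∈ Q, q ≠ q' ∧ ∀ n, ∀ a ∈ 𝒜 n, a ∈ q → a ∈ q'
  · obtain ⟨q, hq, q', hq', hne, hle⟩ := hdom
    obtain ⟨z, n, hn, hz, hzJ, hzQ⟩ := ih (Q.erase q) (Finset.erase_ssubset hq)
      fun r hr => hQ r (Finset.mem_of_mem_erase hr)
    refine ⟨z, n, hn, hz, hzJ, fun r hr => ?_⟩
    rcases eq_or_ne r q with rfl | hrq
    · exact fun h => hzQ q' (Finset.mem_erase.mpr ⟨hne.symm, hq'⟩) (hle n z hz h)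
    · exact hzQ r (Finset.mem_erase.mpr ⟨hrq, hr⟩)
  push Not at hdom
  -- for each `q`, an element outside `q` and inside every other member
  have hc : ∀ q ∈ Q, ∃ c n, 0 < n ∧ c ∈ 𝒜 n ∧ c ∈ J ∧ c ∉ q ∧ ∀ q' ∈ Q, q' ≠ q → c ∈ q' := by
    intro q hq
    obtain ⟨hqp, hJq, hAq⟩ := hQ q hq
    have hhom : ∀ I : Ideal A, I.IsHomogeneous 𝒜 → ¬ I ≤ q → ∃ a n, a ∈ 𝒜 n ∧ a ∈ I ∧ a ∉ q := by
      intro I hI hle
      obtain ⟨a, haI, haq⟩ := SetLike.not_le_iff_exists.mp hle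
      by_contra hcon
      push Not at hcon
      rw [← DirectSum.sum_support_decompose 𝒜 a] at haq
      exact haq (sum_mem fun i _ => hcon _ i (SetLike.coe_mem _) (hI i haI))
    obtain ⟨a, na, hna, haJ, haq⟩ := hhom J hJ hJq
    obtain ⟨e, ne, hne, heA, heq⟩ := hhom _ (HomogeneousIdeal.isHomogeneous _) hAq
    have hne0 : 0 < ne := by
      rcases Nat.eq_zero_or_pos ne with rfl | h
      · refine absurd ?_ heq
        have : e = 0 := by
          rw [← DirectSum.decompose_of_mem_same 𝒜 hne]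
          exact (HomogeneousIdeal.mem_irrelevant_iff 𝒜 e).mp heA
        rw [this]; exact zero_mem q
      · exact h
    choose b d hd hbq' hbq using fun q' : {x // x ∈ Q.erase q} =>
      (show ∃ b d, b ∈ 𝒜 d ∧ b ∈ q'.1 ∧ b ∉ q by
        obtain ⟨d, b, hb, h1, h2⟩ := hdom q'.1 (Finset.mem_of_mem_erase q'.2) q hq (Finset.ne_of_mem_erase q'.2)
        exact ⟨b, d, hb, h1, h2⟩)
    refine ⟨a * e * ∏ i, b i, na + ne + ∑ i, d i, by omega,
      SetLike.mul_mem_graded (SetLike.mul_mem_graded hna hne) (SetLike.prod_mem_graded _ _ _ fun i _ => hd i),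
      J.mul_mem_right _ (J.mul_mem_right _ haJ), ?_, fun q' hq' hne' => ?_⟩
    · intro h
      rcases hqp.mem_or_mem h with h | h
      · exact (hqp.mem_or_mem h).elim haq heq
      · obtain ⟨i, -, hi⟩ := Ideal.IsPrime.prod_mem_iff.mp h
        exact hbq i hi
    · exact Ideal.mul_mem_left _ _ (Ideal.prod_mem q' (Finset.mem_univ (⟨q', Finset.mem_erase.mpr ⟨hne', hq'⟩⟩ :
        {x // x ∈ Q.erase q})) (hbq' ⟨q', Finset.mem_erase.mpr ⟨hne', hq'⟩⟩))
  rcases Q.eq_empty_or_nonempty with rfl | hne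
  · exact ⟨0, 1, one_pos, zero_mem _, zero_mem _, by simp⟩
  choose c d hd hcd hcJ hcq hcin using hc
  let D := ∏ q ∈ Q.attach, d q.1 q.2
  have hD : 0 < D := Finset.prod_pos fun q _ => hd q.1 q.2
  let t : {x // x ∈ Q} → A := fun q => c q.1 q.2 ^ (D / d q.1 q.2)
  have hex : ∀ q : {x // x ∈ Q}, 0 < D / d q.1 q.2 := fun q =>
    Nat.div_pos (Nat.le_of_dvd hD (Finset.dvd_prod_of_mem _ (Finset.mem_attach _ q))) (hd _ _)
  refine ⟨∑ q, t q, D, hD, sum_mem fun q _ => ?_, sum_mem fun q _ => J.pow_mem_of_mem (hcJ _ _) _ (hex q), ?_⟩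
  · have := SetLike.pow_mem_graded (D / d q.1 q.2) (hcd q.1 q.2)
    rwa [smul_eq_mul, Nat.div_mul_cancel (Finset.dvd_prod_of_mem _ (Finset.mem_attach _ q))] at this
  · intro q hq hz
    rw [← Finset.add_sum_erase _ _ (Finset.mem_univ (⟨q, hq⟩ : {x // x ∈ Q}))] at hz
    have hrest : ∑ x ∈ Finset.univ.erase (⟨q, hq⟩ : {x // x ∈ Q}), t x ∈ q := sum_mem fun x hx =>
      q.pow_mem_of_mem (hcin x.1 x.2 q hq fun h => (Finset.mem_erase.mp hx).1 (Subtype.ext h.symm)) _ (hex x)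
    exact hcq q hq ((hQ q hq).1.mem_of_pow_mem _ ((Submodule.add_mem_iff_left q hrest).mp hz))

variable [IsNoetherianRing A]

lemma height_le (f_deg : f ∈ 𝒜 m) (hm : 0 < m) {zs : List A} (hzs : ∀ z ∈ zs, ∃ n, z ∈ 𝒜 n)
    (hne : locIdeal 𝒜 (Ideal.ofList zs) f ≠ ⊤) : geomHeight 𝒜 (Ideal.ofList zs) f ≤ zs.length := by
  classical
  haveI := GeomHt88.isNoetherianRing_away 𝒜 f f_deg
  choose d hd using hzs
  let s : Finset (Away 𝒜 f) := zs.toFinset.attach.image fun z => frac 𝒜 f_deg (hd z.1 (List.mem_toFinset.mp z.2))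
  have hle : Ideal.span (s : Set (Away 𝒜 f)) ≤ locIdeal 𝒜 (Ideal.ofList zs) f := Ideal.span_le.mpr fun y hy => by
    obtain ⟨z, -, rfl⟩ := Finset.mem_image.mp (Finset.mem_coe.mp hy)
    exact frac_mem_locIdeal 𝒜 f_deg _ hm (Submodule.subset_span (List.mem_toFinset.mp z.2))
  obtain ⟨M, hM, hMle⟩ := Ideal.exists_le_maximal _ hne
  obtain ⟨q, hq, -⟩ := Ideal.exists_minimalPrimes_le (J := M) (hle.trans hMle)
  have hqp : q.IsPrime := hq.1.1
  have hcont : locIdeal 𝒜 (Ideal.ofList zs) f ≤ q := by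
    refine locIdeal_le 𝒜 f_deg hm ⟨q, hqp⟩ (Ideal.span_le.mpr fun z hz => ?_)
    refine (mem_pullPrime 𝒜 f_deg hm ⟨q, hqp⟩ (hd z hz)).mpr (hq.1.2 (Submodule.subset_span ?_))
    exact Finset.mem_coe.mpr (Finset.mem_image.mpr ⟨⟨z, List.mem_toFinset.mpr hz⟩, Finset.mem_attach _ _, rfl⟩)
  refine (Ideal.height_mono hcont).trans ((Ideal.height_le_card_of_mem_minimalPrimes_span_finset hq).trans ?_)
  exact_mod_cast Finset.card_image_le.trans (by simpa using zs.toFinset_card_le)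

end

/-- Let A be a Noetherian commutative ring graded by the natural numbers, J a homogeneous ideal of
uniform geometric height h (the height of the homogeneous localization J_(f) in the degree-zero ring
A_(f) is h for every homogeneous f of positive degree outside the radical of J), and q_1, ..., q_t
finitely many prime ideals none of which contains J or the irrelevant ideal A_+. Then there are
homogeneous elements z_1, ..., z_h of positive degree, lying in J and in no q_i, such that for every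
homogeneous f of positive degree outside the radical of J and every 1 ≤ j ≤ h the ideal (z_1, ...,
z_j) has geometric height j with respect to f. (The published statement lets f range over all
homogeneous elements outside the radical of J, degree 0 included; then it fails: in A = k[t][x] with
t of degree 0 and x of degree 1, the ideal J = (t) has geometric height 1 with respect to every
homogeneous f outside its radical, f = 1 included, while (z)_(1) = 0 has height 0 for every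
homogeneous z of positive degree. This row takes f of positive degree, in the hypothesis and in the
conclusion.) -/
theorem result {R : Type u} {A : Type v} [CommRing R] [CommRing A]
    [Algebra R A] [IsNoetherianRing A] (𝒜 : ℕ → Submodule R A) [GradedRing 𝒜]
    (J : Ideal A) (hJ : J.IsHomogeneous 𝒜) (h : ℕ) (hJh : W4c2ratsingkovacs.HasUniformGeomHeight 𝒜 J h)
    (P : Finset (Ideal A)) (hP : ∀ q ∈ P, q.IsPrime ∧ ¬ J ≤ q ∧ ¬ (HomogeneousIdeal.irrelevant 𝒜).toIdeal ≤ q) :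
    ∃ zs : List A, zs.length = h ∧
      (∀ z ∈ zs, (∃ n : ℕ, 0 < n ∧ z ∈ 𝒜 n) ∧ z ∈ J ∧ ∀ q ∈ P, z ∉ q) ∧
      ∀ (f : A) (n : ℕ), 0 < n → f ∈ 𝒜 n → f ∉ J.radical →
        ∀ j : ℕ, 1 ≤ j → j ≤ h → W4c2ratsingkovacs.geomHeight 𝒜 (Ideal.ofList (zs.take j)) f = j := by
  classical
  suffices ∀ j ≤ h, ∃ zs : List A, zs.length = j ∧
      (∀ z ∈ zs, (∃ n : ℕ, 0 < n ∧ z ∈ 𝒜 n) ∧ z ∈ J ∧ ∀ q ∈ P, z ∉ q) ∧
      ∀ (f : A) (n : ℕ), 0 < n → f ∈ 𝒜 n → f ∉ J.radical → ∀ i, i ≤ j →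
        (i : ℕ∞) ≤ W4c2ratsingkovacs.geomHeight 𝒜 (Ideal.ofList (zs.take i)) f by
    obtain ⟨zs, hlen, hzs, hht⟩ := this h le_rfl
    refine ⟨zs, hlen, hzs, fun f n hn hf hfJ j _ hj => le_antisymm ?_ (hht f n hn hf hfJ j hj)⟩
    refine (height_le 𝒜 hf hn (fun z hz => ?_) ?_).trans ?_
    · obtain ⟨k, -, hk⟩ := (hzs z (List.mem_of_mem_take hz)).1; exact ⟨k, hk⟩
    · intro htop
      refine hfJ ?_
      have hle : Ideal.ofList (zs.take j) ≤ J :=
        Ideal.span_le.mpr fun z hz => (hzs z (List.mem_of_mem_take hz)).2.1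
      have h1 : (1 : HomogeneousLocalization.Away 𝒜 f) ∈ W4c2ratsingkovacs.locIdeal 𝒜 J f :=
        locIdeal_mono 𝒜 hle (htop ▸ Submodule.mem_top)
      rw [W4c2ratsingkovacs.locIdeal, Ideal.mem_comap, map_one, ← map_one (algebraMap A (Localization.Away f)),
        IsLocalization.algebraMap_mem_map_algebraMap_iff (Submonoid.powers f)] at h1
      obtain ⟨_, ⟨k, rfl⟩, hk⟩ := h1
      exact ⟨k, by simpa using hk⟩
    · exact_mod_cast by simp
  intro j hj
  induction j with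
  | zero =>
    refine ⟨[], rfl, by simp, fun f n _ _ _ i hi => ?_⟩
    obtain rfl : i = 0 := by omega
    simp
  | succ j ih =>
    obtain ⟨zs, hlen, hzs, hht⟩ := ih (by omega)
    let I := Ideal.ofList zs
    let Ms := (Ideal.finite_minimalPrimes_of_isNoetherianRing A I).toFinset.filter fun M =>
      ¬ J ≤ M ∧ ¬ (HomogeneousIdeal.irrelevant 𝒜).toIdeal ≤ M
    obtain ⟨z, d, hd, hzd, hzJ, hzQ⟩ := exists_avoid 𝒜 hJ (P ∪ Ms) fun q hq => by
      rcases Finset.mem_union.mp hq with hq | hq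
      · exact hP q hq
      · obtain ⟨hq1, hq2⟩ := Finset.mem_filter.mp hq
        exact ⟨((Set.Finite.mem_toFinset _).mp hq1).1.1, hq2⟩
    refine ⟨zs ++ [z], by simp [hlen], fun y hy => ?_, fun f n hn hf hfJ i hi => ?_⟩
    · rcases List.mem_append.mp hy with hy | hy
      · exact hzs y hy
      · rw [List.mem_singleton] at hy; subst hy
        exact ⟨⟨d, hd, hzd⟩, hzJ, fun q hq => hzQ q (Finset.mem_union_left _ hq)⟩
    rcases Nat.lt_or_eq_of_le hi with hi | rfl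
    · rw [List.take_append_of_le_length (by omega)]
      exact hht f n hn hf hfJ i (by omega)
    rw [List.take_of_length_le (by simp [hlen])]
    rw [W4c2ratsingkovacs.geomHeight, Ideal.height_eq_inf_minimalPrimes]
    refine le_iInf₂ fun Q hQ => ?_
    have hQp : Q.IsPrime := hQ.1.1
    let q : PrimeSpectrum (HomogeneousLocalization.Away 𝒜 f) := ⟨Q, hQp⟩
    let Pq := pullPrime 𝒜 hf hn q
    have hPp : Pq.IsPrime :=
      AlgebraicGeometry.ProjIsoSpecTopComponent.FromSpec.carrier.asIdeal.prime hf hn q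
    have hfP : f ∉ Pq := AlgebraicGeometry.ProjIsoSpecTopComponent.FromSpec.carrier.denom_notMem hf hn q
    have hhom : ∀ y ∈ zs ++ [z], ∃ k, y ∈ 𝒜 k := fun y hy => by
      rcases List.mem_append.mp hy with hy | hy
      · obtain ⟨k, -, hk⟩ := (hzs y hy).1; exact ⟨k, hk⟩
      · rw [List.mem_singleton] at hy; exact hy ▸ ⟨d, hzd⟩
    have hle := ofList_le 𝒜 hf hn q hhom hQ.1.2
    rw [Ideal.ofList_append] at hle
    obtain ⟨M, hM, hMP⟩ := Ideal.exists_minimalPrimes_le (I := I) (J := Pq) (le_sup_left.trans hle)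
    have hMp : M.IsPrime := hM.1.1
    have hfM : f ∉ M := fun h => hfP (hMP h)
    have hMQ : W4c2ratsingkovacs.locIdeal 𝒜 M f ≤ Q := locIdeal_le 𝒜 hf hn q hMP
    have := isPrime_locIdeal 𝒜 hfM
    by_cases hJM : J ≤ M
    · refine le_trans ?_ ((Ideal.height_mono (locIdeal_mono 𝒜 hJM)).trans (Ideal.height_mono hMQ))
      refine le_trans ?_ (hJh f n hn hf hfJ).ge
      exact_mod_cast hj
    have hMA : ¬ (HomogeneousIdeal.irrelevant 𝒜).toIdeal ≤ M := fun hle' =>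
      AlgebraicGeometry.ProjIsoSpecTopComponent.FromSpec.carrier.relevant hf hn q (hle'.trans hMP)
    have hzM : z ∉ M := hzQ M (Finset.mem_union_right _
      (Finset.mem_filter.mpr ⟨(Set.Finite.mem_toFinset _).mpr hM, hJM, hMA⟩))
    have hlt : W4c2ratsingkovacs.locIdeal 𝒜 M f < Q := lt_of_le_of_ne hMQ fun e =>
      not_frac_mem_locIdeal 𝒜 hf hfM hzd hzM
        (e ▸ (mem_pullPrime 𝒜 hf hn q hzd).mp (hle (Ideal.mem_sup_right (Submodule.subset_span (by simp)))))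
    have hj' : (j : ℕ∞) ≤ (W4c2ratsingkovacs.locIdeal 𝒜 M f).height := by
      have h0 := hht f n hn hf hfJ j le_rfl
      rw [List.take_of_length_le hlen.le] at h0
      exact h0.trans (Ideal.height_mono (locIdeal_mono 𝒜 hM.1.2))
    push_cast
    exact (add_le_add hj' le_rfl).trans (Ideal.height_add_one_le_of_lt_of_isPrime hlt)

end Groth.Agent.S15723
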