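import Groth.Statements.S15724
import Groth.Agent.HJ84.Span
-- import your own Groth.Agent.* helpers here

set_option autoImplicit false
universe u
open W4c2invhilbsl2

namespace Groth.Agent.S15724
open Groth.Agent.HJ84 Groth.Agent.HJ84.Mono MvPolynomial

/-- Grade the polynomial ring k[X₀,…,X₄] over a field k by ℤ × ℤ/m, giving X₀ weight (1,0), X₁ and X₂
weight (−p,−1), and X₃ and X₄ weight (q,1), where 0 < p < q are coprime integers and m ≥ 1, and let
P be the principal ideal generated by the weight-zero element X₀^(q−p) − X₁X₄ + X₂X₃ (the equation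
of an affine hypersurface). Then every polynomial homogeneous of the weight of X₁ is congruent
modulo P to some a·X₁ + b·X₂ with a and b homogeneous of weight zero, and every polynomial
homogeneous of the weight of X₃ is congruent modulo P to some a·X₃ + b·X₄ with a and b homogeneous
of weight zero. Equivalently, in the coordinate ring of the hypersurface the weight pieces of the
weights of X₁ and of X₃ are generated over the weight-zero subring (the ring of invariants of the
diagonal action of a one-dimensional torus times the group of m-th roots of unity with these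
weights) by X₁, X₂ and by X₃, X₄ respectively. (For the weight of X₁ the congruence is already an
equality in the polynomial ring; for the weight of X₃ the hypersurface equation is needed, e.g.
X₀^(q+p)X₁ has that weight when m divides 2.) -/
theorem result (k : Type u) [Field k] (p q m : ℕ) (hp : 0 < p) (hpq : p < q) (hcop : Nat.Coprime p q) (hm : 0 < m) (f : MvPolynomial (Fin 5) k) :
    (f ∈ MvPolynomial.weightedHomogeneousSubmodule k (W4c2invhilbsl2.wt5 p q m) (W4c2invhilbsl2.wt5 p q m 1) →
      ∃ a b : MvPolynomial (Fin 5) k, a ∈ MvPolynomial.weightedHomogeneousSubmodule k (W4c2invhilbsl2.wt5 p q m) 0 ∧ b ∈ MvPolynomial.weightedHomogeneousSubmodule k (W4c2invhilbsl2.wt5 p q m) 0 ∧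
        f - (a * MvPolynomial.X (1 : Fin 5) + b * MvPolynomial.X (2 : Fin 5)) ∈ Ideal.span {MvPolynomial.X (0 : Fin 5) ^ (q - p) - MvPolynomial.X 1 * MvPolynomial.X 4 + MvPolynomial.X 2 * MvPolynomial.X 3}) ∧
    (f ∈ MvPolynomial.weightedHomogeneousSubmodule k (W4c2invhilbsl2.wt5 p q m) (W4c2invhilbsl2.wt5 p q m 3) →
      ∃ a b : MvPolynomial (Fin 5) k, a ∈ MvPolynomial.weightedHomogeneousSubmodule k (W4c2invhilbsl2.wt5 p q m) 0 ∧ b ∈ MvPolynomial.weightedHomogeneousSubmodule k (W4c2invhilbsl2.wt5 p q m) 0 ∧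
        f - (a * MvPolynomial.X (3 : Fin 5) + b * MvPolynomial.X (4 : Fin 5)) ∈ Ideal.span {MvPolynomial.X (0 : Fin 5) ^ (q - p) - MvPolynomial.X 1 * MvPolynomial.X 4 + MvPolynomial.X 2 * MvPolynomial.X 3}) := by
  have h1w : wt5 p q m 1 = (-(p : ℤ), ((-1 : ℤ) : ZMod m)) := by simp [wt5]
  have h3w : wt5 p q m 3 = ((q : ℤ), ((1 : ℤ) : ZMod m)) := by simp [wt5]
  refine ⟨fun hf => ?_, fun hf => ?_⟩
  · have key : InSpan (wt5 p q m) (hyp k p q)
        ![monomial (ex5 0 1 0 0 0) 1, monomial (ex5 0 0 1 0 0) 1] f := by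
      refine InSpan.of_monomials hf fun d hd => ?_
      rw [h1w] at hd
      obtain ⟨h1, -⟩ := (weight_fin5 p q m d _ _).1 hd
      by_cases hA : 1 ≤ d 1
      · refine inSpan_of_le 0 (e := ex5 0 1 0 0 0) rfl (ex5_le (by simp) hA (by simp) (by simp) (by simp)) ?_
        rw [hd]; exact (weight_fin5 p q m _ _ _).2 ⟨by simp, by simp⟩
      · refine inSpan_of_le 1 (e := ex5 0 0 1 0 0) rfl (ex5_le (by simp) (by simp) ?_ (by simp) (by simp)) ?_
        · by_contra hB
          have a1 : d 1 = 0 := by omega
          have a2 : d 2 = 0 := by omega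
          rw [a1, a2] at h1; push_cast at h1
          nlinarith
        · rw [hd]; exact (weight_fin5 p q m _ _ _).2 ⟨by simp, by simp⟩
    obtain ⟨a, ha, he⟩ := key
    refine ⟨a 0, a 1, ha 0, ha 1, ?_⟩
    simpa [hyp, monomial_ex5, Fin.sum_univ_two] using he
  · have key : InSpan (wt5 p q m) (hyp k p q)
        ![monomial (ex5 0 0 0 1 0) 1, monomial (ex5 0 0 0 0 1) 1] f := by
      have main : ∀ d : Fin 5 →₀ ℕ, Finsupp.weight (wt5 p q m) d = wt5 p q m 3 → 1 ≤ d 3 + d 4 →
          InSpan (wt5 p q m) (hyp k p q)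
            ![monomial (ex5 0 0 0 1 0) 1, monomial (ex5 0 0 0 0 1) 1] (monomial d 1) := by
        intro d hd hA
        rw [h3w] at hd
        by_cases h3 : 1 ≤ d 3
        · refine inSpan_of_le 0 (e := ex5 0 0 0 1 0) rfl (ex5_le (by simp) (by simp) (by simp) h3 (by simp)) ?_
          rw [hd]; exact (weight_fin5 p q m _ _ _).2 ⟨by simp, by simp⟩
        · refine inSpan_of_le 1 (e := ex5 0 0 0 0 1) rfl (ex5_le (by simp) (by simp) (by simp) (by simp) (by omega)) ?_
          rw [hd]; exact (weight_fin5 p q m _ _ _).2 ⟨by simp, by simp⟩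
      refine InSpan.of_monomials hf fun d hd => ?_
      by_cases hA : 1 ≤ d 3 + d 4
      · exact main d hd hA
      · rw [h3w] at hd
        obtain ⟨h1, -⟩ := (weight_fin5 p q m d _ _).1 hd
        have a3 : d 3 = 0 := by omega
        have a4 : d 4 = 0 := by omega
        rw [a3, a4] at h1; push_cast at h1
        have hge : (q : ℤ) ≤ d 0 := by nlinarith
        exact inSpan_reduce (m := m) hpq.le (by omega) fun e he _ h34 => main e (he.trans (hd.trans h3w.symm)) h34
    obtain ⟨a, ha, he⟩ := key
    refine ⟨a 0, a 1, ha 0, ha 1, ?_⟩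
    simpa [hyp, monomial_ex5, Fin.sum_univ_two] using he

end Groth.Agent.S15724
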