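import Groth.Statements.S15725
import Groth.Agent.HJ84.Span
-- import your own Groth.Agent.* helpers here

set_option autoImplicit false
universe u
open W4c2invhilbsl2

namespace Groth.Agent.S15725
open Groth.Agent.HJ84 Groth.Agent.HJ84.Mono MvPolynomial

/-- Grade the polynomial ring k[X₀,X₁,X₂] over a field k by ℤ × ℤ/m, giving X₀ weight (1,0), X₁ weight
(−p,−1) and X₂ weight (q,1), where 0 < p < q are coprime integers and m ≥ 1 (this three-variable
ring stands for the subring k[X₀,X₁,Xⱼ], j = 3 or 4, of the five-variable ring with the same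
weights). Then every polynomial homogeneous of weight (q−p, 0) can be written a·X₀^(q−p) + b·X₁X₂
with a and b homogeneous of weight zero; in other words the weight-(q−p, 0) piece is generated by
X₀^(q−p) and X₁X₂ as a module over the weight-zero subring. -/
theorem result (k : Type u) [Field k] (p q m : ℕ) (hp : 0 < p) (hpq : p < q) (hcop : Nat.Coprime p q) (hm : 0 < m) (f : MvPolynomial (Fin 3) k)
    (hf : f ∈ MvPolynomial.weightedHomogeneousSubmodule k (W4c2invhilbsl2.wt3 p q m) ((q : ℤ) - (p : ℤ), (0 : ZMod m))) :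
    ∃ a b : MvPolynomial (Fin 3) k, a ∈ MvPolynomial.weightedHomogeneousSubmodule k (W4c2invhilbsl2.wt3 p q m) 0 ∧ b ∈ MvPolynomial.weightedHomogeneousSubmodule k (W4c2invhilbsl2.wt3 p q m) 0 ∧
      f = a * MvPolynomial.X (0 : Fin 3) ^ (q - p) + b * (MvPolynomial.X (1 : Fin 3) * MvPolynomial.X (2 : Fin 3)) := by
  have key : InSpan (wt3 p q m) (⊥ : Ideal (MvPolynomial (Fin 3) k))
      ![monomial (ex3 (q - p) 0 0) 1, monomial (ex3 0 1 1) 1] f := by
    refine InSpan.of_monomials hf fun d hd => ?_
    obtain ⟨h1, -⟩ := weight_fin3_zero_res.1 hd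
    by_cases hA : 1 ≤ d 1 ∧ 1 ≤ d 2
    · refine inSpan_of_le 1 (e := ex3 0 1 1) rfl (ex3_le (by simp) hA.1 hA.2) ?_
      rw [hd]; exact weight_fin3_zero_res.2 ⟨by simp; ring, by simp⟩
    · refine inSpan_of_le 0 (e := ex3 (q - p) 0 0) rfl (ex3_le ?_ (by simp) (by simp)) ?_
      · by_contra hcon
        push Not at hcon
        have hd0 : (d 0 : ℤ) < (q : ℤ) - p := by omega
        rcases Nat.eq_zero_or_pos (d 2) with h2 | h2
        · rw [h2] at h1; push_cast at h1; nlinarith
        · have h10 : d 1 = 0 := by omega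
          rw [h10] at h1; push_cast at h1
          have : (q : ℤ) ≤ q * d 2 := le_mul_of_one_le_right (by positivity) (by exact_mod_cast h2)
          linarith [show (0:ℤ) < p by exact_mod_cast hp, show (0:ℤ) ≤ d 0 from Int.natCast_nonneg _]
      · rw [hd]; exact weight_fin3_zero_res.2 ⟨by simp [Nat.cast_sub hpq.le], by simp⟩
  obtain ⟨a, ha, he⟩ := key
  refine ⟨a 0, a 1, ha 0, ha 1, ?_⟩
  rw [Ideal.mem_bot, sub_eq_zero] at he
  rw [he, Fin.sum_univ_two]
  simp [monomial_ex3]

end Groth.Agent.S15725
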