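import Groth.Statements.S15726
import Groth.Agent.HJ84.Span
-- import your own Groth.Agent.* helpers here

set_option autoImplicit false
universe u
open W4c2invhilbsl2

namespace Groth.Agent.S15726
open Groth.Agent.HJ84 Groth.Agent.HJ84.Mono MvPolynomial

/-- Grade the polynomial ring k[X₀,…,X₄] over a field k by ℤ × ℤ/m, giving X₀ weight (1,0), X₁ and X₂
weight (−p,−1), and X₃ and X₄ weight (q,1), where 0 < p < q are coprime integers and m ≥ 1. Then
modulo the principal ideal generated by the weight-zero element X₀^(q−p) − X₁X₄ + X₂X₃ (the equation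
of an affine hypersurface), every polynomial homogeneous of weight (q−p, 0) is congruent to a
combination a₁₃X₁X₃ + a₁₄X₁X₄ + a₂₃X₂X₃ + a₂₄X₂X₄ whose four coefficients are homogeneous of weight
zero. Equivalently, in the coordinate ring of the hypersurface the weight-(q−p, 0) piece is
generated over the weight-zero subring (the invariant ring of the diagonal action with these
weights) by the span of the four products XₐX_b with a ∈ {1,2} and b ∈ {3,4}. (The published
statement is over the complex numbers; this row takes any field.) -/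
theorem result (k : Type u) [Field k] (p q m : ℕ) (hp : 0 < p) (hpq : p < q) (hcop : Nat.Coprime p q) (hm : 0 < m) (f : MvPolynomial (Fin 5) k)
    (hf : f ∈ MvPolynomial.weightedHomogeneousSubmodule k (W4c2invhilbsl2.wt5 p q m) ((q : ℤ) - (p : ℤ), (0 : ZMod m))) :
    ∃ a₁₃ a₁₄ a₂₃ a₂₄ : MvPolynomial (Fin 5) k,
      a₁₃ ∈ MvPolynomial.weightedHomogeneousSubmodule k (W4c2invhilbsl2.wt5 p q m) 0 ∧ a₁₄ ∈ MvPolynomial.weightedHomogeneousSubmodule k (W4c2invhilbsl2.wt5 p q m) 0 ∧ a₂₃ ∈ MvPolynomial.weightedHomogeneousSubmodule k (W4c2invhilbsl2.wt5 p q m) 0 ∧ a₂₄ ∈ MvPolynomial.weightedHomogeneousSubmodule k (W4c2invhilbsl2.wt5 p q m) 0 ∧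
      f - (a₁₃ * (MvPolynomial.X (1 : Fin 5) * MvPolynomial.X 3) + a₁₄ * (MvPolynomial.X (1 : Fin 5) * MvPolynomial.X 4) +
          a₂₃ * (MvPolynomial.X (2 : Fin 5) * MvPolynomial.X 3) + a₂₄ * (MvPolynomial.X (2 : Fin 5) * MvPolynomial.X 4)) ∈
        Ideal.span {MvPolynomial.X (0 : Fin 5) ^ (q - p) - MvPolynomial.X 1 * MvPolynomial.X 4 + MvPolynomial.X 2 * MvPolynomial.X 3} := by
  set g : Fin 4 → MvPolynomial (Fin 5) k := ![monomial (ex5 0 1 0 1 0) 1, monomial (ex5 0 1 0 0 1) 1,
    monomial (ex5 0 0 1 1 0) 1, monomial (ex5 0 0 1 0 1) 1] with hg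
  have main : ∀ d : Fin 5 →₀ ℕ, Finsupp.weight (wt5 p q m) d = ((q : ℤ) - p, (0 : ZMod m)) →
      1 ≤ d 1 + d 2 → 1 ≤ d 3 + d 4 → InSpan (wt5 p q m) (hyp k p q) g (monomial d 1) := by
    intro d hd h12 h34
    by_cases h1 : 1 ≤ d 1 <;> by_cases h3 : 1 ≤ d 3
    · refine inSpan_of_le 0 (e := ex5 0 1 0 1 0) rfl (ex5_le (by simp) h1 (by simp) h3 (by simp)) ?_
      rw [hd]; exact weight_fin5_zero_res.2 ⟨by simp; ring, by simp⟩
    · refine inSpan_of_le 1 (e := ex5 0 1 0 0 1) rfl (ex5_le (by simp) h1 (by simp) (by simp) (by omega)) ?_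
      rw [hd]; exact weight_fin5_zero_res.2 ⟨by simp; ring, by simp⟩
    · refine inSpan_of_le 2 (e := ex5 0 0 1 1 0) rfl (ex5_le (by simp) (by simp) (by omega) h3 (by simp)) ?_
      rw [hd]; exact weight_fin5_zero_res.2 ⟨by simp; ring, by simp⟩
    · refine inSpan_of_le 3 (e := ex5 0 0 1 0 1) rfl (ex5_le (by simp) (by simp) (by omega) (by simp) (by omega)) ?_
      rw [hd]; exact weight_fin5_zero_res.2 ⟨by simp; ring, by simp⟩
  have key : InSpan (wt5 p q m) (hyp k p q) g f := by
    refine InSpan.of_monomials hf fun d hd => ?_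
    by_cases hA : 1 ≤ d 1 + d 2 ∧ 1 ≤ d 3 + d 4
    · exact main d hd hA.1 hA.2
    · obtain ⟨h1, -⟩ := weight_fin5_zero_res.1 hd
      refine inSpan_reduce (m := m) hpq.le ?_ fun e he a b => main e (he.trans hd) a b
      by_contra hcon
      have hd0 : (d 0 : ℤ) < (q : ℤ) - p := by omega
      rcases Nat.eq_zero_or_pos (d 3 + d 4) with h2 | h2
      · have a3 : d 3 = 0 := by omega
        have a4 : d 4 = 0 := by omega
        rw [a3, a4] at h1; push_cast at h1; nlinarith
      · have a1 : d 1 = 0 := by omega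
        have a2 : d 2 = 0 := by omega
        rw [a1, a2] at h1; push_cast at h1
        have : (q : ℤ) ≤ q * ((d 3 : ℤ) + d 4) := le_mul_of_one_le_right (by positivity) (by exact_mod_cast h2)
        linarith [show (0:ℤ) < p by exact_mod_cast hp, show (0:ℤ) ≤ d 0 from Int.natCast_nonneg _]
  obtain ⟨a, ha, he⟩ := key
  refine ⟨a 0, a 1, a 2, a 3, ha 0, ha 1, ha 2, ha 3, ?_⟩
  simpa [hg, hyp, monomial_ex5, Fin.sum_univ_four] using he

end Groth.Agent.S15726
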