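import Groth.Statements.S15727
import Groth.Agent.HJ84.Congr
-- import your own Groth.Agent.* helpers here

set_option autoImplicit false
universe u
open W4c2invhilbsl2

namespace Groth.Agent.S15727
open Groth.Agent.HJ84 Groth.Agent.HJ84.Mono MvPolynomial

/-- Let k be an algebraically closed field, 0 < p < q coprime integers and m ≥ 1, and grade k[X₀,…,X₄]
by ℤ × ℤ/m, giving X₀ weight (1,0), X₁ and X₂ weight (−p,−1), and X₃ and X₄ weight (q,1). For s ∈ k
let I_s be the ideal (X₀^(q−p) − X₁X₄, X₂, X₃, s − X₀^(mp)X₁^m), whose generators are homogeneous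
(the last one of weight zero). Then for every weight ν the image in k[X₀,…,X₄]/I_s of the
homogeneous polynomials of weight ν is a k-vector space of dimension at most 1. (The published
statement asserts that this dimension equals 1 for every ν and every s, namely that the quotient has
the Hilbert function of the regular representation of the grading group; this row states the upper
bound, the half obtained from the monomial analysis of the weight pieces, while the lower bound
there is drawn from the moduli interpretation of these ideals. The published statement is over the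
complex numbers; this row takes any algebraically closed field, which is what the reduction to s =
0, 1 by rescaling the variables uses.) -/
theorem result (k : Type u) [Field k] [IsAlgClosed k] (p q m : ℕ) (hp : 0 < p) (hpq : p < q) (hcop : Nat.Coprime p q) (hm : 0 < m) (s : k) (ν : ℤ × ZMod m) :
    Module.rank k (W4c2invhilbsl2.piece k (W4c2invhilbsl2.wt5 p q m) (W4c2invhilbsl2.idealI k p q m s) ν) ≤ 1 := by
  refine rank_piece_le_one fun d e hd he => ?_
  set I := idealI k p q m s with hI
  have hX2 : (X 2 : MvPolynomial (Fin 5) k) ∈ I := Ideal.subset_span (by simp)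
  have hX3 : (X 3 : MvPolynomial (Fin 5) k) ∈ I := Ideal.subset_span (by simp)
  have hh : (X 0 ^ (q - p) - X 1 * X 4 : MvPolynomial (Fin 5) k) ∈ I := Ideal.subset_span (by simp)
  have hu : (C s - X 0 ^ (m * p) * X 1 ^ m : MvPolynomial (Fin 5) k) ∈ I := Ideal.subset_span (by simp)
  have hzero : ∀ f : Fin 5 →₀ ℕ, f 2 ≠ 0 ∨ f 3 ≠ 0 → monomial f (1 : k) ∈ I := by
    intro f hf
    rw [monomial_fin5]
    rcases hf with hf | hf
    · exact Ideal.mem_of_dvd _ (Dvd.dvd.mul_right (Dvd.dvd.mul_right (Dvd.dvd.mul_left (dvd_pow_self _ hf) _) _) _) hX2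
    · exact Ideal.mem_of_dvd _ (Dvd.dvd.mul_right (Dvd.dvd.mul_left (dvd_pow_self _ hf) _) _) hX3
  by_cases hdz : d 2 ≠ 0 ∨ d 3 ≠ 0
  · exact Or.inl ⟨0, by simpa using hzero d hdz⟩
  by_cases hez : e 2 ≠ 0 ∨ e 3 ≠ 0
  · exact Or.inr ⟨0, by simpa using hzero e hez⟩
  push Not at hdz hez
  have main : ∀ d e : Fin 5 →₀ ℕ, d 2 = 0 → d 3 = 0 → e 2 = 0 → e 3 = 0 → ∀ k' : ℕ,
      (e 0 : ℤ) - p * e 1 + q * e 4 = (d 0 : ℤ) - p * d 1 + q * d 4 →
      (d 1 : ℤ) - d 4 = (e 1 : ℤ) - e 4 + m * k' →
      ∃ a : k, monomial d 1 - C a * monomial e 1 ∈ I := by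
    intro d e a2 a3 b2 b3 k' hn hc
    refine ⟨s ^ k', ?_⟩
    have h1 := Congr.congr_shift (I := I) hpq.le hh m k' (d 0) (d 1) (d 4) (e 0) (e 1) (e 4) hn hc
    have h2 := I.mul_mem_left (X 0 ^ e 0 * X 1 ^ e 1 * X 4 ^ e 4) (Congr.pow_sub_pow_mem hu k')
    rw [monomial_fin5, monomial_fin5, a2, a3, b2, b3, C_pow]
    convert I.sub_mem h1 h2 using 1
    ring
  obtain ⟨h1, ⟨x, hx⟩⟩ := weight_fin5_eq.1 (hd.trans he.symm)
  rw [hdz.1, hdz.2, hez.1, hez.2] at h1 hx
  push_cast at h1 hx
  rcases le_total 0 x with hx0 | hx0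
  · obtain ⟨k', rfl⟩ := Int.eq_ofNat_of_zero_le hx0
    exact Or.inl (main d e hdz.1 hdz.2 hez.1 hez.2 k' (by linear_combination (-1:ℤ) * h1) (by linear_combination hx))
  · obtain ⟨k', hk'⟩ := Int.eq_ofNat_of_zero_le (neg_nonneg.2 hx0)
    exact Or.inr (main e d hez.1 hez.2 hdz.1 hdz.2 k' (by linear_combination h1)
      (by linear_combination (-1:ℤ) * hx + (m:ℤ) * hk'))

end Groth.Agent.S15727
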