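import Groth.Statements.S15728
import Groth.Agent.HJ84.Congr
-- import your own Groth.Agent.* helpers here

set_option autoImplicit false
universe u
open W4c2invhilbsl2

namespace Groth.Agent.S15728
open Groth.Agent.HJ84 Groth.Agent.HJ84.Mono MvPolynomial

/-- Let k be an algebraically closed field, 0 < p < q coprime integers and m ≥ 1; put g = gcd(m, q−p)
and a = m/g, and grade k[X₀,…,X₄] by ℤ × ℤ/m, giving X₀ weight (1,0), X₁ and X₂ weight (−p,−1), and
X₃ and X₄ weight (q,1). For s ∈ k let J_s be the ideal (X₀^g, X₂, X₄, s − X₁^(aq)X₃^(ap)), whose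
generators are homogeneous (the last one of weight zero). Then for every weight ν the image in
k[X₀,…,X₄]/J_s of the homogeneous polynomials of weight ν is a k-vector space of dimension at most
1. (The published statement asserts that this dimension equals 1 for every ν and every s; this row
states the upper bound, the half obtained from the monomial analysis of the weight pieces, while the
lower bound there is drawn from the moduli interpretation of these ideals. The published statement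
is over the complex numbers; this row takes any algebraically closed field, which is what the
reduction to s = 0, 1 by rescaling the variables uses.) -/
theorem result (k : Type u) [Field k] [IsAlgClosed k] (p q m : ℕ) (hp : 0 < p) (hpq : p < q) (hcop : Nat.Coprime p q) (hm : 0 < m) (s : k) (ν : ℤ × ZMod m) :
    Module.rank k (W4c2invhilbsl2.piece k (W4c2invhilbsl2.wt5 p q m) (W4c2invhilbsl2.idealJ k p q m s) ν) ≤ 1 := by
  refine rank_piece_le_one fun d e hd he => ?_
  set I := idealJ k p q m s with hI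
  set A := m / Nat.gcd m (q - p) * q with hA
  set B := m / Nat.gcd m (q - p) * p with hB
  have hX0 : (X 0 ^ Nat.gcd m (q - p) : MvPolynomial (Fin 5) k) ∈ I := Ideal.subset_span (by simp)
  have hX2 : (X 2 : MvPolynomial (Fin 5) k) ∈ I := Ideal.subset_span (by simp)
  have hX4 : (X 4 : MvPolynomial (Fin 5) k) ∈ I := Ideal.subset_span (by simp)
  have hu : (C s - X 1 ^ A * X 3 ^ B : MvPolynomial (Fin 5) k) ∈ I := Ideal.subset_span (by simp [hA, hB])
  have hzero : ∀ f : Fin 5 →₀ ℕ, (f 2 ≠ 0 ∨ f 4 ≠ 0) ∨ Nat.gcd m (q - p) ≤ f 0 → monomial f (1 : k) ∈ I := by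
    intro f hf
    rw [monomial_fin5]
    rcases hf with (hf | hf) | hf
    · exact Ideal.mem_of_dvd _ (Dvd.dvd.mul_right (Dvd.dvd.mul_right (Dvd.dvd.mul_left (dvd_pow_self _ hf) _) _) _) hX2
    · exact Ideal.mem_of_dvd _ (Dvd.dvd.mul_left (dvd_pow_self _ hf) _) hX4
    · exact Ideal.mem_of_dvd _ (Dvd.dvd.mul_right (Dvd.dvd.mul_right (Dvd.dvd.mul_right (Dvd.dvd.mul_right (pow_dvd_pow _ hf) _) _) _) _) hX0
  by_cases hdz : (d 2 ≠ 0 ∨ d 4 ≠ 0) ∨ Nat.gcd m (q - p) ≤ d 0
  · exact Or.inl ⟨0, by simpa using hzero d hdz⟩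
  by_cases hez : (e 2 ≠ 0 ∨ e 4 ≠ 0) ∨ Nat.gcd m (q - p) ≤ e 0
  · exact Or.inr ⟨0, by simpa using hzero e hez⟩
  push Not at hdz hez
  obtain ⟨h1, h2⟩ := weight_fin5_eq.1 (hd.trans he.symm)
  rw [hdz.1.1, hdz.1.2, hez.1.1, hez.1.2] at h1 h2
  push_cast at h1 h2
  simp only [add_zero] at h1 h2
  obtain ⟨h0, j, hj1, hj2, -⟩ := Congr.small_d0 hpq hcop hm (d 0) (d 1) (d 3) (e 0) (e 1) (e 3) h1.symm
    (by obtain ⟨x, hx⟩ := h2; exact ⟨x, by linear_combination hx⟩) hdz.2 hez.2
  rw [← hA] at hj1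
  rw [← hB] at hj2
  have main : ∀ d e : Fin 5 →₀ ℕ, d 2 = 0 → d 4 = 0 → e 2 = 0 → e 4 = 0 → d 0 = e 0 → ∀ j : ℕ,
      e 1 = d 1 + A * j → e 3 = d 3 + B * j → ∃ a : k, monomial e 1 - C a * monomial d 1 ∈ I := by
    intro d e a2 a4 b2 b4 h0 j c1 c3
    refine ⟨s ^ j, ?_⟩
    have h2 := I.mul_mem_left (-(X 0 ^ d 0 * X 1 ^ d 1 * X 3 ^ d 3)) (Congr.pow_sub_pow_mem hu j)
    rw [monomial_fin5, monomial_fin5, a2, a4, b2, b4, ← h0, c1, c3, C_pow]
    convert h2 using 1
    ring
  rcases le_total 0 j with hj | hj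
  · obtain ⟨j', rfl⟩ := Int.eq_ofNat_of_zero_le hj
    exact Or.inr (main d e hdz.1.1 hdz.1.2 hez.1.1 hez.1.2 h0 j' (by exact_mod_cast hj1) (by exact_mod_cast hj2))
  · obtain ⟨j', hj'⟩ := Int.eq_ofNat_of_zero_le (neg_nonneg.2 hj)
    exact Or.inl (main e d hez.1.1 hez.1.2 hdz.1.1 hdz.1.2 h0.symm j'
      (by zify; linear_combination (-1:ℤ) * hj1 + (A:ℤ) * hj') (by zify; linear_combination (-1:ℤ) * hj2 + (B:ℤ) * hj'))

end Groth.Agent.S15728
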