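import Groth.Statements.S15729
import Groth.Agent.HJ84.Span
-- import your own Groth.Agent.* helpers here

set_option autoImplicit false
universe u
open W4c2invhilbsl2

namespace Groth.Agent.S15729
open Groth.Agent.HJ84 Groth.Agent.HJ84.Mono MvPolynomial

/-- Let 0 < p < q be coprime integers and m ≥ 1 such that q − p does not divide m; put g = gcd(m, q−p),
b = (q−p)/g, α = ⌊mp/(q−p)⌋, β = the remainder of mp modulo q−p and t = (q−p−β)/g, so that 1 ≤ t <
b, and let b/t = c₁ − 1/(c₂ − 1/(⋯ − 1/c_r)) be the negative-regular (Hirzebruch–Jung) continued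
fraction expansion with every cᵢ ≥ 2; set P₀ = 0, P₁ = 1, Q₀ = −1, Q₁ = 0, Pᵢ = cᵢ₋₁Pᵢ₋₁ − Pᵢ₋₂, Qᵢ
= cᵢ₋₁Qᵢ₋₁ − Qᵢ₋₂ for 2 ≤ i ≤ r+1, and eᵢ = (α+1+m)Pᵢ − Qᵢ, lᵢ = (α+1)Pᵢ − Qᵢ, nᵢ = q·lᵢ − p·eᵢ,
which are non-negative integers for 0 ≤ i ≤ r+1. Grade the polynomial ring k[X₀,X₁,X₂] over a field
k by ℤ × ℤ/m with weights (1,0), (−p,−1), (q,1) (it stands for k[X₀,X₁,Xⱼ], j = 3 or 4, inside the
five-variable ring). Then for every 1 ≤ i ≤ r, every polynomial homogeneous of weight (nᵢ, 0) can be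
written a·X₀^(nᵢ) + b·X₁^(eᵢ)X₂^(lᵢ) with a and b homogeneous of weight zero; that is, the
weight-(nᵢ,0) piece is generated over the weight-zero subring by X₀^(nᵢ) and X₁^(eᵢ)X₂^(lᵢ). -/
theorem result (k : Type u) [Field k] (p q m : ℕ) (hp : 0 < p) (hpq : p < q) (hcop : Nat.Coprime p q) (hm : 0 < m) (hnt : ¬ (q - p ∣ m)) (c : List ℤ) (hc : W4c2invhilbsl2.IsHJDigits p q m c) (i : ℕ) (hi : 1 ≤ i) (hir : i ≤ c.length)
    (f : MvPolynomial (Fin 3) k) (hf : f ∈ MvPolynomial.weightedHomogeneousSubmodule k (W4c2invhilbsl2.wt3 p q m) (W4c2invhilbsl2.nN p q m c i, (0 : ZMod m))) :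
    ∃ a b : MvPolynomial (Fin 3) k, a ∈ MvPolynomial.weightedHomogeneousSubmodule k (W4c2invhilbsl2.wt3 p q m) 0 ∧ b ∈ MvPolynomial.weightedHomogeneousSubmodule k (W4c2invhilbsl2.wt3 p q m) 0 ∧
      f = a * MvPolynomial.X (0 : Fin 3) ^ (W4c2invhilbsl2.nN p q m c i).toNat +
        b * (MvPolynomial.X (1 : Fin 3) ^ (W4c2invhilbsl2.eE p q m c i).toNat * MvPolynomial.X (2 : Fin 3) ^ (W4c2invhilbsl2.lL p q m c i).toNat) := by
  have hn := Seq.nN_pos hm hcop hpq hnt hc i hir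
  have key : InSpan (wt3 p q m) (⊥ : Ideal (MvPolynomial (Fin 3) k))
      ![monomial (ex3 (nN p q m c i).toNat 0 0) 1,
        monomial (ex3 0 (eE p q m c i).toNat (lL p q m c i).toNat) 1] f := by
    refine InSpan.of_monomials hf fun d hd => ?_
    obtain ⟨h1, h2⟩ := weight_fin3_zero_res.1 hd
    by_cases hA : (nN p q m c i).toNat ≤ d 0
    · refine inSpan_of_le 0 (e := ex3 (nN p q m c i).toNat 0 0) rfl (ex3_le hA (by simp) (by simp)) ?_
      rw [hd]; exact weight_fin3_zero_res.2 ⟨by simp; omega, by simp⟩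
    · push Not at hA
      obtain ⟨ha, hb⟩ := Seq.dominate hm hcop hpq hnt hc i hi hir (d 0) (d 1) (d 2) h1 h2 hA
      refine inSpan_of_le 1 (e := ex3 0 (eE p q m c i).toNat (lL p q m c i).toNat) rfl
        (ex3_le (by simp) ha hb) ?_
      have hl := Seq.lL_pos hm hcop hpq hnt hc i hi hir
      have hP := Seq.hjP_pos hc.1 i hi (by omega)
      have he := Seq.eE_eq (p := p) (q := q) (m := m) (c := c) i
      have he0 : 0 ≤ eE p q m c i := by rw [he]; positivity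
      rw [hd]
      refine weight_fin3_zero_res.2 ⟨?_, ?_⟩
      · simp [Int.toNat_of_nonneg hl.le, Int.toNat_of_nonneg he0, nN]
      · simp [Int.toNat_of_nonneg hl.le, Int.toNat_of_nonneg he0]
        exact ⟨-hjP c i, by rw [he]; ring⟩
  obtain ⟨a, ha, he⟩ := key
  refine ⟨a 0, a 1, ha 0, ha 1, ?_⟩
  rw [Ideal.mem_bot, sub_eq_zero] at he
  rw [he, Fin.sum_univ_two]
  simp [monomial_ex3]

end Groth.Agent.S15729
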