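import Groth.Statements.S15732
import Groth.Agent.HJ84.Span
-- import your own Groth.Agent.* helpers here

set_option autoImplicit false
universe u
open W4c2invhilbsl2

namespace Groth.Agent.S15732
open Groth.Agent.HJ84 Groth.Agent.HJ84.Mono MvPolynomial

/-- Let 0 < p < q be coprime integers and m ≥ 1 such that q − p does not divide m; put g = gcd(m, q−p),
b = (q−p)/g, α = ⌊mp/(q−p)⌋, β = the remainder of mp modulo q−p and t = (q−p−β)/g, so that 1 ≤ t <
b, and let b/t = c₁ − 1/(c₂ − 1/(⋯ − 1/c_r)) be the negative-regular (Hirzebruch–Jung) continued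
fraction expansion with every cᵢ ≥ 2; set P₀ = 0, P₁ = 1, Q₀ = −1, Q₁ = 0, Pᵢ = cᵢ₋₁Pᵢ₋₁ − Pᵢ₋₂, Qᵢ
= cᵢ₋₁Qᵢ₋₁ − Qᵢ₋₂ for 2 ≤ i ≤ r+1, and eᵢ = (α+1+m)Pᵢ − Qᵢ, lᵢ = (α+1)Pᵢ − Qᵢ, nᵢ = q·lᵢ − p·eᵢ,
which are non-negative integers for 0 ≤ i ≤ r+1. Grade the polynomial ring k[X₀,…,X₄] over a field k
by ℤ × ℤ/m, giving X₀ weight (1,0), X₁ and X₂ weight (−p,−1), and X₃ and X₄ weight (q,1). Then for
every 1 ≤ i ≤ r, modulo the principal ideal generated by the weight-zero element X₀^(q−p) − X₁X₄ +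
X₂X₃, every polynomial homogeneous of weight (nᵢ, 0) is congruent to a combination a₀·X₀^(nᵢ) + Σ
a_{e,l}·X₁^(eᵢ−e)X₂^e X₃^(lᵢ−l)X₄^l (sum over 0 ≤ e ≤ eᵢ, 0 ≤ l ≤ lᵢ) whose coefficients a₀, a_{e,l}
are homogeneous of weight zero. Equivalently, in the coordinate ring of the hypersurface the
weight-(nᵢ,0) piece is generated over the weight-zero subring (the invariant ring) by X₀^(nᵢ)
together with the products of a degree-eᵢ monomial in X₁, X₂ and a degree-lᵢ monomial in X₃, X₄.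
(The published statement is over the complex numbers; this row takes any field.) -/
theorem result (k : Type u) [Field k] (p q m : ℕ) (hp : 0 < p) (hpq : p < q) (hcop : Nat.Coprime p q) (hm : 0 < m) (hnt : ¬ (q - p ∣ m)) (c : List ℤ) (hc : W4c2invhilbsl2.IsHJDigits p q m c) (i : ℕ) (hi : 1 ≤ i) (hir : i ≤ c.length)
    (f : MvPolynomial (Fin 5) k) (hf : f ∈ MvPolynomial.weightedHomogeneousSubmodule k (W4c2invhilbsl2.wt5 p q m) (W4c2invhilbsl2.nN p q m c i, (0 : ZMod m))) :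
    ∃ (a₀ : MvPolynomial (Fin 5) k) (a : ℕ → ℕ → MvPolynomial (Fin 5) k),
      a₀ ∈ MvPolynomial.weightedHomogeneousSubmodule k (W4c2invhilbsl2.wt5 p q m) 0 ∧ (∀ e l : ℕ, a e l ∈ MvPolynomial.weightedHomogeneousSubmodule k (W4c2invhilbsl2.wt5 p q m) 0) ∧
      f - (a₀ * MvPolynomial.X (0 : Fin 5) ^ (W4c2invhilbsl2.nN p q m c i).toNat +
          ∑ e ∈ Finset.range ((W4c2invhilbsl2.eE p q m c i).toNat + 1), ∑ l ∈ Finset.range ((W4c2invhilbsl2.lL p q m c i).toNat + 1),
            a e l * (MvPolynomial.X (1 : Fin 5) ^ ((W4c2invhilbsl2.eE p q m c i).toNat - e) * MvPolynomial.X (2 : Fin 5) ^ e *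
              MvPolynomial.X (3 : Fin 5) ^ ((W4c2invhilbsl2.lL p q m c i).toNat - l) * MvPolynomial.X (4 : Fin 5) ^ l)) ∈
        Ideal.span {MvPolynomial.X (0 : Fin 5) ^ (q - p) - MvPolynomial.X 1 * MvPolynomial.X 4 + MvPolynomial.X 2 * MvPolynomial.X 3} := by
  have hn := Seq.nN_pos hm hcop hpq hnt hc i hir
  have hl := Seq.lL_pos hm hcop hpq hnt hc i hi hir
  have hP := Seq.hjP_pos hc.1 i hi (by omega)
  have hee := Seq.eE_eq (p := p) (q := q) (m := m) (c := c) i
  have he0 : 0 ≤ eE p q m c i := by rw [hee]; positivity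
  obtain ⟨E, hE⟩ := Int.eq_ofNat_of_zero_le he0
  obtain ⟨L, hL⟩ := Int.eq_ofNat_of_zero_le hl.le
  rw [show (eE p q m c i).toNat = E by omega, show (lL p q m c i).toNat = L by omega]
  classical
  set G : Option (Fin (E + 1) × Fin (L + 1)) → MvPolynomial (Fin 5) k := fun o => o.elim
    (monomial (ex5 (nN p q m c i).toNat 0 0 0 0) 1)
    (fun x => monomial (ex5 0 (E - x.1) x.1 (L - x.2) x.2) 1) with hG
  have key : InSpan (wt5 p q m) (hyp k p q) G f := by
    refine InSpan.of_monomials hf fun d hd => ?_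
    obtain ⟨h1, h2⟩ := weight_fin5_zero_res.1 hd
    by_cases hA : (nN p q m c i).toNat ≤ d 0
    · refine inSpan_of_le none (e := ex5 (nN p q m c i).toNat 0 0 0 0) rfl
        (ex5_le hA (by simp) (by simp) (by simp) (by simp)) ?_
      rw [hd]; exact weight_fin5_zero_res.2 ⟨by simp; omega, by simp⟩
    · push Not at hA
      obtain ⟨ha, hb⟩ := Seq.dominate hm hcop hpq hnt hc i hi hir (d 0) (d 1 + d 2) (d 3 + d 4)
        (by push_cast; exact h1) (by push_cast; exact h2) hA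
      refine inSpan_of_le (some (⟨min (d 2) E, by omega⟩, ⟨min (d 4) L, by omega⟩))
        (e := ex5 0 (E - min (d 2) E) (min (d 2) E) (L - min (d 4) L) (min (d 4) L)) rfl
        (ex5_le (by simp) (by omega) (by omega) (by omega) (by omega)) ?_
      rw [hd]
      have e1 : ((E - min (d 2) E : ℕ) : ℤ) + ((min (d 2) E : ℕ) : ℤ) = eE p q m c i := by omega
      have e2 : ((L - min (d 4) L : ℕ) : ℤ) + ((min (d 4) L : ℕ) : ℤ) = lL p q m c i := by omega
      refine weight_fin5_zero_res.2 ⟨?_, ?_⟩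
      · simp only [ex5_zero, ex5_one, ex5_two, ex5_three, ex5_four]
        rw [e1, e2, nN]; push_cast; ring
      · simp only [ex5_zero, ex5_one, ex5_two, ex5_three, ex5_four]
        rw [e1, e2, hee]
        exact ⟨-hjP c i, by ring⟩
  obtain ⟨a, ha, he⟩ := key
  refine ⟨a none, fun e l => if h : e < E + 1 ∧ l < L + 1 then a (some (⟨e, h.1⟩, ⟨l, h.2⟩)) else 0,
    ha none, fun e l => ?_, ?_⟩
  · by_cases h : e < E + 1 ∧ l < L + 1
    · simp only [dif_pos h]; exact ha _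
    · simp only [dif_neg h]; exact zero_mem _
  · simp only [hyp, Fintype.sum_option, Fintype.sum_prod_type, hG, Option.elim, monomial_ex5, pow_zero,
      mul_one, one_mul] at he
    simp only [Finset.sum_range]
    convert he using 6 with x _ y _
    rw [dif_pos ⟨x.2, y.2⟩]

end Groth.Agent.S15732
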