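import Groth.Statements.S15733
import Groth.Agent.HJ84.Seq
-- import your own Groth.Agent.* helpers here

set_option autoImplicit false
open W4c2invhilbsl2

namespace Groth.Agent.S15733
open Groth.Agent.HJ84.Seq

/-- Let 0 < p < q be coprime integers and m ≥ 1 such that q − p does not divide m; put g = gcd(m, q−p),
b = (q−p)/g, α = ⌊mp/(q−p)⌋, β = the remainder of mp modulo q−p and t = (q−p−β)/g, so that 1 ≤ t <
b, and let b/t = c₁ − 1/(c₂ − 1/(⋯ − 1/c_r)) be the negative-regular (Hirzebruch–Jung) continued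
fraction expansion with every cᵢ ≥ 2; set P₀ = 0, P₁ = 1, Q₀ = −1, Q₁ = 0, Pᵢ = cᵢ₋₁Pᵢ₋₁ − Pᵢ₋₂, Qᵢ
= cᵢ₋₁Qᵢ₋₁ − Qᵢ₋₂ for 2 ≤ i ≤ r+1, and eᵢ = (α+1+m)Pᵢ − Qᵢ, lᵢ = (α+1)Pᵢ − Qᵢ, nᵢ = q·lᵢ − p·eᵢ,
which are non-negative integers for 0 ≤ i ≤ r+1. Then for every 1 < i ≤ r and every integer x with 0
< x < Pᵢ, the remainder of pmx + nᵢ on division by q − p equals nᵢ plus the remainder of pmx on
division by q − p (in particular nᵢ + (pmx mod (q−p)) < q − p). -/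
theorem result (p q m : ℕ) (hp : 0 < p) (hpq : p < q) (hcop : Nat.Coprime p q) (hm : 0 < m) (hnt : ¬ (q - p ∣ m)) (c : List ℤ) (hc : W4c2invhilbsl2.IsHJDigits p q m c) (i : ℕ) (hi : 1 < i) (hir : i ≤ c.length)
    (x : ℤ) (hx0 : 0 < x) (hx : x < W4c2invhilbsl2.hjP c i) :
    Int.emod ((p : ℤ) * m * x + W4c2invhilbsl2.nN p q m c i) ((q : ℤ) - p) = W4c2invhilbsl2.nN p q m c i + Int.emod ((p : ℤ) * m * x) ((q : ℤ) - p) := by
  obtain ⟨j, rfl⟩ : ∃ j, i = j + 1 := ⟨i - 1, by omega⟩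
  have hg : (0:ℤ) < gcdK p q m := by exact_mod_cast gcdK_pos hm
  have hD := D_eq (m := m) hpq
  have hpm := pm_eq (m := m) hcop hpq
  have hb : (0:ℤ) < bB p q m := lt_of_le_of_lt
    (tau_nonneg hm hcop hpq hnt hc 1 (by omega)) (tau_lt_b hm hcop hpq hnt hc 1 le_rfl (by omega))
  have hτ := tau_lt hm hcop hpq hnt hc j (by omega)
  have hτ1 := tau_nonneg hm hcop hpq hnt hc (j+1) (by omega)
  have hr := Int.emod_def ((tT p q m : ℤ) * x) (bB p q m : ℤ)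
  have hr0 := Int.emod_nonneg ((tT p q m : ℤ) * x) hb.ne'
  have hr1 := Int.emod_lt_of_pos ((tT p q m : ℤ) * x) hb
  generalize ((tT p q m : ℤ) * x) % (bB p q m : ℤ) = r at hr hr0 hr1
  generalize ((tT p q m : ℤ) * x) / (bB p q m : ℤ) = y at hr
  have hrτ : tau p q m c j ≤ r := by
    rcases best_approx hm hcop hpq hnt hc j (by omega) x y hx0 hx with h | h <;> linarith
  rw [nN_eq hm hcop hpq hnt hc]
  show (_ : ℤ) % (_ : ℤ) = _ + (_ : ℤ) % (_ : ℤ)
  generalize tau p q m c (j + 1) = T at hτ hτ1 ⊢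
  set z : ℤ := ((alpha p q m : ℤ) + 1) * x - y - 1 with hz
  have h1 : (p : ℤ) * m * x = ((gcdK p q m : ℤ) * ((bB p q m : ℤ) - r)) + z * ((q : ℤ) - p) := by
    rw [hz]; linear_combination x * hpm + (gcdK p q m : ℤ) * hr + (y + 1) * hD
  have h2 : (p : ℤ) * m * x + (gcdK p q m : ℤ) * T = ((gcdK p q m : ℤ) * ((bB p q m : ℤ) - r + T)) + z * ((q : ℤ) - p) := by
    linear_combination h1
  rw [h2, h1, Int.add_mul_emod_self_right, Int.add_mul_emod_self_right]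
  rw [Int.emod_eq_of_lt (mul_nonneg hg.le (by linarith)) (by rw [hD]; exact mul_lt_mul_of_pos_left (by linarith) hg),
    Int.emod_eq_of_lt (mul_nonneg hg.le (by linarith)) (by rw [hD]; exact mul_lt_mul_of_pos_left (by linarith) hg)]
  ring

end Groth.Agent.S15733
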