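import Groth.Statements.S15734
import Groth.Agent.HJ84.Seq
-- import your own Groth.Agent.* helpers here

set_option autoImplicit false
open W4c2invhilbsl2

namespace Groth.Agent.S15734
open Groth.Agent.HJ84.Seq

/-- Let 0 < p < q be coprime integers and m ≥ 1 such that q − p does not divide m; put g = gcd(m, q−p),
b = (q−p)/g, α = ⌊mp/(q−p)⌋, β = the remainder of mp modulo q−p and t = (q−p−β)/g, so that 1 ≤ t <
b, and let b/t = c₁ − 1/(c₂ − 1/(⋯ − 1/c_r)) be the negative-regular (Hirzebruch–Jung) continued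
fraction expansion with every cᵢ ≥ 2; set P₀ = 0, P₁ = 1, Q₀ = −1, Q₁ = 0, Pᵢ = cᵢ₋₁Pᵢ₋₁ − Pᵢ₋₂, Qᵢ
= cᵢ₋₁Qᵢ₋₁ − Qᵢ₋₂ for 2 ≤ i ≤ r+1, and eᵢ = (α+1+m)Pᵢ − Qᵢ, lᵢ = (α+1)Pᵢ − Qᵢ, nᵢ = q·lᵢ − p·eᵢ,
which are non-negative integers for 0 ≤ i ≤ r+1; moreover g divides every nᵢ, and write tᵢ = nᵢ/g
(so t₁ = t). Then (a) for every 1 ≤ i ≤ r the remainder of t·Pᵢ on division by b equals tᵢ, and (b)
for every 1 < i ≤ r and every integer x with 0 < x < Pᵢ the remainder ρ of t·x on division by b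
satisfies tᵢ₋₁ ≤ ρ ≤ b + tᵢ − tᵢ₋₁. -/
theorem result (p q m : ℕ) (hp : 0 < p) (hpq : p < q) (hcop : Nat.Coprime p q) (hm : 0 < m) (hnt : ¬ (q - p ∣ m)) (c : List ℤ) (hc : W4c2invhilbsl2.IsHJDigits p q m c) :
    (∀ i : ℕ, 1 ≤ i → i ≤ c.length →
      Int.emod ((W4c2invhilbsl2.tT p q m : ℤ) * W4c2invhilbsl2.hjP c i) (W4c2invhilbsl2.bB p q m : ℤ) = W4c2invhilbsl2.nN p q m c i / (W4c2invhilbsl2.gcdK p q m : ℤ)) ∧
    (∀ i : ℕ, 1 < i → i ≤ c.length → ∀ x : ℤ, 0 < x → x < W4c2invhilbsl2.hjP c i →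
      W4c2invhilbsl2.nN p q m c (i - 1) / (W4c2invhilbsl2.gcdK p q m : ℤ) ≤ Int.emod ((W4c2invhilbsl2.tT p q m : ℤ) * x) (W4c2invhilbsl2.bB p q m : ℤ) ∧
      Int.emod ((W4c2invhilbsl2.tT p q m : ℤ) * x) (W4c2invhilbsl2.bB p q m : ℤ) ≤
        (W4c2invhilbsl2.bB p q m : ℤ) + W4c2invhilbsl2.nN p q m c i / (W4c2invhilbsl2.gcdK p q m : ℤ) - W4c2invhilbsl2.nN p q m c (i - 1) / (W4c2invhilbsl2.gcdK p q m : ℤ)) := by
  have hn := fun i => nN_eq hm hcop hpq hnt hc i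
  have hg : (gcdK p q m : ℤ) ≠ 0 := by exact_mod_cast (gcdK_pos hm).ne'
  have hdiv : ∀ i, nN p q m c i / (gcdK p q m : ℤ) = tau p q m c i := fun i => by
    rw [hn]; exact Int.mul_ediv_cancel_left _ hg
  refine ⟨fun i h1 hi => ?_, fun i h1 hi x hx0 hx => ?_⟩
  · rw [hdiv]
    show ((tT p q m : ℤ) * hjP c i) % (bB p q m : ℤ) = _
    rw [show (tT p q m : ℤ) * hjP c i = tau p q m c i + hjQ c i * (bB p q m : ℤ) by
      simp only [tau]; ring, Int.add_mul_emod_self_right]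
    exact Int.emod_eq_of_lt (tau_nonneg hm hcop hpq hnt hc i (by omega))
      (tau_lt_b hm hcop hpq hnt hc i h1 (by omega))
  · rw [hdiv, hdiv]
    show _ ≤ ((tT p q m : ℤ) * x) % (bB p q m : ℤ) ∧ ((tT p q m : ℤ) * x) % (bB p q m : ℤ) ≤ _
    obtain ⟨j, rfl⟩ : ∃ j, i = j + 1 := ⟨i - 1, by omega⟩
    rw [show j + 1 - 1 = j from rfl]
    have hb : (0:ℤ) < bB p q m := lt_of_le_of_lt
      (tau_nonneg hm hcop hpq hnt hc 1 (by omega)) (tau_lt_b hm hcop hpq hnt hc 1 le_rfl (by omega))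
    have hτ := tau_lt hm hcop hpq hnt hc j (by omega)
    have hτ0 := tau_nonneg hm hcop hpq hnt hc j (by omega)
    have hr := Int.emod_def ((tT p q m : ℤ) * x) (bB p q m : ℤ)
    have hr0 := Int.emod_nonneg ((tT p q m : ℤ) * x) hb.ne'
    have hr1 := Int.emod_lt_of_pos ((tT p q m : ℤ) * x) hb
    generalize ((tT p q m : ℤ) * x) % (bB p q m : ℤ) = r at hr hr0 hr1 ⊢
    generalize ((tT p q m : ℤ) * x) / (bB p q m : ℤ) = y at hr
    constructor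
    · rcases best_approx hm hcop hpq hnt hc j (by omega) x y hx0 hx with h | h <;> linarith
    · rcases best_approx hm hcop hpq hnt hc j (by omega) x (y+1) hx0 hx with h | h <;> linarith

end Groth.Agent.S15734
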