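import Groth.Statements.S15738
import Groth.Agent.HJ84.Congr
-- import your own Groth.Agent.* helpers here

set_option autoImplicit false
universe u
open W4c2invhilbsl2

namespace Groth.Agent.S15738
open Groth.Agent.HJ84 Groth.Agent.HJ84.Mono MvPolynomial

/-- Let k be a field and m ≥ 1; for a monomial X₀^d₀X₁^d₁X₂^d₂ of the polynomial ring in X₀, X₁, X₂ (X₂
standing for Xⱼ, j = 3 or 4, of the five-variable ring) put n = d₀ − p·d₁ + q·d₂ (its weight for the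
torus diag(t, t^(−p), t^q)), c = d₁ − d₂ and ω = p·d₁ − q·d₂, so that d₀ = n + ω; here 0 < p < q are
coprime integers. Take two monomials X₀^d₀X₁^d₁X₂^d₂ and X₀^e₀X₁^e₁X₂^e₂ with the same n and with
values c, c' of c congruent modulo m (so both lie in the same ℤ × ℤ/m-weight piece for the weights
(1,0), (−p,−1), (q,1)). Then: (i) if c = c', the difference of the two monomials lies in the
principal ideal (X₀^(q−p) − X₁X₂); (ii) if c' < c, the monomial X₀^d₀X₁^d₁X₂^d₂ lies in the ideal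
(X₀^(q−p) − X₁X₂, X₀^(mp)X₁^m); (iii) in all cases the difference lies in the ideal (X₀^(q−p) −
X₁X₂, 1 − X₀^(mp)X₁^m). -/
theorem result (k : Type u) [Field k] (p q m : ℕ) (hp : 0 < p) (hpq : p < q) (hcop : Nat.Coprime p q) (hm : 0 < m)
    (d0 d1 d2 e0 e1 e2 : ℕ) (hn : (e0 : ℤ) - (p : ℤ) * e1 + (q : ℤ) * e2 = (d0 : ℤ) - (p : ℤ) * d1 + (q : ℤ) * d2)
    (hc : (m : ℤ) ∣ ((d1 : ℤ) - d2) - ((e1 : ℤ) - e2)) :
    ((d1 : ℤ) - d2 = (e1 : ℤ) - e2 →
      (MvPolynomial.X (0 : Fin 3) ^ d0 * MvPolynomial.X (1 : Fin 3) ^ d1 * MvPolynomial.X (2 : Fin 3) ^ d2 - MvPolynomial.X (0 : Fin 3) ^ e0 * MvPolynomial.X (1 : Fin 3) ^ e1 * MvPolynomial.X (2 : Fin 3) ^ e2 : MvPolynomial (Fin 3) k) ∈ Ideal.span {MvPolynomial.X (0 : Fin 3) ^ (q - p) - MvPolynomial.X (1 : Fin 3) * MvPolynomial.X (2 : Fin 3)}) ∧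
    ((e1 : ℤ) - e2 < (d1 : ℤ) - d2 →
      (MvPolynomial.X (0 : Fin 3) ^ d0 * MvPolynomial.X (1 : Fin 3) ^ d1 * MvPolynomial.X (2 : Fin 3) ^ d2 : MvPolynomial (Fin 3) k) ∈ Ideal.span {MvPolynomial.X (0 : Fin 3) ^ (q - p) - MvPolynomial.X (1 : Fin 3) * MvPolynomial.X (2 : Fin 3), MvPolynomial.X (0 : Fin 3) ^ (m * p) * MvPolynomial.X (1 : Fin 3) ^ m}) ∧
    ((MvPolynomial.X (0 : Fin 3) ^ d0 * MvPolynomial.X (1 : Fin 3) ^ d1 * MvPolynomial.X (2 : Fin 3) ^ d2 - MvPolynomial.X (0 : Fin 3) ^ e0 * MvPolynomial.X (1 : Fin 3) ^ e1 * MvPolynomial.X (2 : Fin 3) ^ e2 : MvPolynomial (Fin 3) k) ∈ Ideal.span {MvPolynomial.X (0 : Fin 3) ^ (q - p) - MvPolynomial.X (1 : Fin 3) * MvPolynomial.X (2 : Fin 3), 1 - MvPolynomial.X (0 : Fin 3) ^ (m * p) * MvPolynomial.X (1 : Fin 3) ^ m}) := by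
  have hmem : (X (0 : Fin 3) ^ (q - p) - X 1 * X 2 : MvPolynomial (Fin 3) k) ∈
      Ideal.span {X (0 : Fin 3) ^ (q - p) - X 1 * X 2} := Ideal.subset_span rfl
  obtain ⟨x, hx⟩ := hc
  refine ⟨fun h => Congr.congr_same hpq.le hmem d0 d1 d2 e0 e1 e2 hn h, fun h => ?_, ?_⟩
  · have hx0 : 0 < x := pos_of_mul_pos_right (a := (m : ℤ)) (by linarith) (by positivity)
    obtain ⟨k', rfl⟩ := Int.eq_ofNat_of_zero_le hx0.le
    set I := Ideal.span {X (0 : Fin 3) ^ (q - p) - X 1 * X 2,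
      (X (0 : Fin 3) ^ (m * p) * X 1 ^ m : MvPolynomial (Fin 3) k)} with hI
    have h1 := Congr.congr_shift (I := I) hpq.le (Ideal.subset_span (Set.mem_insert _ _)) m k' d0 d1 d2 e0 e1 e2 hn
      (by linarith)
    have hv : (X (0 : Fin 3) ^ (m * p) * X 1 ^ m : MvPolynomial (Fin 3) k) ∈ I :=
      Ideal.subset_span (Set.mem_insert_of_mem _ (Set.mem_singleton _))
    have h2 := Ideal.pow_mem_of_mem I hv k' (by omega)
    have h4 := I.add_mem h1 (I.mul_mem_left (X 0 ^ e0 * X 1 ^ e1 * X 2 ^ e2) h2)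
    rwa [sub_add_cancel] at h4
  · set I := Ideal.span {X (0 : Fin 3) ^ (q - p) - X 1 * X 2,
      (1 : MvPolynomial (Fin 3) k) - X (0 : Fin 3) ^ (m * p) * X 1 ^ m} with hI
    have hu : (1 : MvPolynomial (Fin 3) k) - X (0 : Fin 3) ^ (m * p) * X 1 ^ m ∈ I :=
      Ideal.subset_span (Set.mem_insert_of_mem _ rfl)
    rcases le_total 0 x with hx0 | hx0
    · obtain ⟨k', rfl⟩ := Int.eq_ofNat_of_zero_le hx0
      have h1 := Congr.congr_shift (I := I) hpq.le (Ideal.subset_span (Set.mem_insert _ _)) m k' d0 d1 d2 e0 e1 e2 hn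
        (by linarith)
      have h2 := I.mul_mem_left (X 0 ^ e0 * X 1 ^ e1 * X 2 ^ e2) (Congr.pow_sub_pow_mem hu k')
      convert I.sub_mem h1 h2 using 1
      ring
    · obtain ⟨k', hk'⟩ := Int.eq_ofNat_of_zero_le (neg_nonneg.2 hx0)
      have h1 := Congr.congr_shift (I := I) hpq.le (Ideal.subset_span (Set.mem_insert _ _)) m k' e0 e1 e2 d0 d1 d2
        hn.symm (by rw [← hk']; linarith)
      have h2 := I.mul_mem_left (X 0 ^ d0 * X 1 ^ d1 * X 2 ^ d2) (Congr.pow_sub_pow_mem hu k')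
      convert I.sub_mem h2 h1 using 1
      ring

end Groth.Agent.S15738
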