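import Groth.Statements.S15739
import Groth.Agent.HJ84.Congr
-- import your own Groth.Agent.* helpers here

set_option autoImplicit false
universe u
open W4c2invhilbsl2

namespace Groth.Agent.S15739
open Groth.Agent.HJ84 Groth.Agent.HJ84.Mono MvPolynomial

/-- Let k be a field and m ≥ 1, put g = gcd(m, q−p), a = m/g and b = (q−p)/g; for a monomial
X₀^d₀X₁^d₁X₂^d₂ of the polynomial ring in X₀, X₁, X₂ (X₂ standing for Xⱼ, j = 3 or 4, of the
five-variable ring) put n = d₀ − p·d₁ + q·d₂ (its weight for the torus diag(t, t^(−p), t^q)), c = d₁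
− d₂ and ω = p·d₁ − q·d₂, so that d₀ = n + ω; here 0 < p < q are coprime integers. Take two
monomials X₀^d₀X₁^d₁X₂^d₂ and X₀^e₀X₁^e₁X₂^e₂ with the same n, where 0 ≤ n < q − p, whose values c
and c' of c are both divisible by m, and with d₀ < g and e₀ < g (so each has the least ω for its
pair (n, c), as g ≤ q − p). Then: (i) d₀ = e₀, i.e. the two values of ω agree, and m·b divides c −
c'; (ii) if c < c', then X₀^e₀X₁^e₁X₂^e₂ is a multiple of X₀^d₀X₁^d₁X₂^d₂ · X₁^(aq)X₂^(ap); (iii)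
the difference of the two monomials lies in the principal ideal (1 − X₁^(aq)X₂^(ap)). -/
theorem result (k : Type u) [Field k] (p q m : ℕ) (hp : 0 < p) (hpq : p < q) (hcop : Nat.Coprime p q) (hm : 0 < m)
    (d0 d1 d2 e0 e1 e2 : ℕ) (hn : (e0 : ℤ) - (p : ℤ) * e1 + (q : ℤ) * e2 = (d0 : ℤ) - (p : ℤ) * d1 + (q : ℤ) * d2)
    (hn0 : 0 ≤ (d0 : ℤ) - (p : ℤ) * d1 + (q : ℤ) * d2) (hnq : (d0 : ℤ) - (p : ℤ) * d1 + (q : ℤ) * d2 < (q : ℤ) - p)
    (hcd : (m : ℤ) ∣ (d1 : ℤ) - d2) (hce : (m : ℤ) ∣ (e1 : ℤ) - e2)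
    (hd0 : d0 < Nat.gcd m (q - p)) (he0 : e0 < Nat.gcd m (q - p)) :
    (d0 = e0 ∧ ((m : ℤ) * ((q - p) / Nat.gcd m (q - p) : ℕ)) ∣ ((d1 : ℤ) - d2) - ((e1 : ℤ) - e2)) ∧
    ((d1 : ℤ) - d2 < (e1 : ℤ) - e2 →
      (MvPolynomial.X (0 : Fin 3) ^ d0 * MvPolynomial.X (1 : Fin 3) ^ d1 * MvPolynomial.X (2 : Fin 3) ^ d2 * (MvPolynomial.X (1 : Fin 3) ^ (m / Nat.gcd m (q - p) * q) * MvPolynomial.X (2 : Fin 3) ^ (m / Nat.gcd m (q - p) * p)) : MvPolynomial (Fin 3) k) ∣ MvPolynomial.X (0 : Fin 3) ^ e0 * MvPolynomial.X (1 : Fin 3) ^ e1 * MvPolynomial.X (2 : Fin 3) ^ e2) ∧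
    ((MvPolynomial.X (0 : Fin 3) ^ e0 * MvPolynomial.X (1 : Fin 3) ^ e1 * MvPolynomial.X (2 : Fin 3) ^ e2 - MvPolynomial.X (0 : Fin 3) ^ d0 * MvPolynomial.X (1 : Fin 3) ^ d1 * MvPolynomial.X (2 : Fin 3) ^ d2 : MvPolynomial (Fin 3) k) ∈
      Ideal.span {(1 : MvPolynomial (Fin 3) k) - MvPolynomial.X (1 : Fin 3) ^ (m / Nat.gcd m (q - p) * q) * MvPolynomial.X (2 : Fin 3) ^ (m / Nat.gcd m (q - p) * p)}) := by
  obtain ⟨h0, j, h1, h2, h3⟩ := Congr.small_d0 hpq hcop hm d0 d1 d2 e0 e1 e2 hn (hcd.sub hce) hd0 he0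
  subst h0
  refine ⟨⟨rfl, ⟨-j, by rw [h3]; ring⟩⟩, fun h => ?_, ?_⟩
  · set A := m / Nat.gcd m (q - p) * q
    set B := m / Nat.gcd m (q - p) * p
    have hj : 1 ≤ j := by
      by_contra hcon
      push Not at hcon
      have : (m : ℤ) * ((q - p) / Nat.gcd m (q - p) : ℕ) * j ≤ 0 :=
        mul_nonpos_of_nonneg_of_nonpos (by positivity) (by omega)
      linarith
    obtain ⟨j', rfl⟩ : ∃ j' : ℕ, j = j' + 1 := ⟨(j - 1).toNat, by omega⟩
    rw [show e1 = d1 + A + A * j' by zify; linear_combination h1,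
      show e2 = d2 + B + B * j' by zify; linear_combination h2]
    exact ⟨X 1 ^ (A * j') * X 2 ^ (B * j'), by ring⟩
  · set A := m / Nat.gcd m (q - p) * q
    set B := m / Nat.gcd m (q - p) * p
    set I := Ideal.span {(1 : MvPolynomial (Fin 3) k) - X (1 : Fin 3) ^ A * X (2 : Fin 3) ^ B}
    have hu : (1 : MvPolynomial (Fin 3) k) - X (1 : Fin 3) ^ A * X (2 : Fin 3) ^ B ∈ I := Ideal.subset_span rfl
    rcases le_total 0 j with hj | hj
    · obtain ⟨j', rfl⟩ := Int.eq_ofNat_of_zero_le hj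
      rw [show e1 = d1 + A * j' by zify; linear_combination h1,
        show e2 = d2 + B * j' by zify; linear_combination h2]
      convert I.mul_mem_left (-(X 0 ^ d0 * X 1 ^ d1 * X 2 ^ d2)) (Congr.pow_sub_pow_mem hu j') using 1
      ring
    · obtain ⟨j', hj'⟩ := Int.eq_ofNat_of_zero_le (neg_nonneg.2 hj)
      rw [show d1 = e1 + A * j' by zify; linear_combination (-1:ℤ) * h1 + (A:ℤ) * hj',
        show d2 = e2 + B * j' by zify; linear_combination (-1:ℤ) * h2 + (B:ℤ) * hj']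
      convert I.mul_mem_left (X 0 ^ d0 * X 1 ^ e1 * X 2 ^ e2) (Congr.pow_sub_pow_mem hu j') using 1
      ring

end Groth.Agent.S15739
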