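import Groth.Statements.S1574
import Groth.Agent.S5161
-- import your own Groth.Agent.* helpers here

set_option autoImplicit false
set_option linter.style.haveILetI false
universe u
open CategoryTheory CategoryTheory.Limits AlgebraicGeometry
open Divisors

namespace Groth.Agent.S1574

/-- For a Noetherian local ring A, the punctured spectrum (Spec A minus the closed point, as an open
subscheme) is affine if and only if dim A ≤ 1. -/
theorem result (A : Type u) [CommRing A] [IsLocalRing A] [IsNoetherianRing A] :
    IsAffine (FEt.puncturedSpec A : Scheme.{u}) ↔ ringKrullDim A ≤ 1 := by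
  constructor
  · intro h
    have hle : (IsLocalRing.maximalIdeal A).height ≤ 1 :=
      S5161.result A (FEt.puncturedSpec A) h (IsLocalRing.closedPoint A) (fun h' => h' rfl)
        fun q _ hq => of_not_not hq
    rw [← IsLocalRing.maximalIdeal_height_eq_ringKrullDim]
    exact_mod_cast hle
  · intro hd
    classical
    have hmin : ∀ q : PrimeSpectrum A, q ≠ IsLocalRing.closedPoint A → q.asIdeal ∈ minimalPrimes A := by
      intro q hq
      haveI : FiniteRingKrullDim A := inferInstance
      have hlt : q.asIdeal < IsLocalRing.maximalIdeal A := lt_of_le_of_ne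
        (IsLocalRing.le_maximalIdeal q.isPrime.ne_top) fun e => hq (PrimeSpectrum.ext e)
      have h1 := Ideal.height_strict_mono_of_isPrime_of_isPrime hlt
      have h2 : (IsLocalRing.maximalIdeal A).height ≤ 1 := by
        rw [← IsLocalRing.maximalIdeal_height_eq_ringKrullDim] at hd
        exact_mod_cast hd
      exact Ideal.height_eq_zero_iff.mp (Order.lt_one_iff.mp (h1.trans_le h2))
    by_cases hm : IsLocalRing.maximalIdeal A ∈ minimalPrimes A
    · have he : FEt.puncturedSpec A = ⊥ := by
        refine TopologicalSpace.Opens.ext (Set.eq_empty_iff_forall_notMem.mpr fun q hq => hq ?_)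
        exact PrimeSpectrum.ext (le_antisymm (IsLocalRing.le_maximalIdeal q.isPrime.ne_top)
          (hm.2 ⟨q.isPrime, bot_le⟩ (IsLocalRing.le_maximalIdeal q.isPrime.ne_top)))
      rw [he]
      exact isAffineOpen_bot _
    · obtain ⟨f, hfm, hf⟩ : ∃ f ∈ IsLocalRing.maximalIdeal A, ∀ P ∈ minimalPrimes A, f ∉ P := by
        by_contra hcon
        push Not at hcon
        have hfin := (⊥ : Ideal A).finite_minimalPrimes_of_isNoetherianRing A
        obtain ⟨P, hP, hle⟩ := (Ideal.subset_union_prime ⊥ ⊥ (s := hfin.toFinset) (f := id)
          (fun i hi _ _ => (hfin.mem_toFinset.mp hi).1.1)).mp (fun a ha => by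
            obtain ⟨P, hP, haP⟩ := hcon a ha
            exact Set.mem_iUnion₂.mpr ⟨P, hfin.mem_toFinset.mpr hP, haP⟩)
        have hP' := hfin.mem_toFinset.mp hP
        exact hm ((IsLocalRing.maximalIdeal.isMaximal A).eq_of_le hP'.1.1.ne_top hle ▸ hP')
      have he : FEt.puncturedSpec A = PrimeSpectrum.basicOpen f := by
        refine TopologicalSpace.Opens.ext (Set.ext fun q => ⟨fun hq => hf _ (hmin q hq), fun hq e => hq ?_⟩)
        rw [show q = IsLocalRing.closedPoint A from e]
        exact hfm
      rw [he]
      exact IsAffineOpen.Spec_basicOpen (R := CommRingCat.of A) f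

end Groth.Agent.S1574
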