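import Groth.Statements.S15741
import Groth.Agent.Omega.DiagUniv
import Groth.Agent.Omega.Chart
-- import your own Groth.Agent.* helpers here

set_option autoImplicit false
universe u
open CategoryTheory AlgebraicGeometry
open Mor

namespace Groth.Agent.S15741
set_option backward.isDefEq.respectTransparency.types false
open Groth.Agent.Omega OmegaSh Opposite

/-- For a quasi-separated morphism of schemes `f : X ⟶ Y` and affine opens `U ⊆ X`, `V ⊆ Y` with `U ≤
f⁻¹ V`, the canonical `Γ(X, U)`-linear map from the module of Kähler differentials of the ring `Γ(X,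
U)` over `Γ(Y, V)` to the sections over `U` of the sheaf of relative differentials of `f` — the map
sending `d b` to `d_{X/Y} b` — is an isomorphism. (Quasi-separatedness of `f` is the standing
hypothesis under which the sheaf of relative differentials is named in this library; the published
statement is for an arbitrary morphism of schemes.) -/
theorem result (X Y : Scheme.{u}) (f : X ⟶ Y) [QuasiSeparated f]
    (U : X.affineOpens) (V : Y.affineOpens) (h : U.1 ≤ f ⁻¹ᵁ V.1) :
    IsIso (OmAff.toSect f V.1 U.1 h) := by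
  obtain ⟨U, hU⟩ := U
  obtain ⟨V, hV⟩ := V
  dsimp only
  algebraize [(f.appLE V U h).hom]
  obtain ⟨e, he⟩ := Chart.exists_iso_tilde (Chart.fromSpec_comp f hV hU h).symm
    (DiagUniv.isUniversal_dOmega f)
  have hU' : U = hU.fromSpec ''ᵁ ⊤ := by
    rw [Scheme.Hom.image_top_eq_opensRange, IsAffineOpen.opensRange_fromSpec]
  let r : Γ(Omega.sheaf f, hU.fromSpec ''ᵁ ⊤) ⟶ Γ(Omega.sheaf f, U) :=
    (Omega.sheaf f).presheaf.map (eqToHom hU').op
  let L : Ω[Γ(X, U)⁄Γ(Y, V)] → Γ(Omega.sheaf f, U) := fun m =>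
    r (e.hom.app ⊤ (SpecDer.sect Γ(Y, V) Γ(X, U) m))
  have hLb : Function.Bijective L :=
    ((ConcreteCategory.bijective_of_isIso r).comp
      (ConcreteCategory.bijective_of_isIso (e.hom.app ⊤))).comp (SpecDer.sect_bijective _ _)
  have hι : ∀ b : Γ(X, U), X.presheaf.map (eqToHom hU').op
      ((hU.fromSpec.appIso ⊤).inv (SpecDer.γ Γ(X, U) b)) = b := by
    intro b
    have hcomp : X.presheaf.map (eqToHom hU'.symm).op ≫ (hU.fromSpec.appIso ⊤).hom =
        (Scheme.ΓSpecIso Γ(X, U)).inv := by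
      rw [Scheme.Hom.appIso_hom, IsAffineOpen.fromSpec_app_of_le hU _ hU'.le]
      simp only [Category.assoc, ← Functor.map_comp, ← Functor.map_comp_assoc, ← op_comp]
      simp [Subsingleton.elim _ (𝟙 _), eqToHom_op]
    have : (Scheme.ΓSpecIso Γ(X, U)).inv ≫ (hU.fromSpec.appIso ⊤).inv ≫
        X.presheaf.map (eqToHom hU').op = 𝟙 _ := by
      rw [← hcomp]
      simp [← Functor.map_comp, ← op_comp]
    exact congr($this b)
  have hLD : ∀ b : Γ(X, U), L (KaehlerDifferential.D Γ(Y, V) Γ(X, U) b) = OmegaSh.dSect f U b := by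
    intro b
    show r (e.hom.app ⊤ (SpecDer.sect Γ(Y, V) Γ(X, U) _)) = _
    rw [he]
    show (Omega.sheaf f).presheaf.map (eqToHom hU').op
      ((dOmega f).app (hU.fromSpec ''ᵁ ⊤) ((hU.fromSpec.appIso ⊤).inv (SpecDer.γ Γ(X, U) b))) = _
    rw [← Basic.der_map, hι]
    rfl
  have hLsmul : ∀ (b : Γ(X, U)) (m : Ω[Γ(X, U)⁄Γ(Y, V)]), L (b • m) = b • L m := by
    intro b m
    show r (e.hom.app ⊤ (SpecDer.sect Γ(Y, V) Γ(X, U) (b • m))) = _
    rw [map_smul, SpecDer.smul_eq, Scheme.Modules.Hom.app_smul]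
    show (Omega.sheaf f).presheaf.map (eqToHom hU').op
      ((hU.fromSpec.appIso ⊤).inv (SpecDer.γ Γ(X, U) b) • _) = _
    rw [Scheme.Modules.map_smul, hι]
  let L' : CommRingCat.KaehlerDifferential (f.appLE V U h) ⟶ OmAff.sectMod (Omega.sheaf f) U :=
    ModuleCat.ofHom { toFun := L, map_add' := fun x y => ((congrArg r (by simp; rfl)).trans (map_add r.hom _ _) : _), map_smul' := hLsmul }
  have hL' : L' = OmAff.toSect f V U h := OmAff.toSect_unique f V U h L' hLD
  rw [← hL']
  exact (ConcreteCategory.isIso_iff_bijective L').mpr hLb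

end Groth.Agent.S15741
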