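import Groth.Statements.S15742
import Groth.Agent.Omega.DiagUniv
import Groth.Agent.Omega.Chart
-- import your own Groth.Agent.* helpers here

set_option autoImplicit false
universe u
open CategoryTheory AlgebraicGeometry
open Mor

namespace Groth.Agent.S15742

/-- For a commutative ring `A` and a commutative `A`-algebra `B`, the canonical map from the module of
Kähler differentials `Ω[B⁄A]` to the global sections of the sheaf of relative differentials of `Spec
B ⟶ Spec A`, semilinear along the identification of `B` with the ring of global functions on `Spec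
B` and sending `D b` to `d_{X/Y}` of the global function `b`, is bijective. -/
theorem result (A B : Type u) [CommRing A] [CommRing B] [Algebra A B] :
    Function.Bijective (OmAff.toSpec A B) := by
  obtain ⟨dt, hdt, hdt'⟩ := Groth.Agent.Omega.SpecDer.exists_isUniversal A B
  let e := Groth.Agent.Omega.Basic.uniqueIso hdt
    (Groth.Agent.Omega.DiagUniv.isUniversal_dOmega (Groth.Agent.Omega.SpecDer.π A B))
  let l : Ω[B⁄A] →ₛₗ[OmAff.toΓ B]
      Γ(Omega.sheaf (Spec.map (CommRingCat.ofHom (algebraMap A B))), ⊤) :=
    { toFun := fun m => e.hom.app ⊤ (Groth.Agent.Omega.SpecDer.sect A B m)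
      map_add' := fun x y => by simp
      map_smul' := fun b x => by
        rw [map_smul, Groth.Agent.Omega.SpecDer.smul_eq, Scheme.Modules.Hom.app_smul] }
  have hl : l = OmAff.toSpec A B := OmAff.toSpec_unique A B l fun b => by
    show e.hom.app ⊤ (Groth.Agent.Omega.SpecDer.sect A B (KaehlerDifferential.D A B b)) = _
    rw [← hdt', Groth.Agent.Omega.Basic.uniqueIso_hom_app]
    rfl
  rw [← hl]
  exact (ConcreteCategory.bijective_of_isIso (e.hom.app ⊤)).comp
    (Groth.Agent.Omega.SpecDer.sect_bijective A B)

end Groth.Agent.S15742
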