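import Groth.Statements.S15746
import Groth.Agent.UnitsThick.PicIso

set_option autoImplicit false
universe u
open CategoryTheory AlgebraicGeometry
open PicGrp

namespace Groth.Agent.S15746

/-- Let `X` be a scheme, and assume the Picard group law on `X` (isomorphism classes of invertible
`O_X`-modules under tensor product). Then the Picard group of `X`, written additively, is isomorphic
as a group to `H¹(X, O_X^×)`, the first cohomology group of the abelian sheaf of units on the
underlying topological space of `X`. (Existence of a group isomorphism only: the isomorphism sending
the class of an invertible module to the class of its torsor of local generators is not named here.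
The published statement is for any ringed space all of whose stalks are local rings; this row is its
case of a scheme.) -/
theorem result (X : Scheme.{u}) [PicGrp.Law X] :
    Nonempty (Additive (PicLoc.PicSet X) ≃+ CohTop.H (UnitsSh.unitsAb X) 1) := by
  exact ⟨(AddEquiv.ofBijective (Groth.Agent.PicUnits.psiX X) (Groth.Agent.PicUnits.psiX_bijective X)).symm⟩

end Groth.Agent.S15746
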