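import Groth.Statements.S15749
import Mathlib

set_option autoImplicit false
universe u
open CAlg

namespace Groth.Agent.S15749

theorem coeff_eq_zero_of_domain {D : Type*} [CommRing D] [IsDomain D] (f : LaurentSeries D)
    (hf : IsIdempotentElem f) {n : ℤ} (hn : n ≠ 0) : f.coeff n = 0 := by
  rcases IsIdempotentElem.iff_eq_zero_or_one.1 hf with rfl | rfl
  · simp
  · simp [HahnSeries.coeff_one, hn]

theorem coeff_mul_mem {R : Type*} [CommRing R] (J : Ideal R) {f g : LaurentSeries R} {n : ℤ}
    (h : ∀ i j, i + j = n → f.coeff i ∈ J ∨ g.coeff j ∈ J) : (f * g).coeff n ∈ J := by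
  rw [HahnSeries.coeff_mul]
  refine J.sum_mem fun ij hij => ?_
  have he : ij.1 + ij.2 = n := (Finset.mem_antidiagonal.1 hij).2.2
  rcases h _ _ he with h1 | h1
  · exact J.mul_mem_right _ h1
  · exact J.mul_mem_left _ h1

/-- For an arbitrary commutative ring R, every idempotent of the ring of formal Laurent series R((t)) is
the constant series attached to a unique idempotent of R. Equivalently, the structure map R → R((t))
induces a bijection on idempotents, so that the spectrum of R((t)) is connected if and only if the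
spectrum of R is. No reducedness is assumed. -/
theorem result (R : Type u) [CommRing R]
    (e : LaurentSeries R) (he : IsIdempotentElem e) :
    ∃! r : R, IsIdempotentElem r ∧ HahnSeries.C r = e := by
  classical
  have hnil : ∀ n : ℤ, n ≠ 0 → IsNilpotent (e.coeff n) := by
    intro n hn
    rw [nilpotent_iff_mem_prime]
    intro P hP
    have he' : IsIdempotentElem (e.map (Ideal.Quotient.mk P) : LaurentSeries (R ⧸ P)) := by
      have h := HahnSeries.map_mul (Ideal.Quotient.mk P).toNonUnitalRingHom (x := e) (y := e)
      rw [he.eq] at h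
      exact h.symm
    have := coeff_eq_zero_of_domain _ he' hn
    rw [HahnSeries.map_coeff] at this
    exact Ideal.Quotient.eq_zero_iff_mem.1 this
  have h0 : IsNilpotent ((e.coeff 0) * e.coeff 0 - e.coeff 0) := by
    rw [nilpotent_iff_mem_prime]
    intro P hP
    have he' : IsIdempotentElem (e.map (Ideal.Quotient.mk P) : LaurentSeries (R ⧸ P)) := by
      have h := HahnSeries.map_mul (Ideal.Quotient.mk P).toNonUnitalRingHom (x := e) (y := e)
      rw [he.eq] at h
      exact h.symm
    rw [← Ideal.Quotient.eq_zero_iff_mem, map_sub, map_mul]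
    have hc : (e.map (Ideal.Quotient.mk P) : LaurentSeries (R ⧸ P)).coeff 0 = Ideal.Quotient.mk P (e.coeff 0) 
      := rfl
    rcases IsIdempotentElem.iff_eq_zero_or_one.1 he' with h | h <;> rw [← hc, h] <;> simp [HahnSeries.coeff_one]
  obtain ⟨r, hr, hr'⟩ := exists_isIdempotentElem_eq_of_ker_isNilpotent (Ideal.Quotient.mk (nilradical R))
    (fun x hx => mem_nilradical.1 (Ideal.Quotient.eq_zero_iff_mem.1 hx)) (Ideal.Quotient.mk _ (e.coeff 0)) ⟨_, rfl⟩ (by
      show _ * _ = _
      rw [← map_mul, Ideal.Quotient.eq]
      exact mem_nilradical.2 h0)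
  suffices hCr : HahnSeries.C r = e from
    ⟨r, ⟨hr, hCr⟩, fun s hs => HahnSeries.C_injective (hs.2.trans hCr.symm)⟩
  set d := e - HahnSeries.C r
  have hd3 : d = d * (d * d) := by
    have hc : (HahnSeries.C r : LaurentSeries R) * HahnSeries.C r = HahnSeries.C r := by rw [← map_mul, hr.eq]
    simp only [d]
    linear_combination ((3 : LaurentSeries R) * HahnSeries.C r - 1 - e) * he.eq + (1 + HahnSeries.C r - (3 : LaurentSeries R) * e) * hc
  have hdnil : ∀ n, IsNilpotent (d.coeff n) := by
    intro n
    rcases eq_or_ne n 0 with rfl | hn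
    · simp only [d, HahnSeries.coeff_sub, HahnSeries.C_apply, HahnSeries.coeff_single_same]
      exact mem_nilradical.1 (Ideal.Quotient.eq.1 hr'.symm)
    · simp only [d, HahnSeries.coeff_sub, HahnSeries.C_apply, HahnSeries.coeff_single_of_ne hn, sub_zero]
      exact hnil n hn
  obtain ⟨N₀, hN₀⟩ : ∃ N₀ : ℤ, ∀ n < N₀, d.coeff n = 0 := ⟨d.order, fun n hn => HahnSeries.coeff_eq_zero_of_lt_order hn⟩
  let J : Ideal R := Ideal.span ((fun n => d.coeff n) '' (Set.Ico N₀ 0))
  have hJneg : ∀ n < 0, d.coeff n ∈ J := by
    intro n hn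
    rcases lt_or_ge n N₀ with h | h
    · rw [hN₀ n h]; exact J.zero_mem
    · exact Ideal.subset_span ⟨n, ⟨h, hn⟩, rfl⟩
  obtain ⟨K, hK⟩ : IsNilpotent J := by
    refine (Ideal.FG.isNilpotent_iff_le_nilradical (Submodule.fg_span ((Set.finite_Ico _ _).image _))).2 (Ideal.span_le.2 ?_)
    rintro _ ⟨n, -, rfl⟩
    exact mem_nilradical.2 (hdnil n)
  have hzero : d.coeff 0 ∈ J := by
    have hm : d.coeff 0 * (1 - d.coeff 0 * d.coeff 0) ∈ J := by
      have h1 : (d * (d * d)).coeff 0 - d.coeff 0 * (d.coeff 0 * d.coeff 0) ∈ J := by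
        let q : LaurentSeries (R ⧸ J) := d.map (Ideal.Quotient.mk J)
        have hq : ∀ n, q.coeff n = Ideal.Quotient.mk J (d.coeff n) := fun n => rfl
        have hmul : (d * (d * d)).map (Ideal.Quotient.mk J) = q * (q * q) := by
          rw [show (d * (d * d)).map (Ideal.Quotient.mk J) = _ from HahnSeries.map_mul (Ideal.Quotient.mk J).toNonUnitalRingHom]
          congr 1
          exact HahnSeries.map_mul (Ideal.Quotient.mk J).toNonUnitalRingHom
        obtain ⟨φ, hφ⟩ : ∃ φ : PowerSeries (R ⧸ J), HahnSeries.ofPowerSeries ℤ _ φ = q := by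
          refine ⟨PowerSeries.mk fun n : ℕ => q.coeff n, ?_⟩
          ext n
          rcases lt_or_ge n 0 with hn | hn
          · rw [hq, Ideal.Quotient.eq_zero_iff_mem.2 (hJneg n hn)]
            rw [HahnSeries.ofPowerSeries_apply]
            refine HahnSeries.embDomain_of_notMem_range ?_
            rintro ⟨m, rfl⟩
            simp at hn
            omega
          · obtain ⟨m, rfl⟩ := Int.eq_ofNat_of_zero_le hn
            simp
        have := congrArg (fun s => HahnSeries.coeff s (0 : ℤ)) hmul
        simp only [HahnSeries.map_coeff, ← hφ, ← map_mul] at this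
        rw [show (0 : ℤ) = ((0 : ℕ) : ℤ) from rfl, HahnSeries.ofPowerSeries_apply_coeff, PowerSeries.coeff_zero_eq_constantCoeff_apply, map_mul, map_mul,
          ← PowerSeries.coeff_zero_eq_constantCoeff_apply, ← HahnSeries.ofPowerSeries_apply_coeff (Γ := ℤ), hφ, hq] at this
        rw [← Ideal.Quotient.eq_zero_iff_mem, map_sub, map_mul, map_mul, sub_eq_zero]
        exact this
      rw [← hd3] at h1
      simpa [mul_sub, mul_one] using h1
    obtain ⟨u, hu⟩ := ((Commute.all _ _).isNilpotent_mul_left (hdnil 0) : IsNilpotent (d.coeff 0 * d.coeff 0)).isUnit_one_sub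
    rw [← hu] at hm
    exact (Ideal.mul_unit_mem_iff_mem J u.isUnit).1 hm
  have hall : ∀ n : ℤ, d.coeff n ∈ J := by
    have key : ∀ (m : ℕ) (n : ℤ), n < m → d.coeff n ∈ J := by
      intro m
      induction m with
      | zero => intro n hn; exact hJneg n (by simpa using hn)
      | succ m ih =>
        intro n hn
        rcases lt_or_ge n m with h | h
        · exact ih n h
        · rcases Nat.eq_zero_or_pos m with rfl | hm
          · obtain rfl : n = 0 := by omega
            exact hzero
          · rw [hd3]
            refine coeff_mul_mem J fun i j hij => ?_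
            rcases lt_or_ge i n with hi | hi
            · exact Or.inl (ih i (by omega))
            · refine Or.inr (coeff_mul_mem J fun a b hab => ?_)
              rcases lt_or_ge a m with ha | ha
              · exact Or.inl (ih a ha)
              · exact Or.inr (ih b (by omega))
    intro n
    exact key (n.toNat + 1) n (by omega)
  have hpow : ∀ (k : ℕ) (n : ℤ), d.coeff n ∈ J ^ k := by
    intro k
    induction k with
    | zero => simp
    | succ k ih =>
      intro n
      rw [hd3, HahnSeries.coeff_mul, pow_succ']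
      refine Ideal.sum_mem _ fun ij _ => Ideal.mul_mem_mul (hall _) ?_
      rw [HahnSeries.coeff_mul]
      exact Ideal.sum_mem _ fun p _ => Ideal.mul_mem_right _ _ (ih _)
  have : d = 0 := by
    ext n
    have h := hpow K n
    rw [hK] at h
    exact h
  exact (sub_eq_zero.1 this).symm

end Groth.Agent.S15749
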