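import Groth.Statements.S15750
import Mathlib

set_option autoImplicit false
universe u
open CAlg

namespace Groth.Agent.S15750

theorem key {R : Type u} [CommRing R] (f g : LaurentSeries R) (h : f * g = 1) (P : Ideal R) [P.IsPrime] :
    ∃ n : ℤ, f.coeff n * g.coeff (-n) - 1 ∈ P ∧ (∀ i < n, f.coeff i ∈ P) ∧
      (∀ j < -n, g.coeff j ∈ P) := by
  have nontriv : ∀ x y : LaurentSeries R, x * y = 1 → {i | x.coeff i ∉ P}.Nonempty := by
    intro x y hxy
    by_contra hne
    rw [Set.not_nonempty_iff_eq_empty, Set.eq_empty_iff_forall_notMem] at hne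
    have : (x * y).coeff 0 ∈ P := by
      rw [HahnSeries.coeff_mul]
      exact P.sum_mem fun ij _ => P.mul_mem_right _ (not_not.mp (hne ij.1))
    rw [hxy, HahnSeries.coeff_one, if_pos rfl] at this
    exact (Ideal.IsPrime.ne_top inferInstance) ((Ideal.eq_top_iff_one _).mpr this)
  have sub : ∀ x : LaurentSeries R, {i | x.coeff i ∉ P} ⊆ x.support :=
    fun x i hi h0 => hi (h0 ▸ P.zero_mem)
  have wf := f.isWF_support.mono (sub f)
  have wg := g.isWF_support.mono (sub g)
  have nf := nontriv f g h
  have ng := nontriv g f (by rw [mul_comm, h])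
  let n := wf.min nf
  let m := wg.min ng
  have hn : f.coeff n ∉ P := wf.min_mem nf
  have hm : g.coeff m ∉ P := wg.min_mem ng
  have ln : ∀ i < n, f.coeff i ∈ P := fun i hi => by
    by_contra hc; exact absurd (wf.min_le nf hc) (not_le.mpr hi)
  have lm : ∀ i < m, g.coeff i ∈ P := fun i hi => by
    by_contra hc; exact absurd (wg.min_le ng hc) (not_le.mpr hi)
  have key : Ideal.Quotient.mk P ((f * g).coeff (n + m)) =
      Ideal.Quotient.mk P (f.coeff n * g.coeff m) := by
    rw [HahnSeries.coeff_mul, map_sum]
    refine Finset.sum_eq_single (n, m) ?_ ?_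
    · rintro ⟨i, j⟩ hij hne
      rw [Ideal.Quotient.eq_zero_iff_mem]
      have hs : i + j = n + m := (Finset.mem_addAntidiagonal.mp hij).2.2
      rcases lt_trichotomy i n with hi | hi | hi
      · exact P.mul_mem_right _ (ln i hi)
      · subst hi; exact absurd (by simp only [add_right_inj] at hs; rw [hs]) hne
      · exact P.mul_mem_left _ (lm j (by omega))
    · intro hnot
      exfalso
      exact hnot (Finset.mem_addAntidiagonal.mpr ⟨sub f hn, sub g hm, rfl⟩)
  have hzero : n + m = 0 := by
    by_contra hne
    rw [h, HahnSeries.coeff_one, if_neg hne, map_zero, eq_comm, Ideal.Quotient.eq_zero_iff_mem] at key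
    exact (Ideal.IsPrime.mem_or_mem inferInstance key).elim hn hm
  have hm' : m = -n := by omega
  refine ⟨n, ?_, ln, fun j hj => lm j (hm' ▸ hj)⟩
  rw [h, HahnSeries.coeff_one, if_pos hzero, hm', eq_comm, Ideal.Quotient.eq] at key
  exact key

theorem exists_order {R : Type u} [CommRing R] [IsReduced R] [Nontrivial R]
    (hconn : ∀ e : R, IsIdempotentElem e → e = 0 ∨ e = 1) (f g : LaurentSeries R) (h : f * g = 1) :
    ∃ n : ℤ, IsUnit (f.coeff n) ∧ ∀ i < n, f.coeff i = 0 := by
  have mod : ∀ (n : ℤ) (P : Ideal R) [P.IsPrime],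
      f.coeff n * g.coeff (-n) ∈ P ∨ f.coeff n * g.coeff (-n) - 1 ∈ P := by
    intro n P _
    obtain ⟨m, h1, h2, h3⟩ := key f g h P
    rcases lt_trichotomy n m with hlt | rfl | hgt
    · exact Or.inl (P.mul_mem_right _ (h2 n hlt))
    · exact Or.inr h1
    · exact Or.inl (P.mul_mem_left _ (h3 _ (by omega)))
  have idem : ∀ n : ℤ, f.coeff n * g.coeff (-n) = 0 ∨ f.coeff n * g.coeff (-n) = 1 := by
    intro n
    apply hconn
    show _ * _ = _
    rw [← sub_eq_zero]
    apply IsNilpotent.eq_zero
    rw [nilpotent_iff_mem_prime]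
    intro P hP
    rw [show ∀ e : R, e * e - e = e * (e - 1) from fun e => by ring]
    rcases mod n P with h' | h'
    · exact P.mul_mem_right _ h'
    · exact P.mul_mem_left _ h'
  obtain ⟨P, hP⟩ := Ideal.exists_maximal R
  obtain ⟨n, hn, -, -⟩ := key f g h P
  have h1 : f.coeff n * g.coeff (-n) = 1 := by
    refine (idem n).resolve_left fun h0 => hP.ne_top ((Ideal.eq_top_iff_one _).mpr ?_)
    rw [h0, zero_sub] at hn
    simpa using hn
  refine ⟨n, IsUnit.of_mul_eq_one _ h1, fun i hi => ?_⟩
  refine IsNilpotent.eq_zero (nilpotent_iff_mem_prime.mpr fun Q hQ => ?_)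
  obtain ⟨m, hm1, hm2, hm3⟩ := key f g h Q
  rcases lt_trichotomy n m with hlt | rfl | hgt
  · exact absurd ((Ideal.eq_top_iff_one _).mpr (h1 ▸ Q.mul_mem_right (g.coeff (-n)) (hm2 n hlt))) hQ.ne_top
  · exact hm2 i hi
  · exact absurd ((Ideal.eq_top_iff_one _).mpr (h1 ▸ Q.mul_mem_left (f.coeff n) (hm3 (-n) (by omega)))) hQ.ne_top

theorem coeff_shift {R : Type u} [CommRing R] (n i : ℤ) (x : LaurentSeries R) :
    (HahnSeries.single n (1 : R) * x).coeff i = x.coeff (i - n) := by
  rw [HahnSeries.coeff_single_mul, one_mul]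

/-- Let R be a nonzero reduced commutative ring with no idempotents other than 0 and 1. Then every unit
of the Laurent series ring R((t)) is t^n · u for a unique integer n and a unique unit u of the power
series ring R[[t]]. (The published statement is for an arbitrary torus T over a reduced ring R, with
n replaced by a locally constant integer-valued function on Spec R, i.e. a point of the cocharacter
lattice; this row is the case where T is the multiplicative group and Spec R is connected, to which
the published proof reduces.) -/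
theorem result (R : Type u) [CommRing R]
    [IsReduced R] [Nontrivial R] (hconn : ∀ e : R, IsIdempotentElem e → e = 0 ∨ e = 1)
    (f : (LaurentSeries R)ˣ) :
    ∃! p : ℤ × (PowerSeries R)ˣ,
      (f : LaurentSeries R) = HahnSeries.single p.1 (1 : R) * HahnSeries.ofPowerSeries ℤ R (p.2 : PowerSeries R) := by
  obtain ⟨n, hu, hz⟩ := exists_order hconn (f : LaurentSeries R) _ f.mul_inv
  let v : PowerSeries R := PowerSeries.mk fun k => (f : LaurentSeries R).coeff (n + k)
  have hv : IsUnit v := by
    rw [PowerSeries.isUnit_iff_constantCoeff, ← PowerSeries.coeff_zero_eq_constantCoeff_apply]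
    simpa [v] using hu
  have hf : (f : LaurentSeries R) =
      HahnSeries.single n (1 : R) * HahnSeries.ofPowerSeries ℤ R v := by
    ext i
    rw [coeff_shift]
    change _ = (v : LaurentSeries R).coeff (i - n)
    rw [PowerSeries.coeff_coe]
    split_ifs with hlt
    · exact hz i (by omega)
    · simp only [v, PowerSeries.coeff_mk]
      congr 1
      omega
  refine ⟨(n, hv.unit), hf, ?_⟩
  rintro ⟨m, u⟩ hmu
  have low : ∀ (a : ℤ) (w : (PowerSeries R)ˣ), (f : LaurentSeries R) =
      HahnSeries.single a (1 : R) * HahnSeries.ofPowerSeries ℤ R (w : PowerSeries R) →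
      (∀ i < a, (f : LaurentSeries R).coeff i = 0) ∧ (f : LaurentSeries R).coeff a ≠ 0 := by
    intro a w hw
    constructor
    · intro i hi
      rw [hw, coeff_shift]
      change ((w : PowerSeries R) : LaurentSeries R).coeff (i - a) = 0
      rw [PowerSeries.coeff_coe, if_pos (by omega)]
    · rw [hw, coeff_shift]
      change ((w : PowerSeries R) : LaurentSeries R).coeff (a - a) ≠ 0
      rw [PowerSeries.coeff_coe, sub_self, if_neg (lt_irrefl 0), Int.natAbs_zero,
        PowerSeries.coeff_zero_eq_constantCoeff_apply]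
      exact ((PowerSeries.isUnit_iff_constantCoeff).mp w.isUnit).ne_zero
  obtain ⟨hm1, hm2⟩ := low m u hmu
  obtain ⟨hn1, hn2⟩ := low n hv.unit hf
  have hmn : m = n := by
    rcases lt_trichotomy m n with hlt | he | hgt
    · exact absurd (hn1 m hlt) hm2
    · exact he
    · exact absurd (hm1 n hgt) hn2
  subst hmn
  simp only [Prod.mk.injEq, true_and]
  apply Units.ext
  apply HahnSeries.ofPowerSeries_injective (Γ := ℤ)
  ext i
  have := congrArg (fun x : LaurentSeries R => x.coeff (i + m)) (hmu.symm.trans hf)
  simpa only [coeff_shift, add_sub_cancel_right, IsUnit.unit_spec] using this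

end Groth.Agent.S15750
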