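import Groth.Statements.S15773
import Groth.Agent.CAlg.PairWeierstrass

set_option autoImplicit false
universe u
open Polynomial
open CAlg

namespace Groth.Agent.S15773

open Polynomial IsLocalRing in
theorem exists_hom_adjoinRoot {R : Type u} [CommRing R] [HenselianLocalRing R] {B : Type u} [CommRing B]
    [Algebra R[X] B] (hB : Hens2.IsPairHenselization R[X] (Ideal.span {(X : R[X])}) B)
    {P : R[X]} (hP : P.Monic) (hc : ∀ i < P.natDegree, P.coeff i ∈ maximalIdeal R) :
    ∃ g : B →+* AdjoinRoot P, ∀ q, g (algebraMap R[X] B q) = AdjoinRoot.mk P q := by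
  haveI : Module.Finite R (AdjoinRoot P) := (AdjoinRoot.powerBasis' hP).finite
  haveI : HenselianRing (AdjoinRoot P) ((maximalIdeal R).map (algebraMap R (AdjoinRoot P))) :=
    Groth.Agent.Hensel.henselianRing_of_isIntegral _
  have hJ : (Ideal.span {(X : R[X])}).map (AdjoinRoot.mk P) ≤ ((maximalIdeal R).map (algebraMap R (AdjoinRoot P))).radical := by
    rw [Ideal.map_span, Set.image_singleton, AdjoinRoot.mk_X, Ideal.span_singleton_le_iff_mem]
    refine ⟨P.natDegree, ?_⟩
    have h0 : aeval (AdjoinRoot.root P) P = 0 := by rw [AdjoinRoot.aeval_eq, AdjoinRoot.mk_self]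
    rw [aeval_eq_sum_range, Finset.sum_range_succ, hP.coeff_natDegree, one_smul] at h0
    rw [eq_neg_of_add_eq_zero_right h0]
    exact neg_mem (sum_mem fun i hi => by
      rw [Algebra.smul_def]; exact Ideal.mul_mem_right _ _ (Ideal.mem_map_of_mem _ (hc i (Finset.mem_range.1 hi))))
  obtain ⟨g, hg, -⟩ := hB.2 (AdjoinRoot P) _ (AdjoinRoot.mk P) (Groth.Agent.Hensel.henselianRing_of_radical_eq hJ) le_rfl
  exact ⟨g, fun q => RingHom.congr_fun hg q⟩

open Polynomial IsLocalRing in
theorem part1 (R : Type u) [CommRing R] [HenselianLocalRing R] {B : Type u} [CommRing B] [Algebra R B] [Algebra R[X] B] [IsScalarTower R R[X] B]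
    (hB : Hens2.IsPairHenselization R[X] (Ideal.span {(X : R[X])}) B)
    (L : Type u) [CommRing L] [Algebra B L] [IsLocalization.Away (algebraMap R[X] B X) L]
    [Algebra R L] [IsScalarTower R B L]
    (ψ : R[X] →ₐ[R] L) (hψ : ψ X * algebraMap B L (algebraMap R[X] B X) = 1)
    (I : Ideal R[X]) (hI : I ⊔ (maximalIdeal R).map (algebraMap R R[X]) = ⊤) :
    (I.map ψ.toRingHom).comap ψ.toRingHom = I ∧
      Function.Bijective (Ideal.quotientMap (I.map ψ.toRingHom) ψ.toRingHom Ideal.le_comap_map) := by
  classical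
  obtain ⟨g, hg, b, hb, hgb⟩ := Submodule.mem_sup.1 (hI ▸ Submodule.mem_top : (1 : R[X]) ∈ _)
  rw [Polynomial.algebraMap_eq, Ideal.mem_map_C_iff] at hb
  have hgc : ∀ i, g.coeff i = (if i = 0 then 1 else 0) - b.coeff i := fun i => by
    rw [← coeff_one, ← hgb, coeff_add, add_sub_cancel_right]
  have hg0 : IsUnit (g.coeff 0) := by
    rw [← residue_ne_zero_iff_isUnit, hgc, if_pos rfl, map_sub, (residue_eq_zero_iff _).2 (hb 0), map_one, sub_zero]
    exact one_ne_zero
  set π : R[X] →ₐ[R] R[X] ⧸ I := Ideal.Quotient.mkₐ R I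
  have hσ : IsUnit (π X) := by
    have h1 := congrArg π (X_mul_divX_add g)
    rw [map_add, map_mul, show π g = 0 from Ideal.Quotient.eq_zero_iff_mem.2 hg] at h1
    have h2 : IsUnit (π X * π (divX g)) := by
      rw [eq_neg_of_add_eq_zero_left h1]
      exact ((hg0.map C).map π).neg
    exact isUnit_of_mul_isUnit_left h2
  letI := hσ.invertible
  set G : R[X] := C (↑hg0.unit⁻¹ : R) * g.reverse
  have hgne : g ≠ 0 := fun h => by simp [h] at hg0
  have htd : g.natTrailingDegree = 0 := natTrailingDegree_eq_zero.2 (Or.inr hg0.ne_zero)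
  have hlead : g.reverse.leadingCoeff = g.coeff 0 := by
    rw [reverse_leadingCoeff, trailingCoeff, htd]
  have hdeg : g.reverse.natDegree = g.natDegree := by rw [reverse_natDegree, htd, Nat.sub_zero]
  have hGm : G.Monic := monic_C_mul_of_mul_leadingCoeff_eq_one (by rw [hlead]; exact hg0.val_inv_mul)
  have hGd : G.natDegree = g.natDegree := by
    rw [natDegree_C_mul_of_mul_ne_zero (by rw [hlead, hg0.val_inv_mul]; exact one_ne_zero), hdeg]
  have hGc : ∀ i < G.natDegree, G.coeff i ∈ maximalIdeal R := by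
    intro i hi
    rw [hGd] at hi
    rw [coeff_C_mul, coeff_reverse, revAt_le hi.le]
    refine Ideal.mul_mem_left _ _ ?_
    rw [hgc, if_neg (by omega), zero_sub]
    exact neg_mem (hb _)
  have hGτ : aeval (⅟(π X)) G = 0 := by
    have h := eval₂_reflect_mul_pow (algebraMap R (R[X] ⧸ I)) (π X) g.natDegree g le_rfl
    rw [← aeval_def, ← aeval_def, aeval_algHom_apply π X g, aeval_X_left_apply,
      show π g = 0 from Ideal.Quotient.eq_zero_iff_mem.2 hg] at h
    rw [map_mul, show g.reverse = reflect g.natDegree g from rfl, (hσ.pow g.natDegree).mul_left_eq_zero.1 h, mul_zero]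
  let θ₀ : R[X] →ₐ[R] R[X] ⧸ I := aeval (⅟(π X))
  obtain ⟨hsur, -⟩ := Groth.Agent.CAlg.PairWeierstrass.bijective_mod hB hGm hGc
  obtain ⟨gB, hgB⟩ := exists_hom_adjoinRoot hB hGm hGc
  let θB : B →+* R[X] ⧸ I :=
    (AdjoinRoot.liftAlgHom G (Algebra.ofId R _) (⅟(π X)) hGτ).toRingHom.comp gB
  have hθB : ∀ q : R[X], θB (algebraMap R[X] B q) = θ₀ q := fun q => by
    show AdjoinRoot.liftAlgHom G (Algebra.ofId R _) (⅟(π X)) hGτ (gB _) = _
    rw [hgB, AdjoinRoot.liftAlgHom_mk]
    rfl
  have hu : ∀ y : Submonoid.powers (algebraMap R[X] B X), IsUnit (θB y) := by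
    rintro ⟨_, k, rfl⟩
    show IsUnit (θB (algebraMap R[X] B X ^ k))
    rw [map_pow, hθB, show θ₀ X = ⅟(π X) from aeval_X _]
    exact (isUnit_of_invertible (⅟(π X))).pow k
  let θ : L →+* R[X] ⧸ I := IsLocalization.lift (g := θB) hu
  have hθ : ∀ x, θ (algebraMap B L x) = θB x := IsLocalization.lift_eq _
  have hRL : ∀ r : R, algebraMap R L r = algebraMap B L (algebraMap R[X] B (C r)) := fun r => by
    rw [IsScalarTower.algebraMap_apply R B L, Groth.Agent.CAlg.PairWeierstrass.C_eq]
  have hθψ : θ.comp ψ.toRingHom = π.toRingHom := by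
    refine Polynomial.ringHom_ext (fun r => ?_) ?_
    · show θ (ψ (C r)) = π (C r)
      rw [← Polynomial.algebraMap_eq, AlgHom.commutes, hRL, hθ, hθB, ← Polynomial.algebraMap_eq,
        AlgHom.commutes, AlgHom.commutes]
    · show θ (ψ X) = π X
      have h := congrArg θ hψ
      rw [map_mul, map_one, hθ, hθB, show θ₀ X = ⅟(π X) from aeval_X _] at h
      exact ((isUnit_of_invertible (⅟(π X))).mul_left_inj).1 (h.trans (mul_invOf_self _).symm)
  have hinj : ∀ a, ψ a ∈ I.map ψ.toRingHom → a ∈ I := by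
    intro a ha
    rw [← Ideal.Quotient.eq_zero_iff_mem]
    show π.toRingHom a = 0
    rw [← hθψ]
    have hle : I.map ψ.toRingHom ≤ RingHom.ker θ := by
      rw [Ideal.map_le_iff_le_comap]
      intro z hz
      show θ.comp ψ.toRingHom z = 0
      rw [hθψ]
      exact Ideal.Quotient.eq_zero_iff_mem.2 hz
    exact hle ha
  refine ⟨le_antisymm (fun a ha => hinj a ha) Ideal.le_comap_map, ?_, ?_⟩
  · rw [injective_iff_map_eq_zero]
    intro x hx
    obtain ⟨a, rfl⟩ := Ideal.Quotient.mk_surjective x
    rw [Ideal.quotientMap_mk, Ideal.Quotient.eq_zero_iff_mem] at hx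
    exact Ideal.Quotient.eq_zero_iff_mem.2 (hinj a hx)
  · intro y
    obtain ⟨y, rfl⟩ := Ideal.Quotient.mk_surjective y
    refine ⟨θ y, ?_⟩
    set qm := Ideal.quotientMap (I.map ψ.toRingHom) ψ.toRingHom Ideal.le_comap_map with hqm
    suffices h : qm.comp θ = Ideal.Quotient.mk (I.map ψ.toRingHom) from RingHom.congr_fun h y
    have hpoly : ∀ q : R[X], qm (θ₀ q) = Ideal.Quotient.mk (I.map ψ.toRingHom) (algebraMap B L (algebraMap R[X] B q)) := by
      suffices h : qm.comp θ₀.toRingHom = ((Ideal.Quotient.mk (I.map ψ.toRingHom)).comp ((algebraMap B L).comp (algebraMap R[X] B))) from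
        fun q => RingHom.congr_fun h q
      refine Polynomial.ringHom_ext (fun r => ?_) ?_
      · show qm (θ₀ (C r)) = Ideal.Quotient.mk _ (algebraMap B L (algebraMap R[X] B (C r)))
        rw [show θ₀ (C r) = Ideal.Quotient.mk I (C r) from aeval_C _ r, hqm, Ideal.quotientMap_mk]
        congr 1
        rw [← hRL, ← Polynomial.algebraMap_eq]
        exact ψ.commutes r
      · show qm (θ₀ X) = Ideal.Quotient.mk _ (algebraMap B L (algebraMap R[X] B X))
        rw [show θ₀ X = ⅟(π X) from aeval_X _]
        have h := congrArg qm (invOf_mul_self (π X))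
        rw [map_mul, map_one, show qm (π X) = Ideal.Quotient.mk _ (ψ X) from Ideal.quotientMap_mk] at h
        have h' := congrArg (Ideal.Quotient.mk (I.map ψ.toRingHom)) hψ
        rw [map_mul, map_one, mul_comm] at h'
        exact (IsUnit.mul_left_inj (IsUnit.of_mul_eq_one_right _ h')).1 (h.trans h'.symm)
    refine IsLocalization.ringHom_ext (Submonoid.powers (algebraMap R[X] B X)) (RingHom.ext fun x => ?_)
    show qm (θ (algebraMap B L x)) = Ideal.Quotient.mk _ (algebraMap B L x)
    obtain ⟨q, hq⟩ := hsur x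
    obtain ⟨c, hc⟩ := Ideal.mem_span_singleton.1 hq
    rw [hθ, show x = algebraMap R[X] B q - algebraMap R[X] B G * c by rw [← hc]; ring, map_sub, map_mul, hθB, hθB,
      show θ₀ G = 0 from hGτ, zero_mul, sub_zero, hpoly, map_sub (algebraMap B L), map_mul (algebraMap B L), map_sub, map_mul,
      show Ideal.Quotient.mk (I.map ψ.toRingHom) (algebraMap B L (algebraMap R[X] B G)) = 0 by
        rw [← hpoly, show θ₀ G = 0 from hGτ, map_zero], zero_mul, sub_zero]

open Polynomial IsLocalRing in
theorem exists_monic_mem (R : Type u) [CommRing R] [HenselianLocalRing R] {B : Type u} [CommRing B] [Algebra R B] [Algebra R[X] B] [IsScalarTower R R[X] B]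
    (hB : Hens2.IsPairHenselization R[X] (Ideal.span {(X : R[X])}) B)
    (L : Type u) [CommRing L] [Algebra B L] [IsLocalization.Away (algebraMap R[X] B X) L]
    [Algebra R L] [IsScalarTower R B L]
    (J : Ideal L) (hJ : J ⊔ (maximalIdeal R).map (algebraMap R L) = ⊤) :
    ∃ G : R[X], G.Monic ∧ (∀ i < G.natDegree, G.coeff i ∈ maximalIdeal R) ∧
      algebraMap B L (algebraMap R[X] B G) ∈ J := by
  obtain ⟨j, hj, b, hb, hjb⟩ := Submodule.mem_sup.1 (hJ ▸ Submodule.mem_top : (1 : L) ∈ _)
  rw [IsScalarTower.algebraMap_eq R B L, ← Ideal.map_map, IsLocalization.mem_map_algebraMap_iff (Submonoid.powers (algebraMap R[X] B X))] at hb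
  obtain ⟨⟨⟨b', hb'⟩, ⟨_, N, rfl⟩⟩, hbσ⟩ := hb
  simp only at hbσ
  set f := algebraMap R[X] B X ^ N - b'
  have hfJ : algebraMap B L f ∈ J := by
    have : algebraMap B L f = j * algebraMap B L (algebraMap R[X] B X ^ N) := by
      rw [map_sub, ← hbσ, eq_sub_of_add_eq hjb]; ring
    rw [this]; exact J.mul_mem_right _ hj
  have hf : f ∉ (maximalIdeal R).map (algebraMap R B) := fun h => by
    refine Groth.Agent.CAlg.PairWeierstrass.algebraMap_not_mem hB N ?_
    rw [map_pow]
    simpa [f] using add_mem h hb'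
  obtain ⟨P, u, hm, hc, hfP⟩ := Groth.Agent.CAlg.PairWeierstrass.exists_weierstrass hB hf
  rw [hfP, map_mul] at hfJ
  exact ⟨P, hm, hc, (J.mul_unit_mem_iff_mem (u.isUnit.map _)).1 hfJ⟩

/-- For a Henselian local ring (R, m), a henselization B of R[t] along (t), L = B[1/t] and the R-algebra
map ψ : R[s] → L sending s to t⁻¹, extension and contraction along ψ are mutually inverse bijections
between the ideals of R[s] comaximal with mR[s] and the ideals of L comaximal with mL, and R[s]/I →
L/IL is bijective for every such I. (The published statement is phrased with closed subschemes of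
Spec R[t⁻¹] and of Spec L not meeting the residue fibre, matched by base change and schematic image,
and treats the localisation (R[t]_{1+tR[t]})[1/t] alongside R{t}[1/t]; this row states it with
ideals and includes the bijection of the corresponding quotient rings.) -/
theorem result (R : Type u) [CommRing R]
    [HenselianLocalRing R] (B : Type u) [CommRing B] [Algebra R B] [Algebra R[X] B] [IsScalarTower R R[X] B]
    (hB : Hens2.IsPairHenselization R[X] (Ideal.span {(X : R[X])}) B)
    (ψ : R[X] →ₐ[R] Localization.Away (algebraMap R[X] B X))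
    (hψ : ψ X * algebraMap B (Localization.Away (algebraMap R[X] B X)) (algebraMap R[X] B X) = 1) :
    (∀ I : Ideal R[X], I ⊔ (IsLocalRing.maximalIdeal R).map (algebraMap R R[X]) = ⊤ →
        (I.map ψ.toRingHom).comap ψ.toRingHom = I ∧
        I.map ψ.toRingHom ⊔ (IsLocalRing.maximalIdeal R).map
          (algebraMap R (Localization.Away (algebraMap R[X] B X))) = ⊤ ∧
        Function.Bijective (Ideal.quotientMap (I.map ψ.toRingHom) ψ.toRingHom Ideal.le_comap_map)) ∧
    (∀ J : Ideal (Localization.Away (algebraMap R[X] B X)),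
        J ⊔ (IsLocalRing.maximalIdeal R).map (algebraMap R (Localization.Away (algebraMap R[X] B X))) = ⊤ →
        (J.comap ψ.toRingHom).map ψ.toRingHom = J ∧
        J.comap ψ.toRingHom ⊔ (IsLocalRing.maximalIdeal R).map (algebraMap R R[X]) = ⊤) := by
  refine ⟨fun I hI => ?_, fun J hJ => ?_⟩
  · obtain ⟨h1, h2⟩ := part1 R hB _ ψ hψ I hI
    refine ⟨h1, ?_, h2⟩
    have := congrArg (Ideal.map ψ.toRingHom) hI
    rwa [Ideal.map_sup, Ideal.map_top, Ideal.map_map, show ψ.toRingHom.comp (algebraMap R R[X]) = algebraMap R _ from ψ.comp_algebraMap] at this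
  · obtain ⟨G, hGm, hGc, hGJ⟩ := exists_monic_mem R hB _ J hJ
    have hK : J.comap ψ.toRingHom ⊔ (IsLocalRing.maximalIdeal R).map (algebraMap R R[X]) = ⊤ := by
      set L := Localization.Away (algebraMap R[X] B X)
      have ht : IsUnit (algebraMap R[X] L X) := by
        rw [IsScalarTower.algebraMap_apply R[X] B L]
        exact IsUnit.of_mul_eq_one_right _ hψ
      have hg : ψ G.reverse ∈ J := by
        letI := ht.invertible
        have hinv : ⅟(algebraMap R[X] L X) = ψ X := invOf_eq_left_inv (by rw [IsScalarTower.algebraMap_apply R[X] B L]; exact hψ)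
        replace hGJ : algebraMap R[X] L G ∈ J := by rw [IsScalarTower.algebraMap_apply R[X] B L]; exact hGJ
        have h := eval₂_reflect_mul_pow (algebraMap R L) (algebraMap R[X] L X) G.natDegree G le_rfl
        rw [← aeval_def, ← aeval_def, hinv, aeval_algHom_apply ψ X, aeval_X_left_apply, aeval_algebraMap_apply, aeval_X_left_apply] at h
        have hmem : ψ (reflect G.natDegree G) * algebraMap R[X] L X ^ G.natDegree ∈ J := by rw [h]; exact hGJ
        exact (J.mul_unit_mem_iff_mem (ht.pow _)).1 hmem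
      rw [Ideal.eq_top_iff_one]
      have hone : G.reverse - (G.reverse - 1) = 1 := by ring
      rw [← hone]
      refine sub_mem (Ideal.mem_sup_left hg) (Ideal.mem_sup_right ?_)
      rw [Polynomial.algebraMap_eq, Ideal.mem_map_C_iff]
      intro i
      rw [coeff_sub, coeff_one, coeff_reverse]
      rcases Nat.eq_zero_or_pos i with rfl | hi
      · simp [hGm.coeff_natDegree]
      · rw [if_neg hi.ne', sub_zero]
        rcases le_or_gt i G.natDegree with h | h
        · rw [revAt_le h]; exact hGc _ (by omega)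
        · rw [revAt_eq_self_of_lt h, coeff_eq_zero_of_natDegree_lt h]; exact zero_mem _
    refine ⟨le_antisymm Ideal.map_comap_le fun x hx => ?_, hK⟩
    obtain ⟨a, ha⟩ := (part1 R hB _ ψ hψ _ hK).2.2 (Ideal.Quotient.mk _ x)
    obtain ⟨a, rfl⟩ := Ideal.Quotient.mk_surjective a
    rw [Ideal.quotientMap_mk, Ideal.Quotient.mk_eq_mk_iff_sub_mem] at ha
    have haJ : ψ.toRingHom a ∈ J := by
      have := add_mem (Ideal.map_comap_le (f := ψ.toRingHom) ha) hx
      simpa using this
    have := sub_mem (Ideal.mem_map_of_mem ψ.toRingHom (show a ∈ J.comap ψ.toRingHom from haJ)) ha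
    simpa using this

end Groth.Agent.S15773
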