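import Groth.Statements.S19779
import Groth.Agent.CAlg99.DenseLift
import Groth.Agent.Hens.PairHfp
import Mathlib.RingTheory.LaurentSeries

set_option autoImplicit false
universe u
open Polynomial TensorProduct
open CAlg

namespace Groth.Agent.S19779

/-- Every element of the henselization is a polynomial modulo `X ^ k`. -/
theorem exists_poly {R : Type u} [CommRing R] {B : Type u} [CommRing B] [Algebra R[X] B]
    (hB : Hens2.IsPairHenselization R[X] (Ideal.span {(X : R[X])}) B) (b : B) (k : ℕ) :
    ∃ (p : R[X]) (b' : B), b = algebraMap R[X] B p + algebraMap R[X] B X ^ k * b' := by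
  induction k with
  | zero => exact ⟨0, b, by simp⟩
  | succ k ih =>
    obtain ⟨p, b', rfl⟩ := ih
    obtain ⟨x, hx⟩ := (Hens.bijective_quotientMap_of_isPairHenselization hB).2 (Ideal.Quotient.mk _ b')
    obtain ⟨q, rfl⟩ := Ideal.Quotient.mk_surjective x
    rw [Ideal.quotientMap_mk, Ideal.Quotient.eq, Ideal.map_span, Set.image_singleton,
      Ideal.mem_span_singleton'] at hx
    obtain ⟨c, hc⟩ := hx
    refine ⟨p + X ^ k * q, -c, ?_⟩
    rw [map_add, map_mul, map_pow]
    linear_combination (algebraMap R[X] B X ^ k) * hc

theorem data {R : Type u} [CommRing R] {B : Type u} [CommRing B] [Algebra R[X] B]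
    (hB : Hens2.IsPairHenselization R[X] (Ideal.span {(X : R[X])}) B)
    (ψ : B →ₐ[R[X]] PowerSeries R) :
    CAlg99.DenseLift.Data ψ.toRingHom (algebraMap R[X] B X) := by
  have hψ : ∀ p : R[X], ψ (algebraMap R[X] B p) = (p : PowerSeries R) := fun p => by
    rw [AlgHom.commutes, PowerSeries.algebraMap_apply']
    simp
  have hX : ψ.toRingHom (algebraMap R[X] B X) = PowerSeries.X := by
    show ψ (algebraMap R[X] B X) = _
    rw [hψ, Polynomial.coe_X]
  refine ⟨fun k y => ?_, fun k a z h => ?_, fun y => ?_⟩
  · obtain ⟨z, hz⟩ : PowerSeries.X ^ k ∣ ((PowerSeries.trunc k y : R[X]) : PowerSeries R) - y := by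
      rw [PowerSeries.X_pow_dvd_iff]
      intro m hm
      simp [PowerSeries.coeff_trunc, hm]
    refine ⟨algebraMap R[X] B (PowerSeries.trunc k y), z, ?_⟩
    rw [hX, ← hz]
    exact congrArg (· - y) (hψ _)
  · obtain ⟨p, a', rfl⟩ := exists_poly hB a k
    rw [hX, map_add, map_mul, map_pow, hX] at h
    have h1 : PowerSeries.X ^ k ∣ (p : PowerSeries R) := by
      refine ⟨z - ψ a', ?_⟩
      rw [← hψ p, mul_sub, ← h]
      exact (add_sub_cancel_right _ _).symm
    have h2 : X ^ k ∣ p := by
      rw [X_pow_dvd_iff]
      intro d hd
      have := PowerSeries.X_pow_dvd_iff.1 h1 d hd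
      rwa [Polynomial.coeff_coe] at this
    obtain ⟨q, rfl⟩ := h2
    exact ⟨algebraMap R[X] B q + a', by rw [map_mul, map_pow]; ring⟩
  · rw [hX, PowerSeries.isUnit_iff_constantCoeff]
    simp

/-- For general linear groups, in the case R{t}[1/t] → R((t)), let R be a commutative ring, B = R{t} a
henselization of R[t] along (t), ψ : B → R[[t]] the R[t]-algebra map, L = B[1/t], and L' an
L-algebra identified with R((t)) compatibly with ψ. Then base change along L → L' is a bijection on
isomorphism classes of finitely generated projective modules: two finitely generated projective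
L-modules isomorphic over L' are isomorphic, and every finitely generated projective L'-module is
extended from one over L. (The published statement is the bijection H¹(R{t}[1/t], G) ≅ H¹(R((t)), G)
for every quasi-affine smooth group G; this row is the case of the general linear groups, stated for
finitely generated projective modules of arbitrary rank.) -/
theorem result (R : Type u) [CommRing R]
    (B : Type u) [CommRing B] [Algebra R[X] B] (hB : Hens2.IsPairHenselization R[X] (Ideal.span {(X : R[X])}) B)
    (ψ : B →ₐ[R[X]] PowerSeries R)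
    (L' : Type u) [CommRing L'] [Algebra (Localization.Away (algebraMap R[X] B X)) L'] (e : L' ≃+* LaurentSeries R)
    (he : ∀ b : B, e (algebraMap (Localization.Away (algebraMap R[X] B X)) L' (algebraMap B (Localization.Away (algebraMap R[X] B X)) b)) =
      HahnSeries.ofPowerSeries ℤ R (ψ b)) :
    (∀ (M N : Type u) [AddCommGroup M] [Module (Localization.Away (algebraMap R[X] B X)) M] [Module.Finite (Localization.Away (algebraMap R[X] B X)) M] [Module.Projective (Localization.Away (algebraMap R[X] B X)) M]
        [AddCommGroup N] [Module (Localization.Away (algebraMap R[X] B X)) N] [Module.Finite (Localization.Away (algebraMap R[X] B X)) N] [Module.Projective (Localization.Away (algebraMap R[X] B X)) N],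
        Nonempty (L' ⊗[Localization.Away (algebraMap R[X] B X)] M ≃ₗ[L'] L' ⊗[Localization.Away (algebraMap R[X] B X)] N) → Nonempty (M ≃ₗ[Localization.Away (algebraMap R[X] B X)] N)) ∧
    (∀ (M' : Type u) [AddCommGroup M'] [Module L' M'] [Module.Finite L' M'] [Module.Projective L' M'],
        ∃ (M : Type u) (_ : AddCommGroup M) (_ : Module (Localization.Away (algebraMap R[X] B X)) M),
          Module.Finite (Localization.Away (algebraMap R[X] B X)) M ∧ Module.Projective (Localization.Away (algebraMap R[X] B X)) M ∧
          Nonempty (L' ⊗[Localization.Away (algebraMap R[X] B X)] M ≃ₗ[L'] M')) := by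
  letI : Algebra (PowerSeries R) L' :=
    (e.symm.toRingHom.comp (HahnSeries.ofPowerSeries ℤ R)).toAlgebra
  have hX : ψ.toRingHom (algebraMap R[X] B X) = PowerSeries.X := by
    show ψ (algebraMap R[X] B X) = _
    rw [AlgHom.commutes, PowerSeries.algebraMap_apply']
    simp
  haveI : IsLocalization.Away (ψ.toRingHom (algebraMap R[X] B X)) L' := by
    rw [hX]
    exact IsLocalization.isLocalization_of_algEquiv (Submonoid.powers (PowerSeries.X : PowerSeries R))
      (AlgEquiv.ofRingEquiv (R := PowerSeries R) (f := e.symm) fun x => by
        rw [LaurentSeries.coe_algebraMap]; rfl)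
  haveI : HenselianRing B (Ideal.span {algebraMap R[X] B X}) := by
    have := hB.1
    rwa [Ideal.map_span, Set.image_singleton] at this
  have hcomp : ∀ b : B, algebraMap (Localization.Away (algebraMap R[X] B X)) L'
      (algebraMap B (Localization.Away (algebraMap R[X] B X)) b) =
      algebraMap (PowerSeries R) L' (ψ.toRingHom b) := fun b => by
    apply e.injective
    rw [he, RingHom.algebraMap_toAlgebra]
    exact (e.apply_symm_apply _).symm
  have hjac : ∀ c : B, IsUnit (1 + algebraMap R[X] B X * c) := fun c => by
    have := Ideal.mem_jacobson_bot.1 (HenselianRing.jac (I := Ideal.span {algebraMap R[X] B X})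
      (Ideal.mem_span_singleton_self _)) c
    rwa [add_comm] at this
  exact ⟨fun M N _ _ _ _ _ _ _ _ ⟨φ⟩ => CAlg.DenseApprox.nonempty_linearEquiv
      (CAlg99.DenseLift.filt hcomp (data hB ψ) hjac) M N φ,
    fun M' _ _ _ _ => CAlg99.DenseLift.exists_extended hcomp (data hB ψ) M'⟩

end Groth.Agent.S19779
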