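import Groth.Statements.S15753
import Groth.Agent.PicLau88.Ideals
import Groth.Agent.S15773
import Groth.Agent.S19779
import Groth.Agent.CAlg.PairPowerSeries
import Groth.Agent.Hens.Pair

set_option autoImplicit false
universe u
open Polynomial TensorProduct
open CAlg

namespace Groth.Agent.S15753

open IsLocalRing Groth.Agent.PicLau88

noncomputable section

theorem mem_nonZeroDivisors_of_coeff_zero {R : Type u} [CommRing R] {f : R[X]} (hf : IsUnit (f.coeff 0)) :
    f ∈ nonZeroDivisors R[X] := by
  refine mem_nonZeroDivisors_iff_right.mpr fun g hg => ?_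
  rw [mul_comm] at hg
  by_contra hne
  have h1 : (f * g).coeff g.natTrailingDegree = f.coeff 0 * g.coeff g.natTrailingDegree := by
    rw [coeff_mul]
    refine Finset.sum_eq_single (0, g.natTrailingDegree) (fun x hx hne' => ?_) (fun hnot => ?_)
    · have h2 := Finset.HasAntidiagonal.mem_antidiagonal.mp hx
      have h3 : x.2 < g.natTrailingDegree := by
        rcases Nat.eq_zero_or_pos x.1 with h | h
        · exact absurd (Prod.ext h (by show x.2 = g.natTrailingDegree; omega)) hne'
        · omega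
      rw [coeff_eq_zero_of_lt_natTrailingDegree h3, mul_zero]
    · exact absurd (Finset.HasAntidiagonal.mem_antidiagonal.mpr (zero_add _)) hnot
  rw [hg, coeff_zero] at h1
  exact trailingCoeff_nonzero_iff_nonzero.mpr hne (hf.mul_right_eq_zero.mp h1.symm)

/-- An invertible module over `R[X]` has a functional with image comaximal to `m[X]`. -/
theorem exists_functional_poly {R : Type u} [CommRing R] [IsLocalRing R] (M : Type u) [AddCommGroup M]
    [Module R[X] M] [Module.Invertible R[X] M] :
    ∃ (φ : M →ₗ[R[X]] R[X]) (n : M), (φ n).coeff 0 - 1 ∈ maximalIdeal R ∧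
      φ n - 1 ∈ (maximalIdeal R).map (algebraMap R R[X]) := by
  let q : R[X] →+* (ResidueField R)[X] := mapRingHom (residue R)
  letI : Algebra R[X] (ResidueField R)[X] := q.toAlgebra
  have hqs : Function.Surjective q := map_surjective _ residue_surjective
  haveI : Subsingleton (CommRing.Pic (ResidueField R)[X]) := by
    classical
    letI : NormalizedGCDMonoid (ResidueField R)[X] := UniqueFactorizationMonoid.toNormalizedGCDMonoid _
    infer_instance
  obtain ⟨e⟩ := (Module.Invertible.free_iff_linearEquiv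
    (R := (ResidueField R)[X]) (M := (ResidueField R)[X] ⊗[R[X]] Module.Dual R[X] M)).mp inferInstance
  obtain ⟨φ, hφ⟩ := TensorProduct.mk_surjective R[X] (Module.Dual R[X] M) (ResidueField R)[X] hqs (e.symm 1)
  let ev : ∀ v : M, (ResidueField R)[X] ⊗[R[X]] Module.Dual R[X] M →ₗ[(ResidueField R)[X]] (ResidueField R)[X] :=
    fun v => (Algebra.linearMap R[X] (ResidueField R)[X] ∘ₗ Module.Dual.eval R[X] M v).liftBaseChange _
  have hev : ∀ v θ, ev v (1 ⊗ₜ θ) = q (θ v) := fun v θ => by
    simp [ev]; rfl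
  have key : ∀ z : Module.Dual R[X] M ⊗[R[X]] M,
      q (Module.Invertible.linearEquiv R[X] M z) ∈ Ideal.map q (LinearMap.range φ) := by
    intro z
    induction z using TensorProduct.induction_on with
    | zero => simp
    | tmul θ v =>
      show q (θ v) ∈ _
      have h1 : (1 : (ResidueField R)[X]) ⊗ₜ[R[X]] θ = e (1 ⊗ₜ θ) • ((1 : (ResidueField R)[X]) ⊗ₜ[R[X]] φ) := by
        apply e.injective
        rw [map_smul, show ((1 : (ResidueField R)[X]) ⊗ₜ[R[X]] φ) = e.symm 1 from hφ, e.apply_symm_apply,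
          smul_eq_mul, mul_one]
      rw [← hev v θ, h1, map_smul, hev, smul_eq_mul]
      exact Ideal.mul_mem_left _ _ (Ideal.mem_map_of_mem _ ⟨v, rfl⟩)
    | add a b ha hb => rw [map_add, map_add]; exact add_mem ha hb
  obtain ⟨z, hz⟩ := (Module.Invertible.linearEquiv R[X] M).surjective 1
  have h1 := key z
  rw [hz, map_one, Ideal.mem_map_iff_of_surjective _ hqs] at h1
  obtain ⟨_, ⟨n, rfl⟩, hn⟩ := h1
  refine ⟨φ, n, ?_, ?_⟩
  · rw [← residue_eq_zero_iff, map_sub, map_one]
    have := congrArg (fun p => coeff p 0) hn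
    simp only [q, coe_mapRingHom, coeff_map, coeff_one_zero] at this
    rw [this, sub_self]
  · rw [Polynomial.algebraMap_eq, Ideal.mem_map_C_iff]
    intro i
    rw [← residue_eq_zero_iff, ← coeff_map, Polynomial.map_sub, Polynomial.map_one]
    rw [show Polynomial.map (residue R) (φ n) = 1 from hn, sub_self, coeff_zero]

section

variable {R : Type u} [CommRing R] [HenselianLocalRing R] {B : Type u} [CommRing B] [Algebra R B]
  [Algebra R[X] B] [IsScalarTower R R[X] B]

local notation "Lt" => Localization.Away (algebraMap R[X] B X)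
local notation "mL" => Ideal.map (algebraMap R (Localization.Away (algebraMap R[X] B X))) (maximalIdeal R)

variable (hB : Hens2.IsPairHenselization R[X] (Ideal.span {(X : R[X])}) B)
include hB

theorem isUnit_X : IsUnit (algebraMap B Lt (algebraMap R[X] B X)) :=
  IsLocalization.Away.algebraMap_isUnit (algebraMap R[X] B X)

/-- Every element outside `m L` is a unit times a distinguished polynomial. -/
theorem exists_distinguished {x : Lt} (hx : x ∉ mL) :
    ∃ (P : R[X]) (w : Ltˣ), P.Monic ∧ (∀ i < P.natDegree, P.coeff i ∈ maximalIdeal R) ∧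
      x = algebraMap B Lt (algebraMap R[X] B P) * (w : Lt) := by
  obtain ⟨N, b, hb⟩ := IsLocalization.Away.surj (algebraMap R[X] B X) x
  obtain ⟨t, ht⟩ := (isUnit_X hB).pow N
  have hbm : b ∉ (maximalIdeal R).map (algebraMap R B) := fun hbm => by
    refine hx ?_
    have h1 : algebraMap B Lt b ∈ mL := by
      rw [IsScalarTower.algebraMap_eq R B Lt, ← Ideal.map_map]
      exact Ideal.mem_map_of_mem _ hbm
    rw [← hb, ← ht] at h1
    exact ((mL).mul_unit_mem_iff_mem t.isUnit).mp h1
  obtain ⟨P, u, hm, hc, hP⟩ := Groth.Agent.CAlg.PairWeierstrass.exists_weierstrass hB hbm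
  refine ⟨P, Units.map (algebraMap B Lt).toMonoidHom u * t⁻¹, hm, hc, ?_⟩
  rw [← ht] at hb
  rw [← Units.mul_left_inj t, hb, hP, map_mul, mul_assoc, Units.val_mul, mul_assoc, Units.inv_mul, mul_one]
  rfl

theorem exists_inv_mod {x : Lt} (hx : x ∉ mL) : ∃ y, x * y - 1 ∈ mL := by
  obtain ⟨P, w, hm, hc, rfl⟩ := exists_distinguished hB hx
  obtain ⟨t, ht⟩ := (isUnit_X hB).pow P.natDegree
  refine ⟨↑w⁻¹ * ↑t⁻¹, ?_⟩
  have h1 : P - X ^ P.natDegree ∈ (maximalIdeal R).map (C : R →+* R[X]) := by
    rw [Ideal.mem_map_C_iff]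
    intro i
    rw [coeff_sub, coeff_X_pow]
    rcases lt_trichotomy i P.natDegree with hi | hi | hi
    · rw [if_neg hi.ne, sub_zero]; exact hc i hi
    · rw [hi, if_pos rfl, hm.coeff_natDegree, sub_self]; exact zero_mem _
    · rw [if_neg hi.ne', coeff_eq_zero_of_natDegree_lt hi, sub_zero]; exact zero_mem _
  have h2 := Ideal.mem_map_of_mem ((algebraMap B Lt).comp (algebraMap R[X] B)) h1
  rw [Ideal.map_map, show ((algebraMap B Lt).comp (algebraMap R[X] B)).comp C = algebraMap R Lt by
    rw [IsScalarTower.algebraMap_eq R B Lt, IsScalarTower.algebraMap_eq R R[X] B]; rfl,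
    RingHom.comp_apply, map_sub, map_sub, map_pow, map_pow, ← ht] at h2
  have h3 := (mL).mul_mem_right (↑t⁻¹ : Lt) h2
  rw [sub_mul, Units.mul_inv] at h3
  rwa [show algebraMap B Lt (algebraMap R[X] B P) * (w : Lt) * (↑w⁻¹ * ↑t⁻¹) =
    algebraMap B Lt (algebraMap R[X] B P) * ↑t⁻¹ by rw [← mul_assoc, Units.mul_inv_cancel_right]]

theorem algebraMap_eq_reverse {ψ : R[X] →ₐ[R] Lt} (hψ : ψ X * algebraMap B Lt (algebraMap R[X] B X) = 1) (G : R[X]) :
    algebraMap B Lt (algebraMap R[X] B G) =
      ψ G.reverse * algebraMap B Lt (algebraMap R[X] B X) ^ G.natDegree := by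
  let T : Lt := algebraMap B Lt (algebraMap R[X] B X)
  letI : Invertible T := (isUnit_X hB).invertible
  have hinv : ⅟T = ψ X := invOf_eq_left_inv hψ
  let a : R[X] →ₐ[R] Lt := (IsScalarTower.toAlgHom R B Lt).comp (IsScalarTower.toAlgHom R R[X] B)
  have h := eval₂_reflect_mul_pow (algebraMap R Lt) T G.natDegree G le_rfl
  rw [← aeval_def, ← aeval_def, hinv, aeval_algHom_apply ψ X, aeval_X_left_apply,
    show T = a X from rfl, aeval_algHom_apply a X, aeval_X_left_apply] at h
  exact h.symm

omit hB in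
theorem reverse_sub_one_mem {G : R[X]} (hGm : G.Monic) (hGc : ∀ i < G.natDegree, G.coeff i ∈ maximalIdeal R) :
    G.reverse - 1 ∈ (maximalIdeal R).map (algebraMap R R[X]) := by
  rw [Polynomial.algebraMap_eq, Ideal.mem_map_C_iff]
  intro i
  rw [coeff_sub, coeff_one, coeff_reverse]
  rcases Nat.eq_zero_or_pos i with rfl | hi
  · simp [hGm.coeff_natDegree]
  · rw [if_neg hi.ne', sub_zero]
    rcases le_or_gt i G.natDegree with h | h
    · rw [revAt_le h]; exact hGc _ (by omega)
    · rw [revAt_eq_self_of_lt h, coeff_eq_zero_of_natDegree_lt h]; exact zero_mem _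

theorem one_notMem : (1 : Lt) ∉ mL := fun h => by
  rw [IsScalarTower.algebraMap_eq R B Lt, ← Ideal.map_map,
    IsLocalization.mem_map_algebraMap_iff (Submonoid.powers (algebraMap R[X] B X))] at h
  obtain ⟨⟨⟨b, hb⟩, ⟨_, n, rfl⟩⟩, h⟩ := h
  rw [one_mul] at h
  obtain ⟨⟨_, k, rfl⟩, hk⟩ :=
    (IsLocalization.eq_iff_exists (Submonoid.powers (algebraMap R[X] B X)) Lt).mp h
  refine Groth.Agent.CAlg.PairWeierstrass.algebraMap_not_mem hB (k + n) ?_
  rw [map_pow, pow_add, hk]
  exact Ideal.mul_mem_left _ _ hb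

end

theorem assemble (R : Type u) [CommRing R] [IsLocalRing R] (L : Type u) [CommRing L] [Algebra R[X] L]
    (LS : Type u) [CommRing LS] [Algebra R[X] LS] [Algebra L LS] [IsScalarTower R[X] L LS]
    (hLinj : ∀ (M N : Type u) [AddCommGroup M] [Module L M] [Module.Finite L M] [Module.Projective L M]
        [AddCommGroup N] [Module L N] [Module.Finite L N] [Module.Projective L N],
        Nonempty (LS ⊗[L] M ≃ₗ[LS] LS ⊗[L] N) → Nonempty (M ≃ₗ[L] N))
    (hLsurj : ∀ (M' : Type u) [AddCommGroup M'] [Module LS M'] [Module.Finite LS M'] [Module.Projective LS M'],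
        ∃ (M : Type u) (_ : AddCommGroup M) (_ : Module L M), Module.Finite L M ∧ Module.Projective L M ∧
          Nonempty (LS ⊗[L] M ≃ₗ[LS] M'))
    (hI : ∀ I : Ideal R[X], I ⊔ (maximalIdeal R).map (algebraMap R R[X]) = ⊤ →
      (I.map (algebraMap R[X] L)).comap (algebraMap R[X] L) = I)
    (hJ : ∀ J : Ideal L, J ⊔ ((maximalIdeal R).map (algebraMap R R[X])).map (algebraMap R[X] L) = ⊤ →
      (J.comap (algebraMap R[X] L)).map (algebraMap R[X] L) = J)
    (hone : (1 : L) ∉ ((maximalIdeal R).map (algebraMap R R[X])).map (algebraMap R[X] L))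
    (hfield : ∀ x ∉ ((maximalIdeal R).map (algebraMap R R[X])).map (algebraMap R[X] L),
      ∃ y, x * y - 1 ∈ ((maximalIdeal R).map (algebraMap R R[X])).map (algebraMap R[X] L))
    (hgen : ∀ a ∉ ((maximalIdeal R).map (algebraMap R R[X])).map (algebraMap R[X] L),
      ∃ g : R[X], g.coeff 0 = 1 ∧ g - 1 ∈ (maximalIdeal R).map (algebraMap R R[X]) ∧
        Ideal.span {a} = (Ideal.span {g}).map (algebraMap R[X] L))
    (hmem : ∀ J : Ideal L, J ⊔ ((maximalIdeal R).map (algebraMap R R[X])).map (algebraMap R[X] L) = ⊤ →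
      ∃ f : R[X], f.coeff 0 = 1 ∧ f - 1 ∈ (maximalIdeal R).map (algebraMap R R[X]) ∧
        algebraMap R[X] L f ∈ J ∧ algebraMap R[X] L f ∈ nonZeroDivisors L) :
    (∀ (M : Type u) [AddCommGroup M] [Module R[X] M] [Module.Invertible R[X] M],
        Module.Free LS (LS ⊗[R[X]] M) → Module.Free R[X] M) ∧
    (∀ (N : Type u) [AddCommGroup N] [Module LS N] [Module.Invertible LS N],
        ∃ (M : Type u) (_ : AddCommGroup M) (_ : Module R[X] M), Module.Invertible R[X] M ∧
          Nonempty (N ≃ₗ[LS] LS ⊗[R[X]] M)) := by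
  classical
  have hcomax : ∀ {f : R[X]}, f - 1 ∈ (maximalIdeal R).map (algebraMap R R[X]) → ∀ Q : Ideal R[X], f ∈ Q →
      Q ⊔ (maximalIdeal R).map (algebraMap R R[X]) = ⊤ := fun {f} hf1 Q hQ => by
    rw [Ideal.eq_top_iff_one, ← sub_sub_cancel f (1 : R[X])]
    exact sub_mem (Ideal.mem_sup_left hQ) (Ideal.mem_sup_right hf1)
  have hcomax2 : ∀ {f : R[X]}, f - 1 ∈ (maximalIdeal R).map (algebraMap R R[X]) → ∀ Q : Ideal L,
      algebraMap R[X] L f ∈ Q → Q ⊔ ((maximalIdeal R).map (algebraMap R R[X])).map (algebraMap R[X] L) = ⊤ := by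
    intro f hf1 Q hQ
    have h1 := Ideal.mem_map_of_mem (algebraMap R[X] L) hf1
    rw [map_sub, map_one] at h1
    rw [Ideal.eq_top_iff_one, ← sub_sub_cancel (algebraMap R[X] L f) (1 : L)]
    exact sub_mem (Ideal.mem_sup_left hQ) (Ideal.mem_sup_right h1)
  refine ⟨fun M _ _ _ hfree => ?_, fun N _ _ _ => ?_⟩
  · -- injectivity
    obtain ⟨φ, n, hn0, hn⟩ := exists_functional_poly (R := R) M
    have hf : IsUnit ((φ n).coeff 0) := by
      by_contra h
      have := sub_mem ((mem_maximalIdeal _).mpr h) hn0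
      rw [sub_sub_cancel] at this
      exact (maximalIdeal.isMaximal R).ne_top ((Ideal.eq_top_iff_one _).mpr this)
    have hinj := injective_of_regular (mem_nonZeroDivisors_of_coeff_zero hf)
    let I : Ideal R[X] := LinearMap.range φ
    have hIm : I ⊔ (maximalIdeal R).map (algebraMap R R[X]) = ⊤ := hcomax hn _ ⟨n, rfl⟩
    obtain ⟨e1⟩ := Module.Invertible.free_iff_linearEquiv.mp hfree
    obtain ⟨e⟩ := hLinj (L ⊗[R[X]] M) L ⟨(AlgebraTensorModule.cancelBaseChange R[X] L LS LS M) ≪≫ₗ e1 ≪≫ₗ
      (AlgebraTensorModule.rid L LS LS).symm⟩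
    let Φ : L ⊗[R[X]] M →ₗ[L] L := (Algebra.linearMap R[X] L ∘ₗ φ).liftBaseChange L
    let a : L := Φ (e.symm 1)
    have hspan : I.map (algebraMap R[X] L) = Ideal.span {a} := by
      refine le_antisymm (Ideal.map_le_iff_le_comap.mpr ?_) ?_
      · rintro _ ⟨v, rfl⟩
        refine Ideal.mem_span_singleton'.mpr ⟨e (1 ⊗ₜ v), ?_⟩
        rw [← smul_eq_mul, ← map_smul, ← map_smul, smul_eq_mul, mul_one, e.symm_apply_apply]
        simp [Φ]
      · rw [Ideal.span_le, Set.singleton_subset_iff]
        have : ∀ z, Φ z ∈ I.map (algebraMap R[X] L) := by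
          intro z
          induction z using TensorProduct.induction_on with
          | zero => rw [map_zero]; exact zero_mem _
          | tmul c v =>
            simp only [Φ, LinearMap.liftBaseChange_tmul]
            exact Ideal.mul_mem_left _ _ (Ideal.mem_map_of_mem (algebraMap R[X] L) ⟨v, rfl⟩)
          | add x y hx hy => rw [map_add]; exact add_mem hx hy
        exact this _
    have ha : a ∉ ((maximalIdeal R).map (algebraMap R R[X])).map (algebraMap R[X] L) := fun ha => by
      have h1 := congrArg (Ideal.map (algebraMap R[X] L)) hIm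
      rw [Ideal.map_sup, Ideal.map_top, hspan,
        sup_eq_right.mpr (Ideal.span_le.mpr (Set.singleton_subset_iff.mpr ha))] at h1
      exact hone (h1 ▸ Submodule.mem_top)
    obtain ⟨g, hg0, hg1, hg⟩ := hgen a ha
    have hIeq : I = Ideal.span {g} := by
      rw [← hI I hIm, hspan, hg, hI _ (hcomax hg1 _ (Ideal.mem_span_singleton_self g))]
    obtain ⟨e2⟩ := ideal_regular_principal (mem_nonZeroDivisors_of_coeff_zero (hg0 ▸ isUnit_one))
    exact Module.Free.of_equiv (((LinearEquiv.ofInjective φ hinj).trans (LinearEquiv.ofEq _ _ hIeq)).trans e2).symm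
  · -- surjectivity
    obtain ⟨M, iM, iMm, hfin, hproj, ⟨e⟩⟩ := hLsurj N
    haveI : Module.Invertible L M := by
      obtain ⟨M', iM', iMm', hfin', hproj', ⟨e'⟩⟩ := hLsurj (Module.Dual LS N)
      obtain ⟨e''⟩ := hLinj (M' ⊗[L] M) L
        ⟨(AlgebraTensorModule.distribBaseChange L LS M' M) ≪≫ₗ
          TensorProduct.congr e' e ≪≫ₗ Module.Invertible.linearEquiv LS N ≪≫ₗ
          (AlgebraTensorModule.rid L LS LS).symm⟩
      exact Module.Invertible.right e''
    obtain ⟨θ, v, hθv⟩ : ∃ (θ : M →ₗ[L] L) (v : M),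
        θ v ∉ ((maximalIdeal R).map (algebraMap R R[X])).map (algebraMap R[X] L) := by
      by_contra hall
      push Not at hall
      obtain ⟨z, hz⟩ := (Module.Invertible.linearEquiv L M).surjective 1
      refine hone ?_
      rw [← hz]
      clear hz
      induction z using TensorProduct.induction_on with
      | zero => rw [map_zero]; exact zero_mem _
      | tmul θ v => exact hall θ v
      | add a b ha hb => rw [map_add]; exact add_mem ha hb
    obtain ⟨y, hy⟩ := hfield _ hθv
    obtain ⟨f, hf0, hf1, ⟨n, hn⟩, hfL⟩ := hmem (LinearMap.range θ) (by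
      rw [Ideal.eq_top_iff_one, ← sub_sub_cancel (θ v * y) (1 : L)]
      exact sub_mem (Ideal.mem_sup_left (Ideal.mul_mem_right _ _ ⟨v, rfl⟩)) (Ideal.mem_sup_right hy))
    have hF : θ n ∈ nonZeroDivisors L := hn ▸ hfL
    obtain ⟨K, hFK, hJK⟩ := exists_complement hF
    have hinj := injective_of_regular hF
    have hfJ : algebraMap R[X] L f ∈ LinearMap.range θ := ⟨n, hn⟩
    have hfK : algebraMap R[X] L f ∈ K := hn ▸ hFK
    let I : Ideal R[X] := Ideal.comap (algebraMap R[X] L) (LinearMap.range θ)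
    let I' : Ideal R[X] := K.comap (algebraMap R[X] L)
    have hII' : I * I' = Ideal.span {f} := by
      have h2 : I * I' ⊔ (maximalIdeal R).map (algebraMap R R[X]) = ⊤ := by
        rw [sup_comm, Ideal.sup_mul_eq_of_coprime_left (by rw [sup_comm]; exact hcomax hf1 I hfJ), sup_comm]
        exact hcomax hf1 I' hfK
      have h3 : (I * I').map (algebraMap R[X] L) = (Ideal.span {f}).map (algebraMap R[X] L) := by
        rw [Ideal.map_mul, hJ _ (hcomax2 hf1 _ hfJ), hJ _ (hcomax2 hf1 _ hfK), hJK, hn, Ideal.map_span,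
          Set.image_singleton]
      rw [← hI _ h2, h3, hI _ (hcomax hf1 _ (Ideal.mem_span_singleton_self f))]
    haveI : Module.Invertible R[X] I :=
      invertible_of_mul_eq_span (mem_nonZeroDivisors_of_coeff_zero (hf0 ▸ isUnit_one)) hII'
    refine ⟨I, inferInstance, inferInstance, inferInstance, ?_⟩
    let T : L ⊗[R[X]] I →ₗ[L] L := (Algebra.linearMap R[X] L ∘ₗ I.subtype).liftBaseChange L
    have hT : LinearMap.range T = LinearMap.range θ :=
      (range_liftBaseChange_subtype L I).trans (hJ _ (hcomax2 hf1 _ hfJ))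
    let Tθ : L ⊗[R[X]] I →ₗ[L] M := (LinearEquiv.ofInjective θ hinj).symm.toLinearMap ∘ₗ
      (LinearEquiv.ofEq _ _ hT).toLinearMap ∘ₗ T.rangeRestrict
    have hbij : Function.Bijective Tθ := by
      refine Module.Invertible.bijective_of_surjective ?_
      exact (LinearEquiv.ofInjective θ hinj).symm.surjective.comp
        ((LinearEquiv.ofEq _ _ hT).surjective.comp T.surjective_rangeRestrict)
    exact ⟨e.symm ≪≫ₗ AlgebraTensorModule.congr (LinearEquiv.refl LS LS)
      (LinearEquiv.ofBijective Tθ hbij).symm ≪≫ₗ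
      AlgebraTensorModule.cancelBaseChange R[X] L LS LS I⟩

/-- `B[1/t]`, as a ring carrying the `R[s]`-algebra structure `s ↦ t⁻¹` only. -/
def SLoc {A : Type u} [CommRing A] (x : A) : Type u := Localization.Away x

instance {A : Type u} [CommRing A] (x : A) : CommRing (SLoc x) := inferInstanceAs (CommRing (Localization.Away x))

theorem result' (R : Type u) [CommRing R] [HenselianLocalRing R] (B : Type u) [CommRing B] [Algebra R B]
    [Algebra R[X] B] [IsScalarTower R R[X] B]
    (hB : Hens2.IsPairHenselization R[X] (Ideal.span {(X : R[X])}) B) [Algebra R[X] (LaurentSeries R)]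
    (halg : algebraMap R[X] (LaurentSeries R) =
      Polynomial.eval₂RingHom (HahnSeries.C) (HahnSeries.single (-1 : ℤ) (1 : R))) :
    (∀ (M : Type u) [AddCommGroup M] [Module R[X] M] [Module.Invertible R[X] M],
        Module.Free (LaurentSeries R) (LaurentSeries R ⊗[R[X]] M) → Module.Free R[X] M) ∧
    (∀ (N : Type u) [AddCommGroup N] [Module (LaurentSeries R) N] [Module.Invertible (LaurentSeries R) N],
        ∃ (M : Type u) (_ : AddCommGroup M) (_ : Module R[X] M), Module.Invertible R[X] M ∧
          Nonempty (N ≃ₗ[LaurentSeries R] LaurentSeries R ⊗[R[X]] M)) := by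
  classical
  let L : Type u := Localization.Away (algebraMap R[X] B X)
  have hflat := Groth.Agent.Hens.flat_of_isPairHenselization hB
  obtain ⟨G₀, hG₀, -⟩ := Groth.Agent.CAlg.PairPowerSeries.existsUnique_toPowerSeries hB
  have hcoe : ∀ p : R[X], G₀ (algebraMap R[X] B p) = (p : PowerSeries R) := fun p => RingHom.congr_fun hG₀ p
  let ψB : B →ₐ[R[X]] PowerSeries R :=
    { G₀ with
      commutes' := fun p => (hcoe p).trans (by rw [PowerSeries.algebraMap_apply']; simp) }
  have hu : IsUnit ((HahnSeries.ofPowerSeries ℤ R).comp G₀ (algebraMap R[X] B X)) := by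
    rw [RingHom.comp_apply, hcoe, Polynomial.coe_X, HahnSeries.ofPowerSeries_X]
    exact IsUnit.of_mul_eq_one (HahnSeries.single (-1 : ℤ) (1 : R)) (by simp)
  let qL : L →+* LaurentSeries R := IsLocalization.Away.lift (algebraMap R[X] B X) hu
  have hqL : ∀ b : B, qL (algebraMap B L b) = HahnSeries.ofPowerSeries ℤ R (G₀ b) := fun b =>
    IsLocalization.Away.lift_eq (S := L) (algebraMap R[X] B X) hu b
  obtain ⟨t, ht⟩ : IsUnit (algebraMap B L (algebraMap R[X] B X)) := isUnit_X hB
  let ψ : R[X] →ₐ[R] L := aeval (↑t⁻¹ : L)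
  have hψ : ψ X * algebraMap B L (algebraMap R[X] B X) = 1 := by rw [aeval_X, ← ht, Units.inv_mul]
  obtain ⟨hI, hJ⟩ := Groth.Agent.S15773.result R B hB ψ hψ
  have hflatL : ∀ {G : R[X]}, G.Monic → algebraMap B L (algebraMap R[X] B G) ∈ nonZeroDivisors L := by
    intro G hG
    haveI := hflat
    haveI : Module.Flat R[X] L := Module.Flat.trans R[X] B L
    have h1 : IsSMulRegular L (algebraMap R[X] L G) :=
      IsSMulRegular.of_flat (show IsSMulRegular R[X] G from fun a b hab => hG.isRegular.left hab)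
    refine mem_nonZeroDivisors_iff_right.mpr fun z hz => h1 ?_
    show algebraMap R[X] L G • z = algebraMap R[X] L G • 0
    rw [smul_zero, smul_eq_mul, IsScalarTower.algebraMap_apply R[X] B L, mul_comm]
    exact hz
  obtain ⟨hLinj, hLsurj⟩ := @Groth.Agent.S19779.result R _ B _ _ hB ψB (LaurentSeries R) _
    qL.toAlgebra (RingEquiv.refl _) (fun b => hqL b)
  let L₁ : Type u := SLoc (algebraMap R[X] B X)
  letI : Algebra R[X] L₁ := ψ.toRingHom.toAlgebra
  letI : Algebra L₁ (LaurentSeries R) := qL.toAlgebra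
  haveI : IsScalarTower R[X] L₁ (LaurentSeries R) :=
    IsScalarTower.of_algebraMap_eq' (R := R[X]) (S := L₁) (A := LaurentSeries R) (by
      rw [halg]
      refine Polynomial.ringHom_ext (fun r => ?_) ?_
      · show _ = qL (ψ (C r))
        rw [show ψ (C r) = algebraMap B L (algebraMap R[X] B (C r)) by
          rw [← Polynomial.algebraMap_eq, AlgHom.commutes, ← IsScalarTower.algebraMap_apply R R[X] B,
            ← IsScalarTower.algebraMap_apply R B L], hqL, hcoe, Polynomial.coe_C, HahnSeries.ofPowerSeries_C]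
        simp
      · show _ = qL (ψ X)
        have h1 := congrArg qL hψ
        rw [map_mul, map_one, hqL, hcoe, Polynomial.coe_X, HahnSeries.ofPowerSeries_X] at h1
        have h2 := congrArg (· * HahnSeries.single (-1 : ℤ) (1 : R)) h1
        simp only [mul_assoc, HahnSeries.single_mul_single, add_neg_cancel, mul_one, one_mul,
          HahnSeries.single_zero_one] at h2
        rw [h2]
        simp)
  have hm : ((maximalIdeal R).map (algebraMap R R[X])).map ψ.toRingHom = (maximalIdeal R).map (algebraMap R L) := by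
    rw [Ideal.map_map]
    exact congrArg (fun f => Ideal.map f (maximalIdeal R)) ψ.comp_algebraMap
  have hrev : ∀ (P : R[X]), P.Monic → ∃ u : Lˣ, algebraMap B L (algebraMap R[X] B P) = ψ P.reverse * u := by
    intro P _
    obtain ⟨t', ht'⟩ := (isUnit_X hB).pow P.natDegree
    exact ⟨t', by rw [ht']; exact algebraMap_eq_reverse hB hψ P⟩
  refine assemble R L₁ (LaurentSeries R) hLinj hLsurj (fun I h => (hI I h).1) (fun J h => ?_) ?_ (fun x hx => ?_)
    (fun a ha => ?_) (fun J h => ?_)
  · exact (hJ J (hm ▸ h)).1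
  · exact fun h => one_notMem hB (hm ▸ h)
  · obtain ⟨y, hy⟩ := exists_inv_mod hB (x := (x : L)) (fun h => hx (hm.symm ▸ h))
    exact ⟨y, hm.symm ▸ hy⟩
  · obtain ⟨P, w, hPm, hPc, hP⟩ := exists_distinguished hB (x := (a : L)) (fun h => ha (hm.symm ▸ h))
    obtain ⟨u, hu'⟩ := hrev P hPm
    refine ⟨P.reverse, by rw [coeff_zero_reverse, hPm.leadingCoeff], reverse_sub_one_mem hPm hPc, ?_⟩
    show Ideal.span {(a : L)} = Ideal.map ψ.toRingHom (Ideal.span {P.reverse})
    rw [hP, hu', mul_assoc]
    refine (Ideal.span_singleton_mul_right_unit (u.isUnit.mul w.isUnit) _).trans ?_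
    rw [Ideal.map_span, Set.image_singleton]
    rfl
  · obtain ⟨G, hGm, hGc, hGJ⟩ := @Groth.Agent.S15773.exists_monic_mem R _ _ B _ _ _ _ hB L
      inferInstance inferInstance inferInstance inferInstance inferInstance J (hm ▸ h)
    obtain ⟨u, hu'⟩ := hrev G hGm
    refine ⟨G.reverse, by rw [coeff_zero_reverse, hGm.leadingCoeff], reverse_sub_one_mem hGm hGc, ?_, ?_⟩
    · show ψ G.reverse ∈ (J : Ideal L)
      rw [hu'] at hGJ
      exact (Ideal.mul_unit_mem_iff_mem (J : Ideal L) u.isUnit).mp hGJ
    · show ψ G.reverse ∈ nonZeroDivisors L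
      have := hflatL hGm
      rw [hu'] at this
      exact (mul_mem_nonZeroDivisors.mp this).1

end

/-- Let R be a Henselian local ring and regard R((t)) as an R[s]-algebra through s ↦ t⁻¹. Then the
pullback map Pic(R[t⁻¹]) → Pic(R((t))) is bijective: an invertible R[s]-module that becomes free
over R((t)) is free, and every invertible R((t))-module is extended from an invertible R[s]-module.
(The published statement is the chain of three bijections Pic(R[t⁻¹]) ≅ Pic((R[t]_{1+tR[t]})[1/t]) ≅
Pic(R{t}[1/t]) ≅ Pic(R((t))), each induced by pullback; this row states the composite.) -/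
theorem result (R : Type u) [CommRing R]
    [HenselianLocalRing R] [Algebra R[X] (LaurentSeries R)]
    (halg : algebraMap R[X] (LaurentSeries R) =
      Polynomial.eval₂RingHom (HahnSeries.C) (HahnSeries.single (-1 : ℤ) (1 : R))) :
    (∀ (M : Type u) [AddCommGroup M] [Module R[X] M] [Module.Invertible R[X] M],
        Module.Free (LaurentSeries R) (LaurentSeries R ⊗[R[X]] M) → Module.Free R[X] M) ∧
    (∀ (L : Type u) [AddCommGroup L] [Module (LaurentSeries R) L] [Module.Invertible (LaurentSeries R) L],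
        ∃ (M : Type u) (_ : AddCommGroup M) (_ : Module R[X] M), Module.Invertible R[X] M ∧
          Nonempty (L ≃ₗ[LaurentSeries R] LaurentSeries R ⊗[R[X]] M)) := by
  let B : Type u := Groth.Agent.Hens.PairHenselization R[X] (Ideal.span {(X : R[X])})
  letI : Algebra R B := ((algebraMap R[X] B).comp (algebraMap R R[X])).toAlgebra
  haveI : IsScalarTower R R[X] B := IsScalarTower.of_algebraMap_eq' rfl
  exact result' R B (Groth.Agent.Hens.isPairHenselization_pairHenselization (A := R[X]) (I := Ideal.span {(X : R[X])})) halg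

end Groth.Agent.S15753
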