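import Groth.Statements.S15752
import Groth.Agent.CAlg.PairWeierstrass

set_option autoImplicit false
universe u
open Polynomial
open CAlg

namespace Groth.Agent.S15752

open Polynomial in
theorem eq_aux {R : Type u} [CommRing R] [HenselianLocalRing R] {B : Type u} [CommRing B] [Algebra R B] [Algebra R[X] B]
    [IsScalarTower R R[X] B] (hB : Hens2.IsPairHenselization R[X] (Ideal.span {(X : R[X])}) B)
    {P Q : R[X]} (hP : P.Monic) (hQ : Q.Monic)
    (hPc : ∀ i < P.natDegree, P.coeff i ∈ IsLocalRing.maximalIdeal R) (hQc : ∀ i < Q.natDegree, Q.coeff i ∈ IsLocalRing.maximalIdeal R)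
    {u v : Bˣ} (h : algebraMap R[X] B P * (u : B) = algebraMap R[X] B Q * (v : B)) : P = Q ∧ u = v := by
  have h1 : Q ∈ Ideal.span {P} := (Groth.Agent.CAlg.PairWeierstrass.bijective_mod hB hP hPc).2 Q
    (Ideal.mem_span_singleton.2 ⟨(u : B) * ↑v⁻¹, by rw [← mul_assoc, h, mul_assoc, Units.mul_inv, mul_one]⟩)
  have h2 : P ∈ Ideal.span {Q} := (Groth.Agent.CAlg.PairWeierstrass.bijective_mod hB hQ hQc).2 P
    (Ideal.mem_span_singleton.2 ⟨(v : B) * ↑u⁻¹, by rw [← mul_assoc, ← h, mul_assoc, Units.mul_inv, mul_one]⟩)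
  have hdeg : Q.natDegree ≤ P.natDegree := by
    obtain ⟨c, hc⟩ := Ideal.mem_span_singleton.1 h2
    rcases eq_or_ne c 0 with rfl | hc0
    · simp [hc] at hP
    · rw [hc, hQ.natDegree_mul' hc0]; exact Nat.le_add_right _ _
  have hPQ : P = Q := (eq_of_monic_of_dvd_of_natDegree_le hP hQ (Ideal.mem_span_singleton.1 h1) hdeg).symm
  subst hPQ
  refine ⟨rfl, Units.ext ?_⟩
  haveI := Groth.Agent.Hens.flat_of_isPairHenselization hB
  have hreg : IsSMulRegular R[X] P := hP.isRegular.left
  exact (IsSMulRegular.of_flat (S := B) hreg) h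

/-- Let R be a Henselian local ring with maximal ideal m and let B be a henselization of R[t] along (t).
Every f ∈ B outside mB factors as f = P · u for a unique pair (P, u) with P ∈ R[t] monic whose
non-leading coefficients lie in m and u a unit of B; moreover the natural map R[t]/(P) → B/(f) is
bijective, stated as: every element of B is congruent to (the image of) a polynomial modulo f, and a
polynomial whose image lies in fB lies in P·R[t]. -/
theorem result (R : Type u) [CommRing R]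
    [HenselianLocalRing R] (B : Type u) [CommRing B] [Algebra R B] [Algebra R[X] B]
    [IsScalarTower R R[X] B] (hB : Hens2.IsPairHenselization R[X] (Ideal.span {(X : R[X])}) B)
    (f : B) (hf : f ∉ (IsLocalRing.maximalIdeal R).map (algebraMap R B)) :
    (∃! Pu : R[X] × Bˣ, Pu.1.Monic ∧ (∀ i : ℕ, i < Pu.1.natDegree → Pu.1.coeff i ∈ IsLocalRing.maximalIdeal R) ∧
        f = algebraMap R[X] B Pu.1 * (Pu.2 : B)) ∧
    (∀ (P : R[X]) (u : Bˣ), P.Monic → (∀ i : ℕ, i < P.natDegree → P.coeff i ∈ IsLocalRing.maximalIdeal R) →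
        f = algebraMap R[X] B P * (u : B) →
      (∀ b : B, ∃ q : R[X], algebraMap R[X] B q - b ∈ Ideal.span {f}) ∧
      (∀ q : R[X], algebraMap R[X] B q ∈ Ideal.span {f} → q ∈ Ideal.span {P})) := by
  obtain ⟨P₀, u₀, hm₀, hc₀, hf₀⟩ := Groth.Agent.CAlg.PairWeierstrass.exists_weierstrass hB hf
  refine ⟨⟨(P₀, u₀), ⟨hm₀, hc₀, hf₀⟩, ?_⟩, fun P u hm hc hfP => ?_⟩
  · rintro ⟨P, u⟩ ⟨hm, hc, hfP⟩
    obtain ⟨h1, h2⟩ := eq_aux hB hm hm₀ hc hc₀ (hfP.symm.trans hf₀)
    exact Prod.ext h1 h2
  · have hspan : Ideal.span {f} = Ideal.span {algebraMap R[X] B P} := by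
      rw [hfP, Ideal.span_singleton_mul_right_unit u.isUnit]
    rw [hspan]
    exact Groth.Agent.CAlg.PairWeierstrass.bijective_mod hB hm hc

end Groth.Agent.S15752
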