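import Groth.Statements.S15759
import Groth.Agent.CAlg.DenseApproxInst

set_option autoImplicit false
universe u
open Polynomial TensorProduct
open CAlg

namespace Groth.Agent.S15759

open Groth.Agent.CAlg Polynomial

theorem closure_form {R : Type u} [CommRing R] {s : R[X]}
    (hs : s ∈ Submonoid.closure ({f : R[X] | f.coeff 0 = 1} ∪ {X})) :
    ∃ (k : ℕ) (f : R[X]), f.coeff 0 = 1 ∧ s = X ^ k * f := by
  induction hs using Submonoid.closure_induction with
  | mem x hx =>
    rcases hx with hx | hx
    · exact ⟨0, x, hx, by simp⟩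
    · exact ⟨1, 1, by simp, by simpa using hx⟩
  | one => exact ⟨0, 1, by simp, by simp⟩
  | mul x y _ _ hx hy =>
    obtain ⟨k, f, hf, rfl⟩ := hx
    obtain ⟨l, g, hg, rfl⟩ := hy
    exact ⟨k + l, f * g, by rw [mul_coeff_zero, hf, hg, one_mul], by ring⟩

/-- The filtration of `R((t))` over `R(t)`. -/
theorem exists_filt (R : Type u) [CommRing R]
    (L : Type u) [CommRing L] [Algebra R[X] L]
    [IsLocalization (Submonoid.closure ({f : R[X] | f.coeff 0 = 1} ∪ {X})) L]
    (L' : Type u) [CommRing L'] [Algebra L L'] (e : L' ≃+* LaurentSeries R)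
    (he : ∀ p : R[X], e (algebraMap L L' (algebraMap R[X] L p)) =
      HahnSeries.ofPowerSeries ℤ R (Polynomial.coeToPowerSeries.ringHom p)) :
    Nonempty (DenseApprox.Filt L L') := by
  let ι : PowerSeries R →+* L' := e.symm.toRingHom.comp (HahnSeries.ofPowerSeries ℤ R)
  have hι : ∀ p : R[X], algebraMap L L' (algebraMap R[X] L p) = ι (p : PowerSeries R) := by
    intro p
    apply e.injective
    rw [he p]
    simp [ι]
  have hιinj : Function.Injective ι :=
    e.symm.injective.comp HahnSeries.ofPowerSeries_injective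
  have hXL : IsUnit (algebraMap R[X] L X) :=
    IsLocalization.map_units L
      (⟨X, Submonoid.subset_closure (Or.inr rfl)⟩ :
        Submonoid.closure ({f : R[X] | f.coeff 0 = 1} ∪ {X}))
  have hX' : IsUnit (algebraMap L L' (algebraMap R[X] L X)) := hXL.map _
  have hTX : ι PowerSeries.X = algebraMap L L' (algebraMap R[X] L X) := by
    rw [hι, Polynomial.coe_X]
  refine ⟨DenseApprox.Filt.ofAway ι hX'.unit PowerSeries.X (hTX.trans hX'.unit_spec.symm) ?_
    ((hXL.unit⁻¹ : Lˣ) : L) ?_ ?_ ?_ ?_⟩
  · intro x
    rw [hX'.unit_spec, ← hTX]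
    have h := LaurentSeries.single_order_mul_powerSeriesPart (e x)
    refine ⟨(-(e x).order).toNat,
      PowerSeries.X ^ ((e x).order).toNat * (e x).powerSeriesPart, ?_⟩
    apply e.injective
    simp only [ι, map_mul, map_pow, RingHom.comp_apply, RingEquiv.toRingHom_eq_coe,
      RingHom.coe_coe, RingEquiv.apply_symm_apply, HahnSeries.ofPowerSeries_X]
    generalize (e x).order = o at h ⊢
    generalize (e x).powerSeriesPart = pw at h ⊢
    rw [← h]
    rw [mul_right_comm, HahnSeries.single_pow, HahnSeries.single_pow, HahnSeries.single_mul_single,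
      nsmul_eq_mul, nsmul_eq_mul, one_pow, one_pow, mul_one]
    congr 2
    · congr 1; omega
    · rw [mul_one]
  · apply Units.eq_inv_of_mul_eq_one_left
    rw [hX'.unit_spec, ← map_mul, IsUnit.mul_val_inv, map_one]
  · intro y k
    obtain ⟨z, hz⟩ : PowerSeries.X ^ k ∣
        ((PowerSeries.trunc k y : R[X]) : PowerSeries R) - y := by
      rw [PowerSeries.X_pow_dvd_iff]
      intro m hm
      simp [PowerSeries.coeff_trunc, hm]
    refine ⟨algebraMap R[X] L (PowerSeries.trunc k y), z, ?_⟩
    rw [hι, ← map_sub, hz, hX'.unit_spec, ← hTX, map_mul, map_pow]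
  · intro y
    rw [PowerSeries.isUnit_iff_constantCoeff]
    simp
  · intro x y hx
    rw [hX'.unit_spec, ← hTX, ← map_mul] at hx
    obtain ⟨⟨p, s, hs⟩, hk⟩ :=
      IsLocalization.surj (Submonoid.closure ({f : R[X] | f.coeff 0 = 1} ∪ {X})) x
    obtain ⟨k, f, hf, rfl⟩ := closure_form hs
    simp only at hk
    have h2 := congrArg (algebraMap L L') hk
    rw [map_mul, hι, hι, hx, ← map_mul] at h2
    have h3 := hιinj h2
    obtain ⟨c, hc⟩ : X ^ (k + 1) ∣ p := by
      rw [Polynomial.X_pow_dvd_iff]
      intro d hd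
      have h4 : PowerSeries.coeff d (p : PowerSeries R) = 0 := by
        rw [← h3]
        have : PowerSeries.X * y * ((X ^ k * f : R[X]) : PowerSeries R) =
            PowerSeries.X ^ (k + 1) * ((f : PowerSeries R) * y) := by
          rw [Polynomial.coe_mul, Polynomial.coe_pow, Polynomial.coe_X]; ring
        rw [this, PowerSeries.coeff_X_pow_mul']
        exact if_neg (by omega)
      simpa using h4
    have hxf : x * algebraMap R[X] L f = algebraMap R[X] L (X * c) := by
      apply (hXL.pow k).mul_left_inj.1
      rw [hc] at hk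
      simp only [map_mul, map_pow] at hk ⊢
      rw [pow_succ] at hk
      linear_combination hk
    have hu : IsUnit (algebraMap R[X] L (f + X * c)) := by
      refine IsLocalization.map_units L
        (⟨f + X * c, Submonoid.subset_closure (Or.inl ?_)⟩ :
          Submonoid.closure ({f : R[X] | f.coeff 0 = 1} ∪ {X}))
      simp [mul_coeff_zero, hf]
    rw [map_add, ← hxf, show algebraMap R[X] L f + x * algebraMap R[X] L f =
      (1 + x) * algebraMap R[X] L f by ring] at hu
    exact isUnit_of_mul_isUnit_left hu

/-- Let R be a ring, L = R(t) the localisation of R[t] at the monoid generated by t and the polynomials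
with constant term 1 (that is, (R[t]_{1+tR[t]})[1/t]), and L' an L-algebra identified with R((t))
compatibly with R[t] → R((t)). Then (b) finitely generated projective L-modules that become
isomorphic over L' are isomorphic, and (c) every stably free L'-module is the base change of a
stably free L-module. -/
theorem result (R : Type u) [CommRing R]
    (L : Type u) [CommRing L] [Algebra R[X] L]
    [IsLocalization (Submonoid.closure ({f : R[X] | f.coeff 0 = 1} ∪ {X})) L]
    (L' : Type u) [CommRing L'] [Algebra L L'] (e : L' ≃+* LaurentSeries R)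
    (he : ∀ p : R[X], e (algebraMap L L' (algebraMap R[X] L p)) =
      HahnSeries.ofPowerSeries ℤ R (Polynomial.coeToPowerSeries.ringHom p)) :
    (∀ (M N : Type u) [AddCommGroup M] [Module L M] [Module.Finite L M] [Module.Projective L M]
        [AddCommGroup N] [Module L N] [Module.Finite L N] [Module.Projective L N],
        Nonempty (L' ⊗[L] M ≃ₗ[L'] L' ⊗[L] N) → Nonempty (M ≃ₗ[L] N)) ∧
    (∀ (M' : Type u) [AddCommGroup M'] [Module L' M'] [Module.Finite L' M'],
        (∃ n m : ℕ, Nonempty ((M' × (Fin n → L')) ≃ₗ[L'] (Fin m → L'))) →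
        ∃ (M : Type u) (_ : AddCommGroup M) (_ : Module L M), Module.Finite L M ∧
          (∃ n m : ℕ, Nonempty ((M × (Fin n → L)) ≃ₗ[L] (Fin m → L))) ∧
          Nonempty (L' ⊗[L] M ≃ₗ[L'] M')) := by
  obtain ⟨F⟩ := exists_filt R L L' e he
  refine ⟨fun M N _ _ _ _ _ _ _ _ ⟨φ⟩ => DenseApprox.nonempty_linearEquiv F M N φ, ?_⟩
  intro M' _ _ _ h
  exact DenseApprox.exists_stablyFree F M' h

end Groth.Agent.S15759
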