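import Groth.Statements.S15754
import Groth.Agent.CAlg.Horrocks.Core
import Groth.Agent.S15759

set_option autoImplicit false
universe u
open TensorProduct
open CAlg

namespace Groth.Agent.S15754

/-- For an arbitrary commutative ring R, non-isomorphic finitely generated projective R-modules cannot
become isomorphic over the Laurent series ring R((t)): for an R-algebra L that is R-isomorphic to
R((t)), if L ⊗_R M ≅ L ⊗_R N as L-modules then M ≅ N. (L is R((t)) up to an R-algebra isomorphism;
it is kept abstract only so that the L-module structure on L ⊗_R M elaborates.) -/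
theorem result (R : Type u) [CommRing R]
    (L : Type u) [CommRing L] [Algebra R L] (eL : L ≃ₐ[R] LaurentSeries R)
    (M N : Type u) [AddCommGroup M] [Module R M] [Module.Finite R M] [Module.Projective R M]
    [AddCommGroup N] [Module R N] [Module.Finite R N] [Module.Projective R N]
    (e : L ⊗[R] M ≃ₗ[L] L ⊗[R] N) :
    Nonempty (M ≃ₗ[R] N) := by
  classical
  let S : Submonoid (Polynomial R) :=
    Submonoid.closure ({f : Polynomial R | f.coeff 0 = 1} ∪ {Polynomial.X})
  let g : Polynomial R →+* L := (eL.symm.toRingEquiv.toRingHom).comp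
    ((HahnSeries.ofPowerSeries ℤ R).comp Polynomial.coeToPowerSeries.ringHom)
  have hu : ∀ s : S, IsUnit (g s) := by
    rintro ⟨s, hs⟩
    obtain ⟨k, f, hf, rfl⟩ := Groth.Agent.CAlg.Horrocks.closure_form hs
    simp only [g, map_mul, map_pow, RingHom.comp_apply, Polynomial.coeToPowerSeries.ringHom_apply,
      Polynomial.coe_X, HahnSeries.ofPowerSeries_X]
    have h1 : IsUnit (HahnSeries.single (1 : ℤ) (1 : R) : LaurentSeries R) :=
      IsUnit.of_mul_eq_one (HahnSeries.single (-1 : ℤ) (1 : R))
        (by rw [HahnSeries.single_mul_single]; simp)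
    have h2 : IsUnit (f : PowerSeries R) := by
      rw [PowerSeries.isUnit_iff_constantCoeff, ← PowerSeries.coeff_zero_eq_constantCoeff_apply,
        Polynomial.coeff_coe, hf]
      exact isUnit_one
    exact ((h1.map _).pow k).mul ((h2.map _).map _)
  let lift : Localization S →+* L := IsLocalization.lift hu
  let := lift.toAlgebra
  have : IsScalarTower R (Localization S) L := IsScalarTower.of_algebraMap_eq fun r => by
    show _ = lift (algebraMap R (Localization S) r)
    rw [IsScalarTower.algebraMap_apply R (Polynomial R) (Localization S),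
      IsLocalization.lift_eq (M := S) hu]
    show algebraMap R L r = eL.symm (HahnSeries.ofPowerSeries ℤ R _)
    apply eL.injective
    rw [AlgEquiv.apply_symm_apply, AlgEquiv.commutes, Polynomial.algebraMap_eq,
      Polynomial.coeToPowerSeries.ringHom_apply, Polynomial.coe_C, HahnSeries.ofPowerSeries_C]
    rw [HahnSeries.algebraMap_apply', PowerSeries.algebraMap_apply, HahnSeries.ofPowerSeries_C]; rfl
  obtain ⟨F⟩ := Groth.Agent.S15759.exists_filt R (Localization S) L eL.toRingEquiv (fun p => by
    show eL.toRingEquiv (lift _) = _
    rw [IsLocalization.lift_eq (M := S) hu]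
    show eL (eL.symm _) = _
    rw [AlgEquiv.apply_symm_apply]
    rfl)
  let cM := TensorProduct.AlgebraTensorModule.cancelBaseChange R (Localization S) L L M
  let cN := TensorProduct.AlgebraTensorModule.cancelBaseChange R (Localization S) L L N
  obtain ⟨ψ⟩ := Groth.Agent.CAlg.DenseApprox.nonempty_linearEquiv F
    (Localization S ⊗[R] M) (Localization S ⊗[R] N) (cM ≪≫ₗ e ≪≫ₗ cN.symm)
  exact Groth.Agent.CAlg.Horrocks.nonempty_linearEquiv_of_localization (Localization S) M N ψ

end Groth.Agent.S15754
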