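import Groth.Statements.S15755
import Groth.Agent.SmoothingLib.ApproxFunctor

set_option autoImplicit false
universe u
open CategoryTheory CategoryTheory.Limits
open CAlg

namespace Groth.Agent.S15755

/-- Let (A, I) be a Henselian pair with A Noetherian whose map to the I-adic completion Â is a regular
ring homomorphism, and let F be a set-valued functor on commutative A-algebras preserving filtered
colimits. Then F(A) → F(Â) is injective, and an element of F(A/I) is in the image of F(A) if and
only if it is in the image of F(Â) under the canonical A-algebra map Â → A/I. -/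
theorem result (A : Type u) [CommRing A]
    [IsNoetherianRing A] (I : Ideal A) [HenselianRing A I]
    (hreg : CAlg.IsRegularHom A (AdicCompletion I A))
    (F : CommAlgCat.{u} A ⥤ Type u) [PreservesFilteredColimitsOfSize.{u, u} F] :
    Function.Injective (F.map (CommAlgCat.ofHom (Algebra.ofId A (AdicCompletion I A)))) ∧
    ∀ xbar : F.obj (CommAlgCat.of A (A ⧸ I)),
      (∃ x : F.obj (CommAlgCat.of A A), F.map (CommAlgCat.ofHom (Ideal.Quotient.mkₐ A I)) x = xbar) ↔
      (∃ y : F.obj (CommAlgCat.of A (AdicCompletion I A)),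
        F.map (CommAlgCat.ofHom (AdicCompletion.evalOneₐ I)) y = xbar) := by
  classical
  haveI : IsNoetherianRing (AdicCompletion I A) :=
    Groth.Agent.RegLoc.Completion.isNoetherianRing_adicCompletion' I
  refine ⟨?_, fun xbar => ⟨?_, ?_⟩⟩
  · intro x y hxy
    let hc := isColimitOfPreserves F (Groth.Agent.SmoothingLib.ApproxFunctor.isColimit A (AdicCompletion I A))
    let j₀ : Groth.Agent.SmoothingLib.ApproxFunctor.Idx A (AdicCompletion I A) := Classical.arbitrary _
    let ι₀ : CommAlgCat.of A A ⟶ (Groth.Agent.SmoothingLib.ApproxFunctor.diag A (AdicCompletion I A)).obj j₀ :=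
      CommAlgCat.ofHom (Algebra.ofId A _)
    have hι : ι₀ ≫ (Groth.Agent.SmoothingLib.ApproxFunctor.cocone A (AdicCompletion I A)).ι.app j₀ =
        CommAlgCat.ofHom (Algebra.ofId A (AdicCompletion I A)) :=
      CommAlgCat.hom_ext (Subsingleton.elim _ _)
    have heq : (F.mapCocone (Groth.Agent.SmoothingLib.ApproxFunctor.cocone A (AdicCompletion I A))).ι.app j₀ (F.map ι₀ x) =
        (F.mapCocone (Groth.Agent.SmoothingLib.ApproxFunctor.cocone A (AdicCompletion I A))).ι.app j₀ (F.map ι₀ y) := by
      show (F.map ι₀ ≫ F.map _) x = (F.map ι₀ ≫ F.map _) y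
      rw [← F.map_comp, hι]
      exact hxy
    obtain ⟨j, e, e', hj⟩ := (Types.FilteredColimit.isColimit_eq_iff _ hc).1 heq
    obtain rfl : e = e' := Subsingleton.elim _ _
    haveI : Algebra.FinitePresentation A (MvPolynomial j.s A ⧸ j.I) :=
      Algebra.FinitePresentation.quotient j.fg
    obtain ⟨τ, -⟩ := Groth.Agent.SmoothingLib.Approx.exists_point I hreg
      (Groth.Agent.SmoothingLib.ApproxFunctor.toTarget j) 1 one_ne_zero
    let τ' : (Groth.Agent.SmoothingLib.ApproxFunctor.diag A (AdicCompletion I A)).obj j ⟶ CommAlgCat.of A A :=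
      CommAlgCat.ofHom τ
    have hid : ι₀ ≫ (Groth.Agent.SmoothingLib.ApproxFunctor.diag A (AdicCompletion I A)).map e ≫
        τ' = 𝟙 (CommAlgCat.of A A) := CommAlgCat.hom_ext (Subsingleton.elim _ _)
    have h2 := congrArg (F.map τ') hj
    have h3 : ∀ z, F.map (τ') ((F.map ((Groth.Agent.SmoothingLib.ApproxFunctor.diag A
        (AdicCompletion I A)).map e)) (F.map ι₀ z)) = z := fun z => by
      show (F.map ι₀ ≫ F.map ((Groth.Agent.SmoothingLib.ApproxFunctor.diag A (AdicCompletion I A)).map e) ≫
        F.map τ') z = z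
      rw [← F.map_comp, ← F.map_comp, hid, F.map_id]
      rfl
    exact (h3 x).symm.trans (h2.trans (h3 y))
  · rintro ⟨x, rfl⟩
    refine ⟨F.map (CommAlgCat.ofHom (Algebra.ofId A (AdicCompletion I A))) x, ?_⟩
    show (F.map _ ≫ F.map _) x = _
    rw [← F.map_comp]
    exact congrArg (fun g => F.map g x) (CommAlgCat.hom_ext (Subsingleton.elim _ _))
  · rintro ⟨y, rfl⟩
    obtain ⟨T, _, _, hT, f, η, rfl⟩ :=
      Groth.Agent.SmoothingLib.ApproxFunctor.exists_fp_preimage F y
    haveI := hT
    obtain ⟨τ, hτ⟩ := Groth.Agent.SmoothingLib.Approx.exists_point I hreg f 1 one_ne_zero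
    refine ⟨F.map (CommAlgCat.ofHom τ) η, ?_⟩
    show (F.map _ ≫ F.map _) η = (F.map _ ≫ F.map _) η
    rw [← F.map_comp, ← F.map_comp]
    refine congrArg (fun g => F.map g η) ?_
    refine CommAlgCat.hom_ext (AlgHom.ext fun t => ?_)
    have h1 := DFunLike.congr_fun hτ t
    show Ideal.Quotient.mk I (τ t) = AdicCompletion.evalOneₐ I (f t)
    have h2 : AdicCompletion.evalOneₐ I (f t) =
        Ideal.Quotient.factor (pow_one I).le (AdicCompletion.evalₐ I 1 (f t)) := rfl
    rw [h2, ← show Ideal.Quotient.mk (I ^ 1) (τ t) = AdicCompletion.evalₐ I 1 (f t) from h1]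
    rfl

end Groth.Agent.S15755
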