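import Groth.Statements.S15756
import Mathlib
import Groth.Agent.Elkik88.Principal

set_option autoImplicit false
universe u
open CAlg

namespace Groth.Agent.S15756

theorem eval_compat {A : Type u} [CommRing A] (I : Ideal A) {n L : ℕ} (h : n ≤ L)
    (x : AdicCompletion I A) (r : A) (hr : Ideal.Quotient.mk (I ^ L) r = AdicCompletion.evalₐ I L x) :
    Ideal.Quotient.mk (I ^ n) r = AdicCompletion.evalₐ I n x := by
  induction x using AdicCompletion.induction_on with
  | h a =>
    rw [AdicCompletion.evalₐ_mk] at hr ⊢
    have h1 : r - a L ∈ I ^ n := Ideal.pow_le_pow_right h (Ideal.Quotient.eq.mp hr)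
    have h2 : a n - a L ∈ I ^ n := by simpa using SModEq.sub_mem.mp (a.property h)
    rw [Ideal.Quotient.eq]
    simpa using sub_mem h1 h2

/-- Case of the whole affine base U = Spec A, the unit ideal I = A and an affine scheme X: let A be a
ring with an element t such that (A, tA) is a Henselian pair and the t-power torsion of A is
bounded, let Â be the t-adic completion, and let B be an A-algebra of finite type with B[1/t] smooth
over A[1/t]. Then every A-algebra homomorphism B → Â is congruent modulo t^n, for any prescribed n,
to an A-algebra homomorphism B → A. (The published statement allows any quasi-compact open U of Spec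
A containing Spec A[1/t], any bounded Zariski Gabber–Ramero triple (A, t, I) that is Henselian (or,
instead, satisfies a lifting condition for Zariski pairs over A[1/t]), and U-schemes locally of
finite type that are ind-quasi-affine or subprojective and smooth over A[1/t], and it asserts
density of X(U) in X(U_Â) for the (t, I)-adic topology; this row is the case U = Spec A, I = A, X =
Spec B affine, under the Henselian alternative.) -/
theorem result (A : Type u) [CommRing A] (t : A)
    [HenselianRing A (Ideal.span {t})]
    (hbd : ∃ N : ℕ, ∀ a : A, (∃ m : ℕ, t ^ m * a = 0) → t ^ N * a = 0)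
    (B : Type u) [CommRing B] [Algebra A B] [Algebra.FiniteType A B]
    (hsm : Algebra.Smooth (Localization.Away t)
      (Localization (Algebra.algebraMapSubmonoid B (Submonoid.powers t))))
    (n : ℕ) (σ : B →ₐ[A] AdicCompletion (Ideal.span {t}) A) :
    ∃ τ : B →ₐ[A] A,
      (Ideal.Quotient.mkₐ A (Ideal.span {t} ^ n)).comp τ =
        (AdicCompletion.evalₐ (Ideal.span {t}) n).comp σ := by
  obtain ⟨N, hN⟩ := hbd
  obtain ⟨L, hnL, hL⟩ := Elkik88.exists_algHom_of_approx t hN B hsm n
  obtain ⟨τ, hτ⟩ := hL ((AdicCompletion.evalₐ (Ideal.span {t}) L).comp σ)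
  refine ⟨τ, AlgHom.ext fun b => ?_⟩
  obtain ⟨r, hr⟩ := Ideal.Quotient.mk_surjective (AdicCompletion.evalₐ (Ideal.span {t}) L (σ b))
  show Ideal.Quotient.mk _ (τ b) = AdicCompletion.evalₐ (Ideal.span {t}) n (σ b)
  rw [← eval_compat _ hnL _ r hr, Ideal.Quotient.eq]
  exact hτ b r hr

end Groth.Agent.S15756
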