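import Groth.Statements.S15757
import Groth.Agent.S15751
import Groth.Agent.FpqcDesc.Props
import Groth.Agent.GITLib.TorsorSchMore
import Groth.Agent.LaurTorus.Cyclic
import Groth.Agent.LaurTorus.TrivPic
import Groth.Agent.LaurTorus.TorusPts
import Groth.Agent.LaurTorus.UnitsData

set_option autoImplicit false
set_option linter.style.haveILetI false
universe u
open CategoryTheory MonoidalCategory CartesianMonoidalCategory MonObj GrpObj AlgebraicGeometry
open NonAbH1

namespace Groth.Agent.S15757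

open Groth.Agent.LaurTorus in
/-- Descend an invariant point of an affine scheme. -/
theorem exists_section_of_invariant {L L' : Type u} [CommRing L] [CommRing L'] (φ : L →+* L') (hφ : Function.Injective φ)
    (σ : L' →+* L') (hσ : σ.comp φ = φ) (hfix : ∀ x, σ x = x → ∃ y, φ y = x)
    {X : Over (Spec (CommRingCat.of L))} [IsAffine X.left] (y : src φ ⟶ X) (hy : smap φ φ σ hσ ≫ y = y) :
    NonAbH1.HasSectionOver X (𝟙 (Spec (CommRingCat.of L))) := by
  obtain ⟨ψ, hψ⟩ := Spec.map_surjective (y.left ≫ X.left.isoSpec.hom)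
  have hσψ : ψ ≫ CommRingCat.ofHom σ = ψ := Spec.map_injective (by
    rw [Spec.map_comp, hψ]
    have := congrArg CommaMorphism.left hy
    simp only [Over.comp_left, smap, Over.homMk_left] at this
    rw [reassoc_of% this])
  have hmem : ∀ x, ψ.hom x ∈ φ.range := fun x => hfix _ congr($hσψ x)
  let ψ' : Γ(X.left, ⊤) →+* L :=
    ((RingEquiv.ofBijective φ.rangeRestrict ⟨fun a b h => hφ (congrArg Subtype.val h),
      φ.rangeRestrict_surjective⟩).symm.toRingHom).comp (ψ.hom.codRestrict φ.range hmem)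
  have hψ' : φ.comp ψ' = ψ.hom := RingHom.ext fun x => by
    let eq := RingEquiv.ofBijective φ.rangeRestrict ⟨fun a b h => hφ (congrArg Subtype.val h),
      φ.rangeRestrict_surjective⟩
    exact congrArg Subtype.val (eq.apply_symm_apply (ψ.hom.codRestrict φ.range hmem x))
  let s := Spec.map (CommRingCat.ofHom ψ') ≫ X.left.isoSpec.inv
  obtain ⟨k, hk⟩ := Spec.map_surjective (s ≫ X.hom)
  have hys : Spec.map (CommRingCat.ofHom φ) ≫ s = y.left := by
    show Spec.map (CommRingCat.ofHom φ) ≫ Spec.map (CommRingCat.ofHom ψ') ≫ _ = _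
    rw [← Spec.map_comp_assoc, ← CommRingCat.ofHom_comp, hψ', CommRingCat.ofHom_hom, hψ]
    simp
  have hk1 : k ≫ CommRingCat.ofHom φ = CommRingCat.ofHom φ := Spec.map_injective (by
    rw [Spec.map_comp, hk, reassoc_of% hys]
    exact Over.w y)
  refine ⟨s, ?_⟩
  rw [← hk, ← Spec.map_id]
  exact congrArg Spec.map (CommRingCat.hom_ext (RingHom.ext fun x => hφ congr($hk1 x)))

open Groth.Agent.LaurTorus in
/-- Twisting by a power of the automorphism. -/
theorem pts_pow {L L' : Type u} [CommRing L] [CommRing L'] (φ : L →+* L') {M : Type} [AddCommGroup M]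
    {T : Over (Spec (CommRingCat.of L))} [GrpObj T]
    (e : Red.bc (Spec.map (CommRingCat.ofHom φ)) T ≅ Red.DS (Spec (CommRingCat.of L')) M) [IsMonHom e.hom]
    (σ : L' →+* L') (hσ : σ.comp φ = φ) (ρ : M →ₗ[ℤ] M)
    (hρ : ∀ (C : Type u) [CommRing C] (j : L' →+* C) (k : L →+* C) (hk : j.comp φ = k)
      (hk' : (j.comp σ).comp φ = k) (g : src k ⟶ T),
      pts φ e (j.comp σ) k hk' g = (pts φ e j k hk g).comp ρ.toAddMonoidHom)
    {C : Type u} [CommRing C] (j : L' →+* C) (k : L →+* C) (hk : j.comp φ = k) (i : ℕ)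
    (hk' : (j.comp (σ ^ i)).comp φ = k) (g : src k ⟶ T) :
    pts φ e (j.comp (σ ^ i)) k hk' g = (pts φ e j k hk g).comp (ρ ^ i).toAddMonoidHom := by
  induction i generalizing j with
  | zero =>
    have hj : ∀ (j' : L' →+* C) (h' : j'.comp φ = k), j' = j → pts φ e j' k h' g = pts φ e j k hk g := by
      rintro j' h' rfl; rfl
    rw [hj _ hk' (RingHom.ext fun x => rfl)]
    exact AddMonoidHom.ext fun x => rfl
  | succ i ih =>
    have hcongr : ∀ (j₁ j₂ : L' →+* C) (h₁ : j₁.comp φ = k) (h₂ : j₂.comp φ = k), j₁ = j₂ →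
        pts φ e j₁ k h₁ g = pts φ e j₂ k h₂ g := by
      rintro j₁ j₂ h₁ h₂ rfl; rfl
    have h1 : (j.comp σ).comp φ = k := by rw [RingHom.comp_assoc, hσ, hk]
    have hpow : j.comp (σ ^ (i + 1)) = (j.comp σ).comp (σ ^ i) := by rw [pow_succ']; rfl
    rw [hcongr _ _ hk' (by rw [← hpow, hk']) hpow, ih (j.comp σ) h1 _, hρ C j k hk h1 g]
    refine AddMonoidHom.ext fun x => ?_
    rw [pow_succ']
    rfl

/-- Let R be a seminormal strictly Henselian local ring, d > 0 an integer invertible in R, and T a group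
scheme over the Laurent series ring R((t)) which becomes a split torus after base change along the
substitution t ↦ t^d of R((t)) into itself (that is, over R((t^{1/d}))). Then every fppf torsor
under T over Spec R((t)) is trivial. The substitution map is Mathlib's embDomainRingHom for
multiplication by d on exponents; its injectivity and monotonicity are carried as (provable)
hypotheses. -/
theorem result (R : Type u) [CommRing R]
    [HenselianLocalRing R] [IsSepClosed (IsLocalRing.ResidueField R)] (hR : HTop.IsSeminormalRing R)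
    (d : ℕ) (hd : 0 < d) (hdu : IsUnit (d : R))
    (hinj : Function.Injective (AddMonoidHom.mulLeft (d : ℤ)))
    (hmono : ∀ g g' : ℤ, AddMonoidHom.mulLeft (d : ℤ) g ≤ AddMonoidHom.mulLeft (d : ℤ) g' ↔ g ≤ g')
    (T : Over (Spec (CommRingCat.of (LaurentSeries R)))) [GrpObj T] (r : ℕ)
    (hsplit : Red.IsSplitTorusWith (Fin r → ℤ)
      (Red.bc (Spec.map (CommRingCat.ofHom
        (HahnSeries.embDomainRingHom (R := R) (AddMonoidHom.mulLeft (d : ℤ)) hinj hmono))) T))
    (X : Over (Spec (CommRingCat.of (LaurentSeries R)))) (a : AlgGrp.Action T X)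
    (hX : NonAbH1.IsTorsorFor Scheme.fppfPrecoverage a) :
    NonAbH1.HasSectionOver X (𝟙 (Spec (CommRingCat.of (LaurentSeries R)))) := by
  haveI := LaurTorus.isReduced_of_seminormal hR
  have hconn : ∀ x : R, IsIdempotentElem x → x = 0 ∨ x = 1 := LaurTorus.isIdempotentElem_local
  have hconnL := LaurTorus.idempotent_eq hconn
  haveI : Nontrivial (LaurentSeries R) := HahnSeries.C_injective.nontrivial
  obtain ⟨z, hz, hprim, hroots⟩ := LaurTorus.exists_primitive d hdu hd
  let φ := LaurTorus.phi (R := R) d hinj hmono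
  let σ := LaurTorus.sig z
  have hσ : σ.comp φ = φ := LaurTorus.sig_comp_phi d hinj hmono hz
  have hff : φ.FaithfullyFlat := LaurTorus.faithfullyFlat_phi d hinj hmono hd
  obtain ⟨eG⟩ := hsplit
  let f := Spec.map (CommRingCat.ofHom φ)
  let e : Red.bc f T ≅ Red.DS (Spec (CommRingCat.of (LaurentSeries R))) (Fin r → ℤ) := (Grp.forget _).mapIso eG
  haveI : IsMonHom e.hom := eG.hom.hom.isMonHom_hom
  haveI : Flat f := (HasRingHomProperty.Spec_iff (P := @Flat)).2 hff.flat
  haveI : Surjective f := ⟨(RingHom.FaithfullyFlat.iff_flat_and_comap_surjective.1 hff).2⟩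
  -- a point over the extension, and affineness
  have hpic : ∀ (P : Type u) [AddCommGroup P] [Module (LaurentSeries R) P]
      [Module.Invertible (LaurentSeries R) P], Module.Free (LaurentSeries R) P :=
    fun P => Groth.Agent.S15751.result R hR P
  obtain ⟨s, hs⟩ := LaurTorus.hasSection_of_split hpic e (NonAbH1.isTorsorFor_bc f _ hX)
  let s' : 𝟙_ (Over (Spec (CommRingCat.of (LaurentSeries R)))) ⟶ Red.bc f X := Over.homMk s hs
  haveI : IsAffine X.left := by
    haveI := GITLib.isIso_trivialisation (a := a.bc f) (NonAbH1.isPseudoTorsorSch_bc f hX.1) s'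
    let i : Red.bc f X ≅ Red.DS (Spec (CommRingCat.of (LaurentSeries R))) (Fin r → ℤ) :=
      (ρ_ _).symm ≪≫ (asIso (lift ((Red.bc f T ◁ s') ≫ (a.bc f).act) (snd (Red.bc f T) _))).symm ≪≫ ρ_ _ ≪≫ e
    haveI : IsAffine (Red.diag (ULift.{u} ℤ) (Fin r → ℤ)).left := inferInstanceAs (IsAffine (Spec _))
    haveI : IsAffineHom (Red.DS (Spec (CommRingCat.of (LaurentSeries R))) (Fin r → ℤ)).hom := by
      show IsAffineHom (Limits.pullback.snd _ _)
      infer_instance
    haveI : IsIso i.hom.left := inferInstanceAs (IsIso ((Over.forget _).map i.hom))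
    have hs' : IsAffineHom (Limits.pullback.snd X.hom f) := by
      show IsAffineHom (Red.bc f X).hom
      rw [← Over.w i.hom]
      infer_instance
    have := FpqcDesc.descendsAlong_isAffineHom.{u}
    haveI : IsAffineHom X.hom := MorphismProperty.of_pullback_snd_of_descendsAlong
      (P := @IsAffineHom) (Q := FpqcDesc.FPQC) (g := f) ⟨⟨inferInstance, inferInstance⟩, inferInstance⟩ hs'
    exact isAffine_of_isAffineHom X.hom
  let x : LaurTorus.src φ ⟶ X := Over.homMk (s ≫ Limits.pullback.fst X.hom f) (by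
    rw [Category.assoc, Limits.pullback.condition]
    exact (Category.assoc _ _ _).symm.trans ((congrArg (· ≫ f) hs).trans (Category.id_comp f)))
  -- the cocycle
  let su := LaurTorus.smap φ φ σ hσ
  obtain ⟨g, hg, -⟩ := GITLib.existsUnique_diff hX.1 x (su ≫ x)
  have hid : (RingHom.id (LaurentSeries R)).comp φ = φ := RingHom.id_comp φ
  let Ψ := LaurTorus.pts φ e (RingHom.id _) φ hid
  obtain ⟨ρ₀, hρ₀⟩ := LaurTorus.exists_twist φ e σ hσ hconnL
  have hσd : σ ^ d = RingHom.id _ := RingHom.ext fun v => by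
    rw [RingHom.coe_pow]; exact LaurTorus.sig_iterate d hz v
  have hσi : ∀ i : ℕ, (σ ^ i).comp φ = φ := fun i => by
    induction i with
    | zero => exact RingHom.ext fun v => rfl
    | succ i ih => rw [pow_succ', show σ * σ ^ i = σ.comp (σ ^ i) from rfl, RingHom.comp_assoc, ih, hσ]
  have hρd : ρ₀ ^ d = 1 := by
    let U := AddMonoidAlgebra (LaurentSeries R) (Fin r → ℤ)
    let j : LaurentSeries R →+* U := algebraMap _ U
    let q := (LaurTorus.pts φ e j (j.comp φ) rfl).symm LaurTorus.tau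
    have h := pts_pow φ e σ hσ ρ₀ hρ₀ j (j.comp φ) rfl d (by rw [RingHom.comp_assoc, hσi]) q
    have hj : ∀ (j' : LaurentSeries R →+* U) (h' : j'.comp φ = j.comp φ), j' = j →
        LaurTorus.pts φ e j' (j.comp φ) h' q = LaurTorus.pts φ e j (j.comp φ) rfl q := by
      rintro j' h' rfl; rfl
    rw [hj _ _ (by rw [hσd, RingHom.comp_id]), Equiv.apply_symm_apply] at h
    refine LinearMap.ext fun m => ?_
    have h2 := congrArg (fun v : Additive Uˣ => ((v.toMul : Uˣ) : U)) (DFunLike.congr_fun h m)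
    simp only [AddMonoidHom.comp_apply, LaurTorus.tau_val] at h2
    exact ((AddMonoidAlgebra.single_left_inj one_ne_zero).1 h2).symm
  let ρ := ρ₀ ^ (d - 1)
  have hρρ : ∀ m, ρ₀ (ρ m) = m := fun m => by
    show (ρ₀ * ρ₀ ^ (d - 1)) m = m
    rw [← pow_succ', Nat.sub_add_cancel hd, hρd]
    rfl
  have hΨ : ∀ q : LaurTorus.src φ ⟶ T, Ψ (su ≫ q) = LaurTorus.θ (LaurTorus.sigU z) ρ (Ψ q) := fun q => by
    refine AddMonoidHom.ext fun m => ?_
    have h1 := LaurTorus.pts_smap φ e (RingHom.id _) φ hid σ φ hσ σ hσ (RingHom.comp_id σ) q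
    have h2 := hρ₀ (LaurentSeries R) (RingHom.id _) φ hid (by rw [RingHom.id_comp, hσ]) (su ≫ q)
    have hj : ∀ (j' : LaurentSeries R →+* LaurentSeries R) (h' : j'.comp φ = φ), j' = σ →
        LaurTorus.pts φ e j' φ h' (su ≫ q) = LaurTorus.pts φ e σ φ hσ (su ≫ q) := by
      rintro j' h' rfl; rfl
    rw [hj _ _ (RingHom.id_comp σ), h1] at h2
    have h3 := DFunLike.congr_fun h2 (ρ m)
    rw [AddMonoidHom.comp_apply, LinearMap.toAddMonoidHom_coe, hρρ] at h3
    exact h3.symm
  have hmul : ∀ q q' : LaurTorus.src φ ⟶ T, Ψ (q * q') = Ψ q + Ψ q' := LaurTorus.pts_mul φ e _ φ hid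
  let α := Ψ g
  have hN : ∀ i : ℕ, ∃ q : LaurTorus.src φ ⟶ T, Ψ q = ∑ l ∈ Finset.range i, (LaurTorus.θ (LaurTorus.sigU z) ρ)^[l] α ∧
      lift q x ≫ a.act = LaurTorus.smap φ φ (σ ^ i) (hσi i) ≫ x := by
    intro i
    induction i with
    | zero =>
      refine ⟨1, by simpa using LaurTorus.pts_one φ e _ φ hid, ?_⟩
      rw [a.lift_one_act, show LaurTorus.smap φ φ (σ ^ 0) (hσi 0) = 𝟙 _ from
        Over.OverMorphism.ext (Spec.map_id _), Category.id_comp]
    | succ i ih =>
      obtain ⟨q, hq, hq'⟩ := ih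
      refine ⟨(su ≫ q) * g, ?_, ?_⟩
      · rw [hmul, hΨ, hq, map_sum, Finset.sum_range_succ', Function.iterate_zero_apply]
        exact congrArg (· + α) (Finset.sum_congr rfl fun l _ => (Function.iterate_succ_apply' _ l α).symm)
      · rw [a.lift_mul_act, hg, ← GITLib.comp_lift_act, hq', ← Category.assoc]
        congr 1
        refine Over.OverMorphism.ext ?_
        show Spec.map _ ≫ Spec.map _ = Spec.map _
        rw [← Spec.map_comp, ← CommRingCat.ofHom_comp, pow_succ']
  obtain ⟨qd, hqd, hqd'⟩ := hN d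
  have hcoc : ∑ l ∈ Finset.range d, (LaurTorus.θ (LaurTorus.sigU z) ρ)^[l] α = 0 := by
    rw [← hqd, ← LaurTorus.pts_one φ e (RingHom.id _) φ hid]
    refine congrArg Ψ ((GITLib.existsUnique_diff hX.1 x x).unique ?_ (a.lift_one_act x))
    rw [hqd', show LaurTorus.smap φ φ (σ ^ d) (hσi d) = 𝟙 _ from Over.OverMorphism.ext (by
      show Spec.map (CommRingCat.ofHom (σ ^ d)) = 𝟙 _
      rw [hσd]; exact Spec.map_id _), Category.id_comp]
  obtain ⟨val, κ, S₀, Z, η₀, c1, c2, c3, c4, c5, c6, c7, c8, c9, c10, c11, c12⟩ := LaurTorus.exists_data hconn hd hdu z hz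
    hprim hroots (fun c hc => LaurTorus.exists_root d hdu hd hc)
  have hρd' : ρ ^ d = 1 := by rw [← pow_mul, mul_comm, pow_mul, hρd, one_pow]
  obtain ⟨b, hb⟩ := LaurTorus.exists_coboundary (LaurTorus.sigU z) ρ val κ S₀ Z η₀ d hd hρd' c1 c2 c3 c4 c5 c6 c7 c8 c9
    c10 c11 c12 α hcoc
  obtain ⟨gb, rfl⟩ := Ψ.surjective b
  refine exists_section_of_invariant φ (fun v v' h => HahnSeries.ext (funext fun n => by
    rw [← LaurTorus.phi_coeff_mul d hinj hmono v n, ← LaurTorus.phi_coeff_mul d hinj hmono v' n]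
    exact congrArg (fun w : LaurentSeries R => w.coeff _) h)) σ hσ
    (LaurTorus.exists_phi_eq d hinj hmono hd hz hprim) (lift gb x ≫ a.act) ?_
  rw [GITLib.comp_lift_act, ← hg, ← a.lift_mul_act]
  congr 2
  apply Ψ.injective
  rw [hmul, hΨ]
  exact (sub_eq_iff_eq_add'.1 hb).symm

end Groth.Agent.S15757
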