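import Groth.Statements.S15758
import Groth.Agent.GITLib.Elkik.Kernel
import Groth.Agent.Hens.PairHfp
import Groth.Agent.Hensel.Pair
import Mathlib.RingTheory.PowerSeries.Trunc
import Mathlib.RingTheory.LaurentSeries
-- import your own Groth.Agent.* helpers here

set_option autoImplicit false
universe u
open CategoryTheory MonoidalCategory CartesianMonoidalCategory MonObj GrpObj AlgebraicGeometry Polynomial
open NonAbH1

set_option backward.isDefEq.respectTransparency false
set_option linter.style.haveILetI false

namespace Groth.Agent.S15758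

/-- Truncation as a ring map to the quotient of polynomials. -/
theorem exists_truncHom (R : Type u) [CommRing R] (L : ℕ) :
    ∃ h : PowerSeries R →+* R[X] ⧸ Ideal.span {(X : R[X]) ^ L},
      (∀ p : R[X], h (p : PowerSeries R) = Ideal.Quotient.mk _ p) ∧ h ((PowerSeries.X : PowerSeries R) ^ L) = 0 := by
  let m := Ideal.Quotient.mk (Ideal.span {(X : R[X]) ^ L})
  have key : ∀ p : R[X], m (PowerSeries.trunc L (p : PowerSeries R)) = m p := fun p => by
    rw [Ideal.Quotient.eq, Ideal.mem_span_singleton, Polynomial.X_pow_dvd_iff]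
    intro d hd
    rw [Polynomial.coeff_sub, PowerSeries.coeff_trunc, if_pos hd, Polynomial.coeff_coe, sub_self]
  refine ⟨{ toFun := fun f => m (PowerSeries.trunc L f)
            map_one' := by
              have := key 1
              rw [Polynomial.coe_one] at this
              exact this.trans (map_one m)
            map_mul' := fun f g => by
              rw [← map_mul, ← key (PowerSeries.trunc L f * PowerSeries.trunc L g), Polynomial.coe_mul,
                PowerSeries.trunc_trunc_mul_trunc]
            map_zero' := by rw [map_zero, map_zero]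
            map_add' := fun f g => by rw [map_add, map_add] }, key, ?_⟩
  show m (PowerSeries.trunc L _) = 0
  rw [← Polynomial.coe_X, ← Polynomial.coe_pow, key, Ideal.Quotient.eq_zero_iff_mem]
  exact Ideal.mem_span_singleton_self _

/-- The henselisation truncates like the power series. -/
theorem exists_evals {R : Type u} [CommRing R] {B : Type u} [CommRing B] [Algebra R[X] B]
    (hB : Hens2.IsPairHenselization R[X] (Ideal.span {(X : R[X])}) B) (ψ : B →ₐ[R[X]] PowerSeries R) (L : ℕ) :
    ∃ e : PowerSeries R →+* B ⧸ Ideal.span {algebraMap R[X] B X} ^ L,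
      ∀ b, e (ψ b) = Ideal.Quotient.mk _ b := by
  rcases Nat.eq_zero_or_pos L with rfl | hL
  · haveI : Subsingleton (B ⧸ Ideal.span {algebraMap R[X] B X} ^ 0) :=
      Ideal.Quotient.subsingleton_iff.2 (by rw [pow_zero, Ideal.one_eq_top])
    exact ⟨{ toFun := fun _ => 0, map_one' := Subsingleton.elim _ _, map_mul' := fun _ _ => Subsingleton.elim _ _,
             map_zero' := rfl, map_add' := fun _ _ => Subsingleton.elim _ _ }, fun _ => Subsingleton.elim _ _⟩
  let I : Ideal R[X] := Ideal.span {(X : R[X])}
  let I' : Ideal R[X] := Ideal.span {(X : R[X]) ^ L}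
  have hI' : I' = I ^ L := (Ideal.span_singleton_pow _ _).symm
  have hB' : Hens2.IsPairHenselization R[X] I' B := by
    refine ⟨?_, fun C _ J f hJ hle => hB.2 C (J ⊔ I.map f) f ?_ le_sup_right⟩
    · haveI := hB.1
      exact Hensel.henselianRing_of_radical_eq (I := I.map (algebraMap R[X] B))
        ((Ideal.map_mono (hI'.le.trans (Ideal.pow_le_self hL.ne'))).trans Ideal.le_radical)
    · refine Hensel.henselianRing_of_radical_eq (I := J) (sup_le Ideal.le_radical ?_)
      rw [Ideal.map_le_iff_le_comap, Ideal.span_le, Set.singleton_subset_iff]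
      refine ⟨L, ?_⟩
      rw [← map_pow]
      exact hle (Ideal.mem_map_of_mem f (Ideal.mem_span_singleton_self _))
  have hbij := Hens.bijective_quotientMap_of_isPairHenselization hB'
  obtain ⟨h, hh, hhX⟩ := exists_truncHom R L
  have hle : I'.map (algebraMap R[X] B) ≤ Ideal.span {algebraMap R[X] B X} ^ L := by
    rw [Ideal.map_span, Set.image_singleton, map_pow, Ideal.span_singleton_pow]
  refine ⟨(Ideal.Quotient.factor hle).comp ((Ideal.quotientMap (I'.map (algebraMap R[X] B)) (algebraMap R[X] B)
    Ideal.le_comap_map).comp h), fun b => ?_⟩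
  obtain ⟨p, hp⟩ := hbij.2 (Ideal.Quotient.mk _ b)
  obtain ⟨p, rfl⟩ := Ideal.Quotient.mk_surjective p
  rw [Ideal.quotientMap_mk, Ideal.Quotient.eq] at hp
  obtain ⟨c, hc⟩ : ∃ c, algebraMap R[X] B p - b = algebraMap R[X] B ((X : R[X]) ^ L) * c := by
    rwa [Ideal.map_span, Set.image_singleton, Ideal.mem_span_singleton] at hp
  have h1 : ψ (algebraMap R[X] B p) = (p : PowerSeries R) := ψ.commutes p
  have h2 : h (ψ b) = Ideal.Quotient.mk I' p := by
    rw [← hh p, ← h1, show b = algebraMap R[X] B p - algebraMap R[X] B ((X : R[X]) ^ L) * c from by rw [← hc]; ring,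
      map_sub, map_mul, map_sub, map_mul, show ψ (algebraMap R[X] B ((X : R[X]) ^ L)) = (PowerSeries.X : PowerSeries R) ^ L from by
        rw [ψ.commutes]
        exact (Polynomial.coe_pow L).trans (by rw [Polynomial.coe_X]), hhX, zero_mul, sub_zero]
  show Ideal.Quotient.factor hle (Ideal.quotientMap _ _ Ideal.le_comap_map (h (ψ b))) = _
  rw [h2, Ideal.quotientMap_mk, Ideal.Quotient.factor_mk, Ideal.Quotient.eq]
  exact hle (Ideal.mem_map_of_mem _ (Ideal.mem_span_singleton_self _) |> fun hm => by rw [hc]; exact Ideal.mul_mem_right c _ hm)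


/-- The Laurent-series instance, kernel form, for an affine smooth group: let R be a ring, B = R{t} a
henselization of R[t] along (t), ψ : B → R[[t]] the canonical R[t]-algebra map, and χ : B[1/t] →
R((t)) the induced map. For an affine smooth B[1/t]-group scheme G, an fppf G-torsor over Spec
B[1/t] which acquires a section over Spec R((t)) has a section. (The published statement is a
bijection H¹(R{t}[1/t], G) ≅ H¹(R((t)), G) for quasi-affine smooth G and an injection for smooth
quasi-separated G; this row is the triviality of the kernel for affine smooth G.) -/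
theorem result (R : Type u) [CommRing R]
    (B : Type u) [CommRing B] [Algebra R[X] B] (hB : Hens2.IsPairHenselization R[X] (Ideal.span {(X : R[X])}) B)
    (ψ : B →ₐ[R[X]] PowerSeries R)
    (χ : Localization.Away (algebraMap R[X] B X) →+* LaurentSeries R)
    (hχ : χ.comp (algebraMap B (Localization.Away (algebraMap R[X] B X))) =
      (HahnSeries.ofPowerSeries ℤ R).comp ψ.toRingHom)
    (G : Over (Spec (CommRingCat.of (Localization.Away (algebraMap R[X] B X))))) [GrpObj G]
    [IsAffine G.left] [Smooth G.hom]
    (P : Over (Spec (CommRingCat.of (Localization.Away (algebraMap R[X] B X))))) (a : AlgGrp.Action G P)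
    (hP : NonAbH1.IsTorsorFor Scheme.fppfPrecoverage a)
    (hsec : NonAbH1.HasSectionOver P (Spec.map (CommRingCat.ofHom χ))) :
    NonAbH1.HasSectionOver P (𝟙 (Spec (CommRingCat.of (Localization.Away (algebraMap R[X] B X))))) := by
  let t := algebraMap R[X] B X
  haveI : HenselianRing B (Ideal.span {t}) := by
    have := hB.1
    rwa [Ideal.map_span, Set.image_singleton] at this
  haveI : Module.Flat R[X] B := Hens.flat_of_isPairHenselization hB
  have hbd : ∃ N : ℕ, ∀ b : B, (∃ m : ℕ, t ^ m * b = 0) → t ^ N * b = 0 := ⟨0, fun b ⟨m, hm⟩ => by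
    have hreg : IsSMulRegular B ((X : R[X]) ^ m) :=
      Module.Flat.isSMulRegular_of_isRegular ((Polynomial.monic_X_pow m).isRegular)
    have : b = 0 := hreg (by
      show ((X : R[X]) ^ m) • b = ((X : R[X]) ^ m) • (0 : B)
      rw [smul_zero, Algebra.smul_def, map_pow]
      exact hm)
    rw [this, mul_zero]⟩
  choose e he using exists_evals hB ψ
  have hψt : ψ.toRingHom t = (PowerSeries.X : PowerSeries R) := (ψ.commutes X).trans Polynomial.coe_X
  haveI : IsLocalization.Away (ψ.toRingHom t) (LaurentSeries R) := by
    rw [hψt]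
    exact LaurentSeries.of_powerSeries_localization
  let g : LaurentSeries R →+* Localization.Away (ψ.toRingHom t) :=
    (IsLocalization.algEquiv (Submonoid.powers (ψ.toRingHom t)) (LaurentSeries R) (Localization.Away (ψ.toRingHom t))).toRingEquiv.toRingHom
  have hg : g.comp χ = Localization.awayMap ψ.toRingHom t := by
    refine IsLocalization.ringHom_ext (Submonoid.powers t) (RingHom.ext fun b => ?_)
    show g (χ (algebraMap B _ b)) = Localization.awayMap ψ.toRingHom t (algebraMap B _ b)
    rw [show χ (algebraMap B _ b) = algebraMap (PowerSeries R) (LaurentSeries R) (ψ.toRingHom b) from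
      DFunLike.congr_fun hχ b]
    refine ((IsLocalization.algEquiv (Submonoid.powers (ψ.toRingHom t)) (LaurentSeries R)
      (Localization.Away (ψ.toRingHom t))).commutes _).trans ?_
    exact (IsLocalization.map_eq _ b).symm
  obtain ⟨s, hs⟩ := hsec
  refine GITLib.Elkik.hasSectionOver_id t hbd ψ.toRingHom e he hP
    ⟨Spec.map (CommRingCat.ofHom g) ≫ s, ?_⟩
  rw [Category.assoc, hs, ← Spec.map_comp, ← CommRingCat.ofHom_comp, hg]

end Groth.Agent.S15758
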