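import Groth.Statements.S15763
import Groth.Agent.FEtCat.DenseAlg.Equiv
import Groth.Agent.S19779
-- import your own Groth.Agent.* helpers here

set_option autoImplicit false
universe u
open CategoryTheory AlgebraicGeometry Polynomial
open FEt

namespace Groth.Agent.S15763

/-- The instance R{t}[1/t] → R((t)): for any ring R, base change along the canonical map from the
Henselian Laurent series ring R{t}[1/t] (R{t} a henselization of R[t] along (t), ψ its map to
R[[t]], χ the induced map to R((t))) to R((t)) is an equivalence between finite étale schemes over
Spec R{t}[1/t] and over Spec R((t)). (The published statement is for any topological ring with a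
Henselian open nonunital subring whose induced topology has a neighbourhood base of zero consisting
of ideals, and its completion; this row is the case R{t}[1/t] → R((t)), which the published
statement singles out.) -/
theorem result (R : Type u) [CommRing R]
    (B : Type u) [CommRing B] [Algebra R[X] B] (hB : Hens2.IsPairHenselization R[X] (Ideal.span {(X : R[X])}) B)
    (ψ : B →ₐ[R[X]] PowerSeries R)
    (χ : Localization.Away (algebraMap R[X] B X) →+* LaurentSeries R)
    (hχ : χ.comp (algebraMap B (Localization.Away (algebraMap R[X] B X))) =
      (HahnSeries.ofPowerSeries ℤ R).comp ψ.toRingHom) :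
    (FEt.restrict (Spec.map (CommRingCat.ofHom χ))).IsEquivalence := by
  let t : B := algebraMap R[X] B X
  let L := Localization.Away t
  let : Algebra B (PowerSeries R) := ψ.toRingHom.toAlgebra
  let : Algebra B (LaurentSeries R) :=
    ((algebraMap (PowerSeries R) (LaurentSeries R)).comp ψ.toRingHom).toAlgebra
  have : IsScalarTower B (PowerSeries R) (LaurentSeries R) := .of_algebraMap_eq fun _ => rfl
  let : Algebra L (LaurentSeries R) := χ.toAlgebra
  have : IsScalarTower B L (LaurentSeries R) := .of_algebraMap_eq fun b => by
    change _ = χ (algebraMap B L b)
    rw [show χ (algebraMap B L b) = HahnSeries.ofPowerSeries ℤ R (ψ b) from RingHom.congr_fun hχ b]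
    exact congrFun LaurentSeries.coe_algebraMap (ψ b)
  have hX : algebraMap B (PowerSeries R) t = PowerSeries.X := by
    change ψ (algebraMap R[X] B X) = _
    rw [AlgHom.commutes, PowerSeries.algebraMap_apply']
    simp
  have hL' : IsLocalization.Away (algebraMap B (PowerSeries R) t) (LaurentSeries R) := by
    rw [hX]
    infer_instance
  have hB' : HenselianRing B (Ideal.span {t}) := by
    have := hB.1
    rwa [Ideal.map_span, Set.image_singleton] at this
  have hP : HenselianRing (PowerSeries R) (Ideal.span {algebraMap B (PowerSeries R) t}) := by
    rw [hX]
    infer_instance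
  exact Groth.Agent.FEtCat.DenseAlg.isEquivalence (Ah := PowerSeries R) (L := L) (L' := LaurentSeries R) (t := t)
    ⟨S19779.data hB ψ, inferInstance, hL', hB', hP⟩

end Groth.Agent.S15763
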