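import Groth.Statements.S15765
import Mathlib

set_option autoImplicit false
universe u
open CategoryTheory AlgebraicGeometry
open CAlg

namespace Groth.Agent.S15765

/-- Let B be a topological ring in which the units form an open subset, B₀ → B a ring map with dense
image and X a quasi-affine scheme over B₀. Then the image of any B-point Spec B → X over B₀ is
contained in an affine open of X. (The published statement allows X ind-quasi-affine, i.e. with all
quasi-compact opens quasi-affine; since a B-point lands in a quasi-compact open, this row's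
quasi-affine case carries the content.) -/
theorem result (B : Type u) [CommRing B] [TopologicalSpace B]
    [IsTopologicalRing B] (hB : IsOpen {b : B | IsUnit b})
    (B₀ : Type u) [CommRing B₀] (φ : B₀ →+* B) (hφ : DenseRange φ)
    (X : Scheme.{u}) [X.IsQuasiAffine] (p : X ⟶ Spec (CommRingCat.of B₀))
    (f : Spec (CommRingCat.of B) ⟶ X) (hf : f ≫ p = Spec.map (CommRingCat.ofHom φ)) :
    ∃ U : X.Opens, IsAffineOpen U ∧ Set.range f.base ⊆ (U : Set X) := by
  let Γ₀ := Γ(X, ⊤)
  let j : X ⟶ Spec Γ₀ := X.toSpecΓ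
  let q : Spec (CommRingCat.of B) ⟶ Spec Γ₀ := f ≫ j
  let ψ : Γ₀ ⟶ CommRingCat.of B := Spec.preimage q
  have hq : Spec.map ψ = q := Spec.map_preimage q
  let ι₀ : CommRingCat.of B₀ ⟶ Γ₀ := (Scheme.ΓSpecIso (CommRingCat.of B₀)).inv ≫ p.appTop
  have hp : p = j ≫ Spec.map ι₀ := by
    have h1 := Scheme.toSpecΓ_naturality p
    rw [Spec.map_comp, ← Category.assoc, ← h1, Category.assoc,
      ← SpecMap_ΓSpecIso_hom, ← Spec.map_comp, Iso.inv_hom_id, Spec.map_id, Category.comp_id]
  have hι : ∀ c, ψ (ι₀ c) = φ c := by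
    have : ι₀ ≫ ψ = CommRingCat.ofHom φ := Spec.map_injective (by
      rw [Spec.map_comp, hq, ← hf, hp]; exact Category.assoc _ _ _)
    exact fun c => congrArg (fun h => h.hom c) this
  have hc : IsCompact (Set.range j.base) := isCompact_range j.base.hom.continuous
  obtain ⟨I, ⟨s, rfl⟩, hI⟩ :=
    PrimeSpectrum.isCompact_isOpen_iff_ideal.mp ⟨hc, j.opensRange.2⟩
  have hone : (1 : B) ∈ Submodule.span B (Set.range fun i : s => ψ (i : Γ₀)) := by
    rw [← Ideal.submodule_span_eq.symm]
    suffices h : Ideal.span (Set.range fun i : s => ψ (i : Γ₀)) = ⊤ by rw [h]; trivial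
    by_contra hne
    obtain ⟨m, hm, hle⟩ := Ideal.exists_le_maximal _ hne
    let x : PrimeSpectrum B := ⟨m, hm.isPrime⟩
    have hx : q.base x ∈ Set.range j.base := ⟨f.base x, rfl⟩
    rw [← hI] at hx
    apply hx
    rw [PrimeSpectrum.zeroLocus_span]
    intro g hg
    rw [← hq]
    exact hle (Ideal.subset_span ⟨⟨g, hg⟩, rfl⟩)
  obtain ⟨b, hb⟩ := (Submodule.mem_span_range_iff_exists_fun B).mp hone
  have hT : IsOpen {b' : s → B | IsUnit (∑ i, b' i • ψ (i : Γ₀))} :=
    hB.preimage (by fun_prop : Continuous fun b' : s → B => ∑ i, b' i • ψ (i : Γ₀))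
  obtain ⟨c, hcu⟩ := (DenseRange.piMap fun _ : s => hφ).exists_mem_open hT ⟨b, by
    show IsUnit _; rw [hb]; exact isUnit_one⟩
  let g : Γ₀ := ∑ i : s, ι₀ (c i) * (i : Γ₀)
  have hg : IsUnit (ψ g) := by
    have : ψ g = ∑ i : s, φ (c i) • ψ (i : Γ₀) := by
      simp only [g, map_sum, map_mul, hι, smul_eq_mul]
    rw [this]; exact hcu
  have hgI : g ∈ Ideal.span (s : Set Γ₀) :=
    Submodule.sum_mem _ fun i _ => Ideal.mul_mem_left _ _ (Ideal.subset_span i.2)
  refine ⟨j ⁻¹ᵁ (PrimeSpectrum.basicOpen g : (Spec Γ₀).Opens),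
    IsAffineOpen.preimage_of_isOpenImmersion (IsAffineOpen.Spec_basicOpen g) j ?_, ?_⟩
  · intro x hx
    show x ∈ Set.range j.base
    rw [← hI]
    intro hz
    exact hx (hz hgI)
  · rintro _ ⟨x, rfl⟩
    show q.base x ∈ PrimeSpectrum.basicOpen g
    rw [← hq]
    intro hmem
    exact x.isPrime.ne_top (Ideal.eq_top_of_isUnit_mem _ hmem hg)

end Groth.Agent.S15765
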