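import Groth.Statements.S15766
import Groth.Agent.FEtCat.LaurentRoot
-- import your own Groth.Agent.* helpers here

set_option autoImplicit false
universe u
open CategoryTheory CategoryTheory.Limits AlgebraicGeometry
open FEt

namespace Groth.Agent.S15766

open Groth.Agent.FEtCat.LaurentRoot

theorem exists_factor {L N : Type u} [CommRing L] [CommRing N] [Nontrivial N]
    (hN : ∀ e : N, IsIdempotentElem e → e = 0 ∨ e = 1) {n : ℕ}
    (w : Spec (CommRingCat.of N) ⟶ ∐ fun _ : Fin n => Spec (CommRingCat.of L)) :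
    ∃ (i : Fin n) (v : Spec (CommRingCat.of N) ⟶ Spec (CommRingCat.of L)),
      w = v ≫ Sigma.ι (fun _ : Fin n => Spec (CommRingCat.of L)) i := by
  let ι := fun i => Sigma.ι (fun _ : Fin n => Spec (CommRingCat.of L)) i
  have hcov : ∀ x, ∃ i, x ∈ Set.range (ι i) := fun x => by
    obtain ⟨i, y, hy⟩ := (sigmaOpenCover fun _ : Fin n => Spec (CommRingCat.of L)).exists_eq x
    exact ⟨i, y, hy⟩
  let q₀ : Spec (CommRingCat.of N) := (Classical.arbitrary (PrimeSpectrum N) :)
  obtain ⟨i, hi⟩ := hcov (w q₀)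
  have hopen : ∀ j, IsOpen (w ⁻¹' Set.range (ι j)) := fun j =>
    (ι j).opensRange.isOpen.preimage w.continuous
  have hdis : ∀ j, j ≠ i → Disjoint (Set.range (ι j)) (Set.range (ι i)) := fun j hj => by
    rw [Set.disjoint_iff_forall_ne]
    rintro _ ⟨a, rfl⟩ _ ⟨b, rfl⟩ h
    exact hj (congrArg Sigma.fst ((sigmaι_eq_iff (fun _ : Fin n => Spec (CommRingCat.of L)) _ _ a b).mp h))
  have hc : (w ⁻¹' Set.range (ι i))ᶜ = ⋃ j ∈ {j | j ≠ i}, w ⁻¹' Set.range (ι j) := by
    ext q
    simp only [Set.mem_compl_iff, Set.mem_preimage, Set.mem_iUnion, Set.mem_ofPred_eq]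
    refine ⟨fun h => ?_, fun ⟨j, hj, hq⟩ h => Set.disjoint_left.mp (hdis j hj) hq h⟩
    obtain ⟨j, hj⟩ := hcov (w q)
    exact ⟨j, fun e => h (e ▸ hj), hj⟩
  have hclopen : IsClopen (w ⁻¹' Set.range (ι i)) :=
    ⟨isOpen_compl_iff.mp (hc ▸ isOpen_biUnion fun j _ => hopen j), hopen i⟩
  obtain ⟨e, he, hWe⟩ := PrimeSpectrum.isClopen_iff.mp hclopen
  rcases hN e he with rfl | rfl
  · exfalso
    have h := hWe.le hi
    rw [PrimeSpectrum.basicOpen_zero] at h
    exact h
  · refine ⟨i, IsOpenImmersion.lift (ι i) w ?_, (IsOpenImmersion.lift_fac _ _ _).symm⟩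
    rintro _ ⟨q, rfl⟩
    exact hWe.ge (by rw [PrimeSpectrum.basicOpen_one]; trivial)

theorem isIdempotentElem_field {K : Type u} [Field K] (e : K) (he : IsIdempotentElem e) : e = 0 ∨ e = 1 :=
  IsIdempotentElem.iff_eq_zero_or_one.mp he

/-- Let R be a strictly Henselian local ring with residue field k, let d > 0 be invertible in R, and let
X → Spec R((t)) be finite étale and split (a trivial finite cover) after base change along the
substitution t ↦ t^d. Then every k((t))-point of X over R((t)) comes from a unique R((t))-section of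
X; here ρ : R((t)) → k((t)) is the coefficientwise residue map, pinned on power series. (The
published statement is for a finite étale group scheme G of order invertible in R that becomes
constant over a finite étale cover of R((t)) tamely ramified relative to R, in the form H⁰(R((t)),
G) ≅ H⁰(k((t)), G); the covers t ↦ t^d with d invertible in R are cofinal among such tame covers,
and the group structure plays no role in the H⁰ statement, so this row states it for any finite
étale X split by such a cover.) -/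
theorem result (R : Type u) [CommRing R]
    [HenselianLocalRing R] [IsSepClosed (IsLocalRing.ResidueField R)]
    (d : ℕ) (hd : 0 < d) (hdu : IsUnit (d : R))
    (hinj : Function.Injective (AddMonoidHom.mulLeft (d : ℤ)))
    (hmono : ∀ g g' : ℤ, AddMonoidHom.mulLeft (d : ℤ) g ≤ AddMonoidHom.mulLeft (d : ℤ) g' ↔ g ≤ g')
    (ρ : LaurentSeries R →+* LaurentSeries (IsLocalRing.ResidueField R))
    (hρ : ρ.comp (HahnSeries.ofPowerSeries ℤ R) =
      (HahnSeries.ofPowerSeries ℤ (IsLocalRing.ResidueField R)).comp (PowerSeries.map (IsLocalRing.residue R)))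
    (X : Scheme.{u}) (p : X ⟶ Spec (CommRingCat.of (LaurentSeries R))) [IsFinite p] [Etale p]
    (hsplit : ∃ (n : ℕ) (e : pullback p (Spec.map (CommRingCat.ofHom
        (HahnSeries.embDomainRingHom (R := R) (AddMonoidHom.mulLeft (d : ℤ)) hinj hmono))) ≅
        (∐ fun _ : Fin n => Spec (CommRingCat.of (LaurentSeries R)))),
      e.hom ≫ Sigma.desc (fun _ : Fin n => 𝟙 (Spec (CommRingCat.of (LaurentSeries R)))) =
        pullback.snd p (Spec.map (CommRingCat.ofHom
          (HahnSeries.embDomainRingHom (R := R) (AddMonoidHom.mulLeft (d : ℤ)) hinj hmono)))) :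
    (∀ s₁ s₂ : Spec (CommRingCat.of (LaurentSeries R)) ⟶ X,
        s₁ ≫ p = 𝟙 _ → s₂ ≫ p = 𝟙 _ →
        Spec.map (CommRingCat.ofHom ρ) ≫ s₁ = Spec.map (CommRingCat.ofHom ρ) ≫ s₂ → s₁ = s₂) ∧
    (∀ s' : Spec (CommRingCat.of (LaurentSeries (IsLocalRing.ResidueField R))) ⟶ X,
        s' ≫ p = Spec.map (CommRingCat.ofHom ρ) →
        ∃ s : Spec (CommRingCat.of (LaurentSeries R)) ⟶ X, s ≫ p = 𝟙 _ ∧ Spec.map (CommRingCat.ofHom ρ) ≫ s = s') := by
  let k := IsLocalRing.ResidueField R
  let E := HahnSeries.embDomainRingHom (R := R) (AddMonoidHom.mulLeft (d : ℤ)) hinj hmono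
  let Ek := HahnSeries.embDomainRingHom (R := k) (AddMonoidHom.mulLeft (d : ℤ)) hinj hmono
  obtain rfl := eq_mapR (IsLocalRing.residue R) ρ hρ
  let ρ := mapR (IsLocalRing.residue R)
  have hρE : ρ.comp E = Ek.comp ρ := mapR_comp_sub d hinj hmono _
  obtain ⟨n, e, he⟩ := hsplit
  let ι := fun i => Sigma.ι (fun _ : Fin n => Spec (CommRingCat.of (LaurentSeries R))) i
  let sp {A B : Type u} [CommRing A] [CommRing B] (f : A →+* B) :
      Spec (CommRingCat.of B) ⟶ Spec (CommRingCat.of A) := Spec.map (CommRingCat.ofHom f)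
  have sp_comp : ∀ {A B C : Type u} [CommRing A] [CommRing B] [CommRing C] (f : A →+* B) (g : B →+* C),
      sp (g.comp f) = sp g ≫ sp f := fun f g => Spec.map_comp _ _
  have sp_id : sp (RingHom.id (LaurentSeries R)) = 𝟙 _ := Spec.map_id _
  let a : Fin n → (Spec (CommRingCat.of (LaurentSeries R)) ⟶ X) := fun i => ι i ≫ e.inv ≫ pullback.fst _ _
  have hdesc : ∀ i, ι i ≫ Sigma.desc (fun _ : Fin n => 𝟙 (Spec (CommRingCat.of (LaurentSeries R)))) = 𝟙 _ :=
    fun i => Sigma.ι_desc _ _
  have hsnd : ∀ i, ι i ≫ e.inv ≫ pullback.snd p (sp E) = 𝟙 _ := fun i => by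
    rw [← he, e.inv_hom_id_assoc]
    exact hdesc i
  have hap : ∀ i, a i ≫ p = sp E := fun i => by
    simp only [a, Category.assoc, pullback.condition]
    simpa [Category.assoc] using congrArg (· ≫ sp E) (hsnd i)
  have classify : ∀ {N : Type u} [CommRing N] [Nontrivial N],
      (∀ x : N, IsIdempotentElem x → x = 0 ∨ x = 1) → ∀ (ν : LaurentSeries R →+* N)
      (u : Spec (CommRingCat.of N) ⟶ X), u ≫ p = sp (ν.comp E) → ∃ i, u = sp ν ≫ a i := by
    intro N _ _ hN ν u hu
    rw [sp_comp] at hu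
    obtain ⟨i, v, hv⟩ := exists_factor hN (pullback.lift u (sp ν) hu ≫ e.hom)
    have hvν : v = sp ν := by
      have h := congrArg (· ≫ Sigma.desc (fun _ : Fin n => 𝟙 (Spec (CommRingCat.of (LaurentSeries R))))) hv
      rw [Category.assoc, Category.assoc, he, pullback.lift_snd, hdesc, Category.comp_id] at h
      exact h.symm
    refine ⟨i, ?_⟩
    simp only [a]
    rw [← hvν, ← Category.assoc v (ι i), ← hv, Category.assoc, e.hom_inv_id_assoc, pullback.lift_fst]
  have index_inj : ∀ {N : Type u} [CommRing N] [Nontrivial N] (ν : LaurentSeries R →+* N) (i j : Fin n),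
      sp ν ≫ a i = sp ν ≫ a j → i = j := by
    intro N _ _ ν i j h
    have h1 : sp ν ≫ ι i ≫ e.inv = sp ν ≫ ι j ≫ e.inv := pullback.hom_ext
      (by simpa [a, Category.assoc] using h)
      (by
        simp only [Category.assoc]
        exact congrArg (sp ν ≫ ·) ((hsnd i).trans (hsnd j).symm))
    have h2 := congrArg (· ≫ e.hom) h1
    simp only [Category.assoc, e.inv_hom_id, Category.comp_id] at h2
    have q₀ : Spec (CommRingCat.of N) := (Classical.arbitrary (PrimeSpectrum N) :)
    exact congrArg Sigma.fst ((sigmaι_eq_iff (fun _ : Fin n => Spec (CommRingCat.of (LaurentSeries R))) i j (sp ν q₀) (sp ν q₀)).mp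
      ((Scheme.Hom.comp_apply _ _ _).symm.trans
        ((congrArg (fun f => f q₀) h2).trans (Scheme.Hom.comp_apply _ _ _))))
  have : IsAffine X := isAffine_of_isAffineHom p
  have ring : ∀ {N : Type u} [CommRing N] (u : Spec (CommRingCat.of N) ⟶ X),
      ∃ f : Γ(X, ⊤) →+* N, u = sp f ≫ X.isoSpec.inv := fun {N} _ u =>
    ⟨(Spec.preimage (u ≫ X.isoSpec.hom)).hom, by
      change u = Spec.map (Spec.preimage (u ≫ X.isoSpec.hom)) ≫ X.isoSpec.inv
      rw [Spec.map_preimage, Category.assoc, Iso.hom_inv_id, Category.comp_id]⟩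
  have ring_inj : ∀ {N : Type u} [CommRing N] (f g : Γ(X, ⊤) →+* N),
      sp f ≫ X.isoSpec.inv = sp g ≫ X.isoSpec.inv → f = g := fun f g h =>
    congrArg CommRingCat.Hom.hom (Spec.map_injective ((cancel_mono _).mp h))
  have : Nontrivial (LaurentSeries R) := (HahnSeries.C_injective (Γ := ℤ) (R := R)).nontrivial
  have hLR : ∀ x : LaurentSeries R, IsIdempotentElem x → x = 0 ∨ x = 1 := fun _ hx => idempotent_iff hx
  refine ⟨fun s₁ s₂ h₁ h₂ h => ?_, fun s' hs' => ?_⟩
  · have key : ∀ s : Spec (CommRingCat.of (LaurentSeries R)) ⟶ X, s ≫ p = 𝟙 _ → ∃ i, sp E ≫ s = a i := by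
      intro s hs
      obtain ⟨i, hi⟩ := classify hLR (RingHom.id _) (sp E ≫ s)
        (by rw [Category.assoc, hs, Category.comp_id, RingHom.id_comp])
      exact ⟨i, by rw [hi, sp_id, Category.id_comp]⟩
    obtain ⟨i, hi⟩ := key s₁ h₁
    obtain ⟨j, hj⟩ := key s₂ h₂
    have hij : i = j := index_inj ρ i j (by
      rw [← hi, ← hj, ← Category.assoc, ← Category.assoc, ← sp_comp, hρE, sp_comp, Category.assoc,
        Category.assoc]
      exact congrArg (sp Ek ≫ ·) h)
    obtain ⟨f, rfl⟩ := ring s₁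
    obtain ⟨g, rfl⟩ := ring s₂
    subst hij
    rw [← hj, ← Category.assoc, ← Category.assoc, ← sp_comp, ← sp_comp] at hi
    have hfg : f = g := RingHom.ext fun x =>
      sub_injective d hinj hmono (RingHom.congr_fun (ring_inj _ _ hi) x)
    rw [hfg]
  · obtain ⟨i, hi⟩ := classify isIdempotentElem_field ρ (sp Ek ≫ s')
      (by rw [Category.assoc, hs', hρE]; exact (sp_comp _ _).symm)
    obtain ⟨ζ, hζd, hζ⟩ := exists_root_of_unity (R := R) d hd hdu
    let σ := twist ζ
    let σk := twist (Units.map (IsLocalRing.residue R).toMonoidHom ζ)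
    have hσE : σ.comp E = E := twist_comp_sub d hinj hmono hζd
    have hσEk : σk.comp Ek = Ek := twist_comp_sub d hinj hmono (by rw [← map_pow, hζd, map_one])
    obtain ⟨j, hj⟩ := classify hLR (RingHom.id _) (sp σ ≫ a i)
      (by rw [Category.assoc, hap, ← sp_comp, hσE, RingHom.id_comp])
    rw [sp_id, Category.id_comp] at hj
    have hji : j = i := index_inj ρ j i (by
      rw [← hj, ← Category.assoc, ← sp_comp, mapR_twist, sp_comp, Category.assoc, ← hi,
        ← Category.assoc, ← sp_comp, hσEk])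
    subst hji
    obtain ⟨f, hf⟩ := ring (a j)
    rw [hf, ← Category.assoc, ← sp_comp] at hj
    have hfix := ring_inj _ _ hj
    have hmem : ∀ x, f x ∈ E.range := fun x =>
      mem_range_sub d hinj hmono hd hζ (RingHom.congr_fun hfix x)
    have hbij : Function.Bijective E.rangeRestrict :=
      ⟨fun x y h => sub_injective d hinj hmono (congrArg Subtype.val h), E.rangeRestrict_surjective⟩
    let q := RingEquiv.ofBijective E.rangeRestrict hbij
    let g : Γ(X, ⊤) →+* LaurentSeries R := q.symm.toRingHom.comp (f.codRestrict E.range hmem)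
    have hg : E.comp g = f := RingHom.ext fun x =>
      congrArg Subtype.val (q.apply_symm_apply (f.codRestrict E.range hmem x))
    refine ⟨sp g ≫ X.isoSpec.inv, ?_, ?_⟩
    · obtain ⟨φ, hφ⟩ : ∃ φ : LaurentSeries R →+* Γ(X, ⊤), sp φ = X.isoSpec.inv ≫ p :=
        ⟨(Spec.preimage (X.isoSpec.inv ≫ p)).hom, Spec.map_preimage _⟩
      have h := hap j
      rw [hf, Category.assoc, ← hφ, ← sp_comp] at h
      have h' : f.comp φ = E := congrArg CommRingCat.Hom.hom (Spec.map_injective h)
      have h'' : g.comp φ = RingHom.id _ := RingHom.ext fun x => sub_injective d hinj hmono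
        ((RingHom.congr_fun hg (φ x)).trans (RingHom.congr_fun h' x))
      rw [Category.assoc, ← hφ, ← sp_comp, h'', sp_id]
    · obtain ⟨h', rfl⟩ := ring s'
      rw [hf, ← Category.assoc, ← Category.assoc, ← sp_comp, ← sp_comp, ← hg, ← RingHom.comp_assoc,
        hρE, RingHom.comp_assoc] at hi
      have h1 := ring_inj _ _ hi
      have h2 : ρ.comp g = h' := RingHom.ext fun x =>
        sub_injective d hinj hmono (RingHom.congr_fun h1 x).symm
      rw [← Category.assoc, ← h2]
      exact congrArg (· ≫ X.isoSpec.inv) (sp_comp _ _).symm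

end Groth.Agent.S15766
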