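import Groth.Statements.S15768
import Groth.Agent.CAlg.PairPowerSeries

set_option autoImplicit false
universe u
open Polynomial
open CAlg

namespace Groth.Agent.S15768

open Polynomial Groth.Agent.CAlg.PairPowerSeries in
theorem aux {R : Type u} [CommRing R] {B : Type u} [CommRing B] [Algebra R[X] B]
    (hB : Hens2.IsPairHenselization R[X] (Ideal.span {(X : R[X])}) B) {x : B} {n : ℕ}
    (hx : x * x = algebraMap R[X] B (X ^ n) * x) :
    ∃ r : R, IsIdempotentElem r ∧ x = algebraMap R[X] B (X ^ n * C r) := by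
  obtain ⟨R₀, hR₀, φ, hφ, x₀, rfl⟩ := exists_descent hB x
  haveI : Algebra.FiniteType ℤ R₀ := (Subalgebra.fg_iff_finiteType _).1 hR₀
  haveI : IsNoetherianRing R₀ := Algebra.FiniteType.isNoetherianRing ℤ R₀
  set hB₀ := Groth.Agent.Hens.isPairHenselization_pairHenselization (A := R₀[X]) (I := Ideal.span {(X : R₀[X])})
  obtain ⟨G, hG, -⟩ := existsUnique_toPowerSeries hB
  obtain ⟨G₀, hG₀, -⟩ := existsUnique_toPowerSeries hB₀
  have hsq : G.comp φ = (PowerSeries.map R₀.val.toRingHom).comp G₀ := by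
    haveI : HenselianRing (PowerSeries R) (Ideal.span {(PowerSeries.X : PowerSeries R)}) := inferInstance
    have hc : ∀ p : R₀[X], ((p.map R₀.val.toRingHom : R[X]) : PowerSeries R) = PowerSeries.map R₀.val.toRingHom (p : PowerSeries R₀) :=
      fun p => PowerSeries.ext fun i => by simp [Polynomial.coeff_map]
    obtain ⟨g, -, huniq⟩ := hB₀.2 (PowerSeries R) _ ((PowerSeries.map R₀.val.toRingHom).comp coeToPowerSeries.ringHom) ‹_› (by
      rw [Ideal.map_span, Set.image_singleton, RingHom.comp_apply, coeToPowerSeries.ringHom_apply, Polynomial.coe_X, PowerSeries.map_X])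
    refine (huniq _ (show (G.comp φ).comp _ = _ from ?_)).trans (huniq _ (show ((PowerSeries.map R₀.val.toRingHom).comp G₀).comp _ = _ from ?_)).symm
    · rw [RingHom.comp_assoc, hφ, ← RingHom.comp_assoc, hG]
      exact RingHom.ext hc
    · rw [RingHom.comp_assoc, hG₀]
  have hφ' : ∀ p, φ (algebraMap R₀[X] _ p) = algebraMap R[X] B (p.map R₀.val.toRingHom) := fun p => RingHom.congr_fun hφ p
  have hinj : Function.Injective φ := by
    refine Function.Injective.of_comp (f := G) ?_
    rw [← RingHom.coe_comp, hsq, RingHom.coe_comp]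
    exact (PowerSeries.map_injective _ Subtype.val_injective).comp (injective_toPowerSeries hB₀ G₀ hG₀)
  have hx₀ : x₀ * x₀ = algebraMap R₀[X] _ (X ^ n) * x₀ := hinj (by rw [map_mul, map_mul, hφ', Polynomial.map_pow, map_X]; exact hx)
  have h1 := congrArg G₀ hx₀
  rw [map_mul, map_mul, show G₀ (algebraMap R₀[X] _ (X ^ n)) = ((X ^ n : R₀[X]) : PowerSeries R₀) from RingHom.congr_fun hG₀ _,
    Polynomial.coe_pow, Polynomial.coe_X] at h1
  obtain ⟨r, hr, hβ⟩ := exists_idempotent_powerSeries h1
  refine ⟨(r : R), congrArg Subtype.val hr, ?_⟩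
  have : x₀ = algebraMap R₀[X] _ (X ^ n * C r) := injective_toPowerSeries hB₀ G₀ hG₀ (by
    rw [hβ, show G₀ (algebraMap R₀[X] _ (X ^ n * C r)) = ((X ^ n * C r : R₀[X]) : PowerSeries R₀) from RingHom.congr_fun hG₀ _,
      Polynomial.coe_mul, Polynomial.coe_pow, Polynomial.coe_X, Polynomial.coe_C])
  rw [this, hφ', Polynomial.map_mul, Polynomial.map_pow, map_X, map_C]
  rfl

/-- For any ring R and a henselization B of R[t] along (t), every idempotent of B[1/t] comes from a
unique idempotent of R under R → R[t] → B → B[1/t]. -/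
theorem result (R : Type u) [CommRing R]
    (B : Type u) [CommRing B] [Algebra R[X] B] (hB : Hens2.IsPairHenselization R[X] (Ideal.span {(X : R[X])}) B)
    (e : Localization.Away (algebraMap R[X] B X)) (he : IsIdempotentElem e) :
    ∃! r : R, IsIdempotentElem r ∧
      algebraMap B (Localization.Away (algebraMap R[X] B X)) (algebraMap R[X] B (Polynomial.C r)) = e := by
  obtain ⟨b, ⟨_, n, rfl⟩, hby⟩ := IsLocalization.exists_mk'_eq (Submonoid.powers (algebraMap R[X] B X)) e
  subst hby
  set t := algebraMap R[X] B X with ht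
  have hreg : ∀ k, ∀ a c : B, t ^ k * a = t ^ k * c → a = c := fun k a c h =>
    Groth.Agent.CAlg.PairPowerSeries.isSMulRegular_X hB k (by simpa [ht, smul_eq_mul] using h)
  have hbb : b * b = algebraMap R[X] B (X ^ n) * b := by
    have h := he.eq
    rw [← IsLocalization.mk'_mul, IsLocalization.mk'_eq_iff_eq, IsLocalization.eq_iff_exists (Submonoid.powers t)] at h
    obtain ⟨⟨_, k, rfl⟩, hk⟩ := h
    simp only [Submonoid.coe_mul] at hk
    have := hreg k _ _ hk
    refine hreg n _ _ ?_
    rw [map_pow, ← ht]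
    linear_combination this
  obtain ⟨r, hr, hbr⟩ := aux hB hbb
  refine ⟨r, ⟨hr, ?_⟩, fun r' ⟨_, hr'⟩ => ?_⟩
  · rw [IsLocalization.eq_mk'_iff_mul_eq, ← map_mul, hbr, map_mul (algebraMap R[X] B), map_pow (algebraMap R[X] B), ← ht, mul_comm]
  · rw [IsLocalization.eq_mk'_iff_mul_eq, ← map_mul, IsLocalization.eq_iff_exists (Submonoid.powers t)] at hr'
    obtain ⟨⟨_, k, rfl⟩, hk⟩ := hr'
    have h2 := hreg k _ _ hk
    rw [hbr, map_mul, map_pow, mul_comm (t ^ n)] at h2
    have h3 := hreg n _ _ (show t ^ n * algebraMap R[X] B (C r') = t ^ n * algebraMap R[X] B (C r) by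
      linear_combination h2)
    letI : Algebra R B := ((algebraMap R[X] B).comp C).toAlgebra
    haveI : IsScalarTower R R[X] B := IsScalarTower.of_algebraMap_eq' rfl
    obtain ⟨g, hg⟩ := Groth.Agent.CAlg.PairWeierstrass.exists_truncation hB 1
    have h4 := congrArg g h3
    rw [hg, hg, Ideal.Quotient.mk_eq_mk_iff_sub_mem, Ideal.mem_span_singleton, pow_one, X_dvd_iff, coeff_sub, coeff_C_zero, coeff_C_zero, sub_eq_zero] at h4
    exact h4

end Groth.Agent.S15768
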