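import Groth.Statements.S15770
import Mathlib

set_option autoImplicit false
universe u
open CAlg

namespace Groth.Agent.S15770

/-- Let B be a topological ring with Bˣ ⊂ B open and M, M' finitely generated projective B-modules, and
endow Hom_B(M, M') with the module topology (the canonical topology of a finite module). Then the
set of surjective B-linear maps M → M' is open. -/
theorem result (B : Type u) [CommRing B] [TopologicalSpace B]
    [IsTopologicalRing B] (hB : IsOpen {b : B | IsUnit b})
    (M M' : Type u) [AddCommGroup M] [Module B M] [Module.Finite B M] [Module.Projective B M]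
    [AddCommGroup M'] [Module B M'] [Module.Finite B M'] [Module.Projective B M']
    [TopologicalSpace (M →ₗ[B] M')] [IsModuleTopology B (M →ₗ[B] M')] :
    IsOpen {f : M →ₗ[B] M' | Function.Surjective f} := by
  classical
  rw [isOpen_iff_forall_mem_open]
  intro f hf
  obtain ⟨g, hg⟩ := Module.projective_lifting_property f LinearMap.id hf
  obtain ⟨n, π, i, hπ, hi, hπi⟩ := Module.Finite.exists_comp_eq_id_of_projective B M'
  let E : (M →ₗ[B] M') →ₗ[B] Matrix (Fin n) (Fin n) B :=
    { toFun := fun h => LinearMap.toMatrix' (i ∘ₗ h ∘ₗ g ∘ₗ π)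
      map_add' := fun a b => by rw [LinearMap.add_comp, LinearMap.comp_add, map_add]
      map_smul' := fun c a => by rw [LinearMap.smul_comp, LinearMap.comp_smul, map_smul]; rfl }
  let F : (M →ₗ[B] M') → B := fun h => (E h + LinearMap.toMatrix' (LinearMap.id - i ∘ₗ π)).det
  have hcont : Continuous F := by
    have hE : Continuous E := by
      refine continuous_matrix fun a b => ?_
      exact IsModuleTopology.continuous_of_linearMap
        ({ toFun := fun h => E h a b, map_add' := fun x y => by simp, map_smul' := fun c x => by simp } : (M →ₗ[B] M') →ₗ[B] B)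
    exact (hE.add continuous_const).matrix_det
  refine ⟨F ⁻¹' {b | IsUnit b}, ?_, hB.preimage hcont, ?_⟩
  · intro h hh
    have hu : IsUnit (LinearMap.toMatrix' (i ∘ₗ h ∘ₗ g ∘ₗ π + (LinearMap.id - i ∘ₗ π))) := by
      rw [Matrix.isUnit_iff_isUnit_det, map_add]; exact hh
    obtain ⟨u, hu⟩ := hu.map (Matrix.toLinAlgEquiv' : Matrix (Fin n) (Fin n) B ≃ₐ[B] _)
    intro m
    have hsurj : Function.Surjective ⇑((i ∘ₗ h ∘ₗ g ∘ₗ π + (LinearMap.id - i ∘ₗ π)) : (Fin n → B) →ₗ[B] (Fin n → B)) := by
      intro y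
      refine ⟨(↑u⁻¹ : (Fin n → B) →ₗ[B] (Fin n → B)) y, ?_⟩
      have h1 := LinearMap.congr_fun (Units.mul_inv u) y
      rw [hu, show Matrix.toLinAlgEquiv' (LinearMap.toMatrix' (i ∘ₗ h ∘ₗ g ∘ₗ π + (LinearMap.id - i ∘ₗ π))) = (i ∘ₗ h ∘ₗ g ∘ₗ π + (LinearMap.id - i ∘ₗ π)) from Matrix.toLin'_toMatrix' _] at h1
      exact h1
    obtain ⟨v, hv⟩ := hsurj (i m)
    refine ⟨g (π v), ?_⟩
    have hid : ∀ z, π (i z) = z := fun z => LinearMap.congr_fun hπi z
    have := congrArg π hv
    simpa [hid] using this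
  · show IsUnit (F f)
    have : F f = 1 := by
      show (LinearMap.toMatrix' (i ∘ₗ f ∘ₗ g ∘ₗ π) + LinearMap.toMatrix' (LinearMap.id - i ∘ₗ π)).det = 1
      rw [← map_add, show i ∘ₗ f ∘ₗ g ∘ₗ π = i ∘ₗ π by rw [← LinearMap.comp_assoc π g f, hg, LinearMap.id_comp],
        add_sub_cancel, LinearMap.toMatrix'_id, Matrix.det_one]
    rw [this]; exact isUnit_one

end Groth.Agent.S15770
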