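import Groth.Statements.S15771
import Mathlib

set_option autoImplicit false
universe u
open TensorProduct
open CAlg

namespace Groth.Agent.S15771

/-- For a ring map B₀ → B with dense image into a topological ring B, a finitely generated B₀-module M₀
and any topological B-module structure on M = B ⊗_{B₀} M₀, the natural map M₀ → M has dense image. -/
theorem result (B₀ B : Type u) [CommRing B₀] [CommRing B] [Algebra B₀ B]
    [TopologicalSpace B] [IsTopologicalRing B] (hφ : DenseRange (algebraMap B₀ B))
    (M₀ : Type u) [AddCommGroup M₀] [Module B₀ M₀] [Module.Finite B₀ M₀]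
    [TopologicalSpace (B ⊗[B₀] M₀)] [IsTopologicalAddGroup (B ⊗[B₀] M₀)] [ContinuousSMul B (B ⊗[B₀] M₀)] :
    DenseRange (fun m : M₀ => (1 : B) ⊗ₜ[B₀] m) := by
  rw [DenseRange, dense_iff_closure_eq, Set.eq_univ_iff_forall]
  let S : Submodule B₀ (B ⊗[B₀] M₀) := LinearMap.range (TensorProduct.mk B₀ B M₀ 1)
  intro z
  change z ∈ closure (S : Set (B ⊗[B₀] M₀))
  induction z using TensorProduct.induction_on with
  | zero => exact subset_closure S.zero_mem
  | tmul b m =>
    have hc : Continuous fun c : B => c • ((1 : B) ⊗ₜ[B₀] m) := by fun_prop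
    have h1 := hc.range_subset_closure_image_dense hφ ⟨b, rfl⟩
    simp only [TensorProduct.smul_tmul', smul_eq_mul, mul_one] at h1
    refine closure_mono ?_ h1
    rintro _ ⟨_, ⟨r, rfl⟩, rfl⟩
    exact ⟨r • m, by simp [TensorProduct.smul_tmul', Algebra.smul_def]⟩
  | add x y hx hy =>
    exact map_mem_closure₂ continuous_add hx hy (fun _ ha _ hb => S.add_mem ha hb)

end Groth.Agent.S15771
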