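import Groth.Statements.S15772
import Groth.Agent.Elkik88.GlueSol

set_option autoImplicit false
universe u
open CategoryTheory AlgebraicGeometry
open CAlg

namespace Groth.Agent.S15772

open Groth.Agent.Elkik88 in
theorem adic_compat {A : Type u} [CommRing A] (J : Ideal A) (i n : ℕ) (hin : i ≤ n)
    (z : AdicCompletion J A) (r : A) (hr : Ideal.Quotient.mk (J ^ n) r = AdicCompletion.evalₐ J n z) :
    Ideal.Quotient.mk (J ^ i) r = AdicCompletion.evalₐ J i z := by
  induction z using AdicCompletion.induction_on with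
  | h f =>
    rw [AdicCompletion.evalₐ_mk] at hr ⊢
    have h1 : r - f.val n ∈ J ^ i := Ideal.pow_le_pow_right hin (Ideal.Quotient.eq.mp hr)
    rw [Ideal.Quotient.eq.mpr h1, AdicCompletion.Ideal.mk_eq_mk J hin]

/-- Let (A, J) be a Henselian pair with A Noetherian and J-adic completion Â, U an open of Spec A
containing the complement of V(J), and X ⊂ Z ⊂ P^N_U an open subscheme of a closed subscheme of
projective N-space over U whose restriction over Spec A ∖ V(J) is smooth. Then every point of X over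
U with values in U ×_A Â is congruent modulo J^n, for any n, to a section of X over U. The
comparison over A/J^n uses the restriction of Spec(A/J^n) → Spec Â to the preimages of U (the
inclusion of opens hle holds automatically and is carried as a hypothesis). (The published statement
allows X open in any projective U-scheme; this row takes the projective scheme to be a closed
subscheme of P^N_U.) -/
theorem result (A : Type u) [CommRing A] [IsNoetherianRing A] (J : Ideal A) [HenselianRing A J]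
    (U : (Spec (CommRingCat.of A)).Opens)
    (hU : ∀ q : PrimeSpectrum A, ¬ J ≤ q.asIdeal → q ∈ U)
    (N : ℕ) (Z X : Scheme.{u}) (κ : Z ⟶ CohB1.ProjSpaceOver N (U : Scheme.{u})) [IsClosedImmersion κ]
    (ι : X ⟶ Z) [IsOpenImmersion ι]
    (hsm : Smooth ((ι ≫ κ ≫ CohB1.ProjSpaceOver.toBase N (U : Scheme.{u})) ∣_
      (U.ι ⁻¹ᵁ ⟨(PrimeSpectrum.zeroLocus (J : Set A))ᶜ, (PrimeSpectrum.isClosed_zeroLocus (J : Set A)).isOpen_compl⟩)))
    (n : ℕ)
    (hle : (Spec.map (CommRingCat.ofHom (Ideal.Quotient.mk (J ^ n)))) ⁻¹ᵁ U ≤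
      (Spec.map (CommRingCat.ofHom (AdicCompletion.evalₐ J n).toRingHom)) ⁻¹ᵁ
        ((Spec.map (CommRingCat.ofHom (algebraMap A (AdicCompletion J A)))) ⁻¹ᵁ U))
    (xhat : ((Spec.map (CommRingCat.ofHom (algebraMap A (AdicCompletion J A)))) ⁻¹ᵁ U : Scheme.{u}) ⟶ X)
    (hxhat : xhat ≫ ι ≫ κ ≫ CohB1.ProjSpaceOver.toBase N (U : Scheme.{u}) =
      (Spec.map (CommRingCat.ofHom (algebraMap A (AdicCompletion J A)))) ∣_ U) :
    ∃ x : (U : Scheme.{u}) ⟶ X, x ≫ ι ≫ κ ≫ CohB1.ProjSpaceOver.toBase N (U : Scheme.{u}) = 𝟙 _ ∧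
      ((Spec.map (CommRingCat.ofHom (Ideal.Quotient.mk (J ^ n)))) ∣_ U) ≫ x =
        (Spec.map (CommRingCat.ofHom (AdicCompletion.evalₐ J n).toRingHom)).resLE _ _ hle ≫ xhat := by
  classical
  -- the base
  obtain ⟨L, k, hk'⟩ := Submodule.fg_iff_exists_fin_generating_family.mp
    (IsNoetherian.noetherian (PrimeSpectrum.vanishingIdeal ((U.carrier)ᶜ : Set (PrimeSpectrum A))))
  have hmem : ∀ q : PrimeSpectrum A, q ∉ U ↔ ∀ l, k l ∈ q.asIdeal := fun q => by
    have h1 : PrimeSpectrum.zeroLocus ((PrimeSpectrum.vanishingIdeal ((U.carrier)ᶜ : Set (PrimeSpectrum A))) : Set A) =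
        (U.carrier)ᶜ := by
      rw [PrimeSpectrum.zeroLocus_vanishingIdeal_eq_closure]
      exact U.isOpen.isClosed_compl.closure_eq
    have h2 : q ∉ U ↔ q ∈ PrimeSpectrum.zeroLocus
        ((PrimeSpectrum.vanishingIdeal ((U.carrier)ᶜ : Set (PrimeSpectrum A))) : Set A) := by
      rw [h1]; exact Iff.rfl
    rw [h2, ← hk', PrimeSpectrum.mem_zeroLocus, SetLike.coe_subset_coe, Submodule.span_le,
      Set.range_subset_iff]
    exact Iff.rfl
  have hcov : ∀ q : PrimeSpectrum A, q ∈ U → ∃ l, k l ∉ q.asIdeal := fun q hq => by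
    by_contra h
    push Not at h
    exact (hmem q).mpr h hq
  have hk : ∀ l, PrimeSpectrum.basicOpen (k l) ≤ U := fun l q hq => by
    by_contra h
    exact hq ((hmem q).mp h l)
  have hJ : J ≤ (Ideal.span (Set.range k)).radical := by
    rw [Ideal.radical_eq_sInf]
    refine le_sInf fun q ⟨hle, hq⟩ => ?_
    by_contra hn
    exact (hmem ⟨q, hq⟩).mpr (fun l => hle (Ideal.subset_span ⟨l, rfl⟩)) (hU ⟨q, hq⟩ hn)
  -- charts and forms
  let c : ∀ (l : Fin L) (i : Fin (N + 1)), Elkik88.Chart κ (k l) i := fun l i =>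
    (Elkik88.exists_chart κ (k l) (hk l) i).some
  obtain ⟨fs⟩ := Elkik88.exists_forms κ ι k c
  have hxh : xhat ≫ ι ≫ Elkik88.bZ κ =
      ((Spec.map (CommRingCat.ofHom (algebraMap A (AdicCompletion J A)))) ⁻¹ᵁ U).ι ≫
        Spec.map (CommRingCat.ofHom (algebraMap A (AdicCompletion J A))) := by
    rw [← morphismRestrict_ι, ← hxhat]
    simp only [Category.assoc]
  obtain ⟨b, P, m, M, y, hy, hPcov, hyw⟩ := Elkik88.exists_hat fs hcov hk rfl xhat hxh
  obtain ⟨x, hx, hxy⟩ := fs.sys.exists_sol J (fun t ht => fs.lifts hsm ht) hJ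
    (fun j z => AdicCompletion.evalₐ J j (y z)) (fun j => hy.map fs.sys (AdicCompletion.evalₐ J j))
    (fun i j hij z r hr => adic_compat J i j hij (y z) r hr) n
  exact Elkik88.exists_section fs x J hk hcov hx xhat hxh P hPcov M y hyw n (AdicCompletion.evalₐ J n) hxy hle

end Groth.Agent.S15772
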