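import Groth.Statements.S15778
import Groth.Agent.CAlg.DenseApproxInst

set_option autoImplicit false
universe u
open TensorProduct
open CAlg

namespace Groth.Agent.S15778

open Groth.Agent.CAlg

variable {A : Type u} [CommRing A] (t : A)

theorem exists_of_mem_smul_top {k : ℕ} {x : AdicCompletion (Ideal.span {t}) A}
    (hx : x ∈ (Ideal.span {t} ^ k • ⊤ : Submodule A (AdicCompletion (Ideal.span {t}) A))) :
    ∃ z, x = algebraMap A (AdicCompletion (Ideal.span {t}) A) t ^ k * z := by
  rw [Ideal.span_singleton_pow, Submodule.ideal_span_singleton_smul,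
    Submodule.mem_smul_pointwise_iff_exists] at hx
  obtain ⟨z, -, rfl⟩ := hx
  exact ⟨z, by rw [Algebra.smul_def, map_pow]⟩

theorem mem_smul_top (k : ℕ) (z : AdicCompletion (Ideal.span {t}) A) :
    algebraMap A (AdicCompletion (Ideal.span {t}) A) t ^ k * z ∈
      (Ideal.span {t} ^ k • ⊤ : Submodule A (AdicCompletion (Ideal.span {t}) A)) := by
  rw [← map_pow, ← Algebra.smul_def]
  exact Submodule.smul_mem_smul (Ideal.pow_mem_pow (Ideal.mem_span_singleton_self t) k) trivial

theorem isUnit_one_add_mul (y : AdicCompletion (Ideal.span {t}) A) :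
    IsUnit (1 + algebraMap A (AdicCompletion (Ideal.span {t}) A) t * y) := by
  set T := algebraMap A (AdicCompletion (Ideal.span {t}) A) t
  have hc := AdicCompletion.isAdicComplete (I := Ideal.span {t}) (M := A)
    (Submodule.fg_span_singleton t)
  set x : ℕ → AdicCompletion (Ideal.span {t}) A := fun n => ∑ i ∈ Finset.range n, (-(T * y)) ^ i
  have hx : ∀ {m k : ℕ}, m ≤ k → x m ≡ x k
      [SMOD (Ideal.span {t} ^ m • ⊤ : Submodule A (AdicCompletion (Ideal.span {t}) A))] := by
    intro m k hmk
    rw [SModEq.sub_mem, ← neg_mem_iff, neg_sub]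
    simp only [x, ← Finset.sum_Ico_eq_sub _ hmk]
    refine Submodule.sum_mem _ fun i hi => ?_
    obtain ⟨j, rfl⟩ := Nat.exists_eq_add_of_le (Finset.mem_Ico.1 hi).1
    rw [pow_add, neg_pow, mul_pow, mul_comm ((-1 : AdicCompletion (Ideal.span {t}) A) ^ m),
      mul_assoc, mul_assoc]
    exact mem_smul_top t m _
  obtain ⟨L, hL⟩ := IsPrecomplete.prec hc.toIsPrecomplete hx
  refine IsUnit.of_mul_eq_one L ?_
  rw [← sub_eq_zero]
  refine IsHausdorff.haus hc.toIsHausdorff _ fun n => ?_
  rw [SModEq.zero]
  obtain ⟨z, hz⟩ := exists_of_mem_smul_top t (SModEq.sub_mem.1 (hL n))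
  have hg : (1 + T * y) * x n = 1 - (-(T * y)) ^ n := by
    have := mul_neg_geom_sum (-(T * y)) n
    rwa [sub_neg_eq_add] at this
  have : (1 + T * y) * L - 1 = T ^ n * (-((-1) ^ n * y ^ n) - (1 + T * y) * z) := by
    rw [show L = x n - T ^ n * z by rw [← hz]; ring, mul_sub, hg, neg_pow, mul_pow]
    ring
  rw [this]
  exact mem_smul_top t n _

theorem exists_approx (y : AdicCompletion (Ideal.span {t}) A) (k : ℕ) :
    ∃ (a : A) (z : AdicCompletion (Ideal.span {t}) A),
      algebraMap A (AdicCompletion (Ideal.span {t}) A) a - y =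
        algebraMap A (AdicCompletion (Ideal.span {t}) A) t ^ k * z := by
  obtain ⟨a, ha⟩ := Submodule.Quotient.mk_surjective _ (AdicCompletion.eval (Ideal.span {t}) A k y)
  refine ⟨a, exists_of_mem_smul_top t ?_⟩
  rw [AdicCompletion.pow_smul_top_eq_ker_eval (Submodule.fg_span_singleton t), LinearMap.mem_ker,
    map_sub, AdicCompletion.algebraMap_apply, AdicCompletion.eval_of, sub_eq_zero]
  simpa using ha

theorem dvd_of_algebraMap_eq {k : ℕ} {a : A} {z : AdicCompletion (Ideal.span {t}) A}
    (h : algebraMap A (AdicCompletion (Ideal.span {t}) A) a =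
      algebraMap A (AdicCompletion (Ideal.span {t}) A) t ^ k * z) :
    ∃ c, a = t ^ k * c := by
  have h1 := mem_smul_top t k z
  rw [← h, AdicCompletion.pow_smul_top_eq_ker_eval (Submodule.fg_span_singleton t),
    LinearMap.mem_ker, AdicCompletion.algebraMap_apply, AdicCompletion.eval_of,
    Submodule.mkQ_apply, Submodule.Quotient.mk_eq_zero, Ideal.span_singleton_pow,
    smul_eq_mul, Ideal.mul_top, Ideal.mem_span_singleton] at h1
  simpa [dvd_def] using h1

/-- The filtration of `Â[1/t]` by `t ^ n • Â`. -/
theorem exists_filt (ht : t ∈ (⊥ : Ideal A).jacobson)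
    [Algebra (Localization.Away t) (Localization.Away (algebraMap A (AdicCompletion (Ideal.span {t}) A) t))]
    (halg : algebraMap (Localization.Away t) (Localization.Away (algebraMap A (AdicCompletion (Ideal.span {t}) A) t)) = Localization.awayMap (algebraMap A (AdicCompletion (Ideal.span {t}) A)) t) :
    Nonempty (DenseApprox.Filt (Localization.Away t)
      (Localization.Away (algebraMap A (AdicCompletion (Ideal.span {t}) A) t))) := by
  have hmap : ∀ a : A, algebraMap (Localization.Away t) (Localization.Away (algebraMap A (AdicCompletion (Ideal.span {t}) A) t)) (algebraMap A (Localization.Away t) a) =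
      algebraMap (AdicCompletion (Ideal.span {t}) A) (Localization.Away (algebraMap A (AdicCompletion (Ideal.span {t}) A) t)) (algebraMap A (AdicCompletion (Ideal.span {t}) A) a) := fun a => by
    rw [halg, Localization.awayMap, IsLocalization.Away.map, IsLocalization.map_eq]
  have huT : IsUnit (algebraMap (AdicCompletion (Ideal.span {t}) A) (Localization.Away (algebraMap A (AdicCompletion (Ideal.span {t}) A) t)) (algebraMap A (AdicCompletion (Ideal.span {t}) A) t)) := IsLocalization.Away.algebraMap_isUnit (algebraMap A (AdicCompletion (Ideal.span {t}) A) t)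
  have hut : IsUnit (algebraMap A (Localization.Away t) t) :=
    IsLocalization.Away.algebraMap_isUnit t
  refine ⟨DenseApprox.Filt.ofAway (algebraMap (AdicCompletion (Ideal.span {t}) A) (Localization.Away (algebraMap A (AdicCompletion (Ideal.span {t}) A) t))) huT.unit (algebraMap A (AdicCompletion (Ideal.span {t}) A) t) huT.unit_spec.symm ?_
    ((hut.unit⁻¹ : (Localization.Away t)ˣ) : Localization.Away t) ?_ ?_
    (isUnit_one_add_mul t) ?_⟩
  · intro x
    obtain ⟨k, y, hy⟩ := IsLocalization.Away.surj (algebraMap A (AdicCompletion (Ideal.span {t}) A) t) x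
    exact ⟨k, y, by rw [huT.unit_spec, ← map_pow]; simpa using hy⟩
  · apply Units.eq_inv_of_mul_eq_one_left
    rw [huT.unit_spec, ← hmap, ← map_mul, IsUnit.mul_val_inv, map_one]
  · intro y k
    obtain ⟨a, z, hz⟩ := exists_approx t y k
    refine ⟨algebraMap A _ a, z, ?_⟩
    rw [hmap, ← map_sub, hz, huT.unit_spec, map_mul, map_pow]
  · intro x y hx
    rw [huT.unit_spec, ← map_mul] at hx
    obtain ⟨k, a, hk⟩ := IsLocalization.Away.surj t x
    have h1 : algebraMap (AdicCompletion (Ideal.span {t}) A) (Localization.Away (algebraMap A (AdicCompletion (Ideal.span {t}) A) t)) (algebraMap A (AdicCompletion (Ideal.span {t}) A) a) = algebraMap (AdicCompletion (Ideal.span {t}) A) (Localization.Away (algebraMap A (AdicCompletion (Ideal.span {t}) A) t)) ((algebraMap A (AdicCompletion (Ideal.span {t}) A) t) ^ (k + 1) * y) := by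
      rw [← hmap, ← hk, map_mul, map_pow, hx, hmap, ← map_pow, ← map_mul]
      congr 1
      rw [pow_succ]; ring
    obtain ⟨m, hm⟩ := IsLocalization.exists_of_eq (M := Submonoid.powers (algebraMap A (AdicCompletion (Ideal.span {t}) A) t)) h1
    obtain ⟨j, hj⟩ := m.2
    simp only [← hj] at hm
    obtain ⟨c, hc⟩ := dvd_of_algebraMap_eq t (k := j + (k + 1)) (a := t ^ j * a) (z := y) (by
      rw [map_mul, map_pow, pow_add, mul_assoc]; exact hm)
    have hx' : x = algebraMap A (Localization.Away t) (t * c) := by
      apply ((hut.pow (j + k)).mul_left_inj).1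
      have hc' := congrArg (algebraMap A (Localization.Away t)) hc
      simp only [map_mul, map_pow] at hc' hk ⊢
      rw [← hk] at hc'
      rw [pow_add, ← mul_assoc, mul_right_comm, mul_comm x] at *
      linear_combination hc'
    rw [hx', ← map_one (algebraMap A (Localization.Away t)), ← map_add]
    exact (by
      have := Ideal.mem_jacobson_bot.1 ht c
      rw [add_comm]; exact this : IsUnit (1 + t * c)).map _

/-- The instance A[1/t] → Â[1/t] for modules: let t lie in the Jacobson radical of A (a Zariski pair (A,
tA)) with bounded t-power torsion, Â the t-adic completion, and give Â[1/t] the A[1/t]-algebra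
structure of the canonical map. Then finitely generated projective A[1/t]-modules isomorphic over
Â[1/t] are isomorphic, and every stably free Â[1/t]-module is extended from a stably free
A[1/t]-module. (The published statement also asserts injectivity on H¹ for inner forms of GL_n; this
row omits that clause.) -/
theorem result (A : Type u) [CommRing A]
    (t : A) (ht : t ∈ (⊥ : Ideal A).jacobson)
    (hbd : ∃ N : ℕ, ∀ a : A, (∃ m : ℕ, t ^ m * a = 0) → t ^ N * a = 0)
    [Algebra (Localization.Away t) (Localization.Away (algebraMap A (AdicCompletion (Ideal.span {t}) A) t))]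
    (halg : algebraMap (Localization.Away t) (Localization.Away (algebraMap A (AdicCompletion (Ideal.span {t}) A) t)) = Localization.awayMap (algebraMap A (AdicCompletion (Ideal.span {t}) A)) t) :
    (∀ (M N : Type u) [AddCommGroup M] [Module (Localization.Away t) M] [Module.Finite (Localization.Away t) M] [Module.Projective (Localization.Away t) M]
        [AddCommGroup N] [Module (Localization.Away t) N] [Module.Finite (Localization.Away t) N] [Module.Projective (Localization.Away t) N],
        Nonempty ((Localization.Away (algebraMap A (AdicCompletion (Ideal.span {t}) A) t)) ⊗[Localization.Away t] M ≃ₗ[Localization.Away (algebraMap A (AdicCompletion (Ideal.span {t}) A) t)] (Localization.Away (algebraMap A (AdicCompletion (Ideal.span {t}) A) t)) ⊗[Localization.Away t] N) → Nonempty (M ≃ₗ[Localization.Away t] N)) ∧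
    (∀ (M' : Type u) [AddCommGroup M'] [Module (Localization.Away (algebraMap A (AdicCompletion (Ideal.span {t}) A) t)) M'] [Module.Finite (Localization.Away (algebraMap A (AdicCompletion (Ideal.span {t}) A) t)) M'],
        (∃ n m : ℕ, Nonempty ((M' × (Fin n → Localization.Away (algebraMap A (AdicCompletion (Ideal.span {t}) A) t))) ≃ₗ[Localization.Away (algebraMap A (AdicCompletion (Ideal.span {t}) A) t)] (Fin m → Localization.Away (algebraMap A (AdicCompletion (Ideal.span {t}) A) t)))) →
        ∃ (M : Type u) (_ : AddCommGroup M) (_ : Module (Localization.Away t) M), Module.Finite (Localization.Away t) M ∧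
          (∃ n m : ℕ, Nonempty ((M × (Fin n → Localization.Away t)) ≃ₗ[Localization.Away t] (Fin m → Localization.Away t))) ∧
          Nonempty ((Localization.Away (algebraMap A (AdicCompletion (Ideal.span {t}) A) t)) ⊗[Localization.Away t] M ≃ₗ[Localization.Away (algebraMap A (AdicCompletion (Ideal.span {t}) A) t)] M')) := by
  obtain ⟨F⟩ := exists_filt t ht halg
  refine ⟨fun M N _ _ _ _ _ _ _ _ ⟨e⟩ => DenseApprox.nonempty_linearEquiv F M N e, ?_⟩
  intro M' _ _ _ h
  exact DenseApprox.exists_stablyFree F M' h

end Groth.Agent.S15778
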