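import Groth.Statements.S15775
import Groth.Agent.FEtCat.DenseAlg.Equiv
import Groth.Agent.S15778
-- import your own Groth.Agent.* helpers here

set_option autoImplicit false
universe u
open CategoryTheory AlgebraicGeometry
open FEt

namespace Groth.Agent.S15775

/-- The instance A[1/t] → Â[1/t]: for (A, tA) a Henselian pair with bounded t-power torsion and Â the
t-adic completion, base change along Spec Â[1/t] → Spec A[1/t] is an equivalence of categories of
finite étale schemes. -/
theorem result (A : Type u) [CommRing A] (t : A) [HenselianRing A (Ideal.span {t})]
    (hbd : ∃ N : ℕ, ∀ a : A, (∃ m : ℕ, t ^ m * a = 0) → t ^ N * a = 0) :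
    (FEt.restrict (Spec.map (CommRingCat.ofHom (Localization.awayMap (algebraMap A (AdicCompletion (Ideal.span {t}) A)) t)))).IsEquivalence := by
  let I := Ideal.span {t}
  have hI : I.FG := Submodule.fg_span_singleton t
  let L := Localization.Away t
  let L' := Localization.Away (algebraMap A (AdicCompletion I A) t)
  let : Algebra L L' := (Localization.awayMap (algebraMap A (AdicCompletion I A)) t).toAlgebra
  have : IsScalarTower A L L' := .of_algebraMap_eq fun a => by
    change _ = Localization.awayMap (algebraMap A (AdicCompletion I A)) t (algebraMap A L a)
    rw [Localization.awayMap, IsLocalization.Away.map, IsLocalization.map_eq]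
    exact IsScalarTower.algebraMap_apply A (AdicCompletion I A) L' a
  have : HenselianRing (AdicCompletion I A) (Ideal.span {algebraMap A (AdicCompletion I A) t}) := by
    have := AdicCompletion.isAdicComplete_self I hI
    have h : HenselianRing (AdicCompletion I A) (I.map (algebraMap A (AdicCompletion I A))) :=
      IsAdicComplete.henselianRing _ _
    rwa [Ideal.map_span, Set.image_singleton] at h
  exact Groth.Agent.FEtCat.DenseAlg.isEquivalence
    (Ah := AdicCompletion I A) (L := L) (L' := L') (t := t)
    ⟨⟨fun k y => S15778.exists_approx t y k, fun k a z h => S15778.dvd_of_algebraMap_eq t h,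
      S15778.isUnit_one_add_mul t⟩, inferInstance, inferInstance, inferInstance, inferInstance⟩

end Groth.Agent.S15775
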