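import Groth.Statements.S15779
import Groth.Agent.Hensel.QFinite
import Groth.Agent.Hens.PairHfp

set_option autoImplicit false
universe u
open Polynomial
open CAlg

namespace Groth.Agent.S15779

open Polynomial IsLocalRing in
theorem isUnit_mk_aux {R : Type u} [CommRing R] [IsLocalRing R] {G : R[X]} (hG : G.Monic)
    (hc : ∀ i < G.natDegree, G.coeff i ∈ maximalIdeal R) {f : R[X]} (hf : IsUnit (f.coeff 0)) :
    IsUnit (AdjoinRoot.mk G f) := by
  by_contra h
  obtain ⟨M, hM, hle⟩ := exists_max_ideal_of_mem_nonunits h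
  haveI := (AdjoinRoot.powerBasis' hG).finite
  have hcomap : M.comap (algebraMap R (AdjoinRoot G)) = maximalIdeal R :=
    eq_maximalIdeal (Ideal.isMaximal_comap_of_isIntegral_of_isMaximal M)
  have hm : ∀ c ∈ maximalIdeal R, algebraMap R (AdjoinRoot G) c ∈ M := fun c hc => by
    rw [← hcomap] at hc; exact hc
  have hroot : AdjoinRoot.root G ∈ M := by
    have h0 : aeval (AdjoinRoot.root G) G = 0 := by rw [AdjoinRoot.aeval_eq, AdjoinRoot.mk_self]
    rw [aeval_eq_sum_range, Finset.sum_range_succ, hG.coeff_natDegree, one_smul] at h0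
    refine hM.isPrime.mem_of_pow_mem G.natDegree ?_
    rw [eq_neg_of_add_eq_zero_right h0]
    exact neg_mem (sum_mem fun i hi => by
      rw [Algebra.smul_def]; exact M.mul_mem_right _ (hm _ (hc i (Finset.mem_range.1 hi))))
  have hf0 : algebraMap R (AdjoinRoot G) (f.coeff 0) ∈ M := by
    have hd := congrArg (AdjoinRoot.mk G) (X_mul_divX_add f)
    rw [map_add, map_mul, AdjoinRoot.mk_X, AdjoinRoot.mk_C] at hd
    rw [AdjoinRoot.algebraMap_eq]
    rw [← hd] at hle
    simpa using (M.add_mem_iff_right (M.mul_mem_right _ hroot)).1 hle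
  exact hM.ne_top (Ideal.eq_top_of_isUnit_mem _ hf0 (hf.map _))

open Polynomial IsLocalRing in
theorem part1 (R : Type u) [CommRing R] [IsLocalRing R] (L : Type u) [CommRing L] [Algebra R[X] L]
    [IsLocalization (Submonoid.closure ({f : R[X] | f.coeff 0 = 1} ∪ {X})) L]
    [Algebra R L] [IsScalarTower R R[X] L]
    (ψ : R[X] →ₐ[R] L) (hψ : ψ X * algebraMap R[X] L X = 1)
    (I : Ideal R[X]) (hI : I ⊔ (maximalIdeal R).map (algebraMap R R[X]) = ⊤) :
    (I.map ψ.toRingHom).comap ψ.toRingHom = I ∧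
      Function.Bijective (Ideal.quotientMap (I.map ψ.toRingHom) ψ.toRingHom Ideal.le_comap_map) := by
  classical
  obtain ⟨g, hg, b, hb, hgb⟩ := Submodule.mem_sup.1 (hI ▸ Submodule.mem_top : (1 : R[X]) ∈ _)
  rw [Polynomial.algebraMap_eq, Ideal.mem_map_C_iff] at hb
  have hgc : ∀ i, g.coeff i = (if i = 0 then 1 else 0) - b.coeff i := fun i => by
    rw [← coeff_one, ← hgb, coeff_add, add_sub_cancel_right]
  have hg0 : IsUnit (g.coeff 0) := by
    rw [← residue_ne_zero_iff_isUnit, hgc, if_pos rfl, map_sub, (residue_eq_zero_iff _).2 (hb 0), map_one, sub_zero]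
    exact one_ne_zero
  set π : R[X] →ₐ[R] R[X] ⧸ I := Ideal.Quotient.mkₐ R I
  have hσ : IsUnit (π X) := by
    have h1 := congrArg π (X_mul_divX_add g)
    rw [map_add, map_mul, show π g = 0 from Ideal.Quotient.eq_zero_iff_mem.2 hg] at h1
    have h2 : IsUnit (π X * π (divX g)) := by
      rw [eq_neg_of_add_eq_zero_left h1]
      exact ((hg0.map C).map π).neg
    exact isUnit_of_mul_isUnit_left h2
  letI := hσ.invertible
  set G : R[X] := C (↑hg0.unit⁻¹ : R) * g.reverse
  have hgne : g ≠ 0 := fun h => by simp [h] at hg0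
  have htd : g.natTrailingDegree = 0 := natTrailingDegree_eq_zero.2 (Or.inr hg0.ne_zero)
  have hlead : g.reverse.leadingCoeff = g.coeff 0 := by
    rw [reverse_leadingCoeff, trailingCoeff, htd]
  have hdeg : g.reverse.natDegree = g.natDegree := by rw [reverse_natDegree, htd, Nat.sub_zero]
  have hGm : G.Monic := monic_C_mul_of_mul_leadingCoeff_eq_one (by rw [hlead]; exact hg0.val_inv_mul)
  have hGd : G.natDegree = g.natDegree := by
    rw [natDegree_C_mul_of_mul_ne_zero (by rw [hlead, hg0.val_inv_mul]; exact one_ne_zero), hdeg]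
  have hGc : ∀ i < G.natDegree, G.coeff i ∈ maximalIdeal R := by
    intro i hi
    rw [hGd] at hi
    rw [coeff_C_mul, coeff_reverse, revAt_le hi.le]
    refine Ideal.mul_mem_left _ _ ?_
    rw [hgc, if_neg (by omega), zero_sub]
    exact neg_mem (hb _)
  have hGτ : aeval (⅟(π X)) G = 0 := by
    have h := eval₂_reflect_mul_pow (algebraMap R (R[X] ⧸ I)) (π X) g.natDegree g le_rfl
    rw [← aeval_def, ← aeval_def, aeval_algHom_apply π X g, aeval_X_left_apply,
      show π g = 0 from Ideal.Quotient.eq_zero_iff_mem.2 hg] at h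
    rw [map_mul, show g.reverse = reflect g.natDegree g from rfl, (hσ.pow g.natDegree).mul_left_eq_zero.1 h, mul_zero]
  let θ₀ : R[X] →ₐ[R] R[X] ⧸ I := aeval (⅟(π X))
  have hu : ∀ y : Submonoid.closure ({f : R[X] | f.coeff 0 = 1} ∪ {X}), IsUnit (θ₀ y) := by
    rintro ⟨y, hy⟩
    induction hy using Submonoid.closure_induction with
    | mem y hy =>
      rcases hy with hy | rfl
      · have h := (isUnit_mk_aux hGm hGc (f := y) (by rw [show y.coeff 0 = 1 from hy]; exact isUnit_one)).map
          (AdjoinRoot.liftAlgHom G (Algebra.ofId R _) (⅟(π X)) hGτ)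
        rw [AdjoinRoot.liftAlgHom_mk] at h
        exact h
      · simpa [θ₀] using (isUnit_of_invertible (⅟(π X)))
    | one => simp
    | mul a c _ _ ha hc => simpa using ha.mul hc
  let θ : L →+* R[X] ⧸ I := IsLocalization.lift (g := θ₀.toRingHom) hu
  have hθ : ∀ x, θ (algebraMap R[X] L x) = θ₀ x := IsLocalization.lift_eq _
  have hθψ : θ.comp ψ.toRingHom = π.toRingHom := by
    refine Polynomial.ringHom_ext (fun r => ?_) ?_
    · show θ (ψ (C r)) = π (C r)
      rw [← Polynomial.algebraMap_eq, AlgHom.commutes, IsScalarTower.algebraMap_apply R R[X] L, hθ]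
      rw [AlgHom.commutes, AlgHom.commutes]
    · show θ (ψ X) = π X
      have h := congrArg θ hψ
      rw [map_mul, map_one, hθ, show θ₀ X = ⅟(π X) from aeval_X _] at h
      exact ((isUnit_of_invertible (⅟(π X))).mul_left_inj).1 (h.trans (mul_invOf_self _).symm)
  have hinj : ∀ a, ψ a ∈ I.map ψ.toRingHom → a ∈ I := by
    intro a ha
    rw [← Ideal.Quotient.eq_zero_iff_mem]
    show π.toRingHom a = 0
    rw [← hθψ]
    have hle : I.map ψ.toRingHom ≤ RingHom.ker θ := by
      rw [Ideal.map_le_iff_le_comap]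
      intro z hz
      show θ.comp ψ.toRingHom z = 0
      rw [hθψ]
      exact Ideal.Quotient.eq_zero_iff_mem.2 hz
    exact hle ha
  refine ⟨le_antisymm (fun a ha => hinj a ha) Ideal.le_comap_map, ?_, ?_⟩
  · rw [injective_iff_map_eq_zero]
    intro x hx
    obtain ⟨a, rfl⟩ := Ideal.Quotient.mk_surjective x
    rw [Ideal.quotientMap_mk, Ideal.Quotient.eq_zero_iff_mem] at hx
    exact Ideal.Quotient.eq_zero_iff_mem.2 (hinj a hx)
  · intro y
    obtain ⟨y, rfl⟩ := Ideal.Quotient.mk_surjective y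
    refine ⟨θ y, ?_⟩
    set qm := Ideal.quotientMap (I.map ψ.toRingHom) ψ.toRingHom Ideal.le_comap_map with hqm
    suffices h : qm.comp θ = Ideal.Quotient.mk (I.map ψ.toRingHom) from RingHom.congr_fun h y
    refine IsLocalization.ringHom_ext (Submonoid.closure ({f : R[X] | f.coeff 0 = 1} ∪ {X})) ?_
    refine Polynomial.ringHom_ext (fun r => ?_) ?_
    · show qm (θ (algebraMap R[X] L (C r))) = Ideal.Quotient.mk _ (algebraMap R[X] L (C r))
      rw [hθ, show θ₀ (C r) = Ideal.Quotient.mk I (C r) from aeval_C _ r, hqm, Ideal.quotientMap_mk]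
      congr 1
      rw [← Polynomial.algebraMap_eq]
      exact (ψ.commutes r).trans (IsScalarTower.algebraMap_apply R R[X] L r)
    · show qm (θ (algebraMap R[X] L X)) = Ideal.Quotient.mk _ (algebraMap R[X] L X)
      rw [hθ, show θ₀ X = ⅟(π X) from aeval_X _]
      have h := congrArg qm (invOf_mul_self (π X))
      rw [map_mul, map_one, show qm (π X) = Ideal.Quotient.mk _ (ψ X) from Ideal.quotientMap_mk] at h
      have h' := congrArg (Ideal.Quotient.mk (I.map ψ.toRingHom)) hψ
      rw [map_mul, map_one, mul_comm] at h'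
      exact (IsUnit.mul_left_inj (IsUnit.of_mul_eq_one_right _ h')).1 (h.trans h'.symm)

open Polynomial IsLocalRing in
theorem exists_monic_mem (R : Type u) [CommRing R] [HenselianLocalRing R] (L : Type u) [CommRing L] [Algebra R[X] L]
    [IsLocalization (Submonoid.closure ({f : R[X] | f.coeff 0 = 1} ∪ {X})) L]
    [Algebra R L] [IsScalarTower R R[X] L]
    (J : Ideal L) (hJ : J ⊔ (maximalIdeal R).map (algebraMap R L) = ⊤) :
    ∃ G : R[X], G.Monic ∧ (∀ i < G.natDegree, G.coeff i ∈ maximalIdeal R) ∧ algebraMap R[X] L G ∈ J := by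
  classical
  rcases eq_or_ne J ⊤ with rfl | hJ'
  · exact ⟨1, monic_one, by simp, Submodule.mem_top⟩
  set Sg := Submonoid.closure ({f : R[X] | f.coeff 0 = 1} ∪ {X})
  obtain ⟨j, hj, b, hb, hjb⟩ := Submodule.mem_sup.1 (hJ ▸ Submodule.mem_top : (1 : L) ∈ _)
  rw [IsScalarTower.algebraMap_eq R R[X] L, ← Ideal.map_map, IsLocalization.mem_map_algebraMap_iff Sg] at hb
  obtain ⟨⟨⟨b', hb'⟩, ⟨σ, hσ⟩⟩, hbσ⟩ := hb
  simp only at hbσ
  rw [Polynomial.algebraMap_eq, Ideal.mem_map_C_iff] at hb'
  have hσ0 : σ.map (residue R) ≠ 0 := by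
    clear hbσ
    induction hσ using Submonoid.closure_induction with
    | mem y hy =>
      rcases hy with hy | rfl
      · intro h; simpa [coeff_map, show y.coeff 0 = 1 from hy] using congrArg (fun p => coeff p 0) h
      · simp
    | one => simp
    | mul a c _ _ ha hc => simpa [Polynomial.map_mul] using mul_ne_zero ha hc
  set P := σ - b'
  have hPJ : algebraMap R[X] L P ∈ J := by
    have : algebraMap R[X] L P = j * algebraMap R[X] L σ := by
      rw [map_sub, ← hbσ, eq_sub_of_add_eq hjb]; ring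
    rw [this]; exact J.mul_mem_right _ hj
  have hPm : P.map (residue R) ≠ 0 := by
    have : b'.map (residue R) = 0 := ext fun i => by simpa [coeff_map] using (residue_eq_zero_iff _).2 (hb' i)
    rw [Polynomial.map_sub, this, sub_zero]; exact hσ0
  have hunit : ∀ f : R[X], IsUnit (f.coeff 0) → IsUnit (algebraMap R[X] L f) := by
    intro f hf
    have h1 : IsUnit (algebraMap R[X] L (C (↑hf.unit⁻¹ : R) * f)) :=
      IsLocalization.map_units L (⟨_, Submonoid.subset_closure (Or.inl (by simp))⟩ : Sg)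
    rw [map_mul] at h1
    exact isUnit_of_mul_isUnit_right h1
  have hP0 : residue R (P.coeff 0) = 0 := by
    by_contra h
    exact hJ' (Ideal.eq_top_of_isUnit_mem _ hPJ (hunit _ ((residue_ne_zero_iff_isUnit _).1 h)))
  let S := AdjoinRoot P
  let χ : S →ₐ[R] ResidueField R := AdjoinRoot.liftAlgHom P (Algebra.ofId R _) 0 (by
    show eval₂ (algebraMap R (ResidueField R)) 0 P = 0
    rw [eval₂_at_zero]; exact hP0)
  let q₀ : Ideal S := RingHom.ker χ
  have hsurj : Function.Surjective χ := fun x => by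
    obtain ⟨r, rfl⟩ := residue_surjective x
    exact ⟨algebraMap R S r, χ.commutes r⟩
  haveI : q₀.IsMaximal := RingHom.ker_isMaximal_of_surjective _ hsurj
  haveI : q₀.LiesOver (maximalIdeal R) := ⟨by
    ext c
    show c ∈ maximalIdeal R ↔ χ (algebraMap R S c) = 0
    rw [χ.commutes, ← residue_eq_zero_iff]
    rfl⟩
  haveI hfin : Module.Finite R (S ⧸ (maximalIdeal R).map (algebraMap R S)) := by
    set Pb := P.map (residue R)
    obtain ⟨d, hd⟩ := residue_surjective Pb.leadingCoeff⁻¹
    have hlift : Pb * C Pb.leadingCoeff⁻¹ ∈ lifts (residue R) :=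
      ⟨P * C d, by rw [coe_mapRingHom, Polynomial.map_mul, map_C, hd]⟩
    obtain ⟨M, hM, -, hMm⟩ := lifts_and_natDegree_eq_and_monic hlift (monic_mul_leadingCoeff_inv hPm)
    have hMP : ∀ i, (M - P * C d).coeff i ∈ maximalIdeal R := fun i => by
      rw [← residue_eq_zero_iff, ← coeff_map, Polynomial.map_sub, hM, Polynomial.map_mul, map_C, hd, sub_self, coeff_zero]
    have hMm' : AdjoinRoot.mk P M ∈ (maximalIdeal R).map (algebraMap R S) := by
      have h1 : AdjoinRoot.mk P M = AdjoinRoot.mk P (M - P * C d) := by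
        rw [map_sub, map_mul, AdjoinRoot.mk_self, zero_mul, sub_zero]
      have h2 : (maximalIdeal R).map (algebraMap R S) = ((maximalIdeal R).map C).map (AdjoinRoot.mk P) :=
        (Ideal.map_map C (AdjoinRoot.mk P)).symm
      rw [h1, h2]
      exact Ideal.mem_map_of_mem _ (Ideal.mem_map_C_iff.2 hMP)
    haveI := (AdjoinRoot.powerBasis' hMm).finite
    let g : AdjoinRoot M →ₐ[R] S ⧸ (maximalIdeal R).map (algebraMap R S) :=
      AdjoinRoot.liftAlgHom M (Algebra.ofId R _) (Ideal.Quotient.mkₐ R _ (AdjoinRoot.root P)) (by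
        show aeval _ M = 0
        rw [aeval_algHom_apply, AdjoinRoot.aeval_eq]
        exact Ideal.Quotient.eq_zero_iff_mem.2 hMm')
    refine Module.Finite.of_surjective g.toLinearMap fun z => ?_
    obtain ⟨z, rfl⟩ := Ideal.Quotient.mkₐ_surjective R _ z
    obtain ⟨z, rfl⟩ := AdjoinRoot.mk_surjective z
    refine ⟨AdjoinRoot.mk M z, ?_⟩
    show g (AdjoinRoot.mk M z) = _
    rw [← AdjoinRoot.aeval_eq, ← AdjoinRoot.aeval_eq, ← aeval_algHom_apply, ← aeval_algHom_apply]
    exact congrArg (fun r => aeval r z) (AdjoinRoot.liftAlgHom_root _ _ _ _)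
  haveI : Algebra.QuasiFiniteAt R q₀ := Groth.Agent.Hens.quasiFiniteAt_of_finite_quotient q₀ (Ideal.map_le_iff_le_comap.2 (q₀.over_def (maximalIdeal R)).le)
  obtain ⟨e, hee, heq, hTfin, huniq⟩ := Groth.Agent.Hensel.exists_idempotent_of_quasiFiniteAt (R := R) q₀
  let T := S ⧸ Ideal.span {1 - e}
  let π : L →ₐ[R] L ⧸ J := Ideal.Quotient.mkₐ R J
  let t' : L ⧸ J := π (algebraMap R[X] L X)
  have haev : ∀ f : R[X], aeval t' f = π (algebraMap R[X] L f) := fun f => by
    rw [aeval_algHom_apply, aeval_algebraMap_apply, aeval_X_left_apply]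
  let φ : S →ₐ[R] L ⧸ J := AdjoinRoot.liftAlgHom P (Algebra.ofId R _) t' (by
    show aeval t' P = 0
    rw [haev]; exact Ideal.Quotient.eq_zero_iff_mem.2 hPJ)
  have hφe : φ e = 1 := by
    obtain ⟨E, rfl⟩ := AdjoinRoot.mk_surjective e
    have hE : IsUnit (E.coeff 0) := by
      rw [← residue_ne_zero_iff_isUnit]
      intro h
      refine heq ?_
      show χ (AdjoinRoot.mk P E) = 0
      rw [AdjoinRoot.liftAlgHom_mk]
      show eval₂ (algebraMap R (ResidueField R)) 0 E = 0
      rw [eval₂_at_zero]; exact h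
    have hu : IsUnit (φ (AdjoinRoot.mk P E)) := by
      rw [AdjoinRoot.liftAlgHom_mk]
      show IsUnit (aeval t' E)
      rw [haev]
      exact (hunit E hE).map π
    exact (hu.mul_left_inj).1 (by rw [one_mul]; exact (hee.map φ))
  let φT : T →ₐ[R] L ⧸ J := Ideal.Quotient.liftₐ _ φ fun x hx => by
    obtain ⟨c, rfl⟩ := Ideal.mem_span_singleton.1 hx
    rw [map_mul, map_sub, map_one, hφe, sub_self, zero_mul]
  let τ : T := Ideal.Quotient.mk _ (AdjoinRoot.root P)
  have hτ : τ ∈ ((maximalIdeal R).map (algebraMap R T)).radical := by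
    rw [Ideal.radical_eq_sInf, Ideal.mem_sInf]
    rintro Q ⟨hQ, hQp⟩
    let Q' : Ideal S := Q.comap (Ideal.Quotient.mk _)
    haveI : Q'.IsPrime := Ideal.comap_isPrime _ _
    have hover : Q'.LiesOver (maximalIdeal R) := ⟨((IsLocalRing.maximalIdeal.isMaximal R).eq_of_le
      (Ideal.comap_ne_top _ (Ideal.comap_ne_top _ hQp.ne_top)) (fun c hc => hQ (Ideal.mem_map_of_mem _ hc)))⟩
    have hne : e ∉ Q' := fun he => by
      refine hQp.ne_top ((Ideal.eq_top_iff_one _).2 ?_)
      have h1 : (1 - e) ∈ Q' := by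
        show Ideal.Quotient.mk _ (1 - e) ∈ Q
        rw [Ideal.Quotient.eq_zero_iff_mem.2 (Ideal.mem_span_singleton_self _)]
        exact zero_mem _
      have h2 := Q'.add_mem h1 he
      rw [sub_add_cancel] at h2
      exact absurd ((Ideal.eq_top_iff_one _).2 h2) (Ideal.IsPrime.ne_top inferInstance)
    show AdjoinRoot.root P ∈ Q'
    rw [huniq Q' inferInstance hover hne]
    exact AdjoinRoot.liftAlgHom_root _ _ _ _
  obtain ⟨a, ha⟩ := hτ
  have ha1 : τ ^ (a + 1) ∈ (maximalIdeal R).map (algebraMap R T) := by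
    rw [pow_succ]; exact Ideal.mul_mem_right _ _ ha
  have hrange : LinearMap.range (Algebra.lmul R T (τ ^ (a + 1))) ≤ maximalIdeal R • ⊤ := by
    rintro _ ⟨z, rfl⟩
    rw [Ideal.smul_top_eq_map]
    exact Ideal.mul_mem_right _ _ ha1
  obtain ⟨p, hpm, -, hpc, hp0⟩ :=
    LinearMap.exists_monic_and_natDegree_eq_and_coeff_mem_pow_and_aeval_eq_zero R _ (maximalIdeal R) hrange
  have hp0' : aeval (τ ^ (a + 1)) p = 0 := by
    have h := LinearMap.congr_fun hp0 (1 : T)
    rw [aeval_algHom_apply] at h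
    simpa using h
  refine ⟨expand R (a + 1) p, hpm.expand a.succ_pos, fun i hi => ?_, ?_⟩
  · rw [natDegree_expand] at hi
    rw [coeff_expand a.succ_pos]
    split_ifs with h
    · obtain ⟨c, rfl⟩ := h
      rw [Nat.mul_div_cancel_left _ a.succ_pos]
      have hc : c < p.natDegree := by
        rw [mul_comm p.natDegree] at hi; exact Nat.lt_of_mul_lt_mul_left hi
      exact Ideal.pow_le_self (by omega) (hpc c)
    · exact zero_mem _
  · rw [← Ideal.Quotient.eq_zero_iff_mem]
    show π (algebraMap R[X] L (expand R (a + 1) p)) = 0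
    rw [← haev, ← AdjoinRoot.liftAlgHom_root P (Algebra.ofId R (L ⧸ J)) t' (by
      show aeval t' P = 0
      rw [haev]; exact Ideal.Quotient.eq_zero_iff_mem.2 hPJ)]
    show aeval (φT τ) (expand R (a + 1) p) = 0
    rw [expand_aeval, ← map_pow, aeval_algHom_apply, hp0', map_zero]

/-- For a Henselian local ring (R, m), L the localisation of R[t] at the monoid generated by t and the
polynomials with constant term 1, and ψ : R[s] → L the R-algebra map with s ↦ t⁻¹, extension and
contraction along ψ are mutually inverse bijections between the ideals of R[s] comaximal with mR[s]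
and the ideals of L comaximal with mL, and R[s]/I → L/IL is bijective for every such I. -/
theorem result (R : Type u) [CommRing R]
    [HenselianLocalRing R] (L : Type u) [CommRing L] [Algebra R[X] L]
    [IsLocalization (Submonoid.closure ({f : R[X] | f.coeff 0 = 1} ∪ {X})) L]
    [Algebra R L] [IsScalarTower R R[X] L]
    (ψ : R[X] →ₐ[R] L) (hψ : ψ X * algebraMap R[X] L X = 1) :
    (∀ I : Ideal R[X], I ⊔ (IsLocalRing.maximalIdeal R).map (algebraMap R R[X]) = ⊤ →
        (I.map ψ.toRingHom).comap ψ.toRingHom = I ∧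
        I.map ψ.toRingHom ⊔ (IsLocalRing.maximalIdeal R).map (algebraMap R L) = ⊤ ∧
        Function.Bijective (Ideal.quotientMap (I.map ψ.toRingHom) ψ.toRingHom Ideal.le_comap_map)) ∧
    (∀ J : Ideal L, J ⊔ (IsLocalRing.maximalIdeal R).map (algebraMap R L) = ⊤ →
        (J.comap ψ.toRingHom).map ψ.toRingHom = J ∧
        J.comap ψ.toRingHom ⊔ (IsLocalRing.maximalIdeal R).map (algebraMap R R[X]) = ⊤) := by
  refine ⟨fun I hI => ?_, fun J hJ => ?_⟩
  · obtain ⟨h1, h2⟩ := part1 R L ψ hψ I hI
    refine ⟨h1, ?_, h2⟩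
    have := congrArg (Ideal.map ψ.toRingHom) hI
    rwa [Ideal.map_sup, Ideal.map_top, Ideal.map_map, show ψ.toRingHom.comp (algebraMap R R[X]) = algebraMap R L from ψ.comp_algebraMap] at this
  · obtain ⟨G, hGm, hGc, hGJ⟩ := exists_monic_mem R L J hJ
    have hK : J.comap ψ.toRingHom ⊔ (IsLocalRing.maximalIdeal R).map (algebraMap R R[X]) = ⊤ := by
      have ht : IsUnit (algebraMap R[X] L X) := IsUnit.of_mul_eq_one_right _ hψ
      have hg : ψ G.reverse ∈ J := by
        letI := ht.invertible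
        have hinv : ⅟(algebraMap R[X] L X) = ψ X := invOf_eq_left_inv hψ
        have h := eval₂_reflect_mul_pow (algebraMap R L) (algebraMap R[X] L X) G.natDegree G le_rfl
        rw [← aeval_def, ← aeval_def, hinv, aeval_algHom_apply ψ X, aeval_X_left_apply, aeval_algebraMap_apply, aeval_X_left_apply] at h
        have hmem : ψ (reflect G.natDegree G) * algebraMap R[X] L X ^ G.natDegree ∈ J := by rw [h]; exact hGJ
        exact (J.mul_unit_mem_iff_mem (ht.pow _)).1 hmem
      rw [Ideal.eq_top_iff_one]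
      have hone : G.reverse - (G.reverse - 1) = 1 := by ring
      rw [← hone]
      refine sub_mem (Ideal.mem_sup_left hg) (Ideal.mem_sup_right ?_)
      rw [Polynomial.algebraMap_eq, Ideal.mem_map_C_iff]
      intro i
      rw [coeff_sub, coeff_one, coeff_reverse]
      rcases Nat.eq_zero_or_pos i with rfl | hi
      · simp [hGm.coeff_natDegree]
      · rw [if_neg hi.ne', sub_zero]
        rcases le_or_gt i G.natDegree with h | h
        · rw [revAt_le h]; exact hGc _ (by omega)
        · rw [revAt_eq_self_of_lt h, coeff_eq_zero_of_natDegree_lt h]; exact zero_mem _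
    refine ⟨le_antisymm Ideal.map_comap_le fun x hx => ?_, hK⟩
    obtain ⟨a, ha⟩ := (part1 R L ψ hψ _ hK).2.2 (Ideal.Quotient.mk _ x)
    obtain ⟨a, rfl⟩ := Ideal.Quotient.mk_surjective a
    rw [Ideal.quotientMap_mk, Ideal.Quotient.mk_eq_mk_iff_sub_mem] at ha
    have haJ : ψ.toRingHom a ∈ J := by
      have := add_mem (Ideal.map_comap_le (f := ψ.toRingHom) ha) hx
      simpa using this
    have := sub_mem (Ideal.mem_map_of_mem ψ.toRingHom (show a ∈ J.comap ψ.toRingHom from haJ)) ha
    simpa using this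

end Groth.Agent.S15779
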