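import Groth.Statements.S1578
import Groth.Agent.CartDiv.Tilde

set_option autoImplicit false
universe u
open CategoryTheory CategoryTheory.Limits AlgebraicGeometry
open Divisors

namespace Groth.Agent.S1578

/-- Let M be a module over a ring A, F the associated quasi-coherent module on Spec A, and p a prime of
A. If p is an associated prime of M then p is an associated point of F; the converse holds when p is
finitely generated. -/
theorem result (A : CommRingCat.{u}) (M : ModuleCat.{u} A)
    (p : Spec A) :
    (p.asIdeal ∈ associatedPrimes A M → Curv2.IsAssPoint (tilde M) p) ∧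
    (p.asIdeal.FG → Curv2.IsAssPoint (tilde M) p → p.asIdeal ∈ associatedPrimes A M) := by
  rw [Groth.Agent.WeakAssSch.isAssPoint_iff_isWeakAssPoint, Groth.Agent.CartDiv.Tilde.isWeakAssPoint_tilde_iff]
  have key : ∀ m : M, (⊥ : Submodule A M).colon {m} = (Submodule.span A {m}).annihilator := fun m => by
    ext a; rw [Groth.Agent.WeakAss.mem_ann, Submodule.mem_colon_singleton, Submodule.mem_bot]
  refine ⟨fun h => ?_, fun hfg h => ?_⟩
  · obtain ⟨hp, m, hm⟩ := h
    refine ⟨m, ?_⟩
    rw [key] at hm
    exact ⟨⟨hp, hm.symm ▸ Ideal.le_radical⟩, fun q hq _ => hm.le.trans ((Ideal.IsPrime.radical_le_iff hq.1).mpr hq.2)⟩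
  · haveI := p.isPrime
    obtain ⟨hp, m, hm⟩ := Groth.Agent.WeakAss.mem_ass_of_fg hfg h
    exact ⟨hp, m, by rw [key, ← hm, hp.radical]⟩

end Groth.Agent.S1578
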