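import Groth.Statements.S15784
import Mathlib.Tactic.LinearCombination
import Mathlib.Tactic.FieldSimp
import Mathlib.Tactic.Ring

set_option autoImplicit false
universe u
open Neron

namespace Groth.Agent.S15784

/-- Let O be a discrete valuation ring with fraction field L and uniformizer ϖ', let ϖ be an element of
the maximal ideal of O, let q = u·ϖ'^n with u a unit of O and n ≥ 1, and let m ≥ 1 be a divisor of
n. Then the following are equivalent: (i) there is a nonzero element z = w·ϖ'^a of L, with w a unit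
of O and a an integer congruent to n/m modulo n, and an integer j such that z^m·q^j lies in 1 + ϖO;
(ii) ϖ'^n/q is an m-th power in the group of units of O/ϖO, that is, u·(y^m + ϖ·r) = 1 for some y, r
∈ O. (The published statement phrases (i) geometrically, as the existence of a point of order m in
the special fibre of the Néron model of the Weil restriction of the Tate curve with parameter q from
L down to a subfield over which L is totally ramified with ϖ a uniformizer of the subfield, whose
image in the component group also has order m; this row states the equivalence between (i) and (ii)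
that the printed argument establishes.) -/
theorem result
    (O : Type u) [CommRing O] [IsDomain O] [IsDiscreteValuationRing O]
    (L : Type u) [Field L] [Algebra O L] [IsFractionRing O L]
    (ϖ' : O) (hϖ' : Irreducible ϖ') (ϖ : O) (hϖ : ϖ ∈ IsLocalRing.maximalIdeal O)
    (n : ℕ) (hn : 1 ≤ n) (u : Oˣ) (q : O) (hq : q = u * ϖ' ^ n)
    (m : ℕ) (hm : 1 ≤ m) (hmn : m ∣ n) :
    (∃ (w : Oˣ) (a j t : ℤ) (r : O), a = (n / m : ℕ) + t * n ∧
        (algebraMap O L w * algebraMap O L ϖ' ^ a) ^ m * algebraMap O L q ^ j = algebraMap O L (1 + ϖ * r)) ↔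
      ∃ y r : O, (u : O) * (y ^ m + ϖ * r) = 1 := by
  have hinj := IsFractionRing.injective O L
  constructor
  · rintro ⟨w, a, j, t, r, ha, heq⟩
    have hunit : IsUnit (1 + ϖ * r) := IsLocalRing.notMem_maximalIdeal.1 fun h => by
      have : (1 : O) ∈ IsLocalRing.maximalIdeal O := by
        simpa using Ideal.sub_mem _ h (Ideal.mul_mem_right r _ hϖ)
      exact (IsLocalRing.maximalIdeal.isMaximal O).ne_top ((Ideal.eq_top_iff_one _).2 this)
    set π := algebraMap O L ϖ' with hπ
    have hπ0 : π ≠ 0 := by
      rw [hπ, Ne, map_eq_zero_iff _ hinj]; exact hϖ'.ne_zero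
    obtain ⟨d, hd⟩ := hmn
    have hnd : n / m = d := by rw [hd, Nat.mul_div_cancel_left _ (by omega)]
    rw [hnd] at ha
    rw [hq, map_mul, map_pow, mul_pow, mul_zpow, ← zpow_natCast π n, ← zpow_natCast (π ^ a) m,
      ← zpow_mul, ← zpow_mul, mul_mul_mul_comm, ← zpow_add₀ hπ0] at heq
    let φ : Oˣ →* Lˣ := Units.map (algebraMap O L).toMonoidHom
    have hval : ∀ (x y : Oˣ) (m : ℕ) (j : ℤ), algebraMap O L ((x ^ m * y ^ j : Oˣ) : O) =
        (algebraMap O L x) ^ m * (algebraMap O L y) ^ j := by
      intro x y m j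
      rw [show algebraMap O L ((x ^ m * y ^ j : Oˣ) : O) = ((φ (x ^ m * y ^ j) : Lˣ) : L) from rfl,
        map_mul, map_pow, map_zpow, Units.val_mul, Units.val_pow_eq_pow_val, Units.val_zpow_eq_zpow_val]
      rfl
    have hexp : a * (m : ℤ) + (n : ℤ) * j = 0 := by
      let v : Oˣ := w ^ m * u ^ j
      have hv : algebraMap O L (v : O) = (algebraMap O L w) ^ m * (algebraMap O L u) ^ j := hval w u m j
      rw [← hv] at heq
      rcases lt_trichotomy (a * (m : ℤ) + (n : ℤ) * j) 0 with h | h | h
      · obtain ⟨N, hN⟩ : ∃ N : ℕ, a * (m : ℤ) + (n : ℤ) * j = -((N : ℤ) + 1) :=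
          ⟨(-(a * (m : ℤ) + (n : ℤ) * j) - 1).toNat, by omega⟩
        rw [hN, zpow_neg, ← div_eq_mul_inv, div_eq_iff (zpow_ne_zero _ hπ0)] at heq
        rw [show ((N : ℤ) + 1) = ((N + 1 : ℕ) : ℤ) by push_cast; ring, zpow_natCast, hπ, ← map_pow,
          ← map_mul] at heq
        have := hinj heq
        exact absurd (isUnit_of_mul_isUnit_right (this ▸ v.isUnit))
          (fun h => hϖ'.not_isUnit ((isUnit_pow_iff (by omega)).1 h))
      · exact h
      · obtain ⟨N, hN⟩ : ∃ N : ℕ, a * (m : ℤ) + (n : ℤ) * j = ((N + 1 : ℕ) : ℤ) :=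
          ⟨((a * (m : ℤ) + (n : ℤ) * j) - 1).toNat, by omega⟩
        rw [hN, zpow_natCast, hπ, ← map_pow, ← map_mul] at heq
        exact absurd (isUnit_of_mul_isUnit_right (hinj heq ▸ hunit))
          (fun h => hϖ'.not_isUnit ((isUnit_pow_iff (by omega)).1 h))
    rw [hexp, zpow_zero, mul_one] at heq
    have hj : j = -1 - t * m := by
      have h1 : (n : ℤ) * (1 + t * m + j) = 0 := by
        rw [ha, hd] at hexp
        rw [hd]
        push_cast at hexp ⊢
        linear_combination hexp
      have := (mul_eq_zero.1 h1).resolve_left (by omega)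
      omega
    have hu' : w ^ m * u ^ j = hunit.unit := by
      ext
      apply hinj
      rw [hval, IsUnit.unit_spec]
      exact heq
    let y : Oˣ := w * u ^ (-t)
    have hy : y ^ m = u * hunit.unit := by
      rw [← hu', hj, mul_pow, ← zpow_natCast (u ^ (-t)) m, ← zpow_mul, mul_left_comm, ← zpow_one_add]
      congr 2
      ring
    refine ⟨((y⁻¹ : Oˣ) : O), ((y⁻¹ : Oˣ) : O) ^ m * r, ?_⟩
    have h := congrArg Units.val (show y⁻¹ ^ m * (u * hunit.unit) = 1 by
      rw [← hy, inv_pow, inv_mul_cancel])
    push_cast at h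
    rw [IsUnit.unit_spec] at h
    linear_combination h
  · rintro ⟨y, r, h⟩
    have hyu : IsUnit y := IsLocalRing.notMem_maximalIdeal.1 fun hy => by
      have : (1 : O) ∈ IsLocalRing.maximalIdeal O := by
        rw [← h]
        exact Ideal.mul_mem_left _ _ (Ideal.add_mem _ (Ideal.pow_mem_of_mem _ hy m (by omega))
          (Ideal.mul_mem_right r _ hϖ))
      exact (IsLocalRing.maximalIdeal.isMaximal O).ne_top ((Ideal.eq_top_iff_one _).2 this)
    refine ⟨hyu.unit⁻¹, (n / m : ℕ), -1, 0, r * ((hyu.unit⁻¹ : Oˣ) : O) ^ m, by ring, ?_⟩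
    have hy0 : algebraMap O L y ≠ 0 := (hyu.map (algebraMap O L)).ne_zero
    have hi : algebraMap O L ((hyu.unit⁻¹ : Oˣ) : O) = (algebraMap O L y)⁻¹ := by
      refine eq_inv_of_mul_eq_one_left ?_
      rw [← map_mul]
      simp
    have hu0 : algebraMap O L u ≠ 0 := (u.isUnit.map (algebraMap O L)).ne_zero
    have hπ0 : algebraMap O L ϖ' ≠ 0 := by
      rw [Ne, map_eq_zero_iff _ hinj]; exact hϖ'.ne_zero
    have hL := congrArg (algebraMap O L) h
    simp only [map_mul, map_add, map_pow, map_one] at hL
    rw [hq]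
    simp only [map_mul, map_add, map_pow, map_one, hi, zpow_neg, zpow_one, zpow_natCast]
    rw [mul_pow, ← pow_mul, Nat.div_mul_cancel hmn, inv_pow]
    field_simp
    linear_combination -hL

end Groth.Agent.S15784
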