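import Groth.Statements.S15789
import Groth.Agent.ASPurity.PSFamily
import Groth.Agent.ASPurity.Extend

set_option autoImplicit false
universe u
open WildQuot

namespace Groth.Agent.S15789

open ASPurity.Family

theorem shift_root {T : Type*} [CommRing T] (p : ℕ) [Fact p.Prime] [CharP T p] {u a x : T} (i : ZMod p)
    (h : u ^ p = a ^ (p - 1) * u + x) :
    (u + ZMod.castHom dvd_rfl T i * a) ^ p = a ^ (p - 1) * (u + ZMod.castHom dvd_rfl T i * a) + x := by
  rw [add_pow_expChar, mul_pow, ← map_pow, ZMod.pow_card, h]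
  obtain ⟨q, hq⟩ : ∃ q, p = q + 1 := ⟨p - 1, (Nat.sub_add_cancel (Fact.out : p.Prime).one_le).symm⟩
  simp only [hq, Nat.add_sub_cancel]
  ring

theorem roots_of_AS {T : Type*} [CommRing T] [IsDomain T] (p : ℕ) [Fact p.Prime] [CharP T p] {a : T} (ha : a ≠ 0)
    {r s : T} (h : r ^ p - a ^ (p - 1) * r = s ^ p - a ^ (p - 1) * s) :
    ∃ i : ZMod p, r = s + ZMod.castHom dvd_rfl T i * a := by
  let L := FractionRing T
  have hι := IsFractionRing.injective T L
  have : CharP L p := charP_of_injective_algebraMap hι p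
  have ha' : algebraMap T L a ≠ 0 := fun h0 => ha (hι (by rw [h0, map_zero]))
  have hq : ∀ y : T, (algebraMap T L y / algebraMap T L a) ^ p - algebraMap T L y / algebraMap T L a =
      algebraMap T L (y ^ p - a ^ (p - 1) * y) / algebraMap T L a ^ p := fun y => by
    obtain ⟨q, hq⟩ : ∃ q, p = q + 1 := ⟨p - 1, (Nat.sub_add_cancel (Fact.out : p.Prime).one_le).symm⟩
    simp only [map_sub, map_mul, map_pow, hq, Nat.add_sub_cancel]
    rw [sub_div, ← div_pow, pow_succ (algebraMap T L a), mul_div_mul_left _ _ (pow_ne_zero _ ha')]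
  obtain ⟨i, hi⟩ := ASPurity.exists_eq_add_of_pow_sub p
    (r := algebraMap T L r / algebraMap T L a) (β := algebraMap T L s / algebraMap T L a) (by rw [hq, hq, h])
  refine ⟨i, hι ?_⟩
  have hc : algebraMap T L (ZMod.castHom dvd_rfl T i) = ZMod.castHom dvd_rfl L i :=
    RingHom.congr_fun (RingHom.ext_zmod ((algebraMap T L).comp (ZMod.castHom dvd_rfl T)) (ZMod.castHom dvd_rfl L)) _
  rw [map_add, map_mul, hc]
  rw [div_eq_iff ha', add_mul, div_mul_cancel₀ _ ha'] at hi
  exact hi

open MvPolynomial in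
/-- Let `k` be a field of characteristic `p > 0`, `n ≥ 2`, `R = k[[x_1, …, x_n]]`, `a_1, …, a_n ∈ R`
nonzero with zero constant term, and `A = R[u_1, …, u_n] / (u_i ^ p - a_i ^ (p-1) u_i - x_i : i =
1..n)`. Then the group of `R`-algebra automorphisms of `A` has exactly `p ^ n` elements, is
commutative and every element has `p`-th power the identity (it is the elementary abelian group
generated by the substitutions `u_i ↦ u_i + a_i`), and an element of `A` is fixed by every
`R`-algebra automorphism if and only if it comes from `R`. (The published statement says that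
`Frac(A)/Frac(R)` is Galois with group `(ℤ/pℤ)^n` and `R = A^H`; this row states it through the
`R`-algebra automorphisms of `A`.) -/
theorem result
    (p : ℕ) [Fact p.Prime] (k : Type u) [Field k] [CharP k p] (n : ℕ) (hn : 2 ≤ n)
    (a : Fin n → MvPowerSeries (Fin n) k)
    (ha0 : ∀ i, a i ≠ 0) (ham : ∀ i, MvPowerSeries.constantCoeff (a i) = 0) :
    let R := MvPowerSeries (Fin n) k
    let I : Ideal (MvPolynomial (Fin n) R) :=
      Ideal.span (Set.range fun i : Fin n =>
        X i ^ p - C (a i ^ (p - 1)) * X i - C (MvPowerSeries.X i))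
    Nat.card ((MvPolynomial (Fin n) R ⧸ I) ≃ₐ[R] (MvPolynomial (Fin n) R ⧸ I)) = p ^ n ∧
      (∀ σ τ : (MvPolynomial (Fin n) R ⧸ I) ≃ₐ[R] (MvPolynomial (Fin n) R ⧸ I), σ * τ = τ * σ) ∧
      (∀ σ : (MvPolynomial (Fin n) R ⧸ I) ≃ₐ[R] (MvPolynomial (Fin n) R ⧸ I), σ ^ p = 1) ∧
      (∀ b : MvPolynomial (Fin n) R ⧸ I,
        (∀ σ : (MvPolynomial (Fin n) R ⧸ I) ≃ₐ[R] (MvPolynomial (Fin n) R ⧸ I), σ b = b) ↔
          b ∈ Set.range (algebraMap R (MvPolynomial (Fin n) R ⧸ I))) := by
  classical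
  intro R I
  haveI : CharP R p := charP_ps (p := p) (k := k) (n := n)
  set A := MvPolynomial (Fin n) R ⧸ I
  haveI : IsDomain A := isDomain a ham
  have hinj : Function.Injective (algebraMap R A) := algebraMap_injective a _
  haveI : CharP A p := charP_of_injective_algebraMap hinj p
  haveI : IsDomain R := hinj.isDomain
  let u : Fin n → A := var p (fun i => a i ^ (p - 1)) MvPowerSeries.X
  have hgen : Algebra.adjoin R (Set.range u) = ⊤ := adjoin_var _ _
  have hrel : ∀ i, u i ^ p = algebraMap R A (a i ^ (p - 1)) * u i + algebraMap R A (MvPowerSeries.X i) :=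
    fun i => var_pow (p := p) _ _ i
  have hext : ∀ σ τ : A ≃ₐ[R] A, (∀ i, σ (u i) = τ (u i)) → σ = τ := fun σ τ h =>
    AlgEquiv.ext fun x => DFunLike.congr_fun
      (AlgHom.ext_of_adjoin_eq_top (φ₁ := σ.toAlgHom) (φ₂ := τ.toAlgHom) hgen (by rintro _ ⟨i, rfl⟩; exact h i)) x
  let c : ZMod p →+* A := ZMod.castHom dvd_rfl A
  have hc : ∀ (σ : A ≃ₐ[R] A) (j : ZMod p), σ (c j) = c j := fun σ j =>
    RingHom.congr_fun (RingHom.ext_zmod (σ.toAlgHom.toRingHom.comp c) c) j
  have hpar : ∀ σ : A ≃ₐ[R] A, ∃ ν : Fin n → ZMod p, ∀ i, σ (u i) = u i + c (ν i) * algebraMap R A (a i) := by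
    intro σ
    choose ν hν using fun i => roots_of_AS p (a := algebraMap R A (a i))
      (fun h => ha0 i (hinj (by rw [h, map_zero]))) (r := σ (u i)) (s := u i) (by
        have h1 := congrArg σ (hrel i)
        rw [map_pow, map_add, map_mul, σ.commutes, σ.commutes] at h1
        rw [← map_pow (algebraMap R A), h1, hrel i]
        ring)
    exact ⟨ν, hν⟩
  have hex : ∀ ν : Fin n → ZMod p, ∃ f : A →ₐ[R] A, ∀ i, f (u i) = u i + c (ν i) * algebraMap R A (a i) := fun ν =>
    exists_lift (R := R) (T := A) (p := p) (fun i => a i ^ (p - 1)) MvPowerSeries.X (fun i => u i + c (ν i) * algebraMap R A (a i)) fun i => by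
      change (u i + c (ν i) * algebraMap R A (a i)) ^ p =
        algebraMap R A (a i ^ (p - 1)) * (u i + c (ν i) * algebraMap R A (a i)) + algebraMap R A (MvPowerSeries.X i)
      rw [map_pow]
      exact shift_root (T := A) p (ν i) (u := u i) (a := algebraMap R A (a i))
        (x := algebraMap R A (MvPowerSeries.X i)) ((hrel i).trans (by rw [map_pow]))
  choose f hf using hex
  have hcf : ∀ (ν : Fin n → ZMod p) (j : ZMod p), f ν (c j) = c j := fun ν j =>
    RingHom.congr_fun (RingHom.ext_zmod ((f ν).toRingHom.comp c) c) j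
  have hcomp : ∀ ν μ : Fin n → ZMod p, ν + μ = 0 → (f ν).comp (f μ) = AlgHom.id R A := fun ν μ h => by
    refine AlgHom.ext_of_adjoin_eq_top hgen ?_
    rintro _ ⟨i, rfl⟩
    rw [AlgHom.comp_apply, hf, map_add, map_mul, hf, hcf, AlgHom.commutes, add_assoc, ← add_mul, ← map_add,
      ← Pi.add_apply, h, Pi.zero_apply, map_zero, zero_mul, add_zero, AlgHom.id_apply]
  let e : (Fin n → ZMod p) → (A ≃ₐ[R] A) := fun ν =>
    AlgEquiv.ofAlgHom (f ν) (f (-ν)) (hcomp _ _ (add_neg_cancel ν)) (hcomp _ _ (neg_add_cancel ν))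
  have he : ∀ ν i, e ν (u i) = u i + c (ν i) * algebraMap R A (a i) := fun ν i => hf ν i
  have hebij : Function.Bijective e := by
    refine ⟨fun ν μ h => funext fun i => c.injective ?_, fun σ => ?_⟩
    · have := (he ν i).symm.trans ((DFunLike.congr_fun h (u i)).trans (he μ i))
      exact mul_right_cancel₀ (fun h0 => ha0 i (hinj (by rw [h0, map_zero]))) (add_left_cancel this)
    · obtain ⟨ν, hν⟩ := hpar σ
      exact ⟨ν, hext _ _ fun i => (he ν i).trans (hν i).symm⟩
  have hpow : ∀ (σ : A ≃ₐ[R] A) (ν : Fin n → ZMod p), (∀ i, σ (u i) = u i + c (ν i) * algebraMap R A (a i)) →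
      ∀ (m : ℕ) i, (σ ^ m) (u i) = u i + (m : A) * (c (ν i) * algebraMap R A (a i)) := by
    intro σ ν hν m i
    induction m with
    | zero => simp
    | succ m ih =>
      rw [pow_succ', AlgEquiv.mul_apply, ih, map_add, map_mul, map_mul, hν, map_natCast, hc, σ.commutes]
      push_cast; ring
  refine ⟨?_, fun σ τ => ?_, fun σ => ?_, fun b => ⟨fun hb => ?_, ?_⟩⟩
  · rw [← Nat.card_eq_of_bijective e hebij, Nat.card_eq_fintype_card, Fintype.card_fun, ZMod.card, Fintype.card_fin]
  · obtain ⟨ν, hν⟩ := hpar σ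
    obtain ⟨μ, hμ⟩ := hpar τ
    refine hext _ _ fun i => ?_
    rw [AlgEquiv.mul_apply, AlgEquiv.mul_apply, hν, hμ, map_add, map_add, map_mul, map_mul, hν, hμ, hc, hc, σ.commutes,
      τ.commutes]
    ring
  · obtain ⟨ν, hν⟩ := hpar σ
    refine hext _ _ fun i => ?_
    rw [hpow σ ν hν, CharP.cast_eq_zero, zero_mul, add_zero, AlgEquiv.one_apply]
  · refine mem_range_of_forall_fixed (p := p) u hinj a ha0 (fun j => f (Pi.single j 1)) (fun j i => ?_)
      (lc_bijective a _).2 b (fun j => hb (e (Pi.single j 1)))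
    rw [hf]
    by_cases h : i = j
    · subst h; simp [R]
    · simp [Pi.single_eq_of_ne h, h]
  · rintro ⟨r, rfl⟩ σ
    exact σ.commutes r

end Groth.Agent.S15789
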