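import Groth.Statements.S15791
import Groth.Agent.ASPurity.LengthProd

set_option autoImplicit false
universe u v
open WildQuot

namespace Groth.Agent.S15791

open IsLocalRing

theorem span_range_eq_sup {A : Type*} [CommRing A] {n : ℕ} (f : Fin n → A) (j : Fin n) :
    Ideal.span (Set.range f) = Ideal.span (f '' {j}ᶜ) ⊔ Ideal.span {f j} := by
  rw [← Ideal.span_union, ← Set.image_singleton, ← Set.image_union, Set.compl_union_self, Set.image_univ]

/-- Let `A` be a regular local ring of Krull dimension `n` with maximal ideal `m`, let a finite group
`G` of order `g` act on `A` by ring automorphisms, and let `u_1, …, u_n` be an admissible regular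
system of parameters: for every choice `σ_1, …, σ_n ∈ G`, the elements `σ_1 u_1, …, σ_n u_n`
generate `m`. With `x_i = ∏_{σ ∈ G} σ u_i` the norms, the length of `A / (x_1, …, x_n)` is at most
`g ^ n`. (The published statement is for a complete regular local ring containing a `G`-fixed field
of representatives and asserts that the length equals `g ^ n`; this row states the upper bound for
any regular local ring.) -/
theorem result
    (A : Type u) [CommRing A] [IsRegularLocalRing A]
    (G : Type v) [Group G] [Fintype G] [MulSemiringAction G A]
    (n : ℕ) (hn : ringKrullDim A = n) (u : Fin n → A)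
    (hu : ∀ τ : Fin n → G,
      Ideal.span (Set.range fun i => τ i • u i) = IsLocalRing.maximalIdeal A) :
    Module.length A (A ⧸ Ideal.span (Set.range fun i => ∏ σ : G, σ • u i)) ≤
      (Fintype.card G ^ n : ℕ) := by
  classical
  let x : Fin n → A := fun i => ∏ σ : G, σ • u i
  let y : Finset (Fin n) → (Fin n → G) → Fin n → A := fun S τ i => if i ∈ S then x i else τ i • u i
  have key : ∀ (S : Finset (Fin n)) (τ : Fin n → G),
      Module.length A (A ⧸ Ideal.span (Set.range (y S τ))) ≤ (Fintype.card G ^ S.card : ℕ) := by
    intro S
    induction S using Finset.induction_on with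
    | empty =>
      intro τ
      haveI : IsSimpleModule A (A ⧸ Ideal.span (Set.range (y ∅ τ))) := by
        have he : y ∅ τ = fun i => τ i • u i := funext fun i => by simp [y]
        rw [he, hu τ]
        exact isSimpleModule_iff_isCoatom.2 (IsLocalRing.maximalIdeal.isMaximal A).out
      rw [Module.length_eq_one_iff.2 inferInstance]
      simp
    | insert j S hj ih =>
      intro τ
      set J := Ideal.span (y (insert j S) τ '' {j}ᶜ) with hJ
      have h2 : ∀ σ : G, J ⊔ Ideal.span {σ • u j} = Ideal.span (Set.range (y S (Function.update τ j σ))) := by
        intro σ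
        rw [span_range_eq_sup (y S (Function.update τ j σ)) j, hJ]
        congr 2
        · refine Set.image_congr fun i hi => ?_
          have hi' : i ≠ j := hi
          simp [y, hi', Finset.mem_insert, Function.update_of_ne hi']
        · simp [y, hj]
      rw [span_range_eq_sup (y (insert j S) τ) j]
      refine le_of_le_of_eq ?_ (by rw [Finset.card_insert_of_notMem hj, pow_succ'] :
        ((Fintype.card G * Fintype.card G ^ S.card : ℕ) : ℕ∞) = _)
      rw [show y (insert j S) τ j = ∏ σ : G, σ • u j by simp [y, x]]
      refine (ASPurity.LengthProd.length_sup_prod_le J Finset.univ (fun σ => σ • u j)).trans ?_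
      refine (Finset.sum_le_sum fun σ _ => (h2 σ).symm ▸ ih (Function.update τ j σ)).trans (le_of_eq ?_)
      rw [Finset.sum_const, Finset.card_univ, nsmul_eq_mul, Nat.cast_mul]
  have := key Finset.univ 1
  have he : y Finset.univ 1 = x := funext fun i => if_pos (Finset.mem_univ i)
  rw [he, Finset.card_univ, Fintype.card_fin] at this
  exact this

end Groth.Agent.S15791
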