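import Groth.Statements.S15792
import Mathlib

set_option autoImplicit false
universe u v
open WildQuot

namespace Groth.Agent.S15792

open IsLocalRing in
theorem exists_fixed_mod (p : ℕ) [Fact p.Prime] {A : Type u} [CommRing A] [IsLocalRing A]
    [CharP A p] {G : Type v} [Group G] [Finite G] [MulSemiringAction G A] (hG : IsPGroup p G)
    (J : Ideal A) (hJ : ∀ (σ : G) (a : A), a ∈ J → σ • a ∈ J) (hlt : ¬ maximalIdeal A ≤ J) :
    ∃ x ∈ maximalIdeal A, x ∉ J ∧ ∀ σ : G, σ • x - x ∈ J := by
  classical
  obtain ⟨x₀, hx₀, hx₀'⟩ := SetLike.not_le_iff_exists.mp hlt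
  letI : Algebra (ZMod p) A := ZMod.algebra A p
  let W : Submodule (ZMod p) A := Submodule.span (ZMod p) (Set.range fun g : G => g • x₀)
  have hWfin : Finite W := by
    haveI : Module.Finite (ZMod p) W := Module.Finite.span_of_finite _ (Set.finite_range _)
    exact Module.finite_of_finite (ZMod p)
  have hWm : ∀ a ∈ W, a ∈ maximalIdeal A := by
    intro a ha
    induction ha using Submodule.span_induction with
    | mem y hy =>
      obtain ⟨g, rfl⟩ := hy
      exact fun h => hx₀ (by simpa using h.map (MulSemiringAction.toRingHom G A g⁻¹))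
    | zero => exact zero_mem _
    | add _ _ _ _ h1 h2 => exact add_mem h1 h2
    | smul c y _ hy => rw [Algebra.smul_def]; exact Ideal.mul_mem_left _ _ hy
  have hWG : ∀ (σ : G), ∀ a ∈ W, σ • a ∈ W := by
    intro σ a ha
    induction ha using Submodule.span_induction with
    | mem y hy =>
      obtain ⟨g, rfl⟩ := hy
      exact Submodule.subset_span ⟨σ * g, mul_smul _ _ _⟩
    | zero => rw [smul_zero]; exact zero_mem _
    | add _ _ _ _ h1 h2 => rw [smul_add]; exact add_mem h1 h2
    | smul c y _ hy =>
      have hc : σ • algebraMap (ZMod p) A c = algebraMap (ZMod p) A c :=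
        RingHom.congr_fun (RingHom.ext_zmod
          ((MulSemiringAction.toRingHom G A σ).comp (algebraMap (ZMod p) A)) _) c
      rw [Algebra.smul_def, smul_mul', hc, ← Algebra.smul_def]
      exact Submodule.smul_mem _ _ hy
  let S : AddSubgroup (A ⧸ J) := W.toAddSubgroup.map (Ideal.Quotient.mk J).toAddMonoidHom
  haveI : Finite S := Set.Finite.to_subtype (Set.Finite.image _ (Set.toFinite (W : Set A)))
  let φ : G → A ⧸ J →+* A ⧸ J := fun σ =>
    Ideal.quotientMap J (MulSemiringAction.toRingHom G A σ) fun a ha => hJ σ a ha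
  have hφ : ∀ σ a, φ σ (Ideal.Quotient.mk J a) = Ideal.Quotient.mk J (σ • a) := fun σ a => rfl
  have hφS : ∀ σ, ∀ q ∈ S, φ σ q ∈ S := by
    rintro σ q ⟨a, ha, rfl⟩
    exact ⟨σ • a, hWG σ a ha, rfl⟩
  letI : MulAction G S :=
    { smul := fun σ q => ⟨φ σ q.1, hφS σ q.1 q.2⟩
      one_smul := by
        rintro ⟨q, hq⟩
        obtain ⟨a, rfl⟩ := Ideal.Quotient.mk_surjective q
        exact Subtype.ext ((hφ 1 a).trans (by rw [one_smul]))
      mul_smul := by
        rintro σ τ ⟨q, hq⟩
        obtain ⟨a, rfl⟩ := Ideal.Quotient.mk_surjective q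
        exact Subtype.ext (by
          change φ (σ * τ) _ = φ σ (φ τ _)
          rw [hφ, hφ, hφ, mul_smul]) }
  have hord : addOrderOf (⟨Ideal.Quotient.mk J x₀,
      ⟨x₀, Submodule.subset_span ⟨1, one_smul _ _⟩, rfl⟩⟩ : S) = p := by
    refine addOrderOf_eq_prime ?_ fun h => hx₀' ?_
    · refine Subtype.ext ?_
      change p • Ideal.Quotient.mk J x₀ = 0
      rw [← map_nsmul, nsmul_eq_mul, CharP.cast_eq_zero, zero_mul, map_zero]
    · exact Ideal.Quotient.eq_zero_iff_mem.mp (congrArg Subtype.val h)
  have hdvd : p ∣ Nat.card S := hord ▸ addOrderOf_dvd_natCard _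
  obtain ⟨b, hb, hb0⟩ := hG.exists_fixed_point_of_prime_dvd_card_of_fixed_point S hdvd
    (a := (0 : S)) (fun σ => Subtype.ext (map_zero (φ σ)))
  obtain ⟨⟨q, x, hx, rfl⟩, rfl⟩ : ∃ b' : S, b' = b := ⟨b, rfl⟩
  refine ⟨x, hWm x hx, fun h => hb0 (Subtype.ext (Ideal.Quotient.eq_zero_iff_mem.mpr h).symm), fun σ => ?_⟩
  have := congrArg Subtype.val (hb σ)
  exact (Ideal.Quotient.mk_eq_mk_iff_sub_mem _ _).mp this

open IsLocalRing in
theorem mem_sup_sq_iff {A : Type u} [CommRing A] [IsLocalRing A] {i : ℕ}
    (u : Fin i → maximalIdeal A) (x : maximalIdeal A) :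
    (x : A) ∈ Ideal.span (Set.range fun j => (u j : A)) ⊔ maximalIdeal A ^ 2 ↔
      (maximalIdeal A).toCotangent x ∈
        Submodule.span (ResidueField A) (Set.range fun j => (maximalIdeal A).toCotangent (u j)) := by
  rw [← Submodule.restrictScalars_mem A (Submodule.span (ResidueField A) _), Submodule.restrictScalars_span A (ResidueField A)
    residue_surjective, Submodule.mem_span_range_iff_exists_fun, Submodule.mem_sup]
  constructor
  · rintro ⟨y, hy, z, hz, hyz⟩
    obtain ⟨c, rfl⟩ := Ideal.mem_span_range_iff_exists_fun.mp hy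
    refine ⟨c, ?_⟩
    simp only [← map_smul, ← map_sum]
    refine ((maximalIdeal A).toCotangent_eq.mpr ?_)
    rw [← neg_mem_iff, neg_sub]
    simp only [Submodule.coe_sum, Submodule.coe_smul, smul_eq_mul]
    rw [← hyz, add_sub_cancel_left]
    exact hz
  · rintro ⟨c, hc⟩
    simp only [← map_smul, ← map_sum] at hc
    have := (maximalIdeal A).toCotangent_eq.mp hc
    simp only [Submodule.coe_sum, Submodule.coe_smul, smul_eq_mul] at this
    exact ⟨_, Ideal.mem_span_range_iff_exists_fun.mpr ⟨c, rfl⟩, _, neg_mem this, by ring⟩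

open IsLocalRing in
theorem exists_flag (p : ℕ) [Fact p.Prime] {A : Type u} [CommRing A] [IsLocalRing A]
    [IsNoetherianRing A] [CharP A p] {G : Type v} [Group G] [Finite G] [MulSemiringAction G A]
    (hG : IsPGroup p G) (hres : ∀ (σ : G) (a : A), σ • a - a ∈ maximalIdeal A)
    (n : ℕ) (hn : Module.finrank (ResidueField A) (CotangentSpace A) = n) :
    ∀ i ≤ n, ∃ u : Fin i → maximalIdeal A,
      LinearIndependent (ResidueField A) (fun j => (maximalIdeal A).toCotangent (u j)) ∧
      ∀ (σ : G) (j : Fin i), σ • (u j : A) - (u j : A) ∈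
        Ideal.span {a | ∃ l, l < j ∧ a = (u l : A)} ⊔ maximalIdeal A ^ 2 := by
  intro i
  induction i with
  | zero => exact fun _ => ⟨Fin.elim0, linearIndependent_empty_type, fun _ j => j.elim0⟩
  | succ i ih =>
    intro hi
    obtain ⟨u, hind, hu⟩ := ih (by omega)
    set J : Ideal A := Ideal.span (Set.range fun j => (u j : A)) ⊔ maximalIdeal A ^ 2 with hJdef
    have hJ : ∀ (σ : G) (a : A), a ∈ J → σ • a ∈ J := by
      intro σ a ha
      suffices J ≤ J.comap (MulSemiringAction.toRingHom G A σ) from this ha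
      refine sup_le (Ideal.span_le.mpr ?_) ?_
      · rintro _ ⟨j, rfl⟩
        change σ • (u j : A) ∈ J
        rw [← sub_add_cancel (σ • (u j : A)) (u j : A)]
        have hle : Ideal.span {a | ∃ l, l < j ∧ a = (u l : A)} ⊔ maximalIdeal A ^ 2 ≤ J :=
          sup_le_sup_right (Ideal.span_mono fun b hb => by
            obtain ⟨l, -, rfl⟩ := hb; exact ⟨l, rfl⟩) _
        exact J.add_mem (hle (hu σ j))
          (Ideal.mem_sup_left (Ideal.subset_span ⟨j, rfl⟩))
      · refine Ideal.map_le_iff_le_comap.mp ?_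
        rw [Ideal.map_pow]
        refine le_sup_of_le_right (Ideal.pow_right_mono (Ideal.map_le_iff_le_comap.mpr
          fun a ha => ?_) 2)
        exact fun h => ha (by simpa using h.map (MulSemiringAction.toRingHom G A σ⁻¹))
    have hlt : ¬ maximalIdeal A ≤ J := fun hle => by
      have h1 : Submodule.span (ResidueField A)
          (Set.range fun j => (maximalIdeal A).toCotangent (u j)) = ⊤ := by
        refine top_le_iff.mp fun c _ => ?_
        obtain ⟨x, rfl⟩ := (maximalIdeal A).toCotangent_surjective c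
        exact (mem_sup_sq_iff u x).mp (hle x.2)
      have h2 := finrank_span_eq_card hind
      rw [h1, finrank_top, hn, Fintype.card_fin] at h2
      omega
    obtain ⟨x, hxm, hxJ, hxσ⟩ := exists_fixed_mod p hG J hJ hlt
    refine ⟨Fin.snoc u ⟨x, hxm⟩, ?_, fun σ => Fin.lastCases ?_ fun j => ?_⟩
    · rw [show (fun j => (maximalIdeal A).toCotangent
          ((Fin.snoc u ⟨x, hxm⟩ : Fin (i + 1) → maximalIdeal A) j)) =
          Fin.snoc (fun j => (maximalIdeal A).toCotangent (u j))
            ((maximalIdeal A).toCotangent ⟨x, hxm⟩) from Fin.comp_snoc _ _ _]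
      exact linearIndependent_finSnoc.mpr ⟨hind, fun h => hxJ ((mem_sup_sq_iff u ⟨x, hxm⟩).mpr h)⟩
    · simp only [Fin.snoc_last]
      refine (?_ : J ≤ _) (hxσ σ)
      refine sup_le_sup_right (Ideal.span_mono ?_) _
      rintro _ ⟨j, rfl⟩
      exact ⟨j.castSucc, Fin.castSucc_lt_last j, by simp⟩
    · simp only [Fin.snoc_castSucc]
      refine (?_ : Ideal.span {a | ∃ l, l < j ∧ a = (u l : A)} ⊔ maximalIdeal A ^ 2 ≤ _) (hu σ j)
      refine sup_le_sup_right (Ideal.span_mono ?_) _
      rintro _ ⟨l, hl, rfl⟩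
      exact ⟨l.castSucc, by simpa using hl, by simp⟩

open IsLocalRing in
theorem main (p : ℕ) [Fact p.Prime] (A : Type u) [CommRing A] [IsRegularLocalRing A] [CharP A p]
    (G : Type v) [Group G] [Finite G] [MulSemiringAction G A] (hG : IsPGroup p G)
    (hres : ∀ (σ : G) (a : A), σ • a - a ∈ maximalIdeal A)
    (n : ℕ) (hn : ringKrullDim A = n) :
    ∃ u : Fin n → A, ∀ τ : Fin n → G,
      Ideal.span (Set.range fun i => τ i • u i) = maximalIdeal A := by
  have hfr : Module.finrank (ResidueField A) (CotangentSpace A) = n := by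
    have h := (IsRegularLocalRing.iff_finrank_cotangentSpace A).mp inferInstance
    rw [hn] at h
    exact_mod_cast h
  obtain ⟨u, hind, hu⟩ := exists_flag p hG hres n hfr n le_rfl
  refine ⟨fun i => (u i : A), fun τ => le_antisymm (Ideal.span_le.mpr ?_) ?_⟩
  · rintro _ ⟨i, rfl⟩ h
    exact (u i).2 (by simpa using h.map (MulSemiringAction.toRingHom G A (τ i)⁻¹))
  set K : Ideal A := Ideal.span (Set.range fun i => τ i • (u i : A)) ⊔ maximalIdeal A ^ 2 with hK
  have huK : ∀ i, (u i : A) ∈ K := by
    intro i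
    induction i using WellFoundedLT.induction with
    | _ i ih =>
      have h1 : Ideal.span {a | ∃ l, l < i ∧ a = (u l : A)} ⊔ maximalIdeal A ^ 2 ≤ K :=
        sup_le (Ideal.span_le.mpr (by rintro _ ⟨l, hl, rfl⟩; exact ih l hl)) le_sup_right
      have := K.sub_mem (Ideal.mem_sup_left (Ideal.subset_span ⟨i, rfl⟩)) (h1 (hu (τ i) i))
      simpa using this
  have hmK : maximalIdeal A ≤ K := by
    intro x hx
    have hspan : Submodule.span (ResidueField A)
        (Set.range fun j => (maximalIdeal A).toCotangent (u j)) = ⊤ :=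
      hind.span_eq_top_of_card_eq_finrank' (by rw [Fintype.card_fin, hfr])
    have := (mem_sup_sq_iff u ⟨x, hx⟩).mpr (hspan ▸ Submodule.mem_top)
    have hle : Ideal.span (Set.range fun i => (u i : A)) ⊔ maximalIdeal A ^ 2 ≤ K :=
      sup_le (Ideal.span_le.mpr (by rintro _ ⟨i, rfl⟩; exact huK i)) le_sup_right
    exact hle this
  refine Submodule.le_of_le_smul_of_le_jacobson_bot (maximalIdeal A).fg_of_isNoetherianRing
    (maximalIdeal_le_jacobson ⊥) ?_
  rwa [hK, pow_two] at hmK

/-- Let `A` be a regular local ring of Krull dimension `n` and prime characteristic `p`, and let a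
finite `p`-group `G` act on `A` by ring automorphisms inducing the identity on the residue field.
Then there is an admissible regular system of parameters: `u_1, …, u_n ∈ A` such that for every
choice `σ_1, …, σ_n ∈ G` the elements `σ_1 u_1, …, σ_n u_n` generate the maximal ideal. (The
published statement is for a complete regular local ring containing a field of representatives fixed
by `G`; this row drops completeness and asks only that `G` act trivially on the residue field.) -/
theorem result
    (p : ℕ) [Fact p.Prime] (A : Type u) [CommRing A] [IsRegularLocalRing A] [CharP A p]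
    (G : Type v) [Group G] [Finite G] [MulSemiringAction G A] (hG : IsPGroup p G)
    (hres : ∀ (σ : G) (a : A), σ • a - a ∈ IsLocalRing.maximalIdeal A)
    (n : ℕ) (hn : ringKrullDim A = n) :
    ∃ u : Fin n → A, ∀ τ : Fin n → G,
      Ideal.span (Set.range fun i => τ i • u i) = IsLocalRing.maximalIdeal A := by
  exact main p A G hG hres n hn

end Groth.Agent.S15792
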