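import Groth.Statements.S15793
import Groth.Agent.ASPurity.Punctured
import Groth.Agent.RegLoc.Basic

set_option autoImplicit false
universe u v w
open WildQuot

namespace Groth.Agent.S15793

/-- Let `A` be a complete regular local ring of Krull dimension at least `2` and prime characteristic
`p`, with maximal ideal `m`; let `k` be a field with a ring map `k → A` whose composite with `A →
A/m` is onto (a field of representatives); let `G` be a group of order `p` acting on `A` by ring
automorphisms that fix the image of `k`, ramified precisely at the origin: for every prime `P ≠ m`,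
the inertia subgroup of `P` (the elements of `G` fixing every element of `A` modulo `P`) is trivial.
Then no element of `m` outside `m ^ 2` is fixed by every element of `G`; in particular the action is
not linear in any regular system of parameters. -/
theorem result
    (p : ℕ) [Fact p.Prime] (A : Type u) [CommRing A] [IsRegularLocalRing A] [CharP A p]
    [IsAdicComplete (IsLocalRing.maximalIdeal A) A] (hdim : 2 ≤ ringKrullDim A)
    (k : Type v) [Field k] [Algebra k A]
    (hk : Function.Surjective (IsLocalRing.residue A ∘ algebraMap k A))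
    (G : Type w) [Group G] [Finite G] [MulSemiringAction G A] (hcard : Nat.card G = p)
    (hGk : ∀ (σ : G) (c : k), σ • algebraMap k A c = algebraMap k A c)
    (hram : ∀ P : Ideal A, P.IsPrime → P ≠ IsLocalRing.maximalIdeal A → P.inertia G = ⊥)
    (v : A) (hv : v ∈ IsLocalRing.maximalIdeal A) (hv2 : v ∉ IsLocalRing.maximalIdeal A ^ 2) :
    ∃ σ : G, σ • v ≠ v := by
  classical
  by_contra hc
  push Not at hc
  obtain ⟨n, hn, -⟩ := RegLoc.exists_natCast_eq_ringKrullDim A
  obtain ⟨s, hs, hs'⟩ := Submodule.FG.exists_span_finset_card_eq_spanFinrank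
    (IsNoetherian.noetherian (IsLocalRing.maximalIdeal A))
  rw [RegLoc.spanFinrank_eq_dim hn] at hs
  obtain ⟨y, hy, hspan⟩ := RegLoc.exists_mem_span_insert_erase hs' s subset_rfl hv (by simpa using hv2)
  rw [Finset.coe_insert] at hspan
  obtain ⟨χ, -, hχ0, σ, hσ⟩ := ASPurity.exists_char p hcard
  have hσ1 : σ ≠ 1 := fun h => by
    have := (hχ0 σ).2 h
    rw [hσ] at this
    exact one_ne_zero this
  have hres := ASPurity.smul_sub_mem_maximalIdeal hk hGk
  let I : Ideal A := Ideal.span (Set.range fun a : A => σ • a - a)
  let J : Ideal A := Ideal.span (((s.erase y).image fun w => σ • w - w : Finset A) : Set A)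
  have hIJ : I ≤ J := by
    have hmem : ∀ a ∈ IsLocalRing.maximalIdeal A, σ • a - a ∈ J ⊔ IsLocalRing.maximalIdeal A * I := by
      intro a ha
      rw [← hspan] at ha
      induction ha using Submodule.span_induction with
      | mem x hx =>
        rcases hx with rfl | hx
        · rw [hc σ, sub_self]; exact zero_mem _
        · exact Ideal.mem_sup_left (Ideal.subset_span (Finset.mem_image_of_mem (fun w => σ • w - w) hx))
      | zero => rw [smul_zero, sub_zero]; exact zero_mem _
      | add x z _ _ hx hz => rw [smul_add, add_sub_add_comm]; exact add_mem hx hz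
      | smul r x hxm hx =>
        have hx' : x ∈ IsLocalRing.maximalIdeal A := hspan ▸ hxm
        rw [smul_eq_mul, smul_mul', show σ • r * σ • x - r * x = σ • r * (σ • x - x) + x * (σ • r - r) by ring]
        exact add_mem (Ideal.mul_mem_left _ _ hx)
          (Ideal.mem_sup_right (Ideal.mul_mem_mul hx' (Ideal.subset_span (Set.mem_range_self r))))
    refine Submodule.le_of_le_smul_of_le_jacobson_bot (IsNoetherian.noetherian I)
      (IsLocalRing.maximalIdeal_le_jacobson ⊥) (Ideal.span_le.2 ?_)
    rintro _ ⟨a, rfl⟩
    obtain ⟨c, hc'⟩ := hk (IsLocalRing.residue A a)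
    have h1 : a - algebraMap k A c ∈ IsLocalRing.maximalIdeal A := by
      rw [← IsLocalRing.residue_eq_zero_iff, map_sub, sub_eq_zero]; exact hc'.symm
    have := hmem _ h1
    rwa [smul_sub, hGk, sub_sub_sub_cancel_right] at this
  have hJm : J ≤ IsLocalRing.maximalIdeal A := by
    rw [Ideal.span_le]
    intro x hx
    obtain ⟨w, -, rfl⟩ := Finset.mem_image.1 hx
    exact hres σ w
  obtain ⟨P, hP⟩ := Ideal.nonempty_minimalPrimes (I := J) fun h => (IsLocalRing.maximalIdeal.isMaximal A).ne_top
    (top_unique (h ▸ hJm))
  have hPm : P = IsLocalRing.maximalIdeal A := by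
    by_contra hne
    have hmem : σ ∈ P.inertia G := fun a => hP.1.2 (hIJ (Ideal.subset_span (Set.mem_range_self a)))
    rw [hram P hP.1.1 hne, Subgroup.mem_bot] at hmem
    exact hσ1 hmem
  have hh := Ideal.height_le_card_of_mem_minimalPrimes_span_finset hP
  rw [hPm] at hh
  have h2 : (IsLocalRing.maximalIdeal A).height ≤ ((s.erase y).card : ℕ∞) :=
    hh.trans (by exact_mod_cast Finset.card_image_le)
  have h3 := WithBot.coe_le_coe.2 h2
  rw [IsLocalRing.maximalIdeal_height_eq_ringKrullDim, hn] at h3
  have h4 : n ≤ (s.erase y).card := by exact_mod_cast h3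
  rw [Finset.card_erase_of_mem hy] at h4
  have := Finset.card_pos.2 ⟨y, hy⟩
  omega

end Groth.Agent.S15793
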