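import Groth.Statements.S15794
import Groth.Agent.ASPurity.Punctured

set_option autoImplicit false
universe u v w
open WildQuot

namespace Groth.Agent.S15794

/-- Let `A` be a complete regular local ring of Krull dimension at least `2` and prime characteristic
`p`, with maximal ideal `m`; let `k` be a field with a ring map `k → A` whose composite with `A →
A/m` is onto; let `G` be a group of order `p` acting on `A` by ring automorphisms fixing the image
of `k` and ramified precisely at the origin (for every prime `P ≠ m`, the inertia subgroup of `P`
(the elements of `G` fixing every element modulo `P`) is trivial). Then `A` is not a flat module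
over the ring of invariants `A^G`. (The published statement also asserts that `A^G ⊂ A` is local and
finite of degree `p` with trivial residue field extension; this row omits those clauses.) -/
theorem result
    (p : ℕ) [Fact p.Prime] (A : Type u) [CommRing A] [IsRegularLocalRing A] [CharP A p]
    [IsAdicComplete (IsLocalRing.maximalIdeal A) A] (hdim : 2 ≤ ringKrullDim A)
    (k : Type v) [Field k] [Algebra k A]
    (hk : Function.Surjective (IsLocalRing.residue A ∘ algebraMap k A))
    (G : Type w) [Group G] [Finite G] [MulSemiringAction G A] (hcard : Nat.card G = p)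
    (hGk : ∀ (σ : G) (c : k), σ • algebraMap k A c = algebraMap k A c)
    (hram : ∀ P : Ideal A, P.IsPrime → P ≠ IsLocalRing.maximalIdeal A → P.inertia G = ⊥) :
    ¬ Module.Flat (FixedPoints.subring A G) A := by
  intro hflat
  have : IsDomain A := RegLoc.isDomain A
  have : IsIntegrallyClosed A := Groth.Agent.S9829.result A
  obtain ⟨hN, -, -⟩ := ASPurity.invariants_finite_noetherian_complete (A := A) (G := G) hk hGk
  let B := FixedPoints.subring A G
  haveI : IsLocalHom (algebraMap B A) := by
    refine ⟨fun b hb => ?_⟩
    obtain ⟨u, hu⟩ := hb
    have hfix : ∀ σ : G, σ • (↑u⁻¹ : A) = ↑u⁻¹ := fun σ => by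
      refine Units.eq_inv_of_mul_eq_one_left ?_
      rw [mul_comm]
      rw [show (u : A) = algebraMap B A b from hu]
      calc σ • (↑u⁻¹ : A) * algebraMap B A b = σ • (↑u⁻¹ * algebraMap B A b) := by
            rw [smul_mul', show σ • algebraMap B A b = algebraMap B A b from b.2 σ]
        _ = 1 := by rw [← hu, Units.inv_mul, smul_one]
    exact IsUnit.of_mul_eq_one (⟨↑u⁻¹, hfix⟩ : B) (Subtype.ext (by
      change (algebraMap B A b) * ↑u⁻¹ = 1
      rw [← hu, Units.mul_inv]))
  haveI : IsLocalRing B := RingHom.domain_isLocalRing (algebraMap B A)
  exact ASPurity.not_isRegularLocalRing_invariants p hdim hcard (ASPurity.smul_sub_mem_maximalIdeal hk hGk) hram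
    (RegLoc.Homological.isRegularLocalRing_of_flat (R := B) A)

end Groth.Agent.S15794
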