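import Groth.Statements.S15795
import Mathlib

set_option autoImplicit false
universe u v
open WildQuot

namespace Groth.Agent.S15795

/-- Let `A` be a regular local ring of Krull dimension `n` with maximal ideal `m`, let a finite group
`G` act on `A` by ring automorphisms inducing the identity on the residue field, and let `u_1, …,
u_n` generate `m`. Suppose that for every `σ ∈ G` and every `i`, `σ u_i ∈ (u_1, …, u_i) + m ^ 2`,
i.e. the induced linear maps of `m / m ^ 2` are upper triangular in the basis given by the `u_i`.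
Then the system `u` is admissible: for every choice `σ_1, …, σ_n ∈ G` the elements `σ_1 u_1, …, σ_n
u_n` generate `m`. (The published statement is for a complete regular local ring containing a
`G`-fixed field of representatives; this row drops completeness and asks only that `G` act trivially
on the residue field.) -/
theorem result
    (A : Type u) [CommRing A] [IsRegularLocalRing A]
    (G : Type v) [Group G] [Finite G] [MulSemiringAction G A]
    (hres : ∀ (σ : G) (a : A), σ • a - a ∈ IsLocalRing.maximalIdeal A)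
    (n : ℕ) (hn : ringKrullDim A = n) (u : Fin n → A)
    (hu : Ideal.span (Set.range u) = IsLocalRing.maximalIdeal A)
    (htri : ∀ (σ : G) (i : Fin n),
      σ • u i ∈ Ideal.span (u '' {j | j ≤ i}) ⊔ IsLocalRing.maximalIdeal A ^ 2) :
    ∀ τ : Fin n → G,
      Ideal.span (Set.range fun i => τ i • u i) = IsLocalRing.maximalIdeal A := by
  classical
  set m := IsLocalRing.maximalIdeal A with hm
  let W : Fin n → Ideal A := fun i => Ideal.span (u '' {j | j < i}) ⊔ m ^ 2
  have hVW : ∀ i j : Fin n, j < i → Ideal.span (u '' {l | l ≤ j}) ⊔ m ^ 2 ≤ W i := fun i j hji =>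
    sup_le_sup_right (Ideal.span_mono (Set.image_mono fun l hl => lt_of_le_of_lt hl hji)) _
  have hsplit : ∀ (σ : G) (i : Fin n), ∃ c : A, ∃ w ∈ W i, σ • u i = c * u i + w := by
    intro σ i
    obtain ⟨v, hv, w, hw, e⟩ := Submodule.mem_sup.mp (htri σ i)
    have hins : u '' {j | j ≤ i} = insert (u i) (u '' {j | j < i}) := by
      rw [← Set.image_insert_eq]; congr 1; ext j; simp [le_iff_lt_or_eq, or_comm]
    rw [hins] at hv
    obtain ⟨c, z, hz, rfl⟩ := Submodule.mem_span_insert.mp hv
    exact ⟨c, z + w, Submodule.mem_sup.mpr ⟨z, hz, w, hw, rfl⟩, by rw [← e, smul_eq_mul, add_assoc]⟩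
  have hmin : ∀ i, u i ∉ W i := by
    intro i hi
    let J : Ideal A := Ideal.span (u '' {j | j ≠ i})
    have hWJ : W i ≤ J ⊔ m ^ 2 :=
      sup_le_sup_right (Ideal.span_mono (Set.image_mono fun j (hj : j < i) => ne_of_lt hj)) _
    have hle : m ≤ J ⊔ m • m := by
      rw [smul_eq_mul, ← pow_two]
      conv_lhs => rw [← hu]
      rw [Ideal.span_le]
      rintro _ ⟨j, rfl⟩
      by_cases hj : j = i
      · exact hj ▸ hWJ hi
      · exact Ideal.mem_sup_left (Ideal.subset_span ⟨j, hj, rfl⟩)
    have hm' : m ≤ J := Submodule.le_of_le_smul_of_le_jacobson_bot (IsNoetherian.noetherian m)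
      (IsLocalRing.maximalIdeal_le_jacobson ⊥) hle
    have hJm : J = m := le_antisymm (hu ▸ Ideal.span_mono (Set.image_subset_range _ _)) hm'
    have h1 : m.spanFinrank ≤ n - 1 := by
      rw [← hJm]
      refine (Submodule.spanFinrank_span_le_ncard_of_finite (Set.toFinite _)).trans ((Set.ncard_image_le (Set.toFinite _)).trans ?_)
      rw [show {j : Fin n | j ≠ i} = (Set.univ \ {i}) by ext; simp, Set.ncard_sdiff_singleton_of_mem (Set.mem_univ i)]
      simp [Set.ncard_univ]
    have h2 : ((m.spanFinrank : ℕ∞) : WithBot ℕ∞) = n := by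
      rw [← hn, hm]; exact IsRegularLocalRing.spanFinrank_maximalIdeal (R := A)
    have h3 : m.spanFinrank = n := by exact_mod_cast h2
    have := i.pos
    omega
  have hstab : ∀ (σ : G) (x : A), x ∈ m → σ • x ∈ m := by
    intro σ x hx
    rw [hm, IsLocalRing.mem_maximalIdeal] at hx ⊢
    intro h
    exact hx (by simpa using h.map (MulSemiringAction.toRingHom G A σ⁻¹))
  have hsq : ∀ (σ : G) (x : A), x ∈ m ^ 2 → σ • x ∈ m ^ 2 := by
    intro σ x hx
    have : (m ^ 2).map (MulSemiringAction.toRingHom G A σ) ≤ m ^ 2 := by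
      rw [Ideal.map_pow]
      exact Ideal.pow_right_mono (Ideal.map_le_iff_le_comap.mpr (hstab σ)) 2
    exact this (Ideal.mem_map_of_mem _ hx)
  have hWst : ∀ (σ : G) (i : Fin n) (x : A), x ∈ W i → σ • x ∈ W i := by
    intro σ i x hx
    have : W i ≤ (W i).comap (MulSemiringAction.toRingHom G A σ) := by
      refine sup_le (Ideal.span_le.mpr ?_) fun y hy => Ideal.mem_sup_right (hsq σ y hy)
      rintro _ ⟨j, hj, rfl⟩
      exact hVW i j hj (htri σ j)
    exact this hx
  intro τ
  let N : Ideal A := Ideal.span (Set.range fun i => τ i • u i)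
  have hum : ∀ i, u i ∈ m := fun i => by rw [← hu]; exact Ideal.subset_span ⟨i, rfl⟩
  have hNm : N ≤ m := Ideal.span_le.mpr (by rintro _ ⟨i, rfl⟩; exact hstab _ _ (hum i))
  have hmem : ∀ k : ℕ, ∀ i : Fin n, (i : ℕ) < k → u i ∈ N ⊔ m ^ 2 := by
    intro k
    induction k with
    | zero => intro i h; omega
    | succ k ih =>
      intro i hi
      obtain ⟨c, w, hw, e⟩ := hsplit (τ i) i
      have hwN : w ∈ N ⊔ m ^ 2 := by
        refine (sup_le (Ideal.span_le.mpr ?_) le_sup_right : W i ≤ N ⊔ m ^ 2) hw
        rintro _ ⟨j, hj, rfl⟩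
        exact ih j (by have : (j : ℕ) < (i : ℕ) := hj; omega)
      have hc : IsUnit c := by
        by_contra hc
        refine hmin i ?_
        have h1 : τ i • u i ∈ W i := by
          rw [e]
          refine add_mem (Ideal.mem_sup_right ?_) hw
          rw [pow_two]
          exact Ideal.mul_mem_mul ((IsLocalRing.mem_maximalIdeal _).mpr hc) (hum i)
        simpa using hWst (τ i)⁻¹ i _ h1
      have h2 : c * u i ∈ N ⊔ m ^ 2 := by
        rw [show c * u i = τ i • u i - w by rw [e]; ring]
        exact sub_mem (Ideal.mem_sup_left (Ideal.subset_span ⟨i, rfl⟩)) hwN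
      exact (Ideal.unit_mul_mem_iff_mem _ hc).mp h2
  refine le_antisymm hNm ?_
  refine Submodule.le_of_le_smul_of_le_jacobson_bot (IsNoetherian.noetherian m)
      (IsLocalRing.maximalIdeal_le_jacobson ⊥) ?_
  rw [smul_eq_mul, ← pow_two]
  conv_lhs => rw [← hu]
  exact Ideal.span_le.mpr (by rintro _ ⟨i, rfl⟩; exact hmem _ i i.2)

end Groth.Agent.S15795
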