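import Groth.Statements.S15797
import Groth.Agent.ASPurity.LengthProd

set_option autoImplicit false
universe u v
open WildQuot

namespace Groth.Agent.S15797

open IsLocalRing

theorem span_range_eq_sup {A : Type*} [CommRing A] {n : ℕ} (f : Fin n → A) (j : Fin n) :
    Ideal.span (Set.range f) = Ideal.span (f '' {j}ᶜ) ⊔ Ideal.span {f j} := by
  rw [← Ideal.span_union, ← Set.image_singleton, ← Set.image_union, Set.compl_union_self, Set.image_univ]

/-- Let `A` be a regular local ring of Krull dimension `n` with maximal ideal `m` generated by `u_1, …,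
u_n`, let a finite group `G` of order `g` act on `A` by ring automorphisms, and suppose `u` is
weakly admissible: for every choice `σ_1, …, σ_n ∈ G` the radical of `(σ_1 u_1, …, σ_n u_n)`
contains `m`. With `x_i = ∏_{σ ∈ G} σ u_i` the norms, the length of `A / (x_1, …, x_n)` is at least
`g ^ n` (so the finite flat map from `k[[x_1, …, x_n]]` has degree at least `g ^ n`). (The published
statement is for a complete regular local ring containing a `G`-fixed field of representatives; this
row does not assume those.) -/
theorem result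
    (A : Type u) [CommRing A] [IsRegularLocalRing A]
    (G : Type v) [Group G] [Fintype G] [MulSemiringAction G A]
    (n : ℕ) (hn : ringKrullDim A = n) (u : Fin n → A)
    (hu : Ideal.span (Set.range u) = IsLocalRing.maximalIdeal A)
    (hwa : ∀ τ : Fin n → G,
      IsLocalRing.maximalIdeal A ≤ (Ideal.span (Set.range fun i => τ i • u i)).radical) :
    ((Fintype.card G ^ n : ℕ) : ℕ∞) ≤
      Module.length A (A ⧸ Ideal.span (Set.range fun i => ∏ σ : G, σ • u i)) := by
  classical
  haveI := Depth.isCohenMacaulayLocalRing_of_isRegularLocalRing (R := A)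
  have hum : ∀ (σ : G) (i : Fin n), σ • u i ∈ maximalIdeal A := fun σ i h => by
    have h' : u i ∈ maximalIdeal A := hu ▸ Ideal.subset_span (Set.mem_range_self i)
    exact h' (by simpa using h.map (MulSemiringAction.toRingHom G A σ⁻¹))
  let x : Fin n → A := fun i => ∏ σ : G, σ • u i
  let y : Finset (Fin n) → (Fin n → G) → Fin n → A := fun S τ i => if i ∈ S then x i else τ i • u i
  have hym : ∀ S τ i, y S τ i ∈ maximalIdeal A := fun S τ i => by
    simp only [y]
    split_ifs
    · exact Ideal.prod_mem (maximalIdeal A) (Finset.mem_univ 1) (hum 1 i)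
    · exact hum _ i
  have hrad : ∀ S τ, maximalIdeal A ≤ (Ideal.span (Set.range (y S τ))).radical := by
    intro S τ
    rw [Ideal.radical_eq_sInf]
    refine le_sInf fun Q ⟨hQ, hQp⟩ => ?_
    have hex : ∀ i, ∃ σ : G, σ • u i ∈ Q := fun i => by
      have h1 : y S τ i ∈ Q := hQ (Ideal.subset_span (Set.mem_range_self i))
      simp only [y] at h1
      split_ifs at h1 with hi
      · obtain ⟨σ, -, hσ⟩ := (Ideal.IsPrime.prod_mem_iff).1 h1
        exact ⟨σ, hσ⟩
      · exact ⟨_, h1⟩
    choose τ' hτ' using hex
    exact (hwa τ').trans ((Ideal.IsPrime.radical_le_iff hQp).2 (Ideal.span_le.2 (by rintro _ ⟨i, rfl⟩; exact hτ' i)))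
  have key : ∀ (S : Finset (Fin n)) (τ : Fin n → G),
      ((Fintype.card G ^ S.card : ℕ) : ℕ∞) ≤ Module.length A (A ⧸ Ideal.span (Set.range (y S τ))) := by
    intro S
    induction S using Finset.induction_on with
    | empty =>
      intro τ
      haveI : Nontrivial (A ⧸ Ideal.span (Set.range (y ∅ τ))) := Ideal.Quotient.nontrivial_iff.2 fun h =>
        (IsLocalRing.maximalIdeal.isMaximal A).ne_top (top_unique (h ▸ Ideal.span_le.2 (by rintro _ ⟨i, rfl⟩; exact hym _ _ i)))
      rw [Finset.card_empty, pow_zero, Nat.cast_one, ENat.one_le_iff_ne_zero, ne_eq, Module.length_eq_zero_iff,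
        not_subsingleton_iff_nontrivial]
      infer_instance
    | insert j S hj ih =>
      intro τ
      set J := Ideal.span (y (insert j S) τ '' {j}ᶜ) with hJ
      have h2 : ∀ σ : G, J ⊔ Ideal.span {σ • u j} = Ideal.span (Set.range (y S (Function.update τ j σ))) := by
        intro σ
        rw [span_range_eq_sup (y S (Function.update τ j σ)) j, hJ]
        congr 2
        · refine Set.image_congr fun i hi => ?_
          have hi' : i ≠ j := hi
          simp [y, hi', Finset.mem_insert, Function.update_of_ne hi']
        · simp [y, hj]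
      have hreg : ∀ σ : G, ∀ w, σ • u j * w ∈ J → w ∈ J := by
        obtain ⟨m, rfl⟩ := Nat.exists_eq_succ_of_ne_zero (Nat.pos_iff_ne_zero.1 j.pos)
        have hJ' : J = Ideal.span (Set.range fun i : Fin m => y (insert j S) τ (j.succAbove i)) := by
          rw [hJ, ← Fin.range_succAbove j, ← Set.range_comp]; rfl
        intro σ w hw
        rw [hJ'] at hw ⊢
        refine ASPurity.LengthProd.eq_of_mul_mem_of_dim m _ _ hn (fun i => hym _ _ _) (hum σ j) ?_ w hw
        rw [← hJ', h2 σ]
        exact hrad _ _
      rw [span_range_eq_sup (y (insert j S) τ) j]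
      refine le_of_eq_of_le (by rw [Finset.card_insert_of_notMem hj, pow_succ'] :
        _ = ((Fintype.card G * Fintype.card G ^ S.card : ℕ) : ℕ∞)) ?_
      rw [show y (insert j S) τ j = ∏ σ : G, σ • u j by simp [y, x]]
      rw [ASPurity.LengthProd.length_sup_prod_eq J Finset.univ (fun σ => σ • u j) fun σ _ => hreg σ]
      refine le_trans (le_of_eq ?_) (Finset.sum_le_sum fun σ _ => (h2 σ).symm ▸ ih (Function.update τ j σ))
      rw [Finset.sum_const, Finset.card_univ, nsmul_eq_mul, Nat.cast_mul]
  have := key Finset.univ 1
  have he : y Finset.univ 1 = x := funext fun i => if_pos (Finset.mem_univ i)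
  rw [he, Finset.card_univ, Fintype.card_fin] at this
  exact this

end Groth.Agent.S15797
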