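import Groth.Statements.S15799
import Mathlib
import Groth.Agent.ASPurity.Punctured
import Groth.Agent.PSLoc.Basic
import Groth.Agent.InvQLib.FiniteFree

set_option autoImplicit false
universe u v w
open WildQuot

namespace Groth.Agent.S15799

open IsLocalRing ASPurity

theorem telescope {K : Type*} [CommRing K] (p : ℕ) [Fact p.Prime] [CharP K p] (h : K) (d : ℕ) :
    (∑ i ∈ Finset.range d, h ^ p ^ i) ^ p - ∑ i ∈ Finset.range d, h ^ p ^ i = h ^ p ^ d - h := by
  rw [sum_pow_char, ← Finset.sum_sub_distrib,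
    show ∑ i ∈ Finset.range d, ((h ^ p ^ i) ^ p - h ^ p ^ i) = ∑ i ∈ Finset.range d, (h ^ p ^ (i + 1) - h ^ p ^ i) from
      Finset.sum_congr rfl fun i _ => by rw [← pow_mul, ← pow_succ],
    Finset.sum_range_sub (fun i => h ^ p ^ i), pow_zero, pow_one]

theorem as_value {K : Type*} [Field K] {z t : K} (ht : t ≠ 0) {p : ℕ} (hp : p ≠ 0) :
    (z / t) ^ p - z / t = (z ^ p - t ^ (p - 1) * z) / t ^ p := by
  obtain ⟨q, rfl⟩ : ∃ q, p = q + 1 := ⟨p - 1, (Nat.sub_add_cancel (Nat.one_le_iff_ne_zero.2 hp)).symm⟩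
  rw [sub_div, ← div_pow, Nat.add_sub_cancel, pow_succ t, mul_div_mul_left _ _ (pow_ne_zero _ ht)]

theorem pow_mem_of_le {K : Type*} [CommRing K] (T : Subring K) {p : ℕ} {x : K} {e d : ℕ} (hle : e ≤ d)
    (h : x ^ p ^ e ∈ T) : x ^ p ^ d ∈ T := by
  obtain ⟨c, rfl⟩ := Nat.exists_eq_add_of_le hle
  rw [pow_add, pow_mul]; exact pow_mem h _

/-- Let `A` be a complete regular local ring of Krull dimension `n ≥ 2` and prime characteristic `p`,
`k` a field with `k → A` mapping onto the residue field, and `G` a group of order `p` acting on `A`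
by `k`-algebra automorphisms, ramified precisely at the origin (for every non-maximal prime `P`, the
inertia subgroup of `P` (the elements of `G` fixing every element modulo `P`) is trivial). Let `u_1,
…, u_n` be an admissible regular system of parameters (for every choice `σ_1, …, σ_n ∈ G`, the
elements `σ_i u_i` generate the maximal ideal) and let `φ : k[[X_1, …, X_n]] → A` be the `k`-algebra
map with `φ X_i = x_i = ∏_{σ} σ u_i`, whose image is the norm subring `R`. Then `Frac(A^G)` is not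
purely inseparable over `Frac(R)`; equivalently (as `A` is integral over the integrally closed `R`),
some `G`-invariant `y ∈ A` has no iterated `p`-th power `y ^ (p ^ e)` in `R`. -/
theorem result
    (p : ℕ) [Fact p.Prime] (A : Type u) [CommRing A] [IsRegularLocalRing A] [CharP A p]
    [IsAdicComplete (IsLocalRing.maximalIdeal A) A] (n : ℕ) (hn : ringKrullDim A = n) (h2 : 2 ≤ n)
    (k : Type v) [Field k] [Algebra k A]
    (hk : Function.Surjective (IsLocalRing.residue A ∘ algebraMap k A))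
    (G : Type w) [Group G] [Fintype G] [MulSemiringAction G A] (hcard : Fintype.card G = p)
    [SMulCommClass G k A]
    (hram : ∀ P : Ideal A, P.IsPrime → P ≠ IsLocalRing.maximalIdeal A → P.inertia G = ⊥)
    (u : Fin n → A)
    (hu : ∀ τ : Fin n → G,
      Ideal.span (Set.range fun i => τ i • u i) = IsLocalRing.maximalIdeal A)
    (φ : MvPowerSeries (Fin n) k →ₐ[k] A) (hφ : ∀ i, φ (MvPowerSeries.X i) = ∏ σ : G, σ • u i) :
    ∃ y : A, (∀ σ : G, σ • y = y) ∧ ∀ e : ℕ, y ^ p ^ e ∉ Set.range φ := by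
  classical
  by_contra hc
  push Not at hc
  have : IsDomain A := RegLoc.isDomain A
  have : IsIntegrallyClosed A := Groth.Agent.S9829.result A
  have hdim : 2 ≤ ringKrullDim A := by rw [hn]; exact_mod_cast h2
  have : CharP k p := RingHom.charP (algebraMap k A) (algebraMap k A).injective p
  let S := MvPowerSeries (Fin n) k
  have hSreg : IsRegularLocalRing S := PSLoc.isRegularLocalRing k n
  have : IsDomain S := RegLoc.isDomain S
  have : IsIntegrallyClosed S := Groth.Agent.S9829.result S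
  have : CharP S p := charP_of_injective_algebraMap (algebraMap k S).injective p
  -- the image is invariant
  have hum : ∀ i, u i ∈ maximalIdeal A := fun i => by
    rw [← hu 1]; exact Ideal.subset_span ⟨i, by simp⟩
  have hφm : ∀ i, φ (MvPowerSeries.X i) ∈ maximalIdeal A := fun i => by
    rw [hφ]; exact Ideal.prod_mem (maximalIdeal A) (Finset.mem_univ 1) (by rw [one_smul]; exact hum i)
  have hfix : ∀ (s : S) (σ : G), σ • φ s = φ s := by
    intro s σ
    have := psHom_unique ((MulSemiringAction.toAlgHom k A σ).comp φ) φ (fun i => by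
      change σ • φ (MvPowerSeries.X i) = _
      rw [hφ, Finset.smul_prod']
      simp only [smul_smul]
      exact Equiv.prod_comp (Equiv.mulLeft σ) (fun τ => τ • u i)) (fun i => by
      change σ • φ (MvPowerSeries.X i) ∈ _
      exact smul_mem_maximalIdeal σ (hφm i))
    exact DFunLike.congr_fun this s
  have hmax : ∀ y : A, (∀ σ : G, σ • y = y) → ∃ e : ℕ, y ^ p ^ e ∈ φ.toRingHom.range := fun y hy => by
    obtain ⟨e, s, hs⟩ := hc y hy
    exact ⟨e, s, hs⟩
  -- integrality
  letI : Algebra S A := φ.toRingHom.toAlgebra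
  haveI : Algebra.IsInvariant (FixedPoints.subring A G) A G := ⟨fun a ha => ⟨⟨a, ha⟩, rfl⟩⟩
  have hBint := Algebra.IsInvariant.isIntegral (FixedPoints.subring A G) A G
  let φB : S →+* FixedPoints.subring A G := φ.toRingHom.codRestrict _ hfix
  letI : Algebra S (FixedPoints.subring A G) := φB.toAlgebra
  haveI : IsScalarTower S (FixedPoints.subring A G) A := IsScalarTower.of_algebraMap_eq fun _ => rfl
  haveI : Algebra.IsIntegral S (FixedPoints.subring A G) := ⟨fun b => by
    obtain ⟨e, s, hs⟩ := hc b.1 b.2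
    refine ⟨Polynomial.X ^ p ^ e - Polynomial.C s, Polynomial.monic_X_pow_sub_C s (pow_ne_zero _ (Fact.out : p.Prime).ne_zero), ?_⟩
    rw [Polynomial.eval₂_sub, Polynomial.eval₂_X_pow, Polynomial.eval₂_C, sub_eq_zero]
    exact Subtype.ext hs.symm⟩
  haveI : Algebra.IsIntegral S A := Algebra.IsIntegral.trans (FixedPoints.subring A G)
  have hinj : Function.Injective φ := by
    rw [injective_iff_map_eq_zero]
    intro f hf
    by_contra hf0
    let K : Ideal S := RingHom.ker φ.toRingHom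
    letI : Algebra (S ⧸ K) A := (RingHom.kerLift φ.toRingHom).toAlgebra
    haveI : IsScalarTower S (S ⧸ K) A :=
      IsScalarTower.of_algebraMap_eq (R := S) (S := S ⧸ K) (A := A) fun _ => rfl
    haveI : Algebra.IsIntegral (S ⧸ K) A := ⟨fun x => (Algebra.IsIntegral.isIntegral (R := S) x).tower_top⟩
    have hd := InvQLib.FiniteFree.ringKrullDim_eq_of_integral (S ⧸ K) A (RingHom.kerLift_injective φ.toRingHom)
    have h1 := ringKrullDim_succ_le_of_surjective (r := f) (Ideal.Quotient.mk K) Ideal.Quotient.mk_surjective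
      (mem_nonZeroDivisors_of_ne_zero hf0) (Ideal.Quotient.eq_zero_iff_mem.2 hf)
    rw [← hd, hn, PSLoc.ringKrullDim_eq] at h1
    exact absurd h1 (by exact_mod_cast Nat.not_succ_le_self n)
  -- fraction fields
  let L := FractionRing A
  let κ := algebraMap A L
  have hκ : Function.Injective κ := IsFractionRing.injective A L
  have : CharP L p := charP_of_injective_algebraMap hκ p
  have : CharP (FractionRing S) p := charP_of_injective_algebraMap (IsFractionRing.injective S _) p
  let j : FractionRing S →+* L := IsFractionRing.lift (g := κ.comp φ.toRingHom) (hκ.comp hinj)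
  have hj : ∀ s, j (algebraMap S (FractionRing S) s) = κ (φ s) := fun s => IsFractionRing.lift_algebraMap _ s
  letI : MulSemiringAction G L := IsFractionRing.mulSemiringAction G A L
  have hsm : ∀ (σ : G) (a : A), σ • κ a = κ (σ • a) := fun σ a => (algebraMap.coe_smul' σ a L).symm
  have hjfix : ∀ (σ : G) (x : FractionRing S), σ • j x = j x := by
    intro σ x
    obtain ⟨a, b, -, rfl⟩ := IsFractionRing.div_surjective (A := S) x
    rw [map_div₀, hj, hj, smul_div₀', hsm, hsm, hfix, hfix]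
  obtain ⟨χ, hχ, -, σ₁, hσ₁⟩ := exists_char p (Nat.card_eq_fintype_card.trans hcard)
  obtain ⟨t₀, z₀, ht₀, htf₀, hz₀⟩ := exists_shift p χ hχ hram ⊥ (bot_ne_maximalIdeal hdim)
  have hcp := fun σ => castHom_pow (A := A) p (χ σ)
  have hNfix := smul_shift_fixed p hcp htf₀ hz₀
  have hκt₀ : κ t₀ ≠ 0 := fun h => ht₀ (Ideal.mem_bot.2 (IsFractionRing.to_map_eq_zero_iff.1 h))
  obtain ⟨q, hq⟩ : ∃ q, p = q + 1 := ⟨p - 1, (Nat.sub_add_cancel (Fact.out : p.Prime).one_le).symm⟩
  set y₀ := κ z₀ / κ t₀ with hy₀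
  have hf : y₀ ^ p - y₀ = κ (z₀ ^ p - t₀ ^ (p - 1) * z₀) / κ t₀ ^ p := by
    rw [hy₀, as_value hκt₀ (Fact.out : p.Prime).ne_zero, map_sub, map_mul, map_pow, map_pow]
  obtain ⟨e₁, he₁⟩ := hmax _ hNfix
  obtain ⟨e₂, he₂⟩ := hmax _ htf₀
  set e := e₁ + e₂
  obtain ⟨sN, hsN⟩ := pow_mem_of_le _ (Nat.le_add_right e₁ e₂) he₁
  obtain ⟨sT, hsT⟩ := pow_mem_of_le _ (Nat.le_add_left e₂ e₁) he₂
  change φ sN = _ at hsN
  change φ sT = _ at hsT
  set h₀ := algebraMap S (FractionRing S) sN / algebraMap S (FractionRing S) sT ^ p with hh₀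
  have hjh : j h₀ = (y₀ ^ p - y₀) ^ p ^ e := by
    rw [hh₀, map_div₀, map_pow, hj, hj, hsN, hsT, map_pow, map_pow, hf, div_pow, ← pow_mul, ← pow_mul, mul_comm p]
  have hloc : ∀ Q : Ideal S, Q.IsPrime → Q.height = 1 →
      ∃ g, InLoc Q (h₀ - (g ^ p - g)) := by
    intro Q hQ h1
    obtain ⟨P, -, hPp, hP⟩ := Ideal.exists_ideal_over_prime_of_isIntegral (S := A) Q ⊥ (fun b hb => by
      obtain rfl : b = 0 := hinj (by rw [map_zero]; exact hb)
      exact Q.zero_mem)
    have hPm : P ≠ maximalIdeal A := by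
      intro h
      have : P.IsMaximal := h ▸ maximalIdeal.isMaximal A
      have h4 : Q.IsMaximal := hP ▸ Ideal.isMaximal_comap_of_isIntegral_of_isMaximal P
      rw [IsLocalRing.eq_maximalIdeal h4] at h1
      have := PSLoc.ringKrullDim_eq k n
      rw [← IsLocalRing.maximalIdeal_height_eq_ringKrullDim, h1] at this
      have : (1 : ℕ) = n := by exact_mod_cast this
      omega
    obtain ⟨t, z, ht, htf, hz⟩ := exists_shift p χ hχ hram P hPm
    have hnfix : ∀ σ : G, σ • (z₀ * t - z * t₀) = z₀ * t - z * t₀ := fun σ => by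
      rw [smul_sub, smul_mul', smul_mul', htf, htf₀, hz₀, hz]; ring
    obtain ⟨d₁, hd₁⟩ := hmax _ hnfix
    obtain ⟨d₂, hd₂⟩ := hmax _ (smul_shift_fixed p hcp htf hz)
    obtain ⟨d₃, hd₃⟩ := hmax _ htf
    set d' := d₁ + d₂ + d₃
    obtain ⟨sn, hsn⟩ := pow_mem_of_le _ (show d₁ ≤ e + d' by omega) hd₁
    obtain ⟨sM, hsM⟩ := pow_mem_of_le _ (show d₂ ≤ e + d' by omega) hd₂
    obtain ⟨st, hst⟩ := pow_mem_of_le _ (show d₃ ≤ e + d' by omega) hd₃
    change φ sn = _ at hsn
    change φ sM = _ at hsM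
    change φ st = _ at hst
    have hstQ : st ∉ Q := fun h => ht (hPp.mem_of_pow_mem (p ^ (e + d')) (by
      rw [← hst]; rw [← hP] at h; exact h))
    have hκt : κ t ≠ 0 := fun h => ht (by rw [IsFractionRing.to_map_eq_zero_iff.1 h]; exact P.zero_mem)
    have key : κ t ^ p * (y₀ ^ p - y₀ - ((κ (z₀ * t - z * t₀) / (κ t₀ * κ t)) ^ p -
        κ (z₀ * t - z * t₀) / (κ t₀ * κ t))) = κ (z ^ p - t ^ (p - 1) * z) := by
      have hgdiv : κ (z₀ * t - z * t₀) / (κ t₀ * κ t) = y₀ - κ z / κ t := by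
        rw [hy₀, div_sub_div _ _ hκt₀ hκt, map_sub, map_mul, map_mul]; ring
      rw [hgdiv, show y₀ ^ p - y₀ - ((y₀ - κ z / κ t) ^ p - (y₀ - κ z / κ t)) = (κ z / κ t) ^ p - κ z / κ t by
          rw [sub_pow_expChar]; ring, as_value hκt (Fact.out : p.Prime).ne_zero, mul_div_cancel₀ _ (pow_ne_zero _ hκt),
        map_sub, map_mul, map_pow, map_pow]
    generalize hnn : z₀ * t - z * t₀ = nn at key hsn
    generalize hMM : z ^ p - t ^ (p - 1) * z = MM at key hsM
    generalize hff : y₀ ^ p - y₀ = ff at key hjh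
    have keyF := congrArg (iterateFrobenius L p (e + d')) key
    simp only [map_mul, map_sub, map_pow, map_div₀, iterateFrobenius_def] at keyF
    set D := algebraMap S (FractionRing S)
    refine ⟨D sn / (D sT ^ p ^ d' * D st) - ∑ i ∈ Finset.range d', h₀ ^ p ^ i, st ^ p,
      fun h => hstQ (hQ.mem_of_pow_mem p h), sM, ?_⟩
    apply j.injective
    rw [sub_pow_expChar, show (D sn / (D sT ^ p ^ d' * D st)) ^ p - (∑ i ∈ Finset.range d', h₀ ^ p ^ i) ^ p -
        (D sn / (D sT ^ p ^ d' * D st) - ∑ i ∈ Finset.range d', h₀ ^ p ^ i) =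
        (D sn / (D sT ^ p ^ d' * D st)) ^ p - D sn / (D sT ^ p ^ d' * D st) -
          ((∑ i ∈ Finset.range d', h₀ ^ p ^ i) ^ p - ∑ i ∈ Finset.range d', h₀ ^ p ^ i) by ring, telescope]
    simp only [D, map_mul, map_sub, map_pow, map_div₀, hjh, hj, hsn, hsM, hst, hsT, ← pow_mul, ← pow_add] at keyF ⊢
    linear_combination keyF
  obtain ⟨g, a, ha⟩ := exists_integral_representative p _ hloc
  have ha' := congrArg j ha
  rw [map_sub, map_sub, map_pow, hj, hjh] at ha'
  set Se := ∑ i ∈ Finset.range e, (y₀ ^ p - y₀) ^ p ^ i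
  set w := y₀ - (j g - Se) with hw
  have hwint : IsIntegral A w := by
    refine ⟨Polynomial.X ^ p - (Polynomial.X + Polynomial.C (φ a)), ?_, ?_⟩
    · refine Polynomial.monic_X_pow_sub ?_
      rw [Polynomial.degree_X_add_C]; exact_mod_cast (Fact.out : p.Prime).one_lt
    · simp only [Polynomial.eval₂_sub, Polynomial.eval₂_add, Polynomial.eval₂_pow, Polynomial.eval₂_X,
        Polynomial.eval₂_C]
      rw [hw, sub_pow_expChar, sub_pow_expChar]
      have := telescope p (y₀ ^ p - y₀) e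
      linear_combination ha' + this
  obtain ⟨c, hcw⟩ := IsIntegrallyClosed.isIntegral_iff.1 hwint
  have hy1 : σ₁ • y₀ = y₀ + 1 := by
    rw [hy₀, smul_div₀', hsm, hsm, htf₀, hz₀, hσ₁, map_one, one_mul, map_add, add_div, div_self hκt₀]
  have hSfix : σ₁ • Se = Se := by
    have : σ₁ • (y₀ ^ p - y₀) = y₀ ^ p - y₀ := by
      rw [smul_sub, smul_pow', hy1, add_pow_expChar, one_pow]; ring
    simp only [Se, Finset.smul_sum, smul_pow', this]
  have h1 := congrArg (σ₁ • ·) hcw
  simp only [hw, hsm, smul_sub, hy1, hjfix, hSfix] at h1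
  have h3 : σ₁ • c - c = 1 := hκ (by rw [map_sub, map_one]; rw [show σ₁ • (algebraMap A L) c = κ (σ₁ • c) from hsm σ₁ c] at h1; change κ c = _ at hcw; linear_combination h1 - hcw - hw)
  have hres := smul_sub_mem_maximalIdeal hk (fun σ x => smul_algebraMap σ x) σ₁ c
  rw [h3] at hres
  exact (maximalIdeal.isMaximal A).ne_top ((Ideal.eq_top_iff_one _).2 hres)

end Groth.Agent.S15799
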