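import Groth.Statements.S1580
import Groth.Agent.CartDiv.WeakPts

set_option autoImplicit false
universe u
open CategoryTheory CategoryTheory.Limits AlgebraicGeometry
open Divisors

namespace Groth.Agent.S1580

/-- Let f : X → S be quasi-compact and quasi-separated and F quasi-coherent on X. A point of S not in
the image of f is not weakly associated to f_* F. -/
theorem result {X S : Scheme.{u}} (f : X ⟶ S) [QuasiCompact f] [QuasiSeparated f]
    (F : X.Modules) (hF : Coh.IsQCoh F) (s : S) (hs : s ∉ Set.range f.base) :
    ¬ Curv2.IsWeakAssPoint ((Coh.push f).obj F) s := by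
  haveI := hF
  intro h
  obtain ⟨x, hx, -⟩ := Groth.Agent.CartDiv.WeakPts.exists_preimage f F s h
  exact hs ⟨x, hx⟩

end Groth.Agent.S1580
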