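import Groth.Statements.S15800
import Groth.Agent.ASPurity.Extend

set_option autoImplicit false
universe u v w
open WildQuot

namespace Groth.Agent.S15800

theorem bijective_of_injective_algHom {B A : Type*} [CommRing B] [CommRing A] [IsDomain A] [Algebra B A]
    [Algebra.IsIntegral B A] (θ : A →ₐ[B] A) (hθ : Function.Injective θ) : Function.Bijective θ := by
  classical
  refine ⟨hθ, fun a => ?_⟩
  obtain ⟨q, hqm, hqa⟩ := Algebra.IsIntegral.isIntegral (R := B) a
  let s : Set A := {x | Polynomial.aeval x q = 0}
  have hs : s.Finite := by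
    refine Set.Finite.subset ((q.map (algebraMap B A)).roots.toFinset.finite_toSet) fun x hx => ?_
    rw [Finset.mem_coe, Multiset.mem_toFinset, Polynomial.mem_roots (hqm.map _).ne_zero, Polynomial.IsRoot.def,
      Polynomial.eval_map_algebraMap]
    exact hx
  have hmaps : Set.MapsTo θ s s := fun x hx => by
    change Polynomial.aeval (θ x) q = 0
    rw [Polynomial.aeval_algHom_apply, show Polynomial.aeval x q = 0 from hx, map_zero]
  obtain ⟨x, -, hx⟩ := ((hθ.injOn.bijOn_image (s := s)).surjOn.mono le_rfl
    (le_of_eq (Set.eq_of_subset_of_ncard_le hmaps.image_subset (by rw [Set.ncard_image_of_injective _ hθ]) hs).symm))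
    (show a ∈ s from hqa)
  exact ⟨x, hx⟩

/-- Let `A` be a complete regular local ring of Krull dimension at least `2` and prime characteristic
`p`; let `k` be a field with `k → A` mapping onto the residue field, such that `k` has no Galois
extension of degree `p`; let `G` be a group of order `p` acting on `A` by `k`-algebra automorphisms,
ramified precisely at the origin (for every non-maximal prime `P`, the inertia subgroup of `P` (the
elements of `G` fixing every element modulo `P`) is trivial). Then every `k`-algebra automorphism of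
the ring of invariants `A^G` is the restriction of a `k`-algebra automorphism of `A`. (The published
statement also asserts that when `A^G` contains a subring `R` with `A^G` finite over `R` and
`Frac(A^G)/Frac(R)` Galois, then `Frac(A)/Frac(R)` is Galois; this row omits that clause.) -/
theorem result
    (p : ℕ) [Fact p.Prime] (A : Type u) [CommRing A] [IsRegularLocalRing A] [CharP A p]
    [IsAdicComplete (IsLocalRing.maximalIdeal A) A] (hdim : 2 ≤ ringKrullDim A)
    (k : Type v) [Field k] [Algebra k A]
    (hk : Function.Surjective (IsLocalRing.residue A ∘ algebraMap k A))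
    (hkp : ∀ (L : Type v) [Field L] [Algebra k L], IsGalois k L → Module.finrank k L ≠ p)
    (G : Type w) [Group G] [Finite G] [MulSemiringAction G A] (hcard : Nat.card G = p)
    [SMulCommClass G k A]
    (hram : ∀ P : Ideal A, P.IsPrime → P ≠ IsLocalRing.maximalIdeal A → P.inertia G = ⊥)
    (φ : FixedPoints.subalgebra k A G ≃ₐ[k] FixedPoints.subalgebra k A G) :
    ∃ ψ : A ≃ₐ[k] A, ∀ x : FixedPoints.subalgebra k A G, ψ x = φ x := by
  classical
  have : IsDomain A := RegLoc.isDomain A
  obtain ⟨ψ, hψi, hψ⟩ := ASPurity.exists_ringHom_extension p hdim hk hkp hcard hram φ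
  obtain ⟨ψ', hψ'i, hψ'⟩ := ASPurity.exists_ringHom_extension p hdim hk hkp hcard hram φ.symm
  have : Fintype G := Fintype.ofFinite G
  haveI : Algebra.IsInvariant (FixedPoints.subalgebra k A G) A G := ⟨fun a ha => ⟨⟨a, ha⟩, rfl⟩⟩
  have := Algebra.IsInvariant.isIntegral (FixedPoints.subalgebra k A G) A G
  let θ : A →ₐ[FixedPoints.subalgebra k A G] A :=
    { ψ.comp ψ' with
      commutes' := fun x => by
        change ψ (ψ' (x : A)) = x
        rw [hψ', hψ, AlgEquiv.apply_symm_apply] }
  have hsurj : Function.Surjective ψ := fun a => by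
    obtain ⟨x, hx⟩ := (bijective_of_injective_algHom θ (hψi.comp hψ'i)).2 a
    exact ⟨ψ' x, hx⟩
  refine ⟨AlgEquiv.ofBijective { ψ with commutes' := fun c => ?_ } ⟨hψi, hsurj⟩, hψ⟩
  have := hψ (algebraMap k (FixedPoints.subalgebra k A G) c)
  rwa [AlgEquiv.commutes] at this

end Groth.Agent.S15800
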