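import Groth.Statements.S15801
import Mathlib
import Groth.Agent.PSLoc.Basic
import Groth.Agent.Adic.Basic
import Groth.Agent.Depth.CM
import Groth.Agent.InvQLib.FiniteFree

set_option autoImplicit false
universe u v
open WildQuot

namespace Groth.Agent.S15801

open IsLocalRing

theorem length_eq_length_of_residue {A : Type u} [CommRing A] [IsLocalRing A] {k : Type v} [Field k] [Algebra k A]
    (hk : Function.Surjective (residue A ∘ algebraMap k A)) {M : Type u} [AddCommGroup M] [Module A M]
    (h : IsFiniteLength A M) : ∀ [Module k M] [IsScalarTower k A M], Module.length A M = Module.length k M := by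
  induction h with
  | of_subsingleton => intro _ _; rw [Module.length_eq_zero, Module.length_eq_zero]
  | @of_simple_quotient M _ _ N hs hN ih =>
    intro _ _
    rw [Module.length_eq_add_of_exact N.subtype N.mkQ Subtype.val_injective (Submodule.mkQ_surjective N)
        (LinearMap.exact_subtype_mkQ N),
      Module.length_eq_add_of_exact (R := k) (N.subtype.restrictScalars k) (N.mkQ.restrictScalars k)
        Subtype.val_injective (Submodule.mkQ_surjective N) (LinearMap.exact_subtype_mkQ N), ih,
      Module.length_eq_one_iff.2 hs]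
    congr 1
    obtain ⟨I, hI, ⟨e⟩⟩ := isSimpleModule_iff_quot_maximal.1 hs
    obtain rfl := IsLocalRing.eq_maximalIdeal hI
    let f : k →ₗ[k] A ⧸ maximalIdeal A := (Ideal.Quotient.mkₐ k (maximalIdeal A)).toLinearMap ∘ₗ Algebra.linearMap k A
    have hf : Function.Bijective f := ⟨fun a b hab => (residue A |>.comp (algebraMap k A)).injective hab, hk⟩
    have e' : k ≃ₗ[k] M ⧸ N := (LinearEquiv.ofBijective f hf).trans (e.symm.restrictScalars k)
    rw [← e'.length_eq, Module.length_eq_finrank, Module.finrank_self, Nat.cast_one]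

/-- Let `A` be a complete regular local ring of Krull dimension `n`, `k` a field with `k → A` mapping
onto the residue field, `x_1, …, x_n ∈ A` a system of parameters (the radical of `(x_1, …, x_n)` is
the maximal ideal), and `φ : k[[X_1, …, X_n]] → A` the `k`-algebra map with `φ X_i = x_i`. Then `A`
is a finite free module over `k[[X_1, …, X_n]]` through `φ`, of rank the length `d` of `A / (x_1, …,
x_n)`: there are `b_1, …, b_d ∈ A` such that `(r_1, …, r_d) ↦ Σ φ(r_i) b_i` is a bijection from
`d`-tuples of power series onto `A`. -/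
theorem result
    (A : Type u) [CommRing A] [IsRegularLocalRing A]
    [IsAdicComplete (IsLocalRing.maximalIdeal A) A] (n : ℕ) (hn : ringKrullDim A = n)
    (k : Type v) [Field k] [Algebra k A]
    (hk : Function.Surjective (IsLocalRing.residue A ∘ algebraMap k A))
    (x : Fin n → A) (hx : (Ideal.span (Set.range x)).radical = IsLocalRing.maximalIdeal A)
    (φ : MvPowerSeries (Fin n) k →ₐ[k] A) (hφ : ∀ i, φ (MvPowerSeries.X i) = x i) :
    ∃ (d : ℕ) (b : Fin d → A), (d : ℕ∞) = Module.length A (A ⧸ Ideal.span (Set.range x)) ∧
      Function.Bijective (fun r : Fin d → MvPowerSeries (Fin n) k => ∑ i, φ (r i) * b i) := by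
  classical
  have : IsDomain A := RegLoc.isDomain A
  set J := Ideal.span (Set.range x) with hJ
  have hJle : J ≤ maximalIdeal A := Ideal.le_radical.trans hx.le
  obtain ⟨N, hN⟩ := Ideal.exists_pow_le_of_le_radical_of_fg hx.ge (IsNoetherian.noetherian _)
  have hfl : IsFiniteLength A (A ⧸ J) := by
    haveI : IsArtinianRing (A ⧸ J) := by
      haveI : Nontrivial (A ⧸ J) := Ideal.Quotient.nontrivial_iff.2 fun h => (maximalIdeal.isMaximal A).ne_top (top_unique (h ▸ hJle))
      haveI : IsLocalRing (A ⧸ J) := IsLocalRing.of_surjective' _ Ideal.Quotient.mk_surjective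
      refine isArtinianRing_iff_isNilpotent_maximalIdeal (A ⧸ J) |>.2 ⟨N, ?_⟩
      rw [← IsLocalRing.map_maximalIdeal_of_surjective _ Ideal.Quotient.mk_surjective, ← Ideal.map_pow,
        Submodule.zero_eq_bot, Ideal.map_eq_bot_iff_le_ker, Ideal.mk_ker]
      exact hN
    exact isFiniteLength_iff_isNoetherian_isArtinian.2 ⟨inferInstance, isArtinian_of_surjective_algebraMap
      (R := A ⧸ J) (S := A) (M := A ⧸ J) Ideal.Quotient.mk_surjective⟩
  have hlen := length_eq_length_of_residue hk hfl
  have hkfin : Module.Finite k (A ⧸ J) := by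
    have h1 : IsFiniteLength k (A ⧸ J) := Module.length_ne_top_iff.1 (hlen ▸ Module.length_ne_top_iff.2 hfl)
    haveI := (isFiniteLength_iff_isNoetherian_isArtinian.1 h1).1
    exact inferInstance
  let S := MvPowerSeries (Fin n) k
  letI : Algebra S A := φ.toRingHom.toAlgebra
  haveI : IsScalarTower k S A := IsScalarTower.of_algebraMap_eq fun c => (φ.commutes c).symm
  let M : Ideal S := Ideal.span (Set.range MvPowerSeries.X)
  have hMJ : M.map (algebraMap S A) = J := by
    rw [Ideal.map_span, ← Set.range_comp]
    congr 1; exact congrArg Set.range (funext hφ)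
  haveI hfinA : Module.Finite S A := by
    haveI : IsHausdorff M A := IsHausdorff.map_algebraMap_iff.1
      (IsHausdorff.of_le_jacobson _ _ ((hMJ.trans_le hJle).trans (maximalIdeal_le_jacobson _)))
    refine Adic.finite_of_finite_quot M ?_
    let e : (A ⧸ J) →ₗ[k] A ⧸ (M • ⊤ : Submodule S A) :=
      Submodule.liftQ (J.restrictScalars k) ((M • ⊤ : Submodule S A).mkQ.restrictScalars k) (by
        intro a ha
        rw [LinearMap.mem_ker]
        refine (Submodule.Quotient.mk_eq_zero _).2 ?_
        rw [Ideal.smul_top_eq_map, hMJ]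
        exact ha) ∘ₗ (Submodule.Quotient.restrictScalarsEquiv k J).symm.toLinearMap
    have he : Function.Surjective e := fun y => by
      obtain ⟨a, rfl⟩ := Submodule.Quotient.mk_surjective _ y
      exact ⟨Ideal.Quotient.mk J a, rfl⟩
    haveI : Module.Finite k (A ⧸ (M • ⊤ : Submodule S A)) := Module.Finite.of_surjective e he
    exact Module.Finite.of_restrictScalars_finite k S _
  -- injectivity
  have hinj : Function.Injective φ := by
    rw [injective_iff_map_eq_zero]
    intro f hf
    by_contra hf0
    let K : Ideal S := RingHom.ker φ.toRingHom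
    letI : Algebra (S ⧸ K) A := (RingHom.kerLift φ.toRingHom).toAlgebra
    haveI : IsScalarTower S (S ⧸ K) A := IsScalarTower.of_algebraMap_eq (R := S) (S := S ⧸ K) (A := A) fun _ => rfl
    haveI : Module.Finite (S ⧸ K) A := Module.Finite.of_restrictScalars_finite S _ _
    haveI : Algebra.IsIntegral (S ⧸ K) A := Algebra.IsIntegral.of_finite _ _
    have hd := InvQLib.FiniteFree.ringKrullDim_eq_of_integral (S ⧸ K) A (RingHom.kerLift_injective φ.toRingHom)
    have h1 := ringKrullDim_succ_le_of_surjective (r := f) (Ideal.Quotient.mk K) Ideal.Quotient.mk_surjective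
      (mem_nonZeroDivisors_of_ne_zero hf0) (Ideal.Quotient.eq_zero_iff_mem.2 hf)
    rw [← hd, hn, Groth.Agent.PSLoc.ringKrullDim_eq] at h1
    exact absurd h1 (by exact_mod_cast Nat.not_succ_le_self n)
  -- freeness over the image
  let R' := φ.range
  let eR : S ≃ₐ[k] R' := AlgEquiv.ofInjective φ hinj
  haveI : IsRegularLocalRing S := Groth.Agent.PSLoc.isRegularLocalRing k n
  haveI : IsRegularLocalRing R' := IsRegularLocalRing.of_ringEquiv eR.toRingEquiv
  haveI : Module.Finite R' A := by
    letI : Algebra S R' := eR.toRingEquiv.toRingHom.toAlgebra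
    haveI : IsScalarTower S R' A := IsScalarTower.of_algebraMap_eq fun s => rfl
    exact Module.Finite.of_restrictScalars_finite S _ _
  haveI := Depth.isCohenMacaulayLocalRing_of_isRegularLocalRing (R := A)
  haveI := InvQLib.FiniteFree.free_of_finite R' A Subtype.val_injective
  let d := Module.finrank R' A
  let bb : Module.Basis (Fin d) R' A := Module.finBasis R' A
  have hbij : Function.Bijective (fun r : Fin d → S => ∑ i, φ (r i) * bb i) := by
    refine ⟨fun r r' h => funext fun i => hinj ?_, fun a => ⟨fun i => eR.symm (bb.repr a i), ?_⟩⟩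
    · have h' : ∑ i, eR (r i) • bb i = ∑ i, eR (r' i) • bb i := h
      have := congrArg (fun z => bb.repr z i) h'
      simp only [bb.repr_sum_self] at this
      exact congrArg Subtype.val this
    · have := bb.sum_repr a
      refine Eq.trans ?_ this
      exact Finset.sum_congr rfl fun i _ => congrArg (· * bb i) (congrArg Subtype.val (eR.apply_symm_apply (bb.repr a i)))
  refine ⟨d, bb, ?_, hbij⟩
  let g : (Fin d → k) →ₗ[k] A ⧸ J := (Ideal.Quotient.mkₐ k J).toLinearMap ∘ₗ Fintype.linearCombination k (fun i => bb i)
  have hg : ∀ c, g c = Ideal.Quotient.mk J (∑ i, algebraMap k A (c i) * bb i) := fun c => by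
    simp [g, Fintype.linearCombination_apply, Algebra.smul_def]
  have hgbij : Function.Bijective g := by
    constructor
    · rw [injective_iff_map_eq_zero]
      intro c hc
      rw [hg, Ideal.Quotient.eq_zero_iff_mem, hJ, Ideal.mem_span_range_iff_exists_fun] at hc
      obtain ⟨a, ha⟩ := hc
      choose r hr using fun j => hbij.2 (a j)
      have h2 : (fun i => algebraMap k S (c i)) = fun i => ∑ j, MvPowerSeries.X j * r j i := by
        apply hbij.1
        change ∑ i, φ (algebraMap k S (c i)) * bb i = ∑ i, φ (∑ j, MvPowerSeries.X j * r j i) * bb i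
        simp only [AlgHom.commutes, map_sum, map_mul, hφ, Finset.sum_mul]
        simp only [S, ← IsScalarTower.algebraMap_apply k (MvPowerSeries (Fin n) k) A]
        rw [show (∑ i, φ (algebraMap k (MvPowerSeries (Fin n) k) (c i)) * bb i) = ∑ i, algebraMap k A (c i) * bb i from Finset.sum_congr rfl fun i _ => by rw [φ.commutes]]
        rw [← ha, Finset.sum_comm]
        refine Finset.sum_congr rfl fun j _ => ?_
        rw [← hr j, Finset.sum_mul]
        exact Finset.sum_congr rfl fun i _ => by ring
      funext i
      have := congrArg MvPowerSeries.constantCoeff (congrFun h2 i)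
      simp [MvPowerSeries.algebraMap_apply, S] at this
      exact this
    · intro y
      obtain ⟨a, rfl⟩ := Ideal.Quotient.mk_surjective y
      obtain ⟨r, rfl⟩ := hbij.2 a
      refine ⟨fun i => MvPowerSeries.constantCoeff (r i), ?_⟩
      rw [hg, Ideal.Quotient.eq, ← Finset.sum_sub_distrib]
      refine Ideal.sum_mem _ fun i _ => ?_
      rw [← sub_mul, ← φ.commutes, ← map_sub]
      refine Ideal.mul_mem_right _ _ (hMJ ▸ Ideal.mem_map_of_mem φ.toRingHom ?_)
      change _ ∈ M
      rw [show M = maximalIdeal S from (Groth.Agent.PSLoc.maximalIdeal_eq k).symm, mem_maximalIdeal, mem_nonunits_iff,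
        MvPowerSeries.isUnit_iff_constantCoeff]
      simp [MvPowerSeries.algebraMap_apply]
  rw [hlen, ← (LinearEquiv.ofBijective g hgbij).length_eq, Module.length_eq_finrank, Module.finrank_fin_fun]

end Groth.Agent.S15801
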