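import Groth.Statements.S15802
import Groth.Agent.PurInertia.Main
open scoped Pointwise
-- import your own Groth.Agent.* helpers here

set_option autoImplicit false
universe u v w
open WildQuot

namespace Groth.Agent.S15802
theorem isIntegrallyClosed_fixed (R : Type u) [CommRing R] (A : Type v) [CommRing A] [IsDomain A]
    [IsIntegrallyClosed A] [Algebra R A] {H : Type w} [Group H] [MulSemiringAction H A]
    [SMulCommClass H R A] (K : Subgroup H) : IsIntegrallyClosed (FixedPoints.subalgebra R A K) := by
  let B := FixedPoints.subalgebra R A K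
  have hinj : Function.Injective ((algebraMap A (FractionRing A)).comp (algebraMap B A)) :=
    (IsFractionRing.injective A (FractionRing A)).comp Subtype.val_injective
  refine (isIntegrallyClosed_iff (FractionRing B)).mpr fun {x} hx => ?_
  obtain ⟨⟨b, s⟩, hbs⟩ := IsLocalization.surj (nonZeroDivisors B) x
  let ι : FractionRing B →+* FractionRing A := IsFractionRing.lift hinj
  have hι : ∀ c : B, ι (algebraMap B (FractionRing B) c) = algebraMap A (FractionRing A) (c : A) :=
    fun c => IsFractionRing.lift_algebraMap hinj c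
  have hint : IsIntegral A (ι x) := by
    obtain ⟨p, hp, hpx⟩ := hx
    refine ⟨p.map (algebraMap B A), hp.map _, ?_⟩
    rw [Polynomial.eval₂_map]
    have h1 : (algebraMap A (FractionRing A)).comp (algebraMap B A) =
        ι.comp (algebraMap B (FractionRing B)) := RingHom.ext fun c => (hι c).symm
    rw [h1, ← Polynomial.hom_eval₂, hpx, map_zero]
  obtain ⟨a, ha⟩ := IsIntegrallyClosed.isIntegral_iff.mp hint
  have has : a * (s : B) = (b : A) := IsFractionRing.injective A (FractionRing A) (by
    rw [map_mul, ha, ← hι, ← hι, ← map_mul, hbs])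
  have haB : a ∈ B := fun k => by
    have h2 := congrArg (k • ·) has
    simp only [smul_mul'] at h2
    rw [(s : B).2 k, b.2 k, ← has] at h2
    exact mul_right_cancel₀ (fun h0 => nonZeroDivisors.ne_zero s.2 (Subtype.ext h0)) h2
  exact ⟨⟨a, haB⟩, ι.injective ((hι _).trans ha)⟩

open Polynomial in
/-- A subgroup with invariants fixed by everything is the whole group. -/
theorem eq_top_of_invariants_le (R : Type u) [CommRing R] (A : Type v) [CommRing A] [IsDomain A]
    [Algebra R A] [Module.Finite R A] {H : Type w} [Group H] [Finite H] [MulSemiringAction H A]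
    [SMulCommClass H R A] [FaithfulSMul H A] (K : Subgroup H)
    (hK : ∀ a : A, (∀ k : K, k • a = a) → ∀ h : H, h • a = a) : K = ⊤ := by
  classical
  haveI := Fintype.ofFinite K
  rw [eq_top_iff]
  intro h _
  obtain ⟨n, gen, hgen⟩ := Module.Finite.exists_fin (R := R) (M := A)
  let a : A[X] := ∑ i : Fin n, monomial (i : ℕ) (gen i)
  let f : A[X][X] := MulSemiringAction.charpoly K a
  have hf : h • f = f := by
    refine Polynomial.ext fun i => Polynomial.ext fun j => ?_
    rw [coeff_smul, coeff_smul]
    refine hK _ (fun k => ?_) h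
    have h2 := congrArg (fun q : A[X][X] => (q.coeff i).coeff j) (MulSemiringAction.smul_charpoly a k)
    simpa [f, coeff_smul] using h2
  have h0 : f.eval (h • a) = 0 := by
    conv_lhs => rw [← hf]
    rw [Polynomial.smul_eval_smul, MulSemiringAction.eval_charpoly, smul_zero]
  rw [show f = MulSemiringAction.charpoly K a from rfl, MulSemiringAction.charpoly_eq, eval_prod,
    Finset.prod_eq_zero_iff] at h0
  obtain ⟨k, -, hk⟩ := h0
  rw [eval_sub, eval_X, eval_C, sub_eq_zero] at hk
  have hco : ∀ i : Fin n, h • gen i = (k : H) • gen i := fun i => by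
    have := congrArg (fun q : A[X] => q.coeff (i : ℕ)) hk
    have ha : a.coeff (i : ℕ) = gen i := by
      simp [a, finset_sum_coeff, coeff_monomial, Fin.val_inj]
    simpa [coeff_smul, ha, Subgroup.smul_def] using this
  have heq : h = k := FaithfulSMul.eq_of_smul_eq_smul (α := A) fun x => by
    have hx : x ∈ Submodule.span R (Set.range gen) := hgen ▸ Submodule.mem_top
    induction hx using Submodule.span_induction with
    | mem x hx => obtain ⟨i, rfl⟩ := hx; exact hco i
    | zero => simp
    | add x y _ _ hx hy => rw [smul_add, smul_add, hx, hy]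
    | smul r x _ hx => rw [smul_comm h r x, hx, smul_comm (k : H) r x]
  rw [heq]; exact k.2

/-- Let `R` be a regular local ring and `A` a normal local domain, finite over `R` (with `R → A`
injective) and with the same residue field; let a finite group `H` act faithfully on `A` by
`R`-algebra automorphisms with ring of invariants exactly `R` (so `Frac(A)/Frac(R)` is Galois with
group `H`). Then `H` is generated by the inertia subgroups of the height-one prime ideals `P` of `A`
(the elements acting trivially on `A/P`). (The published statement is for `A` a complete regular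
local ring with an action ramified precisely at the origin, `R = k[[x_1, …, x_n]]` a norm subring
and `H` the Galois group of `Frac(A)/Frac(R)`, when that extension is Galois; this row assumes only
the hypotheses listed above.) -/
theorem result
    (R : Type u) [CommRing R] [IsRegularLocalRing R]
    (A : Type v) [CommRing A] [IsDomain A] [IsIntegrallyClosed A] [IsLocalRing A]
    [Algebra R A] [Module.Finite R A] (hinj : Function.Injective (algebraMap R A))
    (hres : Function.Surjective (IsLocalRing.residue A ∘ algebraMap R A))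
    (H : Type w) [Group H] [Finite H] [MulSemiringAction H A] [SMulCommClass H R A] [FaithfulSMul H A]
    (hfix : ∀ a : A, (∀ h : H, h • a = a) → a ∈ Set.range (algebraMap R A)) :
    (⨆ P : {P : Ideal A // P.IsPrime ∧ P.height = 1}, P.1.inertia H) = ⊤ := by
  classical
  haveI : IsDomain R := RegLoc.isDomain R
  haveI : IsNoetherianRing A := IsNoetherianRing.of_finite R A
  haveI : Algebra.IsIntegral R A := Algebra.IsIntegral.of_finite R A
  haveI : Algebra.IsInvariant R A H := ⟨fun a ha => hfix a ha⟩
  set K : Subgroup H := ⨆ P : {P : Ideal A // P.IsPrime ∧ P.height = 1}, P.1.inertia H with hK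
  have hle : ∀ P : Ideal A, P.IsPrime → P.height = 1 → P.inertia H ≤ K := fun P hP hh =>
    le_iSup (fun P : {P : Ideal A // P.IsPrime ∧ P.height = 1} => P.1.inertia H) ⟨P, hP, hh⟩
  let B := FixedPoints.subalgebra R A K
  have hfixB : ∀ (b : A), (∀ k : K, k • b = b) → b ∈ B := fun b hb => hb
  have hBfix : ∀ (b : B) (k : H), k ∈ K → k • (b : A) = b := fun b k hk => b.2 ⟨k, hk⟩
  have hstab : ∀ (h : H) (b : B), h • (b : A) ∈ B := by
    intro h b
    refine hfixB _ fun k => ?_
    have : K ≤ MulAction.stabilizer H (h • (b : A)) := by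
      refine iSup_le fun ⟨P, hP, hh⟩ g hg => MulAction.mem_stabilizer_iff.mpr ?_
      haveI := hP
      let e : A ≃+* A := MulSemiringAction.toRingEquiv H A h
      have hh' : (P.comap (e : A →+* A)).height = 1 := by
        rw [← hh]; exact RingEquiv.height_comap e P
      have hmem : h⁻¹ * g * h ∈ (P.comap (e : A →+* A)).inertia H :=
        AddSubgroup.mem_inertia.mpr fun a => by
          change h • ((h⁻¹ * g * h) • a - a) ∈ P
          rw [smul_sub, ← mul_smul, show h * (h⁻¹ * g * h) = g * h by group, mul_smul]
          exact AddSubgroup.mem_inertia.mp hg (h • a)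
      have := hBfix b _ (hle _ (Ideal.IsPrime.comap _) hh' hmem)
      calc g • h • (b : A) = h • (h⁻¹ * g * h) • (b : A) := by
            rw [← mul_smul, ← mul_smul]; group
        _ = h • (b : A) := by rw [this]
    exact this k.2
  let σ (h : H) : B ≃ₐ[R] B :=
    { toFun := fun b => ⟨h • (b : A), hstab h b⟩
      invFun := fun b => ⟨h⁻¹ • (b : A), hstab h⁻¹ b⟩
      left_inv := fun b => Subtype.ext (inv_smul_smul h _)
      right_inv := fun b => Subtype.ext (smul_inv_smul h _)
      map_mul' := fun x y => Subtype.ext (smul_mul' h _ _)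
      map_add' := fun x y => Subtype.ext (smul_add h _ _)
      commutes' := fun r => Subtype.ext (smul_algebraMap h r) }
  let ψ : H →* (B ≃ₐ[R] B) :=
    { toFun := σ
      map_one' := AlgEquiv.ext fun b => Subtype.ext (one_smul H _)
      map_mul' := fun g h => AlgEquiv.ext fun b => Subtype.ext (mul_smul g h _) }
  let G := ψ.range
  haveI : Finite G := Finite.of_surjective ψ.rangeRestrict ψ.rangeRestrict_surjective
  haveI : SMulCommClass G R B := ⟨fun g r b => map_smul (g : B ≃ₐ[R] B) r b⟩
  haveI : Algebra.IsInvariant R B G := ⟨fun b hb => by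
    obtain ⟨r, hr⟩ := hfix (b : A) fun h => congrArg Subtype.val (hb ⟨ψ h, h, rfl⟩)
    exact ⟨r, Subtype.ext hr⟩⟩
  have hinjB : Function.Injective (algebraMap R B) := fun x y h => hinj (congrArg Subtype.val h)
  haveI : Module.Finite R B :=
    inferInstanceAs (Module.Finite R (Subalgebra.toSubmodule B))
  haveI : IsIntegrallyClosed B := isIntegrallyClosed_fixed R A K
  haveI : Algebra.IsIntegral B A := Algebra.IsIntegral.tower_top R
  haveI : SMulCommClass K B A := ⟨fun k b a => by
    change k • ((b : A) * a) = (b : A) * (k • a)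
    rw [smul_mul', b.2 k]⟩
  haveI : Algebra.IsInvariant B A K := ⟨fun a ha => ⟨⟨a, hfixB a ha⟩, rfl⟩⟩
  have h1 : ∀ Q : Ideal B, Q.IsPrime → Q.height = 1 → ∀ g : G, (∀ b : B, g • b - b ∈ Q) → g = 1 := by
    rintro Q hQ hQh ⟨_, h, rfl⟩ hmem
    haveI := hQ
    have hmem' : ∀ b : B, ψ h b - b ∈ Q := hmem
    obtain ⟨P, -, hP, hPQ⟩ := Ideal.exists_ideal_over_prime_of_isIntegral Q (⊥ : Ideal A)
      (fun b hb => by
        rw [show b = 0 from Subtype.ext (Ideal.mem_bot.mp hb)]
        exact zero_mem _)
    haveI := hP
    have hQne : Q ≠ ⊥ := fun h0 => by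
      rw [h0, Ideal.height_bot] at hQh
      exact zero_ne_one hQh
    have hP1 : P.height = 1 := by
      refine le_antisymm ((PurInertia.height_le_height_comap (R := B) P).trans (by rw [hPQ, hQh])) ?_
      refine Order.one_le_iff_ne_zero.mpr fun h0 => hQne ?_
      have hmin := Ideal.height_eq_zero_iff.mp h0
      rw [IsDomain.minimalPrimes_eq_singleton_bot] at hmin
      rw [← hPQ, Set.mem_singleton_iff.mp hmin]
      exact Ideal.comap_bot_of_injective _ Subtype.val_injective
    let e : A ≃+* A := MulSemiringAction.toRingEquiv H A h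
    let P' : Ideal A := P.comap (e : A →+* A)
    haveI : P'.IsPrime := Ideal.IsPrime.comap _
    have hunder : P.under B = P'.under B := by
      ext b
      have hx : ψ h b ∈ Q ↔ b ∈ Q := by
        constructor
        · exact fun hb => by simpa using sub_mem hb (hmem' b)
        · exact fun hb => by simpa using add_mem (hmem' b) hb
      rw [Ideal.under_def, hPQ]
      refine hx.symm.trans ?_
      rw [← hPQ]
      exact Iff.rfl
    obtain ⟨k, hk⟩ := Algebra.IsInvariant.exists_smul_of_under_eq B A K P P' hunder
    -- `h * k` stabilises `P` and is trivial on `B / Q`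
    have hkP : ∀ a : A, a ∈ P ↔ (h * (k : H)) • a ∈ P := by
      intro a
      have : k • a ∈ P' ↔ a ∈ P := by rw [hk]; exact Ideal.smul_mem_pointwise_smul_iff
      rw [← this, mul_smul]
      exact Iff.rfl
    haveI : P.LiesOver Q := ⟨hPQ.symm⟩
    let f : A ≃ₐ[R] A := MulSemiringAction.toAlgEquiv R A (h * (k : H))
    have hfP : P = P.map (f : A →+* A) := by
      refine le_antisymm (fun a ha => ?_) (Ideal.map_le_iff_le_comap.mpr fun a ha => (hkP a).mp ha)
      rw [← (f.apply_symm_apply a)]
      refine Ideal.mem_map_of_mem _ ((hkP _).mpr ?_)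
      change f (f.symm a) ∈ P
      rwa [f.apply_symm_apply]
    let fq : (A ⧸ P) ≃+* (A ⧸ P) := Ideal.quotientEquiv P P f.toRingEquiv hfP
    let φ : (A ⧸ P) ≃ₐ[B ⧸ Q] (A ⧸ P) := AlgEquiv.ofRingEquiv (f := fq) fun x => by
      obtain ⟨b, rfl⟩ := Ideal.Quotient.mk_surjective x
      change fq (Ideal.Quotient.mk P (b : A)) = Ideal.Quotient.mk P (b : A)
      refine (Ideal.quotientEquiv_mk P P f.toRingEquiv hfP (b : A)).trans ?_
      rw [Ideal.Quotient.mk_eq_mk_iff_sub_mem]
      change (h * (k : H)) • (b : A) - (b : A) ∈ P
      rw [mul_smul, hBfix b _ k.2]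
      have := hmem' b
      rw [← hPQ] at this
      exact this
    obtain ⟨s, hs⟩ := Ideal.Quotient.stabilizerHom_surjective K Q P φ
    have hinertia : ((s : K) : H)⁻¹ * (h * (k : H)) ∈ P.inertia H := by
      refine AddSubgroup.mem_inertia.mpr fun a => ?_
      have h3 := AlgEquiv.congr_fun hs (Ideal.Quotient.mk P a)
      have h4 : Ideal.Quotient.mk P ((s : K) • a) = Ideal.Quotient.mk P ((h * (k : H)) • a) :=
        h3.trans (Ideal.quotientEquiv_mk P P f.toRingEquiv hfP a)
      rw [Ideal.Quotient.mk_eq_mk_iff_sub_mem] at h4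
      have h5 : ((s : K) : H) • (((s : K) : H)⁻¹ * (h * (k : H))) • a - ((s : K) : H) • a ∈ P := by
        rw [← mul_smul, mul_inv_cancel_left, ← neg_sub]
        exact P.neg_mem h4
      rw [← smul_sub] at h5
      have h6 : (s : K) • P = P := s.2
      exact (Ideal.smul_mem_pointwise_smul_iff (a := (s : K)) (S := P)).mp (h6.symm.le h5)
    have hh : h ∈ K := by
      have := hle P hP hP1 hinertia
      rwa [K.mul_mem_cancel_left (inv_mem (s : K).2), K.mul_mem_cancel_right k.2] at this
    exact Subtype.ext (AlgEquiv.ext fun b => Subtype.ext (hBfix b h hh))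
  have hfaith : ∀ g : G, (∀ b : B, g • b = b) → g = 1 := fun g hg =>
    Subtype.ext (AlgEquiv.ext hg)
  have hker : ∀ (h : H) (b : B), h • (b : A) = b := by
    intro h b
    by_contra hne
    have hg : (⟨ψ h, h, rfl⟩ : G) ≠ 1 := fun h0 => hne
      (congrArg Subtype.val (AlgEquiv.congr_fun (congrArg Subtype.val h0) b))
    have htop := PurInertia.span_sub_smul_eq_top R hinjB hfaith h1 _ hg
    have hmax : Ideal.span (Set.range fun x : B => x - (⟨ψ h, h, rfl⟩ : G) • x) ≤
        (IsLocalRing.maximalIdeal A).comap (algebraMap B A) := by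
      rw [Ideal.span_le]
      rintro _ ⟨x, rfl⟩
      change (x : A) - h • (x : A) ∈ IsLocalRing.maximalIdeal A
      obtain ⟨r, hr⟩ := hres (IsLocalRing.residue A (x : A))
      have e1 : (x : A) - algebraMap R A r ∈ IsLocalRing.maximalIdeal A := by
        rw [← IsLocalRing.residue_eq_zero_iff, map_sub, sub_eq_zero]; exact hr.symm
      have e2 : h • ((x : A) - algebraMap R A r) ∈ IsLocalRing.maximalIdeal A := fun hu =>
        e1 (by simpa using hu.map (MulSemiringAction.toRingHom H A h⁻¹))
      rw [smul_sub, smul_algebraMap] at e2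
      simpa using sub_mem e1 e2
    rw [htop] at hmax
    exact (IsLocalRing.maximalIdeal.isMaximal A).ne_top
      ((Ideal.eq_top_iff_one _).mpr (by simpa using hmax (Submodule.mem_top (x := (1 : B)))))
  exact eq_top_of_invariants_le R A K fun a ha h => hker h ⟨a, hfixB a ha⟩

end Groth.Agent.S15802
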