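import Groth.Statements.S15803
import Groth.Agent.S15802
-- import your own Groth.Agent.* helpers here

set_option autoImplicit false
universe u v w
open WildQuot

namespace Groth.Agent.S15803

/-- Let `R` be a regular local ring and `A` a normal local domain, finite over `R` (with `R → A`
injective) and with the same residue field; let a finite group `H` act faithfully on `A` by
`R`-algebra automorphisms with ring of invariants exactly `R` (so `Frac(A)/Frac(R)` is Galois with
group `H`); let `p` be a prime and suppose that every nontrivial inertia subgroup of a height-one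
prime of `A` has order `p` and is normal in `H`. Then `H` is commutative and every element satisfies
`h ^ p = 1`: `H` is an elementary abelian `p`-group (of order the degree of `Frac(A)` over
`Frac(R)`). (The published statement is for `A` a complete regular local ring with an action
ramified precisely at the origin, `R = k[[x_1, …, x_n]]` a norm subring and `H` the Galois group of
`Frac(A)/Frac(R)`, when that extension is Galois; this row assumes only the hypotheses listed
above.) -/
theorem result
    (p : ℕ) [Fact p.Prime] (R : Type u) [CommRing R] [IsRegularLocalRing R]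
    (A : Type v) [CommRing A] [IsDomain A] [IsIntegrallyClosed A] [IsLocalRing A]
    [Algebra R A] [Module.Finite R A] (hinj : Function.Injective (algebraMap R A))
    (hres : Function.Surjective (IsLocalRing.residue A ∘ algebraMap R A))
    (H : Type w) [Group H] [Finite H] [MulSemiringAction H A] [SMulCommClass H R A] [FaithfulSMul H A]
    (hfix : ∀ a : A, (∀ h : H, h • a = a) → a ∈ Set.range (algebraMap R A))
    (hMR2 : ∀ P : Ideal A, P.IsPrime → P.height = 1 → P.inertia H ≠ ⊥ →
      Nat.card (P.inertia H) = p ∧ (P.inertia H).Normal) :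
    (∀ g h : H, g * h = h * g) ∧ ∀ h : H, h ^ p = 1 := by
  classical
  have htop := S15802.result R A hinj hres H hfix
  have hp := Fact.out (p := p.Prime)
  -- every inertia element has order dividing `p` and commutes with every inertia element
  have hpow : ∀ P : {P : Ideal A // P.IsPrime ∧ P.height = 1}, ∀ x ∈ P.1.inertia H, x ^ p = 1 := by
    intro P x hx
    by_cases hb : P.1.inertia H = ⊥
    · rw [hb, Subgroup.mem_bot] at hx; rw [hx, one_pow]
    · have := pow_card_eq_one' (x := (⟨x, hx⟩ : P.1.inertia H))
      rw [(hMR2 P.1 P.2.1 P.2.2 hb).1] at this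
      exact congrArg Subtype.val this
  have hcomm : ∀ P Q : {P : Ideal A // P.IsPrime ∧ P.height = 1},
      ∀ x ∈ P.1.inertia H, ∀ y ∈ Q.1.inertia H, Commute x y := by
    intro P Q x hx y hy
    by_cases hbP : P.1.inertia H = ⊥
    · rw [hbP, Subgroup.mem_bot] at hx; rw [hx]; exact Commute.one_left y
    by_cases hbQ : Q.1.inertia H = ⊥
    · rw [hbQ, Subgroup.mem_bot] at hy; rw [hy]; exact Commute.one_right x
    obtain ⟨hcP, hnP⟩ := hMR2 P.1 P.2.1 P.2.2 hbP
    obtain ⟨hcQ, hnQ⟩ := hMR2 Q.1 Q.2.1 Q.2.2 hbQ
    by_cases heq : P.1.inertia H = Q.1.inertia H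
    · haveI : IsCyclic (Q.1.inertia H) := isCyclic_of_prime_card hcQ
      letI := IsCyclic.commGroup (α := Q.1.inertia H)
      exact congrArg Subtype.val (mul_comm (⟨x, heq ▸ hx⟩ : Q.1.inertia H) ⟨y, hy⟩)
    · refine Subgroup.commute_of_normal_of_disjoint _ _ hnP hnQ ?_ x y hx hy
      refine disjoint_iff.mpr (by_contra fun hne => heq ?_)
      have key : ∀ S : Subgroup H, P.1.inertia H ⊓ Q.1.inertia H ≤ S → Nat.card S = p →
          P.1.inertia H ⊓ Q.1.inertia H = S := by
        intro S hS hc
        refine Subgroup.eq_of_le_of_card_ge hS ?_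
        rw [hc]
        rcases (Nat.dvd_prime hp).mp (hc ▸ Subgroup.card_dvd_of_le hS) with h1 | h1
        · exact absurd (Subgroup.eq_bot_of_card_eq _ h1) hne
        · exact h1.ge
      exact (key _ inf_le_left hcP).symm.trans (key _ inf_le_right hcQ)
  let T : Set H := ⋃ P : {P : Ideal A // P.IsPrime ∧ P.height = 1}, (P.1.inertia H : Set H)
  have hgen : Subgroup.closure T = ⊤ := by
    rw [← htop, Subgroup.iSup_eq_closure]
  have hcl : ∀ g h : H, g * h = h * g := by
    letI := Subgroup.closureCommGroupOfComm (k := T) fun x hx y hy => by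
      obtain ⟨P, hx⟩ := Set.mem_iUnion.mp hx
      obtain ⟨Q, hy⟩ := Set.mem_iUnion.mp hy
      exact hcomm P Q x hx y hy
    intro g h
    exact congrArg Subtype.val (mul_comm (⟨g, hgen ▸ Subgroup.mem_top g⟩ : Subgroup.closure T)
      ⟨h, hgen ▸ Subgroup.mem_top h⟩)
  refine ⟨hcl, fun h => ?_⟩
  have hh : h ∈ Subgroup.closure T := hgen ▸ Subgroup.mem_top h
  induction hh using Subgroup.closure_induction with
  | mem x hx => obtain ⟨P, hx⟩ := Set.mem_iUnion.mp hx; exact hpow P x hx
  | one => exact one_pow _
  | mul x y _ _ hx hy => rw [Commute.mul_pow (hcl x y), hx, hy, one_mul]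
  | inv x _ hx => rw [inv_pow, hx, inv_one]

end Groth.Agent.S15803
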