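import Groth.Statements.S15804
import Groth.Agent.InvQLib.FiniteFree
import Groth.Agent.Props.NormalCM
import Mathlib

set_option autoImplicit false
universe u v w
open WildQuot

namespace Groth.Agent.S15804

open IsLocalRing in
theorem free_of_dim_two (R : Type u) [CommRing R] [IsRegularLocalRing R]
    (A : Type v) [CommRing A] [IsDomain A] [IsIntegrallyClosed A] [IsLocalRing A]
    [Algebra R A] [Module.Finite R A] (hinj : Function.Injective (algebraMap R A))
    (hdim : ringKrullDim A = 2) : Module.Free R A := by
  obtain ⟨n, f, hf⟩ := Module.Finite.exists_fin' R A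
  have : Small.{u} A := small_of_surjective hf
  let e : Shrink.{u} A ≃ₐ[R] A := Shrink.algEquiv R A
  haveI : IsDomain (Shrink.{u} A) := MulEquiv.isDomain A e.toRingEquiv.toMulEquiv
  haveI : IsLocalRing (Shrink.{u} A) := e.symm.toRingEquiv.isLocalRing
  haveI : IsIntegrallyClosed (Shrink.{u} A) := IsIntegrallyClosed.of_equiv e.symm.toRingEquiv
  haveI : Module.Finite R (Shrink.{u} A) := Module.Finite.equiv e.symm.toLinearEquiv
  haveI : IsNoetherianRing (Shrink.{u} A) := IsNoetherianRing.of_finite R _
  haveI := Props.NormalCM.isCohenMacaulayLocalRing_of_dim_le_two (A := Shrink.{u} A)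
    (by rw [ringKrullDim_eq_of_ringEquiv e.toRingEquiv, hdim])
  have := InvQLib.FiniteFree.free_of_finite R (Shrink.{u} A) (fun a b h => hinj (by
    have := congrArg e h
    simpa using this))
  exact Module.Free.of_equiv e.toLinearEquiv

section Purity

variable {R : Type u} [CommRing R] {A : Type v} [CommRing A] [IsDomain A]
  [Algebra R A] {H : Type w} [Group H] [Finite H] [MulSemiringAction H A] [SMulCommClass H R A]

/-- Artin: a basis of `A` over the invariants has columns independent over `A`. -/
theorem columns_independent [FaithfulSMul H A] (hinj : Function.Injective (algebraMap R A))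
    (hfix : ∀ a : A, (∀ h : H, h • a = a) → a ∈ Set.range (algebraMap R A))
    {ι : Type*} (b : Module.Basis ι R A) :
    LinearIndependent A (fun (j : ι) (σ : H) => σ • b j) := by
  classical
  have := Fintype.ofFinite H
  rw [linearIndependent_iff']
  intro s
  induction s using Finset.strongInduction with
  | H s ih =>
    intro c hc j₀ hj₀
    by_contra hne
    let m := ∏ σ ∈ Finset.univ.erase (1 : H), σ • c j₀
    have hm : m ≠ 0 := Finset.prod_ne_zero_iff.mpr fun σ _ h => hne (by
      simpa using congrArg (σ⁻¹ • ·) h)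
    let c' : ι → A := fun j => m * c j
    have hc' : ∑ j ∈ s, c' j • (fun σ : H => σ • b j) = 0 := by
      rw [show (0 : H → A) = m • 0 by rw [smul_zero], ← hc, Finset.smul_sum]
      exact Finset.sum_congr rfl fun j _ => mul_smul _ _ _
    have hN : c' j₀ = ∏ σ : H, σ • c j₀ := by
      rw [← Finset.mul_prod_erase Finset.univ _ (Finset.mem_univ (1 : H)), one_smul, mul_comm]
    have hfix0 : ∀ τ : H, τ • c' j₀ = c' j₀ := fun τ => by
      rw [hN, Finset.smul_prod']
      exact Fintype.prod_equiv (Equiv.mulLeft τ) _ _ fun σ => (mul_smul τ σ _).symm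
    have hinv : ∀ j ∈ s, ∀ τ : H, τ • c' j = c' j := by
      intro j hj τ
      by_cases hjj : j = j₀
      · subst hjj; exact hfix0 τ
      · refine sub_eq_zero.mp (ih (s.erase j₀) (Finset.erase_ssubset hj₀)
          (fun j => τ • c' j - c' j) ?_ j (Finset.mem_erase.mpr ⟨hjj, hj⟩))
        rw [Finset.sum_erase _ (by rw [hfix0, sub_self, zero_smul])]
        simp only [sub_smul, Finset.sum_sub_distrib, hc', sub_zero]
        funext σ
        have h1 := congrArg (τ • ·) (congrFun hc' (τ⁻¹ * σ))
        simp only [Finset.sum_apply, Pi.smul_apply, smul_eq_mul, Finset.smul_sum, smul_mul',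
          ← mul_smul, mul_inv_cancel_left, Pi.zero_apply, smul_zero] at h1 ⊢
        exact h1
    choose r hr using fun j (hj : j ∈ s) => hfix (c' j) (hinv j hj)
    have h1 := congrFun hc' 1
    simp only [Finset.sum_apply, Pi.smul_apply, one_smul, smul_eq_mul, Pi.zero_apply] at h1
    have h2 : ∑ j ∈ s, (if h : j ∈ s then r j h else 0) • b j = 0 := by
      rw [← h1]
      refine Finset.sum_congr rfl fun j hj => ?_
      rw [dif_pos hj, Algebra.smul_def, hr j hj]
    have h3 := linearIndependent_iff'.mp b.linearIndependent s _ h2 j₀ hj₀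
    rw [dif_pos hj₀] at h3
    have h4 := hr j₀ hj₀
    rw [h3, map_zero] at h4
    exact mul_ne_zero hm hne h4.symm

omit [Finite H] in
/-- Dedekind: rows are independent modulo a prime separating the group. -/
theorem rows_independent (P : Ideal A) [P.IsPrime]
    (hsep : ∀ σ τ : H, (∀ a : A, σ • a - τ • a ∈ P) → σ = τ)
    {ι : Type*} (b : Module.Basis ι R A) :
    LinearIndependent (A ⧸ P) (fun (σ : H) (j : ι) => Ideal.Quotient.mk P (σ • b j)) := by
  classical
  rw [linearIndependent_iff']
  intro s c hc σ hσ
  let χ : H → (A →* A ⧸ P) := fun σ =>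
    (Ideal.Quotient.mk P).toMonoidHom.comp (MulSemiringAction.toRingHom H A σ).toMonoidHom
  have hχ : Function.Injective χ := fun σ τ h => hsep σ τ fun a =>
    (Ideal.Quotient.mk_eq_mk_iff_sub_mem _ _).mp (DFunLike.congr_fun h a)
  have hli := (linearIndependent_monoidHom A (A ⧸ P)).comp χ hχ
  refine linearIndependent_iff'.mp hli s c (funext fun a => ?_) σ hσ
  rw [Finset.sum_apply, Pi.zero_apply]
  have hlin : (fun a => ∑ σ ∈ s, c σ * Ideal.Quotient.mk P (σ • a)) =
      (∑ σ ∈ s, LinearMap.mulLeft R (c σ) ∘ₗ ((Ideal.Quotient.mkₐ R P).toLinearMap ∘ₗ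
        (DistribSMul.toLinearMap R A σ)) : A →ₗ[R] A ⧸ P) := by
    funext a
    simp [LinearMap.sum_apply]
  have hzero : (∑ σ ∈ s, LinearMap.mulLeft R (c σ) ∘ₗ ((Ideal.Quotient.mkₐ R P).toLinearMap ∘ₗ
      (DistribSMul.toLinearMap R A σ)) : A →ₗ[R] A ⧸ P) = 0 := by
    refine b.ext fun j => ?_
    have := congrFun hc j
    simpa [LinearMap.sum_apply, Finset.sum_apply] using this
  have := congrFun hlin a
  rw [hzero] at this
  simpa [χ] using this

variable (R)

open IsLocalRing in
/-- Purity of the branch locus in dimension two, Galois case. -/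
theorem eq_one_of_unramified [IsRegularLocalRing R] [IsIntegrallyClosed A] [IsLocalRing A]
    [Module.Finite R A] [FaithfulSMul H A] (hinj : Function.Injective (algebraMap R A))
    (hres : Function.Surjective (IsLocalRing.residue A ∘ algebraMap R A))
    (hfix : ∀ a : A, (∀ h : H, h • a = a) → a ∈ Set.range (algebraMap R A))
    (hdim : ringKrullDim A = 2)
    (hunr : ∀ P : Ideal A, P.IsPrime → P.height = 1 → P.inertia H = ⊥) (g : H) : g = 1 := by
  classical
  have := Fintype.ofFinite H
  haveI := free_of_dim_two R A hinj hdim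
  haveI : IsNoetherianRing A := IsNoetherianRing.of_finite R A
  let b := Module.Free.chooseBasis R A
  let ι := Module.Free.ChooseBasisIndex R A
  have hsep : ∀ (P : Ideal A) (hP : P.IsPrime), P.height = 1 →
      ∀ σ τ : H, (∀ a : A, σ • a - τ • a ∈ P) → σ = τ := by
    intro P hP hh σ τ h
    haveI := hP
    let e : A ≃+* A := MulSemiringAction.toRingEquiv H A τ
    have hh' : (P.comap (e : A →+* A)).height = 1 := by
      rw [← hh]; exact RingEquiv.height_comap e P
    have hmem : τ⁻¹ * σ ∈ (P.comap (e : A →+* A)).inertia H := by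
      refine AddSubgroup.mem_inertia.mpr fun a => ?_
      change e _ ∈ P
      have : e ((τ⁻¹ * σ) • a - a) = σ • a - τ • a := by
        simp [e, smul_sub, ← mul_smul]
      rw [this]
      exact h a
    rw [hunr _ (Ideal.IsPrime.comap _) hh', Subgroup.mem_bot, inv_mul_eq_one] at hmem
    exact hmem.symm
  have hrows : LinearIndependent A (fun (σ : H) (j : ι) => σ • b j) := by
    have h0 := rows_independent (⊥ : Ideal A) (fun (σ τ : H) h => FaithfulSMul.eq_of_smul_eq_smul (α := A) fun a =>
      sub_eq_zero.mp (Ideal.mem_bot.mp (h a))) b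
    rw [linearIndependent_iff'] at h0 ⊢
    intro s c hc σ hσ
    have := h0 s (fun σ => Ideal.Quotient.mk ⊥ (c σ)) (by
      funext j
      have := congrArg (Ideal.Quotient.mk (⊥ : Ideal A)) (congrFun hc j)
      simpa [Finset.sum_apply] using this) σ hσ
    simpa [Ideal.Quotient.eq_zero_iff_mem] using this
  have hcols := columns_independent hinj hfix b
  have hcard : Fintype.card H = Fintype.card ι :=
    le_antisymm (by simpa using hrows.fintype_card_le_finrank)
      (by simpa using hcols.fintype_card_le_finrank)
  let e : H ≃ ι := Fintype.equivOfCardEq hcard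
  let M : Matrix H H A := Matrix.of fun σ τ => σ • b (e τ)
  have hdet0 : M.det ≠ 0 := by
    intro h
    obtain ⟨v, hv, hvM⟩ := Matrix.exists_vecMul_eq_zero_iff.mpr h
    refine hv (funext fun σ => linearIndependent_iff'.mp hrows Finset.univ v ?_ σ (Finset.mem_univ _))
    funext j
    have := congrFun hvM (e.symm j)
    simpa [M, Matrix.vecMul, dotProduct, Finset.sum_apply] using this
  by_contra hg
  have hm : M.det ∈ maximalIdeal A := by
    rw [← residue_eq_zero_iff, RingHom.map_det]
    refine Matrix.det_zero_of_row_eq hg (funext fun τ => ?_)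
    have key : ∀ a : A, residue A (g • a) = residue A a := by
      intro a
      obtain ⟨r, hr⟩ := hres (residue A a)
      have h1 : a - algebraMap R A r ∈ maximalIdeal A := by
        rw [← residue_eq_zero_iff, map_sub, sub_eq_zero]; exact hr.symm
      have h2 : g • (a - algebraMap R A r) ∈ maximalIdeal A := fun hu =>
        h1 (by simpa using hu.map (MulSemiringAction.toRingHom H A g⁻¹))
      rw [← residue_eq_zero_iff] at h1 h2
      rw [smul_sub, smul_algebraMap, map_sub, sub_eq_zero] at h2
      rw [map_sub, sub_eq_zero] at h1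
      rw [h2, h1]
    simp [M, key]
  obtain ⟨P, hP, hmP⟩ := Ideal.exists_minimalPrimes_le (J := maximalIdeal A)
    (I := Ideal.span {M.det}) (by rw [Ideal.span_le, Set.singleton_subset_iff]; exact hm)
  haveI := hP.1.1
  have hh : P.height = 1 := by
    refine le_antisymm (Ideal.height_le_one_of_isPrincipal_of_mem_minimalPrimes (Ideal.span {M.det}) P hP)
      (ENat.one_le_iff_ne_zero.mpr fun h0 => hdet0 ?_)
    have hPmin := Ideal.height_eq_zero_iff.mp h0
    rw [IsDomain.minimalPrimes_eq_singleton_bot] at hPmin
    rw [← Ideal.mem_bot, ← Set.mem_singleton_iff.mp hPmin]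
    exact hP.1.2 (Ideal.subset_span rfl)
  have hPdet : (M.map (Ideal.Quotient.mk P)).det = 0 := by
    rw [← RingHom.mapMatrix_apply, ← RingHom.map_det, Ideal.Quotient.eq_zero_iff_mem]
    exact hP.1.2 (Ideal.subset_span rfl)
  obtain ⟨v, hv, hvM⟩ := Matrix.exists_vecMul_eq_zero_iff.mpr hPdet
  refine hv (funext fun σ => linearIndependent_iff'.mp (rows_independent P (hsep P hP.1.1 hh) b)
    Finset.univ v ?_ σ (Finset.mem_univ _))
  funext j
  have := congrFun hvM (e.symm j)
  simpa [M, Matrix.vecMul, dotProduct, Finset.sum_apply] using this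

end Purity

/-- Let `R` be a regular local ring and `A` a normal local domain, finite over `R` (with `R → A`
injective) and with the same residue field; let a finite group `H` act faithfully on `A` by
`R`-algebra automorphisms with ring of invariants exactly `R` (so `Frac(A)/Frac(R)` is Galois with
group `H`); assume `A` has Krull dimension `2`, `H` has order `p ^ 2` for a prime `p`, and `Γ ≤ H`
is a subgroup of order `p` whose intersection with the inertia subgroup of every non-maximal prime
of `A` is trivial (the action of `Γ` is ramified precisely at the origin). Then every nontrivial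
inertia subgroup of a height-one prime of `A` has order `p`, and `H` is commutative with every
element satisfying `h ^ p = 1`, i.e. elementary abelian of order `p ^ 2`. (The published statement
is for `A` a complete regular local ring with an action ramified precisely at the origin, `R =
k[[x_1, …, x_n]]` a norm subring and `H` the Galois group of `Frac(A)/Frac(R)`, when that extension
is Galois; this row assumes only the hypotheses listed above.) -/
theorem result
    (p : ℕ) [Fact p.Prime] (R : Type u) [CommRing R] [IsRegularLocalRing R]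
    (A : Type v) [CommRing A] [IsDomain A] [IsIntegrallyClosed A] [IsLocalRing A]
    [Algebra R A] [Module.Finite R A] (hinj : Function.Injective (algebraMap R A))
    (hres : Function.Surjective (IsLocalRing.residue A ∘ algebraMap R A))
    (H : Type w) [Group H] [Finite H] [MulSemiringAction H A] [SMulCommClass H R A] [FaithfulSMul H A]
    (hfix : ∀ a : A, (∀ h : H, h • a = a) → a ∈ Set.range (algebraMap R A))
    (hdim : ringKrullDim A = 2) (hcard : Nat.card H = p ^ 2)
    (Γ : Subgroup H) (hΓ : Nat.card Γ = p)
    (hram : ∀ P : Ideal A, P.IsPrime → P ≠ IsLocalRing.maximalIdeal A → P.inertia H ⊓ Γ = ⊥) :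
    (∀ P : Ideal A, P.IsPrime → P.height = 1 → P.inertia H ≠ ⊥ → Nat.card (P.inertia H) = p) ∧
      (∀ g h : H, g * h = h * g) ∧ ∀ h : H, h ^ p = 1 := by
  classical
  haveI : IsNoetherianRing A := IsNoetherianRing.of_finite R A
  have hp := Fact.out (p := p.Prime)
  have hΓne : Γ ≠ ⊥ := fun h => hp.one_lt.ne' (by rw [← hΓ, h, Subgroup.card_bot])
  have hcardI : ∀ P : Ideal A, P.IsPrime → P.height = 1 → P.inertia H ≠ ⊥ →
      Nat.card (P.inertia H) = p := by
    intro P hP hh hI
    have hne : P ≠ IsLocalRing.maximalIdeal A := by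
      rintro rfl
      have h2 := IsLocalRing.maximalIdeal_height_eq_ringKrullDim (R := A)
      rw [hh, hdim] at h2
      exact absurd (WithBot.coe_inj.mp (h2.trans (by rfl : (2 : WithBot ℕ∞) = ((2 : ℕ∞) : WithBot ℕ∞))))
        (by decide)
    obtain ⟨i, hi, he⟩ := (Nat.dvd_prime_pow hp).mp (hcard ▸ Subgroup.card_subgroup_dvd_card (P.inertia H))
    match i, hi, he with
    | 0, _, he => exact absurd (Subgroup.eq_bot_of_card_eq _ (by simpa using he)) hI
    | 1, _, he => simpa using he
    | 2, _, he =>
      have htop : P.inertia H = ⊤ := Subgroup.eq_top_of_card_eq _ (by rw [he, hcard])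
      have := hram P hP hne
      rw [htop, top_inf_eq] at this
      exact absurd this hΓne
  refine ⟨hcardI, IsPGroup.commutative_of_card_eq_prime_sq hcard, fun h => ?_⟩
  have hdvd : orderOf h ∣ p ^ 2 := hcard ▸ orderOf_dvd_natCard h
  obtain ⟨i, hi, he⟩ := (Nat.dvd_prime_pow hp).mp hdvd
  match i, hi, he with
  | 0, _, he => rw [pow_zero, orderOf_eq_one_iff] at he; rw [he, one_pow]
  | 1, _, he => rw [pow_one] at he; rw [← he, pow_orderOf_eq_one]
  | 2, _, he =>
    exfalso
    have htop : Subgroup.zpowers h = ⊤ :=
      Subgroup.eq_top_of_card_eq _ (by rw [Nat.card_zpowers, he, hcard])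
    have hcC : Nat.card (Subgroup.zpowers (h ^ p)) = p := by
      rw [Nat.card_zpowers, orderOf_pow_of_dvd hp.ne_zero (by rw [he]; exact dvd_pow_self p two_ne_zero),
        he, pow_two, Nat.mul_div_cancel _ hp.pos]
    have huniq : ∀ K : Subgroup H, Nat.card K = p → K = Subgroup.zpowers (h ^ p) := by
      intro K hK
      refine Subgroup.eq_of_le_of_card_ge ?_ (by rw [hcC, hK])
      intro x hx
      obtain ⟨j, rfl⟩ := Subgroup.mem_zpowers_iff.mp (show x ∈ Subgroup.zpowers h by rw [htop]; trivial)
      have hxp : (h ^ j) ^ p = 1 := by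
        have := pow_card_eq_one' (x := (⟨h ^ j, hx⟩ : K))
        rw [hK] at this
        exact congrArg Subtype.val this
      rw [← zpow_natCast, ← zpow_mul, ← orderOf_dvd_iff_zpow_eq_one, he, Nat.cast_pow, pow_two] at hxp
      obtain ⟨l, hl⟩ := Int.dvd_of_mul_dvd_mul_right (by exact_mod_cast hp.ne_zero) hxp
      exact Subgroup.mem_zpowers_iff.mpr ⟨l, by rw [← zpow_natCast h p, ← zpow_mul, hl]⟩
    have hunr : ∀ P : Ideal A, P.IsPrime → P.height = 1 → P.inertia H = ⊥ := by
      intro P hP hh
      by_contra hI
      have hne : P ≠ IsLocalRing.maximalIdeal A := by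
        rintro rfl
        have h2 := IsLocalRing.maximalIdeal_height_eq_ringKrullDim (R := A)
        rw [hh, hdim] at h2
        exact absurd (WithBot.coe_inj.mp (h2.trans (by rfl : (2 : WithBot ℕ∞) = ((2 : ℕ∞) : WithBot ℕ∞))))
          (by decide)
      have := hram P hP hne
      rw [huniq _ (hcardI P hP hh hI), ← huniq Γ hΓ, inf_idem] at this
      exact hΓne this
    have h1 : h = 1 := eq_one_of_unramified (H := H) R hinj hres hfix hdim hunr h
    rw [h1, orderOf_one] at he
    exact absurd he (Nat.one_lt_pow two_ne_zero hp.one_lt).ne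

end Groth.Agent.S15804
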