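import Groth.Statements.S15805
import Groth.Agent.ASPurity.PSFamily

set_option autoImplicit false
universe u v
open WildQuot

namespace Groth.Agent.S15805

open IsLocalRing ASPurity.Family

theorem symmetric_of_trace {R : Type u} [CommRing R] {A : Type u} [CommRing A] [Algebra R A]
    {G : Type v} [Group G] [Finite G] [MulSemiringAction G A] [SMulCommClass G R A]
    (τ : A →ₗ[R] R) (hinv : ∀ (g : G) a, τ (g • a) = τ a)
    (hperf : ∀ ψ : A →ₗ[R] R, ∃! d : A, ∀ b, τ (b * d) = ψ b) :
    ∃ φ : SkewMonoidAlgebra A G →ₗ[R] R,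
        (∀ x y : SkewMonoidAlgebra A G, φ (x * y) = φ (y * x)) ∧
        Function.Injective (fun y : SkewMonoidAlgebra A G => fun x : SkewMonoidAlgebra A G => φ (x * y)) ∧
        ∀ ψ : SkewMonoidAlgebra A G →ₗ[R] R, ∃ y : SkewMonoidAlgebra A G, ∀ x, ψ x = φ (x * y) := by
  classical
  let φ : SkewMonoidAlgebra A G →ₗ[R] R :=
    { toFun := fun x => τ (x.coeff 1)
      map_add' := fun x y => by rw [SkewMonoidAlgebra.coeff_add, Finsupp.add_apply, map_add]
      map_smul' := fun r x => by rw [SkewMonoidAlgebra.coeff_smul, Finsupp.smul_apply, map_smul, RingHom.id_apply] }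
  have hss : ∀ (g h : G) (b c : A), φ (SkewMonoidAlgebra.single g b * SkewMonoidAlgebra.single h c) =
      if g * h = 1 then τ (b * g • c) else 0 := by
    intro g h b c
    change τ ((SkewMonoidAlgebra.single g b * SkewMonoidAlgebra.single h c).coeff 1) = _
    rw [SkewMonoidAlgebra.mul_def, SkewMonoidAlgebra.sum_single_index (by simp),
      SkewMonoidAlgebra.sum_single_index (by simp), SkewMonoidAlgebra.coeff_single, Finsupp.single_apply]
    split_ifs <;> simp
  have hsy : ∀ (g : G) (b : A) (y : SkewMonoidAlgebra A G),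
      φ (SkewMonoidAlgebra.single g b * y) = τ (b * g • y.coeff g⁻¹) := by
    intro g b y
    induction y using SkewMonoidAlgebra.induction_on with
    | zero => simp
    | single h c =>
      rw [hss, SkewMonoidAlgebra.coeff_single, Finsupp.single_apply]
      by_cases hh : h = g⁻¹
      · subst hh; simp
      · rw [if_neg (fun h' => hh (eq_inv_of_mul_eq_one_right h')), if_neg hh]; simp
    | add y z hy hz => rw [mul_add, map_add, hy, hz, SkewMonoidAlgebra.coeff_add, Finsupp.add_apply, smul_add, mul_add, map_add]
  refine ⟨φ, fun x y => ?_, fun y y' h => SkewMonoidAlgebra.ext fun g => ?_, fun ψ => ?_⟩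
  · induction x using SkewMonoidAlgebra.induction_on with
    | zero => simp
    | add a b ha hb => rw [add_mul, mul_add, map_add, map_add, ha, hb]
    | single g b =>
      induction y using SkewMonoidAlgebra.induction_on with
      | zero => simp
      | add a c ha hc => rw [add_mul, mul_add, map_add, map_add, ha, hc]
      | single h c =>
        rw [hss, hss]
        by_cases hgh : g * h = 1
        · rw [if_pos hgh, if_pos (mul_eq_one_comm.1 hgh), ← hinv g (c * h • b), smul_mul', smul_smul, hgh, one_smul,
            mul_comm]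
        · rw [if_neg hgh, if_neg (fun h' => hgh (mul_eq_one_comm.1 h'))]
  · have h1 : ∀ b, τ (b * g⁻¹ • y.coeff g) = τ (b * g⁻¹ • y'.coeff g) := fun b => by
      have := congrFun h (SkewMonoidAlgebra.single g⁻¹ b)
      simp only [hsy, inv_inv] at this
      exact this
    obtain ⟨d, -, hd⟩ := hperf (τ ∘ₗ LinearMap.mulRight R (g⁻¹ • y'.coeff g))
    exact smul_left_cancel g⁻¹ ((hd _ h1).trans (hd _ fun b => rfl).symm)
  · let sl : G → A →ₗ[R] SkewMonoidAlgebra A G := fun g =>
      { toFun := SkewMonoidAlgebra.single g
        map_add' := fun a b => SkewMonoidAlgebra.single_add g a b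
        map_smul' := fun r b => (SkewMonoidAlgebra.smul_single r g b).symm }
    choose d hd using fun g => (hperf (ψ ∘ₗ sl g)).exists
    let y : SkewMonoidAlgebra A G := ⟨Finsupp.equivFunOnFinite.symm fun h => h • d h⁻¹⟩
    refine ⟨y, fun x => ?_⟩
    induction x using SkewMonoidAlgebra.induction_on with
    | zero => simp
    | single g b =>
      rw [hsy]
      change _ = τ (b * g • ((g⁻¹) • d g⁻¹⁻¹))
      rw [inv_inv, smul_inv_smul]
      exact (hd g b).symm
    | add a b ha hb => rw [map_add, add_mul, map_add, ha, hb]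

theorem exists_trace {R : Type u} [CommRing R] [IsLocalRing R] [IsDomain R] (p : ℕ) [Fact p.Prime] [CharP R p] {n : ℕ}
    (a c : Fin n → R) (ham : ∀ i, a i ∈ maximalIdeal R) (hcm : ∀ i, c i ∈ maximalIdeal R) :
    ∃ τ : (MvPolynomial (Fin n) R ⧸ relI p (fun i => a i ^ (p - 1)) c) →ₗ[R] R,
      (∀ θ : (MvPolynomial (Fin n) R ⧸ relI p (fun i => a i ^ (p - 1)) c) →ₐ[R]
          (MvPolynomial (Fin n) R ⧸ relI p (fun i => a i ^ (p - 1)) c),
        (∀ i, θ (var p _ c i) = var p _ c i + algebraMap R _ (a i)) → ∀ t, τ (θ t) = τ t) ∧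
      ∀ ψ : (MvPolynomial (Fin n) R ⧸ relI p (fun i => a i ^ (p - 1)) c) →ₗ[R] R,
        ∃! d, ∀ b, τ (b * d) = ψ b := by
  classical
  haveI : NeZero p := ⟨(Fact.out : p.Prime).ne_zero⟩
  let A := MvPolynomial (Fin n) R ⧸ relI p (fun i => a i ^ (p - 1)) c
  let u : Fin n → A := var p _ c
  let top : Fin n → Fin p := fun _ => Fin.rev 0
  let L := LinearEquiv.ofBijective _ (lc_bijective (p := p) a c)
  let τ : A →ₗ[R] R := LinearMap.proj top ∘ₗ L.symm.toLinearMap
  have hτlc : ∀ co : (Fin n → Fin p) → R, τ (lc u co) = co top := fun co => congrFun (L.symm_apply_apply co) top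
  refine ⟨τ, fun θ hθ t => ?_, ?_⟩
  · -- invariance
    have key : ∀ s : Finset (Fin n), ∃ θs : A →ₐ[R] A,
        (∀ i, θs (u i) = u i + if i ∈ s then algebraMap R A (a i) else 0) ∧ ∀ t, τ (θs t) = τ t := by
      intro s
      induction s using Finset.induction_on with
      | empty => exact ⟨AlgHom.id R A, fun i => by simp, fun t => rfl⟩
      | insert j s hj ih =>
        obtain ⟨θs, h1, h2⟩ := ih
        obtain ⟨θj, hθj⟩ := exists_shiftHom (p := p) a c j
        refine ⟨θj.comp θs, fun i => ?_, fun t => ?_⟩
        · change θj (θs (u i)) = _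
          rw [h1, map_add, show θj (u i) = u i + if i = j then algebraMap R A (a j) else 0 from hθj i]
          by_cases hij : i = j
          · subst hij
            rw [if_neg hj, map_zero, if_pos rfl, if_pos (Finset.mem_insert_self _ _), add_zero]
          · rw [if_neg hij, add_zero]
            by_cases hi : i ∈ s
            · rw [if_pos hi, if_pos (Finset.mem_insert_of_mem hi), θj.commutes]
            · rw [if_neg hi, if_neg (by simp [hij, hi]), map_zero]
        · change τ (θj (θs t)) = _
          obtain ⟨co, hco⟩ := (lc_bijective (p := p) a c).2 (θs t)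
          rw [← h2 t, ← hco]
          have h3 := algHom_lc_sub (p := p) u j (a j) θj hθj co
          rw [sub_eq_iff_eq_add] at h3
          rw [h3, map_add, hτlc (shift j (a j) co), add_eq_right]
          refine Finset.sum_eq_zero fun d _ => if_neg ?_
          simp only [top, Fin.val_rev, Fin.val_zero, not_lt]
          have := d.2
          omega
    obtain ⟨θs, h1, h2⟩ := key Finset.univ
    have : θ = θs := AlgHom.ext_of_adjoin_eq_top (adjoin_var _ c) (by
      rintro _ ⟨i, rfl⟩
      exact (hθ i).trans ((h1 i).trans (by rw [if_pos (Finset.mem_univ i)])).symm)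
    rw [this]; exact h2 t
  · -- perfect pairing
    let M : Matrix (Fin n → Fin p) (Fin n → Fin p) R := fun e f => τ (mon u e * mon u f)
    have hmem : ∀ z ∈ (maximalIdeal R).map (algebraMap R A), τ z ∈ maximalIdeal R := by
      intro z hz
      rw [← Submodule.restrictScalars_mem R, ← Ideal.smul_top_eq_map] at hz
      refine Submodule.smul_induction_on hz (fun r hr w _ => ?_) fun x y hx hy => by
        rw [map_add]; exact add_mem hx hy
      rw [map_smul, smul_eq_mul]
      exact Ideal.mul_mem_right _ _ hr
    have hM : M.map (residue R) = Matrix.of fun e f => if (fun i => Fin.rev (e i)) = f then 1 else 0 := by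
      ext e f
      rw [Matrix.map_apply, Matrix.of_apply]
      by_cases hlt : ∀ i, (e i : ℕ) + f i < p
      · let g : Fin n → Fin p := fun i => ⟨e i + f i, hlt i⟩
        have hg : mon u e * mon u f = lc (R := R) u (Pi.single g (1 : R)) := by
          rw [lc_single, map_one, one_mul]
          simp only [mon, g, ← Finset.prod_mul_distrib, ← pow_add]
        simp only [M, hg, hτlc]
        rw [Pi.single_apply]
        have hiff : top = g ↔ (fun i => Fin.rev (e i)) = f := by
          simp only [funext_iff, top, g, Fin.ext_iff, Fin.val_rev, Fin.val_zero]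
          refine forall_congr' fun i => ?_
          have := hlt i; have := (e i).2; omega
        by_cases hh : top = g
        · rw [if_pos hh, if_pos (hiff.1 hh), map_one]
        · rw [if_neg hh, if_neg (fun h' => hh (hiff.2 h')), map_zero]
      · push Not at hlt
        obtain ⟨i, hi⟩ := hlt
        rw [if_neg fun h => by
          have := congrArg Fin.val (congrFun h i)
          simp only [Fin.val_rev] at this
          have := (e i).2
          omega, residue_eq_zero_iff]
        refine hmem _ ?_
        rw [mon_eq u e i, mon_eq u f i, mul_mul_mul_comm, ← pow_add, ← Nat.add_sub_cancel' hi, pow_add, mul_assoc]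
        refine Ideal.mul_mem_right _ _ ?_
        rw [show u i ^ p = _ from var_pow (p := p) _ c i]
        exact add_mem (Ideal.mul_mem_right _ _ (Ideal.mem_map_of_mem _ (Ideal.pow_mem_of_mem _ (ham i) _
          (Nat.sub_pos_of_lt (Fact.out : p.Prime).one_lt)))) (Ideal.mem_map_of_mem _ (hcm i))
    have hu : IsUnit M.det := by
      have h1 : IsUnit (M.map (residue R)).det := by
        refine Matrix.isUnit_det_of_right_inverse (B := M.map (residue R)) ?_
        rw [hM]
        ext e g
        rw [Matrix.mul_apply, Finset.sum_eq_single (fun i => Fin.rev (e i))]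
        · simp only [Matrix.of_apply, Fin.rev_rev, if_true, one_mul, Matrix.one_apply]
        · intro f _ hf
          rw [Matrix.of_apply]
          rw [if_neg (Ne.symm hf), zero_mul]
        · simp
      rw [← RingHom.mapMatrix_apply, ← RingHom.map_det] at h1
      exact (isUnit_map_iff (residue R) M.det).1 h1
    have hbij : Function.Bijective (fun co => M.mulVec co) := by
      have hMu : IsUnit M := (Matrix.isUnit_iff_isUnit_det M).2 hu
      exact ⟨Matrix.mulVec_injective_of_isUnit hMu, Matrix.mulVec_surjective_iff_isUnit.2 hMu⟩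
    have hMv : ∀ co e, τ (mon u e * lc u co) = M.mulVec co e := by
      intro co e
      rw [lc_apply, Finset.mul_sum, map_sum]
      refine Finset.sum_congr rfl fun f _ => ?_
      rw [mul_left_comm, ← Algebra.smul_def, map_smul, smul_eq_mul, mul_comm]
    intro ψ
    obtain ⟨co, hco⟩ := hbij.2 (fun e => ψ (mon u e))
    have hext : ∀ d : A, (∀ e, τ (mon u e * d) = ψ (mon u e)) → ∀ b, τ (b * d) = ψ b := fun d h b => by
      obtain ⟨co', rfl⟩ := (lc_bijective (p := p) a c).2 b
      rw [lc_apply, Finset.sum_mul, map_sum, map_sum]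
      refine Finset.sum_congr rfl fun e _ => ?_
      rw [mul_assoc, ← Algebra.smul_def, map_smul, h, ← Algebra.smul_def, map_smul]
    refine ⟨lc u co, hext _ fun e => (hMv co e).trans (congrFun hco e), fun d hd => ?_⟩
    obtain ⟨co', rfl⟩ := (lc_bijective (p := p) a c).2 d
    refine congrArg _ (hbij.1 (funext fun e => ?_))
    exact (hMv co' e).symm.trans ((hd _).trans (congrFun hco e).symm)

open MvPolynomial in
/-- Let `k` be a field of characteristic `p > 0`, `R = k[[x_1, …, x_n]]`, `a_1, …, a_n ∈ R` with zero
constant term and not all zero, and `A = R[u_1, …, u_n] / (u_i ^ p - a_i ^ (p-1) u_i - x_i : i =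
1..n)`. Let `G` be a group of order `p` acting on `A` by `R`-algebra automorphisms, generated by an
element `g` acting by `u_i ↦ u_i + a_i`. Then the skew group ring `A∗G` (free `A`-module on `G` with
`(a g)(b h) = a g(b) gh`) is a symmetric `R`-algebra: there is an `R`-linear form `φ : A∗G → R` with
`φ(xy) = φ(yx)` for all `x, y`, such that `y ↦ (x ↦ φ(x y))` is injective and reaches every
`R`-linear form on `A∗G` (so `Hom_R(A∗G, R) ≅ A∗G` as bimodules). -/
theorem result
    (p : ℕ) [Fact p.Prime] (k : Type u) [Field k] [CharP k p] (n : ℕ)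
    (a : Fin n → MvPowerSeries (Fin n) k)
    (ham : ∀ i, MvPowerSeries.constantCoeff (a i) = 0) (hne : ∃ i, a i ≠ 0) :
    let R := MvPowerSeries (Fin n) k
    let I : Ideal (MvPolynomial (Fin n) R) :=
      Ideal.span (Set.range fun i : Fin n =>
        X i ^ p - C (a i ^ (p - 1)) * X i - C (MvPowerSeries.X i))
    let A := MvPolynomial (Fin n) R ⧸ I
    ∀ (G : Type v) [Group G] [Finite G] [MulSemiringAction G A] [SMulCommClass G R A]
      (g : G), Nat.card G = p → (∀ h : G, h ∈ Subgroup.zpowers g) →
      (∀ i, g • (Ideal.Quotient.mk I (X i)) = Ideal.Quotient.mk I (X i) + algebraMap R A (a i)) →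
      ∃ φ : SkewMonoidAlgebra A G →ₗ[R] R,
        (∀ x y : SkewMonoidAlgebra A G, φ (x * y) = φ (y * x)) ∧
        Function.Injective (fun y : SkewMonoidAlgebra A G => fun x : SkewMonoidAlgebra A G => φ (x * y)) ∧
        ∀ ψ : SkewMonoidAlgebra A G →ₗ[R] R, ∃ y : SkewMonoidAlgebra A G, ∀ x, ψ x = φ (x * y) := by
  intro R I A G _ _ _ _ g hG hgen hg
  haveI : CharP R p := charP_ps (p := p) (k := k) (n := n)
  haveI : IsRegularLocalRing R := PSLoc.isRegularLocalRing k n
  haveI : IsDomain R := RegLoc.isDomain R
  obtain ⟨τ, hinv, hperf⟩ := exists_trace p a (MvPowerSeries.X : Fin n → R) (fun i => mem_max_of_constantCoeff (ham i))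
    (fun i => mem_max_of_constantCoeff (MvPowerSeries.constantCoeff_X i))
  refine symmetric_of_trace τ (fun h t => ?_) hperf
  have hg' : ∀ t, τ (g • t) = τ t := fun t => hinv (MulSemiringAction.toAlgHom R A g) hg t
  obtain ⟨m, rfl⟩ := mem_powers_iff_mem_zpowers.2 (hgen h)
  change τ (g ^ m • t) = τ t
  induction m generalizing t with
  | zero => rw [pow_zero, one_smul]
  | succ m ih => rw [pow_succ', mul_smul, hg', ih]

end Groth.Agent.S15805
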