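import Groth.Statements.S15806
import Mathlib.RingTheory.Ideal.AssociatedPrime.Finiteness
import Mathlib.RingTheory.Ideal.AssociatedPrime.Localization

set_option autoImplicit false
universe u
open CategoryTheory AlgebraicGeometry
open WildQuot

namespace Groth.Agent.S15806

theorem eq_zero_of_flat (R M : Type u) [CommRing R] [IsNoetherianRing R] [CommRing M] [Algebra R M]
    [Module.Flat R M] (m : M)
    (h : ∀ P ∈ associatedPrimes R R, ∃ g ∉ P, algebraMap R M g * m = 0) : m = 0 := by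
  let I : Ideal R := Submodule.comap (Algebra.linearMap R M)
    (LinearMap.ker (LinearMap.mulRight R m))
  have hI : ∀ g : R, g ∈ I ↔ algebraMap R M g * m = 0 := fun g => by simp [I]
  by_cases hsub : (I : Set R) ⊆ ⋃ P ∈ associatedPrimes R R, (P : Set R)
  · have hfin := associatedPrimes.finite R R
    obtain ⟨P, hP, hIP⟩ := (Ideal.subset_union_prime (s := hfin.toFinset) (f := fun P => P) ⊤ ⊤
      (fun i hi _ _ => ((hfin.mem_toFinset).mp hi).isPrime)).mp (by simpa using hsub)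
    obtain ⟨g, hg, hgm⟩ := h P (hfin.mem_toFinset.mp hP)
    exact absurd (hIP ((hI g).mpr hgm)) hg
  · obtain ⟨r, hr, hr'⟩ := Set.not_subset.mp hsub
    rw [biUnion_associatedPrimes_eq_compl_nonZeroDivisors, Set.notMem_compl_iff] at hr'
    have hreg : IsSMulRegular R r :=
      isSMulRegular_iff_right_eq_zero_of_smul.mpr fun x hx =>
        (mem_nonZeroDivisors_iff.mp hr').1 x (by simpa using hx)
    exact isSMulRegular_iff_right_eq_zero_of_smul.mp (hreg.of_flat (S := M)) m ((hI r).mp hr)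

open AlgebraicGeometry CategoryTheory in
theorem appLE_eq (S G₁ G₂ : Scheme.{u}) [IsLocallyNoetherian S] (f₁ : G₁ ⟶ S) [Flat f₁]
    (V : S.Opens) (hV : IsAffineOpen V) (W : G₁.Opens) (hW : IsAffineOpen W) (hWV : W ≤ f₁ ⁻¹ᵁ V)
    (U : S.Opens) (hU : ∀ s : S, IsLocalRing.maximalIdeal (S.presheaf.stalk s) ∈
        associatedPrimes (S.presheaf.stalk s) (S.presheaf.stalk s) → s ∈ U)
    (W₂ : G₂.Opens) (hW₂ : IsAffineOpen W₂) (φ ψ : G₁ ⟶ G₂) (eφ : W ≤ φ ⁻¹ᵁ W₂)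
    (eψ : W ≤ ψ ⁻¹ᵁ W₂) (h : (f₁ ⁻¹ᵁ U).ι ≫ φ = (f₁ ⁻¹ᵁ U).ι ≫ ψ) :
    φ.appLE W₂ W eφ = ψ.appLE W₂ W eψ := by
  ext a
  rw [← sub_eq_zero]
  haveI : IsNoetherianRing Γ(S, V) := IsLocallyNoetherian.component_noetherian ⟨V, hV⟩
  letI := (f₁.appLE V W hWV).hom.toAlgebra
  haveI : Module.Flat Γ(S, V) Γ(G₁, W) := f₁.flat_appLE hV hW hWV
  refine eq_zero_of_flat Γ(S, V) Γ(G₁, W) _ fun P hP => ?_
  haveI := hP.isPrime
  have hsV : hV.fromSpec ⟨P, hP.isPrime⟩ ∈ V :=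
    hV.range_fromSpec.subset ⟨⟨P, hP.isPrime⟩, rfl⟩
  have hsU : hV.fromSpec ⟨P, hP.isPrime⟩ ∈ U := by
    refine hU _ ?_
    letI := TopCat.Presheaf.algebra_section_stalk S.presheaf
      (⟨hV.fromSpec ⟨P, hP.isPrime⟩, hsV⟩ : V)
    haveI hl : IsLocalization.AtPrime (S.presheaf.stalk (hV.fromSpec ⟨P, hP.isPrime⟩)) P :=
      hV.isLocalization_stalk' ⟨P, hP.isPrime⟩ hsV
    haveI : IsLocalizedModule P.primeCompl
        (Algebra.linearMap Γ(S, V) (S.presheaf.stalk (hV.fromSpec ⟨P, hP.isPrime⟩))) :=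
      (isLocalizedModule_iff_isLocalization' P.primeCompl _).mpr hl
    refine Module.associatedPrimes.mem_associatedPrimes_of_comap_mem_associatedPrimes_of_isLocalizedModule
      P.primeCompl (Algebra.linearMap Γ(S, V) (S.presheaf.stalk (hV.fromSpec ⟨P, hP.isPrime⟩))) _ ?_
    exact (congrArg (· ∈ associatedPrimes Γ(S, V) Γ(S, V)) (IsLocalization.AtPrime.comap_maximalIdeal
      (S.presheaf.stalk (hV.fromSpec ⟨P, hP.isPrime⟩)) P)).mpr hP
  obtain ⟨g, hgU, hgs⟩ := hV.exists_basicOpen_le ⟨_, hsU⟩ hsV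
  have hgP : g ∉ P := by
    have : (⟨P, hP.isPrime⟩ : PrimeSpectrum Γ(S, V)) ∈ hV.fromSpec ⁻¹ᵁ S.basicOpen g := hgs
    rw [hV.fromSpec_preimage_basicOpen] at this
    exact this
  set gb := f₁.appLE V W hWV g with hgb
  have hle : G₁.basicOpen gb ≤ f₁ ⁻¹ᵁ U := by
    rw [hgb, Scheme.basicOpen_appLE]
    exact inf_le_right.trans (f₁.preimage_mono hgU)
  have hW' := hW.basicOpen gb
  have e := G₁.basicOpen_le gb
  have key : φ.appLE W₂ (G₁.basicOpen gb) (e.trans eφ) =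
      ψ.appLE W₂ (G₁.basicOpen gb) (e.trans eψ) := by
    refine Spec.map_injective ?_
    rw [← cancel_mono hW₂.fromSpec, hW₂.SpecMap_appLE_fromSpec φ hW',
      hW₂.SpecMap_appLE_fromSpec ψ hW', ← hW'.isoSpec_inv_ι, ← G₁.homOfLE_ι hle]
    simp only [Category.assoc, h]
  rw [← Scheme.Hom.appLE_map φ eφ (homOfLE e).op, ← Scheme.Hom.appLE_map ψ eψ (homOfLE e).op] at key
  have key' := congr($key a)
  haveI := hW.isLocalization_basicOpen gb
  simp only [CommRingCat.comp_apply] at key'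
  obtain ⟨⟨c, n, rfl⟩, hc⟩ := (IsLocalization.map_eq_zero_iff (Submonoid.powers gb)
    Γ(G₁, G₁.basicOpen gb) _).mp
    (show algebraMap Γ(G₁, W) Γ(G₁, G₁.basicOpen gb) (φ.appLE W₂ W eφ a - ψ.appLE W₂ W eψ a) = 0 by
      rw [map_sub, sub_eq_zero]; exact key')
  refine ⟨g ^ n, fun hm => hgP (hP.isPrime.mem_of_pow_mem n hm), ?_⟩
  rw [map_pow]
  exact hc

open AlgebraicGeometry CategoryTheory in
theorem eq_of_restrict (S G₁ G₂ : Scheme.{u}) [IsLocallyNoetherian S] (f₁ : G₁ ⟶ S)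
    (f₂ : G₂ ⟶ S) [IsAffineHom f₁] [Flat f₁] [IsAffineHom f₂]
    (U : S.Opens) (hU : ∀ s : S, IsLocalRing.maximalIdeal (S.presheaf.stalk s) ∈
        associatedPrimes (S.presheaf.stalk s) (S.presheaf.stalk s) → s ∈ U)
    (φ ψ : G₁ ⟶ G₂) (hφ : φ ≫ f₂ = f₁) (hψ : ψ ≫ f₂ = f₁)
    (h : (f₁ ⁻¹ᵁ U).ι ≫ φ = (f₁ ⁻¹ᵁ U).ι ≫ ψ) : φ = ψ := by
  refine Scheme.Cover.hom_ext (G₁.openCoverOfIsOpenCover (fun V : S.affineOpens => f₁ ⁻¹ᵁ V.1)
    (TopologicalSpace.IsOpenCover.mk (by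
      refine top_le_iff.mp ?_
      rw [← Scheme.Hom.preimage_top (f := f₁), ← iSup_affineOpens_eq_top S,
        Scheme.Hom.preimage_iSup]))) _ _ fun V => ?_
  change (f₁ ⁻¹ᵁ V.1).ι ≫ φ = (f₁ ⁻¹ᵁ V.1).ι ≫ ψ
  have hW : IsAffineOpen (f₁ ⁻¹ᵁ V.1) := V.2.preimage f₁
  have hW₂ : IsAffineOpen (f₂ ⁻¹ᵁ V.1) := V.2.preimage f₂
  have eφ : f₁ ⁻¹ᵁ V.1 ≤ φ ⁻¹ᵁ (f₂ ⁻¹ᵁ V.1) := by rw [← Scheme.Hom.comp_preimage, hφ]
  have eψ : f₁ ⁻¹ᵁ V.1 ≤ ψ ⁻¹ᵁ (f₂ ⁻¹ᵁ V.1) := by rw [← Scheme.Hom.comp_preimage, hψ]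
  rw [← hW.isoSpec_hom_fromSpec, Category.assoc, Category.assoc,
    ← hW₂.SpecMap_appLE_fromSpec φ hW eφ, ← hW₂.SpecMap_appLE_fromSpec ψ hW eψ,
    appLE_eq S G₁ G₂ f₁ V.1 V.2 _ hW le_rfl U hU _ hW₂ φ ψ eφ eψ h]

/-- Let `S` be a Noetherian scheme, `G_1 → S` and `G_2 → S` finite flat morphisms, and `U ⊆ S` an open
subset containing every associated point of `S`, i.e. every point whose local ring has the maximal
ideal as an associated prime (for `S` Noetherian this says exactly that `U` is dense and contains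
all points at which `S` does not satisfy Serre's condition `S_1`, which is the printed hypothesis).
If two `S`-morphisms `φ, ψ : G_1 → G_2` agree on the preimage of `U`, then `φ = ψ`. -/
theorem result
    (S G₁ G₂ : Scheme.{u}) [AlgebraicGeometry.IsNoetherian S] (f₁ : G₁ ⟶ S) (f₂ : G₂ ⟶ S)
    [AlgebraicGeometry.IsFinite f₁] [AlgebraicGeometry.Flat f₁]
    [AlgebraicGeometry.IsFinite f₂] [AlgebraicGeometry.Flat f₂]
    (U : S.Opens)
    (hU : ∀ s : S, IsLocalRing.maximalIdeal (S.presheaf.stalk s) ∈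
        associatedPrimes (S.presheaf.stalk s) (S.presheaf.stalk s) → s ∈ U)
    (φ ψ : G₁ ⟶ G₂) (hφ : φ ≫ f₂ = f₁) (hψ : ψ ≫ f₂ = f₁)
    (h : (f₁ ⁻¹ᵁ U).ι ≫ φ = (f₁ ⁻¹ᵁ U).ι ≫ ψ) : φ = ψ := by
  exact eq_of_restrict S G₁ G₂ f₁ f₂ U hU φ ψ hφ hψ h

end Groth.Agent.S15806
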