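import Groth.Statements.S15807
import Groth.Agent.ASPurity.PSFamily
import Groth.Agent.ASPurity.Minor

set_option autoImplicit false
universe u
open WildQuot

namespace Groth.Agent.S15807

open IsLocalRing ASPurity.Family

theorem ne_zero_of_coprime {k : Type u} [Field k] {n : ℕ} (hn : 2 ≤ n) {a : Fin n → MvPowerSeries (Fin n) k}
    (ham : ∀ i, MvPowerSeries.constantCoeff (a i) = 0) (hcop : ∀ i j, i ≠ j → IsRelPrime (a i) (a j)) (i : Fin n) :
    a i ≠ 0 := by
  intro h
  haveI : Nontrivial (Fin n) := Fin.nontrivial_iff_two_le.2 hn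
  obtain ⟨j, hj⟩ := exists_ne i
  have := hcop j i hj (dvd_refl (a j)) (h ▸ dvd_zero _)
  exact (mem_max_of_constantCoeff (ham j)) this

open MvPolynomial in
/-- Let `k` be a field of characteristic `p > 0`, `n ≥ 3`, `R = k[[x_1, …, x_n]]`, `a_1, …, a_n ∈ R`
with zero constant term and pairwise coprime, `μ ∈ R` nonzero and coprime to each `a_i`, and `A =
R[u_1, …, u_n] / (u_i ^ p - (μ a_i) ^ (p-1) u_i - x_i : i = 1..n)`. Fix an index `i₀`. Then the
`R`-algebra map `R[Z_j : j ≠ i₀] → A` sending `Z_j` to the minor element `z_j = a_{i₀} u_j - a_j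
u_{i₀}` has kernel generated by the polynomials `Z_j ^ p - (μ a_{i₀} a_j) ^ (p-1) Z_j - (a_{i₀} ^ p
x_j - a_j ^ p x_{i₀})`; i.e. the complete intersection `R[Z_j] /` (these relations) maps
isomorphically onto the subring of `A` generated over `R` by the minor elements through `u_{i₀}`.
(The published statement uses the first index for `i₀` and allows `n ≥ 2`; this row allows any index
`i₀` and takes `n ≥ 3`.) -/
theorem result
    (p : ℕ) [Fact p.Prime] (k : Type u) [Field k] [CharP k p] (n : ℕ) (hn : 3 ≤ n)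
    (a : Fin n → MvPowerSeries (Fin n) k) (μ : MvPowerSeries (Fin n) k)
    (ham : ∀ i, MvPowerSeries.constantCoeff (a i) = 0) (hcop : ∀ i j, i ≠ j → IsRelPrime (a i) (a j))
    (hμ : μ ≠ 0) (hμa : ∀ i, IsRelPrime μ (a i)) (i₀ : Fin n) :
    let R := MvPowerSeries (Fin n) k
    let I : Ideal (MvPolynomial (Fin n) R) :=
      Ideal.span (Set.range fun i : Fin n =>
        X i ^ p - C ((μ * a i) ^ (p - 1)) * X i - C (MvPowerSeries.X i))
    let A := MvPolynomial (Fin n) R ⧸ I
    let u : Fin n → A := fun i => Ideal.Quotient.mk I (X i)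
    let z : {j : Fin n // j ≠ i₀} → A := fun j =>
      algebraMap R A (a i₀) * u j.1 - algebraMap R A (a j.1) * u i₀
    let r : {j : Fin n // j ≠ i₀} → MvPolynomial {j : Fin n // j ≠ i₀} R := fun j =>
      X j ^ p - C ((μ * a i₀ * a j.1) ^ (p - 1)) * X j
        - C (a i₀ ^ p * MvPowerSeries.X j.1 - a j.1 ^ p * MvPowerSeries.X i₀)
    RingHom.ker (MvPolynomial.aeval z : MvPolynomial {j : Fin n // j ≠ i₀} R →ₐ[R] A) =
      Ideal.span (Set.range r) := by
  intro R I A u z r
  haveI : CharP R p := charP_ps (p := p) (k := k) (n := n)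
  haveI : IsRegularLocalRing R := PSLoc.isRegularLocalRing k n
  haveI : IsDomain R := RegLoc.isDomain R
  obtain ⟨φ, hφ, hinj⟩ := exists_minorHom (p := p) μ a (MvPowerSeries.X : Fin n → R) i₀ hμ
    (ne_zero_of_coprime (le_trans (by norm_num) hn) ham hcop)
  have e : (MvPolynomial.aeval z : MvPolynomial {j : Fin n // j ≠ i₀} R →ₐ[R] A) =
      φ.comp (Ideal.Quotient.mkₐ R _) := MvPolynomial.algHom_ext fun j => by
    rw [MvPolynomial.aeval_X]; exact (hφ j).symm
  ext y
  rw [RingHom.mem_ker, e]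
  change φ (Ideal.Quotient.mk _ y) = 0 ↔ _
  rw [map_eq_zero_iff φ hinj, Ideal.Quotient.eq_zero_iff_mem]

end Groth.Agent.S15807
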