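import Groth.Statements.S15808
import Groth.Agent.ASPurity.PSFamily
import Groth.Agent.ASPurity.Minor
import Groth.Agent.S9829

set_option autoImplicit false
universe u
open WildQuot

namespace Groth.Agent.S15808

open IsLocalRing ASPurity.Family

theorem ne_zero_of_coprime {k : Type u} [Field k] {n : ℕ} (hn : 2 ≤ n) {a : Fin n → MvPowerSeries (Fin n) k}
    (ham : ∀ i, MvPowerSeries.constantCoeff (a i) = 0) (hcop : ∀ i j, i ≠ j → IsRelPrime (a i) (a j)) (i : Fin n) :
    a i ≠ 0 := by
  intro h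
  haveI : Nontrivial (Fin n) := Fin.nontrivial_iff_two_le.2 hn
  obtain ⟨j, hj⟩ := exists_ne i
  have := hcop j i hj (dvd_refl (a j)) (h ▸ dvd_zero _)
  exact (mem_max_of_constantCoeff (ham j)) this

theorem isIntegrallyClosed_away_of_fixed {B A : Type u} [CommRing B] [IsDomain B] [CommRing A] [IsDomain A]
    [IsIntegrallyClosed A] (φ : B →+* A) (hφ : Function.Injective φ) (θ : A →+* A) (hθ : ∀ b, θ (φ b) = φ b)
    (f : B) (hf : f ≠ 0) (hsat : ∀ y : A, θ y = y → ∃ N : ℕ, ∃ b : B, φ b = φ f ^ N * y) :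
    IsIntegrallyClosed (Localization.Away f) := by
  let L := FractionRing B
  have hle : Submonoid.powers f ≤ nonZeroDivisors B :=
    powers_le_nonZeroDivisors_of_noZeroDivisors hf
  letI : Algebra (Localization.Away f) L := (IsLocalization.lift (M := Submonoid.powers f) (g := algebraMap B L)
    fun y => IsLocalization.map_units L (⟨y, hle y.2⟩ : nonZeroDivisors B)).toAlgebra
  haveI : IsScalarTower B (Localization.Away f) L :=
    IsScalarTower.of_algebraMap_eq fun b => (IsLocalization.lift_eq _ b).symm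
  haveI : IsFractionRing (Localization.Away f) L :=
    IsFractionRing.isFractionRing_of_isDomain_of_isLocalization (Submonoid.powers f) _ L
  refine (isIntegrallyClosed_iff L).2 fun {x} hx => ?_
  obtain ⟨⟨m, hm⟩, hint⟩ := IsIntegral.exists_multiple_integral_of_isLocalization (Submonoid.powers f) x hx
  obtain ⟨e, rfl⟩ := hm
  obtain ⟨b1, b2, hb2, rfl⟩ := IsFractionRing.div_surjective (A := B) x
  have hb2' : φ b2 ≠ 0 := fun h => nonZeroDivisors.ne_zero hb2 (hφ (by rw [h, map_zero]))
  let ψ : L →+* FractionRing A :=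
    IsFractionRing.lift (g := (algebraMap A (FractionRing A)).comp φ) ((IsFractionRing.injective A _).comp hφ)
  have hψ : ∀ b, ψ (algebraMap B L b) = algebraMap A (FractionRing A) (φ b) := fun b => IsFractionRing.lift_algebraMap _ b
  obtain ⟨q, hq, hqx⟩ := hint
  have hintA : IsIntegral A (algebraMap A (FractionRing A) (φ (f ^ e) * φ b1) / algebraMap A (FractionRing A) (φ b2)) := by
    refine ⟨q.map φ, hq.map _, ?_⟩
    rw [Polynomial.eval₂_map]
    have h1 := congrArg ψ hqx
    rw [map_zero, Polynomial.hom_eval₂] at h1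
    have e1 : ψ.comp (algebraMap B L) = (algebraMap A (FractionRing A)).comp φ := RingHom.ext hψ
    rw [e1, Submonoid.smul_def, Algebra.smul_def, map_mul, map_div₀, hψ, hψ, hψ, ← mul_div_assoc, ← map_mul] at h1
    exact h1
  obtain ⟨y, hy⟩ := IsIntegrallyClosed.algebraMap_eq_of_integral hintA
  have hmul : y * φ b2 = φ (f ^ e) * φ b1 := by
    apply IsFractionRing.injective A (FractionRing A)
    rw [map_mul, hy, div_mul_cancel₀]
    exact fun h => hb2' (IsFractionRing.to_map_eq_zero_iff.1 h)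
  have hfix : θ y = y := mul_right_cancel₀ hb2' (by
    conv_lhs => rw [← hθ b2, ← map_mul, hmul, map_mul, hθ, hθ, ← hmul])
  obtain ⟨N, β, hβ⟩ := hsat y hfix
  have hkey : β * b2 = f ^ (N + e) * b1 := hφ (by
    rw [map_mul, map_mul, hβ, mul_assoc, hmul, map_pow, map_pow, pow_add, mul_assoc])
  have hu : IsUnit (algebraMap B (Localization.Away f) (f ^ (N + e))) :=
    IsLocalization.map_units _ (⟨f ^ (N + e), ⟨N + e, rfl⟩⟩ : Submonoid.powers f)
  refine ⟨algebraMap B _ β * ↑hu.unit⁻¹, ?_⟩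
  have hb : algebraMap B L b2 ≠ 0 := IsFractionRing.to_map_ne_zero_of_mem_nonZeroDivisors hb2
  rw [eq_div_iff hb, map_mul, ← IsScalarTower.algebraMap_apply]
  have h2 := congrArg (algebraMap B L) hkey
  rw [map_mul, map_mul, IsScalarTower.algebraMap_apply B (Localization.Away f) L (f ^ (N + e))] at h2
  rw [mul_comm (algebraMap B L β), mul_assoc, h2, ← mul_assoc, ← map_mul, IsUnit.val_inv_mul, map_one, one_mul]

theorem main (p : ℕ) [Fact p.Prime] {k : Type u} [Field k] [CharP k p] {n : ℕ} (hn : 2 ≤ n)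
    (a : Fin n → MvPowerSeries (Fin n) k) (μ : MvPowerSeries (Fin n) k)
    (ham : ∀ i, MvPowerSeries.constantCoeff (a i) = 0) (hcop : ∀ i j, i ≠ j → IsRelPrime (a i) (a j))
    (hμ : μ ≠ 0) (i₀ : Fin n)
    (B : Type u) [CommRing B] [Algebra (MvPowerSeries (Fin n) k) B]
    (eB : (MvPolynomial {j : Fin n // j ≠ i₀} (MvPowerSeries (Fin n) k) ⧸
      relI p (fun j : {j : Fin n // j ≠ i₀} => (μ * a i₀ * a j.1) ^ (p - 1))
        (fun j : {j : Fin n // j ≠ i₀} => a i₀ ^ p * MvPowerSeries.X j.1 - a j.1 ^ p * MvPowerSeries.X i₀))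
      ≃ₐ[MvPowerSeries (Fin n) k] B) :
    Module.Free (MvPowerSeries (Fin n) k) B ∧ Module.finrank (MvPowerSeries (Fin n) k) B = p ^ (n - 1) ∧ IsDomain B ∧
      IsIntegrallyClosed (Localization.Away (algebraMap (MvPowerSeries (Fin n) k) B (μ * a i₀))) := by
  haveI : CharP (MvPowerSeries (Fin n) k) p := charP_ps (p := p) (k := k) (n := n)
  haveI : IsRegularLocalRing (MvPowerSeries (Fin n) k) := PSLoc.isRegularLocalRing k n
  haveI : IsDomain (MvPowerSeries (Fin n) k) := RegLoc.isDomain _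
  have ha := ne_zero_of_coprime hn ham hcop
  obtain ⟨φ, hφ, hinj⟩ := exists_minorHom (p := p) μ a (MvPowerSeries.X : Fin n → MvPowerSeries (Fin n) k) i₀ hμ ha
  have hμam : ∀ i, MvPowerSeries.constantCoeff (μ * a i) = 0 := fun i => by rw [map_mul, ham i, mul_zero]
  haveI hreg := isRegularLocalRing (p := p) (fun i => μ * a i) hμam
  haveI hdA := isDomain (p := p) (fun i => μ * a i) hμam
  haveI := Groth.Agent.S9829.result (Ring p fun i => (μ * a i) ^ (p - 1))
  let φ' := φ.comp eB.symm.toAlgHom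
  have hinj' : Function.Injective φ' := hinj.comp eB.symm.injective
  haveI : IsDomain B := Function.Injective.isDomain φ'.toRingHom hinj'
  haveI := moduleFree (p := p) (R := MvPowerSeries (Fin n) k) (fun j : {j : Fin n // j ≠ i₀} => μ * a i₀ * a j.1)
    (fun j : {j : Fin n // j ≠ i₀} => a i₀ ^ p * MvPowerSeries.X j.1 - a j.1 ^ p * MvPowerSeries.X i₀)
  refine ⟨Module.Free.of_equiv eB.toLinearEquiv, ?_, inferInstance, ?_⟩
  · rw [← eB.toLinearEquiv.finrank_eq, finrank_eq (fun j : {j : Fin n // j ≠ i₀} => μ * a i₀ * a j.1),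
      Fintype.card_subtype_compl, Fintype.card_fin, Fintype.card_subtype_eq]
  · obtain ⟨θ, hθ⟩ := exists_lift (p := p) (fun i => (μ * a i) ^ (p - 1)) (MvPowerSeries.X : Fin n → MvPowerSeries (Fin n) k)
      (fun i => var p (fun i => (μ * a i) ^ (p - 1)) MvPowerSeries.X i +
        algebraMap _ (Ring p fun i => (μ * a i) ^ (p - 1)) (μ * a i)) (fun i => by
        haveI : CharP (Ring p fun i => (μ * a i) ^ (p - 1)) p :=
          charP_of_injective_algebraMap (algebraMap_injective (p := p) (fun i => μ * a i) MvPowerSeries.X) p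
        rw [add_pow_expChar, var_pow]
        obtain ⟨q, hq⟩ : ∃ q, p = q + 1 := ⟨p - 1, (Nat.sub_add_cancel (Fact.out : p.Prime).one_le).symm⟩
        simp only [map_pow, map_mul, hq, Nat.add_sub_cancel]
        ring)
    have hfix : ∀ z, θ (φ z) = φ z := fun z => DFunLike.congr_fun (AlgHom.ext_of_adjoin_eq_top
      (φ₁ := θ.comp φ) (φ₂ := φ) (adjoin_var _ _) (by
        rintro _ ⟨j, rfl⟩
        rw [AlgHom.comp_apply, hφ]; exact map_minor μ a MvPowerSeries.X i₀ θ hθ j)) z
    refine isIntegrallyClosed_away_of_fixed φ'.toRingHom hinj' θ.toRingHom (fun b => hfix (eB.symm b)) _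
      (fun h => mul_ne_zero hμ (ha i₀) (algebraMap_injective (p := p) (fun i => μ * a i) MvPowerSeries.X (by
        rw [map_zero, ← φ'.commutes, h, map_zero]))) fun y hy => ?_
    obtain ⟨N, hN⟩ := exists_pow_mul_mem_adjoin_of (A := Ring p fun i => (μ * a i) ^ (p - 1)) μ a MvPowerSeries.X i₀ hμ
      (ha i₀) (algebraMap_injective (p := p) (fun i => μ * a i) _) _ (adjoin_var (p := p) _ _)
      (var_pow (p := p) _ _ i₀) θ hθ hy
    have hmem : ∀ t ∈ Algebra.adjoin (MvPowerSeries (Fin n) k) (Set.range fun j : {j : Fin n // j ≠ i₀} =>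
        algebraMap _ (Ring p fun i => (μ * a i) ^ (p - 1)) (a i₀) * var p _ MvPowerSeries.X j.1 -
          algebraMap _ _ (a j.1) * var p (fun i => (μ * a i) ^ (p - 1)) MvPowerSeries.X i₀), t ∈ φ'.range := by
      intro t ht
      refine Algebra.adjoin_le (S := φ'.range) ?_ ht
      rintro _ ⟨j, rfl⟩
      exact ⟨eB (var p _ _ j), (congrArg φ (eB.symm_apply_apply _)).trans (hφ j)⟩
    obtain ⟨b, hb⟩ := hmem _ hN
    exact ⟨N, b, hb.trans (congrArg (fun w => w ^ N * y) (φ'.commutes (μ * a i₀)).symm)⟩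

open MvPolynomial in
/-- Let `k` be a field of characteristic `p > 0`, `n ≥ 2`, `R = k[[x_1, …, x_n]]`, `a_1, …, a_n ∈ R`
with zero constant term and pairwise coprime, `μ ∈ R` nonzero and coprime to each `a_i`; fix an
index `i₀` and let `B = R[Z_j : j ≠ i₀] / (Z_j ^ p - (μ a_{i₀} a_j) ^ (p-1) Z_j - (a_{i₀} ^ p x_j -
a_j ^ p x_{i₀}) : j ≠ i₀)`, the complete-intersection ring of the minor elements through `u_{i₀}`.
Then `B` is a free `R`-module of rank `p ^ (n-1)`, `B` is an integral domain, and the localisation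
`B[1/(μ a_{i₀})]` is integrally closed. (The published statement uses the first index for `i₀`; this
row allows any index.) -/
theorem result
    (p : ℕ) [Fact p.Prime] (k : Type u) [Field k] [CharP k p] (n : ℕ) (hn : 2 ≤ n)
    (a : Fin n → MvPowerSeries (Fin n) k) (μ : MvPowerSeries (Fin n) k)
    (ham : ∀ i, MvPowerSeries.constantCoeff (a i) = 0) (hcop : ∀ i j, i ≠ j → IsRelPrime (a i) (a j))
    (hμ : μ ≠ 0) (hμa : ∀ i, IsRelPrime μ (a i)) (i₀ : Fin n) :
    let R := MvPowerSeries (Fin n) k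
    let r : {j : Fin n // j ≠ i₀} → MvPolynomial {j : Fin n // j ≠ i₀} R := fun j =>
      X j ^ p - C ((μ * a i₀ * a j.1) ^ (p - 1)) * X j
        - C (a i₀ ^ p * MvPowerSeries.X j.1 - a j.1 ^ p * MvPowerSeries.X i₀)
    let B := MvPolynomial {j : Fin n // j ≠ i₀} R ⧸ Ideal.span (Set.range r)
    Module.Free R B ∧ Module.finrank R B = p ^ (n - 1) ∧ IsDomain B ∧
      IsIntegrallyClosed (Localization.Away (algebraMap R B (μ * a i₀))) := by
  intro R r B
  exact main p hn a μ ham hcop hμ i₀ B AlgEquiv.refl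

end Groth.Agent.S15808
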