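import Groth.Statements.S15809
import Groth.Agent.CodimOne.Scheme
-- import your own Groth.Agent.* helpers here

set_option autoImplicit false
universe u
open CategoryTheory MonoidalCategory CartesianMonoidalCategory AlgebraicGeometry Limits
open WildQuot

namespace Groth.Agent.S15809

/-- Let `S` be a Noetherian scheme, `G` a finite flat `S`-group scheme and `Y` a finite flat `S`-scheme
with an action of `G`; let `Ψ : G ×_S Y → Y ×_S Y` be `(g, y) ↦ (g y, y)`. Suppose that for every
point `s ∈ S` of codimension at most `1` (local ring of dimension `≤ 1`) the fibre `Y_s` is a torsor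
under `G_s`: it is nonempty and the base change of `Ψ` to `Spec κ(s)` is an isomorphism. Then `Y` is
a `G`-torsor: `Ψ` is an isomorphism and `Y → S` is surjective (so the finite flat cover `Y → S`
itself trivialises `Y`). -/
theorem result
    (S : Scheme.{u}) [AlgebraicGeometry.IsNoetherian S]
    (G Y : Over S) [GrpObj G]
    [AlgebraicGeometry.IsFinite G.hom] [AlgebraicGeometry.Flat G.hom]
    [AlgebraicGeometry.IsFinite Y.hom] [AlgebraicGeometry.Flat Y.hom]
    (a : AlgGrp.Action G Y)
    (hfib : ∀ s : S, ringKrullDim (S.presheaf.stalk s) ≤ 1 →
      s ∈ Set.range Y.hom.base ∧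
      IsIso (pullback.map (G ⊗ Y).hom (S.fromSpecResidueField s) (Y ⊗ Y).hom (S.fromSpecResidueField s)
        (CartesianMonoidalCategory.lift a.act (CartesianMonoidalCategory.snd G Y)).left
        (𝟙 _) (𝟙 S)
        ((Category.comp_id _).trans
          (Over.w (CartesianMonoidalCategory.lift a.act (CartesianMonoidalCategory.snd G Y))).symm)
        ((Category.comp_id _).trans (Category.id_comp _).symm))) :
    IsIso (CartesianMonoidalCategory.lift a.act (CartesianMonoidalCategory.snd G Y)).left ∧
      Function.Surjective Y.hom.base := by
  have key : IsIso (CartesianMonoidalCategory.lift a.act (CartesianMonoidalCategory.snd G Y)).left := by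
    haveI : AlgebraicGeometry.IsFinite (G ⊗ Y).hom := by
      change AlgebraicGeometry.IsFinite (pullback.fst G.hom Y.hom ≫ G.hom); infer_instance
    haveI : AlgebraicGeometry.Flat (G ⊗ Y).hom := by
      change AlgebraicGeometry.Flat (pullback.fst G.hom Y.hom ≫ G.hom); infer_instance
    haveI : AlgebraicGeometry.IsFinite (Y ⊗ Y).hom := by
      change AlgebraicGeometry.IsFinite (pullback.fst Y.hom Y.hom ≫ Y.hom); infer_instance
    haveI : AlgebraicGeometry.Flat (Y ⊗ Y).hom := by
      change AlgebraicGeometry.Flat (pullback.fst Y.hom Y.hom ≫ Y.hom); infer_instance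
    refine CodimOne.isIso_of_isoInCodimOne _ (CodimOne.isoInCodimOne_of_residueField _ fun s hs => ?_)
    set f := CartesianMonoidalCategory.lift a.act (CartesianMonoidalCategory.snd G Y)
    have heq : ((Over.pullback (S.fromSpecResidueField s)).map f).left =
        pullback.map (G ⊗ Y).hom (S.fromSpecResidueField s) (Y ⊗ Y).hom (S.fromSpecResidueField s)
          f.left (𝟙 _) (𝟙 S) ((Category.comp_id _).trans (Over.w f).symm)
          ((Category.comp_id _).trans (Category.id_comp _).symm) := by
      refine pullback.hom_ext ?_ ?_
      · change pullback.lift _ _ _ ≫ pullback.fst _ _ = _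
        rw [pullback.lift_fst, pullback.map, pullback.lift_fst]
      · change pullback.lift _ _ _ ≫ pullback.snd _ _ = _
        rw [pullback.lift_snd, pullback.map, pullback.lift_snd, Category.comp_id]
    haveI : IsIso ((Over.forget _).map ((Over.pullback (S.fromSpecResidueField s)).map f)) := by
      change IsIso ((Over.pullback (S.fromSpecResidueField s)).map f).left
      rw [heq]
      exact (hfib s hs).2
    exact isIso_of_reflects_iso _ (Over.forget _)
  refine ⟨key, fun s => ?_⟩
  obtain ⟨η, hη⟩ : ∃ η : S, IsGenericPoint η (irreducibleComponent s) :=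
    ⟨_, isIrreducible_irreducibleComponent.isGenericPoint_genericPoint isClosed_irreducibleComponent⟩
  have hmax : IsMax η := by
    intro y (hy : y ⤳ η)
    have h1 : irreducibleComponent s ⊆ closure {y} := by
      rw [← hη.def]
      exact closure_minimal (Set.singleton_subset_iff.mpr hy.mem_closure) isClosed_closure
    have h2 : closure {y} = irreducibleComponent s :=
      eq_irreducibleComponent isIrreducible_singleton.closure.isPreirreducible h1
    exact specializes_iff_mem_closure.mpr (by rw [hη.def, ← h2]; exact subset_closure rfl)
  have hdim : ringKrullDim (S.presheaf.stalk η) ≤ 1 := by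
    rw [ringKrullDim_stalk_eq_coheight, Order.coheight_eq_zero.mpr hmax]
    exact zero_le_one
  have hclosed : IsClosed (Set.range Y.hom.base) := Y.hom.isClosedMap.isClosed_range
  have hopen : IsOpen (Set.range Y.hom.base) := Y.hom.isOpenMap.isOpen_range
  have hs : η ⤳ s := hη.specializes mem_irreducibleComponent
  exact hs.mem_closed hclosed (hfib η hdim).1

end Groth.Agent.S15809
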