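import Groth.Statements.S15810
import Groth.Agent.ASPurity.PSFamily
import Groth.Agent.ASPurity.Minor
import Groth.Agent.S2821

set_option autoImplicit false
universe u
open WildQuot

namespace Groth.Agent.S15810

open IsLocalRing ASPurity.Family

theorem ne_zero_of_coprime {k : Type u} [Field k] {n : ℕ} (hn : 2 ≤ n) {a : Fin n → MvPowerSeries (Fin n) k}
    (ham : ∀ i, MvPowerSeries.constantCoeff (a i) = 0) (hcop : ∀ i j, i ≠ j → IsRelPrime (a i) (a j)) (i : Fin n) :
    a i ≠ 0 := by
  intro h
  haveI : Nontrivial (Fin n) := Fin.nontrivial_iff_two_le.2 hn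
  obtain ⟨j, hj⟩ := exists_ne i
  have := hcop j i hj (dvd_refl (a j)) (h ▸ dvd_zero _)
  exact (mem_max_of_constantCoeff (ham j)) this

section
variable {R A : Type u} [CommRing R] [CommRing A] [Algebra R A] {n : ℕ}

/-- `τ` shifts each `u j` by `v j`. -/
def Shifts (u : Fin n → A) (τ : A ≃ₐ[R] A) (v : Fin n → R) : Prop := ∀ j, τ (u j) = u j + algebraMap R A (v j)

theorem Shifts.list_prod (u : Fin n → A) :
    ∀ l : List ((A ≃ₐ[R] A) × (Fin n → R)), (∀ x ∈ l, Shifts u x.1 x.2) →
      Shifts u (l.map Prod.fst).prod (l.map Prod.snd).sum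
  | [], _ => fun j => by simp
  | x :: l, h => fun j => by
    rw [List.map_cons, List.prod_cons, List.map_cons, List.sum_cons, AlgEquiv.mul_apply,
      Shifts.list_prod u l (fun y hy => h y (List.mem_cons_of_mem _ hy)) j, map_add, x.1.commutes,
      h x List.mem_cons_self j, Pi.add_apply, map_add]
    ring

theorem Shifts.pow {u : Fin n → A} {τ : A ≃ₐ[R] A} {v : Fin n → R} (h : Shifts u τ v) :
    ∀ m : ℕ, Shifts u (τ ^ m) (m • v)
  | 0 => fun j => by simp
  | m + 1 => fun j => by
    rw [pow_succ', AlgEquiv.mul_apply, Shifts.pow h m j, map_add, h j, τ.commutes, succ_nsmul', Pi.add_apply, map_add]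
    ring

end

theorem general {R : Type u} [CommRing R] [IsDomain R] [UniqueFactorizationMonoid R] (p : ℕ) [Fact p.Prime]
    [CharP R p] {n : ℕ} (a xv : Fin n → R) (μ : R) (hμ : μ ≠ 0) (ha : ∀ i, a i ≠ 0)
    (hcop : ∀ i j, i ≠ j → IsRelPrime (a i) (a j)) (s : Fin n → ZMod p) (hs : s ≠ 0)
    {A : Type u} [CommRing A] [IsDomain A] [Algebra R A] (hinj : Function.Injective (algebraMap R A))
    (u : Fin n → A) (hgen : Algebra.adjoin R (Set.range u) = ⊤)
    (hrel : ∀ i, u i ^ p = algebraMap R A ((μ * a i) ^ (p - 1)) * u i + algebraMap R A (xv i))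
    (c : Fin n → R) (hc : ∀ i, c i = ZMod.castHom dvd_rfl R (s i))
    (σ : Fin n → (A ≃ₐ[R] A))
    (hσ : ∀ i j, σ i (u j) = u j + (if i = j then algebraMap R A (μ * a i) else 0)) :
    let αi : Fin n → R := fun i => ∏ j ∈ (Finset.univ.filter (fun j => s j ≠ 0)).erase i, a j
    let z : A := ∑ i ∈ Finset.univ.filter (fun i => s i ≠ 0), algebraMap R A (c i * αi i) * u i
    let f : Polynomial R := Polynomial.X ^ p
      - Polynomial.C ((μ * ∏ i ∈ Finset.univ.filter (fun i => s i ≠ 0), a i) ^ (p - 1)) * Polynomial.X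
      - Polynomial.C (∑ i ∈ Finset.univ.filter (fun i => s i ≠ 0), c i * αi i ^ p * xv i)
    (∀ t : A, (∀ ν : Fin n → ZMod p, ∑ i, ν i * s i = 0 →
        (List.ofFn (fun i : Fin n => σ i ^ (ν i).val)).prod t = t) ↔
      t ∈ (Polynomial.aeval z : Polynomial R →ₐ[R] A).range) ∧
    RingHom.ker (Polynomial.aeval z : Polynomial R →ₐ[R] A) = Ideal.span {f} := by
  classical
  intro αi z f
  set S := Finset.univ.filter (fun i => s i ≠ 0) with hS
  set α := ∏ i ∈ S, a i with hα
  have hp : 2 ≤ p := (Fact.out : p.Prime).two_le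
  haveI : NeZero p := ⟨(Fact.out : p.Prime).ne_zero⟩
  haveI : CharP A p := charP_of_injective_algebraMap hinj p
  have hαi0 : ∀ i, αi i ≠ 0 := fun i => Finset.prod_ne_zero_iff.2 fun j _ => ha j
  have hαmul : ∀ i ∈ S, αi i * a i = α := fun i hi => Finset.prod_erase_mul _ _ hi
  have hα0 : α ≠ 0 := Finset.prod_ne_zero_iff.2 fun j _ => ha j
  have hcast0 : ∀ m : ZMod p, m ≠ 0 → ZMod.castHom (dvd_refl p) R m ≠ 0 :=
    fun m hm => fun h => hm ((map_eq_zero_iff _ (ZMod.castHom_injective R)).1 h)
  have hc0 : ∀ i ∈ S, c i ≠ 0 := fun i hi => by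
    rw [hc]; exact hcast0 _ (Finset.mem_filter.1 hi).2
  have hcp : ∀ i, c i ^ p = c i := fun i => by rw [hc, ← map_pow, ZMod.pow_card]
  obtain ⟨q, hq⟩ : ∃ q, p = q + 1 := ⟨p - 1, (Nat.sub_add_cancel (Fact.out : p.Prime).one_le).symm⟩
  -- the equation of `z`
  have hzf : z ^ p = algebraMap R A ((μ * α) ^ (p - 1)) * z +
      algebraMap R A (∑ i ∈ S, c i * αi i ^ p * xv i) := by
    simp only [z]
    rw [sum_pow_char, Finset.mul_sum, map_sum, ← Finset.sum_add_distrib]
    refine Finset.sum_congr rfl fun i hi => ?_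
    rw [mul_pow, ← map_pow, mul_pow, hcp, hrel, ← hαmul i hi]
    simp only [map_mul, map_pow, hq, Nat.add_sub_cancel]
    ring
  -- shifts
  have hτ : ∀ ν : Fin n → ZMod p, Shifts u (List.ofFn fun i : Fin n => σ i ^ (ν i).val).prod
      (fun j => ZMod.castHom (dvd_refl p) R (ν j) * (μ * a j)) := by
    intro ν
    have hgood : ∀ i, Shifts u (σ i) (Pi.single i (μ * a i)) := fun i j => by
      rw [hσ]
      by_cases h : i = j
      · subst h; simp
      · rw [if_neg h, Pi.single_eq_of_ne (Ne.symm h), map_zero]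
    have h := Shifts.list_prod u (List.ofFn fun i : Fin n => (σ i ^ (ν i).val, (ν i).val • Pi.single i (μ * a i)))
      (fun x hx => by
        obtain ⟨i, rfl⟩ := List.mem_ofFn.1 hx
        exact (hgood i).pow _)
    rw [List.map_ofFn, List.map_ofFn, List.sum_ofFn] at h
    intro j
    beta_reduce
    rw [show ((ZMod.castHom (dvd_refl p) R (ν j)) * (μ * a j)) =
      (∑ i, (ν i).val • (Pi.single i (μ * a i) : Fin n → R)) j by
        rw [Finset.sum_apply, Finset.sum_eq_single j (fun b _ hb => by simp [Pi.single_eq_of_ne (Ne.symm hb)])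
          (by simp), Pi.smul_apply, Pi.single_eq_same, nsmul_eq_mul, ZMod.natCast_val, ZMod.castHom_apply]]
    exact h j
  have hτz : ∀ (ν : Fin n → ZMod p) (τ : A →ₐ[R] A),
      (∀ j, τ (u j) = u j + algebraMap R A (ZMod.castHom (dvd_refl p) R (ν j) * (μ * a j))) →
      τ z = z + algebraMap R A (ZMod.castHom (dvd_refl p) R (∑ i, ν i * s i) * (μ * α)) := by
    intro ν τ h
    have hsum : ∑ i, ν i * s i = ∑ i ∈ S, ν i * s i := (Finset.sum_filter_of_ne (p := fun i => s i ≠ 0) (fun i _ hi hsi => hi (by rw [hsi, mul_zero]))).symm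
    simp only [z]
    rw [map_sum, hsum, map_sum, Finset.sum_mul, map_sum, ← Finset.sum_add_distrib]
    refine Finset.sum_congr rfl fun i hi => ?_
    rw [map_mul, τ.commutes, h, ← hαmul i hi, hc i]
    simp only [map_mul]
    ring
  obtain ⟨i₁, hi₁⟩ : S.Nonempty := by
    obtain ⟨i, hi⟩ := Function.ne_iff.1 hs
    exact ⟨i, Finset.mem_filter.2 ⟨Finset.mem_univ _, hi⟩⟩
  -- independence of powers of `z`
  have hzinj : Function.Injective (lc (p := p) (R := R) (fun _ : Unit => z)) := by
    refine lc_injective _ hinj (fun _ => ZMod.castHom (dvd_refl p) R (s i₁) * (μ * α))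
      (fun _ => mul_ne_zero (hcast0 _ (Finset.mem_filter.1 hi₁).2) (mul_ne_zero hμ hα0))
      (fun _ => (σ i₁).toAlgHom) fun j i => ?_
    change σ i₁ z = z + if i = j then _ else 0
    rw [if_pos rfl]
    refine (hτz (Pi.single i₁ 1) (σ i₁).toAlgHom fun l => ?_).trans ?_
    · change σ i₁ (u l) = _
      rw [hσ]
      by_cases h : i₁ = l
      · subst h; simp
      · rw [if_neg h, Pi.single_eq_of_ne (Ne.symm h), map_zero, zero_mul, map_zero]
    · rw [Finset.sum_eq_single i₁ (fun b _ hb => by simp [Pi.single_eq_of_ne hb]) (by simp), Pi.single_eq_same, one_mul]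
  have hlow : ∀ r : Polynomial R, r.natDegree < p → Polynomial.aeval z r = 0 → r = 0 := by
    intro r hr hr0
    have := (injective_iff_map_eq_zero _).1 hzinj (fun e => r.coeff (e () : ℕ)) (by
      rw [lc_apply, ← hr0, Polynomial.aeval_eq_sum_range' hr, Finset.sum_range]
      refine (Fintype.sum_equiv (Equiv.funUnique Unit (Fin p)).symm _ _ fun d => ?_).symm
      simp [mon, Algebra.smul_def])
    ext m
    rw [Polynomial.coeff_zero]
    by_cases hm : m < p
    · exact congrFun this (fun _ => ⟨m, hm⟩)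
    · exact Polynomial.coeff_eq_zero_of_natDegree_lt (by omega)
  have hlin : (Polynomial.C ((μ * α) ^ (p - 1)) * Polynomial.X +
      Polynomial.C (∑ i ∈ S, c i * αi i ^ p * xv i)).degree < ((p : ℕ) : WithBot ℕ) :=
    lt_of_le_of_lt Polynomial.degree_linear_le (by exact_mod_cast hp)
  have hfeq : f = Polynomial.X ^ p - (Polynomial.C ((μ * α) ^ (p - 1)) * Polynomial.X +
      Polynomial.C (∑ i ∈ S, c i * αi i ^ p * xv i)) := by rw [← sub_sub]
  have hfm : f.Monic := hfeq ▸ Polynomial.monic_X_pow_sub hlin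
  have hfd : f.natDegree = p := by
    rw [hfeq]
    exact Polynomial.natDegree_eq_of_degree_eq_some (by
      rw [Polynomial.degree_sub_eq_left_of_degree_lt (by rw [Polynomial.degree_X_pow]; exact hlin), Polynomial.degree_X_pow])
  have hf0 : Polynomial.aeval z f = 0 := by
    rw [hfeq, map_sub, map_pow, map_add, map_mul, Polynomial.aeval_X, Polynomial.aeval_C, Polynomial.aeval_C, hzf, sub_self]
  refine ⟨fun t => ⟨fun ht => ?_, ?_⟩, ?_⟩
  · -- invariants are polynomials in `z`
    let T := (Polynomial.aeval z : Polynomial R →ₐ[R] A).range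
    have hzT : z ∈ T := ⟨Polynomial.X, Polynomial.aeval_X z⟩
    have hloc : ∀ i ∈ S, ∃ N : ℕ, algebraMap R A ((c i * αi i) ^ N) * t ∈ T := by
      intro i hi
      have hsi := (Finset.mem_filter.1 hi).2
      haveI : CharP T p := charP_of_injective_algebraMap
        (R := R) (A := T) (fun r r' h => hinj (congrArg Subtype.val h)) p
      let W : Subalgebra T A := Algebra.adjoin T (Set.range fun j : {j : Fin n // j ≠ i} => u j.1)
      have hT : ∀ y ∈ T, y ∈ W := fun y hy => W.algebraMap_mem ⟨y, hy⟩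
      set b := algebraMap R A (c i * αi i) with hb
      have hbW : b ∈ W := hT _ (T.algebraMap_mem _)
      have hui : b * u i = z - ∑ j ∈ S.erase i, algebraMap R A (c j * αi j) * u j := by
        rw [eq_sub_iff_add_eq]
        exact Finset.add_sum_erase _ (fun j => algebraMap R A (c j * αi j) * u j) hi
      have hall : ∀ y : A, ∃ N : ℕ, b ^ N * y ∈ W := by
        intro y
        have hy : y ∈ Algebra.adjoin R (Set.range u) := by rw [hgen]; trivial
        induction hy using Algebra.adjoin_induction with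
        | mem y hy =>
          obtain ⟨j, rfl⟩ := hy
          refine ⟨1, ?_⟩
          rw [pow_one]
          by_cases h : j = i
          · rw [h, hui]
            exact W.sub_mem (hT _ hzT) (W.sum_mem fun l hl => W.mul_mem (hT _ (T.algebraMap_mem _))
              (Algebra.subset_adjoin ⟨⟨l, (Finset.mem_erase.1 hl).1⟩, rfl⟩))
          · exact W.mul_mem hbW (Algebra.subset_adjoin ⟨⟨j, h⟩, rfl⟩)
        | algebraMap r => exact ⟨0, by rw [pow_zero, one_mul]; exact hT _ (T.algebraMap_mem r)⟩
        | add y y' _ _ hy hy' =>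
          obtain ⟨M, hM⟩ := hy
          obtain ⟨N, hN⟩ := hy'
          refine ⟨M + N, ?_⟩
          rw [show b ^ (M + N) * (y + y') = b ^ N * (b ^ M * y) + b ^ M * (b ^ N * y') by ring]
          exact W.add_mem (W.mul_mem (W.pow_mem hbW _) hM) (W.mul_mem (W.pow_mem hbW _) hN)
        | mul y y' _ _ hy hy' =>
          obtain ⟨M, hM⟩ := hy
          obtain ⟨N, hN⟩ := hy'
          refine ⟨M + N, ?_⟩
          rw [show b ^ (M + N) * (y * y') = (b ^ M * y) * (b ^ N * y') by ring]
          exact W.mul_mem hM hN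
      obtain ⟨N, hN⟩ := hall t
      obtain ⟨co, hco⟩ := mem_range_lc (R := T) hp (fun j : {j : Fin n // j ≠ i} => u j.1)
        (fun j => algebraMap R T ((μ * a j.1) ^ (p - 1))) (fun j => algebraMap R T (xv j.1)) (fun j => hrel j.1) hN
      let ν : {j : Fin n // j ≠ i} → Fin n → ZMod p := fun j => Pi.single j.1 1 + Pi.single i (-(s j.1) * (s i)⁻¹)
      have hν : ∀ j, ∑ l, ν j l * s l = 0 := fun j => by
        simp only [ν, Pi.add_apply, add_mul, Finset.sum_add_distrib]
        rw [Finset.sum_eq_single j.1 (fun b _ hb => by simp [Pi.single_eq_of_ne hb]) (by simp),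
          Finset.sum_eq_single i (fun b _ hb => by simp [Pi.single_eq_of_ne hb]) (by simp), Pi.single_eq_same,
          Pi.single_eq_same, one_mul, inv_mul_cancel_right₀ hsi, add_neg_cancel]
      let τ : {j : Fin n // j ≠ i} → A ≃ₐ[R] A := fun j => (List.ofFn fun l : Fin n => σ l ^ (ν j l).val).prod
      have hτT : ∀ j, ∀ y ∈ T, τ j y = y := by
        rintro j _ ⟨P, rfl⟩
        change (τ j).toAlgHom (Polynomial.aeval z P) = Polynomial.aeval z P
        rw [← Polynomial.aeval_algHom_apply, hτz (ν j) (τ j).toAlgHom (fun l => hτ (ν j) l), hν, map_zero, zero_mul, map_zero, add_zero]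
      let θ : {j : Fin n // j ≠ i} → A →ₐ[T] A := fun j =>
        { (τ j).toAlgHom.toRingHom with commutes' := fun y => hτT j y.1 y.2 }
      have hfixed := lc_eq_of_fixed (fun j : {j : Fin n // j ≠ i} => u j.1) Subtype.val_injective
        (fun j => algebraMap R T (μ * a j.1)) (fun j h => mul_ne_zero hμ (ha j.1) (hinj ((congrArg Subtype.val h).trans (map_zero _).symm)))
        θ (fun j l => by
          change τ j (u l.1) = _
          rw [hτ (ν j) l.1]
          simp only [ν, Pi.add_apply, Pi.single_eq_of_ne l.2, add_zero]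
          by_cases h : l = j
          · subst h
            rw [if_pos rfl, Pi.single_eq_same, map_one, one_mul]
            rfl
          · rw [if_neg h, Pi.single_eq_of_ne (fun h' => h (Subtype.ext h')), map_zero, zero_mul, map_zero])
        co (fun j => by
          rw [hco]
          change τ j (b ^ N * t) = b ^ N * t
          rw [map_mul, hb, ← map_pow, (τ j).commutes, ht (ν j) (hν j)])
      refine ⟨N, ?_⟩
      rw [map_pow, ← hco, hfixed]
      exact (co 0).2
    -- descend the denominator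
    have main : ∀ r : R, r ≠ 0 → algebraMap R A r * t ∈ T → t ∈ T := by
      intro r hr
      induction r using UniqueFactorizationMonoid.induction_on_prime with
      | h₁ => exact absurd rfl hr
      | h₂ r hu =>
        intro h
        obtain ⟨v, rfl⟩ := hu
        have := T.mul_mem (T.algebraMap_mem (↑v⁻¹ : R)) h
        rwa [← mul_assoc, ← map_mul, Units.inv_mul, map_one, one_mul] at this
      | h₃ r π hr0 hπ ih =>
        intro h
        obtain ⟨i, hi, hndvd⟩ : ∃ i ∈ S, ¬ π ∣ c i * αi i := by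
          by_contra hall
          push Not at hall
          have hcu : ∀ i ∈ S, IsUnit (c i) := fun i hi => by
            rw [hc]; exact ((Finset.mem_filter.1 hi).2).isUnit.map _
          have hdα : ∀ i ∈ S, π ∣ αi i := fun i hi =>
            (hπ.dvd_or_dvd (hall i hi)).resolve_left fun hd => hπ.not_unit (isUnit_of_dvd_unit hd (hcu i hi))
          obtain ⟨l, hl, hπl⟩ := Prime.exists_mem_finset_dvd hπ (hdα i₁ hi₁)
          obtain ⟨m, hm, hπm⟩ := Prime.exists_mem_finset_dvd hπ (hdα l (Finset.mem_of_mem_erase hl))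
          exact hπ.not_unit (hcop m l (Finset.ne_of_mem_erase hm) hπm hπl)
        obtain ⟨N, P, hP⟩ := hloc i hi
        obtain ⟨Q, hQ⟩ := h
        have hPQ : Polynomial.aeval z (Polynomial.C ((c i * αi i) ^ N) * Q - Polynomial.C (π * r) * P) = 0 := by
          rw [map_sub, map_mul, map_mul, Polynomial.aeval_C, Polynomial.aeval_C]
          change _ * Polynomial.aeval z Q - _ * Polynomial.aeval z P = 0
          rw [show Polynomial.aeval z Q = algebraMap R A (π * r) * t from hQ,
            show Polynomial.aeval z P = algebraMap R A ((c i * αi i) ^ N) * t from hP]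
          ring
        have hmod : ∀ P' : Polynomial R, Polynomial.aeval z (P' %ₘ f) = Polynomial.aeval z P' := fun P' => by
          conv_rhs => rw [← Polynomial.modByMonic_add_div P' f]
          rw [map_add, map_mul, hf0, zero_mul, add_zero]
        have hnd : ∀ P' : Polynomial R, (P' %ₘ f).natDegree < p := fun P' =>
          hfd ▸ Polynomial.natDegree_modByMonic_lt P' hfm (fun h1 => (Fact.out : p.Prime).ne_zero (by
            rw [← hfd, h1, Polynomial.natDegree_one]))
        have hzero : Polynomial.C ((c i * αi i) ^ N) * (Q %ₘ f) - Polynomial.C (π * r) * (P %ₘ f) = 0 := by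
          refine hlow _ ?_ ?_
          · refine lt_of_le_of_lt (Polynomial.natDegree_sub_le _ _) (max_lt ?_ ?_)
            · exact (Polynomial.natDegree_C_mul_le _ _).trans_lt (hnd Q)
            · exact (Polynomial.natDegree_C_mul_le _ _).trans_lt (hnd P)
          · simpa [hmod] using hPQ
        have hdiv : Polynomial.C π ∣ Q %ₘ f := by
          rw [Polynomial.C_dvd_iff_dvd_coeff]
          intro m
          have := congrArg (fun P' : Polynomial R => P'.coeff m) hzero
          simp only [Polynomial.coeff_sub, Polynomial.coeff_C_mul, Polynomial.coeff_zero, sub_eq_zero] at this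
          exact (hπ.dvd_or_dvd (a := (c i * αi i) ^ N) (this ▸ (dvd_mul_right π r).mul_right _)).resolve_left
            fun hd => hndvd (hπ.dvd_of_dvd_pow hd)
        obtain ⟨Q', hQ'⟩ := hdiv
        refine ih hr0 ⟨Q', ?_⟩
        refine mul_left_cancel₀ (fun h0 => hπ.ne_zero (hinj (h0.trans (map_zero _).symm)) : algebraMap R A π ≠ 0) ?_
        change algebraMap R A π * Polynomial.aeval z Q' = _
        rw [← mul_assoc, ← map_mul, ← Polynomial.aeval_C (x := z) π, ← map_mul, ← hQ', hmod]
        exact hQ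
    obtain ⟨N, hN⟩ := hloc i₁ hi₁
    exact main _ (pow_ne_zero _ (mul_ne_zero (hc0 i₁ hi₁) (hαi0 i₁))) hN
  · rintro ⟨P, rfl⟩ ν hν
    change (List.ofFn fun i : Fin n => σ i ^ (ν i).val).prod.toAlgHom (Polynomial.aeval z P) = Polynomial.aeval z P
    rw [← Polynomial.aeval_algHom_apply, hτz ν _ (fun l => hτ ν l), hν, map_zero, zero_mul, map_zero, add_zero]
  · refine le_antisymm (fun P hP => ?_) ((Ideal.span_singleton_le_iff_mem _).2 hf0)
    rw [Ideal.mem_span_singleton]
    have hr : P %ₘ f = 0 := hlow _ (hfd ▸ Polynomial.natDegree_modByMonic_lt P hfm (fun h1 => (Fact.out : p.Prime).ne_zero (by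
        rw [← hfd, h1, Polynomial.natDegree_one]))) (by
      have := congrArg (Polynomial.aeval z) (Polynomial.modByMonic_add_div P f)
      rwa [map_add, map_mul, hf0, zero_mul, add_zero, show Polynomial.aeval z P = 0 from hP] at this)
    exact (Polynomial.modByMonic_eq_zero_iff_dvd hfm).1 hr

open MvPolynomial in
/-- Let `k` be a field of characteristic `p > 0`, `n ≥ 2`, `R = k[[x_1, …, x_n]]`, `a_1, …, a_n ∈ R`
with zero constant term and pairwise coprime, `μ ∈ R` nonzero and coprime to each `a_i`, `A = R[u_1,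
…, u_n] / (u_i ^ p - (μ a_i) ^ (p-1) u_i - x_i : i = 1..n)`, and `σ_1, …, σ_n` the `R`-algebra
automorphisms of `A` with `σ_i u_j = u_j + δ_{ij} μ a_i` (they generate an elementary abelian group
`H` of order `p ^ n`). For a nonzero vector `s ∈ (ℤ/p)^n` let `H_s = {ν : Σ ν_i s_i = 0}`, `α =
∏_{s_i ≠ 0} a_i`, `α_i = ∏_{j ≠ i, s_j ≠ 0} a_j`, `z_s = Σ_{s_i ≠ 0} s_i α_i u_i` and `f_s(T) = T ^
p - (μ α) ^ (p-1) T - Σ_{s_i ≠ 0} s_i α_i ^ p x_i`. Then an element of `A` is fixed by `∏_i σ_i ^
{ν_i}` for every `ν ∈ H_s` if and only if it is a polynomial over `R` in `z_s`, and the kernel of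
`R[T] → A`, `T ↦ z_s`, is generated by `f_s`: the ring of invariants of `H_s` is `R[T]/(f_s)`, in
particular free of rank `p` over `R`. -/
theorem result
    (p : ℕ) [Fact p.Prime] (k : Type u) [Field k] [CharP k p] (n : ℕ) (hn : 2 ≤ n)
    (a : Fin n → MvPowerSeries (Fin n) k) (μ : MvPowerSeries (Fin n) k)
    (ham : ∀ i, MvPowerSeries.constantCoeff (a i) = 0) (hcop : ∀ i j, i ≠ j → IsRelPrime (a i) (a j))
    (hμ : μ ≠ 0) (hμa : ∀ i, IsRelPrime μ (a i))
    (s : Fin n → ZMod p) (hs : s ≠ 0) :
    let R := MvPowerSeries (Fin n) k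
    let I : Ideal (MvPolynomial (Fin n) R) :=
      Ideal.span (Set.range fun i : Fin n =>
        X i ^ p - C ((μ * a i) ^ (p - 1)) * X i - C (MvPowerSeries.X i))
    let A := MvPolynomial (Fin n) R ⧸ I
    let u : Fin n → A := fun i => Ideal.Quotient.mk I (X i)
    let c : Fin n → R := fun i => algebraMap k R (ZMod.castHom (dvd_refl p) k (s i))
    let α : R := ∏ i ∈ Finset.univ.filter (fun i => s i ≠ 0), a i
    let αi : Fin n → R := fun i => ∏ j ∈ (Finset.univ.filter (fun j => s j ≠ 0)).erase i, a j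
    let z : A := ∑ i ∈ Finset.univ.filter (fun i => s i ≠ 0), algebraMap R A (c i * αi i) * u i
    let f : Polynomial R := Polynomial.X ^ p - Polynomial.C ((μ * α) ^ (p - 1)) * Polynomial.X
      - Polynomial.C (∑ i ∈ Finset.univ.filter (fun i => s i ≠ 0), c i * αi i ^ p * MvPowerSeries.X i)
    ∀ σ : Fin n → (A ≃ₐ[R] A),
      (∀ i j, σ i (u j) = u j + (if i = j then algebraMap R A (μ * a i) else 0)) →
      (∀ t : A, (∀ ν : Fin n → ZMod p, ∑ i, ν i * s i = 0 →
          (List.ofFn (fun i : Fin n => σ i ^ (ν i).val)).prod t = t) ↔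
        t ∈ (Polynomial.aeval z : Polynomial R →ₐ[R] A).range) ∧
      RingHom.ker (Polynomial.aeval z : Polynomial R →ₐ[R] A) = Ideal.span {f} := by
  intro R I A u c α αi z f σ hσ
  haveI : CharP R p := charP_ps (p := p) (k := k) (n := n)
  haveI : IsRegularLocalRing R := PSLoc.isRegularLocalRing k n
  obtain ⟨hd, hufd⟩ := Groth.Agent.S2821.result R
  haveI := hd
  haveI := hufd
  haveI : IsDomain A := isDomain (p := p) (fun i => μ * a i) (fun i => by rw [map_mul, ham i, mul_zero])
  exact general p a (MvPowerSeries.X : Fin n → R) μ hμ (ne_zero_of_coprime hn ham hcop) hcop s hs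
    (algebraMap_injective (p := p) (fun i => μ * a i) _) u (adjoin_var (p := p) _ _) (fun i => var_pow (p := p) _ _ i) c
    (fun i => RingHom.congr_fun (RingHom.ext_zmod ((algebraMap k R).comp (ZMod.castHom (dvd_refl p) k))
      (ZMod.castHom (dvd_refl p) R)) (s i)) σ hσ

end Groth.Agent.S15810
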