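import Groth.Statements.S15811
import Mathlib

set_option autoImplicit false
universe u
open WildQuot

namespace Groth.Agent.S15811

theorem X_pow_sub_mul_splits {K : Type u} [Field K] (p : ℕ) [Fact p.Prime] [CharP K p] (a : K) (ha : a ≠ 0) :
    (Polynomial.X ^ p - Polynomial.C (a ^ (p - 1)) * Polynomial.X).Splits := by
  classical
  have hp : p.Prime := Fact.out
  set q : Polynomial K := Polynomial.X ^ p - Polynomial.C (a ^ (p - 1)) * Polynomial.X
  rw [Polynomial.splits_iff_card_roots]
  refine le_antisymm q.card_roots' ?_
  have hd : (Polynomial.C (a ^ (p - 1)) * Polynomial.X).degree < (Polynomial.X ^ p : Polynomial K).degree := by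
    rw [Polynomial.degree_C_mul_X (pow_ne_zero _ ha), Polynomial.degree_X_pow]
    exact_mod_cast hp.one_lt
  have hdeg : q.natDegree = p := by
    refine Polynomial.natDegree_eq_of_degree_eq_some ?_
    rw [Polynomial.degree_sub_eq_left_of_degree_lt hd, Polynomial.degree_X_pow]
  have hq : q ≠ 0 := fun h => hp.ne_zero (by rw [← hdeg, h, Polynomial.natDegree_zero])
  let g : ZMod p → K := fun i => ZMod.castHom (dvd_refl p) K i * a
  have hg : Function.Injective g := fun i j h => RingHom.injective _ (mul_right_cancel₀ ha h)
  calc q.natDegree = (Finset.univ.image g).card := by rw [hdeg, Finset.card_image_of_injective _ hg]; simp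
    _ ≤ q.roots.toFinset.card := Finset.card_le_card fun x hx => by
      obtain ⟨i, -, rfl⟩ := Finset.mem_image.mp hx
      rw [Multiset.mem_toFinset, Polynomial.mem_roots hq]
      simp only [q, g, Polynomial.IsRoot, Polynomial.eval_sub, Polynomial.eval_pow, Polynomial.eval_X,
        Polynomial.eval_mul, Polynomial.eval_C, mul_pow, ← map_pow, ZMod.pow_card]
      have : a ^ (p - 1) * a = a ^ p := by rw [← pow_succ, Nat.sub_add_cancel hp.one_lt.le]
      rw [← this]; ring
    _ ≤ _ := q.roots.toFinset_card_le

/-- Let `R` be an integrally closed domain of prime characteristic `p` with fraction field `K`, and `α ∈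
R`. Then `α ≠ 0` and the polynomial `T ^ p - α T` splits into linear factors over `K` — which says
that the finite flat group scheme `Spec R[T]/(T ^ p - α T)` of order `p` has constant generic fibre
(its `p` roots are then distinct) — if and only if `α = a ^ (p-1)` for some nonzero `a ∈ R`. (The
published statement is that the generic fibre of the finite flat group scheme of order `p` with
parameters `α, β` satisfying `α β = 0`, whose underlying scheme is `Spec R[T]/(T ^ p - α T)`, is
constant if and only if `β = 0` and `α` is the `(p-1)`-th power of a nonzero element of `R`; this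
row states the polynomial condition, in which `α ≠ 0` already forces `β = 0` over a domain.) -/
theorem result
    (p : ℕ) [Fact p.Prime] (R : Type u) [CommRing R] [IsDomain R] [IsIntegrallyClosed R]
    [CharP R p] (α : R) :
    (α ≠ 0 ∧ (Polynomial.map (algebraMap R (FractionRing R))
        (Polynomial.X ^ p - Polynomial.C α * Polynomial.X)).Splits) ↔
      ∃ a : R, a ≠ 0 ∧ α = a ^ (p - 1) := by
  classical
  have hp : p.Prime := Fact.out
  constructor
  · rintro ⟨hα, hs⟩
    let K := FractionRing R
    have hαK : algebraMap R (FractionRing R) α ≠ 0 := by simpa using hα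
    have hchar : CharP (FractionRing R) p := charP_of_injective_algebraMap (IsFractionRing.injective R _) p
    simp only [Polynomial.map_sub, Polynomial.map_pow, Polynomial.map_X, Polynomial.map_mul, Polynomial.map_C] at hs
    set q : Polynomial (FractionRing R) := Polynomial.X ^ p - Polynomial.C (algebraMap R (FractionRing R) α) * Polynomial.X
    have hd : (Polynomial.C (algebraMap R (FractionRing R) α) * Polynomial.X).degree < (Polynomial.X ^ p : Polynomial (FractionRing R)).degree := by
      rw [Polynomial.degree_C_mul_X hαK, Polynomial.degree_X_pow]
      exact_mod_cast hp.one_lt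
    have hdeg : q.natDegree = p := by
      refine Polynomial.natDegree_eq_of_degree_eq_some ?_
      rw [Polynomial.degree_sub_eq_left_of_degree_lt hd, Polynomial.degree_X_pow]
    have hcard := Polynomial.splits_iff_card_roots.mp hs
    have hsep : q.Separable := by
      rw [Polynomial.separable_def]
      have : Polynomial.derivative q = Polynomial.C (- algebraMap R (FractionRing R) α) := by
        simp [q, Polynomial.derivative_X_pow, CharP.cast_eq_zero (FractionRing R) p]
      rw [this]
      exact (isCoprime_one_right.mul_right isCoprime_one_right).of_isCoprime_of_dvd_right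
        (by rw [mul_one]; exact ((Polynomial.isUnit_C.mpr (IsUnit.mk0 _ (neg_ne_zero.mpr hαK))).dvd))
    have hnd := Polynomial.nodup_roots hsep
    obtain ⟨x, hx, hx0⟩ : ∃ x ∈ q.roots, x ≠ 0 := by
      by_contra hc
      push Not at hc
      have := Multiset.eq_replicate_card.mpr hc
      rw [hcard, hdeg] at this
      rw [this] at hnd
      have h2 := hp.two_le
      have : p ≤ 1 := Multiset.nodup_iff_count_le_one.mp hnd 0 |>.trans' (by rw [Multiset.count_replicate_self])
      omega
    have hev : x ^ p - algebraMap R (FractionRing R) α * x = 0 := by
      simpa [q] using (Polynomial.mem_roots'.mp hx).2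
    have hxp : x ^ (p - 1) = algebraMap R (FractionRing R) α := by
      apply mul_right_cancel₀ hx0
      rw [← pow_succ, Nat.sub_add_cancel hp.one_lt.le]
      exact sub_eq_zero.mp hev
    have hint : IsIntegral R x := ⟨Polynomial.X ^ (p - 1) - Polynomial.C α,
      Polynomial.monic_X_pow_sub_C _ (by have := hp.two_le; omega), by simp [hxp]⟩
    obtain ⟨a, rfl⟩ := IsIntegrallyClosed.algebraMap_eq_of_integral hint
    refine ⟨a, fun h => hx0 (by rw [h, map_zero]), IsFractionRing.injective R (FractionRing R) ?_⟩
    rw [map_pow, hxp]
  · rintro ⟨a, ha, rfl⟩
    have hchar : CharP (FractionRing R) p := charP_of_injective_algebraMap (IsFractionRing.injective R _) p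
    refine ⟨pow_ne_zero _ ha, ?_⟩
    have := X_pow_sub_mul_splits p (algebraMap R (FractionRing R) a) (by simpa using ha)
    simpa using this

end Groth.Agent.S15811
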