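import Groth.Statements.S15812
import Mathlib
import Groth.Agent.Depth.CM
import Groth.Agent.RegLoc.Homological
import Groth.Agent.InvQLib.FiniteFree
import Groth.Agent.S12935

set_option autoImplicit false
universe u v w
open WildQuot

namespace Groth.Agent.S15812

open Pointwise

theorem height_le_one_of_associatedPrime {R : Type u} [CommRing R] [IsRegularLocalRing R] {s : R} (hs : s ≠ 0)
    {q : Ideal R} (hq : q ∈ associatedPrimes R (QuotSMulTop s R)) : q.height ≤ 1 := by
  have hdom : IsDomain R := RegLoc.isDomain R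
  have hCMR := Depth.isCohenMacaulayLocalRing_of_isRegularLocalRing (R := R)
  have hreg : IsSMulRegular R s := fun a b h => mul_left_cancel₀ hs h
  have hqp : q.IsPrime := IsAssociatedPrime.isPrime hq
  have hsq : s ∈ q := by
    refine Depth.annihilator_le_associatedPrime hq (Module.mem_annihilator.2 fun z => ?_)
    obtain ⟨z, rfl⟩ := Submodule.Quotient.mk_surjective _ z
    rw [← Submodule.Quotient.mk_smul, Submodule.Quotient.mk_eq_zero]
    exact Submodule.smul_mem_pointwise_smul z s ⊤ trivial
  have hm : s ∈ IsLocalRing.maximalIdeal R := IsLocalRing.le_maximalIdeal hqp.ne_top hsq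
  have hCM := (Depth.isCohenMacaulayModule_quotSMulTop_iff hm hreg).2 (Depth.isCohenMacaulayModule_self R)
  have h1 := Depth.ringKrullDim_quotient_associatedPrime hCM hq
  have h2 := Module.supportDim_quotSMulTop_succ_eq_supportDim (M := R) hreg hm
  rw [← h1, Module.supportDim_self_eq_ringKrullDim] at h2
  let P : PrimeSpectrum R := ⟨q, hqp⟩
  have h3 : ((Order.height P : ℕ∞) : WithBot ℕ∞) + (Order.coheight P : ℕ∞) ≤ ringKrullDim R := by
    rw [ringKrullDim, Order.krullDim_eq_iSup_height_add_coheight_of_nonempty, ← WithBot.coe_add, WithBot.coe_le_coe]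
    exact le_iSup (fun a : PrimeSpectrum R => Order.height a + Order.coheight a) P
  have hset : PrimeSpectrum.zeroLocus (R := R) (q : Set R) = Set.Ici P := by
    ext x; simp [P, PrimeSpectrum.mem_zeroLocus]; rfl
  rw [Order.coheight_eq_krullDim_Ici, ← PrimeSpectrum.height_eq_orderHeight, ← h2,
    ← hset, ← ringKrullDim_quotient] at h3
  obtain ⟨d, hd⟩ : ∃ d : ℕ, ringKrullDim (R ⧸ q) = d := by
    obtain ⟨e, he, -⟩ := RegLoc.exists_natCast_eq_ringKrullDim R
    have hle : ringKrullDim (R ⧸ q) ≤ e := he ▸ ringKrullDim_quotient_le q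
    have : Nontrivial (R ⧸ q) := Ideal.Quotient.nontrivial_iff.2 hqp.ne_top
    obtain ⟨c, hc⟩ := WithBot.ne_bot_iff_exists.1 (ne_bot_of_le_ne_bot WithBot.zero_ne_bot
      (ringKrullDim_nonneg_of_nontrivial (R := R ⧸ q)))
    rw [← hc] at hle ⊢
    have hle' : c ≤ (e : ℕ∞) := by exact_mod_cast hle
    obtain ⟨d, rfl⟩ := ENat.ne_top_iff_exists.1 (ne_top_of_le_ne_top (ENat.coe_ne_top e) hle')
    exact ⟨d, rfl⟩
  rw [hd] at h3
  have h4 : q.height + (d : ℕ∞) ≤ (d : ℕ∞) + 1 := by exact_mod_cast h3
  rw [add_comm (d : ℕ∞)] at h4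
  exact WithTop.le_of_add_le_add_right (ENat.coe_ne_top d) h4

/-- The spanning set of `τ ↦ x * τ y` with `x, y` in `T`. -/
def galSet {R : Type u} [CommRing R] {A : Type v} [CommRing A] [Algebra R A] (H : Type w) [Group H]
    [MulSemiringAction H A] (T : Subalgebra R A) : Set (H → A) :=
  Set.range fun z : T × T => fun τ : H => (z.1 : A) * τ • (z.2 : A)

theorem mul_mem_span_galSet {R : Type u} [CommRing R] {A : Type v} [CommRing A] [Algebra R A] (H : Type w) [Group H]
    [MulSemiringAction H A] (T : Subalgebra R A) {f g : H → A} (hf : f ∈ Submodule.span R (galSet H T))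
    (hg : g ∈ Submodule.span R (galSet H T)) : f * g ∈ Submodule.span R (galSet H T) := by
  have := Submodule.mul_mem_mul hf hg
  rw [Submodule.span_mul_span] at this
  refine Submodule.span_mono ?_ this
  rintro _ ⟨_, ⟨⟨a, b⟩, rfl⟩, _, ⟨⟨c, d⟩, rfl⟩, rfl⟩
  refine ⟨(a * c, b * d), ?_⟩
  funext τ
  simp [smul_mul']
  ring

theorem one_mem_span_galSet {R : Type u} [CommRing R] {A : Type v} [CommRing A] [Algebra R A] (H : Type w) [Group H]
    [MulSemiringAction H A] (T : Subalgebra R A) : (1 : H → A) ∈ Submodule.span R (galSet H T) :=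
  Submodule.subset_span ⟨(1, 1), by funext τ; simp⟩

theorem smul_mem_of_galFun {R : Type u} [CommRing R] {A : Type v} [CommRing A] [Algebra R A] {H : Type w} [Group H]
    [MulSemiringAction H A] [SMulCommClass H R A] (T : Subalgebra R A) (K : Subgroup H) [Fintype K]
    (hK : ∀ a : A, (∀ τ ∈ K, τ • a = a) → a ∈ T) {s : R} {f : H → A} (hf : f ∈ Submodule.span R (galSet H T))
    (h1 : f 1 = algebraMap R A s) (h0 : ∀ τ ∈ K, τ ≠ 1 → f τ = 0) (a : A) : s • a ∈ T := by
  have key : ∑ τ : K, f τ * (τ : H) • a ∈ T := by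
    clear h1 h0
    induction hf using Submodule.span_induction with
    | mem g hg =>
      obtain ⟨⟨x, y⟩, rfl⟩ := hg
      have : ∑ τ : K, ((x : A) * (τ : H) • (y : A)) * (τ : H) • a = x * ∑ τ : K, (τ : H) • ((y : A) * a) := by
        simp [Finset.mul_sum, smul_mul', mul_assoc]
      rw [this]
      refine T.mul_mem x.2 (hK _ fun σ hσ => ?_)
      rw [Finset.smul_sum]
      exact Fintype.sum_equiv (Equiv.mulLeft (⟨σ, hσ⟩ : K)) _ _ fun τ => (mul_smul σ (τ : H) _).symm
    | zero => simp
    | add g g' _ _ hg hg' =>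
      simp only [Pi.add_apply, add_mul, Finset.sum_add_distrib]
      exact T.add_mem hg hg'
    | smul c g _ hg =>
      simp only [Pi.smul_apply, smul_mul_assoc, ← Finset.smul_sum]
      exact T.smul_mem hg c
  rw [Finset.sum_eq_single 1] at key
  · rw [Algebra.smul_def, ← h1]
    simpa using key
  · intro τ _ hτ
    rw [h0 τ τ.2 (fun h => hτ (Subtype.ext h)), zero_mul]
  · simp

theorem exists_galFun {R : Type u} [CommRing R] {A : Type v} [CommRing A] [Algebra R A] [Algebra.IsIntegral R A]
    {H : Type w} [Group H] [Finite H] [MulSemiringAction H A] [SMulCommClass H R A] (T : Subalgebra R A)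
    (K' : Subgroup H) [K'.Normal] (hT : FixedPoints.subalgebra R A K' ≤ T) (q : Ideal R) [q.IsPrime]
    (σ : H) (hσ : σ ∉ K')
    (hP : ∀ P : Ideal A, P.IsPrime → P.comap (algebraMap R A) = q → P.inertia H ≤ K') :
    ∃ s ∉ q, ∃ f ∈ Submodule.span R (galSet H T), f 1 = algebraMap R A s ∧ f σ = 0 := by
  let B := FixedPoints.subalgebra R A K'
  have hstab : ∀ b : B, σ • (b : A) ∈ B := by
    intro b τ
    change (τ : H) • σ • (b : A) = σ • (b : A)
    have hc : σ⁻¹ * (τ : H) * σ ∈ K' := by
      simpa using (inferInstance : K'.Normal).conj_mem _ τ.2 σ⁻¹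
    have h := b.2 ⟨_, hc⟩
    calc (τ : H) • σ • (b : A) = σ • (σ⁻¹ * (τ : H) * σ) • (b : A) := by simp [← mul_smul, mul_assoc]
      _ = σ • (b : A) := congrArg (σ • ·) h
  let J : Ideal B := Ideal.span (Set.range fun b : B => b - ⟨σ • (b : A), hstab b⟩)
  have key : ∀ z ∈ J, ∃ f ∈ Submodule.span R (galSet H T), f 1 = (z : A) ∧ f σ = 0 := by
    intro z hz
    induction hz using Submodule.span_induction with
    | mem z hz =>
      obtain ⟨b, rfl⟩ := hz
      refine ⟨_, Submodule.sub_mem _ (Submodule.subset_span ⟨(1, ⟨b, hT b.2⟩), rfl⟩)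
        (Submodule.subset_span ⟨(⟨σ • (b : A), hT (hstab b)⟩, 1), rfl⟩), ?_, ?_⟩ <;> simp
    | zero => exact ⟨0, Submodule.zero_mem _, by simp, by simp⟩
    | add z z' _ _ hz hz' =>
      obtain ⟨f, hf, f1, f0⟩ := hz
      obtain ⟨g, hg, g1, g0⟩ := hz'
      exact ⟨f + g, Submodule.add_mem _ hf hg, by simp [f1, g1], by simp [f0, g0]⟩
    | smul c z _ hz =>
      obtain ⟨f, hf, f1, f0⟩ := hz
      refine ⟨_, mul_mem_span_galSet H T (Submodule.subset_span ⟨(⟨c, hT c.2⟩, 1), rfl⟩) hf, ?_, ?_⟩
      · simp [f1]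
      · simp [f0]
  obtain ⟨s, hsq, hs⟩ : ∃ s ∉ q, algebraMap R B s ∈ J := by
    by_contra hc
    push Not at hc
    have : Algebra.IsIntegral R B := ⟨fun b => (isIntegral_algHom_iff B.val Subtype.val_injective).1
      (Algebra.IsIntegral.isIntegral (b : A))⟩
    have : Algebra.IsIntegral B A := Algebra.IsIntegral.tower_top R
    obtain ⟨Q, hJQ, hQ, hQq⟩ := Ideal.exists_ideal_over_prime_of_isIntegral q J
      (fun s hs => by by_contra h; exact hc s h hs)
    obtain ⟨P, -, hPp, hPQ⟩ := Ideal.exists_ideal_over_prime_of_isIntegral Q (⊥ : Ideal A)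
      (by rw [← RingHom.ker_eq_comap_bot, (RingHom.injective_iff_ker_eq_bot (algebraMap B A)).1
        Subtype.val_injective]; exact bot_le)
    have hPq : P.comap (algebraMap R A) = q := by
      rw [← hQq, ← hPQ, Ideal.comap_comap]; rfl
    obtain ⟨ω, hω, hωP⟩ := (Groth.Agent.S12935.result A H K' P σ).2.1 (fun x hx => by
      let b : B := ⟨x, fun τ => hx τ τ.2⟩
      have h : b - ⟨σ • (b : A), hstab b⟩ ∈ Q := hJQ (Ideal.subset_span ⟨b, rfl⟩)
      rw [← hPQ, Ideal.mem_comap] at h
      have h' : x - σ • x ∈ P := h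
      rw [← neg_sub]
      exact P.neg_mem h')
    have hin : σ * ω ∈ K' := hP P hPp hPq (fun x => hωP x)
    exact hσ (by simpa using K'.mul_mem hin (K'.inv_mem hω))
  obtain ⟨f, hf, f1, f0⟩ := key _ hs
  exact ⟨s, hsq, f, hf, by simpa using f1, f0⟩

theorem finrank_fixed {R : Type u} [CommRing R] [IsDomain R] {A : Type v} [CommRing A] [IsDomain A] [Algebra R A]
    (hinj : Function.Injective (algebraMap R A)) {H : Type w} [Group H] [Finite H] [MulSemiringAction H A]
    [SMulCommClass H R A] [FaithfulSMul H A] [Algebra.IsInvariant R A H] (K' : Subgroup H) [K'.Normal] :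
    Module.finrank R (FixedPoints.subalgebra R A K') = Nat.card (H ⧸ K') := by
  cases nonempty_fintype K'
  have : FaithfulSMul (H ⧸ K') (FixedPoints.subalgebra R A K') := by
    refine ⟨fun {x y} h => ?_⟩
    obtain ⟨a, rfl⟩ := QuotientGroup.mk_surjective x
    obtain ⟨b, rfl⟩ := QuotientGroup.mk_surjective y
    obtain ⟨ω, hω⟩ := Groth.Agent.S12935.exists_omega (Ω := K') (RingHom.id A)
      (MulSemiringAction.toRingHom H A (a⁻¹ * b)) (fun x hx => by
        have h' : a • x = b • x := congrArg Subtype.val (h ⟨x, hx⟩)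
        simp [mul_smul, ← h'])
    rw [QuotientGroup.eq]
    have : a⁻¹ * b * (ω : H) = 1 := eq_of_smul_eq_smul fun x : A => by
      rw [one_smul, mul_smul]; exact (hω x).symm
    rw [← eq_inv_of_mul_eq_one_left this |>.symm]
    exact K'.inv_mem ω.2
  have : IsGaloisGroup (H ⧸ K') R (FixedPoints.subalgebra R A K') :=
    { faithful := inferInstance, commutes := inferInstance, isInvariant := inferInstance }
  have : FaithfulSMul R (FixedPoints.subalgebra R A K') :=
    (faithfulSMul_iff_algebraMap_injective _ _).2 fun x y hxy => hinj (congrArg Subtype.val hxy)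
  exact (IsGaloisGroup.card_eq_finrank' (H ⧸ K') R (FixedPoints.subalgebra R A K')).symm

theorem linearIndependent_of_torsion {R : Type u} [CommRing R] [IsDomain R] [IsNoetherianRing R] {A : Type v} [AddCommGroup A]
    [Module R A] [Module.Finite R A] {ι : Type*} [Fintype ι] (v : ι → A) (hcard : Fintype.card ι = Module.finrank R A)
    (h : ∀ a, ∃ s : R, s ≠ 0 ∧ s • a ∈ Submodule.span R (Set.range v)) : LinearIndependent R v := by
  let f := Fintype.linearCombination R v
  have hr : LinearMap.range f = Submodule.span R (Set.range v) := Fintype.range_linearCombination R v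
  have htor : Module.IsTorsion R (A ⧸ LinearMap.range f) := by
    intro z
    obtain ⟨a, rfl⟩ := Submodule.Quotient.mk_surjective _ z
    obtain ⟨s, hs, hsa⟩ := h a
    exact ⟨⟨s, mem_nonZeroDivisors_of_ne_zero hs⟩, by
      change s • (Submodule.Quotient.mk a : A ⧸ LinearMap.range f) = 0
      rw [← Submodule.Quotient.mk_smul, Submodule.Quotient.mk_eq_zero, hr]; exact hsa⟩
  have h1 := Submodule.finrank_quotient_add_finrank (LinearMap.range f)
  rw [Module.finrank_eq_zero_iff_isTorsion.2 htor, zero_add] at h1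
  have h2 := Submodule.finrank_quotient_add_finrank (LinearMap.ker f)
  rw [f.quotKerEquivRange.finrank_eq, h1, Module.finrank_pi, hcard] at h2
  have h3 : Module.finrank R (LinearMap.ker f) = 0 := by omega
  have htk := Module.finrank_eq_zero_iff_isTorsion.1 h3
  rw [Fintype.linearIndependent_iff]
  intro c hc
  have hmem : c ∈ LinearMap.ker f := by rw [LinearMap.mem_ker, Fintype.linearCombination_apply]; exact hc
  obtain ⟨⟨r, hr0⟩, hrc⟩ := @htk ⟨c, hmem⟩
  intro i
  have := congrFun (congrArg Subtype.val hrc) i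
  exact (mul_eq_zero.1 this).resolve_left (nonZeroDivisors.ne_zero hr0)

/-- Let `R` be a regular local ring and `A` a normal local domain, finite over `R` (with `R → A`
injective) and with the same residue field; let a finite group `H` act faithfully on `A` by
`R`-algebra automorphisms with ring of invariants exactly `R` (so `Frac(A)/Frac(R)` is Galois with
group `H`); assume `H` is commutative of order `p ^ n` (`p` prime) and let `G_1, …, G_n ≤ H` be
subgroups of order `p` generating `H`, each the inertia subgroup of some height-one prime of `A`,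
such that every nontrivial inertia subgroup of a height-one prime of `A` is one of the `G_i`. Put
`G_i^⊥ =` the subgroup generated by the `G_j` with `j ≠ i`, and assume each invariant ring
`A^{G_i^⊥}` is a free `R`-module (the published statement asks them to be Cohen–Macaulay, which for
a finite algebra over the regular local ring `R` is the same). Then the subalgebras `A^{G_1^⊥}, …,
A^{G_n^⊥}` generate `A` over `R`. (The published conclusion is that the product map `A^{G_1^⊥} ⊗_R ⋯
⊗_R A^{G_n^⊥} → A` is an isomorphism; as each factor is then free of rank `p` and `A` has rank `p ^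
n` over `R`, that is equivalent to the generation statement given here. The published statement is
for `A` a complete regular local ring with an action ramified precisely at the origin, `R = k[[x_1,
…, x_n]]` a norm subring and `H` the Galois group of `Frac(A)/Frac(R)`, when that extension is
Galois; this row assumes only the hypotheses listed above.) -/
theorem result
    (p : ℕ) [Fact p.Prime] (R : Type u) [CommRing R] [IsRegularLocalRing R]
    (A : Type v) [CommRing A] [IsDomain A] [IsIntegrallyClosed A] [IsLocalRing A]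
    [Algebra R A] [Module.Finite R A] (hinj : Function.Injective (algebraMap R A))
    (hres : Function.Surjective (IsLocalRing.residue A ∘ algebraMap R A))
    (H : Type w) [Group H] [Finite H] [MulSemiringAction H A] [SMulCommClass H R A] [FaithfulSMul H A]
    (hfix : ∀ a : A, (∀ h : H, h • a = a) → a ∈ Set.range (algebraMap R A))
    (hcomm : ∀ g h : H, g * h = h * g)
    (n : ℕ) (hcard : Nat.card H = p ^ n) (Gi : Fin n → Subgroup H)
    (hGi : ∀ i, Nat.card (Gi i) = p) (hsup : (⨆ i, Gi i) = ⊤)
    (hinert : ∀ i, ∃ P : Ideal A, P.IsPrime ∧ P.height = 1 ∧ P.inertia H = Gi i)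
    (hMR3 : ∀ P : Ideal A, P.IsPrime → P.height = 1 → P.inertia H ≠ ⊥ → ∃ i, P.inertia H = Gi i)
    (hMR4 : ∀ i, Module.Free R
      (FixedPoints.subalgebra R A ↥(⨆ j ∈ (Finset.univ.erase i : Finset (Fin n)), Gi j : Subgroup H))) :
    (⨆ i, FixedPoints.subalgebra R A ↥(⨆ j ∈ (Finset.univ.erase i : Finset (Fin n)), Gi j : Subgroup H)) = ⊤ := by
  classical
  cases nonempty_fintype H
  have hdomR : IsDomain R := RegLoc.isDomain R
  have : Algebra.IsInvariant R A H := ⟨fun a ha => hfix a ha⟩
  have hint : Algebra.IsIntegral R A := Algebra.IsIntegral.of_finite R A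
  have : FaithfulSMul R A := (faithfulSMul_iff_algebraMap_injective R A).2 hinj
  let G' : CommGroup H := { (inferInstance : Group H) with mul_comm := hcomm }
  have hnormal : ∀ K : Subgroup H, K.Normal := fun K => ⟨fun k hk g => by
    rwa [hcomm g, mul_assoc, mul_inv_cancel, mul_one]⟩
  set K : Fin n → Subgroup H := fun i => ⨆ j ∈ (Finset.univ.erase i : Finset (Fin n)), Gi j with hKdef
  -- the product structure of `H`
  let mu : (∀ i, Gi i) →* H := MonoidHom.noncommPiCoprod (fun i => (Gi i).subtype)
    (fun i j _ x y => hcomm _ _)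
  have hmusingle : ∀ (k : Fin n) (x : Gi k), mu (Pi.mulSingle k x) = (x : H) := fun k x =>
    MonoidHom.noncommPiCoprod_mulSingle (fun i => (Gi i).subtype) (hcomm := fun i j _ x y => hcomm _ _) k x
  have hmu_surj : Function.Surjective mu := by
    intro h
    have hle : (⨆ i, Gi i) ≤ mu.range := iSup_le fun i x hx => ⟨Pi.mulSingle i ⟨x, hx⟩, hmusingle i ⟨x, hx⟩⟩
    exact hle (hsup.ge trivial)
  have hmu : Function.Bijective mu := (Nat.bijective_iff_surjective_and_card mu).2
    ⟨hmu_surj, by rw [Nat.card_pi, hcard, Finset.prod_congr rfl (fun i _ => hGi i)]; simp⟩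
  let e : H ≃* (∀ i, Gi i) := (MulEquiv.ofBijective mu hmu).symm
  have he : ∀ (k : Fin n) (x : Gi k), e (x : H) = Pi.mulSingle k x := by
    intro k x
    apply (MulEquiv.ofBijective mu hmu).injective
    rw [MulEquiv.apply_symm_apply]
    exact (MonoidHom.noncommPiCoprod_mulSingle (fun i => (Gi i).subtype) (hcomm := fun i j _ x y => hcomm _ _) k x).symm
  have hKmem : ∀ (j : Fin n) (h : H), h ∈ K j ↔ e h j = 1 := by
    intro j h
    constructor
    · intro hh
      have : K j ≤ ((Pi.evalMonoidHom (fun i => Gi i) j).comp e.toMonoidHom).ker := by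
        refine iSup₂_le fun k hk x hx => ?_
        rw [MonoidHom.mem_ker]
        change e ((⟨x, hx⟩ : Gi k) : H) j = 1
        rw [he, Pi.mulSingle_eq_of_ne (Ne.symm (Finset.mem_erase.1 hk).1)]
      exact this hh
    · intro hh
      rw [← e.symm_apply_apply h]
      change mu (e h) ∈ K j
      rw [← Finset.univ_prod_mulSingle (e h), map_prod]
      refine Subgroup.prod_mem _ fun k _ => ?_
      rw [hmusingle]
      by_cases hkj : k = j
      · subst hkj; rw [hh]; exact (K k).one_mem
      · exact (le_iSup₂ (f := fun j (_ : j ∈ (Finset.univ.erase _ : Finset (Fin n))) => Gi j) k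
          (Finset.mem_erase.2 ⟨hkj, Finset.mem_univ k⟩)) (e h k).2
  have hindex : ∀ j, Nat.card (H ⧸ K j) = p := by
    intro j
    have hker : ((Pi.evalMonoidHom (fun i => Gi i) j).comp e.toMonoidHom).ker = K j := by
      ext h; rw [hKmem]; exact MonoidHom.mem_ker
    have hsurj : Function.Surjective ((Pi.evalMonoidHom (fun i => Gi i) j).comp e.toMonoidHom) := fun x =>
      ⟨(x : H), by
        change e (x : H) j = x
        rw [he, Pi.mulSingle_eq_same]⟩
    rw [← hker, ← hGi j]
    exact Nat.card_congr (QuotientGroup.quotientKerEquivOfSurjective _ hsurj).toEquiv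
  set T : Subalgebra R A := ⨆ i, FixedPoints.subalgebra R A ↥(K i)
  have hBT : ∀ i, FixedPoints.subalgebra R A ↥(K i) ≤ T := fun i => le_iSup (fun i => FixedPoints.subalgebra R A ↥(K i)) i
  have hinertia : ∀ (P : Ideal A) [P.IsPrime] (g : H), (g • P).inertia H = P.inertia H := by
    intro P _ g
    have key : ∀ (Q : Ideal A) (g : H), Q.inertia H ≤ (g • Q).inertia H := by
      intro Q g τ hτ x
      change τ • x - x ∈ g • Q
      rw [Ideal.mem_pointwise_smul_iff_inv_smul_mem, smul_sub, ← mul_smul, hcomm g⁻¹, mul_smul]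
      exact hτ _
    exact le_antisymm (by simpa using key (g • P) g⁻¹) (key P g)
  have hht : ∀ P : Ideal A, [P.IsPrime] → (P.comap (algebraMap R A)).height ≤ 1 → P ≠ ⊥ → P.height = 1 := by
    intro P _ hle hne
    refine le_antisymm (le_trans ?_ hle) ?_
    · have hsm : StrictMono (PrimeSpectrum.comap (algebraMap R A)) := fun a b hab => Ideal.IsIntegral.comap_lt_comap hab
      have := Order.height_le_height_apply_of_strictMono _ hsm ⟨P, inferInstance⟩
      rw [← PrimeSpectrum.height_eq_orderHeight, ← PrimeSpectrum.height_eq_orderHeight] at this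
      exact this
    · rw [Order.one_le_iff_pos, pos_iff_ne_zero]
      intro h0
      rw [Ideal.height_eq_zero_iff, IsDomain.minimalPrimes_eq_singleton_bot] at h0
      exact hne h0
  have hloc : ∀ q : Ideal R, q.IsPrime → q.height ≤ 1 → ∃ s ∉ q, ∀ a : A, s • a ∈ T := by
    intro q hq hq1
    obtain ⟨P₀, -, hP₀, hP₀q⟩ := Ideal.exists_ideal_over_prime_of_isIntegral q (⊥ : Ideal A)
      (by rw [← RingHom.ker_eq_comap_bot, (RingHom.injective_iff_ker_eq_bot _).1 hinj]; exact bot_le)
    have hall : ∀ P : Ideal A, P.IsPrime → P.comap (algebraMap R A) = q → P.inertia H = P₀.inertia H := by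
      intro P hP hPq
      obtain ⟨g, rfl⟩ := Algebra.IsInvariant.exists_smul_of_under_eq R A H P₀ P (hP₀q.trans hPq.symm)
      exact hinertia P₀ g
    obtain ⟨Kq, hKq, hsep⟩ : ∃ Kq : Subgroup H, (∀ a : A, (∀ τ ∈ Kq, τ • a = a) → a ∈ T) ∧
        ∀ σ ∈ Kq, σ ≠ 1 → ∃ j, σ ∉ K j ∧ P₀.inertia H ≤ K j := by
      by_cases hin : P₀.inertia H = ⊥
      · refine ⟨⊤, fun a ha => ?_, fun σ _ hσ => ?_⟩
        · obtain ⟨r, rfl⟩ := hfix a fun h => ha h trivial
          exact T.algebraMap_mem r
        · by_contra hc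
          push Not at hc
          refine hσ (e.injective ?_)
          rw [map_one]
          funext j
          refine (hKmem j σ).1 ?_
          by_contra hj
          exact hc j hj (hin ▸ bot_le)
      · have hne : P₀ ≠ ⊥ := by
          rintro rfl
          refine hin ((Subgroup.eq_bot_iff_forall _).2 fun τ hτ => eq_of_smul_eq_smul fun x : A => ?_)
          have := hτ x
          rw [Submodule.mem_toAddSubgroup, Ideal.mem_bot, sub_eq_zero] at this
          rw [this, one_smul]
        obtain ⟨i, hi⟩ := hMR3 P₀ hP₀ (hht P₀ (hP₀q ▸ hq1) hne) hin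
        refine ⟨K i, fun a ha => hBT i (fun τ => ha τ τ.2), fun σ hσ hσ1 => ?_⟩
        obtain ⟨j, hj⟩ : ∃ j, σ ∉ K j := by
          by_contra hc
          push Not at hc
          exact hσ1 (e.injective (by rw [map_one]; funext j; exact (hKmem j σ).1 (hc j)))
        refine ⟨j, hj, hi ▸ ?_⟩
        have hij : i ≠ j := fun h => hj (h ▸ hσ)
        exact le_iSup₂ (f := fun l (_ : l ∈ (Finset.univ.erase j : Finset (Fin n))) => Gi l) i
          (Finset.mem_erase.2 ⟨hij, Finset.mem_univ i⟩)
    have hfun : ∀ σ : {σ : Kq // σ ≠ 1}, ∃ s ∉ q, ∃ f ∈ Submodule.span R (galSet H T),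
        f 1 = algebraMap R A s ∧ f (σ.1 : H) = 0 := by
      rintro ⟨⟨σ, hσ⟩, hσ1⟩
      obtain ⟨j, hj, hPj⟩ := hsep σ hσ (fun h => hσ1 (Subtype.ext h))
      have := hnormal (K j)
      exact exists_galFun T (K j) (hBT j) q σ hj (fun P hP hPq => (hall P hP hPq).le.trans hPj)
    choose s hs f hf hf1 hf0 using hfun
    refine ⟨∏ σ, s σ, fun h => ?_, fun a => smul_mem_of_galFun T Kq hKq
      (f := ∏ σ, f σ) ?_ ?_ ?_ a⟩
    · obtain ⟨σ, -, hσ⟩ := hq.prod_mem_iff.1 h
      exact hs σ hσ
    · exact Finset.prod_induction _ (· ∈ Submodule.span R (galSet H T)) (fun _ _ => mul_mem_span_galSet H T)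
        (one_mem_span_galSet H T) (fun σ _ => hf σ)
    · simp [Finset.prod_apply, hf1]
    · intro τ hτ hτ1
      rw [Finset.prod_apply]
      exact Finset.prod_eq_zero (Finset.mem_univ ⟨⟨τ, hτ⟩, fun h => hτ1 (congrArg Subtype.val h)⟩) (hf0 _)
  -- spanning products
  have : ∀ j, Module.Free R (FixedPoints.subalgebra R A ↥(K j)) := hMR4
  have : ∀ j, Module.Finite R (FixedPoints.subalgebra R A ↥(K j)) := fun j =>
    Module.Finite.of_injective (FixedPoints.subalgebra R A ↥(K j)).val.toLinearMap Subtype.val_injective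
  let b := fun j => Module.finBasis R (FixedPoints.subalgebra R A ↥(K j))
  let v : (∀ j, Fin (Module.finrank R (FixedPoints.subalgebra R A ↥(K j)))) → A := fun m => ∏ j, (b j (m j) : A)
  have hTv : ∀ a ∈ T, a ∈ Submodule.span R (Set.range v) := by
    have hmon : ∀ x : ∀ j, FixedPoints.subalgebra R A ↥(K j), (∏ j, (x j : A)) ∈ Submodule.span R (Set.range v) := by
      intro x
      have e : ∀ j, (x j : A) = ∑ l, (b j).repr (x j) l • (b j l : A) := fun j => by
        have := congrArg (FixedPoints.subalgebra R A ↥(K j)).val ((b j).sum_repr (x j))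
        simpa only [map_sum, map_smul, Subalgebra.coe_val] using this.symm
      rw [Finset.prod_congr rfl fun j _ => e j, Finset.prod_univ_sum]
      refine Submodule.sum_mem _ fun m _ => ?_
      rw [Finset.prod_smul]
      exact Submodule.smul_mem _ _ (Submodule.subset_span ⟨m, rfl⟩)
    have hv : ∀ x y, x ∈ Submodule.span R (Set.range v) → y ∈ Submodule.span R (Set.range v) →
        x * y ∈ Submodule.span R (Set.range v) := by
      intro x y hx hy
      have := Submodule.mul_mem_mul hx hy
      rw [Submodule.span_mul_span] at this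
      refine Submodule.span_le.2 ?_ this
      rintro _ ⟨_, ⟨m, rfl⟩, _, ⟨m', rfl⟩, rfl⟩
      have := hmon fun j => b j (m j) * b j (m' j)
      simpa [v, ← Finset.prod_mul_distrib] using this
    intro a ha
    let S : Subalgebra R A :=
      (Submodule.span R (Set.range v)).toSubalgebra (by simpa using hmon fun j => 1) hv
    refine (iSup_le (fun j x hx => ?_) : T ≤ S) ha
    have := hmon (Function.update 1 j ⟨x, hx⟩)
    rw [Finset.prod_eq_single j] at this
    · simpa [S] using this
    · intro l _ hl; simp [hl]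
    · simp
  have hcardv : Fintype.card (∀ j, Fin (Module.finrank R (FixedPoints.subalgebra R A ↥(K j)))) = Module.finrank R A := by
    have hfr : ∀ j, Module.finrank R (FixedPoints.subalgebra R A ↥(K j)) = p := fun j => by
      have := hnormal (K j); rw [finrank_fixed hinj (K j), hindex]
    have : IsGaloisGroup H R A := { faithful := inferInstance, commutes := inferInstance, isInvariant := inferInstance }
    rw [← IsGaloisGroup.card_eq_finrank' H R A, hcard]
    simp [hfr]
  have hli : LinearIndependent R v := by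
    refine linearIndependent_of_torsion v hcardv fun a => ?_
    obtain ⟨s, hs, hsa⟩ := hloc ⊥ Ideal.isPrime_bot (by simp)
    exact ⟨s, fun h => hs (h ▸ zero_mem _), hTv _ (hsa a)⟩
  rw [eq_top_iff]
  rintro a -
  obtain ⟨s₀, hs₀', hs₀a⟩ := hloc ⊥ Ideal.isPrime_bot (by simp)
  have hs₀ : s₀ ≠ 0 := fun h => hs₀' (h ▸ zero_mem _)
  obtain ⟨c, hc⟩ := (Submodule.mem_span_range_iff_exists_fun R).1 (hTv _ (hs₀a a))
  have hdiv : ∀ m, s₀ ∣ c m := by
    intro m
    by_contra hnd
    let z : QuotSMulTop s₀ R := Submodule.Quotient.mk (c m)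
    have hz : z ≠ 0 := by
      intro h
      rw [Submodule.Quotient.mk_eq_zero, ← Submodule.ideal_span_singleton_smul, smul_eq_mul, Ideal.mul_top,
        Ideal.mem_span_singleton] at h
      exact hnd h
    obtain ⟨q, hq, hle⟩ := exists_le_isAssociatedPrime_of_isNoetherianRing R z hz
    obtain ⟨s, hsq, hsa⟩ := hloc q hq.isPrime (height_le_one_of_associatedPrime hs₀ hq)
    obtain ⟨c', hc'⟩ := (Submodule.mem_span_range_iff_exists_fun R).1 (hTv _ (hsa a))
    have heq : s₀ * c' m = s * c m := by
      have h0 : ∑ l, (s₀ * c' l - s * c l) • v l = 0 := by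
        simp only [sub_smul, Finset.sum_sub_distrib, mul_smul, ← Finset.smul_sum, hc, hc', sub_eq_zero]
        exact smul_comm _ _ _
      exact sub_eq_zero.1 (Fintype.linearIndependent_iff.1 hli _ h0 m)
    apply hsq
    apply hle
    simp only [Submodule.mem_colon_singleton, Submodule.mem_bot, z, ← Submodule.Quotient.mk_smul,
      Submodule.Quotient.mk_eq_zero, ← Submodule.ideal_span_singleton_smul, smul_eq_mul, Ideal.mul_top,
      Ideal.mem_span_singleton]
    exact ⟨c' m, heq.symm⟩
  choose d hd using hdiv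
  have ha : a = ∑ m, d m • v m := by
    have : s₀ • (a - ∑ m, d m • v m) = 0 := by
      simp only [smul_sub, Finset.smul_sum, ← mul_smul, ← hd, hc, sub_self]
    rw [Algebra.smul_def] at this
    exact sub_eq_zero.1 ((mul_eq_zero.1 this).resolve_left (by simpa using (map_ne_zero_iff _ hinj).2 hs₀))
  rw [ha]
  exact Subalgebra.sum_mem _ fun m _ => T.smul_mem (prod_mem fun j _ => hBT j (b j (m j)).2) _

end Groth.Agent.S15812
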