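import Groth.Statements.S15813
import Groth.Agent.ASPurity.Break

set_option autoImplicit false
universe u
open WildQuot

namespace Groth.Agent.S15813

open PowerSeries Groth.Agent.ASPurity in
theorem aux (p : ℕ) [Fact p.Prime] (k : Type u) [Field k] [CharP k p]
    (σ : PowerSeries k ≃ₐ[k] PowerSeries k) (hσp : σ ^ p = 1)
    (m : ℕ) (hm : (σ X - X).order = ((m + 1 : ℕ) : ℕ∞))
    (f : PowerSeries k) (hfσ : σ f = f) (hf0 : constantCoeff f ≠ 0)
    (μ : ℕ) (hμ : 0 < μ) (hpμ : ¬ p ∣ μ)
    (x : PowerSeries k) (hxσ : σ x = x) (ξ : PowerSeries k) (hx : x = X ^ p * ξ)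
    (hξ : constantCoeff ξ ≠ 0)
    (w : PowerSeries k) (hw : w ^ p - x ^ ((p - 1) * μ) * w = f * x ^ ((p - 1) * μ)) :
    μ = m := by
  have hp := Fact.out (p := p.Prime)
  have hp2 := hp.two_le
  have hn : 0 < (p - 1) * μ := Nat.mul_pos (by omega) hμ
  set n := (p - 1) * μ with hndef
  have hξn : constantCoeff (ξ ^ n) ≠ 0 := by rw [map_pow]; exact pow_ne_zero _ hξ
  have hxn : x ^ n = X ^ (p * n) * ξ ^ n := by rw [hx, mul_pow, ← pow_mul]
  have hxn0 : constantCoeff (x ^ n) = 0 := by
    rw [hxn, map_mul, map_pow constantCoeff X, constantCoeff_X,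
      zero_pow (Nat.mul_pos hp.pos hn).ne', zero_mul]
  have hxne : x ^ n ≠ 0 := by
    rw [hxn]
    exact mul_ne_zero (pow_ne_zero _ X_ne_zero) fun h => hξn (by rw [h, map_zero])
  have hw0 : w ≠ 0 := by
    rintro rfl
    rw [zero_pow hp.ne_zero, mul_zero, sub_zero] at hw
    rcases mul_eq_zero.mp hw.symm with h | h
    · exact hf0 (by rw [h, map_zero])
    · exact hxne h
  obtain ⟨e, v, hv, hv0⟩ := Break.exists_eq_X_pow_mul hw0
  have he : e ≠ 0 := by
    rintro rfl
    rw [pow_zero, one_mul] at hv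
    subst hv
    have := congrArg constantCoeff hw
    rw [map_sub, map_mul, map_mul, hxn0, zero_mul, sub_zero, mul_zero, map_pow] at this
    exact pow_ne_zero _ hv0 this
  have hwf : constantCoeff (w + f) ≠ 0 := by
    rw [hv, map_add, map_mul, map_pow, constantCoeff_X, zero_pow he, zero_mul, zero_add]
    exact hf0
  have hen : e = n := by
    have h1 : X ^ (e * p) * v ^ p = X ^ (p * n) * (ξ ^ n * (w + f)) := by
      rw [← mul_assoc, ← hxn, pow_mul, ← mul_pow, ← hv]
      linear_combination hw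
    have h2 := Break.eq_of_X_pow_mul_eq (by rw [map_pow]; exact pow_ne_zero _ hv0)
      (by rw [map_mul]; exact mul_ne_zero hξn hwf) h1
    rw [mul_comm] at h2
    exact Nat.eq_of_mul_eq_mul_left hp.pos h2
  subst hen
  have hpn : ¬ p ∣ n := by
    rw [hndef, hp.dvd_mul]
    rintro (h | h)
    · exact absurd (Nat.le_of_dvd (by omega) h) (by omega)
    · exact hpμ h
  obtain ⟨q, hq, hq0⟩ := Break.map_sub_eq σ p hσp hm hpn hv0
  rw [← hv] at hq
  have hσw : σ w ^ p - x ^ n * σ w = f * x ^ n := by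
    have := congrArg σ hw
    simpa [map_sub, map_mul, map_pow, hxσ, hfσ] using this
  have hd : (σ w - w) ^ p = x ^ n * (σ w - w) := by
    haveI : CharP (PowerSeries k) p := charP_of_injective_ringHom PowerSeries.C_injective p
    rw [sub_pow_char]
    linear_combination hσw - hw
  rw [hq, hxn, mul_pow, ← pow_mul] at hd
  have h3 : X ^ ((n + m) * p) * q ^ p = X ^ (p * n + (n + m)) * (ξ ^ n * q) := by
    rw [pow_add]; linear_combination hd
  have h4 := Break.eq_of_X_pow_mul_eq (by rw [map_pow]; exact pow_ne_zero _ hq0)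
    (by rw [map_mul]; exact mul_ne_zero hξn hq0) h3
  obtain ⟨q', rfl⟩ : ∃ q', p = q' + 1 := ⟨p - 1, by omega⟩
  simp only [Nat.add_sub_cancel] at hndef
  have h5 : q' * m = q' * μ := by rw [hndef] at h4; linarith
  exact (Nat.eq_of_mul_eq_mul_left (by omega) h5).symm

/-- Let `k` be a field of characteristic `p > 0`, `A = k[[u]]`, and `σ` a `k`-algebra automorphism of
`A` of order exactly `p`, with ramification break `m`: `σ u - u` has order `m + 1`. Let `x = ∏_{i <
p} σ^i u` be the norm of `u`, let `f ∈ A` be `σ`-invariant with nonzero constant term (a unit of the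
invariant ring `k[[x]]`), let `μ > 0` be prime to `p`, and let `z ∈ Frac(A)` satisfy the
Artin–Schreier equation `z ^ p - z = f / x ^ μ`. Then `μ = m`. (The published statement also records
that `Frac(A) = Frac(A^σ)(z)`; that follows from the equation since `p` does not divide `μ`, so it
is not repeated as a hypothesis.) -/
theorem result
    (p : ℕ) [Fact p.Prime] (k : Type u) [Field k] [CharP k p]
    (σ : PowerSeries k ≃ₐ[k] PowerSeries k) (hσp : σ ^ p = 1) (hσ1 : σ ≠ 1)
    (m : ℕ) (hm : (σ PowerSeries.X - PowerSeries.X).order = ((m + 1 : ℕ) : ℕ∞))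
    (f : PowerSeries k) (hfσ : σ f = f) (hf0 : PowerSeries.constantCoeff f ≠ 0)
    (μ : ℕ) (hμ : 0 < μ) (hpμ : ¬ p ∣ μ)
    (z : FractionRing (PowerSeries k))
    (hz : z ^ p - z = algebraMap (PowerSeries k) (FractionRing (PowerSeries k)) f /
      algebraMap (PowerSeries k) (FractionRing (PowerSeries k))
        (∏ i ∈ Finset.range p, (σ ^ i) PowerSeries.X) ^ μ) :
    μ = m := by
  have hp := Fact.out (p := p.Prime)
  obtain ⟨hxσ, ξ, hx, hξ⟩ := Groth.Agent.ASPurity.Break.norm_X σ p hσp
  generalize (∏ i ∈ Finset.range p, (σ ^ i) PowerSeries.X) = x at hz hxσ hx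
  set φ := algebraMap (PowerSeries k) (FractionRing (PowerSeries k)) with hφ
  have hxne : φ x ≠ 0 := by
    rw [Ne, map_eq_zero_iff φ (IsFractionRing.injective _ _), hx]
    exact mul_ne_zero (pow_ne_zero _ PowerSeries.X_ne_zero) fun h => hξ (by rw [h, map_zero])
  have hz' : (z ^ p - z) * φ x ^ μ = φ f := by
    rw [hz]; exact div_mul_cancel₀ _ (pow_ne_zero _ hxne)
  have hW : (z * φ x ^ μ) ^ p - φ x ^ ((p - 1) * μ) * (z * φ x ^ μ) =
      φ f * φ x ^ ((p - 1) * μ) := by
    rw [← hz']
    obtain ⟨q', rfl⟩ : ∃ q', p = q' + 1 := ⟨p - 1, by have := hp.two_le; omega⟩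
    simp only [Nat.add_sub_cancel]
    ring
  have hint : IsIntegral (PowerSeries k) (z * φ x ^ μ) := by
    refine ⟨Polynomial.X ^ p - (Polynomial.C (x ^ ((p - 1) * μ)) * Polynomial.X +
      Polynomial.C (f * x ^ ((p - 1) * μ))), Polynomial.monic_X_pow_sub ?_, ?_⟩
    · exact lt_of_le_of_lt Polynomial.degree_linear_le (by exact_mod_cast hp.one_lt)
    · simp only [Polynomial.eval₂_sub, Polynomial.eval₂_X_pow, Polynomial.eval₂_add,
        Polynomial.eval₂_mul, Polynomial.eval₂_pow, Polynomial.eval₂_C, Polynomial.eval₂_X, map_mul, map_pow, ← hφ]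
      linear_combination hW
  obtain ⟨w, hw⟩ := IsIntegrallyClosed.isIntegral_iff.mp hint
  refine aux p k σ hσp m hm f hfσ hf0 μ hμ hpμ x hxσ ξ hx hξ w
    (IsFractionRing.injective (PowerSeries k) (FractionRing (PowerSeries k)) ?_)
  simp only [map_sub, map_mul, map_pow, ← hφ]
  rw [show φ w = z * φ x ^ μ from hw]
  exact hW

end Groth.Agent.S15813
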