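import Groth.Statements.S15814
import Mathlib
import Groth.Agent.RegLoc.Homological
import Groth.Agent.InvQLib.FiniteFree

set_option autoImplicit false
universe u v w
open WildQuot

namespace Groth.Agent.S15814

open TensorProduct
theorem free_and_regular_of_coprod {R : Type u} [CommRing R] [IsRegularLocalRing R] {A : Type v} [CommRing A]
    [IsRegularLocalRing A] [Algebra R A] [Module.Finite R A] [Module.Free R A] (hinj : Function.Injective (algebraMap R A))
    {ι : Type} [DecidableEq ι] (B : ι → Subalgebra R A)
    (hcoprod : ∀ (C : Type (max u v)) [CommRing C] [Algebra R C] (φ : ∀ i, B i →ₐ[R] C),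
      ∃! ψ : A →ₐ[R] C, ∀ i (x : B i), ψ x = φ i x) (i : ι) :
    Module.Free R (B i) ∧ IsRegularLocalRing (B i) := by
  let C : Subalgebra R A := ⨆ j ∈ {j | j ≠ i}, B j
  have hC : ∀ j, j ≠ i → B j ≤ C := fun j hj => le_iSup₂ (f := fun j (_ : j ∈ {j | j ≠ i}) => B j) j hj
  let φ : ∀ j, B j →ₐ[R] ULift.{u} (B i ⊗[R] C) := fun j =>
    ULift.algEquiv.symm.toAlgHom.comp (if h : j = i then
      Algebra.TensorProduct.includeLeft.comp (Subalgebra.inclusion (h ▸ le_rfl))
    else Algebra.TensorProduct.includeRight.comp (Subalgebra.inclusion (hC j h)))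
  obtain ⟨ψ₀, hψ₀, -⟩ := hcoprod _ φ
  let ψ : A →ₐ[R] B i ⊗[R] C := ULift.algEquiv.toAlgHom.comp ψ₀
  have hψi : ∀ x : B i, ψ x = x ⊗ₜ[R] (1 : C) := by
    intro x
    simp [ψ, hψ₀, φ]
  have hψj : ∀ j (hj : j ≠ i) (x : B j), ψ x = (1 : B i) ⊗ₜ[R] (⟨x, hC j hj x.2⟩ : C) := by
    intro j hj x
    simp [ψ, hψ₀, φ, hj]
    rfl
  have hψC : ∀ c : C, ψ c = (1 : B i) ⊗ₜ[R] c := by
    intro c
    have key : ψ.comp C.val = Algebra.TensorProduct.includeRight := by
      have : C ≤ ((AlgHom.equalizer (ψ.comp C.val) Algebra.TensorProduct.includeRight).map C.val) := by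
        refine iSup₂_le fun j hj x hx => ?_
        exact ⟨⟨x, hC j hj hx⟩, hψj j hj ⟨x, hx⟩, rfl⟩
      apply AlgHom.ext
      intro c
      obtain ⟨c', hc', he⟩ := this c.2
      obtain rfl : c' = c := Subtype.ext he
      exact hc'
    exact DFunLike.congr_fun key c
  let μ : B i ⊗[R] C →ₐ[R] A := Algebra.TensorProduct.productMap (B i).val C.val
  have hμψ : μ.comp ψ = AlgHom.id R A := by
    obtain ⟨χ, -, huniq⟩ := hcoprod (ULift.{u} A) (fun j => ULift.algEquiv.symm.toAlgHom.comp (B j).val)
    have h1 := huniq (ULift.algEquiv.symm.toAlgHom.comp (μ.comp ψ)) (fun j x => by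
      simp only [AlgHom.comp_apply]
      congr 1
      by_cases hj : j = i
      · subst hj; rw [hψi]; simp [μ]
      · rw [hψj j hj]; simp [μ])
    have h2 := huniq ULift.algEquiv.symm.toAlgHom (fun j x => rfl)
    apply AlgHom.ext; intro a
    exact ULift.algEquiv.symm.injective (DFunLike.congr_fun (h1.trans h2.symm) a)
  have hψμ : ψ.comp μ = AlgHom.id R _ := by
    apply Algebra.TensorProduct.ext
    · apply AlgHom.ext; intro x; simp [μ, hψi]
    · apply AlgHom.ext; intro x; simp [μ, hψC]
  let e : B i ⊗[R] C ≃ₐ[R] A := AlgEquiv.ofAlgHom μ ψ hμψ hψμ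
  have hR : Module.Finite R (B i) := Module.Finite.of_injective (B i).val.toLinearMap Subtype.val_injective
  obtain ⟨r, hr⟩ : ∃ r : A →ₗ[R] R, r 1 = 1 := by
    have hne : (algebraMap R A).comp (RingHom.id R) = algebraMap R A := rfl
    obtain ⟨f, hf⟩ : ∃ f : A →ₗ[R] R, IsUnit (f 1) := by
      by_contra h
      push Not at h
      let b := Module.Free.chooseBasis R A
      have hm : (1 : A) ∈ (IsLocalRing.maximalIdeal R).map (algebraMap R A) := by
        rw [← b.linearCombination_repr 1, Finsupp.linearCombination_apply]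
        refine Ideal.sum_mem _ fun m _ => ?_
        simp only [Algebra.smul_def]
        exact Ideal.mul_mem_right _ _ (Ideal.mem_map_of_mem _ (h (b.coord m)))
      have : Algebra.IsIntegral R A := Algebra.IsIntegral.of_finite R A
      obtain ⟨Q, hQ, hQR⟩ := Ideal.exists_ideal_over_maximal_of_isIntegral (S := A) (IsLocalRing.maximalIdeal R)
        (by rw [(RingHom.injective_iff_ker_eq_bot _).1 hinj]; exact bot_le)
      exact hQ.ne_top ((Ideal.eq_top_iff_one _).2 (Ideal.map_le_iff_le_comap.2 hQR.ge hm))
    obtain ⟨u, hu⟩ := hf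
    exact ⟨(↑u⁻¹ : R) • f, by simp [← hu]⟩
  let π : A →ₗ[R] B i :=
    (TensorProduct.rid R (B i)).toLinearMap ∘ₗ (r ∘ₗ C.val.toLinearMap).lTensor (B i) ∘ₗ ψ.toLinearMap
  have hπ : π ∘ₗ (B i).val.toLinearMap = LinearMap.id := by
    ext x
    simp [π, hψi, hr]
  have hproj : Module.Projective R (B i) := Module.Projective.of_split _ _ hπ
  let π' : A →ₗ[R] C :=
    (TensorProduct.lid R C).toLinearMap ∘ₗ (r ∘ₗ (B i).val.toLinearMap).rTensor C ∘ₗ ψ.toLinearMap
  have hπ' : π' ∘ₗ C.val.toLinearMap = LinearMap.id := by
    ext x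
    simp [π', hψC, hr]
  have hprojC : Module.Projective R C := Module.Projective.of_split _ _ hπ'
  refine ⟨Module.free_of_flat_of_isLocalRing, ?_⟩
  have : Algebra.IsIntegral (B i) A := Algebra.IsIntegral.tower_top R
  have hloc : IsLocalHom (B i).val.toRingHom := by
    refine ⟨fun a ha => ?_⟩
    by_contra h
    obtain ⟨M, hM, haM⟩ := exists_max_ideal_of_mem_nonunits h
    obtain ⟨Q, hQ, hQM⟩ := Ideal.exists_ideal_over_maximal_of_isIntegral (S := A) M
      (by rw [(RingHom.injective_iff_ker_eq_bot (algebraMap (B i) A)).1 Subtype.val_injective]; exact bot_le)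
    exact hQ.ne_top (Ideal.eq_top_of_isUnit_mem _ (hQM.ge haM) ha)
  have : IsLocalRing (B i) := RingHom.domain_isLocalRing (B i).val.toRingHom
  have : IsNoetherianRing (B i) := isNoetherian_of_tower R inferInstance
  have : IsLocalHom (algebraMap (B i) A) := hloc
  let e' : (B i ⊗[R] C) ≃ₗ[B i] A :=
    { e.toLinearEquiv with
      map_smul' := fun b x => by
        change e (b • x) = b • e x
        induction x using TensorProduct.induction_on with
        | zero => simp
        | tmul u v => rw [TensorProduct.smul_tmul', Algebra.smul_def]; simp [e, μ, Algebra.smul_def, mul_assoc]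
        | add u v hu hv => rw [smul_add, map_add, map_add, smul_add, hu, hv] }
  have : Module.Flat (B i) A := Module.Flat.of_linearEquiv e'.symm
  exact RegLoc.Homological.isRegularLocalRing_of_flat A

/-- Let `R` be a regular local ring and `A` a regular local ring, finite over `R` (with `R → A`
injective) and with the same residue field; let a finite commutative group `H` of order `p ^ n` (`p`
prime) act faithfully on `A` by `R`-algebra automorphisms with ring of invariants exactly `R`, and
let `G_1, …, G_n ≤ H` be subgroups of order `p` generating `H`, each the inertia subgroup of some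
height-one prime of `A`. Put `G_i^⊥ =` the subgroup generated by the `G_j` with `j ≠ i` and `B_i =
A^{G_i^⊥}`. Suppose `A` is the coproduct of the `R`-algebras `B_1, …, B_n`: every family of
`R`-algebra maps `B_i → C` into a commutative `R`-algebra `C` is the restriction of a unique
`R`-algebra map `A → C` (that is, the product map `B_1 ⊗_R ⋯ ⊗_R B_n → A` is an isomorphism). Then
every `B_i` is a free `R`-module and a regular local ring. (The published statement is for `A`
complete regular with an action ramified precisely at the origin, `R` a norm subring and `H` the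
Galois group of `Frac(A)/Frac(R)`, when that extension is Galois, and adds that the branch-locus
equations `a_1, …, a_n` of the `B_i` over `R` form a system of parameters of `R`; that last clause
is not included, and the test algebras `C` are taken in one universe large enough to contain the
tensor product.) -/
theorem result
    (p : ℕ) [Fact p.Prime] (R : Type u) [CommRing R] [IsRegularLocalRing R]
    (A : Type v) [CommRing A] [IsRegularLocalRing A]
    [Algebra R A] [Module.Finite R A] (hinj : Function.Injective (algebraMap R A))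
    (hres : Function.Surjective (IsLocalRing.residue A ∘ algebraMap R A))
    (H : Type w) [Group H] [Finite H] [MulSemiringAction H A] [SMulCommClass H R A] [FaithfulSMul H A]
    (hfix : ∀ a : A, (∀ h : H, h • a = a) → a ∈ Set.range (algebraMap R A))
    (hcomm : ∀ g h : H, g * h = h * g)
    (n : ℕ) (hcard : Nat.card H = p ^ n) (Gi : Fin n → Subgroup H)
    (hGi : ∀ i, Nat.card (Gi i) = p) (hsup : (⨆ i, Gi i) = ⊤)
    (hinert : ∀ i, ∃ P : Ideal A, P.IsPrime ∧ P.height = 1 ∧ P.inertia H = Gi i)
    (hcoprod : ∀ (C : Type (max u v)) [CommRing C] [Algebra R C]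
      (φ : ∀ i : Fin n,
        FixedPoints.subalgebra R A ↥(⨆ j ∈ (Finset.univ.erase i : Finset (Fin n)), Gi j : Subgroup H) →ₐ[R] C),
      ∃! ψ : A →ₐ[R] C, ∀ i
        (x : FixedPoints.subalgebra R A ↥(⨆ j ∈ (Finset.univ.erase i : Finset (Fin n)), Gi j : Subgroup H)),
        ψ x = φ i x) :
    ∀ i, Module.Free R
        (FixedPoints.subalgebra R A ↥(⨆ j ∈ (Finset.univ.erase i : Finset (Fin n)), Gi j : Subgroup H)) ∧
      IsRegularLocalRing
        (FixedPoints.subalgebra R A ↥(⨆ j ∈ (Finset.univ.erase i : Finset (Fin n)), Gi j : Subgroup H)) := by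
  intro i
  have : Module.Free R A := InvQLib.FiniteFree.free_of_finite' R A hinj
  exact free_and_regular_of_coprod hinj _ hcoprod i

end Groth.Agent.S15814
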