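import Groth.Prelude.Def_Koszul
import Mathlib.RingTheory.Regular.RegularSequence
import Mathlib.RingTheory.Ideal.Quotient.Basic
import Mathlib.LinearAlgebra.TensorProduct.Basic
import Mathlib.Algebra.GroupWithZero.NonZeroDivisors
import Groth.Agent.KoszulMul.Basic
import Groth.Agent.KReg44.Weakly
-- import your own Groth.Agent.* helpers here

set_option autoImplicit false
universe u
open CategoryTheory
open scoped TensorProduct
open Koszul

namespace Groth.Agent.S15816

/-- Let A be a commutative ring, f = (f_1, …, f_n) a sequence in A that is regular in the weak sense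
(f_1 is a non-zero-divisor of A and each f_i is a non-zero-divisor modulo (f_1, …, f_{i-1})), with
Koszul complex K(f) and differentials ∂^q, and let x be a non-zero-divisor of A. Then for every
integer q < 0 the q-th cohomology module of the Koszul complex of (x f_1, …, x f_n) is isomorphic as
an A-module to Ker(∂^q) ⊗_A A/(x) (existence of an A-linear isomorphism; mapping-cone model of the
Koszul complex). -/
theorem result (A : Type u) [CommRing A] (l : List A)
    (hl : RingTheory.Sequence.IsWeaklyRegular A l) (x : A) (hx : x ∈ nonZeroDivisors A) (q : ℤ) (hq : q < 0) :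
    Nonempty ((Koszul.koszul A (l.map (fun f => x * f))).homology q ≅
      ModuleCat.of A (↥(LinearMap.ker ((Koszul.koszul A l).d q (q + 1)).hom) ⊗[A] (A ⧸ Ideal.span {x}))) := by
  obtain ⟨i⟩ := Agent.KoszulMul.Basic.homology_koszul_mul l hx q
  have hle := Agent.KoszulMul.Basic.ker_le_range_of_isZero
    (Agent.KReg44.isKoszulRegularSeq_of_isWeaklyRegular l.length l rfl hl q hq.ne)
  have heq : LinearMap.range ((Koszul.koszul A l).d (q - 1) q).hom =
      LinearMap.ker ((Koszul.koszul A l).d q (q + 1)).hom :=
    le_antisymm (Agent.KoszulMul.Basic.range_le_ker _ _ _ _) hle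
  rw [heq] at i
  refine ⟨i ≪≫ LinearEquiv.toModuleIso ?_⟩
  refine (Submodule.quotEquivOfEq _ _ ?_).trans
    ((TensorProduct.comm A _ _).trans (TensorProduct.quotTensorEquivQuotSMul _ (Ideal.span {x}))).symm
  apply Submodule.map_injective_of_injective (LinearMap.ker ((Koszul.koszul A l).d q (q + 1)).hom).injective_subtype
  rw [Submodule.map_comap_subtype, Submodule.map_smul'', Submodule.map_subtype_top]
  exact inf_eq_right.mpr Submodule.smul_le_right

end Groth.Agent.S15816
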