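import Groth.Statements.S15817
import Mathlib.Algebra.Category.ModuleCat.Limits
import Mathlib.CategoryTheory.Limits.Types.Pullbacks

set_option autoImplicit false
universe u v
open CategoryTheory
open CAlg

namespace Groth.Agent.S15817

/-- Let A be a commutative ring, M an A-module and P, Q submodules of M. Then the commuting square of
quotient projections with corners M/(P ∩ Q), M/P, M/Q and M/(P + Q) is cartesian in the category of
A-modules: M/(P ∩ Q) is the fibre product of M/P and M/Q over M/(P + Q). -/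
theorem result (A : Type u) [CommRing A] (M : Type v) [AddCommGroup M] [Module A M]
    (P Q : Submodule A M) :
    IsPullback (ModuleCat.ofHom (Submodule.factor (inf_le_left : P ⊓ Q ≤ P)))
      (ModuleCat.ofHom (Submodule.factor (inf_le_right : P ⊓ Q ≤ Q)))
      (ModuleCat.ofHom (Submodule.factor (le_sup_left : P ≤ P ⊔ Q)))
      (ModuleCat.ofHom (Submodule.factor (le_sup_right : Q ≤ P ⊔ Q))) := by
  haveI : Limits.ReflectsLimit (Limits.cospan (ModuleCat.ofHom (Submodule.factor (le_sup_left : P ≤ P ⊔ Q))) (ModuleCat.ofHom (Submodule.factor (le_sup_right : Q ≤ P ⊔ Q))))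
      (forget (ModuleCat.{v} A)) := Limits.reflectsLimit_of_reflectsIsomorphisms _ _
  refine IsPullback.of_map (forget (ModuleCat.{v} A)) ?_ ?_
  · ext x
    rfl
  rw [Limits.Types.isPullback_iff]
  refine ⟨?_, ?_, ?_⟩
  · ext x
    obtain ⟨x, rfl⟩ := Submodule.mkQ_surjective _ x
    rfl
  · rintro x y ⟨h1, h2⟩
    obtain ⟨x, rfl⟩ := Submodule.mkQ_surjective _ x
    obtain ⟨y, rfl⟩ := Submodule.mkQ_surjective _ y
    have h1' : (Submodule.mkQ P) x = Submodule.mkQ P y := h1
    have h2' : (Submodule.mkQ Q) x = Submodule.mkQ Q y := h2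
    simp only [Submodule.mkQ_apply, Submodule.Quotient.eq] at h1' h2'
    exact (Submodule.Quotient.eq _).2 ⟨h1', h2'⟩
  · intro x y h
    obtain ⟨x, rfl⟩ := Submodule.mkQ_surjective _ x
    obtain ⟨y, rfl⟩ := Submodule.mkQ_surjective _ y
    have h' : (Submodule.mkQ (P ⊔ Q)) x = Submodule.mkQ (P ⊔ Q) y := h
    rw [Submodule.mkQ_apply, Submodule.mkQ_apply, Submodule.Quotient.eq, Submodule.mem_sup] at h'
    obtain ⟨p, hp, q, hq, hpq⟩ := h'
    refine ⟨Submodule.mkQ _ (x - p), ?_, ?_⟩
    · show Submodule.mkQ P (x - p) = Submodule.mkQ P x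
      simp [Submodule.Quotient.eq, hp]
    · show Submodule.mkQ Q (x - p) = Submodule.mkQ Q y
      have : x - p - y = q := by rw [sub_right_comm, ← hpq]; abel
      simp only [Submodule.mkQ_apply, Submodule.Quotient.eq, this, hq]

end Groth.Agent.S15817
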