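import Groth.Prelude.Def_Koszul
import Mathlib.RingTheory.Ideal.Operations
import Mathlib.Algebra.Algebra.Operations
import Mathlib.Algebra.GroupWithZero.NonZeroDivisors
import Mathlib.Algebra.Regular.SMul
import Mathlib.CategoryTheory.Limits.Shapes.Pullback.IsPullback.Basic
import Groth.Agent.KoszulMul.Basic
-- import your own Groth.Agent.* helpers here

set_option autoImplicit false
universe u
open CategoryTheory
open Koszul

namespace Groth.Agent.S15818

/-- Let A be a commutative ring, f = (f_1, …, f_n) a finite sequence in A with Koszul complex K = K(f)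
(mapping-cone model) and differentials ∂, q an integer, Z = Ker(∂^q) and B = Im(∂^{q-1}), so B ⊆ Z
inside K^q (this inclusion is carried as the hypothesis hBZ). Let x be a non-zero-divisor of A which
moreover acts injectively on the cohomology module Z/B (for Noetherian A this says that x lies in no
associated prime of Z/B, which is how the published statement phrases it; the published argument
uses exactly the injectivity). Then the commuting square of quotient projections with corners Z/xB
(top left; it is isomorphic to the q-th cohomology of the Koszul complex of (x f_1, …, x f_n)), Z/xZ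
= Z ⊗ A/(x) (top right), Z/B (bottom left) and Z/(B + xZ) = (Z/B) ⊗ A/(x) (bottom right) is
cartesian in the category of A-modules. All four corners are written as quotients of Z by the
preimages of the submodules xB, xZ, B, B + xZ of K^q. -/
theorem result (A : Type u) [CommRing A] (l : List A) (q : ℤ)
    (K : CochainComplex (ModuleCat.{u} A) ℤ) (hK : K = Koszul.koszul A l)
    (hBZ : LinearMap.range (K.d (q - 1) q).hom ≤ LinearMap.ker (K.d q (q + 1)).hom)
    (x : A) (hx : x ∈ nonZeroDivisors A)
    (hxH : IsSMulRegular (↥(LinearMap.ker (K.d q (q + 1)).hom) ⧸ Submodule.comap (LinearMap.ker (K.d q (q + 1)).hom).subtype (LinearMap.range (K.d (q - 1) q).hom)) x) :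
    IsPullback
      (ModuleCat.ofHom (Submodule.factor (Submodule.comap_mono (Submodule.smul_mono le_rfl hBZ) :
        Submodule.comap (LinearMap.ker (K.d q (q + 1)).hom).subtype (Ideal.span {x} • LinearMap.range (K.d (q - 1) q).hom) ≤
          Submodule.comap (LinearMap.ker (K.d q (q + 1)).hom).subtype (Ideal.span {x} • LinearMap.ker (K.d q (q + 1)).hom))))
      (ModuleCat.ofHom (Submodule.factor (Submodule.comap_mono (Submodule.smul_le_right) :
        Submodule.comap (LinearMap.ker (K.d q (q + 1)).hom).subtype (Ideal.span {x} • LinearMap.range (K.d (q - 1) q).hom) ≤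
          Submodule.comap (LinearMap.ker (K.d q (q + 1)).hom).subtype (LinearMap.range (K.d (q - 1) q).hom))))
      (ModuleCat.ofHom (Submodule.factor (Submodule.comap_mono le_sup_right :
        Submodule.comap (LinearMap.ker (K.d q (q + 1)).hom).subtype (Ideal.span {x} • LinearMap.ker (K.d q (q + 1)).hom) ≤
          Submodule.comap (LinearMap.ker (K.d q (q + 1)).hom).subtype (LinearMap.range (K.d (q - 1) q).hom ⊔ Ideal.span {x} • LinearMap.ker (K.d q (q + 1)).hom))))
      (ModuleCat.ofHom (Submodule.factor (Submodule.comap_mono le_sup_left :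
        Submodule.comap (LinearMap.ker (K.d q (q + 1)).hom).subtype (LinearMap.range (K.d (q - 1) q).hom) ≤
          Submodule.comap (LinearMap.ker (K.d q (q + 1)).hom).subtype (LinearMap.range (K.d (q - 1) q).hom ⊔ Ideal.span {x} • LinearMap.ker (K.d q (q + 1)).hom)))) := by
  refine Agent.KoszulMul.Basic.isPullback_factor _ _ _ _ ?_ ?_
  · rintro z ⟨h1, h2⟩
    have h1' : z.1 ∈ Ideal.span {x} • LinearMap.ker (K.d q (q + 1)).hom := h1
    rw [Submodule.ideal_span_singleton_smul, Submodule.mem_smul_pointwise_iff_exists] at h1'
    obtain ⟨w, hw, hwz⟩ := h1'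
    obtain ⟨w', rfl⟩ : ∃ w' : LinearMap.ker (K.d q (q + 1)).hom, w'.1 = w := ⟨⟨w, hw⟩, rfl⟩
    have h2' : x • w' ∈ Submodule.comap (LinearMap.ker (K.d q (q + 1)).hom).subtype
        (LinearMap.range (K.d (q - 1) q).hom) := by
      rw [show x • w' = z from Subtype.ext hwz]; exact h2
    have h3 : Submodule.Quotient.mk (p := Submodule.comap (LinearMap.ker (K.d q (q + 1)).hom).subtype
        (LinearMap.range (K.d (q - 1) q).hom)) w' = 0 :=
      hxH (((Submodule.Quotient.mk_smul _ x w').symm.trans ((Submodule.Quotient.mk_eq_zero _).mpr h2')).trans (smul_zero x).symm)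
    have h4 : w'.1 ∈ LinearMap.range (K.d (q - 1) q).hom :=
      ((Submodule.Quotient.mk_eq_zero (Submodule.comap (LinearMap.ker (K.d q (q + 1)).hom).subtype
        (LinearMap.range (K.d (q - 1) q).hom))).mp h3 :)
    exact (show z.1 ∈ Ideal.span {x} • LinearMap.range (K.d (q - 1) q).hom from
      hwz ▸ Submodule.smul_mem_smul (Ideal.mem_span_singleton_self x) h4)
  · intro z hz
    have hz' : z.1 ∈ LinearMap.range (K.d (q - 1) q).hom ⊔ Ideal.span {x} • LinearMap.ker (K.d q (q + 1)).hom := hz
    obtain ⟨b, hb, w, hw, hbw⟩ := Submodule.mem_sup.mp hz'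
    refine Submodule.mem_sup.mpr ⟨⟨w, Submodule.smul_le_right hw⟩, hw, ⟨b, hBZ hb⟩, hb, Subtype.ext ?_⟩
    exact (add_comm w b).trans hbw

end Groth.Agent.S15818
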