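import Groth.Statements.S15824
import Groth.Agent.Omega.ConormalZero
import Groth.Agent.RegImm44.Affine
import Groth.Agent.Synt44.CM
-- import your own Groth.Agent.* helpers here

set_option autoImplicit false
universe u
open CategoryTheory AlgebraicGeometry
open RegImm

namespace Groth.Agent.S15824

/-- Quotient of a Cohen–Macaulay local ring by a regular sequence, with an associated maximal ideal. -/
theorem ringKrullDim_eq_zero {R S : Type u} [CommRing R] [CommRing S] [IsLocalRing S]
    [hR : LocCoh.IsCohenMacaulayLocalRing R] (φ : R →+* S) (hφ : Function.Surjective φ) (rs : List R)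
    (hker : RingHom.ker φ = Ideal.ofList rs) (hm : ∀ r ∈ rs, r ∈ IsLocalRing.maximalIdeal R)
    (hreg : RingTheory.Sequence.IsWeaklyRegular R rs)
    (hz : IsAssociatedPrime (IsLocalRing.maximalIdeal S) S) : ringKrullDim S = 0 := by
  letI : Algebra R S := φ.toAlgebra
  have hs : Function.Surjective (algebraMap R S) := hφ
  haveI : IsNoetherianRing S := isNoetherianRing_of_surjective R S _ hs
  haveI : Module.Finite R S := Module.Finite.of_surjective (Algebra.linearMap R S) hs
  have hk : LinearMap.ker (Algebra.linearMap R S) = (Ideal.ofList rs • ⊤ : Submodule R R) :=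
    hker.trans (Ideal.mul_top _).symm
  let l : (R ⧸ (Ideal.ofList rs • ⊤ : Submodule R R)) ≃ₗ[R] S :=
    (Submodule.quotEquivOfEq _ _ hk.symm).trans
      ((Algebra.linearMap R S).quotKerEquivOfSurjective hs)
  have hS : LocCoh.IsCohenMacaulayModule S S := (Depth.isCohenMacaulayModule_iff_of_surjective (R := R) hs).2
    ((Depth.isCohenMacaulayModule_congr l).1
      (Synt44.isCohenMacaulayModule_quotient_ofList rs R (Depth.isCohenMacaulayModule_self R) hm hreg))
  rw [← Module.supportDim_self_eq_ringKrullDim, ← Depth.ringKrullDim_quotient_associatedPrime hS hz]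
  letI : Field (S ⧸ IsLocalRing.maximalIdeal S) := Ideal.Quotient.field _
  exact ringKrullDim_eq_zero_of_field _

/-- Let X be a locally Noetherian scheme all of whose local rings are Cohen–Macaulay, and i : Z → X a
closed immersion which is regular (around every point, on some affine open of X the ideal of Z is
generated by a regular sequence). Then Z has no embedded points (each associated point of Z is
generic in an irreducible component): for every point z of Z, if the maximal ideal of O_{Z,z} is an
associated prime of O_{Z,z} (as a module over itself), then O_{Z,z} has Krull dimension 0. (The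
published statement takes X Noetherian and Z a local complete intersection subscheme; the assertion
is local on X and uses only that the ideal of Z is locally generated by a regular sequence.) -/
theorem result {X Z : Scheme.{u}}
    [IsLocallyNoetherian X] (hCM : ∀ x : X, LocCoh.IsCohenMacaulayLocalRing (X.presheaf.stalk x))
    (i : Z ⟶ X) [IsClosedImmersion i] (hi : RegImm.IsRegularImmersion RegImm.Kind.regular i) (z : Z)
    (hz : IsAssociatedPrime (IsLocalRing.maximalIdeal (Z.presheaf.stalk z)) (Z.presheaf.stalk z)) :
    ringKrullDim (Z.presheaf.stalk z) = 0 := by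
  obtain ⟨⟨V, hV⟩, hzV, hci, rs, hrs, hker⟩ := hi.2 z
  haveI := hci
  haveI := hCM (i z)
  letI : Algebra Γ(X, V) (X.presheaf.stalk (i z)) := X.presheaf.algebra_section_stalk ⟨i z, hzV⟩
  haveI := hV.isLocalization_stalk ⟨i z, hzV⟩
  haveI : Module.Flat Γ(X, V) (X.presheaf.stalk (i z)) :=
    IsLocalization.flat _ (hV.primeIdealOf ⟨i z, hzV⟩).asIdeal.primeCompl
  have hk : RingHom.ker (i.stalkMap z).hom = Ideal.ofList (rs.map (algebraMap Γ(X, V) (X.presheaf.stalk (i z)))) := by
    rw [Omega.ConormalZero.ker_stalkMap_eq i hV (RegImm44.isAffineOpen_preimage i hV) hzV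
      (RegImm44.app_surjective i hV), hker, Ideal.map_ofList]
    rfl
  refine ringKrullDim_eq_zero (i.stalkMap z).hom (i.stalkMap_surjective z) _ hk (fun r hr => ?_)
    (RingTheory.Sequence.IsRegular.toIsWeaklyRegular hrs).of_flat hz
  exact IsLocalRing.le_maximalIdeal (RingHom.ker_ne_top (i.stalkMap z).hom) (hk.ge (Ideal.subset_span hr))

end Groth.Agent.S15824
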