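import Groth.Statements.S15832
import Mathlib.Tactic.Group
import Mathlib.Topology.Algebra.IsUniformGroup.Basic


set_option autoImplicit false
universe u
open TopGrp

namespace Groth.Agent.S15832
/-- The translates of a family of subgroups. -/
def translates {T : Type u} [Group T] (G : Set (Subgroup T)) : Set (Set T) :=
  {S : Set T | ∃ Γ ∈ G, ∃ (x y : T), S = (fun g : T => x * g * y) '' (Γ : Set T)}

theorem nonarch {T : Type u} [Group T] (G : Set (Subgroup T)) :
    @NonarchimedeanGroup T _ (TopologicalSpace.generateFrom (translates G)) := by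
  let B := translates G
  let τ := TopologicalSpace.generateFrom B
  have basic : ∀ Γ ∈ G, ∀ x y : T,
      @IsOpen T τ ((fun g : T => x * g * y) '' (Γ : Set T)) :=
    fun Γ hΓ x y => TopologicalSpace.GenerateOpen.basic _ ⟨Γ, hΓ, x, y, rfl⟩
  have hgrp : @IsTopologicalGroup T τ _ := by
    letI := τ
    refine { continuous_mul := ?_, continuous_inv := ?_ }
    · refine continuous_generateFrom_iff.2 ?_
      rintro _ ⟨Γ, hG, x, y, rfl⟩
      rw [isOpen_iff_mem_nhds]
      rintro ⟨a, b⟩ ⟨γ, hγ, he⟩
      have he : x * γ * y = a * b := he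
      refine Filter.mem_of_superset (prod_mem_nhds
        ((basic Γ hG (a * b * y⁻¹) (y * b⁻¹)).mem_nhds ⟨1, Γ.one_mem, by group⟩)
        ((basic Γ hG (b * y⁻¹) y).mem_nhds ⟨1, Γ.one_mem, by group⟩)) ?_
      rintro ⟨u, v⟩ ⟨⟨c, hc, rfl⟩, d, hd, rfl⟩
      refine ⟨γ * c * d, Γ.mul_mem (Γ.mul_mem hγ hc) hd, ?_⟩
      show x * (γ * c * d) * y = (a * b * y⁻¹ * c * (y * b⁻¹)) * (b * y⁻¹ * d * y)
      rw [← he]; group
    · refine continuous_generateFrom_iff.2 ?_
      rintro _ ⟨Γ, hG, x, y, rfl⟩
      convert basic Γ hG y⁻¹ x⁻¹ using 1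
      ext g
      constructor
      · rintro ⟨γ, hγ, he⟩
        exact ⟨γ⁻¹, Γ.inv_mem hγ, by
          show y⁻¹ * γ⁻¹ * x⁻¹ = g
          rw [← inv_inj (b := g)]; simpa [mul_assoc] using he⟩
      · rintro ⟨γ, hγ, rfl⟩
        exact ⟨γ⁻¹, Γ.inv_mem hγ, by simp [mul_assoc]⟩
  have key : ∀ U : Set T, @IsOpen T τ U → ∀ g ∈ U,
      ∃ H : @OpenSubgroup T _ τ, ∀ h ∈ H, g * h ∈ U := by
    intro U hU
    induction hU with
    | basic s hs =>
      obtain ⟨Γ, hG, x, y, rfl⟩ := hs
      rintro g ⟨γ, hγ, rfl⟩
      refine ⟨@OpenSubgroup.mk T _ τ (Γ.comap (MulAut.conj y).toMonoidHom) ?_, ?_⟩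
      · show @IsOpen T τ {h : T | y * h * y⁻¹ ∈ Γ}
        convert basic Γ hG y⁻¹ y using 1
        ext h
        exact ⟨fun hh => ⟨_, hh, by group⟩, fun ⟨c, hc, e⟩ => by
          subst e; simpa [mul_assoc] using hc⟩
      · intro h hh
        refine ⟨γ * (y * h * y⁻¹), Γ.mul_mem hγ hh, ?_⟩
        group
    | univ => exact fun g _ => ⟨@OpenSubgroup.mk T _ τ ⊤ (TopologicalSpace.GenerateOpen.univ), fun _ _ => trivial⟩
    | inter s t _ _ ihs iht =>
      rintro g ⟨h1, h2⟩
      obtain ⟨H, hH⟩ := ihs g h1
      obtain ⟨K, hK⟩ := iht g h2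
      exact ⟨@OpenSubgroup.mk T _ τ (H.toSubgroup ⊓ K.toSubgroup)
        (TopologicalSpace.GenerateOpen.inter _ _ H.isOpen' K.isOpen'),
        fun h hh => ⟨hH h hh.1, hK h hh.2⟩⟩
    | sUnion S _ ih =>
      rintro g ⟨s, hs, hg⟩
      obtain ⟨H, hH⟩ := ih s hs g hg
      exact ⟨H, fun h hh => ⟨s, hs, hH h hh⟩⟩
  letI := τ
  refine { hgrp with is_nonarchimedean := ?_ }
  intro U hU
  obtain ⟨V, hVU, hV, h1⟩ := mem_nhds_iff.1 hU
  obtain ⟨H, hH⟩ := key V hV 1 h1
  exact ⟨H, fun h hh => hVU (by simpa using hH h hh)⟩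

/-- For a group T with a topology, let B be the family of two-sided translates x Γ y, where Γ runs over
the subgroups of T open in the given topology and x, y over T; the topology generated by B makes T a
topological group in which every neighbourhood of the identity contains a subgroup open for that
topology. (The published statement is for the free topological product of two Noohi groups whose
open subgroups form a basis of neighbourhoods of the identity; the argument uses only the group
structure and the chosen family of subgroups, so the row is stated for an arbitrary group with a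
topology. The published conventions include Hausdorffness in the word topological group; this row
does not assert it, and the published argument does not prove it.) -/
theorem result (T : Type u) [Group T]
    [TopologicalSpace T] :
    @NonarchimedeanGroup T _ (TopologicalSpace.generateFrom
      {S : Set T | ∃ (Γ : OpenSubgroup T) (x y : T), S = (fun g : T => x * g * y) '' (Γ : Set T)}) := by
  have e : {S : Set T | ∃ (Γ : OpenSubgroup T) (x y : T), S = (fun g : T => x * g * y) '' (Γ : Set T)} =
      translates (Set.range (OpenSubgroup.toSubgroup (G := T))) := by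
    ext S
    exact ⟨fun ⟨Γ, x, y, h⟩ => ⟨_, ⟨Γ, rfl⟩, x, y, h⟩,
      fun ⟨_, ⟨Γ, rfl⟩, x, y, h⟩ => ⟨Γ, x, y, h⟩⟩
  rw [e]
  exact nonarch _

end Groth.Agent.S15832
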