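import Groth.Statements.S15833
import Mathlib.AlgebraicGeometry.Morphisms.ClosedImmersion
import Mathlib.AlgebraicGeometry.Properties

set_option autoImplicit false
universe u
open EtBase

namespace Groth.Agent.S15833

open CategoryTheory CategoryTheory.Limits AlgebraicGeometry in
/-- Let i : X₀ ⟶ X be a surjective closed immersion of schemes and f : Y ⟶ X a morphism. Then f
satisfies the valuative criterion (existence and uniqueness of a lift in every valuative square,
over arbitrary valuation rings) if and only if its base change Y ×_X X₀ ⟶ X₀ does. (The published
statement takes X locally Noetherian and connected, X₀ the reduced closed subscheme with the same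
underlying space and f étale, and combines this step with the equivalence between étale schemes over
X and over X₀ to identify the geometric coverings, i.e. the étale morphisms satisfying the valuative
criterion, of X and of X₀; the argument for this step uses only that X₀ ⟶ X is a surjective closed
immersion and that valuation rings are reduced.) -/
theorem result {X X₀ Y : Scheme.{u}} (i : X₀ ⟶ X)
    [IsClosedImmersion i] [Surjective i] (f : Y ⟶ X) :
    ValuativeCriterion f ↔ ValuativeCriterion (pullback.snd f i) := by
  have hfac : ∀ {T : Scheme.{u}} [IsReduced T] (g : T ⟶ X), ∃ t : T ⟶ X₀, t ≫ i = g := by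
    intro T _ g
    haveI : IsIso (pullback.fst g i) := isIso_of_isClosedImmersion_of_surjective _
    exact ⟨inv (pullback.fst g i) ≫ pullback.snd g i, by
      rw [Category.assoc, ← pullback.condition, IsIso.inv_hom_id_assoc]⟩
  constructor
  · intro h S
    let S' : ValuativeCommSq f :=
      { R := S.R, K := S.K, i₁ := S.i₁ ≫ pullback.fst f i, i₂ := S.i₂ ≫ i
        commSq := ⟨by rw [Category.assoc, pullback.condition, ← Category.assoc, S.commSq.w,
          Category.assoc]⟩ }
    obtain ⟨hu⟩ := h S'
    refine ⟨@Equiv.unique _ _ hu
      { toFun := fun l => ⟨l.l ≫ pullback.fst f i, by rw [← Category.assoc, l.fac_left], by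
          rw [Category.assoc, pullback.condition, ← Category.assoc, l.fac_right]⟩
        invFun := fun l => ⟨pullback.lift l.l S.i₂ l.fac_right, by
          apply pullback.hom_ext
          · rw [Category.assoc, pullback.lift_fst]
            exact l.fac_left
          · rw [Category.assoc, pullback.lift_snd]
            exact S.commSq.w.symm, pullback.lift_snd _ _ _⟩
        left_inv := fun l => by
          ext
          · exact pullback.lift_fst _ _ _
          · exact (pullback.lift_snd _ _ _).trans l.fac_right.symm
        right_inv := fun l => by ext; exact pullback.lift_fst _ _ _ }⟩
  · intro h S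
    obtain ⟨t, ht⟩ := hfac S.i₂
    let S' : ValuativeCommSq (pullback.snd f i) :=
      { R := S.R, K := S.K
        i₁ := pullback.lift S.i₁ (Spec.map (CommRingCat.ofHom (algebraMap S.R S.K)) ≫ t)
          (by rw [Category.assoc, ht]; exact S.commSq.w)
        i₂ := t
        commSq := ⟨pullback.lift_snd _ _ _⟩ }
    obtain ⟨hu⟩ := h S'
    refine ⟨@Equiv.unique _ _ hu
      { toFun := fun l => ⟨pullback.lift l.l t (by rw [ht]; exact l.fac_right), by
          apply pullback.hom_ext
          · rw [Category.assoc, pullback.lift_fst, pullback.lift_fst]
            exact l.fac_left
          · rw [Category.assoc, pullback.lift_snd, pullback.lift_snd], pullback.lift_snd _ _ _⟩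
        invFun := fun l => ⟨l.l ≫ pullback.fst f i, by
          rw [← Category.assoc, l.fac_left]
          exact pullback.lift_fst _ _ _, by
          rw [Category.assoc, pullback.condition, ← Category.assoc, l.fac_right]
          exact ht⟩
        left_inv := fun l => by ext; exact pullback.lift_fst _ _ _
        right_inv := fun l => by
          ext
          · exact pullback.lift_fst _ _ _
          · exact (pullback.lift_snd _ _ _).trans l.fac_right.symm }⟩

end Groth.Agent.S15833
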