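import Groth.Statements.S15835
import Mathlib.Tactic
import Mathlib.NumberTheory.Padics.PadicVal.Basic
import Mathlib.LinearAlgebra.Matrix.Charpoly.Basic

set_option autoImplicit false
universe u
open SprIso

namespace Groth.Agent.S15835

open Polynomial


/-- Over a commutative ring R of prime characteristic p, let n ≥ 1 and let p^m be the largest power of p
dividing n. The locus of n × n matrices with characteristic polynomial t^n is stable under adding a
scalar matrix a·1 with n·a = 0 exactly when a^(p^m) = 0: for X with characteristic polynomial t^n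
and such an a, the matrix X + a·1 has characteristic polynomial t^n if and only if a^(p^m) = 0.
(Stated on points with values in an arbitrary ring of characteristic p; the scheme-theoretic
assertion about the nilpotent scheme of SL_n is this statement for all such rings.) -/
theorem result (p : ℕ) [Fact p.Prime] (R : Type u) [CommRing R]
    [CharP R p] (n : ℕ) (hn : 0 < n) (X : Matrix (Fin n) (Fin n) R) (hX : X.charpoly = Polynomial.X ^ n)
    (a : R) (ha : (n : R) * a = 0) :
    (X + Matrix.scalar (Fin n) a).charpoly = Polynomial.X ^ n ↔ a ^ (p ^ padicValNat p n) = 0 := by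
  have hp : p.Prime := Fact.out
  have e : (X + Matrix.scalar (Fin n) a).charpoly = (Polynomial.X - C a) ^ n := by
    have := Matrix.charpoly_sub_scalar X (-a)
    rw [map_neg, sub_neg_eq_add, hX] at this
    rw [this]
    simp [sub_eq_add_neg]
  set q := p ^ padicValNat p n with hq
  obtain ⟨m, hm⟩ : q ∣ n := pow_padicValNat_dvd
  have hmp : ¬ p ∣ m := by
    intro hd
    refine pow_succ_padicValNat_not_dvd (p := p) hn.ne' ?_
    conv_rhs => rw [hm]
    rw [pow_succ]
    exact mul_dvd_mul_left _ hd
  have hm0 : 1 ≤ m := by
    rcases Nat.eq_zero_or_pos m with rfl | h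
    · simp at hm; omega
    · exact h
  have e2 : (Polynomial.X - C a) ^ n = expand R q ((Polynomial.X - C (a ^ q)) ^ m) := by
    rw [hm, pow_mul, hq, sub_pow_char_pow, map_pow, map_sub, expand_X, expand_C, C_pow]
  rw [e]
  constructor
  · intro h
    have h2 : (Polynomial.X - C (a ^ q)) ^ m = Polynomial.X ^ m := by
      refine expand_injective (R := R) (pow_pos hp.pos (padicValNat p n)) ?_
      rw [← e2, h, map_pow, expand_X, ← pow_mul, ← hm]
    have h3 := congrArg (fun f : R[X] => f.coeff (m - 1)) h2
    simp only [coeff_X_pow, if_neg (by omega : ¬ m - 1 = m)] at h3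
    rw [sub_eq_add_neg, ← C_neg, coeff_X_add_C_pow, show m - (m - 1) = 1 by omega, pow_one,
      ← Nat.choose_symm (by omega : m - 1 ≤ m), show m - (m - 1) = 1 by omega, Nat.choose_one_right] at h3
    have hu : IsUnit (m : R) :=
      (CharP.isUnit_natCast_iff (R := R) hp).mpr hmp
    rw [neg_mul, neg_eq_zero] at h3
    exact (hu.mul_left_eq_zero).mp h3
  · intro h
    rw [e2, h, C_0, sub_zero, map_pow, expand_X, ← pow_mul, ← hm]

end Groth.Agent.S15835
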