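import Groth.Statements.S15836
import Mathlib

set_option autoImplicit false
universe u
open SprIso

namespace Groth.Agent.S15836

open Polynomial

/-- Gauss's lemma for integrally closed domains. -/
theorem coeff_mul_coeff_mem {R K : Type*} [CommRing R] [Field K] [Algebra R K]
    [IsIntegrallyClosedIn R K]
    (f g : K[X]) (h : ∀ n, (f * g).coeff n ∈ (algebraMap R K).range) (i j : ℕ) :
    f.coeff i * g.coeff j ∈ (algebraMap R K).range := by
  classical
  by_contra hx
  haveI : IsIntegrallyClosedIn (algebraMap R K).range K := by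
    refine Subring.isIntegrallyClosedIn_iff.2 ?_
    intro x hint
    obtain ⟨p, hp, hpx⟩ := hint
    have hsur : Function.Surjective (algebraMap R K).rangeRestrict := RingHom.rangeRestrict_surjective _
    obtain ⟨q, hq, -, hqm⟩ := Polynomial.lifts_and_degree_eq_and_monic
      (by rw [Polynomial.lifts_iff_coeff_lifts]; exact fun n => hsur _ : p ∈ Polynomial.lifts (algebraMap R K).rangeRestrict) hp
    have hx' : IsIntegral R x := by
      refine ⟨q, hqm, ?_⟩
      rw [← hq, Polynomial.eval₂_map] at hpx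
      exact hpx
    obtain ⟨r, rfl⟩ := IsIntegrallyClosedIn.isIntegral_iff.1 hx'
    exact ⟨r, rfl⟩
  obtain ⟨V, hV, hxV⟩ := Subring.exists_le_valuationSubring_of_isIntegrallyClosedIn hx
  set v := V.valuation with hv
  have hf : f.support.Nonempty := ⟨i, Polynomial.mem_support_iff.2 (fun h0 => hx ⟨0, by simp [h0]⟩)⟩
  have hg : g.support.Nonempty := ⟨j, Polynomial.mem_support_iff.2 (fun h0 => hx ⟨0, by simp [h0]⟩)⟩
  obtain ⟨i1, hi1, hi1max⟩ := Finset.exists_max_image f.support (fun a => v (f.coeff a)) hf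
  obtain ⟨j1, hj1, hj1max⟩ := Finset.exists_max_image g.support (fun a => v (g.coeff a)) hg
  have hfmax : ∀ a, v (f.coeff a) ≤ v (f.coeff i1) := fun a => by
    by_cases ha : a ∈ f.support
    · exact hi1max a ha
    · simp [Polynomial.notMem_support_iff.1 ha]
  have hgmax : ∀ a, v (g.coeff a) ≤ v (g.coeff j1) := fun a => by
    by_cases ha : a ∈ g.support
    · exact hj1max a ha
    · simp [Polynomial.notMem_support_iff.1 ha]
  have hi : ∃ a, v (f.coeff a) = v (f.coeff i1) := ⟨i1, rfl⟩
  have hj : ∃ a, v (g.coeff a) = v (g.coeff j1) := ⟨j1, rfl⟩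
  set i0 := Nat.find hi
  set j0 := Nat.find hj
  have hi0 : v (f.coeff i0) = v (f.coeff i1) := Nat.find_spec hi
  have hj0 : v (g.coeff j0) = v (g.coeff j1) := Nat.find_spec hj
  have hpos : 0 < v (f.coeff i0) * v (g.coeff j0) := by
    rw [hi0, hj0]
    refine zero_lt_iff.2 (mul_ne_zero ?_ ?_)
    · exact (Valuation.ne_zero_iff v).2 (Polynomial.mem_support_iff.1 hi1)
    · exact (Valuation.ne_zero_iff v).2 (Polynomial.mem_support_iff.1 hj1)
  have hrest : v (∑ x ∈ (Finset.HasAntidiagonal.antidiagonal (i0 + j0)).erase (i0, j0), f.coeff x.1 * g.coeff x.2) <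
      v (f.coeff i0 * g.coeff j0) := by
    rw [map_mul]
    refine Valuation.map_sum_lt v hpos.ne' fun x hx => ?_
    obtain ⟨hne, hmem⟩ := Finset.mem_erase.1 hx
    have hsum : x.1 + x.2 = i0 + j0 := by simpa using hmem
    rw [map_mul]
    rcases lt_trichotomy x.1 i0 with h1 | h1 | h1
    · have h2 : v (f.coeff x.1) < v (f.coeff i0) :=
        hi0 ▸ lt_of_le_of_ne (hfmax _) (Nat.find_min hi h1)
      calc v (f.coeff x.1) * v (g.coeff x.2) ≤ v (f.coeff x.1) * v (g.coeff j0) := by
            gcongr; exact hj0 ▸ hgmax _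
        _ < v (f.coeff i0) * v (g.coeff j0) :=
            mul_lt_mul_of_pos_right h2 (zero_lt_iff.2 (right_ne_zero_of_mul hpos.ne'))
    · exact absurd (Prod.ext h1 (by omega)) hne
    · have h2 : v (g.coeff x.2) < v (g.coeff j0) :=
        hj0 ▸ lt_of_le_of_ne (hgmax _) (Nat.find_min hj (show x.2 < j0 by omega))
      calc v (f.coeff x.1) * v (g.coeff x.2) ≤ v (f.coeff i0) * v (g.coeff x.2) := by
            gcongr; exact hi0 ▸ hfmax _
        _ < v (f.coeff i0) * v (g.coeff j0) :=
            mul_lt_mul_of_pos_left h2 (zero_lt_iff.2 (left_ne_zero_of_mul hpos.ne'))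
  have htop : v ((f * g).coeff (i0 + j0)) = v (f.coeff i0 * g.coeff j0) := by
    rw [Polynomial.coeff_mul, ← Finset.add_sum_erase _ _ (show (i0, j0) ∈ Finset.HasAntidiagonal.antidiagonal (i0 + j0) by simp)]
    exact Valuation.map_add_eq_of_lt_left v hrest
  apply hxV
  rw [← V.valuation_le_one_iff, map_mul]
  calc v (f.coeff i) * v (g.coeff j) ≤ v (f.coeff i0) * v (g.coeff j0) :=
        mul_le_mul' (hi0 ▸ hfmax i) (hj0 ▸ hgmax j)
    _ = v ((f * g).coeff (i0 + j0)) := by rw [htop, map_mul]
    _ ≤ 1 := (V.valuation_le_one_iff _).2 (hV (h _))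

/-- The descent from the polynomial ring. -/
theorem principal {R K : Type*} [CommRing R] [IsDomain R] [Field K] [Algebra R K] [IsFractionRing R K]
    [IsIntegrallyClosed R] (φ : R →+* R[X]) (h1 : ∀ r, (φ r).eval 1 = r)
    (h0 : ∀ r, (φ r).eval 0 = 0 ∨ IsUnit ((φ r).eval 0))
    {ι : Type*} [Fintype ι] (a u : ι → R) (w : R) (hw : w ≠ 0)
    (hdvd : ∀ k i, w ∣ a k * u i) (hsum : ∑ i, a i * u i = w) (hj : ∃ j, (φ (a j)).eval 0 ≠ 0) :
    (Ideal.span (Set.range a)).IsPrincipal := by
  classical
  haveI : IsIntegrallyClosedIn R K := inferInstance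
  let f := algebraMap R K
  let Φ : R →+* K[X] := (Polynomial.mapRingHom f).comp φ
  have e1 : ∀ r, (Φ r).eval 1 = f r := fun r => by
    simp only [Φ, RingHom.comp_apply, coe_mapRingHom]
    rw [Polynomial.eval_map, ← map_one f, Polynomial.eval₂_at_apply, h1]
  have e0 : ∀ r, (Φ r).eval 0 = f ((φ r).eval 0) := fun r => by
    simp only [Φ, RingHom.comp_apply, coe_mapRingHom]
    rw [Polynomial.eval_map, ← map_zero f, Polynomial.eval₂_at_apply]
  have hinj : Function.Injective f := IsFractionRing.injective R K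
  have hW : Φ w ≠ 0 := fun h => hw (hinj (by rw [← e1, h, Polynomial.eval_zero, map_zero]))
  obtain ⟨g, hg⟩ := IsPrincipalIdealRing.principal (Ideal.span (Set.range fun k => Φ (a k)))
  have hgdvd : ∀ k, g ∣ Φ (a k) := fun k => by
    rw [← Ideal.mem_span_singleton, ← Ideal.submodule_span_eq, ← hg]
    exact Ideal.subset_span ⟨k, rfl⟩
  have hgu : ∀ i, Φ w ∣ g * Φ (u i) := by
    intro i
    have hgm : g ∈ Ideal.span (Set.range fun k => Φ (a k)) := by
      rw [hg]; exact Submodule.mem_span_singleton_self g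
    obtain ⟨c, hc⟩ := (Submodule.mem_span_range_iff_exists_fun _).1 hgm
    rw [← hc, Finset.sum_mul]
    refine Finset.dvd_sum fun k _ => ?_
    rw [smul_eq_mul, mul_assoc, ← map_mul]
    exact (map_dvd Φ (hdvd k i)).mul_left _
  choose A hA using hgdvd
  choose U hU using hgu
  have hAU : ∀ k i, ∀ n, (A k * U i).coeff n ∈ f.range := by
    intro k i n
    obtain ⟨r, hr⟩ := hdvd k i
    have : Φ w * (A k * U i) = Φ w * Φ r := by
      rw [← map_mul Φ w r, ← hr, map_mul, hA k, mul_left_comm, ← hU i]; ring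
    rw [mul_left_cancel₀ hW this]
    exact ⟨(φ r).coeff n, by simp [Φ, f]⟩
  have hone : ∑ i, A i * U i = 1 := by
    apply mul_left_cancel₀ hW
    rw [Finset.mul_sum, mul_one]
    conv_rhs => rw [← hsum, map_sum]
    refine Finset.sum_congr rfl fun i _ => ?_
    rw [map_mul, hA i, mul_left_comm, ← hU i]
    ring
  have hprod : ∀ k i p q, (A k).coeff p * (U i).coeff q ∈ f.range := fun k i p q =>
    coeff_mul_coeff_mem _ _ (hAU k i) p q
  have hprod1 : ∀ k i p, (A k).coeff p * (U i).eval 1 ∈ f.range := fun k i p => by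
    rw [Polynomial.eval_eq_sum, Polynomial.sum, Finset.mul_sum]
    exact Subring.sum_mem _ fun q _ => by rw [one_pow, mul_one]; exact hprod k i p q
  have hA1 : ∀ k i, (A k).eval 1 * (U i).coeff 0 ∈ f.range := fun k i => by
    rw [Polynomial.eval_eq_sum, Polynomial.sum, Finset.sum_mul]
    exact Subring.sum_mem _ fun q _ => by rw [one_pow, mul_one]; exact hprod k i q 0
  obtain ⟨j, hj⟩ := hj
  have hlam : IsUnit ((φ (a j)).eval 0) := (h0 (a j)).resolve_left hj
  obtain ⟨lam, hlam⟩ := hlam
  have hgj : g.eval 0 * (A j).coeff 0 = f lam := by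
    rw [hlam, ← e0, hA j, Polynomial.eval_mul, Polynomial.coeff_zero_eq_eval_zero]
  have hg0 : g.eval 0 = ∑ i, f ((φ (a i)).eval 0) * (U i).coeff 0 := by
    have := congrArg (Polynomial.eval 0) hone
    rw [Polynomial.eval_finsetSum, Polynomial.eval_one] at this
    calc g.eval 0 = g.eval 0 * ∑ i, (A i * U i).eval 0 := by rw [this, mul_one]
      _ = _ := by
        rw [Finset.mul_sum]
        refine Finset.sum_congr rfl fun i _ => ?_
        rw [← e0, hA i, Polynomial.eval_mul, Polynomial.eval_mul, Polynomial.coeff_zero_eq_eval_zero, mul_assoc]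
  -- the generator
  choose z hz using fun i => hprod1 j i 0
  let gen : R := ↑lam⁻¹ * ∑ i, a i * z i
  have hgen : f gen * g.eval 0 = g.eval 1 := by
    have h1 : ∑ i, f (a i) * f (z i) = g.eval 1 * (A j).coeff 0 := by
      have hs := congrArg (Polynomial.eval 1) hone
      rw [Polynomial.eval_finsetSum, Polynomial.eval_one] at hs
      calc ∑ i, f (a i) * f (z i)
          = ∑ i, g.eval 1 * (A j).coeff 0 * ((A i * U i).eval 1) := by
            refine Finset.sum_congr rfl fun i _ => ?_
            rw [hz i, ← e1, hA i, Polynomial.eval_mul, Polynomial.eval_mul]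
            ring
        _ = _ := by rw [← Finset.mul_sum, hs, mul_one]
    simp only [gen, map_mul, map_sum]
    rw [h1]
    have h2 : f (↑lam⁻¹ : R) * f lam = 1 := by rw [← map_mul, Units.inv_mul, map_one]
    linear_combination g.eval 1 * h2 + g.eval 1 * f (↑lam⁻¹ : R) * hgj
  refine ⟨gen, le_antisymm (Ideal.span_le.2 ?_) ?_⟩
  · rintro _ ⟨k, rfl⟩
    rw [SetLike.mem_coe, Ideal.submodule_span_eq, Ideal.mem_span_singleton]
    have hk : (A k).eval 1 * g.eval 0 ∈ f.range := by
      rw [hg0, Finset.mul_sum]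
      refine Subring.sum_mem _ fun i _ => ?_
      rw [mul_left_comm]
      exact Subring.mul_mem _ ⟨_, rfl⟩ (hA1 k i)
    obtain ⟨q, hq⟩ := hk
    refine ⟨q, hinj ?_⟩
    rw [map_mul, hq, ← e1, hA k, Polynomial.eval_mul]
    linear_combination -(A k).eval 1 * hgen
  · rw [Submodule.span_singleton_le_iff_mem]
    exact Ideal.mul_mem_left _ _ (Ideal.sum_mem _ fun i _ =>
      Ideal.mul_mem_right _ _ (Ideal.subset_span ⟨i, rfl⟩))


/-- Let k be a field and C a closed subscheme of affine n-space over k which is stable under the scaling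
action of the affine line, i.e. C = Spec A with A = k[x_1, …, x_n]/I for an ideal I generated by
homogeneous polynomials, and assume C is normal (A is an integrally closed domain). Then Pic(C) = 0:
every invertible A-module is free. -/
theorem result (k : Type u) [Field k] (n : ℕ)
    (I : Ideal (MvPolynomial (Fin n) k))
    (hI : ∃ s : Set (MvPolynomial (Fin n) k), (∀ f ∈ s, ∃ d : ℕ, f.IsHomogeneous d) ∧ I = Ideal.span s)
    [IsDomain (MvPolynomial (Fin n) k ⧸ I)] [IsIntegrallyClosed (MvPolynomial (Fin n) k ⧸ I)]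
    (M : Type u) [AddCommGroup M] [Module (MvPolynomial (Fin n) k ⧸ I) M]
    [Module.Invertible (MvPolynomial (Fin n) k ⧸ I) M] :
    Module.Free (MvPolynomial (Fin n) k ⧸ I) M := by
  classical
  obtain ⟨s, hs, rfl⟩ := hI
  set R := MvPolynomial (Fin n) k ⧸ Ideal.span s
  let K := FractionRing R
  -- the substitution `x ↦ t x`
  let mk : MvPolynomial (Fin n) k →+* R := Ideal.Quotient.mk _
  let ψ : MvPolynomial (Fin n) k →+* R[X] :=
    MvPolynomial.eval₂Hom ((Polynomial.C.comp mk).comp MvPolynomial.C)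
      (fun i => Polynomial.C (mk (MvPolynomial.X i)) * Polynomial.X)
  have hψ : ∀ (d : ℕ) (f : MvPolynomial (Fin n) k), f.IsHomogeneous d →
      ψ f = Polynomial.C (mk f) * Polynomial.X ^ d := by
    intro d f hf
    rw [f.as_sum, map_sum, map_sum, map_sum, Finset.sum_mul]
    refine Finset.sum_congr rfl fun e he => ?_
    have hd : e.degree = d := by
      rw [Finsupp.degree_eq_weight_one]; exact hf (MvPolynomial.mem_support_iff.1 he)
    rw [← hd, Finsupp.degree_apply, ← Finset.prod_pow_eq_pow_sum e.support e (Polynomial.X : R[X]), MvPolynomial.monomial_eq, map_mul,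
      map_mul, map_mul, Finsupp.prod, map_prod, map_prod, map_prod, mul_assoc, ← Finset.prod_mul_distrib]
    congr 1
    · simp [ψ, mk]
    · refine Finset.prod_congr rfl fun i _ => ?_
      simp [ψ]
      exact mul_pow (M := R[X]) _ _ _
  have hker : ∀ a ∈ Ideal.span s, ψ a = 0 := by
    intro a ha
    have : Ideal.span s ≤ RingHom.ker ψ := Ideal.span_le.2 fun f hf => by
      obtain ⟨d, hd⟩ := hs f hf
      rw [SetLike.mem_coe, RingHom.mem_ker, hψ d f hd,
        show mk f = 0 from Ideal.Quotient.eq_zero_iff_mem.2 (Ideal.subset_span hf)]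
      simp
    exact this ha
  let φ : R →+* R[X] := Ideal.Quotient.lift _ ψ hker
  have h1 : ∀ r, (φ r).eval 1 = r := by
    intro r
    obtain ⟨f, rfl⟩ := Ideal.Quotient.mk_surjective r
    have : (Polynomial.evalRingHom (1 : R)).comp ψ = mk :=
      MvPolynomial.ringHom_ext (fun c => by simp [ψ]) (fun i => by simp [ψ])
    exact congrArg (fun F => F f) this
  have h0 : ∀ r, (φ r).eval 0 = 0 ∨ IsUnit ((φ r).eval 0) := by
    intro r
    obtain ⟨f, rfl⟩ := Ideal.Quotient.mk_surjective r
    have : (Polynomial.evalRingHom (0 : R)).comp ψ =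
        (mk.comp MvPolynomial.C).comp MvPolynomial.constantCoeff :=
      MvPolynomial.ringHom_ext (fun c => by simp [ψ]) (fun i => by simp [ψ])
    have h : (φ (Ideal.Quotient.mk _ f)).eval 0 = mk (MvPolynomial.C (MvPolynomial.constantCoeff f)) :=
      congrArg (fun F => F f) this
    rw [h]
    rcases eq_or_ne (MvPolynomial.constantCoeff f) 0 with hc | hc
    · left; rw [hc, map_zero, map_zero]
    · right; exact (hc.isUnit.map MvPolynomial.C).map mk
  -- the module as an invertible fractional ideal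
  have hrel : CommRing.Pic.mk R M ∈ CommRing.relPic R K := Subsingleton.elim _ _
  rw [← Submodule.range_unitsToPic] at hrel
  obtain ⟨Iu, hIu⟩ := hrel
  obtain ⟨e⟩ := CommRing.Pic.mk_eq_mk_iff.mp hIu.symm
  have hsm : ∀ (d : R) (x : K), d • x = algebraMap R K d * x := fun d x => Algebra.smul_def d x
  -- finite data
  have hmul : (↑Iu : Submodule R K) * ↑Iu⁻¹ = 1 := Units.mul_inv Iu
  have hone : (1 : K) ∈ (↑Iu : Submodule R K) * ↑Iu⁻¹ := by rw [hmul]; exact Submodule.one_le.1 le_rfl
  obtain ⟨l, hl⟩ : ∃ l : List (K × K), (∀ p ∈ l, p.1 ∈ (↑Iu : Submodule R K) ∧ p.2 ∈ (↑Iu⁻¹ : Submodule R K)) ∧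
      (l.map fun p => p.1 * p.2).sum = 1 := by
    refine Submodule.mul_induction_on hone (fun x hx y hy => ⟨[(x, y)], by simp [hx, hy]⟩) ?_
    rintro x y ⟨l, hl, hlx⟩ ⟨l', hl', hly⟩
    exact ⟨l ++ l', fun p hp => (List.mem_append.1 hp).elim (hl p) (hl' p), by simp [hlx, hly]⟩
  let al : Fin l.length → K := fun i => (l.get i).1
  let be : Fin l.length → K := fun i => (l.get i).2
  have hal : ∀ i, al i ∈ (↑Iu : Submodule R K) := fun i => (hl.1 _ (l.get_mem i)).1
  have hbe : ∀ i, be i ∈ (↑Iu⁻¹ : Submodule R K) := fun i => (hl.1 _ (l.get_mem i)).2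
  have hsum : ∑ i, al i * be i = 1 := by
    have h := hl.2
    rw [← List.ofFn_get l, List.map_ofFn, List.sum_ofFn] at h
    exact h
  have hmem1 : ∀ x ∈ (↑Iu : Submodule R K), ∀ y ∈ (↑Iu⁻¹ : Submodule R K),
      x * y ∈ (algebraMap R K).range := fun x hx y hy => by
    have h := Submodule.mul_mem_mul hx hy
    rw [hmul, Submodule.mem_one] at h
    exact h
  choose P hP using fun i k => hmem1 (al i) (hal i) (be k) (hbe k)
  have hPsum : ∑ i, P i i = 1 := by
    apply IsFractionRing.injective R K
    rw [map_sum, map_one, ← hsum]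
    exact Finset.sum_congr rfl fun i _ => hP i i
  obtain ⟨j, hj⟩ : ∃ j, (φ (P j j)).eval 0 ≠ 0 := by
    by_contra hc
    push Not at hc
    have := congrArg (fun r => (φ r).eval 0) hPsum
    simp only [map_sum, Polynomial.eval_finsetSum, hc, Finset.sum_const_zero, map_one,
      Polynomial.eval_one] at this
    exact zero_ne_one this
  have hbj : be j ≠ 0 := fun h => hj (by
    rw [IsFractionRing.injective R K (show algebraMap R K (P j j) = algebraMap R K 0 by
      rw [hP, h, mul_zero, map_zero]), map_zero, Polynomial.eval_zero])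
  obtain ⟨w, hw⟩ := IsLocalization.exist_integer_multiples_of_finite (nonZeroDivisors R) (fun i => be i / be j)
  choose u hu using hw
  have hw0 : (w : R) ≠ 0 := nonZeroDivisors.ne_zero w.2
  have hkey : ∀ k i, algebraMap R K (P k j * u i) = algebraMap R K w * (al k * be i) := fun k i => by
    rw [map_mul, hP, hu, hsm, mul_mul_mul_comm, ← mul_assoc, mul_comm (al k), mul_assoc, mul_assoc,
      mul_div_cancel₀ _ hbj]
  have hprin := principal (K := K) φ h1 h0 (fun i => P i j) u (w : R) hw0
    (fun k i => ⟨P k i, IsFractionRing.injective R K (by rw [hkey, map_mul, hP])⟩)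
    (IsFractionRing.injective R K (by
      rw [map_sum]; simp only [hkey]; rw [← Finset.mul_sum, hsum, mul_one]))
    ⟨j, hj⟩
  obtain ⟨gen, hgen⟩ := hprin
  have hspan : (↑Iu : Submodule R K) = Submodule.span R {algebraMap R K gen / be j} := by
    refine le_antisymm (fun x hx => ?_) (Submodule.span_le.2 (Set.singleton_subset_iff.2 ?_))
    · choose c hc using fun i => hmem1 x hx (be i) (hbe i)
      have hmem : ∑ i, c i * P i j ∈ Ideal.span (Set.range fun i => P i j) :=
        Ideal.sum_mem _ fun i _ => Ideal.mul_mem_left _ _ (Ideal.subset_span ⟨i, rfl⟩)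
      rw [hgen, Submodule.mem_span_singleton] at hmem
      obtain ⟨d, hd⟩ := hmem
      refine Submodule.mem_span_singleton.2 ⟨d, ?_⟩
      have hxj : x * be j = algebraMap R K (∑ i, c i * P i j) := by
        rw [map_sum]
        simp only [map_mul, hc, hP]
        rw [show x * be j = x * be j * ∑ i, al i * be i by rw [hsum, mul_one], Finset.mul_sum]
        exact Finset.sum_congr rfl fun i _ => by ring
      rw [← hd, smul_eq_mul, map_mul] at hxj
      rw [hsm, ← mul_div_assoc, ← hxj, mul_div_assoc, div_self hbj, mul_one]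
    · have hm : gen ∈ Ideal.span (Set.range fun i => P i j) := by
        rw [hgen]; exact Submodule.mem_span_singleton_self gen
      obtain ⟨c, hc⟩ := (Submodule.mem_span_range_iff_exists_fun _).1 hm
      have : algebraMap R K gen / be j = ∑ i, c i • al i := by
        rw [← hc, map_sum, Finset.sum_div]
        refine Finset.sum_congr rfl fun i _ => ?_
        rw [smul_eq_mul, map_mul, hP, hsm, ← mul_assoc, mul_div_assoc, div_self hbj, mul_one]
      rw [SetLike.mem_coe, this]
      exact Submodule.sum_mem _ fun i _ => Submodule.smul_mem _ _ (hal i)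
  have hgne : algebraMap R K gen / be j ≠ 0 := by
    intro h
    rw [h, Submodule.span_zero_singleton] at hspan
    have h1' := hone
    rw [hspan, Submodule.bot_mul] at h1'
    exact one_ne_zero ((Submodule.mem_bot R).1 h1')
  exact Module.Free.of_equiv ((LinearEquiv.toSpanNonzeroSingleton R K _ hgne).trans
    ((LinearEquiv.ofEq _ _ hspan.symm).trans e.symm))

end Groth.Agent.S15836
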