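import Groth.Statements.S15837
import Groth.Agent.EssFreeLocus.Basic
import Groth.Agent.HomSch.HomGrp

set_option autoImplicit false
universe u
open CategoryTheory MonoidalCategory CartesianMonoidalCategory MonObj GrpObj AlgebraicGeometry Limits
open SprIso

namespace Groth.Agent.S15837

theorem closedImm_equalizer {S : Scheme.{u}} {M N : Over S} [IsSeparated N.hom] (a b : M ⟶ N) :
    IsClosedImmersion (equalizer.ι a b).left := by
  refine MorphismProperty.of_isPullback (P := @IsClosedImmersion)
    ((Limits.isPullback_equalizer_prod a b).map (Over.forget _)).flip ?_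
  refine (MorphismProperty.cancel_right_of_respectsIso @IsClosedImmersion _
    (Over.prodLeftIsoPullback N N).hom).mp ?_
  convert! (inferInstance : IsClosedImmersion (pullback.diagonal N.hom))
  ext1 <;> simp [← Over.comp_left] <;>
    first | (erw [prod.lift_fst]; rfl) | (erw [prod.lift_snd]; rfl)

theorem essFree {P B : Scheme.{u}} (f : P ⟶ B) [IsFinite f] [Flat f] [LocallyOfFinitePresentation f] :
    SGA3x.IsEssentiallyFree f := by
  intro s
  obtain ⟨U, hU, hs, -⟩ := exists_isAffineOpen_mem_and_subset (X := B) (x := s) (U := ⊤) trivial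
  haveI : IsAffine (U : Scheme.{u}) := hU
  refine ⟨U, hs, hU, U, hU, 𝟙 _, inferInstance, inferInstance, fun x => ?_⟩
  let π := pullback.snd f (𝟙 _ ≫ U.ι)
  haveI : IsFinite π := inferInstanceAs (IsFinite (pullback.snd f (𝟙 _ ≫ U.ι)))
  haveI : IsAffine (pullback f (𝟙 _ ≫ U.ι)) := isAffine_of_isAffineHom π
  haveI : Flat π := inferInstanceAs (Flat (pullback.snd f (𝟙 _ ≫ U.ι)))
  haveI : LocallyOfFinitePresentation π :=
    inferInstanceAs (LocallyOfFinitePresentation (pullback.snd f (𝟙 _ ≫ U.ι)))
  refine ⟨⊤, trivial, isAffineOpen_top _, ?_⟩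
  let φm := (⊤ : (pullback f (𝟙 _ ≫ U.ι)).Opens).ι ≫ π
  haveI : IsAffine ((⊤ : (pullback f (𝟙 _ ≫ U.ι)).Opens) : Scheme.{u}) := isAffineOpen_top _
  haveI : IsIso (⊤ : (pullback f (𝟙 _ ≫ U.ι)).Opens).ι := (Scheme.topIso _).isIso_hom
  haveI : IsFinite φm := inferInstanceAs (IsFinite (_ ≫ π))
  haveI : Flat φm := inferInstance
  haveI : LocallyOfFinitePresentation φm := inferInstance
  letI := φm.appTop.hom.toAlgebra
  show Module.Projective Γ((U : Scheme.{u}), ⊤) _
  haveI : Module.Flat Γ((U : Scheme.{u}), ⊤) Γ(((⊤ : (pullback f (𝟙 _ ≫ U.ι)).Opens) : Scheme.{u}), ⊤) :=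
    (HasRingHomProperty.iff_of_isAffine (P := @Flat)).mp (inferInstanceAs (Flat φm))
  haveI : Module.Finite Γ((U : Scheme.{u}), ⊤) Γ(((⊤ : (pullback f (𝟙 _ ≫ U.ι)).Opens) : Scheme.{u}), ⊤) :=
    IsFinite.finite_app (f := φm) ⊤ (isAffineOpen_top _)
  haveI : Algebra.FinitePresentation Γ((U : Scheme.{u}), ⊤) Γ(((⊤ : (pullback f (𝟙 _ ≫ U.ι)).Opens) : Scheme.{u}), ⊤) :=
    (HasRingHomProperty.iff_of_isAffine (P := @LocallyOfFinitePresentation)).mp
      (inferInstanceAs (LocallyOfFinitePresentation φm))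
  haveI := Module.FinitePresentation.of_finite_of_finitePresentation Γ((U : Scheme.{u}), ⊤)
    Γ(((⊤ : (pullback f (𝟙 _ ≫ U.ι)).Opens) : Scheme.{u}), ⊤)
  exact Module.Flat.projective_of_finitePresentation


/-- Let S be a scheme, G an S-group scheme of finite presentation acting on an S-scheme X which is
affine and of finite presentation over S, and Y a closed subscheme of X which is finite, flat and of
finite presentation over S. Then the functorial stabilizer of Y in G — whose points with values in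
an S-scheme T are the points g of G such that g acts as the identity on every point of Y with values
in a scheme over T — is represented by a closed subscheme of G whose inclusion is of finite
presentation. -/
theorem result (S : Scheme.{u}) (G X Y : Over S) [GrpObj G]
    [LocallyOfFinitePresentation G.hom] [QuasiCompact G.hom] [QuasiSeparated G.hom]
    [IsAffineHom X.hom] [LocallyOfFinitePresentation X.hom] (a : AlgGrp.Action G X)
    (i : Y ⟶ X) [IsClosedImmersion i.left] [IsFinite Y.hom] [Flat Y.hom] [LocallyOfFinitePresentation Y.hom] :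
    ∃ (Z : Over S) (j : Z ⟶ G), IsClosedImmersion j.left ∧ LocallyOfFinitePresentation j.left ∧
      ∀ (T : Over S) (g : T ⟶ G), (∃ z : T ⟶ Z, z ≫ j = g) ↔
        ∀ (T' : Over S) (t : T' ⟶ T) (y : T' ⟶ Y), lift (t ≫ g) (y ≫ i) ≫ a.act = y ≫ i := by
  let m₁ : G ⊗ Y ⟶ X := lift (fst G Y) (snd G Y ≫ i) ≫ a.act
  let m₂ : G ⊗ Y ⟶ X := snd G Y ≫ i
  let ε := equalizer.ι m₁ m₂
  haveI : IsClosedImmersion ε.left := closedImm_equalizer _ _
  haveI : LocallyOfFinitePresentation ε.left := Groth.Agent.HomSch.lfp_equalizer_ι _ _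
  let f : (G ⊗ Y).left ⟶ G.left := (fst G Y).left
  haveI : IsFinite f := inferInstanceAs (IsFinite (pullback.fst G.hom Y.hom))
  haveI : Flat f := inferInstanceAs (Flat (pullback.fst G.hom Y.hom))
  haveI : LocallyOfFinitePresentation f := inferInstanceAs (LocallyOfFinitePresentation (pullback.fst G.hom Y.hom))
  obtain ⟨Z, z₀, hz, hZ, hfp⟩ := Groth.Agent.EssFreeLocus.exists_closed_lands f ε.left (essFree f)
  refine ⟨Over.mk (z₀ ≫ G.hom), Over.homMk z₀ rfl, hz, hfp inferInstance inferInstance, fun T g => ?_⟩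
  have hfac : (∃ z : T ⟶ Over.mk (z₀ ≫ G.hom), z ≫ Over.homMk z₀ rfl = g) ↔ ∃ g' : T.left ⟶ Z, g' ≫ z₀ = g.left := by
    constructor
    · rintro ⟨z, hz⟩
      exact ⟨z.left, by rw [← hz]; rfl⟩
    · rintro ⟨g', hg'⟩
      exact ⟨Over.homMk g' (by show g' ≫ z₀ ≫ G.hom = T.hom; rw [← Category.assoc, hg', Over.w g]),
        Over.OverMorphism.ext hg'⟩
  rw [hfac, hZ]
  constructor
  · rintro ⟨l, hl⟩ T' t y
    let q : T' ⟶ G ⊗ Y := lift (t ≫ g) y
    have hq : q.left ≫ f = t.left ≫ g.left :=
      ((Over.comp_left _ _ _ q (fst G Y)).symm.trans (congrArg CommaMorphism.left (lift_fst _ _))).trans (Over.comp_left _ _ _ t g)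
    have hql : (pullback.lift q.left t.left hq ≫ l) ≫ ε.left = q.left := by
      rw [Category.assoc, hl, pullback.lift_fst]
    have heq : q ≫ m₁ = q ≫ m₂ := by
      apply Over.OverMorphism.ext
      show q.left ≫ m₁.left = q.left ≫ m₂.left
      rw [← hql]
      exact (Category.assoc _ _ _).trans ((congrArg (_ ≫ ·) (congrArg CommaMorphism.left (equalizer.condition m₁ m₂))).trans (Category.assoc _ _ _).symm)
    simp only [q, m₁, m₂, comp_lift_assoc, lift_fst, lift_snd, lift_snd_assoc, ← Category.assoc] at heq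
    simpa [comp_lift] using heq
  · intro h
    let P : Over S := Over.mk (pullback.snd f g.left ≫ T.hom)
    let t : P ⟶ T := Over.homMk (pullback.snd f g.left) rfl
    let q : P ⟶ G ⊗ Y := Over.homMk (pullback.fst f g.left) (by
      show pullback.fst f g.left ≫ (G ⊗ Y).hom = pullback.snd f g.left ≫ T.hom
      rw [← Over.w (fst G Y), ← Over.w g, ← Category.assoc, ← Category.assoc]
      exact congrArg (· ≫ G.hom) pullback.condition)
    have hq : q ≫ fst G Y = t ≫ g := Over.OverMorphism.ext (by
      rw [Over.comp_left, Over.comp_left]; exact pullback.condition)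
    have heq : q ≫ m₁ = q ≫ m₂ := by
      have h1 := h P t (q ≫ snd G Y)
      simp only [m₁, m₂, comp_lift_assoc, hq]
      simpa using h1
    exact ⟨(equalizer.lift q heq).left, (Over.comp_left _ _ _ _ _).symm.trans
      (congrArg CommaMorphism.left (equalizer.lift_ι q heq))⟩

end Groth.Agent.S15837
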