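import Groth.Statements.S15838
import Mathlib

set_option autoImplicit false
universe u
open scoped TensorProduct
open SprIso

namespace Groth.Agent.S15838

open TensorProduct

theorem additive (k : Type u) [Field k] [PerfectField k]
    (V : Type u) [AddCommGroup V] [Module k V] [FiniteDimensional k V]
    (R : Type u) [CommRing R] [Algebra k R] (h : Module.End R (R ⊗[k] V))
    (X Y N : Module.End k V) (hY : Y.IsSemisimple) (hN : IsNilpotent N) (hc : Commute Y N)
    (hX : X = Y + N) :
    Commute h (X.baseChange R) ↔ Commute h (Y.baseChange R) ∧ Commute h (N.baseChange R) := by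
  constructor
  · intro hcm
    obtain ⟨n₀, hn₀, s₀, hs₀, hnn, hss, hdec⟩ :=
      Module.End.exists_isNilpotent_isSemisimple (f := X)
    have hcomm : Commute n₀ s₀ :=
      Algebra.commute_of_mem_adjoin_singleton_of_commute hs₀
        (Algebra.commute_of_mem_adjoin_self hn₀).symm
    obtain ⟨e1, e2⟩ := Module.End.isNilpotent_isSemisimple_unique hN hY hnn hss hc.symm hcomm
      (by rw [← hdec, hX, add_comm])
    have key : ∀ a ∈ Algebra.adjoin k {X}, Commute h (a.baseChange R) := by
      intro a ha
      induction ha using Algebra.adjoin_induction with
      | mem x hx => rw [Set.mem_singleton_iff.1 hx]; exact hcm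
      | algebraMap r =>
        have : (algebraMap k (Module.End k V) r).baseChange R =
            algebraMap R (Module.End R (R ⊗[k] V)) (algebraMap k R r) := by
          ext v
          simp [Algebra.algebraMap_eq_smul_one, TensorProduct.smul_tmul', TensorProduct.tmul_smul]
        rw [this]
        exact Algebra.commute_algebraMap_right _ h
      | add x y _ _ hx hy => rw [LinearMap.baseChange_add]; exact hx.add_right hy
      | mul x y _ _ hx hy => rw [LinearMap.baseChange_mul]; exact hx.mul_right hy
    exact ⟨key Y (e2 ▸ hs₀), key N (e1 ▸ hn₀)⟩
  · rintro ⟨h1, h2⟩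
    rw [hX, LinearMap.baseChange_add]
    exact h1.add_right h2


/-- General linear group case: this is the case G = GL(V), to which the general case reduces along a
closed embedding. Let k be a perfect field and V a finite-dimensional k-vector space. If an
invertible endomorphism g of V has multiplicative Jordan decomposition g = t u (t semisimple, u
unipotent, t and u commuting), then the scheme-theoretic centralizer of g in GL(V) is the
centralizer of u inside the centralizer of t: for every commutative k-algebra R, an R-linear
endomorphism h of R ⊗ V commutes with g_R if and only if it commutes with both t_R and u_R.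
Likewise, if an endomorphism X of V has additive Jordan decomposition X = Y + N (Y semisimple, N
nilpotent, commuting), then h commutes with X_R if and only if it commutes with both Y_R and N_R. -/
theorem result (k : Type u) [Field k] [PerfectField k]
    (V : Type u) [AddCommGroup V] [Module k V] [FiniteDimensional k V]
    (R : Type u) [CommRing R] [Algebra k R] (h : Module.End R (R ⊗[k] V)) :
    (∀ (g t u : Module.End k V), IsUnit g → t.IsSemisimple → IsNilpotent (u - 1) → Commute t u → g = t * u →
      (Commute h (g.baseChange R) ↔ Commute h (t.baseChange R) ∧ Commute h (u.baseChange R))) ∧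
    (∀ (X Y N : Module.End k V), Y.IsSemisimple → IsNilpotent N → Commute Y N → X = Y + N →
      (Commute h (X.baseChange R) ↔ Commute h (Y.baseChange R) ∧ Commute h (N.baseChange R))) := by
  refine ⟨fun g t u hg ht hu hc hgtu => ?_, fun X Y N hY hN hc hX => additive k V R h X Y N hY hN hc hX⟩
  have hc' : Commute t (t * (u - 1)) :=
    (Commute.refl t).mul_right (hc.sub_right (Commute.one_right t))
  have hnil : IsNilpotent (t * (u - 1)) :=
    (hc.sub_right (Commute.one_right t)).isNilpotent_mul_left hu
  rw [additive k V R h g t (t * (u - 1)) ht hnil hc' (by rw [hgtu, mul_sub, mul_one, add_sub_cancel])]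
  constructor
  · rintro ⟨h1, h2⟩
    refine ⟨h1, ?_⟩
    have hu1 : IsUnit u := by simpa using hu.isUnit_one_add
    have htu : IsUnit t := by
      obtain ⟨u', rfl⟩ := hu1
      have : t = g * (↑u'⁻¹ : Module.End k V) := by rw [hgtu, Units.mul_inv_cancel_right]
      rw [this]
      exact hg.mul u'⁻¹.isUnit
    obtain ⟨t', rfl⟩ := htu
    have h3 : Commute h ((↑t'⁻¹ : Module.End k V).baseChange R) := by
      let φ := Module.End.baseChangeHom k R V
      have h4 : Commute h (↑(Units.map (φ : Module.End k V →* Module.End R (R ⊗[k] V)) t') :
          Module.End R (R ⊗[k] V)) := h1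
      exact h4.units_inv_right
    have h5 : Commute h (((u - 1 : Module.End k V)).baseChange R) := by
      have := h3.mul_right h2
      rw [← LinearMap.baseChange_mul, Units.inv_mul_cancel_left] at this
      exact this
    have h6 := h5.add_right (show Commute h ((1 : Module.End k V).baseChange R) by
      rw [LinearMap.baseChange_one]; exact Commute.one_right h)
    rwa [← LinearMap.baseChange_add, sub_add_cancel] at h6
  · rintro ⟨h1, h2⟩
    refine ⟨h1, ?_⟩
    rw [mul_sub, mul_one, LinearMap.baseChange_sub, LinearMap.baseChange_mul]
    exact Commute.sub_right (R := Module.End R (R ⊗[k] V)) (h1.mul_right h2) h1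

end Groth.Agent.S15838
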