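import Groth.Statements.S15839
import Groth.Agent.LimLib.Props

set_option autoImplicit false
universe u
open CategoryTheory MonoidalCategory CartesianMonoidalCategory MonObj GrpObj AlgebraicGeometry
open SprIso

namespace Groth.Agent.S15839

theorem equalizer_closed (S : Scheme.{u}) (G : Over S) [IsSeparated G.hom] [LocallyOfFiniteType G.hom]
    {H : Over S} (a b : H ⟶ G) :
    ∃ (Z : Over S) (j : Z ⟶ H), IsClosedImmersion j.left ∧ LocallyOfFinitePresentation j.left ∧
      ∀ (T : Over S) (x : T ⟶ H), (∃ z : T ⟶ Z, z ≫ j = x) ↔ x ≫ a = x ≫ b := by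
  let h : H.left ⟶ Limits.pullback G.hom G.hom :=
    Limits.pullback.lift a.left b.left ((Over.w a).trans (Over.w b).symm)
  have hfst : h ≫ Limits.pullback.fst G.hom G.hom = a.left := Limits.pullback.lift_fst _ _ _
  have hsnd : h ≫ Limits.pullback.snd G.hom G.hom = b.left := Limits.pullback.lift_snd _ _ _
  let Δ : G.left ⟶ Limits.pullback G.hom G.hom := Limits.pullback.diagonal G.hom
  let j₀ : Limits.pullback Δ h ⟶ H.left := Limits.pullback.snd Δ h
  refine ⟨Over.mk (j₀ ≫ H.hom), Over.homMk j₀ rfl, ?_, ?_, fun T x => ⟨?_, ?_⟩⟩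
  · change IsClosedImmersion j₀
    infer_instance
  · change LocallyOfFinitePresentation j₀
    haveI : LocallyOfFinitePresentation Δ := Groth.Agent.LimLib.locallyOfFinitePresentation_diagonal G.hom
    exact MorphismProperty.of_isPullback (IsPullback.of_hasPullback Δ h) ‹_›
  · rintro ⟨z, rfl⟩
    have e1 : j₀ ≫ a.left = Limits.pullback.fst Δ h := by
      have := congrArg (· ≫ Limits.pullback.fst G.hom G.hom) (Limits.pullback.condition (f := Δ) (g := h))
      simpa [Δ, hfst, hsnd, j₀] using this.symm
    have e2 : j₀ ≫ b.left = Limits.pullback.fst Δ h := by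
      have := congrArg (· ≫ Limits.pullback.snd G.hom G.hom) (Limits.pullback.condition (f := Δ) (g := h))
      simpa [Δ, hfst, hsnd, j₀] using this.symm
    ext : 1
    simp [e1, e2]
  · intro hx
    have hx' : x.left ≫ a.left = x.left ≫ b.left := congrArg CommaMorphism.left hx
    let z₀ : T.left ⟶ Limits.pullback Δ h := Limits.pullback.lift (x.left ≫ a.left) x.left (by
      apply Limits.pullback.hom_ext
      · simp [Δ, hfst]
      · simp [Δ, hsnd, hx'])
    have hz : z₀ ≫ j₀ = x.left := Limits.pullback.lift_snd _ _ _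
    refine ⟨Over.homMk z₀ ?_, ?_⟩
    · change z₀ ≫ (j₀ ≫ H.hom) = T.hom
      rw [← Category.assoc, hz, Over.w x]
    · ext : 1
      exact hz


/-- Let S be a scheme, G an S-group scheme which is affine and of finite presentation over S, and g a
section of G over S. Then the centralizer of g — the subfunctor of G whose points with values in an
S-scheme T are the points x of G with x g_T = g_T x — is represented by a closed subscheme of G
whose inclusion is of finite presentation. -/
theorem result (S : Scheme.{u}) (G : Over S) [GrpObj G]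
    [IsAffineHom G.hom] [LocallyOfFinitePresentation G.hom] (g : 𝟙_ (Over S) ⟶ G) :
    ∃ (Z : Over S) (j : Z ⟶ G), IsClosedImmersion j.left ∧ LocallyOfFinitePresentation j.left ∧
      ∀ (T : Over S) (x : T ⟶ G), (∃ z : T ⟶ Z, z ≫ j = x) ↔
        x * (toUnit T ≫ g) = (toUnit T ≫ g) * x := by
  obtain ⟨Z, j, h1, h2, h3⟩ := equalizer_closed S G (𝟙 G * (toUnit G ≫ g)) ((toUnit G ≫ g) * 𝟙 G)
  refine ⟨Z, j, h1, h2, fun T x => (h3 T x).trans ?_⟩
  rw [MonObj.comp_mul, MonObj.comp_mul, Category.comp_id, ← Category.assoc, comp_toUnit]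

end Groth.Agent.S15839
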