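import Groth.Statements.S15840
import Mathlib.Tactic
import Mathlib.NumberTheory.Padics.PadicVal.Basic
import Mathlib.Data.Nat.Choose.Basic

set_option autoImplicit false
universe u
open SprIso

namespace Groth.Agent.S15840

/-- For G = SL_n (n = r + 1) over a field of characteristic p > 0, write n = m p^e with m prime to p, so
that the identity component of the centre of G is μ_{p^e} embedded diagonally. The character of the
i-th exterior power of the standard representation takes the value C(n, i) α^i at a point α of
μ_{p^e}, and this is constant: for every commutative ring R of characteristic p and every α in R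
with α^(p^e) = 1 one has C(n, i) α^i = C(n, i) in R, for all i. -/
theorem result (p : ℕ) [Fact p.Prime] (R : Type u) [CommRing R]
    [CharP R p] (n : ℕ) (hn : 0 < n) (α : R) (hα : α ^ (p ^ padicValNat p n) = 1) (i : ℕ) :
    (n.choose i : R) * α ^ i = (n.choose i : R) := by
  set q := p ^ padicValNat p n with hq
  rcases Nat.eq_zero_or_pos i with rfl | hi
  · simp
  by_cases hd : p ∣ n.choose i
  · obtain ⟨c, hc⟩ := hd
    rw [hc, Nat.cast_mul, CharP.cast_eq_zero R p]
    simp
  · have hcop : Nat.Coprime q (n.choose i) :=
      Nat.Coprime.pow_left _ ((Fact.out : p.Prime).coprime_iff_not_dvd.mpr hd)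
    have hqd : q ∣ i * n.choose i := by
      obtain ⟨n', rfl⟩ : ∃ n', n = n' + 1 := ⟨n - 1, by omega⟩
      obtain ⟨i', rfl⟩ : ∃ i', i = i' + 1 := ⟨i - 1, by omega⟩
      rw [mul_comm, ← Nat.add_one_mul_choose_eq]
      exact Dvd.dvd.mul_right pow_padicValNat_dvd _
    obtain ⟨t, ht⟩ := hcop.dvd_of_dvd_mul_right hqd
    rw [ht, pow_mul, hα, one_pow, mul_one]

end Groth.Agent.S15840
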