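import Groth.Statements.S15841
import Mathlib.Tactic.Abel

set_option autoImplicit false
universe u
open scoped TensorProduct
open SprIso

namespace Groth.Agent.S15841

section

variable {ι M N : Type u} [AddCommGroup M] [AddCommGroup N] (P : RootPairing ι ℤ M N) (k : Type u) [Field k]

/-- The base-changed functional. -/
noncomputable def ev (f : N →ₗ[ℤ] ℤ) : k ⊗[ℤ] N →ₗ[k] k :=
  (TensorProduct.AlgebraTensorModule.rid ℤ k k).toLinearMap ∘ₗ f.baseChange k

theorem ev_eq_zero {f : N →ₗ[ℤ] ℤ} {H : k ⊗[ℤ] N} (h : ev k f H = 0) : f.baseChange k H = 0 :=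
  (TensorProduct.AlgebraTensorModule.rid ℤ k k).map_eq_zero_iff.mp h

theorem ev_tmul (f : N →ₗ[ℤ] ℤ) (a : k) (n : N) : ev k f (a ⊗ₜ n) = f n • a := by
  simp [ev, zsmul_eq_mul, mul_comm]

theorem refl_apply (i : ι) (H : k ⊗[ℤ] N) :
    ((P.coreflection i : N ≃ₗ[ℤ] N) : N →ₗ[ℤ] N).baseChange k H =
      H - ev k (P.root' i) H • ((1 : k) ⊗ₜ[ℤ] P.coroot i) := by
  induction H using TensorProduct.induction_on with
  | zero => simp
  | tmul a n =>
    rw [LinearMap.baseChange_tmul, LinearEquiv.coe_coe, RootPairing.coreflection_apply, TensorProduct.tmul_sub,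
      ev_tmul, TensorProduct.smul_tmul', smul_eq_mul, mul_one, TensorProduct.smul_tmul]
  | add x y hx hy => rw [map_add, map_add, hx, hy, add_smul]; abel

theorem coxeter (l : List ι) (hl : l.Nodup)
    (hω : ∀ i ∈ l, ∃ ω : N →ₗ[ℤ] ℤ, ω (P.coroot i) = 1 ∧ ∀ j ∈ l, j ≠ i → ω (P.coroot j) = 0) :
    ∀ H : k ⊗[ℤ] N,
      (∀ ω : N →ₗ[ℤ] ℤ, (∀ j ∈ l, ω (P.coroot j) = 0) →
        ev k ω (((l.map (fun i => ((P.coreflection i : N ≃ₗ[ℤ] N) : N →ₗ[ℤ] N))).prod).baseChange k H) = ev k ω H) ∧
      (((l.map (fun i => ((P.coreflection i : N ≃ₗ[ℤ] N) : N →ₗ[ℤ] N))).prod).baseChange k H = H →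
        ∀ i ∈ l, ev k (P.root' i) H = 0) := by
  induction l with
  | nil => intro H; simp [Module.End.one_eq_id]
  | cons a l ih =>
    intro H
    rw [List.nodup_cons] at hl
    obtain ⟨IH₁, IH₂⟩ := ih hl.2 (fun i hi => by
      obtain ⟨ω, h1, h2⟩ := hω i (List.mem_cons_of_mem _ hi)
      exact ⟨ω, h1, fun j hj => h2 j (List.mem_cons_of_mem _ hj)⟩) H
    rw [List.map_cons, List.prod_cons, Module.End.mul_eq_comp, LinearMap.baseChange_comp, LinearMap.comp_apply,
      refl_apply]
    set H' := ((l.map (fun i => ((P.coreflection i : N ≃ₗ[ℤ] N) : N →ₗ[ℤ] N))).prod).baseChange k H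
    refine ⟨fun ω hω' => ?_, fun hH => ?_⟩
    · rw [map_sub, map_smul, ev_tmul, hω' a List.mem_cons_self, zero_smul, smul_zero, sub_zero,
        IH₁ ω fun j hj => hω' j (List.mem_cons_of_mem _ hj)]
    · obtain ⟨ω, h1, h2⟩ := hω a List.mem_cons_self
      have hHω : ev k ω H' = ev k ω H := IH₁ ω fun j hj =>
        h2 j (List.mem_cons_of_mem _ hj) (fun e => hl.1 (e ▸ hj))
      have hc := congrArg (ev k ω) hH
      rw [map_sub, map_smul, ev_tmul, h1, one_smul, smul_eq_mul, mul_one, hHω, sub_eq_self] at hc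
      rw [hc, zero_smul, sub_zero] at hH
      intro i hi
      rcases List.mem_cons.mp hi with rfl | hi
      · rw [← hH]; exact hc
      · exact IH₂ hH i hi

end


/-- For a connected reductive group G with maximal torus T whose derived group is simply connected, and
a Coxeter element w (the product of the simple reflections, each once, in any order), an element of
Lie T = k ⊗ X_*(T) fixed by Ad(w) is killed by the differential of every simple root, i.e. lies in
the centre of Lie G. In root-datum form: let P be a root pairing over ℤ with character lattice M and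
cocharacter lattice N, b a base, and suppose each simple coroot has a dual character ω_i in M with
⟨ω_i, α_i^∨⟩ = 1 and ⟨ω_i, α_j^∨⟩ = 0 for every other simple j (the simply connected derived group
hypothesis). If l lists the simple roots without repetition, w^∨ is the composite of the
coreflections along l acting on N, k is a field and H in k ⊗ N satisfies w^∨_k H = H, then (α_i)_k H
= 0 for every simple root α_i, where (α_i)_k is the base change to k of the functional ⟨α_i, −⟩ on
N. (Stated for an arbitrary field k; the published setting is an algebraically closed field, and the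
argument does not depend on k.) -/
theorem result {ι M N : Type u} [AddCommGroup M] [AddCommGroup N]
    (P : RootPairing ι ℤ M N) (b : P.Base)
    (hsc : ∀ i ∈ b.support, ∃ ω : M, P.coroot' i ω = 1 ∧ ∀ j ∈ b.support, j ≠ i → P.coroot' j ω = 0)
    (l : List ι) (hl : l.Nodup) (hlb : ∀ i : ι, i ∈ l ↔ i ∈ b.support)
    (k : Type u) [Field k] (H : k ⊗[ℤ] N)
    (hH : ((l.map (fun i => ((P.coreflection i : N ≃ₗ[ℤ] N) : N →ₗ[ℤ] N))).prod).baseChange k H = H) :
    ∀ i ∈ b.support, (P.root' i).baseChange k H = 0 := by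
  intro i hi
  refine ev_eq_zero k ((coxeter P k l hl (fun i hi => ?_) H).2 hH i ((hlb i).mpr hi))
  obtain ⟨ω, h1, h2⟩ := hsc i ((hlb i).mp hi)
  exact ⟨P.toLinearMap ω, h1, fun j hj hne => h2 j ((hlb j).mp hj) hne⟩

end Groth.Agent.S15841
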