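import Groth.Statements.S15843
import Groth.Agent.GLReg.Cyclic

set_option autoImplicit false
universe u
open SprIso

namespace Groth.Agent.S15843

open Groth.Agent.GLReg Matrix


/-- The flatness assertion, for a section of the group and equally for a section of its Lie algebra, in
the case G = GL_n (its derived group SL_n is simply connected and every prime is good for it, so the
hypotheses on the fundamental group and on the characteristic that the general statement needs hold
over every base, and strong regularity is regularity). Let A be a commutative ring and g an n × n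
matrix over A — a section of GL_n when invertible, of its Lie algebra gl_n in general; in both cases
the centralizer in GL_n is the scheme of invertible matrices commuting with g — which is fiberwise
regular (at every field-valued point A → K the commutant of g_K in M_n(K) has dimension n). Then the
centralizer Z_{GL_n}(g) is flat over A; concretely, with X the generic n × n matrix over A[x_ij],
the ring obtained from A[x_ij] by dividing by the entries of X g − g X and inverting det X is a flat
A-module. -/
theorem result (A : Type u) [CommRing A] (n : ℕ)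
    (g : Matrix (Fin n) (Fin n) A)
    (hreg : ∀ (K : Type u) [Field K] (φ : A →+* K),
      Module.finrank K (Subalgebra.centralizer K ({g.map φ} : Set (Matrix (Fin n) (Fin n) K))) = n) :
    Module.Flat A (Localization.Away
      (Ideal.Quotient.mk (Ideal.span (Set.range fun ij : Fin n × Fin n =>
        (Matrix.mvPolynomialX (Fin n) (Fin n) A * g.map MvPolynomial.C -
          g.map MvPolynomial.C * Matrix.mvPolynomialX (Fin n) (Fin n) A :
            Matrix (Fin n) (Fin n) (MvPolynomial (Fin n × Fin n) A)) ij.1 ij.2))
        (Matrix.mvPolynomialX (Fin n) (Fin n) A).det)) := by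
  classical
  let S := MvPolynomial (Fin n × Fin n) A
  let Xg : Matrix (Fin n) (Fin n) S := Matrix.mvPolynomialX (Fin n) (Fin n) A
  let gS : Matrix (Fin n) (Fin n) S := g.map MvPolynomial.C
  set I : Ideal S := Ideal.span (Set.range fun ij : Fin n × Fin n => (Xg * gS - gS * Xg) ij.1 ij.2) with hI
  let P := MvPolynomial (Fin n) A
  let gP : Matrix (Fin n) (Fin n) P := g.map (algebraMap A P)
  let XP : Matrix (Fin n) (Fin n) P := ∑ k : Fin n, (MvPolynomial.X k : P) • gP ^ (k : ℕ)
  let φ₀ : S →ₐ[A] P := MvPolynomial.aeval fun ij : Fin n × Fin n => XP ij.1 ij.2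
  have hXφ : Xg.map φ₀ = XP := by
    refine Matrix.ext fun i j => ?_
    exact MvPolynomial.aeval_X _ _
  have hgφ : gS.map φ₀ = gP := by
    refine Matrix.ext fun i j => ?_
    exact φ₀.commutes _
  have hcomm : Commute XP gP :=
    Commute.sum_left _ _ _ fun k _ => ((Commute.refl gP).pow_left _).smul_left _
  have hle : ∀ a ∈ I, φ₀ a = 0 := by
    have : I ≤ RingHom.ker φ₀ := by
      rw [hI, Ideal.span_le]
      rintro _ ⟨⟨i, j⟩, rfl⟩
      have e : (Xg * gS - gS * Xg).map φ₀ = 0 := by
        change φ₀.toRingHom.mapMatrix (Xg * gS - gS * Xg) = 0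
        rw [map_sub, map_mul, map_mul]
        change Xg.map φ₀ * gS.map φ₀ - gS.map φ₀ * Xg.map φ₀ = 0
        rw [hXφ, hgφ, hcomm.eq, sub_self]
      exact congrFun (congrFun e i) j
    exact fun a ha => this ha
  let φ : (S ⧸ I) →ₐ[A] P := Ideal.Quotient.liftₐ I φ₀ hle
  let π : S →ₐ[A] S ⧸ I := Ideal.Quotient.mkₐ A I
  let XQ : Matrix (Fin n) (Fin n) (S ⧸ I) := Xg.map π
  let gQ : Matrix (Fin n) (Fin n) (S ⧸ I) := g.map (algebraMap A (S ⧸ I))
  have hgQ : gS.map π = gQ := by
    refine Matrix.ext fun i j => ?_
    exact π.commutes _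
  have hQc : Commute XQ gQ := by
    have e : (Xg * gS - gS * Xg).map π = 0 := by
      ext i j
      simp only [Matrix.map_apply, Matrix.zero_apply, π, Ideal.Quotient.mkₐ_eq_mk]
      exact Ideal.Quotient.eq_zero_iff_mem.mpr (Ideal.subset_span ⟨(i, j), rfl⟩)
    change π.toRingHom.mapMatrix (Xg * gS - gS * Xg) = 0 at e
    rw [map_sub, map_mul, map_mul, sub_eq_zero] at e
    rw [← hgQ]
    exact e
  obtain ⟨q, hq⟩ := Cyclic.exists_coeff (Cyclic.reg_map g hreg (algebraMap A (S ⧸ I))) hQc
  let ψ : P →ₐ[A] S ⧸ I := MvPolynomial.aeval q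
  have hψ : ψ.comp φ = AlgHom.id A (S ⧸ I) := by
    refine Ideal.Quotient.algHom_ext A (MvPolynomial.algHom_ext fun ij => ?_)
    have e : ψ.toRingHom.mapMatrix XP = XQ := by
      rw [hq]
      simp only [XP, map_sum]
      refine Finset.sum_congr rfl fun k _ => ?_
      have e1 : ψ.toRingHom.mapMatrix gP = gQ := by
        refine Matrix.ext fun a b => ?_
        exact ψ.commutes _
      change _ = q k • gQ ^ (k : ℕ)
      rw [← e1, ← map_pow]
      refine Matrix.ext fun a b => ?_
      simp only [RingHom.mapMatrix_apply, Matrix.map_apply, Matrix.smul_apply, smul_eq_mul, map_mul]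
      congr 1
      exact MvPolynomial.aeval_X _ _
    have e' := congrFun (congrFun e ij.1) ij.2
    simp only [RingHom.mapMatrix_apply, Matrix.map_apply] at e'
    change ψ (φ₀ (MvPolynomial.X ij)) = π (MvPolynomial.X ij)
    rw [show φ₀ (MvPolynomial.X ij) = XP ij.1 ij.2 from MvPolynomial.aeval_X _ _]
    exact e'
  have hφ : φ.comp ψ = AlgHom.id A P := by
    refine MvPolynomial.algHom_ext fun k => ?_
    have e1 : φ.toRingHom.mapMatrix gQ = gP := by
      refine Matrix.ext fun a b => ?_
      exact φ.commutes _
    have e2 : φ.toRingHom.mapMatrix XQ = XP := by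
      rw [← hXφ]
      rfl
    rw [hq, map_sum] at e2
    have e3 : ∑ i : Fin n, φ (q i) • gP ^ (i : ℕ) = XP := by
      rw [← e2]
      refine Finset.sum_congr rfl fun i _ => ?_
      change φ (q i) • gP ^ (i : ℕ) = φ.toRingHom.mapMatrix (q i • gQ ^ (i : ℕ))
      rw [← e1, ← map_pow]
      refine Matrix.ext fun a b => ?_
      simp [RingHom.mapMatrix_apply]
    have := congrFun (Cyclic.coeff_unique (Cyclic.reg_map g hreg (algebraMap A P)) e3) k
    change φ (ψ (MvPolynomial.X k)) = MvPolynomial.X k
    rw [show ψ (MvPolynomial.X k) = q k from MvPolynomial.aeval_X _ _]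
    exact this
  have : Module.Flat A (S ⧸ I) :=
    Module.Flat.of_linearEquiv (AlgEquiv.ofAlgHom φ ψ hφ hψ).toLinearEquiv
  have := IsLocalization.flat (Localization.Away (Ideal.Quotient.mk I Xg.det))
    (Submonoid.powers (Ideal.Quotient.mk I Xg.det))
  exact Module.Flat.trans A (S ⧸ I) (Localization.Away (Ideal.Quotient.mk I Xg.det))

end Groth.Agent.S15843
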