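import Groth.Statements.S15845
import Groth.Agent.GLReg.Cyclic

set_option autoImplicit false
universe u
open SprIso

namespace Groth.Agent.S15845

open Groth.Agent.GLReg Matrix

theorem pow_triangular {k : Type*} [CommRing k] {n : ℕ} {N : Matrix (Fin n) (Fin n) k}
    (hN : ∀ i j : Fin n, j ≤ i → N i j = 0) :
    ∀ (m : ℕ) (i j : Fin n), j.val < i.val + m → (N ^ m) i j = 0
  | 0, i, j, h => by rw [pow_zero, Matrix.one_apply_ne]; intro e; subst e; omega
  | m + 1, i, j, h => by
    rw [pow_succ', Matrix.mul_apply]
    refine Finset.sum_eq_zero fun q _ => ?_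
    rcases le_or_gt q i with hq | hq
    · rw [hN i q hq, zero_mul]
    · rw [pow_triangular hN m q j (by have : i.val < q.val := hq; omega), mul_zero]

theorem pow_superdiag {k : Type*} [Field k] {n : ℕ} {N : Matrix (Fin n) (Fin n) k}
    (hN : ∀ i j : Fin n, j ≤ i → N i j = 0) (hS : ∀ i j : Fin n, j.val = i.val + 1 → N i j ≠ 0) :
    ∀ (m : ℕ) (i j : Fin n), j.val = i.val + m → (N ^ m) i j ≠ 0
  | 0, i, j, h => by
    have : i = j := Fin.ext (by omega)
    simp [this]
  | m + 1, i, j, h => by
    rw [pow_succ', Matrix.mul_apply, Finset.sum_eq_single ⟨i.val + 1, by omega⟩]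
    · exact mul_ne_zero (hS _ _ rfl) (pow_superdiag hN hS m _ _ (by simp; omega))
    · intro q _ hq
      rcases le_or_gt q i with hq' | hq'
      · rw [hN i q hq', zero_mul]
      · have h1 : i.val < q.val := hq'
        have h2 : q.val ≠ i.val + 1 := fun e => hq (Fin.ext e)
        rw [pow_triangular hN m q j (by omega), mul_zero]
    · simp


/-- General linear group case: this is the case G = GL_n with its upper-triangular Borel subgroup B
(derived group SL_n simply connected, all primes good, so the hypotheses on the characteristic
hold), together with the companion statement for a regular nilpotent element of Lie B. Let k be a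
field and u an n × n upper-triangular matrix over k whose diagonal entries are all equal and whose
superdiagonal entries u_{i,i+1} are all non-zero — for diagonal 1 this is a regular unipotent
element of B(k), for diagonal 0 a regular nilpotent element of Lie B. Then the centralizer of u in
GL_n is contained in B and is the product of the centre with the centralizer in the unipotent
radical: for every commutative k-algebra R and every invertible x ∈ M_n(R) commuting with u_R, x is
upper triangular and its diagonal entries are all equal. (The smoothness of the centralizer in the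
unipotent radical, also part of the published statement, is not stated here.) -/
theorem result (k : Type u) [Field k] (n : ℕ)
    (u : Matrix (Fin n) (Fin n) k) (htri : ∀ i j : Fin n, j < i → u i j = 0) (hdiag : ∀ i j : Fin n, u i i = u j j)
    (hreg : ∀ (i j : Fin n), j.val = i.val + 1 → u i j ≠ 0)
    (R : Type u) [CommRing R] [Algebra k R] (x : Matrix (Fin n) (Fin n) R) (hx : IsUnit x)
    (hxu : x * u.map (algebraMap k R) = u.map (algebraMap k R) * x) :
    (∀ i j : Fin n, j < i → x i j = 0) ∧ (∀ i j : Fin n, x i i = x j j) := by
  classical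
  rcases Nat.eq_zero_or_pos n with rfl | hn
  · exact ⟨fun i => i.elim0, fun i => i.elim0⟩
  let i₀ : Fin n := ⟨0, hn⟩
  let last : Fin n := ⟨n - 1, by omega⟩
  let N : Matrix (Fin n) (Fin n) k := u - u i₀ i₀ • 1
  have hN : ∀ i j : Fin n, j ≤ i → N i j = 0 := fun i j hij => by
    rcases eq_or_lt_of_le hij with rfl | h
    · simp [N, hdiag j i₀]
    · simp [N, htri i j h, h.ne']
  have hS : ∀ i j : Fin n, j.val = i.val + 1 → N i j ≠ 0 := fun i j h => by
    have : i ≠ j := fun e => by rw [e] at h; omega
    simpa [N, this] using hreg i j h
  have hdet : (Cyclic.Kr N (Pi.single last 1)).det ≠ 0 := by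
    intro h0
    let M : Matrix (Fin n) (Fin n) k := (Cyclic.Kr N (Pi.single last 1)).submatrix id Fin.revPerm
    have hM : ∀ p q, M p q = (N ^ (n - 1 - q.val)) p last := fun p q => by
      simp only [M, Matrix.submatrix_apply, Cyclic.Kr, Matrix.of_apply, id, Fin.revPerm_apply, Fin.val_rev,
        Matrix.mulVec_single, MulOpposite.op_one, one_smul, Matrix.col_apply]
      rw [show n - (q.val + 1) = n - 1 - q.val by omega]
    have ht : M.BlockTriangular id := fun p q hpq => by
      have : q.val < p.val := hpq
      rw [hM, pow_triangular hN _ _ _ (by simp [last]; omega)]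
    have : M.det = 0 := by simp [M, Matrix.det_permute', h0]
    rw [Matrix.det_of_isUpperTriangular ht, Finset.prod_eq_zero_iff] at this
    obtain ⟨p, -, hp⟩ := this
    exact pow_superdiag hN hS _ _ _ (by simp [last]; omega) (hM p p ▸ hp)
  let f := algebraMap k R
  have hR : Cyclic.Reg (N.map f) := by
    refine Cyclic.reg_of_isUnit (f ∘ Pi.single last 1) ?_
    rw [← Cyclic.Kr_map, ← RingHom.mapMatrix_apply, ← RingHom.map_det]
    exact (isUnit_iff_ne_zero.mpr hdet).map f
  have hNR : N.map f = u.map f - f (u i₀ i₀) • 1 := by
    ext i j
    rcases eq_or_ne i j with rfl | h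
    · simp [N, hdiag i i₀]
    · simp [N, h]
  have hc : Commute x (N.map f) := by
    rw [hNR]
    exact Commute.sub_right hxu ((Commute.one_right x).smul_right _)
  obtain ⟨c, rfl⟩ := Cyclic.exists_coeff hR hc
  have hNR' : ∀ i j : Fin n, j ≤ i → N.map f i j = 0 := fun i j h => by simp [hN i j h]
  refine ⟨fun i j hij => ?_, fun i j => ?_⟩
  · rw [Matrix.sum_apply]
    refine Finset.sum_eq_zero fun l _ => ?_
    rw [Matrix.smul_apply, pow_triangular hNR' _ i j (by have : j.val < i.val := hij; omega), smul_zero]
  · rw [Matrix.sum_apply, Matrix.sum_apply]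
    refine Finset.sum_congr rfl fun l _ => ?_
    rcases Nat.eq_zero_or_pos l.val with hl | hl
    · simp [hl]
    · rw [Matrix.smul_apply, Matrix.smul_apply, pow_triangular hNR' _ i i (by omega),
        pow_triangular hNR' _ j j (by omega)]

end Groth.Agent.S15845
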