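import Groth.Statements.S15848
import Groth.Agent.DecCurve.Smooth
import Groth.Agent.ABReg.Basic
import Groth.Agent.CurveDVR.Stalk
import Groth.Agent.DualAbs.Closed
import Groth.Agent.FlatMor.GenericPts

set_option autoImplicit false
universe u
open CategoryTheory CategoryTheory.Limits AlgebraicGeometry
open Surf

namespace Groth.Agent.S15848

open IsLocalRing TopologicalSpace Groth.Agent.PullStalk.Sky Groth.Agent.PullStalk.Exact

set_option backward.isDefEq.respectTransparency.types false

theorem free_kernel {R : Type u} [CommRing R] [IsRegularLocalRing R] {n : ℕ} (hn : ringKrullDim R = n)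
    (hn2 : n ≤ 2) {K F N : Type u} [AddCommGroup K] [AddCommGroup F] [AddCommGroup N]
    [Module R K] [Module R F] [Module R N] [Module.Finite R F] [Module.Free R F]
    {f : K →ₗ[R] F} {g : F →ₗ[R] N} (hf : Function.Injective f) (hg : Function.Surjective g)
    (hfg : Function.Exact f g) (hN : 2 ≤ n → (1 : ℕ∞) ≤ LocCoh.depth R N) : Module.Free R K := by
  haveI : Module.Finite R K := Module.Finite.of_injective f hf
  haveI : Module.Finite R N := Module.Finite.of_surjective g hg
  have hF : (n : ℕ∞) ≤ LocCoh.idealDepth (maximalIdeal R) F := by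
    rw [← Depth.idealDepth_congr (Module.finBasis R F).equivFun.symm]
    exact ABReg.le_depth_free hn _
  have hN' : (n : ℕ∞) ≤ LocCoh.idealDepth (maximalIdeal R) N + 1 := by
    rcases Nat.lt_or_ge n 2 with h | h
    · calc (n : ℕ∞) ≤ 1 := by exact_mod_cast (show n ≤ 1 by omega)
        _ ≤ _ := le_add_self
    · calc (n : ℕ∞) ≤ 1 + 1 := by exact_mod_cast hn2
        _ ≤ _ := add_le_add (hN h) le_rfl
  have hK : (n : ℕ∞) ≤ LocCoh.depth R K :=
    le_trans (le_min hF hN') (Depth.min_le_idealDepth_X₁ (I := maximalIdeal R) hf hg hfg)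
  haveI : Module.Projective R K :=
    (RegLoc.PD.pd_zero_iff _).1 (ABReg.projective_of_le_depth hn n K (RegLoc.Homological.pd_le_dim hn K) hK)
  exact Module.free_of_flat_of_isLocalRing

theorem subsingleton_push {Z X : Scheme.{u}} (i : Z ⟶ X) [IsClosedImmersion i] (M : Z.Modules) {x : X}
    (hx : x ∉ Set.range i) : Subsingleton (((Coh.push i).obj M).presheaf.stalk x) := by
  refine subsingleton_of_forall_eq 0 fun t => ?_
  obtain ⟨W, hxW, w, rfl⟩ := exists_germM_eq ((Coh.push i).obj M) x t
  let W' : X.Opens := ⟨(Set.range i)ᶜ, i.isClosedEmbedding.isClosed_range.isOpen_compl⟩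
  have hW : i ⁻¹ᵁ (W ⊓ W') = ⊥ := by
    ext z
    simp only [Scheme.Hom.coe_preimage, Set.mem_preimage, SetLike.mem_coe, Opens.coe_bot,
      Set.mem_empty_iff_false, iff_false]
    exact fun h => h.2 ⟨z, rfl⟩
  have hsub : Subsingleton Γ(M, i ⁻¹ᵁ (W ⊓ W')) := by
    rw [hW]
    exact subsingleton_of_forall_eq 0 fun s => TopCat.Presheaf.section_ext
      (⟨M.presheaf, M.isSheaf⟩ : TopCat.Sheaf AddCommGrpCat Z) _ s 0 fun y hy => absurd hy (by simp)
  rw [germM, ← ((Coh.push i).obj M).presheaf.germ_res_apply (homOfLE (inf_le_left : W ⊓ W' ≤ W)) x ⟨hxW, hx⟩]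
  have : ((Coh.push i).obj M).presheaf.map (homOfLE (inf_le_left : W ⊓ W' ≤ W)).op w = 0 := hsub.elim _ _
  rw [this, map_zero]

theorem one_le_depth_push {C S : Scheme.{u}} (j : C ⟶ S) [IsClosedImmersion j] [IsIntegral C]
    (M : C.Modules) (hMtf : TorSh.IsTorsionFree M) (z : C) (hz : ¬ IsField (C.presheaf.stalk z)) :
    (1 : ℕ∞) ≤ LocCoh.depth (S.presheaf.stalk (j z))
      (((Coh.push j).obj M).presheaf.stalk (j z)) := by
  obtain ⟨b, hbm, hb0⟩ : ∃ b ∈ maximalIdeal (C.presheaf.stalk z), b ≠ 0 :=
    Submodule.exists_mem_ne_zero_of_ne_bot fun h => hz (IsLocalRing.isField_iff_maximalIdeal_eq.2 h)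
  obtain ⟨a, rfl⟩ := j.stalkMap_surjective z b
  have ham : a ∈ maximalIdeal (S.presheaf.stalk (j z)) :=
    (mem_maximalIdeal a).2 fun hu => (mem_maximalIdeal _).1 hbm (hu.map (j.stalkMap z).hom)
  rw [Depth.depth_eq_idealDepth]
  refine Depth.le_idealDepth_of_isWeaklyRegular (rs := [a])
    ((RingTheory.Sequence.isWeaklyRegular_singleton_iff _ a).2 ?_) (by simpa using ham)
  refine isSMulRegular_iff_right_eq_zero_of_smul.2 fun t ht => ?_
  let ξ : ((Scheme.Modules.pushforward j).obj M).presheaf.stalk (j z) ≃+ M.presheaf.stalk z :=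
    AddEquiv.ofBijective (TopCat.Presheaf.stalkPushforward AddCommGrpCat j.base M.presheaf z).hom
      (ClUnit.stalkPushforward_bijective j _ j.isClosedEmbedding.isInducing z)
  have h1 : j.stalkMap z a • ξ t = 0 :=
    (DualAbs.stalkPushforward_smul j M z a t).symm.trans ((congrArg ξ ht).trans (map_zero ξ))
  haveI := hMtf z
  exact ξ.injective (((IsRegular.of_ne_zero hb0).smul_eq_zero_iff_right.1 h1).trans (map_zero ξ).symm)

/-- Let k be an algebraically closed field of characteristic zero and S a smooth surface over k (an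
integral k-scheme, smooth over k, of dimension two). Let j : C → S be a closed immersion with C
integral of dimension one, M a coherent O_C-module whose stalks are torsion-free modules over the
local rings of C, F a finite locally free O_S-module and f : F → j_*M an epimorphism of O_S-modules.
Then the kernel of f, the elementary transformation of F along f, is a finite locally free
O_S-module. (The published setting takes S projective; the argument is local on S and projectivity
is not assumed here.) -/
theorem result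
    (k : Type u) [Field k] [IsAlgClosed k] [CharZero k]
    (S : Scheme.{u}) [S.Over (Spec (CommRingCat.of k))] [IsIntegral S]
    [Smooth (S ↘ Spec (CommRingCat.of k))] (hdim : topologicalKrullDim S = 2)
    (C : Scheme.{u}) (j : C ⟶ S) [IsClosedImmersion j] [IsIntegral C]
    (hC : topologicalKrullDim C = 1)
    (M : C.Modules) (hM : Coh.IsCoh M) (hMtf : TorSh.IsTorsionFree M)
    (F : S.Modules) (hF : FlatMod.IsFinLocFree F)
    (f : F ⟶ (Coh.push j).obj M) [Epi f] :
    FlatMod.IsFinLocFree (kernel f) := by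
  haveI : IsLocallyNoetherian S := LocallyOfFiniteType.isLocallyNoetherian (S ↘ Spec (CommRingCat.of k))
  haveI : F.IsQuasicoherent := (VBLib.isCoh_of_isFinLocFree hF).1
  haveI : IsLocallyNoetherian C := LocallyOfFiniteType.isLocallyNoetherian j
  have hjM : Coh.IsCoh ((Coh.push j).obj M) := ProperFin.isCoh_push_of_isFinite j M hM
  have hK : Coh.IsCoh (kernel f) := VBLib.isCoh_kernel f (VBLib.isCoh_of_isFinLocFree hF) hjM
  haveI := hK.1
  haveI := hK.2
  refine Props.QProj.isFinLocFree_of _ (fun x => ?_) fun x => ?_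
  · obtain ⟨_, ⟨U, hU, rfl⟩, hx, -⟩ :=
      S.isBasis_affineOpens.exists_subset_of_mem_open (Set.mem_univ x) isOpen_univ
    haveI : IsNoetherianRing Γ(S, U) := IsLocallyNoetherian.component_noetherian ⟨U, hU⟩
    haveI := QCoh.finite_sections_of_isFiniteType (kernel f) (show IsAffineOpen U from hU)
    exact ⟨U, hU, hx, Module.finitePresentation_of_finite _ _⟩
  haveI := CurveDVR.isRegularLocalRing_stalk (S ↘ Spec (CommRingCat.of k)) x
  haveI := (Props.QProj.free_stalk F hF x).1
  haveI := (Props.QProj.free_stalk F hF x).2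
  let T := ShortComplex.mk (kernel.ι f) f (kernel.condition f)
  have hT : T.ShortExact := { exact := T.exact_of_f_is_kernel (kernelIsKernel f) }
  obtain ⟨hi, he, hs⟩ := stalk_exact hT x
  obtain ⟨n, hn, -⟩ := RegLoc.exists_natCast_eq_ringKrullDim (S.presheaf.stalk x)
  have hd : Order.krullDim S ≤ 2 :=
    le_of_eq_of_le (@Order.krullDim_eq_of_orderIso _ _ _ _ (irreducibleSetEquivPoints (α := S))).symm hdim.le
  have hco : (Order.coheight x : WithBot ℕ∞) ≤ 2 := (Order.coheight_le_krullDim x).trans hd
  have hnc : (Order.coheight x : WithBot ℕ∞) = (n : ℕ) := by rw [← hn, ringKrullDim_stalk_eq_coheight]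
  have hn2 : n ≤ 2 := by rw [hnc] at hco; exact_mod_cast hco
  refine free_kernel hn hn2 hi hs he fun h2 => ?_
  by_cases hx : x ∈ Set.range j
  swap
  · haveI : Subsingleton (((Coh.push j).obj M).presheaf.stalk x) :=
      subsingleton_push j M hx
    rw [Depth.depth_eq_idealDepth, Depth.idealDepth_eq_top_of_subsingleton]
    exact le_top
  obtain ⟨z, rfl⟩ := hx
  refine one_le_depth_push j M hMtf z fun hf => ?_
  obtain ⟨w, hzw, hne⟩ : ∃ w : C, z ⤳ w ∧ w ≠ z := by
    have hgen : ∀ y : C, y ⤳ z → y = z := fun y hy => by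
      obtain ⟨p, hp⟩ : y ∈ Set.range (C.fromSpecStalk z) := by rwa [Scheme.range_fromSpecStalk]
      have hpm : p = closedPoint (C.presheaf.stalk z) := by
        letI := hf.toField
        exact Subsingleton.elim (α := PrimeSpectrum (C.presheaf.stalk z)) _ _
      rw [← hp, hpm, Scheme.fromSpecStalk_closedPoint]
    have hzgen : genericPoint C = z := hgen _ ((genericPoint_spec C).specializes trivial)
    by_contra hno
    push Not at hno
    haveI : Subsingleton C := ⟨fun a b => by
      rw [hno a (hzgen ▸ (genericPoint_spec C).specializes trivial),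
        hno b (hzgen ▸ (genericPoint_spec C).specializes trivial)]⟩
    haveI : Subsingleton (IrreducibleCloseds C) := ⟨fun A B => by
      refine IrreducibleCloseds.ext ?_
      exact (Subsingleton.eq_univ_of_nonempty A.isIrreducible.1).trans
        (Subsingleton.eq_univ_of_nonempty B.isIrreducible.1).symm⟩
    have h0 : topologicalKrullDim C ≤ 0 := Order.krullDim_nonpos_of_subsingleton
    rw [hC] at h0
    exact absurd h0 (by decide)
  have hlt : j w < j z := lt_of_le_not_ge (hzw.map j.continuous)
    fun h => hne (j.isClosedEmbedding.injective (Specializes.antisymm h (hzw.map j.continuous)).eq)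
  have h3 : (Order.coheight (j w) : WithBot ℕ∞) ≤ 2 := (Order.coheight_le_krullDim _).trans hd
  have h4 := Order.coheight_add_one_le hlt
  have h5 : ((Order.coheight (j z) + 1 : ℕ∞) : WithBot ℕ∞) ≤ 2 :=
    le_trans (WithBot.coe_le_coe.2 h4) h3
  rw [WithBot.coe_add, hnc] at h5
  have h6 : ((n + 1 : ℕ) : WithBot ℕ∞) ≤ ((2 : ℕ) : WithBot ℕ∞) := by push_cast; exact h5
  have : n + 1 ≤ 2 := Nat.cast_le.1 h6
  omega

end Groth.Agent.S15848
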