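import Groth.Statements.S15870
import Groth.Agent.GITLib.TorsorSchMore
import Groth.Agent.GITLib.Pushforward
import Groth.Agent.AlgSpCov.EtaleSections
import Groth.Agent.EtaleSite.SplitScheme
import Groth.Agent.GrpScheme.SepPoint
import Mathlib.AlgebraicGeometry.Morphisms.LocalFlatDescent
import Mathlib.FieldTheory.IsAlgClosed.AlgebraicClosure
-- import your own Groth.Agent.* helpers here

set_option autoImplicit false
universe u
open CategoryTheory MonoidalCategory CartesianMonoidalCategory MonObj GrpObj AlgebraicGeometry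
open NonAbH1

namespace Groth.Agent.S15870

open Groth.Agent Groth.Agent.GITLib CategoryTheory.Limits

/-- Let π : S' → S be finite locally free (finite, flat, locally of finite presentation), G a smooth
S'-group scheme and E an fppf G-torsor over S'. Then E trivializes fppf locally on S: some fppf
covering family of S consists of morphisms U → S such that E has a section over U ×_S S' → S'. (The
published statement is for a variable S-scheme T, torsors over S' ×_S T and G a group algebraic
space; this row is the case T = S with G a scheme, to which the general case reduces by base change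
of π.) -/
theorem result
    {S S' : Scheme.{u}} (π : S' ⟶ S) [IsFinite π] [Flat π] [LocallyOfFinitePresentation π]
    (G : Over S') [GrpObj G] [Smooth G.hom]
    (E : NonAbH1.TorsorSch G Scheme.fppfPrecoverage) :
    ∃ R ∈ Scheme.fppfPrecoverage S, ∀ ⦃U : Scheme.{u}⦄ (g : U ⟶ S), R g →
      NonAbH1.HasSectionOver E.X (Limits.pullback.snd g π) := by
  have hE : NonAbH1.IsTorsorFor Scheme.fpqcPrecoverage E.act := isTorsorFor_mono fppfPrecoverage_le_fpqc' E.isTorsor
  haveI : MorphismProperty.DescendsAlong @Smooth AlgSpCov.Fpqc.{u} :=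
    inferInstanceAs (MorphismProperty.DescendsAlong @Smooth (@Surjective ⊓ @Flat ⊓ @QuasiCompact))
  haveI : Smooth E.X.hom := property_of_torsor @Smooth hE inferInstance
  haveI : Surjective E.X.hom := surjective_of_isLocallyTrivialFor hE.2
  -- étale local sections over `S'`
  have hsec : ∀ x : S', ∃ (W : Scheme.{u}) (g : W ⟶ S') (h : W ⟶ E.X.left),
      Etale g ∧ x ∈ Set.range g ∧ h ≫ E.X.hom = g := by
    intro x
    obtain ⟨z, rfl⟩ := E.X.hom.surjective x
    obtain ⟨W, g, w, hg, hw, h, hh⟩ := AlgSpCov.exists_etale_section E.X.hom z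
    exact ⟨W, g, h, hg, ⟨w, hw⟩, hh⟩
  choose W g h hg hx hh using hsec
  haveI := hg
  let G' : (∐ W) ⟶ S' := Sigma.desc g
  haveI : Etale G' := EtaleSite.etale_sigmaDesc g
  haveI : Surjective G' := ⟨fun x => by
    obtain ⟨w, hw⟩ := hx x
    exact ⟨(Sigma.ι W x).base w, by rw [← Scheme.Hom.comp_apply, Sigma.ι_desc]; exact hw⟩⟩
  -- étale neighbourhoods in `S`
  have key : ∀ s : S, ∃ (V : S.Etale), s ∈ Set.range V.hom ∧ NonAbH1.HasSectionOver E.X (pullback.snd V.hom π) := by
    intro s
    let L := AlgebraicClosure (S.residueField s)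
    let pη : Spec (CommRingCat.of L) ⟶ S :=
      Spec.map (CommRingCat.ofHom (algebraMap (S.residueField s) L)) ≫ S.fromSpecResidueField s
    have hlift : ∀ ξ : Spec (CommRingCat.of L) ⟶ S', ∃ u : Spec (CommRingCat.of L) ⟶ ∐ W, u ≫ G' = ξ := by
      intro ξ
      haveI : Nonempty ↑(pullback G' ξ) := by
        obtain ⟨z, -⟩ := (pullback.snd G' ξ).surjective (IsLocalRing.closedPoint L)
        exact ⟨z⟩
      haveI : Smooth (pullback.snd G' ξ) := inferInstance
      obtain ⟨u, hu⟩ := GrpScheme.SepPoint.exists_point (pullback.snd G' ξ)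
      exact ⟨u ≫ pullback.fst G' ξ, by rw [Category.assoc, pullback.condition, reassoc_of% hu]⟩
    choose φ hφ using hlift
    obtain ⟨V, y, hy, r, hr, -⟩ := EtaleSite.split_finite π pη (𝟙 (Spec (CommRingCat.of L))) G'
      (fun ξ _ => φ ξ) (fun ξ _ => hφ ξ)
    refine ⟨V, ⟨y.base (IsLocalRing.closedPoint L), ?_⟩, r ≫ Sigma.desc h, ?_⟩
    · rw [← Scheme.Hom.comp_apply, hy]
      exact S.fromSpecResidueField_apply s _
    · rw [Category.assoc, show Sigma.desc h ≫ E.X.hom = G' from Sigma.hom_ext _ _ fun x => by simp [G', hh]]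
      exact hr
  choose V hV hsV using key
  refine ⟨Presieve.ofArrows (fun s => (V s).left) (fun s => (V s).hom), ?_, ?_⟩
  · show _ ∈ Scheme.precoverage (@Flat ⊓ @LocallyOfFinitePresentation) S
    rw [Scheme.ofArrows_mem_precoverage_iff]
    refine ⟨fun s => ⟨s, hV s⟩, fun s => ?_⟩
    haveI : Etale (V s).hom := (V s).prop
    exact ⟨inferInstance, inferInstance⟩
  · rintro U f ⟨s⟩
    exact hsV s
end Groth.Agent.S15870
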