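import Groth.Statements.S15874
import Groth.Agent.GITLib.EtaleTorsorSections
-- import your own Groth.Agent.* helpers here

set_option autoImplicit false
universe u
open CategoryTheory MonoidalCategory CartesianMonoidalCategory MonObj GrpObj AlgebraicGeometry
open NonAbH1

namespace Groth.Agent.S15874

/-- Let G be an étale k-group scheme and S a normal integral k-scheme with generic point η. Then an fppf
torsor over S under G whose base change to Spec κ(η) is trivial is itself trivial: the kernel of
H¹(S, G) → H¹(κ(η), G) on classes of torsors that are schemes is the base point. (The published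
statement takes S merely integral; the connected étale double cover of a nodal cubic over an
algebraically closed field is a non-trivial torsor under the constant group of order 2 that is
trivial at the generic point, so S is taken normal here, which is what the published proof uses.) -/
theorem result (k : Type u) [Field k]
    (G : Over (Spec (CommRingCat.of k))) [GrpObj G] [Etale G.hom]
    (S : Scheme.{u}) [IsIntegral S] (hS : Pi1.IsNormalScheme S) (s : S ⟶ Spec (CommRingCat.of k))
    (c : NonAbH1.H1Sch (Red.bc s G) Scheme.fppfPrecoverage)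
    (hc : NonAbH1.H1Sch.bcMap (S.fromSpecResidueField (genericPoint S)) (Red.bc s G) Scheme.fppfPrecoverage c = 1) :
    c = 1 := by
  induction c using Quot.ind with
  | _ P =>
  let g := S.fromSpecResidueField (genericPoint S)
  let Φ : NonAbH1.H1Sch (Red.bc g (Red.bc s G)) Scheme.fppfPrecoverage → Prop :=
    Quot.lift (fun Q => Nonempty (𝟙_ (Over (Spec (S.residueField (genericPoint S)))) ⟶ Q.X))
      (fun Q Q' ⟨e⟩ => propext ⟨fun ⟨t⟩ => ⟨t ≫ e.iso.hom⟩, fun ⟨t⟩ => ⟨t ≫ e.iso.inv⟩⟩)
  have h1 : Φ (H1Sch.bcMap g (Red.bc s G) Scheme.fppfPrecoverage (Quot.mk _ P)) := by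
    rw [hc]
    exact ⟨η[Red.bc g (Red.bc s G)]⟩
  obtain ⟨t⟩ := h1
  let t' : Spec (S.residueField (genericPoint S)) ⟶ Limits.pullback P.X.hom g := t.left
  have hw : t' ≫ Limits.pullback.snd P.X.hom g = 𝟙 _ := Over.w t
  have hx : (t' ≫ Limits.pullback.fst P.X.hom g) ≫ P.X.hom = g := by
    rw [Category.assoc, Limits.pullback.condition, ← Category.assoc, hw, Category.id_comp]
  obtain ⟨σ, hσ, -⟩ := GITLib.exists_section_extending hS P.isTorsor _ hx
  let o : 𝟙_ (Over S) ⟶ P.X := Over.homMk σ hσ
  let f : Red.bc s G ⟶ P.X := P.act.orbitMap o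
  have hf : (trivialAction (Red.bc s G)).act ≫ f = (Red.bc s G ◁ f) ≫ P.act.act := by
    have hpt : ∀ {T : Over S} (g g' : T ⟶ Red.bc s G),
        (lift g g' ≫ μ[Red.bc s G]) ≫ f = lift g (g' ≫ f) ≫ P.act.act := by
      intro T g g'
      simp only [f, AlgGrp.Action.orbitMap]
      rw [← Category.assoc, comp_lift, ← Category.assoc g', comp_lift, Category.comp_id,
        Category.comp_id, comp_toUnit_assoc, comp_toUnit_assoc, ← Hom.mul_def]
      exact P.act.lift_mul_act g g' _
    have h2 := hpt (fst (Red.bc s G) (Red.bc s G)) (snd (Red.bc s G) (Red.bc s G))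
    rw [lift_fst_snd, Category.id_comp] at h2
    refine h2.trans ?_
    congr 1
  have hq : IsTorsorFor Scheme.fpqcPrecoverage (trivialAction (Red.bc s G)) :=
    GITLib.isTorsorFor_mono Scheme.fppfPrecoverage_le_fpqcPrecoverage
      (isTorsorFor_trivialAction _ _)
  have := GITLib.isIso_of_equivariant hq P.isTorsor.1 f hf
  exact (Quot.sound ⟨⟨asIso f, hf⟩⟩).symm

end Groth.Agent.S15874
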