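import Groth.Statements.S15875
import Groth.Agent.AGFWeil.QC

set_option autoImplicit false
universe u
open CategoryTheory MonoidalCategory CartesianMonoidalCategory MonObj GrpObj AlgebraicGeometry
open AGF

namespace Groth.Agent.S15875

/-- Let k'/k be a finite purely inseparable field extension, G a k-group locally of finite type, q :
G_{k'} → Ḡ a faithfully flat homomorphism onto a k'-group Ḡ locally of finite type with
quasi-compact kernel N, and (R, q_R) a Weil restriction of Ḡ to k carrying a group structure for
which q_R is a homomorphism. Then the comparison morphism i : G → R corresponding to q is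
quasi-compact. (The published statement allows any finite extension k'/k and adds that the kernel of
i is quasi-compact as well; the published proof goes through the purely inseparable case of the
kernel of the counit of Weil restriction, so k'/k is taken purely inseparable here.) -/
theorem result (k k' : Type u) [Field k] [Field k'] [Algebra k k']
    [Module.Finite k k'] [IsPurelyInseparable k k']
    (G : Over (Spec (CommRingCat.of k))) [GrpObj G] [LocallyOfFiniteType G.hom]
    (Gbar : Over (Spec (CommRingCat.of k'))) [GrpObj Gbar] [LocallyOfFiniteType Gbar.hom]
    (q : Red.bc (Spec.map (CommRingCat.ofHom (algebraMap k k'))) G ⟶ Gbar) [IsMonHom q] [Surjective q.left] [Flat q.left]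
    (N : Over (Spec (CommRingCat.of k'))) (iN : N ⟶ Red.bc (Spec.map (CommRingCat.ofHom (algebraMap k k'))) G) (hN : AlgGrp.IsKernel iN q) [CompactSpace N.left]
    (R : Over (Spec (CommRingCat.of k))) [GrpObj R] (qR : Red.bc (Spec.map (CommRingCat.ofHom (algebraMap k k'))) R ⟶ Gbar) [IsMonHom qR]
    (hR : WeilRes.IsWeilRes (Spec.map (CommRingCat.ofHom (algebraMap k k'))) Gbar R qR) :
    QuasiCompact (hR.lift G q).left := by
  have : LocallyOfFiniteType (Red.bc (Spec.map (CommRingCat.ofHom (algebraMap k k'))) G).hom :=
    inferInstanceAs (LocallyOfFiniteType (Limits.pullback.snd G.hom (Spec.map (CommRingCat.ofHom (algebraMap k k')))))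
  have hq : QuasiCompact q.left := Groth.Agent.AGFWeil.quasiCompact_of_kernel iN q hN
  let s := Spec.map (CommRingCat.ofHom (algebraMap k k'))
  let ib := (Over.pullback s).map (hR.lift G q)
  have hib : ib ≫ qR = q := hR.restr_lift G q
  have : IsSeparated R.hom := Groth.Agent.GrpdLib.GrpOver.isSeparated_hom R
  have : IsSeparated (Red.bc s R).hom :=
    inferInstanceAs (IsSeparated (Limits.pullback.snd R.hom s))
  have : IsSeparated qR.left := by
    have : IsSeparated (qR.left ≫ Gbar.hom) := by rw [Over.w]; infer_instance
    exact IsSeparated.of_comp qR.left Gbar.hom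
  have hibqc : QuasiCompact ib.left := by
    have : QuasiCompact (ib.left ≫ qR.left) := by rw [← Over.comp_left, hib]; exact hq
    exact QuasiCompact.of_comp ib.left qR.left
  have hsurj : Surjective s := inferInstance
  have hpb : IsPullback ib.left (Limits.pullback.fst G.hom s) (Limits.pullback.fst R.hom s)
      (hR.lift G q).left := by
    refine (IsPullback.of_right ?_ ?_ (IsPullback.of_hasPullback R.hom s).flip).flip.flip
    · rw [show ib.left ≫ Limits.pullback.snd R.hom s = Limits.pullback.snd G.hom s from Over.w ib,
        Over.w (hR.lift G q)]
      exact (IsPullback.of_hasPullback G.hom s).flip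
    · exact Limits.pullback.lift_fst _ _ _
  have : Surjective (Limits.pullback.fst R.hom s) := inferInstance
  exact Groth.Agent.AGFWeil.quasiCompact_of_isPullback hpb.flip

end Groth.Agent.S15875
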