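import Groth.Statements.S15881
import Groth.Agent.G0Patch.BLDesc
import Groth.Agent.GITLib.TorsorSchMore

set_option autoImplicit false
universe u
open CategoryTheory MonoidalCategory CartesianMonoidalCategory MonObj GrpObj AlgebraicGeometry
open NonAbH1

namespace Groth.Agent.S15881

/-- With φ : A → A' and t as in the glueing set-up (A/t^m → A'/t^m bijective for all m, φ bijective on
t-power torsion), G a flat A-group scheme with quasi-affine underlying scheme, and P, P' fppf
G-torsors over A: an equivariant isomorphism of the base changes to A[1/t] and one of the base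
changes to A', which agree over A'[1/t] under the canonical identifications of iterated base
changes, are the base changes of a unique equivariant isomorphism P ≅ P' over A. (The hypothesis h
is the evident commutativity of the square of base rings.) -/
theorem result (A A' : Type u) [CommRing A] [CommRing A']
    (φ : A →+* A') (t : A)
    (hq : ∀ m : ℕ, Function.Bijective (Ideal.quotientMap (Ideal.map φ (Ideal.span {t} ^ m)) φ Ideal.le_comap_map))
    (htor : ∀ a' : A', (∃ m : ℕ, φ t ^ m * a' = 0) → ∃! a : A, (∃ m : ℕ, t ^ m * a = 0) ∧ φ a = a')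
    (h : Spec.map (CommRingCat.ofHom (Localization.awayMap φ t)) ≫
        Spec.map (CommRingCat.ofHom (algebraMap A (Localization.Away t))) =
      Spec.map (CommRingCat.ofHom (algebraMap A' (Localization.Away (φ t)))) ≫ Spec.map (CommRingCat.ofHom φ))
    (G : Over (Spec (CommRingCat.of A))) [GrpObj G] [Flat G.hom] [G.left.IsQuasiAffine]
    (P P' : NonAbH1.TorsorSch G Scheme.fppfPrecoverage)
    (αU : NonAbH1.EquivIso (P.act.bc (Spec.map (CommRingCat.ofHom (algebraMap A (Localization.Away t))))) (P'.act.bc (Spec.map (CommRingCat.ofHom (algebraMap A (Localization.Away t))))))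
    (α' : NonAbH1.EquivIso (P.act.bc (Spec.map (CommRingCat.ofHom φ))) (P'.act.bc (Spec.map (CommRingCat.ofHom φ))))
    (hagree : (NonAbH1.EquivIso.bc (Spec.map (CommRingCat.ofHom (Localization.awayMap φ t))) αU).iso.hom ≫ (ActBC.bcCompIso (Spec.map (CommRingCat.ofHom (Localization.awayMap φ t))) (Spec.map (CommRingCat.ofHom (algebraMap A (Localization.Away t)))) P'.X h).hom =
      (ActBC.bcCompIso (Spec.map (CommRingCat.ofHom (Localization.awayMap φ t))) (Spec.map (CommRingCat.ofHom (algebraMap A (Localization.Away t)))) P.X h).hom ≫ (ActBC.bcCompIso (Spec.map (CommRingCat.ofHom (algebraMap A' (Localization.Away (φ t))))) (Spec.map (CommRingCat.ofHom φ)) P.X rfl).inv ≫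
        (NonAbH1.EquivIso.bc (Spec.map (CommRingCat.ofHom (algebraMap A' (Localization.Away (φ t))))) α').iso.hom ≫ (ActBC.bcCompIso (Spec.map (CommRingCat.ofHom (algebraMap A' (Localization.Away (φ t))))) (Spec.map (CommRingCat.ofHom φ)) P'.X rfl).hom) :
    ∃! α : NonAbH1.EquivIso P.act P'.act,
      (NonAbH1.EquivIso.bc (Spec.map (CommRingCat.ofHom (algebraMap A (Localization.Away t)))) α).iso = αU.iso ∧ (NonAbH1.EquivIso.bc (Spec.map (CommRingCat.ofHom φ)) α).iso = α'.iso := by
  let D : Groth.Agent.G0Patch.BLData φ t := ⟨hq, htor⟩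
  let jP := Spec.map (CommRingCat.ofHom φ)
  let jQ := Spec.map (CommRingCat.ofHom (algebraMap A (Localization.Away t)))
  have hfl : ∀ (Q : NonAbH1.TorsorSch G Scheme.fppfPrecoverage), Flat Q.X.hom := fun Q =>
    Groth.Agent.GITLib.property_of_torsor (P := @Flat)
      (Groth.Agent.GITLib.isTorsorFor_mono Scheme.fppfPrecoverage_le_fpqcPrecoverage Q.isTorsor) ‹Flat G.hom›
  have := hfl P
  -- the morphism
  obtain ⟨g, hgP, hgQ⟩ := D.exists_desc P.X.hom (Y := P'.X.left) (α'.iso.hom.left ≫ Limits.pullback.fst _ _)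
    (αU.iso.hom.left ≫ Limits.pullback.fst _ _) (fun {Z} z₁ z₂ w e₁ e₂ e₃ => by
      have hw : (z₂ ≫ Limits.pullback.snd _ _) = w ≫ Spec.map (CommRingCat.ofHom (Localization.awayMap φ t)) := e₃
      let ζ₂ := Limits.pullback.lift z₂ w hw
      let ζ₁ := Limits.pullback.lift z₁ w e₂
      have hζ : ζ₂ ≫ ((ActBC.bcCompIso (Spec.map (CommRingCat.ofHom (Localization.awayMap φ t)))
          (Spec.map (CommRingCat.ofHom (algebraMap A (Localization.Away t)))) P.X h).hom ≫
          (ActBC.bcCompIso (Spec.map (CommRingCat.ofHom (algebraMap A' (Localization.Away (φ t)))))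
            (Spec.map (CommRingCat.ofHom φ)) P.X rfl).inv).left = ζ₁ := by
        rw [← cancel_mono (ActBC.bcCompIso (Spec.map (CommRingCat.ofHom (algebraMap A' (Localization.Away (φ t)))))
          (Spec.map (CommRingCat.ofHom φ)) P.X rfl).hom.left]
        rw [Category.assoc, ← Over.comp_left, Category.assoc, Iso.inv_hom_id, Category.comp_id]
        apply Limits.pullback.hom_ext
        · simp only [ζ₁, ζ₂, Category.assoc, ActBC.bcCompIso_hom_left_fst]
          erw [Limits.pullback.lift_fst_assoc, Limits.pullback.lift_fst_assoc]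
          exact e₁.symm
        · simp only [ζ₁, ζ₂, Category.assoc, ActBC.bcCompIso_hom_left_snd]
          erw [Limits.pullback.lift_snd, Limits.pullback.lift_snd]
      have key := congrArg (fun m => ζ₂ ≫ m.left ≫ Limits.pullback.fst _ _) hagree
      simp only [Over.comp_left, Category.assoc, ActBC.bcCompIso_hom_left_fst] at key
      rw [Over.comp_left, ← Category.assoc] at hζ
      rw [reassoc_of% hζ] at key
      simp only [NonAbH1.EquivIso.bc, Functor.mapIso_hom, ActBC.pullback_map_left_fst_assoc, ζ₁, ζ₂,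
        Limits.pullback.lift_fst_assoc] at key
      erw [Limits.pullback.lift_fst_assoc, Limits.pullback.lift_fst_assoc] at key
      exact key.symm)
  have hbP : ∀ (γ : P.X ⟶ P'.X) (h0 : γ.left = g), (Over.pullback jP).map γ = α'.iso.hom := fun γ h0 => by
    apply Over.OverMorphism.ext
    refine Limits.pullback.hom_ext ?_ ((Over.w _).trans (Over.w _).symm)
    rw [ActBC.pullback_map_left_fst, h0]
    exact hgP
  have hbQ : ∀ (γ : P.X ⟶ P'.X) (h0 : γ.left = g), (Over.pullback jQ).map γ = αU.iso.hom := fun γ h0 => by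
    apply Over.OverMorphism.ext
    refine Limits.pullback.hom_ext ?_ ((Over.w _).trans (Over.w _).symm)
    rw [ActBC.pullback_map_left_fst, h0]
    exact hgQ
  have hgw : g ≫ P'.X.hom = P.X.hom := by
    refine D.hom_ext P.X.hom _ _ ?_ ?_
    · rw [← Category.assoc, hgP, Category.assoc, Limits.pullback.condition, Limits.pullback.condition]
      exact congrArg (· ≫ jP) (Over.w α'.iso.hom) |>.symm.symm |> (Category.assoc _ _ _).symm.trans
    · rw [← Category.assoc, hgQ, Category.assoc, Limits.pullback.condition, Limits.pullback.condition]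
      exact congrArg (· ≫ jQ) (Over.w αU.iso.hom) |>.symm.symm |> (Category.assoc _ _ _).symm.trans
  let γ : P.X ⟶ P'.X := Over.homMk g hgw
  have hequiv : P.act.act ≫ γ = (G ◁ γ) ≫ P'.act.act := by
    have : Flat (G ⊗ P.X).hom := inferInstanceAs (Flat (Limits.pullback.fst G.hom P.X.hom ≫ G.hom))
    have key : ∀ {S' : Scheme.{u}} (j : S' ⟶ Spec (CommRingCat.of A))
        (β : NonAbH1.EquivIso (P.act.bc j) (P'.act.bc j)), (Over.pullback j).map γ = β.iso.hom →
        Limits.pullback.fst (G ⊗ P.X).hom j ≫ (P.act.act ≫ γ).left =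
          Limits.pullback.fst (G ⊗ P.X).hom j ≫ ((G ◁ γ) ≫ P'.act.act).left := by
      intro S' j β hβ
      have e := β.comm
      rw [← hβ, AlgGrp.Action.bc_act, AlgGrp.Action.bc_act, Category.assoc, ← Functor.map_comp,
        Functor.LaxMonoidal.μ_natural_right_assoc, ← Functor.map_comp, cancel_epi] at e
      have e' := congrArg (fun m => m.left ≫ Limits.pullback.fst _ _) e
      simp only [ActBC.pullback_map_left_fst] at e'
      exact e'
    apply Over.OverMorphism.ext
    exact D.hom_ext (G ⊗ P.X).hom _ _ (key jP α' (hbP γ rfl)) (key jQ αU (hbQ γ rfl))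
  have hiso : IsIso γ := Groth.Agent.GITLib.isIso_of_equivariant
    (Groth.Agent.GITLib.isTorsorFor_mono Scheme.fppfPrecoverage_le_fpqcPrecoverage P.isTorsor)
    (Groth.Agent.GITLib.isTorsorFor_mono Scheme.fppfPrecoverage_le_fpqcPrecoverage P'.isTorsor).1 γ hequiv
  refine ⟨⟨asIso γ, hequiv⟩, ⟨Iso.ext (hbQ γ rfl), Iso.ext (hbP γ rfl)⟩, ?_⟩
  rintro ⟨β, hβc⟩ ⟨hQ, hP⟩
  have : β.hom = γ := by
    apply Over.OverMorphism.ext
    refine D.hom_ext P.X.hom _ _ ?_ ?_
    · have e := congrArg (fun i => i.hom.left ≫ Limits.pullback.fst _ _) hP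
      simp only [NonAbH1.EquivIso.bc, Functor.mapIso_hom, ActBC.pullback_map_left_fst] at e
      exact e.trans hgP.symm
    · have e := congrArg (fun i => i.hom.left ≫ Limits.pullback.fst _ _) hQ
      simp only [NonAbH1.EquivIso.bc, Functor.mapIso_hom, ActBC.pullback_map_left_fst] at e
      exact e.trans hgQ.symm
  obtain rfl : β = asIso γ := Iso.ext this
  rfl

end Groth.Agent.S15881
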