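import Groth.Statements.S15888
import Groth.Agent.BMLib.Misc

set_option autoImplicit false
universe u
open CategoryTheory AlgebraicGeometry Opposite
open BMCoh

namespace Groth.Agent.S15888

/-- Let T be a twisted Borel–Moore cohomology theory with coefficients in A on a constructible class V
of Noetherian schemes, X an object of V whose underlying scheme is integral, and f : U → X a
morphism of V (an open immersion with dim U = dim X) whose image is a big open subset: every point
of X outside the image has codimension at least 2 in X, that is, its closure has dimension less than
dim X − 1. Then for every coefficient module M and every integer n the restriction map H^2(X, M(n))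
→ H^2(U, M(n)) along f is bijective. (The published remark is made for the rank-one Tate-twisted
coefficients of an ℓ-adic theory; the exactness-and-vanishing argument it indicates involves neither
the coefficient module nor the twist, and the statement is made here for all of them.) -/
theorem result (V : ObjectProperty Scheme.{u}) [BMCoh.IsConstructible V] (R : Type u) [CommRing R] (A : BMCoh.Coefs R) (T : BMCoh.TheoryOn V R A) {U X : BMCoh.Obj V} [IsIntegral X.scheme] (f : U ⟶ X) (hbig : ∀ x : X.scheme, x ∉ Set.range f.hom → 2 ≤ WeilCoh.codim X.scheme x) (M : A.Cat) (n : ℤ) : Function.Bijective (T.pull f M 2 n).hom := by
  refine Groth.Agent.BMLib.pull_bijective_of_big (T := T.toPreTheory) f hbig fun Z => ?_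
  refine Groth.Agent.BMLib.toFj_bijective fun m hm x k hk a => ?_
  exact @Subsingleton.elim _ (ModuleCat.subsingleton_of_isZero
    (T.pt_vanish Z x.1 M k _ (by omega))) a 0

end Groth.Agent.S15888
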