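import Groth.Statements.S15890
import Mathlib
import Groth.Agent.FrobW.RelFrob

set_option autoImplicit false
universe u v
open Versch

namespace Groth.Agent.S15890

open TensorProduct WithConv Module

theorem bijective_lincomb {p : ℕ} [Fact p.Prime] {k : Type u} [Field k] [CharP k p] {B : Type*}
    [CommRing B] [Algebra k B] {ι : Type*} [Fintype ι] [DecidableEq ι] (b : Basis ι k B) :
    Function.Bijective fun c : ι → k =>
      (∑ i, b i ⊗ₜ[k] FrobAlg.toTwist p k (c i) : FrobAlg.BaseChange p k B) := by
  let e : (ι → k) ≃ FrobAlg.BaseChange p k B :=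
    (Equiv.piCongrRight fun _ : ι => (FrobAlg.toTwist p k).toEquiv).trans
      ((Finsupp.equivFunOnFinite.symm).trans (TensorProduct.equivFinsuppOfBasisLeft b).symm.toEquiv)
  convert e.bijective using 1
  funext c
  change _ = (TensorProduct.equivFinsuppOfBasisLeft b).symm _
  rw [TensorProduct.equivFinsuppOfBasisLeft_symm_apply, Finsupp.sum_fintype _ _ (by simp)]
  exact Finset.sum_congr rfl fun i _ => rfl

theorem etale_iff_bijective {p : ℕ} [Fact p.Prime] (k : Type u) [Field k] [CharP k p] (B : Type*)
    [CommRing B] [Algebra k B] [CharP B p] [FiniteDimensional k B] :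
    Algebra.Etale k B ↔ Function.Bijective (FrobAlg.relFrob p k B) := by
  haveI : Small.{u} B := small_of_injective (Module.finBasis k B).equivFun.injective
  let e : B ≃ₐ[k] Shrink.{u} B := (Shrink.algEquiv k B).symm
  haveI : CharP (Shrink.{u} B) p := charP_of_injective_ringHom (f := e.toRingHom) e.injective p
  haveI : Module.Finite k (Shrink.{u} B) := Module.Finite.equiv e.toLinearEquiv
  haveI : Algebra.FinitePresentation k (Shrink.{u} B) :=
    Algebra.FinitePresentation.of_finiteType.1 inferInstance
  let g := Algebra.TensorProduct.congr e (AlgEquiv.refl : FrobAlg.Twist p k ≃ₐ[k] FrobAlg.Twist p k)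
  have hnat : (e : B → Shrink.{u} B) ∘ FrobAlg.relFrob p k B =
      FrobAlg.relFrob p k (Shrink.{u} B) ∘ (g : FrobAlg.BaseChange p k B → _) := by
    have : e.toRingHom.comp (FrobAlg.relFrob p k B) =
        (FrobAlg.relFrob p k (Shrink.{u} B)).comp g.toRingHom := by
      refine RingHom.ext fun z => ?_
      induction z using TensorProduct.induction_on with
      | zero => simp
      | add x y hx hy => simp only [map_add, hx, hy]
      | tmul x s =>
        simp [g, FrobAlg.relFrob, FrobAlg.frobHom, FrobAlg.inclHom, frobenius_def, map_mul, map_pow]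
    exact congrArg DFunLike.coe this
  have h1 : Function.Bijective (FrobAlg.relFrob p k B) ↔
      Function.Bijective (FrobAlg.relFrob p k (Shrink.{u} B)) := by
    rw [← Function.Bijective.of_comp_iff' e.bijective, hnat,
      Function.Bijective.of_comp_iff _ g.bijective]
  rw [h1]
  constructor
  · intro _
    haveI := Algebra.Etale.of_equiv e
    exact FrobW.RelFrob.bijective_of_etale p k _
  · intro h
    haveI : Algebra.Etale k (Shrink.{u} B) :=
      ⟨FrobW.RelFrob.formallyEtale_of_bijective p k _ h, inferInstance⟩
    exact Algebra.Etale.of_equiv e.symm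

theorem mulVec_bijective_iff_vecMul {k : Type u} [Field k] {ι : Type v} [Fintype ι] [DecidableEq ι]
    (M : Matrix ι ι k) :
    Function.Bijective M.mulVec ↔ Function.Bijective (fun c => Matrix.vecMul c M) := by
  simp only [Function.Bijective, Matrix.mulVec_injective_iff_isUnit, Matrix.mulVec_surjective_iff_isUnit,
    Matrix.vecMul_injective_iff_isUnit, Matrix.vecMul_surjective_iff_isUnit]

/-- Let p be a prime, k a field of characteristic p and A a finite-dimensional commutative and
cocommutative Hopf algebra over k (a finite commutative k-group scheme G = Spec A), and let v : A →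
A ⊗_k k^(Frob) be the comorphism of the Verschiebung V : G^(p) → G (the ring map whose transpose
under the canonical pairing is the relative Frobenius of the dual Hopf algebra). Then G is
multiplicative, i.e. the dual Hopf algebra Hom_k(A, k) of the Cartier dual G^D is étale over k, if
and only if v is bijective, i.e. V is an isomorphism. -/
theorem result (p : ℕ) [Fact p.Prime] (k : Type u) [Field k] [CharP k p]
    (A : Type v) [CommRing A] [HopfAlgebra k A] [Coalgebra.IsCocomm k A] [FiniteDimensional k A]
    (v : A →+* FrobAlg.BaseChange p k A) (hv : Versch.IsVerschiebung p k A v) :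
    Algebra.Etale k (CartDual.D k A) ↔ Function.Bijective v := by
  classical
  let b : Basis (Module.Free.ChooseBasisIndex k A) k A := Module.Free.chooseBasis k A
  let φ : Basis (Module.Free.ChooseBasisIndex k A) k (CartDual.D k A) :=
    b.dualBasis.map (CartDual.toDual k A).symm
  let M : Matrix (Module.Free.ChooseBasisIndex k A) (Module.Free.ChooseBasisIndex k A) k :=
    fun i j => (φ i ^ p) (b j)
  have hb : ∀ a : A, ∑ i, φ i a • b i = a := fun a => by
    conv_rhs => rw [← b.sum_repr a]
    refine Finset.sum_congr rfl fun i _ => ?_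
    simp [φ, CartDual.coe_apply]
  -- the Frobenius of the dual in coordinates
  have hF : (fun y : CartDual.D k A => fun j => y (b j)) ∘ FrobAlg.relFrob p k (CartDual.D k A) ∘
      (fun c => ∑ i, φ i ⊗ₜ[k] FrobAlg.toTwist p k (c i)) = fun c => Matrix.vecMul c M := by
    funext c j
    simp only [Function.comp_apply, map_sum]
    rw [CartDual.coe_apply, WithConv.ofConv_sum, LinearMap.sum_apply]
    refine Finset.sum_congr rfl fun i _ => ?_
    rw [← CartDual.coe_apply, Versch.relFrob_dual_tmul_apply, RingEquiv.symm_apply_apply]
  have hco : Function.Bijective (fun y : CartDual.D k A => fun j => y (b j)) := by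
    refine ⟨fun x y h => WithConv.ext (b.ext fun j => congrFun h j),
      fun c => ⟨toConv (b.constr k c), funext fun j => ?_⟩⟩
    simp [CartDual.coe_apply]
  have hFiff : Function.Bijective (FrobAlg.relFrob p k (CartDual.D k A)) ↔
      Function.Bijective (fun c => Matrix.vecMul c M) := by
    rw [← hF, Function.Bijective.of_comp_iff' hco, Function.Bijective.of_comp_iff _ (bijective_lincomb φ)]
  -- the Verschiebung in coordinates
  have hV : (fun c => ∑ i, b i ⊗ₜ[k] FrobAlg.toTwist p k (c i)) ∘ M.mulVec = v ∘ b.equivFun.symm := by
    funext c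
    simp only [Function.comp_apply, Basis.equivFun_symm_apply]
    rw [Versch.isVerschiebung_iff] at hv
    apply Versch.evTw_injective
    intro x
    rw [hv]
    have hx : ∀ i, Versch.evTw p k A x (b i ⊗ₜ[k] FrobAlg.toTwist p k (M.mulVec c i)) =
        FrobAlg.toTwist p k (x (b i) ^ p * ∑ j, M i j * c j) := fun i => by
      rw [Versch.evTw_tmul', map_mul]; rfl
    rw [map_sum, Finset.sum_congr rfl fun i _ => hx i, ← map_sum]
    congr 1
    -- x^p = ∑ x(bᵢ)^p φᵢ^p
    haveI : ExpChar (CartDual.D k A) p := ExpChar.prime Fact.out
    have hxp : x ^ p = ∑ i, (x (b i) ^ p) • φ i ^ p := by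
      have : x = ∑ i, x (b i) • φ i := WithConv.ext (b.ext fun j => by
        simp [φ, WithConv.ofConv_sum, Finsupp.single_apply, CartDual.coe_apply])
      conv_lhs => rw [this, sum_pow_char p]
      exact Finset.sum_congr rfl fun i _ => by rw [smul_pow]
    rw [hxp, CartDual.coe_apply, WithConv.ofConv_sum, LinearMap.sum_apply]
    refine Finset.sum_congr rfl fun i _ => ?_
    simp only [WithConv.ofConv_smul, LinearMap.smul_apply, map_sum, map_smul, smul_eq_mul]
    rw [Finset.mul_sum]
    exact Finset.sum_congr rfl fun j _ => by simp only [M, CartDual.coe_apply]; ring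
  have hVeq : Function.Bijective v ↔ Function.Bijective M.mulVec := by
    rw [← Function.Bijective.of_comp_iff v b.equivFun.symm.bijective, ← hV,
      Function.Bijective.of_comp_iff' (bijective_lincomb b)]
  rw [hVeq, mulVec_bijective_iff_vecMul, ← hFiff]
  exact etale_iff_bijective k (CartDual.D k A)

end Groth.Agent.S15890
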