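import Groth.Statements.S15891
import Groth.Agent.H85.Versch

set_option autoImplicit false
universe u
open scoped TensorProduct
open Versch

namespace Groth.Agent.S15891

theorem charP_baseChange (p : ℕ) [Fact p.Prime] (R : Type u) [CommRing R] [CharP R p]
    (A : Type u) [CommRing A] [HopfAlgebra R A] : CharP (FrobAlg.BaseChange p R A) p := by
  refine ⟨fun m => ⟨fun h => ?_, fun h => ?_⟩⟩
  · let g : FrobAlg.BaseChange p R A →ₐ[R] FrobAlg.Twist p R :=
      Algebra.TensorProduct.lift ((Algebra.ofId R (FrobAlg.Twist p R)).comp (Bialgebra.counitAlgHom R A))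
        (AlgHom.id R _) (fun _ _ => Commute.all _ _)
    have h' := congrArg g h
    rw [map_natCast, map_zero] at h'
    exact (CharP.cast_eq_zero_iff (FrobAlg.Twist p R) p m).1 h'
  · rw [← map_natCast (algebraMap R (FrobAlg.BaseChange p R A)), (CharP.cast_eq_zero_iff R p m).2 h,
      map_zero]

/-- Let p be a prime, R a commutative ring of characteristic p and A a commutative and cocommutative
Hopf algebra over R which is finitely generated and projective as an R-module, of characteristic p
(a finite locally free commutative group scheme G = Spec A over S = Spec R), and let v : A → A^(p) =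
A ⊗_R R^(Frob) be the comorphism of the Verschiebung V : G^(p) → G (the ring map whose transpose
under the canonical pairing is the relative Frobenius of the dual Hopf algebra). Then F ∘ V = [p] is
multiplication by p on the S-group G^(p): the ring endomorphism v ∘ F* of A^(p), where F* : A^(p) →
A is the relative Frobenius comorphism, transported along the symmetry A ⊗_R R^(Frob) ≅ R^(Frob) ⊗_R
A, is the p-th convolution power of the identity of the Hopf algebra R^(Frob) ⊗_R A over R^(Frob)
(the base change of A along the Frobenius of R). (The published notes work over a Noetherian base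
ring; the row allows any commutative base ring of characteristic p.) -/
theorem result (p : ℕ) [Fact p.Prime] (R : Type u) [CommRing R] [CharP R p]
    (A : Type u) [CommRing A] [HopfAlgebra R A] [Coalgebra.IsCocomm R A] [Module.Finite R A] [Module.Projective R A]
    [CharP A p] (v : A →+* FrobAlg.BaseChange p R A) (hv : Versch.IsVerschiebung p R A v) :
    ((Algebra.TensorProduct.comm R A (FrobAlg.Twist p R)).toRingEquiv.toRingHom.comp
        ((v.comp (FrobAlg.relFrob p R A)).comp
          (Algebra.TensorProduct.comm R A (FrobAlg.Twist p R)).symm.toRingEquiv.toRingHom)) =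
      (SGA3b.powConv (FrobAlg.Twist p R) (FrobAlg.Twist p R ⊗[R] A) p).toRingHom := by
  haveI := charP_baseChange p R A
  haveI : ExpChar (FrobAlg.BaseChange p R A) p := ExpChar.prime Fact.out
  obtain ⟨n, e, φ, hb⟩ := H85.exists_dual_family (R := R) (A := A)
  apply RingHom.ext
  intro z
  induction z using TensorProduct.induction_on with
  | zero => rw [map_zero, map_zero]
  | add x y hx hy => rw [map_add, map_add, hx, hy]
  | tmul s a =>
    change Algebra.TensorProduct.comm R A (FrobAlg.Twist p R)
        (v (FrobAlg.relFrob p R A ((Algebra.TensorProduct.comm R A (FrobAlg.Twist p R)).symm (s ⊗ₜ a)))) =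
      SGA3b.powConv (FrobAlg.Twist p R) (FrobAlg.Twist p R ⊗[R] A) p (s ⊗ₜ a)
    have hs : (s ⊗ₜ[R] a : FrobAlg.Twist p R ⊗[R] A) = s • ((1 : FrobAlg.Twist p R) ⊗ₜ a) := by
      rw [TensorProduct.smul_tmul', smul_eq_mul, mul_one]
    conv_rhs => rw [hs, map_smul, OortTate.BaseChange.powConv_one_tmul, H85.powConv_prime (p := p) hb]
    rw [Algebra.TensorProduct.comm_symm_tmul, H85.relFrob_tmul, map_mul, map_pow,
      H85.verschiebung_algebraMap hv, RingEquiv.apply_symm_apply, H85.verschiebung_eq hv hb,
      sum_pow_char p, map_mul, map_sum, Algebra.TensorProduct.comm_tmul, TensorProduct.tmul_sum,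
      Finset.smul_sum, Finset.sum_mul]
    refine Finset.sum_congr rfl fun i _ => ?_
    rw [Algebra.TensorProduct.tmul_pow, Algebra.TensorProduct.comm_tmul,
      Algebra.TensorProduct.tmul_mul_tmul, mul_one, TensorProduct.tmul_smul, ← map_pow,
      ← FrobAlg.algebraMap_twist, TensorProduct.smul_tmul', TensorProduct.smul_tmul',
      smul_eq_mul, Algebra.smul_def, mul_one, mul_comm]

end Groth.Agent.S15891
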