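import Groth.Statements.S15892
import Groth.Agent.CartKit.Exact
import Mathlib.RingTheory.Flat.EquationalCriterion

set_option autoImplicit false
universe u
open scoped TensorProduct
open CartDual

namespace Groth.Agent.S15892

/-- Let R be a Noetherian ring and A', A, A'' commutative and cocommutative Hopf algebras over R, each
finitely generated and projective as an R-module (finite flat commutative R-groups G' = Spec A', G =
Spec A, G'' = Spec A''). Let f : A'' → A be a bialgebra homomorphism which is faithfully flat as a
ring map (the comorphism of a faithfully flat homomorphism π : G → G'') and g : A → A' a surjective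
bialgebra homomorphism whose kernel is the ideal of A generated by the image under f of the
augmentation ideal of A'' (the comorphism of a closed immersion ι : G' → G identifying G' with the
kernel of π), so that 1 → G' → G → G'' → 1 is a short exact sequence of finite flat R-groups. Then
the Cartier dual sequence 1 → G''^D → G^D → G'^D → 1 is again short exact: the transpose Hom_R(A',
R) → Hom_R(A, R) of g is a faithfully flat ring map between the dual Hopf algebras, and the
transpose Hom_R(A, R) → Hom_R(A'', R) of f is surjective with kernel the ideal generated by the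
image, under the transpose of g, of the augmentation ideal of Hom_R(A', R). -/
theorem result (R : Type u) [CommRing R] [IsNoetherianRing R]
    (A' A A'' : Type u) [CommRing A'] [HopfAlgebra R A'] [Coalgebra.IsCocomm R A'] [Module.Finite R A']
    [Module.Projective R A'] [CommRing A] [HopfAlgebra R A] [Coalgebra.IsCocomm R A] [Module.Finite R A]
    [Module.Projective R A] [CommRing A''] [HopfAlgebra R A''] [Coalgebra.IsCocomm R A''] [Module.Finite R A'']
    [Module.Projective R A''] (f : A'' →ₐc[R] A) (hf : (f : A'' →ₐ[R] A).toRingHom.FaithfullyFlat)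
    (g : A →ₐc[R] A') (hg : Function.Surjective g)
    (hker : RingHom.ker (g : A →ₐ[R] A') = Ideal.map (f : A'' →ₐ[R] A) (RingHom.ker (Bialgebra.counitAlgHom R A''))) :
    (CartDual.transpose R g : CartDual.D R A' →ₐ[R] CartDual.D R A).toRingHom.FaithfullyFlat ∧
      Function.Surjective (CartDual.transpose R f) ∧
      RingHom.ker (CartDual.transpose R f : CartDual.D R A →ₐ[R] CartDual.D R A'') =
        Ideal.map (CartDual.transpose R g : CartDual.D R A' →ₐ[R] CartDual.D R A)
          (RingHom.ker (Bialgebra.counitAlgHom R (CartDual.D R A'))) := by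
  letI := (f : A'' →ₐ[R] A).toRingHom.toAlgebra
  haveI : IsScalarTower R A'' A := IsScalarTower.of_algebraMap_eq fun x => ((f : A'' →ₐ[R] A).commutes x).symm
  haveI : IsNoetherianRing A'' := IsNoetherianRing.of_finite R A''
  haveI : Module.Finite A'' A := Module.Finite.of_restrictScalars_finite R A'' A
  haveI hffA : Module.FaithfullyFlat A'' A := RingHom.faithfullyFlat_algebraMap_iff.1 hf
  haveI : Module.FinitePresentation A'' A := Module.finitePresentation_of_finite A'' A
  haveI : Module.Projective A'' A := Module.Flat.projective_of_finitePresentation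
  obtain ⟨r, hr1⟩ := CartKit.exists_retraction_of_faithfullyFlat A'' A
  have hrf : ∀ c : A'', r (f c) = c := fun c => by
    rw [show f c = c • (1 : A) by rw [Algebra.smul_def, mul_one]; rfl, map_smul, hr1, smul_eq_mul, mul_one]
  obtain ⟨s, hs⟩ := Module.projective_lifting_property (g : A →ₗ[R] A') LinearMap.id hg
  -- transpose of g is faithfully flat
  let r₁ : CartDual.D R A →ₗ[R] CartDual.D R A' := CartDual.transposeLin R s
  have hff : (CartDual.transpose R g : CartDual.D R A' →ₐ[R] CartDual.D R A).toRingHom.FaithfullyFlat := by
    refine CartKit.faithfullyFlat_of_retraction (CartDual.transpose R g) r₁ fun x => ?_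
    refine WithConv.ext (LinearMap.ext fun b => ?_)
    show x (g (s b)) = x b
    exact congrArg x.ofConv (DFunLike.congr_fun hs b)
  have hsurj : Function.Surjective (CartDual.transpose R f) := by
    intro y
    refine ⟨WithConv.toConv (y.ofConv ∘ₗ (r.restrictScalars R)), WithConv.ext (LinearMap.ext fun b => ?_)⟩
    show y.ofConv (r (f b)) = y.ofConv b
    rw [hrf]
  refine ⟨hff, hsurj, le_antisymm ?_ ?_⟩
  swap
  · rw [Ideal.map_le_iff_le_comap]
    intro y hy
    rw [RingHom.mem_ker, Bialgebra.counitAlgHom_apply, CartDual.coalgebra_counit_apply] at hy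
    rw [Ideal.mem_comap, RingHom.mem_ker]
    refine WithConv.ext (LinearMap.ext fun b => ?_)
    show y (g (f b)) = 0
    have hgf : g (f b) = algebraMap R A' (Coalgebra.counit b) := by
      have hm : f (b - algebraMap R A'' (Coalgebra.counit b)) ∈ RingHom.ker (g : A →ₐ[R] A') := by
        rw [hker]
        exact Ideal.mem_map_of_mem (f : A'' →ₐ[R] A) (by simp [RingHom.mem_ker])
      rw [RingHom.mem_ker] at hm
      change g (f (b - algebraMap R A'' (Coalgebra.counit b))) = 0 at hm
      rwa [map_sub, map_sub, AlgHomClass.commutes, AlgHomClass.commutes, sub_eq_zero] at hm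
    rw [hgf, Algebra.algebraMap_eq_smul_one, CartDual.coe_apply, map_smul, ← CartDual.coe_apply, hy, smul_zero]
  · intro x hx
    rw [RingHom.mem_ker] at hx
    change CartDual.transpose R f x = 0 at hx
    letI := (CartDual.transpose R g : CartDual.D R A' →ₐ[R] CartDual.D R A).toRingHom.toAlgebra
    haveI : IsScalarTower R (CartDual.D R A') (CartDual.D R A) :=
      IsScalarTower.of_algebraMap_eq fun z => ((CartDual.transpose R g : CartDual.D R A' →ₐ[R] CartDual.D R A).commutes z).symm
    haveI : Module.FaithfullyFlat (CartDual.D R A') (CartDual.D R A) := RingHom.faithfullyFlat_algebraMap_iff.1 hff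
    let I' := RingHom.ker (Bialgebra.counitAlgHom R (CartDual.D R A'))
    let J := I'.map (algebraMap (CartDual.D R A') (CartDual.D R A))
    show x ∈ J
    let Q := CartDual.D R A ⧸ J
    -- Q is finite projective over R
    haveI : Module.Flat R Q := CartKit.flat_quotient_map (Bialgebra.counitAlgHom R (CartDual.D R A'))
    haveI : Module.Finite R Q := Module.Finite.of_surjective (Ideal.Quotient.mkₐ R J).toLinearMap Ideal.Quotient.mk_surjective
    haveI : Module.FinitePresentation R Q := Module.finitePresentation_of_finite R Q
    haveI : Module.Projective R Q := Module.Flat.projective_of_finitePresentation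
    rw [← Ideal.Quotient.eq_zero_iff_mem]
    refine (Module.forall_dual_apply_eq_zero_iff R _).1 fun φ => ?_
    let φ' : CartDual.D R A →ₗ[R] R := φ ∘ₗ (Ideal.Quotient.mkₐ R J).toLinearMap
    obtain ⟨a, ha, -⟩ := CartKit.exists_eval_eq φ'
    show φ' x = 0
    rw [ha]
    have hJ : ∀ y : CartDual.D R A', y 1 = 0 → ∀ z : CartDual.D R A, (z * CartDual.transpose R g y) a = 0 := by
      intro y hy z
      rw [← ha]
      show φ (Ideal.Quotient.mk J (z * CartDual.transpose R g y)) = 0
      have hy' : y ∈ I' := by
        rw [RingHom.mem_ker, Bialgebra.counitAlgHom_apply, CartDual.coalgebra_counit_apply, hy]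
      have hmemJ : z * CartDual.transpose R g y ∈ J :=
        J.mul_mem_left z (Ideal.mem_map_of_mem (algebraMap (CartDual.D R A') (CartDual.D R A)) hy')
      rw [Ideal.Quotient.eq_zero_iff_mem.2 hmemJ, map_zero]
    have hco : TensorProduct.map LinearMap.id (g : A →ₗ[R] A') (Coalgebra.comul (R := R) a) = a ⊗ₜ[R] 1 := by
      refine CartKit.ext_of_dual fun z y => ?_
      rw [CartDual.dualTensorEquiv_tmul]
      have key : ∀ t : A ⊗[R] A, CartDual.dualTensorEquiv R A A' (z ⊗ₜ y) (TensorProduct.map LinearMap.id (g : A →ₗ[R] A') t) =
          LinearMap.mul' R R (TensorProduct.map z (y ∘ₗ (g : A →ₗ[R] A')) t) := by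
        intro t
        induction t using TensorProduct.induction_on with
        | zero => simp
        | add t t' ht ht' => simp only [map_add, ht, ht']
        | tmul b c => simp
      rw [key]
      let Y : CartDual.D R A' := WithConv.toConv y
      let Z : CartDual.D R A := WithConv.toConv z
      have h2 : (Z * CartDual.transpose R g Y) a = z a * y 1 := by
        have h0 := hJ (Y - (y 1) • 1) (by simp [Y, CartDual.coe_apply]) Z
        rw [map_sub, map_smul, map_one (CartDual.transpose R g), mul_sub, mul_smul_comm, mul_one] at h0
        rw [CartDual.coe_apply, WithConv.ofConv_sub, LinearMap.sub_apply, WithConv.ofConv_smul, LinearMap.smul_apply,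
          smul_eq_mul, sub_eq_zero] at h0
        rw [CartDual.coe_apply, h0, mul_comm]
      rw [LinearMap.convMul_apply] at h2
      exact h2
    have hmem := CartKit.mem_range_of_coinvariant f g hg hker r ⟨r, hr1, rfl⟩ a hco
    rw [← hmem]
    show CartDual.transpose R f x (r a) = 0
    rw [hx]
    rfl

end Groth.Agent.S15892
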