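import Groth.Statements.S15902
import Groth.Agent.KoszSh77.Sheaf
import Groth.Agent.KoszSh77.FreeBasis
import Groth.Agent.PerfTri.Betti
import Groth.Agent.RegImm38.Spread
import Groth.Agent.S14424
import Groth.Agent.S14425
import Groth.Agent.Depth.CM
import Mathlib.RingTheory.Ideal.KrullsHeightTheorem

set_option autoImplicit false
universe u
open CategoryTheory AlgebraicGeometry Opposite
open KoszSh CategoryTheory AlgebraicGeometry RingTheory.Sequence

namespace Groth.Agent.S15902

open CategoryTheory AlgebraicGeometry RingTheory.Sequence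

theorem isWeaklyRegular_of_height {R : Type u} [CommRing R] [LocCoh.IsCohenMacaulayLocalRing R] [IsNoetherianRing R]
    (xs : List R) (hmem : ∀ x ∈ xs, x ∈ IsLocalRing.maximalIdeal R)
    (h : (xs.length : ℕ∞) ≤ (Ideal.ofList xs).height) : IsWeaklyRegular R xs := by
  haveI := Groth.Agent.Depth.isCohenMacaulayRing_of_isCohenMacaulayLocalRing (R := R)
  have hne : Ideal.ofList xs ≠ ⊤ := fun htop =>
    (IsLocalRing.maximalIdeal.isMaximal R).ne_top (top_le_iff.mp (htop.symm.trans_le (Ideal.span_le.mpr hmem)))
  have hdepth := (Groth.Agent.S14424.result R).mp ‹_› (Ideal.ofList xs) hne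
  have hle : (Ideal.ofList xs).height ≤ (xs.length : ℕ∞) := by
    classical
    obtain ⟨p, hp⟩ := Ideal.nonempty_minimalPrimes hne
    haveI : p.IsPrime := hp.1.1
    refine (Ideal.height_mono hp.1.2).trans ?_
    have h1 := Ideal.height_le_card_of_mem_minimalPrimes_span_finset (s := xs.toFinset) (p := p) (by
      simpa [Ideal.ofList] using hp)
    exact h1.trans (by exact_mod_cast xs.toFinset_card_le)
  exact (Groth.Agent.S14425.result (M := R) xs hmem).mp (hdepth.trans (le_antisymm hle h))

end Groth.Agent.S15902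

namespace Groth.Agent.S15902

/-- Let X be a locally Noetherian scheme all of whose local rings are Cohen–Macaulay, i : Y → X a closed
immersion and c a natural number such that Y is a local complete intersection of codimension c in
the following sense: around every point of Y there is an affine open of X on which c sections
generate the ideal sheaf of Y, and for every point y of Y the ideal of Y in the local ring O_{X,y}
(the kernel of O_{X,y} → O_{Y,y}) has height at least c. Then around every point of Y there is an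
affine open U of X and sections f_1, …, f_c ∈ Γ(X, U) which generate the ideal of Y on U and form a
weakly regular sequence in Γ(X, U); consequently, on the open subscheme U, for every cosection s :
O_U^c → O_U sending the k-th standard basis section to f_k and every Koszul complex K(O_U^c, s) of
s, the homology sheaves of K(O_U^c, s) vanish in every degree q ≥ 1, so that K(O_U^c, s) is a finite
free resolution of the restriction of i_*O_Y to U. (The published statement takes Y a local complete
intersection in a smooth variety X over a field, the ideal being generated near each closed point by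
codim(Y, X) elements, and asserts the existence of such a neighbourhood with a free Koszul
resolution; the hypotheses here are what that gives at every point of Y over a Cohen–Macaulay base,
the existence of the Koszul complex is not asserted, and the resolution property is stated for every
Koszul complex of the local free pair.) -/
theorem result {X Y : Scheme.{u}}
    [IsLocallyNoetherian X] (hCM : ∀ x : X, LocCoh.IsCohenMacaulayLocalRing (X.presheaf.stalk x))
    (i : Y ⟶ X) [IsClosedImmersion i] (c : ℕ)
    (hgen : ∀ y : Y, ∃ U : X.affineOpens, i.base y ∈ U.1 ∧ ∃ g : Fin c → Γ(X, U.1), i.ker.ideal U = Ideal.span (Set.range g))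
    (hht : ∀ y : Y, (c : ℕ∞) ≤ (RingHom.ker (i.stalkMap y).hom).height) :
    ∀ y : Y, ∃ U : X.affineOpens, i.base y ∈ U.1 ∧ ∃ f : Fin c → Γ(X, U.1),
      i.ker.ideal U = Ideal.span (Set.range f) ∧ RingTheory.Sequence.IsWeaklyRegular Γ(X, U.1) (List.ofFn f) ∧
      ∀ (s : FlatMod.freeMod (↑U.1) c ⟶ Coh.structureModule (↑U.1)),
        (∀ k : Fin c, KoszSh.secForm s ⊤ ((Limits.Sigma.ι (fun _ : Fin c => Coh.structureModule (↑U.1)) k).app ⊤
            (OmegaSh.strSect (↑U.1) ⊤ 1)) = U.1.topIso.inv (f k)) →
        ∀ (C : KoszSh.Cx (FlatMod.freeMod (↑U.1) c) s) (q : ℕ), 1 ≤ q → Limits.IsZero (C.K.homology q) := by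
  intro y
  obtain ⟨U₀, hy, g, hg⟩ := hgen y
  haveI := hCM (i.base y)
  haveI : IsClosedImmersion (i ∣_ U₀.1) := inferInstance
  have hker0 : i.ker.ideal U₀ = RingHom.ker (i.app U₀.1).hom := Scheme.Hom.ker_apply i U₀
  let S := X.presheaf.stalk (i.base y)
  letI : Algebra Γ(X, U₀.1) S := (X.presheaf.germ U₀.1 (i.base y) hy).hom.toAlgebra
  haveI : IsLocalization.AtPrime S (U₀.2.primeIdealOf ⟨i.base y, hy⟩).asIdeal :=
    U₀.2.isLocalization_stalk ⟨i.base y, hy⟩
  haveI : IsNoetherianRing Γ(X, U₀.1) := IsLocallyNoetherian.component_noetherian U₀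
  have hspan : RingHom.ker (i.stalkMap y).hom = Ideal.ofList ((List.ofFn g).map (algebraMap Γ(X, U₀.1) S)) := by
    rw [Groth.Agent.RegImm38.ker_stalkMap_eq_map i U₀.2 y hy, ← hker0, hg, ← Ideal.map_ofList]
    congr 1
    rw [Ideal.ofList]
    congr 1
    ext
    simp
  haveI : IsNoetherianRing S := IsLocalization.isNoetherianRing (U₀.2.primeIdealOf ⟨i.base y, hy⟩).asIdeal.primeCompl S inferInstance
  have hreg : IsWeaklyRegular S ((List.ofFn g).map (algebraMap Γ(X, U₀.1) S)) := by
    refine isWeaklyRegular_of_height _ (fun x hx => ?_) ?_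
    · have h1 : x ∈ RingHom.ker (i.stalkMap y).hom := hspan ▸ Ideal.subset_span hx
      exact IsLocalRing.le_maximalIdeal (RingHom.ker_ne_top _) h1
    · rw [← hspan, List.length_map, List.length_ofFn]
      exact hht y
  obtain ⟨f, hfp, hf⟩ := Groth.Agent.RegImm38.exists_away_aux (U₀.2.primeIdealOf ⟨i.base y, hy⟩).asIdeal
    (List.ofFn g) Γ(X, U₀.1)
    ((Groth.Agent.RegImm38.isWeaklyRegular_iff_localizedModule _ S (List.ofFn g)).mp hreg)
  let U : X.affineOpens := X.affineBasicOpen f
  have hyU : i.base y ∈ U.1 := (Groth.Agent.RegImm44.mem_basicOpen_iff U₀.2 ⟨i.base y, hy⟩ f).mpr hfp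
  letI : Algebra Γ(X, U₀.1) Γ(X, U.1) := (X.presheaf.map (homOfLE (X.basicOpen_le f)).op).hom.toAlgebra
  haveI : IsLocalization.Away f Γ(X, U.1) := U₀.2.isLocalization_basicOpen f
  have hregU : IsWeaklyRegular Γ(X, U.1) ((List.ofFn g).map (algebraMap Γ(X, U₀.1) Γ(X, U.1))) := by
    rw [Groth.Agent.RegImm38.isWeaklyRegular_iff_localizedModule (Submonoid.powers f) Γ(X, U.1)]
    exact hf _ (IsLocalization.Away.algebraMap_isUnit f)
  rw [List.map_ofFn] at hregU
  refine ⟨U, hyU, fun k => algebraMap Γ(X, U₀.1) Γ(X, U.1) (g k), ?_, hregU, ?_⟩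
  · rw [← i.ker.map_ideal_basicOpen U₀ f, hg, Ideal.map_span, ← Set.range_comp]
    rfl
  · intro s hs C q hq
    haveI : IsAffine (↑U.1 : Scheme.{u}) := U.2
    haveI : (FlatMod.freeMod (↑U.1) c).IsQuasicoherent := Groth.Agent.PerfTri.Betti.isQuasicoherent_freeMod _ _
    obtain ⟨b, hb⟩ := Groth.Agent.KoszSh77.exists_basis_freeMod (↑U.1 : Scheme.{u}) c
    refine Groth.Agent.KoszSh77.isZero_homology s (fun x => ⟨⟨⊤, isAffineOpen_top _⟩, trivial, b, ?_⟩) C q hq
    letI : Algebra Γ(X, U.1) Γ(U.1, ⊤) := U.1.topIso.inv.hom.toAlgebra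
    haveI : Module.Flat Γ(X, U.1) Γ(U.1, ⊤) := RingHom.Flat.of_bijective
      (f := U.1.topIso.inv.hom) (ConcreteCategory.bijective_of_isIso U.1.topIso.inv)
    have h2 := hregU.of_flat (S := Γ(U.1, ⊤))
    rw [List.map_ofFn] at h2
    have e : (fun k => KoszSh.secForm s ⊤ (b k)) =
        (algebraMap Γ(X, U.1) Γ(U.1, ⊤)) ∘ (⇑(algebraMap Γ(X, U₀.1) Γ(X, U.1)) ∘ g) := by
      funext k
      rw [hb k]
      exact hs k
    rw [e]
    exact h2

end Groth.Agent.S15902
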