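import Groth.Statements.S15907
import Groth.Agent.DPLat.Orbit

set_option autoImplicit false
open Surf

namespace Groth.Agent.S15907

open W4c3severiratdp in
/-- Work in the lattice of vectors (a; b_1, …, b_δ), standing for divisor classes a ℓ − Σ b_i e_i on the
blow-up of the projective plane at δ points written in a standard basis, with intersection form a a'
− Σ b_i b_i' and canonical class K = (−3; −1, …, −1); a conic class is a class Q with Q·Q = 0 and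
K·Q = −2, an exceptional class (the class of a (−1)-curve) is a class E with E·E = −1 and K·E = −1,
and the Weyl group W_δ is the group of additive automorphisms of the lattice preserving the form and
fixing K. For 2 ≤ δ ≤ 8 the intersection product Q_1·Q_2 determines the W_δ-orbit of an ordered pair
(Q_1, Q_2) of conic classes, the only exception being δ = 8 with Q_1·Q_2 = 4: if (Q_1, Q_2) and
(Q_1', Q_2') are ordered pairs of conic classes with Q_1·Q_2 = Q_1'·Q_2', and not both δ = 8 and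
Q_1·Q_2 = 4, then some element of W_δ carries Q_1 to Q_1' and Q_2 to Q_2'. -/
theorem result (δ : ℕ) (h2 : 2 ≤ δ) (h8 : δ ≤ 8)
    (v₁ v₂ w₁ w₂ : DP δ) (hv₁ : IsConic v₁) (hv₂ : IsConic v₂) (hw₁ : IsConic w₁) (hw₂ : IsConic w₂)
    (heq : form v₁ v₂ = form w₁ w₂) (hexc : ¬ (δ = 8 ∧ form v₁ v₂ = 4)) :
    ∃ g : DP δ ≃ₗ[ℤ] DP δ, IsWeyl g ∧ g v₁ = w₁ ∧ g v₂ = w₂ := by
  obtain ⟨m, rfl⟩ : ∃ m, δ = m + 1 := ⟨δ - 1, by omega⟩
  rw [DPLat.isConic_iff] at hv₁ hv₂ hw₁ hw₂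
  obtain ⟨g, hg, hg1, hg2⟩ := DPLat.pair_reduce (by omega) h8 hv₁ hv₂
  obtain ⟨g', hg', hg1', hg2'⟩ := DPLat.pair_reduce (by omega) h8 hw₁ hw₂
  have key : ∀ x ∈ (DPLat.sortedTailCls m 2 0).filter (DPLat.ListRed 1),
      ∀ y ∈ (DPLat.sortedTailCls m 2 0).filter (DPLat.ListRed 1),
      x.getD 0 0 - x.getD 1 0 = y.getD 0 0 - y.getD 1 0 →
        ¬ (m = 7 ∧ x.getD 0 0 - x.getD 1 0 = 4) → x = y := by
    obtain ⟨rfl⟩ | ⟨rfl⟩ | ⟨rfl⟩ | ⟨rfl⟩ | ⟨rfl⟩ | ⟨rfl⟩ | ⟨rfl⟩ :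
      m = 1 ∨ m = 2 ∨ m = 3 ∨ m = 4 ∨ m = 5 ∨ m = 6 ∨ m = 7 := by omega
    all_goals decide +kernel
  have hgetD : ∀ u : DP (m + 1), (List.ofFn u).getD 0 0 - (List.ofFn u).getD 1 0 =
      form (DPLat.conic₀ m) u := fun u => by
    rw [DPLat.form_conic₀]; simp [List.ofFn_succ]
  have h : g v₂ = g' w₂ := by
    refine List.ofFn_injective (key _ hg2 _ hg2' ?_ ?_)
    · rw [hgetD, hgetD, ← hg.1 v₁ v₂] at *
      rw [hg1] at heq
      rw [heq, ← hg1', hg'.1]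
    · rw [hgetD, ← hg1, hg.1]
      rintro ⟨rfl, h4⟩
      exact hexc ⟨rfl, h4⟩
  exact ⟨g.trans g'.symm, DPLat.isWeyl_trans hg (DPLat.isWeyl_symm hg'),
    by simp [hg1, ← hg1'], by simp [h]⟩

end Groth.Agent.S15907
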