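import Groth.Statements.S15908
import Groth.Agent.DPLat.Orbit

set_option autoImplicit false
open Surf

namespace Groth.Agent.S15908

open W4c3severiratdp in
/-- Work in the lattice of vectors (a; b_1, …, b_δ), standing for divisor classes a ℓ − Σ b_i e_i on the
blow-up of the projective plane at δ points written in a standard basis, with intersection form a a'
− Σ b_i b_i' and canonical class K = (−3; −1, …, −1); a conic class is a class Q with Q·Q = 0 and
K·Q = −2, an exceptional class (the class of a (−1)-curve) is a class E with E·E = −1 and K·E = −1,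
and the Weyl group W_δ is the group of additive automorphisms of the lattice preserving the form and
fixing K. For δ = 8 the ordered pairs (Q_1, Q_2) of conic classes with Q_1·Q_2 = 4 form exactly two
W_8-orbits: there are two such pairs that no element of W_8 carries one to the other, and every such
pair is carried by an element of W_8 to one of these two. -/
theorem result :
    ∃ p₁ p₂ q₁ q₂ : DP 8, IsConic p₁ ∧ IsConic p₂ ∧ IsConic q₁ ∧ IsConic q₂ ∧ form p₁ p₂ = 4 ∧ form q₁ q₂ = 4 ∧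
      (¬ ∃ g : DP 8 ≃ₗ[ℤ] DP 8, IsWeyl g ∧ g p₁ = q₁ ∧ g p₂ = q₂) ∧
      ∀ v₁ v₂ : DP 8, IsConic v₁ → IsConic v₂ → form v₁ v₂ = 4 →
        ∃ g : DP 8 ≃ₗ[ℤ] DP 8, IsWeyl g ∧ ((g v₁ = p₁ ∧ g v₂ = p₂) ∨ (g v₁ = q₁ ∧ g v₂ = q₂)) := by
  refine ⟨DPLat.conic₀ 7, ![4, 0, 2, 2, 2, 1, 1, 1, 1], DPLat.conic₀ 7,
    ![5, 1, 2, 2, 2, 2, 2, 2, 0], ?_, ?_, ?_, ?_, ?_, ?_, ?_, ?_⟩
  · exact ⟨by decide, by decide⟩
  · exact ⟨by decide, by decide⟩
  · exact ⟨by decide, by decide⟩
  · exact ⟨by decide, by decide⟩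
  · decide
  · decide
  · rintro ⟨g, -, h1, h2⟩
    obtain ⟨w, hw⟩ : ∃ w : DP 8, g (![4, 0, 2, 2, 2, 1, 1, 1, 1] - DPLat.conic₀ 7) = (2 : ℤ) • w :=
      ⟨![2, 0, 1, 1, 1, 1, 1, 1, 0], by rw [map_sub, h1, h2]; decide⟩
    have h0 := congrFun (congrArg g.symm hw) 0
    rw [g.symm_apply_apply, map_smul] at h0
    simp [DPLat.conic₀] at h0
    omega
  · intro v₁ v₂ hv₁ hv₂ h4
    rw [DPLat.isConic_iff] at hv₁ hv₂
    obtain ⟨g, hg, hg1, hg2⟩ := DPLat.pair_reduce (m := 7) (by norm_num) le_rfl hv₁ hv₂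
    refine ⟨g, hg, ?_⟩
    have key : ∀ x ∈ (DPLat.sortedTailCls 7 2 0).filter (DPLat.ListRed 1),
        x.getD 0 0 - x.getD 1 0 = 4 →
          x = [4, 0, 2, 2, 2, 1, 1, 1, 1] ∨ x = [5, 1, 2, 2, 2, 2, 2, 2, 0] := by decide +kernel
    rw [← hg.1, hg1, DPLat.form_conic₀] at h4
    rcases key _ hg2 (by simpa [List.ofFn_succ] using h4) with h | h
    · exact Or.inl ⟨hg1, List.ofFn_injective (h.trans (by decide))⟩
    · exact Or.inr ⟨hg1, List.ofFn_injective (h.trans (by decide))⟩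

end Groth.Agent.S15908
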