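import Groth.Statements.S15909
import Groth.Agent.DPLat.Orbit

set_option autoImplicit false
open Surf

namespace Groth.Agent.S15909

open W4c3severiratdp in
/-- Work in the lattice of vectors (a; b_1, …, b_δ), standing for divisor classes a ℓ − Σ b_i e_i on the
blow-up of the projective plane at δ points written in a standard basis, with intersection form a a'
− Σ b_i b_i' and canonical class K = (−3; −1, …, −1); a conic class is a class Q with Q·Q = 0 and
K·Q = −2, an exceptional class (the class of a (−1)-curve) is a class E with E·E = −1 and K·E = −1,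
and the Weyl group W_δ is the group of additive automorphisms of the lattice preserving the form and
fixing K. Let δ = 8 (a del Pezzo surface of degree one) and let L be an exceptional class. If L_1
and L_2 are exceptional classes with L_1·L = L_2·L, then L_1 and L_2 lie in the same orbit of the
stabilizer of L in W_8. -/
theorem result (L L₁ L₂ : DP 8) (hL : IsExc L) (hL₁ : IsExc L₁)
    (hL₂ : IsExc L₂) (h : form L₁ L = form L₂ L) :
    ∃ g : DP 8 ≃ₗ[ℤ] DP 8, IsWeyl g ∧ g L = L ∧ g L₁ = L₂ := by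
  rw [DPLat.isExc_iff] at hL hL₁ hL₂
  obtain ⟨g, hg, hgL⟩ := DPLat.exists_to_exc₁ hL
  obtain ⟨a, ha, ha2⟩ := DPLat.exists_reduced_tail (m := 7) le_rfl (Or.inr ⟨rfl, rfl⟩)
    (DPLat.exc₁ 7) 2 (Or.inr ⟨rfl, rfl⟩) (hL₁.map hg)
  obtain ⟨b, hb, hb2⟩ := DPLat.exists_reduced_tail (m := 7) le_rfl (Or.inr ⟨rfl, rfl⟩)
    (DPLat.exc₁ 7) 2 (Or.inr ⟨rfl, rfl⟩) (hL₂.map hg)
  have key : ∀ x ∈ (DPLat.sortedTailCls 7 1 1).filter (DPLat.ListRed 2),
      ∀ y ∈ (DPLat.sortedTailCls 7 1 1).filter (DPLat.ListRed 2),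
      x.getD 1 0 = y.getD 1 0 → x = y := by decide +kernel
  have hgetD : ∀ u : DP 8, (List.ofFn u).getD 1 0 = form u (DPLat.exc₁ 7) := fun u => by
    rw [DPLat.form_exc₁]; simp [List.ofFn_succ]
  have hab : a (g L₁) = b (g L₂) := by
    refine List.ofFn_injective (key _ ha2 _ hb2 ?_)
    rw [hgetD, hgetD]
    conv_lhs => rw [← ha.2, ha.1.1, ← hgL, hg.1, h]
    conv_rhs => rw [← hb.2, hb.1.1, ← hgL, hg.1]
  refine ⟨((g.trans a).trans b.symm).trans g.symm, DPLat.isWeyl_trans (DPLat.isWeyl_trans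
    (DPLat.isWeyl_trans hg ha.1) (DPLat.isWeyl_symm hb.1)) (DPLat.isWeyl_symm hg), ?_, ?_⟩
  · simp only [LinearEquiv.trans_apply]
    rw [hgL, ha.2, hb.symm.2, LinearEquiv.symm_apply_eq, hgL]
  · simp [hab]

end Groth.Agent.S15909
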