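import Groth.Statements.S15910
import Groth.Agent.DPLat.Orbit

set_option autoImplicit false
open Surf

namespace Groth.Agent.S15910

open W4c3severiratdp DPLat in
/-- predicate: reduced for the stabilizer of `e₁` and `e₈` -/
def red2 (l : List ℤ) : Bool := (List.range 5).all (fun i => decide (l.getD (i+3) 0 ≤ l.getD (i+2) 0)) &&
  decide (l.getD 2 0 + l.getD 3 0 + l.getD 4 0 ≤ l.getD 0 0)

open W4c3severiratdp

/-- `e₈` -/
def e8 : DP 8 := ![0, 0, 0, 0, 0, 0, 0, 0, -1]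

/-- the sum of the triples -/
def tot : DP 8 := ![6, 1, 2, 2, 2, 2, 2, 2, 2]

/-- representatives -/
def rep : Fin 4 → Fin 3 → DP 8 :=
  ![![DPLat.exc₁ 7, DPLat.exc₁ 7, ![6, 3, 2, 2, 2, 2, 2, 2, 2]],
    ![DPLat.exc₁ 7, e8, ![6, 2, 2, 2, 2, 2, 2, 2, 3]],
    ![DPLat.exc₁ 7, ![1, 1, 1, 0, 0, 0, 0, 0, 0], ![5, 1, 1, 2, 2, 2, 2, 2, 2]],
    ![e8, ![1, 0, 1, 0, 0, 0, 0, 0, 1], ![5, 1, 1, 2, 2, 2, 2, 2, 2]]]

lemma tot_eq : DPLat.exc₁ 7 - 2 • canon 8 = tot := by decide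

lemma rep_exc : ∀ j i, form (rep j i) (rep j i) = -1 ∧ form (canon 8) (rep j i) = -1 := by decide

lemma rep_sum : ∀ j, rep j 0 + rep j 1 + rep j 2 = tot := by decide

lemma rep_inv : ∀ j j' : Fin 4, ∀ σ : Equiv.Perm (Fin 3),
    (∀ i, rep j (σ i) 1 = rep j' i 1) → j = j' := by decide

lemma val_mem {v : DP 8} (hv : DPLat.IsCls 1 1 v) :
    -1 ≤ v 1 ∧ v 1 ≤ 3 ∧ (v 1 = -1 → v = DPLat.exc₁ 7) := by
  have hm := (DPLat.mem_allCls le_rfl (Or.inr ⟨rfl, rfl⟩)).2 ⟨v, hv, rfl⟩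
  have k : (DPLat.allCls 8 1 1).all (fun l => decide (-1 ≤ l.getD 1 0 ∧ l.getD 1 0 ≤ 3 ∧
      (l.getD 1 0 = -1 → l = [0, -1, 0, 0, 0, 0, 0, 0, 0]))) = true := by decide +kernel
  have h := of_decide_eq_true (List.all_eq_true.1 k _ hm)
  have h1 : (List.ofFn v).getD 1 0 = v 1 := by simp [List.ofFn_succ]
  rw [h1] at h
  exact ⟨h.1, h.2.1, fun he => List.ofFn_injective ((h.2.2 he).trans (by decide))⟩

lemma norm_one {v : DP 8} (hv : DPLat.IsCls 1 1 v) :
    ∃ g, DPLat.InStab (DPLat.exc₁ 7) g ∧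
      (v 1 = -1 → g v = DPLat.exc₁ 7) ∧ (v 1 = 0 → g v = e8) ∧
      (v 1 = 1 → g v = ![1, 1, 1, 0, 0, 0, 0, 0, 0]) := by
  obtain ⟨g, hg, hm⟩ := DPLat.exists_reduced_tail (m := 7) le_rfl (Or.inr ⟨rfl, rfl⟩)
    (DPLat.exc₁ 7) 2 (Or.inr ⟨rfl, rfl⟩) hv
  have k : ((DPLat.sortedTailCls 7 1 1).filter (DPLat.ListRed 2)).all (fun l => decide (
      (l.getD 1 0 = -1 → l = [0, -1, 0, 0, 0, 0, 0, 0, 0]) ∧
      (l.getD 1 0 = 0 → l = [0, 0, 0, 0, 0, 0, 0, 0, -1]) ∧
      (l.getD 1 0 = 1 → l = [1, 1, 1, 0, 0, 0, 0, 0, 0]))) = true := by decide +kernel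
  have h := of_decide_eq_true (List.all_eq_true.1 k _ hm)
  have h1 : (List.ofFn (g v)).getD 1 0 = v 1 := by
    have e : (List.ofFn (g v)).getD 1 0 = g v 1 := by simp [List.ofFn_succ]
    have f1 := DPLat.form_exc₁ (g v)
    have f2 := DPLat.form_exc₁ v
    have e2 : form (g v) (DPLat.exc₁ 7) = form v (DPLat.exc₁ 7) := by
      conv_lhs => rw [← hg.2, hg.1.1]
    rw [e]
    exact f1.symm.trans (e2.trans f2)
  rw [h1] at h
  exact ⟨g, hg, fun he => List.ofFn_injective ((h.1 he).trans (by decide)),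
    fun he => List.ofFn_injective ((h.2.1 he).trans (by decide)),
    fun he => List.ofFn_injective ((h.2.2 he).trans (by decide))⟩

/-- root avoiding `e₁` and `e₈` -/
def root₂ : DP 8 := ![1, 0, 1, 1, 1, 0, 0, 0, 0]

/-- the middle six points -/
def midEquiv : Fin 6 ≃ {j : Fin 8 // 1 ≤ j.1 ∧ j.1 ≤ 6} where
  toFun i := ⟨i.castSucc.succ, by simp⟩
  invFun j := ⟨j.1.1 - 1, by have := j.2; omega⟩
  left_inv i := by ext; simp
  right_inv j := by ext; have := j.2; simp; omega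

/-- embed a permutation of the middle six points -/
def midPerm (σ : Equiv.Perm (Fin 6)) : Equiv.Perm (Fin 8) := σ.extendDomain midEquiv

lemma midPerm_fix (σ : Equiv.Perm (Fin 6)) (v : DP 8) :
    DPLat.permL (midPerm σ) v 1 = v 1 ∧ DPLat.permL (midPerm σ) v 8 = v 8 ∧
    ∀ i : Fin 6, DPLat.permL (midPerm σ) v i.castSucc.succ.succ = v (σ i).castSucc.succ.succ := by
  refine ⟨?_, ?_, fun i => ?_⟩
  · rw [show (1 : Fin 9) = Fin.succ 0 from rfl, DPLat.permL_succ, midPerm,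
      Equiv.Perm.extendDomain_apply_not_subtype _ _ (by decide)]
  · rw [show (8 : Fin 9) = Fin.succ (Fin.last 7) from rfl, DPLat.permL_succ, midPerm,
      Equiv.Perm.extendDomain_apply_not_subtype _ _ (by decide)]
  · rw [DPLat.permL_succ, midPerm]
    exact congrArg (fun j => v (Fin.succ j)) (Equiv.Perm.extendDomain_apply_image σ midEquiv i)

lemma norm_pair {y : DP 8} (hy : DPLat.IsCls 1 1 y) (hz : DPLat.IsCls 1 1 (tot - e8 - y))
    (hy1 : y 1 = 0) :
    ∃ g, DPLat.InStab (DPLat.exc₁ 7) g ∧ g e8 = e8 ∧ g y = ![1, 0, 1, 0, 0, 0, 0, 0, 1] := by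
  classical
  let G : (DP 8 ≃ₗ[ℤ] DP 8) → Prop := fun g => DPLat.InStab (DPLat.exc₁ 7) g ∧ g e8 = e8
  have hex : ∃ n : ℕ, ∃ g, G g ∧ (g y 0 + 1).toNat = n :=
    ⟨_, LinearEquiv.refl ℤ _, ⟨⟨DPLat.isWeyl_refl, rfl⟩, rfl⟩, rfl⟩
  obtain ⟨g, ⟨hg, hg8⟩, hn⟩ := Nat.find_spec hex
  obtain ⟨σ, hσ⟩ := DPLat.exists_perm_antitone fun i : Fin 6 => g y i.castSucc.succ.succ
  have hfix : ∀ v : DP 8, (∀ i : Fin 6, v i.castSucc.succ.succ = 0) →
      DPLat.permL (midPerm σ) v = v := by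
    intro v hv
    obtain ⟨p1, p8, p6⟩ := midPerm_fix σ v
    funext i
    fin_cases i
    · rfl
    · exact p1
    · exact (p6 0).trans ((hv _).trans (hv 0).symm)
    · exact (p6 1).trans ((hv _).trans (hv 1).symm)
    · exact (p6 2).trans ((hv _).trans (hv 2).symm)
    · exact (p6 3).trans ((hv _).trans (hv 3).symm)
    · exact (p6 4).trans ((hv _).trans (hv 4).symm)
    · exact (p6 5).trans ((hv _).trans (hv 5).symm)
    · exact p8
  have hP : G (DPLat.permL (midPerm σ)) :=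
    ⟨⟨DPLat.isWeyl_permL _, hfix _ (by decide)⟩, hfix _ (by decide)⟩
  let g' := g.trans (DPLat.permL (midPerm σ))
  have hg' : G g' := ⟨hg.trans hP.1, by simp [g', hg8, hP.2]⟩
  have hr : form root₂ root₂ = -2 := by decide
  have hR : G (DPLat.refl root₂ hr) :=
    ⟨⟨DPLat.isWeyl_reflection root₂ hr (by decide), DPLat.refl_fix root₂ hr _ (by decide)⟩,
      DPLat.refl_fix root₂ hr _ (by decide)⟩
  have hroot : 0 ≤ form (g' y) root₂ := by
    by_contra hneg
    push Not at hneg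
    have hG : G (g'.trans (DPLat.refl root₂ hr)) := ⟨hg'.1.trans hR.1, by simp [hg'.2, hR.2]⟩
    have hmin := Nat.find_min' hex ⟨_, hG, rfl⟩
    have h0 : g' y 0 = g y 0 := rfl
    have h1 : (g'.trans (DPLat.refl root₂ hr)) y 0 = g' y 0 + form (g' y) root₂ := by
      simp [DPLat.refl_apply, root₂]
    have hlo := (DPLat.bounds le_rfl (Or.inr ⟨rfl, rfl⟩) (hy.map hg.1)).1.1
    have hlo' := (DPLat.bounds le_rfl (Or.inr ⟨rfl, rfl⟩) (hy.map hG.1.1)).1.1
    rw [h1, h0] at hmin hlo'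
    rw [← hn] at hmin
    omega
  have hgy := hy.map hg'.1.1
  have hgz := hz.map hg'.1.1
  have htot : g' tot = tot := by
    rw [← tot_eq, map_sub, map_nsmul, hg'.1.2, hg'.1.1.2]
  rw [map_sub, map_sub, htot, hg'.2] at hgz
  have h1 : g' y 1 = 0 := by
    have e2 : form (g' y) (DPLat.exc₁ 7) = form y (DPLat.exc₁ 7) := by
      conv_lhs => rw [← hg'.1.2, hg'.1.1.1]
    exact (DPLat.form_exc₁ (g' y)).symm.trans (e2.trans ((DPLat.form_exc₁ y).trans hy1))
  refine ⟨g', hg'.1, hg'.2, List.ofFn_injective ?_⟩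
  have hm := (DPLat.mem_allCls le_rfl (Or.inr ⟨rfl, rfl⟩)).2 ⟨g' y, hgy, rfl⟩
  have hmz := (DPLat.mem_allCls le_rfl (Or.inr ⟨rfl, rfl⟩)).2 ⟨_, hgz, rfl⟩
  have hzeq : List.ofFn (tot - e8 - g' y) =
      List.zipWith (· - ·) [6, 1, 2, 2, 2, 2, 2, 2, 3] (List.ofFn (g' y)) := by
    rw [show ([6, 1, 2, 2, 2, 2, 2, 2, 3] : List ℤ) = List.ofFn (tot - e8) by decide]
    exact List.ext_getElem (by simp) fun i _ _ => by simp
  rw [hzeq] at hmz
  have k : ((DPLat.allCls 8 1 1).filter (fun l => decide (l.getD 1 0 = 0) && red2 l)).all (fun l =>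
      decide (l = [1, 0, 1, 0, 0, 0, 0, 0, 1]) ||
      !decide (List.zipWith (· - ·) [6, 1, 2, 2, 2, 2, 2, 2, 3] l ∈ DPLat.allCls 8 1 1)) = true := by
    decide +kernel
  have hmf : List.ofFn (g' y) ∈
      (DPLat.allCls 8 1 1).filter (fun l => decide (l.getD 1 0 = 0) && red2 l) := by
    refine List.mem_filter.2 ⟨hm, ?_⟩
    obtain ⟨-, -, p6⟩ := midPerm_fix σ (g y)
    have ha : ∀ i j : Fin 6, i ≤ j → g' y j.castSucc.succ.succ ≤ g' y i.castSucc.succ.succ := by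
      intro i j hij
      simp only [g', LinearEquiv.trans_apply, p6]
      exact hσ hij
    have a0 := ha 0 1 (by decide)
    have a1 := ha 1 2 (by decide)
    have a2 := ha 2 3 (by decide)
    have a3 := ha 3 4 (by decide)
    have a4 := ha 4 5 (by decide)
    simp [form, root₂, Fin.sum_univ_succ] at hroot
    simp [red2, List.ofFn_succ, List.range_succ] at a0 a1 a2 a3 a4 ⊢
    refine ⟨h1, ?_, ?_⟩
    · simp [a0, a1, a2, a3, a4]
    · linarith
  have := List.all_eq_true.1 k _ hmf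
  simp only [hmz, decide_true, Bool.not_true, Bool.or_false, decide_eq_true_eq] at this
  rw [this]
  decide


open W4c3severiratdp in
/-- Work in the lattice of vectors (a; b_1, …, b_δ), standing for divisor classes a ℓ − Σ b_i e_i on the
blow-up of the projective plane at δ points written in a standard basis, with intersection form a a'
− Σ b_i b_i' and canonical class K = (−3; −1, …, −1); a conic class is a class Q with Q·Q = 0 and
K·Q = −2, an exceptional class (the class of a (−1)-curve) is a class E with E·E = −1 and K·E = −1,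
and the Weyl group W_δ is the group of additive automorphisms of the lattice preserving the form and
fixing K. Let δ = 8 and let L be an exceptional class. Let B be the set of unordered triples {λ_1,
λ_2, λ_3} of exceptional classes (repetitions allowed) with λ_1 + λ_2 + λ_3 = −2K + L. Then the
stabilizer of L in W_8 has exactly four orbits on B. Triples are written as maps Fin 3 → lattice and
compared up to reordering: there are four members of B, no two of which are identified by an element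
of the stabilizer followed by a reordering, and every member of B is so identified with one of the
four. -/
theorem result (L : DP 8) (hL : IsExc L) :
    ∃ r : Fin 4 → (Fin 3 → DP 8),
      (∀ j, (∀ i, IsExc (r j i)) ∧ r j 0 + r j 1 + r j 2 = L - 2 • canon 8) ∧
      (∀ j j', (∃ g : DP 8 ≃ₗ[ℤ] DP 8, IsWeyl g ∧ g L = L ∧ ∃ σ : Equiv.Perm (Fin 3), ∀ i, g (r j (σ i)) = r j' i) → j = j') ∧
      ∀ t : Fin 3 → DP 8, (∀ i, IsExc (t i)) → t 0 + t 1 + t 2 = L - 2 • canon 8 →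
        ∃ j, ∃ g : DP 8 ≃ₗ[ℤ] DP 8, IsWeyl g ∧ g L = L ∧ ∃ σ : Equiv.Perm (Fin 3), ∀ i, g (t (σ i)) = r j i := by
  rw [DPLat.isExc_iff] at hL
  obtain ⟨g₀, hg₀, hgL⟩ := DPLat.exists_to_exc₁ hL
  have hto : g₀ (L - 2 • canon 8) = tot := by
    rw [map_sub, map_nsmul, hgL, hg₀.2, tot_eq]
  have hval : ∀ (g : DP 8 ≃ₗ[ℤ] DP 8), DPLat.InStab (DPLat.exc₁ 7) g → ∀ u : DP 8, g u 1 = u 1 := by
    intro g hg u
    have e2 : form (g u) (DPLat.exc₁ 7) = form u (DPLat.exc₁ 7) := by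
      conv_lhs => rw [← hg.2, hg.1.1]
    exact (DPLat.form_exc₁ (g u)).symm.trans (e2.trans (DPLat.form_exc₁ u))
  refine ⟨fun j i => g₀.symm (rep j i), fun j => ⟨fun i => ?_, ?_⟩, ?_, ?_⟩
  · exact DPLat.IsCls.map (DPLat.isWeyl_symm hg₀) (rep_exc j i)
  · rw [← map_add, ← map_add, rep_sum, LinearEquiv.symm_apply_eq, hto]
  · rintro j j' ⟨g, hg, hgfix, σ, hσ⟩
    refine rep_inv j j' σ fun i => ?_
    have hh : DPLat.InStab (DPLat.exc₁ 7) ((g₀.symm.trans g).trans g₀) :=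
      ⟨DPLat.isWeyl_trans (DPLat.isWeyl_trans (DPLat.isWeyl_symm hg₀) hg) hg₀,
        by simp only [LinearEquiv.trans_apply]
           rw [(LinearEquiv.symm_apply_eq g₀).2 hgL.symm, hgfix, hgL]⟩
    have h := hval _ hh (rep j (σ i))
    simp only [LinearEquiv.trans_apply, hσ i, LinearEquiv.apply_symm_apply] at h
    exact h.symm
  · intro t ht hsum
    have hu : ∀ i, DPLat.IsCls 1 1 (g₀ (t i)) := fun i => DPLat.IsCls.map hg₀ (ht i)
    have hs : g₀ (t 0) + g₀ (t 1) + g₀ (t 2) = tot := by rw [← map_add, ← map_add, hsum, hto]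
    let σ := Tuple.sort fun i => g₀ (t i) 1
    have hmono := Tuple.monotone_sort fun i => g₀ (t i) 1
    have hsσ : g₀ (t (σ 0)) + g₀ (t (σ 1)) + g₀ (t (σ 2)) = tot := by
      rw [← hs, ← Fin.sum_univ_three (fun i => g₀ (t (σ i))),
        ← Fin.sum_univ_three (fun i => g₀ (t i)), Equiv.sum_comp σ (fun i => g₀ (t i))]
    have m01 : g₀ (t (σ 0)) 1 ≤ g₀ (t (σ 1)) 1 := hmono (show (0 : Fin 3) ≤ 1 by decide)
    have m12 : g₀ (t (σ 1)) 1 ≤ g₀ (t (σ 2)) 1 := hmono (show (1 : Fin 3) ≤ 2 by decide)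
    suffices h : ∃ j h, DPLat.InStab (DPLat.exc₁ 7) h ∧
        h (g₀ (t (σ 0))) = rep j 0 ∧ h (g₀ (t (σ 1))) = rep j 1 ∧ h (g₀ (t (σ 2))) = rep j 2 by
      obtain ⟨j, h, hh, h0, h1, h2⟩ := h
      refine ⟨j, (g₀.trans h).trans g₀.symm,
        DPLat.isWeyl_trans (DPLat.isWeyl_trans hg₀ hh.1) (DPLat.isWeyl_symm hg₀),
        by simp only [LinearEquiv.trans_apply]
           rw [hgL, hh.2, LinearEquiv.symm_apply_eq, hgL], σ, fun i => ?_⟩
      simp only [LinearEquiv.trans_apply]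
      fin_cases i
      · exact congrArg g₀.symm h0
      · exact congrArg g₀.symm h1
      · exact congrArg g₀.symm h2
    generalize g₀ (t (σ 0)) = x, g₀ (t (σ 1)) = y, g₀ (t (σ 2)) = z,
      hu (σ 0) = hx, hu (σ 1) = hy, hu (σ 2) = hz at hsσ m01 m12 ⊢
    obtain ⟨xa, xb, xc⟩ := val_mem hx
    obtain ⟨ya, yb, yc⟩ := val_mem hy
    obtain ⟨za, zb, zc⟩ := val_mem hz
    have h1 : x 1 + y 1 + z 1 = 1 := by simpa [tot] using congrFun hsσ 1
    have hz' : ∀ {h : DP 8 ≃ₗ[ℤ] DP 8} {j : Fin 4}, DPLat.InStab (DPLat.exc₁ 7) h →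
        h x = rep j 0 → h y = rep j 1 → h z = rep j 2 := by
      intro h j hh a b
      have e : h tot = tot := by rw [← tot_eq, map_sub, map_nsmul, hh.2, hh.1.2]
      rw [← hsσ, map_add, map_add, a, b, hsσ, ← rep_sum j] at e
      exact add_left_cancel e
    by_cases hx1 : x 1 = -1
    · obtain ⟨h, hh, q1, q2, q3⟩ := norm_one hy
      have hxe : h x = DPLat.exc₁ 7 := by rw [xc hx1, hh.2]
      have : y 1 = -1 ∨ y 1 = 0 ∨ y 1 = 1 := by omega
      rcases this with e | e | e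
      · exact ⟨0, h, hh, hxe, q1 e, hz' hh hxe (q1 e)⟩
      · exact ⟨1, h, hh, hxe, q2 e, hz' hh hxe (q2 e)⟩
      · exact ⟨2, h, hh, hxe, q3 e, hz' hh hxe (q3 e)⟩
    · have ex : x 1 = 0 := by omega
      have ey : y 1 = 0 := by omega
      obtain ⟨h, hh, -, q2, -⟩ := norm_one hx
      have e : tot - e8 - h y = h z := by
        have e : h tot = tot := by rw [← tot_eq, map_sub, map_nsmul, hh.2, hh.1.2]
        rw [← hsσ, map_add, map_add, q2 ex, hsσ] at e
        rw [← e]; abel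
      obtain ⟨h', hh', h8', hy'⟩ := norm_pair (hy.map hh.1) (e ▸ hz.map hh.1)
        ((hval h hh y).trans ey)
      have a : (h.trans h') x = rep 3 0 := by simp [q2 ex, h8']; rfl
      have b : (h.trans h') y = rep 3 1 := hy'
      exact ⟨3, h.trans h', hh.trans hh', a, b, hz' (hh.trans hh') a b⟩

end Groth.Agent.S15910
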