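import Groth.Statements.S15914
import Groth.Agent.HodgeIdx81.Proper


set_option autoImplicit false
universe u
open CategoryTheory CategoryTheory.Limits AlgebraicGeometry TopologicalSpace
open Surf

namespace Groth.Agent.S15914

open Groth.Agent.HodgeIdx81 Groth.Agent.ProjTwist

set_option linter.style.haveILetI false

/-- Let k be an algebraically closed field of characteristic zero and X a smooth surface over k
(integral, proper and smooth over k of dimension 2) with canonical module W, a second exterior power
of Ω_{X/k}; intersection numbers of invertible modules are (L·M) = χ(O_X) − χ(L) − χ(M) + χ(L ⊗ M),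
so that for a closed subscheme C with ideal I_C one has C·C = (I_C·I_C) and K·C = −(I_C·W). If C ⊆ X
is an integral closed one-dimensional subscheme with K·C = −1, that is (I_C·W) = 1, then C·C is odd
and C·C ≥ −1. -/
theorem result (k : Type u) [Field k] [IsAlgClosed k]
    [CharZero k] (X : Scheme.{u}) [X.Over (Spec (CommRingCat.of k))] [IsIntegral X] [IsProper (X ↘ (Spec (CommRingCat.of k)))] [Smooth (X ↘ (Spec (CommRingCat.of k)))]
    (hdim : topologicalKrullDim X = 2)
    (W : X.Modules) (hW : ExtPow.IsExtPow 2 (Omega.sheaf (X ↘ (Spec (CommRingCat.of k)))) W)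
    (C : X.IdealSheafData) (hC : IsIntegral C.subscheme) (hC1 : topologicalKrullDim (C.support : Set X) = 1)
    (hdeg : FGA.intNum k X 2 ![ClSub.idealMod C, W] (Coh.structureModule X) = 1) :
    Odd (FGA.intNum k X 2 ![ClSub.idealMod C, ClSub.idealMod C] (Coh.structureModule X)) ∧
      -1 ≤ FGA.intNum k X 2 ![ClSub.idealMod C, ClSub.idealMod C] (Coh.structureModule X) := by
  have hd : topologicalKrullDim X = ((2 : ℕ) : WithBot ℕ∞) := by rw [hdim]; norm_num
  have hreg : ∀ x : X, IsRegularLocalRing (X.presheaf.stalk x) :=
    CurveDVR.isRegularLocalRing_stalk (X ↘ (Spec (CommRingCat.of k)))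
  obtain ⟨A, hA⟩ := exists_ample k hreg hd
  have hWi := RR.isInvertible_canonical k hd hreg hA hW
  haveI := hC
  have hI := isInvertible_of_curve k hreg hd C (hC1.trans rfl)
  rw [intNum_eq_pr k hd hI hI]
  rw [intNum_eq_pr k hd hI hWi] at hdeg
  have hadj := RR.adjunction k hd hreg hA hW C hI
  obtain ⟨hle, -⟩ := RR.curve_euler k C (hC1.trans rfl)
  rw [hdeg] at hadj
  exact ⟨⟨-Curv2.euler k X (ClSub.quotMod C), by omega⟩, by omega⟩

end Groth.Agent.S15914
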