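import Groth.Statements.S15916
import Groth.Agent.HodgeIdx81.CurveClass
import Groth.Agent.NefPos.Main


set_option autoImplicit false
universe u
open CategoryTheory CategoryTheory.Limits AlgebraicGeometry TopologicalSpace
open Surf

namespace Groth.Agent.S15916

open Groth.Agent.HodgeIdx81

set_option linter.style.haveILetI false

/-- Nef classes have nonnegative self-intersection. -/
theorem nef_self_nonneg (k : Type u) [Field k] {X : Scheme.{u}} [X.Over (Spec (CommRingCat.of k))]
    [IsProper (X ↘ Spec (CommRingCat.of k))] [IsIntegral X]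
    (hd : topologicalKrullDim X = ((2 : ℕ) : WithBot ℕ∞)) {A L : X.Modules} (hA : CohB1.IsAmple A)
    (hL : PicF.IsInvertible L) (hnef : NefPos.Nef k X L) : 0 ≤ pr k L L := by
  have h := NefPos.holds k 2 X L A hA hL hnef hd 2 0 rfl
  have e : NefPos.iC k [L, L] (Coh.structureModule X) = pr k L L := by
    simp only [NefPos.iC, pr]
    rw [EulerChar.euler_iso k (ProjTwist.tensOne L),
      EulerChar.euler_iso k (ProjTwist.tensCongr (Iso.refl L) (ProjTwist.tensOne L))]
    ring
  have h2 : (0 : ℝ) ≤ (NefPos.iC k [L, L] (Coh.structureModule X) : ℝ) := h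
  rw [e] at h2
  exact_mod_cast h2

/-- Let k be an algebraically closed field of characteristic zero and X a smooth projective surface over
k (integral, proper and smooth over k of dimension 2, with a closed immersion over k into some
projective space); intersection numbers of invertible modules are (L·M) = χ(O_X) − χ(L) − χ(M) + χ(L
⊗ M), and for an integral closed one-dimensional subscheme C ⊆ X write (L·C) = χ(O_C ⊗ L) − χ(O_C);
an invertible module is nef when (L·C) ≥ 0 for all such C. Let D be an invertible module generated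
by its global sections, nef, with (D·D) > 0, and let N be a nef invertible module with (D·N) = 0.
Then N is numerically trivial: (N·C) = 0 for every integral curve C ⊆ X. (The published statement
concludes that N is zero in Pic X; on the product of an elliptic curve with the projective line, the
pull-back N of a non-trivial degree-zero class of the elliptic curve is nef, orthogonal to an ample
base-point-free D, and non-zero, while the printed proof establishes numerical triviality, which is
what this row states.) -/
theorem result (k : Type u) [Field k] [IsAlgClosed k]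
    [CharZero k] (X : Scheme.{u}) [X.Over (Spec (CommRingCat.of k))] [IsIntegral X] [IsProper (X ↘ (Spec (CommRingCat.of k)))] [Smooth (X ↘ (Spec (CommRingCat.of k)))]
    (hdim : topologicalKrullDim X = 2)
    (hproj : ∃ (n : ℕ) (ι : X ⟶ CohB1.ProjSpace n k), IsClosedImmersion ι ∧ ι ≫ CohB1.ProjSpace.toSpec n k = (X ↘ (Spec (CommRingCat.of k))))
    (D N : X.Modules) (hDi : PicF.IsInvertible D) (hNi : PicF.IsInvertible N)
    (hDgg : Curv2.IsGloballyGenerated D)
    (hDnef : ∀ C : X.IdealSheafData, IsIntegral C.subscheme → topologicalKrullDim (C.support : Set X) = 1 → 0 ≤ (Curv2.euler k X (CohB1.tensorMod (ClSub.quotMod C) D) - Curv2.euler k X (ClSub.quotMod C)))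
    (hD2 : 0 < FGA.intNum k X 2 ![D, D] (Coh.structureModule X))
    (hNnef : ∀ C : X.IdealSheafData, IsIntegral C.subscheme → topologicalKrullDim (C.support : Set X) = 1 → 0 ≤ (Curv2.euler k X (CohB1.tensorMod (ClSub.quotMod C) N) - Curv2.euler k X (ClSub.quotMod C)))
    (hDN : FGA.intNum k X 2 ![D, N] (Coh.structureModule X) = 0) :
    ∀ C : X.IdealSheafData, IsIntegral C.subscheme → topologicalKrullDim (C.support : Set X) = 1 → (Curv2.euler k X (CohB1.tensorMod (ClSub.quotMod C) N) - Curv2.euler k X (ClSub.quotMod C)) = 0 := by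
  have hd : topologicalKrullDim X = ((2 : ℕ) : WithBot ℕ∞) := by rw [hdim]; norm_num
  have hreg : ∀ x : X, IsRegularLocalRing (X.presheaf.stalk x) :=
    CurveDVR.isRegularLocalRing_stalk (X ↘ (Spec (CommRingCat.of k)))
  obtain ⟨n, ι, hι, hw⟩ := hproj
  haveI := hι
  have hA := NumTriv.isAmple_oX_one ι
  rw [intNum_eq_pr k hd hDi hDi] at hD2
  rw [intNum_eq_pr k hd hDi hNi] at hDN
  have hNN : pr k N N = 0 :=
    le_antisymm (pr_self_nonpos_of_pos k hd hA hDi hNi hD2 hDN) (nef_self_nonneg k hd hA hNi hNnef)
  have hNM : ∀ M : X.Modules, PicF.IsInvertible M → pr k N M = 0 := by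
    intro M hM
    obtain ⟨P, hP, hPC⟩ := exists_comb k hd.le hM hDi (pr k D D) (-pr k M D)
    have hPD : pr k D P = 0 := by rw [pr_comm, hPC D hDi]; ring
    have key : ∀ a : ℤ, 2 * a * pr k N P + pr k P P ≤ 0 := fun a => by
      obtain ⟨Q, hQ, hQC⟩ := exists_comb k hd.le hNi hP a 1
      have h := pr_self_nonpos_of_pos k hd hA hDi hQ hD2
        (by rw [pr_comm, hQC D hDi, pr_comm k N D, hDN, pr_comm k P D, hPD]; ring)
      rw [hQC Q hQ, pr_comm k N Q, pr_comm k P Q, hQC N hNi, hQC P hP, hNN, pr_comm k P N] at h
      linarith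
    have hNP : pr k N P = 0 := by
      by_contra h0
      have h1 : 1 ≤ pr k N P * pr k N P := by
        have := mul_self_pos.2 h0
        omega
      nlinarith [key (pr k N P * (1 + |pr k P P|)), abs_nonneg (pr k P P), neg_abs_le (pr k P P)]
    rw [pr_comm, hPC N hNi, hDN, mul_zero, add_zero, pr_comm k M N] at hNP
    exact (mul_eq_zero.1 hNP).resolve_left hD2.ne'
  intro C hC hC1
  haveI := hC
  have hI := isInvertible_of_curve k hreg hd C (hC1.trans rfl)
  have h := deg1_quotMod k hI hNi
  rw [hNM _ hI, neg_zero] at h
  exact h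

end Groth.Agent.S15916
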