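import Groth.Statements.S15917
import Groth.Agent.DefAmple27.Point
import Groth.Agent.NodalLib.NodeSplit
import Groth.Agent.AmpleLib.Ideal
import Groth.Agent.ResK0.Rank
import Groth.Agent.S7374
import Groth.Agent.S16188
import Groth.Agent.S17288
import Groth.Agent.FormalFun.TowerVan
import Groth.Agent.VBLib.RRGeom
import Groth.Agent.FBase.BC
import Groth.Agent.EulerChar.Restrict
import Groth.Agent.CBC.TreeH1
import Groth.Agent.RedSub.Basic
import Groth.Agent.BigVol.PowReg

set_option autoImplicit false
universe u
open CategoryTheory CategoryTheory.Limits AlgebraicGeometry TopologicalSpace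
open Curves

namespace Groth.Agent.S15917

open Groth.Agent.QCoh Groth.Agent.ProjTwist TopologicalSpace OmegaSh
open Groth.Agent.PullStalk.Sky Groth.Agent.PullStalk.Exact Groth.Agent.Omega.Stalks

set_option linter.style.haveILetI false
set_option backward.isDefEq.respectTransparency.types false
set_option maxHeartbeats 400000

variable {k : Type u} [Field k] [IsAlgClosed k] {C : Scheme.{u}} [C.Over (Spec (CommRingCat.of k))]
  [IsProper (C ↘ (Spec (CommRingCat.of k)))] [IsReduced C] [ConnectedSpace C]

local notation "I⟦" T "⟧" => Scheme.IdealSheafData.vanishingIdeal T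

include k in
/-- `H¹(F ⊗ I_T) = 0` for connected `T` containing the components where `F` is not generated. -/
theorem h1_tens (hdim : topologicalKrullDim C = 1) (hg : Subsingleton (Coh.HH C (Coh.structureModule C) 1))
    {F : C.Modules} {r : ℕ} (hF : FlatMod.IsFinLocFreeOfRank r F) (n : ℕ) :
    ∀ T : Closeds C, _root_.IsConnected (T : Set C) →
      {Z ∈ irreducibleComponents (C : Type u) | ¬ Z ⊆ (T : Set C)}.ncard = n →
      (∀ Z (hZ : Z ∈ irreducibleComponents (C : Type u)), ¬ Z ⊆ (T : Set C) → Curv2.IsGloballyGenerated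
        ((Scheme.Modules.pullback (I⟦⟨Z, isClosed_of_mem_irreducibleComponents Z hZ⟩⟧).subschemeι).obj F)) →
      Subsingleton (Coh.HH C (CohB1.tensorMod F (ClSub.idealMod I⟦T⟧)) 1) := by
  induction n using Nat.strong_induction_on with
  | _ n ih =>
  intro T hT hn hgg
  haveI := EulerChar.isNoetherian k (X := C)
  have hfin := NoetherianSpace.finite_irreducibleComponents (α := C)
  by_cases hall : ∀ Z ∈ irreducibleComponents (C : Type u), Z ⊆ (T : Set C)
  · exact CBC.TreeH1.base (k := k) hdim hg F T (top_le_iff.mp fun x _ =>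
      hall _ (irreducibleComponent_mem_irreducibleComponents x) mem_irreducibleComponent)
  push Not at hall
  -- a component outside `T` meeting `T`
  obtain ⟨Z, hZ, hZT, hmeet⟩ : ∃ Z ∈ irreducibleComponents (C : Type u), ¬ Z ⊆ (T : Set C) ∧
      (Z ∩ T).Nonempty := by
    by_contra hc
    push Not at hc
    let U := ⋃ Z ∈ {Z ∈ irreducibleComponents (C : Type u) | ¬ Z ⊆ (T : Set C)}, Z
    have hUc : IsClosed U := (hfin.subset fun _ h => h.1).isClosed_biUnion fun Z hZ =>
      isClosed_of_mem_irreducibleComponents Z hZ.1
    have hU : U = (T : Set C)ᶜ := by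
      ext x
      refine ⟨fun hx hxT => ?_, fun hx => ?_⟩
      · obtain ⟨Z, hZ, hxZ⟩ := Set.mem_iUnion₂.1 hx
        exact (Set.eq_empty_iff_forall_notMem.1 (hc Z hZ.1 hZ.2)) x ⟨hxZ, hxT⟩
      · exact Set.mem_iUnion₂.2 ⟨_, ⟨irreducibleComponent_mem_irreducibleComponents x,
          fun h => hx (h mem_irreducibleComponent)⟩, mem_irreducibleComponent⟩
    have hclopen : IsClopen (T : Set C) := ⟨T.isClosed, by
      rw [← compl_compl (T : Set C), ← hU]; exact hUc.isOpen_compl⟩
    have huniv : (T : Set C) = Set.univ := hclopen.eq_univ hT.nonempty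
    obtain ⟨Z, hZ, hZT⟩ := hall
    exact hZT (huniv ▸ Set.subset_univ Z)
  let Zc : Closeds C := ⟨Z, isClosed_of_mem_irreducibleComponents Z hZ⟩
  let IT := I⟦T⟧
  let IZ := I⟦Zc⟧
  let T' : Closeds C := T ⊔ Zc
  have hinf : I⟦T'⟧ = IT ⊓ IZ := Scheme.IdealSheafData.gc.u_inf
  have hT' : _root_.IsConnected (T' : Set C) := IsConnected.union
    (by rwa [Set.inter_comm] at hmeet) hT (IsIrreducible.isConnected hZ.1)
  have hlt : {W ∈ irreducibleComponents (C : Type u) | ¬ W ⊆ (T' : Set C)}.ncard < n := by
    rw [← hn]
    refine Set.ncard_lt_ncard ⟨fun W hW => ⟨hW.1, fun h => hW.2 (h.trans Set.subset_union_left)⟩, fun h => ?_⟩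
      (hfin.subset fun _ h => h.1)
    exact (h (show Z ∈ _ from ⟨hZ, hZT⟩)).2 Set.subset_union_right
  have hI' := ih _ hlt T' hT' rfl fun W hW hWT => hgg W hW fun h => hWT (h.trans Set.subset_union_left)
  exact CBC.TreeH1.step (k := k) hdim hg hF T hT IZ _ hinf (hgg Z hZ hZT) hI'


/-- Let k be an algebraically closed field of characteristic zero and C a rational tree over k: a
connected, reduced scheme, proper over k of dimension one, with at-worst-nodal singularities and
H¹(C, O_C) = 0 (equivalently, all components are smooth rational curves and the dual graph is a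
tree). Let F be a finite locally free O_C-module and R ⊆ C a closed subscheme that is reduced and
connected and whose support is a union of irreducible components of C. If for every irreducible
component Z of C not contained in R (taken with its reduced structure, i.e. every integral closed
one-dimensional subscheme Z whose support is not inside R) the restriction F|_Z is generated by
global sections, then h¹(C, F) = h¹(R, F|_R). -/
theorem result (k : Type u) [Field k] [IsAlgClosed k] [CharZero k]
    (C : Scheme.{u}) [C.Over (Spec (CommRingCat.of k))] [IsProper (C ↘ (Spec (CommRingCat.of k)))] [IsReduced C] [ConnectedSpace C]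
    (hdim : topologicalKrullDim C = 1) (hnodal : Curv2.AtWorstNodal k C)
    (hg : Subsingleton (Coh.HH C (Coh.structureModule C) 1))
    (F : C.Modules) (hF : FlatMod.IsFinLocFree F)
    (R : C.IdealSheafData) [IsReduced R.subscheme] [ConnectedSpace R.subscheme]
    (hRunion : ∀ x ∈ (R.support : Set C), ∃ Z : C.IdealSheafData, IsIntegral Z.subscheme ∧
      topologicalKrullDim (Z.support : Set C) = 1 ∧ (Z.support : Set C) ⊆ R.support ∧ x ∈ (Z.support : Set C))
    (hgg : ∀ Z : C.IdealSheafData, IsIntegral Z.subscheme → topologicalKrullDim (Z.support : Set C) = 1 →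
      ¬ ((Z.support : Set C) ⊆ R.support) → Curv2.IsGloballyGenerated ((Scheme.Modules.pullback Z.subschemeι).obj F)) :
    letI : R.subscheme.Over (Spec (CommRingCat.of k)) := ⟨R.subschemeι ≫ (C ↘ (Spec (CommRingCat.of k)))⟩
    Module.finrank k (Coh.HH C F 1) =
      Module.finrank k (Coh.HH R.subscheme ((Scheme.Modules.pullback R.subschemeι).obj F) 1) := by
  haveI := EulerChar.isNoetherian k (X := C)
  letI : R.subscheme.Over (Spec (CommRingCat.of k)) := ⟨R.subschemeι ≫ (C ↘ (Spec (CommRingCat.of k)))⟩
  haveI : IsProper (R.subscheme ↘ Spec (CommRingCat.of k)) := by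
    show IsProper (R.subschemeι ≫ _)
    infer_instance
  obtain ⟨r, hr⟩ := ResK0.Rank.exists_ofRank hF
  have hR : R = Scheme.IdealSheafData.vanishingIdeal R.support := S7374.eq_vanishingIdeal R
  have hconn : _root_.IsConnected (R.support : Set C) := by
    rw [← Scheme.IdealSheafData.range_subschemeι]
    exact isConnected_range R.subschemeι.continuous
  have hz := h1_tens (k := k) hdim hg hr _ R.support hconn rfl fun Z hZ hZR => by
    haveI : IsIntegral (Scheme.IdealSheafData.vanishingIdeal
        (⟨Z, isClosed_of_mem_irreducibleComponents Z hZ⟩ : TopologicalSpace.Closeds C)).subscheme :=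
      S16188.isIntegral_subscheme _ hZ.1
    refine hgg _ inferInstance ?_ ?_
    · rw [Scheme.IdealSheafData.coe_support_vanishingIdeal]
      simp only [TopologicalSpace.Closeds.coe_mk, (isClosed_of_mem_irreducibleComponents Z hZ).closure_eq]
      show topologicalKrullDim Z = 1
      refine le_antisymm ((Topology.IsInducing.subtypeVal.topologicalKrullDim_le).trans hdim.le) ?_
      by_contra hlt
      obtain ⟨a, ha⟩ := hZ.1.nonempty
      have hpt : ∀ b ∈ Z, b = a := fun b hb => by
        by_contra hne
        refine hlt (Order.one_le_krullDim_iff.2 ?_)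
        obtain ⟨η, hη⟩ := QuasiSober.sober hZ.1 (isClosed_of_mem_irreducibleComponents Z hZ)
        obtain ⟨w, hw, hwη⟩ : ∃ w ∈ Z, w ≠ η := by
          by_cases h : b = η
          · exact ⟨a, ha, fun h' => hne (h.trans h'.symm)⟩
          · exact ⟨b, hb, h⟩
        let y : Z := ⟨w, hw⟩
        let z : Z := ⟨η, hη.mem⟩
        refine ⟨⟨closure {y}, isIrreducible_singleton.closure, isClosed_closure⟩,
          ⟨closure {z}, isIrreducible_singleton.closure, isClosed_closure⟩, lt_of_le_of_ne ?_ ?_⟩
        · exact closure_minimal (Set.singleton_subset_iff.2 (specializes_iff_mem_closure.1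
            ((subtype_specializes_iff z y).2 (hη.specializes hw)))) isClosed_closure
        · intro h
          have hset : closure ({y} : Set Z) = closure {z} :=
            congrArg (fun q : TopologicalSpace.IrreducibleCloseds Z => (q : Set Z)) h
          have h' : z ∈ closure ({y} : Set Z) := hset ▸ subset_closure rfl
          exact hwη ((subtype_specializes_iff y z).1 (specializes_iff_mem_closure.2 h')
            |>.antisymm (hη.specializes hw)).eq
      have hZa : Z = {a} := Set.eq_singleton_iff_unique_mem.2 ⟨ha, hpt⟩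
      have hfin := TopologicalSpace.NoetherianSpace.finite_irreducibleComponents (α := C)
      let U := ⋃ W ∈ {W ∈ irreducibleComponents (C : Type u) | W ≠ Z}, W
      have hUc : IsClosed U := (hfin.subset fun _ h => h.1).isClosed_biUnion fun W hW =>
        isClosed_of_mem_irreducibleComponents W hW.1
      have hU : U = Zᶜ := by
        ext x
        refine ⟨fun hx hxZ => ?_, fun hx => ?_⟩
        · obtain ⟨W, hW, hxW⟩ := Set.mem_iUnion₂.1 hx
          have hsub : Z ⊆ W := by rw [hZa] at hxZ ⊢; exact Set.singleton_subset_iff.2 (hxZ ▸ hxW)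
          exact hW.2 ((hZ.eq_of_subset hW.1.1 hsub).symm)
        · exact Set.mem_iUnion₂.2 ⟨_, ⟨irreducibleComponent_mem_irreducibleComponents x,
            fun h => hx (h ▸ mem_irreducibleComponent)⟩, mem_irreducibleComponent⟩
      have hu : Z = Set.univ := (show IsClopen Z from ⟨isClosed_of_mem_irreducibleComponents Z hZ, by
        rw [← compl_compl Z, ← hU]; exact hUc.isOpen_compl⟩).eq_univ hZ.1.nonempty
      haveI : Subsingleton C := ⟨fun x y => (hpt x (hu ▸ trivial)).trans (hpt y (hu ▸ trivial)).symm⟩
      haveI : Subsingleton (TopologicalSpace.IrreducibleCloseds C) := ⟨fun A B => SetLike.coe_injective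
        ((Subsingleton.eq_univ_of_nonempty A.isIrreducible'.nonempty).trans
          (Subsingleton.eq_univ_of_nonempty B.isIrreducible'.nonempty).symm)⟩
      exact absurd (hdim.symm.trans_le Order.krullDim_nonpos_of_subsingleton) (by decide)
    · rw [Scheme.IdealSheafData.coe_support_vanishingIdeal]
      simp only [TopologicalSpace.Closeds.coe_mk, (isClosed_of_mem_irreducibleComponents Z hZ).closure_eq]
      exact hZR
  rw [← hR] at hz
  let S := (ShortComplex.mk (ClSub.idealModι R) (ClSub.toSubscheme R) (kernel.condition _)).map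
    ((DCoh.tensorBi (X := C)).obj F)
  have hS : S.ShortExact := CohDev.tens_shortExact hr (EulerChar.shortExact_ideal R)
  haveI : Subsingleton (Coh.HH C S.X₁ 1) := hz
  haveI : Subsingleton (Coh.HH C S.X₁ 2) := EulerChar.subsingleton_HH_two_le k hdim _ one_lt_two
  have hbij : Function.Bijective (CohLin.overLin k (CohLin.hMap S.g 1)) := by
    refine ⟨(injective_iff_map_eq_zero _).2 fun z hz' => ?_, fun z => ?_⟩
    · obtain ⟨y, hy⟩ := CohLin.exists_hMap_f_eq hS z hz'
      rw [← hy, Subsingleton.elim y 0, map_zero]
    · exact CohLin.exists_hMap_g_eq hS z (Subsingleton.elim _ _)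
  let e1 : S.X₂ ≅ F := ProjTwist.tensOne F
  let e3 : S.X₃ ≅ _ := EulerChar.tensQuotIso R.subschemeι F
  obtain ⟨e⟩ := EulerChar.nonempty_pushEquiv (A := k) R.subschemeι rfl
    ((Scheme.Modules.pullback R.subschemeι).obj F)
    (haveI : F.IsQuasicoherent := (VBLib.isCoh_of_ofRank hr).1; QCoh.isQuasicoherent_pullback _ F) 1
  refine (S17288.finrank_HH_iso k e1 1).symm.trans ?_
  refine ((LinearEquiv.ofBijective _ hbij).finrank_eq).trans ?_
  exact (S17288.finrank_HH_iso k e3 1).trans e.finrank_eq

end Groth.Agent.S15917
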