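import Groth.Statements.S15922
import Groth.Agent.EulerChar.CurvePoint
import Groth.Agent.EulerChar.Cartier
import Groth.Agent.HomShQC.Stalk

set_option autoImplicit false
universe u
open CategoryTheory CategoryTheory.Limits AlgebraicGeometry
open Curves

set_option linter.style.haveILetI false
set_option backward.isDefEq.respectTransparency false
namespace Groth.Agent.S15922

open Groth.Agent.CohDev Groth.Agent.PullStalk.Sky Groth.Agent.PullStalk.Exact in
/-- The structure sheaf of a closed point over an algebraically closed field has one-dimensional sections. -/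
lemma finrank_quot_point {k : Type u} [Field k] [IsAlgClosed k] {X : Scheme.{u}} [X.Over (Spec (CommRingCat.of k))]
    [IsProper (X ↘ Spec (CommRingCat.of k))] (x : X) :
    Module.finrank k (Coh.HH X (ClSub.quotMod (IntMult.ptIdeal x)) 0) = 1 := by
  let D := IntMult.ptIdeal x
  haveI : IsIntegral D.subscheme :=
    Groth.Agent.S16188.isIntegral_subscheme _ isIrreducible_singleton.closure
  letI : D.subscheme.Over (Spec (CommRingCat.of k)) := ⟨D.subschemeι ≫ (X ↘ Spec (CommRingCat.of k))⟩
  haveI : IsProper (D.subscheme ↘ Spec (CommRingCat.of k)) :=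
    inferInstanceAs (IsProper (D.subschemeι ≫ (X ↘ Spec (CommRingCat.of k))))
  obtain ⟨e⟩ := EulerChar.nonempty_pushEquiv D.subschemeι (A := k) rfl (Coh.structureModule D.subscheme)
    (ProjTwist.isQuasicoherent_structureModule D.subscheme) 0
  exact e.finrank_eq.trans (VBLib.finrank_H0_structure_eq_one VBLib.bijective_toGlobal_of_isAlgClosed)


/-- Let k be an algebraically closed field, X a curve over k (proper over k, reduced, connected, every
irreducible component of dimension one) and P a closed point of X, with m_P the ideal sheaf of the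
reduced point P viewed as an O_X-module. Then m_P is a torsion-free sheaf of rank one and degree -1:
regular elements of each local ring O_{X,x} act injectively on the stalk of m_P at x, the stalk at
every generic point of an irreducible component has dimension one over the local ring there, and
χ(X, m_P) - χ(X, O_X) = -1. -/
theorem result (k : Type u) [Field k] [IsAlgClosed k] (X : Scheme.{u}) [X.Over (Spec (CommRingCat.of k))] [IsProper (X ↘ (Spec (CommRingCat.of k)))] [IsReduced X] [ConnectedSpace X]
    (hequi : ∀ Z ∈ irreducibleComponents (X : Type u), topologicalKrullDim Z = 1)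
    (P : X) (hP : IsClosed ({P} : Set X)) :
    TorSh.IsTorsionFree (ClSub.idealMod (Scheme.IdealSheafData.vanishingIdeal ⟨{P}, hP⟩)) ∧
    (∀ η : X, closure ({η} : Set X) ∈ irreducibleComponents (X : Type u) →
      Module.finrank (X.presheaf.stalk η) ((ClSub.idealMod (Scheme.IdealSheafData.vanishingIdeal ⟨{P}, hP⟩)).presheaf.stalk η) = 1) ∧
    Curv2.deg k X (ClSub.idealMod (Scheme.IdealSheafData.vanishingIdeal ⟨{P}, hP⟩)) 1 = -1 := by
  let D : X.IdealSheafData := Scheme.IdealSheafData.vanishingIdeal ⟨{P}, hP⟩
  have hD : IntMult.ptIdeal P = D :=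
    congrArg Scheme.IdealSheafData.vanishingIdeal (TopologicalSpace.Closeds.ext hP.closure_eq)
  have hS := EulerChar.shortExact_ideal D
  refine ⟨fun x => ?_, fun η hη => ?_, ?_⟩
  · haveI : Module.IsTorsionFree (X.presheaf.stalk x) ((Coh.structureModule X).presheaf.stalk x) :=
      (HomShQC.unitStalk x).symm.injective.moduleIsTorsionFree _ fun _ _ => map_smul _ _ _
    exact (PullStalk.Exact.stalk_exact hS x).1.moduleIsTorsionFree _ fun _ _ => map_smul _ _ _
  · obtain ⟨hinj, hex, -⟩ := PullStalk.Exact.stalk_exact hS η
    have hne : η ∉ (D.support : Set X) := by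
      rw [Scheme.IdealSheafData.coe_support_vanishingIdeal]
      intro h
      have h' : η = P := h
      subst h'
      have h1 := hequi _ hη
      rw [hP.closure_eq] at h1
      haveI : DiscreteTopology ↥({η} : Set X) := inferInstance
      have h0 := topologicalKrullDim_zero_of_discreteTopology ↥({η} : Set X)
      rw [h1] at h0
      exact absurd h0 (by norm_num)
    haveI : Subsingleton ((ClSub.quotMod D).presheaf.stalk η) := by
      by_contra h
      exact hne (EulerChar.support_quotMod_subset D h)
    have hsurj : Function.Surjective (PullStalk.Exact.stalkLin (ClSub.idealModι D) η) := fun t =>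
      (hex t).1 (Subsingleton.elim (α := (ClSub.quotMod D).presheaf.stalk η) _ _)
    exact ((LinearEquiv.ofBijective _ ⟨hinj, hsurj⟩).trans (HomShQC.unitStalk η).symm).finrank_eq.trans
      (Module.finrank_self _)
  · haveI := EulerChar.isNoetherian k (X := X)
    have hO := VBLib.isCoh_of_ofRank
      (ProjTwist.isFinLocFreeOfRank_one (PicLoc.isInvertible_structureModule X))
    haveI : (Coh.structureModule D.subscheme).IsQuasicoherent :=
      ProjTwist.isQuasicoherent_structureModule D.subscheme
    have hI : Coh.IsCoh (ClSub.idealMod D) :=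
      CohDev.isCoh_kernel (ClSub.toSubscheme D) hO (QCoh.isQuasicoherent_pushforward D.subschemeι _)
    have hQ : Coh.IsCoh (ClSub.quotMod D) :=
      CohDev.isCoh_of_iso ((cokernelIsCokernel (ClSub.idealModι D)).coconePointUniqueUpToIso hS.gIsCokernel)
        (CohDev.isCoh_cokernel (ClSub.idealModι D) hI.1 hO)
    have hsupp : (D.support : Set X) ⊆ {P} := by
      rw [Scheme.IdealSheafData.coe_support_vanishingIdeal]; exact subset_rfl
    have hs : topologicalKrullDim ↥(CohB1.support (ClSub.quotMod D)) ≤ 0 :=
      (TopDimLib.topDim_le_of_subset ((EulerChar.support_quotMod_subset D).trans hsupp)).trans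
        (EulerChar.topDim_le_zero_of_finite (Set.finite_singleton P) fun z hz => (Set.mem_singleton_iff.1 hz) ▸ hP)
    have h1 := EulerChar.euler_add' k (ClSub.idealModι D) (ClSub.toSubscheme D) (kernel.condition _) hS hI hO hQ
    rw [EulerChar.euler_eq_finrank_of_support k hQ hs] at h1
    have h2 : Module.finrank k (Coh.HH X (ClSub.quotMod D) 0) = 1 := hD ▸ finrank_quot_point (k := k) P
    rw [h2] at h1
    show Curv2.euler k X (ClSub.idealMod D) - (1 : ℕ) * Curv2.euler k X (Coh.structureModule X) = -1
    rw [h1]; push_cast; ring

end Groth.Agent.S15922
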