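import Groth.Statements.S15923
import Groth.Agent.NodalLib.NodeSplit
import Groth.Agent.BigVol.PowReg
import Groth.Agent.LFDesc.Invertible
import Groth.Agent.CurveDVR.Stalk
import Groth.Agent.CohDev.Coh

set_option autoImplicit false
universe u
open CategoryTheory CategoryTheory.Limits AlgebraicGeometry
open Curves

namespace Groth.Agent.S15923

open Groth.Agent.PullStalk.Sky Groth.Agent.PullStalk.Exact Groth.Agent.Omega.Stalks OmegaSh
open Groth.Agent.NodalLib IsLocalRing TopologicalSpace

theorem stalkId_self {X : Scheme.{u}} (P : X) (hP : IsClosed ({P} : Set X)) :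
    stalkId (Scheme.IdealSheafData.vanishingIdeal ⟨{P}, hP⟩) P = maximalIdeal _ := by
  obtain ⟨U, hU, hPU, -⟩ := exists_isAffineOpen_mem_and_subset (X := X) (Opens.mem_top P)
  letI := X.presheaf.algebra_section_stalk ⟨P, hPU⟩
  haveI := hU.isLocalization_stalk ⟨P, hPU⟩
  have hpre : hU.fromSpec ⁻¹' ({P} : Set X) = {hU.primeIdealOf ⟨P, hPU⟩} := by
    ext q
    constructor
    · intro h
      exact hU.fromSpec.isOpenEmbedding.injective ((show hU.fromSpec q = P from h).trans (hU.fromSpec_primeIdealOf ⟨P, hPU⟩).symm)
    · rintro rfl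
      exact hU.fromSpec_primeIdealOf ⟨P, hPU⟩
  rw [stalkId_eq _ (U := ⟨U, hU⟩) hPU]
  refine Eq.trans (congrArg _ ?_) (IsLocalization.AtPrime.map_eq_maximalIdeal (hU.primeIdealOf ⟨P, hPU⟩).asIdeal (X.presheaf.stalk P))
  exact (congrArg PrimeSpectrum.vanishingIdeal hpre).trans (PrimeSpectrum.vanishingIdeal_singleton _)


/-- Let k be an algebraically closed field, X a curve over k (proper over k, reduced, connected, every
irreducible component of dimension one) and P a closed point of X, with m_P the ideal sheaf of the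
reduced point P as an O_X-module. Then m_P is invertible (locally on X isomorphic to the structure
sheaf) exactly when some open neighbourhood of P is smooth over k. -/
theorem result (k : Type u) [Field k] [IsAlgClosed k] (X : Scheme.{u}) [X.Over (Spec (CommRingCat.of k))] [IsProper (X ↘ (Spec (CommRingCat.of k)))] [IsReduced X] [ConnectedSpace X]
    (hequi : ∀ Z ∈ irreducibleComponents (X : Type u), topologicalKrullDim Z = 1)
    (P : X) (hP : IsClosed ({P} : Set X)) :
    PicF.IsInvertible (ClSub.idealMod (Scheme.IdealSheafData.vanishingIdeal ⟨{P}, hP⟩)) ↔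
      ∃ U : X.Opens, P ∈ U ∧ Smooth (U.ι ≫ (X ↘ (Spec (CommRingCat.of k)))) := by
  haveI : IsLocallyNoetherian X := LocallyOfFiniteType.isLocallyNoetherian (X ↘ Spec (CommRingCat.of k))
  haveI : CompactSpace X := Groth.Agent.EulerChar.compactSpace k (X := X)
  haveI : IsNoetherian X := {}
  let I := Scheme.IdealSheafData.vanishingIdeal (⟨{P}, hP⟩ : Closeds X)
  have hres : letI := Curv2.resAlgebra k X P
      Algebra.IsGeometricallyReduced k (X.residueField P) := by
    letI := Curv2.resAlgebra k X P
    exact Groth.Agent.FBase.TensorAlgClosed.isGeometricallyReduced_of_perfectField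
  constructor
  · intro h
    obtain ⟨b⟩ := Groth.Agent.LFDesc.exists_basis_stalk h P
    set a := idealStalk I P (b 0) with ha
    have hm : maximalIdeal (X.presheaf.stalk P) = Ideal.span {a} := by
      rw [← stalkId_self P hP]
      refine le_antisymm ?_ ((Ideal.span_singleton_le_iff_mem _).mpr ⟨_, rfl⟩)
      rintro _ ⟨t, rfl⟩
      rw [show t = b.repr t 0 • b 0 by conv_lhs => rw [← b.sum_repr t, Fin.sum_univ_one], map_smul]
      exact Ideal.mul_mem_left _ _ (Ideal.subset_span rfl)
    have hreg : a ∈ nonZeroDivisors (X.presheaf.stalk P) := mem_nonZeroDivisors_iff_right.mpr fun r hr => by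
      have h2 : r • b 0 = 0 :=
        idealStalk_injective I P (((map_smul _ r (b 0)).trans hr).trans (map_zero (idealStalk I P)).symm)
      simpa using congrArg (fun v => b.repr v 0) h2
    haveI : (Ideal.span {a}).IsMaximal := hm ▸ maximalIdeal.isMaximal _
    letI := Ideal.Quotient.field (Ideal.span {a})
    haveI : IsRegularLocalRing (X.presheaf.stalk P ⧸ Ideal.span {a}) := inferInstance
    haveI : IsRegularLocalRing (X.presheaf.stalk P) :=
      Groth.Agent.RegLoc.isRegularLocalRing_of_quotient_span_singleton (hm ▸ Ideal.subset_span rfl) hreg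
    have hs := (Groth.Agent.GeomLoc.mem_smoothLocus_iff_isRegularLocalRing (k := k) P hres).mpr ‹_›
    exact ⟨_, hs, Groth.Agent.StrictSSLib.smooth_smoothLocus (X ↘ Spec (CommRingCat.of k))⟩
  · rintro ⟨U, hPU, hU⟩
    haveI := hU
    haveI := Groth.Agent.CurveDVR.isRegularLocalRing_stalk (U.ι ≫ (X ↘ Spec (CommRingCat.of k))) ⟨P, hPU⟩
    haveI : IsRegularLocalRing (X.presheaf.stalk P) :=
      IsRegularLocalRing.of_ringEquiv (U.stalkIso ⟨P, hPU⟩).commRingCatIsoToRingEquiv
    haveI := Groth.Agent.RegLoc.isDomain (X.presheaf.stalk P)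
    obtain ⟨s, hs, hsreg⟩ := Groth.Agent.StrictSSLib.exists_isRegular_mem hequi hP
    have hdim : ringKrullDim (X.presheaf.stalk P) = 1 := by
      refine le_antisymm ?_ ?_
      · haveI : Ring.KrullDimLE 1 (X.presheaf.stalk P) := krullDimLE_of_coheight_le (z := P) (n := 1) (by
          refine Order.coheight_le fun p hp => ?_
          by_contra hlen
          push Not at hlen
          have h2le : 2 ≤ p.length := by exact_mod_cast hlen
          have e01 : p ⟨0, by omega⟩ < p ⟨1, by omega⟩ := p.strictMono (by simp [Fin.lt_def])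
          have e12 : p ⟨1, by omega⟩ < p ⟨2, by omega⟩ := p.strictMono (by simp [Fin.lt_def])
          rcases Groth.Agent.StrictSSLib.isClosed_or_coheight_eq_zero (fun Z hZ => (hequi Z hZ).le) (p ⟨1, by omega⟩) with h | h
          · have h' := specializes_iff_mem_closure.mp (show p ⟨1, by omega⟩ ⤳ p ⟨0, by omega⟩ from e01.le)
            rw [h.closure_eq] at h'
            exact e01.ne (Set.mem_singleton_iff.mp h')
          · exact e12.not_ge (Order.coheight_eq_zero.mp h e12.le))
        exact_mod_cast Ring.krullDimLE_iff.mp this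
      · by_contra hlt
        haveI : Ring.KrullDimLE 0 (X.presheaf.stalk P) := Ring.krullDimLE_iff.mpr (by
          have h := lt_of_not_ge hlt
          generalize ringKrullDim (X.presheaf.stalk P) = d at h
          induction d using WithBot.recBotCoe with
          | bot => exact bot_le
          | coe a => exact_mod_cast (Order.lt_one_iff.mp (WithBot.coe_lt_coe.mp h)).le)
        have hb : maximalIdeal (X.presheaf.stalk P) = ⊥ :=
          ((Ideal.isMaximal_of_isPrime (⊥ : Ideal _)).eq_of_le (maximalIdeal.isMaximal _).ne_top bot_le).symm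
        rw [hb] at hs
        exact hsreg.ne_zero hs
    haveI := Groth.Agent.CurveDVR.isDiscreteValuationRing_of_regular (X.presheaf.stalk P) hdim
    obtain ⟨π, hπ⟩ := IsDiscreteValuationRing.exists_irreducible (X.presheaf.stalk P)
    have hc : Coh.IsCoh (ClSub.idealMod I) := Groth.Agent.BigVol.PowReg.isCoh_idealMod I
    haveI := hc.1
    refine Groth.Agent.LFDesc.isInvertible_of_stalks _ (fun W hW => Groth.Agent.CohDev.finite_sections hc hW) fun x => ?_
    obtain ⟨c, hc0, hrange⟩ : ∃ c : X.presheaf.stalk x, (∀ r, r * c = 0 → r = 0) ∧ stalkId I x = Ideal.span {c} := by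
      by_cases hx : x = P
      · subst hx
        exact ⟨π, fun r hr => (mul_eq_zero.mp hr).resolve_right hπ.ne_zero,
          (stalkId_self x hP).trans hπ.maximalIdeal_eq⟩
      · exact ⟨1, fun r hr => by rwa [mul_one] at hr,
          (stalkId_eq_top (Z := ⟨{P}, hP⟩) hx).trans Ideal.span_singleton_one.symm⟩
    obtain ⟨t, ht⟩ : c ∈ stalkId I x := hrange ▸ Ideal.subset_span rfl
    refine ⟨Module.Basis.ofEquivFun (LinearEquiv.ofBijective
      (Fintype.linearCombination (X.presheaf.stalk x) (fun _ : Fin 1 => t)) ⟨?_, fun v => ?_⟩).symm⟩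
    · refine (injective_iff_map_eq_zero _).mpr fun r hr => funext fun i => ?_
      rw [Subsingleton.elim i 0]
      refine hc0 _ ?_
      have h2 := congrArg (idealStalk I x) hr
      simpa [Fintype.linearCombination_apply, ht] using h2
    · obtain ⟨r, hr⟩ := Ideal.mem_span_singleton'.mp (hrange.le (show idealStalk I x v ∈ stalkId I x from ⟨v, rfl⟩))
      exact ⟨fun _ => r, idealStalk_injective I x (by simpa [Fintype.linearCombination_apply, ht] using hr)⟩

end Groth.Agent.S15923
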