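import Groth.Statements.S15936
import Groth.Agent.CanonTriv.Basic
import Groth.Agent.ProjTwist.Invertible
import Groth.Agent.ProjTwist.Tensor
import Groth.Agent.AmpleLib.Basic
import Groth.Agent.QCoh.Qcqs
import Groth.Agent.PicCl.Basic
import Groth.Agent.LFDesc.Invertible
-- import your own Groth.Agent.* helpers here

set_option autoImplicit false
universe u
open CategoryTheory CategoryTheory.Limits AlgebraicGeometry
open Canon

namespace Groth.Agent.S15936

open Groth.Agent

/-- Let S be a locally Noetherian scheme and f : X ⟶ S a locally projective morphism, smooth of relative
dimension n, whose fibres are non-empty and geometrically connected; let ω be an n-th exterior power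
of the sheaf of relative differentials of f (the relative canonical sheaf K_{X/S}) and let m ≥ 1 be
an integer such that the evaluation map f^* f_* K^{⊗m} ⟶ K^{⊗m}, the counit of the adjunction
between pullback and pushforward of modules, is an isomorphism. Then the direct image f_* K^{⊗m} is
an invertible O_S-module: finite locally free of rank one. (The published statement has f projective
and smooth, of possibly varying relative dimension, and also asserts that the formation of f_*
K^{⊗m} commutes with base change; this row takes f locally projective of constant relative dimension
n and states the invertibility only.) -/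
theorem result
    {X S : Scheme.{u}} [IsLocallyNoetherian S] (f : X ⟶ S)
    (hproj : RedSub.IsLocallyProjective (Over.mk f))
    (n : ℕ) [SmoothOfRelativeDimension n f] [GeometricallyConnected f]
    (ω : X.Modules) (hω : Canon.IsTopDiff f n ω) (m : ℕ) (hm : 1 ≤ m)
    (hev : IsIso ((Scheme.Modules.pullbackPushforwardAdjunction f).counit.app (CohB1.tensorPow ω m))) :
    FlatMod.IsFinLocFreeOfRank 1 ((Scheme.Modules.pushforward f).obj (CohB1.tensorPow ω m)) := by
  have := CanonTriv.isProper_of_locallyProjective f hproj
  have : Smooth f := SmoothOfRelativeDimension.smooth n f
  have : IsLocallyNoetherian X := LocallyOfFiniteType.isLocallyNoetherian f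
  have hK := AmpleLib.isInvertible_tensorPow (CanonTriv.isInvertible_topDiff f n hω) m
  have : (CohB1.tensorPow ω m).IsQuasicoherent := ProjTwist.isQCoh_of_isInvertible hK
  have := QCoh.isQuasicoherent_pushforward f (CohB1.tensorPow ω m)
  refine ProjTwist.isFinLocFreeOfRank_one (LFDesc.isInvertible_of_pullback f _ ?_)
  have := hev
  exact PicCl.isInvertible_of_iso (asIso
    ((Scheme.Modules.pullbackPushforwardAdjunction f).counit.app (CohB1.tensorPow ω m))).symm hK

end Groth.Agent.S15936
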