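import Groth.Statements.S15938
import Groth.Agent.S15936
import Groth.Agent.Cube.SeesawThm
import Groth.Agent.AbDualLib.Rigid
import Groth.Agent.CBC.TrivBundle
import Groth.Agent.PicCl.Basic
-- import your own Groth.Agent.* helpers here

set_option autoImplicit false
universe u
open CategoryTheory CategoryTheory.Limits AlgebraicGeometry
open Canon

namespace Groth.Agent.S15938

open Groth.Agent

/-- Let S be a locally Noetherian scheme, f : X ⟶ S locally projective and smooth of relative dimension
n with non-empty geometrically connected fibres, ω an n-th exterior power of the relative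
differentials (the relative canonical sheaf K_{X/S}), and m ≥ 1 such that the evaluation map f^* f_*
K^{⊗m} ⟶ K^{⊗m} is an isomorphism. Then the formation of f_* K^{⊗m} commutes with base change: for
every morphism g : S′ ⟶ S with S′ locally Noetherian, writing f′ : X ×_S S′ ⟶ S′ and g′ : X ×_S S′ ⟶
X for the projections, the base-change morphism g^* f_* K^{⊗m} ⟶ f′_* g′^* K^{⊗m} (adjoint to g′^*
of the evaluation map, through the canonical identifications of iterated pullbacks) is an
isomorphism. (The published statement has f projective and smooth, of possibly varying relative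
dimension; this row takes f locally projective of constant relative dimension n and base changes by
locally Noetherian schemes.) -/
theorem result
    {X S : Scheme.{u}} [IsLocallyNoetherian S] (f : X ⟶ S)
    (hproj : RedSub.IsLocallyProjective (Over.mk f))
    (n : ℕ) [SmoothOfRelativeDimension n f] [GeometricallyConnected f]
    (ω : X.Modules) (hω : Canon.IsTopDiff f n ω) (m : ℕ) (hm : 1 ≤ m)
    (hev : IsIso ((Scheme.Modules.pullbackPushforwardAdjunction f).counit.app (CohB1.tensorPow ω m)))
    {S' : Scheme.{u}} [IsLocallyNoetherian S'] (g : S' ⟶ S) :
    IsIso (((Scheme.Modules.pullbackPushforwardAdjunction (pullback.snd f g)).homEquiv _ _)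
      ((Scheme.Modules.pullbackComp (pullback.snd f g) g).hom.app _ ≫
        (Scheme.Modules.pullbackCongr (pullback.condition (f := f) (g := g))).inv.app _ ≫
        (Scheme.Modules.pullbackComp (pullback.fst f g) f).inv.app _ ≫
        (Scheme.Modules.pullback (pullback.fst f g)).map
          ((Scheme.Modules.pullbackPushforwardAdjunction f).counit.app (CohB1.tensorPow ω m)))) := by
  have := CanonTriv.isProper_of_locallyProjective f hproj
  have : Smooth f := SmoothOfRelativeDimension.smooth n f
  have : GeometricallyReduced f := AbDualLib.Rigid.geometricallyReduced_of_smooth f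
  have hM := Groth.Agent.S15936.result f hproj n ω hω m hm hev
  have hMi : PicF.IsInvertible ((Scheme.Modules.pushforward f).obj (CohB1.tensorPow ω m)) :=
    fun y => by
      obtain ⟨U, hy, ⟨φ⟩⟩ := hM y
      exact ⟨U, hy, ⟨φ ≪≫ Limits.coproductUniqueIso fun _ : Fin 1 => Coh.structureModule (U : Scheme.{u})⟩⟩
  have hg := PicCl.isInvertible_pullback g hMi
  have : IsProper (pullback.snd f g) := inferInstance
  have hh := Cube.Seesaw.finrank_eq_one_of_geometrically (pullback.snd f g)
  have happ : ∀ U : S'.Opens, Function.Bijective ((pullback.snd f g).app U) := fun U =>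
    Cube.Universal.bijective_app_self (pullback.snd f g) ⊤ (fun z _ => hh z) U le_top
  have hu := CBC.TrivBundle.isIso_unit (pullback.snd f g) happ hg
  have := hev
  rw [Adjunction.homEquiv_unit]
  exact @IsIso.comp_isIso _ _ _ _ _ _ _ hu inferInstance

end Groth.Agent.S15938
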