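import Groth.Statements.S15939
import Mathlib

set_option autoImplicit false
universe u
open CAlg

namespace Groth.Agent.S15939

open Polynomial

theorem range_eq_top {κ A B : Type u} [Field κ] [CommRing A] [Algebra κ A] [CommRing B] [Algebra κ B]
    [IsSimpleOrder (Subalgebra κ A)] (φ : B →ₐ[κ] A) {x : A} (hx : x ∈ φ.range)
    (hx' : x ∉ (⊥ : Subalgebra κ A)) : Function.Surjective φ := by
  rcases IsSimpleOrder.eq_bot_or_eq_top φ.range with hb | ht
  · exact absurd (hb ▸ hx) hx'
  · intro a
    have : a ∈ φ.range := by rw [ht]; exact Algebra.mem_top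
    exact this

theorem finite {κ A : Type u} [Field κ] [CommRing A] [Algebra κ A]
    [IsSimpleOrder (Subalgebra κ A)] : FiniteDimensional κ A := by
  obtain ⟨a, -, ha⟩ := SetLike.exists_of_lt (bot_lt_top : (⊥ : Subalgebra κ A) < ⊤)
  have hs : Algebra.adjoin κ {a} = ⊤ := (IsSimpleOrder.eq_bot_or_eq_top _).resolve_left
    fun hb => ha (hb ▸ Algebra.self_mem_adjoin_singleton κ a)
  suffices h : IsIntegral κ a by
    exact ⟨by rw [← Algebra.top_toSubmodule, ← hs]; exact h.fg_adjoin_singleton⟩
  by_contra hna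
  have htr : Function.Injective (aeval a : κ[X] →ₐ[κ] A) :=
    transcendental_iff_injective.mp fun h => hna h.isIntegral
  rcases IsSimpleOrder.eq_bot_or_eq_top (Algebra.adjoin κ {a ^ 2}) with hb | ht
  · obtain ⟨c, hc⟩ := Algebra.mem_bot.mp (hb ▸ Algebra.self_mem_adjoin_singleton κ (a ^ 2))
    have := htr (a₁ := X ^ 2) (a₂ := C c) (by simp [hc])
    simpa using congrArg natDegree this
  · have : a ∈ Algebra.adjoin κ {a ^ 2} := ht ▸ Algebra.mem_top
    rw [Algebra.adjoin_singleton_eq_range_aeval] at this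
    obtain ⟨q, hq⟩ := this
    have := htr (a₁ := q.comp (X ^ 2)) (a₂ := X) (by rw [aeval_comp, map_pow, aeval_X]; exact hq)
    have := congrArg natDegree this
    rw [natDegree_comp, natDegree_X_pow, natDegree_X] at this
    omega

theorem dual {κ A : Type u} [Field κ] [CommRing A] [Algebra κ A]
    [IsSimpleOrder (Subalgebra κ A)] (ε : A) (hε : ε ≠ 0) (h2 : ε * ε = 0) :
    Nonempty (A ≃ₐ[κ] DualNumber κ) := by
  haveI : Nontrivial A := ⟨⟨ε, 0, hε⟩⟩
  have hn : ε ∉ (⊥ : Subalgebra κ A) := fun hm => by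
    obtain ⟨c, hc⟩ := Algebra.mem_bot.mp hm
    rw [← hc, ← map_mul, map_eq_zero, mul_self_eq_zero] at h2
    exact hε (by rw [← hc, h2, map_zero])
  let φ : DualNumber κ →ₐ[κ] A := DualNumber.lift ⟨(Algebra.ofId κ A, ε), h2, fun _ => Commute.all _ _⟩
  have he : φ DualNumber.eps = ε := DualNumber.lift_apply_eps _
  refine ⟨(AlgEquiv.ofBijective φ ⟨?_, range_eq_top φ ⟨DualNumber.eps, he⟩ hn⟩).symm⟩
  rw [injective_iff_map_eq_zero]
  intro x hx
  have key : φ x = algebraMap κ A x.fst + algebraMap κ A x.snd * ε := by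
    have : x = algebraMap κ (DualNumber κ) x.fst + algebraMap κ (DualNumber κ) x.snd * DualNumber.eps := by
      refine TrivSqZeroExt.ext ?_ ?_ <;> simp [TrivSqZeroExt.algebraMap_eq_inl]
    conv_lhs => rw [this]
    rw [map_add, map_mul, AlgHom.commutes, AlgHom.commutes, he]
  rw [key] at hx
  have h1 : algebraMap κ A x.fst * ε = 0 := by
    linear_combination ε * hx - algebraMap κ A x.snd * h2
  have hf : x.fst = 0 := by
    by_contra hne
    exact hε (((IsUnit.mk0 _ hne).map (algebraMap κ A)).mul_right_eq_zero.mp h1)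
  rw [hf, map_zero, zero_add] at hx
  have hs : x.snd = 0 := by
    by_contra hne
    exact hε (((IsUnit.mk0 _ hne).map (algebraMap κ A)).mul_right_eq_zero.mp hx)
  exact TrivSqZeroExt.ext hf hs

theorem prod {κ A : Type u} [Field κ] [CommRing A] [Algebra κ A]
    [IsSimpleOrder (Subalgebra κ A)] (e : A) (he : e * e = e) (h0 : e ≠ 0) (h1 : e ≠ 1) :
    Nonempty (A ≃ₐ[κ] (κ × κ)) := by
  haveI : Nontrivial A := ⟨⟨e, 0, h0⟩⟩
  have hn : e ∉ (⊥ : Subalgebra κ A) := fun hm => by
    obtain ⟨c, hc⟩ := Algebra.mem_bot.mp hm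
    rw [← hc, ← map_mul] at he
    rcases mul_left_eq_self₀.mp ((algebraMap κ A).injective he) with h | h
    · exact h1 (by rw [← hc, h, map_one])
    · exact h0 (by rw [← hc, h, map_zero])
  have hcomm : ∀ c d : κ, algebraMap κ A c * algebraMap κ A d = algebraMap κ A (c * d) := fun c d => (map_mul _ _ _).symm
  let φ : κ × κ →ₐ[κ] A :=
    { toFun := fun cd => algebraMap κ A cd.1 * e + algebraMap κ A cd.2 * (1 - e)
      map_one' := by simp
      map_mul' := fun x y => by
        simp only [Prod.fst_mul, Prod.snd_mul, map_mul]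
        linear_combination (-(algebraMap κ A x.1 * algebraMap κ A y.1) - algebraMap κ A x.2 * algebraMap κ A y.2 +
          algebraMap κ A x.1 * algebraMap κ A y.2 + algebraMap κ A x.2 * algebraMap κ A y.1) * he
      map_zero' := by simp
      map_add' := fun x y => by simp only [Prod.fst_add, Prod.snd_add, map_add]; ring
      commutes' := fun c => by simp only [Prod.algebraMap_apply, Algebra.algebraMap_self_apply]; ring }
  refine ⟨(AlgEquiv.ofBijective φ ⟨?_, range_eq_top φ ⟨(1, 0), by simp [φ]⟩ hn⟩).symm⟩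
  rw [injective_iff_map_eq_zero]
  rintro ⟨c, d⟩ hx
  change algebraMap κ A c * e + algebraMap κ A d * (1 - e) = 0 at hx
  have hc : algebraMap κ A c * e = 0 := by linear_combination e * hx + (algebraMap κ A d - algebraMap κ A c) * he
  have hd : algebraMap κ A d * (1 - e) = 0 := by linear_combination hx - hc
  have hc' : c = 0 := by
    by_contra hne
    exact h0 (((IsUnit.mk0 _ hne).map (algebraMap κ A)).mul_right_eq_zero.mp hc)
  have hd' : d = 0 := by
    by_contra hne
    exact h1 (sub_eq_zero.mp (((IsUnit.mk0 _ hne).map (algebraMap κ A)).mul_right_eq_zero.mp hd)).symm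
  rw [hc', hd']; rfl

theorem insep {κ A : Type u} [Field κ] [Field A] [Algebra κ A]
    [IsSimpleOrder (Subalgebra κ A)] (hsep : ¬ Algebra.IsSeparable κ A) :
    ∃ (p : ℕ) (a : κ), p.Prime ∧ CharP κ p ∧ (∀ b : κ, b ^ p ≠ a) ∧
          Nonempty (A ≃ₐ[κ] AdjoinRoot (X ^ p - C a)) := by
  haveI : FiniteDimensional κ A := finite
  have hbot : separableClosure κ A = ⊥ := by
    rcases IsSimpleOrder.eq_bot_or_eq_top (separableClosure κ A).toSubalgebra with hb | ht
    · exact IntermediateField.toSubalgebra_injective (hb.trans IntermediateField.bot_toSubalgebra.symm)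
    · exact absurd ((separableClosure.eq_top_iff (F := κ) (E := A)).mp
        (IntermediateField.toSubalgebra_injective (ht.trans IntermediateField.top_toSubalgebra.symm))) hsep
  haveI : IsPurelyInseparable κ A := separableClosure.eq_bot_iff.mp hbot
  obtain ⟨p, hp⟩ := ExpChar.exists κ
  cases hp with
  | zero =>
    exact absurd (inferInstance : Algebra.IsSeparable κ A) hsep
  | prime hpp =>
    haveI : Fact p.Prime := ⟨hpp⟩
    haveI : CharP κ p := by assumption
    obtain ⟨a, -, ha⟩ := SetLike.exists_of_lt (bot_lt_top : (⊥ : Subalgebra κ A) < ⊤)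
    obtain ⟨b, hb, c, hc⟩ : ∃ b : A, b ∉ (⊥ : Subalgebra κ A) ∧ ∃ c : κ, algebraMap κ A c = b ^ p := by
      obtain ⟨n, hn⟩ := IsPurelyInseparable.pow_mem κ p a
      induction n generalizing a with
      | zero => exact absurd (by simpa [Algebra.mem_bot] using hn) ha
      | succ n ih =>
        by_cases hm : a ^ p ∈ (⊥ : Subalgebra κ A)
        · exact ⟨a, ha, Algebra.mem_bot.mp hm⟩
        · exact ih (a ^ p) hm (by rwa [← pow_mul, ← pow_succ'])
    haveI : CharP A p := charP_of_injective_algebraMap (algebraMap κ A).injective p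
    have hnp : ∀ d : κ, d ^ p ≠ c := by
      intro d hd
      apply hb
      have : algebraMap κ A d ^ p = b ^ p := by rw [← map_pow, hd, hc]
      exact Algebra.mem_bot.mpr ⟨d, frobenius_inj A p this⟩
    refine ⟨p, c, hpp, inferInstance, hnp, ?_⟩
    haveI : Fact (Irreducible (X ^ p - C c)) := ⟨X_pow_sub_C_irreducible_of_prime hpp hnp⟩
    have hev : aeval b (X ^ p - C c) = 0 := by simp [hc]
    let φ : AdjoinRoot (X ^ p - C c) →ₐ[κ] A := AdjoinRoot.liftAlgHom _ (Algebra.ofId κ A) b hev
    exact ⟨(AlgEquiv.ofBijective φ ⟨(φ : AdjoinRoot (X ^ p - C c) →+* A).injective,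
      range_eq_top φ ⟨AdjoinRoot.root _, AdjoinRoot.liftAlgHom_root _ _ _ _⟩ hb⟩).symm⟩

open Polynomial in
/-- Let κ be a field and A a commutative κ-algebra whose only κ-subalgebras are the image of κ and A
itself, these two being different. Then A is finite-dimensional over κ, and A is isomorphic as a
κ-algebra to the dual numbers over κ, or to κ × κ, or A is a field which is either separable over κ
or isomorphic to κ[X]/(X^p - a) with p the (positive) characteristic of κ and a an element of κ that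
is not a p-th power. (The published statement also records that these four cases exclude one
another; that part is not restated.) -/
theorem result (κ A : Type u) [Field κ] [CommRing A] [Algebra κ A]
    (h : IsSimpleOrder (Subalgebra κ A)) :
    FiniteDimensional κ A ∧
    (Nonempty (A ≃ₐ[κ] DualNumber κ) ∨ Nonempty (A ≃ₐ[κ] (κ × κ)) ∨
      (IsField A ∧ (Algebra.IsSeparable κ A ∨
        ∃ (p : ℕ) (a : κ), p.Prime ∧ CharP κ p ∧ (∀ b : κ, b ^ p ≠ a) ∧
          Nonempty (A ≃ₐ[κ] AdjoinRoot (X ^ p - C a))))) := by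
  haveI := h
  haveI : FiniteDimensional κ A := finite
  refine ⟨finite, ?_⟩
  haveI : Nontrivial A := by
    by_contra hA
    rw [not_nontrivial_iff_subsingleton] at hA
    exact (bot_lt_top : (⊥ : Subalgebra κ A) < ⊤).ne (SetLike.ext fun x => by
      simp [Subsingleton.elim x 0])
  by_cases hred : IsReduced A
  swap
  · left
    obtain ⟨x, hx, hx0⟩ : ∃ x : A, IsNilpotent x ∧ x ≠ 0 := by
      by_contra hc; push Not at hc
      exact hred ⟨fun x hx => hc x hx⟩
    obtain ⟨n, hn, hlast⟩ : ∃ n, x ^ (n + 1) = 0 ∧ x ^ n ≠ 0 := by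
      classical
      obtain ⟨m, hm⟩ := hx
      have hpos : Nat.find (p := fun k => x ^ k = 0) ⟨m, hm⟩ ≠ 0 := fun h0 => by
        have := Nat.find_spec (p := fun k => x ^ k = 0) ⟨m, hm⟩
        rw [h0, pow_zero] at this
        exact one_ne_zero this
      obtain ⟨n, hn⟩ := Nat.exists_eq_succ_of_ne_zero hpos
      refine ⟨n, ?_,
        Nat.find_min (p := fun k => x ^ k = 0) ⟨m, hm⟩ (by omega)⟩
      have := Nat.find_spec (p := fun k => x ^ k = 0) ⟨m, hm⟩
      rwa [hn] at this
    refine dual (x ^ n) hlast ?_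
    cases n with
    | zero => simp at hn; exact absurd hn hx0
    | succ k => rw [← pow_add, show k + 1 + (k + 1) = k + 1 + 1 + k by omega, pow_add, hn, zero_mul]
  right
  by_cases hf : IsField A
  swap
  · left
    haveI : IsArtinianRing A := IsArtinianRing.of_finite κ A
    obtain ⟨x, hx0, hxu⟩ : ∃ x : A, x ≠ 0 ∧ ¬ IsUnit x := by
      by_contra hc; push Not at hc
      exact hf ⟨⟨0, 1, zero_ne_one⟩, mul_comm, fun {x} hx => (hc x hx).exists_right_inv⟩
    obtain ⟨n, a, ha⟩ := IsArtinian.exists_pow_succ_smul_dvd x (1 : A)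
    simp only [Nat.succ_eq_add_one, smul_eq_mul, mul_one] at ha
    have hxa : x * (1 - x * a) = 0 := by
      apply IsReduced.eq_zero
      refine ⟨n + 1, ?_⟩
      rw [mul_pow, pow_succ (1 - x * a) n, ← mul_assoc, mul_comm _ (1 - x * a), ← mul_assoc]
      have : (1 - x * a) * x ^ (n + 1) = (x ^ n - x ^ (n + 1) * a) * x := by ring
      rw [this, ha, sub_self, zero_mul, zero_mul]
    refine prod (x * a) ?_ ?_ ?_
    · linear_combination (-a) * hxa
    · intro h0
      exact hx0 (by linear_combination hxa + x * h0)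
    · intro h1
      exact hxu (IsUnit.of_mul_eq_one _ h1)
  right
  refine ⟨hf, ?_⟩
  letI := hf.toField
  by_cases hs : Algebra.IsSeparable κ A
  · exact Or.inl hs
  · exact Or.inr (insep hs)

end Groth.Agent.S15939
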