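import Groth.Statements.S1594
import Groth.Agent.StrictSSLib.NodalDescent
import Groth.Agent.AlgSpCov.SchemeDescent
import Mathlib.AlgebraicGeometry.Morphisms.LocalFlatDescent

set_option linter.style.haveILetI false
set_option backward.isDefEq.respectTransparency.types false

set_option autoImplicit false
universe u
open CategoryTheory CategoryTheory.Limits AlgebraicGeometry
open Curves

namespace Groth.Agent.S1594

/-- (2) implies (1), for a covering by one flat quasi-compact surjective morphism: let f : X → S and g :
S' → S flat, quasi-compact and surjective. If the base change X ×_S S' → S' is at-worst-nodal of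
relative dimension one then so is f. -/
theorem result {X S S' : Scheme.{u}} (f : X ⟶ S) (g : S' ⟶ S) [Flat g] [QuasiCompact g] [Surjective g]
    (h : Curv2.IsNodalFamily (pullback.snd f g)) : Curv2.IsNodalFamily f := by
  obtain ⟨hfl, hfp, hfib⟩ := (StrictSSLib.isNodalFamily_iff _).mp h
  let f' := pullback.snd f g
  let g' := pullback.fst f g
  have hsq : IsPullback g' f' f g := IsPullback.of_hasPullback f g
  haveI hfp' : LocallyOfFinitePresentation f :=
    MorphismProperty.of_isPullback_of_descendsAlong (P := @LocallyOfFinitePresentation.{u})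
      (Q := @Surjective ⊓ @Flat ⊓ @QuasiCompact) hsq.flip ⟨⟨inferInstance, inferInstance⟩, inferInstance⟩ hfp
  haveI hfl' : Flat f :=
    MorphismProperty.of_isPullback_of_descendsAlong (P := @Flat.{u})
      (Q := AlgSpCov.Fpqc.{u}) hsq.flip ⟨⟨inferInstance, inferInstance⟩, inferInstance⟩ hfl
  refine (StrictSSLib.isNodalFamily_iff f).mpr ⟨hfl', hfp', fun s => ?_⟩
  obtain ⟨s', rfl⟩ := g.surjective s
  let k := Spec.map (g.residueFieldMap s')
  have hk : k ≫ S.fromSpecResidueField (g s') = S'.fromSpecResidueField s' ≫ g :=
    Scheme.Hom.SpecMap_residueFieldMap_fromSpecResidueField g s'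
  let l : f'.fiber s' ⟶ f.fiber (g s') :=
    pullback.lift (f'.fiberι _ ≫ g') (f'.fiberToSpecResidueField _ ≫ k) (by
      rw [Category.assoc, hsq.w, ← Category.assoc, f'.fiber_fac, Category.assoc, Category.assoc, hk])
  have hfst : l ≫ f.fiberι (g s') = f'.fiberι _ ≫ g' := pullback.lift_fst _ _ _
  have h1 : IsPullback (f'.fiberι s' ≫ g') (f'.fiberToSpecResidueField s') f (k ≫ S.fromSpecResidueField (g s')) := by
    rw [hk]
    exact (IsPullback.of_hasPullback f' (S'.fromSpecResidueField s')).paste_horiz hsq
  have h2 : IsPullback l (f'.fiberToSpecResidueField s') (f.fiberToSpecResidueField (g s')) k :=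
    IsPullback.of_right (hfst.symm ▸ h1) (pullback.lift_snd _ _ _)
      (IsPullback.of_hasPullback f (S.fromSpecResidueField (g s')))
  letI : Algebra (S.residueField (g s')) (S'.residueField s') := (g.residueFieldMap s').hom.toAlgebra
  exact StrictSSLib.IsNodalCurve.of_isPullback (k := S.residueField (g s')) (K := S'.residueField s') h2 (hfib s')

end Groth.Agent.S1594
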