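import Groth.Statements.S15941


set_option autoImplicit false
universe u
open HTop

namespace Groth.Agent.S15941

/-- An integrally closed integral domain is a seminormal ring, that is, whenever x^3 = y^2 there is
exactly one element a with x = a^2 and y = a^3. (The published statement is for a normal Noetherian
scheme and reduces at once to this affine integral case; the Noetherian hypothesis plays no role.) -/
theorem result (A : Type u) [CommRing A] [IsDomain A]
    [IsIntegrallyClosed A] : HTop.IsSeminormalRing A := by
  intro x y h
  have hinj := IsFractionRing.injective A (FractionRing A)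
  obtain ⟨a, ha⟩ : ∃ a, algebraMap A (FractionRing A) a =
      algebraMap A (FractionRing A) y / algebraMap A (FractionRing A) x := by
    refine IsIntegrallyClosed.isIntegral_iff.mp (IsIntegral.of_pow two_pos ?_)
    by_cases hx : algebraMap A (FractionRing A) x = 0
    · rw [hx, div_zero, zero_pow two_ne_zero]; exact isIntegral_zero
    · rw [div_pow, ← map_pow, ← h, map_pow, pow_succ', mul_div_assoc, div_self (pow_ne_zero 2 hx),
        mul_one]
      exact isIntegral_algebraMap
  by_cases hx : x = 0
  · have hy : y = 0 := (pow_eq_zero_iff two_ne_zero).mp (by rw [← h, hx, zero_pow three_ne_zero])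
    exact ⟨0, ⟨by simp [hx], by simp [hy]⟩, fun b hb =>
      (pow_eq_zero_iff two_ne_zero).mp (hb.1.symm.trans hx)⟩
  have hxa : x * a = y := hinj (by
    rw [map_mul, ha, mul_div_cancel₀]
    exact fun h => hx (hinj (h.trans (map_zero _).symm)))
  have h2 : x = a ^ 2 := mul_left_cancel₀ (pow_ne_zero 2 hx) (by rw [← pow_succ, h, ← hxa]; ring)
  have h3 : y = a ^ 3 := by rw [← hxa, h2]; ring
  refine ⟨a, ⟨h2, h3⟩, fun b hb => ?_⟩
  refine mul_left_cancel₀ hx ?_
  rw [hxa, hb.2]
  linear_combination b * hb.1

end Groth.Agent.S15941
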