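import Groth.Statements.S15949
import Groth.Agent.Chow.Coords
import Groth.Agent.ProperFin.PnBase
import Groth.Agent.AbVarLib.RatLine
import Groth.Agent.GrpScheme.IdComponent
-- import your own Groth.Agent.* helpers here

set_option autoImplicit false
universe u
open AlgGrp

namespace Groth.Agent.S15949

section Charts

open CategoryTheory AlgebraicGeometry MvPolynomial Groth.Agent.Chow Groth.Agent.AbVarLib

variable {k : Type u} [Field k]

/-- Ring maps into sections of an affine scheme. -/
noncomputable def gam {R : Type u} [CommRing R] :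
    R →+* Γ(Spec (CommRingCat.of R), ⊤) := (Scheme.ΓSpecIso (CommRingCat.of R)).inv.hom

lemma comp_gam {R S : Type u} [CommRing R] [CommRing S] (f : R →+* S) :
    (Spec.map (CommRingCat.ofHom f)).appTop.hom.comp gam = gam.comp f := by
  exact (congrArg CommRingCat.Hom.hom (Scheme.ΓSpecIso_inv_naturality (CommRingCat.ofHom f))).symm

variable {R : Type u} [CommRing R] [Algebra k R]

/-- Evaluation at coordinates. -/
noncomputable def evR (v : Fin 2 → R) : MvPolynomial (Fin (1 + 1)) k →+* Γ(Spec (CommRingCat.of R), ⊤) :=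
  gam.comp (eval₂Hom (algebraMap k R) v)

lemma evR_eq (v : Fin 2 → R) :
    evR (k := k) v = eval₂Hom (gam.comp (algebraMap k R)) (fun i => gam (v i)) := by
  refine MvPolynomial.ringHom_ext (fun r => ?_) fun j => ?_ <;> simp [evR]

lemma isUnit_evR (v : Fin 2 → R) (i : Fin 2) (h : IsUnit (v i)) : IsUnit (evR (k := k) v (X i)) := by
  simpa [evR] using h.map gam

lemma sp_comp_pt {S : Type u} [CommRing S] [Algebra k S] (f : R →ₐ[k] S) (v : Fin 2 → R) (i : Fin 2)
    (h : IsUnit (evR (k := k) v (X i))) (h' : IsUnit (evR (k := k) (fun j => f (v j)) (X i))) :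
    Spec.map (CommRingCat.ofHom f.toRingHom) ≫ pt (evR v) (X i) (X_mem i) one_pos h =
      pt (evR fun j => f (v j)) (X i) (X_mem i) one_pos h' := by
  rw [comp_pt]
  refine pt_congr ?_ rfl rfl _ _ _ _ _ _
  rw [evR, ← RingHom.comp_assoc, comp_gam, RingHom.comp_assoc, evR]
  congr 1
  refine MvPolynomial.ringHom_ext (fun r => ?_) fun j => ?_ <;> simp

lemma pt_toSpec' (v : Fin 2 → R) (i : Fin 2) (h : IsUnit (evR (k := k) v (X i))) :
    pt (evR v) (X i) (X_mem i) one_pos h ≫ str 1 k =
      Spec.map (CommRingCat.ofHom (algebraMap k R)) := by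
  rw [pt_toSpec, show (evR (k := k) v).comp C = gam.comp (algebraMap k R) by
    ext r; simp [evR]]
  have h2 : specHom (Spec.map (CommRingCat.ofHom (algebraMap k R))) = gam.comp (algebraMap k R) :=
    comp_gam _
  rw [← h2, toSpecΓ_specHom]

variable (k) in
/-- The coordinates of the two standard lines. -/
noncomputable def line (i : Fin 2) : Fin 2 → Polynomial k :=
  if i = 0 then ![1, Polynomial.X] else ![Polynomial.X, 1]

lemma line_self (i : Fin 2) : line k i i = 1 := by fin_cases i <;> simp [line]

variable (k) in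
/-- The standard charts. -/
noncomputable def cline (i : Fin 2) : Spec (CommRingCat.of (Polynomial k)) ⟶ Pr 1 k :=
  pt (evR (line k i)) (X i) (X_mem i) one_pos (isUnit_evR _ _ (by rw [line_self]; exact isUnit_one))

theorem eq_const {G : Over (Spec (CommRingCat.of k))} [GrpObj G] [IsSeparated G.hom]
    (ψ : Pr 1 k ⟶ G.left) (hψ : ψ ≫ G.hom = str 1 k) :
    ∃ g : Spec (CommRingCat.of k) ⟶ G.left, g ≫ G.hom = 𝟙 _ ∧ ψ = str 1 k ≫ g := by
  let F : Fin 2 → (RatLine.O k (Polynomial k) ⟶ G) := fun i =>
    Over.homMk (cline k i ≫ ψ) (by rw [Category.assoc, hψ]; exact pt_toSpec' _ _ _)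
  have hT : IsUnit (LaurentPolynomial.T (-1) : LaurentPolynomial k) := LaurentPolynomial.isUnit_T _
  have ej₀ : RatLine.j₀ (k := k) Polynomial.X = LaurentPolynomial.T 1 := by simp [RatLine.j₀]
  have eji : RatLine.ji (k := k) Polynomial.X = LaurentPolynomial.T (-1) := by simp [RatLine.ji]
  have hF : RatLine.sp (RatLine.j₀ (k := k)) ≫ F 0 = RatLine.sp RatLine.ji ≫ F 1 := by
    refine Over.OverMorphism.ext ?_
    show Spec.map _ ≫ cline k 0 ≫ ψ = Spec.map _ ≫ cline k 1 ≫ ψ
    rw [← Category.assoc, ← Category.assoc]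
    congr 1
    have u0 : ∀ i : Fin 2, IsUnit (RatLine.j₀ (k := k) (line k 0 i)) := fun i => by
      fin_cases i <;> simp [line, ej₀, LaurentPolynomial.isUnit_T]
    have u1 : ∀ i : Fin 2, IsUnit (RatLine.ji (k := k) (line k 1 i)) := fun i => by
      fin_cases i <;> simp [line, eji, LaurentPolynomial.isUnit_T]
    rw [cline, cline, sp_comp_pt _ _ _ _ (isUnit_evR _ _ (u0 0)),
      sp_comp_pt _ _ _ _ (isUnit_evR _ _ (u1 1)),
      pt_eq_of_isUnit _ (X_mem 0) one_pos (X_mem 1) one_pos _ (isUnit_evR _ _ (u0 1))]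
    have hc : ∀ i, RatLine.ji (k := k) (line k 1 i) =
        LaurentPolynomial.T (-1) * RatLine.j₀ (line k 0 i) := fun i => by
      have hT0 : (LaurentPolynomial.T (-1) * LaurentPolynomial.T 1 : LaurentPolynomial k) = 1 := by
        rw [← LaurentPolynomial.T_add]; norm_num
      fin_cases i
      · show RatLine.ji (Polynomial.X : Polynomial k) = LaurentPolynomial.T (-1) * RatLine.j₀ 1
        rw [eji, map_one, _root_.mul_one]
      · show RatLine.ji (1 : Polynomial k) = LaurentPolynomial.T (-1) * RatLine.j₀ Polynomial.X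
        rw [map_one, ej₀, hT0]
    have e1 : evR (k := k) (fun i => RatLine.ji (line k 1 i)) =
        eval₂Hom (gam.comp (algebraMap k (LaurentPolynomial k)))
          (fun i => gam (LaurentPolynomial.T (-1)) * gam (RatLine.j₀ (line k 0 i))) := by
      rw [evR_eq]
      congr 1
      funext i
      rw [hc, map_mul]
    have e0 := evR_eq (k := k) (fun i => RatLine.j₀ (line k 0 i))
    rw [pt_congr e1 rfl rfl (X_mem 1) one_pos _ (X_mem 1) one_pos (e1 ▸ isUnit_evR _ _ (u1 1)),
      pt_congr e0 rfl rfl (X_mem 1) one_pos _ (X_mem 1) one_pos (e0 ▸ isUnit_evR _ _ (u0 1))]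
    exact (pt_scale _ _ _ (hT.map gam) _ _ _ _).symm
  have h0 := RatLine.eq_const_of_charts (F 0) (F 1) hF
  have h1 := RatLine.eq_const_of_charts (F 1) (F 0) (by
    let inv : LaurentPolynomial k →ₐ[k] LaurentPolynomial k := (LaurentPolynomial.invert (R := k)).toAlgHom
    have e1 : inv.comp (RatLine.ji (k := k)) = RatLine.j₀ := Polynomial.algHom_ext (by
      simp [inv, RatLine.j₀, RatLine.ji])
    have e2 : inv.comp (RatLine.j₀ (k := k)) = RatLine.ji := Polynomial.algHom_ext (by
      simp [inv, RatLine.j₀, RatLine.ji])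
    have := RatLine.sp inv ≫= hF
    rw [← Category.assoc, ← RatLine.sp_comp, e2, ← Category.assoc, ← RatLine.sp_comp, e1] at this
    exact this.symm)
  let g : Fin 2 → (RatLine.O k k ⟶ G) := fun i => RatLine.sp (Polynomial.aeval (0 : k)) ≫ F i
  have hg : g 0 = g 1 := by
    have := RatLine.sp (Polynomial.aeval (1 : k)) ≫= h0
    have h01 : RatLine.sp (Polynomial.aeval (1 : k)) ≫ F 0 = g 0 := by
      rw [this, ← Category.assoc, ← RatLine.sp_comp]
      have : (Polynomial.aeval (1 : k)).comp (Algebra.ofId k (Polynomial k)) = AlgHom.id k k :=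
        Subsingleton.elim _ _
      rw [this]
      exact Over.OverMorphism.ext (by
        show Spec.map _ ≫ _ = _
        simp [g])
    have := RatLine.sp (Polynomial.aeval (1 : k)) ≫= h1
    have h11 : RatLine.sp (Polynomial.aeval (1 : k)) ≫ F 1 = g 1 := by
      rw [this, ← Category.assoc, ← RatLine.sp_comp]
      have : (Polynomial.aeval (1 : k)).comp (Algebra.ofId k (Polynomial k)) = AlgHom.id k k :=
        Subsingleton.elim _ _
      rw [this]
      exact Over.OverMorphism.ext (by
        show Spec.map _ ≫ _ = _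
        simp [g])
    let e : LaurentPolynomial k →ₐ[k] k :=
      { LaurentPolynomial.eval₂ (RingHom.id k) 1 with
        commutes' := fun r => by
          show LaurentPolynomial.eval₂ _ _ (algebraMap k (LaurentPolynomial k) r) = _
          rw [← LaurentPolynomial.C_eq_algebraMap, LaurentPolynomial.eval₂_C]; rfl }
    have := RatLine.sp e ≫= hF
    rw [← Category.assoc, ← RatLine.sp_comp, ← Category.assoc, ← RatLine.sp_comp,
      show e.comp RatLine.j₀ = Polynomial.aeval (1 : k) from Polynomial.algHom_ext (by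
        simp [e, ej₀, LaurentPolynomial.eval₂_T]),
      show e.comp RatLine.ji = Polynomial.aeval (1 : k) from Polynomial.algHom_ext (by
        simp [e, eji, LaurentPolynomial.eval₂_T]), h01, h11] at this
    exact this
  refine ⟨(g 0).left, by
    have := Over.w (g 0)
    simpa [RatLine.O] using this, ?_⟩
  let 𝒰 := Proj.affineOpenCoverOfIrrelevantLESpan (CohB1.polyGrading 1 k)
    (fun i : Fin 2 => (X i : MvPolynomial (Fin 2) k)) (m := fun _ => 1) (fun i => X_mem i)
    (fun _ => one_pos) (ProperFin.irrelevant_le_span 1)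
  refine Scheme.Cover.hom_ext 𝒰.openCover _ _ fun (i : Fin 2) => ?_
  show chart 1 k i ≫ ψ = chart 1 k i ≫ str 1 k ≫ (g 0).left
  let A := HomogeneousLocalization.Away (CohB1.polyGrading 1 k) (X i : MvPolynomial (Fin (1 + 1)) k)
  let : Algebra k A := (scal 1 k (X i)).toAlgebra
  let θ : Polynomial k →ₐ[k] A := Polynomial.aeval (dh 1 k i (X (1 - i)))
  have hθ : ∀ j, θ (line k i j) = dh 1 k i (X j) := by
    have h1 := coords_self i (𝟙 (Spec (CommRingCat.of A)))
    have hself : dh 1 k i (X i) = 1 := by
      rw [coords, RingHom.comp_apply] at h1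
      refine (ConcreteCategory.bijective_of_isIso (Scheme.ΓSpecIso (CommRingCat.of A)).inv).1 ?_
      rw [map_one]
      simp [specHom] at h1
      exact h1
    intro j
    fin_cases i <;> fin_cases j
    · show θ 1 = dh 1 k 0 (X 0)
      rw [map_one]; exact hself.symm
    · show θ Polynomial.X = dh 1 k 0 (X 1)
      simp only [θ, Polynomial.aeval_X]; rfl
    · show θ Polynomial.X = dh 1 k 1 (X 0)
      simp only [θ, Polynomial.aeval_X]; rfl
    · show θ 1 = dh 1 k 1 (X 1)
      rw [map_one]; exact hself.symm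
  have hu : IsUnit (evR (k := k) (fun j => θ (line k i j)) (X i)) :=
    isUnit_evR _ _ (by rw [line_self, map_one]; exact isUnit_one)
  have hchart : chart 1 k i = Spec.map (CommRingCat.ofHom θ.toRingHom) ≫ cline k i := by
    rw [cline, sp_comp_pt _ _ _ _ hu]
    conv_lhs => rw [← Category.id_comp (chart 1 k i), comp_chart_eq_pt]
    refine pt_congr ?_ rfl rfl _ _ _ _ _ _
    rw [coords, evR]
    refine MvPolynomial.ringHom_ext (fun r => ?_) fun j => ?_
    · simp [specHom, gam, dh_C]
      rfl
    · simp [specHom, gam, hθ]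
      rfl
  have hi : F i = RatLine.sp (Algebra.ofId k (Polynomial k)) ≫ g i := by
    fin_cases i
    · exact h0
    · exact h1
  have hgi : g i = g 0 := by
    fin_cases i
    · rfl
    · exact hg.symm
  have hz : chart 1 k i ≫ str 1 k = Spec.map (CommRingCat.ofHom θ.toRingHom) ≫
      Spec.map (CommRingCat.ofHom (algebraMap k (Polynomial k))) := by
    rw [hchart, Category.assoc, cline, pt_toSpec']
  rw [← Category.assoc, hz, hchart, Category.assoc, Category.assoc]
  congr 1
  rw [← hgi]
  exact congrArg CommaMorphism.left hi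

end Charts


open CategoryTheory AlgebraicGeometry in
/-- Auxiliary step: let κ be an arbitrary field, G a group scheme over κ which is smooth over κ, and φ :
P¹_κ → G a morphism over κ. Then φ is constant: there is a κ-rational point g of G such that φ is
the structure morphism P¹_κ → Spec κ followed by g. (The published proof states this step for any
smooth group scheme over a field in the course of proving the main proposition.) -/
theorem result (κ : Type u) [Field κ]
    (G : Over (Spec (CommRingCat.of κ))) [GrpObj G] [Smooth G.hom]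
    (φ : CohB1.ProjSpaceOver 1 (Spec (CommRingCat.of κ)) ⟶ G.left)
    (hφ : φ ≫ G.hom = CohB1.ProjSpaceOver.toBase 1 (Spec (CommRingCat.of κ))) :
    ∃ g : Spec (CommRingCat.of κ) ⟶ G.left, g ≫ G.hom = 𝟙 _ ∧
      φ = CohB1.ProjSpaceOver.toBase 1 (Spec (CommRingCat.of κ)) ≫ g := by
  obtain ⟨e, he⟩ := ProperFin.exists_iso_projSpaceOver 1 κ
  have : IsSeparated G.hom := GrpScheme.IdComponent.isSeparated G
  obtain ⟨g, hg, h⟩ := eq_const (k := κ) (e.inv ≫ φ) (by
    show (e.inv ≫ φ) ≫ G.hom = CohB1.ProjSpace.toSpec 1 κ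
    rw [Category.assoc, hφ, ← he, Iso.inv_hom_id_assoc])
  refine ⟨g, hg, ?_⟩
  replace h : e.inv ≫ φ = CohB1.ProjSpace.toSpec 1 κ ≫ g := h
  rw [← cancel_epi e.inv, h, ← he, Category.assoc, Iso.inv_hom_id_assoc]

end Groth.Agent.S15949
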