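import Groth.Statements.S15954
import Groth.Agent.PinchLib.StdRinged
import Groth.Agent.PinchLib.CokerBaseChange
import Groth.Agent.PinchLib.FlatSurjSections

set_option autoImplicit false
universe u
open Pinch

namespace Groth.Agent.S15954

open CategoryTheory AlgebraicGeometry in
/-- The edge over a chart, transported to the opens of the hypothesis. -/
lemma good_aux {Y T Z : Scheme.{u}} (k : Z ⟶ Y) (t : T ⟶ Y) (ξ : Z ⟶ T) (hk : k = ξ ≫ t)
    [Flat ξ] [Surjective ξ] (U : Y.Opens)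
    (hv : @Pinch.CokerProjective Γ(Y, U) Γ(Z, (ξ ≫ t) ⁻¹ᵁ U) Γ(T, t ⁻¹ᵁ U) _ _ _
      ((ξ ≫ t).app U).hom.toAlgebra (ξ.app (t ⁻¹ᵁ U)).hom)
    (B : T.Opens) (C : Z.Opens) (eB : B = t ⁻¹ᵁ U) (eC : C = (ξ ≫ t) ⁻¹ᵁ U)
    (e : C ≤ ξ ⁻¹ᵁ B) (e' : C ≤ k ⁻¹ᵁ U) :
    Function.Injective (ξ.appLE B C e) ∧
    (letI := (k.appLE U C e').hom.toAlgebra
    Module.Flat Γ(Y, U) (Γ(Z, C) ⧸ Submodule.span Γ(Y, U) (Set.range (ξ.appLE B C e).hom))) := by
  subst hk eB eC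
  have e1 : ξ.appLE (t ⁻¹ᵁ U) ((ξ ≫ t) ⁻¹ᵁ U) e = ξ.app (t ⁻¹ᵁ U) := Scheme.Hom.appLE_eq_app ξ
  have e2 : (ξ ≫ t).appLE U ((ξ ≫ t) ⁻¹ᵁ U) e' = (ξ ≫ t).app U := Scheme.Hom.appLE_eq_app (ξ ≫ t)
  refine ⟨?_, ?_⟩
  · rw [e1]
    exact Groth.Agent.PinchLib.app_injective_of_flat_surjective ξ _
  · rw [e2]
    rw [e1]
    exact @Module.Flat.of_projective _ _ _ _ _ hv

open CategoryTheory AlgebraicGeometry in
/-- Let Y be a scheme, f : X → Y a morphism, t : T → Y a scheme affine over Y, ξ : Z → T a morphism with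
Z affine over Y via ξ followed by t, and ι : Z → X a closed immersion over Y; assume every point of
Y has an affine open neighbourhood U together with an affine open V of X inside the preimage of U
containing the image under ι of the part of Z over U; assume moreover that Y is locally Noetherian,
f and t are of finite type and ξ is finite, and let X → P ← T be a push-out of ι and ξ in the
category of schemes; assume finally that ξ is faithfully flat and that over every affine open U of Y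
the cokernel of the map from functions on t⁻¹(U) to functions on the part of Z over U is a
projective module over the functions on U. Let p : P → Y be the induced morphism. Then the push-out
commutes with every base change: for every morphism Y' → Y the square obtained by pulling back Z →
X, Z → T, X → P and T → P along Y' → Y is a push-out square in the category of schemes. -/
theorem result {X Y T Z : Scheme.{u}} (f : X ⟶ Y) (t : T ⟶ Y) (ξ : Z ⟶ T) (ι : Z ⟶ X)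
    [IsAffineHom t] [IsAffineHom (ξ ≫ t)] [IsClosedImmersion ι] (hsq : ι ≫ f = ξ ≫ t)
    (hstd : ∀ y : Y, ∃ U : Y.Opens, IsAffineOpen U ∧ y ∈ U ∧ ∃ V : X.Opens, IsAffineOpen V ∧
      V ≤ f ⁻¹ᵁ U ∧ ∀ z : Z, (ξ ≫ t).base z ∈ U → ι.base z ∈ V)
    [IsLocallyNoetherian Y] [LocallyOfFiniteType f] [QuasiCompact f] [LocallyOfFiniteType t] [QuasiCompact t]
    [IsFinite ξ] {P : Scheme.{u}} (a : X ⟶ P) (b : T ⟶ P) (hP : IsPushout ι ξ a b)
    [Flat ξ] [Surjective ξ]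
    (hv : ∀ U : Y.affineOpens, @Pinch.CokerProjective Γ(Y, U) Γ(Z, (ξ ≫ t) ⁻¹ᵁ U) Γ(T, t ⁻¹ᵁ U) _ _ _
      ((ξ ≫ t).app U).hom.toAlgebra (ξ.app (t ⁻¹ᵁ U)).hom)
    (p : P ⟶ Y) (hap : a ≫ p = f) (hbp : b ≫ p = t) {Y' : Scheme.{u}} (g : Y' ⟶ Y) :
    IsPushout ((Over.pullback g).map (Over.homMk ι hsq : Over.mk (ξ ≫ t) ⟶ Over.mk f)).left
      ((Over.pullback g).map (Over.homMk ξ rfl : Over.mk (ξ ≫ t) ⟶ Over.mk t)).left
      ((Over.pullback g).map (Over.homMk a hap : Over.mk f ⟶ Over.mk p)).left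
      ((Over.pullback g).map (Over.homMk b hbp : Over.mk t ⟶ Over.mk p)).left := by
  have hc := Groth.Agent.PinchLib.StdPushout.exists_cover f t ξ ι hsq hstd
  obtain ⟨-, hb, ha, hs⟩ := Groth.Agent.PinchLib.StdPushout.props ι ξ hc hP
  haveI := hb
  haveI := ha
  have hpo := Groth.Agent.PinchLib.StdRinged.isPushout_toSh hc hP
  have hch : ∀ x : P, ∃ U : Y.Opens, IsAffineOpen U ∧ ∃ V : P.Opens, IsAffineOpen V ∧
      V ≤ p ⁻¹ᵁ U ∧ x ∈ V ∧ Groth.Agent.PinchLib.Good ι ξ a b f U V := by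
    have hmem : ∀ {U : Y.Opens} {UX : X.Opens} {UT : T.Opens} {W : P.Opens},
        a ⁻¹ᵁ W = UX → b ⁻¹ᵁ W = UT → UX ≤ f ⁻¹ᵁ U → UT ≤ t ⁻¹ᵁ U → W ≤ p ⁻¹ᵁ U := by
      intro U UX UT W hWa hWb hX hT w hw
      rcases hs w with ⟨x, rfl⟩ | ⟨y, rfl⟩
      · have h1 : x ∈ a ⁻¹ᵁ W := hw
        rw [hWa] at h1
        show (a ≫ p) x ∈ U
        rw [hap]
        exact hX h1
      · have h1 : y ∈ b ⁻¹ᵁ W := hw
        rw [hWb] at h1
        show (b ≫ p) y ∈ U
        rw [hbp]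
        exact hT h1
    have hy : ∀ y : T, ∃ U : Y.Opens, IsAffineOpen U ∧ ∃ V : P.Opens, IsAffineOpen V ∧
        V ≤ p ⁻¹ᵁ U ∧ b y ∈ V ∧ Groth.Agent.PinchLib.Good ι ξ a b f U V := by
      intro y
      obtain ⟨U, hU, hyU, VX, hVX, hle, hz⟩ := hstd (t y)
      have e0 : ι ⁻¹ᵁ VX = ξ ⁻¹ᵁ t ⁻¹ᵁ U := TopologicalSpace.Opens.ext (Set.ext fun z =>
        ⟨fun h => show (ξ ≫ t) z ∈ U by rw [← hsq]; exact hle h, hz z⟩)
      obtain ⟨W, hW, hWa, hWb⟩ :=
        Groth.Agent.PinchLib.StdRinged.exists_affineOpen hpo hVX (hU.preimage t) e0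
      refine ⟨U, hU, W, hW, hmem hWa hWb hle le_rfl, ?_, fun e e' => ?_⟩
      · show y ∈ b ⁻¹ᵁ W
        rw [hWb]
        exact hyU
      · exact good_aux (ι ≫ f) t ξ hsq U (hv ⟨U, hU⟩) (b ⁻¹ᵁ W) (ι ⁻¹ᵁ a ⁻¹ᵁ W) hWb
          (by rw [hWa, e0]; rfl) e e'
    intro x
    rcases hs x with ⟨x, rfl⟩ | ⟨y, rfl⟩
    · by_cases hx : x ∈ Set.range ι
      · obtain ⟨z, rfl⟩ := hx
        have h : a (ι z) = b (ξ z) := by
          rw [← Scheme.Hom.comp_apply, ← Scheme.Hom.comp_apply, hP.w]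
        rw [h]
        exact hy (ξ z)
      · obtain ⟨_, ⟨U, hU, rfl⟩, hxU, -⟩ :=
          Y.isBasis_affineOpens.exists_subset_of_mem_open (Set.mem_univ (f x)) isOpen_univ
        obtain ⟨UX, hUX, hxX, hle⟩ := exists_isAffineOpen_mem_and_subset
          (U := f ⁻¹ᵁ U ⊓ ⟨(Set.range ι)ᶜ, ι.isClosedEmbedding.isClosed_range.isOpen_compl⟩) ⟨hxU, hx⟩
        have e0 : ι ⁻¹ᵁ UX = ξ ⁻¹ᵁ ⊥ := TopologicalSpace.Opens.ext (Set.ext fun z =>
          iff_of_false (fun h => (hle h).2 ⟨z, rfl⟩) (fun h => h))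
        obtain ⟨W, hW, hWa, hWb⟩ :=
          Groth.Agent.PinchLib.StdRinged.exists_affineOpen hpo hUX (isAffineOpen_bot T) e0
        refine ⟨U, hU, W, hW, hmem hWa hWb (fun w hw => (hle hw).1) bot_le, ?_, fun e e' => ?_⟩
        · show x ∈ a ⁻¹ᵁ W
          rw [hWa]
          exact hxX
        · haveI : Subsingleton Γ(Z, ι ⁻¹ᵁ a ⁻¹ᵁ W) := by
            rw [hWa, e0, Scheme.Hom.preimage_bot]
            infer_instance
          haveI : Subsingleton Γ(T, b ⁻¹ᵁ W) := by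
            rw [hWb]
            infer_instance
          refine ⟨Function.injective_of_subsingleton _, ?_⟩
          letI := ((ι ≫ f).appLE U (ι ⁻¹ᵁ a ⁻¹ᵁ W) e').hom.toAlgebra
          haveI : Subsingleton (Γ(Z, ι ⁻¹ᵁ a ⁻¹ᵁ W) ⧸
              Submodule.span Γ(Y, U) (Set.range (ξ.appLE (b ⁻¹ᵁ W) (ι ⁻¹ᵁ a ⁻¹ᵁ W) e).hom)) :=
            Quotient.instSubsingletonQuotient _
          infer_instance
    · exact hy y
  refine Groth.Agent.PinchLib.StdRinged.isPushout_of_toSh ?_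
  refine Groth.Agent.PinchLib.isPushout_cokerBaseChange (fX := f) (fZ' := t) (fX' := p)
    hsq.symm hap hbp hpo (IsPullback.of_hasPullback f g) ?_
    (IsPullback.of_hasPullback t g) (IsPullback.of_hasPullback p g)
    (eZ := Limits.pullback.fst (ξ ≫ t) g) (pZ := Limits.pullback.snd (ξ ≫ t) g) ?_ ?_ ?_ ?_ ?_ ?_ ?_ ?_
    hch
  · rw [hsq]
    exact IsPullback.of_hasPullback (ξ ≫ t) g
  all_goals first
    | exact Limits.pullback.lift_fst _ _ _
    | exact Limits.pullback.lift_snd _ _ _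

end Groth.Agent.S15954
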