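import Groth.Statements.S15957
import Groth.Agent.NeronExt67.CodimOne
import Groth.Agent.WeilExt.Neron
import Groth.Agent.WeilExt.GlueStalks
import Groth.Agent.NeronMap.Sections

set_option autoImplicit false
universe u
open Neron

namespace Groth.Agent.S15957

section

open CategoryTheory CategoryTheory.Limits AlgebraicGeometry IsLocalRing

/-- a point over the fraction field extending over a faithfully flat local extension extends -/
theorem exists_descend {G : Scheme.{u}} {O S K L : Type u} [CommRing O] [IsLocalRing O] [IsDomain O]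
    [CommRing S] [IsLocalRing S] [IsDomain S] [Algebra O S] (hS : Hensel.IsEtLike O S)
    [Field K] [Algebra O K] [IsFractionRing O K] [Field L] [Algebra S L] [IsFractionRing S L]
    (emb : K →+* L) (hemb : emb.comp (algebraMap O K) = (algebraMap S L).comp (algebraMap O S))
    (x : Spec (CommRingCat.of K) ⟶ G) (z : Spec (CommRingCat.of S) ⟶ G)
    (w : Spec.map (CommRingCat.ofHom (algebraMap S L)) ≫ z = Spec.map (CommRingCat.ofHom emb) ≫ x) :
    ∃ φ : Spec (CommRingCat.of O) ⟶ G, Spec.map (CommRingCat.ofHom (algebraMap O K)) ≫ φ = x := by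
  obtain ⟨_, ⟨U, hU, rfl⟩, hmem, -⟩ := G.isBasis_affineOpens.exists_subset_of_mem_open
    (Set.mem_univ (z.base (closedPoint S))) isOpen_univ
  haveI : IsOpenImmersion hU.fromSpec := IsAffineOpen.isOpenImmersion_fromSpec _
  have hz : Set.range z.base ⊆ (U : Set G) := by
    rintro _ ⟨q, rfl⟩
    exact ((IsLocalRing.specializes_closedPoint q).map z.continuous).mem_open U.2 hmem
  obtain ⟨ψS, hψS⟩ := NeronMap.Sections.exists_ringHom hU z hz
  have hx : Set.range x.base ⊆ (U : Set G) := by
    rintro _ ⟨q, rfl⟩
    obtain ⟨l⟩ : Nonempty (Spec (CommRingCat.of L)) := ⟨closedPoint L⟩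
    have hq : q = (Spec.map (CommRingCat.ofHom emb)).base l :=
      Subsingleton.elim (α := PrimeSpectrum K) _ _
    rw [hq, ← Scheme.Hom.comp_apply, ← w, Scheme.Hom.comp_apply]
    exact hz ⟨_, rfl⟩
  obtain ⟨ψK, hψK⟩ := NeronMap.Sections.exists_ringHom hU x hx
  have hψ : (algebraMap S L).comp ψS = emb.comp ψK := by
    rw [← hψS, ← hψK, ← Category.assoc, ← Category.assoc, cancel_mono, ← Spec.map_comp,
      ← Spec.map_comp] at w
    exact congrArg CommRingCat.Hom.hom (Spec.map_injective w)
  have hin : ∀ c, ∃ r : O, algebraMap O K r = ψK c := by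
    intro c
    obtain ⟨a, b, hb, hab⟩ := IsFractionRing.div_surjective O (ψK c)
    have hb0 : algebraMap O K b ≠ 0 := IsFractionRing.to_map_ne_zero_of_mem_nonZeroDivisors hb
    have ha : algebraMap O K a = ψK c * algebraMap O K b := by rw [← hab, div_mul_cancel₀ _ hb0]
    have h2 : algebraMap O S a = ψS c * algebraMap O S b := by
      apply IsFractionRing.injective S L
      have e := congrArg emb ha
      rw [map_mul] at e
      have e1 := RingHom.congr_fun hemb a
      have e2 := RingHom.congr_fun hemb b
      have e3 := RingHom.congr_fun hψ c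
      simp only [RingHom.comp_apply] at e1 e2 e3
      rw [map_mul, ← e1, ← e2, e3]
      exact e
    have hmem' : a ∈ Ideal.span {b} := by
      rw [← hS.comap_map_eq (Ideal.span {b}), Ideal.mem_comap, Ideal.map_span, Set.image_singleton,
        Ideal.mem_span_singleton']
      exact ⟨ψS c, h2.symm⟩
    obtain ⟨r, hr⟩ := Ideal.mem_span_singleton'.1 hmem'
    exact ⟨r, mul_right_cancel₀ hb0 (by rw [← map_mul, hr, ha])⟩
  choose r hr using hin
  have hinj := IsFractionRing.injective O K
  let ψ : Γ(G, U) →+* O :=
    { toFun := r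
      map_one' := hinj (by rw [hr, map_one, map_one])
      map_zero' := hinj (by rw [hr, map_zero, map_zero])
      map_add' := fun c d => hinj (by rw [hr, map_add, map_add, hr, hr])
      map_mul' := fun c d => hinj (by rw [hr, map_mul, map_mul, hr, hr]) }
  refine ⟨Spec.map (CommRingCat.ofHom ψ) ≫ hU.fromSpec, ?_⟩
  rw [← Category.assoc, ← Spec.map_comp, ← CommRingCat.ofHom_comp,
    show (algebraMap O K).comp ψ = ψK from RingHom.ext hr, hψK]

end

set_option maxHeartbeats 1000000 in
open CategoryTheory CategoryTheory.Limits AlgebraicGeometry IsLocalRing in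
theorem extend_dvr {R : Type u} [CommRing R] [IsDomain R] [IsDiscreteValuationRing R]
    {Gs Ys : Scheme.{u}} (pG : Gs ⟶ Spec (CommRingCat.of R))
    (h : ∀ (R' : Type u) [CommRing R'] [IsDomain R'] [IsDiscreteValuationRing R'] [Algebra R R']
        [IsLocalHom (algebraMap R R')] [HenselianLocalRing R'] [IsSepClosed (IsLocalRing.ResidueField R')],
      (IsLocalRing.maximalIdeal R).map (algebraMap R R') = IsLocalRing.maximalIdeal R' →
      Algebra.IsGeometricallyReduced (IsLocalRing.ResidueField R) (IsLocalRing.ResidueField R') →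
      ∀ x : Spec (CommRingCat.of (FractionRing R')) ⟶ Gs,
        x ≫ pG = Spec.map (CommRingCat.ofHom ((algebraMap R' (FractionRing R')).comp (algebraMap R R'))) →
        ∃ y : Spec (CommRingCat.of R') ⟶ Gs, y ≫ pG = Spec.map (CommRingCat.ofHom (algebraMap R R')) ∧
          Spec.map (CommRingCat.ofHom (algebraMap R' (FractionRing R'))) ≫ y = x)
    (pY : Ys ⟶ Spec (CommRingCat.of R)) [Mono (pullback.fst pY (Neron.genPt R))]
    (a : pullback pY (Neron.genPt R) ⟶ Gs) (ha : a ≫ pG = pullback.fst pY (Neron.genPt R) ≫ pY)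
    (O : Type u) [CommRing O] [IsDomain O] [IsDiscreteValuationRing O] [Algebra R O]
    [IsLocalHom (algebraMap R O)] [Module.Flat R O]
    [Algebra.FormallySmooth (ResidueField R) (ResidueField O)]
    (hmax : (maximalIdeal R).map (algebraMap R O) = maximalIdeal O)
    (s : Spec (CommRingCat.of O) ⟶ Ys)
    (hs : s ≫ pY = Spec.map (CommRingCat.ofHom (algebraMap R O))) :
    ∃ φ : Spec (CommRingCat.of O) ⟶ Gs, φ ≫ pG = s ≫ pY ∧
      ∀ {Q : Scheme.{u}} (q : Q ⟶ Spec (CommRingCat.of O)) (m : Q ⟶ pullback pY (Neron.genPt R)),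
        m ≫ pullback.fst pY (Neron.genPt R) = q ≫ s → m ≫ a = q ≫ φ := by
  let t := Neron.genPt R
  let j := pullback.fst pY t
  obtain ⟨S, _, _, _, _, _, _, _, _, _, hEt, hSmax, hgr⟩ :=
    NeronExt67.CodimOne.exists_strict (R := R) (O := O) hmax
  let K' := FractionRing O
  let L := FractionRing S
  have hinjR : Function.Injective ((algebraMap O K').comp (algebraMap R O)) := by
    refine (IsFractionRing.injective O K').comp ((injective_iff_map_eq_zero (algebraMap R O)).2 fun r hr => ?_)
    by_contra hr0
    have := (Module.Flat.isSMulRegular_of_nonZeroDivisors (M := O)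
      (mem_nonZeroDivisors_of_ne_zero hr0)).eq_iff (a := (1 : O)) (b := 0)
    rw [Algebra.smul_def, hr] at this
    simp at this
  have hκex : ∃ κ : FractionRing R →+* K',
      κ.comp (algebraMap R (FractionRing R)) = (algebraMap O K').comp (algebraMap R O) :=
    ⟨IsFractionRing.lift (A := R) (K := FractionRing R) (L := K')
      (g := (algebraMap O K').comp (algebraMap R O)) hinjR,
      RingHom.ext fun r => IsFractionRing.lift_algebraMap (A := R) (K := FractionRing R) (L := K')
        (g := (algebraMap O K').comp (algebraMap R O)) hinjR r⟩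
  obtain ⟨κ, hκ⟩ := hκex
  let η₀ := Spec.map (CommRingCat.ofHom (algebraMap O K'))
  let xK : Spec (CommRingCat.of K') ⟶ pullback pY t :=
    pullback.lift (η₀ ≫ s) (Spec.map (CommRingCat.ofHom κ)) (by
      show (η₀ ≫ s) ≫ pY = Spec.map (CommRingCat.ofHom κ) ≫ Spec.map _
      rw [Category.assoc, hs, ← Spec.map_comp, ← Spec.map_comp, ← CommRingCat.ofHom_comp,
        ← CommRingCat.ofHom_comp, hκ])
  have hxK : xK ≫ j = η₀ ≫ s := pullback.lift_fst _ _ _
  let x := xK ≫ a
  have hx : x ≫ pG = Spec.map (CommRingCat.ofHom ((algebraMap O K').comp (algebraMap R O))) := by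
    rw [Category.assoc, ha, reassoc_of% hxK, hs, ← Spec.map_comp]
    rfl
  have hinjS : Function.Injective ((algebraMap S L).comp (algebraMap O S)) :=
    (IsFractionRing.injective S L).comp hEt.algebraMap_injective
  obtain ⟨emb, hemb⟩ : ∃ emb : K' →+* L,
      emb.comp (algebraMap O K') = (algebraMap S L).comp (algebraMap O S) :=
    ⟨IsFractionRing.lift (A := O) (K := K') (L := L)
      (g := (algebraMap S L).comp (algebraMap O S)) hinjS,
      RingHom.ext fun r => IsFractionRing.lift_algebraMap (A := O) (K := K') (L := L)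
        (g := (algebraMap S L).comp (algebraMap O S)) hinjS r⟩
  obtain ⟨z, -, hz⟩ := h S hSmax hgr (Spec.map (CommRingCat.ofHom emb) ≫ x) (by
    rw [Category.assoc, hx, ← Spec.map_comp, ← CommRingCat.ofHom_comp, ← RingHom.comp_assoc, hemb,
      RingHom.comp_assoc, ← IsScalarTower.algebraMap_eq])
  obtain ⟨φ, hφ⟩ := exists_descend hEt emb hemb x z hz
  have hφG : φ ≫ pG = s ≫ pY := by
    have h1 : η₀ ≫ φ ≫ pG = η₀ ≫ Spec.map (CommRingCat.ofHom (algebraMap R O)) := by
      rw [reassoc_of% hφ, hx, ← Spec.map_comp]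
      rfl
    obtain ⟨χ, hχ⟩ := Spec.map_surjective (φ ≫ pG)
    rw [hs, ← hχ]
    rw [← hχ, ← Spec.map_comp, ← Spec.map_comp] at h1
    congr 1
    ext r
    exact IsFractionRing.injective O K'
      (RingHom.congr_fun (congrArg CommRingCat.Hom.hom (Spec.map_injective h1)) r)
  refine ⟨φ, hφG, fun {Q} q m hm => ?_⟩
  -- the square at the generic point
  haveI : IsLocalization (Algebra.algebraMapSubmonoid O (nonZeroDivisors R)) K' := by
    obtain ⟨t₀, ht₀⟩ := IsDiscreteValuationRing.exists_irreducible R
    have hmemt : algebraMap R O t₀ ∈ maximalIdeal O := by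
      rw [← hmax]; exact Ideal.mem_map_of_mem _ ht₀.not_isUnit
    have hirr : Irreducible (algebraMap R O t₀) := by
      rw [IsDiscreteValuationRing.irreducible_iff_uniformizer, ← hmax, ht₀.maximalIdeal_eq,
        Ideal.map_span, Set.image_singleton]
    refine IsLocalization.iff_of_le_of_exists_dvd _ (nonZeroDivisors O) ?_ ?_ |>.2 inferInstance
    · rintro _ ⟨r, hr, rfl⟩
      refine mem_nonZeroDivisors_of_ne_zero fun h0 => nonZeroDivisors.ne_zero hr (hinjR ?_)
      simp only [RingHom.comp_apply, map_zero, h0]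
    · intro o ho
      obtain ⟨n, u, rfl⟩ := IsDiscreteValuationRing.eq_unit_mul_pow_irreducible
        (nonZeroDivisors.ne_zero ho) hirr
      exact ⟨algebraMap R O t₀ ^ n,
        ⟨t₀ ^ n, pow_mem (mem_nonZeroDivisors_of_ne_zero ht₀.ne_zero) n, map_pow _ _ _⟩,
        ⟨↑u⁻¹, by rw [mul_comm, ← mul_assoc, Units.inv_mul, one_mul]⟩⟩
  letI : Algebra (FractionRing R) K' := κ.toAlgebra
  haveI : IsScalarTower R (FractionRing R) K' :=
    IsScalarTower.of_algebraMap_eq fun r => by
      rw [IsScalarTower.algebraMap_apply R O K']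
      exact (RingHom.congr_fun hκ r).symm
  haveI : Algebra.IsPushout R O (FractionRing R) K' :=
    Algebra.isPushout_of_isLocalization (nonZeroDivisors R) (FractionRing R) O K'
  have hsq : IsPullback η₀ (Spec.map (CommRingCat.ofHom κ))
      (Spec.map (CommRingCat.ofHom (algebraMap R O))) t :=
    isPullback_SpecMap_of_isPushout (CommRingCat.ofHom (algebraMap R O))
      (CommRingCat.ofHom (algebraMap R (FractionRing R)))
      (CommRingCat.ofHom (algebraMap O K')) (CommRingCat.ofHom κ)
      (CommRingCat.isPushout_of_isPushout R O (FractionRing R) K')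
  have hqm : q ≫ Spec.map (CommRingCat.ofHom (algebraMap R O)) = (m ≫ pullback.snd pY t) ≫ t := by
    rw [← hs, ← Category.assoc, ← hm, Category.assoc, Category.assoc, pullback.condition]
  have hm' : m = hsq.lift q (m ≫ pullback.snd pY t) hqm ≫ xK := by
    rw [← cancel_mono j, Category.assoc, hxK, hsq.lift_fst_assoc, hm]
  calc m ≫ a = hsq.lift q (m ≫ pullback.snd pY t) hqm ≫ x := by
        rw [← Category.assoc, ← hm']
    _ = q ≫ φ := by rw [← hφ, ← Category.assoc, hsq.lift_fst]

set_option maxHeartbeats 1000000 in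
open CategoryTheory AlgebraicGeometry in
/-- (ii) ⇒ (i): let R be a discrete valuation ring with field of fractions K and G a smooth separated
group scheme over Spec R. Suppose that for every local extension R ⊆ R' of discrete valuation rings
of ramification index one (the maximal ideal of R generates that of R' and the residue field
extension is separable, i.e. geometrically reduced) with R' strictly Henselian, and K' the fraction
field of R', every K'-valued point of G over R extends to an R'-valued point. Then G is a Néron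
lft-model of its generic fibre: for every smooth scheme Y over Spec R, restriction to generic fibres
is a bijection from morphisms Y → G over R onto morphisms Y_K → G_K over K. (The published statement
is the equivalence of this criterion, of the Néron lft property, and of a third intermediate
criterion; only this implication is stated.) -/
theorem result
    (R : Type u) [CommRing R] [IsDomain R] [IsDiscreteValuationRing R]
    (G : Over (Spec (CommRingCat.of R))) [GrpObj G] [Smooth G.hom] [IsSeparated G.hom]
    (h : ∀ (R' : Type u) [CommRing R'] [IsDomain R'] [IsDiscreteValuationRing R'] [Algebra R R']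
        [IsLocalHom (algebraMap R R')] [HenselianLocalRing R'] [IsSepClosed (IsLocalRing.ResidueField R')],
      (IsLocalRing.maximalIdeal R).map (algebraMap R R') = IsLocalRing.maximalIdeal R' →
      Algebra.IsGeometricallyReduced (IsLocalRing.ResidueField R) (IsLocalRing.ResidueField R') →
      ∀ x : Spec (CommRingCat.of (FractionRing R')) ⟶ G.left,
        x ≫ G.hom = Spec.map (CommRingCat.ofHom ((algebraMap R' (FractionRing R')).comp (algebraMap R R'))) →
        ∃ y : Spec (CommRingCat.of R') ⟶ G.left, y ≫ G.hom = Spec.map (CommRingCat.ofHom (algebraMap R R')) ∧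
          Spec.map (CommRingCat.ofHom (algebraMap R' (FractionRing R'))) ≫ y = x) :
    ∀ Y : Over (Spec (CommRingCat.of R)), Smooth Y.hom →
      Function.Bijective (fun g : Y ⟶ G => (Neron.genericFibre R).map g) := by
  open CategoryTheory.Limits IsLocalRing in
  intro Y hY
  haveI := hY
  refine ⟨fun f g h => NeronLib.Dense.eq_of_genericFibre_map_eq R h, fun b => ?_⟩
  haveI : IsNoetherianRing ↑(CommRingCat.of R) := inferInstanceAs (IsNoetherianRing R)
  have hreg := S11107.isRegularLocalRing_stalk Y.hom
  let t := Neron.genPt R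
  haveI : IsPreimmersion t := IsPreimmersion.of_isLocalization (nonZeroDivisors R)
  haveI : Flat t := by
    show Flat (Spec.map _)
    rw [HasRingHomProperty.Spec_iff (P := @Flat)]
    exact RingHom.flat_algebraMap_iff.2 (IsLocalization.flat (FractionRing R) (nonZeroDivisors R))
  let j := pullback.fst Y.hom t
  let a : pullback Y.hom t ⟶ G.left := b.left ≫ pullback.fst G.hom t
  have hb : b.left ≫ pullback.snd G.hom t = pullback.snd Y.hom t := Over.w b
  have ha : a ≫ G.hom = j ≫ Y.hom := by
    rw [Category.assoc, pullback.condition, reassoc_of% hb, ← pullback.condition]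
  have hrange : Set.range t.base = {(⟨⊥, Ideal.isPrime_bot⟩ : PrimeSpectrum R)} := by
    ext q
    constructor
    · rintro ⟨k, rfl⟩
      refine Set.mem_singleton_iff.2 (PrimeSpectrum.ext ?_)
      show Ideal.comap (algebraMap R (FractionRing R)) (k : PrimeSpectrum (FractionRing R)).asIdeal = ⊥
      rw [(Ideal.eq_bot_or_top _).resolve_right (k : PrimeSpectrum (FractionRing R)).isPrime.ne_top,
        Ideal.comap_bot_of_injective _ (IsFractionRing.injective R (FractionRing R))]
    · rintro rfl
      refine ⟨closedPoint (FractionRing R), PrimeSpectrum.ext ?_⟩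
      show Ideal.comap (algebraMap R (FractionRing R)) (maximalIdeal (FractionRing R)) = ⊥
      rw [show maximalIdeal (FractionRing R) = ⊥ from
          (Ideal.eq_bot_or_top _).resolve_right (maximalIdeal.isMaximal _).ne_top,
        Ideal.comap_bot_of_injective _ (IsFractionRing.injective R (FractionRing R))]
  have hgen : ∀ s u : Spec (CommRingCat.of R), s ⤳ u → u ∈ Set.range t.base → s ∈ Set.range t.base := by
    intro s u hsu hu
    rw [hrange] at hu ⊢
    obtain rfl : u = _ := hu
    exact PrimeSpectrum.ext (le_bot_iff.1 ((PrimeSpectrum.le_iff_specializes _ _).2 hsu))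
  let P : Set Y.left := {y | ringKrullDim (Y.left.presheaf.stalk y) ≤ 1} ∪ Set.range j.base
  suffices H : ∀ y ∈ P, ∃ φ : Spec (Y.left.presheaf.stalk y) ⟶ G.left,
      φ ≫ G.hom = Y.left.fromSpecStalk y ≫ Y.hom ∧
      ∀ {Q : Scheme.{u}} (q : Q ⟶ Spec (Y.left.presheaf.stalk y)) (m : Q ⟶ pullback Y.hom t),
        m ≫ pullback.fst Y.hom t = q ≫ Y.left.fromSpecStalk y → m ≫ a = q ≫ φ by
    obtain ⟨V, g, hV, hg, hga⟩ := WeilExt.exists_glue_stalks t Y.hom G.hom hreg hgen a ha P
      Set.subset_union_right H
    obtain ⟨F, hF, hFV⟩ := by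
      haveI : GrpObj (Over.mk G.hom) := ‹GrpObj G›
      exact WeilExt.exists_extend Y.hom G.hom hreg
        (S11107.isRegularLocalRing_stalk (pullback.fst Y.hom Y.hom ≫ Y.hom)) V
        (WeilExt.mem_closure_fibre Y.hom V fun y hy => hV (Or.inl hy))
        (fun y hy => hV (Or.inl hy)) g hg
    refine ⟨Over.homMk F hF, ?_⟩
    ext1
    refine pullback.hom_ext ?_ ?_
    · refine (pullback.lift_fst _ _ _).trans ?_
      change j ≫ F = a
      let l : pullback Y.hom t ⟶ (V : Scheme.{u}) := IsOpenImmersion.lift V.ι j (by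
        rw [Scheme.Opens.range_ι]
        exact Set.subset_union_right.trans hV)
      have hl : l ≫ V.ι = j := IsOpenImmersion.lift_fac _ _ _
      rw [← hga l hl, ← hFV, reassoc_of% hl]
    · exact (pullback.lift_snd _ _ _).trans hb.symm
  intro y hy
  by_cases hyj : y ∈ Set.range j.base
  · obtain ⟨q₀, rfl⟩ := hyj
    haveI : IsIso (j.stalkMap q₀) := by
      have hfl : (j.stalkMap q₀).hom.Flat := AlgebraicGeometry.Flat.stalkMap j q₀
      refine (ConcreteCategory.isIso_iff_bijective _).2 ⟨?_, j.stalkMap_surjective q₀⟩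
      letI := (j.stalkMap q₀).hom.toAlgebra
      have : Module.Flat (Y.left.presheaf.stalk (j.base q₀)) ((pullback Y.hom t).presheaf.stalk q₀) := hfl
      have : IsLocalHom (algebraMap (Y.left.presheaf.stalk (j.base q₀)) ((pullback Y.hom t).presheaf.stalk q₀)) :=
        inferInstanceAs (IsLocalHom (j.stalkMap q₀).hom)
      have := Module.FaithfullyFlat.of_flat_of_isLocalHom
        (A := Y.left.presheaf.stalk (j.base q₀)) (B := (pullback Y.hom t).presheaf.stalk q₀)
      exact FaithfulSMul.algebraMap_injective _ _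
    let σ := Spec.map (inv (j.stalkMap q₀)) ≫ (pullback Y.hom t).fromSpecStalk q₀
    have hσ : σ ≫ j = Y.left.fromSpecStalk (j.base q₀) := by
      show (Spec.map _ ≫ _) ≫ j = _
      rw [Category.assoc, ← Scheme.SpecMap_stalkMap_fromSpecStalk, ← Category.assoc, ← Spec.map_comp,
        IsIso.hom_inv_id, Spec.map_id, Category.id_comp]
    refine ⟨σ ≫ a, by rw [Category.assoc, ha, reassoc_of% hσ], fun {Q} q m hm => ?_⟩
    have : m = q ≫ σ := by rw [← cancel_mono j, Category.assoc, hσ, hm]
    rw [this, Category.assoc]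
  -- points of codimension one of the closed fibre
  replace hy : ringKrullDim (Y.left.presheaf.stalk y) ≤ 1 := hy.resolve_right hyj
  have hclosed : Y.hom.base y = closedPoint R := by
    refine PrimeSpectrum.ext (IsLocalRing.eq_maximalIdeal ((Y.hom.base y : PrimeSpectrum R).isPrime.isMaximal
      fun h0 => hyj ?_))
    rw [Scheme.Pullback.range_fst]
    show Y.hom.base y ∈ Set.range t.base
    rw [hrange]
    exact PrimeSpectrum.ext h0
  obtain ⟨_, ⟨W, hW, rfl⟩, hyW, -⟩ := Y.left.isBasis_affineOpens.exists_subset_of_mem_open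
    (Set.mem_univ y) isOpen_univ
  let φA : R →+* Γ(Y.left, W) :=
    (Y.hom.appLE ⊤ W le_top).hom.comp (Scheme.ΓSpecIso (CommRingCat.of R)).inv.hom
  letI : Algebra R Γ(Y.left, W) := φA.toAlgebra
  haveI : Algebra.Smooth R Γ(Y.left, W) := NeronMap.Sections.algebra_smooth Y.hom hW
  letI := TopCat.Presheaf.algebra_section_stalk Y.left.presheaf ⟨y, hyW⟩
  haveI := hW.isLocalization_stalk ⟨y, hyW⟩
  let O := Y.left.presheaf.stalk y
  let ψ : R →+* O := (algebraMap Γ(Y.left, W) O).comp φA
  letI : Algebra R O := ψ.toAlgebra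
  haveI : IsScalarTower R Γ(Y.left, W) O := IsScalarTower.of_algebraMap_eq fun _ => rfl
  have hψ : Spec.map (CommRingCat.ofHom ψ) = Y.left.fromSpecStalk y ≫ Y.hom := by
    rw [← hW.fromSpecStalk_eq_fromSpecStalk hyW]
    show _ = (Spec.map (Y.left.presheaf.germ W y hyW) ≫ hW.fromSpec) ≫ Y.hom
    rw [Category.assoc]
    exact (NeronMap.Sections.point_comp Y.hom hW (Y.left.presheaf.germ W y hyW).hom).symm
  haveI hloc : IsLocalHom (algebraMap R O) := by
    refine ((IsLocalRing.local_hom_TFAE (algebraMap R O)).out 4 0).mp ?_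
    have : (Spec.map (CommRingCat.ofHom ψ)).base (closedPoint O) = closedPoint R := by
      rw [hψ]
      refine (Scheme.Hom.comp_apply (Y.left.fromSpecStalk y) Y.hom _).trans ?_
      rw [Scheme.fromSpecStalk_closedPoint, hclosed]
    exact congrArg PrimeSpectrum.asIdeal this
  haveI := hreg y
  haveI : IsDomain O := RegLoc.isDomain _
  obtain ⟨hdvr, hmax, hfs⟩ :=
    NeronExt67.CodimOne.main (R := R) (O := O) (hW.primeIdealOf ⟨y, hyW⟩).asIdeal hy
  haveI := hdvr
  haveI := hfs
  haveI := NeronExt67.CodimOne.flat (R := R) (O := O) (hW.primeIdealOf ⟨y, hyW⟩).asIdeal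
  exact extend_dvr G.hom h Y.hom a ha O hmax (Y.left.fromSpecStalk y) hψ.symm

end Groth.Agent.S15957
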