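import Groth.Statements.S15958
import Groth.Agent.GrpdLib.GrpOver
import Groth.Agent.GrpScheme.FlatFib.Scheme
import Mathlib.AlgebraicGeometry.Morphisms.LocalFlatDescent
import Mathlib.CategoryTheory.Adjunction.Limits

set_option autoImplicit false
universe u
open Neron

namespace Groth.Agent.S15958

section

open CategoryTheory CategoryTheory.Limits MonoidalCategory CartesianMonoidalCategory MonObj AlgebraicGeometry
open Groth.Agent.GrpdLib.GrpOver

variable {S : Scheme.{u}}

set_option backward.isDefEq.respectTransparency.types false in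
/-- a flat surjective homomorphism with smooth kernel is smooth -/
theorem smooth_of_kernel {G' G G'' : Over S} [GrpObj G'] [GrpObj G] [GrpObj G''] (i : G' ⟶ G) (q : G ⟶ G'')
    [IsMonHom q] (hker : AlgGrp.IsKernel i q) [Smooth G'.hom] [Flat q.left] [Surjective q.left]
    [LocallyOfFinitePresentation q.left] : Smooth q.left := by
  let m : G ⊗ G' ⟶ G := fst G G' * (snd G G' ≫ i)
  have w : fst G G' ≫ q = m ≫ q := by
    rw [MonObj.mul_comp, comp_kernel_comp hker, _root_.mul_one]
  haveI := kernel_mono hker
  have hn : ∀ (s : PullbackCone q q), ∃ n : s.pt ⟶ G', n ≫ i = s.fst⁻¹ * s.snd := fun s =>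
    kernel_factor hker _ (by rw [MonObj.mul_comp, GrpObj.inv_comp, s.condition, inv_mul_cancel])
  choose n hn using hn
  have h : IsPullback (fst G G') m q q := by
    refine ⟨⟨w⟩, ⟨PullbackCone.IsLimit.mk w (fun s => lift s.fst (n s)) (fun s => lift_fst _ _) ?_ ?_⟩⟩
    · intro s
      rw [MonObj.comp_mul, lift_fst, lift_snd_assoc, hn, _root_.mul_inv_cancel_left]
    · intro s l h1 h2
      apply CartesianMonoidalCategory.hom_ext
      · rw [lift_fst]; exact h1
      · rw [lift_snd, ← cancel_mono i, hn, ← h1, ← h2, MonObj.comp_mul, Category.assoc,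
          inv_mul_cancel_left]
  have h' := isPullback_left h
  haveI : Smooth (fst G G').left := inferInstanceAs (Smooth (pullback.fst G.hom G'.hom))
  haveI : IsZariskiLocalAtTarget (@Smooth : MorphismProperty Scheme.{u}) :=
    HasRingHomProperty.instIsZariskiLocalAtTarget _ (Q := RingHom.Smooth)
  haveI : MorphismProperty.DescendsAlong (@Smooth : MorphismProperty Scheme.{u})
      (@Surjective ⊓ @Flat ⊓ @QuasiCompact : MorphismProperty Scheme.{u}) := inferInstance
  exact MorphismProperty.of_isPullback_of_descendsAlong
    (P := (@Smooth : MorphismProperty Scheme.{u}))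
    (Q := (@Surjective ⊓ @Flat ⊓ @LocallyOfFinitePresentation : MorphismProperty Scheme.{u})) h'
    ⟨⟨inferInstanceAs (Surjective q.left), inferInstanceAs (Flat q.left)⟩,
      inferInstanceAs (LocallyOfFinitePresentation q.left)⟩ (inferInstanceAs (Smooth (fst G G').left))

/-- base change of a morphism in `Over S` -/
theorem isPullback_map {T : Scheme.{u}} (t : T ⟶ S) {A B : Over S} (f : A ⟶ B) :
    IsPullback (pullback.fst A.hom t) ((Over.pullback t).map f).left f.left (pullback.fst B.hom t) := by
  refine IsPullback.of_bot ?_ (pullback.lift_fst _ _ _).symm (IsPullback.of_hasPullback B.hom t)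
  have hs : ((Over.pullback t).map f).left ≫ pullback.snd B.hom t = pullback.snd A.hom t :=
    pullback.lift_snd _ _ _
  rw [hs, Over.w f]
  exact IsPullback.of_hasPullback A.hom t

/-- extensions of groups with the mapping property have the mapping property -/
theorem bijective_of_extension {T : Scheme.{u}} (t : T ⟶ S) (G' G G'' : Over S)
    [GrpObj G'] [GrpObj G] [GrpObj G''] [Smooth G'.hom] [Smooth G.hom] [Smooth G''.hom]
    (i : G' ⟶ G) (q : G ⟶ G'') [IsMonHom i] [IsMonHom q]
    (hker : AlgGrp.IsKernel i q) [Flat q.left] [Surjective q.left]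
    (hG' : ∀ Y : Over S, Smooth Y.hom → Function.Bijective (fun g : Y ⟶ G' => (Over.pullback t).map g))
    (hG'' : ∀ Y : Over S, Smooth Y.hom → Function.Bijective (fun g : Y ⟶ G'' => (Over.pullback t).map g))
    (Y : Over S) (hY : Smooth Y.hom) :
    Function.Bijective (fun g : Y ⟶ G => (Over.pullback t).map g) := by
  let F := Over.pullback t
  haveI : LocallyOfFinitePresentation q.left := by
    haveI : LocallyOfFinitePresentation (q.left ≫ G''.hom) := by rw [Over.w q]; infer_instance
    haveI : LocallyOfFiniteType G''.hom := inferInstance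
    exact GrpScheme.FlatFib.locallyOfFinitePresentation_of_comp q.left G''.hom
  haveI : Smooth q.left := smooth_of_kernel i q hker
  haveI := kernel_mono hker
  letI : GrpObj (F.obj G') := Functor.grpObjObj
  letI : GrpObj (F.obj G) := Functor.grpObjObj
  letI : GrpObj (F.obj G'') := Functor.grpObjObj
  have hinj : ∀ (Z : Over S), Smooth Z.hom → ∀ f g : Z ⟶ G, F.map f = F.map g → f = g := by
    intro Z hZ f g e
    have h1 : f ≫ q = g ≫ q := (hG'' Z hZ).1 (by
      show F.map (f ≫ q) = F.map (g ≫ q)
      rw [F.map_comp, F.map_comp, e])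
    obtain ⟨n, hn⟩ := kernel_factor hker (f⁻¹ * g) (by
      rw [MonObj.mul_comp, GrpObj.inv_comp, h1, inv_mul_cancel])
    let ψ := Functor.homMonoidHom (X := Z) (M := G) F
    have h2 : n = 1 := (hG' Z hZ).1 (by
      show F.map n = F.map 1
      rw [← cancel_mono (F.map i), ← F.map_comp, ← F.map_comp, hn, MonObj.one_comp]
      have h3 : ψ (f⁻¹ * g) = 1 := by
        rw [map_mul, map_inv, show ψ f = ψ g from e, inv_mul_cancel]
      exact h3.trans (map_one ψ).symm)
    rw [h2, MonObj.one_comp] at hn
    exact inv_mul_eq_one.1 hn.symm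
  refine ⟨fun f g e => hinj Y hY f g e, fun b => ?_⟩
  obtain ⟨h, hh⟩ := (hG'' Y hY).2 (b ≫ F.map q)
  let P : Over S := Over.mk (pullback.fst h.left q.left ≫ Y.hom)
  let pr : P ⟶ Y := Over.homMk (pullback.fst h.left q.left) rfl
  let c : P ⟶ G := Over.homMk (pullback.snd h.left q.left) (by
    show pullback.snd h.left q.left ≫ G.hom = pullback.fst h.left q.left ≫ Y.hom
    rw [← Over.w q, ← pullback.condition_assoc, Over.w h])
  have hc : c ≫ q = pr ≫ h := Over.OverMorphism.ext (pullback.condition (f := h.left) (g := q.left)).symm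
  haveI : Smooth pr.left := inferInstanceAs (Smooth (pullback.fst h.left q.left))
  haveI : Surjective pr.left := inferInstanceAs (Surjective (pullback.fst h.left q.left))
  haveI := hY
  haveI hP : Smooth P.hom := inferInstanceAs (Smooth (pullback.fst h.left q.left ≫ Y.hom))
  let ψ := Functor.homMonoidHom (X := P) (M := G'') F
  let β : F.obj P ⟶ F.obj G := (F.map pr ≫ b) * (F.map c)⁻¹
  have hFq : IsMonHom (F.map q) := inferInstance
  have hh' : F.map h = b ≫ F.map q := hh
  have hβ : β ≫ F.map q = F.map (toUnit P) ≫ F.map η[G''] := by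
    rw [← F.map_comp, ← Hom.one_def]
    refine Eq.trans ?_ (map_one ψ).symm
    rw [MonObj.mul_comp, GrpObj.inv_comp, Category.assoc, ← hh', ← F.map_comp, ← F.map_comp, hc,
      _root_.mul_inv_cancel]
  have hpb := Functor.map_isPullback F hker
  let n : F.obj P ⟶ F.obj G' := hpb.lift β (F.map (toUnit P)) hβ
  have hn : n ≫ F.map i = β := hpb.lift_fst _ _ _
  obtain ⟨d, hd⟩ := (hG' P hP).2 n
  let m : P ⟶ G := (d ≫ i) * c
  have hm : F.map m = F.map pr ≫ b := by
    refine (map_mul (Functor.homMonoidHom (X := P) (M := G) F) (d ≫ i) c).trans ?_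
    show F.map (d ≫ i) * F.map c = _
    rw [F.map_comp, show F.map d = n from hd, hn, inv_mul_cancel_right]
  let D : Over S := Over.mk (pullback.fst pr.left pr.left ≫ P.hom)
  haveI hD : Smooth D.hom := inferInstanceAs (Smooth (pullback.fst pr.left pr.left ≫ P.hom))
  let d₁ : D ⟶ P := Over.homMk (pullback.fst pr.left pr.left) rfl
  let d₂ : D ⟶ P := Over.homMk (pullback.snd pr.left pr.left) (by
    show pullback.snd pr.left pr.left ≫ P.hom = pullback.fst pr.left pr.left ≫ P.hom
    rw [← Over.w pr, ← pullback.condition_assoc])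
  have hdd : d₁ ≫ pr = d₂ ≫ pr := Over.OverMorphism.ext (pullback.condition (f := pr.left) (g := pr.left))
  have h12 : d₁ ≫ m = d₂ ≫ m := hinj D hD _ _ (by
    rw [F.map_comp, F.map_comp, hm, ← Category.assoc, ← Category.assoc, ← F.map_comp, ← F.map_comp, hdd])
  obtain ⟨g, hg, -⟩ := existsUnique_desc pr m fun Z a a' e => by
    let l : Z ⟶ D := Over.homMk (pullback.lift a.left a'.left (congrArg Over.Hom.left e)) (by
      show pullback.lift _ _ _ ≫ pullback.fst pr.left pr.left ≫ P.hom = Z.hom
      rw [pullback.lift_fst_assoc, Over.w a])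
    have hla : l ≫ d₁ = a := Over.OverMorphism.ext (pullback.lift_fst _ _ _)
    have hla' : l ≫ d₂ = a' := Over.OverMorphism.ext (pullback.lift_snd _ _ _)
    rw [← hla, ← hla', Category.assoc, Category.assoc, h12]
  refine ⟨g, ?_⟩
  show F.map g = b
  haveI : Smooth (F.map pr).left :=
    MorphismProperty.of_isPullback (isPullback_map t pr) ‹Smooth pr.left›
  haveI : Surjective (F.map pr).left :=
    MorphismProperty.of_isPullback (isPullback_map t pr) ‹Surjective pr.left›
  apply cancel_left (F.map pr)
  rw [← F.map_comp, hg, hm]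

end

open CategoryTheory AlgebraicGeometry MonObj in
/-- Let S be a Dedekind scheme (integral, Noetherian, separated, of dimension one, with regular local
rings) with generic point η : Spec K → S, and let G', G and G'' be smooth separated group schemes
over S sitting in a short exact sequence 0 → G' → G → G'' → 0: i : G' → G and q : G → G'' are
homomorphisms, i identifies G' with the kernel of q, and q is flat and surjective. If G' and G'' are
Néron lft-models of their generic fibres (for every smooth S-scheme Y, restriction to η is a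
bijection from S-morphisms into them onto K-morphisms of generic fibres), then so is G. -/
theorem result
    {S : Scheme.{u}} [IsIntegral S] [IsNoetherian S] [S.IsSeparated]
    (hreg : ∀ s : S, IsRegularLocalRing (S.presheaf.stalk s)) (hdim : topologicalKrullDim S = 1)
    (G' G G'' : Over S) [GrpObj G'] [GrpObj G] [GrpObj G'']
    [Smooth G'.hom] [IsSeparated G'.hom] [Smooth G.hom] [IsSeparated G.hom] [Smooth G''.hom] [IsSeparated G''.hom]
    (i : G' ⟶ G) (q : G ⟶ G'') [IsMonHom i] [IsMonHom q]
    (hker : AlgGrp.IsKernel i q) [Flat q.left] [Surjective q.left]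
    (hG' : ∀ Y : Over S, Smooth Y.hom →
        Function.Bijective (fun g : Y ⟶ G' => (Over.pullback (S.fromSpecStalk (genericPoint S))).map g))
    (hG'' : ∀ Y : Over S, Smooth Y.hom →
        Function.Bijective (fun g : Y ⟶ G'' => (Over.pullback (S.fromSpecStalk (genericPoint S))).map g)) :
    ∀ Y : Over S, Smooth Y.hom →
        Function.Bijective (fun g : Y ⟶ G => (Over.pullback (S.fromSpecStalk (genericPoint S))).map g) := by
  intro Y hY
  exact bijective_of_extension (S.fromSpecStalk (genericPoint S)) G' G G'' i q hker hG' hG'' Y hY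

end Groth.Agent.S15958
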