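import Groth.Statements.S1596
import Groth.Agent.CBC.CurveH0
import Groth.Agent.S1589
import Groth.Agent.S10831

set_option autoImplicit false
universe u
open CategoryTheory CategoryTheory.Limits AlgebraicGeometry
open Curves

namespace Groth.Agent.S1596

/-- Let f : X → S be a proper morphism of schemes that is at-worst-nodal of relative dimension one with
geometrically connected fibres. Then R¹f_*O_X is a finite locally free O_S-module and R^q f_*O_X = 0
for every q ≥ 2. The published statement also includes the compatibility of these direct images with
base change, which is not asserted here. (Existence of injective resolutions in the category of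
O_X-modules is carried as an instance binder.) -/
theorem result {X S : Scheme.{u}} (f : X ⟶ S) [IsProper f] (hf : Curv2.IsNodalFamily f)
    [GeometricallyConnected f] [HasInjectiveResolutions X.Modules] :
    FlatMod.IsFinLocFree ((Coh.Rpush f 1).obj (Coh.structureModule X)) ∧
      ∀ q : ℕ, 2 ≤ q → IsZero ((Coh.Rpush f q).obj (Coh.structureModule X)) := by
  obtain ⟨hfl, hfp, hfib⟩ := hf
  haveI := hfl
  haveI := hfp
  have hdim : ∀ s : S, topologicalKrullDim ↥(f.fiber s) ≤ (1 : ℕ) := fun s => by
    rw [S10831.result]
    exact iSup₂_le fun Z hZ => ((hfib s).1 Z hZ).le.trans (by norm_num)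
  have hh : ∀ z : S, Function.Bijective (algebraMap (S.residueField z) Γ(f.fiber z, ⊤)) := fun z => by
    letI : (f.fiber z).Over (Spec (CommRingCat.of (S.residueField z))) := ⟨f.fiberToSpecResidueField z⟩
    haveI : IsProper (f.fiber z ↘ Spec (CommRingCat.of (S.residueField z))) :=
      show IsProper (pullback.snd f (S.fromSpecResidueField z)) from inferInstance
    haveI : GeometricallyConnected (f.fiber z ↘ Spec (CommRingCat.of (S.residueField z))) :=
      show GeometricallyConnected (pullback.snd f (S.fromSpecResidueField z)) from inferInstance
    haveI := (S1589.result (S.residueField z) (f.fiber z) (hfib z).1 (hfib z).2).2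
    exact VarBC.H0.bijective_algebraMap (S.residueField z) (f.fiber z)
  exact ⟨CBC.CurveH0.isFinLocFree_R1 f hh hdim, fun q hq => CBC.CurveH0.isZero_Rpush f hdim hq⟩

end Groth.Agent.S1596
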