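import Groth.Statements.S15963
import Groth.Agent.WN.Normal
import Groth.Agent.WN.Image

set_option autoImplicit false
universe u
open HTop

namespace Groth.Agent.S15963

open CategoryTheory AlgebraicGeometry in
/-- Let S be a reduced Noetherian scheme, π : S̃ → S its normalisation (S̃ has integrally closed local
domains, π is integral and an isomorphism over a dense open subset of S with dense preimage), ν : X'
→ S a seminormalization of S (X' seminormal, ν a universal homeomorphism with residue-field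
isomorphisms, initial among such) and g : S̃ → X' a morphism with g followed by ν equal to π. Then ν
and g are scheme-theoretically dominant (the structure sheaf maps injectively into the direct
image), and if π is finite then so are ν and g. -/
theorem result {S Sn X' : Scheme.{u}}
    [IsNoetherian S] [IsReduced S]
    (π : Sn ⟶ S) [IsIntegralHom π] (hn : Pi1.IsNormalScheme Sn)
    (hbir : ∃ U : S.Opens, Dense (U : Set S) ∧ Dense ((π ⁻¹ᵁ U : Sn.Opens) : Set Sn) ∧ IsIso (π ∣_ U))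
    (ν : X' ⟶ S) (hν : HTop.IsSeminormalization ν) (hX' : HTop.IsSeminormal X')
    (g : Sn ⟶ X') (hg : g ≫ ν = π) :
    (IsSchemeTheoreticallyDominant ν ∧ IsSchemeTheoreticallyDominant g) ∧
      (IsFinite π → IsFinite ν ∧ IsFinite g) := by
  obtain ⟨_, _, _⟩ := (WN.isUnivHomeo_iff ν).mp hν.1.1
  have : IsReduced X' := WN.isReduced_of_isSeminormal hX'
  have : IsIntegralHom (g ≫ ν) := hg.symm ▸ ‹IsIntegralHom π›
  have : IsIntegralHom g := IsIntegralHom.of_comp g ν
  obtain ⟨U, hU, -, hiso⟩ := hbir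
  have hsub : (U : Set S) ⊆ Set.range π := by
    intro x hx
    obtain ⟨y, hy⟩ := (π ∣_ U).homeomorph.surjective ⟨x, hx⟩
    exact ⟨y.1, (morphismRestrict_base_coe π U y).symm.trans (congrArg Subtype.val hy)⟩
  have : IsDominant π := ⟨hU.mono hsub⟩
  have : Surjective π := Surjective.of_universallyClosed_of_isDominant π
  have : Surjective (g ≫ ν) := hg.symm ▸ ‹Surjective π›
  have : Surjective g := by
    refine ⟨fun x => ?_⟩
    obtain ⟨y, hy⟩ := (g ≫ ν).surjective (ν x)
    rw [Scheme.Hom.comp_apply] at hy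
    exact ⟨y, ν.injective hy⟩
  have hgd : IsSchemeTheoreticallyDominant g := .of_isDominant g
  refine ⟨⟨.of_isDominant ν, hgd⟩, fun hπ => ?_⟩
  have hν' : IsFinite ν := by
    refine { toIsAffineHom := inferInstance, finite_app := fun V hV => ?_ }
    have h1 : (g ≫ ν).app V = ν.app V ≫ g.app (ν ⁻¹ᵁ V) := Scheme.Hom.comp_app _ _ _
    have : IsFinite (g ≫ ν) := hg.symm ▸ hπ
    have h2 : ((g ≫ ν).app V).hom.Finite := IsFinite.finite_app _ V hV
    let := (ν.app V).hom.toAlgebra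
    let := ((g.app (ν ⁻¹ᵁ V)).hom.comp (ν.app V).hom).toAlgebra
    have : IsNoetherianRing Γ(S, V) := IsLocallyNoetherian.component_noetherian ⟨V, hV⟩
    have h3 : (((ν.app V ≫ g.app (ν ⁻¹ᵁ V)).hom : Γ(S, V) →+* Γ(Sn, g ⁻¹ᵁ (ν ⁻¹ᵁ V)))).Finite := h1 ▸ h2
    have : Module.Finite Γ(S, V) Γ(Sn, g ⁻¹ᵁ (ν ⁻¹ᵁ V)) := h3
    let l : Γ(X', ν ⁻¹ᵁ V) →ₐ[Γ(S, V)] Γ(Sn, g ⁻¹ᵁ (ν ⁻¹ᵁ V)) :=
      ⟨(g.app (ν ⁻¹ᵁ V)).hom, fun _ => rfl⟩
    exact (Module.Finite.of_injective l.toLinearMap (g.app_injective (ν ⁻¹ᵁ V)) :)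
  have : IsFinite (g ≫ ν) := hg.symm ▸ hπ
  exact ⟨hν', IsFinite.of_comp g ν⟩

end Groth.Agent.S15963
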