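import Groth.Agent.RegLoc.Completion
import Groth.Agent.RegLoc.Homological
import Groth.Statements.S19474
-- import your own Groth.Agent.* helpers here

set_option autoImplicit false
universe u
open CAlg

namespace Groth.Agent.S19474

/-- Let A be a Noetherian local ring and I an ideal of A different from A. Then the I-adic completion of
A has the same Krull dimension as A, and A is a regular local ring if and only if the I-adic
completion of A is a regular local ring (in particular the completion is then local and Noetherian).
The case where I is the maximal ideal is the classical one; here I is any proper ideal. -/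
theorem result (A : Type u) [CommRing A]
    [IsLocalRing A] [IsNoetherianRing A] (I : Ideal A) (hI : I ≠ ⊤) :
    ringKrullDim (AdicCompletion I A) = ringKrullDim A ∧
      (IsRegularLocalRing A ↔ IsRegularLocalRing (AdicCompletion I A)) := by
  have hfg : I.FG := IsNoetherian.noetherian I
  have hle : I ≤ IsLocalRing.maximalIdeal A := IsLocalRing.le_maximalIdeal hI
  set f := algebraMap A (AdicCompletion I A) with hf
  set M := (IsLocalRing.maximalIdeal A).map f with hM
  have hMmax : M.IsMaximal := AdicCompletion.isMaximal_map_of_le I _ hle hfg
  have hself := AdicCompletion.isAdicComplete_self I hfg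
  have hjac : I.map f ≤ (⊥ : Ideal (AdicCompletion I A)).jacobson := IsAdicComplete.le_jacobson_bot _
  have hloc : IsLocalRing (AdicCompletion I A) := by
    refine IsLocalRing.of_unique_max_ideal ⟨M, hMmax, fun J hJ => ?_⟩
    have hIJ : I.map f ≤ J := hjac.trans (sInf_le ⟨bot_le, hJ⟩)
    have hsurj : Function.Surjective ((Ideal.Quotient.mk J).comp f) := by
      intro y
      obtain ⟨z, rfl⟩ := Ideal.Quotient.mk_surjective y
      obtain ⟨a, ha⟩ := Ideal.Quotient.mk_surjective (AdicCompletion.evalOneₐ I z)
      refine ⟨a, ?_⟩
      rw [RingHom.comp_apply, Ideal.Quotient.eq]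
      refine hIJ ?_
      rw [← AdicCompletion.ker_evalOneₐ_eq_map I hfg, RingHom.mem_ker, map_sub]
      show AdicCompletion.evalOneₐ I (algebraMap A (AdicCompletion I A) a) - AdicCompletion.evalOneₐ I z = 0
      rw [← ha, AlgHom.commutes, sub_eq_zero]
      rfl
    have hker : (RingHom.ker ((Ideal.Quotient.mk J).comp f)).IsMaximal := by
      have : (⊥ : Ideal (AdicCompletion I A ⧸ J)).IsMaximal :=
        let := Ideal.Quotient.field J; Ideal.bot_isMaximal
      exact Ideal.comap_isMaximal_of_surjective _ hsurj
    have heq := IsLocalRing.eq_maximalIdeal hker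
    refine (hMmax.eq_of_le hJ.ne_top ?_).symm
    rw [hM, Ideal.map_le_iff_le_comap, ← heq]
    intro a ha
    rw [RingHom.mem_ker, RingHom.comp_apply, Ideal.Quotient.eq_zero_iff_mem] at ha
    exact ha
  have hmax : M = IsLocalRing.maximalIdeal (AdicCompletion I A) := IsLocalRing.eq_maximalIdeal hMmax
  have hnoeth : IsNoetherianRing (AdicCompletion I A) := RegLoc.Completion.isNoetherianRing_adicCompletion' I
  have hdim := RegLoc.Completion.ringKrullDim_eq_of_flat_of_map_eq A (AdicCompletion I A) hmax
  refine ⟨hdim, fun h => ?_, fun h => ?_⟩
  · refine IsRegularLocalRing.of_spanFinrank_maximalIdeal_le _ ?_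
    rw [← hmax, hdim]
    have h1 := Ideal.spanFinrank_map_le_of_fg f (IsNoetherian.noetherian (IsLocalRing.maximalIdeal A))
    have h2 := (isRegularLocalRing_iff A).mp h
    rw [← h2]
    exact_mod_cast h1
  · haveI hlh : IsLocalHom f :=
      ((IsLocalRing.local_hom_TFAE f).out 0 2).mpr hmax.le
    exact RegLoc.Homological.isRegularLocalRing_of_flat (AdicCompletion I A)

end Groth.Agent.S19474
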