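import Groth.Statements.S1598
import Groth.Agent.CplBC.Scheme
import Groth.Agent.S19474
import Mathlib.AlgebraicGeometry.Noetherian
import Groth.Agent.RegLoc.Completion

set_option autoImplicit false
universe u
open CategoryTheory CategoryTheory.Limits AlgebraicGeometry
open Resolve

namespace Groth.Agent.S1598

/-- Let A be a Noetherian local ring with completion A^, X locally of finite type over Spec A, Y its
base change to Spec A^, and y a point of Y lying over the closed point of Spec A^ with image x in X.
Then the local ring of Y at y is regular if and only if the local ring of X at x is regular. -/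
theorem result (A : Type u) [CommRing A] [IsLocalRing A] [IsNoetherianRing A]
    (X : Scheme.{u}) (f : X ⟶ Spec (CommRingCat.of A)) [LocallyOfFiniteType f]
    (y : Curv2.bcCpl A f) (hy : (Curv2.bcCplSnd A f).base y = IsLocalRing.closedPoint (Curv2.cpl A)) :
    IsRegularLocalRing ((Curv2.bcCpl A f).presheaf.stalk y) ↔
      IsRegularLocalRing (X.presheaf.stalk ((Curv2.bcCplFst A f).base y)) := by
  have hm := Ideal.fg_of_isNoetherianRing (IsLocalRing.maximalIdeal A)
  haveI : IsNoetherianRing (Curv2.cpl A) :=
    Groth.Agent.RegLoc.Completion.isNoetherianRing_adicCompletion' (IsLocalRing.maximalIdeal A)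
  haveI : IsLocallyNoetherian X := LocallyOfFiniteType.isLocallyNoetherian f
  haveI : IsLocallyNoetherian (Curv2.bcCpl A f) := LocallyOfFiniteType.isLocallyNoetherian (Curv2.bcCplSnd A f)
  have hq : f.base ((Curv2.bcCplFst A f).base y) = IsLocalRing.closedPoint A := by
    have h : (Curv2.bcCplFst A f ≫ f).base y =
        (Curv2.bcCplSnd A f ≫ Spec.map (CommRingCat.ofHom (algebraMap A (Curv2.cpl A)))).base y := by
      rw [Limits.pullback.condition]
    rw [Scheme.Hom.comp_apply, Scheme.Hom.comp_apply, hy] at h
    exact h.trans (IsLocalRing.comap_closedPoint (algebraMap A (Curv2.cpl A)))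
  let ψ := ((Curv2.bcCplFst A f).stalkMap y).hom
  have hle : ∀ n : ℕ, IsLocalRing.maximalIdeal (X.presheaf.stalk ((Curv2.bcCplFst A f).base y)) ^ n ≤
      (IsLocalRing.maximalIdeal ((Curv2.bcCpl A f).presheaf.stalk y) ^ n).comap ψ := fun n => by
    rw [← Ideal.map_le_iff_le_comap, Ideal.map_pow]
    exact Ideal.pow_right_mono ((((IsLocalRing.local_hom_TFAE ψ).out 0 2).1 (inferInstance : IsLocalHom ((Curv2.bcCplFst A f).stalkMap y).hom))) n
  obtain ⟨e⟩ := CplBC.nonempty_completion_equiv _ _ ψ hle fun n => CplBC.bijective_quotientMap hm f y hq n (hle n)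
  rw [(Groth.Agent.S19474.result _ _ (IsLocalRing.maximalIdeal.isMaximal _).ne_top).2,
    (Groth.Agent.S19474.result (X.presheaf.stalk _) _ (IsLocalRing.maximalIdeal.isMaximal _).ne_top).2]
  exact ⟨fun h => IsRegularLocalRing.of_ringEquiv e.symm, fun h => IsRegularLocalRing.of_ringEquiv e⟩

end Groth.Agent.S1598
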