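import Groth.Statements.S1597
import Groth.Agent.S1598
import Groth.Agent.S0564
import Groth.Agent.CycLib.SpecPt
import Mathlib.AlgebraicGeometry.Morphisms.Proper

set_option autoImplicit false
universe u
open CategoryTheory CategoryTheory.Limits AlgebraicGeometry
open Resolve

namespace Groth.Agent.S1597

/-- Regularity passes to generizations. -/
theorem regular_of_specializes {X : Scheme.{u}} {x z : X} (h : x ⤳ z) [IsRegularLocalRing (X.presheaf.stalk z)] :
    IsRegularLocalRing (X.presheaf.stalk x) := by
  letI := (X.presheaf.stalkSpecializes h).hom.toAlgebra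
  haveI := RingHom.ker_isPrime (Cyc.specMap z x h)
  haveI := CycLib.isLocalization_stalkSpecializes h
  haveI := Groth.Agent.S0564.result (X.presheaf.stalk z) (RingHom.ker (Cyc.specMap z x h))
  exact IsRegularLocalRing.of_ringEquiv (IsLocalization.algEquiv (RingHom.ker (Cyc.specMap z x h)).primeCompl
    (Localization.AtPrime (RingHom.ker (Cyc.specMap z x h))) (X.presheaf.stalk x)).toRingEquiv

/-- Every point specializes to a point over the closed point. -/
theorem exists_closed {A : Type u} [CommRing A] [IsLocalRing A] {X : Scheme.{u}} (f : X ⟶ Spec (CommRingCat.of A))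
    [IsProper f] (x : X) : ∃ z : X, x ⤳ z ∧ f.base z = IsLocalRing.closedPoint A := by
  haveI : CompactSpace X := QuasiCompact.compactSpace_of_compactSpace f
  obtain ⟨z, hz, hzc⟩ := (isClosed_closure (s := ({x} : Set X))).exists_closed_singleton ⟨x, subset_closure rfl⟩
  refine ⟨z, specializes_iff_mem_closure.2 hz, ?_⟩
  have h : IsClosed ({f.base z} : Set _) := by
    have := f.isClosedMap _ hzc
    rwa [Set.image_singleton] at this
  exact PrimeSpectrum.ext (IsLocalRing.eq_maximalIdeal ((PrimeSpectrum.isClosed_singleton_iff_isMaximal _).1 h))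

/-- Let A be a Noetherian local ring with completion A^, X a scheme proper over Spec A and Y its base
change to Spec A^. Then all local rings of X are regular if and only if all local rings of Y are
regular. -/
theorem result (A : Type u) [CommRing A] [IsLocalRing A] [IsNoetherianRing A]
    (X : Scheme.{u}) (f : X ⟶ Spec (CommRingCat.of A)) [IsProper f] :
    (∀ x : X, IsRegularLocalRing (X.presheaf.stalk x)) ↔
      ∀ y : Curv2.bcCpl A f, IsRegularLocalRing ((Curv2.bcCpl A f).presheaf.stalk y) := by
  haveI : IsNoetherianRing (Curv2.cpl A) :=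
    Groth.Agent.RegLoc.Completion.isNoetherianRing_adicCompletion' (IsLocalRing.maximalIdeal A)
  constructor
  · intro h y
    obtain ⟨z, hyz, hz⟩ := exists_closed (Curv2.bcCplSnd A f) y
    haveI := (Groth.Agent.S1598.result A X f z hz).2 (h _)
    exact regular_of_specializes hyz
  · intro h x
    obtain ⟨z, hxz, hz⟩ := exists_closed f x
    haveI : IsRegularLocalRing (X.presheaf.stalk z) := by
      obtain ⟨y, hy1, hy2⟩ := Scheme.Pullback.exists_preimage_pullback (f := f)
        (g := Spec.map (CommRingCat.ofHom (algebraMap A (Curv2.cpl A)))) z (IsLocalRing.closedPoint (Curv2.cpl A))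
        (hz.trans (IsLocalRing.comap_closedPoint (algebraMap A (Curv2.cpl A))).symm)
      have h1 : (Curv2.bcCplFst A f).base y = z := hy1
      rw [← h1]
      exact (Groth.Agent.S1598.result A X f y hy2).1 (h y)
    exact regular_of_specializes hxz

end Groth.Agent.S1597
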