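import Groth.Statements.S2329
import Groth.Agent.Props.AmpleGG

set_option autoImplicit false
universe u
open CategoryTheory CategoryTheory.Limits AlgebraicGeometry
open EGA2

namespace Groth.Agent.S2329

/-- Let X be a quasi-compact separated scheme, L an ample invertible module and L' an invertible module.
Then there is n₀ > 0 such that L^{⊗n} ⊗ L' is ample and globally generated for every n ≥ n₀. -/
theorem result (X : Scheme.{u}) [CompactSpace X] [X.IsSeparated] (L L' : X.Modules) (hL : CohB1.IsAmple L) (hL' : PicF.IsInvertible L') :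
    ∃ n₀ : ℕ, 0 < n₀ ∧ ∀ n, n₀ ≤ n →
      CohB1.IsAmple (CohB1.tensorMod (CohB1.tensorPow L n) L') ∧ Curv2.IsGloballyGenerated (CohB1.tensorMod (CohB1.tensorPow L n) L') := by
  obtain ⟨n₁, hn₁⟩ := Props.AmpleGG.exists_bound hL hL'
  refine ⟨n₁ + 1, Nat.succ_pos _, fun n hn => ⟨?_, ?_⟩⟩
  · obtain ⟨m, rfl⟩ : ∃ m, n = m + 1 := ⟨n - 1, by omega⟩
    exact Props.AmpleGG.isAmple_succ hL hL' (hn₁ m (by omega))
  · refine Props.AmpleGG.isGloballyGenerated_of_genLocus fun x => ?_
    obtain ⟨t, ht⟩ := hn₁ n (by omega) x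
    obtain ⟨t', ht'⟩ := Props.AmpleFrames.exists_hom_one
      (Props.AmpleTensor.isInvertible hL.1 hL' (Props.AmpleTensor.FrameMap2.powTensor L L' n)) t
    exact ⟨t', ht' ▸ ht⟩

end Groth.Agent.S2329
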