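import Groth.Statements.S19801
import Groth.Agent.ProjTwist.Pn.HyperSection
import Groth.Agent.AmpCrit.SerreVan
import Groth.Agent.GalCohAux.AmpleFinite
import Groth.Agent.HilbPolyX.Section
import Groth.Agent.HilbPolyX.Basic
import Groth.Agent.PicLaw.Basic
import Groth.Agent.S2329

set_option autoImplicit false
set_option linter.style.haveILetI false
universe u
open CategoryTheory CategoryTheory.Limits AlgebraicGeometry Asymptotics
open Variety

namespace Groth.Agent.S19801

section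

open CategoryTheory CategoryTheory.Limits AlgebraicGeometry TopologicalSpace Polynomial
open Groth.Agent.ProjTwist Groth.Agent.Props.GenLocus Groth.Agent.AmpleLib

variable {X : Scheme.{u}}

theorem finite_ass [CompactSpace X] [IsLocallyNoetherian X] {M : X.Modules} (hM : Coh.IsCoh M) :
    (_root_.AssSch.Ass M).Finite := by
  classical
  obtain ⟨s, hs⟩ := isCompact_univ.elim_finite_subcover
    (fun U : X.affineOpens => ((U : X.Opens) : Set X)) (fun U => (U : X.Opens).isOpen) fun x _ => by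
      obtain ⟨T, hT, hxT, -⟩ := exists_isAffineOpen_mem_and_subset (X := X) (x := x) (U := ⊤) trivial
      exact Set.mem_iUnion.mpr ⟨⟨T, hT⟩, hxT⟩
  refine (Set.Finite.biUnion s.finite_toSet
    fun U _ => AssSch.Restrict.finite_ass_inter M hM U.2).subset fun x hx => ?_
  obtain ⟨U, hU, hxU⟩ := Set.mem_iUnion₂.mp (hs (Set.mem_univ x))
  exact Set.mem_iUnion₂.mpr ⟨U, hU, hx, hxU⟩

theorem mono_tensor_right {L A B : X.Modules} (hL : PicF.IsInvertible L) (φ : A ⟶ B) [Mono φ] :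
    Mono (((DCoh.tensorBi (X := X)).flip.obj L).map φ) :=
  (shortExact_tensor hL (ShortComplex.ShortExact.mk'
    (S := ShortComplex.mk φ (cokernel.π φ) (cokernel.condition φ))
    (ShortComplex.exact_cokernel φ) ‹_› (inferInstanceAs (Epi (cokernel.π φ))))).mono_f

theorem exists_mono_tensor_right {L A B : X.Modules} (hL : PicF.IsInvertible L)
    (h : ∃ φ : A ⟶ B, Mono φ) :
    ∃ φ : CohB1.tensorMod A L ⟶ CohB1.tensorMod B L, Mono φ := by
  obtain ⟨φ, hφ⟩ := h
  exact ⟨_, mono_tensor_right hL φ⟩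

theorem exists_mono_iso {A B C : X.Modules} (h : ∃ φ : A ⟶ B, Mono φ) (e : B ≅ C) :
    ∃ φ : A ⟶ C, Mono φ := by
  obtain ⟨φ, hφ⟩ := h
  exact ⟨φ ≫ e.hom, inferInstance⟩

theorem exists_mono_comp {A B C : X.Modules} (h : ∃ φ : A ⟶ B, Mono φ) (h' : ∃ φ : B ⟶ C, Mono φ) :
    ∃ φ : A ⟶ C, Mono φ := by
  obtain ⟨φ, hφ⟩ := h
  obtain ⟨ψ, hψ⟩ := h'
  exact ⟨φ ≫ ψ, inferInstance⟩

theorem exists_mono_pow {F P : X.Modules} (hP : PicF.IsInvertible P)
    (h : ∃ φ : F ⟶ CohB1.tensorMod F P, Mono φ) :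
    ∀ j : ℕ, ∃ φ : F ⟶ CohB1.tensorMod F (CohB1.tensorPow P j), Mono φ
  | 0 => exists_mono_iso ⟨𝟙 F, inferInstance⟩ (tensOne F).symm
  | j + 1 =>
    exists_mono_comp h (exists_mono_iso (exists_mono_tensor_right hP (exists_mono_pow hP h j))
      (tensAssoc F (CohB1.tensorPow P j) P))

theorem exists_mono_mulSec [IsNoetherian X] {F P : X.Modules} (hP : PicF.IsInvertible P)
    (hF : Coh.IsCoh F) (s : Coh.structureModule X ⟶ P)
    (hs : (_root_.AssSch.Ass F : Set X) ⊆ CohB1.genLocus P s) :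
    ∃ φ : F ⟶ CohB1.tensorMod F P, Mono φ := by
  have hB : Coh.IsCoh (CohDev.tens F P) := isCoh_tensor hP hF
  exact ⟨HilbPolyX.mulSec F s, ProjTwist.Pn.mono_of_injective_ass (HilbPolyX.mulSec F s) hF hB
    fun z hz => (HilbPolyX.mulSec_bijective F s (hs hz)).1⟩

theorem iso_key {A L L' : X.Modules} (hA : PicF.IsInvertible A) (hL : PicF.IsInvertible L)
    (hL' : PicF.IsInvertible L') (e : CohB1.tensorMod L L' ≅ Coh.structureModule X) (n N j r : ℕ)
    (hM : PicF.IsInvertible (CohB1.tensorMod (CohB1.tensorPow A n) L')) :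
    Nonempty (CohB1.tensorMod
      (CohB1.tensorPow (CohB1.tensorPow (CohB1.tensorMod (CohB1.tensorPow A n) L') N) j)
      (CohB1.tensorPow L (N * j + r)) ≅
      CohB1.tensorMod (CohB1.tensorPow L r) (CohB1.tensorPow A (n * (N * j)))) := by
  letI := PicLaw.law X
  have hl : PicGrp.cls L hL * PicGrp.cls L' hL' = 1 := by
    refine Subtype.ext ((PicGrp.cls_mul_cls_val hL hL').trans ?_)
    exact (PicGrp.cl_eq_cl_iff _ _).mpr ⟨e⟩
  have cp : ∀ {B : X.Modules} (hB : PicF.IsInvertible B) (i : ℕ),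
      PicGrp.cls B hB ^ i = PicGrp.cls _ (isInvertible_tensorPow hB i) :=
    fun hB i => Subtype.ext (PicGrp.cls_pow_val hB i)
  have hm : PicGrp.cls _ hM = PicGrp.cls A hA ^ n * PicGrp.cls L' hL' := by
    refine Subtype.ext ?_
    rw [cp, PicGrp.cls_mul_cls_val]
    rfl
  have key : (PicGrp.cls _ hM ^ N) ^ j * PicGrp.cls L hL ^ (N * j + r) =
      PicGrp.cls L hL ^ r * PicGrp.cls A hA ^ (n * (N * j)) := by
    rw [hm, eq_inv_of_mul_eq_one_right hl, ← pow_mul, mul_pow, ← pow_mul, pow_add, inv_pow,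
      mul_assoc, inv_mul_cancel_left, mul_comm]
  rw [cp, cp, cp, cp, cp] at key
  have key' := congrArg Subtype.val key
  rw [PicGrp.cls_mul_cls_val, PicGrp.cls_mul_cls_val] at key'
  exact (PicGrp.cl_eq_cl_iff _ _).mp key'

variable (k : Type u) [Field k] [X.Over (Spec (CommRingCat.of k))]

theorem finrank_zero_le_of_mono [IsProper (X ↘ Spec (CommRingCat.of k))] {A B : X.Modules}
    (hB : Coh.IsCoh B) (h : ∃ φ : A ⟶ B, Mono φ) :
    Module.finrank k (Coh.HH X A 0) ≤ Module.finrank k (Coh.HH X B 0) := by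
  obtain ⟨φ, hφ⟩ := h
  have := EulerChar.finite_HH k B hB 0
  exact LinearMap.finrank_le_finrank_of_injective (CurveCoh.injective_mapL_zero k
    (S := ShortComplex.mk φ (cokernel.π φ) (cokernel.condition φ))
    (ShortComplex.ShortExact.mk' (ShortComplex.exact_cokernel φ) hφ (inferInstanceAs (Epi (cokernel.π φ)))))

theorem exists_h0_ample_le [IsProper (X ↘ Spec (CommRingCat.of k))] {d : ℕ}
    {A : X.Modules} (hA : CohB1.IsAmple A)
    {G : X.Modules} (hG : Coh.IsCoh G)
    (hd : topologicalKrullDim (CohB1.support G) ≤ (d : WithBot ℕ∞)) :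
    ∃ C : ℕ, ∀ j : ℕ, Module.finrank k (Coh.HH X (CohB1.tensorMod G (CohB1.tensorPow A j)) 0) ≤
      C * (j + 1) ^ d := by
  classical
  obtain ⟨n₀, hn₀⟩ := AmpCrit.SerreVan.serre_vanishing (X ↘ Spec (CommRingCat.of k)) hA G hG
  obtain ⟨P, hP⟩ := HilbPolyX.exists_hilbPoly k hA.1 hG
  have hdeg : P.natDegree ≤ d := by
    refine natDegree_le_iff_coeff_eq_zero.mpr fun i hi => ?_
    refine HilbPolyX.coeff_eq_zero k hA.1 hG hP (n := d + 1) ?_ hi
    exact lt_of_le_of_lt hd (by exact_mod_cast Nat.lt_succ_self d)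
  let h0 : ℕ → ℕ := fun j => Module.finrank k (Coh.HH X (CohB1.tensorMod G (CohB1.tensorPow A j)) 0)
  let B : ℚ := ∑ i ∈ Finset.range (d + 1), |P.coeff i|
  refine ⟨(Finset.range n₀).sup h0 + ⌈B⌉₊, fun j => ?_⟩
  rcases Nat.lt_or_ge j n₀ with hj | hj
  · refine le_trans ?_ (Nat.le_mul_of_pos_right _ (pow_pos j.succ_pos d))
    exact (Finset.le_sup (f := h0) (Finset.mem_range.mpr hj)).trans (Nat.le_add_right _ _)
  have h := EulerChar.euler_eq_sum k (M := ShStab.twist X A G j) (t := 1)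
    fun i hi => hn₀ j hj i (by omega)
  have hz : (Curv2.euler k X (ShStab.twist X A G j) : ℚ) = (h0 j : ℚ) := by
    rw [h]
    simp [h0, ShStab.twist]
    rfl
  rw [hP j, eval_eq_sum_range' (Nat.lt_succ_of_le hdeg)] at hz
  suffices hle : (h0 j : ℚ) ≤ (⌈B⌉₊ : ℚ) * ((j : ℚ) + 1) ^ d by
    refine le_trans ?_ (Nat.mul_le_mul_right _ (Nat.le_add_left _ _))
    exact_mod_cast hle
  rw [← hz]
  refine le_trans (le_trans ?_ (le_of_eq (Finset.sum_mul _ _ _).symm))
    (mul_le_mul_of_nonneg_right (Nat.le_ceil B) (by positivity))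
  refine Finset.sum_le_sum fun i hi => ?_
  refine (mul_le_mul_of_nonneg_right (le_abs_self _) (by positivity)).trans
    (mul_le_mul_of_nonneg_left ?_ (abs_nonneg _))
  have hj0 : (0 : ℚ) ≤ j := Nat.cast_nonneg j
  calc (j : ℚ) ^ i ≤ ((j : ℚ) + 1) ^ i := pow_le_pow_left₀ hj0 (by linarith) i
    _ ≤ ((j : ℚ) + 1) ^ d :=
      pow_le_pow_right₀ (by linarith) (Nat.le_of_lt_succ (Finset.mem_range.mp hi))

theorem main [IsProper (X ↘ Spec (CommRingCat.of k))] {A : X.Modules} (hA : CohB1.IsAmple A)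
    (d : ℕ) (L : X.Modules) (hL : PicF.IsInvertible L) (F : X.Modules) (hF : Coh.IsCoh F)
    (hd : topologicalKrullDim (CohB1.support F) ≤ (d : WithBot ℕ∞)) :
    ∃ C : ℕ, ∀ m : ℕ,
      Module.finrank k (Coh.HH X (CohB1.tensorMod F (CohB1.tensorPow L m)) 0) ≤ C * (m + 1) ^ d := by
  classical
  haveI := EulerChar.isNoetherian k (X := X)
  haveI : CompactSpace X := EulerChar.compactSpace k
  haveI : IsSeparated (X ↘ Spec (CommRingCat.of k)) := inferInstance
  haveI : X.IsSeparated := ⟨by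
    rw [show terminal.from X = (X ↘ Spec (CommRingCat.of k)) ≫ terminal.from _ from (terminal.hom_ext _ _)]
    infer_instance⟩
  obtain ⟨L', hL', ⟨eLL'⟩⟩ := PicLaw.exists_inverse hL
  obtain ⟨n, hn, hamp⟩ := Groth.Agent.S2329.result X A L' hA hL'
  obtain ⟨hM, -⟩ := hamp n le_rfl
  let M := CohB1.tensorMod (CohB1.tensorPow A n) L'
  have hsec : ∃ (K : ℕ) (s : Coh.structureModule X ⟶ CohB1.tensorPow M (K + 1)),
      (_root_.AssSch.Ass F : Set X) ⊆ CohB1.genLocus _ s := by
    rcases (finite_ass hF).toFinset.eq_empty_or_nonempty with he | hne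
    · refine ⟨0, 0, fun x hx => ?_⟩
      exact absurd ((finite_ass hF).mem_toFinset.mpr hx) (by rw [he]; exact Finset.notMem_empty x)
    · obtain ⟨K, s, hs⟩ := GalCohAux.AmpleFinite.exists_nonvanishing hM (finite_ass hF).toFinset hne
      exact ⟨K, s, fun x hx => hs ((finite_ass hF).mem_toFinset.mpr hx)⟩
  obtain ⟨K, s, hs⟩ := hsec
  have hP : PicF.IsInvertible (CohB1.tensorPow M (K + 1)) := isInvertible_tensorPow hM.1 _
  have h1 := exists_mono_mulSec hP hF s hs
  choose C hC using fun r : Fin (K + 1) =>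
    exists_h0_ample_le k (d := d) hA (isCoh_tensor (isInvertible_tensorPow hL r.1) hF)
      ((Topology.IsEmbedding.inclusion (HilbPolyX.support_tensorMod_subset F _)).isInducing.topologicalKrullDim_le.trans hd)
  refine ⟨(Finset.univ.sup C) * (n + 1) ^ d, fun m => ?_⟩
  obtain ⟨j, r, hr, rfl⟩ : ∃ j r, r < K + 1 ∧ m = (K + 1) * j + r :=
    ⟨m / (K + 1), m % (K + 1), Nat.mod_lt _ K.succ_pos, (Nat.div_add_mod m (K + 1)).symm⟩
  set N := K + 1
  obtain ⟨φ, hφ⟩ := exists_mono_tensor_right (isInvertible_tensorPow hL (N * j + r))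
    (exists_mono_pow hP h1 j)
  have hP' := isInvertible_tensorPow hP j
  obtain ⟨e⟩ := iso_key hA.1 hL hL' eLL' n N j r hM.1
  have hmono := exists_mono_iso ⟨φ, hφ⟩
    (tensAssoc F _ (CohB1.tensorPow L (N * j + r)) ≪≫ tensCongr (Iso.refl F) e ≪≫
      (tensAssoc _ _ _).symm)
  have hcoh := isCoh_tensor (isInvertible_tensorPow hA.1 (n * (N * j)))
    (isCoh_tensor (isInvertible_tensorPow hL r) hF)
  refine (finrank_zero_le_of_mono k hcoh hmono).trans ?_
  refine (hC ⟨r, hr⟩ (n * (N * j))).trans ?_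
  rw [mul_assoc, ← mul_pow]
  refine Nat.mul_le_mul (Finset.le_sup (Finset.mem_univ _)) (Nat.pow_le_pow_left ?_ d)
  have hx : n * (N * j) ≤ n * ((K + 1) * j + r + 1) :=
    Nat.mul_le_mul_left _ ((Nat.le_add_right _ r).trans (Nat.le_succ _))
  rw [Nat.add_mul n 1, one_mul]
  omega

end


/-- Let X be a projective variety of dimension d over a field k, i.e. a geometrically integral scheme
proper over k admitting an ample invertible module, with dim X = d; let L be an invertible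
O_X-module and F a coherent O_X-module. Then dim_k H^0(X, F ⊗ L^m) = O(m^d) as m → ∞. -/
theorem result (k : Type u) [Field k] (X : Scheme.{u})
    [X.Over (Spec (CommRingCat.of k))] [IsIntegral X] [GeometricallyIntegral (X ↘ Spec (CommRingCat.of k))]
    [IsProper (X ↘ Spec (CommRingCat.of k))] (hproj : ∃ A : X.Modules, CohB1.IsAmple A)
    (d : ℕ) (hd : topologicalKrullDim X = d) (L : X.Modules) (hL : PicF.IsInvertible L)
    (F : X.Modules) (hF : Coh.IsCoh F) :
    (fun m : ℕ => (Module.finrank k (Coh.HH X (CohB1.tensorMod F (CohB1.tensorPow L m)) 0) : ℝ)) =O[Filter.atTop]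
      (fun m : ℕ => (m : ℝ) ^ d) := by
  obtain ⟨A, hA⟩ := hproj
  obtain ⟨C, hC⟩ := main k hA d L hL F hF (EulerChar.dim_support_le hd.le)
  refine Asymptotics.IsBigO.of_bound ((C * 2 ^ d : ℕ) : ℝ) ?_
  filter_upwards [Filter.eventually_ge_atTop 1] with m hm
  rw [Real.norm_natCast, norm_pow, Real.norm_natCast]
  have h1 : (m + 1) ^ d ≤ 2 ^ d * m ^ d := by
    rw [← mul_pow]
    exact Nat.pow_le_pow_left (by omega) d
  have h2 := (hC m).trans (Nat.mul_le_mul_left C h1)
  rw [← mul_assoc] at h2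
  exact_mod_cast h2

end Groth.Agent.S19801
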