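import Groth.Statements.S15976
import Groth.Agent.ProjTwist.Pn.HyperSection
import Groth.Agent.HilbPolyX.Section
import Groth.Agent.S19801
import Mathlib.GroupTheory.CosetCover

set_option autoImplicit false
universe u
open IntSh

namespace Groth.Agent.S15976

section

open CategoryTheory CategoryTheory.Limits AlgebraicGeometry Opposite

/-- Over a local ring with infinite residue field, finitely many proper submodules of `A^n` do not
cover it. -/
theorem exists_avoid {A : Type u} [CommRing A] [IsLocalRing A]
    (hA : Infinite (IsLocalRing.ResidueField A)) {n : ℕ} {ι : Type*} [Finite ι]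
    (M : ι → Submodule A (Fin n → A)) (hM : ∀ i, M i ≠ ⊤) :
    ∃ a : Fin n → A, ∀ i, a ∉ M i := by
  have := hA
  let k := IsLocalRing.ResidueField A
  let π : (Fin n → A) →ₗ[A] (Fin n → k) :=
    LinearMap.pi fun i => (Algebra.linearMap A k).comp (LinearMap.proj i)
  have hπ : ∀ a i, π a i = algebraMap A k (a i) := fun a i => rfl
  have hs : Function.Surjective (algebraMap A k) := IsLocalRing.residue_surjective
  let W : ι → Subspace k (Fin n → k) := fun i =>
    { (Submodule.map π (M i)).toAddSubmonoid with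
      smul_mem' := fun c v hv => by
        obtain ⟨r, rfl⟩ := hs c
        rw [algebraMap_smul]
        exact Submodule.smul_mem _ r hv }
  have hW : ∀ i, W i ≠ ⊤ := by
    intro i hi
    refine hM i (top_le_iff.mp (Submodule.le_of_le_smul_of_le_jacobson_bot
      (I := IsLocalRing.maximalIdeal A) Module.Finite.fg_top
      (by rw [IsLocalRing.jacobson_eq_maximalIdeal ⊥ bot_ne_top]) fun a _ => ?_))
    have ha : π a ∈ W i := by rw [hi]; trivial
    obtain ⟨b, hb, hba⟩ := ha
    refine Submodule.mem_sup.mpr ⟨b, hb, a - b, ?_, add_sub_cancel _ _⟩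
    rw [show a - b = ∑ j, (a j - b j) • (Pi.single j (1 : A) : Fin n → A) from by
      ext l; simp [Finset.sum_apply, Pi.single_apply]]
    refine Submodule.sum_mem _ fun j _ => Submodule.smul_mem_smul ?_ trivial
    have hj := congrFun hba j
    rw [hπ, hπ] at hj
    exact Ideal.Quotient.eq.mp hj.symm
  by_contra h
  push Not at h
  obtain ⟨i, hi⟩ := Subspace.exists_eq_top_of_iUnion_eq_univ (p := W)
    (Set.eq_univ_of_forall fun v => by
      choose a ha using fun l => hs (v l)
      obtain ⟨i, hi⟩ := h a
      exact Set.mem_iUnion.mpr ⟨i, a, hi, funext fun l => (hπ a l).trans (ha l)⟩)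
  exact hW i hi

open Groth.Agent.Props.GenLocus Groth.Agent.QCoh in
/-- Combinations with coefficients in `A` generating at finitely many given points. -/
theorem exists_comb {A : Type u} [CommRing A] [IsLocalRing A]
    (hA : Infinite (IsLocalRing.ResidueField A))
    {V : Scheme.{u}} (c : A →+* Γ(V, ⊤)) {L : V.Modules} (hL : PicF.IsInvertible L)
    {n : ℕ} (σ : Fin n → (Coh.structureModule V ⟶ L))
    (hgen : ∀ x : V, ∃ i, x ∈ CohB1.genLocus L (σ i)) (S : Set V) (hS : S.Finite) :
    ∃ a : Fin n → A, ∀ x ∈ S,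
      x ∈ CohB1.genLocus L (homOfSec (∑ i, c (a i) • sec (σ i) ⊤)) := by
  have key : ∀ x : V, ∃ M : Submodule A (Fin n → A), M ≠ ⊤ ∧ ∀ a, a ∉ M →
      x ∈ CohB1.genLocus L (homOfSec (∑ i, c (a i) • sec (σ i) ⊤)) := by
    intro x
    obtain ⟨W, e, hxW, he⟩ := exists_isGen hL x
    choose g hg using fun i => he.exists_eq le_rfl (sec (σ i) W)
    have hg' : ∀ i, sec (σ i) W = g i • e := fun i => by
      have := (hg i).1
      rwa [res_self] at this
    let K := V.residueField x
    let ev := (V.evaluation W x hxW).hom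
    let : Algebra A K := (ev.comp ((rres (le_top : W ≤ ⊤)).hom.comp c)).toAlgebra
    let φ : (Fin n → A) →ₗ[A] K :=
      ∑ i, (LinearMap.mulRight A (ev (g i))).comp ((Algebra.linearMap A K).comp (LinearMap.proj i))
    have hφ : ∀ a, φ a = ev (∑ i, rres (le_top : W ≤ ⊤) (c (a i)) * g i) := fun a => by
      simp only [φ, map_sum, LinearMap.sum_apply, map_mul]
      rfl
    refine ⟨LinearMap.ker φ, fun h => ?_, fun a ha => ?_⟩
    · obtain ⟨i, hi⟩ := hgen x
      have hxb : x ∈ V.basicOpen (g i) := by
        rw [← genLocus_inf he (σ i) (hg' i)]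
        exact ⟨hi, hxW⟩
      refine (V.evaluation_ne_zero_iff_mem_basicOpen x hxW (g i)).mpr hxb ?_
      have h1 : φ (Pi.single i 1) = 0 := LinearMap.mem_ker.mp (h ▸ Submodule.mem_top)
      rw [hφ, Finset.sum_eq_single i (fun j _ hj => by simp [Pi.single_eq_of_ne hj])
        (by simp), Pi.single_eq_same, map_one, map_one, one_mul] at h1
      exact h1
    · have hsec : sec (homOfSec (∑ i, c (a i) • sec (σ i) ⊤)) W =
          (∑ i, rres (le_top : W ≤ ⊤) (c (a i)) * g i) • e := by
        rw [sec_homOfSec, map_sum, Finset.sum_smul]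
        exact Finset.sum_congr rfl fun i _ => by rw [res_smul, sec_res, hg', smul_smul]
      have hb := genLocus_inf he _ hsec
      have : x ∈ CohB1.genLocus L (homOfSec (∑ i, c (a i) • sec (σ i) ⊤)) ⊓ W := by
        rw [hb]
        exact (V.evaluation_ne_zero_iff_mem_basicOpen x hxW _).mp
          fun h0 => ha (LinearMap.mem_ker.mpr ((hφ a).trans h0))
      exact this.1
  choose M hM hMa using key
  have := hS.to_subtype
  obtain ⟨a, ha⟩ := exists_avoid hA (fun x : S => M x) fun x => hM x
  exact ⟨a, fun x hx => hMa x a (ha ⟨x, hx⟩)⟩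

end

open CategoryTheory CategoryTheory.Limits AlgebraicGeometry Opposite in
/-- Let A be a Noetherian local ring with infinite residue field, V a Noetherian scheme over Spec A, L
an invertible O_V-module generated by finitely many global sections σ_0, …, σ_N (at every point some
σ_i generates L), and F_1, …, F_m coherent O_V-modules. Then some A-linear combination σ of the σ_i
is F_j-regular for every j, regularity of a global section σ of L with respect to F meaning that the
map F ⊗ O_V → F ⊗ L induced by σ is injective. The combination is expressed through the global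
sections σ(1), σ_i(1) ∈ Γ(V, L) and the images in Γ(V, O_V) of the coefficients from A. -/
theorem result
    {A : Type u} [CommRing A] [IsNoetherianRing A] [IsLocalRing A]
    (hA : Infinite (IsLocalRing.ResidueField A))
    {V : Scheme.{u}} [IsNoetherian V] (f : V ⟶ Spec (CommRingCat.of A))
    (L : V.Modules) (hL : PicF.IsInvertible L)
    {N : ℕ} (σ : Fin (N + 1) → (Coh.structureModule V ⟶ L))
    (hgen : ∀ x : V, ∃ i, x ∈ CohB1.genLocus L (σ i))
    {m : ℕ} (F : Fin m → V.Modules) (hF : ∀ j, Coh.IsCoh (F j)) :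
    ∃ (τ : Coh.structureModule V ⟶ L) (a : Fin (N + 1) → A),
      τ.val.app (op ⊤) (1 : V.ringCatSheaf.obj.obj (op ⊤)) =
        ∑ i, f.appTop ((Scheme.ΓSpecIso (CommRingCat.of A)).inv (a i)) •
          (σ i).val.app (op ⊤) (1 : V.ringCatSheaf.obj.obj (op ⊤)) ∧
      ∀ j, Mono (((DCoh.tensorBi (X := V)).obj (F j)).map τ) := by
  let c : A →+* Γ(V, ⊤) := f.appTop.hom.comp (Scheme.ΓSpecIso (CommRingCat.of A)).inv.hom
  obtain ⟨a, ha⟩ := exists_comb hA c hL σ hgen (⋃ j, AssSch.Ass (F j))
    (Set.finite_iUnion fun j => Groth.Agent.S19801.finite_ass (hF j))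
  let s := Groth.Agent.Props.GenLocus.homOfSec
    (∑ i, c (a i) • Groth.Agent.Props.GenLocus.sec (σ i) ⊤)
  refine ⟨s, a, ?_, fun j => ?_⟩
  · have h := Groth.Agent.Props.GenLocus.sec_homOfSec
      (∑ i, c (a i) • Groth.Agent.Props.GenLocus.sec (σ i) ⊤) ⊤
    rw [Groth.Agent.QCoh.res_self] at h
    exact h
  · have : Mono (Groth.Agent.HilbPolyX.mulSec (F j) s) :=
      Groth.Agent.ProjTwist.Pn.mono_of_injective_ass _ (hF j)
        (Groth.Agent.ProjTwist.isCoh_tensor hL (hF j)) fun z hz =>
          (Groth.Agent.HilbPolyX.mulSec_bijective (F j) s (ha z (Set.mem_iUnion.mpr ⟨j, hz⟩))).1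
    have he : ((DCoh.tensorBi (X := V)).obj (F j)).map s =
        (Groth.Agent.HilbPolyX.unitIso (F j)).hom ≫ Groth.Agent.HilbPolyX.mulSec (F j) s :=
      (Iso.hom_inv_id_assoc _ _).symm
    rw [he]
    infer_instance

end Groth.Agent.S15976
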