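import Groth.Statements.S15981
import Groth.Agent.EulerChar.Deg
import Groth.Agent.CycLib.ModStalk
import Groth.Agent.CohDev.Gen
import Groth.Agent.PullStalk.Exact

set_option autoImplicit false
universe u
open IntSh

set_option linter.style.haveILetI false
set_option linter.unusedSectionVars false
open AlgebraicGeometry CategoryTheory TopologicalSpace
namespace Groth.Agent.S15981

theorem eq_of_specializes {X : Scheme.{u}} {x y : X} (hx : ringKrullDim (X.presheaf.stalk x) = 0) (h : y ⤳ x) :
    y = x := by
  rw [ringKrullDim_stalk_eq_coheight] at hx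
  have hc : Order.coheight x = 0 := by exact_mod_cast hx
  have h' : x ⤳ y := Order.coheight_eq_zero.1 hc h
  exact (h.antisymm h').eq

theorem finite_minimal (X : Scheme.{u}) [IsNoetherian X] :
    Finite {x : X // ringKrullDim (X.presheaf.stalk x) = 0} := by
  haveI : Finite (irreducibleComponents (X : Type u)) := TopologicalSpace.NoetherianSpace.finite_irreducibleComponents.to_subtype
  refine Finite.of_injective (β := irreducibleComponents (X : Type u)) (fun z => ⟨closure {z.1}, ?_⟩) fun a b hab => ?_
  · refine ⟨isIrreducible_singleton.closure, fun S hS hle y hy => ?_⟩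
    obtain ⟨g, hg⟩ := QuasiSober.sober hS.closure isClosed_closure
    have h1 : g ⤳ z.1 := hg.specializes (subset_closure (hle (subset_closure rfl)))
    obtain rfl := eq_of_specializes z.2 h1
    exact hg.def.ge (subset_closure hy)
  · exact Subtype.ext (inseparable_iff_closure_eq.2 (congrArg Subtype.val hab)).eq



open CategoryTheory CategoryTheory.Limits AlgebraicGeometry in
/-- Let X be a reduced Noetherian scheme and η_i the generic points of its irreducible components (the
points with zero-dimensional local ring). Sending the class of a coherent O_X-module F to the family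
of lengths of its stalks F_{η_i} over O_{X,η_i} is a well defined homomorphism rk from the
Grothendieck group of coherent O_X-modules to the group of integer-valued functions on the η_i;
every such rk is surjective and its kernel is the subgroup generated by the classes of coherent
modules whose support contains no η_i (the first step of the coniveau filtration), so that rk
identifies the zeroth graded piece of that filtration with the free abelian group on the irreducible
components. -/
theorem result
    {X : Scheme.{u}} [IsNoetherian X] [IsReduced X] :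
    (∃ rk : SGA6.Kcoh X →+ ({x : X // ringKrullDim (X.presheaf.stalk x) = 0} → ℤ),
        ∀ F : X.Modules, Coh.IsCoh F →
          rk (KZero.clSub (fun M : X.Modules => Coh.IsCoh M) F) =
            fun x => ((Module.length (X.presheaf.stalk x.1) (F.presheaf.stalk x.1)).toNat : ℤ)) ∧
    ∀ rk : SGA6.Kcoh X →+ ({x : X // ringKrullDim (X.presheaf.stalk x) = 0} → ℤ),
      (∀ F : X.Modules, Coh.IsCoh F →
          rk (KZero.clSub (fun M : X.Modules => Coh.IsCoh M) F) =
            fun x => ((Module.length (X.presheaf.stalk x.1) (F.presheaf.stalk x.1)).toNat : ℤ)) →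
        Function.Surjective rk ∧
          rk.ker = AddSubgroup.closure {c : SGA6.Kcoh X | ∃ F : X.Modules, Coh.IsCoh F ∧
            (∀ x ∈ CohB1.support F, (1 : WithBot ℕ∞) ≤ ringKrullDim (X.presheaf.stalk x)) ∧
            c = KZero.clSub (fun M : X.Modules => Coh.IsCoh M) F} := by
  classical
  let Z := {x : X // ringKrullDim (X.presheaf.stalk x) = 0}
  haveI : Finite Z := finite_minimal X
  let len : X.Modules → Z → ℤ := fun F x =>
    ((Module.length (X.presheaf.stalk x.1) (F.presheaf.stalk x.1)).toNat : ℤ)
  have hzero : ∀ (F : X.Modules) (x : Z), x.1 ∉ CohB1.support F → len F x = 0 := fun F x hx => by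
    haveI : Subsingleton (F.presheaf.stalk x.1) := not_not.1 hx
    simp [len, Module.length_eq_zero]
  have hfin : ∀ F : X.Modules, Coh.IsCoh F → ∀ x : Z,
      Module.length (X.presheaf.stalk x.1) (F.presheaf.stalk x.1) ≠ ⊤ := fun F hF x =>
    haveI := hF.1
    (CycLib.length_stalk_lt_top F hF x.1 fun y _ hy => eq_of_specializes x.2 hy).ne
  have hadd : ∀ (x : Z) (S : ShortComplex X.Modules), S.ShortExact → Coh.IsCoh S.X₁ → Coh.IsCoh S.X₂ →
      Coh.IsCoh S.X₃ → len S.X₂ x = len S.X₁ x + len S.X₃ x := fun x S hS h1 _ h3 => by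
    obtain ⟨hi, he, hs⟩ := PullStalk.Exact.stalk_exact hS x.1
    have h := Module.length_eq_add_of_exact _ _ hi hs he
    simp only [len]
    rw [h, ENat.toNat_add (hfin _ h1 x) (hfin _ h3 x)]
    push_cast
    rfl
  obtain ⟨L, hL⟩ : ∃ L : Z → (SGA6.Kcoh X →+ ℤ), ∀ x F, Coh.IsCoh F → L x (CohDev.kcl F) = len F x :=
    ⟨fun x => EulerChar.liftK (fun F => len F x) (hadd x),
      fun x F hF => EulerChar.liftK_kcl (fun F => len F x) (hadd x) hF⟩
  let rk₀ : SGA6.Kcoh X →+ (Z → ℤ) := AddMonoidHom.mk' (fun c x => L x c) fun a b => funext fun x => map_add (L x) a b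
  have hrk₀ : ∀ F : X.Modules, Coh.IsCoh F → rk₀ (CohDev.kcl F) = len F := fun F hF =>
    funext fun x => hL x F hF
  refine ⟨⟨rk₀, hrk₀⟩, fun rk hrk => ?_⟩
  let oz : Z → SGA6.Kcoh X := fun z => CohDev.kcl (Cyc.closureStructureSheaf z.1)
  let σ : (Z →₀ ℤ) →+ SGA6.Kcoh X := Finsupp.liftAddHom fun z => zmultiplesHom _ (oz z)
  have hdelta : ∀ z, rk (oz z) = Pi.single z 1 := fun z => by
    refine (hrk _ (CohDev.isCoh_oz z.1)).trans (funext fun w => ?_)
    by_cases hwz : w = z
    · subst hwz
      rw [Pi.single_eq_same, CohDev.length_stalk_oz]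
      rfl
    · rw [Pi.single_eq_of_ne hwz]
      refine hzero _ w fun hw => hwz (Subtype.ext ?_)
      exact (eq_of_specializes w.2 (specializes_iff_mem_closure.2 (CohDev.support_oz_subset z.1 hw))).symm
  have hσ : ∀ f : Z →₀ ℤ, rk (σ f) = ⇑f := fun f => by
    induction f using Finsupp.induction_linear with
    | zero => simp
    | add f g hf hg => rw [map_add, map_add, hf, hg, Finsupp.coe_add]
    | single z n =>
      rw [show σ (Finsupp.single z n) = n • oz z by simp [σ], map_zsmul, hdelta, Finsupp.single_eq_pi_single]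
      funext w
      by_cases h : w = z
      · subst h; simp
      · simp [h]
  refine ⟨fun v => ⟨σ (Finsupp.equivFunOnFinite.symm v), by rw [hσ]; rfl⟩, le_antisymm (fun c hc => ?_) ?_⟩
  · set Fl := AddSubgroup.closure {c : SGA6.Kcoh X | ∃ F : X.Modules, Coh.IsCoh F ∧
      (∀ x ∈ CohB1.support F, (1 : WithBot ℕ∞) ≤ ringKrullDim (X.presheaf.stalk x)) ∧
      c = KZero.clSub (fun M : X.Modules => Coh.IsCoh M) F} with hFl
    have hker : Fl ≤ rk.ker := by
      rw [hFl, AddSubgroup.closure_le]
      rintro _ ⟨F, hF, hs, rfl⟩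
      rw [SetLike.mem_coe, AddMonoidHom.mem_ker, hrk F hF]
      refine funext fun x => hzero F x fun hx => ?_
      have h := hs _ hx
      rw [x.2] at h
      norm_num at h
    have hgen : ∀ F : X.Modules, Coh.IsCoh F → CohDev.kcl F ∈ σ.range ⊔ Fl := fun F hF => by
      refine (AddSubgroup.closure_le _).2 ?_ (CohDev.kcl_mem_closure_oz hF)
      rintro _ ⟨y, -, rfl⟩
      by_cases hy : ringKrullDim (X.presheaf.stalk y) = 0
      · exact AddSubgroup.mem_sup_left ⟨Finsupp.single (⟨y, hy⟩ : Z) 1, by simp [σ, oz]⟩
      · refine AddSubgroup.mem_sup_right (AddSubgroup.subset_closure ⟨_, CohDev.isCoh_oz y, fun x hx => ?_, rfl⟩)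
        have hyx : y ⤳ x := specializes_iff_mem_closure.2 (CohDev.support_oz_subset y hx)
        by_contra h1
        have hx0 : ringKrullDim (X.presheaf.stalk x) = 0 := by
          rw [ringKrullDim_stalk_eq_coheight] at h1 ⊢
          have : Order.coheight x < 1 := WithBot.coe_lt_coe.1 (not_le.1 h1)
          rw [Order.lt_one_iff.1 this]
          rfl
        exact hy ((eq_of_specializes hx0 hyx) ▸ hx0)
    have hall : ∀ c : SGA6.Kcoh X, c ∈ σ.range ⊔ Fl := fun c => by
      obtain ⟨a, rfl⟩ := QuotientAddGroup.mk'_surjective _ c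
      induction a using FreeAbelianGroup.induction_on with
      | zero => rw [map_zero]; exact zero_mem _
      | of M =>
        have h := hgen M.1 M.2
        rwa [CohDev.kcl, KZero.clSub, dif_pos M.2] at h
      | neg M hM => rw [map_neg]; exact neg_mem hM
      | add a b ha hb => rw [map_add]; exact add_mem ha hb
    obtain ⟨_, ⟨f, rfl⟩, g, hg, rfl⟩ := AddSubgroup.mem_sup.1 (hall c)
    rw [AddMonoidHom.mem_ker, map_add, hσ, (hker hg : rk g = 0), add_zero] at hc
    have : f = 0 := DFunLike.coe_injective hc
    rw [this, map_zero, zero_add]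
    exact hg
  · rw [AddSubgroup.closure_le]
    rintro _ ⟨F, hF, hs, rfl⟩
    rw [SetLike.mem_coe, AddMonoidHom.mem_ker, hrk F hF]
    refine funext fun x => hzero F x fun hx => ?_
    have h := hs _ hx
    rw [x.2] at h
    norm_num at h


end Groth.Agent.S15981
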