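import Groth.Statements.S15983
import Groth.Agent.ParabolicLib.Pivots
import Mathlib
-- import your own Groth.Agent.* helpers here

set_option autoImplicit false
universe u v
open W4c3dlvarstrsh

namespace Groth.Agent.S15983

lemma sgn_sq {r : ℕ} (T : Finset (Fin r)) (a : Fin r) :
    W4c3dlvarstrsh.sgn T a * W4c3dlvarstrsh.sgn T a = 1 := by
  unfold W4c3dlvarstrsh.sgn
  rw [← pow_add, Even.neg_one_pow ⟨_, rfl⟩]

lemma card_filter_insert {r : ℕ} (T : Finset (Fin r)) (a b : Fin r) (hb : b ∉ T) :
    ((insert b T).filter fun t => t < a).card = (T.filter fun t => t < a).card + if b < a then 1 else 0 := by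
  classical
  rw [Finset.filter_insert]
  split_ifs with h
  · rw [Finset.card_insert_of_notMem (fun hh => hb (Finset.mem_filter.1 hh).1)]
  · rw [add_zero]

lemma sgn_anti {r : ℕ} (T : Finset (Fin r)) (a b : Fin r) (hab : a ≠ b) (ha : a ∉ T) (hb : b ∉ T) :
    W4c3dlvarstrsh.sgn T a * W4c3dlvarstrsh.sgn (insert a T) b =
      -(W4c3dlvarstrsh.sgn T b * W4c3dlvarstrsh.sgn (insert b T) a) := by
  unfold W4c3dlvarstrsh.sgn
  rw [card_filter_insert T b a ha, card_filter_insert T a b hb]
  rcases lt_or_gt_of_ne hab with h | h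
  · rw [if_pos h, if_neg (not_lt.2 h.le)]; ring
  · rw [if_pos h, if_neg (not_lt.2 h.le)]; ring

lemma sgn_cross {r : ℕ} (T : Finset (Fin r)) (a a₀ : Fin r) (h0 : a₀ ∈ T) (ha : a ∉ T) :
    W4c3dlvarstrsh.sgn T a * W4c3dlvarstrsh.sgn (insert a (T.erase a₀)) a₀ =
      -(W4c3dlvarstrsh.sgn (T.erase a₀) a₀ * W4c3dlvarstrsh.sgn (T.erase a₀) a) := by
  have hne : a ≠ a₀ := fun e => ha (e ▸ h0)
  have hna : a ∉ T.erase a₀ := fun h => ha (Finset.mem_of_mem_erase h)
  have key := sgn_anti (T.erase a₀) a a₀ hne hna (Finset.notMem_erase a₀ T)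
  rw [Finset.insert_erase h0] at key
  have h1 := sgn_sq (T.erase a₀) a
  have h2 := sgn_sq (T.erase a₀) a₀
  linear_combination (W4c3dlvarstrsh.sgn T a * W4c3dlvarstrsh.sgn (T.erase a₀) a) * key +
    (-(W4c3dlvarstrsh.sgn T a) * W4c3dlvarstrsh.sgn (insert a (T.erase a₀)) a₀) * h1 +
    (-(W4c3dlvarstrsh.sgn (T.erase a₀) a₀) * W4c3dlvarstrsh.sgn (T.erase a₀) a) * sgn_sq T a

lemma delta_delta {F : Type u} [Field F] {R : Type v} [CommRing R] {m r : ℕ} (c : ℕ)
    (g : W4c3dlvarstrsh.Cochain F R (m := m) r (c + 2)) (T : {T : Finset (Fin r) // T.card = c})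
    (x : GL (Fin (m + 1)) F) :
    W4c3dlvarstrsh.delta c (W4c3dlvarstrsh.delta (c + 1) g) T x = 0 := by
  classical
  let t : Fin r × Fin r → R := fun q =>
    if h : q.1 ∉ T.1 ∧ q.2 ∉ insert q.1 T.1 then
      (W4c3dlvarstrsh.sgn T.1 q.1 : R) * ((W4c3dlvarstrsh.sgn (insert q.1 T.1) q.2 : R) *
        g ⟨insert q.2 (insert q.1 T.1), by
          rw [Finset.card_insert_of_notMem h.2, Finset.card_insert_of_notMem h.1, T.2]⟩ x)
    else 0
  have h1 : W4c3dlvarstrsh.delta c (W4c3dlvarstrsh.delta (c + 1) g) T x = ∑ q : Fin r × Fin r, t q := by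
    rw [Fintype.sum_prod_type]
    refine Finset.sum_congr rfl fun a _ => ?_
    by_cases ha : a ∉ T.1
    · rw [dif_pos ha, W4c3dlvarstrsh.delta, Finset.mul_sum]
      refine Finset.sum_congr rfl fun b _ => ?_
      by_cases hb : b ∉ insert a T.1
      · simp only [t]
        rw [dif_pos hb, dif_pos (show a ∉ T.1 ∧ b ∉ insert a T.1 from ⟨ha, hb⟩)]
      · simp only [t]
        rw [dif_neg hb, mul_zero, dif_neg (fun h : a ∉ T.1 ∧ b ∉ insert a T.1 => hb h.2)]
    · rw [dif_neg ha]
      exact (Finset.sum_eq_zero fun b _ =>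
        dif_neg (fun h : (a, b).1 ∉ T.1 ∧ (a, b).2 ∉ insert (a, b).1 T.1 => ha h.1)).symm
  rw [h1]
  have hsym : ∀ q, t q + t q.swap = 0 := by
    rintro ⟨a, b⟩
    by_cases h : a ∉ T.1 ∧ b ∉ insert a T.1
    · have hab : a ≠ b := fun e => h.2 (e ▸ Finset.mem_insert_self _ _)
      have hb : b ∉ T.1 := fun e => h.2 (Finset.mem_insert_of_mem e)
      have h' : b ∉ T.1 ∧ a ∉ insert b T.1 := ⟨hb, by simp [hab, h.1]⟩
      simp only [t, Prod.swap, dif_pos h, dif_pos h', Finset.insert_comm b a T.1, ← mul_assoc, ← Int.cast_mul,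
        sgn_anti T.1 a b hab h.1 hb, Int.cast_neg, neg_mul, neg_add_cancel]
    · have h' : ¬ (b ∉ T.1 ∧ a ∉ insert b T.1) := fun hh => h ⟨fun e => hh.2 (Finset.mem_insert_of_mem e), by
        simp only [Finset.mem_insert, not_or]
        exact ⟨fun e => hh.2 (e ▸ Finset.mem_insert_self _ _), hh.1⟩⟩
      simp only [t, Prod.swap, dif_neg h, dif_neg h', add_zero]
  refine Finset.sum_involution (fun q _ => q.swap) (fun q _ => hsym q) (fun q _ hne hfix => ?_)
    (fun q _ => Finset.mem_univ _) (fun q _ => q.swap_swap)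
  apply hne
  refine dif_neg fun h => h.2 ?_
  have : q.2 = q.1 := congrArg Prod.fst hfix
  rw [this]
  exact Finset.mem_insert_self _ _

lemma parabolic_mono {F : Type u} [Field F] {m r : ℕ} (ω : Fin r ↪ Fin m) {S S' : Finset (Fin r)}
    (hss : S ⊆ S') {p : GL (Fin (m + 1)) F} (hp : p ∈ W4c3dlvarstrsh.parabolic F (S.map ω)) :
    p ∈ W4c3dlvarstrsh.parabolic F (S'.map ω) := by
  classical
  intro l j hlj
  refine hp ?_
  show W4c3dlvarstrsh.blockOf _ j < W4c3dlvarstrsh.blockOf _ l
  apply Finset.card_lt_card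
  have hlt : W4c3dlvarstrsh.blockOf (S'.map ω) j < W4c3dlvarstrsh.blockOf (S'.map ω) l := hlj
  have hsub := Finset.map_subset_map (f := ω) |>.2 hss
  obtain ⟨i, hi, hi'⟩ := Finset.not_subset.1 fun hs => absurd hlt (not_lt.2 (Finset.card_le_card hs))
  simp only [Finset.mem_filter, Finset.mem_univ, true_and] at hi hi'
  have hjl : (j : ℕ) ≤ (l : ℕ) := by
    by_contra hgt
    rw [not_le] at hgt
    exact hi' ⟨by omega, hi.2⟩
  rw [Finset.ssubset_iff_of_subset]
  · refine ⟨i, ?_, ?_⟩
    · simp only [Finset.mem_filter, Finset.mem_univ, true_and]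
      exact ⟨hi.1, fun h => hi.2 (hsub h)⟩
    · simp only [Finset.mem_filter, Finset.mem_univ, true_and, not_and]
      intro h; exact absurd ⟨h, hi.2⟩ hi'
  · intro i
    simp only [Finset.mem_filter, Finset.mem_univ, true_and]
    rintro ⟨h1, h2⟩; exact ⟨by omega, h2⟩

lemma delta_induced {F : Type u} [Field F] {R : Type v} [CommRing R] {m r : ℕ} (ω : Fin r ↪ Fin m) (c : ℕ)
    (g : W4c3dlvarstrsh.Cochain F R (m := m) r (c + 1)) (hg : W4c3dlvarstrsh.IsInduced ω g)
    (T : {T : Finset (Fin r) // T.card = c}) (x p : GL (Fin (m + 1)) F)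
    (hp : p ∈ W4c3dlvarstrsh.parabolic F (T.1.map ω)) :
    W4c3dlvarstrsh.delta c g T (x * p) = W4c3dlvarstrsh.delta c g T x := by
  classical
  refine Finset.sum_congr rfl fun a _ => ?_
  by_cases ha : a ∉ T.1
  · have := hg ⟨insert a T.1, by rw [Finset.card_insert_of_notMem ha, T.2]⟩ x p
      (parabolic_mono ω (Finset.subset_insert a T.1) hp)
    rw [dif_pos ha, dif_pos ha]
    exact congrArg _ this
  · rw [dif_neg ha, dif_neg ha]

set_option maxHeartbeats 1000000 in
open Groth.Agent.ParabolicLib in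
open scoped Classical in
lemma approx {F : Type u} [Field F] {R : Type v} [CommRing R] {m r : ℕ} (ω : Fin r ↪ Fin m) (c : ℕ)
    (f : W4c3dlvarstrsh.Cochain F R (m := m) r (c + 1))
    (hf : W4c3dlvarstrsh.IsInduced ω f) (hd : W4c3dlvarstrsh.delta c f = 0) (n : ℕ) :
    ∃ g : W4c3dlvarstrsh.Cochain F R (m := m) r (c + 2), W4c3dlvarstrsh.IsInduced ω g ∧
      ∀ T x, height x < n → f T x - W4c3dlvarstrsh.delta (c + 1) g T x = 0 := by
  induction n with
  | zero =>
    exact ⟨0, fun _ _ _ _ => rfl, fun _ _ h => absurd h (Nat.not_lt_zero _)⟩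
  | succ n ih =>
    obtain ⟨g, hg, hvan⟩ := ih
    let F' : W4c3dlvarstrsh.Cochain F R (m := m) r (c + 1) := fun T x =>
      f T x - W4c3dlvarstrsh.delta (c + 1) g T x
    have hF' : W4c3dlvarstrsh.IsInduced ω F' := by
      intro T x p hp
      show f T (x * p) - _ = f T x - _
      rw [hf T x p hp, delta_induced ω (c + 1) g hg T x p hp]
    let A : GL (Fin (m + 1)) F → Finset (Fin r) := fun x =>
      Finset.univ.filter fun a => w x (ω a : ℕ) < w x ((ω a : ℕ) + 1)
    have hA : ∀ (x : GL (Fin (m + 1)) F) (S : Finset (Fin r)), Good (S.map ω) x ↔ S ⊆ A x := fun x S => by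
      simp [Good, A, Finset.subset_iff]
    choose π hπ hπg hπh using fun (S : Finset (Fin r)) (x : GL (Fin (m + 1)) F) =>
      exists_good (S.map ω) x
    let φ : Finset (Fin r) → GL (Fin (m + 1)) F → R := fun S x =>
      if h : ∃ a, a ∈ S ∧ (∀ b ∈ A x, a ≤ b) ∧ (S.erase a).card = c + 1 then
        (W4c3dlvarstrsh.sgn (S.erase h.choose) h.choose : R) * F' ⟨S.erase h.choose, h.choose_spec.2.2⟩ x
      else 0
    let u : W4c3dlvarstrsh.Cochain F R (m := m) r (c + 2) := fun S x =>
      if height (x * π S.1 x) = n then φ S.1 (x * π S.1 x) else 0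
    have hAb : ∀ (x p : GL (Fin (m + 1)) F), p ∈ parabolic F (∅ : Finset (Fin m)) → A (x * p) = A x := by
      intro x p hp
      refine Finset.filter_congr fun a _ => ?_
      simp only [w, V_mul_borel hp]
    have hempty : ∀ (S : Finset (Fin r)) {p : GL (Fin (m + 1)) F},
        p ∈ parabolic F (∅ : Finset (Fin m)) → p ∈ parabolic F (S.map ω) := fun S p hp =>
      parabolic_mono ω (Finset.empty_subset S) (by rwa [Finset.map_empty])
    have hφb : ∀ (S : Finset (Fin r)) (x p : GL (Fin (m + 1)) F), p ∈ parabolic F (∅ : Finset (Fin m)) →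
        φ S (x * p) = φ S x := by
      intro S x p hp
      have key : ∀ (B B' : Finset (Fin r)), B = B' → ∀ (y y' : GL (Fin (m + 1)) F),
          (∀ T, F' T y = F' T y') →
          (if h : ∃ a, a ∈ S ∧ (∀ b ∈ B, a ≤ b) ∧ (S.erase a).card = c + 1 then
            (W4c3dlvarstrsh.sgn (S.erase h.choose) h.choose : R) * F' ⟨S.erase h.choose, h.choose_spec.2.2⟩ y
          else 0) =
          (if h : ∃ a, a ∈ S ∧ (∀ b ∈ B', a ≤ b) ∧ (S.erase a).card = c + 1 then
            (W4c3dlvarstrsh.sgn (S.erase h.choose) h.choose : R) * F' ⟨S.erase h.choose, h.choose_spec.2.2⟩ y'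
          else 0) := by
        intro B B' hB y y' hy
        subst hB
        simp only [hy]
      exact key _ _ (hAb x p hp) _ _ fun T => hF' T x p (hempty _ hp)
    have hu : W4c3dlvarstrsh.IsInduced ω u := by
      intro S x p hp
      have hq : (x * π S.1 x)⁻¹ * (x * p * π S.1 (x * p)) ∈ parabolic F (∅ : Finset (Fin m)) := by
        refine good_unique (J := S.1.map ω) ?_ (hπg S.1 x) (by rw [mul_inv_cancel_left]; exact hπg S.1 (x * p))
        rw [_root_.mul_inv_rev, mul_assoc, mul_assoc, inv_mul_cancel_left]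
        exact mul_mem (inv_mem (hπ S.1 x)) (mul_mem hp (hπ S.1 (x * p)))
      show (if height (x * p * π S.1 (x * p)) = n then φ S.1 (x * p * π S.1 (x * p)) else 0) = _
      rw [show x * p * π S.1 (x * p) = x * π S.1 x * ((x * π S.1 x)⁻¹ * (x * p * π S.1 (x * p))) by
        rw [mul_inv_cancel_left], height_mul_borel hq, hφb _ _ _ hq]
    refine ⟨g + u, fun S x p hp => ?_, fun T x hx => ?_⟩
    · show g S (x * p) + u S (x * p) = g S x + u S x
      rw [hg S x p hp, hu S x p hp]
    have hsplit : W4c3dlvarstrsh.delta (c + 1) (g + u) T x =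
        W4c3dlvarstrsh.delta (c + 1) g T x + W4c3dlvarstrsh.delta (c + 1) u T x := by
      simp only [W4c3dlvarstrsh.delta, ← Finset.sum_add_distrib]
      refine Finset.sum_congr rfl fun a _ => ?_
      by_cases ha : a ∉ T.1
      · rw [dif_pos ha, dif_pos ha, dif_pos ha, Pi.add_apply, Pi.add_apply, mul_add]
      · rw [dif_neg ha, dif_neg ha, dif_neg ha, add_zero]
    rw [hsplit, ← sub_sub]
    change F' T x - W4c3dlvarstrsh.delta (c + 1) u T x = 0
    have hu0 : ∀ (S : {S : Finset (Fin r) // S.card = c + 2}), ¬ (height x = n ∧ S.1 ⊆ A x) →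
        height x ≤ n → u S x = 0 := by
      intro S hS hle
      show (if height (x * π S.1 x) = n then φ S.1 (x * π S.1 x) else 0) = 0
      refine if_neg fun he => hS ?_
      have hh := hπh S.1 x
      refine ⟨by omega, ?_⟩
      rw [← hA]
      by_contra hng
      simp only [Good, not_forall] at hng
      obtain ⟨k, hk, hw⟩ := hng
      obtain ⟨p, hp, hlt⟩ := exists_descent hk hw
      obtain ⟨q, hq, hgood, hqh⟩ := exists_good (S.1.map ω) (x * p)
      have hb := good_unique (J := S.1.map ω) (p := (x * π S.1 x)⁻¹ * (x * p * q)) (by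
        rw [_root_.mul_inv_rev, mul_assoc, mul_assoc, inv_mul_cancel_left]
        exact mul_mem (inv_mem (hπ S.1 x)) (mul_mem hp hq)) (hπg S.1 x) (by rwa [mul_inv_cancel_left])
      have := height_mul_borel hb (x * π S.1 x)
      rw [mul_inv_cancel_left] at this
      omega
    rcases Nat.lt_succ_iff_lt_or_eq.1 hx with hlt | heq
    · have h0 : W4c3dlvarstrsh.delta (c + 1) u T x = 0 := by
        refine Finset.sum_eq_zero fun a _ => ?_
        by_cases ha : a ∉ T.1
        · rw [dif_pos ha, hu0 _ (fun h => by omega) (by omega), mul_zero]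
        · rw [dif_neg ha]
      rw [h0, sub_zero]
      exact hvan T x hlt
    by_cases hT : T.1 ⊆ A x
    swap
    · have h0 : W4c3dlvarstrsh.delta (c + 1) u T x = 0 := by
        refine Finset.sum_eq_zero fun a _ => ?_
        by_cases ha : a ∉ T.1
        · rw [dif_pos ha, hu0 _ (fun h => hT (fun b hb => h.2 (Finset.mem_insert_of_mem hb))) (by omega),
            mul_zero]
        · rw [dif_neg ha]
      rw [h0, sub_zero]
      rw [← hA] at hT
      simp only [Good, not_forall] at hT
      obtain ⟨k, hk, hw⟩ := hT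
      obtain ⟨p, hp, hlt⟩ := exists_descent hk hw
      rw [← hF' T x p hp]
      exact hvan T (x * p) (by omega)
    have hne : (A x).Nonempty := by
      obtain ⟨b, hb⟩ := Finset.card_pos.1 (show 0 < T.1.card by rw [T.2]; omega)
      exact ⟨b, hT hb⟩
    let a₀ := (A x).min' hne
    have ha₀ : a₀ ∈ A x := Finset.min'_mem _ hne
    have ha₀min : ∀ b ∈ A x, a₀ ≤ b := fun b hb => Finset.min'_le _ b hb
    have hu1 : ∀ (S : {S : Finset (Fin r) // S.card = c + 2}), S.1 ⊆ A x →
        u S x = if h : a₀ ∈ S.1 then (W4c3dlvarstrsh.sgn (S.1.erase a₀) a₀ : R) *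
          F' ⟨S.1.erase a₀, by rw [Finset.card_erase_of_mem h, S.2]; omega⟩ x else 0 := by
      intro S hS
      have hb := good_unique (hπ S.1 x) ((hA x S.1).2 hS) (hπg S.1 x)
      show (if height (x * π S.1 x) = n then φ S.1 (x * π S.1 x) else 0) = _
      rw [height_mul_borel hb, if_pos heq, hφb _ _ _ hb]
      by_cases h : a₀ ∈ S.1
      · rw [dif_pos h]
        have hex : ∃ a, a ∈ S.1 ∧ (∀ b ∈ A x, a ≤ b) ∧ (S.1.erase a).card = c + 1 :=
          ⟨a₀, h, ha₀min, by rw [Finset.card_erase_of_mem h, S.2]; omega⟩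
        have hch : hex.choose = a₀ :=
          le_antisymm (hex.choose_spec.2.1 _ ha₀) (ha₀min _ (hS hex.choose_spec.1))
        show dite _ _ _ = _
        rw [dif_pos hex]
        simp only [hch]
      · rw [dif_neg h]
        refine dif_neg ?_
        rintro ⟨a, ha, hmin, -⟩
        exact h (le_antisymm (hmin _ ha₀) (ha₀min _ (hS ha)) ▸ ha)
    rw [sub_eq_zero]
    by_cases h0 : a₀ ∈ T.1
    swap
    · show _ = Finset.sum _ _
      rw [Finset.sum_eq_single a₀]
      · rw [dif_pos h0, hu1 _ (Finset.insert_subset ha₀ hT), dif_pos (Finset.mem_insert_self _ _)]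
        simp only [Finset.erase_insert h0, Subtype.coe_eta]
        rw [← mul_assoc, ← Int.cast_mul, sgn_sq, Int.cast_one, one_mul]
      · intro a _ hne'
        by_cases ha : a ∉ T.1
        · rw [dif_pos ha]
          by_cases hsub : insert a T.1 ⊆ A x
          · rw [hu1 _ hsub, dif_neg (by simp [Finset.mem_insert, Ne.symm hne', h0]), mul_zero]
          · rw [hu0 _ (fun h => hsub h.2) (by omega), mul_zero]
        · rw [dif_neg ha]
      · simp
    have hT'card : (T.1.erase a₀).card = c := by rw [Finset.card_erase_of_mem h0, T.2]; omega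
    have hins : ∀ a, a ∉ T.1 → (insert a (T.1.erase a₀)).card = c + 1 := fun a ha => by
      rw [Finset.card_insert_of_notMem (fun h => ha (Finset.mem_of_mem_erase h)), hT'card]
    have hFd : W4c3dlvarstrsh.delta c F' ⟨T.1.erase a₀, hT'card⟩ x = 0 := by
      have e1 : W4c3dlvarstrsh.delta c f ⟨T.1.erase a₀, hT'card⟩ x = 0 := by rw [hd]; rfl
      have e2 := delta_delta c g ⟨T.1.erase a₀, hT'card⟩ x
      have e3 : W4c3dlvarstrsh.delta c F' ⟨T.1.erase a₀, hT'card⟩ x =
          W4c3dlvarstrsh.delta c f ⟨T.1.erase a₀, hT'card⟩ x -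
            W4c3dlvarstrsh.delta c (W4c3dlvarstrsh.delta (c + 1) g) ⟨T.1.erase a₀, hT'card⟩ x := by
        simp only [W4c3dlvarstrsh.delta, ← Finset.sum_sub_distrib]
        refine Finset.sum_congr rfl fun a _ => ?_
        by_cases ha : a ∉ T.1.erase a₀
        · rw [dif_pos ha, dif_pos ha, dif_pos ha, ← mul_sub]; rfl
        · rw [dif_neg ha, dif_neg ha, dif_neg ha, sub_zero]
      rw [e3, e1, e2, sub_zero]
    have hterm : ∀ a, a ≠ a₀ → ∀ (ha : a ∉ T.1),
        (W4c3dlvarstrsh.sgn T.1 a : R) * u ⟨insert a T.1, by rw [Finset.card_insert_of_notMem ha, T.2]⟩ x =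
          -((W4c3dlvarstrsh.sgn (T.1.erase a₀) a₀ : R) * ((W4c3dlvarstrsh.sgn (T.1.erase a₀) a : R) *
            F' ⟨insert a (T.1.erase a₀), hins a ha⟩ x)) := by
      intro a hne' ha
      by_cases hsub : insert a T.1 ⊆ A x
      · rw [hu1 _ hsub, dif_pos (Finset.mem_insert_of_mem h0)]
        simp only [Finset.erase_insert_of_ne hne']
        have hs := congrArg (Int.cast (R := R)) (sgn_cross T.1 a a₀ h0 ha)
        push_cast at hs
        rw [← mul_assoc, hs, neg_mul, mul_assoc]
      · have haA : a ∉ A x := fun h => hsub (Finset.insert_subset h hT)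
        have hz : F' ⟨insert a (T.1.erase a₀), hins a ha⟩ x = 0 := by
          have hng : ¬ Good ((insert a (T.1.erase a₀)).map ω) x := fun h =>
            haA ((hA x _).1 h (Finset.mem_insert_self _ _))
          simp only [Good, not_forall] at hng
          obtain ⟨k, hk, hw⟩ := hng
          obtain ⟨p, hp, hlt⟩ := exists_descent hk hw
          rw [← hF' ⟨insert a (T.1.erase a₀), hins a ha⟩ x p hp]
          exact hvan ⟨insert a (T.1.erase a₀), hins a ha⟩ (x * p) (by omega)
        rw [hu0 _ (fun h => hsub h.2) (by omega), hz]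
        simp
    show F' T x = Finset.sum _ _
    have key : (W4c3dlvarstrsh.sgn (T.1.erase a₀) a₀ : R) * F' T x +
        ∑ a ∈ Finset.univ.erase a₀, (if h : a ∉ T.1.erase a₀ then
          (W4c3dlvarstrsh.sgn (T.1.erase a₀) a : R) *
            F' ⟨insert a (T.1.erase a₀), by rw [Finset.card_insert_of_notMem h, hT'card]⟩ x else 0) = 0 := by
      refine Eq.trans ?_ hFd
      rw [W4c3dlvarstrsh.delta, ← Finset.add_sum_erase _ _ (Finset.mem_univ a₀),
        dif_pos (Finset.notMem_erase a₀ T.1)]
      simp only [Finset.insert_erase h0, Subtype.coe_eta]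
    rw [← Finset.add_sum_erase _ _ (Finset.mem_univ a₀), dif_neg (not_not.2 h0), zero_add]
    rw [show F' T x = (W4c3dlvarstrsh.sgn (T.1.erase a₀) a₀ : R) *
      ((W4c3dlvarstrsh.sgn (T.1.erase a₀) a₀ : R) * F' T x) by
        rw [← mul_assoc, ← Int.cast_mul, sgn_sq, Int.cast_one, one_mul],
      eq_neg_of_add_eq_zero_left key, mul_neg, Finset.mul_sum, ← Finset.sum_neg_distrib]
    refine Finset.sum_congr rfl fun a ha' => ?_
    have hne' := Finset.ne_of_mem_erase ha'
    by_cases ha : a ∉ T.1
    · rw [dif_pos ha, dif_pos (fun h => ha (Finset.mem_of_mem_erase h)), hterm a hne' ha]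
    · rw [not_not] at ha
      rw [dif_neg (not_not.2 ha), dif_neg (not_not.2 (Finset.mem_erase.2 ⟨hne', ha⟩))]
      simp


/-- Let F be a finite field, R a commutative ring, and ω a word of r pairwise distinct simple
reflections of GL_{m+1}. For each level ℓ, consider the families, indexed by the subwords of ω with
ℓ letters, of R-valued functions on GL_{m+1}(F), each invariant under right translation by the
standard parabolic subgroup of its subword (the permutation module of that parabolic over R), and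
the differential lowering the level by one given by the alternating sum of the inclusions (a letter
is deleted with the sign of its position). Then for every c with c + 1 ≤ r, every such invariant
family at level c + 1 killed by the differential is the differential of an invariant family at level
c + 2; when c + 1 = r this is injectivity of the first differential, and when c + 1 < r it is
exactness of the complex at its middle terms. (The published statement has coefficients the integers
modulo a prime power; the same argument gives any commutative coefficient ring, as stated here. Its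
description of the cokernel at the last term is definitional in this formulation and is not
restated.) -/
theorem result
    (F : Type u) [Field F] [Fintype F] (R : Type v) [CommRing R]
    (m r : ℕ) (ω : Fin r ↪ Fin m) (c : ℕ) (hc : c + 1 ≤ r)
    (f : W4c3dlvarstrsh.Cochain F R (m := m) r (c + 1))
    (hf : W4c3dlvarstrsh.IsInduced ω f) (hd : W4c3dlvarstrsh.delta c f = 0) :
    ∃ g : W4c3dlvarstrsh.Cochain F R (m := m) r (c + 2),
      W4c3dlvarstrsh.IsInduced ω g ∧ W4c3dlvarstrsh.delta (c + 1) g = f := by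
  classical
  obtain ⟨g, hg, hvan⟩ := approx ω c f hf hd ((m + 2) ^ 3)
  refine ⟨g, hg, funext fun T => funext fun x => ?_⟩
  exact (sub_eq_zero.1 (hvan T x (Groth.Agent.ParabolicLib.height_le x))).symm

end Groth.Agent.S15983
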