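import Groth.Statements.S15987

set_option autoImplicit false
universe u v
open Deform

namespace Groth.Agent.S15987

open TrivSqZeroExt in
/-- Let k be a field, A a commutative k-algebra and q_i : A → k (i ∈ ι) k-algebra maps (marked k-points
of Spec A). The k-algebra automorphisms φ of the ring of dual numbers A[ε] that fix ε (so are
k[ε]-linear), are the identity modulo ε, and satisfy q_i((φ x)_ε) = q_i(x_ε) for all i and x
(compatibility with the trivial lifts A[ε] → k[ε] of the marked points) are in bijection with the
k-derivations D : A → A such that q_i ∘ D = 0 for every i, the bijection sending φ to a ↦ (φ(a))_ε.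
(The source identifies the right-hand side with the global vector fields vanishing at the marked
points; the condition the computation yields is q_i ∘ D = 0, which is the same for Spec A smooth
over k but is weaker in general, e.g. for A = k[x]/(x^2) with 2 invertible in k.) -/
theorem result
    (k : Type u) [Field k] (A : Type u) [CommRing A] [Algebra k A] {ι : Type v} (q : ι → (A →ₐ[k] k)) :
    ∃ e : {φ : DualNumber A ≃ₐ[k] DualNumber A //
            φ DualNumber.eps = DualNumber.eps ∧ (∀ x, (φ x).fst = x.fst) ∧
              ∀ i x, q i (φ x).snd = q i x.snd} ≃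
          {D : Derivation k A A // ∀ i a, q i (D a) = 0},
      ∀ φ (a : A), (e φ).1 a = (φ.1 (inl a : DualNumber A)).snd := by
  open TrivSqZeroExt in
  have dec : ∀ x : DualNumber A, x = inl x.fst + inl x.snd * DualNumber.eps := fun x => by ext <;> simp
  have mkE : ∀ D : Derivation k A A, ∃ φ : DualNumber A ≃ₐ[k] DualNumber A,
      ∀ x, φ x = TrivSqZeroExt.inl x.fst + TrivSqZeroExt.inr (x.snd + D x.fst) := fun D => by
    let f : ∀ D : Derivation k A A, DualNumber A →ₐ[k] DualNumber A := fun D =>
      AlgHom.ofLinearMap
        { toFun := fun x => TrivSqZeroExt.inl x.fst + TrivSqZeroExt.inr (x.snd + D x.fst)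
          map_add' := fun a b => by ext <;> simp <;> ring
          map_smul' := fun c a => by ext <;> simp }
        (by ext <;> simp)
        (fun a b => by ext <;> simp <;> ring)
    exact ⟨AlgEquiv.ofAlgHom (f D) (f (-D)) (AlgHom.ext fun x => by ext <;> simp [f])
      (AlgHom.ext fun x => by ext <;> simp [f]), fun x => rfl⟩
  choose Φ hΦ using mkE
  let der : {φ : DualNumber A ≃ₐ[k] DualNumber A //
      φ DualNumber.eps = DualNumber.eps ∧ (∀ x, (φ x).fst = x.fst) ∧
        ∀ i x, q i (φ x).snd = q i x.snd} → Derivation k A A := fun φ =>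
    Derivation.mk'
      { toFun := fun a => (φ.1 (TrivSqZeroExt.inl a)).snd
        map_add' := fun a b => by rw [TrivSqZeroExt.inl_add, map_add, TrivSqZeroExt.snd_add]
        map_smul' := fun c a => by
          rw [TrivSqZeroExt.inl_smul, map_smul, TrivSqZeroExt.snd_smul]; rfl }
      (fun a b => by
        change (φ.1 (TrivSqZeroExt.inl (a * b))).snd = _
        rw [← TrivSqZeroExt.inl_mul_inl, map_mul, TrivSqZeroExt.snd_mul, φ.2.2.1, φ.2.2.1]
        simp
        ring)
  refine ⟨{ toFun := fun φ => ⟨der φ, fun i a => ?_⟩
            invFun := fun D => ⟨Φ D.1, ?_, ?_, ?_⟩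
            left_inv := fun φ => ?_
            right_inv := fun D => ?_ }, fun φ a => rfl⟩
  · exact (φ.2.2.2 i _).trans (by simp)
  · rw [hΦ]; ext <;> simp
  · intro x; rw [hΦ]; simp
  · intro i x; rw [hΦ]; simp [D.2]
  · refine Subtype.ext (AlgEquiv.ext fun x => ?_)
    rw [hΦ]
    conv_rhs => rw [dec x, map_add, map_mul, φ.2.1]
    ext
    · simp [φ.2.2.1]
    · simp [der, φ.2.2.1]; ring
  · refine Subtype.ext (Derivation.ext fun a => ?_)
    change (Φ D.1 (TrivSqZeroExt.inl a)).snd = _
    rw [hΦ]; simp

end Groth.Agent.S15987
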