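import Groth.Statements.S15988
import Mathlib

set_option autoImplicit false
universe u v
open Deform

namespace Groth.Agent.S15988

open TrivSqZeroExt DualNumber

variable {k : Type u} [Field k] {A : Type u} [CommRing A] [Algebra k A]

/-- The automorphism `a + bε ↦ a + (b + D a)ε`. -/
noncomputable def shiftHom (D : Derivation k A A) : DualNumber A →ₐ[k] DualNumber A where
  toFun x := inl x.fst + inr (x.snd + D x.fst)
  map_one' := by ext <;> simp
  map_zero' := by ext <;> simp
  map_add' x y := by
    ext
    · simp
    · simp; ring
  map_mul' x y := by
    ext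
    · simp
    · simp [D.leibniz]; ring
  commutes' c := by
    ext
    · simp [TrivSqZeroExt.algebraMap_eq_inl']
    · simp [TrivSqZeroExt.algebraMap_eq_inl']

noncomputable def shift (D : Derivation k A A) : DualNumber A ≃ₐ[k] DualNumber A :=
  AlgEquiv.ofAlgHom (shiftHom D) (shiftHom (-D))
    (AlgHom.ext fun x => by ext <;> simp [shiftHom])
    (AlgHom.ext fun x => by ext <;> simp [shiftHom])

theorem shift_apply (D : Derivation k A A) (x : DualNumber A) :
    shift D x = inl x.fst + inr (x.snd + D x.fst) := rfl

/-- A deformation of a point is a derivation at the point. -/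
theorem snd_apply (q : A →ₐ[k] k) (f : DualNumber A →ₐ[k] DualNumber k)
    (hε : f DualNumber.eps = DualNumber.eps) (hf : ∀ x, (f x).fst = q x.fst) (x : DualNumber A) :
    (f x).snd = (f (inl x.fst)).snd + q x.snd := by
  have hx : x = inl x.fst + inl x.snd * DualNumber.eps := by ext <;> simp
  conv_lhs => rw [hx, map_add, map_mul, hε]
  simp [hf]

open TrivSqZeroExt in
/-- Let k be a field, A a smooth commutative k-algebra, q_i : A → k (i ∈ ι, ι finite) pairwise distinct
k-algebra maps, and q'_i : A[ε] → k[ε] k-algebra maps with q'_i(ε) = ε which reduce to q_i modulo ε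
(marked points of a first-order deformation with underlying trivial deformation). Then some
k-algebra automorphism φ of A[ε] with φ(ε) = ε and φ = id modulo ε carries every q'_i to the trivial
lift of q_i: q'_i(φ x) = (q_i(x_0), q_i(x_ε)) for all i and x. Together with the triviality of
first-order deformations of a smooth affine scheme this gives the source's statement that
first-order deformations of a smooth affine scheme with marked points are trivial. (The published
statement does not say that the finitely many marked points are distinct; for two coincident points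
with different lifts no such automorphism exists, so the points are taken pairwise distinct here,
and the source's non-singular is read as smooth over k.) -/
theorem result
    (k : Type u) [Field k] (A : Type u) [CommRing A] [Algebra k A] [Algebra.Smooth k A]
    {ι : Type v} [Finite ι] (q : ι → (A →ₐ[k] k)) (hq : Function.Injective q)
    (q' : ι → (DualNumber A →ₐ[k] DualNumber k))
    (hε : ∀ i, q' i DualNumber.eps = DualNumber.eps) (hq' : ∀ i x, (q' i x).fst = q i x.fst) :
    ∃ φ : DualNumber A ≃ₐ[k] DualNumber A,
      φ DualNumber.eps = DualNumber.eps ∧ (∀ x, (φ x).fst = x.fst) ∧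
        ∀ i x, (q' i (φ x)).fst = q i x.fst ∧ (q' i (φ x)).snd = q i x.snd := by
  classical
  haveI : Algebra.FormallySmooth k A := inferInstance
  haveI : Module.Projective A (KaehlerDifferential k A) := inferInstance
  let Q : A →+* (ι → k) := Pi.ringHom fun i => (q i).toRingHom
  letI : Algebra A (ι → k) := Q.toAlgebra
  haveI : IsScalarTower k A (ι → k) := .of_algebraMap_eq fun c => funext fun i => ((q i).commutes c).symm
  have hQ : ∀ (a : A) (e : ι → k) (i : ι), (a • e) i = q i a * e i := fun a e i => rfl
  let δ : Derivation k A (ι → k) := Derivation.mk'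
    { toFun := fun a i => - (q' i (TrivSqZeroExt.inl a)).snd
      map_add' := fun a b => funext fun i => by simp [TrivSqZeroExt.inl_add, add_comm]
      map_smul' := fun c a => funext fun i => by
        have h1 : (TrivSqZeroExt.inl (c • a) : DualNumber A) = c • TrivSqZeroExt.inl a := by
          ext <;> simp
        simp [h1] }
    fun a b => funext fun i => by
      show - (q' i (TrivSqZeroExt.inl (a * b))).snd =
        q i a * - (q' i (TrivSqZeroExt.inl b)).snd + q i b * - (q' i (TrivSqZeroExt.inl a)).snd
      have h1 : (TrivSqZeroExt.inl (a * b) : DualNumber A) = TrivSqZeroExt.inl a * TrivSqZeroExt.inl b := by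
        ext <;> simp
      simp [h1, hq']
      ring
  have hsurj : Function.Surjective (Algebra.linearMap A (ι → k)) := by
    have hmax : ∀ i, (RingHom.ker (q i).toRingHom).IsMaximal := fun i =>
      RingHom.ker_isMaximal_of_surjective _ fun c => ⟨algebraMap k A c, (q i).commutes c⟩
    have hco : Pairwise fun i j => IsCoprime (RingHom.ker (q i).toRingHom) (RingHom.ker (q j).toRingHom) := by
      intro i j hij
      refine Ideal.isCoprime_iff_sup_eq.2 ((hmax i).coprime_of_ne (hmax j) fun h => hij (hq (AlgHom.ext fun a => ?_)))
      have h1 : a - algebraMap k A (q i a) ∈ RingHom.ker (q i).toRingHom := by simp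
      rw [h] at h1
      have h2 := RingHom.mem_ker.1 h1
      simp [sub_eq_zero] at h2
      exact h2.symm
    intro e
    cases nonempty_fintype ι
    obtain ⟨a, ha⟩ := Ideal.exists_forall_sub_mem_ideal hco (fun i => algebraMap k A (e i))
    refine ⟨a, funext fun i => ?_⟩
    have := RingHom.mem_ker.1 (ha i)
    simp [sub_eq_zero] at this
    exact this
  obtain ⟨l, hl⟩ := Module.projective_lifting_property (Algebra.linearMap A (ι → k))
    δ.liftKaehlerDifferential hsurj
  let D : Derivation k A A := l.compDer (KaehlerDifferential.D k A)
  have hD : ∀ i a, q i (D a) = - (q' i (TrivSqZeroExt.inl a)).snd := fun i a => by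
    have := congrFun (LinearMap.congr_fun hl (KaehlerDifferential.D k A a)) i
    rw [Derivation.liftKaehlerDifferential_comp_D] at this
    exact this
  refine ⟨shift D, ?_, fun x => by simp [shift_apply], fun i x => ⟨?_, ?_⟩⟩
  · ext <;> simp [shift_apply]
  · rw [hq']; simp [shift_apply]
  · rw [snd_apply (q i) (q' i) (hε i) (hq' i)]
    simp [shift_apply, hD]


end Groth.Agent.S15988
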