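import Groth.Statements.S15989
import Groth.Agent.HypBC.Hesse
import Mathlib.FieldTheory.RatFunc.Basic
import Mathlib.FieldTheory.RatFunc.AsPolynomial

set_option autoImplicit false
universe u
open ModFun

set_option linter.style.haveILetI false
set_option backward.isDefEq.respectTransparency false
open CategoryTheory AlgebraicGeometry
namespace Groth.Agent.S15989

open Polynomial in
lemma X_pow_dvd {k : Type u} [Field k] (l : k) : ∀ (n : ℕ) (a b c : k[X]),
    a ^ 3 + X * b ^ 3 + X ^ 2 * c ^ 3 + C l * X * (a * b * c) = 0 → X ^ n ∣ a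
  | 0, a, b, c, _ => by simp
  | n + 1, a, b, c, h => by
    have step : ∀ a b c : k[X], a ^ 3 + X * b ^ 3 + X ^ 2 * c ^ 3 + C l * X * (a * b * c) = 0 →
        ∃ w, a = X * w ∧ b ^ 3 + X * c ^ 3 + X ^ 2 * w ^ 3 + C l * X * (b * c * w) = 0 := by
      intro a b c h
      obtain ⟨w, rfl⟩ : X ∣ a := Polynomial.prime_X.dvd_of_dvd_pow (n := 3)
        ⟨-(b ^ 3 + X * c ^ 3 + C l * (a * b * c)), by linear_combination h⟩
      exact ⟨w, rfl, mul_left_cancel₀ Polynomial.X_ne_zero (by linear_combination h)⟩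
    obtain ⟨w, rfl, h1⟩ := step a b c h
    obtain ⟨w₁, rfl, h2⟩ := step _ _ _ h1
    obtain ⟨w₂, rfl, h3⟩ := step _ _ _ h2
    rw [pow_succ']
    exact mul_dvd_mul_left X (X_pow_dvd l n w w₁ w₂ h3)

open Polynomial in
lemma eq_zero_of_equation {k : Type u} [Field k] (l : k) (v : Fin 3 → RatFunc k)
    (h : v 0 ^ 3 + RatFunc.X * v 1 ^ 3 + RatFunc.X ^ 2 * v 2 ^ 3 +
      algebraMap k (RatFunc k) l * RatFunc.X * (v 0 * v 1 * v 2) = 0) : v = 0 := by
  obtain ⟨⟨d, hd⟩, hd'⟩ := IsLocalization.exist_integer_multiples_of_finite (nonZeroDivisors k[X]) v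
  choose w hw using hd'
  have hd0 : algebraMap k[X] (RatFunc k) d ≠ 0 :=
    IsFractionRing.to_map_ne_zero_of_mem_nonZeroDivisors hd
  have hw' : ∀ i, algebraMap k[X] (RatFunc k) (w i) = algebraMap k[X] (RatFunc k) d * v i := fun i => by
    rw [hw i]; simp [Algebra.smul_def]
  have hC : algebraMap k[X] (RatFunc k) (C l) = algebraMap k (RatFunc k) l :=
    (IsScalarTower.algebraMap_apply k k[X] (RatFunc k) l).symm
  have he : w 0 ^ 3 + X * w 1 ^ 3 + X ^ 2 * w 2 ^ 3 + C l * X * (w 0 * w 1 * w 2) = 0 := by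
    refine IsFractionRing.injective k[X] (RatFunc k) ?_
    simp only [map_add, map_mul, map_pow, map_zero, hw', hC, RatFunc.algebraMap_X]
    linear_combination (algebraMap k[X] (RatFunc k) d) ^ 3 * h
  have hz : ∀ a b c : k[X], a ^ 3 + X * b ^ 3 + X ^ 2 * c ^ 3 + C l * X * (a * b * c) = 0 → a = 0 := by
    intro a b c h
    by_contra ha
    have := Polynomial.natDegree_le_of_dvd (X_pow_dvd l (a.natDegree + 1) a b c h) ha
    simp at this
  have h0 := hz _ _ _ he
  have h1 := hz (w 1) (w 2) 0 (mul_left_cancel₀ Polynomial.X_ne_zero (by rw [h0] at he; linear_combination he))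
  have h2 : w 2 = 0 := by
    rw [h0, h1] at he
    simpa using he
  funext i
  have hwi : w i = 0 := by fin_cases i <;> assumption
  have := hw' i
  rw [hwi, map_zero] at this
  exact (mul_eq_zero.1 this.symm).resolve_left hd0

lemma exists_endo (k : Type u) [Field k] : ∃ σ : RatFunc k →+* RatFunc k,
    σ RatFunc.X = RatFunc.X ^ 3 ∧ σ.comp (algebraMap k (RatFunc k)) = algebraMap k (RatFunc k) := by
  let g : Polynomial k →+* RatFunc k :=
    (algebraMap (Polynomial k) (RatFunc k)).comp (Polynomial.expand k 3).toRingHom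
  have hg : Function.Injective g :=
    (IsFractionRing.injective (Polynomial k) (RatFunc k)).comp (Polynomial.expand_injective (by norm_num))
  refine ⟨IsFractionRing.lift hg, ?_, RingHom.ext fun c => ?_⟩
  · rw [← RatFunc.algebraMap_X, IsFractionRing.lift_algebraMap]
    simp [g]
  · rw [RingHom.comp_apply, IsScalarTower.algebraMap_apply k (Polynomial k) (RatFunc k),
      IsFractionRing.lift_algebraMap, Polynomial.algebraMap_eq]
    simp [g]

open CategoryTheory CategoryTheory.Limits AlgebraicGeometry HypBC in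
/-- The family of a Hesse cubic. -/
noncomputable def cubic {K : Type u} [Field K] (a b c : K) : Over (Spec (CommRingCat.of K)) :=
  Over.mk ((LefPen.hypIdeal (hesse a b c)).subschemeι ≫ CohB1.ProjSpace.toSpec 2 K)

open CategoryTheory CategoryTheory.Limits AlgebraicGeometry HypBC in
lemma cubic_baseChange {K : Type u} [Field K] (σ : K →+* K) (u v : Kˣ) (a b c a' b' c' : K)
    (ha : σ a * (u : K) ^ 3 = a') (hb : σ b * (v : K) ^ 3 = b') (hc : σ c * (u * v : K) = c') :
    Nonempty ((Over.pullback (Spec.map (CommRingCat.ofHom σ))).obj (cubic a b c) ≅ cubic a' b' c') := by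
  obtain ⟨p, hp⟩ : ∃ p : (LefPen.hypIdeal (hesse a' b' c')).subscheme ⟶ (LefPen.hypIdeal (hesse a b c)).subscheme,
      IsPullback p ((LefPen.hypIdeal (hesse a' b' c')).subschemeι ≫ CohB1.ProjSpace.toSpec 2 K)
        ((LefPen.hypIdeal (hesse a b c)).subschemeι ≫ CohB1.ProjSpace.toSpec 2 K)
        (Spec.map (CommRingCat.ofHom σ)) := by
    subst ha hb hc
    rw [← scaleForm_hesse σ u v a b c]
    exact exists_pullback σ ![1, u, v] (hesse a b c)
  exact ⟨Over.isoMk hp.isoPullback.symm (by exact hp.isoPullback_inv_snd)⟩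


open AlgebraicGeometry CategoryTheory in
/-- Over an algebraically closed field k, the moduli problem of curves of genus 1 (proper smooth
geometrically irreducible C → T with one-dimensional geometric fibres of genus 1, modulo isomorphism
over T, on all k-schemes T) is not representable: no k-scheme M carries a universal family. (The
published statement asserts non-representability for every genus g and every number n of marked
points, which fails for g = 0 and n = 3: three disjoint sections identify every family with the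
projective line over the base marked at 0, 1 and ∞, so that functor is represented by a point; its
argument is carried out in genus 1 with one marked point, and the unpointed genus-1 case stated here
is what that argument, with the same isotrivial family, proves.) -/
theorem result (k : Type u) [Field k] [IsAlgClosed k]
    (M : Over (Spec (CommRingCat.of k))) :
    ¬ ModFun.IsFineModuli ⊤ (ModFun.Mg (Spec (CommRingCat.of k)) 1) M := by
  rintro ⟨ξ, -, huniv⟩
  classical
  obtain ⟨l₀, hl₀⟩ : ∃ l₀ : k, l₀ ∉ ((Polynomial.X * (Polynomial.X ^ 3 + Polynomial.C 27) : Polynomial k)).roots.toFinset :=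
    Infinite.exists_notMem_finset _
  have hne : (Polynomial.X * (Polynomial.X ^ 3 + Polynomial.C 27) : Polynomial k) ≠ 0 := by
    refine mul_ne_zero Polynomial.X_ne_zero ?_
    exact (Polynomial.monic_X_pow_add_C 27 (by norm_num)).ne_zero
  rw [Multiset.mem_toFinset, Polynomial.mem_roots hne, Polynomial.IsRoot, Polynomial.eval_mul, mul_eq_zero,
    not_or, Polynomial.eval_X, Polynomial.eval_add, Polynomial.eval_pow, Polynomial.eval_X, Polynomial.eval_C] at hl₀
  let K := RatFunc k
  let l : K := algebraMap k K l₀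
  let s : K := RatFunc.X
  have hs : s ≠ 0 := RatFunc.X_ne_zero
  have hl : l ≠ 0 := (map_ne_zero _).2 hl₀.1
  have hl27 : l ^ 3 + 27 ≠ 0 := by
    rw [show l ^ 3 + 27 = algebraMap k K (l₀ ^ 3 + 27) by simp [l, map_ofNat]]
    exact (map_ne_zero _).2 hl₀.2
  let T : Over (Spec (CommRingCat.of k)) := Over.mk (Spec.map (CommRingCat.ofHom (algebraMap k K)))
  let x₁ : Over T.left := cubic s (s ^ 2) (l * s)
  let x₀ : Over T.left := cubic 1 1 l
  have h₀ : IsCurveOfGenus 1 x₀.hom :=
    HypBC.isCurveOfGenus_hesse one_ne_zero one_ne_zero hl (by rwa [one_mul, mul_one])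
  have h₁ : IsCurveOfGenus 1 x₁.hom :=
    HypBC.isCurveOfGenus_hesse hs (pow_ne_zero 2 hs) (mul_ne_zero hl hs) (by
      rw [show (l * s) ^ 3 + 27 * (s * s ^ 2) = s ^ 3 * (l ^ 3 + 27) by ring]
      exact mul_ne_zero (pow_ne_zero 3 hs) hl27)
  obtain ⟨g₁, ⟨i₁⟩, -⟩ := huniv T x₁ trivial ⟨trivial, h₁⟩
  obtain ⟨g₀, ⟨i₀⟩, -⟩ := huniv T x₀ trivial ⟨trivial, h₀⟩
  obtain ⟨g, -, huniq⟩ := huniv T x₀ trivial ⟨trivial, h₀⟩
  obtain ⟨σ, hσX, hσk⟩ := exists_endo k
  let q : T ⟶ T := Over.homMk (Spec.map (CommRingCat.ofHom σ)) (by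
    change Spec.map _ ≫ Spec.map _ = Spec.map _
    rw [← Spec.map_comp, ← CommRingCat.ofHom_comp, hσk])
  have hσl : σ l = l := RingHom.congr_fun hσk l₀
  obtain ⟨j₁⟩ := cubic_baseChange σ (Units.mk0 s hs)⁻¹ ((Units.mk0 s hs)⁻¹ ^ 2) s (s ^ 2) (l * s) 1 1 l
    (by rw [hσX]; simp only [Units.val_inv_eq_inv_val, Units.val_mk0, s]; field_simp [RatFunc.X_ne_zero])
    (by rw [map_pow, hσX]; simp only [Units.val_pow_eq_pow_val, Units.val_inv_eq_inv_val, Units.val_mk0, s]; field_simp [RatFunc.X_ne_zero])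
    (by rw [map_mul, hσX, hσl]; simp only [Units.val_mul, Units.val_pow_eq_pow_val, Units.val_inv_eq_inv_val, Units.val_mk0, s]; field_simp [RatFunc.X_ne_zero])
  obtain ⟨j₀⟩ := cubic_baseChange σ 1 1 1 1 l 1 1 l (by simp) (by simp) (by simp [hσl])
  have e₁ : q ≫ g₁ = g := huniq _ ⟨(Over.pullbackComp q.left g₁.left).app ξ ≪≫
    (Over.pullback q.left).mapIso i₁ ≪≫ j₁⟩
  have e₀ : q ≫ g₀ = g := huniq _ ⟨(Over.pullbackComp q.left g₀.left).app ξ ≪≫
    (Over.pullback q.left).mapIso i₀ ≪≫ j₀⟩
  have hepi : Epi q.left := by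
    haveI : Flat (Spec.map (CommRingCat.ofHom σ)) := by
      rw [HasRingHomProperty.Spec_iff (P := @Flat)]
      change σ.Flat
      exact @Module.Flat.of_free (RatFunc k) (RatFunc k) _ _ σ.toAlgebra.toModule
        (@Module.Free.of_divisionRing (RatFunc k) (RatFunc k) _ _ σ.toAlgebra.toModule)
    haveI : Surjective (Spec.map (CommRingCat.ofHom σ)) :=
      ⟨fun x => ⟨IsLocalRing.closedPoint K, Subsingleton.elim (α := PrimeSpectrum K) _ _⟩⟩
    exact Flat.epi_of_flat_of_surjective (Spec.map (CommRingCat.ofHom σ))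
  have hg : g₁ = g₀ := Over.OverMorphism.ext ((cancel_epi q.left).1 (congrArg CommaMorphism.left (e₁.trans e₀.symm)))
  subst hg
  let e := i₁.symm ≪≫ i₀
  obtain ⟨pt, hpt⟩ := HypBC.exists_section_of_zero (HypBC.hesse (1 : K) 1 l) 0 ![1, -1, 0] rfl
    (by simp [HypBC.hesse]; ring)
  obtain ⟨v, hv, hv0⟩ := HypBC.exists_zero_of_section (HypBC.hesse s (s ^ 2) (l * s)) (pt ≫ e.inv.left) (by
    refine (Category.assoc _ _ _).trans (Eq.trans ?_ hpt)
    exact congrArg (pt ≫ ·) (Over.w e.inv))
  refine hv (eq_zero_of_equation l₀ v ?_)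
  simp [HypBC.hesse] at hv0
  linear_combination hv0

end Groth.Agent.S15989
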