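import Groth.Statements.S1599
import Groth.Agent.CAlg99.NormalCompl
import Groth.Agent.EGA4Lib.CompletionFinite

open scoped TensorProduct

set_option autoImplicit false
universe u
open CategoryTheory CategoryTheory.Limits AlgebraicGeometry
open Resolve

namespace Groth.Agent.S1599

/-- Let A be a Noetherian local ring with maximal ideal m and B ⊆ C finite A-algebras. If B is a normal
ring and the m-adic completion of C is a normal ring, then the m-adic completion of B is a normal
ring. -/
theorem result (A : Type u) [CommRing A] [IsLocalRing A] [IsNoetherianRing A]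
    (B C : Type u) [CommRing B] [CommRing C] [Algebra A B] [Algebra A C] [Algebra B C] [IsScalarTower A B C]
    [Module.Finite A B] [Module.Finite A C] (hinj : Function.Injective (algebraMap B C))
    (hB : EGA4.IsNormalRing B)
    (hC : EGA4.IsNormalRing (AdicCompletion ((IsLocalRing.maximalIdeal A).map (algebraMap A C)) C)) :
    EGA4.IsNormalRing (AdicCompletion ((IsLocalRing.maximalIdeal A).map (algebraMap A B)) B) := by
  let Ah := AdicCompletion (IsLocalRing.maximalIdeal A) A
  haveI : IsNoetherianRing Ah :=
    RegLoc.Completion.isNoetherianRing_adicCompletion' (IsLocalRing.maximalIdeal A)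
  haveI : Module.FaithfullyFlat A Ah := Module.FaithfullyFlat.of_flat_of_isLocalHom
  obtain ⟨eB⟩ := EGA4Lib.nonempty_adicCompletion_finite (IsLocalRing.maximalIdeal A) B _ rfl
  obtain ⟨eC⟩ := EGA4Lib.nonempty_adicCompletion_finite (IsLocalRing.maximalIdeal A) C _ rfl
  have hCh : EGA4.IsNormalRing (C ⊗[A] Ah) := EGA4Lib.isNormalRing_of_ringEquiv eC.toRingEquiv hC
  have hCn : EGA4.IsNormalRing C := EGA4Lib.isNormalRing_of_faithfullyFlat C (C ⊗[A] Ah) hCh
  haveI : IsNoetherianRing B := IsNoetherianRing.of_finite A B
  haveI : IsNoetherianRing (Ah ⊗[A] B) := IsNoetherianRing.of_finite Ah _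
  haveI : IsNoetherianRing (B ⊗[A] Ah) :=
    isNoetherianRing_of_ringEquiv (Ah ⊗[A] B) (Algebra.TensorProduct.comm A Ah B).toRingEquiv
  haveI : Module.Finite B C := Module.Finite.of_restrictScalars_finite A B C
  haveI : Algebra.IsIntegral B C := Algebra.IsIntegral.of_finite B C
  have hT : EGA4.IsNormalRing (C ⊗[B] (B ⊗[A] Ah)) :=
    EGA4Lib.isNormalRing_of_ringEquiv
      (Algebra.TensorProduct.cancelBaseChange A B B C Ah).toRingEquiv.symm hCh
  exact EGA4Lib.isNormalRing_of_ringEquiv eB.toRingEquiv.symm
    (CAlg99.NormalCompl.isNormalRing_of_integral_extension hinj hB hCn hT)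

end Groth.Agent.S1599
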