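import Groth.Statements.S15991
import Groth.Agent.AffDef.Section

set_option autoImplicit false
universe u v
open Deform

namespace Groth.Agent.S15991

open CategoryTheory AlgebraicGeometry Limits

theorem exists_marked_section {k : Type u} [Field k] {B B₀ : Type u} [CommRing B] [Algebra k B] [CommRing B₀]
    [Algebra k B₀] [Module.Projective B₀ Ω[B₀⁄k]] {ι : Type v} [Finite ι]
    (π : B →ₐ[k] B₀) (φ : DualNumber k →ₐ[k] B) (hπ : Function.Surjective π)
    (hker : ∀ y, π y = 0 → ∃ c, y = φ DualNumber.eps * c) (hεπ : π (φ DualNumber.eps) = 0)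
    (s₀ : B₀ →ₐ[k] B) (hs₀ : ∀ b, π (s₀ b) = b)
    (q : ι → (B₀ →ₐ[k] k)) (hq : Function.Injective q)
    (q' : ι → (B →ₐ[k] DualNumber k)) (hq' : ∀ j a, q' j (φ a) = a)
    (hqq' : ∀ j y, (q' j y).fst = q j (π y)) :
    ∃ s : B₀ →ₐ[k] B, (∀ b, π (s b) = b) ∧ ∀ j b, q' j (s b) = algebraMap k (DualNumber k) (q j b) := by
  classical
  have := Fintype.ofFinite ι
  let Q : B₀ →ₐ[k] (ι → k) := Pi.algHom k (fun _ => k) q
  have hQ : Function.Surjective Q := by
    have h1 : ∀ j, ∃ b, q j b = 1 ∧ ∀ i, i ≠ j → q i b = 0 := by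
      intro j
      have h2 : ∀ i, ∃ b, q j b = 1 ∧ (i ≠ j → q i b = 0) := by
        intro i
        by_cases h : i = j
        · exact ⟨1, map_one _, fun h' => absurd h h'⟩
        · obtain ⟨b, hb⟩ : ∃ b, q i b ≠ q j b := by
            by_contra hc
            push Not at hc
            exact h (hq (AlgHom.ext hc))
          refine ⟨algebraMap k B₀ (q j b - q i b)⁻¹ * (b - algebraMap k B₀ (q i b)), ?_, fun _ => ?_⟩
          · rw [map_mul, map_sub (q j), AlgHom.commutes, AlgHom.commutes]
            exact inv_mul_cancel₀ (sub_ne_zero.2 hb.symm)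
          · simp
      choose b hb1 hb0 using h2
      refine ⟨∏ i, b i, by simp [map_prod, hb1], fun i hi => ?_⟩
      rw [map_prod]
      exact Finset.prod_eq_zero (Finset.mem_univ i) (hb0 i hi)
    choose b hb1 hb0 using h1
    intro c
    refine ⟨∑ j, algebraMap k B₀ (c j) * b j, funext fun i => ?_⟩
    change q i _ = c i
    rw [map_sum, Finset.sum_eq_single i]
    · rw [map_mul, hb1, mul_one]; exact (q i).commutes _
    · intro j _ hj
      rw [map_mul, hb0 j i hj.symm, mul_zero]
    · exact fun h => absurd (Finset.mem_univ i) h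
  let Dfun : B₀ →ₗ[k] (ι → k) :=
    LinearMap.pi fun j => ((TrivSqZeroExt.sndHom k k).restrictScalars k).comp ((q' j).toLinearMap.comp s₀.toLinearMap)
  have hD : ∀ j b, Dfun b j = (q' j (s₀ b)).snd := fun _ _ => rfl
  have hfst : ∀ j b, (q' j (s₀ b)).fst = q j b := fun j b => by rw [hqq', hs₀]
  letI algQ : Algebra B₀ (ι → k) := Q.toRingHom.toAlgebra
  haveI : IsScalarTower k B₀ (ι → k) := IsScalarTower.of_algebraMap_eq fun c => (Q.commutes c).symm
  let D : Derivation k B₀ (ι → k) :=
    { Dfun with
      map_one_eq_zero' := by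
        funext j
        change (q' j (s₀ 1)).snd = 0
        rw [map_one, map_one]; rfl
      leibniz' := fun a b => by
        funext j
        change (q' j (s₀ (a * b))).snd = (a • Dfun b + b • Dfun a) j
        rw [Algebra.smul_def, Algebra.smul_def, Pi.add_apply, Pi.mul_apply, Pi.mul_apply, hD, hD, map_mul, map_mul,
          DualNumber.snd_mul, hfst, hfst]
        change _ = q j a * _ + q j b * _
        ring }
  obtain ⟨L, hL⟩ := Module.projective_lifting_property (Algebra.linearMap B₀ (ι → k)) D.liftKaehlerDifferential hQ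
  let d : Derivation k B₀ B₀ := L.compDer (KaehlerDifferential.D k B₀)
  have hd : ∀ j b, q j (d b) = (q' j (s₀ b)).snd := fun j b => by
    have h := congrFun (LinearMap.congr_fun hL (KaehlerDifferential.D k B₀ b)) j
    rw [Derivation.liftKaehlerDifferential_comp_D] at h
    exact h
  set e := φ DualNumber.eps with he
  have hee : e * e = 0 := by rw [he, ← map_mul, DualNumber.eps_mul_eps, map_zero]
  let sf : B₀ → B := fun b => s₀ b - e * s₀ (d b)
  let s : B₀ →ₐ[k] B :=
    { toFun := sf
      map_one' := by change s₀ 1 - e * s₀ (d 1) = 1; simp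
      map_zero' := by change s₀ 0 - e * s₀ (d 0) = 0; simp
      map_add' := fun a b => by
        change s₀ (a + b) - e * s₀ (d (a + b)) = (s₀ a - e * s₀ (d a)) + (s₀ b - e * s₀ (d b))
        rw [map_add, map_add, map_add]; ring
      map_mul' := fun a b => by
        change s₀ (a * b) - e * s₀ (d (a * b)) = (s₀ a - e * s₀ (d a)) * (s₀ b - e * s₀ (d b))
        rw [d.leibniz, map_add, smul_eq_mul, smul_eq_mul, map_mul, map_mul, map_mul]
        linear_combination (-(s₀ (d a) * s₀ (d b))) * hee
      commutes' := fun c => by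
        change s₀ (algebraMap k B₀ c) - e * s₀ (d (algebraMap k B₀ c)) = _
        simp }
  refine ⟨s, fun b => ?_, fun j b => ?_⟩
  · change π (s₀ b - e * s₀ (d b)) = b
    rw [map_sub, map_mul, hεπ, hs₀]
    simp
  · change q' j (s₀ b - e * s₀ (d b)) = _
    rw [map_sub, map_mul, he, hq']
    refine TrivSqZeroExt.ext ?_ ?_
    · simp [hfst, TrivSqZeroExt.algebraMap_eq_inl]
    · simp [hfst, hd, TrivSqZeroExt.algebraMap_eq_inl]

open AlgebraicGeometry CategoryTheory in
/-- Let k be a field and X an affine scheme smooth over k, with finitely many pairwise distinct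
k-rational points p_j (j ∈ ι). Let X' → Spec k[ε] be flat, i : X → X' a morphism making X the fibre
over the closed point Spec k → Spec k[ε] (cartesian square), and p'_j : Spec k[ε] → X' sections
restricting to the p_j. Then there is an isomorphism φ : X' ≅ X ×_{Spec k} Spec k[ε] over Spec k[ε]
such that i followed by φ is the inclusion of X at the closed point (its first component is the
identity of X) and each p'_j followed by φ is the constant section through p_j: every first-order
deformation of a smooth affine scheme with marked points is trivial. (The source says non-singular;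
smooth over k is assumed here, and the marked points are taken pairwise distinct and finite in
number.) -/
theorem result
    (k : Type u) [Field k] (X : Scheme.{u}) (hX : X ⟶ Spec (CommRingCat.of k)) [IsAffine X] [Smooth hX]
    {ι : Type v} [Finite ι] (p : ι → (Spec (CommRingCat.of k) ⟶ X)) (hp : ∀ j, p j ≫ hX = 𝟙 _)
    (hinj : Function.Injective p)
    (X' : Scheme.{u}) (g : X' ⟶ Spec (CommRingCat.of (DualNumber k))) [Flat g] (i : X ⟶ X')
    (hsq : IsPullback i hX g
      (Spec.map (CommRingCat.ofHom (TrivSqZeroExt.fstHom k k k).toRingHom)))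
    (p' : ι → (Spec (CommRingCat.of (DualNumber k)) ⟶ X')) (hp' : ∀ j, p' j ≫ g = 𝟙 _)
    (hpp' : ∀ j, p j ≫ i = Spec.map (CommRingCat.ofHom (TrivSqZeroExt.fstHom k k k).toRingHom) ≫ p' j) :
    ∃ φ : X' ≅ Limits.pullback hX (Spec.map (CommRingCat.ofHom (algebraMap k (DualNumber k)))),
      φ.hom ≫ Limits.pullback.snd hX (Spec.map (CommRingCat.ofHom (algebraMap k (DualNumber k)))) = g ∧
        i ≫ φ.hom ≫ Limits.pullback.fst hX (Spec.map (CommRingCat.ofHom (algebraMap k (DualNumber k)))) = 𝟙 X ∧
          ∀ j, p' j ≫ φ.hom ≫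
              Limits.pullback.fst hX (Spec.map (CommRingCat.ofHom (algebraMap k (DualNumber k)))) =
            Spec.map (CommRingCat.ofHom (algebraMap k (DualNumber k))) ≫ p j := by
  have : Module.Finite k (DualNumber k) := inferInstanceAs (Module.Finite k (k × k))
  have : IsArtinianRing (DualNumber k) := IsArtinianRing.of_finite k (DualNumber k)
  have hsm := AffDef.formallySmooth_coord X hX
  let e : DualNumber k →ₐ[k] k := TrivSqZeroExt.fstHom k k k
  have hes : Function.Surjective e.toRingHom := fun c => ⟨algebraMap k _ c, e.commutes c⟩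
  have hsq' := AffDef.isPullback_coord X hX e.toRingHom g i hsq
  obtain ⟨B, _, φ, π, j, hjf, hji, hπs, hcomm, hker, hflat⟩ :=
    AffDef.exists_affine e.toRingHom hes (AffDef.isNilpotent_ker e) (algebraMap k (AffDef.coordRing X hX)) X' g
      ((AffDef.coordIso X hX).hom ≫ i) hsq'
  letI : Algebra k B := (φ.comp (algebraMap k (DualNumber k))).toAlgebra
  let πA : B →ₐ[k] AffDef.coordRing X hX :=
    { π with
      commutes' := fun c => by
        change π (φ (algebraMap k (DualNumber k) c)) = _
        rw [← RingHom.comp_apply π φ, hcomm, RingHom.comp_apply]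
        exact congrArg _ (e.commutes c) }
  let φA : DualNumber k →ₐ[k] B := { φ with commutes' := fun c => rfl }
  have hspan : RingHom.ker e.toRingHom = Ideal.span {DualNumber.eps} := by
    refine le_antisymm (fun x hx => Ideal.mem_span_singleton.2 ⟨TrivSqZeroExt.inl x.snd, ?_⟩) ?_
    · have hx' : TrivSqZeroExt.fst x = 0 := hx
      refine TrivSqZeroExt.ext ?_ ?_
      · simp [hx']
      · simp
    · rw [Ideal.span_singleton_le_iff_mem]
      exact TrivSqZeroExt.fst_inr k 1
  have hkerε : ∀ y, π y = 0 → ∃ c, y = φ DualNumber.eps * c := fun y hy => by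
    have h1 : y ∈ (RingHom.ker e.toRingHom).map φ := hker ▸ hy
    rw [hspan, Ideal.map_span, Set.image_singleton] at h1
    exact Ideal.mem_span_singleton.1 h1
  have hεπ : π (φ DualNumber.eps) = 0 := by
    rw [← RingHom.comp_apply π φ, hcomm, RingHom.comp_apply, show e.toRingHom DualNumber.eps = 0 from TrivSqZeroExt.fst_inr k 1,
      map_zero]
  have hnil : IsNilpotent (RingHom.ker (πA : B →+* AffDef.coordRing X hX)) := by
    obtain ⟨n, hn⟩ := AffDef.isNilpotent_ker e
    refine ⟨n, ?_⟩
    change (RingHom.ker π) ^ n = ⊥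
    rw [hker, ← Ideal.map_pow, hn]
    exact Ideal.map_bot
  let s₀ := Algebra.FormallySmooth.liftOfSurjective (AlgHom.id k (AffDef.coordRing X hX)) πA hπs hnil
  -- the marked points
  let qr : ι → (CommRingCat.of (AffDef.coordRing X hX) ⟶ CommRingCat.of k) := fun l =>
    Spec.preimage (p l ≫ (AffDef.coordIso X hX).inv)
  have hqr : ∀ l, Spec.map (qr l) = p l ≫ (AffDef.coordIso X hX).inv := fun l => Spec.map_preimage _
  let q : ι → (AffDef.coordRing X hX →ₐ[k] k) := fun l =>
    { (qr l).hom with
      commutes' := fun c => by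
        have h : CommRingCat.ofHom (algebraMap k (AffDef.coordRing X hX)) ≫ qr l = 𝟙 _ := Spec.map_injective (by
          rw [Spec.map_comp, hqr, AffDef.specMap_coord, Category.assoc, Iso.inv_hom_id_assoc, hp, Spec.map_id])
        exact RingHom.congr_fun (congrArg CommRingCat.Hom.hom h) c }
  have hqinj : Function.Injective q := fun a b h => hinj (by
    have h1 : qr a = qr b := CommRingCat.hom_ext (congrArg AlgHom.toRingHom h)
    have h2 := congrArg Spec.map h1
    rw [hqr, hqr] at h2
    exact (cancel_mono (AffDef.coordIso X hX).inv).1 h2)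
  let qr' : ι → (CommRingCat.of B ⟶ CommRingCat.of (DualNumber k)) := fun l => Spec.preimage (p' l ≫ j.inv)
  have hqr' : ∀ l, Spec.map (qr' l) = p' l ≫ j.inv := fun l => Spec.map_preimage _
  have hqφ : ∀ l a, (qr' l).hom (φ a) = a := fun l a => by
    have h : CommRingCat.ofHom φ ≫ qr' l = 𝟙 _ := Spec.map_injective (by
      rw [Spec.map_comp, hqr', ← hjf, Category.assoc, j.inv_hom_id_assoc, hp', Spec.map_id])
    exact RingHom.congr_fun (congrArg CommRingCat.Hom.hom h) a
  let q' : ι → (B →ₐ[k] DualNumber k) := fun l =>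
    { (qr' l).hom with commutes' := fun c => hqφ l _ }
  have hqq' : ∀ l y, (q' l y).fst = q l (π y) := fun l y => by
    have h : CommRingCat.ofHom π ≫ qr l = qr' l ≫ CommRingCat.ofHom e.toRingHom := Spec.map_injective (by
      rw [Spec.map_comp, Spec.map_comp, hqr, hqr', ← Category.assoc (Spec.map _), ← hpp' l, Category.assoc, Category.assoc]
      congr 1
      rw [← cancel_mono j.hom, Category.assoc, Category.assoc, j.inv_hom_id, Category.comp_id, hji,
        Iso.inv_hom_id_assoc])
    exact (RingHom.congr_fun (congrArg CommRingCat.Hom.hom h) y).symm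
  obtain ⟨s, hs1, hs2⟩ := exists_marked_section πA φA hπs hkerε hεπ s₀
    (Algebra.FormallySmooth.liftOfSurjective_apply (AlgHom.id k _) πA hπs hnil) q hqinj q' (fun l a => hqφ l a) hqq'
  obtain ⟨ψ, hψ, hψi, hψf⟩ := AffDef.exists_iso_trivial e X' g ((AffDef.coordIso X hX).hom ≫ i) φ (hflat inferInstance)
    π j hjf hji hcomm hker s.toRingHom (RingHom.ext hs1) s.comp_algebraMap
  refine ⟨ψ ≪≫ AffDef.pullbackCoordIso X hX _, ?_, ?_, fun l => ?_⟩
  · rw [Iso.trans_hom, Category.assoc, AffDef.pullbackCoordIso_hom_snd, hψ]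
  · rw [Iso.trans_hom, Category.assoc, AffDef.pullbackCoordIso_hom_fst, ← cancel_epi (AffDef.coordIso X hX).hom]
    simp only [← Category.assoc] at hψi ⊢
    rw [hψi, Category.id_comp, Category.comp_id]
  · rw [Iso.trans_hom, Category.assoc, AffDef.pullbackCoordIso_hom_fst, ← Category.assoc ψ.hom, hψf, Category.assoc,
      ← Category.assoc (p' l), ← hqr', ← Category.assoc, ← Spec.map_comp,
      show CommRingCat.ofHom s.toRingHom ≫ qr' l = qr l ≫ CommRingCat.ofHom (algebraMap k (DualNumber k)) from
        CommRingCat.hom_ext (RingHom.ext (hs2 l)),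
      Spec.map_comp, Category.assoc, hqr, Category.assoc, Iso.inv_hom_id, Category.comp_id]

end Groth.Agent.S15991
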