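import Groth.Statements.S15993
import Groth.Agent.AlgSp.SchDense
import Groth.Agent.SchDense.Basic
import Mathlib.AlgebraicGeometry.Morphisms.FlatMono
-- import your own Groth.Agent.* helpers here

set_option autoImplicit false
open CategoryTheory AlgebraicGeometry
universe u
open EtHull CategoryTheory.Limits

namespace Groth.Agent.S15993

/-- Let f : X → S be a morphism of schemes which is faithfully flat (flat and surjective), quasi-compact
and separated, and schematically birational in the following sense: there are schematically dense
opens U of S and V of X, with the inclusion V → X quasi-compact, such that f maps V into U and the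
induced morphism V → U is an isomorphism. Then f is an isomorphism. (The source states this for
algebraic spaces and puts no quasi-compactness condition on the dense opens. Its proof base-changes
along f and uses that the inverse image of V in X ×_S X is again schematically dense, which holds
when V → X is quasi-compact, for instance when X is locally Noetherian, and fails in general: over
the Boolean ring of eventually constant sequences of elements of the field with two elements, the
spectrum of the ring of eventually two-periodic sequences is faithfully flat and affine, and it is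
an isomorphism above the open set of principal points, which is schematically dense on both sides,
yet it is not an isomorphism, the point at infinity being doubled. So V is taken retrocompact in X
here, and X, S are schemes.) -/
theorem result {X S : Scheme.{u}} (f : X ⟶ S)
    [Flat f] [Surjective f] [QuasiCompact f] [IsSeparated f]
    (U : S.Opens) (V : X.Opens) [QuasiCompact V.ι]
    (hU : CInt.IsSchematicallyDense U) (hV : CInt.IsSchematicallyDense V)
    (hle : V ≤ f ⁻¹ᵁ U) (hiso : IsIso (f.resLE U V hle)) : IsIso f := by
  haveI := hiso
  let p1 := pullback.fst f f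
  let p2 := pullback.snd f f
  let W : (pullback f f).Opens := p1 ⁻¹ᵁ V ⊓ p2 ⁻¹ᵁ V
  have hW : CInt.IsSchematicallyDense W :=
    AlgSp.SchDense.inf _ _ (AlgSp.SchDense.preimage_of_quasiCompact p1 V hV)
      (AlgSp.SchDense.preimage_of_quasiCompact p2 V hV)
  have h1 : Set.range (W.ι ≫ p1) ⊆ Set.range V.ι := by
    rintro _ ⟨w, rfl⟩
    rw [Scheme.Opens.range_ι, Scheme.Hom.comp_apply]
    exact w.2.1
  have h2 : Set.range (W.ι ≫ p2) ⊆ Set.range V.ι := by
    rintro _ ⟨w, rfl⟩
    rw [Scheme.Opens.range_ι, Scheme.Hom.comp_apply]
    exact w.2.2
  let a1 : W.toScheme ⟶ V.toScheme := IsOpenImmersion.lift V.ι (W.ι ≫ p1) h1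
  let a2 : W.toScheme ⟶ V.toScheme := IsOpenImmersion.lift V.ι (W.ι ≫ p2) h2
  have ha : a1 = a2 := by
    rw [← cancel_mono (f.resLE U V hle ≫ U.ι), Scheme.Hom.resLE_comp_ι]
    simp only [a1, a2, IsOpenImmersion.lift_fac_assoc, Category.assoc, p1, p2, pullback.condition]
  have h12 : W.ι ≫ p1 = W.ι ≫ p2 := by
    rw [← IsOpenImmersion.lift_fac V.ι (W.ι ≫ p1) h1, ← IsOpenImmersion.lift_fac V.ι (W.ι ≫ p2) h2]
    exact congrArg (· ≫ V.ι) ha
  haveI : IsIso (pullback.diagonal f) :=
    SchDense.isIso_of_schDense (pullback.diagonal f) W hW (W.ι ≫ p1)
      (pullback.hom_ext (by simp [p1]) (by simpa [p2] using h12))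
  haveI : Mono f := (pullback.isIso_diagonal_iff f).mp inferInstance
  exact Flat.isIso_of_surjective_of_mono f

end Groth.Agent.S15993
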