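import Groth.Statements.S15994
import Groth.Agent.EtHull16.Initial
import Groth.Agent.GrpScheme.Ext

set_option autoImplicit false
open CategoryTheory AlgebraicGeometry
universe u
open EtHull

namespace Groth.Agent.S15994

open Limits EtHull16

/-- The base itself, cut down to the closure of the image, is admissible. -/
theorem exists_base {X S : Scheme.{u}} [IsNoetherian S]
    (hS : ∀ s : S, CAlg2.IsGeomUnibranch (S.presheaf.stalk s))
    (hemb : AssSch.NoEmbedded (Coh.structureModule S))
    (f : X ⟶ S) [Flat f] [LocallyOfFinitePresentation f] [QuasiCompact f] :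
    ∃ (E : Scheme.{u}) (g : E ⟶ S) (u : X ⟶ E), IsAdm f g u ∧ Mono g := by
  obtain ⟨C, u, -, hu, hC, hd⟩ := S15997.dominant_closure hS hemb f (𝟙 S) f (Category.comp_id f)
  exact ⟨C.toScheme, C.ι, u, ⟨inferInstance, hC, hd, hu⟩, inferInstance⟩

/-- Let S be a Noetherian scheme all of whose local rings are geometrically unibranch and whose
structure sheaf has no embedded associated points, and let f : X → S be flat, surjective and of
finite presentation. Then there is a factorization X → E₀ → S of f with E₀ → S étale and affine and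
X → E₀ schematically dominant (the étale affine hull of X over S), and it is initial among all
factorizations of f through étale affine S-schemes: for every factorization X → E → S of f with E →
S étale and affine there is a unique morphism E₀ → E compatible with the maps from X and to S. In
particular it is the largest factorization with X → E schematically dominant. (The source allows X
to be an algebraic space; X is a scheme here.) -/
theorem result {X S : Scheme.{u}} [IsNoetherian S]
    (hS : ∀ s : S, CAlg2.IsGeomUnibranch (S.presheaf.stalk s))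
    (hemb : AssSch.NoEmbedded (Coh.structureModule S))
    (f : X ⟶ S) [Flat f] [Surjective f] [LocallyOfFinitePresentation f] [QuasiCompact f]
    [QuasiSeparated f] :
    ∃ (E₀ : Scheme.{u}) (g₀ : E₀ ⟶ S) (u₀ : X ⟶ E₀), Etale g₀ ∧ IsAffineHom g₀ ∧
      IsSchemeTheoreticallyDominant u₀ ∧ u₀ ≫ g₀ = f ∧
      ∀ (E : Scheme.{u}) (g : E ⟶ S) (u : X ⟶ E), Etale g → IsAffineHom g → u ≫ g = f →
        ∃! v : E₀ ⟶ E, u₀ ≫ v = u ∧ v ≫ g = g₀ := by
  obtain ⟨B, gB, uB, hB, -⟩ := exists_base hS hemb f
  obtain ⟨E₀, g₀, u₀, h, -, hinit⟩ := exists_initial (fun _ _ _ => True) ⟨B, gB, uB, hB, trivial⟩ (by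
    intro E E' g u g' u' h _ h' _
    haveI := h.et; haveI := h.aff; haveI := h.dom
    haveI := h'.et; haveI := h'.aff; haveI := h'.dom
    obtain ⟨F, gF, uF, a, b, e1, e2, e3, e4, e5, e6, e7, e8, -⟩ :=
      S15997.result hS hemb f E E' g g' u u' h.fac h'.fac
    exact ⟨F, gF, uF, a, b, ⟨e1, e2, e3, e4⟩, trivial, e5, e6, e7, e8⟩)
  refine ⟨E₀, g₀, u₀, h.et, h.aff, h.dom, h.fac, fun E g u hg hga huf => ?_⟩
  obtain ⟨C, uC, -, huC, hCa, hd⟩ := S15997.dominant_closure hS hemb f g u huf
  obtain ⟨v, hv, hvg⟩ := hinit C.toScheme (C.ι ≫ g) uC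
    ⟨inferInstance, inferInstance, hd, by rw [reassoc_of% huC, huf]⟩ trivial
  have hvu : u₀ ≫ v ≫ C.ι = u := by rw [reassoc_of% hv, huC]
  have hvg' : (v ≫ C.ι) ≫ g = g₀ := by rw [Category.assoc, hvg]
  haveI := h.dom
  exact ⟨v ≫ C.ι, ⟨hvu, hvg'⟩, fun v' hv' =>
    GrpScheme.Ext.ext_of_schematicallyDominant u₀ g (by rw [hv'.2, hvg']) (by rw [hv'.1, hvu])⟩

end Groth.Agent.S15994
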