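import Groth.Statements.S15995
-- import your own Groth.Agent.* helpers here

set_option autoImplicit false
open CategoryTheory AlgebraicGeometry
universe u
open FrobSch

open CategoryTheory CategoryTheory.Limits AlgebraicGeometry

namespace Groth.Agent.S15995

theorem isPullback_iff {p : ℕ} [Fact p.Prime] {Y S : Scheme.{u}} [FrobSch.IsCharP S p]
    [FrobSch.IsCharP Y p] (r : Y ⟶ S) :
    IsPullback (FrobSch.frob Y p) r r (FrobSch.frob S p) ↔ IsIso (FrobSch.relFrob r p) := by
  constructor
  · intro h
    have : FrobSch.relFrob r p = h.isoPullback.hom := by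
      apply pullback.hom_ext <;> simp
    rw [this]; infer_instance
  · intro h
    exact IsPullback.of_iso_pullback ⟨FrobSch.frob_comp p r⟩ (asIso (FrobSch.relFrob r p))
      (FrobSch.relFrob_fst r p) (FrobSch.relFrob_snd r p)

/-- Coperfection commutes with base restriction. Let S and T be schemes of characteristic p and f : T →
S a relatively perfect morphism (its relative Frobenius T → T^(p/S) is an isomorphism). Let g : X →
T and let c : X → X' be a T-morphism to a relatively perfect T-scheme π : X' → T which is a
coperfection of X over T: for every relatively perfect T-scheme Y, every T-morphism X → Y factors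
uniquely through c. Then X' with structure map π ≫ f is relatively perfect over S and c is a
coperfection of X over S: every S-morphism from X to a relatively perfect S-scheme factors uniquely
through c. (The source works with algebraic spaces; schemes here.) -/
theorem result (p : ℕ) [Fact p.Prime] {X X' T S : Scheme.{u}}
    [FrobSch.IsCharP S p] [FrobSch.IsCharP T p] (f : T ⟶ S) (hf : IsIso (FrobSch.relFrob f p))
    (g : X ⟶ T) (π : X' ⟶ T) (hπ : IsIso (FrobSch.relFrob π p)) (c : X ⟶ X') (hc : c ≫ π = g)
    (huniv : ∀ (Y : Scheme.{u}) (q : Y ⟶ T), IsIso (FrobSch.relFrob q p) →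
      ∀ k : X ⟶ Y, k ≫ q = g → ∃! h : X' ⟶ Y, h ≫ q = π ∧ c ≫ h = k) :
    IsIso (FrobSch.relFrob (π ≫ f) p) ∧
      ∀ (Y : Scheme.{u}) (r : Y ⟶ S), IsIso (FrobSch.relFrob r p) →
        ∀ k : X ⟶ Y, k ≫ r = g ≫ f → ∃! h : X' ⟶ Y, h ≫ r = π ≫ f ∧ c ≫ h = k := by
  have hX' : FrobSch.IsCharP X' p := FrobSch.IsCharP.of_hom π p
  refine ⟨(isPullback_iff _).1 (((isPullback_iff π).2 hπ).paste_vert ((isPullback_iff f).2 hf)), ?_⟩
  intro Y r hr k hk
  have hY : FrobSch.IsCharP Y p := FrobSch.IsCharP.of_hom r p
  have hYT : FrobSch.IsCharP (pullback r f) p := FrobSch.IsCharP.of_hom (pullback.fst r f) p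
  have hq : IsIso (FrobSch.relFrob (pullback.snd r f) p) := by
    refine (isPullback_iff _).1 ?_
    have h1 := ((IsPullback.of_hasPullback r f).paste_horiz ((isPullback_iff r).2 hr))
    rw [← FrobSch.frob_comp p (pullback.fst r f), ← FrobSch.frob_comp p f] at h1
    exact h1.of_right (FrobSch.frob_comp p _) (IsPullback.of_hasPullback r f)
  obtain ⟨h', ⟨h1, h2⟩, huq⟩ := huniv (pullback r f) (pullback.snd r f) hq
    (pullback.lift k g (by rw [hk])) (pullback.lift_snd _ _ _)
  refine ⟨h' ≫ pullback.fst r f, ⟨?_, ?_⟩, ?_⟩
  · rw [Category.assoc, pullback.condition, reassoc_of% h1]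
  · rw [← Category.assoc, h2, pullback.lift_fst]
  · rintro h ⟨e1, e2⟩
    have := huq (pullback.lift h π (by rw [e1])) ⟨pullback.lift_snd _ _ _, by
      apply pullback.hom_ext
      · rw [Category.assoc]
        erw [pullback.lift_fst, pullback.lift_fst]
        exact e2
      · rw [Category.assoc]
        erw [pullback.lift_snd, pullback.lift_snd]
        exact hc⟩
    rw [← this, pullback.lift_fst]

end Groth.Agent.S15995
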