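import Groth.Statements.S15996
import Groth.Agent.Helper63.EtHullReg
import Groth.Agent.S11107
import Groth.Agent.EtStruct.Instances
import Mathlib.AlgebraicGeometry.ZariskisMainTheorem
import Mathlib.AlgebraicGeometry.QuasiAffine

set_option autoImplicit false
set_option linter.style.haveILetI false
set_option backward.isDefEq.respectTransparency.types false
open CategoryTheory AlgebraicGeometry
universe u
open EtHull

namespace Groth.Agent.S15996

/-- Let R be a Noetherian ring whose localizations at all prime ideals are regular local rings, S = Spec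
R, and q : U → S an étale, separated and quasi-compact morphism of schemes. The following are
equivalent: (1) there is an open immersion of U into a scheme E which is étale and affine over S,
compatible with q; (2) the affine hull Spec Γ(U, O_U) → S of U over S is étale. (The source states
this for a locally Noetherian algebraic space S all of whose étale atlases are locally ℚ-factorial;
this row is the case of an affine regular Noetherian base, a regular scheme being locally
ℚ-factorial.) -/
theorem result {R : Type u} [CommRing R]
    [IsNoetherianRing R] (hreg : ∀ (P : Ideal R) [P.IsPrime], IsRegularLocalRing (Localization.AtPrime P))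
    {U : Scheme.{u}} (q : U ⟶ Spec (CommRingCat.of R)) [Etale q] [IsSeparated q] [QuasiCompact q] :
    (∃ (E : Scheme.{u}) (j : U ⟶ E) (g : E ⟶ Spec (CommRingCat.of R)),
        IsOpenImmersion j ∧ Etale g ∧ IsAffineHom g ∧ j ≫ g = q) ↔
      Etale (Spec.map q.appTop ≫ (Spec (CommRingCat.of R)).isoSpec.inv) := by
  haveI : IsRegularRing R := { isRegularLocalRing_localization := fun P hP => @hreg P hP }
  haveI : CompactSpace U := QuasiCompact.compactSpace_of_compactSpace q
  constructor
  · rintro ⟨E, j, g, hj, hg, hga, rfl⟩
    haveI := hj; haveI := hg; haveI := hga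
    haveI : IsAffine E := isAffine_of_isAffineHom g
    haveI : IsLocallyNoetherian E := LocallyOfFiniteType.isLocallyNoetherian g
    haveI : CompactSpace E := inferInstance
    haveI : IsNoetherian E := { }
    have hR : ∀ x : E, IsRegularLocalRing (E.presheaf.stalk x) :=
      S11107.isRegularLocalRing_stalk g
    let C : E.Opens := ⟨closure (j.opensRange : Set E),
      Helper63.EtHullReg.isOpen_closure (fun x => (Helper63.EtHullReg.isUFD hR x).1) j.opensRange⟩
    haveI : IsClosedImmersion C.ι := IsClosedImmersion.of_isPreimmersion C.ι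
      (by rw [Scheme.Opens.range_ι]; exact isClosed_closure)
    haveI : IsAffine C.toScheme := isAffine_of_isAffineHom C.ι
    have hr : Set.range j ⊆ Set.range C.ι := by
      rw [Scheme.Opens.range_ι]; exact subset_closure
    let j₁ : U ⟶ C.toScheme := IsOpenImmersion.lift C.ι j hr
    have hj₁ : j₁ ≫ C.ι = j := IsOpenImmersion.lift_fac _ _ _
    haveI : IsOpenImmersion (j₁ ≫ C.ι) := hj₁ ▸ hj
    haveI : IsOpenImmersion j₁ := IsOpenImmersion.of_comp j₁ C.ι
    haveI : IsLocallyNoetherian C.toScheme := LocallyOfFiniteType.isLocallyNoetherian C.ι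
    haveI : IsNoetherian C.toScheme := { }
    have hdense : Dense (j₁.opensRange : Set C.toScheme) := by
      intro z
      have h1 : (j₁.opensRange : Set C.toScheme) = C.ι ⁻¹' (j.opensRange : Set E) := by
        rw [Scheme.Hom.coe_opensRange, Scheme.Hom.coe_opensRange, ← hj₁, Scheme.Hom.comp_base,
          TopCat.coe_comp, Set.range_comp,
          Set.preimage_image_eq _ C.ι.isOpenEmbedding.injective]
      rw [h1, ← C.ι.isOpenEmbedding.isOpenMap.preimage_closure_eq_closure_preimage C.ι.continuous]
      exact z.2
    obtain ⟨W, hUW, hW, hdepth⟩ := Helper63.EtHullReg.exists_affine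
      (S11107.isRegularLocalRing_stalk (C.ι ≫ g)) j₁.opensRange hdense
    haveI : IsAffine W.toScheme := hW
    let k : U ⟶ W.toScheme := IsOpenImmersion.lift W.ι j₁
      (by rw [Scheme.Opens.range_ι]; exact hUW)
    have hk : k ≫ W.ι = j₁ := IsOpenImmersion.lift_fac _ _ _
    haveI : IsOpenImmersion (k ≫ W.ι) := hk ▸ inferInstance
    haveI : IsOpenImmersion k := IsOpenImmersion.of_comp k W.ι
    haveI : IsLocallyNoetherian W.toScheme := LocallyOfFiniteType.isLocallyNoetherian W.ι
    have hiso : IsIso k.opensRange.ι.appTop := by
      rw [Scheme.Opens.ι_appTop, ConcreteCategory.isIso_iff_bijective]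
      refine Groth.Agent.HartogsAffine.bijective_res _ fun x hx => ?_
      have hx' : W.ι x ∉ j₁.opensRange := fun h => hx (by
        obtain ⟨y, hy⟩ := h
        have hy' : W.ι (k y) = W.ι x := by
          rw [← hy, ← hk]; rfl
        obtain rfl := W.ι.isOpenEmbedding.injective hy'
        exact ⟨⟨k y, ⟨y, rfl⟩⟩, trivial, rfl⟩)
      rw [← HartogsAffine.depth_congr_ringEquiv (asIso (W.ι.stalkMap x)).commRingCatIsoToRingEquiv.symm]
      exact hdepth _ x.2 hx'
    haveI := hiso
    haveI : IsIso k.appTop := by
      rw [← k.isoOpensRange_hom_ι, Scheme.Hom.comp_appTop]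
      exact @IsIso.comp_isIso _ _ _ _ _ _ _ hiso
        (inferInstanceAs (IsIso (Scheme.Γ.map k.isoOpensRange.hom.op)))
    have hq : j ≫ g = k ≫ (W.ι ≫ C.ι ≫ g) := by
      rw [← Category.assoc k, hk, reassoc_of% hj₁]
    rw [hq, Scheme.Hom.comp_appTop, Spec.map_comp, Category.assoc,
      Scheme.isoSpec_inv_naturality]
    infer_instance
  · intro h
    haveI := h
    haveI : U.IsQuasiAffine := by
      haveI := Groth.Agent.EtStruct.locallyQuasiFinite_of_formallyUnramified q
      haveI : IsAffine q.normalization := isAffine_of_isAffineHom q.fromNormalization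
      exact Scheme.IsQuasiAffine.of_isImmersion q.toNormalization
    refine ⟨_, U.toSpecΓ, Spec.map q.appTop ≫ (Spec (CommRingCat.of R)).isoSpec.inv, inferInstance, h,
      inferInstance, ?_⟩
    rw [← Scheme.toSpecΓ_naturality_assoc, ← Scheme.isoSpec_hom, Iso.hom_inv_id, Category.comp_id]

end Groth.Agent.S15996
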