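import Groth.Statements.S6671
import Groth.Agent.DescSh.BCConn

set_option autoImplicit false
universe u
open CategoryTheory CategoryTheory.Limits AlgebraicGeometry Opposite
open EtBC

namespace Groth.Agent.S6671

theorem flat_of_comp_eq {N V S : Scheme.{u}} (a : N ⟶ V) (v : V ⟶ S) (p : N ⟶ S) [Etale v] [Flat p]
    (h : a ≫ v = p) : Flat a := by
  let G : N ⟶ pullback p v := pullback.lift (𝟙 N) a ((Category.id_comp _).trans h.symm)
  haveI : Etale (G ≫ pullback.fst p v) := by rw [pullback.lift_fst]; infer_instance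
  haveI : Etale G := Etale.of_comp G (pullback.fst p v)
  haveI : Flat (pullback.snd p v) := MorphismProperty.pullback_snd _ _ ‹Flat p›
  rw [← pullback.lift_snd (𝟙 N) a ((Category.id_comp _).trans h.symm)]
  infer_instance

/-- Let Y = X ×_S T be a cartesian square of schemes with f : X → S flat, g : T → S, h : Y → X, e : Y →
T. Assume that every etale X-scheme U has a jointly surjective family of morphisms of etale
X-schemes U_i → U such that each composite U_i → S factors as a quasi-compact morphism a_i : U_i →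
V_i with geometrically connected fibres followed by an etale morphism V_i → S. Then for every sheaf
of sets F on the small etale site of T the base change map f⁻¹ g_* F → h_* e⁻¹ F is an isomorphism. -/
theorem result {X S Y T : Scheme.{u}} (f : X ⟶ S) [Flat f]
    (g : T ⟶ S) (h : Y ⟶ X) (e : Y ⟶ T) (c : IsPullback e h g f)
    (hcov : ∀ U : X.Etale, ∃ (ι : Type u) (Uc : ι → X.Etale) (mU : ∀ i, Uc i ⟶ U),
      (∀ y : U.left, ∃ (i : ι) (z : (Uc i).left), (mU i).left.base z = y) ∧
      ∀ i, ∃ (V : S.Etale) (a : (Uc i).left ⟶ V.left),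
        a ≫ V.hom = (Uc i).hom ≫ f ∧ QuasiCompact a ∧ GeometricallyConnected a)
    (F : EtDesc.Sh T) :
    IsIso (EtBC.baseChange0Sh g f h e c.w F) := by
  refine Groth.Agent.DescSh.BCConn.isIso_baseChange0Sh f g h e c fun N z => ?_
  obtain ⟨ι, Uc, mU, hj, hf⟩ := hcov N
  obtain ⟨i, z₁, hz₁⟩ := hj z
  obtain ⟨V, a, ha, hqc, hgc⟩ := hf i
  refine ⟨Uc i, mU i, z₁, V, a, hz₁, ha, hgc, fun Y y => ?_⟩
  haveI : Etale V.hom := V.prop
  haveI : Etale (Uc i).hom := (Uc i).prop
  haveI : Flat a := flat_of_comp_eq a V.hom ((Uc i).hom ≫ f) ha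
  haveI : Flat (pullback.snd a y) := MorphismProperty.pullback_snd _ _ ‹Flat a›
  haveI : QuasiCompact (pullback.snd a y) := MorphismProperty.pullback_snd _ _ ‹QuasiCompact a›
  exact ⟨(pullback.snd a y).surjective, Flat.isQuotientMap_of_surjective _⟩

end Groth.Agent.S6671
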