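import Groth.Statements.S15997
import Groth.Agent.S2787
import Groth.Agent.S1454
import Groth.Agent.ProjTwist.Invertible
import Groth.Agent.S4641
import Groth.Agent.S1699
import Groth.Agent.S6671
import Groth.Agent.S17890
import Groth.Agent.AssSch.Reduced
import Groth.Agent.AssSch.Integral
import Groth.Agent.AlgSp.DenseFlat
import Groth.Agent.AlgSpB.OverField

set_option autoImplicit false
open CategoryTheory AlgebraicGeometry
universe u
open EtHull

namespace Groth.Agent.S15997

set_option maxHeartbeats 800000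

open TopologicalSpace Limits

/-- Every point of a Noetherian scheme with unibranch local rings has an irreducible open
neighbourhood. -/
theorem exists_irreducible_nhd {S : Scheme.{u}} [IsNoetherian S]
    (hS : ∀ s : S, CAlg2.IsGeomUnibranch (S.presheaf.stalk s)) (s : S) :
    ∃ N : S.Opens, s ∈ N ∧ IsIrreducible (N : Set S) := by
  have huniq : ∀ x : S, ∀ Z ∈ irreducibleComponents ↥S, ∀ Z' ∈ irreducibleComponents ↥S,
      x ∈ Z → x ∈ Z' → Z = Z' := by
    intro x Z hZ Z' hZ' hx hx'
    have hg := hZ.1.isGenericPoint_genericPoint (isClosed_of_mem_irreducibleComponents Z hZ)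
    have hg' := hZ'.1.isGenericPoint_genericPoint (isClosed_of_mem_irreducibleComponents Z' hZ')
    haveI : IsDomain (CAlg2.red (S.presheaf.stalk x)) := (hS x).1.1
    have hp : (nilradical (S.presheaf.stalk x)).IsPrime :=
      (Ideal.Quotient.isDomain_iff_prime _).mp ‹_›
    obtain ⟨p, hp1⟩ := (S.range_fromSpecStalk (x := x)).ge (hg.specializes hx)
    obtain ⟨p', hp1'⟩ := (S.range_fromSpecStalk (x := x)).ge (hg'.specializes hx')
    let p₀ : ↥(Spec (S.presheaf.stalk x)) :=
      (⟨nilradical (S.presheaf.stalk x), hp⟩ : PrimeSpectrum (S.presheaf.stalk x))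
    have h₀ : ∀ q : ↥(Spec (S.presheaf.stalk x)), p₀ ⤳ q := fun q =>
      haveI := q.isPrime; (PrimeSpectrum.le_iff_specializes p₀ q).mp (nilradical_le_prime q.asIdeal)
    have hmax := (EtStruct.closure_mem_irreducibleComponents_iff _).mp
      (by rw [hg.def]; exact hZ) (S.fromSpecStalk x p₀)
      (hp1 ▸ (h₀ p).map (S.fromSpecStalk x).continuous)
    have hmax' := (EtStruct.closure_mem_irreducibleComponents_iff _).mp
      (by rw [hg'.def]; exact hZ') (S.fromSpecStalk x p₀)
      (hp1' ▸ (h₀ p').map (S.fromSpecStalk x).continuous)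
    rw [← hg.def, ← hg'.def, ← hmax, ← hmax']
  let Z := irreducibleComponent s
  have hZ : Z ∈ irreducibleComponents ↥S := irreducibleComponent_mem_irreducibleComponents s
  have hopen : IsOpen Z := by
    have hfin : (irreducibleComponents ↥S).Finite := NoetherianSpace.finite_irreducibleComponents
    have hcl : IsClosed (⋃ Z' ∈ irreducibleComponents ↥S \ {Z}, Z') :=
      (hfin.subset Set.diff_subset).isClosed_biUnion
        fun Z' hZ' => isClosed_of_mem_irreducibleComponents Z' hZ'.1
    have heq : Z = (⋃ Z' ∈ irreducibleComponents ↥S \ {Z}, Z')ᶜ := by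
      ext x
      simp only [Set.mem_compl_iff, Set.mem_iUnion, exists_prop, not_exists, not_and]
      refine ⟨fun hx Z' hZ' hx' => hZ'.2 (huniq x Z' hZ'.1 Z hZ hx' hx), fun h => ?_⟩
      by_contra hx
      refine h (irreducibleComponent x) ⟨irreducibleComponent_mem_irreducibleComponents x,
        fun e => hx ?_⟩ mem_irreducibleComponent
      rw [Set.mem_singleton_iff] at e
      exact e ▸ mem_irreducibleComponent
    rw [heq]
    exact hcl.isOpen_compl
  exact ⟨⟨Z, hopen⟩, mem_irreducibleComponent, hZ.1⟩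

/-- Étale schemes over such a base again have irreducible neighbourhoods. -/
theorem exists_irreducible_nhd_etale {S E : Scheme.{u}} [IsNoetherian S]
    (hS : ∀ s : S, CAlg2.IsGeomUnibranch (S.presheaf.stalk s)) (g : E ⟶ S) [Etale g] (e : E) :
    ∃ N : Set E, IsOpen N ∧ e ∈ N ∧ IsIrreducible N := by
  obtain ⟨C, hsC, hC⟩ := exists_irreducible_nhd hS (g e)
  haveI : IrreducibleSpace ↥C.toScheme :=
    haveI : Nonempty ↥C.toScheme := ⟨⟨g e, hsC⟩⟩
    { toPreirreducibleSpace := Subtype.preirreducibleSpace hC.2, toNonempty := inferInstance }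
  haveI : Etale (g ∣_ C) := MorphismProperty.of_isPullback (P := @Etale) (isPullback_morphismRestrict g C).flip inferInstance
  have hC' : ∀ c : ↥C.toScheme, CAlg2.IsGeomUnibranch (C.toScheme.presheaf.stalk c) := fun c => by
    exact GUGoingDown.isGeomUnibranch_congr (asIso (C.ι.stalkMap c)).commRingCatIsoToRingEquiv (hS _)
  obtain ⟨h1, h2⟩ := S2787.result (g ∣_ C) hC'
  let e' : ↥(g ⁻¹ᵁ C).toScheme := ⟨e, hsC⟩
  obtain ⟨Z, ⟨hZ, heZ⟩, -⟩ := h1 e'
  exact ⟨(g ⁻¹ᵁ C).ι '' Z, (g ⁻¹ᵁ C).ι.isOpenEmbedding.isOpenMap _ (h2 Z hZ).1,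
    ⟨e', heZ, rfl⟩, hZ.1.image _ (g ⁻¹ᵁ C).ι.continuous.continuousOn⟩

/-- The closure of an open subset is open when every point has an irreducible neighbourhood. -/
theorem isOpen_closure {T : Type u} [TopologicalSpace T]
    (h : ∀ t : T, ∃ N : Set T, IsOpen N ∧ t ∈ N ∧ IsIrreducible N) {W : Set T} (hW : IsOpen W) :
    IsOpen (closure W) := by
  refine isOpen_iff_forall_mem_open.mpr fun t ht => ?_
  obtain ⟨N, hN, htN, hNi⟩ := h t
  refine ⟨N, ?_, hN, htN⟩
  exact (subset_closure_inter_of_isPreirreducible_of_isOpen hNi.2 hW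
    (mem_closure_iff.mp ht N hN htN)).trans (closure_mono Set.inter_subset_right)

/-- An étale affine scheme receiving `X` contains an open and closed subscheme in which `X` is
schematically dominant. -/
theorem dominant_closure {X S E₁₂ : Scheme.{u}} [IsNoetherian S]
    (hS : ∀ s : S, CAlg2.IsGeomUnibranch (S.presheaf.stalk s))
    (hemb : AssSch.NoEmbedded (Coh.structureModule S))
    (f : X ⟶ S) [Flat f] [LocallyOfFinitePresentation f] [QuasiCompact f]
    (g : E₁₂ ⟶ S) [Etale g] [IsAffineHom g] (v : X ⟶ E₁₂) (hv : v ≫ g = f) :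
    ∃ (C : E₁₂.Opens) (u : X ⟶ C.toScheme), (C : Set E₁₂) = closure (Set.range v) ∧
      u ≫ C.ι = v ∧ IsAffineHom C.ι ∧ IsSchemeTheoreticallyDominant u := by
  haveI : IsLocallyNoetherian E₁₂ := LocallyOfFiniteType.isLocallyNoetherian g
  haveI : CompactSpace E₁₂ := QuasiCompact.compactSpace_of_compactSpace g
  haveI : IsNoetherian E₁₂ := {}
  haveI : Flat v := S6671.flat_of_comp_eq v g f hv
  haveI : LocallyOfFinitePresentation v := by
    exact MorphismProperty.of_postcomp (W' := @LocallyOfFiniteType) @LocallyOfFinitePresentation v g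
      inferInstance (hv.symm ▸ inferInstance)
  have hopen : IsOpen (Set.range v) := v.isOpenMap.isOpen_range
  let W : E₁₂.Opens := ⟨Set.range v, hopen⟩
  have hnhd := exists_irreducible_nhd_etale hS g
  let C : E₁₂.Opens := ⟨closure (Set.range v), isOpen_closure hnhd hopen⟩
  have hWC : W ≤ C := fun e he => subset_closure he
  haveI : IsClosedImmersion C.ι := IsClosedImmersion.of_isPreimmersion C.ι
    (by rw [Scheme.Opens.range_ι]; exact isClosed_closure)
  have hvC : Set.range v ⊆ Set.range C.ι := by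
    rw [Scheme.Opens.range_ι]; exact subset_closure
  let u : X ⟶ C.toScheme := IsOpenImmersion.lift C.ι v hvC
  have hu : u ≫ C.ι = v := IsOpenImmersion.lift_fac _ _ _
  haveI : Flat u := by
    haveI : Flat (u ≫ C.ι) := hu.symm ▸ inferInstance
    exact AlgSpB.flat_of_comp_unramified u C.ι
  let W' : C.toScheme.Opens := C.ι ⁻¹ᵁ W
  have hdense : CInt.IsSchematicallyDense W' := by
    haveI : IsLocallyNoetherian C.toScheme := inferInstance
    refine (S1699.result C.toScheme W').mpr fun x hx => ?_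
    have hx' : x ∈ AssSch.Ass (Coh.structureModule C.toScheme) :=
      (AssSch.FlatAss.mem_ass_structure_iff x).mpr hx
    have hmax : ∀ y : S, y ⤳ (C.ι ≫ g) x → y = (C.ι ≫ g) x := fun y hy =>
      S4641.result (C.ι ≫ g) hemb (Coh.structureModule C.toScheme)
        (ProjTwist.isQuasicoherent_structureModule _) (AssSch.Reduced.isFlatOver_structure (C.ι ≫ g))
        x hx' y hy
    haveI : LocallyQuasiFinite (C.ι ≫ g) := EtStruct.locallyQuasiFinite_of_formallyUnramified _
    have hxmax := (EtStruct.maximal_iff_map_maximal (C.ι ≫ g) x).mpr hmax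
    obtain ⟨N, hN, hxN, hNi⟩ := hnhd (C.ι x)
    have hxC : C.ι x ∈ closure (Set.range v) := x.2
    obtain ⟨w, hwN, hwW⟩ := mem_closure_iff.mp hxC N hN hxN
    have hNC : ∀ y ∈ N, y ⤳ C.ι x → y = C.ι x := fun y _ hy => by
      have hyC : y ∈ C := hy.mem_open C.2 x.2
      have := hxmax ⟨y, hyC⟩ ((C.ι.isOpenEmbedding.isInducing.specializes_iff).mp hy)
      exact congrArg C.ι this
    obtain ⟨η, hη⟩ := QuasiSober.sober hNi.closure isClosed_closure
    have hηx : η ⤳ C.ι x := hη.specializes (subset_closure hxN)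
    have hηN : η ∈ N := hηx.mem_open hN hxN
    change C.ι x ∈ W
    rw [← hNC η hηN hηx]
    exact (hη.specializes (subset_closure hwN)).mem_open W.2 hwW
  haveI : IsSchemeTheoreticallyDominant u := by
    haveI : QuasiCompact (u ≫ C.ι) := by
      rw [hu]
      haveI : QuasiCompact (v ≫ g) := hv.symm ▸ inferInstance
      exact QuasiCompact.of_comp v g
    haveI : QuasiCompact u := QuasiCompact.of_comp u C.ι
    rw [isSchemeTheoreticallyDominant_iff]
    refine Scheme.IdealSheafData.ext (funext fun U => ?_)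
    rw [Scheme.Hom.ker_apply, Scheme.IdealSheafData.ideal_bot, Pi.bot_apply,
      ← RingHom.injective_iff_ker_eq_bot, injective_iff_map_eq_zero]
    intro s hs
    have huW : Set.range u ⊆ Set.range W'.ι := by
      rintro _ ⟨x, rfl⟩
      rw [Scheme.Opens.range_ι]
      exact ⟨x, by rw [← hu]; rfl⟩
    let k : X ⟶ W'.toScheme := IsOpenImmersion.lift W'.ι u huW
    have hk : k ≫ W'.ι = u := IsOpenImmersion.lift_fac _ _ _
    haveI : Flat k := by
      haveI : Flat (k ≫ W'.ι) := hk.symm ▸ inferInstance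
      exact AlgSpB.flat_of_comp_unramified k W'.ι
    haveI : Surjective k := by
      constructor
      intro w
      obtain ⟨x, hx⟩ := (show C.ι (W'.ι w) ∈ W from w.2)
      refine ⟨x, W'.ι.isOpenEmbedding.injective (C.ι.isOpenEmbedding.injective ?_)⟩
      rw [← Scheme.Hom.comp_apply k, hk, ← Scheme.Hom.comp_apply u, hu, hx]
    have hW : W'.ι.app U.1 s = 0 := AlgSp.DenseFlat.app_injective k _ (by
      rw [map_zero, ← ConcreteCategory.comp_apply, ← Scheme.Hom.comp_app]
      rw [Scheme.Hom.congr_app hk]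
      simp [hs])
    refine hdense U.1 ?_
    rw [map_zero]
    have hle : U.1 ⊓ W' ≤ W'.ι ''ᵁ W'.ι ⁻¹ᵁ U.1 := by
      intro y hy; exact ⟨⟨y, hy.2⟩, hy.1, rfl⟩
    rw [Scheme.Opens.ι_app] at hW
    have := congrArg (C.toScheme.presheaf.map (homOfLE hle).op) hW
    simp only [map_zero] at this ⊢
    erw [← ConcreteCategory.comp_apply, ← Functor.map_comp, map_zero] at this
    exact this
  exact ⟨C, u, rfl, hu, inferInstance, inferInstance⟩

/-- Let S be a Noetherian scheme all of whose local rings are geometrically unibranch and whose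
structure sheaf has no embedded associated points, and let f : X → S be flat, surjective and of
finite presentation. Call an admissible factorization a factorization X → E → S of f with E → S
étale and affine and X → E schematically dominant. Then any two admissible factorizations X → E₁ → S
and X → E₂ → S have a supremum: an admissible factorization X → E → S with compatible S-morphisms E
→ E₁ and E → E₂, such that every admissible factorization X → E' → S with compatible S-morphisms E'
→ E₁ and E' → E₂ admits a compatible morphism E' → E. (The source allows X to be an algebraic space;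
X is a scheme here.) -/
theorem result {X S : Scheme.{u}} [IsNoetherian S]
    (hS : ∀ s : S, CAlg2.IsGeomUnibranch (S.presheaf.stalk s))
    (hemb : AssSch.NoEmbedded (Coh.structureModule S))
    (f : X ⟶ S) [Flat f] [Surjective f] [LocallyOfFinitePresentation f] [QuasiCompact f]
    [QuasiSeparated f]
    (E₁ E₂ : Scheme.{u}) (g₁ : E₁ ⟶ S) (g₂ : E₂ ⟶ S) (u₁ : X ⟶ E₁) (u₂ : X ⟶ E₂)
    [Etale g₁] [Etale g₂] [IsAffineHom g₁] [IsAffineHom g₂]
    [IsSchemeTheoreticallyDominant u₁] [IsSchemeTheoreticallyDominant u₂]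
    (h₁ : u₁ ≫ g₁ = f) (h₂ : u₂ ≫ g₂ = f) :
    ∃ (E : Scheme.{u}) (g : E ⟶ S) (u : X ⟶ E) (v₁ : E ⟶ E₁) (v₂ : E ⟶ E₂),
      Etale g ∧ IsAffineHom g ∧ IsSchemeTheoreticallyDominant u ∧ u ≫ g = f ∧
      u ≫ v₁ = u₁ ∧ u ≫ v₂ = u₂ ∧ v₁ ≫ g₁ = g ∧ v₂ ≫ g₂ = g ∧
      ∀ (E' : Scheme.{u}) (g' : E' ⟶ S) (u' : X ⟶ E') (w₁ : E' ⟶ E₁) (w₂ : E' ⟶ E₂),
        Etale g' → IsAffineHom g' → IsSchemeTheoreticallyDominant u' → u' ≫ g' = f →
        u' ≫ w₁ = u₁ → u' ≫ w₂ = u₂ → w₁ ≫ g₁ = g' → w₂ ≫ g₂ = g' →
        ∃ w : E' ⟶ E, u' ≫ w = u ∧ w ≫ v₁ = w₁ ∧ w ≫ v₂ = w₂ := by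
  let E₁₂ := pullback g₁ g₂
  let g : E₁₂ ⟶ S := pullback.fst g₁ g₂ ≫ g₁
  have hg2 : pullback.snd g₁ g₂ ≫ g₂ = g := pullback.condition.symm
  let v : X ⟶ E₁₂ := pullback.lift u₁ u₂ (h₁.trans h₂.symm)
  have hv : v ≫ g = f := by rw [pullback.lift_fst_assoc, h₁]
  haveI := isAffineHom_isStableUnderBaseChange.{u}
  haveI : IsAffineHom (pullback.fst g₁ g₂) :=
    MorphismProperty.of_isPullback (P := @IsAffineHom) (IsPullback.of_hasPullback g₁ g₂).flip ‹IsAffineHom g₂›
  haveI : IsAffineHom g := inferInstance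
  haveI : Etale g := inferInstance
  obtain ⟨C, u, hC, hu, hCa, hud⟩ := dominant_closure hS hemb f g v hv
  refine ⟨C.toScheme, C.ι ≫ g, u, C.ι ≫ pullback.fst g₁ g₂, C.ι ≫ pullback.snd g₁ g₂,
    inferInstance, inferInstance, inferInstance, by rw [← Category.assoc, hu, hv],
    by rw [← Category.assoc, hu, pullback.lift_fst], by rw [← Category.assoc, hu, pullback.lift_snd],
    by rw [Category.assoc], by rw [Category.assoc, hg2], ?_⟩
  intro E' g' u' w₁ w₂ hg' hg'a hu' hu'f hw₁ hw₂ hw₁g hw₂g
  let w : E' ⟶ E₁₂ := pullback.lift w₁ w₂ (hw₁g.trans hw₂g.symm)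
  have huw : u' ≫ w = v := by
    apply pullback.hom_ext
    · rw [Category.assoc, pullback.lift_fst, pullback.lift_fst, hw₁]
    · rw [Category.assoc, pullback.lift_snd, pullback.lift_snd, hw₂]
  haveI : QuasiCompact u' := by
    haveI : QuasiCompact (u' ≫ g') := hu'f.symm ▸ inferInstance
    exact QuasiCompact.of_comp u' g'
  have hwC : Set.range w ⊆ Set.range C.ι := by
    rw [Scheme.Opens.range_ι, hC]
    have hd : DenseRange u' := (inferInstance : IsDominant u').1
    calc Set.range w = w '' closure (Set.range u') := by rw [hd.closure_range, Set.image_univ]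
      _ ⊆ closure (w '' Set.range u') := image_closure_subset_closure_image w.continuous
      _ = closure (Set.range v) := by rw [← huw, Scheme.Hom.comp_base, TopCat.coe_comp, Set.range_comp]
  refine ⟨IsOpenImmersion.lift C.ι w hwC, ?_, ?_, ?_⟩
  · rw [← cancel_mono C.ι, Category.assoc, IsOpenImmersion.lift_fac, huw, hu]
  · rw [IsOpenImmersion.lift_fac_assoc, pullback.lift_fst]
  · rw [IsOpenImmersion.lift_fac_assoc, pullback.lift_snd]

end Groth.Agent.S15997
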