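import Groth.Statements.S15999
import Groth.Agent.EtHull16.Initial2

set_option autoImplicit false
open CategoryTheory AlgebraicGeometry
universe u
open EtHull

namespace Groth.Agent.S15999

/-- Let S be a Noetherian scheme and a : X → S flat, surjective and of finite presentation. Let c : P →
S be étale, quasi-compact and quasi-separated and ϖ : X → P a morphism over S which is initial among
S-morphisms from X to étale finitely presented S-schemes: for every étale quasi-compact
quasi-separated E → S, every S-morphism X → E factors uniquely through ϖ. Then ϖ is initial among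
S-morphisms from X to all formally unramified S-schemes: for every formally unramified Y → S, every
S-morphism X → Y factors uniquely through ϖ. (The source allows algebraic spaces and phrases the
hypothesis as the existence of an initial object, for instance the space of connected components of
X over S; schemes here.) -/
theorem result {X P S : Scheme.{u}} [IsNoetherian S]
    (a : X ⟶ S) [Flat a] [Surjective a] [LocallyOfFinitePresentation a] [QuasiCompact a]
    [QuasiSeparated a] (c : P ⟶ S) [Etale c] [QuasiCompact c] [QuasiSeparated c]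
    (ϖ : X ⟶ P) (hϖ : ϖ ≫ c = a)
    (hinit : ∀ (E : Scheme.{u}) (e : E ⟶ S), Etale e → QuasiCompact e → QuasiSeparated e →
      ∀ k : X ⟶ E, k ≫ e = a → ∃! l : P ⟶ E, ϖ ≫ l = k ∧ l ≫ e = c)
    (Y : Scheme.{u}) (b : Y ⟶ S) [FormallyUnramified b] (k : X ⟶ Y) (hk : k ≫ b = a) :
    ∃! l : P ⟶ Y, ϖ ≫ l = k ∧ l ≫ b = c := by
  haveI : IsLocallyNoetherian P := LocallyOfFiniteType.isLocallyNoetherian c
  haveI : CompactSpace P := QuasiCompact.compactSpace_of_compactSpace c
  haveI : IsNoetherian P := {}
  haveI : Flat ϖ := Groth.Agent.EtHull16.flat_of_comp_etale ϖ c a hϖ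
  haveI : LocallyOfFinitePresentation ϖ := Groth.Agent.EtHull16.lfp_of_comp_etale ϖ c a hϖ
  haveI : Surjective ϖ := Groth.Agent.EtHull16.surjective_of_initial a c ϖ hϖ hinit
  haveI : QuasiCompact (ϖ ≫ c) := by rw [hϖ]; infer_instance
  haveI : QuasiCompact ϖ := QuasiCompact.of_comp ϖ c
  obtain ⟨E, u, m, he, hq, hq', hf, hs, hp, -, -, hm, hl, hmq, hum⟩ :=
    Groth.Agent.EtHull16.exists_etale_mono_factor a b k hk
  obtain ⟨l₀, ⟨h₁, h₂⟩, -⟩ := hinit E (m ≫ b) he hq hq' u (by rw [reassoc_of% hum, hk])
  refine ⟨l₀ ≫ m, ⟨by rw [reassoc_of% h₁, hum], by rw [Category.assoc, h₂]⟩, fun l hl => ?_⟩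
  rw [← cancel_epi ϖ, hl.1, reassoc_of% h₁, hum]

end Groth.Agent.S15999
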