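import Groth.Statements.S16000
import Groth.Agent.FrobW.PerfTower
import Groth.Agent.FrobW.ProjPi

set_option autoImplicit false
universe u
open FrobAlg

namespace Groth.Agent.S16000

open TensorProduct in
/-- Let p be a prime, R a commutative ring of characteristic p such that R is a projective R-module
through its absolute Frobenius, and A a commutative R-algebra of characteristic p, with Frobenius
twists A^{p^i/R} = R ⊗_{F^i,R} A, relative Frobenius maps A^{p^{i+1}/R} → A^{p^i/R} and
preperfection A^{p^∞/R} = lim_i A^{p^i/R} ⊆ Π_i A^{p^i/R}. Let R' be the direct-limit perfection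
colim(R → R → ⋯) of R along Frobenius, an R-module through the canonical map R → R'. Then the
natural map R' ⊗_R A^{p^∞/R} → Π_i (R' ⊗_R A^{p^i/R}), r ⊗ x ↦ (r ⊗ x_i)_i, is injective; in
particular the base-change map R' ⊗_R lim_i A^{p^i/R} → lim_i (R' ⊗_R A^{p^i/R}) is injective. (The
published statement identifies the target limit with the preperfection of A ⊗_R R' over R'; that
identification is not part of this row.) -/
theorem result
    (p : ℕ) [Fact p.Prime] (R : Type u) [CommRing R] [CharP R p]
    (A : Type u) [CommRing A] [Algebra R A] [CharP A p]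
    [Module.Projective R (FrobAlg.Twist p R)] :
    letI : Algebra R (PerfectClosure R p) := (PerfectClosure.of R p).toAlgebra
    Function.Injective
      (LinearMap.pi fun i : ℕ =>
        LinearMap.lTensor (PerfectClosure R p)
          (((Pi.evalAlgHom R (fun k => W4c1imperftorsors.Twist p R A k) i).comp
            (W4c1imperftorsors.prePerf p R A).val).toLinearMap) :
        PerfectClosure R p ⊗[R] ↥(W4c1imperftorsors.prePerf p R A) →ₗ[R]
          (Π i : ℕ, PerfectClosure R p ⊗[R] W4c1imperftorsors.Twist p R A i)) := by
  letI : Algebra R (PerfectClosure R p) := (PerfectClosure.of R p).toAlgebra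
  have h : algebraMap R (PerfectClosure R p) = PerfectClosure.of R p := rfl
  let φ : ∀ i, ↥(W4c1imperftorsors.prePerf p R A) →ₗ[R] W4c1imperftorsors.Twist p R A i := fun i =>
    ((Pi.evalAlgHom R (fun k => W4c1imperftorsors.Twist p R A k) i).comp
      (W4c1imperftorsors.prePerf p R A).val).toLinearMap
  change Function.Injective (LinearMap.pi fun i => LinearMap.lTensor (PerfectClosure R p) (φ i))
  have hφ : Function.Injective (LinearMap.pi φ) := fun x y hxy => Subtype.ext hxy
  rw [injective_iff_map_eq_zero]
  intro t ht
  obtain ⟨n, s, rfl⟩ := Groth.Agent.FrobW.PerfTower.exists_rTensor_eq p R h _ t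
  suffices s = 0 by rw [this, map_zero]
  apply Groth.Agent.FrobW.ProjPi.injective_pi_lTensor (M := Groth.Agent.FrobW.PerfTower.Rt p n R) φ hφ
  rw [map_zero]
  funext i
  apply Groth.Agent.FrobW.PerfTower.rTensor_injective p R h (W4c1imperftorsors.Twist p R A i) n
  rw [LinearMap.pi_apply, Pi.zero_apply, map_zero, ← LinearMap.comp_apply, LinearMap.rTensor_comp_lTensor,
    ← LinearMap.lTensor_comp_rTensor, LinearMap.comp_apply]
  exact congrFun ht i

end Groth.Agent.S16000
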