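import Groth.Statements.S16001


set_option autoImplicit false
universe u
open FrobAlg

namespace Groth.Agent.S16001

/-- Let A be a commutative ring of prime characteristic p and B a commutative A-algebra of
characteristic p such that the relative Frobenius B ⊗_{A,Frob} A → B, b ⊗ a ↦ b^p a, is bijective
(that is, Spec B → Spec A is relatively perfect; no finiteness condition is imposed). Then B is
formally étale over A. (The source proves that every perfect algebraic stack over an algebraic space
of characteristic p is formally étale over it; this is the case of an affine scheme over an affine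
base.) -/
theorem result (p : ℕ) [Fact p.Prime] (A : Type u) [CommRing A] [CharP A p]
    (B : Type u) [CommRing B] [Algebra A B] [CharP B p]
    (h : Function.Bijective (FrobAlg.relFrob p A B)) : Algebra.FormallyEtale A B := by
  letI := (FrobAlg.relFrob p A B).toAlgebra
  have hp := (Fact.out : p.Prime)
  have hrel : ∀ (b : B) (a : A), FrobAlg.relFrob p A B (b ⊗ₜ[A] FrobAlg.toTwist p A a) = b ^ p * algebraMap A B a :=
    fun b a => rfl
  rw [Algebra.FormallyEtale.iff_comp_bijective]
  intro C _ _ I hI
  have hp0 : (p : C) = 0 := by rw [← map_natCast (algebraMap A C), CharP.cast_eq_zero, map_zero]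
  have hpowI : ∀ u v : C, u - v ∈ I → u ^ p = v ^ p := fun u v h => by
    have h2 : (u - v) ^ p = 0 := by
      have : (u - v) ^ 2 = 0 := by rw [← Ideal.mem_bot, ← hI]; exact Ideal.pow_mem_pow h 2
      exact pow_eq_zero_of_le hp.two_le this
    conv_lhs => rw [← sub_add_cancel u v]
    rw [add_pow_prime_eq hp, h2, hp0]
    simp
  refine ⟨fun f g hfg => ?_, fun f => ?_⟩
  · refine AlgHom.ext fun y => ?_
    obtain ⟨z, rfl⟩ := h.surjective y
    induction z using TensorProduct.induction_on with
    | zero => simp
    | tmul b c =>
      obtain ⟨a, rfl⟩ := (FrobAlg.toTwist p A).surjective c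
      rw [hrel, map_mul, map_mul, map_pow, map_pow, AlgHom.commutes, AlgHom.commutes,
        hpowI (f b) (g b) (Ideal.Quotient.eq.1 (DFunLike.congr_fun hfg b : _))]
    | add x y hx hy => simp only [map_add, hx, hy]
  · choose s hs using Ideal.Quotient.mk_surjective (I := I)
    have hwd : ∀ (y : B) (u : C), Ideal.Quotient.mk I u = f y → s (f y) ^ p = u ^ p := fun y u hu =>
      hpowI _ _ (Ideal.Quotient.eq.1 (by rw [hs, hu]))
    let T := FrobAlg.Target p A C
    letI : Algebra A T := ((FrobAlg.toTarget p A C : C →+* FrobAlg.Target p A C).comp ((algebraMap A C).comp (frobenius A p))).toAlgebra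
    let g₁ : B →ₐ[A] T :=
      { toFun := fun b => FrobAlg.toTarget p A C (s (f b) ^ p)
        map_one' := by rw [hwd 1 1 (by simp), one_pow, map_one]
        map_mul' := fun x y => by rw [hwd (x * y) (s (f x) * s (f y)) (by simp [hs]), mul_pow, map_mul]
        map_zero' := by rw [hwd 0 0 (by simp), zero_pow hp.ne_zero, map_zero]
        map_add' := fun x y => by
          rw [hwd (x + y) (s (f x) + s (f y)) (by simp [hs]), add_pow_prime_eq hp, hp0]
          simp
        commutes' := fun a => by
          rw [hwd (algebraMap A B a) (algebraMap A C a) (by rw [AlgHom.commutes]; rfl)]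
          change FrobAlg.toTarget p A C (algebraMap A C a ^ p) = FrobAlg.toTarget p A C (algebraMap A C (frobenius A p a))
          exact congrArg _ (map_pow (algebraMap A C) a p).symm }
    let g₂ : FrobAlg.Twist p A →ₐ[A] T :=
      { toRingHom := (FrobAlg.toTarget p A C : C →+* FrobAlg.Target p A C).comp ((algebraMap A C).comp ((FrobAlg.toTwist p A).symm : FrobAlg.Twist p A →+* A))
        commutes' := fun a => by
          change FrobAlg.toTarget p A C (algebraMap A C ((FrobAlg.toTwist p A).symm (FrobAlg.toTwist p A (a ^ p)))) = _
          rw [RingEquiv.symm_apply_apply]; rfl }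
    let G : FrobAlg.BaseChange p A B →+* C := ((FrobAlg.toTarget p A C).symm : FrobAlg.Target p A C →+* C).comp
      (Algebra.TensorProduct.lift g₁ g₂ (fun _ _ => Commute.all _ _)).toRingHom
    let E := RingEquiv.ofBijective (FrobAlg.relFrob p A B) h
    have hG : ∀ b a, G (b ⊗ₜ[A] FrobAlg.toTwist p A a) = s (f b) ^ p * algebraMap A C a := fun b a => rfl
    refine ⟨{ toRingHom := G.comp (E.symm : B →+* FrobAlg.BaseChange p A B), commutes' := fun a => ?_ }, ?_⟩
    · have he : E.symm (algebraMap A B a) = (1 : B) ⊗ₜ[A] FrobAlg.toTwist p A a := by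
        rw [RingEquiv.symm_apply_eq]
        exact ((hrel 1 a).trans (by rw [one_pow, one_mul])).symm
      change G (E.symm (algebraMap A B a)) = _
      rw [he, hG, hwd 1 1 (by simp), one_pow, one_mul]
    · refine AlgHom.ext fun y => ?_
      obtain ⟨z, rfl⟩ := h.surjective y
      change Ideal.Quotient.mk I (G (E.symm (E z))) = _
      rw [RingEquiv.symm_apply_apply]
      induction z using TensorProduct.induction_on with
      | zero => simp
      | tmul b c =>
        obtain ⟨a, rfl⟩ := (FrobAlg.toTwist p A).surjective c
        rw [hG, hrel, map_mul, map_pow, hs, map_mul, map_pow, AlgHom.commutes]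
        rfl
      | add x y hx hy => simp only [map_add, hx, hy]

end Groth.Agent.S16001
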