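import Groth.Statements.S16002
import Groth.Agent.VBHom27.Pair

set_option autoImplicit false
open CategoryTheory AlgebraicGeometry CategoryTheory.Limits
open VBCurve

namespace Groth.Agent.S16002

/-- Let X be a smooth proper integral curve over the complex numbers and (L_i)_{i ∈ ι} a family of
invertible O_X-modules. A tuple is a finite locally free O_X-module E of rank r ≥ 1 with maps φ_i :
E → E ⊗ L_i; a submodule j : G → E (a monomorphism) is invariant when for every i some χ : G → G ⊗
L_i followed by j ⊗ L_i equals j followed by φ_i; the tuple is semistable when deg G · r ≤ deg E · n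
for every invariant finite locally free submodule G of rank n ≥ 1, degrees being χ − rank · χ(O_X).
If (E, φ) and (F, ψ) are semistable tuples of ranks r ≥ 1 and s ≥ 1 over the same family (L_i) and f
: E → F is a nonzero module map with f followed by ψ_i equal to φ_i followed by f ⊗ L_i for every i,
then the slope of E is at most that of F: deg E · s ≤ deg F · r. (The published lemma has finitely
many pairwise commuting twisting maps and morphisms compatible up to one nonzero scalar; the
commutation is not used, the index set is arbitrary here, and the scalar case reduces to this one by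
rescaling the ψ_i.) -/
theorem result
    (X : Scheme.{0}) [X.Over (Spec (CommRingCat.of ℂ))] [IsIntegral X]
    [IsProper (X ↘ Spec (CommRingCat.of ℂ))] [Smooth (X ↘ Spec (CommRingCat.of ℂ))]
    (hdim : topologicalKrullDim X = 1)
    (ι : Type) (L : ι → X.Modules) (hL : ∀ i, PicF.IsInvertible (L i))
    (r s : ℕ) (hr : 0 < r) (hs : 0 < s)
    (E F : X.Modules) (hE : FlatMod.IsFinLocFreeOfRank r E) (hF : FlatMod.IsFinLocFreeOfRank s F)
    (φ : ∀ i, E ⟶ CohB1.tensorMod E (L i)) (ψ : ∀ i, F ⟶ CohB1.tensorMod F (L i))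
    (hEss : (∀ (G : X.Modules) (n : ℕ) (j : G ⟶ E), Mono j → 0 < n → FlatMod.IsFinLocFreeOfRank n G →
      (∀ i, ∃ χ : G ⟶ CohB1.tensorMod G (L i), χ ≫ (CohB1.sheafifyMod X).map (MonoidalCategoryStruct.whiskerRight (C := CohB1.PMod X) j.val (CohB1.toPMod (L i))) = j ≫ φ i) →
      Curv2.deg ℂ X G n * (r : ℤ) ≤ Curv2.deg ℂ X E r * (n : ℤ)))
    (hFss : (∀ (G : X.Modules) (n : ℕ) (j : G ⟶ F), Mono j → 0 < n → FlatMod.IsFinLocFreeOfRank n G →
      (∀ i, ∃ χ : G ⟶ CohB1.tensorMod G (L i), χ ≫ (CohB1.sheafifyMod X).map (MonoidalCategoryStruct.whiskerRight (C := CohB1.PMod X) j.val (CohB1.toPMod (L i))) = j ≫ ψ i) →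
      Curv2.deg ℂ X G n * (s : ℤ) ≤ Curv2.deg ℂ X F s * (n : ℤ)))
    (f : E ⟶ F) (hf : ∀ i, f ≫ ψ i = φ i ≫ (CohB1.sheafifyMod X).map (MonoidalCategoryStruct.whiskerRight (C := CohB1.PMod X) f.val (CohB1.toPMod (L i)))) (hne : f ≠ 0) :
    Curv2.deg ℂ X E r * (s : ℤ) ≤ Curv2.deg ℂ X F s * (r : ℤ) := by
  have hX : VBLib.GoodCurve ℂ X := VBLib.goodCurve_of_smooth hdim
  haveI := hX.isLocallyNoetherian
  have hEf := VBLib.isFinLocFree_of_ofRank hE
  have hFf := VBLib.isFinLocFree_of_ofRank hF
  have hEc := VBLib.isCoh_of_ofRank hE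
  have hFc := VBLib.isCoh_of_ofRank hF
  have hK := VBLib.isFinLocFree_kernel hX.pid f hEf hFc
  have hI := VBLib.isFinLocFree_image hX.pid f hEc hFf
  obtain ⟨d, rd⟩ := hX.dg_kernel_image f hEc hFc
  rw [VBLib.rk_eq hE] at rd
  have hIpos : 0 < VBLib.rk (Abelian.image f) :=
    Nat.pos_of_ne_zero fun h => hne (VBLib.eq_zero_of_rk_image f hI h)
  have h1 := hFss _ _ (Abelian.image.ι f) inferInstance hIpos (VBLib.ofRank_rk hI) fun i => by
    haveI := VBHom27.isEquivalence_tw (hL i)
    exact VBHom27.exists_image_restrict (F := VBHom27.tw (L i)) (a := φ i) (b := ψ i) f (hf i)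
  rw [VBLib.dg_eq (VBLib.ofRank_rk hI), VBLib.dg_eq hF] at h1
  rw [VBLib.dg_eq hE, VBLib.dg_eq hF]
  have h2 : VBLib.dg ℂ E * (VBLib.rk (Abelian.image f) : ℤ) ≤ VBLib.dg ℂ (Abelian.image f) * (r : ℤ) := by
    rcases Nat.eq_zero_or_pos (VBLib.rk (kernel f)) with h0 | hpos
    · have hz := hX.dg_eq_zero_of_isZero (VBLib.isCoh_of_isFinLocFree hK) (VBLib.isZero_of_rk_eq_zero hK h0)
      rw [d, hz, zero_add, show r = VBLib.rk (Abelian.image f) by omega]
    · have := hEss _ _ (kernel.ι f) inferInstance hpos (VBLib.ofRank_rk hK) fun i => by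
        haveI := VBHom27.isEquivalence_tw (hL i)
        exact VBHom27.exists_kernel_restrict (F := VBHom27.tw (L i)) (a := φ i) (b := ψ i) f (hf i)
      rw [VBLib.dg_eq (VBLib.ofRank_rk hK), VBLib.dg_eq hE, d] at this
      rw [d]
      have hr' : (r : ℤ) = VBLib.rk (kernel f) + VBLib.rk (Abelian.image f) := by exact_mod_cast rd
      rw [hr'] at this ⊢
      linarith
  have h3 := mul_le_mul_of_nonneg_right h2 (Int.natCast_nonneg s)
  have h4 := mul_le_mul_of_nonneg_right h1 (Int.natCast_nonneg r)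
  exact le_of_mul_le_mul_right (show _ ≤ _ by linarith) (show (0 : ℤ) < VBLib.rk (Abelian.image f) by exact_mod_cast hIpos)

end Groth.Agent.S16002
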