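import Groth.Statements.S16003
import Groth.Agent.VBHom27.Pair

set_option autoImplicit false
open CategoryTheory AlgebraicGeometry CategoryTheory.Limits
open VBCurve

namespace Groth.Agent.S16003

/-- Let X be a smooth proper integral curve over the complex numbers and L an invertible O_X-module; an
L-valued pair is a finite locally free O_X-module E of rank r ≥ 1 with a map φ : E → E ⊗ L; a
submodule j : G → E (a monomorphism) is φ-invariant when some χ : G → G ⊗ L followed by j ⊗ L equals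
j followed by φ; the pair is semistable when deg G · r ≤ deg E · n for every φ-invariant finite
locally free submodule G of rank n ≥ 1, degrees being χ − rank · χ(O_X). If (E, φ) is a semistable
pair and φ is not zero, then L has non-negative degree. (The published statement is for tuples of
finitely many commuting twisting maps; this is the assertion for the one map φ.) -/
theorem result
    (X : Scheme.{0}) [X.Over (Spec (CommRingCat.of ℂ))] [IsIntegral X]
    [IsProper (X ↘ Spec (CommRingCat.of ℂ))] [Smooth (X ↘ Spec (CommRingCat.of ℂ))]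
    (hdim : topologicalKrullDim X = 1)
    (L : X.Modules) (hL : PicF.IsInvertible L)
    (r : ℕ) (hr : 0 < r) (E : X.Modules) (hE : FlatMod.IsFinLocFreeOfRank r E)
    (φ : E ⟶ CohB1.tensorMod E L)
    (hss : (∀ (G : X.Modules) (n : ℕ) (j : G ⟶ E) (χ : G ⟶ CohB1.tensorMod G L), Mono j → 0 < n →
      FlatMod.IsFinLocFreeOfRank n G →
      χ ≫ (CohB1.sheafifyMod X).map (MonoidalCategoryStruct.whiskerRight (C := CohB1.PMod X) j.val (CohB1.toPMod L)) = j ≫ φ →
      Curv2.deg ℂ X G n * (r : ℤ) ≤ Curv2.deg ℂ X E r * (n : ℤ)))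
    (hφ : φ ≠ 0) :
    0 ≤ Curv2.deg ℂ X L 1 := by
  have hX : VBLib.GoodCurve ℂ X := VBLib.goodCurve_of_smooth hdim
  haveI := hX.isLocallyNoetherian
  haveI := VBHom27.isEquivalence_tw hL
  have hEf := VBLib.isFinLocFree_of_ofRank hE
  have hEc := VBLib.isCoh_of_ofRank hE
  obtain ⟨hT, -, -⟩ := VBHom27.dg_tw hX hL hEf
  have hTc := VBLib.isCoh_of_isFinLocFree hT
  let φ' : E ⟶ (VBHom27.tw L).obj E := φ
  have hK := VBLib.isFinLocFree_kernel hX.pid φ' hEf hTc
  have hI := VBLib.isFinLocFree_image hX.pid φ' hEc hT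
  obtain ⟨d, rd⟩ := hX.dg_kernel_image φ' hEc hTc
  rw [VBLib.rk_eq hE] at rd
  have hIpos : 0 < VBLib.rk (Abelian.image φ') :=
    Nat.pos_of_ne_zero fun h => hφ (VBLib.eq_zero_of_rk_image φ' hI h)
  rw [VBLib.dg_eq (VBLib.ofRank_one_of_invertible hL)]
  -- the untwisted image
  let G := (VBHom27.tw L).objPreimage (Abelian.image φ')
  let u : (VBHom27.tw L).obj G ≅ Abelian.image φ' := (VBHom27.tw L).objObjPreimageIso _
  let j : G ⟶ E := (VBHom27.tw L).preimage (u.hom ≫ Abelian.image.ι φ')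
  have hj : (VBHom27.tw L).map j = u.hom ≫ Abelian.image.ι φ' := Functor.map_preimage _ _
  haveI : Mono j := (VBHom27.tw L).mono_of_mono_map (by rw [hj]; exact mono_comp _ _)
  have hGq : G.IsQuasicoherent := by
    obtain ⟨N, hN, ⟨e⟩⟩ := PicLaw.exists_inverse hL
    let e' : (VBHom27.tw N).obj ((VBHom27.tw L).obj G) ≅ G :=
      ProjTwist.tensAssoc G L N ≪≫ ProjTwist.tensCongr (Iso.refl G) e ≪≫ ProjTwist.tensOne G
    exact VBLib.isQuasicoherent_of_iso ((VBHom27.tw N).mapIso u.symm ≪≫ e')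
      (VBLib.isCoh_of_isFinLocFree (VBHom27.dg_tw hX hN hI).1).1
  have hG : FlatMod.IsFinLocFree G := hX.sub j hGq hEf
  obtain ⟨hGT, hGr, hGd⟩ := VBHom27.dg_tw hX hL hG
  obtain ⟨ed, er⟩ := hX.dg_iso u (VBLib.isCoh_of_isFinLocFree hGT) (VBLib.isCoh_of_isFinLocFree hI)
  rw [hGr] at er
  rw [hGd, er] at ed
  have h1 := hss G _ j (j ≫ Abelian.factorThruImage φ' ≫ u.inv) inferInstance (er ▸ hIpos)
    (VBLib.ofRank_rk hG) (by
      show (j ≫ Abelian.factorThruImage φ' ≫ u.inv) ≫ (VBHom27.tw L).map j = j ≫ φ'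
      rw [hj, Category.assoc, Category.assoc, Iso.inv_hom_id_assoc, Abelian.image.fac])
  rw [VBLib.dg_eq (VBLib.ofRank_rk hG), VBLib.dg_eq hE, er] at h1
  have h2 : VBLib.dg ℂ E * (VBLib.rk (Abelian.image φ') : ℤ) ≤ VBLib.dg ℂ (Abelian.image φ') * (r : ℤ) := by
    rcases Nat.eq_zero_or_pos (VBLib.rk (kernel φ')) with h0 | hpos
    · have hz := hX.dg_eq_zero_of_isZero (VBLib.isCoh_of_isFinLocFree hK) (VBLib.isZero_of_rk_eq_zero hK h0)
      rw [d, hz, zero_add, show r = VBLib.rk (Abelian.image φ') by omega]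
    · have := hss _ _ (kernel.ι φ') 0 inferInstance hpos (VBLib.ofRank_rk hK)
        (zero_comp.trans (kernel.condition φ').symm)
      rw [VBLib.dg_eq (VBLib.ofRank_rk hK), VBLib.dg_eq hE, d] at this
      rw [d]
      have hr' : (r : ℤ) = VBLib.rk (kernel φ') + VBLib.rk (Abelian.image φ') := by exact_mod_cast rd
      rw [hr'] at this ⊢
      linarith
  rw [← ed, add_mul] at h2
  have h3 : 0 ≤ (VBLib.rk (Abelian.image φ') : ℤ) * VBLib.dg ℂ L * (r : ℤ) := by linarith
  exact nonneg_of_mul_nonneg_right (nonneg_of_mul_nonneg_left h3 (by exact_mod_cast hr))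
    (by exact_mod_cast hIpos)

end Groth.Agent.S16003
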