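import Groth.Statements.S16004
import Groth.Agent.VBHom27.Pair

set_option autoImplicit false
open CategoryTheory AlgebraicGeometry CategoryTheory.Limits
open VBCurve

namespace Groth.Agent.S16004

/-- Let X be a smooth proper integral curve over the complex numbers and L an invertible O_X-module of
degree 0; an L-valued pair is a finite locally free O_X-module E of rank r ≥ 1 with a map φ : E → E
⊗ L; a submodule j : G → E (a monomorphism) is φ-invariant when some χ : G → G ⊗ L followed by j ⊗ L
equals j followed by φ; the pair is semistable when deg G · r ≤ deg E · n for every φ-invariant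
finite locally free submodule G of rank n ≥ 1, degrees being χ − rank · χ(O_X). If (E, φ) is a
semistable pair then E is slope-semistable as a module of rank r: deg G · r ≤ deg E · n for every
finite locally free submodule G of rank n ≥ 1, invariant or not. (The published statement deletes
one degree-zero twisting map from a tuple of finitely many commuting ones; this is the case of a
single map.) -/
theorem result
    (X : Scheme.{0}) [X.Over (Spec (CommRingCat.of ℂ))] [IsIntegral X]
    [IsProper (X ↘ Spec (CommRingCat.of ℂ))] [Smooth (X ↘ Spec (CommRingCat.of ℂ))]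
    (hdim : topologicalKrullDim X = 1)
    (L : X.Modules) (hL : PicF.IsInvertible L) (hL0 : Curv2.deg ℂ X L 1 = 0)
    (r : ℕ) (hr : 0 < r) (E : X.Modules) (hE : FlatMod.IsFinLocFreeOfRank r E)
    (φ : E ⟶ CohB1.tensorMod E L)
    (hss : (∀ (G : X.Modules) (n : ℕ) (j : G ⟶ E) (χ : G ⟶ CohB1.tensorMod G L), Mono j → 0 < n →
      FlatMod.IsFinLocFreeOfRank n G →
      χ ≫ (CohB1.sheafifyMod X).map (MonoidalCategoryStruct.whiskerRight (C := CohB1.PMod X) j.val (CohB1.toPMod L)) = j ≫ φ →
      Curv2.deg ℂ X G n * (r : ℤ) ≤ Curv2.deg ℂ X E r * (n : ℤ))) :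
    ∀ (G : X.Modules) (n : ℕ) (j : G ⟶ E), Mono j → 0 < n → FlatMod.IsFinLocFreeOfRank n G →
      Curv2.deg ℂ X G n * (r : ℤ) ≤ Curv2.deg ℂ X E r * (n : ℤ) := by
  have hX : VBLib.GoodCurve ℂ X := VBLib.goodCurve_of_smooth hdim
  haveI := hX.isLocallyNoetherian
  haveI := VBHom27.isEquivalence_tw hL
  have hEf := VBLib.isFinLocFree_of_ofRank hE
  have hEr := VBLib.rk_eq hE
  rw [VBLib.dg_eq (VBLib.ofRank_one_of_invertible hL)] at hL0
  obtain ⟨E₁, i, hi, hE₁, hpos, hQ, hss₁, hmax, hquot⟩ := VBHom27.exists_destab hX hEf (hEr ▸ hr)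
  -- the maximal destabilising subbundle is invariant
  have h0 : i ≫ φ ≫ (VBHom27.tw L).map (cokernel.π i) = 0 := by
    refine hX.hom_eq_zero hE₁ (VBHom27.dg_tw hX hL hQ).1 hss₁ (fun G j hj hG hGpos => ?_) _
    haveI := hj
    obtain ⟨G', j', hj', hG', hr', hd'⟩ :=
      VBHom27.exists_sub_twist hX hL hG (j ≫ (ProjTwist.tensComm (cokernel i) L).hom)
    have h := hquot G' j' hj' hG' (hr'.symm ▸ hGpos)
    rw [hd', hr', hL0, mul_zero, sub_zero] at h
    exact h
  haveI := hi
  obtain ⟨χ, hχ⟩ := KernelFork.IsLimit.lift' (KernelFork.mapIsLimit _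
    (Abelian.monoIsKernelOfCokernel _ (cokernelIsCokernel i)) (VBHom27.tw L)) (i ≫ φ) (by
      exact (Category.assoc _ _ _).trans h0)
  have h1 := hss E₁ _ i χ hi hpos (VBLib.ofRank_rk hE₁) hχ
  rw [VBLib.dg_eq (VBLib.ofRank_rk hE₁)] at h1
  intro G n j hj hn hG
  rw [VBLib.dg_eq hG]
  have h2 := hmax G j hj (VBLib.isFinLocFree_of_ofRank hG) (VBLib.rk_eq hG ▸ hn)
  rw [VBLib.rk_eq hG] at h2
  have h3 := mul_le_mul_of_nonneg_right h2 (Int.natCast_nonneg r)
  have h4 := mul_le_mul_of_nonneg_right h1 (Int.natCast_nonneg n)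
  exact le_of_mul_le_mul_right (show _ ≤ _ by linarith) (show (0 : ℤ) < VBLib.rk E₁ by exact_mod_cast hpos)

end Groth.Agent.S16004
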