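import Groth.Statements.S16005
import Groth.Agent.VBHom27.Pair

set_option autoImplicit false
open CategoryTheory AlgebraicGeometry CategoryTheory.Limits
open VBCurve

namespace Groth.Agent.S16005

set_option maxHeartbeats 1000000 in
/-- Let X be a smooth proper integral curve over the complex numbers and L an invertible O_X-module; an
L-valued pair is a finite locally free O_X-module E of rank r ≥ 1 with a map φ : E → E ⊗ L; a
submodule j : G → E (a monomorphism) is φ-invariant when some χ : G → G ⊗ L followed by j ⊗ L equals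
j followed by φ; the pair is semistable when deg G · r ≤ deg E · n for every φ-invariant finite
locally free submodule G of rank n ≥ 1, degrees being χ − rank · χ(O_X). Let (E, φ) be a pair and ψ
: E → E an endomorphism commuting with φ (ψ followed by φ equals φ followed by ψ ⊗ L); a submodule
is ψ-invariant when ψ restricts to an endomorphism of it. Then (E, φ, ψ) is semistable, meaning deg
G · r ≤ deg E · n for every finite locally free submodule G of rank n ≥ 1 that is both φ-invariant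
and ψ-invariant, if and only if the pair (E, φ) is semistable. (The published statement takes L to
be the canonical sheaf; the row allows any invertible L.) -/
theorem result
    (X : Scheme.{0}) [X.Over (Spec (CommRingCat.of ℂ))] [IsIntegral X]
    [IsProper (X ↘ Spec (CommRingCat.of ℂ))] [Smooth (X ↘ Spec (CommRingCat.of ℂ))]
    (hdim : topologicalKrullDim X = 1)
    (L : X.Modules) (hL : PicF.IsInvertible L)
    (r : ℕ) (hr : 0 < r) (E : X.Modules) (hE : FlatMod.IsFinLocFreeOfRank r E)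
    (φ : E ⟶ CohB1.tensorMod E L) (ψ : E ⟶ E)
    (hcomm : ψ ≫ φ = φ ≫ (CohB1.sheafifyMod X).map (MonoidalCategoryStruct.whiskerRight (C := CohB1.PMod X) ψ.val (CohB1.toPMod L))) :
    (∀ (G : X.Modules) (n : ℕ) (j : G ⟶ E) (χ : G ⟶ CohB1.tensorMod G L) (ψ' : G ⟶ G), Mono j → 0 < n →
      FlatMod.IsFinLocFreeOfRank n G →
      χ ≫ (CohB1.sheafifyMod X).map (MonoidalCategoryStruct.whiskerRight (C := CohB1.PMod X) j.val (CohB1.toPMod L)) = j ≫ φ → ψ' ≫ j = j ≫ ψ →
      Curv2.deg ℂ X G n * (r : ℤ) ≤ Curv2.deg ℂ X E r * (n : ℤ)) ↔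
    (∀ (G : X.Modules) (n : ℕ) (j : G ⟶ E) (χ : G ⟶ CohB1.tensorMod G L), Mono j → 0 < n →
      FlatMod.IsFinLocFreeOfRank n G →
      χ ≫ (CohB1.sheafifyMod X).map (MonoidalCategoryStruct.whiskerRight (C := CohB1.PMod X) j.val (CohB1.toPMod L)) = j ≫ φ →
      Curv2.deg ℂ X G n * (r : ℤ) ≤ Curv2.deg ℂ X E r * (n : ℤ)) := by
  refine ⟨fun h => ?_, fun h G n j χ ψ' hj hn hG hχ _ => h G n j χ hj hn hG hχ⟩
  have hX : VBLib.GoodCurve ℂ X := VBLib.goodCurve_of_smooth hdim
  haveI := hX.isLocallyNoetherian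
  haveI := VBHom27.isEquivalence_tw hL
  let W := VBHom27.tw L
  have hEf := VBLib.isFinLocFree_of_ofRank hE
  have hEc := VBLib.isCoh_of_ofRank hE
  have hEr := VBLib.rk_eq hE
  obtain ⟨E₁, i, hi, hE₁, hpos, ⟨χ₁, hχ₁⟩, hmax⟩ := VBHom27.exists_max_slope_pred hX hEf (hEr ▸ hr)
    (fun G j => ∃ χ : G ⟶ W.obj G, χ ≫ W.map j = j ≫ φ) ⟨φ, by simp⟩
  haveI := hi
  have hE₁c := VBLib.isCoh_of_isFinLocFree hE₁
  -- `ψ` preserves it
  obtain ⟨c, hc⟩ := VBHom27.exists_cokernel_desc (F := W) i hχ₁.symm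
  let f : E₁ ⟶ cokernel i := i ≫ ψ ≫ cokernel.π i
  let φW : E ⟶ W.obj E := φ
  have hcomm' : ψ ≫ φW = φW ≫ W.map ψ := hcomm
  have hc' : cokernel.π i ≫ c = φW ≫ W.map (cokernel.π i) := hc
  have hχ₁' : χ₁ ≫ W.map i = i ≫ φW := hχ₁
  have hf : f ≫ c = χ₁ ≫ W.map f := by
    simp only [f, Category.assoc, Functor.map_comp]
    rw [hc', reassoc_of% hcomm', reassoc_of% hχ₁']
  obtain ⟨χI, hχI⟩ := VBHom27.exists_image_restrict (F := W) f hf
  obtain ⟨c₂, hc₂⟩ := VBHom27.exists_cokernel_desc (F := W) (Abelian.image.ι f) hχI.symm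
  let q := cokernel.π i ≫ cokernel.π (Abelian.image.ι f)
  have hq : q ≫ c₂ = φW ≫ W.map q := by
    simp only [q, Category.assoc, Functor.map_comp]
    rw [hc₂, reassoc_of% hc']
  have hP := VBHom27.exists_kernel_restrict (F := W) q hq
  obtain ⟨χK, hχK⟩ := VBHom27.exists_kernel_restrict (F := W) f hf
  have hQc := VBLib.isCoh_cokernel i hE₁c hEc
  have hIc := VBLib.isCoh_image f hE₁c hQc
  have hCc := VBLib.isCoh_cokernel (Abelian.image.ι f) hIc hQc
  have hPf := VBLib.isFinLocFree_kernel hX.pid q hEf hCc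
  have hKf := VBLib.isFinLocFree_kernel hX.pid f hE₁ hQc
  obtain ⟨d1, r1⟩ := hX.dg_mono_cokernel i hE₁c hEc
  obtain ⟨d2, r2⟩ := hX.dg_mono_cokernel (Abelian.image.ι f) hIc hQc
  obtain ⟨d3, r3⟩ := hX.dg_kernel_image f hE₁c hQc
  let T := ShortComplex.mk (kernel.ι q) q (kernel.condition q)
  haveI : Epi q := epi_comp _ _
  have hT : T.ShortExact := { exact := T.exact_of_f_is_kernel (kernelIsKernel q) }
  have d4 := hX.dg_add hT (VBLib.isCoh_of_isFinLocFree hPf) hEc hCc
  have r4 := VBLib.rk_add hT hEc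
  simp only [T] at d4 r4
  have hPr : VBLib.rk (kernel q) = VBLib.rk E₁ + VBLib.rk (Abelian.image f) := by omega
  have hPd : VBLib.dg ℂ (kernel q) = VBLib.dg ℂ E₁ + VBLib.dg ℂ (Abelian.image f) := by omega
  obtain ⟨m1, m2⟩ := hmax _ (kernel.ι q) inferInstance hPf (by omega) hP
  rw [hPr, hPd] at m1 m2
  push_cast at m1 m2
  have hK : VBLib.dg ℂ (kernel f) * (VBLib.rk E₁ : ℤ) ≤ VBLib.dg ℂ E₁ * (VBLib.rk (kernel f) : ℤ) := by
    rcases Nat.eq_zero_or_pos (VBLib.rk (kernel f)) with h0 | hKpos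
    · rw [hX.dg_eq_zero_of_isZero (VBLib.isCoh_of_isFinLocFree hKf) (VBLib.isZero_of_rk_eq_zero hKf h0), h0]
      simp
    · exact (hmax _ (kernel.ι f ≫ i) (mono_comp _ _) hKf hKpos ⟨χK, by
        rw [W.map_comp, ← Category.assoc, hχK, Category.assoc, hχ₁, Category.assoc]; rfl⟩).1
  rw [d3, r3] at hK m1 m2
  push_cast at hK m1 m2
  have hle := m2 (by linarith)
  have hI0 : VBLib.rk (Abelian.image f) = 0 := by omega
  rw [hI0] at hK m1
  push_cast at hK m1
  have hdI : VBLib.dg ℂ (Abelian.image f) = 0 := by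
    have h5 : (0 : ℤ) < VBLib.rk (kernel f) := by exact_mod_cast (by omega : 0 < VBLib.rk (kernel f))
    have h6 : VBLib.dg ℂ (Abelian.image f) * (VBLib.rk (kernel f) : ℤ) ≤ 0 := by linarith only [m1]
    exact le_antisymm (nonpos_of_mul_nonpos_left h6 h5) (hX.dg_torsion hIc hI0).1
  have hf0 : f = 0 := by
    rw [← Abelian.image.fac f, ((hX.dg_torsion hIc hI0).2 hdI).eq_of_tgt (Abelian.factorThruImage f) 0, zero_comp]
  let ψ' := Abelian.monoLift i (i ≫ ψ) (by rw [Category.assoc]; exact hf0)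
  have h1 := h E₁ _ i χ₁ ψ' hi hpos (VBLib.ofRank_rk hE₁) hχ₁ (Abelian.monoLift_comp _ _ _)
  rw [VBLib.dg_eq (VBLib.ofRank_rk hE₁)] at h1
  intro G n j χ hj hn hG hχ
  rw [VBLib.dg_eq hG]
  have h2 := (hmax G j hj (VBLib.isFinLocFree_of_ofRank hG) (VBLib.rk_eq hG ▸ hn) ⟨χ, hχ⟩).1
  rw [VBLib.rk_eq hG] at h2
  have h3 := mul_le_mul_of_nonneg_right h2 (Int.natCast_nonneg r)
  have h4 := mul_le_mul_of_nonneg_right h1 (Int.natCast_nonneg n)
  exact le_of_mul_le_mul_right (show _ ≤ _ by linarith) (show (0 : ℤ) < VBLib.rk E₁ by exact_mod_cast hpos)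

end Groth.Agent.S16005
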