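import Groth.Statements.S16006
import Groth.Agent.VBHom27.Pair
import Groth.Agent.VBLib.Deg
import Groth.Agent.VBLib.LineCalc
import Groth.Agent.ProjTwist.Tensor
import Groth.Agent.AmpCrit.AffineHom
import Groth.Agent.EulerChar.Deg

set_option autoImplicit false
open CategoryTheory AlgebraicGeometry CategoryTheory.Limits
open VBCurve
open Groth.Agent Groth.Agent.VBLib

namespace Groth.Agent.S16006

set_option maxHeartbeats 1000000 in
theorem square_trivial {X : Scheme.{0}} {Q L : X.Modules} (hQ : PicF.IsInvertible Q)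
    (e₀ : Q ≅ (VBHom27.tw L).obj ((VBHom27.tw L).obj Q)) :
    Nonempty (CohB1.tensorMod L L ≅ Coh.structureModule X) := by
  obtain ⟨-, ⟨eD⟩⟩ := DualDeg.invertible_dual hQ
  have e : Q ≅ CohB1.tensorMod (CohB1.tensorMod Q L) L := e₀
  let D := RefHull.dual Q
  let e3 : CohB1.tensorMod D (CohB1.tensorMod Q (CohB1.tensorMod L L)) ≅ CohB1.tensorMod D Q :=
    ProjTwist.tensCongr (Iso.refl D) (ProjTwist.tensAssoc _ _ _).symm ≪≫
      ProjTwist.tensCongr (Iso.refl D) e.symm
  exact ⟨(ProjTwist.oneTens _).symm ≪≫ ProjTwist.tensCongr (eD.symm ≪≫ ProjTwist.tensComm _ _) (Iso.refl _) ≪≫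
    ProjTwist.tensAssoc _ _ _ ≪≫ e3 ≪≫ ProjTwist.tensComm _ _ ≪≫ eD⟩

theorem split_invariant {X : Scheme.{0}} {T : X.Modules ⥤ X.Modules} [T.IsEquivalence] {S E Q : X.Modules}
    (i : S ⟶ E) (π : E ⟶ Q) (s : Q ⟶ E) (r : E ⟶ S) (htot : r ≫ i + π ≫ s = 𝟙 E) (φ : E ⟶ T.obj E)
    (h : s ≫ φ ≫ T.map r = 0) [T.Additive] : (s ≫ φ ≫ T.map π) ≫ T.map s = s ≫ φ := by
  calc (s ≫ φ ≫ T.map π) ≫ T.map s = (s ≫ φ ≫ T.map π) ≫ T.map s + (s ≫ φ ≫ T.map r) ≫ T.map i := by
        rw [h, zero_comp, add_zero]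
    _ = s ≫ φ ≫ T.map (r ≫ i + π ≫ s) := by simp [add_comm]
    _ = s ≫ φ := by rw [htot]; simp

theorem lift_invariant {X : Scheme.{0}} {T : X.Modules ⥤ X.Modules} [T.IsEquivalence] {S E : X.Modules}
    (i : S ⟶ E) [Mono i] (φ : E ⟶ T.obj E) (h : i ≫ φ ≫ T.map (cokernel.π i) = 0) :
    ∃ χ : S ⟶ T.obj S, χ ≫ T.map i = i ≫ φ := by
  let K := ShortComplex.mk i (cokernel.π i) (cokernel.condition i)
  have hK : K.Exact := K.exact_of_g_is_cokernel (cokernelIsCokernel i)
  haveI : Mono K.f := inferInstanceAs (Mono i)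
  obtain ⟨χ, hχ⟩ := KernelFork.IsLimit.lift' (KernelFork.mapIsLimit _ hK.fIsKernel T) (i ≫ φ)
    (by rw [Category.assoc]; exact h)
  exact ⟨χ, hχ⟩

theorem exists_retraction {X : Scheme.{0}} {S E : X.Modules} (i : S ⟶ E) [Mono i]
    (s : cokernel i ⟶ E) (hs : s ≫ cokernel.π i = 𝟙 _) :
    ∃ r : E ⟶ S, r ≫ i + cokernel.π i ≫ s = 𝟙 E := by
  refine ⟨Abelian.monoLift i (𝟙 E - cokernel.π i ≫ s) ?_, ?_⟩
  · rw [Preadditive.sub_comp, Category.id_comp, Category.assoc, hs, Category.comp_id, sub_self]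
  · rw [Abelian.monoLift_comp, sub_add_cancel]

/-- Let X be a smooth proper integral curve of genus 1 over the complex numbers (genus = dim H¹(O_X))
and L an invertible O_X-module of degree 0 such that L ⊗ L is not isomorphic to O_X; an L-valued
pair is a finite locally free O_X-module E of rank r ≥ 1 with a map φ : E → E ⊗ L; a submodule j : G
→ E (a monomorphism) is φ-invariant when some χ : G → G ⊗ L followed by j ⊗ L equals j followed by
φ; the pair is semistable when deg G · r ≤ deg E · n for every φ-invariant finite locally free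
submodule G of rank n ≥ 1, degrees being χ − rank · χ(O_X), and it is stable when deg G · r < deg E
· n for every φ-invariant finite locally free submodule G of rank n with 1 ≤ n < r. If (E, φ) is a
stable pair of rank 2, then E is slope-stable as a module of rank 2: deg G · 2 < deg E · n for every
finite locally free submodule G of rank n with 1 ≤ n < 2, φ-invariant or not. (The published
statement assumes only that L is not isomorphic to O_X. For L of order two and E = O_X ⊕ L, the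
isomorphism φ : E → E ⊗ L = (O_X ⊗ L) ⊕ (L ⊗ L) that maps the summand O_X of E onto the summand L ⊗
L ≅ O_X and the summand L onto O_X ⊗ L ≅ L leaves no rank-one submodule of degree 0 invariant, so
(E, φ) is a stable pair while E is not stable; the published argument derives L ⊗ L ≅ O_X in the
split case, so the row assumes L ⊗ L ≄ O_X.) -/
theorem result
    (X : Scheme.{0}) [X.Over (Spec (CommRingCat.of ℂ))] [IsIntegral X]
    [IsProper (X ↘ Spec (CommRingCat.of ℂ))] [Smooth (X ↘ Spec (CommRingCat.of ℂ))]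
    (hdim : topologicalKrullDim X = 1)
    (hg : Curv2.genus ℂ X = 1)
    (L : X.Modules) (hL : PicF.IsInvertible L) (hL0 : Curv2.deg ℂ X L 1 = 0)
    (hL2 : ¬ Nonempty (CohB1.tensorMod L L ≅ Coh.structureModule X))
    (E : X.Modules) (hE : FlatMod.IsFinLocFreeOfRank 2 E)
    (φ : E ⟶ CohB1.tensorMod E L)
    (hst : (∀ (G : X.Modules) (n : ℕ) (j : G ⟶ E) (χ : G ⟶ CohB1.tensorMod G L), Mono j → 0 < n → n < 2 →
      FlatMod.IsFinLocFreeOfRank n G →
      χ ≫ (CohB1.sheafifyMod X).map (MonoidalCategoryStruct.whiskerRight (C := CohB1.PMod X) j.val (CohB1.toPMod L)) = j ≫ φ →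
      Curv2.deg ℂ X G n * (2 : ℤ) < Curv2.deg ℂ X E 2 * (n : ℤ))) :
    ∀ (G : X.Modules) (n : ℕ) (j : G ⟶ E), Mono j → 0 < n → n < 2 → FlatMod.IsFinLocFreeOfRank n G →
      Curv2.deg ℂ X G n * (2 : ℤ) < Curv2.deg ℂ X E 2 * (n : ℤ) := by
  intro G n j hj hn hn2 hG
  obtain rfl : n = 1 := by omega
  have hX : GoodCurve ℂ X := goodCurve_of_smooth hdim
  haveI := hX.isLocallyNoetherian
  haveI := VBHom27.isEquivalence_tw hL
  haveI := hj
  let T := VBHom27.tw L
  let φT : E ⟶ T.obj E := φ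
  haveI : T.Additive := KFlat.additive_tensorBi_flip L
  have hst' : ∀ (A : X.Modules) (a : A ⟶ E) (χ : A ⟶ T.obj A), Mono a → FlatMod.IsFinLocFree A → rk A = 1 →
      χ ≫ T.map a = a ≫ φT → dg ℂ A * 2 < dg ℂ E := fun A a χ ha hA h1 hχ => by
    have h := hst A 1 a χ ha one_pos one_lt_two (h1 ▸ ofRank_rk hA) hχ
    rw [dg_eq (h1 ▸ ofRank_rk hA), dg_eq hE, Nat.cast_one, mul_one] at h
    exact h
  rw [dg_eq hG, dg_eq hE, Nat.cast_one, mul_one]
  by_contra! hcon
  have hEf := isFinLocFree_of_ofRank hE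
  have hEc := isCoh_of_isFinLocFree hEf
  obtain ⟨S, u, i, -, -, hi, hS, hQ, hSr, hSd⟩ :=
    hX.exists_saturation j (isCoh_of_ofRank hG) hEf
  haveI := hi
  rw [rk_eq hG] at hSr
  have hSc := isCoh_of_isFinLocFree hS
  obtain ⟨hd, hr⟩ := hX.dg_mono_cokernel i hSc hEc
  rw [rk_eq hE] at hr
  have hQr : rk (cokernel i) = 1 := by omega
  let π := cokernel.π i
  have hL1 := ofRank_one_of_invertible hL
  have hLd : dg ℂ L = 0 := by rw [← dg_eq hL1]; exact hL0
  obtain ⟨hTQ, hTQr, hTQd⟩ := VBHom27.dg_tw hX hL hQ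
  rw [hQr] at hTQr hTQd
  rw [hLd] at hTQd
  by_cases hg0 : i ≫ φT ≫ T.map π = 0
  · obtain ⟨χ, hχ⟩ := lift_invariant i φT hg0
    have := hst' S i χ hi hS hSr hχ
    omega
  obtain ⟨-, hle, hiso⟩ := hX.line_hom hS hTQ hSr hTQr _ hg0
  have hTQd' : dg ℂ (T.obj (cokernel i)) = dg ℂ (cokernel i) := by rw [hTQd]; ring
  haveI := hiso (by omega)
  let eST : S ≅ T.obj (cokernel i) := asIso (i ≫ φT ≫ T.map π)
  -- the extension splits
  have hH : Subsingleton (Coh.HH X (RefHull.homSh (cokernel i) S) 1) := by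
    obtain ⟨c⟩ := VBHom27.nonempty_cmp_iso (G := S) hQ
    obtain ⟨hD, ⟨eD⟩⟩ := DualDeg.invertible_dual (LineCalc.isInvertible_of_rk_one hQ hQr)
    have e : RefHull.homSh (cokernel i) S ≅ L :=
      c.symm ≪≫ ProjTwist.tensCongr (Iso.refl _) eST ≪≫ (ProjTwist.tensAssoc _ (cokernel i) L).symm ≪≫
        ProjTwist.tensCongr (ProjTwist.tensComm _ _ ≪≫ eD) (Iso.refl L) ≪≫ ProjTwist.oneTens L
    have hLc := isCoh_of_ofRank hL1
    haveI := hX.proper
    haveI := hLc.1
    haveI := CurveCoh.finite_HH_zero (k := ℂ) L hX.val hX.dim hLc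
    haveI : Subsingleton (Coh.HH X L 0) := by
      by_contra hns
      haveI := not_subsingleton_iff_nontrivial.1 hns
      obtain ⟨eO⟩ := hX.iso_structure_of_section hL hLd inferInstance
      exact hL2 ⟨ProjTwist.tensCongr eO.symm eO.symm ≪≫ ProjTwist.oneTens _⟩
    haveI hL1' : Subsingleton (Coh.HH X L 1) := by
      have hrr := hX.riemannRoch bijective_toGlobal_of_isAlgClosed hLc
      rw [rk_eq hL1, hLd, hg, Module.finrank_zero_of_subsingleton (R := ℂ) (M := Coh.HH X L 0)] at hrr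
      push_cast at hrr
      haveI := EulerChar.finite_HH ℂ L hLc 1
      exact Module.finrank_zero_iff.1 (by omega : Module.finrank ℂ (Coh.HH X L 1) = 0)
    exact AmpCrit.subsingleton_HH_of_iso e.symm 1
  have hsplit : IsSplitEpi π := VBHom27.isSplitEpi_of_h1 ℂ
    (S := ShortComplex.mk i (cokernel.π i) (cokernel.condition i))
    { exact := ShortComplex.exact_of_g_is_cokernel _ (cokernelIsCokernel i) } hQ hH
  obtain ⟨⟨⟨s, hs⟩⟩⟩ := hsplit
  obtain ⟨r, hr'⟩ := exists_retraction i s hs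
  obtain ⟨hTS, hTSr, hTSd⟩ := VBHom27.dg_tw hX hL hS
  rw [hSr] at hTSr hTSd
  rw [hLd] at hTSd
  have hh : s ≫ φT ≫ T.map r = 0 := by
    by_contra hne
    obtain ⟨-, -, hiso2⟩ := hX.line_hom hQ hTS hQr hTSr _ hne
    haveI := hiso2 (by rw [hTSd]; omega)
    exact hL2 (square_trivial (LineCalc.isInvertible_of_rk_one hQ hQr)
      (asIso (s ≫ φT ≫ T.map r) ≪≫ T.mapIso eST))
  haveI : IsSplitMono s := ⟨⟨π, hs⟩⟩
  have := hst' (cokernel i) s _ inferInstance hQ hQr (split_invariant i π s r hr' φT hh)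
  omega

end Groth.Agent.S16006
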