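import Groth.Statements.S16008
import Groth.Agent.VBHom27.Canon
import Groth.Agent.VBLib.Slope

set_option autoImplicit false
open CategoryTheory AlgebraicGeometry CategoryTheory.Limits
open VBCurve

namespace Groth.Agent.S16008

/-- Let X be a smooth proper integral curve over the complex numbers, of genus g = dim H¹(O_X), E a
finite locally free O_X-module of rank r ≥ 1 and C an integer such that every finite locally free
submodule G of E of rank n ≥ 1 satisfies deg G · r ≤ (deg E + r·C) · n, that is, μ(G) ≤ μ(E) + C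
(degrees being χ − rank · χ(O_X)). Then H¹(X, E ⊗ N) vanishes for every invertible module N with deg
E + r · deg N > r(r − 1)·C + r(2g − 2), that is, whenever μ(E) + deg N > (r − 1)C + 2g − 2. (Only
the degree of the twisting line bundle enters, so any invertible N replaces the twist O_X(m). The
published argument, written for the twists E(m) by a degree-one polarisation, prints the threshold
as m ≥ μ(E) + (r − 1)C + 2g − 1; for E = O(−1) on the projective line and m = −2 that threshold is
met while H¹(O(−3)) ≠ 0. The degree count in the argument gives the threshold −μ(E) + (r − 1)C + 2g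
− 2 < m stated here.) -/
theorem result
    (X : Scheme.{0}) [X.Over (Spec (CommRingCat.of ℂ))] [IsIntegral X]
    [IsProper (X ↘ Spec (CommRingCat.of ℂ))] [Smooth (X ↘ Spec (CommRingCat.of ℂ))]
    (hdim : topologicalKrullDim X = 1)
    (r : ℕ) (hr : 0 < r) (E : X.Modules) (hE : FlatMod.IsFinLocFreeOfRank r E) (C : ℤ)
    (hC : ∀ (G : X.Modules) (n : ℕ) (j : G ⟶ E), Mono j → 0 < n → FlatMod.IsFinLocFreeOfRank n G →
      Curv2.deg ℂ X G n * (r : ℤ) ≤ (Curv2.deg ℂ X E r + (r : ℤ) * C) * (n : ℤ))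
    (N : X.Modules) (hN : PicF.IsInvertible N)
    (hbig : (r : ℤ) * ((r : ℤ) - 1) * C + (r : ℤ) * (2 * (Curv2.genus ℂ X : ℤ) - 2) <
      Curv2.deg ℂ X E r + (r : ℤ) * Curv2.deg ℂ X N 1) :
    Subsingleton (Coh.HH X (CohB1.tensorMod E N) 1) := by
  have hX : VBLib.GoodCurve ℂ X := VBLib.goodCurve_of_smooth hdim
  haveI := hX.isLocallyNoetherian
  have hω := VBHom27.dualizing_omega ℂ (X := X) hdim
  have hEr := VBLib.rk_eq hE
  have hEf := VBLib.isFinLocFree_of_ofRank hE
  have hNr := VBLib.ofRank_one_of_invertible hN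
  have hNf := VBLib.isFinLocFree_of_ofRank hNr
  have hT : FlatMod.IsFinLocFree (CohB1.tensorMod E N) := (VBHom27.rk_tens hEf hNf).1
  have hTr : VBLib.rk (CohB1.tensorMod E N) = VBLib.rk E * VBLib.rk N := (VBHom27.rk_tens hEf hNf).2
  rw [hEr, VBLib.rk_eq hNr, mul_one] at hTr
  have hTd : VBLib.dg ℂ (CohB1.tensorMod E N) =
      VBLib.rk E * VBLib.dg ℂ N + VBLib.rk N * VBLib.dg ℂ E := VBHom27.dg_tens hX hEf hNf
  rw [hEr, VBLib.rk_eq hNr] at hTd
  rw [VBLib.dg_eq hE, VBLib.dg_eq hNr] at hbig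
  simp only [VBLib.dg_eq hE] at hC
  push_cast at hTd
  refine VBHom27.h1_subsingleton_of_slope hX hω hT
    (a := VBLib.dg ℂ E + r * C + r * VBLib.dg ℂ N) (hTr.symm ▸ hr) (fun G i hi hG hpos _ => ?_) ?_
  · haveI := hi
    obtain ⟨G', j, hj, hG', hr', hd'⟩ :=
      VBHom27.exists_sub_twist hX hN hG (i ≫ (ProjTwist.tensComm E N).hom)
    have h := hC G' _ j hj (hr'.symm ▸ hpos) (VBLib.ofRank_rk hG')
    rw [VBLib.dg_eq (VBLib.ofRank_rk hG'), hd', hr'] at h
    show VBLib.dg ℂ G * (VBLib.rk (CohB1.tensorMod E N) : ℤ) ≤ _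
    rw [hTr]
    linarith
  · rw [hTd, hTr]
    linarith

end Groth.Agent.S16008
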