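import Groth.Statements.S1601
import Mathlib

set_option autoImplicit false
universe u
open Resolve

namespace Groth.Agent.S1601

section
open MvPolynomial
open scoped TensorProduct

variable {κ : Type u} [Field κ]

/-- the affine linear form with coefficient vector `v` -/
noncomputable def lin (v : Fin 3 → κ) : MvPolynomial (Fin 2) κ := C (v 0) + C (v 1) * X 0 + C (v 2) * X 1

theorem small_of_const (I : Ideal (MvPolynomial (Fin 2) κ)) (c : Fin 2 → κ) (hc : ∀ i, X i - C (c i) ∈ I) :
    Module.Finite κ (MvPolynomial (Fin 2) κ ⧸ I) ∧ Module.finrank κ (MvPolynomial (Fin 2) κ ⧸ I) ≤ 1 := by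
  have h : ∀ p : MvPolynomial (Fin 2) κ, ∃ r : κ, p - C r ∈ I := by
    intro p
    refine ⟨eval c p, ?_⟩
    induction p using MvPolynomial.induction_on with
    | C a => simp
    | add p q hp hq => rw [map_add, map_add, add_sub_add_comm]; exact add_mem hp hq
    | mul_X p i hp =>
      rw [map_mul, eval_X, map_mul,
        show p * X i - C (eval c p) * C (c i) = (p - C (eval c p)) * X i + C (eval c p) * (X i - C (c i)) by ring]
      exact add_mem (Ideal.mul_mem_right _ _ hp) (Ideal.mul_mem_left _ _ (hc i))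
  have hs : Function.Surjective (Algebra.linearMap κ (MvPolynomial (Fin 2) κ ⧸ I)) := fun z => by
    obtain ⟨p, rfl⟩ := Ideal.Quotient.mk_surjective z
    obtain ⟨r, hr⟩ := h p
    exact ⟨r, (Ideal.Quotient.eq.2 hr).symm⟩
  refine ⟨Module.Finite.of_surjective _ hs, ?_⟩
  haveI := Module.Finite.of_surjective _ hs
  exact (LinearMap.finrank_le_finrank_of_surjective hs).trans_eq (Module.finrank_self κ)

theorem minors_eq {I : Ideal (MvPolynomial (Fin 2) κ)}
    (hI : ¬ (Module.Finite κ (MvPolynomial (Fin 2) κ ⧸ I) ∧ Module.finrank κ (MvPolynomial (Fin 2) κ ⧸ I) ≤ 1))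
    {v w : Fin 3 → κ} (hv : lin v ∈ I) (hw : lin w ∈ I) (i j : Fin 3) : v i * w j = v j * w i := by
  have htop : I ≠ ⊤ := fun h => hI (small_of_const I 0 fun i => by rw [h]; trivial)
  have hC : ∀ r : κ, C r ∈ I → r = 0 := fun r hr => by
    by_contra h
    exact htop (Ideal.eq_top_of_isUnit_mem _ hr ((isUnit_iff_ne_zero.2 h).map (C (σ := Fin 2))))
  have e12 : v 1 * w 2 = v 2 * w 1 := by
    by_contra h
    have hm : v 1 * w 2 - v 2 * w 1 ≠ 0 := sub_ne_zero.2 h
    set m := v 1 * w 2 - v 2 * w 1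
    refine hI (small_of_const I ![-(v 0 * w 2 - v 2 * w 0) / m, -(v 1 * w 0 - v 0 * w 1) / m] fun i => ?_)
    have key : ∀ (t : κ) (Y : MvPolynomial (Fin 2) κ), C t + C m * Y ∈ I → Y - C (-t / m) ∈ I := by
      intro t Y hY
      have := Ideal.mul_mem_left _ (C m⁻¹) hY
      rw [mul_add, ← mul_assoc, ← map_mul, ← map_mul, inv_mul_cancel₀ hm, map_one, one_mul, add_comm] at this
      convert this using 1
      rw [sub_eq_add_neg, ← map_neg, show -(-t / m) = m⁻¹ * t by field_simp]
    fin_cases i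
    · refine key _ (X 0) ?_
      have := sub_mem (Ideal.mul_mem_left _ (C (w 2)) hv) (Ideal.mul_mem_left _ (C (v 2)) hw)
      convert this using 1
      simp only [lin, m, map_sub, map_mul]; ring
    · refine key _ (X 1) ?_
      have := sub_mem (Ideal.mul_mem_left _ (C (v 1)) hw) (Ideal.mul_mem_left _ (C (w 1)) hv)
      convert this using 1
      simp only [lin, m, map_sub, map_mul]; ring
  have e01 : v 0 * w 1 = v 1 * w 0 := by
    refine sub_eq_zero.1 (hC _ ?_)
    have := sub_mem (Ideal.mul_mem_left _ (C (w 1)) hv) (Ideal.mul_mem_left _ (C (v 1)) hw)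
    convert this using 1
    simp only [lin, map_sub, map_mul]
    linear_combination X 1 * (by rw [← map_mul, ← map_mul, e12] : (C (v 1) * C (w 2) : MvPolynomial (Fin 2) κ) = C (v 2) * C (w 1))
  have e02 : v 0 * w 2 = v 2 * w 0 := by
    refine sub_eq_zero.1 (hC _ ?_)
    have := sub_mem (Ideal.mul_mem_left _ (C (w 2)) hv) (Ideal.mul_mem_left _ (C (v 2)) hw)
    convert this using 1
    simp only [lin, map_sub, map_mul]
    linear_combination -X 0 * (by rw [← map_mul, ← map_mul, e12] : (C (v 1) * C (w 2) : MvPolynomial (Fin 2) κ) = C (v 2) * C (w 1))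
  fin_cases i <;> fin_cases j <;> simp_all <;> linear_combination (norm := ring_nf) (0 : κ)

theorem deriv_mem {R : Type u} [CommRing R] [Algebra κ R] (D : Derivation κ R R) {I : Ideal R} {x : R} (hx : x ∈ I ^ 2) :
    D x ∈ I := by
  rw [pow_two] at hx
  refine Submodule.mul_induction_on hx (fun p hp q hq => ?_) (fun p q hp hq => by rw [map_add]; exact add_mem hp hq)
  rw [D.leibniz]
  exact add_mem (Ideal.mul_mem_right _ _ hp) (Ideal.mul_mem_right _ _ hq)

theorem root_mem {R S : Type*} [CommRing R] [IsDomain R] [CommRing S] [IsDomain S] [IsPrincipalIdealRing S]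
    (π : R →+* S) (hπ : Function.Surjective π) (l : R) (hker : RingHom.ker π = Ideal.span {l}) (hl : l ≠ 0)
    (J : Ideal R) (h : l ^ 2 ∈ J ^ 2) : l ∈ J := by
  have hlJ : l ^ 2 ∈ J := Ideal.pow_le_self two_ne_zero h
  obtain ⟨γ, hγ⟩ : ∃ γ, J.map π = Ideal.span {γ} :=
    ⟨_, (Ideal.span_singleton_generator (J.map π)).symm⟩
  obtain ⟨g, u0, hgu, hgπ⟩ : ∃ g u0 : R, g + l * u0 ∈ J ∧ (π g = γ ∧ (γ = 0 → g = 0 ∧ u0 = 0)) := by
    by_cases hγ0 : γ = 0
    · exact ⟨0, 0, by simp, by simp [hγ0], fun _ => ⟨rfl, rfl⟩⟩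
    obtain ⟨j, hj, hjπ⟩ := (Ideal.mem_map_iff_of_surjective π hπ).1 (hγ ▸ Ideal.mem_span_singleton_self γ)
    exact ⟨j, 0, by simpa using hj, hjπ, fun h => absurd h hγ0⟩
  obtain ⟨hgπ, hg0⟩ := hgπ
  have hforms : ∀ c ∈ J, ∃ s t, c = l * s + g * t ∧ l * (s - t * u0) ∈ J := by
    intro c hc
    obtain ⟨τ, hτ⟩ := Ideal.mem_span_singleton.1 (hγ ▸ Ideal.mem_map_of_mem π hc)
    obtain ⟨t, rfl⟩ := hπ τ
    have : c - g * t ∈ Ideal.span {l} := by
      rw [← hker, RingHom.mem_ker, map_sub, map_mul, hgπ, hτ, sub_self]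
    obtain ⟨s, hs⟩ := Ideal.mem_span_singleton.1 this
    refine ⟨s, t, by linear_combination hs, ?_⟩
    convert sub_mem hc (Ideal.mul_mem_left _ t hgu) using 1
    linear_combination -hs
  have hsq : ∀ x ∈ J ^ 2, ∃ A B E, x = l ^ 2 * A + l * g * B + g ^ 2 * E ∧ l * (A - u0 ^ 2 * E) ∈ J := by
    intro x hx
    rw [pow_two] at hx
    refine Submodule.mul_induction_on hx (fun p hp q hq => ?_) (fun p q hp hq => ?_)
    · obtain ⟨s, t, rfl, hst⟩ := hforms p hp
      obtain ⟨s', t', rfl, hst'⟩ := hforms q hq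
      refine ⟨s * s', s * t' + t * s', t * t', by ring, ?_⟩
      convert add_mem (Ideal.mul_mem_right s' _ hst) (Ideal.mul_mem_left _ (t * u0) hst') using 1
      ring
    · obtain ⟨A, B, E, rfl, h1⟩ := hp
      obtain ⟨A', B', E', rfl, h2⟩ := hq
      refine ⟨A + A', B + B', E + E', by ring, ?_⟩
      convert add_mem h1 h2 using 1
      ring
  obtain ⟨A, B, E, hA, hAJ⟩ := hsq _ h
  by_cases hγ0 : γ = 0
  · obtain ⟨rfl, rfl⟩ := hg0 hγ0
    have : A = 1 := mul_left_cancel₀ (pow_ne_zero 2 hl) (by linear_combination -hA)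
    simpa [this] using hAJ
  have hπl : π l = 0 := by rw [← RingHom.mem_ker, hker]; exact Ideal.mem_span_singleton_self l
  have hE : π E = 0 := by
    have h1 := congrArg π hA
    simpa [hπl, hgπ, hγ0] using h1
  obtain ⟨E', rfl⟩ := Ideal.mem_span_singleton.1 (show E ∈ Ideal.span {l} by rw [← hker]; exact hE)
  have h2 : l = l * A + g * B + g ^ 2 * E' := mul_left_cancel₀ hl (by linear_combination hA)
  have hB : π (B + g * E') = 0 := by
    have h1 := congrArg π h2
    simp [hπl, hgπ] at h1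
    rw [map_add, map_mul, hgπ]
    refine (mul_eq_zero.1 (show γ * (π B + γ * π E') = 0 by linear_combination -h1)).resolve_left hγ0
  obtain ⟨G, hG⟩ := Ideal.mem_span_singleton.1 (show B + g * E' ∈ Ideal.span {l} by rw [← hker]; exact hB)
  have h3 : (1 : R) = A + g * G := mul_left_cancel₀ hl (by linear_combination h2 + g * hG)
  have hlg : l * g ∈ J := by
    convert sub_mem (Ideal.mul_mem_left _ l hgu) (Ideal.mul_mem_left _ u0 hlJ) using 1
    ring
  have : l = l * (A - u0 ^ 2 * (l * E')) + G * (l * g) + u0 ^ 2 * E' * l ^ 2 := by linear_combination l * h3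
  rw [this]
  exact add_mem (add_mem hAJ (Ideal.mul_mem_left _ _ hlg)) (Ideal.mul_mem_left _ _ hlJ)

theorem lin_root_mem {K : Type*} [Field K] (J : Ideal (MvPolynomial (Fin 2) K)) (i j : Fin 2) (hij : i ≠ j)
    (a di dj : K) (hdi : di ≠ 0)
    (h : (C a + C di * X i + C dj * X j) ^ 2 ∈ J ^ 2) : C a + C di * X i + C dj * X j ∈ J := by
  set l : MvPolynomial (Fin 2) K := C a + C di * X i + C dj * X j with hl
  let π : MvPolynomial (Fin 2) K →ₐ[K] Polynomial K :=
    aeval fun s => if s = i then Polynomial.C (-di⁻¹) * (Polynomial.C a + Polynomial.C dj * Polynomial.X) else Polynomial.X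
  let σ : Polynomial K →ₐ[K] MvPolynomial (Fin 2) K := Polynomial.aeval (X j)
  have hdi' : C di⁻¹ * C di = (1 : MvPolynomial (Fin 2) K) := by rw [← map_mul, inv_mul_cancel₀ hdi, map_one]
  have hdi'' : Polynomial.C di * Polynomial.C (-di⁻¹) = (-1 : Polynomial K) := by
    rw [← map_mul, mul_neg, mul_inv_cancel₀ hdi, map_neg, map_one]
  have hπl : π l = 0 := by
    simp only [hl, π, map_add, map_mul, aeval_X, aeval_C, Polynomial.algebraMap_eq, if_pos, if_neg hij.symm]
    linear_combination (Polynomial.C a + Polynomial.C dj * Polynomial.X) * hdi''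
  have hπσ : π.comp σ = AlgHom.id K _ := Polynomial.algHom_ext (by simp [π, σ, hij.symm])
  refine root_mem π.toRingHom (fun p => ⟨σ p, DFunLike.congr_fun hπσ p⟩) l (le_antisymm ?_ ?_) ?_ J h
  · intro p hp
    have key : ∀ p, p - σ (π p) ∈ Ideal.span {l} := by
      intro p
      induction p using MvPolynomial.induction_on with
      | C r => simp [π, σ]
      | add p q hp hq => rw [map_add, map_add, add_sub_add_comm]; exact add_mem hp hq
      | mul_X p s hp =>
        rw [map_mul, map_mul, show p * X s - σ (π p) * σ (π (X s)) =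
          (p - σ (π p)) * X s + σ (π p) * (X s - σ (π (X s))) by ring]
        refine add_mem (Ideal.mul_mem_right _ _ hp) (Ideal.mul_mem_left _ _ ?_)
        by_cases hs : s = i
        · subst hs
          refine Ideal.mem_span_singleton.2 ⟨C di⁻¹, ?_⟩
          simp only [π, σ, aeval_X, if_pos, map_mul, map_add, map_neg, Polynomial.aeval_C, Polynomial.aeval_X,
            algebraMap_eq, hl]
          linear_combination -X s * hdi'
        · have : s = j := by fin_cases i <;> fin_cases j <;> fin_cases s <;> simp_all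
          subst this
          simp [π, σ, hij.symm]
    have := key p
    rwa [show π p = 0 from hp, map_zero, sub_zero] at this
  · rw [Ideal.span_le, Set.singleton_subset_iff]; exact hπl
  · intro e
    have := congrArg (MvPolynomial.coeff (Finsupp.single i 1)) e
    rw [hl] at this
    simp [coeff_X, coeff_C, hij, hij.symm, Finsupp.single_eq_single_iff, Finsupp.single_eq_zero, eq_comm] at this
    exact hdi this

end

/-- Let κ be a field and I an ideal of κ[x, y] whose colength is greater than one (the quotient is not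
of dimension at most one over κ). If a nonzero polynomial a + bx + cy + dx^2 + exy + fy^2 lies in
I^2, then it equals j (g + hx + iy)^2 for some scalars j, g, h, i. -/
theorem result (κ : Type u) [Field κ] (I : Ideal (MvPolynomial (Fin 2) κ))
    (hI : ¬ (Module.Finite κ (MvPolynomial (Fin 2) κ ⧸ I) ∧ Module.finrank κ (MvPolynomial (Fin 2) κ ⧸ I) ≤ 1))
    (a b c d e f : κ) (hne : (a, b, c, d, e, f) ≠ (0, 0, 0, 0, 0, 0))
    (hmem : (MvPolynomial.C a + MvPolynomial.C b * MvPolynomial.X 0 + MvPolynomial.C c * MvPolynomial.X 1 +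
      MvPolynomial.C d * MvPolynomial.X 0 ^ 2 + MvPolynomial.C e * MvPolynomial.X 0 * MvPolynomial.X 1 +
      MvPolynomial.C f * MvPolynomial.X 1 ^ 2 : MvPolynomial (Fin 2) κ) ∈ I ^ 2) :
    ∃ j g h i : κ, (MvPolynomial.C a + MvPolynomial.C b * MvPolynomial.X 0 + MvPolynomial.C c * MvPolynomial.X 1 +
      MvPolynomial.C d * MvPolynomial.X 0 ^ 2 + MvPolynomial.C e * MvPolynomial.X 0 * MvPolynomial.X 1 +
      MvPolynomial.C f * MvPolynomial.X 1 ^ 2 : MvPolynomial (Fin 2) κ) =
      MvPolynomial.C j * (MvPolynomial.C g + MvPolynomial.C h * MvPolynomial.X 0 + MvPolynomial.C i * MvPolynomial.X 1) ^ 2 := by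
  classical
  set q : MvPolynomial (Fin 2) κ := MvPolynomial.C a + MvPolynomial.C b * MvPolynomial.X 0 + MvPolynomial.C c * MvPolynomial.X 1 +
      MvPolynomial.C d * MvPolynomial.X 0 ^ 2 + MvPolynomial.C e * MvPolynomial.X 0 * MvPolynomial.X 1 +
      MvPolynomial.C f * MvPolynomial.X 1 ^ 2 with hq
  have hqI : q ∈ I := Ideal.pow_le_self two_ne_zero hmem
  have hv : lin ![b, 2 * d, e] ∈ I := by
    have := deriv_mem (κ := κ) (MvPolynomial.pderiv 0) hmem
    convert this using 1
    simp [q, lin, MvPolynomial.pderiv_X, map_mul, map_ofNat]; ring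
  have hw : lin ![c, e, 2 * f] ∈ I := by
    have := deriv_mem (κ := κ) (MvPolynomial.pderiv 1) hmem
    convert this using 1
    simp [q, lin, MvPolynomial.pderiv_X, map_mul, map_ofNat]; ring
  have hz : lin ![2 * a, b, c] ∈ I := by
    have := sub_mem (sub_mem (Ideal.mul_mem_left _ 2 hqI) (Ideal.mul_mem_left _ (MvPolynomial.X 0) hv))
      (Ideal.mul_mem_left _ (MvPolynomial.X 1) hw)
    convert this using 1
    simp [q, lin, map_mul, map_ofNat]; ring
  have hvw := minors_eq hI hv hw 1 2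
  have hzv := fun i j => minors_eq hI hz hv i j
  have hzw := fun i j => minors_eq hI hz hw i j
  simp at hvw
  have r1 : 2 * a * (2 * d) = b * b := by simpa using hzv 0 1
  have r2 : 2 * a * (2 * f) = c * c := by simpa using hzw 0 2
  have r3 : 2 * a * e = b * c := by simpa using hzw 0 1
  by_cases h2 : (2 : κ) ≠ 0
  · by_cases ha : a = 0
    · subst ha
      have hb : b = 0 := by simpa using r1.symm
      have hc : c = 0 := by simpa using r2.symm
      subst hb; subst hc
      by_cases hd : d = 0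
      · subst hd
        have he : e = 0 := by simpa using hvw.symm
        subst he
        exact ⟨f, 0, 0, 1, by simp [q]⟩
      · refine ⟨(4 * d)⁻¹, 0, 2 * d, e, ?_⟩
        have h4 : (4 * d) ≠ 0 := mul_ne_zero (by
          rw [show (4 : κ) = 2 * 2 by norm_num]; exact mul_ne_zero h2 h2) hd
        have c1 : d = (4 * d)⁻¹ * (2 * d) ^ 2 := by rw [eq_inv_mul_iff_mul_eq₀ h4]; ring
        have c2 : e = (4 * d)⁻¹ * (2 * (2 * d) * e) := by rw [eq_inv_mul_iff_mul_eq₀ h4]; ring
        have c3 : f = (4 * d)⁻¹ * e ^ 2 := by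
          rw [eq_inv_mul_iff_mul_eq₀ h4]; linear_combination hvw
        simp only [q, map_zero]
        have C1 := congrArg (MvPolynomial.C (σ := Fin 2)) c1
        have C2 := congrArg (MvPolynomial.C (σ := Fin 2)) c2
        have C3 := congrArg (MvPolynomial.C (σ := Fin 2)) c3
        simp only [map_mul, map_pow, map_ofNat] at C1 C2 C3 ⊢
        linear_combination MvPolynomial.X 0 ^ 2 * C1 + MvPolynomial.X 0 * MvPolynomial.X 1 * C2 + MvPolynomial.X 1 ^ 2 * C3
    · refine ⟨(4 * a)⁻¹, 2 * a, b, c, ?_⟩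
      have h4 : (4 * a) ≠ 0 := mul_ne_zero (by
        rw [show (4 : κ) = 2 * 2 by norm_num]; exact mul_ne_zero h2 h2) ha
      have c0 : a = (4 * a)⁻¹ * (2 * a) ^ 2 := by rw [eq_inv_mul_iff_mul_eq₀ h4]; ring
      have c1 : b = (4 * a)⁻¹ * (2 * (2 * a) * b) := by rw [eq_inv_mul_iff_mul_eq₀ h4]; ring
      have c2 : c = (4 * a)⁻¹ * (2 * (2 * a) * c) := by rw [eq_inv_mul_iff_mul_eq₀ h4]; ring
      have c3 : d = (4 * a)⁻¹ * b ^ 2 := by rw [eq_inv_mul_iff_mul_eq₀ h4]; linear_combination r1
      have c4 : e = (4 * a)⁻¹ * (2 * b * c) := by rw [eq_inv_mul_iff_mul_eq₀ h4]; linear_combination 2 * r3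
      have c5 : f = (4 * a)⁻¹ * c ^ 2 := by rw [eq_inv_mul_iff_mul_eq₀ h4]; linear_combination r2
      have C0 := congrArg (MvPolynomial.C (σ := Fin 2)) c0
      have C1 := congrArg (MvPolynomial.C (σ := Fin 2)) c1
      have C2 := congrArg (MvPolynomial.C (σ := Fin 2)) c2
      have C3 := congrArg (MvPolynomial.C (σ := Fin 2)) c3
      have C4 := congrArg (MvPolynomial.C (σ := Fin 2)) c4
      have C5 := congrArg (MvPolynomial.C (σ := Fin 2)) c5
      simp only [q, map_mul, map_pow, map_ofNat] at C0 C1 C2 C3 C4 C5 ⊢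
      linear_combination C0 + MvPolynomial.X 0 * C1 + MvPolynomial.X 1 * C2 + MvPolynomial.X 0 ^ 2 * C3 +
        MvPolynomial.X 0 * MvPolynomial.X 1 * C4 + MvPolynomial.X 1 ^ 2 * C5
  push Not at h2
  -- characteristic two
  have he : e = 0 := by simpa [h2] using hvw.symm
  subst he
  have htop : ∀ r : κ, MvPolynomial.C r ∈ I → r = 0 := fun r hr => by
    by_contra h
    refine hI (small_of_const I 0 fun i => ?_)
    rw [Ideal.eq_top_of_isUnit_mem _ hr ((isUnit_iff_ne_zero.2 h).map (MvPolynomial.C (σ := Fin 2)))]; trivial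
  have hb : b = 0 := htop b (by simpa [lin, h2] using hv)
  have hc : c = 0 := htop c (by simpa [lin, h2] using hw)
  subst hb; subst hc
  have hdf : d ≠ 0 ∨ f ≠ 0 := by
    by_contra h
    push Not at h
    obtain ⟨rfl, rfl⟩ := h
    exact hne (by rw [htop a (by simpa [q] using hqI)])
  let K := AlgebraicClosure κ
  let ι : κ →+* K := algebraMap κ K
  choose s hs using fun r : κ => IsAlgClosed.exists_pow_nat_eq (ι r) two_pos
  have h2K : (2 : K) = 0 := by rw [← map_ofNat ι 2, h2, map_zero]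
  have h2P : (2 : MvPolynomial (Fin 2) K) = 0 := by
    rw [← map_ofNat (MvPolynomial.C (σ := Fin 2)) 2, h2K, map_zero]
  let l : Fin 3 → K := ![s a, s d, s f]
  let μ : MvPolynomial (Fin 2) κ →+* MvPolynomial (Fin 2) K := MvPolynomial.map ι
  set L : MvPolynomial (Fin 2) K := MvPolynomial.C (l 0) + MvPolynomial.C (l 1) * MvPolynomial.X 0 +
    MvPolynomial.C (l 2) * MvPolynomial.X 1 with hL
  have hμq : μ q = L ^ 2 := by
    have A := congrArg (MvPolynomial.C (σ := Fin 2)) (hs a)
    have D := congrArg (MvPolynomial.C (σ := Fin 2)) (hs d)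
    have F := congrArg (MvPolynomial.C (σ := Fin 2)) (hs f)
    simp only [q, μ, hL, l, map_add, map_mul, map_pow, MvPolynomial.map_C, MvPolynomial.map_X,
      map_zero, zero_mul, add_zero, Matrix.cons_val_zero, Matrix.cons_val_one, Matrix.cons_val] at A D F ⊢
    linear_combination -A - MvPolynomial.X 0 ^ 2 * D - MvPolynomial.X 1 ^ 2 * F -
      (MvPolynomial.C (s a) * MvPolynomial.C (s d) * MvPolynomial.X 0 +
       MvPolynomial.C (s a) * MvPolynomial.C (s f) * MvPolynomial.X 1 +
       MvPolynomial.C (s d) * MvPolynomial.C (s f) * MvPolynomial.X 0 * MvPolynomial.X 1) * h2P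
  have hsnz : ∀ r : κ, r ≠ 0 → s r ≠ 0 := fun r hr h => hr (ι.injective (by rw [← hs r, h]; simp))
  have hLJ : L ∈ I.map μ := by
    have hsq : L ^ 2 ∈ (I.map μ) ^ 2 := by
      rw [← Ideal.map_pow, ← hμq]; exact Ideal.mem_map_of_mem μ hmem
    rcases hdf with hd | hf
    · exact lin_root_mem _ 0 1 (by decide) _ _ _ (hsnz d hd) hsq
    · have e : L = MvPolynomial.C (l 0) + MvPolynomial.C (l 2) * MvPolynomial.X 1 +
          MvPolynomial.C (l 1) * MvPolynomial.X 0 := by rw [hL]; ring
      rw [e] at hsq ⊢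
      exact lin_root_mem _ 1 0 (by decide) _ _ _ (hsnz f hf) hsq
  let E := MvPolynomial.algebraTensorAlgEquiv (σ := Fin 2) κ K
  let Φ : Module.Dual κ K → MvPolynomial (Fin 2) K →+ MvPolynomial (Fin 2) κ := fun φ =>
    ((TensorProduct.lid κ (MvPolynomial (Fin 2) κ)).toLinearMap.comp
      (LinearMap.rTensor (MvPolynomial (Fin 2) κ) φ)).toAddMonoidHom.comp E.symm.toAlgHom.toRingHom.toAddMonoidHom
  have hEsymm : ∀ p : MvPolynomial (Fin 2) κ, E.symm (μ p) = 1 ⊗ₜ[κ] p := by
    intro p
    rw [E.symm_apply_eq]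
    simp [E, μ, ι, MvPolynomial.algebraTensorAlgEquiv_tmul]
  have hΦmul : ∀ φ y p, Φ φ (y * μ p) = Φ φ y * p := by
    intro φ y p
    simp only [Φ, AddMonoidHom.coe_comp, Function.comp_apply]
    show TensorProduct.lid κ _ (LinearMap.rTensor _ φ (E.symm (y * μ p))) =
      TensorProduct.lid κ _ (LinearMap.rTensor _ φ (E.symm y)) * p
    rw [map_mul, hEsymm]
    induction E.symm y using TensorProduct.induction_on with
    | zero => simp
    | tmul r t => simp [Algebra.TensorProduct.tmul_mul_tmul]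
    | add r t hr ht => simp only [map_add, add_mul, hr, ht]
  have hΦmem : ∀ φ, ∀ x ∈ I.map μ, Φ φ x ∈ I := by
    intro φ x hx
    rw [Ideal.map] at hx
    induction hx using Submodule.span_induction generalizing φ with
    | mem z hz => obtain ⟨p, hp, rfl⟩ := hz; rw [← one_mul (μ p), hΦmul]; exact Ideal.mul_mem_left _ _ hp
    | zero => simp
    | add z w _ _ hz hw => rw [map_add]; exact add_mem (hz φ) (hw φ)
    | smul r z hz' hz =>
      have : ∀ z ∈ Submodule.span (MvPolynomial (Fin 2) K) (μ '' (I : Set _)), ∀ y, Φ φ (y * z) ∈ I := by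
        intro z hz
        induction hz using Submodule.span_induction with
        | mem z hz => obtain ⟨p, hp, rfl⟩ := hz; intro y; rw [hΦmul]; exact Ideal.mul_mem_left _ _ hp
        | zero => intro y; simp
        | add z w _ _ hz hw => intro y; rw [mul_add, map_add]; exact add_mem (hz y) (hw y)
        | smul r z _ hz => intro y; rw [smul_eq_mul, ← mul_assoc]; exact hz _
      exact this z hz' r
  have hΦC : ∀ φ (r : K) p, Φ φ (MvPolynomial.C r * μ p) = MvPolynomial.C (φ r) * p := by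
    intro φ r p
    rw [hΦmul]
    congr 1
    show TensorProduct.lid κ _ (LinearMap.rTensor _ φ (E.symm (MvPolynomial.C r))) = _
    have : E.symm (MvPolynomial.C r) = r ⊗ₜ[κ] 1 := by
      rw [E.symm_apply_eq]; simp [E, MvPolynomial.algebraTensorAlgEquiv_tmul, Algebra.smul_def]
    rw [this]; simp [MvPolynomial.smul_eq_C_mul]
  have hlin : ∀ φ : Module.Dual κ K, lin (fun i => φ (l i)) ∈ I := by
    intro φ
    convert hΦmem φ L hLJ using 1
    rw [hL, map_add, map_add, show (MvPolynomial.X 0 : MvPolynomial (Fin 2) K) = μ (MvPolynomial.X 0) by simp [μ],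
      show (MvPolynomial.X 1 : MvPolynomial (Fin 2) K) = μ (MvPolynomial.X 1) by simp [μ], hΦC, hΦC,
      ← mul_one (MvPolynomial.C (l 0)), ← map_one μ, hΦC, mul_one]
    rfl
  let co : Fin 3 → κ := ![a, d, f]
  have hco : ∀ i, l i ^ 2 = ι (co i) := by intro i; fin_cases i <;> simp [l, co, hs]
  obtain ⟨i0, hi0⟩ : ∃ i, l i ≠ 0 := by
    rcases hdf with hd | hf
    · exact ⟨1, hsnz d hd⟩
    · exact ⟨2, hsnz f hf⟩
  obtain ⟨φ0, hφ0⟩ := Module.Projective.exists_dual_eq_one κ hi0
  have hprop : ∀ i, l i = φ0 (l i) • l i0 := by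
    intro i
    rw [← sub_eq_zero, ← Module.forall_dual_apply_eq_zero_iff κ]
    intro φ
    have := minors_eq hI (hlin φ) (hlin φ0) i i0
    rw [map_sub, map_smul, smul_eq_mul, sub_eq_zero]
    simp only [hφ0, mul_one] at this
    linear_combination this
  have hfin : ∀ i, co i = co i0 * φ0 (l i) ^ 2 := by
    intro i
    apply ι.injective
    rw [map_mul, map_pow, ← hco, ← hco]
    conv_lhs => rw [hprop i, Algebra.smul_def]
    ring
  refine ⟨co i0, φ0 (l 0), φ0 (l 1), φ0 (l 2), ?_⟩
  have A : a = co i0 * φ0 (l 0) ^ 2 := hfin 0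
  have D : d = co i0 * φ0 (l 1) ^ 2 := hfin 1
  have F : f = co i0 * φ0 (l 2) ^ 2 := hfin 2
  have A' := congrArg (MvPolynomial.C (σ := Fin 2)) A
  have D' := congrArg (MvPolynomial.C (σ := Fin 2)) D
  have F' := congrArg (MvPolynomial.C (σ := Fin 2)) F
  have h2R : (2 : MvPolynomial (Fin 2) κ) = 0 := by
    rw [← map_ofNat (MvPolynomial.C (σ := Fin 2)) 2, h2, map_zero]
  simp only [q, map_mul, map_pow, map_zero, zero_mul, add_zero] at A' D' F' ⊢
  linear_combination A' + MvPolynomial.X 0 ^ 2 * D' + MvPolynomial.X 1 ^ 2 * F' -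
    MvPolynomial.C (co i0) * (MvPolynomial.C (φ0 (l 0)) * MvPolynomial.C (φ0 (l 1)) * MvPolynomial.X 0 +
      MvPolynomial.C (φ0 (l 0)) * MvPolynomial.C (φ0 (l 2)) * MvPolynomial.X 1 +
      MvPolynomial.C (φ0 (l 1)) * MvPolynomial.C (φ0 (l 2)) * MvPolynomial.X 0 * MvPolynomial.X 1) * h2R

end Groth.Agent.S1601
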