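import Groth.Statements.S16015
import Mathlib
-- import your own Groth.Agent.* helpers here

set_option autoImplicit false
universe u v w
open W4c3ghconstell

namespace Groth.Agent.S16015

open scoped TensorProduct


/-- Let B be a commutative ring, E a B-module, F a finitely generated projective B-module and β : E → F
a B-linear map. Then there is a unique ideal I of B such that for every commutative B-algebra C the
base change β_C : C ⊗ E → C ⊗ F is zero if and only if the structure map B → C kills I. (The
published statement is for a homomorphism of modules on a scheme T into a locally free module and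
produces a closed subscheme T₀ through which a morphism factors exactly when the pulled-back
homomorphism vanishes; this row is the case of an affine T with affine test schemes and F of finite
rank, to which it reduces.) -/
theorem result {B : Type u} [CommRing B]
    {E : Type v} [AddCommGroup E] [Module B E]
    {F : Type w} [AddCommGroup F] [Module B F] [Module.Finite B F] [Module.Projective B F]
    (β : E →ₗ[B] F) :
    ∃! I : Ideal B, ∀ (C : Type u) [CommRing C] [Algebra B C],
      LinearMap.baseChange C β = 0 ↔ I ≤ RingHom.ker (algebraMap B C) := by
  classical
  obtain ⟨n, p, hp⟩ := Module.Finite.exists_fin' B F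
  obtain ⟨i, hi⟩ := Module.projective_lifting_property p LinearMap.id hp
  let I : Ideal B := Ideal.span (Set.range fun q : Fin n × E => i (β q.2) q.1)
  have key : ∀ (C : Type u) [CommRing C] [Algebra B C],
      LinearMap.baseChange C β = 0 ↔ I ≤ RingHom.ker (algebraMap B C) := by
    intro C _ _
    rw [Ideal.span_le, Set.range_subset_iff]
    constructor
    · rintro hz ⟨j, e⟩
      have h1 : (1 : C) ⊗ₜ[B] β e = 0 := LinearMap.congr_fun hz (1 ⊗ₜ e)
      have h2 := congrArg (fun z => TensorProduct.rid B C (((LinearMap.proj j).comp i).lTensor C z)) h1
      rw [SetLike.mem_coe, RingHom.mem_ker]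
      simpa [Algebra.algebraMap_eq_smul_one] using h2
    · intro h
      refine LinearMap.ext fun z => ?_
      induction z using TensorProduct.induction_on with
      | zero => simp
      | add a b ha hb => simp [map_add, ha, hb]
      | tmul c e =>
        rw [LinearMap.baseChange_tmul, LinearMap.zero_apply,
          show β e = p (i (β e)) from (LinearMap.congr_fun hi (β e)).symm, pi_eq_sum_univ' (i (β e)),
          map_sum, TensorProduct.tmul_sum]
        refine Finset.sum_eq_zero fun j _ => ?_
        have hj : algebraMap B C (i (β e) j) = 0 := h (j, e)
        rw [map_smul, TensorProduct.tmul_smul, TensorProduct.smul_tmul', Algebra.smul_def, hj,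
          zero_mul, TensorProduct.zero_tmul]
  refine ⟨I, key, fun J hJ => ?_⟩
  apply le_antisymm
  · have h1 := (key (B ⧸ I)).2 (le_of_eq Ideal.mk_ker.symm)
    have h2 := (hJ (B ⧸ I)).1 h1
    rwa [show algebraMap B (B ⧸ I) = Ideal.Quotient.mk I from rfl, Ideal.mk_ker] at h2
  · have h1 := (hJ (B ⧸ J)).2 (le_of_eq Ideal.mk_ker.symm)
    have h2 := (key (B ⧸ J)).1 h1
    rwa [show algebraMap B (B ⧸ J) = Ideal.Quotient.mk J from rfl, Ideal.mk_ker] at h2

end Groth.Agent.S16015
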