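import Groth.Statements.S16016
import Mathlib
-- import your own Groth.Agent.* helpers here

set_option autoImplicit false
universe u
open W4c3ghconstell

namespace Groth.Agent.S16016

/-- Let k be a field with 2 ≠ 0, index k⁶ by two copies of {0,1,2} (basis vectors p₁, p₂, p₃ in the
first copy and p₄, p₅, p₆ in the second), let Q be the symmetric matrix with blocks ((0, 1), (1,
0)), so that the form it defines pairs pᵢ with pᵢ₊₃, and let W₀ be the span of p₁ and p₂. Then a 6 ×
6 matrix A satisfies AᵀQ + QA = 0 (A lies in the orthogonal Lie algebra of Q) and has the image of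
Aᵀ contained in W₀ if and only if A = a · (E₄₂ − E₅₁) for some scalar a, where Eᵢⱼ is the matrix
unit. (The lemma in the source concludes that the set of such A inside a certain nilpotent orbit
closure of this Lie algebra is one-dimensional; this row is the computation its proof performs,
which determines all such A in the Lie algebra. Characteristic 2 is excluded: there E₁₄ᵀ also
qualifies.) -/
theorem result (k : Type u) [Field k] (h2 : (2 : k) ≠ 0)
    (A : Matrix (Fin 3 ⊕ Fin 3) (Fin 3 ⊕ Fin 3) k) :
    (A.transpose * Matrix.fromBlocks (0 : Matrix (Fin 3) (Fin 3) k) 1 1 0 +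
        Matrix.fromBlocks (0 : Matrix (Fin 3) (Fin 3) k) 1 1 0 * A = 0 ∧
      LinearMap.range (Matrix.mulVecLin A.transpose) ≤
        Submodule.span k {Pi.single (Sum.inl 0 : Fin 3 ⊕ Fin 3) (1 : k), Pi.single (Sum.inl 1 : Fin 3 ⊕ Fin 3) (1 : k)}) ↔
    ∃ a : k, A = a • (Matrix.single (Sum.inr 0) (Sum.inl 1) (1 : k) - Matrix.single (Sum.inr 1) (Sum.inl 0) (1 : k)) := by
  classical
  let σ : Fin 3 ⊕ Fin 3 → Fin 3 ⊕ Fin 3 := Sum.swap
  have hQ : ∀ i j : Fin 3 ⊕ Fin 3, ((A.transpose * Matrix.fromBlocks (0 : Matrix (Fin 3) (Fin 3) k) 1 1 0 +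
      Matrix.fromBlocks (0 : Matrix (Fin 3) (Fin 3) k) 1 1 0 * A) : Matrix (Fin 3 ⊕ Fin 3) (Fin 3 ⊕ Fin 3) k) i j = A (σ j) i + A (σ i) j := by
    intro i j
    rcases i with i | i <;> rcases j with j | j <;>
      simp [Matrix.mul_apply, Fintype.sum_sum_type, Matrix.one_apply, σ]
  have hsp : LinearMap.range (Matrix.mulVecLin A.transpose) ≤
        Submodule.span k {Pi.single (Sum.inl 0 : Fin 3 ⊕ Fin 3) (1 : k), Pi.single (Sum.inl 1 : Fin 3 ⊕ Fin 3) (1 : k)} ↔
      ∀ i j, j ≠ Sum.inl 0 → j ≠ Sum.inl 1 → A i j = 0 := by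
    constructor
    · intro h i j h0 h1
      have hm := h ⟨Pi.single i 1, rfl⟩
      rw [Submodule.mem_span_pair] at hm
      obtain ⟨a, b, hab⟩ := hm
      have := congr_fun hab j
      simp [h0, h1] at this
      exact this.symm
    · rintro h _ ⟨v, rfl⟩
      rw [Submodule.mem_span_pair]
      refine ⟨Matrix.mulVecLin A.transpose v (Sum.inl 0), Matrix.mulVecLin A.transpose v (Sum.inl 1), ?_⟩
      funext j
      by_cases h0 : j = Sum.inl 0
      · subst h0; simp
      by_cases h1 : j = Sum.inl 1
      · subst h1; simp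
      simp [h0, h1, Matrix.vecMul, dotProduct, h _ j h0 h1]
  rw [hsp]
  constructor
  · rintro ⟨h, hs⟩
    have e : ∀ i j, A (σ j) i + A (σ i) j = 0 := fun i j => by rw [← hQ, h]; rfl
    refine ⟨A (Sum.inr 0) (Sum.inl 1), ?_⟩
    have hrow : ∀ l, l ≠ Sum.inl 0 → l ≠ Sum.inl 1 → ∀ i, A (σ l) i = 0 := fun l h0 h1 i => by
      have := e i l
      rwa [hs (σ i) l h0 h1, add_zero] at this
    ext i j
    by_cases hj0 : j = Sum.inl 0
    · subst hj0
      rcases i with i | i
      · have := hrow (Sum.inr i) (by simp) (by simp) (Sum.inl 0)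
        simpa [σ] using this
      · fin_cases i
        · have := e (Sum.inl 0) (Sum.inl 0)
          simp only [σ, Sum.swap_inl, ← two_mul, mul_eq_zero] at this
          simpa using this.resolve_left h2
        · have := e (Sum.inl 0) (Sum.inl 1)
          simp only [σ, Sum.swap_inl] at this
          simp [eq_neg_of_add_eq_zero_left this]
        · have := hrow (Sum.inl 2) (by simp) (by simp) (Sum.inl 0)
          simpa [σ] using this
    by_cases hj1 : j = Sum.inl 1
    · subst hj1
      rcases i with i | i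
      · have := hrow (Sum.inr i) (by simp) (by simp) (Sum.inl 1)
        simpa [σ] using this
      · fin_cases i
        · simp
        · have := e (Sum.inl 1) (Sum.inl 1)
          simp only [σ, Sum.swap_inl, ← two_mul, mul_eq_zero] at this
          simpa using this.resolve_left h2
        · have := hrow (Sum.inl 2) (by simp) (by simp) (Sum.inl 1)
          simpa [σ] using this
    simp [hs i j hj0 hj1, Ne.symm hj0, Ne.symm hj1]
  · rintro ⟨a, rfl⟩
    refine ⟨?_, fun i j h0 h1 => by simp [Ne.symm h0, Ne.symm h1]⟩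
    ext i j
    rw [hQ]
    rcases i with i | i <;> rcases j with j | j <;> simp [σ, Matrix.single_apply]
    fin_cases i <;> fin_cases j <;> simp

end Groth.Agent.S16016
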