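import Groth.Statements.S1602
import Groth.Agent.FFCurve.GenusBirational

set_option autoImplicit false
universe u
open CategoryTheory CategoryTheory.Limits AlgebraicGeometry
open Curves

namespace Groth.Agent.S1602

/-- Let X be proper of dimension at most one over k and f : X' → X a proper morphism which is an
isomorphism over a dense open of X whose preimage is dense in X'. Then the k-dimension of H^1 of the
structure sheaf of X' is at most that of X. -/
theorem result (k : Type u) [Field k] (X X' : Scheme.{u}) [X.Over (Spec (CommRingCat.of k))] [X'.Over (Spec (CommRingCat.of k))]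
    [IsProper (X ↘ (Spec (CommRingCat.of k)))] (hdim : topologicalKrullDim X ≤ 1) (f : X' ⟶ X) [IsProper f] (hf : f ≫ (X ↘ (Spec (CommRingCat.of k))) = X' ↘ (Spec (CommRingCat.of k)))
    (U : X.Opens) (hU : Dense (U : Set X)) (hU' : Dense ((f ⁻¹ᵁ U : X'.Opens) : Set X')) (hfU : IsIso (f ∣_ U)) :
    Curv2.genus k X' ≤ Curv2.genus k X := by
  haveI : IsProper (X' ↘ Spec (CommRingCat.of k)) := by rw [← hf]; infer_instance
  haveI := EulerChar.isNoetherian k (X := X')
  haveI := EulerChar.isNoetherian k (X := X)
  obtain ⟨hUf, hUc⟩ := S1666.finite_compl_dense hdim U hU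
  -- the complement of the good open in `X'` is finite
  have hU'f : ((f ⁻¹ᵁ U : X'.Opens) : Set X')ᶜ.Finite :=
    (S1666.finite_compl_dense (FFCurve.GenusBirational.dim_le_one (k := k) f U hU' hdim hfU) _ hU').1
  haveI : LocallyQuasiFinite f := LocallyQuasiFinite.of_finite_preimage_singleton f fun y => by
    by_cases hy : y ∈ U
    · refine Set.Subsingleton.finite fun a ha b hb => ?_
      have ha' : f a ∈ U := (show f a = y from ha) ▸ hy
      have hb' : f b ∈ U := (show f b = y from hb) ▸ hy
      have h : (f ∣_ U) ⟨a, ha'⟩ = (f ∣_ U) ⟨b, hb'⟩ := Subtype.ext ((morphismRestrict_base_coe f U ⟨a, ha'⟩).trans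
        (((show f a = y from ha).trans (show f b = y from hb).symm).trans (morphismRestrict_base_coe f U ⟨b, hb'⟩).symm))
      exact congrArg Subtype.val ((f ∣_ U).homeomorph.injective h)
    · exact hU'f.subset fun a ha h => hy ((show f a = y from ha) ▸ h)
  haveI : IsFinite f := IsFinite.of_isProper_of_locallyQuasiFinite _
  exact FFCurve.GenusBirational.genus_le hdim f hf U hU

end Groth.Agent.S1602
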