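import Groth.Statements.S16021
import Groth.Agent.CechEdgeLib.Zero

set_option autoImplicit false
universe u
open CategoryTheory CategoryTheory.Limits Opposite
open CechEdge

namespace Groth.Agent.S16021

/-- On a small site with fibre products, with coverings given as indexed families of objects over their
target, an abelian presheaf is a sheaf if and only if, for every object U and every family of
objects over U whose generated sieve is covering, the canonical map from the sections over U to the
degree-0 Cech cohomology with respect to the family is bijective. -/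
theorem result {C : Type u} [SmallCategory C] [HasPullbacks C]
    (J : GrothendieckTopology C) (P : Cᵒᵖ ⥤ AddCommGrpCat.{u}) :
    Presheaf.IsSheaf J P ↔ ∀ (U : C) (ι : Type u) (Y : ι → Over U),
      Sieve.ofArrows (fun i => (Y i).left) (fun i => (Y i).hom) ∈ J U →
        Function.Bijective (CechEdge.toCech Y P) := by
  refine ⟨fun hP U ι Y hY => Groth.Agent.CechEdgeLib.toCech_bijective_of_isSheaf Y P J hY hP,
    fun h => ?_⟩
  rw [Presheaf.isSheaf_iff_isSheaf_forget J P (forget AddCommGrpCat.{u}), isSheaf_iff_isSheaf_of_type]
  intro U S hS
  let ι : Type u := Σ V : C, {f : V ⟶ U // S f}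
  let Y : ι → Over U := fun i => Over.mk i.2.1
  have hS' : Sieve.generate (Presieve.ofArrows (fun i => (Y i).left) (fun i => (Y i).hom)) = S := by
    refine le_antisymm ((Sieve.generate_le_iff _ _).2 fun V f ⟨i⟩ => i.2.2) fun V f hf => ?_
    exact ⟨V, 𝟙 V, f, Presieve.ofArrows.mk (Y := fun i : ι => (Y i).left)
      (f := fun i : ι => (Y i).hom) ⟨V, f, hf⟩, Category.id_comp f⟩
  have hb := (Groth.Agent.CechEdgeLib.toCech_bijective_iff Y P).1 (h U ι Y (by
    show Sieve.ofArrows _ _ ∈ J U
    rw [show Sieve.ofArrows (fun i => (Y i).left) (fun i => (Y i).hom) = S from hS']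
    exact hS))
  rw [Presieve.isSheafFor_iff_generate, hS'] at hb
  exact hb

end Groth.Agent.S16021
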