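import Groth.Statements.S16028
import Groth.Agent.AlgSpB.IntQuot.Main

set_option autoImplicit false
set_option backward.isDefEq.respectTransparency false
set_option backward.isDefEq.respectTransparency.types false
universe u
open CategoryTheory CategoryTheory.Limits AlgebraicGeometry
open AlgSp

namespace Groth.Agent.S16028

/-- Let S be a locally Noetherian scheme and X an algebraic space over S, separated over S and presented
by a scheme locally of finite presentation over S through an étale surjective quasi-compact chart.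
Let X̃ be a scheme over S with a morphism π : X̃ ⟶ X which is integral and surjective and whose
fibre over every point of X is contained in an affine open of X̃. Then X is a scheme. -/
theorem result
    (S : Scheme.{u}) [IsLocallyNoetherian S] (X : AlgSp.Sp S) (hX : AlgSp.IsAlgSpace X)
    (hsep : AlgSp.IsSeparatedSp X)
    (hpres : ∃ (Y : Over S) (p : (AlgSp.yon S).obj Y ⟶ X),
      AlgSp.RepWith @Etale p ∧ AlgSp.RepWith @Surjective p ∧ AlgSp.RepWith @QuasiCompact p ∧
        LocallyOfFinitePresentation Y.hom)
    (Xt : Over S) (π : (AlgSp.yon S).obj Xt ⟶ X)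
    (hint : AlgSp.RepWith @IsIntegralHom π) (hsurj : AlgSp.RepWith @Surjective π)
    (hfib : ∀ x : AlgSp.Points X, ∃ U : Xt.left.Opens, IsAffineOpen U ∧
      ∀ y : ↥Xt.left, AlgSp.Points.ofPt π y = x → y ∈ U) :
    X.obj.IsRepresentable := by
  let X' : AlgSp.Space S := ⟨X, hX⟩
  obtain ⟨Y, p, hp, hps, -, hY⟩ := hpres
  have hN : AlgSp.IsLocNoethSp X'.obj := ⟨Y, p, hp, hps, LocallyOfFiniteType.isLocallyNoetherian Y.hom⟩
  have hs : Function.Surjective (AlgSp.Points.map π) :=
    (Groth.Agent.AlgSp.repWith_surjective_iff π hint.1).1 hsurj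
  have hnhd := fun u : Y.left => Groth.Agent.AlgSpB.IntQuot.exists_nhd X' hsep hN π hint hs
    (AlgSp.Points.ofPt p u) (hfib _)
  choose T j _ hjo hju using hnhd
  obtain ⟨W, ⟨e⟩⟩ := Groth.Agent.AlgSpB.exists_iso_yon_of_openCover hX T j hjo fun x => by
    obtain ⟨u, rfl⟩ := Groth.Agent.AlgSpB.surjective_ofPt hps x
    exact ⟨u, Groth.Agent.AlgSpB.IntQuot.range_ofPt (j u) ▸ hju u⟩
  exact Groth.Agent.AlgSpB.isRepresentable_of_iso e

end Groth.Agent.S16028
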