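import Groth.Statements.S16029
import Groth.Agent.GrpAff.FaithfullyFlat

set_option autoImplicit false
universe u
open CategoryTheory CategoryTheory.Limits AlgebraicGeometry MonoidalCategory MonObj
open GrpSch

set_option linter.style.haveILetI false
set_option backward.isDefEq.respectTransparency false

open Limits Groth.Agent Groth.Agent.GrpAff Groth.Agent.UnipLib

namespace Groth.Agent.S16029

set_option maxHeartbeats 1000000 in
-- the finitely generated sub-Hopf-algebras of the coordinate ring are compared with one another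

/-- Over a field k, let G be a group scheme of finite type, G' an affine group scheme and u : G ⟶ G' a
homomorphism which is schematically dominant (its kernel ideal sheaf vanishes). Then u is faithfully
flat and G' is of finite type over k. -/
theorem result
    (k : Type u) [Field k] (G G' : Over (Spec (CommRingCat.of k))) [GrpObj G] [GrpObj G']
    [LocallyOfFiniteType G.hom] [QuasiCompact G.hom] [IsAffine G'.left]
    (u : G ⟶ G') [IsMonHom u] (hdom : u.left.ker = ⊥) :
    Flat u.left ∧ Surjective u.left ∧ LocallyOfFiniteType G'.hom := by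
  classical
  obtain ⟨A, hA, e, he⟩ := AffGrp.Bridge.exists_iso (R := CommRingCat.of k) G'
  haveI : IsMonHom e.inv := inferInstance
  let a : G ⟶ (Spec A).asOver (Spec (CommRingCat.of k)) := u ≫ e.inv
  haveI : IsMonHom a := inferInstance
  haveI : IsSeparated G.hom := GrpdLib.GrpOver.isSeparated_hom G
  have hka : a.left.ker = ⊥ := by
    show (u.left ≫ e.inv.left).ker = ⊥
    rw [Scheme.Hom.ker_comp, hdom, Scheme.IdealSheafData.map_bot]
    haveI : IsIso e.inv.left := inferInstanceAs (IsIso ((Over.forget _).map e.inv))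
    exact Scheme.Hom.ker_eq_bot_of_isIso e.inv.left
  let S := {C : Subalgebra k A // SGA3.IsHopfSubalgebra k A C ∧ C.FG}
  letI hopf : ∀ C : S, HopfAlgebra k C.1 := fun C => HopfSub.hopfAlgebra C.2.1
  let inc : ∀ C : S, C.1 →ₐc[k] A := fun C => HopfSub.incl C.2.1
  let p : ∀ C : S, G ⟶ (Spec (CommRingCat.of C.1)).asOver (Spec (CommRingCat.of k)) := fun C => a ≫ specHom (inc C)
  have hft : ∀ C : S, LocallyOfFiniteType ((Spec (CommRingCat.of C.1)).asOver (Spec (CommRingCat.of k))).hom := fun C => by
    haveI : Algebra.FiniteType k C.1 := C.1.fg_iff_finiteType.mp C.2.2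
    exact locallyOfFiniteType_specOverSpec (R := CommRingCat.of k) (A := CommRingCat.of C.1)
  haveI haff : ∀ C : S, IsAffine ((Spec (CommRingCat.of C.1)).asOver (Spec (CommRingCat.of k))).left := fun C =>
    inferInstanceAs (IsAffine (Spec _))
  haveI hp : ∀ C : S, IsMonHom (p C) := fun C => inferInstance
  have hcov : ∀ C : S, Cover (p C) := fun C => by
    haveI := hft C
    refine cover_of_ker_eq_bot (p C) ?_
    rw [show (p C).left = a.left ≫ (specHom (inc C)).left from rfl, Scheme.Hom.ker_comp, hka,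
      Scheme.IdealSheafData.map_bot, specHom_left]
    exact ker_spec_of_injective _ Subtype.val_injective
  haveI : ∀ C : S, IsSeparated ((Spec (CommRingCat.of C.1)).asOver (Spec (CommRingCat.of k))).hom := fun C =>
    GrpdLib.GrpOver.isSeparated_hom _
  choose N hNg i hiM hiMono hiC hi1 hlift using fun C : S => UnipLib.exists_kernel_grp (p C)
  -- transition maps
  have htr : ∀ (C D : S) (h : C.1 ≤ D.1),
      ∃ t : (Spec (CommRingCat.of D.1)).asOver (Spec (CommRingCat.of k)) ⟶ (Spec (CommRingCat.of C.1)).asOver (Spec (CommRingCat.of k)),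
        IsMonHom t ∧ p D ≫ t = p C ∧
        t.left = Spec.map (CommRingCat.ofHom (Subalgebra.inclusion h).toRingHom) := by
    intro C D h
    let t : (Spec (CommRingCat.of D.1)).asOver (Spec (CommRingCat.of k)) ⟶ (Spec (CommRingCat.of C.1)).asOver (Spec (CommRingCat.of k)) :=
      Over.homMk (Spec.map (CommRingCat.ofHom (Subalgebra.inclusion h).toRingHom)) (by
        show Spec.map _ ≫ Spec.map _ = Spec.map _
        rw [← Spec.map_comp]; rfl)
    have ht : p D ≫ t = p C := by
      refine Over.OverMorphism.ext ?_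
      show (a.left ≫ (specHom (inc D)).left) ≫ Spec.map _ = a.left ≫ (specHom (inc C)).left
      rw [Category.assoc, specHom_left, specHom_left, ← Spec.map_comp]
      rfl
    exact ⟨t, (hcov D).isMonHom t (by rw [ht]; infer_instance), ht, rfl⟩
  have hmono : ∀ (C D : S), C.1 ≤ D.1 → (i C).left.ker ≤ (i D).left.ker := by
    intro C D h
    obtain ⟨t, ht, hpt, -⟩ := htr C D h
    obtain ⟨z, hz⟩ := hlift C (i D) (by
      rw [← hpt, ← Category.assoc, hi1 D, MonObj.one_comp])
    rw [← hz, Over.comp_left]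
    exact Scheme.Hom.le_ker_comp _ _
  let S₀ : S := ⟨(⊥ : Subalgebra k A), HopfPts.isHopf_bot (k := k), Subalgebra.fg_bot⟩
  have hsup : ∀ F : Finset S, ∃ D : S, ∀ C ∈ F, C.1 ≤ D.1 := by
    intro F
    induction F using Finset.induction with
    | empty => exact ⟨S₀, by simp⟩
    | insert C F _ ih =>
      obtain ⟨D, hD⟩ := ih
      refine ⟨⟨C.1 ⊔ D.1, HopfPts.isHopf_sup C.2.1 D.2.1, C.2.2.sup D.2.2⟩, fun E hE => ?_⟩
      rcases Finset.mem_insert.mp hE with rfl | hE
      · exact le_sup_left
      · exact (hD E hE).trans le_sup_right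
  haveI : IsLocallyNoetherian G.left := LocallyOfFiniteType.isLocallyNoetherian G.hom
  let 𝒰 := G.left.affineCover.finiteSubcover
  let U : 𝒰.I₀ → G.left.affineOpens := fun j =>
    ⟨(𝒰.f j).opensRange, isAffineOpen_opensRange (𝒰.f j)⟩
  have hU : ⨆ j, (U j).1 = ⊤ := 𝒰.iSup_opensRange
  haveI : Fintype 𝒰.I₀ := Fintype.ofFinite _
  have hmax : ∀ j, ∃ C : S, ∀ D : S, C.1 ≤ D.1 → (i D).left.ker.ideal (U j) = (i C).left.ker.ideal (U j) := by
    intro j
    haveI : IsNoetherianRing Γ(G.left, (U j).1) := IsLocallyNoetherian.component_noetherian _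
    obtain ⟨_, ⟨C, rfl⟩, hC⟩ := set_has_maximal_iff_noetherian.mpr (inferInstance : IsNoetherian Γ(G.left, (U j).1) Γ(G.left, (U j).1))
      (Set.range fun C : S => (i C).left.ker.ideal (U j)) ⟨_, ⟨S₀, rfl⟩⟩
    exact ⟨C, fun D hD => ((hmono C D hD (U j)).eq_of_not_lt (hC _ ⟨D, rfl⟩)).symm⟩
  choose Cj hCj using hmax
  obtain ⟨C₀, hC₀⟩ := hsup (Finset.univ.image Cj)
  have hstab : ∀ D : S, C₀.1 ≤ D.1 → (i D).left.ker = (i C₀).left.ker := by
    intro D hD
    refine Scheme.IdealSheafData.ext_of_iSup_eq_top U hU fun j => ?_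
    have h0 : (Cj j).1 ≤ C₀.1 := hC₀ _ (Finset.mem_image_of_mem _ (Finset.mem_univ j))
    rw [hCj j D (h0.trans hD), hCj j C₀ h0]
  -- the maximal finitely generated sub-Hopf-algebra is everything
  have htop : C₀.1 = ⊤ := by
    rw [eq_top_iff]
    intro x _
    obtain ⟨E, hE1, hE2, hxE⟩ := HopfPts.exists_fg_of_finite (k := k) ({x} : Set A) (Set.finite_singleton x)
    let D : S := ⟨C₀.1 ⊔ E, HopfPts.isHopf_sup C₀.2.1 hE1, C₀.2.2.sup hE2⟩
    have hle : C₀.1 ≤ D.1 := le_sup_left
    obtain ⟨t, ht, hpt, htl⟩ := htr C₀ D hle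
    haveI : IsIso t := isIso_of_kernel_le (hcov D) (hcov C₀) t hpt fun {T} z h1 => by
      obtain ⟨w, hw⟩ := hlift C₀ z h1
      haveI := hiC C₀
      haveI := hiC D
      let l := IsClosedImmersion.lift (i D).left (i C₀).left (hstab D hle).le
      have hl : l ≫ (i D).left = (i C₀).left := IsClosedImmersion.lift_fac _ _ _
      let l' : N C₀ ⟶ N D := Over.homMk l (by rw [← Over.w (i D), reassoc_of% hl, Over.w])
      have hl' : l' ≫ i D = i C₀ := Over.OverMorphism.ext hl
      rw [← hw, ← hl', Category.assoc, Category.assoc, hi1 D, MonObj.comp_one, MonObj.comp_one]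
    haveI : IsIso t.left := inferInstanceAs (IsIso ((Over.forget _).map t))
    let φ : CommRingCat.of C₀.1 ⟶ CommRingCat.of D.1 := CommRingCat.ofHom (Subalgebra.inclusion hle).toRingHom
    haveI : IsIso (Scheme.Spec.map φ.op) := by
      show IsIso (Spec.map φ)
      rw [show Spec.map φ = t.left from htl.symm]
      infer_instance
    haveI : IsIso φ.op := isIso_of_fully_faithful Scheme.Spec φ.op
    haveI : IsIso φ := isIso_of_op φ
    have hbij : Function.Bijective (Subalgebra.inclusion hle) :=
      (ConcreteCategory.isIso_iff_bijective φ).mp inferInstance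
    obtain ⟨c, hc⟩ := hbij.2 ⟨x, (le_sup_right : E ≤ D.1) (hxE rfl)⟩
    have := congrArg Subtype.val hc
    show x ∈ C₀.1
    rw [← show (c : A) = x from this]
    exact c.2
  haveI : IsIso (specHom (inc C₀)) := by
    haveI : IsIso (CommRingCat.ofHom (inc C₀ : C₀.1 →+* A)) := by
      rw [ConcreteCategory.isIso_iff_bijective]
      exact ⟨Subtype.val_injective, fun x => ⟨⟨x, htop ▸ Algebra.mem_top⟩, rfl⟩⟩
    haveI : IsIso ((Over.forget (Spec (CommRingCat.of k))).map (specHom (inc C₀))) := by
      show IsIso (Spec.map (CommRingCat.ofHom (inc C₀ : C₀.1 →+* A)))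
      infer_instance
    exact isIso_of_reflects_iso _ (Over.forget (Spec (CommRingCat.of k)))
  let ψ := e.symm ≪≫ asIso (specHom (inc C₀))
  have hψ : u = p C₀ ≫ ψ.inv := by simp [ψ, p, a]
  haveI := hft C₀
  haveI : IsIso ψ.inv.left := inferInstanceAs (IsIso ((Over.forget _).map ψ.inv))
  haveI : IsIso ψ.hom.left := inferInstanceAs (IsIso ((Over.forget _).map ψ.hom))
  have hc : UnipLib.Cover u := by
    rw [hψ]
    exact (hcov C₀).comp ⟨inferInstance, inferInstance, inferInstance⟩
  refine ⟨hc.flat, hc.surj, ?_⟩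
  rw [← Over.w ψ.hom]
  infer_instance

end Groth.Agent.S16029
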