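import Groth.Statements.S1603
import Groth.Agent.FFCurve.GenusBirational
import Groth.Agent.ExtSuppLib.Excision

set_option autoImplicit false
universe u
open CategoryTheory CategoryTheory.Limits AlgebraicGeometry
open Curves

namespace Groth.Agent.S1603

open TopologicalSpace Groth.Agent.PullStalk.Sky Groth.Agent.PullStalk.Exact Groth.Agent.Props.GenLocus

set_option linter.style.haveILetI false
set_option backward.isDefEq.respectTransparency false
set_option backward.isDefEq.respectTransparency.types false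

/-- Over a dense open where `f` is an isomorphism, functions pull back injectively to `X'`. -/
theorem app_injective {X' X : Scheme.{u}} [IsReduced X] (f : X' ⟶ X) (U : X.Opens) (hU : Dense (U : Set X))
    (hfU : IsIso (f ∣_ U)) (W : X.Opens) : Function.Injective (f.app W) := by
  refine (injective_iff_map_eq_zero (f.app W).hom).2 fun r hr => ?_
  have h1 : f.app (W ⊓ U) (X.presheaf.map (homOfLE (inf_le_left : W ⊓ U ≤ W)).op r) = 0 := by
    refine (ConcreteCategory.congr_hom (f.naturality (homOfLE (inf_le_left : W ⊓ U ≤ W)).op) r).trans ?_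
    exact (congrArg (X'.presheaf.map _) (show f.app W r = 0 from hr)).trans (map_zero _)
  have h2 := (S1666.bijective_app_of_le f U hfU _ inf_le_right).1 (h1.trans (map_zero _).symm)
  refine (basicOpen_eq_bot_iff r).1 ?_
  by_contra hne
  obtain ⟨y, hy, hyU⟩ := hU.inter_open_nonempty _ (X.basicOpen r).2
    ((X.basicOpen r).ne_bot_iff_nonempty.1 hne)
  have h3 : y ∈ X.basicOpen (X.presheaf.map (homOfLE (inf_le_left : W ⊓ U ≤ W)).op r) := by
    rw [Scheme.basicOpen_res]
    exact ⟨⟨X.basicOpen_le r hy, hyU⟩, hy⟩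
  rw [h2, Scheme.basicOpen_zero] at h3
  exact h3

/-- In the situation of the first part assume moreover that X is reduced, that H^0(X, O_X) → H^0(X',
O_{X'}) is surjective and that the two H^1 have the same dimension. Then f is an isomorphism. -/
theorem result (k : Type u) [Field k] (X X' : Scheme.{u}) [X.Over (Spec (CommRingCat.of k))] [X'.Over (Spec (CommRingCat.of k))]
    [IsProper (X ↘ (Spec (CommRingCat.of k)))] [IsReduced X] (hdim : topologicalKrullDim X ≤ 1) (f : X' ⟶ X) [IsProper f] (hf : f ≫ (X ↘ (Spec (CommRingCat.of k))) = X' ↘ (Spec (CommRingCat.of k)))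
    (U : X.Opens) (hU : Dense (U : Set X)) (hU' : Dense ((f ⁻¹ᵁ U : X'.Opens) : Set X')) (hfU : IsIso (f ∣_ U))
    (h0 : Function.Surjective (f.app ⊤).hom) (h1 : Curv2.genus k X' = Curv2.genus k X) : IsIso f := by
  haveI : IsProper (X' ↘ Spec (CommRingCat.of k)) := by rw [← hf]; infer_instance
  haveI := EulerChar.isNoetherian k (X := X')
  haveI := EulerChar.isNoetherian k (X := X)
  obtain ⟨hUf, hUc⟩ := S1666.finite_compl_dense hdim U hU
  have hU'f : ((f ⁻¹ᵁ U : X'.Opens) : Set X')ᶜ.Finite :=
    (S1666.finite_compl_dense (FFCurve.GenusBirational.dim_le_one (k := k) f U hU' hdim hfU) _ hU').1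
  haveI : LocallyQuasiFinite f := LocallyQuasiFinite.of_finite_preimage_singleton f fun y => by
    by_cases hy : y ∈ U
    · refine Set.Subsingleton.finite fun a ha b hb => ?_
      have ha' : f a ∈ U := (show f a = y from ha) ▸ hy
      have hb' : f b ∈ U := (show f b = y from hb) ▸ hy
      have h : (f ∣_ U) ⟨a, ha'⟩ = (f ∣_ U) ⟨b, hb'⟩ := Subtype.ext ((morphismRestrict_base_coe f U ⟨a, ha'⟩).trans
        (((show f a = y from ha).trans (show f b = y from hb).symm).trans (morphismRestrict_base_coe f U ⟨b, hb'⟩).symm))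
      exact congrArg Subtype.val ((f ∣_ U).homeomorph.injective h)
    · exact hU'f.subset fun a ha h => hy ((show f a = y from ha) ▸ h)
  haveI : IsFinite f := IsFinite.of_isProper_of_locallyQuasiFinite _
  have hOc : Coh.IsCoh (Coh.structureModule X) :=
    VBLib.isCoh_of_ofRank (ProjTwist.isFinLocFreeOfRank_one (PicLoc.isInvertible_structureModule X))
  have hO'c : Coh.IsCoh (Coh.structureModule X') :=
    VBLib.isCoh_of_ofRank (ProjTwist.isFinLocFreeOfRank_one (PicLoc.isInvertible_structureModule X'))
  let P := (Scheme.Modules.pushforward f).obj (Coh.structureModule X')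
  have hP : Coh.IsCoh P := ProperFin.isCoh_push_of_isFinite f _ hO'c
  obtain ⟨φ, happ⟩ := S1666.exists_unit f
  have hinj : ∀ W : X.Opens, Function.Injective (φ.app W) := fun W r s h => by
    rw [happ, happ] at h
    exact app_injective f U hU hfU W h
  haveI : Mono φ := ExtSuppLib.mono_of_app_injective φ fun W x hx => hinj W.unop (hx.trans (map_zero (φ.app W.unop).hom).symm)
  have hsurj : ∀ y ∈ U, Function.Surjective (stalkLin φ y) := fun y hy t => by
    obtain ⟨W, hW, s, rfl⟩ := exists_germM_eq P y t
    obtain ⟨r, hr⟩ := (S1666.bijective_app_of_le f U hfU (W ⊓ U) inf_le_right).2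
      (P.presheaf.map (homOfLE (inf_le_left : W ⊓ U ≤ W)).op s)
    refine ⟨germM (Coh.structureModule X) (W ⊓ U) y ⟨hW, hy⟩ r, ?_⟩
    refine (stalkLin_germ φ _ _ _ r).trans ?_
    rw [happ]
    refine (congrArg (germM P (W ⊓ U) y ⟨hW, hy⟩) (show CycLib.mkPush f (f.app (W ⊓ U) r) = _ from hr)).trans ?_
    exact P.presheaf.germ_res_apply (homOfLE inf_le_left) y ⟨hW, hy⟩ s
  have hC : Coh.IsCoh (cokernel φ) := VBLib.isCoh_cokernel φ hOc hP
  have hsupp : CohB1.support (cokernel φ) ⊆ (U : Set X)ᶜ := fun y hy hyU => hy (by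
    have hz : ∀ c : (cokernel φ).presheaf.stalk y, c = 0 := fun c => by
      obtain ⟨t, rfl⟩ := PullStalk.Exact.stalk_surjective (cokernel.π φ) y c
      obtain ⟨v, rfl⟩ := hsurj y hyU t
      rw [← CohDev.stalkLin_comp_apply φ, cokernel.condition, CohDev.stalkLin_zero_apply]
    exact ⟨fun a b => by rw [hz a, hz b]⟩)
  have hd : topologicalKrullDim ↥(CohB1.support (cokernel φ)) ≤ 0 :=
    EulerChar.topDim_le_zero_of_finite (hUf.subset hsupp) fun z hz => hUc z (hsupp hz)
  have hS : (ShortComplex.mk φ (cokernel.π φ) (cokernel.condition φ)).ShortExact :=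
    { exact := ShortComplex.exact_cokernel φ
      mono_f := inferInstance
      epi_g := inferInstance }
  haveI := EulerChar.subsingleton_HH_of_support k hC hd 0
  haveI := EulerChar.finite_HH k (Coh.structureModule X) hOc 1
  haveI := EulerChar.finite_HH k P hP 1
  -- `H¹(O) → H¹(P)` is bijective
  have h1s : Function.Surjective (CurveCoh.mapL k φ 1) := fun y =>
    ((CurveCoh.exact_mapL k hS 1) y).mp (Subsingleton.elim _ _)
  obtain ⟨E⟩ := EulerChar.nonempty_pushEquiv f (A := k) hf (Coh.structureModule X') hO'c.1 1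
  have hrk : Module.finrank k (Coh.HH X (Coh.structureModule X) 1) = Module.finrank k (Coh.HH X P 1) :=
    (show Module.finrank k (Coh.HH X' (Coh.structureModule X') 1) =
      Module.finrank k (Coh.HH X (Coh.structureModule X) 1) from h1).symm.trans E.finrank_eq.symm
  have h1i : Function.Injective (CurveCoh.mapL k φ 1) :=
    (LinearMap.injective_iff_surjective_of_finrank_eq_finrank hrk).2 h1s
  -- so `H⁰` of the cokernel vanishes
  have h0s : Function.Surjective (CurveCoh.mapL k φ 0) := fun y => by
    obtain ⟨r, hr⟩ := h0 (show Γ(X', f ⁻¹ᵁ ⊤) from ProperFin.h0Sec P y)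
    refine ⟨(ProperFin.h0Sec _).symm r, (ProperFin.h0Sec P).injective ?_⟩
    refine (ProperFin.h0Sec_hMap φ _).trans ?_
    rw [AddEquiv.apply_symm_apply, happ]
    exact hr
  haveI : Subsingleton (Coh.HH X (cokernel φ) 0) := subsingleton_of_forall_eq 0 fun c => by
    have hc : CurveCoh.deltaL k hS 0 1 rfl c = 0 := h1i
      (((CurveCoh.exact_deltaL_mapL k hS 0 1 rfl).apply_apply_eq_zero c).trans (map_zero _).symm)
    obtain ⟨b, rfl⟩ := ((CurveCoh.exact_mapL_deltaL k hS 0 1 rfl) c).1 hc
    obtain ⟨a, rfl⟩ := h0s b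
    exact (CurveCoh.exact_mapL k hS 0).apply_apply_eq_zero a
  have hχ : Curv2.euler k X (cokernel φ) = 0 := by
    rw [EulerChar.euler_eq_finrank_of_support k hC hd, Module.finrank_zero_of_subsingleton]
    rfl
  haveI : Epi φ := Abelian.epi_of_cokernel_π_eq_zero φ
    ((EulerChar.isZero_of_euler_eq_zero k hC hd hχ).eq_of_tgt _ _)
  haveI : IsIso φ := isIso_of_mono_of_epi φ
  have hbij : ∀ W : X.Opens, Function.Bijective (f.app W) := fun W => by
    haveI : IsIso (φ.app W) := inferInstance
    have h := ConcreteCategory.bijective_of_isIso (φ.app W)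
    rw [show (φ.app W : _ → _) = fun r => CycLib.mkPush f (f.app W r) from funext (happ W)] at h
    exact h
  rw [← MorphismProperty.isomorphisms.iff,
    HasAffineProperty.iff_of_iSup_eq_top (P := MorphismProperty.isomorphisms Scheme)
      (fun V : X.affineOpens => V) (iSup_affineOpens_eq_top X)]
  intro V
  haveI hVa : IsAffine (V : X.Opens) := V.2
  refine ⟨IsAffineOpen.preimage V.2 f, ?_⟩
  rw [Scheme.Hom.appTop, morphismRestrict_app]
  haveI : IsIso (f.app ((V : X.Opens).ι ''ᵁ ⊤)) :=
    (ConcreteCategory.isIso_iff_bijective _).2 (hbij _)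
  infer_instance

end Groth.Agent.S1603
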