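import Groth.Statements.S16030
-- imports

set_option autoImplicit false
universe u
open CAlg

namespace Groth.Agent.S16030

/-- For a finite set F of points of the spectrum of a commutative ring A and an open subset U containing
F, some basic open D(a) contains F and is contained in U. -/
theorem result
    (A : Type u) [CommRing A] (F : Set (PrimeSpectrum A)) (hF : F.Finite)
    (U : TopologicalSpace.Opens (PrimeSpectrum A)) (hFU : F ⊆ (U : Set (PrimeSpectrum A))) :
    ∃ a : A, F ⊆ (PrimeSpectrum.basicOpen a : Set (PrimeSpectrum A)) ∧ PrimeSpectrum.basicOpen a ≤ U := by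
  classical
  obtain ⟨s, hs⟩ := (PrimeSpectrum.isClosed_iff_zeroLocus_ideal (U : Set (PrimeSpectrum A))ᶜ).1 U.isOpen.isClosed_compl
  have key : ¬ ((s : Set A) ⊆ ⋃ p ∈ (hF.toFinset : Set (PrimeSpectrum A)), (p.asIdeal : Set A)) := by
    intro hsub
    rcases hF.toFinset.eq_empty_or_nonempty with he | ⟨p₀, _⟩
    · simp [he] at hsub
      exact Set.Nonempty.ne_empty ⟨0, s.zero_mem⟩ hsub
    revert hsub
    rw [Ideal.subset_union_prime (f := fun p : PrimeSpectrum A => p.asIdeal) p₀ p₀ (fun i _ _ _ => i.isPrime)]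
    rintro ⟨p, hp, hle⟩
    have h1 : p ∈ PrimeSpectrum.zeroLocus (s : Set A) := hle
    rw [← hs] at h1
    exact h1 (hFU (hF.mem_toFinset.1 hp))
  obtain ⟨a, has, ha⟩ := Set.not_subset.1 key
  refine ⟨a, fun p hp => ?_, fun p hp => ?_⟩
  · simp only [Set.mem_iUnion, not_exists] at ha
    exact ha p (hF.mem_toFinset.2 hp)
  · by_contra h
    have : p ∈ PrimeSpectrum.zeroLocus (s : Set A) := by rw [← hs]; exact h
    exact hp (this has)

end Groth.Agent.S16030
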